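import Mathlib
import Groth.Prelude.Def_W4bk4git07Quot
import Groth.Agent.Lib.Seat51GITBC
import Groth.Agent.Lib.Helper11HomSm

/-!
# Closed orbits and quotients by a subgroup (seat 51)

`H` acts on `X`, a subgroup `N → H` has a geometric quotient `π : X → Y`, a group `Q` acts on `Y` and `π` is
equivariant along a surjective `q : H → Q`.  Then the `Q`-orbits of geometric points of `Y` are closed iff the
`H`-orbits of geometric points of `X` are closed.
-/

set_option autoImplicit false
universe u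

namespace Groth.Agent.Lib.Seat51.ClosedOrbitQuot

open CategoryTheory MonoidalCategory CartesianMonoidalCategory MonObj AlgebraicGeometry Topology
open TopologicalSpace Limits
open Groth.Agent.Lib.Seat51.GITBC Groth.Agent.Lib.Seat51.GITSep Groth.Agent.Lib.Seat51.GITQuot

/-- `i ▷ T` is a base change of `i` -/
lemma isPullback_whiskerRight' {C : Type*} [Category C] [CartesianMonoidalCategory C] (T : C)
    {X Y : C} (i : X ⟶ Y) : IsPullback (fst X T) (i ▷ T) i (fst Y T) := by
  have w : fst X T ≫ i = (i ▷ T) ≫ fst Y T := (whiskerRight_fst _ _).symm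
  refine IsPullback.of_isLimit (c := PullbackCone.mk _ _ w) ?_
  refine PullbackCone.IsLimit.mk w (fun s => lift s.fst (s.snd ≫ snd Y T)) ?_ ?_ ?_
  · intro s
    simp
  · intro s
    apply CartesianMonoidalCategory.hom_ext
    · simp [s.condition]
    · simp
  · intro s m hm1 hm2
    apply CartesianMonoidalCategory.hom_ext
    · rw [lift_fst, ← hm1]
    · rw [lift_snd, ← hm2]
      simp

variable {S : Scheme.{u}} {H N Q X Y : Over S} [GrpObj H] [GrpObj N] [GrpObj Q]

section

variable (i : N ⟶ H) (q : H ⟶ Q)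
  (a : AlgGrp.Action H X) (aN : AlgGrp.Action N X) (haN : aN.act = (i ▷ X) ≫ a.act)
  (π : X ⟶ Y) (hπ : GIT.IsGeomQuot aN π)
  (aQ : AlgGrp.Action Q Y) (hequiv : (q ⊗ₘ π) ≫ aQ.act = a.act ≫ π)

include hequiv in
/-- the orbit maps are compatible with `π` -/
lemma psi_comp (T : Over S) (f : T ⟶ X) :
    GIT.psi a f ≫ (π ▷ T) = (q ▷ T) ≫ GIT.psi aQ (f ≫ π) := by
  apply CartesianMonoidalCategory.hom_ext
  · rw [Category.assoc, whiskerRight_fst, ← Category.assoc, psi_fst, Category.assoc, ← hequiv,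
      Category.assoc, psi_fst, ← Category.assoc, ← Category.assoc]
    congr 1
    apply CartesianMonoidalCategory.hom_ext <;> simp
  · rw [Category.assoc, whiskerRight_snd, psi_snd, Category.assoc, psi_snd, whiskerRight_snd]

end

section Sat

variable (i : N ⟶ H) (a : AlgGrp.Action H X) (aN : AlgGrp.Action N X)
  (haN : aN.act = (i ▷ X) ≫ a.act) (π : X ⟶ Y) (hπ : GIT.IsGeomQuot aN π)

/-- `(n, h, t) ↦ (i(n) h, t)` -/
noncomputable def mulT (T : Over S) : N ⊗ (H ⊗ T) ⟶ H ⊗ T :=
  (α_ N H T).inv ≫ ((i ▷ H) ≫ μ[H]) ▷ T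

/-- the induced action of `N` on `X ⊗ T` -/
noncomputable def actT (T : Over S) : AlgGrp.Action N (X ⊗ T) :=
  bcAct aN hπ.inv (isPullback_whiskerRight' T π)

lemma actT_fst (T : Over S) : (actT aN π hπ T).act ≫ fst X T = (N ◁ fst X T) ≫ aN.act :=
  bcAct_equivariant aN hπ.inv (isPullback_whiskerRight' T π)

lemma actT_inv (T : Over S) : GIT.IsInvariant (actT aN π hπ T) (π ▷ T) :=
  bcAct_invariant aN hπ.inv (isPullback_whiskerRight' T π)

lemma actT_snd (T : Over S) :
    (actT aN π hπ T).act ≫ snd X T = snd N (X ⊗ T) ≫ snd X T := by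
  have h := actT_inv aN π hπ T
  unfold GIT.IsInvariant at h
  have h2 := congrArg (· ≫ snd Y T) h
  simp only [Category.assoc, whiskerRight_snd] at h2
  exact h2

include haN in
lemma whisker_psi_actT (T : Over S) (f : T ⟶ X) :
    (N ◁ GIT.psi a f) ≫ (actT aN π hπ T).act = mulT i T ≫ GIT.psi a f := by
  apply CartesianMonoidalCategory.hom_ext
  · have hP : (N ◁ (H ◁ f)) ≫ (i ▷ (H ⊗ X)) =
        (α_ N H T).inv ≫ ((N ⊗ H) ◁ f) ≫ ((i ▷ H) ▷ X) ≫ (α_ H H X).hom := by
      apply CartesianMonoidalCategory.hom_ext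
      · simp
      · apply CartesianMonoidalCategory.hom_ext
        · simp
        · simp
    have hL : ((N ◁ GIT.psi a f) ≫ (actT aN π hπ T).act) ≫ fst X T =
        ((N ◁ (H ◁ f)) ≫ (i ▷ (H ⊗ X))) ≫ (H ◁ a.act) ≫ a.act := by
      rw [Category.assoc, actT_fst, ← Category.assoc, ← MonoidalCategory.whiskerLeft_comp, psi_fst,
        haN, MonoidalCategory.whiskerLeft_comp, Category.assoc, Category.assoc,
        ← Category.assoc (N ◁ a.act), whisker_exchange, Category.assoc]
    have hR : (mulT i T ≫ GIT.psi a f) ≫ fst X T =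
        ((α_ N H T).inv ≫ ((N ⊗ H) ◁ f) ≫ ((i ▷ H) ▷ X) ≫ (α_ H H X).hom) ≫
          (H ◁ a.act) ≫ a.act := by
      rw [Category.assoc, psi_fst, mulT, Category.assoc, ← Category.assoc (_ ▷ T),
        ← whisker_exchange, Category.assoc, MonoidalCategory.comp_whiskerRight, Category.assoc,
        a.mul_act]
      simp only [Category.assoc]
    rw [hL, hR, hP]
  · rw [Category.assoc, actT_snd, ← Category.assoc, whiskerLeft_snd, Category.assoc, psi_snd,
      Category.assoc, psi_snd, mulT]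
    simp

include haN hπ in
/-- orbits are saturated for `π` -/
lemma mem_range_of_eq (T : Over S) (f : T ⟶ X) (z z' : (X ⊗ T).left)
    (hzz' : (π ▷ T).left.base z = (π ▷ T).left.base z')
    (hz' : z' ∈ Set.range (GIT.psi a f).left.base) :
    z ∈ Set.range (GIT.psi a f).left.base := by
  obtain ⟨w', rfl⟩ := hz'
  have horb' := orbit_surjective_bc aN π hπ.inv (fst X T) (π ▷ T) (fst Y T)
    (isPullback_whiskerRight' T π) (actT aN π hπ T) (actT_fst aN π hπ T) (actT_inv aN π hπ T)
    hπ.orbit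
  obtain ⟨p, hp1, hp2⟩ := Scheme.Pullback.exists_preimage_pullback (f := (π ▷ T).left)
    (g := (π ▷ T).left) z ((GIT.psi a f).left.base w') hzz'
  obtain ⟨u, hu⟩ := horb' p
  have e1 : GIT.PsiY (actT aN π hπ T) (π ▷ T) (actT_inv aN π hπ T) ≫ pullback.fst _ _ =
      (actT aN π hπ T).act.left := pullback.lift_fst _ _ _
  have e2 : GIT.PsiY (actT aN π hπ T) (π ▷ T) (actT_inv aN π hπ T) ≫ pullback.snd _ _ =
      (snd N (X ⊗ T)).left := pullback.lift_snd _ _ _
  have hu1 : (actT aN π hπ T).act.left.base u = z := by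
    rw [← hp1, ← hu, ← Scheme.Hom.comp_apply, e1]
  have hu2 : (snd N (X ⊗ T)).left.base u = (GIT.psi a f).left.base w' := by
    rw [← hp2, ← hu, ← Scheme.Hom.comp_apply, e2]
  have hpbN : IsPullback (N ◁ GIT.psi a f).left (snd N (H ⊗ T)).left (snd N (X ⊗ T)).left
      (GIT.psi a f).left := (isPullback_whiskerLeft' N (GIT.psi a f)).map (Over.forget S)
  obtain ⟨v, hv1, hv2⟩ := Scheme.exists_preimage_of_isPullback hpbN u w' hu2
  refine ⟨(mulT i T).left.base v, ?_⟩
  rw [← hu1, ← hv1, ← Scheme.Hom.comp_apply, ← Scheme.Hom.comp_apply, ← Over.comp_left,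
    ← Over.comp_left, whisker_psi_actT i a aN haN π hπ T f]

end Sat

section Main

variable (i : N ⟶ H) (q : H ⟶ Q)
  (a : AlgGrp.Action H X) (aN : AlgGrp.Action N X) (haN : aN.act = (i ▷ X) ≫ a.act)
  (π : X ⟶ Y) (hπ : GIT.IsGeomQuot aN π)
  (aQ : AlgGrp.Action Q Y) (hequiv : (q ⊗ₘ π) ≫ aQ.act = a.act ≫ π)

include haN hπ hequiv in
/-- the `H`-orbit of `f` is the preimage of the `Q`-orbit of `π ∘ f` -/
lemma range_psi_eq_preimage [Surjective q.left] (T : Over S) (f : T ⟶ X) :
    Set.range (GIT.psi a f).left.base =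
      (π ▷ T).left.base ⁻¹' Set.range (GIT.psi aQ (f ≫ π)).left.base := by
  have hcomp := psi_comp q a π aQ hequiv T f
  have hsq : IsPullback (fst H T).left (q ▷ T).left q.left (fst Q T).left :=
    (isPullback_whiskerRight' T q).map (Over.forget S)
  have hqT : Surjective (q ▷ T).left := MorphismProperty.of_isPullback hsq inferInstance
  apply Set.Subset.antisymm
  · rintro _ ⟨w, rfl⟩
    refine ⟨(q ▷ T).left.base w, ?_⟩
    rw [← Scheme.Hom.comp_apply, ← Scheme.Hom.comp_apply, ← Over.comp_left, ← Over.comp_left, hcomp]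
  · rintro z ⟨w₀, hw₀⟩
    obtain ⟨w, rfl⟩ := (q ▷ T).left.surjective w₀
    refine mem_range_of_eq i a aN haN π hπ T f z ((GIT.psi a f).left.base w) ?_ ⟨w, rfl⟩
    rw [← hw₀, ← Scheme.Hom.comp_apply, ← Scheme.Hom.comp_apply, ← Over.comp_left, ← Over.comp_left,
      hcomp]

include haN hπ hequiv in
theorem isClosedAction_iff [Surjective q.left] [LocallyOfFiniteType π.left] :
    GIT.IsClosedAction aQ ↔ GIT.IsClosedAction a := by
  constructor
  · intro hQ Ω _ _ T e f
    rw [range_psi_eq_preimage i q a aN haN π hπ aQ hequiv T f]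
    exact (hQ Ω T e (f ≫ π)).preimage (π ▷ T).left.continuous
  · intro hH Ω _ _ T e y
    haveI : Surjective π.left := ⟨hπ.surj⟩
    obtain ⟨g, hg⟩ := Groth.Agent.Lib.Helper11HomSm.exists_lift_point (K := Ω) π.left
      (e.inv ≫ y.left)
    have hw : (e.hom ≫ g) ≫ X.hom = T.hom := by
      rw [← Over.w π, Category.assoc, reassoc_of% hg, Iso.hom_inv_id_assoc, Over.w y]
    let f : T ⟶ X := Over.homMk (e.hom ≫ g) hw
    have hf : f ≫ π = y := by
      ext1
      show (e.hom ≫ g) ≫ π.left = y.left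
      rw [Category.assoc, hg, Iso.hom_inv_id_assoc]
    have h1 := hH Ω T e f
    rw [range_psi_eq_preimage i q a aN haN π hπ aQ hequiv T f, hf] at h1
    have hsq : IsPullback (π ▷ T).left (fst X T).left (fst Y T).left π.left :=
      ((isPullback_whiskerRight' T π).map (Over.forget S)).flip
    have hquot : IsQuotientMap (π ▷ T).left.base := hπ.subm _ _ _ hsq
    exact hquot.isClosed_preimage.mp h1

end Main

end Groth.Agent.Lib.Seat51.ClosedOrbitQuot
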