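import Mathlib
import Groth.Prelude.Def_AlgGrp
import Groth.Agent.Lib.Helper11RigidAntiF

/-!
# Actions on a product of complete varieties (seat 51)

Abstract part: if an action of `G` on `X ⊗ Y` has first component independent of `Y` and second
component independent of `X`, it is a product action.  Geometric part: the independence follows
from rigidity when `X`, `Y` are anti-affine.
-/

set_option autoImplicit false
universe u

namespace Groth.Agent.Lib.Seat51.ProdAct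

open CategoryTheory MonoidalCategory CartesianMonoidalCategory MonObj AlgebraicGeometry Limits

variable {S : Scheme.{u}} {G X Y : Over S} [GrpObj G]

/-- `x ↦ (x, y₀)` -/
noncomputable abbrev sl (X : Over S) {Y : Over S} (y₀ : 𝟙_ (Over S) ⟶ Y) : X ⟶ X ⊗ Y :=
  lift (𝟙 X) (toUnit X ≫ y₀)

/-- `y ↦ (x₀, y)` -/
noncomputable abbrev sr {X : Over S} (x₀ : 𝟙_ (Over S) ⟶ X) (Y : Over S) : Y ⟶ X ⊗ Y :=
  lift (toUnit Y ≫ x₀) (𝟙 Y)

/-- the first factor action -/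
noncomputable def actL (a : AlgGrp.Action G (X ⊗ Y)) (y₀ : 𝟙_ (Over S) ⟶ Y) : G ⊗ X ⟶ X :=
  (G ◁ sl X y₀) ≫ a.act ≫ fst X Y

/-- the second factor action -/
noncomputable def actR (a : AlgGrp.Action G (X ⊗ Y)) (x₀ : 𝟙_ (Over S) ⟶ X) : G ⊗ Y ⟶ Y :=
  (G ◁ sr x₀ Y) ≫ a.act ≫ snd X Y

lemma actL_one (a : AlgGrp.Action G (X ⊗ Y)) (y₀ : 𝟙_ (Over S) ⟶ Y) :
    (η[G] ▷ X) ≫ actL a y₀ = (λ_ X).hom := by
  unfold actL
  rw [← Category.assoc, ← whisker_exchange, Category.assoc, ← Category.assoc (η[G] ▷ (X ⊗ Y)),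
    a.one_act, leftUnitor_hom, leftUnitor_hom, ← Category.assoc, whiskerLeft_snd, Category.assoc,
    lift_fst, Category.comp_id]

lemma actR_one (a : AlgGrp.Action G (X ⊗ Y)) (x₀ : 𝟙_ (Over S) ⟶ X) :
    (η[G] ▷ Y) ≫ actR a x₀ = (λ_ Y).hom := by
  unfold actR
  rw [← Category.assoc, ← whisker_exchange, Category.assoc, ← Category.assoc (η[G] ▷ (X ⊗ Y)),
    a.one_act, leftUnitor_hom, leftUnitor_hom, ← Category.assoc, whiskerLeft_snd, Category.assoc,
    lift_snd, Category.comp_id]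

lemma actL_mul (a : AlgGrp.Action G (X ⊗ Y)) (y₀ : 𝟙_ (Over S) ⟶ Y)
    (h1 : a.act ≫ fst X Y = (G ◁ fst X Y) ≫ actL a y₀) :
    (μ[G] ▷ X) ≫ actL a y₀ = (α_ G G X).hom ≫ (G ◁ actL a y₀) ≫ actL a y₀ := by
  have e1 : (μ[G] ▷ X) ≫ actL a y₀ =
      ((G ⊗ G) ◁ sl X y₀) ≫ (α_ G G (X ⊗ Y)).hom ≫ (G ◁ a.act) ≫ a.act ≫ fst X Y := by
    unfold actL
    rw [← Category.assoc, ← whisker_exchange, Category.assoc, ← Category.assoc (μ[G] ▷ (X ⊗ Y)),
      a.mul_act]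
    simp only [Category.assoc]
  have e2 : (G ◁ actL a y₀) = (G ◁ (G ◁ sl X y₀)) ≫ (G ◁ (a.act ≫ fst X Y)) := by
    unfold actL
    rw [← MonoidalCategory.whiskerLeft_comp]
  have e3 : G ◁ a.act ≫ G ◁ fst X Y = G ◁ G ◁ fst X Y ≫ G ◁ actL a y₀ := by
    rw [← MonoidalCategory.whiskerLeft_comp, h1, MonoidalCategory.whiskerLeft_comp]
  rw [e1, h1, e2, h1, associator_naturality_right_assoc]
  simp only [Category.assoc, MonoidalCategory.whiskerLeft_comp]
  rw [reassoc_of% e3]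

lemma actR_mul (a : AlgGrp.Action G (X ⊗ Y)) (x₀ : 𝟙_ (Over S) ⟶ X)
    (h2 : a.act ≫ snd X Y = (G ◁ snd X Y) ≫ actR a x₀) :
    (μ[G] ▷ Y) ≫ actR a x₀ = (α_ G G Y).hom ≫ (G ◁ actR a x₀) ≫ actR a x₀ := by
  have e1 : (μ[G] ▷ Y) ≫ actR a x₀ =
      ((G ⊗ G) ◁ sr x₀ Y) ≫ (α_ G G (X ⊗ Y)).hom ≫ (G ◁ a.act) ≫ a.act ≫ snd X Y := by
    unfold actR
    rw [← Category.assoc, ← whisker_exchange, Category.assoc, ← Category.assoc (μ[G] ▷ (X ⊗ Y)),
      a.mul_act]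
    simp only [Category.assoc]
  have e2 : (G ◁ actR a x₀) = (G ◁ (G ◁ sr x₀ Y)) ≫ (G ◁ (a.act ≫ snd X Y)) := by
    unfold actR
    rw [← MonoidalCategory.whiskerLeft_comp]
  have e3 : G ◁ a.act ≫ G ◁ snd X Y = G ◁ G ◁ snd X Y ≫ G ◁ actR a x₀ := by
    rw [← MonoidalCategory.whiskerLeft_comp, h2, MonoidalCategory.whiskerLeft_comp]
  rw [e1, h2, e2, h2, associator_naturality_right_assoc]
  simp only [Category.assoc, MonoidalCategory.whiskerLeft_comp]
  rw [reassoc_of% e3]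

/-- acting by the unit -/
lemma one_act' {Z T : Over S} (a : AlgGrp.Action G Z) (w : T ⟶ Z) :
    lift (toUnit T ≫ η[G]) w ≫ a.act = w := by
  have h : lift (toUnit T ≫ η[G]) w = w ≫ (λ_ Z).inv ≫ (η[G] ▷ Z) := by
    ext1
    · simp
    · simp
  rw [h, Category.assoc, Category.assoc, a.one_act, Iso.inv_hom_id, Category.comp_id]

/-- reordering `Y ⊗ (G ⊗ X) ⟶ G ⊗ (X ⊗ Y)` -/
noncomputable def sigL (G X Y : Over S) : Y ⊗ (G ⊗ X) ⟶ G ⊗ (X ⊗ Y) :=
  lift (snd Y (G ⊗ X) ≫ fst G X) (lift (snd Y (G ⊗ X) ≫ snd G X) (fst Y (G ⊗ X)))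

/-- inverse reordering -/
noncomputable def sigL' (G X Y : Over S) : G ⊗ (X ⊗ Y) ⟶ Y ⊗ (G ⊗ X) :=
  lift (snd G (X ⊗ Y) ≫ snd X Y) (lift (fst G (X ⊗ Y)) (snd G (X ⊗ Y) ≫ fst X Y))

/-- reordering `X ⊗ (G ⊗ Y) ⟶ G ⊗ (X ⊗ Y)` -/
noncomputable def sigR (G X Y : Over S) : X ⊗ (G ⊗ Y) ⟶ G ⊗ (X ⊗ Y) :=
  lift (snd X (G ⊗ Y) ≫ fst G Y) (lift (fst X (G ⊗ Y)) (snd X (G ⊗ Y) ≫ snd G Y))

/-- inverse reordering -/
noncomputable def sigR' (G X Y : Over S) : G ⊗ (X ⊗ Y) ⟶ X ⊗ (G ⊗ Y) :=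
  lift (snd G (X ⊗ Y) ≫ fst X Y) (lift (fst G (X ⊗ Y)) (snd G (X ⊗ Y) ≫ snd X Y))

lemma sigL'_sigL (G X Y : Over S) : sigL' G X Y ≫ sigL G X Y = 𝟙 _ := by
  unfold sigL sigL'
  ext1
  · simp
  · ext1
    · simp
    · simp

lemma sigR'_sigR (G X Y : Over S) : sigR' G X Y ≫ sigR G X Y = 𝟙 _ := by
  unfold sigR sigR'
  ext1
  · simp
  · ext1
    · simp
    · simp

lemma sigL'_snd (G X Y : Over S) : sigL' G X Y ≫ snd Y (G ⊗ X) = G ◁ fst X Y := by
  unfold sigL'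
  ext1
  · simp
  · simp

lemma sigR'_snd (G X Y : Over S) : sigR' G X Y ≫ snd X (G ⊗ Y) = G ◁ snd X Y := by
  unfold sigR'
  ext1
  · simp
  · simp

lemma sr_sigL (G X : Over S) {Y : Over S} (y₀ : 𝟙_ (Over S) ⟶ Y) :
    lift (toUnit (G ⊗ X) ≫ y₀) (𝟙 (G ⊗ X)) ≫ sigL G X Y = G ◁ sl X y₀ := by
  unfold sigL
  ext1
  · simp
  · ext1
    · simp
    · simp

lemma sr_sigR (G : Over S) {X : Over S} (x₀ : 𝟙_ (Over S) ⟶ X) (Y : Over S) :
    lift (toUnit (G ⊗ Y) ≫ x₀) (𝟙 (G ⊗ Y)) ≫ sigR G X Y = G ◁ sr x₀ Y := by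
  unfold sigR
  ext1
  · simp
  · ext1
    · simp
    · simp

/-- first component independent of `Y` from the rigidity conclusion -/
lemma indepL (a : AlgGrp.Action G (X ⊗ Y)) (y₀ : 𝟙_ (Over S) ⟶ Y)
    (hR : sigL G X Y ≫ a.act ≫ fst X Y =
      snd Y (G ⊗ X) ≫ lift (toUnit (G ⊗ X) ≫ y₀) (𝟙 (G ⊗ X)) ≫ sigL G X Y ≫ a.act ≫ fst X Y) :
    a.act ≫ fst X Y = (G ◁ fst X Y) ≫ actL a y₀ := by
  have h1 : a.act ≫ fst X Y = sigL' G X Y ≫ sigL G X Y ≫ a.act ≫ fst X Y := by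
    rw [← Category.assoc, sigL'_sigL, Category.id_comp]
  rw [h1, hR, ← Category.assoc, sigL'_snd, ← Category.assoc (lift _ _), sr_sigL]
  rfl

/-- second component independent of `X` from the rigidity conclusion -/
lemma indepR (a : AlgGrp.Action G (X ⊗ Y)) (x₀ : 𝟙_ (Over S) ⟶ X)
    (hR : sigR G X Y ≫ a.act ≫ snd X Y =
      snd X (G ⊗ Y) ≫ lift (toUnit (G ⊗ Y) ≫ x₀) (𝟙 (G ⊗ Y)) ≫ sigR G X Y ≫ a.act ≫ snd X Y) :
    a.act ≫ snd X Y = (G ◁ snd X Y) ≫ actR a x₀ := by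
  have h1 : a.act ≫ snd X Y = sigR' G X Y ≫ sigR G X Y ≫ a.act ≫ snd X Y := by
    rw [← Category.assoc, sigR'_sigR, Category.id_comp]
  rw [h1, hR, ← Category.assoc, sigR'_snd, ← Category.assoc (lift _ _), sr_sigR]
  rfl

/-- hypothesis of rigidity, first component -/
lemma constL (a : AlgGrp.Action G (X ⊗ Y)) (x₀ : 𝟙_ (Over S) ⟶ X) (y₀ : 𝟙_ (Over S) ⟶ Y) :
    (Y ◁ lift η[G] x₀) ≫ sigL G X Y ≫ a.act ≫ fst X Y =
      toUnit _ ≫ lift y₀ (lift η[G] x₀) ≫ sigL G X Y ≫ a.act ≫ fst X Y := by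
  have e1 : (Y ◁ lift η[G] x₀) ≫ sigL G X Y =
      lift (toUnit _ ≫ η[G]) (lift (toUnit _ ≫ x₀) (fst Y (𝟙_ (Over S)))) := by
    unfold sigL
    ext1
    · simp
      congr 1; exact toUnit_unique _ _
    · ext1
      · simp
        congr 1; exact toUnit_unique _ _
      · simp
  have e2 : lift y₀ (lift η[G] x₀) ≫ sigL G X Y =
      lift (toUnit _ ≫ η[G]) (lift x₀ y₀) := by
    unfold sigL
    ext1
    · simp
    · ext1
      · simp
      · simp
  rw [← Category.assoc, e1, ← Category.assoc, one_act', lift_fst, ← Category.assoc (lift y₀ _), e2,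
    ← Category.assoc (lift _ _), one_act', lift_fst]

/-- hypothesis of rigidity, second component -/
lemma constR (a : AlgGrp.Action G (X ⊗ Y)) (x₀ : 𝟙_ (Over S) ⟶ X) (y₀ : 𝟙_ (Over S) ⟶ Y) :
    (X ◁ lift η[G] y₀) ≫ sigR G X Y ≫ a.act ≫ snd X Y =
      toUnit _ ≫ lift x₀ (lift η[G] y₀) ≫ sigR G X Y ≫ a.act ≫ snd X Y := by
  have e1 : (X ◁ lift η[G] y₀) ≫ sigR G X Y =
      lift (toUnit _ ≫ η[G]) (lift (fst X (𝟙_ (Over S))) (toUnit _ ≫ y₀)) := by
    unfold sigR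
    ext1
    · simp
      congr 1; exact toUnit_unique _ _
    · ext1
      · simp
      · simp
        congr 1; exact toUnit_unique _ _
  have e2 : lift x₀ (lift η[G] y₀) ≫ sigR G X Y =
      lift (toUnit _ ≫ η[G]) (lift x₀ y₀) := by
    unfold sigR
    ext1
    · simp
    · ext1
      · simp
      · simp
  rw [← Category.assoc, e1, ← Category.assoc, one_act', lift_snd, ← Category.assoc (lift x₀ _), e2,
    ← Category.assoc (lift _ _), one_act', lift_snd]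

section Geom

variable {k : Type u} [Field k]

/-- anti-affine from bijectivity of `appTop` -/
lemma antiAffine_of_appTop_bijective (X : Over (Spec (CommRingCat.of k)))
    (h : Function.Bijective X.hom.appTop) :
    Function.Bijective ((Scheme.ΓSpecIso (CommRingCat.of k)).inv ≫ X.hom.appTop).hom := by
  have h2 : Function.Bijective (Scheme.ΓSpecIso (CommRingCat.of k)).inv :=
    (ConcreteCategory.isIso_iff_bijective _).mp inferInstance
  have h3 : ⇑((Scheme.ΓSpecIso (CommRingCat.of k)).inv ≫ X.hom.appTop).hom =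
      ⇑X.hom.appTop ∘ ⇑(Scheme.ΓSpecIso (CommRingCat.of k)).inv := by
    funext a
    rfl
  rw [h3]
  exact h.comp h2

/-- an anti-affine quasi-compact quasi-separated scheme over a field is geometrically
connected -/
lemma geometricallyConnected_of_antiAffine (X : Over (Spec (CommRingCat.of k)))
    [QuasiCompact X.hom] [QuasiSeparated X.hom]
    (hX : Function.Bijective ((Scheme.ΓSpecIso (CommRingCat.of k)).inv ≫ X.hom.appTop).hom) :
    GeometricallyConnected X.hom := by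
  refine ⟨(geometrically_iff_of_isClosedUnderIsomorphisms).mpr fun K _ y => ?_⟩
  let T : Over (Spec (CommRingCat.of k)) := Over.mk y
  have hT : IsAffine T.left := by
    change IsAffine (Spec (CommRingCat.of K)); infer_instance
  have hb := Groth.Agent.Lib.Helper11RigidAnti.appTop_snd_bijective X T hX
  let Z' : Over (Spec (CommRingCat.of K)) := Over.mk (snd X T).left
  have hZ : Function.Bijective ((Scheme.ΓSpecIso (CommRingCat.of K)).inv ≫ Z'.hom.appTop).hom :=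
    antiAffine_of_appTop_bijective Z' hb
  exact Groth.Agent.Lib.Helper11RigidAntiF.connectedSpace_of_bijective Z' hZ

/-- product of a connected scheme with an anti-affine scheme of finite type is connected -/
lemma connectedSpace_tensor (G X : Over (Spec (CommRingCat.of k))) [ConnectedSpace G.left]
    [QuasiCompact X.hom] [QuasiSeparated X.hom] [LocallyOfFiniteType X.hom]
    (hX : Function.Bijective ((Scheme.ΓSpecIso (CommRingCat.of k)).inv ≫ X.hom.appTop).hom) :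
    ConnectedSpace (G ⊗ X).left := by
  have hgc : GeometricallyConnected X.hom := geometricallyConnected_of_antiAffine X hX
  have hfl : Flat X.hom := inferInstance
  have hfp : LocallyOfFinitePresentation X.hom := inferInstance
  have huo : UniversallyOpen X.hom := inferInstance
  change ConnectedSpace ↥(pullback G.hom X.hom)
  infer_instance

end Geom

end Groth.Agent.Lib.Seat51.ProdAct
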