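import Mathlib
import Groth.Prelude.Def_GLinSh
import Groth.Agent.Lib.Helper11KPts
import Groth.Agent.Lib.Seat51ClosedOrbitQuot
import Groth.Agent.Lib.Seat51ProdAct

/-!
# Finite stabilisers and quotients by a normal subgroup (seat 51)

* `finite_sec_of_isFinite`, `isFinite_of_finite_sec`: a quasi-compact morphism locally of finite type to the
  spectrum of an algebraically closed field is finite iff it has finitely many sections.
* `isFinite_stabTo_iff`: the stabiliser of a geometric point is finite iff the group of its points is finite.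
* `isFinite_stab_iff`: `H` acts on `X`, a subgroup `N → H` with finite stabilisers has a geometric quotient
  `π : X → Y`, `Q = H / N` acts on `Y` compatibly.  Then the stabiliser of `π(x)` in `Q` is finite iff the
  stabiliser of `x` in `H` is.
-/

set_option autoImplicit false
universe u
open CategoryTheory MonoidalCategory CartesianMonoidalCategory MonObj AlgebraicGeometry Topology Limits
open Groth.Agent.Lib.Seat51.GITSep

namespace Groth.Agent.Lib.Seat51.StabFinite

section PartA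

variable {Ω : Type u} [Field Ω] {Z T₀ : Scheme.{u}}

/-- a finite morphism to the spectrum of a field has finitely many sections -/
theorem finite_sec_of_isFinite (p : Z ⟶ T₀)
    (e : T₀ ≅ Spec (CommRingCat.of Ω)) [IsFinite p] : Finite {s : T₀ ⟶ Z // s ≫ p = 𝟙 T₀} := by
  have : IsAffine T₀ := IsAffine.of_isIso e.hom
  have : IsAffine Z := isAffine_of_isAffineHom p
  obtain ⟨φ, hφ⟩ := Spec.map_surjective (Z.isoSpec.inv ≫ p ≫ e.hom)
  have hfin : IsFinite (Spec.map φ) := by rw [hφ]; infer_instance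
  rw [IsFinite.SpecMap_iff] at hfin
  let _ : Algebra Ω Γ(Z, ⊤) := φ.hom.toAlgebra
  have : Module.Finite Ω Γ(Z, ⊤) := hfin
  have key : ∀ s : {s : T₀ ⟶ Z // s ≫ p = 𝟙 T₀},
      φ ≫ Spec.preimage (e.inv ≫ s.1 ≫ Z.isoSpec.hom) = 𝟙 _ := by
    intro s
    apply Spec.map_injective
    rw [Spec.map_comp, Spec.map_preimage, hφ, Spec.map_id]
    simp only [Category.assoc, Iso.hom_inv_id_assoc]
    rw [reassoc_of% s.2, Iso.inv_hom_id]
  let F : {s : T₀ ⟶ Z // s ≫ p = 𝟙 T₀} → (Γ(Z, ⊤) →ₐ[Ω] Ω) := fun s =>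
    { (Spec.preimage (e.inv ≫ s.1 ≫ Z.isoSpec.hom)).hom with
      commutes' := fun r => by
        have h := congrArg (fun ψ => ψ.hom r) (key s)
        exact h }
  refine Finite.of_injective F (fun s t hst => ?_)
  have h1 : (Spec.preimage (e.inv ≫ s.1 ≫ Z.isoSpec.hom)).hom =
      (Spec.preimage (e.inv ≫ t.1 ≫ Z.isoSpec.hom)).hom := by
    have := congrArg (fun ψ : Γ(Z, ⊤) →ₐ[Ω] Ω => (ψ : Γ(Z, ⊤) →+* Ω)) hst
    exact this
  have h2 : e.inv ≫ s.1 ≫ Z.isoSpec.hom = e.inv ≫ t.1 ≫ Z.isoSpec.hom := by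
    rw [← Spec.map_preimage (e.inv ≫ s.1 ≫ Z.isoSpec.hom),
      ← Spec.map_preimage (e.inv ≫ t.1 ≫ Z.isoSpec.hom)]
    congr 1
    exact CommRingCat.hom_ext h1
  apply Subtype.ext
  rwa [cancel_epi, cancel_mono] at h2

/-- over an algebraically closed field, a quasi-compact morphism locally of finite type with
finitely many sections is finite -/
theorem isFinite_of_finite_sec [IsAlgClosed Ω] (p : Z ⟶ T₀)
    (e : T₀ ≅ Spec (CommRingCat.of Ω)) [LocallyOfFiniteType p] [QuasiCompact p]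
    (h : Finite {s : T₀ ⟶ Z // s ≫ p = 𝟙 T₀}) : IsFinite p := by
  have hJ : JacobsonSpace Z := LocallyOfFiniteType.jacobsonSpace (p ≫ e.hom)
  have hsec : ∀ z : Z, IsClosed ({z} : Set Z) →
      ∃ s : {s : T₀ ⟶ Z // s ≫ p = 𝟙 T₀}, ∀ t, s.1 t = z := by
    intro z hz
    obtain ⟨σ, hσ1, hσ2⟩ := Groth.Agent.Lib.Helper11KPts.exists_point_of_closedPoint
      (k := Ω) (K := Ω) (p ≫ e.hom) z hz
    have h1 : Spec.map (CommRingCat.ofHom (algebraMap Ω Ω)) = 𝟙 _ := by
      rw [Algebra.algebraMap_self]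
      exact Spec.map_id _
    refine ⟨⟨e.hom ≫ σ, ?_⟩, fun t => hσ2 _⟩
    rw [h1] at hσ1
    rw [← cancel_mono e.hom]
    simp only [Category.assoc]
    rw [hσ1]
    simp
  choose f hf using hsec
  have t₀ : T₀ := e.inv (IsLocalRing.closedPoint Ω)
  have hcp : (closedPoints Z).Finite := by
    refine Set.finite_coe_iff.mp (Finite.of_injective
      (fun z : closedPoints Z => f z.1 z.2) fun z z' hzz' => ?_)
    apply Subtype.ext
    rw [← hf z.1 z.2 t₀, ← hf z'.1 z'.2 t₀]
    exact congrArg (fun s => s.1 t₀) hzz'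
  have hcl : IsClosed (closedPoints Z) := by
    rw [← Set.biUnion_of_singleton (closedPoints Z)]
    exact hcp.isClosed_biUnion fun z hz => hz
  have huniv : closedPoints Z = Set.univ := by
    rw [← closure_closedPoints (X := Z), hcl.closure_eq]
  have hZ : Finite Z := by
    rw [← Set.finite_univ_iff, ← huniv]
    exact hcp
  have hqf : LocallyQuasiFinite p :=
    LocallyQuasiFinite.of_finite_preimage_singleton p fun x => Set.toFinite _
  have hA : IsLocallyArtinian (Spec (CommRingCat.of Ω)) :=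
    Scheme.isLocallyArtinianScheme_Spec.mpr inferInstance
  have hA' : IsLocallyArtinian T₀ := IsLocallyArtinian.of_isImmersion e.hom
  exact IsFinite.of_locallyQuasiFinite p


end PartA

section PartB

/-- sections of a base change are lifts -/
noncomputable def secPullbackEquiv {W V T₀ : Scheme.{u}} (g : W ⟶ V) (c : T₀ ⟶ V) :
    {s : T₀ ⟶ pullback g c // s ≫ pullback.snd g c = 𝟙 T₀} ≃ {t : T₀ ⟶ W // t ≫ g = c} where
  toFun s := ⟨s.1 ≫ pullback.fst g c, by
    rw [Category.assoc, pullback.condition, reassoc_of% s.2]⟩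
  invFun t := ⟨pullback.lift t.1 (𝟙 _) (by rw [t.2, Category.id_comp]), pullback.lift_snd _ _ _⟩
  left_inv s := by
    apply Subtype.ext
    apply pullback.hom_ext
    · rw [pullback.lift_fst]
    · rw [pullback.lift_snd, s.2]
  right_inv t := by
    apply Subtype.ext
    exact pullback.lift_fst _ _ _

variable {S : Scheme.{u}} {G X T : Over S} [GrpObj G]

/-- `T`-points of `G` fixing the `T`-point `f` -/
def StabPts (a : AlgGrp.Action G X) (f : T ⟶ X) : Set (T ⟶ G) := {h | lift h f ≫ a.act = f}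

lemma lift_psi (a : AlgGrp.Action G X) (f : T ⟶ X) (h : T ⟶ G) :
    lift h (𝟙 T) ≫ GIT.psi a f = lift (lift h f ≫ a.act) (𝟙 T) := by
  apply CartesianMonoidalCategory.hom_ext
  · rw [Category.assoc, psi_fst, lift_fst, ← Category.assoc]
    congr 1
    apply CartesianMonoidalCategory.hom_ext <;> simp
  · rw [Category.assoc, psi_snd, lift_snd, lift_snd]

/-- lifts of `(f, 1)` along the orbit map are the points of the stabiliser -/
noncomputable def liftEquivStabPts (a : AlgGrp.Action G X) (f : T ⟶ X) :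
    {t : T ⟶ G ⊗ T // t ≫ GIT.psi a f = lift f (𝟙 T)} ≃ StabPts a f where
  toFun t := ⟨t.1 ≫ fst G T, by
    have h1 : t.1 ≫ snd G T = 𝟙 T := by
      rw [← psi_snd a f, ← Category.assoc, t.2, lift_snd]
    have h2 : t.1 = lift (t.1 ≫ fst G T) (𝟙 T) := by
      apply CartesianMonoidalCategory.hom_ext
      · rw [lift_fst]
      · rw [lift_snd, h1]
    have h3 := t.2
    rw [h2, lift_psi] at h3
    have h4 := congrArg (· ≫ fst X T) h3
    simp only [lift_fst] at h4
    exact h4⟩
  invFun h := ⟨lift h.1 (𝟙 T), by rw [lift_psi, h.2]⟩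
  left_inv t := by
    apply Subtype.ext
    have h1 : t.1 ≫ snd G T = 𝟙 T := by
      rw [← psi_snd a f, ← Category.assoc, t.2, lift_snd]
    apply CartesianMonoidalCategory.hom_ext
    · simp
    · simp [h1]
  right_inv h := by
    apply Subtype.ext
    simp

/-- morphisms of schemes over `S` versus morphisms in `Over S` -/
noncomputable def overLiftEquiv {A B : Over S} (g : A ⟶ B) (c : T ⟶ B) :
    {t : T.left ⟶ A.left // t ≫ g.left = c.left} ≃ {t : T ⟶ A // t ≫ g = c} where
  toFun t := ⟨Over.homMk t.1 (by rw [← Over.w g, reassoc_of% t.2, Over.w c]), by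
    ext1
    exact t.2⟩
  invFun t := ⟨t.1.left, by rw [← Over.comp_left, t.2]⟩
  left_inv t := rfl
  right_inv t := rfl


/-- the stabiliser of a geometric point is finite iff it has finitely many points -/
theorem isFinite_stabTo_iff {Ω : Type u} [Field Ω] [IsAlgClosed Ω] (a : AlgGrp.Action G X)
    [LocallyOfFiniteType G.hom] [QuasiCompact G.hom] [QuasiSeparated X.hom]
    (e : T.left ≅ Spec (CommRingCat.of Ω)) (f : T ⟶ X) :
    IsFinite (GLinSh.stabTo a f) ↔ (StabPts a f).Finite := by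
  have h1 : LocallyOfFiniteType (snd G T).left := by
    show LocallyOfFiniteType (pullback.snd G.hom T.hom)
    infer_instance
  have h2 : QuasiCompact (snd G T).left := by
    show QuasiCompact (pullback.snd G.hom T.hom)
    infer_instance
  have h3 : QuasiSeparated (snd X T).left := by
    show QuasiSeparated (pullback.snd X.hom T.hom)
    infer_instance
  have hw : (GIT.psi a f).left ≫ (snd X T).left = (snd G T).left := by
    rw [← Over.comp_left, psi_snd]
  have h4 : LocallyOfFiniteType (GIT.psi a f).left := by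
    have : LocallyOfFiniteType ((GIT.psi a f).left ≫ (snd X T).left) := by rw [hw]; exact h1
    exact locallyOfFiniteType_of_comp _ (snd X T).left
  have h5 : QuasiCompact (GIT.psi a f).left := by
    have : QuasiCompact ((GIT.psi a f).left ≫ (snd X T).left) := by rw [hw]; exact h2
    exact QuasiCompact.of_comp _ (snd X T).left
  have h6 : LocallyOfFiniteType (GLinSh.stabTo a f) :=
    MorphismProperty.of_isPullback (P := @LocallyOfFiniteType)
      (IsPullback.of_hasPullback (GIT.psi a f).left (lift f (𝟙 T)).left) h4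
  have h7 : QuasiCompact (GLinSh.stabTo a f) :=
    MorphismProperty.of_isPullback (P := @QuasiCompact)
      (IsPullback.of_hasPullback (GIT.psi a f).left (lift f (𝟙 T)).left) h5
  have hE : {s : T.left ⟶ GLinSh.stab a f // s ≫ GLinSh.stabTo a f = 𝟙 T.left} ≃ StabPts a f :=
    (secPullbackEquiv (GIT.psi a f).left (lift f (𝟙 T)).left).trans
      ((overLiftEquiv (GIT.psi a f) (lift f (𝟙 T))).trans (liftEquivStabPts a f))
  constructor
  · intro h
    have := finite_sec_of_isFinite (GLinSh.stabTo a f) e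
    exact Set.finite_coe_iff.mp (Finite.of_equiv _ hE)
  · intro h
    have : Finite (StabPts a f) := Set.finite_coe_iff.mpr h
    exact isFinite_of_finite_sec (GLinSh.stabTo a f) e (Finite.of_equiv _ hE.symm)

end PartB

section PartC

variable {S : Scheme.{u}} {G X T : Over S} [GrpObj G]

/-- action on `T`-points -/
noncomputable def smulPt (a : AlgGrp.Action G X) (h : T ⟶ G) (z : T ⟶ X) : T ⟶ X :=
  lift h z ≫ a.act

lemma mem_stabPts_iff (a : AlgGrp.Action G X) (f : T ⟶ X) (h : T ⟶ G) :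
    h ∈ StabPts a f ↔ smulPt a h f = f := Iff.rfl

lemma one_smulPt (a : AlgGrp.Action G X) (z : T ⟶ X) : smulPt a (1 : T ⟶ G) z = z :=
  Groth.Agent.Lib.Seat51.ProdAct.one_act' a z

lemma mul_smulPt (a : AlgGrp.Action G X) (h₁ h₂ : T ⟶ G) (z : T ⟶ X) :
    smulPt a (h₁ * h₂) z = smulPt a h₁ (smulPt a h₂ z) := by
  unfold smulPt
  rw [Hom.mul_def]
  have e1 : lift (lift h₁ h₂ ≫ μ[G]) z = lift (lift h₁ h₂) z ≫ (μ[G] ▷ X) := by
    apply CartesianMonoidalCategory.hom_ext <;> simp
  have e2 : lift (lift h₁ h₂) z ≫ (α_ G G X).hom ≫ (G ◁ a.act) =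
      lift h₁ (lift h₂ z ≫ a.act) := by
    apply CartesianMonoidalCategory.hom_ext <;> simp
  rw [e1, Category.assoc, a.mul_act, ← e2]
  simp only [Category.assoc]

lemma inv_smulPt (a : AlgGrp.Action G X) (h : T ⟶ G) (z : T ⟶ X) (hz : smulPt a h z = z) :
    smulPt a h⁻¹ z = z := by
  conv_lhs => rw [← hz]
  rw [← mul_smulPt, inv_mul_cancel, one_smulPt]

lemma mul_comp' {M M' : Over S} [MonObj M] [MonObj M'] (f : M ⟶ M') [IsMonHom f] (g₁ g₂ : T ⟶ M) :
    (g₁ * g₂) ≫ f = (g₁ ≫ f) * (g₂ ≫ f) := (IsMonHom.monoidHom f T).map_mul g₁ g₂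

lemma inv_comp' {M M' : Over S} [GrpObj M] [GrpObj M'] (f : M ⟶ M') [IsMonHom f] (g : T ⟶ M) :
    g⁻¹ ≫ f = (g ≫ f)⁻¹ := map_inv (IsMonHom.monoidHom f T) g

end PartC

section PartD

variable {S : Scheme.{u}} {H N Q X Y T : Over S} [GrpObj H] [GrpObj N] [GrpObj Q]

lemma smulPt_restrict (i : N ⟶ H) (a : AlgGrp.Action H X) (aN : AlgGrp.Action N X)
    (haN : aN.act = (i ▷ X) ≫ a.act) (n : T ⟶ N) (z : T ⟶ X) :
    smulPt aN n z = smulPt a (n ≫ i) z := by
  unfold smulPt
  rw [haN, ← Category.assoc]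
  congr 1
  apply CartesianMonoidalCategory.hom_ext <;> simp

lemma smulPt_equivariant (q : H ⟶ Q) (a : AlgGrp.Action H X) (π : X ⟶ Y)
    (aQ : AlgGrp.Action Q Y) (hequiv : (q ⊗ₘ π) ≫ aQ.act = a.act ≫ π) (h : T ⟶ H) (z : T ⟶ X) :
    smulPt aQ (h ≫ q) (z ≫ π) = smulPt a h z ≫ π := by
  unfold smulPt
  rw [Category.assoc, ← hequiv, ← Category.assoc]
  congr 1
  apply CartesianMonoidalCategory.hom_ext <;> simp

/-- geometric points in the same fibre of a geometric quotient are conjugate -/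
lemma exists_smulPt_eq {Ω : Type u} [Field Ω] [IsAlgClosed Ω] [LocallyOfFiniteType N.hom]
    (aN : AlgGrp.Action N X) (π : X ⟶ Y) (hπ : GIT.IsGeomQuot aN π)
    (e : T.left ≅ Spec (CommRingCat.of Ω)) (z₁ z₂ : T ⟶ X) (hz : z₁ ≫ π = z₂ ≫ π) :
    ∃ n : T ⟶ N, smulPt aN n z₂ = z₁ := by
  have hsnd : GIT.PsiY aN π hπ.inv ≫ pullback.snd π.left π.left = (snd N X).left :=
    pullback.lift_snd _ _ _
  have hfst : GIT.PsiY aN π hπ.inv ≫ pullback.fst π.left π.left = aN.act.left :=
    pullback.lift_fst _ _ _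
  have h1 : LocallyOfFiniteType (snd N X).left := by
    show LocallyOfFiniteType (pullback.snd N.hom X.hom)
    infer_instance
  have h2 : LocallyOfFiniteType (GIT.PsiY aN π hπ.inv) := by
    have : LocallyOfFiniteType (GIT.PsiY aN π hπ.inv ≫ pullback.snd π.left π.left) := by
      rw [hsnd]; exact h1
    exact locallyOfFiniteType_of_comp _ (pullback.snd π.left π.left)
  have h3 : Surjective (GIT.PsiY aN π hπ.inv) := ⟨hπ.orbit⟩
  have hz' : z₁.left ≫ π.left = z₂.left ≫ π.left := by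
    rw [← Over.comp_left, ← Over.comp_left, hz]
  obtain ⟨w, hw1⟩ : ∃ w : T.left ⟶ (N ⊗ X).left,
      w ≫ GIT.PsiY aN π hπ.inv = pullback.lift z₁.left z₂.left hz' := by
    obtain ⟨w₀, hw₀⟩ := Groth.Agent.Lib.Helper11HomSm.exists_lift_point (K := Ω)
      (GIT.PsiY aN π hπ.inv) (e.inv ≫ pullback.lift z₁.left z₂.left hz')
    exact ⟨e.hom ≫ w₀, by rw [Category.assoc, hw₀, Iso.hom_inv_id_assoc]⟩
  have hw2 : w ≫ (snd N X).left = z₂.left := by
    rw [← hsnd, reassoc_of% hw1, pullback.lift_snd]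
  have hw3 : w ≫ aN.act.left = z₁.left := by
    rw [← hfst, reassoc_of% hw1, pullback.lift_fst]
  have hwS : w ≫ (N ⊗ X).hom = T.hom := by
    rw [← Over.w (snd N X), reassoc_of% hw2, Over.w z₂]
  have hw2' : Over.homMk w hwS ≫ snd N X = z₂ := by
    ext1; exact hw2
  have hw3' : Over.homMk w hwS ≫ aN.act = z₁ := by
    ext1; exact hw3
  refine ⟨Over.homMk w hwS ≫ fst N X, ?_⟩
  unfold smulPt
  rw [← hw3']
  congr 1
  apply CartesianMonoidalCategory.hom_ext
  · simp
  · simp [hw2']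


section Main

variable {Ω : Type u} [Field Ω] [IsAlgClosed Ω]
  (i : N ⟶ H) (q : H ⟶ Q) [IsMonHom q] (hker : AlgGrp.IsKernel i q)
  (a : AlgGrp.Action H X) (aN : AlgGrp.Action N X) (haN : aN.act = (i ▷ X) ≫ a.act)
  (π : X ⟶ Y) (hπ : GIT.IsGeomQuot aN π)
  (aQ : AlgGrp.Action Q Y) (hequiv : (q ⊗ₘ π) ≫ aQ.act = a.act ≫ π)
  (e : T.left ≅ Spec (CommRingCat.of Ω)) (x : T ⟶ X)

omit [GrpObj H] [GrpObj N] [IsMonHom q] in
include hker in
lemma comp_i_q (n : T ⟶ N) : (n ≫ i) ≫ q = 1 := by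
  rw [Category.assoc, hker.w, Hom.one_def, ← Category.assoc]
  congr 1
  exact toUnit_unique _ _

include hker haN hπ hequiv e in
/-- the stabiliser of `π(x)` is the image of the stabiliser of `x` -/
lemma stabPts_subset_image [LocallyOfFiniteType N.hom] [LocallyOfFiniteType q.left]
    [Surjective q.left] :
    StabPts aQ (x ≫ π) ⊆ (fun h : T ⟶ H => h ≫ q) '' StabPts a x := by
  intro g hg
  rw [mem_stabPts_iff] at hg
  obtain ⟨h₀, hh₀⟩ : ∃ h₀ : T ⟶ H, h₀ ≫ q = g := by
    obtain ⟨w₀, hw₀⟩ := Groth.Agent.Lib.Helper11HomSm.exists_lift_point (K := Ω) q.left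
      (e.inv ≫ g.left)
    have hw : (e.hom ≫ w₀) ≫ H.hom = T.hom := by
      rw [← Over.w q, Category.assoc, reassoc_of% hw₀, Iso.hom_inv_id_assoc, Over.w g]
    refine ⟨Over.homMk (e.hom ≫ w₀) hw, ?_⟩
    ext1
    show (e.hom ≫ w₀) ≫ q.left = g.left
    rw [Category.assoc, hw₀, Iso.hom_inv_id_assoc]
  have h1 : x ≫ π = smulPt a h₀ x ≫ π := by
    rw [← smulPt_equivariant q a π aQ hequiv, hh₀, hg]
  obtain ⟨n, hn⟩ := exists_smulPt_eq aN π hπ e x (smulPt a h₀ x) h1
  refine ⟨(n ≫ i) * h₀, ?_, ?_⟩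
  · rw [mem_stabPts_iff, mul_smulPt, ← smulPt_restrict i a aN haN, hn]
  · show ((n ≫ i) * h₀) ≫ q = g
    rw [mul_comp', comp_i_q i q hker, _root_.one_mul, hh₀]

include hker haN hequiv in
/-- the stabiliser of `x` is an extension of a subgroup of the stabiliser of `π(x)` by the
stabiliser of `x` in `N` -/
lemma stabPts_finite_of_finite (hN : (StabPts aN x).Finite) (hQ : (StabPts aQ (x ≫ π)).Finite) :
    (StabPts a x).Finite := by
  refine Set.Finite.of_finite_fibers (fun h : T ⟶ H => h ≫ q) (hQ.subset ?_) ?_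
  · rintro _ ⟨h, hh, rfl⟩
    rw [mem_stabPts_iff] at hh ⊢
    show smulPt aQ (h ≫ q) (x ≫ π) = x ≫ π
    rw [smulPt_equivariant q a π aQ hequiv, hh]
  · rintro _ ⟨h', hh', rfl⟩
    refine (hN.image (fun n : T ⟶ N => h' * (n ≫ i))).subset ?_
    rintro h ⟨hh, hq⟩
    have hq' : h ≫ q = h' ≫ q := hq
    rw [mem_stabPts_iff] at hh hh'
    have hd : (h'⁻¹ * h) ≫ q = toUnit T ≫ η[Q] := by
      rw [mul_comp', inv_comp', hq', inv_mul_cancel, Hom.one_def]
    refine ⟨hker.lift (h'⁻¹ * h) (toUnit T) hd, ?_, ?_⟩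
    · rw [mem_stabPts_iff, smulPt_restrict i a aN haN, hker.lift_fst, mul_smulPt, hh,
        inv_smulPt a h' x hh']
    · show h' * (hker.lift (h'⁻¹ * h) (toUnit T) hd ≫ i) = h
      rw [hker.lift_fst, mul_inv_cancel_left]

include hker haN hπ hequiv e in
/-- finiteness of stabilisers passes between `x` and `π(x)` -/
theorem isFinite_stab_iff [LocallyOfFiniteType H.hom] [QuasiCompact H.hom]
    [LocallyOfFiniteType N.hom] [QuasiCompact N.hom] [LocallyOfFiniteType Q.hom]
    [QuasiCompact Q.hom] [QuasiSeparated X.hom] [QuasiSeparated Y.hom] [Surjective q.left]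
    (hfinN : IsFinite (GLinSh.stabTo aN x)) :
    IsFinite (GLinSh.stabTo aQ (x ≫ π)) ↔ IsFinite (GLinSh.stabTo a x) := by
  have hlft : LocallyOfFiniteType (q.left ≫ Q.hom) := by rw [Over.w]; infer_instance
  have hlft' : LocallyOfFiniteType q.left := locallyOfFiniteType_of_comp q.left Q.hom
  rw [isFinite_stabTo_iff aQ e, isFinite_stabTo_iff a e]
  rw [isFinite_stabTo_iff aN e] at hfinN
  constructor
  · exact stabPts_finite_of_finite i q hker a aN haN π aQ hequiv x hfinN
  · intro h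
    exact (h.image _).subset (stabPts_subset_image i q hker a aN haN π hπ aQ hequiv e x)

end Main

end PartD

end Groth.Agent.Lib.Seat51.StabFinite
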