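import Mathlib
import Groth.Prelude.Def_NonAbH2
import Groth.Prelude.Def_ChGrp
import Groth.Prelude.Def_Desc
import Groth.Agent.Lib.Seat51StabFinite
import Groth.Agent.Lib.Helper12RelTorsor
import Groth.Agent.Lib.Helper12Torsor
import Groth.Agent.Lib.Helper12QuotSh

/-!
# Associated fibre bundles (seat 51)

`φ : X → Y` a torsor under `G` (cartesian action square), `G` acting on `F`.  The action defines a descent datum on
`X × F → X` relative to `φ` (`dd`); if it is effective, with descended object `U → Y`, then the induced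
`q : X × F → U` is again a torsor under the diagonal action (`isPullback_qmap`), fpqc-locally trivial when `φ` is
(`isLocallyTrivialFor_qmap`), and compatible with the projections (`qmap_rmap`).
-/

set_option autoImplicit false
universe u
open CategoryTheory MonoidalCategory CartesianMonoidalCategory MonObj AlgebraicGeometry Topology Limits
open Groth.Agent.Lib.Seat51.StabFinite

namespace Groth.Agent.Lib.Seat51.AssocBundle

variable {S : Scheme.{u}} {G X Y F : Over S} [GrpObj G]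

section Gam

variable (a : AlgGrp.Action G X) (b : AlgGrp.Action G F) (φ : X ⟶ Y)
  (hcart : IsPullback a.act (snd G X) φ φ) {T : Over S}

lemma comp_smulPt {Z : Over S} (c : AlgGrp.Action G Z) {T' : Over S} (g : T' ⟶ T) (h : T ⟶ G)
    (z : T ⟶ Z) : g ≫ smulPt c h z = smulPt c (g ≫ h) (g ≫ z) := by
  unfold smulPt
  rw [← Category.assoc, comp_lift]

/-- the unique point of `G` carrying `x₁` to `x₀` -/
noncomputable def gam (x₀ x₁ : T ⟶ X) (h : x₀ ≫ φ = x₁ ≫ φ) : T ⟶ G :=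
  hcart.lift x₀ x₁ h ≫ fst G X

lemma gam_spec (x₀ x₁ : T ⟶ X) (h : x₀ ≫ φ = x₁ ≫ φ) :
    smulPt a (gam a φ hcart x₀ x₁ h) x₁ = x₀ := by
  have h1 : lift (hcart.lift x₀ x₁ h ≫ fst G X) x₁ = hcart.lift x₀ x₁ h := by
    apply CartesianMonoidalCategory.hom_ext <;> simp
  unfold smulPt gam
  rw [h1, hcart.lift_fst]

lemma gam_unique (x₀ x₁ : T ⟶ X) (h : x₀ ≫ φ = x₁ ≫ φ) (g : T ⟶ G)
    (hg : smulPt a g x₁ = x₀) : g = gam a φ hcart x₀ x₁ h := by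
  have h1 : lift g x₁ = hcart.lift x₀ x₁ h := by
    apply hcart.hom_ext
    · rw [hcart.lift_fst]
      exact hg
    · rw [lift_snd, hcart.lift_snd]
  unfold gam
  rw [← h1, lift_fst]

lemma gam_self (x : T ⟶ X) : gam a φ hcart x x rfl = 1 :=
  (gam_unique a φ hcart x x rfl 1 (one_smulPt a x)).symm

lemma gam_mul (x₀ x₁ x₂ : T ⟶ X) (h01 : x₀ ≫ φ = x₁ ≫ φ) (h12 : x₁ ≫ φ = x₂ ≫ φ) :
    gam a φ hcart x₀ x₁ h01 * gam a φ hcart x₁ x₂ h12 = gam a φ hcart x₀ x₂ (h01.trans h12) := by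
  apply gam_unique
  rw [mul_smulPt, gam_spec, gam_spec]

lemma comp_gam {T' : Over S} (g : T' ⟶ T) (x₀ x₁ : T ⟶ X) (h : x₀ ≫ φ = x₁ ≫ φ)
    (h' : (g ≫ x₀) ≫ φ = (g ≫ x₁) ≫ φ) :
    g ≫ gam a φ hcart x₀ x₁ h = gam a φ hcart (g ≫ x₀) (g ≫ x₁) h' := by
  apply gam_unique
  rw [← comp_smulPt, gam_spec]

/-- the transition map of the descent datum on `F`-points -/
noncomputable def tau (x₀ x₁ : T ⟶ X) (h : x₀ ≫ φ = x₁ ≫ φ) (f : T ⟶ F) : T ⟶ F :=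
  smulPt b (gam a φ hcart x₁ x₀ h.symm) f

lemma tau_self (x : T ⟶ X) (f : T ⟶ F) : tau a b φ hcart x x rfl f = f := by
  unfold tau
  rw [gam_self, one_smulPt]

lemma tau_comp (x₀ x₁ x₂ : T ⟶ X) (h01 : x₀ ≫ φ = x₁ ≫ φ) (h12 : x₁ ≫ φ = x₂ ≫ φ)
    (f : T ⟶ F) :
    tau a b φ hcart x₁ x₂ h12 (tau a b φ hcart x₀ x₁ h01 f) =
      tau a b φ hcart x₀ x₂ (h01.trans h12) f := by
  unfold tau
  rw [← mul_smulPt, gam_mul]

lemma comp_tau {T' : Over S} (g : T' ⟶ T) (x₀ x₁ : T ⟶ X) (h : x₀ ≫ φ = x₁ ≫ φ)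
    (h' : (g ≫ x₀) ≫ φ = (g ≫ x₁) ≫ φ) (f : T ⟶ F) :
    g ≫ tau a b φ hcart x₀ x₁ h f = tau a b φ hcart (g ≫ x₀) (g ≫ x₁) h' (g ≫ f) := by
  unfold tau
  rw [comp_smulPt, comp_gam]

end Gam


section DD

variable (a : AlgGrp.Action G X) (b : AlgGrp.Action G F) (φ : X ⟶ Y)
  (hcart : IsPullback a.act (snd G X) φ φ)

/-- a morphism of schemes as a morphism in `Over S` -/
abbrev ovr {A : Over S} {T : Scheme.{u}} (t : T ⟶ S) (x : T ⟶ A.left) (h : x ≫ A.hom = t) :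
    Over.mk t ⟶ A := Over.homMk x h

lemma ovr_comp {A B : Over S} {T : Scheme.{u}} (t : T ⟶ S) (x : T ⟶ A.left) (h : x ≫ A.hom = t)
    (m : A ⟶ B) (h' : (x ≫ m.left) ≫ B.hom = t) :
    ovr t x h ≫ m = ovr t (x ≫ m.left) h' := by
  ext1
  rfl

lemma hom_eq {T : Scheme.{u}} (x₀ x₁ : T ⟶ X.left) (hφ : x₀ ≫ φ.left = x₁ ≫ φ.left) :
    x₁ ≫ X.hom = x₀ ≫ X.hom := by
  rw [← Over.w φ, reassoc_of% hφ]

lemma prod_hom {T : Scheme.{u}} (t : T ⟶ S) (x₀ : T ⟶ X.left) (h₀ : x₀ ≫ X.hom = t)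
    (v : T ⟶ (X ⊗ F).left) (hv : v ≫ (fst X F).left = x₀) : v ≫ (X ⊗ F).hom = t := by
  rw [← Over.w (fst X F), reassoc_of% hv, h₀]

/-- the gluing map of the descent datum -/
noncomputable def ddMap {T : Scheme.{u}} (t : T ⟶ S) (x₀ x₁ : T ⟶ X.left) (h₀ : x₀ ≫ X.hom = t)
    (h₁ : x₁ ≫ X.hom = t) (hφ : x₀ ≫ φ.left = x₁ ≫ φ.left) (v : T ⟶ (X ⊗ F).left)
    (hv : v ≫ (fst X F).left = x₀) : T ⟶ (X ⊗ F).left :=
  (lift (ovr t x₁ h₁) (tau a b φ hcart (ovr t x₀ h₀) (ovr t x₁ h₁) (by ext1; exact hφ)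
    (ovr t v (prod_hom t x₀ h₀ v hv) ≫ snd X F))).left

lemma ddMap_fst {T : Scheme.{u}} (t : T ⟶ S) (x₀ x₁ : T ⟶ X.left) (h₀ : x₀ ≫ X.hom = t)
    (h₁ : x₁ ≫ X.hom = t) (hφ : x₀ ≫ φ.left = x₁ ≫ φ.left) (v : T ⟶ (X ⊗ F).left)
    (hv : v ≫ (fst X F).left = x₀) :
    ddMap a b φ hcart t x₀ x₁ h₀ h₁ hφ v hv ≫ (fst X F).left = x₁ := by
  unfold ddMap
  rw [← Over.comp_left, lift_fst]
  rfl

lemma ovr_ddMap {T : Scheme.{u}} (t : T ⟶ S) (x₀ x₁ : T ⟶ X.left) (h₀ : x₀ ≫ X.hom = t)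
    (h₁ : x₁ ≫ X.hom = t) (hφ : x₀ ≫ φ.left = x₁ ≫ φ.left) (v : T ⟶ (X ⊗ F).left)
    (hv : v ≫ (fst X F).left = x₀) (h' : ddMap a b φ hcart t x₀ x₁ h₀ h₁ hφ v hv ≫ (X ⊗ F).hom = t) :
    ovr t (ddMap a b φ hcart t x₀ x₁ h₀ h₁ hφ v hv) h' =
      lift (ovr t x₁ h₁) (tau a b φ hcart (ovr t x₀ h₀) (ovr t x₁ h₁) (by ext1; exact hφ)
        (ovr t v (prod_hom t x₀ h₀ v hv) ≫ snd X F)) := by
  apply Over.OverMorphism.ext
  rfl

lemma ddMap_eq {T : Scheme.{u}} (t : T ⟶ S) (x₀ x₁ : T ⟶ X.left) (h₀ : x₀ ≫ X.hom = t)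
    (h₁ : x₁ ≫ X.hom = t) (hφ : x₀ ≫ φ.left = x₁ ≫ φ.left) (v : T ⟶ (X ⊗ F).left)
    (hv : v ≫ (fst X F).left = x₀) (f : Over.mk t ⟶ F)
    (hf : ovr t v (prod_hom t x₀ h₀ v hv) ≫ snd X F = f) :
    ddMap a b φ hcart t x₀ x₁ h₀ h₁ hφ v hv =
      (lift (ovr t x₁ h₁) (tau a b φ hcart (ovr t x₀ h₀) (ovr t x₁ h₁) (by ext1; exact hφ) f)).left := by
  subst hf
  rfl

lemma ovr_eq_lift {T : Scheme.{u}} (t : T ⟶ S) (x₀ : T ⟶ X.left) (h₀ : x₀ ≫ X.hom = t)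
    (v : T ⟶ (X ⊗ F).left) (hv : v ≫ (fst X F).left = x₀) :
    ovr t v (prod_hom t x₀ h₀ v hv) =
      lift (ovr t x₀ h₀) (ovr t v (prod_hom t x₀ h₀ v hv) ≫ snd X F) := by
  apply CartesianMonoidalCategory.hom_ext
  · rw [lift_fst]
    ext1
    exact hv
  · rw [lift_snd]

lemma ddMap_self {T : Scheme.{u}} (t : T ⟶ S) (x : T ⟶ X.left) (h : x ≫ X.hom = t)
    (v : T ⟶ (X ⊗ F).left) (hv : v ≫ (fst X F).left = x) :
    ddMap a b φ hcart t x x h h rfl v hv = v := by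
  unfold ddMap
  rw [tau_self, ← ovr_eq_lift t x h v hv]
  rfl

lemma ddMap_comp {T : Scheme.{u}} (t : T ⟶ S) (x₀ x₁ x₂ : T ⟶ X.left) (h₀ : x₀ ≫ X.hom = t)
    (h₁ : x₁ ≫ X.hom = t) (h₂ : x₂ ≫ X.hom = t) (h01 : x₀ ≫ φ.left = x₁ ≫ φ.left)
    (h12 : x₁ ≫ φ.left = x₂ ≫ φ.left) (v : T ⟶ (X ⊗ F).left)
    (hv : v ≫ (fst X F).left = x₀) :
    ddMap a b φ hcart t x₁ x₂ h₁ h₂ h12 (ddMap a b φ hcart t x₀ x₁ h₀ h₁ h01 v hv)
      (ddMap_fst a b φ hcart t x₀ x₁ h₀ h₁ h01 v hv) =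
      ddMap a b φ hcart t x₀ x₂ h₀ h₂ (h01.trans h12) v hv := by
  rw [ddMap_eq a b φ hcart t x₁ x₂ h₁ h₂ h12 _ _
    (tau a b φ hcart (ovr t x₀ h₀) (ovr t x₁ h₁) (by ext1; exact h01)
      (ovr t v (prod_hom t x₀ h₀ v hv) ≫ snd X F))
    (by rw [ovr_ddMap, lift_snd]), tau_comp]
  rfl

lemma lift_tau_natural {T T' : Over S} (gO : T' ⟶ T) (x₀ x₁ : T ⟶ X) (h : x₀ ≫ φ = x₁ ≫ φ)
    (f : T ⟶ F) (x₀' x₁' : T' ⟶ X) (h' : x₀' ≫ φ = x₁' ≫ φ) (f' : T' ⟶ F)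
    (e₀ : x₀' = gO ≫ x₀) (e₁ : x₁' = gO ≫ x₁) (ef : f' = gO ≫ f) :
    lift x₁' (tau a b φ hcart x₀' x₁' h' f') = gO ≫ lift x₁ (tau a b φ hcart x₀ x₁ h f) := by
  subst e₀ e₁ ef
  rw [comp_lift, comp_tau]

lemma ddMap_natural {T T' : Scheme.{u}} (g : T' ⟶ T) (t : T ⟶ S) (x₀ x₁ : T ⟶ X.left)
    (h₀ : x₀ ≫ X.hom = t) (h₁ : x₁ ≫ X.hom = t) (hφ : x₀ ≫ φ.left = x₁ ≫ φ.left)
    (v : T ⟶ (X ⊗ F).left) (hv : v ≫ (fst X F).left = x₀)
    (h₀' : (g ≫ x₀) ≫ X.hom = g ≫ t) (h₁' : (g ≫ x₁) ≫ X.hom = g ≫ t)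
    (hφ' : (g ≫ x₀) ≫ φ.left = (g ≫ x₁) ≫ φ.left)
    (hv' : (g ≫ v) ≫ (fst X F).left = g ≫ x₀) :
    ddMap a b φ hcart (g ≫ t) (g ≫ x₀) (g ≫ x₁) h₀' h₁' hφ' (g ≫ v) hv' =
      g ≫ ddMap a b φ hcart t x₀ x₁ h₀ h₁ hφ v hv := by
  unfold ddMap
  exact congrArg (fun m => m.left) (lift_tau_natural a b φ hcart
    (Over.homMk g rfl : Over.mk (g ≫ t) ⟶ Over.mk t) (ovr t x₀ h₀) (ovr t x₁ h₁)
    (by ext1; exact hφ) (ovr t v (prod_hom t x₀ h₀ v hv) ≫ snd X F) _ _ _ _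
    (by apply Over.OverMorphism.ext; rfl) (by apply Over.OverMorphism.ext; rfl)
    (by apply Over.OverMorphism.ext; rfl))

lemma ddMap_congr {T : Scheme.{u}} (t t' : T ⟶ S) (e : t = t') (x₀ x₁ : T ⟶ X.left)
    (h₀ : x₀ ≫ X.hom = t) (h₁ : x₁ ≫ X.hom = t) (h₀' : x₀ ≫ X.hom = t') (h₁' : x₁ ≫ X.hom = t')
    (hφ : x₀ ≫ φ.left = x₁ ≫ φ.left) (v : T ⟶ (X ⊗ F).left)
    (hv : v ≫ (fst X F).left = x₀) :
    ddMap a b φ hcart t x₀ x₁ h₀ h₁ hφ v hv = ddMap a b φ hcart t' x₀ x₁ h₀' h₁' hφ v hv := by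
  subst e
  rfl


/-- the gluing map on lifts -/
noncomputable def ddFun {T : Scheme.{u}} (t : T ⟶ S) (x₀ x₁ : T ⟶ X.left) (h₀ : x₀ ≫ X.hom = t)
    (h₁ : x₁ ≫ X.hom = t) (hφ : x₀ ≫ φ.left = x₁ ≫ φ.left)
    (v : Desc.Lifts (Over.mk (fst X F).left) x₀) : Desc.Lifts (Over.mk (fst X F).left) x₁ :=
  ⟨ddMap a b φ hcart t x₀ x₁ h₀ h₁ hφ v.1 v.2, ddMap_fst a b φ hcart t x₀ x₁ h₀ h₁ hφ v.1 v.2⟩

lemma ddFun_self {T : Scheme.{u}} (t : T ⟶ S) (x : T ⟶ X.left) (h : x ≫ X.hom = t)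
    (v : Desc.Lifts (Over.mk (fst X F).left) x) : ddFun a b φ hcart t x x h h rfl v = v :=
  Subtype.ext (ddMap_self a b φ hcart t x h v.1 v.2)

lemma ddFun_comp {T : Scheme.{u}} (t : T ⟶ S) (x₀ x₁ x₂ : T ⟶ X.left) (h₀ : x₀ ≫ X.hom = t)
    (h₁ : x₁ ≫ X.hom = t) (h₂ : x₂ ≫ X.hom = t) (h01 : x₀ ≫ φ.left = x₁ ≫ φ.left)
    (h12 : x₁ ≫ φ.left = x₂ ≫ φ.left) (v : Desc.Lifts (Over.mk (fst X F).left) x₀) :
    ddFun a b φ hcart t x₁ x₂ h₁ h₂ h12 (ddFun a b φ hcart t x₀ x₁ h₀ h₁ h01 v) =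
      ddFun a b φ hcart t x₀ x₂ h₀ h₂ (h01.trans h12) v :=
  Subtype.ext (ddMap_comp a b φ hcart t x₀ x₁ x₂ h₀ h₁ h₂ h01 h12 v.1 v.2)

lemma ddFun_congr {T : Scheme.{u}} (t t' : T ⟶ S) (e : t = t') (x₀ x₁ : T ⟶ X.left)
    (h₀ : x₀ ≫ X.hom = t) (h₁ : x₁ ≫ X.hom = t) (h₀' : x₀ ≫ X.hom = t') (h₁' : x₁ ≫ X.hom = t')
    (hφ : x₀ ≫ φ.left = x₁ ≫ φ.left) (v : Desc.Lifts (Over.mk (fst X F).left) x₀) :
    ddFun a b φ hcart t x₀ x₁ h₀ h₁ hφ v = ddFun a b φ hcart t' x₀ x₁ h₀' h₁' hφ v :=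
  Subtype.ext (ddMap_congr a b φ hcart t t' e x₀ x₁ h₀ h₁ h₀' h₁' hφ v.1 v.2)

/-- the descent datum on `X × F → X` relative to `φ` defined by the action on `F` -/
noncomputable def dd : Desc.SchDD φ.left where
  obj := Over.mk (fst X F).left
  φ T x₀ x₁ h :=
    { toFun := ddFun a b φ hcart (x₀ ≫ X.hom) x₀ x₁ rfl (hom_eq φ x₀ x₁ h) h
      invFun := ddFun a b φ hcart (x₀ ≫ X.hom) x₁ x₀ (hom_eq φ x₀ x₁ h) rfl h.symm
      left_inv := fun v => by rw [ddFun_comp, ddFun_self]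
      right_inv := fun w => by rw [ddFun_comp, ddFun_self] }
  φ_natural T T' g x₀ x₁ h h' v v' hv' := by
    obtain ⟨v'1, v'2⟩ := v'
    obtain ⟨v1, v2⟩ := v
    change v'1 = g ≫ v1 at hv'
    subst hv'
    show ddMap a b φ hcart ((g ≫ x₀) ≫ X.hom) (g ≫ x₀) (g ≫ x₁) rfl
        (hom_eq φ (g ≫ x₀) (g ≫ x₁) h') h' (g ≫ v1) v'2 =
      g ≫ ddMap a b φ hcart (x₀ ≫ X.hom) x₀ x₁ rfl (hom_eq φ x₀ x₁ h) h v1 v2
    rw [ddMap_congr a b φ hcart ((g ≫ x₀) ≫ X.hom) (g ≫ x₀ ≫ X.hom) (Category.assoc _ _ _)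
      (g ≫ x₀) (g ≫ x₁) rfl (hom_eq φ (g ≫ x₀) (g ≫ x₁) h') (Category.assoc _ _ _)
      (by rw [Category.assoc, hom_eq φ x₀ x₁ h]) h' (g ≫ v1) v'2]
    exact ddMap_natural a b φ hcart g (x₀ ≫ X.hom) x₀ x₁ rfl (hom_eq φ x₀ x₁ h) h v1 v2 _ _ h' v'2
  φ_self T x v := ddFun_self a b φ hcart _ _ _ _
  φ_comp T x₀ x₁ x₂ h01 h12 v := by
    show ddFun a b φ hcart (x₁ ≫ X.hom) x₁ x₂ rfl (hom_eq φ x₁ x₂ h12) h12
        (ddFun a b φ hcart (x₀ ≫ X.hom) x₀ x₁ rfl (hom_eq φ x₀ x₁ h01) h01 v) =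
      ddFun a b φ hcart (x₀ ≫ X.hom) x₀ x₂ rfl (hom_eq φ x₀ x₂ (h01.trans h12)) (h01.trans h12) v
    rw [ddFun_congr a b φ hcart (x₁ ≫ X.hom) (x₀ ≫ X.hom) (hom_eq φ x₀ x₁ h01) x₁ x₂ rfl
      (hom_eq φ x₁ x₂ h12) (hom_eq φ x₀ x₁ h01) (hom_eq φ x₀ x₂ (h01.trans h12)) h12, ddFun_comp]

end DD


section Main

variable (a : AlgGrp.Action G X) (b : AlgGrp.Action G F) (φ : X ⟶ Y)
  (hcart : IsPullback a.act (snd G X) φ φ)
  (U : Over Y.left) (e : (Desc.toDD φ.left).obj U ≅ dd a b φ hcart)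

/-- the comparison isomorphism, with clean types -/
noncomputable def einv : (X ⊗ F).left ⟶ pullback φ.left U.hom := e.inv.hom.left

/-- the comparison isomorphism, with clean types -/
noncomputable def ehom : pullback φ.left U.hom ⟶ (X ⊗ F).left := e.hom.hom.left

/-- the quotient map on underlying schemes -/
noncomputable def q₀ : (X ⊗ F).left ⟶ U.left :=
  einv a b φ hcart U e ≫ pullback.snd φ.left U.hom

lemma einv_fst : einv a b φ hcart U e ≫ pullback.fst φ.left U.hom = (fst X F).left :=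
  Over.w e.inv.hom

lemma ehom_fst : ehom a b φ hcart U e ≫ (fst X F).left = pullback.fst φ.left U.hom :=
  Over.w e.hom.hom

lemma q₀_hom : q₀ a b φ hcart U e ≫ U.hom = (fst X F).left ≫ φ.left := by
  unfold q₀
  rw [Category.assoc, ← pullback.condition, ← Category.assoc, einv_fst]

lemma einv_ehom : einv a b φ hcart U e ≫ ehom a b φ hcart U e = 𝟙 _ := by
  have := congrArg (fun m => m.hom.left) e.inv_hom_id
  exact this

lemma ehom_einv : ehom a b φ hcart U e ≫ einv a b φ hcart U e = 𝟙 _ := by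
  have := congrArg (fun m => m.hom.left) e.hom_inv_id
  exact this

lemma q₀_ddFun {T : Scheme.{u}} (x₀ x₁ : T ⟶ X.left) (h : x₀ ≫ φ.left = x₁ ≫ φ.left)
    (v : T ⟶ (X ⊗ F).left) (hv : v ≫ (fst X F).left = x₀) :
    ddMap a b φ hcart (x₀ ≫ X.hom) x₀ x₁ rfl (hom_eq φ x₀ x₁ h) h v hv ≫ q₀ a b φ hcart U e =
      v ≫ q₀ a b φ hcart U e := by
  have hw : (v ≫ einv a b φ hcart U e) ≫ pullback.fst φ.left U.hom = x₀ := by
    rw [Category.assoc, einv_fst, hv]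
  have hc : pullback.lift x₁ ((v ≫ einv a b φ hcart U e) ≫ pullback.snd φ.left U.hom)
      (by rw [Category.assoc, Category.assoc, ← pullback.condition, ← Category.assoc,
        ← Category.assoc, hw, h]) =
      ddMap a b φ hcart (x₀ ≫ X.hom) x₀ x₁ rfl (hom_eq φ x₀ x₁ h) h v hv ≫
        einv a b φ hcart U e :=
    e.inv.comm x₀ x₁ h ⟨v, hv⟩ ⟨v ≫ einv a b φ hcart U e, hw⟩ rfl
  have h2 := congrArg (· ≫ pullback.snd φ.left U.hom) hc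
  simp only [pullback.lift_snd, Category.assoc] at h2
  unfold q₀
  exact h2.symm

lemma q₀_ddMap {T : Scheme.{u}} (t : T ⟶ S) (x₀ x₁ : T ⟶ X.left) (h₀ : x₀ ≫ X.hom = t)
    (h₁ : x₁ ≫ X.hom = t) (hφ : x₀ ≫ φ.left = x₁ ≫ φ.left) (v : T ⟶ (X ⊗ F).left)
    (hv : v ≫ (fst X F).left = x₀) :
    ddMap a b φ hcart t x₀ x₁ h₀ h₁ hφ v hv ≫ q₀ a b φ hcart U e = v ≫ q₀ a b φ hcart U e := by
  have h := q₀_ddFun a b φ hcart U e x₀ x₁ hφ v hv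
  rw [ddMap_congr a b φ hcart (x₀ ≫ X.hom) t h₀ x₀ x₁ rfl (hom_eq φ x₀ x₁ hφ) h₀ h₁] at h
  exact h

lemma lifts_ext {T : Scheme.{u}} (x : T ⟶ X.left) (v v' : T ⟶ (X ⊗ F).left)
    (hv : v ≫ (fst X F).left = x) (hv' : v' ≫ (fst X F).left = x)
    (hq : v ≫ q₀ a b φ hcart U e = v' ≫ q₀ a b φ hcart U e) : v = v' := by
  have h1 : v ≫ einv a b φ hcart U e = v' ≫ einv a b φ hcart U e := by
    apply pullback.hom_ext
    · rw [Category.assoc, Category.assoc, einv_fst, hv, hv']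
    · simpa [q₀] using hq
  have h2 := congrArg (· ≫ ehom a b φ hcart U e) h1
  simpa [einv_ehom] using h2

lemma q₀_eq_iff {T : Scheme.{u}} (t : T ⟶ S) (v₁ v₂ : T ⟶ (X ⊗ F).left)
    (h₁ : (v₁ ≫ (fst X F).left) ≫ X.hom = t) (h₂ : (v₂ ≫ (fst X F).left) ≫ X.hom = t) :
    v₁ ≫ q₀ a b φ hcart U e = v₂ ≫ q₀ a b φ hcart U e ↔
      ∃ hφ : (v₁ ≫ (fst X F).left) ≫ φ.left = (v₂ ≫ (fst X F).left) ≫ φ.left,
        ddMap a b φ hcart t _ _ h₁ h₂ hφ v₁ rfl = v₂ := by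
  constructor
  · intro hq
    have hφ : (v₁ ≫ (fst X F).left) ≫ φ.left = (v₂ ≫ (fst X F).left) ≫ φ.left := by
      rw [Category.assoc, Category.assoc, ← q₀_hom a b φ hcart U e, reassoc_of% hq]
    refine ⟨hφ, ?_⟩
    apply lifts_ext a b φ hcart U e (v₂ ≫ (fst X F).left) _ _ (ddMap_fst a b φ hcart _ _ _ _ _ _ _ _)
      rfl
    rw [q₀_ddMap, hq]
  · rintro ⟨hφ, hv⟩
    rw [← hv, q₀_ddMap]


/-- the quotient map -/
noncomputable def qmap : X ⊗ F ⟶ Over.mk (U.hom ≫ Y.hom) :=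
  Over.homMk (q₀ a b φ hcart U e) (by
    show q₀ a b φ hcart U e ≫ U.hom ≫ Y.hom = (X ⊗ F).hom
    rw [← Category.assoc, q₀_hom, Category.assoc, Over.w φ, Over.w (fst X F)])

lemma qmap_rmap :
    qmap a b φ hcart U e ≫ (Over.homMk U.hom rfl : Over.mk (U.hom ≫ Y.hom) ⟶ Y) = fst X F ≫ φ := by
  apply Over.OverMorphism.ext
  exact q₀_hom a b φ hcart U e

lemma qmap_eq_iff {T : Over S} (z₁ z₂ : T ⟶ X ⊗ F) :
    z₁ ≫ qmap a b φ hcart U e = z₂ ≫ qmap a b φ hcart U e ↔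
      ∃ h : (z₁ ≫ fst X F) ≫ φ = (z₂ ≫ fst X F) ≫ φ,
        tau a b φ hcart (z₁ ≫ fst X F) (z₂ ≫ fst X F) h (z₁ ≫ snd X F) = z₂ ≫ snd X F := by
  have hL : z₁ ≫ qmap a b φ hcart U e = z₂ ≫ qmap a b φ hcart U e ↔
      z₁.left ≫ q₀ a b φ hcart U e = z₂.left ≫ q₀ a b φ hcart U e :=
    ⟨fun h => congrArg (fun m => m.left) h, fun h => Over.OverMorphism.ext h⟩
  rw [hL, q₀_eq_iff a b φ hcart U e T.hom z₁.left z₂.left (Over.w (z₁ ≫ fst X F))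
    (Over.w (z₂ ≫ fst X F))]
  constructor
  · rintro ⟨hφ, hv⟩
    have h : (z₁ ≫ fst X F) ≫ φ = (z₂ ≫ fst X F) ≫ φ := Over.OverMorphism.ext hφ
    refine ⟨h, ?_⟩
    have h3 : lift (z₂ ≫ fst X F)
        (tau a b φ hcart (z₁ ≫ fst X F) (z₂ ≫ fst X F) h (z₁ ≫ snd X F)) = z₂ :=
      Over.OverMorphism.ext hv
    have h4 := congrArg (· ≫ snd X F) h3
    simpa using h4
  · rintro ⟨h, hτ⟩
    refine ⟨congrArg (fun m => m.left) h, ?_⟩
    show (lift (z₂ ≫ fst X F)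
      (tau a b φ hcart (z₁ ≫ fst X F) (z₂ ≫ fst X F) h (z₁ ≫ snd X F))).left = z₂.left
    rw [hτ]
    congr 1
    apply CartesianMonoidalCategory.hom_ext <;> simp


include hcart in
lemma smulPt_comp_phi {T : Over S} (g : T ⟶ G) (x : T ⟶ X) : smulPt a g x ≫ φ = x ≫ φ := by
  unfold smulPt
  rw [Category.assoc, hcart.w, ← Category.assoc, lift_snd]

lemma tau_smulPt {T : Over S} (x₁ x₂ : T ⟶ X) (f₁ f₂ : T ⟶ F) (g : T ⟶ G)
    (h : x₁ ≫ φ = x₂ ≫ φ) (hx : x₁ = smulPt a g x₂) (hf : f₁ = smulPt b g f₂) :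
    tau a b φ hcart x₁ x₂ h f₁ = f₂ := by
  subst hx hf
  unfold tau
  have key : gam a φ hcart x₂ (smulPt a g x₂) h.symm * g = 1 := by
    rw [← gam_self a φ hcart x₂]
    apply gam_unique
    rw [mul_smulPt, gam_spec]
  rw [← mul_smulPt, key, one_smulPt]

lemma lift_prod_act' {T : Over S} (g : T ⟶ G) (z : T ⟶ X ⊗ F) :
    lift g z ≫ (a.prod b).act = lift (smulPt a g (z ≫ fst X F)) (smulPt b g (z ≫ snd X F)) := by
  have hz : z = lift (z ≫ fst X F) (z ≫ snd X F) := by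
    apply CartesianMonoidalCategory.hom_ext <;> simp
  conv_lhs => rw [hz]
  exact AlgGrp.Action.lift_prod_act a b g _ _

lemma act_qmap {T : Over S} (g : T ⟶ G) (z : T ⟶ X ⊗ F) :
    (lift g z ≫ (a.prod b).act) ≫ qmap a b φ hcart U e = z ≫ qmap a b φ hcart U e := by
  rw [qmap_eq_iff]
  have hx : (lift g z ≫ (a.prod b).act) ≫ fst X F = smulPt a g (z ≫ fst X F) := by
    rw [lift_prod_act', lift_fst]
  have hf : (lift g z ≫ (a.prod b).act) ≫ snd X F = smulPt b g (z ≫ snd X F) := by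
    rw [lift_prod_act', lift_snd]
  have h : ((lift g z ≫ (a.prod b).act) ≫ fst X F) ≫ φ = (z ≫ fst X F) ≫ φ := by
    rw [hx, smulPt_comp_phi a φ hcart]
  exact ⟨h, tau_smulPt a b φ hcart _ _ _ _ g h hx hf⟩

/-- the quotient map is a torsor for the diagonal action -/
theorem isPullback_qmap :
    IsPullback (a.prod b).act (snd G (X ⊗ F)) (qmap a b φ hcart U e) (qmap a b φ hcart U e) := by
  apply Groth.Agent.Lib.Helper12.RelTorsor.isPullback_of_existsUnique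
  · have h := act_qmap a b φ hcart U e (fst G (X ⊗ F)) (snd G (X ⊗ F))
    rwa [lift_fst_snd, Category.id_comp] at h
  · intro T z₁ z₂ hz
    obtain ⟨h, hτ⟩ := (qmap_eq_iff a b φ hcart U e z₁ z₂).mp hz
    refine ⟨gam a φ hcart (z₁ ≫ fst X F) (z₂ ≫ fst X F) h, ?_, ?_⟩
    · show lift (gam a φ hcart (z₁ ≫ fst X F) (z₂ ≫ fst X F) h) z₂ ≫ (a.prod b).act = z₁
      rw [lift_prod_act', gam_spec, ← hτ]
      unfold tau
      rw [← mul_smulPt, gam_mul, gam_self, one_smulPt]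
      apply CartesianMonoidalCategory.hom_ext <;> simp
    · intro g' hg'
      apply gam_unique
      have h2 : (lift g' z₂ ≫ (a.prod b).act) ≫ fst X F = z₁ ≫ fst X F := by rw [hg']
      rw [lift_prod_act', lift_fst] at h2
      exact h2


/-- the quotient map acquires sections fpqc-locally -/
theorem isLocallyTrivialFor_qmap
    (hloc : NonAbH1.IsLocallyTrivialFor Scheme.fpqcPrecoverage (Over.mk φ.left : Over Y.left)) :
    NonAbH1.IsLocallyTrivialFor Scheme.fpqcPrecoverage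
      (Over.mk (qmap a b φ hcart U e).left : Over (Over.mk (U.hom ≫ Y.hom)).left) := by
  obtain ⟨R, hR, hsec⟩ := hloc
  refine ⟨R.pullbackArrows U.hom, Precoverage.pullbackArrows_mem U.hom hR, ?_⟩
  rintro Z _ ⟨S', g, hg⟩
  obtain ⟨t, ht⟩ := hsec g hg
  have ht' : t ≫ φ.left = g := ht
  refine ⟨pullback.lift (pullback.fst g U.hom ≫ t) (pullback.snd g U.hom)
    (by rw [Category.assoc, ht', pullback.condition]) ≫ ehom a b φ hcart U e, ?_⟩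
  show (_ ≫ ehom a b φ hcart U e) ≫ q₀ a b φ hcart U e = pullback.snd g U.hom
  unfold q₀
  rw [Category.assoc, ← Category.assoc (ehom a b φ hcart U e), ehom_einv, Category.id_comp,
    pullback.lift_snd]

end Main


section Aux

set_option backward.isDefEq.respectTransparency.types false in
/-- a torsor under a flat group is flat -/
theorem flat_of_cart (a : AlgGrp.Action G X) (φ : X ⟶ Y)
    (hcart : IsPullback a.act (snd G X) φ φ)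
    (hloc : NonAbH1.IsLocallyTrivialFor Scheme.fpqcPrecoverage (Over.mk φ.left : Over Y.left))
    [Flat G.hom] : Flat φ.left := by
  have hcart' : IsPullback a.act.left (snd G X).left φ.left φ.left :=
    hcart.map (Over.forget _)
  have hflat_snd : Flat (snd G X).left := by
    show Flat (Limits.pullback.snd G.hom X.hom)
    infer_instance
  obtain ⟨R, hR, hsec⟩ := hloc
  exact Groth.Agent.Lib.Helper12.of_mem_fpqcPrecoverage Groth.Agent.Lib.Helper12.descendsAlong_flat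
    φ.left R hR (fun V g hg => by
      obtain ⟨t, ht⟩ := hsec g hg
      have ht' : t ≫ φ.left = g := ht
      rw [← ht']
      exact Groth.Agent.Lib.Helper12.QuotShLib.snd_of_lift @Flat hcart' hflat_snd t)

set_option backward.isDefEq.respectTransparency.types false in
/-- the descent datum is affine over `X` when `F` is affine over the base -/
theorem isAffineHom_dd (a : AlgGrp.Action G X) (b : AlgGrp.Action G F) (φ : X ⟶ Y)
    (hcart : IsPullback a.act (snd G X) φ φ) [IsAffineHom F.hom] :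
    IsAffineHom (dd a b φ hcart).obj.hom := by
  show IsAffineHom (Limits.pullback.fst X.hom F.hom)
  exact MorphismProperty.pullback_fst (P := @IsAffineHom) _ _ inferInstance

end Aux

end Groth.Agent.Lib.Seat51.AssocBundle
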