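import Mathlib
import Groth.Prelude.Def_NonAbH2
import Groth.Prelude.Def_ChGrp
import Groth.Prelude.Def_Desc
import Groth.Agent.Lib.Seat51AssocBundle
import Groth.Agent.Lib.Seat27Descent
import Groth.Agent.Lib.Seat27ExactSeqUse
import Groth.Agent.Lib.Seat27KernelTorsor
import Groth.Agent.Lib.Helper12RelTorsor

/-!
Helper library (helper27, seat 27): extension of the structure group of a torsor.

`φ : X → Y` a torsor under `G` (cartesian action square, fpqc-locally trivial), `u : G → H` a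
homomorphism; `G` acts on `H` by `g • h = u(g) h`.  Suppose the descent datum `dd` of
`Seat51AssocBundle` on `X × H → X` is effective, with descended object `U → Y`
(`Q : X × H → U` the quotient map).  Then:

* `cAct`: the action of `H` on `U` descended from `h • (x, y) = (x, y h⁻¹)`;
* `isPullback_cAct`, `isLocallyTrivialFor_psi`: `ψ : U → Y` is an `H`-torsor;
* `piMap : X → U`, `x ↦ Q (x, 1)`, is equivariant along `u` (`piMap_equivariant`) and lies over `Y`.
-/

set_option autoImplicit false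
universe u
open CategoryTheory MonoidalCategory CartesianMonoidalCategory MonObj GrpObj AlgebraicGeometry Limits
open Groth.Agent.Lib.Seat51.StabFinite Groth.Agent.Lib.Seat51.AssocBundle

namespace Groth.Agent.Lib.Seat27.PushTorsor

variable {S : Scheme.{u}}

section Generic

open Groth.Agent.Lib.Seat27.ExactSeqUse

/-- A morphism which acquires sections fpqc-locally is an epimorphism. -/
theorem epi_of_isLocallyTrivialFor {E B : Over S} (p : E ⟶ B)
    (hp : NonAbH1.IsLocallyTrivialFor Scheme.fpqcPrecoverage (Over.mk p.left : Over B.left)) :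
    Epi p := by
  constructor
  intro Y a b hab
  obtain ⟨ψ, -, huniq⟩ := Descent.existsUnique_desc (le_refl _) p hp (p ≫ a) (by
      intro T' x y hxy
      rw [← Category.assoc, hxy, Category.assoc])
  rw [huniq a rfl, huniq b hab.symm]

/-- The projection square of a product. -/
theorem isPullback_whiskerLeft (W : Over S) {E B : Over S} (p : E ⟶ B) :
    IsPullback (W ◁ p) (snd W E) (snd W B) p := by
  refine ⟨⟨by simp⟩, ⟨PullbackCone.IsLimit.mk _ (fun s => lift (s.fst ≫ fst W B) s.snd) ?_ ?_ ?_⟩⟩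
  · intro s
    apply CartesianMonoidalCategory.hom_ext
    · simp
    · simp [s.condition]
  · intro s
    simp
  · intro s m h1 h2
    apply CartesianMonoidalCategory.hom_ext
    · rw [lift_fst, ← h1]
      simp
    · rw [lift_snd, ← h2]

theorem isLocallyTrivialFor_whiskerLeft (W : Over S) {E B : Over S} (p : E ⟶ B)
    (hp : NonAbH1.IsLocallyTrivialFor Scheme.fpqcPrecoverage (Over.mk p.left : Over B.left)) :
    NonAbH1.IsLocallyTrivialFor Scheme.fpqcPrecoverage
      (Over.mk (W ◁ p).left : Over (W ⊗ B).left) :=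
  isLocallyTrivialFor_of_isPullback (isPullback_whiskerLeft W p) hp

/-- Two morphisms out of `W × B` agree if they agree on the points `(w, p(z))`. -/
theorem hom_ext_of_points (W : Over S) {E B Z : Over S} (p : E ⟶ B)
    (hp : NonAbH1.IsLocallyTrivialFor Scheme.fpqcPrecoverage (Over.mk p.left : Over B.left))
    (m₁ m₂ : W ⊗ B ⟶ Z)
    (h : ∀ (T : Over S) (w : T ⟶ W) (z : T ⟶ E), lift w (z ≫ p) ≫ m₁ = lift w (z ≫ p) ≫ m₂) :
    m₁ = m₂ := by
  have := epi_of_isLocallyTrivialFor (W ◁ p) (isLocallyTrivialFor_whiskerLeft W p hp)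
  rw [← cancel_epi (W ◁ p)]
  have e : W ◁ p = lift (fst W E) (snd W E ≫ p) := by
    apply CartesianMonoidalCategory.hom_ext <;> simp
  rw [e]
  exact h _ _ _

/-- Two morphisms out of `B` agree if they agree on the points `p(z)`. -/
theorem hom_ext_of_points' {E B Z : Over S} (p : E ⟶ B)
    (hp : NonAbH1.IsLocallyTrivialFor Scheme.fpqcPrecoverage (Over.mk p.left : Over B.left))
    (m₁ m₂ : B ⟶ Z) (h : ∀ (T : Over S) (z : T ⟶ E), (z ≫ p) ≫ m₁ = (z ≫ p) ≫ m₂) : m₁ = m₂ := by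
  have := epi_of_isLocallyTrivialFor p hp
  rw [← cancel_epi p]
  have := h E (𝟙 E)
  simpa using this

end Generic

section Construction

variable {G H X Y : Over S} [GrpObj G] [GrpObj H] (u : G ⟶ H) [IsMonHom u]
  (a : AlgGrp.Action G X) (φ : X ⟶ Y) (hcart : IsPullback a.act (snd G X) φ φ)

/-- `G` acts on `H` by `g • h = u(g) h`. -/
noncomputable abbrev bAct : AlgGrp.Action G H := (NonAbH1.trivialAction H).restrict u

lemma smulPt_bAct {T : Over S} (g : T ⟶ G) (f : T ⟶ H) : smulPt (bAct u) g f = (g ≫ u) * f := by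
  unfold smulPt
  rw [AlgGrp.Action.lift_restrict_act]
  rfl

variable (U : Over Y.left) (e : (Desc.toDD φ.left).obj U ≅ dd a (bAct u) φ hcart)

/-- The total space of the push-forward torsor, as a scheme over `S`. -/
noncomputable abbrev UU : Over S := Over.mk (U.hom ≫ Y.hom)

/-- The structure map of the push-forward torsor. -/
noncomputable abbrev psi : UU (Y := Y) U ⟶ Y := Over.homMk U.hom rfl

/-- The quotient map `X × H → X ×^G H`. -/
noncomputable abbrev Qm : X ⊗ H ⟶ UU (Y := Y) U := qmap a (bAct u) φ hcart U e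

/-- Right translation by the inverse on the second factor. -/
noncomputable def rho : H ⊗ (X ⊗ H) ⟶ X ⊗ H :=
  lift (snd H (X ⊗ H) ≫ fst X H) ((snd H (X ⊗ H) ≫ snd X H) * (fst H (X ⊗ H))⁻¹)

lemma lift_rho {T : Over S} (h : T ⟶ H) (z : T ⟶ X ⊗ H) :
    lift h z ≫ rho (X := X) (H := H) = lift (z ≫ fst X H) ((z ≫ snd X H) * h⁻¹) := by
  unfold rho
  rw [comp_lift, MonObj.comp_mul, GrpObj.comp_inv]
  simp

/-- Equality of two points of `X ×^G H`. -/
lemma Qm_eq_iff {T : Over S} (x₁ x₂ : T ⟶ X) (f₁ f₂ : T ⟶ H) :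
    lift x₁ f₁ ≫ Qm u a φ hcart U e = lift x₂ f₂ ≫ Qm u a φ hcart U e ↔
      ∃ h : x₁ ≫ φ = x₂ ≫ φ, (gam a φ hcart x₂ x₁ h.symm ≫ u) * f₁ = f₂ := by
  rw [qmap_eq_iff]
  simp only [lift_fst, lift_snd]
  unfold tau
  simp only [smulPt_bAct]

lemma rho_const {T : Over S} (p₁ p₂ : T ⟶ H ⊗ (X ⊗ H))
    (h : p₁ ≫ (H ◁ Qm u a φ hcart U e) = p₂ ≫ (H ◁ Qm u a φ hcart U e)) :
    p₁ ≫ rho ≫ Qm u a φ hcart U e = p₂ ≫ rho ≫ Qm u a φ hcart U e := by
  have e1 : ∀ p : T ⟶ H ⊗ (X ⊗ H),
      p = lift (p ≫ fst _ _) (lift ((p ≫ snd _ _) ≫ fst X H) ((p ≫ snd _ _) ≫ snd X H)) := by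
    intro p
    apply CartesianMonoidalCategory.hom_ext
    · simp
    · apply CartesianMonoidalCategory.hom_ext <;> simp
  have hh : p₁ ≫ fst _ _ = p₂ ≫ fst _ _ := by
    have := congrArg (fun t => t ≫ fst H (UU (Y := Y) U)) h
    simpa using this
  have hq : (p₁ ≫ snd _ _) ≫ Qm u a φ hcart U e = (p₂ ≫ snd _ _) ≫ Qm u a φ hcart U e := by
    have := congrArg (fun t => t ≫ snd H (UU (Y := Y) U)) h
    simpa using this
  have hz : ∀ p : T ⟶ H ⊗ (X ⊗ H), p ≫ snd _ _ =
      lift ((p ≫ snd _ _) ≫ fst X H) ((p ≫ snd _ _) ≫ snd X H) := by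
    intro p
    apply CartesianMonoidalCategory.hom_ext <;> simp
  rw [hz p₁, hz p₂, Qm_eq_iff] at hq
  obtain ⟨hφ, hτ⟩ := hq
  rw [e1 p₁, e1 p₂, ← Category.assoc, ← Category.assoc, lift_rho, lift_rho]
  simp only [lift_fst, lift_snd]
  rw [Qm_eq_iff]
  refine ⟨hφ, ?_⟩
  rw [← _root_.mul_assoc, hτ, hh]

end Construction

section Action

open Groth.Agent.Lib.Seat27.KernelTorsor

variable {G H X Y : Over S} [GrpObj G] [GrpObj H] (u : G ⟶ H) [IsMonHom u]
  (a : AlgGrp.Action G X) (φ : X ⟶ Y) (hcart : IsPullback a.act (snd G X) φ φ)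
  (hloc : NonAbH1.IsLocallyTrivialFor Scheme.fpqcPrecoverage (Over.mk φ.left : Over Y.left))
  (U : Over Y.left) (e : (Desc.toDD φ.left).obj U ≅ dd a (bAct u) φ hcart)

include hloc in
lemma isLocallyTrivialFor_Qm :
    NonAbH1.IsLocallyTrivialFor Scheme.fpqcPrecoverage
      (Over.mk (Qm u a φ hcart U e).left : Over (UU (Y := Y) U).left) :=
  isLocallyTrivialFor_qmap a (bAct u) φ hcart U e hloc

include hloc in
lemma exists_cAct : ∃! c : H ⊗ UU (Y := Y) U ⟶ UU (Y := Y) U,
    (H ◁ Qm u a φ hcart U e) ≫ c = rho ≫ Qm u a φ hcart U e :=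
  Descent.existsUnique_desc (le_refl _) (H ◁ Qm u a φ hcart U e)
    (isLocallyTrivialFor_whiskerLeft H _ (isLocallyTrivialFor_Qm u a φ hcart hloc U e))
    (rho ≫ Qm u a φ hcart U e) (fun T p₁ p₂ h => rho_const u a φ hcart U e p₁ p₂ h)

/-- The action morphism of `H` on `X ×^G H`. -/
noncomputable def cMor : H ⊗ UU (Y := Y) U ⟶ UU (Y := Y) U :=
  (exists_cAct u a φ hcart hloc U e).choose

lemma whisker_cMor :
    (H ◁ Qm u a φ hcart U e) ≫ cMor u a φ hcart hloc U e = rho ≫ Qm u a φ hcart U e :=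
  (exists_cAct u a φ hcart hloc U e).choose_spec.1

/-- `h • [x, f] = [x, f h⁻¹]`. -/
lemma lift_cMor {T : Over S} (h : T ⟶ H) (z : T ⟶ X ⊗ H) :
    lift h (z ≫ Qm u a φ hcart U e) ≫ cMor u a φ hcart hloc U e =
      lift (z ≫ fst X H) ((z ≫ snd X H) * h⁻¹) ≫ Qm u a φ hcart U e := by
  have e1 : lift h (z ≫ Qm u a φ hcart U e) = lift h z ≫ (H ◁ Qm u a φ hcart U e) := by
    apply CartesianMonoidalCategory.hom_ext <;> simp
  rw [e1, Category.assoc, whisker_cMor, ← Category.assoc, lift_rho]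

lemma lift_cMor' {T : Over S} (h : T ⟶ H) (x : T ⟶ X) (f : T ⟶ H) :
    lift h (lift x f ≫ Qm u a φ hcart U e) ≫ cMor u a φ hcart hloc U e =
      lift x (f * h⁻¹) ≫ Qm u a φ hcart U e := by
  rw [lift_cMor, lift_fst, lift_snd]

/-- The action of `H` on `X ×^G H`. -/
noncomputable def cAct : AlgGrp.Action H (UU (Y := Y) U) :=
  actionOfPoints (cMor u a φ hcart hloc U e)
    (by
      intro T y
      have key : lift (1 : UU (Y := Y) U ⟶ H) (𝟙 _) ≫ cMor u a φ hcart hloc U e = 𝟙 _ := by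
        apply hom_ext_of_points' (Qm u a φ hcart U e)
          (isLocallyTrivialFor_Qm u a φ hcart hloc U e)
        intro T z
        rw [Category.comp_id, ← Category.assoc, comp_lift, Category.comp_id, MonObj.comp_one,
          lift_cMor, inv_one, _root_.mul_one]
        congr 1
        apply CartesianMonoidalCategory.hom_ext <;> simp
      have e1 : lift (1 : T ⟶ H) y = y ≫ lift (1 : UU (Y := Y) U ⟶ H) (𝟙 _) := by
        rw [comp_lift, Category.comp_id, MonObj.comp_one]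
      rw [e1, Category.assoc, key, Category.comp_id])
    (by
      intro T g h y
      let m₁ : (H ⊗ H) ⊗ UU (Y := Y) U ⟶ UU (Y := Y) U :=
        lift ((fst _ _ ≫ fst H H) * (fst _ _ ≫ snd H H)) (snd _ _) ≫ cMor u a φ hcart hloc U e
      let m₂ : (H ⊗ H) ⊗ UU (Y := Y) U ⟶ UU (Y := Y) U :=
        lift (fst _ _ ≫ fst H H) (lift (fst _ _ ≫ snd H H) (snd _ _) ≫ cMor u a φ hcart hloc U e) ≫
          cMor u a φ hcart hloc U e
      have key : m₁ = m₂ := by
        apply hom_ext_of_points (H ⊗ H) (Qm u a φ hcart U e)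
          (isLocallyTrivialFor_Qm u a φ hcart hloc U e)
        intro T w z
        simp only [m₁, m₂]
        rw [← Category.assoc, ← Category.assoc, comp_lift, comp_lift, MonObj.comp_mul]
        simp only [← Category.assoc, lift_fst, lift_snd, comp_lift]
        rw [lift_cMor, lift_cMor, lift_cMor, lift_fst, lift_snd, _root_.mul_inv_rev,
          _root_.mul_assoc]
      have e1 : lift (g * h) y ≫ cMor u a φ hcart hloc U e = lift (lift g h) y ≫ m₁ := by
        simp only [m₁]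
        rw [← Category.assoc, comp_lift, MonObj.comp_mul]
        simp only [← Category.assoc, lift_fst, lift_snd]
      have e2 : lift g (lift h y ≫ cMor u a φ hcart hloc U e) ≫ cMor u a φ hcart hloc U e =
          lift (lift g h) y ≫ m₂ := by
        simp only [m₂, ← Category.assoc, comp_lift, lift_fst, lift_snd]
      rw [e1, e2, key])

lemma cAct_act : (cAct u a φ hcart hloc U e).act = cMor u a φ hcart hloc U e := rfl

end Action

section Torsor

open Groth.Agent.Lib.Seat27.KernelTorsor Groth.Agent.Lib.Seat27.ExactSeqUse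

variable {G H X Y : Over S} [GrpObj G] [GrpObj H] (u : G ⟶ H) [IsMonHom u]
  (a : AlgGrp.Action G X) (φ : X ⟶ Y) (hcart : IsPullback a.act (snd G X) φ φ)
  (hloc : NonAbH1.IsLocallyTrivialFor Scheme.fpqcPrecoverage (Over.mk φ.left : Over Y.left))
  (U : Over Y.left) (e : (Desc.toDD φ.left).obj U ≅ dd a (bAct u) φ hcart)

lemma Qm_psi : Qm u a φ hcart U e ≫ psi (Y := Y) U = fst X H ≫ φ :=
  qmap_rmap a (bAct u) φ hcart U e

/-- the descended object sits in a cartesian square over the torsor -/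
theorem isPullback_q₀ :
    IsPullback (fst X H).left (q₀ a (bAct u) φ hcart U e) φ.left U.hom := by
  refine IsPullback.of_iso (IsPullback.of_hasPullback φ.left U.hom)
    (e₁ := ⟨ehom a (bAct u) φ hcart U e, einv a (bAct u) φ hcart U e,
      ehom_einv a (bAct u) φ hcart U e, einv_ehom a (bAct u) φ hcart U e⟩)
    (Iso.refl _) (Iso.refl _) (Iso.refl _) ?_ ?_ ?_ ?_
  · show pullback.fst φ.left U.hom ≫ 𝟙 _ = ehom a (bAct u) φ hcart U e ≫ (fst X H).left
    rw [Category.comp_id, ehom_fst]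
  · show pullback.snd φ.left U.hom ≫ 𝟙 _ =
      ehom a (bAct u) φ hcart U e ≫ q₀ a (bAct u) φ hcart U e
    unfold q₀
    rw [Category.comp_id, ← Category.assoc, ehom_einv, Category.id_comp]
  · simp
  · simp

/-- A point of `X ×^G H` whose image in `Y` lifts to `X` lifts to `X × H`. -/
lemma exists_lift_of_lift {T : Over S} (w : T ⟶ UU (Y := Y) U) (x : T ⟶ X)
    (hx : x ≫ φ = w ≫ psi (Y := Y) U) : ∃ f : T ⟶ H, lift x f ≫ Qm u a φ hcart U e = w := by
  have hpb := isPullback_q₀ u a φ hcart U e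
  have hx' : x.left ≫ φ.left = w.left ≫ U.hom := congrArg (fun t => t.left) hx
  let v : T.left ⟶ (X ⊗ H).left := hpb.lift x.left w.left hx'
  have hv1 : v ≫ (fst X H).left = x.left := hpb.lift_fst _ _ _
  have hv2 : v ≫ q₀ a (bAct u) φ hcart U e = w.left := hpb.lift_snd _ _ _
  have hvo : v ≫ (X ⊗ H).hom = T.hom := by
    rw [← Over.w (fst X H), ← Category.assoc, hv1, Over.w x]
  let z : T ⟶ X ⊗ H := Over.homMk v hvo
  have hz1 : z ≫ fst X H = x := Over.OverMorphism.ext hv1
  have hz2 : z ≫ Qm u a φ hcart U e = w := Over.OverMorphism.ext hv2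
  refine ⟨z ≫ snd X H, ?_⟩
  rw [← hz1, ← hz2]
  congr 1
  apply CartesianMonoidalCategory.hom_ext <;> simp

/-- invariance of the structure map -/
lemma cMor_psi : cMor u a φ hcart hloc U e ≫ psi (Y := Y) U =
    snd H (UU (Y := Y) U) ≫ psi (Y := Y) U := by
  apply hom_ext_of_points H (Qm u a φ hcart U e) (isLocallyTrivialFor_Qm u a φ hcart hloc U e)
  intro T h z
  have e1 : lift h (z ≫ Qm u a φ hcart U e) ≫ cMor u a φ hcart hloc U e ≫ psi (Y := Y) U =
      (z ≫ fst X H) ≫ φ := by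
    rw [← Category.assoc, lift_cMor, Category.assoc, Qm_psi, ← Category.assoc, lift_fst]
  have e2 : lift h (z ≫ Qm u a φ hcart U e) ≫ snd H (UU (Y := Y) U) ≫ psi (Y := Y) U =
      (z ≫ fst X H) ≫ φ := by
    rw [← Category.assoc, lift_snd, Category.assoc, Qm_psi, Category.assoc]
  rw [e1, e2]

/-- simple transitivity over a test scheme where the point of `Y` lifts to `X` -/
lemma existsUnique_of_lift {T : Over S} (w₁ w₂ : T ⟶ UU (Y := Y) U)
    (hw : w₁ ≫ psi (Y := Y) U = w₂ ≫ psi (Y := Y) U) (x : T ⟶ X)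
    (hx : x ≫ φ = w₂ ≫ psi (Y := Y) U) :
    ∃! h : T ⟶ H, lift h w₂ ≫ cMor u a φ hcart hloc U e = w₁ := by
  obtain ⟨f₁, hf₁⟩ := exists_lift_of_lift u a φ hcart U e w₁ x (hx.trans hw.symm)
  obtain ⟨f₂, hf₂⟩ := exists_lift_of_lift u a φ hcart U e w₂ x hx
  refine ⟨f₁⁻¹ * f₂, ?_, ?_⟩
  · show lift (f₁⁻¹ * f₂) w₂ ≫ cMor u a φ hcart hloc U e = w₁
    rw [← hf₂, lift_cMor', ← hf₁, _root_.mul_inv_rev, _root_.inv_inv, ← _root_.mul_assoc,
      mul_inv_cancel, _root_.one_mul]
  · intro h hh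
    rw [← hf₂, lift_cMor', ← hf₁, Qm_eq_iff] at hh
    obtain ⟨hφ, hτ⟩ := hh
    rw [gam_self, MonObj.one_comp, _root_.one_mul] at hτ
    rw [← hτ, _root_.mul_inv_rev, _root_.inv_inv, _root_.mul_assoc, inv_mul_cancel, _root_.mul_one]

/-- `ψ : X ×^G H → Y` is a torsor under `H`. -/
theorem isPullback_cAct :
    IsPullback (cAct u a φ hcart hloc U e).act (snd H (UU (Y := Y) U))
      (psi (Y := Y) U) (psi (Y := Y) U) := by
  apply Groth.Agent.Lib.Helper12.RelTorsor.isPullback_of_existsUnique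
  · exact cMor_psi u a φ hcart hloc U e
  · intro T w₁ w₂ hw
    rw [cAct_act]
    -- the cover of `T` over which the point of `Y` lifts
    let pr : pullback φ (w₂ ≫ psi (Y := Y) U) ⟶ T := pullback.snd _ _
    let x' : pullback φ (w₂ ≫ psi (Y := Y) U) ⟶ X := pullback.fst _ _
    have hx' : x' ≫ φ = (pr ≫ w₂) ≫ psi (Y := Y) U := by
      rw [Category.assoc]
      exact pullback.condition
    have hpr : NonAbH1.IsLocallyTrivialFor Scheme.fpqcPrecoverage
        (Over.mk pr.left : Over T.left) :=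
      isLocallyTrivialFor_of_isPullback
        (IsPullback.of_hasPullback φ (w₂ ≫ psi (Y := Y) U)).flip hloc
    have hepi : Epi pr := epi_of_isLocallyTrivialFor pr hpr
    have hw' : (pr ≫ w₁) ≫ psi (Y := Y) U = (pr ≫ w₂) ≫ psi (Y := Y) U := by
      rw [Category.assoc, hw, Category.assoc]
    obtain ⟨h', hh', huniq'⟩ := existsUnique_of_lift u a φ hcart hloc U e (pr ≫ w₁) (pr ≫ w₂) hw' x' hx'
    obtain ⟨h, hh, -⟩ := Descent.existsUnique_desc (le_refl _) pr hpr h' (by
      intro T'' t₁ t₂ ht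
      have hw'' : ((t₁ ≫ pr) ≫ w₁) ≫ psi (Y := Y) U = ((t₁ ≫ pr) ≫ w₂) ≫ psi (Y := Y) U := by
        simp only [Category.assoc, hw]
      have hx'' : (t₁ ≫ x') ≫ φ = ((t₁ ≫ pr) ≫ w₂) ≫ psi (Y := Y) U := by
        rw [Category.assoc, hx']
        simp only [Category.assoc]
      obtain ⟨h'', -, huniq''⟩ := existsUnique_of_lift u a φ hcart hloc U e ((t₁ ≫ pr) ≫ w₁)
        ((t₁ ≫ pr) ≫ w₂) hw'' (t₁ ≫ x') hx''
      have e1 : t₁ ≫ h' = h'' := by
        apply huniq''
        show lift (t₁ ≫ h') ((t₁ ≫ pr) ≫ w₂) ≫ cMor u a φ hcart hloc U e = (t₁ ≫ pr) ≫ w₁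
        rw [Category.assoc, ← comp_lift, Category.assoc, hh', Category.assoc]
      have e2 : t₂ ≫ h' = h'' := by
        apply huniq''
        show lift (t₂ ≫ h') ((t₁ ≫ pr) ≫ w₂) ≫ cMor u a φ hcart hloc U e = (t₁ ≫ pr) ≫ w₁
        rw [ht, Category.assoc, ← comp_lift, Category.assoc, hh', Category.assoc]
      rw [e1, e2])
    refine ⟨h, ?_, ?_⟩
    · show lift h w₂ ≫ cMor u a φ hcart hloc U e = w₁
      rw [← cancel_epi pr, ← Category.assoc, comp_lift, hh]
      exact hh'
    · intro h₂ hh₂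
      rw [← cancel_epi pr, hh]
      apply huniq'
      show lift (pr ≫ h₂) (pr ≫ w₂) ≫ cMor u a φ hcart hloc U e = pr ≫ w₁
      rw [← comp_lift, Category.assoc, hh₂]

/-- the map `X → X ×^G H`, `x ↦ [x, 1]` -/
noncomputable def piMap : X ⟶ UU (Y := Y) U := lift (𝟙 X) (1 : X ⟶ H) ≫ Qm u a φ hcart U e

lemma comp_piMap {T : Over S} (x : T ⟶ X) :
    x ≫ piMap u a φ hcart U e = lift x (1 : T ⟶ H) ≫ Qm u a φ hcart U e := by
  unfold piMap
  rw [← Category.assoc, comp_lift, Category.comp_id, MonObj.comp_one]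

lemma piMap_psi : piMap u a φ hcart U e ≫ psi (Y := Y) U = φ := by
  unfold piMap
  rw [Category.assoc, Qm_psi, ← Category.assoc, lift_fst, Category.id_comp]

/-- `π (g x) = u(g) π(x)` -/
lemma piMap_equivariant {T : Over S} (g : T ⟶ G) (x : T ⟶ X) :
    (lift g x ≫ a.act) ≫ piMap u a φ hcart U e =
      lift (g ≫ u) (x ≫ piMap u a φ hcart U e) ≫ (cAct u a φ hcart hloc U e).act := by
  rw [cAct_act, comp_piMap, comp_piMap, lift_cMor', _root_.one_mul]
  have h := act_qmap a (bAct u) φ hcart U e g (lift x (g ≫ u)⁻¹)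
  rw [lift_prod_act', lift_fst, lift_snd, smulPt_bAct, mul_inv_cancel] at h
  exact h

include u a hcart e hloc in
/-- the push-forward torsor is fpqc-locally trivial -/
theorem isLocallyTrivialFor_psi :
    NonAbH1.IsLocallyTrivialFor Scheme.fpqcPrecoverage
      (Over.mk (psi (Y := Y) U).left : Over Y.left) := by
  obtain ⟨R, hR, hsec⟩ := hloc
  refine ⟨R, hR, ?_⟩
  intro Y' f hf
  obtain ⟨s, hs⟩ := hsec f hf
  have hs' : s ≫ φ.left = f := hs
  refine ⟨s ≫ (piMap u a φ hcart U e).left, ?_⟩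
  show (s ≫ (piMap u a φ hcart U e).left) ≫ (psi (Y := Y) U).left = f
  rw [Category.assoc, ← Over.comp_left, piMap_psi, hs']

end Torsor

section Kernel

open Groth.Agent.Lib.Seat27.KernelTorsor Groth.Agent.Lib.Seat27.ExactSeqUse

variable {G H N X Y : Over S} [GrpObj G] [GrpObj H] [GrpObj N] (u : G ⟶ H) [IsMonHom u]
  (iN : N ⟶ G) [IsMonHom iN] (hker : AlgGrp.IsKernel iN u)
  (a : AlgGrp.Action G X) (φ : X ⟶ Y) (hcart : IsPullback a.act (snd G X) φ φ)
  (hloc : NonAbH1.IsLocallyTrivialFor Scheme.fpqcPrecoverage (Over.mk φ.left : Over Y.left))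
  (U : Over Y.left) (e : (Desc.toDD φ.left).obj U ≅ dd a (bAct u) φ hcart)

include hker in
/-- `X → X ×^G H` is a torsor under the kernel of `u` (cartesian square). -/
theorem isPullback_restrict_piMap :
    IsPullback (a.restrict iN).act (snd N X) (piMap u a φ hcart U e) (piMap u a φ hcart U e) := by
  have hmono : Mono iN := by
    constructor
    intro Z a b hab
    exact hker.hom_ext hab (toUnit_unique _ _)
  have hu1 : ∀ {T : Over S} (n : T ⟶ N), (n ≫ iN) ≫ u = 1 := by
    intro T n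
    rw [Category.assoc, hker.w, ← Category.assoc, Hom.one_def, toUnit_unique (n ≫ toUnit N)]
  have hinv : ∀ {T : Over S} (n : T ⟶ N) (x : T ⟶ X),
      (lift n x ≫ (a.restrict iN).act) ≫ piMap u a φ hcart U e = x ≫ piMap u a φ hcart U e := by
    intro T n x
    rw [AlgGrp.Action.lift_restrict_act, comp_piMap, comp_piMap, Qm_eq_iff]
    refine ⟨smulPt_comp_phi a φ hcart _ _, ?_⟩
    have hg : gam a φ hcart x (lift (n ≫ iN) x ≫ a.act) (smulPt_comp_phi a φ hcart _ _).symm =
        (n ≫ iN)⁻¹ := by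
      symm
      apply gam_unique
      show smulPt a (n ≫ iN)⁻¹ (smulPt a (n ≫ iN) x) = x
      rw [← mul_smulPt, inv_mul_cancel, one_smulPt]
    rw [hg, GrpObj.inv_comp, hu1, inv_one, _root_.mul_one]
  apply Groth.Agent.Lib.Helper12.RelTorsor.isPullback_of_existsUnique
  · have h := hinv (fst N X) (snd N X)
    rwa [lift_fst_snd, Category.id_comp] at h
  · intro T x₁ x₂ hx
    rw [comp_piMap, comp_piMap, Qm_eq_iff] at hx
    obtain ⟨hφ, hτ⟩ := hx
    rw [_root_.mul_one] at hτ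
    have h1 := gam_spec a φ hcart x₂ x₁ hφ.symm
    have huniq := gam_unique a φ hcart x₂ x₁ hφ.symm
    obtain ⟨g0, hγ0⟩ : ∃ g0 : T ⟶ G, g0 = gam a φ hcart x₂ x₁ hφ.symm := ⟨_, rfl⟩
    rw [← hγ0] at h1 hτ huniq
    obtain ⟨n, hn⟩ : ∃ n : T ⟶ N, n ≫ iN = g0 :=
      ⟨hker.lift g0 (toUnit T) (by rw [hτ, Hom.one_def]), hker.lift_fst _ _ _⟩
    have hinvn : n⁻¹ ≫ iN = g0⁻¹ := by
      rw [← hn, GrpObj.inv_comp]
    refine ⟨n⁻¹, ?_, ?_⟩
    · show lift n⁻¹ x₂ ≫ (a.restrict iN).act = x₁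
      rw [AlgGrp.Action.lift_restrict_act, hinvn]
      show smulPt a g0⁻¹ x₂ = x₁
      rw [← h1, ← mul_smulPt, inv_mul_cancel, one_smulPt]
    · intro n' hn'
      have hn'' : smulPt a (n' ≫ iN) x₂ = x₁ := by
        rw [← hn']
        exact (AlgGrp.Action.lift_restrict_act iN a n' x₂).symm
      have h2 : (n' ≫ iN)⁻¹ = g0 := by
        apply huniq
        rw [← hn'', ← mul_smulPt, inv_mul_cancel, one_smulPt]
      rw [← cancel_mono iN, hinvn, ← h2, _root_.inv_inv]

/-- `X → X ×^G H` has sections locally for the fpqc topology when `u` and the quotient map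
`X × H → X ×^G H` are fpqc coverings. -/
theorem isLocallyTrivialFor_piMap [Flat u.left] [Surjective u.left] [QuasiCompact u.left]
    [Flat (Qm u a φ hcart U e).left] [Surjective (Qm u a φ hcart U e).left]
    [QuasiCompact (Qm u a φ hcart U e).left] :
    NonAbH1.IsLocallyTrivialFor Scheme.fpqcPrecoverage
      (Over.mk (piMap u a φ hcart U e).left : Over (UU (Y := Y) U).left) := by
  -- the covering `X × G → X × H → X ×^G H`
  have hXu : IsPullback (X ◁ u) (snd X G) (snd X H) u := isPullback_whiskerLeft X u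
  have hXu' := hXu.map (Over.forget S)
  simp only [Over.forget_obj, Over.forget_map] at hXu'
  have h1 : Flat (X ◁ u).left :=
    MorphismProperty.of_isPullback (P := @Flat) hXu'.flip inferInstance
  have h2 : Surjective (X ◁ u).left :=
    MorphismProperty.of_isPullback (P := @Surjective) hXu'.flip inferInstance
  have h3 : QuasiCompact (X ◁ u).left :=
    MorphismProperty.of_isPullback (P := @QuasiCompact) hXu'.flip inferInstance
  let c : (X ⊗ G).left ⟶ (UU (Y := Y) U).left := (X ◁ u).left ≫ (Qm u a φ hcart U e).left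
  refine ⟨Presieve.singleton c, c.singleton_mem_fpqcPrecoverage, ?_⟩
  rintro _ _ ⟨⟩
  -- the section `(x, g) ↦ g⁻¹ x`
  let s : X ⊗ G ⟶ X := lift (snd X G)⁻¹ (fst X G) ≫ a.act
  refine ⟨s.left, ?_⟩
  show s.left ≫ (piMap u a φ hcart U e).left = c
  have key : s ≫ piMap u a φ hcart U e = (X ◁ u) ≫ Qm u a φ hcart U e := by
    have e1 : (X ◁ u) = lift (fst X G) (snd X G ≫ u) := by
      apply CartesianMonoidalCategory.hom_ext <;> simp
    rw [comp_piMap, e1, Qm_eq_iff]
    have hφ : s ≫ φ = fst X G ≫ φ := smulPt_comp_phi a φ hcart _ _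
    refine ⟨hφ, ?_⟩
    have hg : gam a φ hcart (fst X G) s hφ.symm = snd X G := by
      symm
      apply gam_unique
      show smulPt a (snd X G) (smulPt a (snd X G)⁻¹ (fst X G)) = fst X G
      rw [← mul_smulPt, mul_inv_cancel, one_smulPt]
    rw [hg, _root_.mul_one]
  exact congrArg (fun t => t.left) key

end Kernel

section Comp

open Groth.Agent.Lib.Seat27.KernelTorsor

/-- Composition of morphisms having sections locally for a topology stable under base change and
composition. -/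
theorem isLocallyTrivialFor_comp' {K : Precoverage Scheme.{u}} [K.IsStableUnderBaseChange]
    [K.IsStableUnderComposition] {X Y Z : Scheme.{u}} (φ₁ : X ⟶ Y) (φ₂ : Y ⟶ Z)
    (h₁ : NonAbH1.IsLocallyTrivialFor K (Over.mk φ₁ : Over Y))
    (h₂ : NonAbH1.IsLocallyTrivialFor K (Over.mk φ₂ : Over Z)) :
    NonAbH1.IsLocallyTrivialFor K (Over.mk (φ₁ ≫ φ₂) : Over Z) := by
  obtain ⟨R₁, hR₁, hsec₁⟩ := h₁
  obtain ⟨R₂, hR₂, hsec₂⟩ := h₂
  apply isLocallyTrivialFor_of_local R₂ hR₂
  intro S' f hf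
  obtain ⟨s, hs⟩ := hsec₂ f hf
  have hs' : s ≫ φ₂ = f := hs
  refine ⟨R₁.pullbackArrows s, Precoverage.pullbackArrows_mem s hR₁, ?_⟩
  rintro S'' k ⟨Z', g, hg⟩
  obtain ⟨t, ht⟩ := hsec₁ g hg
  have ht' : t ≫ φ₁ = g := ht
  refine ⟨pullback.fst g s ≫ t, ?_⟩
  show (pullback.fst g s ≫ t) ≫ φ₁ ≫ φ₂ = pullback.snd g s ≫ f
  rw [Category.assoc, ← Category.assoc t, ht', ← Category.assoc, pullback.condition,
    Category.assoc, hs']

end Comp

end Groth.Agent.Lib.Seat27.PushTorsor
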