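import Groth.Prelude.Def_RedSub
import Groth.Agent.Lib.Seat27FppfQuot
import Groth.Agent.Lib.Seat27FlatDescent
import Mathlib.AlgebraicGeometry.Morphisms.LocalFlatDescent

/-!
# Quotient by the preimage of a subgroup of the quotient (helper27)

`f₀ : G ⟶ C` the fppf quotient of `G` by `D = Ker f₀`, `t : T ⟶ C` a subgroup (monomorphic homomorphism) flat and
locally of finite presentation over `S`, `H = G ×_C T` its preimage, `q : G ⟶ Q` the fppf quotient of `G` by `H`.
Then `q` factors uniquely through `f₀`, and the factorisation `C ⟶ Q` is the fppf quotient of `C` by `T`.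
-/

set_option autoImplicit false
universe u

open CategoryTheory CategoryTheory.Limits MonoidalCategory CartesianMonoidalCategory MonObj GrpObj
  AlgebraicGeometry

namespace Groth.Agent.Lib.Seat27.QuotFactor

open Groth.Agent.Lib.Helper12.QuotGrp (act act_eq lift_act)
open Groth.Agent.Lib.Seat27.FppfQuot

variable {S : Scheme.{u}}

lemma isFppf_of_isQuotient {H G Q : Over S} [GrpObj H] [GrpObj G] {i : H ⟶ G} {q : G ⟶ Q}
    (h : RedSub.IsQuotient i q) : IsFppf q := ⟨h.2.1, h.1, h.2.2.1⟩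

/-- Points with the same image in the quotient differ by a point of the subgroup. -/
lemma exists_of_isQuotient {H G Q : Over S} [GrpObj H] [GrpObj G] {i : H ⟶ G} {q : G ⟶ Q}
    (h : RedSub.IsQuotient i q) {X : Over S} (γ₁ γ₂ : X ⟶ G) (hγ : γ₁ ≫ q = γ₂ ≫ q) :
    ∃ ζ : X ⟶ H, γ₁ * (ζ ≫ i) = γ₂ := by
  refine ⟨h.2.2.2.lift γ₁ γ₂ hγ ≫ snd G H, ?_⟩
  have h1 := h.2.2.2.lift_fst γ₁ γ₂ hγ
  have h2 := h.2.2.2.lift_snd γ₁ γ₂ hγ
  have h3 : h.2.2.2.lift γ₁ γ₂ hγ = lift γ₁ (h.2.2.2.lift γ₁ γ₂ hγ ≫ snd G H) := by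
    apply CartesianMonoidalCategory.hom_ext
    · rw [lift_fst, h1]
    · rw [lift_snd]
  rw [h3] at h2
  have := lift_act i γ₁ (h.2.2.2.lift γ₁ γ₂ hγ ≫ snd G H)
  rw [← this]
  exact h2

theorem existsUnique_factor {G D C T H Q : Over S} [GrpObj G] [GrpObj D] [GrpObj C] [GrpObj T] [GrpObj H]
    (d : D ⟶ G) (f₀ : G ⟶ C) [IsMonHom f₀] (hker : AlgGrp.IsKernel d f₀) (hquot : RedSub.IsQuotient d f₀)
    (t : T ⟶ C) [IsMonHom t] [Mono t] (hTflat : Flat T.hom) (hTlfp : LocallyOfFinitePresentation T.hom)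
    (k : H ⟶ G) [IsMonHom k] (g : H ⟶ T) [IsMonHom g] (hsq : IsPullback k g f₀ t)
    (q : G ⟶ Q) (hq : RedSub.IsQuotient k q) :
    ∃! q' : C ⟶ Q, f₀ ≫ q' = q ∧ RedSub.IsQuotient t q' := by
  have hf₀ : IsFppf f₀ := isFppf_of_isQuotient hquot
  have hqf : IsFppf q := isFppf_of_isQuotient hq
  have hgf : IsFppf g := IsFppf.of_isPullback hsq.flip hf₀
  have hepi₀ : Epi f₀ := hf₀.epi
  -- Step 1: `D ⟶ H`
  have hde : d ≫ f₀ = (toUnit D ≫ η[T]) ≫ t := by
    rw [hker.w, Category.assoc, IsMonHom.one_hom]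
  let e : D ⟶ H := hsq.lift d (toUnit D ≫ η[T]) hde
  have he : e ≫ k = d := hsq.lift_fst _ _ _
  -- Step 2: the factorisation
  have hcoeq : act d ≫ q = fst G D ≫ q := by
    have h1 : act d = (G ◁ e) ≫ act k := by
      rw [act, act, ← Category.assoc, ← MonoidalCategory.whiskerLeft_comp, he]
    rw [h1, Category.assoc, ← hq.2.2.2.w, whiskerLeft_fst_assoc]
  obtain ⟨q', hq'⟩ := hf₀.exists_desc hquot.2.2.2 q hcoeq.symm
  -- Step 3: the square commutes
  have hw : fst C T ≫ q' = act t ≫ q' := by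
    have : Epi (f₀ ⊗ₘ g) := hf₀.isCov.epi_tensorHom hgf.isCov
    rw [← cancel_epi (f₀ ⊗ₘ g)]
    have e1 : (f₀ ⊗ₘ g) ≫ act t = act k ≫ f₀ := by
      rw [act_eq, act_eq, comp_mul, MonObj.mul_comp, tensorHom_fst, tensorHom_snd_assoc,
        Category.assoc, hsq.w]
    calc (f₀ ⊗ₘ g) ≫ fst C T ≫ q' = fst G H ≫ f₀ ≫ q' := by rw [tensorHom_fst_assoc]
      _ = act k ≫ q := by rw [hq', hq.2.2.2.w]
      _ = (f₀ ⊗ₘ g) ≫ act t ≫ q' := by
          have := congrArg (fun x => x ≫ q') e1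
          simp only [Category.assoc, hq'] at this
          exact this.symm
  -- Step 4: points of `C` with the same image in `Q` differ by a point of `T`
  have hpts : ∀ (X : Over S) (c₁ c₂ : X ⟶ C), c₁ ≫ q' = c₂ ≫ q' → ∃ τ : X ⟶ T, c₁ * (τ ≫ t) = c₂ := by
    intro X c₁ c₂ hc
    obtain ⟨X₁, π₁, γ₁, hπ₁, h₁⟩ := hf₀.exists_lift c₁
    obtain ⟨X₂, π₂, γ₂, hπ₂, h₂⟩ := hf₀.exists_lift (π₁ ≫ c₂)
    have hπ : IsFppf (π₂ ≫ π₁) := hπ₂.comp hπ₁
    have hγ : (π₂ ≫ γ₁) ≫ q = γ₂ ≫ q := by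
      rw [← hq', Category.assoc, ← Category.assoc γ₁, ← h₁, ← Category.assoc γ₂, ← h₂]
      simp only [Category.assoc]
      rw [hc]
    obtain ⟨ζ, hζ⟩ := exists_of_isQuotient hq (π₂ ≫ γ₁) γ₂ hγ
    have h3 : ((π₂ ≫ π₁) ≫ c₁) * ((ζ ≫ g) ≫ t) = (π₂ ≫ π₁) ≫ c₂ := by
      have := congrArg (fun x => x ≫ f₀) hζ
      simp only [MonObj.mul_comp] at this
      rw [Category.assoc, Category.assoc, h₁, Category.assoc, ← hsq.w, Category.assoc, ← h₂] at *
      simpa only [Category.assoc] using this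
    have h4 : (ζ ≫ g) ≫ t = (π₂ ≫ π₁) ≫ (c₁⁻¹ * c₂) := by
      rw [comp_mul, comp_inv, ← h3, inv_mul_cancel_left]
    obtain ⟨τ, hτ⟩ := hπ.exists_desc_of_mono t (ζ ≫ g) (c₁⁻¹ * c₂) h4
    exact ⟨τ, by rw [hτ, mul_inv_cancel_left]⟩
  -- Step 5: the kernel pair
  have hKP : IsPullback (fst C T) (act t) q' q' := by
    choose τ hτ using hpts
    refine ⟨⟨hw⟩, ⟨PullbackCone.IsLimit.mk _
      (fun s => lift s.fst (τ s.pt s.fst s.snd s.condition)) ?_ ?_ ?_⟩⟩
    · intro s
      exact lift_fst _ _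
    · intro s
      rw [lift_act]
      exact hτ _ _ _ _
    · intro s m h1 h2
      apply CartesianMonoidalCategory.hom_ext
      · rw [lift_fst]; exact h1
      · rw [lift_snd, ← cancel_mono t]
        have h3 : m = lift (m ≫ fst C T) (m ≫ snd C T) := by
          apply CartesianMonoidalCategory.hom_ext <;> simp
        rw [h3, lift_act] at h2
        have h4 := hτ s.pt s.fst s.snd s.condition
        rw [← h4] at h2
        change (m ≫ fst C T) = s.fst at h1
        rw [h1] at h2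
        exact mul_left_cancel h2
  -- Step 6: the factorisation is an fppf covering
  have hbig : IsPullback (fst G T) ((f₀ ▷ T) ≫ act t) q q' := by
    have h1 := Helper12.isPullback_whiskerRight T f₀
    have h2 := (h1.paste_horiz hKP.flip).flip
    rwa [hq'] at h2
  have hbigL := hbig.map (Over.forget S)
  simp only [Over.forget_obj, Over.forget_map] at hbigL
  have hfstflat : Flat (fst G T).left := by
    change Flat (pullback.fst G.hom T.hom); infer_instance
  have hfstlfp : LocallyOfFinitePresentation (fst G T).left := by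
    change LocallyOfFinitePresentation (pullback.fst G.hom T.hom); infer_instance
  have hQ : (@Surjective ⊓ @Flat ⊓ @LocallyOfFinitePresentation : MorphismProperty Scheme.{u}) q.left :=
    ⟨⟨hq.1, hq.2.1⟩, hq.2.2.1⟩
  have hflat : Flat q'.left :=
    MorphismProperty.of_isPullback_of_descendsAlong (P := @Flat)
      (Q := @Surjective ⊓ @Flat ⊓ @LocallyOfFinitePresentation) hbigL hQ hfstflat
  have hlfp : LocallyOfFinitePresentation q'.left :=
    MorphismProperty.of_isPullback_of_descendsAlong (P := @LocallyOfFinitePresentation)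
      (Q := @Surjective ⊓ @Flat ⊓ @LocallyOfFinitePresentation) hbigL hQ hfstlfp
  have hsurj : Surjective q'.left := by
    have h1 : Surjective (f₀.left ≫ q'.left) := by
      rw [← Over.comp_left, hq']; exact hq.1
    exact Surjective.of_comp f₀.left q'.left
  refine ⟨q', ⟨hq', hsurj, hflat, hlfp, hKP⟩, ?_⟩
  rintro q'' ⟨h1, -⟩
  rw [← cancel_epi f₀, h1, hq']

end Groth.Agent.Lib.Seat27.QuotFactor
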