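import Mathlib
import Groth.Agent.S1133
import Groth.Agent.Lib.Seat27PushTorsor
import Groth.Agent.Lib.Seat27GLnTorsor

/-!
Helper library (helper27, seat 27): an extension of special groups is special.

`1 → N → G → Q → 1` with `G → S` flat and affine, `Q → S` affine, `q : G → Q` flat, surjective and
quasi-compact.  If torsors under `N` and under `Q` (cartesian action squares, fpqc-locally trivial)
are Zariski-locally trivial, so are torsors under `G`.

* `props_of_cart`: a torsor `X → Y` under an affine flat group is affine, flat and surjective.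
* `exists_pushforward`: existence of the push-forward data `U`, `e` (effectivity of the descent
  datum, from S1133).
* `isLocallyTrivialFor_zariski_of_extension`.
-/

set_option autoImplicit false
universe u
open CategoryTheory MonoidalCategory CartesianMonoidalCategory MonObj GrpObj AlgebraicGeometry Limits
open Groth.Agent.Lib.Seat51.AssocBundle Groth.Agent.Lib.Helper12

namespace Groth.Agent.Lib.Seat27.SpecialExt

open Groth.Agent.Lib.Seat27.PushTorsor Groth.Agent.Lib.Seat27.GLnTorsor
open Groth.Agent.Lib.Seat27.GaTorsor (surjective_grp_hom)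

variable {S : Scheme.{u}}

section Props

variable {G X Y : Over S} [GrpObj G] (a : AlgGrp.Action G X) (φ : X ⟶ Y)

/-- A torsor under an affine flat group is affine, flat and surjective over its base. -/
theorem props_of_cart (hcart : IsPullback a.act (snd G X) φ φ)
    (hloc : NonAbH1.IsLocallyTrivialFor Scheme.fpqcPrecoverage (Over.mk φ.left : Over Y.left))
    [Flat G.hom] [IsAffineHom G.hom] :
    IsAffineHom φ.left ∧ Flat φ.left ∧ Surjective φ.left := by
  obtain ⟨R, hR, hsec⟩ := hloc
  refine ⟨?_, ?_, ?_⟩
  · exact of_mem_fpqcPrecoverage descendsAlong_isAffineHom φ.left R hR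
      (fun _ f hf => pullback_snd_of_hasSectionOver' a φ hcart
        (inferInstance : IsAffineHom G.hom) f (hsec f hf))
  · exact of_mem_fpqcPrecoverage descendsAlong_flat φ.left R hR
      (fun _ f hf => pullback_snd_of_hasSectionOver' a φ hcart
        (inferInstance : Flat G.hom) f (hsec f hf))
  · exact of_mem_fpqcPrecoverage (inferInstance : MorphismProperty.DescendsAlong @Surjective
          (@Surjective ⊓ @Flat ⊓ @QuasiCompact : MorphismProperty Scheme.{u})) φ.left R hR
      (fun _ f hf => pullback_snd_of_hasSectionOver' a φ hcart (surjective_grp_hom _) f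
        (hsec f hf))

end Props

section Ext

variable {G N Q X Y : Over S} [GrpObj G] [GrpObj N] [GrpObj Q]

/-- Existence of the push-forward of a torsor along `u : G → H` with `H` affine over `S`. -/
theorem exists_pushforward {H : Over S} [GrpObj H] (u : G ⟶ H) [IsMonHom u]
    (a : AlgGrp.Action G X) (φ : X ⟶ Y) (hcart : IsPullback a.act (snd G X) φ φ)
    (hloc : NonAbH1.IsLocallyTrivialFor Scheme.fpqcPrecoverage (Over.mk φ.left : Over Y.left))
    [Flat G.hom] [IsAffineHom G.hom] [IsAffineHom H.hom] :
    ∃ U : Over Y.left, Nonempty ((Desc.toDD φ.left).obj U ≅ dd a (bAct u) φ hcart) := by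
  obtain ⟨haff, hflat, hsurj⟩ := props_of_cart a φ hcart hloc
  have haffD : IsAffineHom (dd a (bAct u) φ hcart).obj.hom := isAffineHom_dd a (bAct u) φ hcart
  exact Groth.Agent.S1133.result φ.left (dd a (bAct u) φ hcart)

/-- An extension of special groups is special. -/
theorem isLocallyTrivialFor_zariski_of_extension
    (iN : N ⟶ G) [IsMonHom iN] (q : G ⟶ Q) [IsMonHom q] (hker : AlgGrp.IsKernel iN q)
    [Flat G.hom] [IsAffineHom G.hom] [IsAffineHom Q.hom]
    [Flat q.left] [Surjective q.left] [QuasiCompact q.left]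
    (hN : ∀ (X Y : Over S) (b : AlgGrp.Action N X) (ψ : X ⟶ Y),
      IsPullback b.act (snd N X) ψ ψ →
      NonAbH1.IsLocallyTrivialFor Scheme.fpqcPrecoverage (Over.mk ψ.left : Over Y.left) →
      NonAbH1.IsLocallyTrivialFor Scheme.zariskiPrecoverage (Over.mk ψ.left : Over Y.left))
    (hQ : ∀ (X Y : Over S) (b : AlgGrp.Action Q X) (ψ : X ⟶ Y),
      IsPullback b.act (snd Q X) ψ ψ →
      NonAbH1.IsLocallyTrivialFor Scheme.fpqcPrecoverage (Over.mk ψ.left : Over Y.left) →
      NonAbH1.IsLocallyTrivialFor Scheme.zariskiPrecoverage (Over.mk ψ.left : Over Y.left))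
    (a : AlgGrp.Action G X) (φ : X ⟶ Y) (hcart : IsPullback a.act (snd G X) φ φ)
    (hloc : NonAbH1.IsLocallyTrivialFor Scheme.fpqcPrecoverage (Over.mk φ.left : Over Y.left)) :
    NonAbH1.IsLocallyTrivialFor Scheme.zariskiPrecoverage (Over.mk φ.left : Over Y.left) := by
  obtain ⟨U, ⟨e⟩⟩ := exists_pushforward q a φ hcart hloc
  -- the `Q`-torsor `X/N → Y`
  have h1 := hQ (UU (Y := Y) U) Y (cAct q a φ hcart hloc U e) (psi (Y := Y) U)
    (isPullback_cAct q a φ hcart hloc U e) (isLocallyTrivialFor_psi q a φ hcart hloc U e)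
  -- the quotient map `X × Q → X/N` is an fpqc covering
  obtain ⟨hQaff, hQflat, hQsurj⟩ := props_of_cart (a.prod (bAct q)) (Qm q a φ hcart U e)
    (isPullback_qmap a (bAct q) φ hcart U e) (isLocallyTrivialFor_Qm q a φ hcart hloc U e)
  have hQqc : QuasiCompact (Qm q a φ hcart U e).left := inferInstance
  -- the `N`-torsor `X → X/N`
  have h2 := hN X (UU (Y := Y) U) (a.restrict iN) (piMap q a φ hcart U e)
    (isPullback_restrict_piMap q iN hker a φ hcart U e)
    (isLocallyTrivialFor_piMap q a φ hcart U e)
  have h3 := isLocallyTrivialFor_comp' (K := Scheme.zariskiPrecoverage)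
    (piMap q a φ hcart U e).left (psi (Y := Y) U).left h2 h1
  have e1 : (piMap q a φ hcart U e).left ≫ (psi (Y := Y) U).left = φ.left := by
    rw [← Over.comp_left, piMap_psi]
  rw [e1] at h3
  exact h3

end Ext

end Groth.Agent.Lib.Seat27.SpecialExt
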