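import Mathlib.Tactic
import Groth.Prelude.Def_RedSub
import Groth.Agent.Lib.Helper12Flat
import Groth.Agent.Lib.Seat27FppfQuot
import Groth.Agent.Lib.Seat27QuotFactor
import Groth.Agent.S0114

/-!
# The third isomorphism theorem for fppf quotients of group schemes (seat 27)

`H ⊆ K ⊆ G` subgroup schemes, `G/H` represented by `qH : G ⟶ QH`, `K/H` by a homomorphism `qKb : K ⟶ Kb`, and
`act' : QH ⊗ Kb ⟶ QH` the induced right action.  Then `G/K = (G/H)/(K/H)`: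

* `isPullback_of_isQuotient`: if `qK : G ⟶ QK` represents `G/K` then `QH ⟶ QK` is an fppf covering with kernel pair
  `QH ⊗ Kb ⇉ QH`;
* `isQuotient_comp`: conversely an fppf covering `p` of `QH` with that kernel pair gives `G/K`.
-/

set_option autoImplicit false
universe u

open CategoryTheory CategoryTheory.Limits MonoidalCategory CartesianMonoidalCategory MonObj GrpObj
  AlgebraicGeometry

namespace Groth.Agent.Lib.Seat27.ThirdIso

open Groth.Agent.Lib.Helper12.QuotGrp (act act_eq lift_act)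
open Groth.Agent.Lib.Seat27.FppfQuot Groth.Agent.Lib.Seat27.QuotFactor

variable {S : Scheme.{u}} {H K G QH Kb : Over S} [GrpObj H] [GrpObj K] [GrpObj G] [GrpObj Kb]
variable {h : H ⟶ K} {k : K ⟶ G} [Mono h] [Mono k] [IsMonHom h] [IsMonHom k]
variable {qH : G ⟶ QH} {qKb : K ⟶ Kb} [IsMonHom qKb] {act' : QH ⊗ Kb ⟶ QH}

/-- point form of the compatibility of the induced action. -/
lemma lift_act' (hact : (qH ⊗ₘ qKb) ≫ act' = (G ◁ k) ≫ μ[G] ≫ qH) {T : Over S} (g : T ⟶ G)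
    (c : T ⟶ K) : lift (g ≫ qH) (c ≫ qKb) ≫ act' = (g * (c ≫ k)) ≫ qH := by
  have e : lift (g ≫ qH) (c ≫ qKb) = lift g c ≫ (qH ⊗ₘ qKb) := by
    apply CartesianMonoidalCategory.hom_ext <;> simp
  rw [e, Category.assoc, hact, ← lift_act k g c]
  simp only [Category.assoc]

/-- `qKb` is constant on cosets of `H`. -/
lemma mul_comp_qKb (hqKb : RedSub.IsQuotient h qKb) {T : Over S} (c : T ⟶ K) (ζ : T ⟶ H) :
    (c * (ζ ≫ h)) ≫ qKb = c ≫ qKb := by
  have := hqKb.2.2.2.w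
  have h2 := congrArg (lift c ζ ≫ ·) this
  simp only [← Category.assoc, lift_fst] at h2
  rw [h2]
  congr 1
  exact (lift_act h c ζ).symm

/-- simultaneous local lifting of a point of `QH` and two points of `Kb`. -/
lemma exists_lift₃ (hqH : RedSub.IsQuotient (h ≫ k) qH) (hqKb : RedSub.IsQuotient h qKb)
    {T : Over S} (x : T ⟶ QH) (κ₁ κ₂ : T ⟶ Kb) :
    ∃ (T' : Over S) (π : T' ⟶ T) (g : T' ⟶ G) (c₁ c₂ : T' ⟶ K), IsFppf π ∧ π ≫ x = g ≫ qH ∧
      π ≫ κ₁ = c₁ ≫ qKb ∧ π ≫ κ₂ = c₂ ≫ qKb := by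
  have hqHf : IsFppf qH := isFppf_of_isQuotient hqH
  have hqKbf : IsFppf qKb := isFppf_of_isQuotient hqKb
  obtain ⟨T₁, π₁, g, hπ₁, h₁⟩ := hqHf.exists_lift x
  obtain ⟨T₂, π₂, c₁, hπ₂, h₂⟩ := hqKbf.exists_lift (π₁ ≫ κ₁)
  obtain ⟨T₃, π₃, c₂, hπ₃, h₃⟩ := hqKbf.exists_lift (π₂ ≫ π₁ ≫ κ₂)
  refine ⟨T₃, π₃ ≫ π₂ ≫ π₁, π₃ ≫ π₂ ≫ g, π₃ ≫ c₁, c₂, hπ₃.comp (hπ₂.comp hπ₁), ?_, ?_, ?_⟩
  · simp only [Category.assoc, h₁]
  · simp only [Category.assoc]
    rw [h₂]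
  · simp only [Category.assoc]
    rw [h₃]

/-- The induced action of `Kb` on `QH` is free. -/
theorem mono_lift_fst_act' (hqH : RedSub.IsQuotient (h ≫ k) qH) (hqKb : RedSub.IsQuotient h qKb)
    (hact : (qH ⊗ₘ qKb) ≫ act' = (G ◁ k) ≫ μ[G] ≫ qH) : Mono (lift (fst QH Kb) act') := by
  constructor
  intro T z₁ z₂ hz
  have hfst : z₁ ≫ fst QH Kb = z₂ ≫ fst QH Kb := by
    have := congrArg (· ≫ fst QH QH) hz
    simpa using this
  have hact₁₂ : z₁ ≫ act' = z₂ ≫ act' := by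
    have := congrArg (· ≫ snd QH QH) hz
    simpa using this
  obtain ⟨T', π, g, c₁, c₂, hπ, hx, hκ₁, hκ₂⟩ :=
    exists_lift₃ hqH hqKb (z₁ ≫ fst QH Kb) (z₁ ≫ snd QH Kb) (z₂ ≫ snd QH Kb)
  have hepi := hπ.epi
  have ez₁ : π ≫ z₁ = lift (g ≫ qH) (c₁ ≫ qKb) := by
    apply CartesianMonoidalCategory.hom_ext
    · simp only [Category.assoc, lift_fst]; exact hx
    · simp only [Category.assoc, lift_snd]; exact hκ₁
  have ez₂ : π ≫ z₂ = lift (g ≫ qH) (c₂ ≫ qKb) := by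
    apply CartesianMonoidalCategory.hom_ext
    · simp only [Category.assoc, lift_fst]; rw [← hfst]; exact hx
    · simp only [Category.assoc, lift_snd]; exact hκ₂
  have h1 : (g * (c₁ ≫ k)) ≫ qH = (g * (c₂ ≫ k)) ≫ qH := by
    rw [← lift_act' hact, ← lift_act' hact, ← ez₁, ← ez₂, Category.assoc, Category.assoc, hact₁₂]
  obtain ⟨ζ, hζ⟩ := exists_of_isQuotient hqH _ _ h1
  have h2 : (c₁ * (ζ ≫ h)) ≫ k = c₂ ≫ k := by
    rw [MonObj.mul_comp _ _ k, Category.assoc]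
    rw [_root_.mul_assoc] at hζ
    exact mul_left_cancel hζ
  have h3 : c₁ * (ζ ≫ h) = c₂ := (cancel_mono k).1 h2
  have h4 : π ≫ z₁ ≫ snd QH Kb = π ≫ z₂ ≫ snd QH Kb := by
    rw [hκ₁, hκ₂, ← h3, mul_comp_qKb hqKb]
  have h5 : z₁ ≫ snd QH Kb = z₂ ≫ snd QH Kb := (cancel_epi π).1 h4
  apply CartesianMonoidalCategory.hom_ext
  · exact hfst
  · exact h5

/-- Part (i): `QH ⟶ QK` is an fppf covering whose kernel pair is `QH ⊗ Kb ⇉ QH`. -/
theorem isPullback_of_isQuotient (hqH : RedSub.IsQuotient (h ≫ k) qH) (hqKb : RedSub.IsQuotient h qKb)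
    (hact : (qH ⊗ₘ qKb) ≫ act' = (G ◁ k) ≫ μ[G] ≫ qH)
    {QK : Over S} {qK : G ⟶ QK} (hqK : RedSub.IsQuotient k qK) (qbar : QH ⟶ QK)
    (hbar : qH ≫ qbar = qK) :
    Surjective qbar.left ∧ Flat qbar.left ∧ LocallyOfFinitePresentation qbar.left ∧
      IsPullback (fst QH Kb) act' qbar qbar := by
  have hqHf : IsFppf qH := isFppf_of_isQuotient hqH
  have hqKbf : IsFppf qKb := isFppf_of_isQuotient hqKb
  have hcomp : qH.left ≫ qbar.left = qK.left := by rw [← Over.comp_left, hbar]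
  have i1 : Flat qH.left := hqHf.flat
  have i2 : Surjective qH.left := hqHf.surj
  have i3 : LocallyOfFinitePresentation qH.left := hqHf.lfp
  have hsurj : Surjective qbar.left := by
    have : Surjective (qH.left ≫ qbar.left) := by rw [hcomp]; exact hqK.1
    exact Surjective.of_comp qH.left qbar.left
  have hflat : Flat qbar.left := by
    have : Flat (qH.left ≫ qbar.left) := by rw [hcomp]; exact hqK.2.1
    exact Groth.Agent.Lib.Helper12.flat_of_comp_of_flat_of_surjective qH.left qbar.left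
  have hlfp : LocallyOfFinitePresentation qbar.left := by
    have : LocallyOfFinitePresentation (qH.left ≫ qbar.left) := by rw [hcomp]; exact hqK.2.2.1
    exact Groth.Agent.S0114.result qH.left qbar.left
  refine ⟨hsurj, hflat, hlfp, ?_⟩
  -- the square commutes
  have hw : fst QH Kb ≫ qbar = act' ≫ qbar := by
    have : Epi (qH ⊗ₘ qKb) := hqHf.isCov.epi_tensorHom hqKbf.isCov
    rw [← cancel_epi (qH ⊗ₘ qKb)]
    calc (qH ⊗ₘ qKb) ≫ fst QH Kb ≫ qbar = fst G K ≫ qH ≫ qbar := by rw [tensorHom_fst_assoc]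
      _ = fst G K ≫ qK := by rw [hbar]
      _ = ((G ◁ k) ≫ μ[G]) ≫ qK := hqK.2.2.2.w
      _ = ((qH ⊗ₘ qKb) ≫ act') ≫ qbar := by
          rw [hact, ← hbar]
          simp only [Category.assoc]
      _ = (qH ⊗ₘ qKb) ≫ act' ≫ qbar := Category.assoc _ _ _
  have hmono := mono_lift_fst_act' hqH hqKb hact
  -- existence of the translating point
  have hex : ∀ (T : Over S) (x₁ x₂ : T ⟶ QH), x₁ ≫ qbar = x₂ ≫ qbar →
      ∃ z : T ⟶ QH ⊗ Kb, z ≫ fst QH Kb = x₁ ∧ z ≫ act' = x₂ := by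
    intro T x₁ x₂ hx
    obtain ⟨T₁, π₁, g₁, hπ₁, h₁⟩ := hqHf.exists_lift x₁
    obtain ⟨T₂, π₂, g₂, hπ₂, h₂⟩ := hqHf.exists_lift (π₁ ≫ x₂)
    have hπ : IsFppf (π₂ ≫ π₁) := hπ₂.comp hπ₁
    have hg : (π₂ ≫ g₁) ≫ qK = g₂ ≫ qK := by
      rw [← hbar, Category.assoc, ← Category.assoc g₁, ← h₁, ← Category.assoc g₂, ← h₂]
      simp only [Category.assoc]
      rw [hx]
    obtain ⟨c, hc⟩ := exists_of_isQuotient hqK _ _ hg
    obtain ⟨z, hz⟩ := hπ.exists_desc_of_mono (lift (fst QH Kb) act')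
      (lift ((π₂ ≫ g₁) ≫ qH) (c ≫ qKb)) (lift x₁ x₂) (by
        apply CartesianMonoidalCategory.hom_ext
        · simp only [Category.assoc, lift_fst]
          rw [h₁]
        · simp only [Category.assoc, lift_snd]
          rw [← Category.assoc π₂ g₁ qH, lift_act' hact, hc, ← h₂])
    refine ⟨z, ?_, ?_⟩
    · have := congrArg (· ≫ fst QH QH) hz
      simpa using this
    · have := congrArg (· ≫ snd QH QH) hz
      simpa using this
  choose L hL₁ hL₂ using hex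
  refine ⟨⟨hw⟩, ⟨PullbackCone.IsLimit.mk _ (fun s => L s.pt s.fst s.snd s.condition)
    (fun s => hL₁ _ _ _ _) (fun s => hL₂ _ _ _ _) ?_⟩⟩
  intro s m h1 h2
  rw [← cancel_mono (lift (fst QH Kb) act')]
  apply CartesianMonoidalCategory.hom_ext
  · simp only [Category.assoc, lift_fst]
    rw [hL₁]; exact h1
  · simp only [Category.assoc, lift_snd]
    rw [hL₂]; exact h2

/-- Part (ii): an fppf covering of `QH` with kernel pair `QH ⊗ Kb ⇉ QH` represents `G/K`. -/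
theorem isQuotient_comp (hqH : RedSub.IsQuotient (h ≫ k) qH) (hqKb : RedSub.IsQuotient h qKb)
    (hact : (qH ⊗ₘ qKb) ≫ act' = (G ◁ k) ≫ μ[G] ≫ qH)
    {Y : Over S} (p : QH ⟶ Y) (hps : Surjective p.left) (hpf : Flat p.left)
    (hpl : LocallyOfFinitePresentation p.left) (hKP : IsPullback (fst QH Kb) act' p p) :
    RedSub.IsQuotient k (qH ≫ p) := by
  have hqHf : IsFppf qH := isFppf_of_isQuotient hqH
  have hqKbf : IsFppf qKb := isFppf_of_isQuotient hqKb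
  have hpfp : IsFppf p := ⟨hpf, hps, hpl⟩
  have hcomp := hqHf.comp hpfp
  refine ⟨hcomp.surj, hcomp.flat, hcomp.lfp, ?_⟩
  have hw : fst G K ≫ qH ≫ p = ((G ◁ k) ≫ μ[G]) ≫ qH ≫ p := by
    calc fst G K ≫ qH ≫ p = (qH ⊗ₘ qKb) ≫ fst QH Kb ≫ p := by rw [tensorHom_fst_assoc]
      _ = (qH ⊗ₘ qKb) ≫ act' ≫ p := by rw [hKP.w]
      _ = ((qH ⊗ₘ qKb) ≫ act') ≫ p := (Category.assoc _ _ _).symm
      _ = ((G ◁ k) ≫ μ[G]) ≫ qH ≫ p := by
          rw [hact]
          simp only [Category.assoc]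
  have hex : ∀ (T : Over S) (g₁ g₂ : T ⟶ G), g₁ ≫ qH ≫ p = g₂ ≫ qH ≫ p →
      ∃ c : T ⟶ K, g₁ * (c ≫ k) = g₂ := by
    intro T g₁ g₂ hg
    have hg' : (g₁ ≫ qH) ≫ p = (g₂ ≫ qH) ≫ p := by simpa only [Category.assoc] using hg
    set z := hKP.lift (g₁ ≫ qH) (g₂ ≫ qH) hg' with hzdef
    have hz₁ : z ≫ fst QH Kb = g₁ ≫ qH := hKP.lift_fst _ _ _
    have hz₂ : z ≫ act' = g₂ ≫ qH := hKP.lift_snd _ _ _
    obtain ⟨T', π, c, hπ, hc⟩ := hqKbf.exists_lift (z ≫ snd QH Kb)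
    have e1 : ((π ≫ g₁) * (c ≫ k)) ≫ qH = (π ≫ g₂) ≫ qH := by
      rw [← lift_act' hact]
      have : lift ((π ≫ g₁) ≫ qH) (c ≫ qKb) = π ≫ z := by
        apply CartesianMonoidalCategory.hom_ext
        · simp only [Category.assoc, lift_fst]; rw [hz₁]
        · simp only [Category.assoc, lift_snd]; rw [hc]
      rw [this, Category.assoc, hz₂, Category.assoc]
    obtain ⟨ζ, hζ⟩ := exists_of_isQuotient hqH _ _ e1
    have e2 : (c * (ζ ≫ h)) ≫ k = π ≫ (g₁⁻¹ * g₂) := by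
      rw [MonObj.mul_comp _ _ k, Category.assoc, comp_mul, comp_inv, ← hζ, _root_.mul_assoc,
        inv_mul_cancel_left]
    obtain ⟨c', hc'⟩ := hπ.exists_desc_of_mono k (c * (ζ ≫ h)) (g₁⁻¹ * g₂) e2
    exact ⟨c', by rw [hc', mul_inv_cancel_left]⟩
  choose L hL using hex
  refine ⟨⟨hw⟩, ⟨PullbackCone.IsLimit.mk _ (fun s => lift s.fst (L s.pt s.fst s.snd s.condition))
    (fun s => lift_fst _ _) (fun s => ?_) ?_⟩⟩
  · rw [lift_act]
    exact hL _ _ _ _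
  · intro s m h1 h2
    have hm : m = lift (m ≫ fst G K) (m ≫ snd G K) := by
      apply CartesianMonoidalCategory.hom_ext <;> simp
    apply CartesianMonoidalCategory.hom_ext
    · rw [lift_fst]; exact h1
    · rw [lift_snd, ← cancel_mono k]
      rw [hm, lift_act] at h2
      have h3 := hL s.pt s.fst s.snd s.condition
      rw [← h3] at h2
      change m ≫ fst G K = s.fst at h1
      rw [h1] at h2
      exact mul_left_cancel h2

end Groth.Agent.Lib.Seat27.ThirdIso
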