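import Groth.Prelude.Def_Red
import Groth.Agent.Lib.Seat27FpqcLocal
import Groth.Agent.Lib.Seat27FlatDescent
import Mathlib.RingTheory.FiniteType
import Mathlib.RingTheory.FinitePresentation
import Mathlib.AlgebraicGeometry.Morphisms.FinitePresentation
import Mathlib.AlgebraicGeometry.Morphisms.Flat

/-!
# A torus is flat and locally of finite presentation over its base (helper27)

`Red.IsTorus T` says that `T` becomes isomorphic to `D(ℤ^r)`, Zariski locally on a flat covering `S' ⟶ S`
satisfying the fpqc quasi-compactness condition. The group algebra `ℤ[ℤ^r]` is free and of finite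
presentation over `ℤ`, and both properties descend.
-/

set_option autoImplicit false
universe u

open CategoryTheory CategoryTheory.Limits MonoidalCategory CartesianMonoidalCategory MonObj GrpObj
  AlgebraicGeometry MorphismProperty

namespace Groth.Agent.Lib.Seat27.TorusLfp

theorem flat_diag (R : Type u) [CommRing R] (M : Type) [AddCommGroup M] : Flat (Red.diag R M).hom := by
  change Flat (Spec.map (CommRingCat.ofHom (algebraMap R (MonoidAlgebra R (Multiplicative M)))))
  rw [HasRingHomProperty.Spec_iff (P := @Flat)]
  change (algebraMap R (MonoidAlgebra R (Multiplicative M))).Flat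
  rw [RingHom.flat_algebraMap_iff]
  infer_instance

theorem lfp_diag (R : Type u) [CommRing R] [IsNoetherianRing R] (M : Type) [AddCommGroup M]
    [Monoid.FG (Multiplicative M)] : LocallyOfFinitePresentation (Red.diag R M).hom := by
  change LocallyOfFinitePresentation
    (Spec.map (CommRingCat.ofHom (algebraMap R (MonoidAlgebra R (Multiplicative M)))))
  rw [HasRingHomProperty.Spec_iff (P := @LocallyOfFinitePresentation)]
  change (algebraMap R (MonoidAlgebra R (Multiplicative M))).FinitePresentation
  rw [RingHom.finitePresentation_algebraMap]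
  exact Algebra.FinitePresentation.of_finiteType.mp MonoidAlgebra.finiteType_of_fg

theorem flat_DS (S : Scheme.{u}) (M : Type) [AddCommGroup M] : Flat (Red.DS S M).hom := by
  have := flat_diag (ULift.{u} ℤ) M
  change Flat (pullback.snd (Red.diag (ULift.{u} ℤ) M).hom _)
  infer_instance

theorem lfp_DS (S : Scheme.{u}) (M : Type) [AddCommGroup M] [Monoid.FG (Multiplicative M)] :
    LocallyOfFinitePresentation (Red.DS S M).hom := by
  have : IsNoetherianRing (ULift.{u} ℤ) := isNoetherianRing_of_ringEquiv ℤ ULift.ringEquiv.symm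
  have := lfp_diag (ULift.{u} ℤ) M
  change LocallyOfFinitePresentation (pullback.snd (Red.diag (ULift.{u} ℤ) M).hom _)
  infer_instance

/-- The common argument: a property stable under base change and composition with isomorphisms, Zariski local
on the target and descending along quasi-compact faithfully flat morphisms, which holds for all `D_S(ℤ^r)`,
holds for every torus. -/
theorem isTorus_of (P : MorphismProperty Scheme.{u}) [IsZariskiLocalAtTarget P]
    [P.DescendsAlong (@Surjective ⊓ @Flat ⊓ @QuasiCompact)]
    (hDS : ∀ (S : Scheme.{u}) (r : ℕ), P (Red.DS S (Fin r → ℤ)).hom)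
    {S : Scheme.{u}} (T : Over S) [GrpObj T] (hT : Red.IsTorus T) : P T.hom := by
  have hiso : P.RespectsIso := inferInstance
  obtain ⟨S', f, hflat, -, hqc, hloc⟩ := hT
  refine FpqcLocal.of_fpqc_cover P T.hom f hqc ?_
  apply IsZariskiLocalAtTarget.of_forall_exists_morphismRestrict
  intro s'
  obtain ⟨U, hs'U, r, ⟨e⟩⟩ := hloc s'
  refine ⟨U, hs'U, ?_⟩
  -- the iso of Over U objects
  let e' : Red.bc (U.ι ≫ f) T ≅ Red.DS (U : Scheme.{u}) (Fin r → ℤ) := (Grp.forget _).mapIso e
  have h1 : P (Red.bc (U.ι ≫ f) T).hom := by
    have : (Red.bc (U.ι ≫ f) T).hom = e'.hom.left ≫ (Red.DS (U : Scheme.{u}) (Fin r → ℤ)).hom :=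
      (Over.w e'.hom).symm
    rw [this]
    have : IsIso e'.hom.left := inferInstanceAs (IsIso ((CategoryTheory.Over.forget _).map e'.hom))
    exact (P.cancel_left_of_respectsIso _ _).mpr (hDS _ r)
  change P (pullback.snd T.hom (U.ι ≫ f)) at h1
  -- compare with the restriction
  have hbig : IsPullback (pullback.fst T.hom (U.ι ≫ f)) (pullback.snd T.hom (U.ι ≫ f)) T.hom (U.ι ≫ f) :=
    IsPullback.of_hasPullback _ _
  have hcomm : pullback.fst T.hom (U.ι ≫ f) ≫ T.hom = (pullback.snd T.hom (U.ι ≫ f) ≫ U.ι) ≫ f := by
    rw [Category.assoc]; exact hbig.w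
  have hleft : IsPullback (pullback.lift _ _ hcomm) (pullback.snd T.hom (U.ι ≫ f))
      (pullback.snd T.hom f) U.ι := by
    refine IsPullback.of_right ?_ (pullback.lift_snd _ _ _) (IsPullback.of_hasPullback T.hom f)
    rw [pullback.lift_fst]
    exact hbig
  have hres := (isPullback_morphismRestrict (pullback.snd T.hom f) U).flip
  -- two pullbacks of the same cospan
  have : pullback.snd T.hom f ∣_ U =
      (hres.isoIsPullback _ _ hleft).hom ≫ pullback.snd T.hom (U.ι ≫ f) := by
    rw [IsPullback.isoIsPullback_hom_snd]
  rw [this]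
  exact (P.cancel_left_of_respectsIso _ _).mpr h1

theorem flat_of_isTorus {S : Scheme.{u}} (T : Over S) [GrpObj T] (hT : Red.IsTorus T) : Flat T.hom :=
  isTorus_of (P := @Flat) (fun S _ => flat_DS S _) T hT

theorem lfp_of_isTorus {S : Scheme.{u}} (T : Over S) [GrpObj T] (hT : Red.IsTorus T) :
    LocallyOfFinitePresentation T.hom :=
  isTorus_of (P := @LocallyOfFinitePresentation) (fun S _ => lfp_DS S _) T hT

end Groth.Agent.Lib.Seat27.TorusLfp
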