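import Groth.Agent.Lib.Seat28PerfPush
import Groth.Agent.Lib.Helper17ExactAdj

/-!
# Approximation by perfect complexes extends from an open containing the support (seat 28)
-/

set_option autoImplicit false
set_option linter.style.haveILetI false
universe u
open CategoryTheory CategoryTheory.Limits AlgebraicGeometry Pretriangulated

attribute [local instance] HasDerivedCategory.standard

namespace Groth.Agent.Lib.Seat28.Approx

open Groth.Agent.Lib.Seat28.RD Groth.Agent.Lib.Seat28.Supp

section LES

variable {A : Type*} [Category A] [Abelian A] [HasDerivedCategory A]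

open DerivedCategory

/-- the third vertex of a distinguished triangle has no cohomology in degrees `≥ m` iff the first
map is an isomorphism on `H^i` for `i > m` and an epimorphism on `H^m`. -/
lemma isZero_homology_obj₃_iff (T : Triangle (DerivedCategory A)) (hT : T ∈ distTriang _) (m : ℤ) :
    (∀ i : ℤ, m ≤ i → IsZero ((homologyFunctor A i).obj T.obj₃)) ↔
      (∀ i : ℤ, m < i → IsIso ((homologyFunctor A i).map T.mor₁)) ∧
        Epi ((homologyFunctor A m).map T.mor₁) := by
  constructor
  · intro h
    have hepi : ∀ i : ℤ, m ≤ i → Epi ((homologyFunctor A i).map T.mor₁) := fun i hi => by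
      rw [HomologySequence.epi_homologyMap_mor₁_iff T hT i]
      exact (h i hi).eq_of_tgt _ _
    refine ⟨fun i hi => ?_, hepi m le_rfl⟩
    haveI := hepi i hi.le
    haveI : Mono ((homologyFunctor A i).map T.mor₁) := by
      rw [HomologySequence.mono_homologyMap_mor₁_iff T hT (i - 1) i (by omega)]
      exact (h (i - 1) (by omega)).eq_of_src _ _
    exact isIso_of_mono_of_epi _
  · rintro ⟨h1, h2⟩ i hi
    have hepi : Epi ((homologyFunctor A i).map T.mor₁) := by
      rcases hi.eq_or_lt with rfl | hlt
      · exact h2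
      · haveI := h1 i hlt
        infer_instance
    have hmono : Mono ((homologyFunctor A (i + 1)).map T.mor₁) := by
      haveI := h1 (i + 1) (by omega)
      infer_instance
    have hf := (HomologySequence.epi_homologyMap_mor₁_iff T hT i).1 hepi
    have hg := (HomologySequence.mono_homologyMap_mor₁_iff T hT i (i + 1) rfl).1 hmono
    exact (HomologySequence.exact₃ T hT i (i + 1) rfl).isZero_of_both_zeros hf hg

end LES

section Cover

variable {X : Scheme.{u}}

lemma subsingleton_stalk_of_isZero {M : X.Modules} (hz : IsZero M) (x : X) :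
    Subsingleton (M.presheaf.stalk x) := by
  refine ⟨fun a b => ?_⟩
  obtain ⟨U, hxU, s, rfl⟩ := M.presheaf.exists_germ_eq a
  obtain ⟨V, hxV, t, rfl⟩ := M.presheaf.exists_germ_eq b
  have hU := Groth.Agent.Lib.Helper20.OmegaUnr.subsingleton_sections_of_isZero hz U
  have hV := Groth.Agent.Lib.Helper20.OmegaUnr.subsingleton_sections_of_isZero hz V
  rw [Subsingleton.elim s 0, Subsingleton.elim t 0, map_zero, map_zero]

lemma subsingleton_stalk_of_isZero_restrict (W : X.Opens) (M : X.Modules)
    (h : IsZero ((Scheme.Modules.restrictFunctor W.ι).obj M)) (x : X) (hx : x ∈ W) :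
    Subsingleton (M.presheaf.stalk x) := by
  have h3 := subsingleton_stalk_of_isZero h ⟨x, hx⟩
  let e' := (Scheme.Modules.restrictStalkNatIso W.ι ⟨x, hx⟩).app M
  refine ⟨fun a b => ?_⟩
  have hab : e'.inv a = e'.inv b := Subsingleton.elim (h := h3) _ _
  have h4 : ∀ c, e'.hom (e'.inv c) = c := fun c => by
    rw [← ConcreteCategory.comp_apply, e'.inv_hom_id]
    rfl
  rw [← h4 a, ← h4 b, hab]

/-- a module vanishing on the two members of an open cover vanishes. -/
lemma isZero_of_isZero_restrict_cover (U V : X.Opens) (hUV : ∀ x : X, x ∈ U ∨ x ∈ V)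
    (M : X.Modules) (hU : IsZero ((Scheme.Modules.restrictFunctor U.ι).obj M))
    (hV : IsZero ((Scheme.Modules.restrictFunctor V.ι).obj M)) : IsZero M := by
  apply isZero_of_subsingleton_stalk
  intro x
  rcases hUV x with hx | hx
  · exact subsingleton_stalk_of_isZero_restrict U M hU x hx
  · exact subsingleton_stalk_of_isZero_restrict V M hV x hx

end Cover

section ExactAdj

universe w w' v v' u₁ u₂

variable {A : Type u₁} [Category.{v} A] [Abelian A] [HasDerivedCategory.{w} A]
  {B : Type u₂} [Category.{v'} B] [Abelian B] [HasDerivedCategory.{w'} B]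
  (F : A ⥤ B) (G : B ⥤ A) (adj : F ⊣ G) [F.Additive] [G.Additive]
  [PreservesFiniteLimits F] [PreservesFiniteColimits F]
  [PreservesFiniteLimits G] [PreservesFiniteColimits G]

/-- the commutative square of an exact functor with the localization functors. -/
@[reducible] noncomputable def sqOf : CatCommSq (F.mapHomologicalComplex (ComplexShape.up ℤ)) DerivedCategory.Q
    DerivedCategory.Q F.mapDerivedCategory := ⟨F.mapDerivedCategoryFactors.symm⟩

/-- `F ⊣ G` with `F`, `G` exact induces `F.mapDerivedCategory ⊣ G.mapDerivedCategory`. -/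
noncomputable def dAdj : F.mapDerivedCategory ⊣ G.mapDerivedCategory :=
  letI := sqOf F
  letI := sqOf G
  (Groth.Agent.Lib.Helper17.SerreLoc.adjHC adj (ComplexShape.up ℤ)).localization
    DerivedCategory.Q (HomologicalComplex.quasiIso A (ComplexShape.up ℤ))
    DerivedCategory.Q (HomologicalComplex.quasiIso B (ComplexShape.up ℤ))
    F.mapDerivedCategory G.mapDerivedCategory

lemma isIso_dAdj_unit_app [IsIso adj.unit] (X : DerivedCategory A) :
    IsIso ((dAdj F G adj).unit.app X) := by
  letI := sqOf F
  letI := sqOf G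
  have key : ∀ K : CochainComplex A ℤ,
      IsIso ((dAdj F G adj).unit.app (DerivedCategory.Q.obj K)) := by
    intro K
    have h := Adjunction.localization_unit_app
      (Groth.Agent.Lib.Helper17.SerreLoc.adjHC adj (ComplexShape.up ℤ))
      DerivedCategory.Q (HomologicalComplex.quasiIso A (ComplexShape.up ℤ))
      DerivedCategory.Q (HomologicalComplex.quasiIso B (ComplexShape.up ℤ))
      F.mapDerivedCategory G.mapDerivedCategory K
    haveI : IsIso ((Groth.Agent.Lib.Helper17.SerreLoc.adjHC adj (ComplexShape.up ℤ)).unit.app K) :=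
      inferInstance
    unfold dAdj
    rw [h]
    infer_instance
  let e : DerivedCategory.Q.obj (DerivedCategory.Q.objPreimage X) ≅ X :=
    DerivedCategory.Q.objObjPreimageIso X
  have hn := (dAdj F G adj).unit.naturality e.hom
  haveI := key (DerivedCategory.Q.objPreimage X)
  have h5 : (dAdj F G adj).unit.app X = e.inv ≫
      ((dAdj F G adj).unit.app (DerivedCategory.Q.obj (DerivedCategory.Q.objPreimage X)) ≫
        (F.mapDerivedCategory ⋙ G.mapDerivedCategory).map e.hom) := by
    rw [← hn]
    simp
  rw [h5]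
  infer_instance

end ExactAdj

section Main

variable {X : Scheme.{u}} (U : X.Opens)

/-- the derived adjunction `j_! ⊣ j^*`. -/
noncomputable def extZeroDAdj : CxOX.extZeroD U.ι ⊣ DCoh.restrictD U.ι :=
  dAdj (CxOX.extZero U.ι) (Scheme.Modules.restrictFunctor U.ι) (CxOX.extZeroAdj U.ι)

instance isIso_extZeroDAdj_unit_app (P : DCoh.D (U : Scheme.{u})) :
    IsIso ((extZeroDAdj U).unit.app P) :=
  isIso_dAdj_unit_app _ _ (CxOX.extZeroAdj U.ι) P

theorem approximation_extends (T : Set ↥X) (hT : IsClosed T)
    (hTU : T ⊆ (U : Set ↥X)) (E : DCoh.D X) (m : ℤ)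
    (P : DCoh.D (U : Scheme.{u})) (α : P ⟶ (DCoh.restrictD U.ι).obj E) (hP : DCoh.IsPerfect P)
    (hPs : ∀ i : ℤ, CohB1.support (DCoh.HD P i) ⊆ {v : ↥(U : Scheme.{u}) | U.ι.base v ∈ T})
    (hα1 : ∀ i : ℤ, m < i → IsIso ((DerivedCategory.homologyFunctor _ i).map α))
    (hα2 : Epi ((DerivedCategory.homologyFunctor _ m).map α))
    (hsupp : ∀ i : ℤ, m ≤ i → CohB1.support (DCoh.HD E i) ⊆ T) :
    ∃ (P' : DCoh.D X) (α' : P' ⟶ E), DCoh.IsPerfect P' ∧
      (∀ i : ℤ, CohB1.support (DCoh.HD P' i) ⊆ T) ∧
      (∀ i : ℤ, m < i → IsIso ((DerivedCategory.homologyFunctor X.Modules i).map α')) ∧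
      Epi ((DerivedCategory.homologyFunctor X.Modules m).map α') := by
  let P' := (CxOX.extZeroD U.ι).obj P
  let α' : P' ⟶ E := ((extZeroDAdj U).homEquiv P E).symm α
  -- support of `P'`
  have hP's : ∀ (i : ℤ) (x : X), x ∉ T → Subsingleton ((DCoh.HD P' i).presheaf.stalk x) := by
    intro i x hx
    apply subsingleton_stalk_HD_extZeroD
    intro v hv
    apply subsingleton_stalk_of_notMem_support
    intro hvs
    apply hx
    have := hPs i hvs
    rw [← hv]
    exact this
  have himg : (fun x : (U : Scheme.{u}) => U.ι.base x) '' {v : ↥(U : Scheme.{u}) | U.ι.base v ∈ T}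
      = T := by
    ext x
    constructor
    · rintro ⟨v, hv, rfl⟩
      exact hv
    · intro hx
      exact ⟨⟨x, hTU hx⟩, hx, rfl⟩
  have hperf : DCoh.IsPerfect P' :=
    isPerfect_extZeroD U P hP {v : ↥(U : Scheme.{u}) | U.ι.base v ∈ T} (by rw [himg]; exact hT) hPs
  refine ⟨P', α', hperf, fun i x hx => ?_, ?_⟩
  · by_contra hxT
    exact hx (hP's i x hxT)
  -- the cone of `α'`
  obtain ⟨C, g, h, hT'⟩ := distinguished_cocone_triangle α'
  refine (isZero_homology_obj₃_iff _ hT' m).1 ?_
  intro i hi
  show IsZero ((DerivedCategory.homologyFunctor X.Modules i).obj C)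
  let V : X.Opens := ⟨Tᶜ, hT.isOpen_compl⟩
  have hUV : ∀ x : X, x ∈ U ∨ x ∈ V := fun x => by
    by_cases hx : x ∈ T
    · exact Or.inl (hTU hx)
    · exact Or.inr hx
  apply isZero_of_isZero_restrict_cover U V hUV
  · -- on `U`
    have hTU' := (DCoh.restrictD U.ι).map_distinguished _ hT'
    have hαeq : α = (extZeroDAdj U).unit.app P ≫ (DCoh.restrictD U.ι).map α' := by
      have := ((extZeroDAdj U).homEquiv P E).apply_symm_apply α
      rw [Adjunction.homEquiv_unit] at this
      exact this.symm
    have h1 : ∀ j : ℤ, m < j → IsIso ((DerivedCategory.homologyFunctor _ j).map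
        ((DCoh.restrictD U.ι).map α')) := fun j hj => by
      have h3 := hα1 j hj
      rw [hαeq, Functor.map_comp] at h3
      exact IsIso.of_isIso_comp_left ((DerivedCategory.homologyFunctor _ j).map
        ((extZeroDAdj U).unit.app P)) _
    have h2 : Epi ((DerivedCategory.homologyFunctor _ m).map ((DCoh.restrictD U.ι).map α')) := by
      have h3 := hα2
      rw [hαeq, Functor.map_comp] at h3
      exact epi_of_epi ((DerivedCategory.homologyFunctor _ m).map
        ((extZeroDAdj U).unit.app P)) _
    have h4 := (isZero_homology_obj₃_iff _ hTU' m).2 ⟨h1, h2⟩ i hi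
    exact IsZero.of_iso h4 (Groth.Agent.Lib.Helper17.AdjWay.homologyIso
      (Scheme.Modules.restrictFunctor U.ι) C i).symm
  · -- on `V = X ∖ T`
    have hTV' := (DCoh.restrictD V.ι).map_distinguished _ hT'
    have hz1 : IsZero ((DCoh.restrictD V.ι).obj P') :=
      isZero_restrictD V P' (fun j x hx => hP's j x hx)
    have hz2 : ∀ j : ℤ, m ≤ j → IsZero ((DerivedCategory.homologyFunctor _ j).obj
        ((DCoh.restrictD V.ι).obj E)) := fun j hj =>
      IsZero.of_iso (isZero_restrict V _ (fun x hx => subsingleton_stalk_of_notMem_support _ x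
        (fun hxs => hx (hsupp j hj hxs))))
        (Groth.Agent.Lib.Helper17.AdjWay.homologyIso (Scheme.Modules.restrictFunctor V.ι) E j)
    have h1 : ∀ j : ℤ, m < j → IsIso ((DerivedCategory.homologyFunctor _ j).map
        ((DCoh.restrictD V.ι).map α')) := fun j hj =>
      ⟨0, ((DerivedCategory.homologyFunctor _ j).map_isZero hz1).eq_of_src _ _,
        (hz2 j hj.le).eq_of_src _ _⟩
    have h2 : Epi ((DerivedCategory.homologyFunctor _ m).map ((DCoh.restrictD V.ι).map α')) :=
      ⟨fun a b _ => (hz2 m le_rfl).eq_of_src _ _⟩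
    have h4 := (isZero_homology_obj₃_iff _ hTV' m).2 ⟨h1, h2⟩ i hi
    exact IsZero.of_iso h4 (Groth.Agent.Lib.Helper17.AdjWay.homologyIso
      (Scheme.Modules.restrictFunctor V.ι) C i).symm

end Main

end Groth.Agent.Lib.Seat28.Approx
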