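import Mathlib
import Groth.Prelude.Def_Tame

/-!
# Seat28: arithmetic of the integer-valued order function `CycAlg.ordFrac`

`CycAlg.ordFrac R K f : ℤ` is additive on nonzero elements, compatible with integer powers,
and vanishes on the images of units of `R`.  All statements hold without hypotheses on `R`, `K`
(in the degenerate case the function is identically `0`).
-/

set_option autoImplicit false
set_option linter.style.haveILetI false
universe u v

namespace Groth.Agent.Lib.Seat28.OrdFrac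

variable (R : Type u) [CommRing R] (K : Type v) [Field K] [Algebra R K]

/-- the auxiliary map `ℤᵐ⁰ → ℤ` used in `CycAlg.ordFrac` -/
noncomputable def toInt (z : WithZero (Multiplicative ℤ)) : ℤ :=
  WithZero.recZeroCoe (motive := fun _ => ℤ) 0 (fun z => Multiplicative.toAdd z) z

@[simp] lemma toInt_zero : toInt 0 = 0 := rfl

@[simp] lemma toInt_coe (z : Multiplicative ℤ) : toInt (z : WithZero (Multiplicative ℤ)) = Multiplicative.toAdd z := rfl

lemma toInt_one : toInt 1 = 0 := rfl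

lemma toInt_mul {a b : WithZero (Multiplicative ℤ)} (ha : a ≠ 0) (hb : b ≠ 0) :
    toInt (a * b) = toInt a + toInt b := by
  obtain ⟨a, rfl⟩ := WithZero.ne_zero_iff_exists.1 ha
  obtain ⟨b, rfl⟩ := WithZero.ne_zero_iff_exists.1 hb
  rw [← WithZero.coe_mul, toInt_coe, toInt_coe, toInt_coe, toAdd_mul]

lemma toInt_inv (a : WithZero (Multiplicative ℤ)) : toInt a⁻¹ = - toInt a := by
  by_cases ha : a = 0
  · subst ha; simp
  · obtain ⟨a, rfl⟩ := WithZero.ne_zero_iff_exists.1 ha
    rw [← WithZero.coe_inv, toInt_coe, toInt_coe, toAdd_inv]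

variable {R K}

lemma ordFrac_eq (h : IsNoetherianRing R ∧ Ring.KrullDimLE 1 R ∧ Nontrivial R ∧ IsFractionRing R K)
    (f : K) :
    CycAlg.ordFrac R K f =
      haveI := h.1; haveI := h.2.1; haveI := h.2.2.1; haveI := h.2.2.2
      toInt (Ring.ordFrac R f) := by
  unfold CycAlg.ordFrac
  rw [dif_pos h]
  rfl

lemma ordFrac_of_not (h : ¬ (IsNoetherianRing R ∧ Ring.KrullDimLE 1 R ∧ Nontrivial R ∧ IsFractionRing R K))
    (f : K) : CycAlg.ordFrac R K f = 0 := by
  unfold CycAlg.ordFrac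
  rw [dif_neg h]

theorem ordFrac_mul {f g : K} (hf : f ≠ 0) (hg : g ≠ 0) :
    CycAlg.ordFrac R K (f * g) = CycAlg.ordFrac R K f + CycAlg.ordFrac R K g := by
  by_cases h : IsNoetherianRing R ∧ Ring.KrullDimLE 1 R ∧ Nontrivial R ∧ IsFractionRing R K
  · rw [ordFrac_eq h, ordFrac_eq h, ordFrac_eq h]
    haveI := h.1; haveI := h.2.1; haveI := h.2.2.1; haveI := h.2.2.2
    rw [map_mul]
    exact toInt_mul (by simpa using hf) (by simpa using hg)
  · rw [ordFrac_of_not h, ordFrac_of_not h, ordFrac_of_not h, add_zero]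

theorem ordFrac_one : CycAlg.ordFrac R K (1 : K) = 0 := by
  by_cases h : IsNoetherianRing R ∧ Ring.KrullDimLE 1 R ∧ Nontrivial R ∧ IsFractionRing R K
  · rw [ordFrac_eq h]
    haveI := h.1; haveI := h.2.1; haveI := h.2.2.1; haveI := h.2.2.2
    rw [map_one]
    rfl
  · rw [ordFrac_of_not h]

theorem ordFrac_inv (f : K) : CycAlg.ordFrac R K f⁻¹ = - CycAlg.ordFrac R K f := by
  by_cases h : IsNoetherianRing R ∧ Ring.KrullDimLE 1 R ∧ Nontrivial R ∧ IsFractionRing R K
  · rw [ordFrac_eq h, ordFrac_eq h]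
    haveI := h.1; haveI := h.2.1; haveI := h.2.2.1; haveI := h.2.2.2
    rw [map_inv₀]
    exact toInt_inv _
  · rw [ordFrac_of_not h, ordFrac_of_not h, neg_zero]

theorem ordFrac_pow {f : K} (hf : f ≠ 0) (n : ℕ) :
    CycAlg.ordFrac R K (f ^ n) = n * CycAlg.ordFrac R K f := by
  induction n with
  | zero => simp [ordFrac_one]
  | succ n ih =>
    rw [pow_succ, ordFrac_mul (pow_ne_zero n hf) hf, ih]
    push_cast
    ring

theorem ordFrac_zpow {f : K} (hf : f ≠ 0) (m : ℤ) :
    CycAlg.ordFrac R K (f ^ m) = m * CycAlg.ordFrac R K f := by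
  obtain ⟨n, rfl | rfl⟩ := m.eq_nat_or_neg
  · rw [zpow_natCast, ordFrac_pow hf]
  · rw [zpow_neg, zpow_natCast, ordFrac_inv, ordFrac_pow hf]
    ring

theorem ordFrac_algebraMap_of_isUnit {r : R} (hr : IsUnit r) :
    CycAlg.ordFrac R K (algebraMap R K r) = 0 := by
  by_cases h : IsNoetherianRing R ∧ Ring.KrullDimLE 1 R ∧ Nontrivial R ∧ IsFractionRing R K
  · rw [ordFrac_eq h]
    haveI := h.1; haveI := h.2.1; haveI := h.2.2.1; haveI := h.2.2.2
    have hr0 : r ≠ 0 := hr.ne_zero
    rw [Ring.ordFrac_eq_ord R hr0,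
      Ring.ordMonoidWithZeroHom_eq_coe R (n := 0) hr.mem_nonZeroDivisors
        (by simpa using Ring.ord_of_isUnit hr)]
    rfl
  · rw [ordFrac_of_not h]

end Groth.Agent.Lib.Seat28.OrdFrac
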