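import Mathlib
import Groth.Prelude.Def_C1
import Groth.Agent.Lib.Helper20InvGen
import Groth.Agent.Lib.Seat28OrdFrac

/-!
# The order of a rational section of an invertible module (seat 28)

For an invertible module `L`, a specialization `ξ ⤳ x` and rational sections `s₁ = ρ • s₂` of `L(ξ)`:
`secOrdAt L ξ x h s₁ = ordAt x ξ h (res ρ) + secOrdAt L ξ x h s₂`.
-/

set_option autoImplicit false
set_option linter.style.haveILetI false
universe u
open CategoryTheory AlgebraicGeometry TopologicalSpace Opposite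

namespace Groth.Agent.Lib.Seat28.C1Inv

open Groth.Agent.Lib.Helper2 Groth.Agent.Lib.Helper20.InvGen

section Algebra

variable {R : Type u} [CommRing R] [IsLocalRing R] {M : Type u} [AddCommGroup M] [Module R M]

/-- the linear map `M → κ` for a module free of rank one on a given generator -/
noncomputable def preθ (e : R ≃ₗ[R] M) : M →ₗ[R] IsLocalRing.ResidueField R :=
  (Algebra.linearMap R (IsLocalRing.ResidueField R)).comp e.symm.toLinearMap

lemma preθ_apply (e : R ≃ₗ[R] M) (t : M) :
    preθ e t = IsLocalRing.residue _ (e.symm t) := rfl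

lemma smul_top_le_ker (e : R ≃ₗ[R] M) :
    IsLocalRing.maximalIdeal R • (⊤ : Submodule R M) ≤ LinearMap.ker (preθ e) := by
  rw [Submodule.smul_le]
  intro r hr n _
  rw [LinearMap.mem_ker, map_smul]
  have : algebraMap R (IsLocalRing.ResidueField R) r = 0 :=
    (IsLocalRing.residue_eq_zero_iff r).2 hr
  rw [Algebra.smul_def, this, zero_mul]

lemma ker_le_smul_top (e : R ≃ₗ[R] M) :
    LinearMap.ker (preθ e) ≤ IsLocalRing.maximalIdeal R • (⊤ : Submodule R M) := by
  intro t ht
  rw [LinearMap.mem_ker, preθ_apply] at ht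
  have hm : e.symm t ∈ IsLocalRing.maximalIdeal R :=
    (IsLocalRing.residue_eq_zero_iff _).1 ht
  have ht' : t = e.symm t • e 1 := by
    rw [← map_smul, smul_eq_mul, mul_one, LinearEquiv.apply_symm_apply]
  rw [ht']
  exact Submodule.smul_mem_smul hm Submodule.mem_top

/-- the identification `M/𝔪M → κ` -/
noncomputable def θ (e : R ≃ₗ[R] M) :
    (M ⧸ (IsLocalRing.maximalIdeal R • (⊤ : Submodule R M))) →ₗ[R] IsLocalRing.ResidueField R :=
  Submodule.liftQ _ (preθ e) (smul_top_le_ker e)

lemma θ_mk (e : R ≃ₗ[R] M) (t : M) :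
    θ e (Submodule.Quotient.mk t) = IsLocalRing.residue _ (e.symm t) := rfl

lemma θ_injective (e : R ≃ₗ[R] M) : Function.Injective (θ e) := by
  rw [← LinearMap.ker_eq_bot]
  exact Submodule.ker_liftQ_eq_bot _ _ _ (ker_le_smul_top e)

lemma θ_smul (e : R ≃ₗ[R] M) (a : R)
    (s : M ⧸ (IsLocalRing.maximalIdeal R • (⊤ : Submodule R M))) :
    θ e (a • s) = IsLocalRing.residue _ a * θ e s := by
  rw [map_smul, Algebra.smul_def]
  rfl

/-- a linear equivalence from a free generator -/
noncomputable def equivOfBijective (t : M) (ht : Function.Bijective (fun c : R => c • t)) :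
    R ≃ₗ[R] M :=
  LinearEquiv.ofBijective (LinearMap.toSpanSingleton R M t) ht

omit [IsLocalRing R] in
lemma equivOfBijective_one (t : M) (ht : Function.Bijective (fun c : R => c • t)) :
    equivOfBijective t ht 1 = t := by
  change (1 : R) • t = t
  rw [one_smul]

omit [IsLocalRing R] in
lemma equivOfBijective_symm_self (t : M) (ht : Function.Bijective (fun c : R => c • t)) :
    (equivOfBijective t ht).symm t = 1 := by
  rw [LinearEquiv.symm_apply_eq, equivOfBijective_one]

end Algebra

variable {X : Scheme.{u}} (L : X.Modules)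

/-- specialization maps of stalks of a module are semilinear. -/
theorem stalkSpecializes_smul {x ξ : X} (h : ξ ⤳ x) (c : X.presheaf.stalk x)
    (m : L.presheaf.stalk x) :
    (L.presheaf.stalkSpecializes h) (c • m) =
      (X.presheaf.stalkSpecializes h c) • (L.presheaf.stalkSpecializes h m) := by
  obtain ⟨W₁, hx₁, r, rfl⟩ := X.presheaf.exists_germ_eq c
  obtain ⟨W₂, hx₂, m₀, rfl⟩ := L.presheaf.exists_germ_eq m
  have hx : x ∈ W₁ ⊓ W₂ := ⟨hx₁, hx₂⟩
  have hξ : ξ ∈ W₁ ⊓ W₂ := h.mem_open (W₁ ⊓ W₂).isOpen hx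
  rw [← TopCat.Presheaf.germ_res_apply X.presheaf (homOfLE (inf_le_left : W₁ ⊓ W₂ ≤ W₁)) x hx r,
    ← TopCat.Presheaf.germ_res_apply L.presheaf (homOfLE (inf_le_right : W₁ ⊓ W₂ ≤ W₂)) x hx m₀,
    ← QCoh.germ_smul]
  have e1 : ∀ z : Γ(L, W₁ ⊓ W₂), (L.presheaf.stalkSpecializes h) (L.presheaf.germ _ x hx z) =
      L.presheaf.germ _ ξ hξ z := fun z =>
    ConcreteCategory.congr_hom (TopCat.Presheaf.germ_stalkSpecializes L.presheaf hx h) z
  have e2 : ∀ z : Γ(X, W₁ ⊓ W₂), (X.presheaf.stalkSpecializes h) (X.presheaf.germ _ x hx z) =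
      X.presheaf.germ _ ξ hξ z := fun z =>
    ConcreteCategory.congr_hom (TopCat.Presheaf.germ_stalkSpecializes X.presheaf hx h) z
  rw [e1, e1, e2, QCoh.germ_smul]

variable {L}

/-- every stalk of an invertible module has a generator. -/
theorem exists_span_eq_top (hL : PicF.IsInvertible L) (x : X) :
    ∃ t : L.presheaf.stalk x, Submodule.span (X.presheaf.stalk x) {t} = ⊤ := by
  obtain ⟨W, τ, hxW, hτ⟩ := exists_local_generator L hL x
  refine ⟨L.presheaf.germ W x hxW τ, ?_⟩
  rw [eq_top_iff]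
  intro m _
  obtain ⟨c, rfl⟩ := (hτ x hxW).2 m
  exact Submodule.smul_mem _ _ (Submodule.subset_span rfl)

/-- the image in a generization of a generator of a stalk of an invertible module is a free
generator. -/
theorem bijective_smul_stalkSpecializes (hL : PicF.IsInvertible L) {x ξ : X} (h : ξ ⤳ x)
    (t : L.presheaf.stalk x) (ht : Submodule.span (X.presheaf.stalk x) {t} = ⊤) :
    Function.Bijective (fun c : X.presheaf.stalk ξ => c • L.presheaf.stalkSpecializes h t) := by
  obtain ⟨W, τ, hxW, hτ⟩ := exists_local_generator L hL x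
  have hξW : ξ ∈ W := h.mem_open W.isOpen hxW
  obtain ⟨u, hu⟩ := (hτ x hxW).2 t
  have hu' : u • L.presheaf.germ W x hxW τ = t := hu
  have h1 : L.presheaf.germ W x hxW τ ∈ Submodule.span (X.presheaf.stalk x) {t} := by
    rw [ht]; trivial
  obtain ⟨v, hv⟩ := Submodule.mem_span_singleton.1 h1
  have hvu : v * u = 1 := by
    apply (hτ x hxW).1
    change (v * u) • L.presheaf.germ W x hxW τ = (1 : X.presheaf.stalk x) • _
    rw [mul_smul, hu', hv, one_smul]
  have huU : IsUnit u := IsUnit.of_mul_eq_one_right v hvu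
  have huU' : IsUnit (X.presheaf.stalkSpecializes h u) := huU.map (X.presheaf.stalkSpecializes h).hom
  have e1 : L.presheaf.stalkSpecializes h (L.presheaf.germ W x hxW τ) =
      L.presheaf.germ W ξ hξW τ :=
    ConcreteCategory.congr_hom (TopCat.Presheaf.germ_stalkSpecializes L.presheaf hxW h) τ
  have e2 : L.presheaf.stalkSpecializes h t =
      X.presheaf.stalkSpecializes h u • L.presheaf.germ W ξ hξW τ := by
    rw [← hu', stalkSpecializes_smul, e1]
  rw [e2]
  have : (fun c : X.presheaf.stalk ξ =>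
      c • (X.presheaf.stalkSpecializes h u • L.presheaf.germ W ξ hξW τ)) =
      (fun c : X.presheaf.stalk ξ => c • L.presheaf.germ W ξ hξW τ) ∘
        (fun c : X.presheaf.stalk ξ => c * X.presheaf.stalkSpecializes h u) := by
    funext c
    simp only [Function.comp_apply, mul_smul]
  rw [this]
  exact (hτ ξ hξW).comp (IsUnit.isUnit_iff_mulRight_bijective.1 huU')

/-- for an invertible module, the order of a rational section along `ξ ⤳ x` is the order of its
coordinate with respect to a free generator of `L_ξ` (depending on `x`). -/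
theorem exists_secOrdAt_eq (hL : PicF.IsInvertible L) {x ξ : X} (h : ξ ⤳ x) :
    ∃ e : X.presheaf.stalk ξ ≃ₗ[X.presheaf.stalk ξ] L.presheaf.stalk ξ,
      ∀ s : Cyc.secFibre L ξ, Cyc.secOrdAt L ξ x h s = Cyc.ordAt x ξ h (θ e s) := by
  classical
  have ht : ∃ t : L.presheaf.stalk x, Submodule.span (X.presheaf.stalk x) {t} = ⊤ :=
    exists_span_eq_top hL x
  have htspan := Classical.choose_spec ht
  have hbij := bijective_smul_stalkSpecializes hL h (Classical.choose ht) htspan
  refine ⟨equivOfBijective _ hbij, fun s => ?_⟩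
  unfold Cyc.secOrdAt
  rw [dif_pos ht]
  set t' := L.presheaf.stalkSpecializes h (Classical.choose ht) with ht'_def
  set e := equivOfBijective t' hbij with he_def
  have hθt : θ e (Submodule.Quotient.mk t') = 1 := by
    rw [θ_mk, equivOfBijective_symm_self, map_one]
  have hφ : ∃ φ : X.presheaf.stalk ξ, s =
      φ • (Submodule.Quotient.mk t' : Cyc.secFibre L ξ) := by
    obtain ⟨φ, hφ⟩ := IsLocalRing.residue_surjective (θ e s)
    refine ⟨φ, θ_injective e ?_⟩
    rw [θ_smul, hθt, hφ, mul_one]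
  rw [dif_pos hφ]
  have hspec := Classical.choose_spec hφ
  set φ := Classical.choose hφ with hφ_def
  have h1 : θ e s = IsLocalRing.residue _ φ := by
    conv_lhs => rw [hspec]
    rw [θ_smul, hθt, mul_one]
  change Cyc.ordAt x ξ h (IsLocalRing.residue _ φ) = _
  rw [h1]

/-- multiplicativity of the order of rational sections of an invertible module. -/
theorem secOrdAt_smul (hL : PicF.IsInvertible L) {x ξ : X} (h : ξ ⤳ x)
    (ρ : X.presheaf.stalk ξ) (s : Cyc.secFibre L ξ) (hρs : ρ • s ≠ 0) :
    Cyc.secOrdAt L ξ x h (ρ • s) =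
      Cyc.ordAt x ξ h (IsLocalRing.residue _ ρ) + Cyc.secOrdAt L ξ x h s := by
  obtain ⟨e, he⟩ := exists_secOrdAt_eq hL h
  rw [he, he, θ_smul]
  have h0 : IsLocalRing.residue _ ρ * θ e s ≠ 0 := by
    rw [← θ_smul]
    intro h0
    exact hρs (θ_injective e (by rw [h0, map_zero]))
  unfold Cyc.ordAt
  exact OrdFrac.ordFrac_mul (left_ne_zero_of_mul h0) (right_ne_zero_of_mul h0)

/-- two nonzero rational sections of an invertible module differ by a unit. -/
theorem exists_smul_eq (hL : PicF.IsInvertible L) (ξ : X) (s₁ s₂ : Cyc.secFibre L ξ)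
    (h₂ : s₂ ≠ 0) : ∃ ρ : X.presheaf.stalk ξ, s₁ = ρ • s₂ := by
  obtain ⟨t, ht⟩ := exists_span_eq_top hL ξ
  have hbij := bijective_smul_stalkSpecializes hL (specializes_refl ξ) t ht
  set e := equivOfBijective _ hbij
  have h0 : θ e s₂ ≠ 0 := fun h0 => h₂ (θ_injective e (by rw [h0, map_zero]))
  obtain ⟨ρ, hρ⟩ := IsLocalRing.residue_surjective (θ e s₁ * (θ e s₂)⁻¹)
  refine ⟨ρ, θ_injective e ?_⟩
  rw [θ_smul, hρ, inv_mul_cancel_right₀ h0]

end Groth.Agent.Lib.Seat28.C1Inv
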