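import Mathlib
import Groth.Prelude.Def_C1
import Groth.Agent.Lib.Seat28C1Inv

/-!
# The order of a rational section computed in a local frame (seat 28)

If `τ ∈ Γ(L, W)` freely generates all stalks of `L` on `W` and `ξ ⤳ x ∈ W`, then the order of a rational
section `s ∈ L(ξ)` along `ξ ⤳ x` is the order of the coordinate of `s` with respect to the germ of `τ` at `ξ`.
-/

set_option autoImplicit false
set_option linter.style.haveILetI false
universe u
open CategoryTheory AlgebraicGeometry TopologicalSpace Opposite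

namespace Groth.Agent.Lib.Seat28.C1Gen

open Groth.Agent.Lib.Helper2 Groth.Agent.Lib.Seat28.C1Inv

variable {X : Scheme.{u}} (L : X.Modules)

/-- `τ` freely generates all stalks of `L` over `W`. -/
def IsFrame (W : X.Opens) (τ : Γ(L, W)) : Prop :=
  ∀ (y : X) (hy : y ∈ W),
    Function.Bijective (fun c : X.presheaf.stalk y => c • L.presheaf.germ W y hy τ)

variable {L}

/-- the coordinate `L(y) → κ(y)` with respect to a frame -/
noncomputable def coord {W : X.Opens} {τ : Γ(L, W)} (hτ : IsFrame L W τ) (y : X) (hy : y ∈ W) :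
    Cyc.secFibre L y →ₗ[X.presheaf.stalk y] IsLocalRing.ResidueField (X.presheaf.stalk y) :=
  θ (equivOfBijective _ (hτ y hy))

lemma coord_injective {W : X.Opens} {τ : Γ(L, W)} (hτ : IsFrame L W τ) (y : X) (hy : y ∈ W) :
    Function.Injective (coord hτ y hy) := θ_injective _

lemma coord_ne_zero {W : X.Opens} {τ : Γ(L, W)} (hτ : IsFrame L W τ) (y : X) (hy : y ∈ W)
    {s : Cyc.secFibre L y} (hs : s ≠ 0) : coord hτ y hy s ≠ 0 :=
  fun h0 => hs (coord_injective hτ y hy (by rw [h0, map_zero]))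

lemma coord_smul {W : X.Opens} {τ : Γ(L, W)} (hτ : IsFrame L W τ) (y : X) (hy : y ∈ W)
    (a : X.presheaf.stalk y) (s : Cyc.secFibre L y) :
    coord hτ y hy (a • s) = IsLocalRing.residue _ a * coord hτ y hy s := θ_smul _ a s

lemma coord_mk_smul_germ {W : X.Opens} {τ : Γ(L, W)} (hτ : IsFrame L W τ) (y : X) (hy : y ∈ W)
    (a : X.presheaf.stalk y) :
    coord hτ y hy (Submodule.Quotient.mk (a • L.presheaf.germ W y hy τ)) =
      IsLocalRing.residue _ a := by
  unfold coord
  rw [θ_mk]
  congr 1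
  rw [LinearEquiv.symm_apply_eq]
  rfl

/-- every rational section is a multiple of the frame. -/
lemma exists_eq_smul_germ {W : X.Opens} {τ : Γ(L, W)} (hτ : IsFrame L W τ) (y : X) (hy : y ∈ W)
    (s : Cyc.secFibre L y) :
    ∃ a : X.presheaf.stalk y, s = Submodule.Quotient.mk (a • L.presheaf.germ W y hy τ) := by
  obtain ⟨m, rfl⟩ := Submodule.Quotient.mk_surjective _ s
  obtain ⟨a, ha⟩ := (hτ y hy).2 m
  exact ⟨a, by rw [← ha]⟩

/-- change of frame: if `τ' = r • τ` then the coordinates differ by the residue of the germ of `r`. -/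
lemma coord_change {W : X.Opens} {τ τ' : Γ(L, W)} (hτ : IsFrame L W τ) (hτ' : IsFrame L W τ')
    (r : Γ(X, W)) (hr : τ' = r • τ) (y : X) (hy : y ∈ W) (s : Cyc.secFibre L y) :
    coord hτ y hy s =
      coord hτ' y hy s * IsLocalRing.residue _ (X.presheaf.germ W y hy r) := by
  obtain ⟨a, rfl⟩ := exists_eq_smul_germ hτ' y hy s
  rw [coord_mk_smul_germ]
  have : a • L.presheaf.germ W y hy τ' =
      (a * X.presheaf.germ W y hy r) • L.presheaf.germ W y hy τ := by
    rw [hr, QCoh.germ_smul, mul_smul]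
  rw [this, coord_mk_smul_germ, map_mul]

/-- restricting a frame does not change coordinates. -/
lemma isFrame_res {W W' : X.Opens} (h : W' ≤ W) {τ : Γ(L, W)} (hτ : IsFrame L W τ) :
    IsFrame L W' (L.presheaf.map (homOfLE h).op τ) := by
  intro y hy
  have := TopCat.Presheaf.germ_res_apply L.presheaf (homOfLE h) y hy τ
  rw [this]
  exact hτ y (h hy)

lemma coord_res {W W' : X.Opens} (h : W' ≤ W) {τ : Γ(L, W)} (hτ : IsFrame L W τ)
    (y : X) (hy : y ∈ W') (s : Cyc.secFibre L y) :
    coord (isFrame_res h hτ) y hy s = coord hτ y (h hy) s := by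
  obtain ⟨a, rfl⟩ := exists_eq_smul_germ hτ y (h hy) s
  rw [coord_mk_smul_germ]
  have := TopCat.Presheaf.germ_res_apply L.presheaf (homOfLE h) y hy τ
  rw [← this, coord_mk_smul_germ]

/-- the order of a rational section computed in a frame around `x`. -/
theorem secOrdAt_eq_coord {W : X.Opens} {τ : Γ(L, W)} (hτ : IsFrame L W τ) {x ξ : X} (h : ξ ⤳ x)
    (hx : x ∈ W) (s : Cyc.secFibre L ξ) :
    Cyc.secOrdAt L ξ x h s = Cyc.ordAt x ξ h (coord hτ ξ (h.mem_open W.isOpen hx) s) := by
  classical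
  have hξW : ξ ∈ W := h.mem_open W.isOpen hx
  unfold Cyc.secOrdAt
  have ht : ∃ t : L.presheaf.stalk x, Submodule.span (X.presheaf.stalk x) {t} = ⊤ := by
    refine ⟨L.presheaf.germ W x hx τ, ?_⟩
    rw [eq_top_iff]
    intro m _
    obtain ⟨c, rfl⟩ := (hτ x hx).2 m
    exact Submodule.smul_mem _ _ (Submodule.subset_span rfl)
  rw [dif_pos ht]
  have htspan := Classical.choose_spec ht
  set t := Classical.choose ht with ht_def
  -- `t = u • germ τ` with `u` a unit
  obtain ⟨u, hu⟩ := (hτ x hx).2 t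
  have hu' : u • L.presheaf.germ W x hx τ = t := hu
  have h1 : L.presheaf.germ W x hx τ ∈ Submodule.span (X.presheaf.stalk x) {t} := by
    rw [htspan]; trivial
  obtain ⟨v, hv⟩ := Submodule.mem_span_singleton.1 h1
  have hvu : v * u = 1 := by
    apply (hτ x hx).1
    change (v * u) • L.presheaf.germ W x hx τ = (1 : X.presheaf.stalk x) • _
    rw [mul_smul, hu', hv, one_smul]
  have huU : IsUnit u := IsUnit.of_mul_eq_one_right v hvu
  set u' := X.presheaf.stalkSpecializes h u with hu'_def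
  have huU' : IsUnit u' := huU.map (X.presheaf.stalkSpecializes h).hom
  have e1 : L.presheaf.stalkSpecializes h (L.presheaf.germ W x hx τ) =
      L.presheaf.germ W ξ hξW τ :=
    ConcreteCategory.congr_hom (TopCat.Presheaf.germ_stalkSpecializes L.presheaf hx h) τ
  have e2 : L.presheaf.stalkSpecializes h t = u' • L.presheaf.germ W ξ hξW τ := by
    rw [← hu', stalkSpecializes_smul, e1]
  have hθt : coord hτ ξ hξW (Submodule.Quotient.mk (L.presheaf.stalkSpecializes h t)) =
      IsLocalRing.residue _ u' := by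
    rw [e2, coord_mk_smul_germ]
  have hru' : IsLocalRing.residue (X.presheaf.stalk ξ) u' ≠ 0 := (huU'.map _).ne_zero
  have hφ : ∃ φ : X.presheaf.stalk ξ, s =
      φ • (Submodule.Quotient.mk (L.presheaf.stalkSpecializes h t) : Cyc.secFibre L ξ) := by
    obtain ⟨φ, hφ⟩ := IsLocalRing.residue_surjective
      (coord hτ ξ hξW s * (IsLocalRing.residue (X.presheaf.stalk ξ) u')⁻¹)
    refine ⟨φ, coord_injective hτ ξ hξW ?_⟩
    rw [coord_smul, hθt, hφ, inv_mul_cancel_right₀ hru']
  rw [dif_pos hφ]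
  have hspec := Classical.choose_spec hφ
  set φ := Classical.choose hφ with hφ_def
  have h1 : coord hτ ξ hξW s = IsLocalRing.residue _ φ * IsLocalRing.residue _ u' := by
    conv_lhs => rw [hspec]
    rw [coord_smul, hθt]
  have h2 : IsLocalRing.residue (X.presheaf.stalk ξ) φ =
      coord hτ ξ hξW s * (IsLocalRing.residue (X.presheaf.stalk ξ) u')⁻¹ := by
    rw [h1, mul_inv_cancel_right₀ hru']
  change Cyc.ordAt x ξ h (IsLocalRing.residue _ φ) = _
  rw [h2]
  by_cases hs : coord hτ ξ hξW s = 0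
  · rw [hs, zero_mul]
  · unfold Cyc.ordAt
    have hunit : CycAlg.ordFrac (Cyc.LocQuot x ξ h) (X.residueField ξ)
        (algebraMap (Cyc.LocQuot x ξ h) (X.residueField ξ)
          (Ideal.Quotient.mk (RingHom.ker (Cyc.specMap x ξ h)) u)) = 0 :=
      OrdFrac.ordFrac_algebraMap_of_isUnit (huU.map _)
    have hunit' : CycAlg.ordFrac (Cyc.LocQuot x ξ h) (X.residueField ξ)
        (IsLocalRing.residue (X.presheaf.stalk ξ) u') = 0 := hunit
    have gen : ∀ (a b : X.residueField ξ), a ≠ 0 → b ≠ 0 →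
        CycAlg.ordFrac (Cyc.LocQuot x ξ h) (X.residueField ξ) b = 0 →
        CycAlg.ordFrac (Cyc.LocQuot x ξ h) (X.residueField ξ) (a * b⁻¹) =
          CycAlg.ordFrac (Cyc.LocQuot x ξ h) (X.residueField ξ) a := by
      intro a b ha hb h0
      rw [OrdFrac.ordFrac_mul ha (inv_ne_zero hb), OrdFrac.ordFrac_inv, h0, neg_zero, add_zero]
    exact gen _ _ hs hru' hunit'

end Groth.Agent.Lib.Seat28.C1Gen
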