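import Mathlib
import Groth.Prelude.Def_Cyc

/-!
# Points maximal under generization in their fibre (seat 28)

* `IsFibMax f x`: `x` is maximal under generization inside its fibre `f⁻¹(f x)`.
* `exists_isFibMax_specializes`: every point has a generization in its fibre which is maximal.
* `delta_le`, `delta_eq_iff`: for a dimension function `δ'` on the source with `δ' = δ ∘ f + c` at the maximal points
  of fibres, `δ' x ≤ δ (f x) + c` with equality iff `x` is maximal in its fibre.
* `isFibMax_comp`: for `g` generalizing (e.g. flat), a point maximal in its fibre for `g ≫ f` is maximal in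
  its `g`-fibre and has image maximal in its `f`-fibre.
-/

set_option autoImplicit false
set_option linter.style.haveILetI false
universe u
open CategoryTheory AlgebraicGeometry TopologicalSpace

namespace Groth.Agent.Lib.Seat28.FibreMax

variable {X Y Z : Scheme.{u}}

/-- `x` is maximal under generization inside its fibre. -/
def IsFibMax (f : X ⟶ Y) (x : X) : Prop := ∀ y : X, f y = f x → y ⤳ x → y = x

/-- every point has a generization in its fibre which is maximal under generization in the fibre. -/
theorem exists_isFibMax_specializes (f : X ⟶ Y) (x : X) :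
    ∃ y : X, f y = f x ∧ y ⤳ x ∧ IsFibMax f y := by
  haveI : QuasiSober ↥(f ⁻¹' {f x}) :=
    (f.fiberHomeo (f x)).symm.isClosedEmbedding.quasiSober
  let xF : ↥(f ⁻¹' {f x}) := ⟨x, rfl⟩
  obtain ⟨yF, hyF⟩ := QuasiSober.sober (isIrreducible_irreducibleComponent (x := xF))
    isClosed_irreducibleComponent
  have hyx : yF ⤳ xF := by
    rw [specializes_iff_mem_closure, hyF.def]
    exact mem_irreducibleComponent
  refine ⟨yF.1, yF.2, (subtype_specializes_iff yF xF).1 hyx, ?_⟩
  intro z hz hzy
  have hzF : z ∈ f ⁻¹' {f x} := by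
    change f z = f x
    rw [hz]
    exact yF.2
  let zF : ↥(f ⁻¹' {f x}) := ⟨z, hzF⟩
  have hzyF : zF ⤳ yF := (subtype_specializes_iff zF yF).2 hzy
  have hsub : irreducibleComponent xF ⊆ closure {zF} := by
    rw [← hyF.def]
    exact hzyF.closure_subset  
  have hmax : irreducibleComponent xF ∈ irreducibleComponents ↥(f ⁻¹' {f x}) :=
    irreducibleComponent_mem_irreducibleComponents xF
  have hle : closure {zF} ⊆ irreducibleComponent xF :=
    hmax.2 (isIrreducible_singleton.closure) hsub
  have hgen : IsGenericPoint zF (irreducibleComponent xF) := subset_antisymm hle hsub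
  have : zF = yF := hgen.eq hyF
  exact congrArg Subtype.val this

/-- a dimension function which is `δ ∘ f + c` at maximal points of fibres is at most `δ ∘ f + c`. -/
theorem delta_le (f : X ⟶ Y) (δ : Y → ℤ) (δ' : X → ℤ) (hδ' : Cyc.IsDimFun X δ') (c : ℤ)
    (hc : ∀ x : X, (∀ y, f y = f x → y ⤳ x → y = x) → δ' x = δ (f x) + c) (x : X) :
    δ' x ≤ δ (f x) + c := by
  obtain ⟨y, hy1, hy2, hy3⟩ := exists_isFibMax_specializes f x
  have := hc y hy3
  rw [hy1] at this
  rw [← this]
  by_cases hxy : y = x
  · rw [hxy]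
  · exact (hδ' y x hy2 hxy).1.le

theorem delta_eq_iff (f : X ⟶ Y) (δ : Y → ℤ) (δ' : X → ℤ) (hδ' : Cyc.IsDimFun X δ') (c : ℤ)
    (hc : ∀ x : X, (∀ y, f y = f x → y ⤳ x → y = x) → δ' x = δ (f x) + c) (x : X) :
    δ' x = δ (f x) + c ↔ IsFibMax f x := by
  refine ⟨fun h => ?_, fun h => hc x h⟩
  obtain ⟨y, hy1, hy2, hy3⟩ := exists_isFibMax_specializes f x
  have hy := hc y hy3
  rw [hy1, ← h] at hy
  by_cases hxy : y = x
  · rw [← hxy]; exact hy3
  · exact absurd hy (hδ' y x hy2 hxy).1.ne'

/-- for `f` generalizing: a point maximal in its fibre for `g ≫ f`... here `g : X ⟶ Y`, `f : Y ⟶ Z`. -/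
theorem isFibMax_of_comp (g : X ⟶ Y) (f : Y ⟶ Z) (hg : GeneralizingMap g) (x : X)
    (h : IsFibMax (g ≫ f) x) : IsFibMax g x ∧ IsFibMax f (g x) := by
  constructor
  · intro y hy hyx
    apply h y _ hyx
    change f (g y) = f (g x)
    rw [hy]
  · intro y' hy' hy'x
    obtain ⟨y, hyx, hgy⟩ := hg hy'x
    have : y = x := by
      apply h y _ hyx
      change f (g y) = f (g x)
      rw [hgy, hy']
    rw [← hgy, this]

end Groth.Agent.Lib.Seat28.FibreMax
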