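import Mathlib
import Groth.Agent.Lib.Seat28FibreMax

/-!
# The fibre ring at a fibre-maximal point has finite nonzero length (seat 28)

For `f : X ⟶ Y` with `X` locally Noetherian and `x` maximal under generization in its fibre, the ring
`O_{X,x} / 𝔪_{f x} O_{X,x}` is a nonzero Artinian local ring, so its length over `O_{X,x}` is finite and nonzero.
-/

set_option autoImplicit false
set_option linter.style.haveILetI false
universe u
open CategoryTheory AlgebraicGeometry TopologicalSpace IsLocalRing

namespace Groth.Agent.Lib.Seat28.FibreLen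

open Groth.Agent.Lib.Seat28.FibreMax

variable {X Y : Scheme.{u}}

/-- the ideal of the fibre in the local ring of a point. -/
noncomputable abbrev fibIdeal (f : X ⟶ Y) (x : X) : Ideal (X.presheaf.stalk x) :=
  Ideal.map (f.stalkMap x).hom (maximalIdeal (Y.presheaf.stalk (f x)))

lemma fibIdeal_le_maximalIdeal (f : X ⟶ Y) (x : X) :
    fibIdeal f x ≤ maximalIdeal (X.presheaf.stalk x) := by
  rw [fibIdeal, Ideal.map_le_iff_le_comap]
  intro a ha
  rw [Ideal.mem_comap]
  by_contra hna
  have hu : IsUnit ((f.stalkMap x).hom a) := by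
    by_contra hnu
    exact hna hnu
  have hu' : IsUnit a := (isUnit_map_iff (f.stalkMap x).hom a).1 hu
  exact ha hu'

/-- a prime of the local ring of a fibre-maximal point containing the fibre ideal is the maximal ideal. -/
theorem eq_maximalIdeal_of_isFibMax (f : X ⟶ Y) (x : X) (hx : IsFibMax f x)
    (q : Ideal (X.presheaf.stalk x)) [hq : q.IsPrime] (hle : fibIdeal f x ≤ q) :
    q = maximalIdeal (X.presheaf.stalk x) := by
  let qp : ↥(Spec (X.presheaf.stalk x)) := (⟨q, hq⟩ : PrimeSpectrum (X.presheaf.stalk x))
  let z : X := X.fromSpecStalk x qp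
  have hzx : z ⤳ x := by
    have : z ∈ Set.range (X.fromSpecStalk x) := ⟨qp, rfl⟩
    rw [Scheme.range_fromSpecStalk] at this
    exact this
  -- the image of `z` is `f x`
  have hcomap : Ideal.comap (f.stalkMap x).hom q = maximalIdeal (Y.presheaf.stalk (f x)) := by
    have hmax : (maximalIdeal (Y.presheaf.stalk (f x))).IsMaximal := inferInstance
    have hle' : maximalIdeal (Y.presheaf.stalk (f x)) ≤ Ideal.comap (f.stalkMap x).hom q :=
      Ideal.map_le_iff_le_comap.1 hle
    have hne : Ideal.comap (f.stalkMap x).hom q ≠ ⊤ := (Ideal.IsPrime.comap _).ne_top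
    exact (hmax.eq_of_le hne hle').symm
  have hfz : f z = f x := by
    have h1 : f z = (X.fromSpecStalk x ≫ f) qp := rfl
    rw [h1, ← Scheme.SpecMap_stalkMap_fromSpecStalk]
    have h2 : (Spec.map (f.stalkMap x)) qp = closedPoint (Y.presheaf.stalk (f x)) := by
      apply PrimeSpectrum.ext
      exact hcomap
    rw [Scheme.Hom.comp_apply, h2]
    exact Scheme.fromSpecStalk_closedPoint
  have hzx' : z = x := hx z hfz hzx
  have hinj : Function.Injective (X.fromSpecStalk x) :=
    (X.fromSpecStalk x).isEmbedding.injective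
  have : qp = closedPoint (X.presheaf.stalk x) := by
    apply hinj
    rw [Scheme.fromSpecStalk_closedPoint]
    exact hzx'
  exact congrArg PrimeSpectrum.asIdeal this

/-- the fibre ring at a fibre-maximal point of a locally Noetherian scheme has finite length. -/
theorem length_ne_top_of_isFibMax [IsLocallyNoetherian X] (f : X ⟶ Y) (x : X) (hx : IsFibMax f x) :
    Module.length (X.presheaf.stalk x) (X.presheaf.stalk x ⧸ fibIdeal f x) ≠ ⊤ := by
  set R := X.presheaf.stalk x ⧸ fibIdeal f x
  haveI : IsNoetherianRing (X.presheaf.stalk x) := inferInstance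
  haveI : IsNoetherianRing R := inferInstance
  haveI : Ring.KrullDimLE 0 R := by
    rw [Ring.krullDimLE_zero_iff]
    intro P hP
    have hq : (Ideal.comap (Ideal.Quotient.mk (fibIdeal f x)) P).IsPrime := Ideal.IsPrime.comap _
    have hle : fibIdeal f x ≤ Ideal.comap (Ideal.Quotient.mk (fibIdeal f x)) P := by
      intro a ha
      rw [Ideal.mem_comap, Ideal.Quotient.eq_zero_iff_mem.2 ha]
      exact P.zero_mem
    have heq := eq_maximalIdeal_of_isFibMax f x hx _ hle
    have hmax : (Ideal.comap (Ideal.Quotient.mk (fibIdeal f x)) P).IsMaximal := by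
      rw [heq]; infer_instance
    have hP' : P = Ideal.map (Ideal.Quotient.mk (fibIdeal f x))
        (Ideal.comap (Ideal.Quotient.mk (fibIdeal f x)) P) :=
      (Ideal.map_comap_of_surjective _ Ideal.Quotient.mk_surjective P).symm
    rw [hP']
    exact Ideal.IsMaximal.map_of_surjective_of_ker_le Ideal.Quotient.mk_surjective
      (by rw [Ideal.mk_ker]; exact hle)
  haveI : IsArtinianRing R := isArtinianRing_iff_krullDimLE_zero.mpr inferInstance
  have h1 : Module.length R R ≠ ⊤ := Module.length_ne_top
  have h2 : Module.length (X.presheaf.stalk x) R = Module.length R R :=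
    Module.length_eq_of_surjective (Ideal.Quotient.mk_surjective (I := fibIdeal f x))
  rw [h2]
  exact h1

/-- the fibre ring is nonzero. -/
theorem length_ne_zero (f : X ⟶ Y) (x : X) :
    Module.length (X.presheaf.stalk x) (X.presheaf.stalk x ⧸ fibIdeal f x) ≠ 0 := by
  rw [Ne, Module.length_eq_zero_iff]
  intro h
  have : fibIdeal f x = ⊤ := Ideal.Quotient.subsingleton_iff.1 h
  have h2 := fibIdeal_le_maximalIdeal f x
  rw [this] at h2
  exact (maximalIdeal.isMaximal (X.presheaf.stalk x)).ne_top (top_le_iff.1 h2)

/-- the integer length of the fibre ring at a fibre-maximal point is nonzero. -/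
theorem toNat_length_ne_zero [IsLocallyNoetherian X] (f : X ⟶ Y) (x : X) (hx : IsFibMax f x) :
    (Module.length (X.presheaf.stalk x) (X.presheaf.stalk x ⧸ fibIdeal f x)).toNat ≠ 0 := by
  rw [Ne, ENat.toNat_eq_zero, not_or]
  exact ⟨length_ne_zero f x, length_ne_top_of_isFibMax f x hx⟩

end Groth.Agent.Lib.Seat28.FibreLen
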