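import Mathlib
import Groth.Agent.Lib.Seat12EulerChar

/-!
# Orders of vanishing and flat local homomorphisms (seat 28)

Pure commutative algebra.

* `length_quot_span_eq_sum` (Stacks 02QF for `M = C`): for a Noetherian local ring `C` of dimension one and a
  nonzerodivisor `c`, `length (C/cC) = ∑_{𝔮 minimal} length (C_𝔮) · length (C/(𝔮 + cC))`.
-/

set_option autoImplicit false
set_option linter.style.haveILetI false
universe u
open IsLocalRing TensorProduct

namespace Groth.Agent.Lib.Seat28.FlatOrd

open Groth.Agent.Lib.Seat12.EulerChar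

section E1

variable {C : Type u} [CommRing C]

/-- multiplication by `c` on a `C`-module `N`. -/
noncomputable abbrev mulBy (N : Type u) [AddCommGroup N] [Module C N] (c : C) : N →ₗ[C] N :=
  LinearMap.lsmul C N c

lemma rid_lTensor (N : Type u) [AddCommGroup N] [Module C N] (c : C) (x : N ⊗[C] C) :
    TensorProduct.rid C N ((mulBy C c).lTensor N x) = c • TensorProduct.rid C N x := by
  induction x using TensorProduct.induction_on with
  | zero => simp
  | tmul a m => simp [smul_smul]
  | add x y hx hy => simp only [map_add, hx, hy, smul_add]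

lemma range_mulBy (c : C) : LinearMap.range (mulBy C c) = Ideal.span {c} := by
  ext x
  rw [LinearMap.mem_range, Ideal.mem_span_singleton']
  constructor
  · rintro ⟨y, rfl⟩
    exact ⟨y, by simp [mul_comm]⟩
  · rintro ⟨y, rfl⟩
    exact ⟨y, by simp [mul_comm]⟩

lemma lK_quot_eq_zero (p : Ideal C) [p.IsPrime] (c : C) (hc : c ∉ p) :
    lK (mulBy C c) (C ⧸ p) = 0 := by
  unfold lK
  rw [Module.length_eq_zero_iff, Submodule.subsingleton_iff_eq_bot, LinearMap.ker_eq_bot]
  intro x y hxy
  apply (TensorProduct.rid C (C ⧸ p)).injective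
  have h := congrArg (TensorProduct.rid C (C ⧸ p)) hxy
  rw [rid_lTensor, rid_lTensor] at h
  set a := TensorProduct.rid C (C ⧸ p) x
  set b := TensorProduct.rid C (C ⧸ p) y
  obtain ⟨a', ha'⟩ := Ideal.Quotient.mk_surjective a
  obtain ⟨b', hb'⟩ := Ideal.Quotient.mk_surjective b
  rw [← ha', ← hb'] at h ⊢
  rw [Algebra.smul_def, Algebra.smul_def] at h
  have hc0 : (algebraMap C (C ⧸ p)) c ≠ 0 := by
    intro h0
    exact hc (Ideal.Quotient.eq_zero_iff_mem.1 h0)
  exact mul_left_cancel₀ hc0 h

lemma lC_quot_eq (p : Ideal C) (c : C) :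
    lC (mulBy C c) (C ⧸ p) = Module.length C (C ⧸ (p ⊔ Ideal.span {c})) := by
  unfold lC
  -- the surjection `C → (C/p ⊗ C)/range`
  let ψ : C →ₗ[C] ((C ⧸ p) ⊗[C] C) ⧸ LinearMap.range ((mulBy C c).lTensor (C ⧸ p)) :=
    (Submodule.mkQ _) ∘ₗ (TensorProduct.rid C (C ⧸ p)).symm.toLinearMap ∘ₗ (Submodule.mkQ p)
  have hsurj : Function.Surjective ψ := by
    refine (Submodule.mkQ_surjective _).comp ?_
    exact (TensorProduct.rid C (C ⧸ p)).symm.surjective.comp (Submodule.mkQ_surjective p)
  have hker : LinearMap.ker ψ = p ⊔ Ideal.span {c} := by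
    ext x
    rw [LinearMap.mem_ker]
    change Submodule.Quotient.mk ((TensorProduct.rid C (C ⧸ p)).symm (Submodule.Quotient.mk x)) = 0 ↔ _
    rw [Submodule.Quotient.mk_eq_zero, LinearMap.mem_range]
    constructor
    · rintro ⟨y, hy⟩
      have h := congrArg (TensorProduct.rid C (C ⧸ p)) hy
      rw [rid_lTensor, LinearEquiv.apply_symm_apply] at h
      obtain ⟨b, hb⟩ := Ideal.Quotient.mk_surjective (TensorProduct.rid C (C ⧸ p) y)
      rw [← hb] at h
      have h2 : x - c * b ∈ p := by
        rw [← Ideal.Quotient.eq]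
        exact h.symm
      have : x = (x - c * b) + b * c := by ring
      rw [this]
      exact Submodule.add_mem_sup h2 (Ideal.mem_span_singleton'.2 ⟨b, rfl⟩)
    · intro hx
      obtain ⟨y, hy, z, hz, rfl⟩ := Submodule.mem_sup.1 hx
      obtain ⟨b, rfl⟩ := Ideal.mem_span_singleton'.1 hz
      refine ⟨(TensorProduct.rid C (C ⧸ p)).symm (Submodule.Quotient.mk b), ?_⟩
      apply (TensorProduct.rid C (C ⧸ p)).injective
      rw [rid_lTensor, LinearEquiv.apply_symm_apply, LinearEquiv.apply_symm_apply]
      have : (Submodule.Quotient.mk (y + b * c) : C ⧸ p) = Submodule.Quotient.mk (b * c) := by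
        rw [Submodule.Quotient.eq]
        simpa using hy
      rw [this, ← Submodule.Quotient.mk_smul, smul_eq_mul, mul_comm]
  have e := ψ.quotKerEquivOfSurjective hsurj
  rw [← e.length_eq]
  exact (Submodule.quotEquivOfEq _ _ hker).length_eq

/-- a quotient of a Noetherian ring all of whose primes are maximal has finite length. -/
theorem length_quot_ne_top_of_forall_isMaximal [IsNoetherianRing C] (J : Ideal C)
    (h : ∀ P : Ideal C, P.IsPrime → J ≤ P → P.IsMaximal) :
    Module.length C (C ⧸ J) ≠ ⊤ := by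
  haveI : Ring.KrullDimLE 0 (C ⧸ J) := by
    rw [Ring.krullDimLE_zero_iff]
    intro P hP
    have hq : (Ideal.comap (Ideal.Quotient.mk J) P).IsPrime := Ideal.IsPrime.comap _
    have hle : J ≤ Ideal.comap (Ideal.Quotient.mk J) P := by
      intro a ha
      rw [Ideal.mem_comap, Ideal.Quotient.eq_zero_iff_mem.2 ha]
      exact P.zero_mem
    have hmax := h _ hq hle
    have hP' : P = Ideal.map (Ideal.Quotient.mk J) (Ideal.comap (Ideal.Quotient.mk J) P) :=
      (Ideal.map_comap_of_surjective _ Ideal.Quotient.mk_surjective P).symm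
    rw [hP']
    exact Ideal.IsMaximal.map_of_surjective_of_ker_le Ideal.Quotient.mk_surjective
      (by rw [Ideal.mk_ker]; exact hle)
  haveI : IsArtinianRing (C ⧸ J) := isArtinianRing_iff_krullDimLE_zero.mpr inferInstance
  have h1 : Module.length (C ⧸ J) (C ⧸ J) ≠ ⊤ := Module.length_ne_top
  have h2 : Module.length C (C ⧸ J) = Module.length (C ⧸ J) (C ⧸ J) :=
    Module.length_eq_of_surjective (Ideal.Quotient.mk_surjective (I := J))
  rw [h2]
  exact h1

/-- Stacks 02QF for `M = C`: in a one-dimensional Noetherian local ring, the length of `C/cC` for a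
nonzerodivisor `c` is the sum over the minimal primes `𝔮` of `length (C_𝔮) · length (C/(𝔮 + cC))`. -/
theorem length_quot_span_eq_sum [IsNoetherianRing C] [IsLocalRing C] (hC : ringKrullDim C = 1) (c : C)
    (hc : c ∈ nonZeroDivisors C) :
    ((Module.length C (C ⧸ Ideal.span {c})).toNat : ℤ) =
      ∑ᶠ (p : PrimeSpectrum C) (_ : p.asIdeal ∈ minimalPrimes C),
        ((Module.length (Localization.AtPrime p.asIdeal) (Localization.AtPrime p.asIdeal)).toNat : ℤ) *
          ((Module.length C (C ⧸ (p.asIdeal ⊔ Ideal.span {c}))).toNat : ℤ) := by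
  have hK1 : Ring.KrullDimLE 1 C := by
    rw [Ring.krullDimLE_iff, hC]; rfl
  have hnot : ∀ q ∈ minimalPrimes C, c ∉ q := by
    intro q hq hcq
    exact (Set.disjoint_left.1 (Ideal.disjoint_nonZeroDivisors_of_mem_minimalPrimes hq)) hcq hc
  have hfin : ∀ q ∈ minimalPrimes C, Module.length C (C ⧸ (q ⊔ Ideal.span {c})) ≠ ⊤ := by
    intro q hq
    apply length_quot_ne_top_of_forall_isMaximal
    intro P hP hle
    rcases Ring.krullDimLE_one_iff.1 hK1 P hP with hmin | hmax
    · exfalso
      have hqP : q ≤ P := le_sup_left.trans hle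
      have : P ≤ q := hmin.2 hq.1 hqP
      apply hnot q hq
      apply this
      apply hle
      exact Submodule.mem_sup_right (Ideal.subset_span rfl)
    · exact hmax
  have hmin : ∀ q ∈ minimalPrimes C,
      lK (mulBy C c) (C ⧸ q) ≠ ⊤ ∧ lC (mulBy C c) (C ⧸ q) ≠ ⊤ := by
    intro q hq
    haveI : q.IsPrime := hq.1.1
    rw [lK_quot_eq_zero q c (hnot q hq), lC_quot_eq]
    exact ⟨by simp, hfin q hq⟩
  have key := euler_char (mulBy C c) hC hmin
  have hker : LinearMap.ker (mulBy C c) = ⊥ := by
    rw [LinearMap.ker_eq_bot]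
    intro x y hxy
    have h1 : c * x = c * y := hxy
    have h2 : (x - y) * c = 0 := by
      rw [sub_mul, mul_comm x c, mul_comm y c, h1, sub_self]
    exact sub_eq_zero.1 ((mem_nonZeroDivisors_iff_right.1 hc) _ h2)
  rw [hker, range_mulBy] at key
  have h0 : Module.length C (⊥ : Submodule C C) = 0 := Module.length_eq_zero
  rw [h0] at key
  have key2 : ((Module.length C (C ⧸ Ideal.span {c})).toNat : ℤ) =
      - ∑ᶠ (p : PrimeSpectrum C) (_ : p.asIdeal ∈ minimalPrimes C),
        ((Module.length (Localization.AtPrime p.asIdeal) (Localization.AtPrime p.asIdeal)).toNat : ℤ) *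
          (((lK (mulBy C c) (C ⧸ p.asIdeal)).toNat : ℤ) - (lC (mulBy C c) (C ⧸ p.asIdeal)).toNat) := by
    rw [← key]; simp
  rw [key2, ← finsum_neg_distrib]
  apply finsum_congr
  intro p
  rw [← finsum_neg_distrib]
  apply finsum_congr
  intro hp
  haveI : p.asIdeal.IsPrime := p.2
  rw [lK_quot_eq_zero p.asIdeal c (hnot _ hp), lC_quot_eq]
  simp

end E1

section Transport

/-- The length of a ring over itself is invariant under ring isomorphisms. -/
theorem length_self_eq_of_ringEquiv {A B : Type*} [CommRing A] [CommRing B] (e : A ≃+* B) :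
    Module.length A A = Module.length B B := by
  let _ := (e : A →+* B).toAlgebra
  have h1 : Module.length A B = Module.length B B :=
    Module.length_eq_of_surjective (S := A) (R := B) (M := B) e.surjective
  have h2 : Module.length A A = Module.length A B := by
    refine LinearEquiv.length_eq
      { e.toAddEquiv with
        map_smul' := ?_ }
    intro a b
    change e (a * b) = e a * e b
    exact map_mul e a b
  rw [h2, h1]

/-- the length of `R/I` over `R` is its length over itself. -/
theorem length_quot_self {R : Type*} [CommRing R] (I : Ideal R) :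
    Module.length R (R ⧸ I) = Module.length (R ⧸ I) (R ⧸ I) :=
  Module.length_eq_of_surjective (Ideal.Quotient.mk_surjective (I := I))

/-- lengths of quotients by ideals with isomorphic quotient rings agree. -/
theorem length_quot_eq_of_ringEquiv {R S : Type*} [CommRing R] [CommRing S] (I : Ideal R) (J : Ideal S)
    (e : (R ⧸ I) ≃+* (S ⧸ J)) : Module.length R (R ⧸ I) = Module.length S (S ⧸ J) := by
  rw [length_quot_self, length_quot_self]
  exact length_self_eq_of_ringEquiv e

end Transport

section E2

variable {A B : Type u} [CommRing A] [CommRing B] [IsLocalRing A] [IsLocalRing B]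
  [Algebra A B] [Module.Flat A B] [IsLocalHom (algebraMap A B)]

/-- lengths of quotients along a flat local homomorphism. -/
theorem length_quot_map_eq (J : Ideal A) :
    Module.length B (B ⧸ J.map (algebraMap A B)) =
      Module.length A (A ⧸ J) * Module.length B (B ⧸ (maximalIdeal A).map (algebraMap A B)) := by
  rw [← IsLocalRing.length_baseChange A B (A ⧸ J)]
  exact (Algebra.TensorProduct.quotIdealMapEquivTensorQuot B J).toLinearEquiv.length_eq

omit [IsLocalRing A] [IsLocalRing B] [IsLocalHom (algebraMap A B)] in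
/-- an element outside a prime `𝔭` of `A` is a nonzerodivisor on `B/𝔭B` for `B` flat over `A`. -/
theorem mk_algebraMap_mem_nonZeroDivisors (𝔭 : Ideal A) [𝔭.IsPrime] (a : A) (ha : a ∉ 𝔭) :
    Ideal.Quotient.mk (𝔭.map (algebraMap A B)) (algebraMap A B a) ∈
      nonZeroDivisors (B ⧸ 𝔭.map (algebraMap A B)) := by
  have hreg : IsSMulRegular (A ⧸ 𝔭) a := by
    intro x y hxy
    obtain ⟨x, rfl⟩ := Ideal.Quotient.mk_surjective x
    obtain ⟨y, rfl⟩ := Ideal.Quotient.mk_surjective y
    have hxy' : Ideal.Quotient.mk 𝔭 a * Ideal.Quotient.mk 𝔭 x =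
        Ideal.Quotient.mk 𝔭 a * Ideal.Quotient.mk 𝔭 y := hxy
    have ha0 : Ideal.Quotient.mk 𝔭 a ≠ 0 := fun h0 => ha (Ideal.Quotient.eq_zero_iff_mem.1 h0)
    exact mul_left_cancel₀ ha0 hxy'
  have hreg2 : IsSMulRegular (B ⊗[A] (A ⧸ 𝔭)) (algebraMap A B a) :=
    IsSMulRegular.of_flat_of_isBaseChange (TensorProduct.isBaseChange A (A ⧸ 𝔭) B) hreg
  let e := (Algebra.TensorProduct.quotIdealMapEquivTensorQuot B 𝔭).toLinearEquiv
  rw [mem_nonZeroDivisors_iff_right]
  intro x hx
  have h1 : (algebraMap A B a) • x = (algebraMap A B a) • (0 : B ⧸ 𝔭.map (algebraMap A B)) := by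
    rw [smul_zero, Algebra.smul_def, mul_comm]
    exact hx
  have h2 := congrArg e h1
  rw [map_smul, map_smul] at h2
  have h3 := hreg2 h2
  exact e.injective h3

end E2

section Dim

lemma withBot_enat_le_zero_of_lt_one (x : WithBot ℕ∞) (h : x < 1) : x ≤ 0 := by
  induction x using WithBot.recBotCoe with
  | bot => exact bot_le
  | coe x =>
    have h1 : x < 1 := by exact_mod_cast h
    have : x = 0 := Order.lt_one_iff.1 h1
    subst this; rfl

/-- a local ring of dimension at most one with a nonunit nonzerodivisor has dimension one. -/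
theorem ringKrullDim_eq_one_of_nonZeroDivisor {C : Type*} [CommRing C] [IsLocalRing C]
    [Ring.KrullDimLE 1 C] (c : C) (hc : c ∈ nonZeroDivisors C) (hcu : ¬ IsUnit c) :
    ringKrullDim C = 1 := by
  refine le_antisymm (Ring.krullDimLE_iff.1 inferInstance) ?_
  by_contra hlt
  rw [not_le] at hlt
  have h0 : Ring.KrullDimLE 0 C := by
    rw [Ring.krullDimLE_iff]
    exact withBot_enat_le_zero_of_lt_one _ hlt
  have hnil : IsNilpotent c :=
    Ring.KrullDimLE.isNilpotent_iff_mem_maximalIdeal.2 hcu
  obtain ⟨n, hn⟩ := hnil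
  have hmem : c ^ n ∈ nonZeroDivisors C := pow_mem hc n
  rw [hn] at hmem
  exact zero_notMem_nonZeroDivisors hmem

end Dim

section LocQuot

variable {B : Type u} [CommRing B]

theorem length_localization_quot (P : Ideal B) (q : Ideal B) [q.IsPrime] (hPq : P ≤ q)
    (q' : Ideal (B ⧸ P)) [q'.IsPrime] (hq' : q' = q.map (Ideal.Quotient.mk P)) :
    Module.length (Localization.AtPrime q') (Localization.AtPrime q') =
      Module.length (Localization.AtPrime q)
        (Localization.AtPrime q ⧸ P.map (algebraMap B (Localization.AtPrime q))) := by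
  have hsub : Algebra.algebraMapSubmonoid (B ⧸ P) q.primeCompl = q'.primeCompl := by
    ext x
    rw [Algebra.algebraMapSubmonoid, Submonoid.mem_map, Ideal.mem_primeCompl_iff, hq']
    constructor
    · rintro ⟨y, hy, rfl⟩ hmem
      apply hy
      have : y ∈ Ideal.comap (Ideal.Quotient.mk P) (q.map (Ideal.Quotient.mk P)) := hmem
      rw [Ideal.comap_map_of_surjective _ Ideal.Quotient.mk_surjective, ← RingHom.ker_eq_comap_bot,
        Ideal.mk_ker, sup_eq_left.2 hPq] at this
      exact this
    · intro hx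
      obtain ⟨y, rfl⟩ := Ideal.Quotient.mk_surjective x
      refine ⟨y, ?_, rfl⟩
      intro hy
      exact hx (Ideal.mem_map_of_mem _ hy)
  haveI : IsLocalization q'.primeCompl
      (Localization.AtPrime q ⧸ P.map (algebraMap B (Localization.AtPrime q))) := by
    rw [← hsub]; infer_instance
  have e := IsLocalization.algEquiv q'.primeCompl (Localization.AtPrime q')
    (Localization.AtPrime q ⧸ P.map (algebraMap B (Localization.AtPrime q)))
  rw [length_quot_self]
  exact length_self_eq_of_ringEquiv e.toRingEquiv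

end LocQuot

section Main

variable {A B : Type u} [CommRing A] [CommRing B] [IsLocalRing A] [IsLocalRing B] [IsNoetherianRing B]
  [Algebra A B] [Module.Flat A B] [IsLocalHom (algebraMap A B)]

/-- **Orders of vanishing along a flat local homomorphism.** For `A → B` flat local, `𝔭` a prime of `A`,
`a ∉ 𝔭`, with `B/𝔭B` of dimension at most one:
`length_A (A/(𝔭 + a)) · length_B (B/𝔪_A B) = ∑_𝔮 length (B_𝔮/𝔭B_𝔮) · length_B (B/(𝔮 + a))`, the sum over the
primes `𝔮` of `B` minimal over `𝔭B`. -/
theorem flat_ord_formula (𝔭 : Ideal A) [𝔭.IsPrime] (a : A) (ha : a ∉ 𝔭)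
    (hdim : ∀ Q : Ideal B, Q.IsPrime → 𝔭.map (algebraMap A B) ≤ Q →
      Q ∈ (𝔭.map (algebraMap A B)).minimalPrimes ∨ Q = maximalIdeal B) :
    ((Module.length A (A ⧸ (𝔭 ⊔ Ideal.span {a}))).toNat : ℤ) *
        (Module.length B (B ⧸ (maximalIdeal A).map (algebraMap A B))).toNat =
      ∑ᶠ (q : PrimeSpectrum B) (_ : q.asIdeal ∈ (𝔭.map (algebraMap A B)).minimalPrimes),
        ((Module.length (Localization.AtPrime q.asIdeal)
          (Localization.AtPrime q.asIdeal ⧸ (𝔭.map (algebraMap A B)).map
            (algebraMap B (Localization.AtPrime q.asIdeal)))).toNat : ℤ) *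
        ((Module.length B (B ⧸ (q.asIdeal ⊔ Ideal.span {algebraMap A B a}))).toNat : ℤ) := by
  classical
  set P := 𝔭.map (algebraMap A B) with hP
  by_cases hau : IsUnit a
  · -- both sides vanish
    have h1 : 𝔭 ⊔ Ideal.span {a} = ⊤ :=
      Ideal.eq_top_of_isUnit_mem _ (Submodule.mem_sup_right (Ideal.subset_span rfl)) hau
    have h2 : ∀ q : Ideal B, q ⊔ Ideal.span {algebraMap A B a} = ⊤ := fun q =>
      Ideal.eq_top_of_isUnit_mem _ (Submodule.mem_sup_right (Ideal.subset_span rfl))
        (hau.map (algebraMap A B))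
    have h3 : Module.length A (A ⧸ (𝔭 ⊔ Ideal.span {a})) = 0 := by
      rw [h1, Module.length_eq_zero_iff]
      exact Ideal.Quotient.subsingleton_iff.2 rfl
    have h4 : ∀ q : Ideal B, Module.length B (B ⧸ (q ⊔ Ideal.span {algebraMap A B a})) = 0 := by
      intro q
      rw [h2 q, Module.length_eq_zero_iff]
      exact Ideal.Quotient.subsingleton_iff.2 rfl
    rw [h3]
    simp only [h4]
    simp
  · -- the main case
    have hPle : P ≤ maximalIdeal B := by
      rw [hP, Ideal.map_le_iff_le_comap]
      intro x hx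
      rw [Ideal.mem_comap]
      have hxm : x ∈ maximalIdeal A := IsLocalRing.le_maximalIdeal (Ideal.IsPrime.ne_top inferInstance) hx
      rw [mem_maximalIdeal, mem_nonunits_iff] at hxm ⊢
      exact fun h => hxm ((isUnit_map_iff (algebraMap A B) x).1 h)
    -- the ring `C = B/P` and the element `c`
    set c : B ⧸ P := Ideal.Quotient.mk P (algebraMap A B a) with hc
    have hcnzd : c ∈ nonZeroDivisors (B ⧸ P) := mk_algebraMap_mem_nonZeroDivisors 𝔭 a ha
    haveI : Nontrivial (B ⧸ P) :=
      Ideal.Quotient.nontrivial_iff.2 (fun h => (maximalIdeal.isMaximal B).ne_top (top_le_iff.1 (h ▸ hPle)))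
    haveI : IsLocalRing (B ⧸ P) := IsLocalRing.of_surjective' (Ideal.Quotient.mk P) Ideal.Quotient.mk_surjective
    have hcu : ¬ IsUnit c := by
      intro hu
      have hmem : algebraMap A B a ∈ maximalIdeal B := by
        rw [mem_maximalIdeal, mem_nonunits_iff]
        exact fun h => hau ((isUnit_map_iff (algebraMap A B) a).1 h)
      have : c ∈ (maximalIdeal B).map (Ideal.Quotient.mk P) := Ideal.mem_map_of_mem _ hmem
      have hne : (maximalIdeal B).map (Ideal.Quotient.mk P) ≠ ⊤ := by
        intro htop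
        have h1 := congrArg (Ideal.comap (Ideal.Quotient.mk P)) htop
        rw [Ideal.comap_map_of_surjective _ Ideal.Quotient.mk_surjective, ← RingHom.ker_eq_comap_bot,
          Ideal.mk_ker, sup_eq_left.2 hPle, Ideal.comap_top] at h1
        exact (maximalIdeal.isMaximal B).ne_top h1
      exact hne (Ideal.eq_top_of_isUnit_mem _ this hu)
    haveI hK1 : Ring.KrullDimLE 1 (B ⧸ P) := by
      apply Ring.KrullDimLE.mk₁
      intro I hI
      have hQ : (Ideal.comap (Ideal.Quotient.mk P) I).IsPrime := Ideal.IsPrime.comap _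
      have hle : P ≤ Ideal.comap (Ideal.Quotient.mk P) I := by
        intro x hx
        rw [Ideal.mem_comap, Ideal.Quotient.eq_zero_iff_mem.2 hx]
        exact I.zero_mem
      have hI' : I = Ideal.map (Ideal.Quotient.mk P) (Ideal.comap (Ideal.Quotient.mk P) I) :=
        (Ideal.map_comap_of_surjective _ Ideal.Quotient.mk_surjective I).symm
      rcases hdim _ hQ hle with h | h
      · left
        rw [Ideal.minimalPrimes_eq_comap] at h
        obtain ⟨I', hI'min, hI'eq⟩ := h
        have : I' = I := Ideal.comap_injective_of_surjective _ Ideal.Quotient.mk_surjective hI'eq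
        rw [← this]; exact hI'min
      · right
        rw [hI', h]
        exact Ideal.IsMaximal.map_of_surjective_of_ker_le Ideal.Quotient.mk_surjective
          (by rw [Ideal.mk_ker]; exact hPle)
    have hdim1 : ringKrullDim (B ⧸ P) = 1 := ringKrullDim_eq_one_of_nonZeroDivisor c hcnzd hcu
    have hE1 := length_quot_span_eq_sum hdim1 c hcnzd
    -- the left hand side
    have hA : Module.length B (B ⧸ (P ⊔ Ideal.span {algebraMap A B a})) =
        Module.length A (A ⧸ (𝔭 ⊔ Ideal.span {a})) *
          Module.length B (B ⧸ (maximalIdeal A).map (algebraMap A B)) := by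
      have h := length_quot_map_eq (B := B) (𝔭 ⊔ Ideal.span {a})
      rw [Ideal.map_sup, Ideal.map_span, Set.image_singleton] at h
      exact h
    have hB : Module.length (B ⧸ P) ((B ⧸ P) ⧸ Ideal.span {c}) =
        Module.length B (B ⧸ (P ⊔ Ideal.span {algebraMap A B a})) := by
      have h : Ideal.span {c} = (Ideal.span {algebraMap A B a}).map (Ideal.Quotient.mk P) := by
        rw [Ideal.map_span, Set.image_singleton]
      rw [h]
      exact length_quot_eq_of_ringEquiv _ _ (DoubleQuot.quotQuotEquivQuotSup P _)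
    have hLHS : ((Module.length A (A ⧸ (𝔭 ⊔ Ideal.span {a}))).toNat : ℤ) *
        (Module.length B (B ⧸ (maximalIdeal A).map (algebraMap A B))).toNat =
        ((Module.length (B ⧸ P) ((B ⧸ P) ⧸ Ideal.span {c})).toNat : ℤ) := by
      rw [hB, hA, ENat.toNat_mul]
      push_cast
      rfl
    rw [hLHS, hE1]
    -- reindexing
    let g : PrimeSpectrum (B ⧸ P) → PrimeSpectrum B := PrimeSpectrum.comap (Ideal.Quotient.mk P)
    have hginj : Function.Injective g :=
      PrimeSpectrum.comap_injective_of_surjective _ Ideal.Quotient.mk_surjective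
    let S : Set (PrimeSpectrum (B ⧸ P)) := {p | p.asIdeal ∈ minimalPrimes (B ⧸ P)}
    let T : Set (PrimeSpectrum B) := {q | q.asIdeal ∈ P.minimalPrimes}
    have hST : g '' S = T := by
      ext q
      constructor
      · rintro ⟨p, hp, rfl⟩
        change (g p).asIdeal ∈ P.minimalPrimes
        rw [Ideal.minimalPrimes_eq_comap]
        exact ⟨p.asIdeal, hp, rfl⟩
      · intro hq
        have hq' : q.asIdeal ∈ P.minimalPrimes := hq
        rw [Ideal.minimalPrimes_eq_comap] at hq'
        obtain ⟨I, hI, hIq⟩ := hq'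
        exact ⟨⟨I, hI.1.1⟩, hI, PrimeSpectrum.ext hIq⟩
    change ∑ᶠ p ∈ S, _ = ∑ᶠ q ∈ T, _
    rw [← hST, finsum_mem_image hginj.injOn]
    apply finsum_mem_congr rfl
    intro p hp
    have hgp : (g p).asIdeal = Ideal.comap (Ideal.Quotient.mk P) p.asIdeal := rfl
    have hPq : P ≤ (g p).asIdeal := by
      intro x hx
      rw [hgp, Ideal.mem_comap, Ideal.Quotient.eq_zero_iff_mem.2 hx]
      exact p.asIdeal.zero_mem
    have hmap : p.asIdeal = (g p).asIdeal.map (Ideal.Quotient.mk P) := by
      rw [hgp, Ideal.map_comap_of_surjective _ Ideal.Quotient.mk_surjective]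
    have h1 := length_localization_quot P (g p).asIdeal hPq p.asIdeal hmap
    have h2 : Module.length (B ⧸ P) ((B ⧸ P) ⧸ (p.asIdeal ⊔ Ideal.span {c})) =
        Module.length B (B ⧸ ((g p).asIdeal ⊔ Ideal.span {algebraMap A B a})) := by
      have h : p.asIdeal ⊔ Ideal.span {c} =
          ((g p).asIdeal ⊔ Ideal.span {algebraMap A B a}).map (Ideal.Quotient.mk P) := by
        rw [Ideal.map_sup, ← hmap, Ideal.map_span, Set.image_singleton]
      rw [h]
      have h' : P ⊔ ((g p).asIdeal ⊔ Ideal.span {algebraMap A B a}) =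
          (g p).asIdeal ⊔ Ideal.span {algebraMap A B a} :=
        sup_eq_right.2 (hPq.trans le_sup_left)
      exact length_quot_eq_of_ringEquiv _ _
        ((DoubleQuot.quotQuotEquivQuotSup P _).trans (Ideal.quotEquivOfEq h'))
    rw [h1, h2]

end Main

end Groth.Agent.Lib.Seat28.FlatOrd
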