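/-
Seat32 helper library: the length of `(K ⊗[k] L)_q` at a minimal prime `q` is a power of the exponential
characteristic, for `L/k` a finitely generated field extension (used for S1875).
-/
import Mathlib

namespace Groth.Agent.Lib.Seat32.LenPow

open TensorProduct

/-- The length of a ring over itself is invariant under ring isomorphisms. -/
theorem length_self_eq_of_ringEquiv {A B : Type*} [CommRing A] [CommRing B] (e : A ≃+* B) :
    Module.length A A = Module.length B B := by
  let _ := (e : A →+* B).toAlgebra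
  have h1 : Module.length A B = Module.length B B :=
    Module.length_eq_of_surjective (S := A) (R := B) (M := B) e.surjective
  have h2 : Module.length A A = Module.length A B := by
    refine LinearEquiv.length_eq
      { e.toAddEquiv with
        map_smul' := ?_ }
    intro a b
    change e (a * b) = e a * e b
    exact map_mul e a b
  rw [h2, h1]

/-- Every localization at a minimal prime has length a power of `p`. -/
def PowLen (p : ℕ) (R : Type*) [CommRing R] : Prop :=
  ∀ (q : Ideal R) [q.IsPrime], q ∈ minimalPrimes R →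
    ∃ n : ℕ, Module.length (Localization.AtPrime q) (Localization.AtPrime q) = (p ^ n : ℕ)

theorem PowLen.of_ringEquiv {p : ℕ} {R R' : Type*} [CommRing R] [CommRing R'] (e : R ≃+* R')
    (h : PowLen p R) : PowLen p R' := by
  intro q' _ hq'
  let q : Ideal R := q'.comap (e : R →+* R')
  have hqp : q.IsPrime := Ideal.comap_isPrime _ _
  have hq : q ∈ minimalPrimes R := by
    have := Ideal.minimalPrimes_comap_of_surjective (f := (e : R →+* R')) e.surjective hq'
    have h0 : Ideal.comap (e : R →+* R') ⊥ = ⊥ := Ideal.comap_bot_of_injective _ e.injective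
    rwa [h0] at this
  obtain ⟨n, hn⟩ := h q hq
  refine ⟨n, ?_⟩
  rw [← hn]
  symm
  apply length_self_eq_of_ringEquiv
  refine IsLocalization.ringEquivOfRingEquiv (M := q.primeCompl) (T := q'.primeCompl)
    (Localization.AtPrime q) (Localization.AtPrime q') e ?_
  ext x
  simp only [Submonoid.mem_map, Ideal.mem_primeCompl_iff]
  constructor
  · rintro ⟨y, hy, rfl⟩
    exact hy
  · intro hx
    refine ⟨e.symm x, ?_, by simp⟩
    change ¬ (e (e.symm x) ∈ q')
    simpa using hx

/-- If `R'` is a localization of `R` and `R'` has `PowLen`, then minimal primes of `R` disjoint from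
the submonoid have the length property. -/
theorem PowLen.of_isLocalization {p : ℕ} {R R' : Type*} [CommRing R] [CommRing R'] [Algebra R R']
    (M : Submonoid R) [IsLocalization M R'] (h : PowLen p R')
    (q : Ideal R) [q.IsPrime] (hq : q ∈ minimalPrimes R) (hd : Disjoint (M : Set R) (q : Set R)) :
    ∃ n : ℕ, Module.length (Localization.AtPrime q) (Localization.AtPrime q) = (p ^ n : ℕ) := by
  let q' : Ideal R' := q.map (algebraMap R R')
  have hq'p : q'.IsPrime := IsLocalization.isPrime_of_isPrime_disjoint M R' q inferInstance hd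
  have hu : q'.under R = q := IsLocalization.under_map_of_isPrime_disjoint M R' inferInstance hd
  have hq' : q' ∈ minimalPrimes R' := by
    have := IsLocalization.minimalPrimes_map M R' (⊥ : Ideal R)
    rw [Ideal.map_bot] at this
    change q' ∈ (⊥ : Ideal R').minimalPrimes
    rw [this, Set.mem_preimage, hu]
    exact hq
  obtain ⟨n, hn⟩ := h q' hq'
  refine ⟨n, ?_⟩
  rw [← hn]
  apply length_self_eq_of_ringEquiv
  haveI : IsLocalization.AtPrime (Localization.AtPrime q') (q'.comap (algebraMap R R')) :=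
    IsLocalization.isLocalization_isLocalization_atPrime_isLocalization M
      (Localization.AtPrime q') q'
  have hu' : q'.comap (algebraMap R R') = q := hu
  haveI : IsLocalization q.primeCompl (Localization.AtPrime q') := by
    have h2 : (q'.comap (algebraMap R R')).primeCompl = q.primeCompl := by
      ext x
      simp only [Ideal.mem_primeCompl_iff]
      rw [hu']
    rw [← h2]
    exact this
  exact (IsLocalization.algEquiv q.primeCompl (Localization.AtPrime q)
    (Localization.AtPrime q')).toRingEquiv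

theorem PowLen.of_tensor_isLocalization {p : ℕ} {F E E₀ L : Type*} [CommRing F] [CommRing E]
    [CommRing E₀] [CommRing L] [Algebra F E] [Algebra F L] [Algebra E E₀] [Algebra F E₀]
    [IsScalarTower F E E₀] (M : Submonoid E) [IsLocalization M E₀]
    (h : PowLen p (E₀ ⊗[F] L)) (q : Ideal (E ⊗[F] L)) [q.IsPrime]
    (hq : q ∈ minimalPrimes (E ⊗[F] L))
    (hd : ∀ m ∈ M, (m ⊗ₜ[F] (1 : L)) ∉ q) :
    ∃ n : ℕ, Module.length (Localization.AtPrime q) (Localization.AtPrime q) = (p ^ n : ℕ) := by
  have hloc : IsLocalization (Algebra.algebraMapSubmonoid (E ⊗[F] L) M)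
      ((E ⊗[F] L) ⊗[E] E₀) := IsLocalization.tensor E₀ M
  let e : (E ⊗[F] L) ⊗[E] E₀ ≃+* E₀ ⊗[F] L :=
    ((Algebra.TensorProduct.comm E (E ⊗[F] L) E₀).toRingEquiv).trans
      (Algebra.TensorProduct.cancelBaseChange F E E E₀ L).toRingEquiv
  have h' : PowLen p ((E ⊗[F] L) ⊗[E] E₀) := h.of_ringEquiv e.symm
  refine h'.of_isLocalization (Algebra.algebraMapSubmonoid (E ⊗[F] L) M) q hq ?_
  rw [Set.disjoint_left]
  rintro x ⟨m, hm, rfl⟩ hx
  refine hd m hm ?_
  simpa [Algebra.TensorProduct.algebraMap_apply] using hx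


section PI

variable (F L Q : Type*) [Field F] [Field L] [Field Q] [Algebra F L] [Algebra F Q]
  (p : ℕ) [ExpChar F p]

/-- In `Q ⊗[F] L` with `L/F` purely inseparable, every element has a `p`-power in `Q`. -/
theorem exists_pow_mem_range [IsPurelyInseparable F L] (a : Q ⊗[F] L) :
    ∃ N : ℕ, a ^ p ^ N ∈ (algebraMap Q (Q ⊗[F] L)).range := by
  have : ExpChar Q p := expChar_of_injective_algebraMap (algebraMap F Q).injective p
  have : ExpChar (Q ⊗[F] L) p :=
    expChar_of_injective_algebraMap (algebraMap Q (Q ⊗[F] L)).injective p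
  induction a using TensorProduct.induction_on with
  | zero =>
    refine ⟨0, 0, ?_⟩
    simp
  | tmul c l =>
    obtain ⟨N, f, hf⟩ := IsPurelyInseparable.pow_mem F p l
    refine ⟨N, f • c ^ p ^ N, ?_⟩
    rw [Algebra.TensorProduct.tmul_pow, ← hf, Algebra.TensorProduct.algebraMap_apply,
      Algebra.algebraMap_self, RingHom.id_apply, Algebra.algebraMap_eq_smul_one, TensorProduct.smul_tmul]
  | add a b ha hb =>
    obtain ⟨N₁, x, hx⟩ := ha
    obtain ⟨N₂, y, hy⟩ := hb
    refine ⟨N₁ + N₂, x ^ p ^ N₂ + y ^ p ^ N₁, ?_⟩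
    rw [add_pow_expChar_pow, map_add, map_pow, map_pow, hx, hy, ← pow_mul, ← pow_mul, ← pow_add,
      ← pow_add, add_comm N₂ N₁]

include p in
theorem isUnit_or_isNilpotent [IsPurelyInseparable F L] (a : Q ⊗[F] L) :
    IsUnit a ∨ IsNilpotent a := by
  obtain ⟨N, c, hc⟩ := exists_pow_mem_range F L Q p a
  have hp : p ^ N ≠ 0 := pow_ne_zero _ (expChar_pos F p).ne'
  by_cases h0 : c = 0
  · right
    refine ⟨p ^ N, ?_⟩
    rw [← hc, h0, map_zero]
  · left
    rw [← isUnit_pow_iff hp, ← hc]
    exact (isUnit_iff_ne_zero.mpr h0).map _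

include p in
theorem isLocalRing_tensor [IsPurelyInseparable F L] : IsLocalRing (Q ⊗[F] L) := by
  refine IsLocalRing.of_isUnit_or_isUnit_one_sub_self fun a => ?_
  rcases isUnit_or_isNilpotent F L Q p a with h | h
  · exact Or.inl h
  · exact Or.inr h.isUnit_one_sub

/-- If `x * p ^ b = p ^ a` in `ℕ∞` then `x` is a power of `p` (for `p` prime or `p = 1`). -/
theorem eq_pow_of_mul_pow_eq_pow {p : ℕ} (hp : p = 1 ∨ p.Prime) (x : ℕ∞) (a b : ℕ)
    (h : x * ((p ^ b : ℕ) : ℕ∞) = ((p ^ a : ℕ) : ℕ∞)) : ∃ n : ℕ, x = ((p ^ n : ℕ) : ℕ∞) := by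
  have hpos : 0 < p := by
    rcases hp with rfl | hp
    · exact one_pos
    · exact hp.pos
  have hb : ((p ^ b : ℕ) : ℕ∞) ≠ 0 := by
    exact_mod_cast (pow_pos hpos b).ne'
  have hx : x ≠ ⊤ := by
    rintro rfl
    rw [ENat.top_mul hb] at h
    exact ENat.top_ne_natCast _ h
  lift x to ℕ using hx
  have h' : x * p ^ b = p ^ a := by exact_mod_cast h
  rcases hp with rfl | hp
  · refine ⟨0, ?_⟩
    simp only [one_pow, mul_one] at h'
    simp [h']
  · have hdvd : x ∣ p ^ a := ⟨p ^ b, h'.symm⟩
    obtain ⟨n, -, rfl⟩ := (Nat.dvd_prime_pow hp).mp hdvd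
    exact ⟨n, rfl⟩

include p in
theorem powLen_of_isPurelyInseparable [FiniteDimensional F L] [IsPurelyInseparable F L] :
    PowLen p (Q ⊗[F] L) := by
  intro q _ hq
  have : IsLocalRing (Q ⊗[F] L) := isLocalRing_tensor F L Q p
  have hnil : ∀ a : Q ⊗[F] L, IsNilpotent a → a ∈ q := by
    rintro a ⟨n, hn⟩
    exact Ideal.IsPrime.mem_of_pow_mem inferInstance n (hn ▸ q.zero_mem)
  have hunits : q.primeCompl ≤ IsUnit.submonoid (Q ⊗[F] L) := by
    intro a ha
    rcases isUnit_or_isNilpotent F L Q p a with h | h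
    · exact h
    · exact absurd (hnil a h) ha
  let e : (Q ⊗[F] L) ≃ₐ[Q ⊗[F] L] Localization.AtPrime q :=
    IsLocalization.atUnits (Q ⊗[F] L) q.primeCompl hunits
  rw [← length_self_eq_of_ringEquiv e.toRingEquiv]
  have key := IsLocalRing.length_restrictScalars Q (Q ⊗[F] L) (Q ⊗[F] L)
  have h1 : Module.length Q (Q ⊗[F] L) = (Module.finrank F L : ℕ∞) := by
    rw [Module.length_eq_finrank, Module.finrank_baseChange]
  have h2 : Module.length (IsLocalRing.ResidueField Q) (IsLocalRing.ResidueField (Q ⊗[F] L)) =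
      Module.length Q (IsLocalRing.ResidueField (Q ⊗[F] L)) :=
    (Module.length_eq_of_surjective (S := Q) (R := IsLocalRing.ResidueField Q)
      (M := IsLocalRing.ResidueField (Q ⊗[F] L)) IsLocalRing.residue_surjective).symm
  have : ExpChar Q p := expChar_of_injective_algebraMap (algebraMap F Q).injective p
  have : IsPurelyInseparable Q (IsLocalRing.ResidueField (Q ⊗[F] L)) := by
    rw [isPurelyInseparable_iff_pow_mem Q p]
    intro x
    obtain ⟨a, rfl⟩ := IsLocalRing.residue_surjective x
    obtain ⟨N, c, hc⟩ := exists_pow_mem_range F L Q p a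
    refine ⟨N, c, ?_⟩
    rw [← map_pow, ← hc]
    rfl
  obtain ⟨a, ha⟩ := IsPurelyInseparable.finrank_eq_pow (F := F) L p
  obtain ⟨b, hb⟩ := IsPurelyInseparable.finrank_eq_pow (F := Q)
    (IsLocalRing.ResidueField (Q ⊗[F] L)) p
  rw [h1, h2, Module.length_eq_finrank, ha, hb] at key
  have hp : p = 1 ∨ p.Prime := by
    rcases ‹ExpChar F p› with _ | ⟨hp⟩
    · exact Or.inl rfl
    · exact Or.inr hp
  exact eq_pow_of_mul_pow_eq_pow hp _ a b key.symm

end PI

section Fin

variable (F L Q : Type*) [Field F] [Field L] [Algebra F L] (p : ℕ) [ExpChar F p]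

include p in
/-- Variant of `powLen_of_isPurelyInseparable` for a commutative ring which is a field. -/
theorem powLen_of_isPurelyInseparable' [CommRing Q] [Algebra F Q] (hQ : IsField Q)
    [FiniteDimensional F L] [IsPurelyInseparable F L] : PowLen p (Q ⊗[F] L) := by
  let _ := hQ.toField
  exact powLen_of_isPurelyInseparable F L Q p

/-- Localizations of `Fs ⊗[F] Q` at primes are fields, for `Fs/F` finite separable. -/
theorem isField_localization_of_isSeparable [Field Q] [Algebra F Q]
    [FiniteDimensional F L] [Algebra.IsSeparable F L]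
    (q₀ : Ideal (L ⊗[F] Q)) [q₀.IsPrime] : IsField (Localization.AtPrime q₀) := by
  have : Algebra.FormallyUnramified F L := Algebra.FormallyUnramified.of_isSeparable F L
  have hred' : IsReduced (Q ⊗[F] L) :=
    Algebra.FormallyUnramified.isReduced_of_field Q (Q ⊗[F] L)
  have hart' : IsArtinianRing (Q ⊗[F] L) := IsArtinianRing.of_finite Q (Q ⊗[F] L)
  let c : L ⊗[F] Q ≃+* Q ⊗[F] L := (Algebra.TensorProduct.comm F L Q).toRingEquiv
  have : IsReduced (L ⊗[F] Q) := isReduced_of_injective c c.injective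
  have : IsArtinianRing (L ⊗[F] Q) := c.symm.isArtinianRing
  have hq₀ : q₀ ∈ minimalPrimes (L ⊗[F] Q) := IsArtinianRing.mem_minimalPrimes bot_le
  have : Ring.KrullDimLE 0 (Localization.AtPrime q₀) := .of_isLocalization _ hq₀ _
  exact Ring.KrullDimLE.isField_of_isReduced

include p in
theorem powLen_of_sep_pi (Fs : Type*) [Field Fs] [Algebra F Fs] [Algebra Fs L] [IsScalarTower F Fs L]
    [Field Q] [Algebra F Q] [FiniteDimensional F Fs] [Algebra.IsSeparable F Fs]
    [FiniteDimensional Fs L] [IsPurelyInseparable Fs L] :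
    PowLen p (Q ⊗[F] L) := by
  have : ExpChar Fs p := expChar_of_injective_algebraMap (algebraMap F Fs).injective p
  let e : (Fs ⊗[F] Q) ⊗[Fs] L ≃+* Q ⊗[F] L :=
    (Algebra.TensorProduct.comm Fs (Fs ⊗[F] Q) L).toRingEquiv.trans
      ((Algebra.TensorProduct.cancelBaseChange F Fs Fs L Q).toRingEquiv.trans
        (Algebra.TensorProduct.comm F L Q).toRingEquiv)
  refine PowLen.of_ringEquiv (R := (Fs ⊗[F] Q) ⊗[Fs] L) e ?_
  intro q _ hq
  let q₀ : Ideal (Fs ⊗[F] Q) := q.comap (algebraMap (Fs ⊗[F] Q) ((Fs ⊗[F] Q) ⊗[Fs] L))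
  have : q₀.IsPrime := Ideal.comap_isPrime _ _
  have hfield : IsField (Localization.AtPrime q₀) :=
    isField_localization_of_isSeparable F Fs Q q₀
  have hpl : PowLen p (Localization.AtPrime q₀ ⊗[Fs] L) :=
    powLen_of_isPurelyInseparable' Fs L (Localization.AtPrime q₀) p hfield
  refine PowLen.of_tensor_isLocalization q₀.primeCompl hpl q hq ?_
  intro m hm hmq
  refine hm ?_
  change algebraMap (Fs ⊗[F] Q) ((Fs ⊗[F] Q) ⊗[Fs] L) m ∈ q
  rw [Algebra.TensorProduct.algebraMap_apply]
  exact hmq

include p in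
theorem powLen_of_finite [Field Q] [Algebra F Q] [FiniteDimensional F L] :
    PowLen p (Q ⊗[F] L) :=
  powLen_of_sep_pi F L Q p (separableClosure F L)

end Fin

section FG

variable (k K L : Type*) [Field k] [Field K] [Field L] [Algebra k K] [Algebra k L]
  (p : ℕ) [ExpChar k p]

/-- `k(x_i) ⊗[k] K` is a domain. -/
theorem isDomain_fractionRing_mvPolynomial_tensor (ι : Type*) :
    IsDomain (FractionRing (MvPolynomial ι k) ⊗[k] K) := by
  let e₁ : MvPolynomial ι k ⊗[k] K ≃+* MvPolynomial ι K :=
    (Algebra.TensorProduct.comm k (MvPolynomial ι k) K).toRingEquiv.trans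
      (MvPolynomial.algebraTensorAlgEquiv k K).toRingEquiv
  have hdom : IsDomain (MvPolynomial ι k ⊗[k] K) := e₁.toMulEquiv.isDomain (MvPolynomial ι K)
  have hloc : IsLocalization
      (Algebra.algebraMapSubmonoid (MvPolynomial ι k ⊗[k] K) (nonZeroDivisors (MvPolynomial ι k)))
      ((MvPolynomial ι k ⊗[k] K) ⊗[MvPolynomial ι k] FractionRing (MvPolynomial ι k)) :=
    IsLocalization.tensor (FractionRing (MvPolynomial ι k)) (nonZeroDivisors (MvPolynomial ι k))
  have hle : Algebra.algebraMapSubmonoid (MvPolynomial ι k ⊗[k] K)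
      (nonZeroDivisors (MvPolynomial ι k)) ≤ nonZeroDivisors (MvPolynomial ι k ⊗[k] K) := by
    rintro _ ⟨m, hm, rfl⟩
    apply mem_nonZeroDivisors_of_ne_zero
    rw [Algebra.TensorProduct.algebraMap_apply, Algebra.algebraMap_self, RingHom.id_apply]
    intro h
    have hinj : Function.Injective
        (Algebra.TensorProduct.includeLeft : MvPolynomial ι k →ₐ[k] MvPolynomial ι k ⊗[k] K) :=
      Algebra.TensorProduct.includeLeft_injective (algebraMap k K).injective
    have : m = 0 := hinj (by simpa using h)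
    exact nonZeroDivisors.ne_zero hm this
  have : IsDomain ((MvPolynomial ι k ⊗[k] K) ⊗[MvPolynomial ι k]
      FractionRing (MvPolynomial ι k)) :=
    IsLocalization.isDomain_of_le_nonZeroDivisors
      ((MvPolynomial ι k ⊗[k] K) ⊗[MvPolynomial ι k] FractionRing (MvPolynomial ι k)) hle
  let e₂ : (MvPolynomial ι k ⊗[k] K) ⊗[MvPolynomial ι k] FractionRing (MvPolynomial ι k) ≃+*
      FractionRing (MvPolynomial ι k) ⊗[k] K :=
    (Algebra.TensorProduct.comm (MvPolynomial ι k) (MvPolynomial ι k ⊗[k] K)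
      (FractionRing (MvPolynomial ι k))).toRingEquiv.trans
      (Algebra.TensorProduct.cancelBaseChange k (MvPolynomial ι k) (MvPolynomial ι k)
        (FractionRing (MvPolynomial ι k)) K).toRingEquiv
  exact e₂.symm.toMulEquiv.isDomain
    ((MvPolynomial ι k ⊗[k] K) ⊗[MvPolynomial ι k] FractionRing (MvPolynomial ι k))

include p in
theorem powLen_of_domain_finite (F : Type*) [Field F] [Algebra k F] [Algebra F L]
    [IsScalarTower k F L] [FiniteDimensional F L] [IsDomain (F ⊗[k] K)] :
    PowLen p (K ⊗[k] L) := by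
  have : ExpChar F p := expChar_of_injective_algebraMap (algebraMap k F).injective p
  let e : (F ⊗[k] K) ⊗[F] L ≃+* K ⊗[k] L :=
    (Algebra.TensorProduct.comm F (F ⊗[k] K) L).toRingEquiv.trans
      ((Algebra.TensorProduct.cancelBaseChange k F F L K).toRingEquiv.trans
        (Algebra.TensorProduct.comm k L K).toRingEquiv)
  refine PowLen.of_ringEquiv (R := (F ⊗[k] K) ⊗[F] L) e ?_
  intro q _ hq
  have hpl : PowLen p (FractionRing (F ⊗[k] K) ⊗[F] L) :=
    powLen_of_finite F L (FractionRing (F ⊗[k] K)) p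
  refine PowLen.of_tensor_isLocalization (nonZeroDivisors (F ⊗[k] K)) hpl q hq ?_
  intro m hm hmq
  have hreg0 : IsSMulRegular (F ⊗[k] K) m := by
    intro a b hab
    have : m * (a - b) = 0 := by
      simp only [smul_eq_mul] at hab
      rw [mul_sub, hab, sub_self]
    exact sub_eq_zero.mp ((mem_nonZeroDivisors_iff_left.mp hm) _ this)
  have hreg : IsSMulRegular ((F ⊗[k] K) ⊗[F] L)
      (algebraMap (F ⊗[k] K) ((F ⊗[k] K) ⊗[F] L) m) := IsSMulRegular.of_flat hreg0
  have hmem : algebraMap (F ⊗[k] K) ((F ⊗[k] K) ⊗[F] L) m ∈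
      nonZeroDivisors ((F ⊗[k] K) ⊗[F] L) := by
    rw [mem_nonZeroDivisors_iff_left]
    intro x hx
    exact hreg (by simpa using hx)
  have hmq' : algebraMap (F ⊗[k] K) ((F ⊗[k] K) ⊗[F] L) m ∈ q := by
    rw [Algebra.TensorProduct.algebraMap_apply]
    exact hmq
  exact Set.disjoint_left.mp (Ideal.disjoint_nonZeroDivisors_of_mem_minimalPrimes hq) hmq' hmem

include p in
theorem powLen_of_fg (hL : (⊤ : IntermediateField k L).FG) : PowLen p (K ⊗[k] L) := by
  obtain ⟨ι, x, hx⟩ := exists_isTranscendenceBasis' k L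
  have halg : Algebra.IsAlgebraic (IntermediateField.adjoin k (Set.range x)) L :=
    hx.isAlgebraic_field
  have : Algebra.EssFiniteType k L := IntermediateField.fg_top_iff.mp hL
  have : Algebra.EssFiniteType (IntermediateField.adjoin k (Set.range x)) L :=
    Algebra.EssFiniteType.of_comp k _ L
  have hfin : FiniteDimensional (IntermediateField.adjoin k (Set.range x)) L :=
    Algebra.finite_of_essFiniteType_of_isAlgebraic
  have hdom0 := isDomain_fractionRing_mvPolynomial_tensor k K ι
  have hdom : IsDomain ((IntermediateField.adjoin k (Set.range x)) ⊗[k] K) :=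
    (Algebra.TensorProduct.congr hx.1.aevalEquivField.symm
      (AlgEquiv.refl : K ≃ₐ[k] K)).toRingEquiv.toMulEquiv.isDomain
        (FractionRing (MvPolynomial ι k) ⊗[k] K)
  exact powLen_of_domain_finite k K L p (IntermediateField.adjoin k (Set.range x))

end FG

end Groth.Agent.Lib.Seat32.LenPow
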