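import Mathlib
import Groth.Prelude.Def_Cyc
import Groth.Agent.Lib.Helper5StalkSpec
import Groth.Agent.Lib.Seat28OrdFrac
import Groth.Agent.Lib.Seat32LenPow

/-!
# Generizations of a point and primes of its local ring (helper32)

For `ξ ⤳ y` in a scheme `Y`: `genPrime y ξ h` is the prime `ker (Cyc.specMap y ξ h)` of `O_{Y,y}`.
* `fromSpecStalk_genPrime`, `genPrime_fromSpecStalk`: it is inverse to `Y.fromSpecStalk y`;
* `isLocalization_atPrime_stalkSpecializes`: `O_{Y,ξ} = (O_{Y,y})_𝔭`;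
* `isFractionRing_locQuot`: `κ(ξ) = Frac (Cyc.LocQuot y ξ h)`;
* `ordAt_specMap_eq`: `Cyc.ordAt` of the image of `a ∈ O_{Y,y}` is `Ring.ord (O_{Y,y}/𝔭) a`
  when `dim O_{Y,y} ≤ 1`;
* `length_stalk_eq_length_localization`.
-/

set_option autoImplicit false
set_option linter.style.haveILetI false
universe u
open AlgebraicGeometry CategoryTheory TopologicalSpace Opposite IsLocalRing

namespace Groth.Agent.Lib.Seat32.GenPrime

variable {Y : Scheme.{u}}

/-- the prime of `O_{Y,y}` attached to a generization `ξ` of `y`. -/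
noncomputable def genPrime (y ξ : Y) (h : ξ ⤳ y) : PrimeSpectrum (Y.presheaf.stalk y) :=
  ⟨RingHom.ker (Cyc.specMap y ξ h), RingHom.ker_isPrime _⟩

theorem genPrime_asIdeal (y ξ : Y) (h : ξ ⤳ y) :
    (genPrime y ξ h).asIdeal = RingHom.ker (Cyc.specMap y ξ h) := rfl

theorem mem_genPrime_iff (y ξ : Y) (h : ξ ⤳ y) (a : Y.presheaf.stalk y) :
    a ∈ (genPrime y ξ h).asIdeal ↔
      (Y.presheaf.stalkSpecializes h).hom a ∈ maximalIdeal (Y.presheaf.stalk ξ) := by
  rw [genPrime_asIdeal, RingHom.mem_ker]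
  unfold Cyc.specMap
  rw [← IsLocalRing.residue_eq_zero_iff]
  rfl

theorem genPrime_eq_comap (y ξ : Y) (h : ξ ⤳ y) :
    genPrime y ξ h = Spec.map (Y.presheaf.stalkSpecializes h) (closedPoint (Y.presheaf.stalk ξ)) := by
  apply PrimeSpectrum.ext
  ext a
  rw [mem_genPrime_iff]
  rfl

theorem fromSpecStalk_genPrime (y ξ : Y) (h : ξ ⤳ y) :
    Y.fromSpecStalk y (genPrime y ξ h) = ξ := by
  have h1 := Scheme.SpecMap_stalkSpecializes_fromSpecStalk (X := Y) h
  have h2 : (Spec.map (Y.presheaf.stalkSpecializes h) ≫ Y.fromSpecStalk y)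
      (closedPoint (Y.presheaf.stalk ξ)) = ξ := by
    rw [h1]
    exact Scheme.fromSpecStalk_closedPoint
  rw [genPrime_eq_comap]
  exact h2

theorem fromSpecStalk_specializes (y : Y) (p : PrimeSpectrum (Y.presheaf.stalk y)) :
    Y.fromSpecStalk y p ⤳ y := by
  have : Y.fromSpecStalk y p ∈ Set.range (Y.fromSpecStalk y) := ⟨p, rfl⟩
  rw [Scheme.range_fromSpecStalk] at this
  exact this

theorem genPrime_fromSpecStalk (y : Y) (p : PrimeSpectrum (Y.presheaf.stalk y))
    (h : Y.fromSpecStalk y p ⤳ y) : genPrime y (Y.fromSpecStalk y p) h = p :=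
  (Y.fromSpecStalk y).isEmbedding.injective (fromSpecStalk_genPrime y _ h)

theorem fromSpecStalk_eq_iff (y : Y) (p : PrimeSpectrum (Y.presheaf.stalk y)) :
    Y.fromSpecStalk y p = y ↔ p = closedPoint (Y.presheaf.stalk y) := by
  constructor
  · intro hp
    apply (Y.fromSpecStalk y).isEmbedding.injective
    rw [hp, Scheme.fromSpecStalk_closedPoint]
  · rintro rfl
    exact Scheme.fromSpecStalk_closedPoint


/-- `O_{Y,ξ}` is the localization of `O_{Y,y}` at the prime of the generization `ξ`. -/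
theorem isLocalization_atPrime_stalkSpecializes (y ξ : Y) (h : ξ ⤳ y) :
    letI := (Y.presheaf.stalkSpecializes h).hom.toAlgebra
    IsLocalization.AtPrime (Y.presheaf.stalk ξ) (genPrime y ξ h).asIdeal := by
  letI := (Y.presheaf.stalkSpecializes h).hom.toAlgebra
  obtain ⟨M, hM⟩ := Groth.Agent.Lib.Helper5.StalkSpec.exists_isLocalization_stalkSpecializes Y h
  have hunit : ∀ r : Y.presheaf.stalk y, r ∈ (genPrime y ξ h).asIdeal.primeCompl ↔
      IsUnit (algebraMap (Y.presheaf.stalk y) (Y.presheaf.stalk ξ) r) := by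
    intro r
    change r ∉ (genPrime y ξ h).asIdeal ↔ _
    rw [mem_genPrime_iff, IsLocalRing.mem_maximalIdeal, mem_nonunits_iff, not_not]
    rfl
  refine IsLocalization.of_le M _ ?_ ?_
  · intro m hm
    exact (hunit m).2 (IsLocalization.map_units (Y.presheaf.stalk ξ) ⟨m, hm⟩)
  · intro r hr
    exact (hunit r).1 hr


theorem algebraMap_locQuot_mk (y ξ : Y) (h : ξ ⤳ y) (a : Y.presheaf.stalk y) :
    algebraMap (Cyc.LocQuot y ξ h) (Y.residueField ξ) (Ideal.Quotient.mk _ a) =
      Cyc.specMap y ξ h a := rfl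

theorem algebraMap_locQuot_injective (y ξ : Y) (h : ξ ⤳ y) :
    Function.Injective (algebraMap (Cyc.LocQuot y ξ h) (Y.residueField ξ)) := by
  rw [injective_iff_map_eq_zero]
  intro a ha
  obtain ⟨a, rfl⟩ := Ideal.Quotient.mk_surjective a
  rw [algebraMap_locQuot_mk] at ha
  exact Ideal.Quotient.eq_zero_iff_mem.2 (RingHom.mem_ker.2 ha)

/-- `κ(ξ)` is the fraction field of `O_{Y,y}/𝔭_ξ`. -/
theorem isFractionRing_locQuot (y ξ : Y) (h : ξ ⤳ y) :
    IsFractionRing (Cyc.LocQuot y ξ h) (Y.residueField ξ) := by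
  haveI : FaithfulSMul (Cyc.LocQuot y ξ h) (Y.residueField ξ) :=
    (faithfulSMul_iff_algebraMap_injective _ _).2 (algebraMap_locQuot_injective y ξ h)
  apply IsFractionRing.of_field
  intro z
  letI := (Y.presheaf.stalkSpecializes h).hom.toAlgebra
  haveI := isLocalization_atPrime_stalkSpecializes y ξ h
  obtain ⟨g, rfl⟩ := Y.residue_surjective ξ z
  obtain ⟨⟨a, s⟩, hg⟩ := IsLocalization.surj (genPrime y ξ h).asIdeal.primeCompl g
  have hg' : g * (Y.presheaf.stalkSpecializes h).hom s.1 = (Y.presheaf.stalkSpecializes h).hom a :=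
    hg
  have hs : Cyc.specMap y ξ h s.1 ≠ 0 := fun h0 => s.2 (RingHom.mem_ker.2 h0)
  refine ⟨Ideal.Quotient.mk _ a, Ideal.Quotient.mk _ s.1, ?_⟩
  rw [algebraMap_locQuot_mk, algebraMap_locQuot_mk, eq_div_iff hs]
  have := congrArg (Y.residue ξ).hom hg'
  rw [map_mul] at this
  exact this


open Groth.Agent.Lib.Seat28.OrdFrac in
/-- the order of the image of `a ∈ O_{Y,y}` along `ξ ⤳ y`, when `dim O_{Y,y} ≤ 1`. -/
theorem ordAt_specMap_eq [IsLocallyNoetherian Y] (y ξ : Y) (h : ξ ⤳ y)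
    [Ring.KrullDimLE 1 (Y.presheaf.stalk y)] (a : Y.presheaf.stalk y)
    (ha : Cyc.specMap y ξ h a ≠ 0) :
    Cyc.ordAt y ξ h (Cyc.specMap y ξ h a) =
      ((Ring.ord (Cyc.LocQuot y ξ h) (Ideal.Quotient.mk _ a)).toNat : ℤ) := by
  haveI : (RingHom.ker (Cyc.specMap y ξ h)).IsPrime := RingHom.ker_isPrime _
  have hN : IsNoetherianRing (Cyc.LocQuot y ξ h) := inferInstance
  have hK : Ring.KrullDimLE 1 (Cyc.LocQuot y ξ h) := by
    rw [Ring.krullDimLE_iff]
    exact (ringKrullDim_quotient_le _).trans (Ring.krullDimLE_iff.1 inferInstance)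
  have hT : Nontrivial (Cyc.LocQuot y ξ h) := inferInstance
  have hF := isFractionRing_locQuot y ξ h
  have hD : IsDomain (Cyc.LocQuot y ξ h) := inferInstance
  have ha0 : (Ideal.Quotient.mk (RingHom.ker (Cyc.specMap y ξ h)) a) ≠ 0 := by
    intro h0
    exact ha (RingHom.mem_ker.1 (Ideal.Quotient.eq_zero_iff_mem.1 h0))
  have hmem := mem_nonZeroDivisors_of_ne_zero ha0
  unfold Cyc.ordAt
  rw [← algebraMap_locQuot_mk, ordFrac_eq ⟨hN, hK, hT, hF⟩, Ring.ordFrac_eq_ord _ ha0,
    Ring.ordMonoidWithZeroHom_eq_coe _ hmem (ENat.natCast_toNat (Ring.ord_ne_top hmem)).symm]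
  rfl


open Groth.Agent.Lib.Seat32.LenPow in
/-- the length of `O_{Y,ξ}` is the length of the localization of `O_{Y,y}` at the prime of `ξ`. -/
theorem length_stalk_eq_length_localization (y ξ : Y) (h : ξ ⤳ y) :
    Module.length (Y.presheaf.stalk ξ) (Y.presheaf.stalk ξ) =
      Module.length (Localization.AtPrime (genPrime y ξ h).asIdeal)
        (LocalizedModule (genPrime y ξ h).asIdeal.primeCompl (Y.presheaf.stalk y)) := by
  letI := (Y.presheaf.stalkSpecializes h).hom.toAlgebra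
  haveI := isLocalization_atPrime_stalkSpecializes y ξ h
  have e := IsLocalization.algEquiv (genPrime y ξ h).asIdeal.primeCompl
    (Localization.AtPrime (genPrime y ξ h).asIdeal) (Y.presheaf.stalk ξ)
  have h1 : Module.length (Localization.AtPrime (genPrime y ξ h).asIdeal)
      (LocalizedModule (genPrime y ξ h).asIdeal.primeCompl (Y.presheaf.stalk y)) =
      Module.length (Localization.AtPrime (genPrime y ξ h).asIdeal)
        (Localization.AtPrime (genPrime y ξ h).asIdeal) := rfl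
  rw [h1]
  exact (length_self_eq_of_ringEquiv e.toRingEquiv).symm

end Groth.Agent.Lib.Seat32.GenPrime
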