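import Mathlib
import Groth.Prelude.Def_Cyc
import Groth.Agent.Lib.Seat28OrdFrac
import Groth.Agent.Lib.Seat28FibreLen
import Groth.Agent.Lib.Seat28FlatOrd
import Groth.Agent.Lib.Seat32GenPrime

/-!
# Flat pullback of principal divisors, pointwise (seat 28)

For a flat morphism `p : X' ⟶ X` of locally Noetherian schemes, a point `x'` of `X'`, a generization `ξ` of
`p x'` and `g ∈ κ(ξ)ˣ`:
`ord_{p x'}(ξ; g) · length (O_{x'}/𝔪_{p x'} O_{x'}) = ∑_{ξ'} length (O_{ξ'}/𝔪_ξ O_{ξ'}) · ord_{x'}(ξ'; g)`,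
the sum over the points `ξ'` over `ξ`, maximal in their fibre, specializing to `x'`
(`ordAt_mul_length_eq_finsum`), provided there is no room between `ξ` and `x'`.
-/

set_option autoImplicit false
set_option linter.style.haveILetI false
universe u
open AlgebraicGeometry CategoryTheory TopologicalSpace Opposite IsLocalRing

namespace Groth.Agent.Lib.Seat28.FlatDiv

open Groth.Agent.Lib.Seat28.FibreMax Groth.Agent.Lib.Seat28.FibreLen Groth.Agent.Lib.Seat28.FlatOrd
open Groth.Agent.Lib.Seat32.GenPrime Groth.Agent.Lib.Seat28.OrdFrac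

section Finsum

lemma finsum_eq_finsum_mem_of_support_subset {α M : Type*} [AddCommMonoid M] (f : α → M) {s : Set α}
    (h : Function.support f ⊆ s) : ∑ᶠ i, f i = ∑ᶠ i ∈ s, f i := by
  rw [← finsum_mem_univ]
  exact finsum_mem_inter_support_eq' f _ _ (fun x hx => ⟨fun _ => h hx, fun _ => trivial⟩)

end Finsum

section General

variable {Y : Scheme.{u}}

/-- the order of the image of `a ∈ O_{Y,y}` along `ξ ⤳ y` as a length, when `dim O_{Y,y}/𝔭_ξ ≤ 1`. -/
theorem ordAt_specMap_eq_length [IsLocallyNoetherian Y] (y ξ : Y) (h : ξ ⤳ y)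
    (hK : Ring.KrullDimLE 1 (Cyc.LocQuot y ξ h)) (a : Y.presheaf.stalk y)
    (ha : Cyc.specMap y ξ h a ≠ 0) :
    Cyc.ordAt y ξ h (Cyc.specMap y ξ h a) =
      ((Module.length (Y.presheaf.stalk y)
        (Y.presheaf.stalk y ⧸ ((genPrime y ξ h).asIdeal ⊔ Ideal.span {a}))).toNat : ℤ) := by
  haveI : (RingHom.ker (Cyc.specMap y ξ h)).IsPrime := RingHom.ker_isPrime _
  have hN : IsNoetherianRing (Cyc.LocQuot y ξ h) := inferInstance
  have hT : Nontrivial (Cyc.LocQuot y ξ h) := inferInstance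
  have hF := isFractionRing_locQuot y ξ h
  have hD : IsDomain (Cyc.LocQuot y ξ h) := inferInstance
  have ha0 : (Ideal.Quotient.mk (RingHom.ker (Cyc.specMap y ξ h)) a) ≠ 0 := by
    intro h0
    exact ha (RingHom.mem_ker.1 (Ideal.Quotient.eq_zero_iff_mem.1 h0))
  have hmem := mem_nonZeroDivisors_of_ne_zero ha0
  have h1 : Cyc.ordAt y ξ h (Cyc.specMap y ξ h a) =
      ((Ring.ord (Cyc.LocQuot y ξ h) (Ideal.Quotient.mk _ a)).toNat : ℤ) := by
    unfold Cyc.ordAt
    rw [← algebraMap_locQuot_mk, ordFrac_eq ⟨hN, hK, hT, hF⟩, Ring.ordFrac_eq_ord _ ha0,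
      Ring.ordMonoidWithZeroHom_eq_coe _ hmem (ENat.natCast_toNat (Ring.ord_ne_top hmem)).symm]
    rfl
  rw [h1, Ring.ord]
  congr 2
  have h2 : Ideal.span {Ideal.Quotient.mk (RingHom.ker (Cyc.specMap y ξ h)) a} =
      (Ideal.span {a}).map (Ideal.Quotient.mk (RingHom.ker (Cyc.specMap y ξ h))) := by
    rw [Ideal.map_span, Set.image_singleton]
  rw [h2]
  exact length_quot_eq_of_ringEquiv _ _ (DoubleQuot.quotQuotEquivQuotSup _ _)

/-- orders are additive: the order of a quotient. -/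
theorem ordAt_div (y ξ : Y) (h : ξ ⤳ y) {f g : Y.residueField ξ} (hf : f ≠ 0) (hg : g ≠ 0) :
    Cyc.ordAt y ξ h (f / g) = Cyc.ordAt y ξ h f - Cyc.ordAt y ξ h g := by
  unfold Cyc.ordAt
  rw [div_eq_mul_inv, ordFrac_mul hf (inv_ne_zero hg), ordFrac_inv]
  ring

/-- orders of powers. -/
theorem ordAt_pow (y ξ : Y) (h : ξ ⤳ y) {f : Y.residueField ξ} (hf : f ≠ 0) (n : ℕ) :
    Cyc.ordAt y ξ h (f ^ n) = n * Cyc.ordAt y ξ h f := by
  unfold Cyc.ordAt
  exact ordFrac_pow hf n

/-- the order of the image of a unit of the local ring vanishes. -/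
theorem ordAt_specMap_of_isUnit (y ξ : Y) (h : ξ ⤳ y) (c : Y.presheaf.stalk y) (hc : IsUnit c) :
    Cyc.ordAt y ξ h (Cyc.specMap y ξ h c) = 0 := by
  unfold Cyc.ordAt
  rw [← algebraMap_locQuot_mk]
  exact ordFrac_algebraMap_of_isUnit (hc.map (Ideal.Quotient.mk _))

/-- every element of `κ(ξ)` is a quotient of images of elements of `O_{Y,y}`. -/
theorem exists_eq_div_specMap (y ξ : Y) (h : ξ ⤳ y) (g : Y.residueField ξ) :
    ∃ a b : Y.presheaf.stalk y, Cyc.specMap y ξ h b ≠ 0 ∧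
      g = Cyc.specMap y ξ h a / Cyc.specMap y ξ h b := by
  haveI := isFractionRing_locQuot y ξ h
  haveI : (RingHom.ker (Cyc.specMap y ξ h)).IsPrime := RingHom.ker_isPrime _
  obtain ⟨a, b, hb, hab⟩ := IsFractionRing.div_surjective (A := Cyc.LocQuot y ξ h) g
  obtain ⟨a, rfl⟩ := Ideal.Quotient.mk_surjective a
  obtain ⟨b, rfl⟩ := Ideal.Quotient.mk_surjective b
  refine ⟨a, b, ?_, hab.symm⟩
  rw [← algebraMap_locQuot_mk]
  intro h0
  have := (map_eq_zero_iff _ (algebraMap_locQuot_injective y ξ h)).1 h0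
  exact nonZeroDivisors.ne_zero hb this

/-- inclusions of the primes of generizations are specializations. -/
theorem genPrime_le_genPrime_iff (y ξ η : Y) (hξ : ξ ⤳ y) (hη : η ⤳ y) :
    (genPrime y ξ hξ).asIdeal ≤ (genPrime y η hη).asIdeal ↔ ξ ⤳ η := by
  change genPrime y ξ hξ ≤ genPrime y η hη ↔ _
  rw [PrimeSpectrum.le_iff_specializes]
  have hind := (Y.fromSpecStalk y).isEmbedding.isInducing
  have key : Y.fromSpecStalk y (genPrime y ξ hξ) ⤳ Y.fromSpecStalk y (genPrime y η hη) ↔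
      (genPrime y ξ hξ : ↥(Spec (Y.presheaf.stalk y))) ⤳ genPrime y η hη := hind.specializes_iff
  rw [fromSpecStalk_genPrime, fromSpecStalk_genPrime] at key
  exact key.symm

/-- if there is no room between `ξ` and `y` then `O_{Y,y}/𝔭_ξ` has dimension at most one. -/
theorem krullDimLE_one_locQuot (y ξ : Y) (h : ξ ⤳ y)
    (hz : ∀ z : Y, ξ ⤳ z → z ⤳ y → z = ξ ∨ z = y) : Ring.KrullDimLE 1 (Cyc.LocQuot y ξ h) := by
  haveI : (RingHom.ker (Cyc.specMap y ξ h)).IsPrime := RingHom.ker_isPrime _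
  rw [Ring.krullDimLE_one_iff_of_noZeroDivisors]
  intro I hI0 hI
  set 𝔭 := RingHom.ker (Cyc.specMap y ξ h) with h𝔭
  have hQ : (Ideal.comap (Ideal.Quotient.mk 𝔭) I).IsPrime := Ideal.IsPrime.comap _
  let Q : PrimeSpectrum (Y.presheaf.stalk y) := ⟨Ideal.comap (Ideal.Quotient.mk 𝔭) I, hQ⟩
  have hle : 𝔭 ≤ Q.asIdeal := by
    intro x hx
    change x ∈ Ideal.comap (Ideal.Quotient.mk 𝔭) I
    rw [Ideal.mem_comap, Ideal.Quotient.eq_zero_iff_mem.2 hx]
    exact I.zero_mem
  have hI' : I = Ideal.map (Ideal.Quotient.mk 𝔭) Q.asIdeal :=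
    (Ideal.map_comap_of_surjective _ Ideal.Quotient.mk_surjective I).symm
  set z := Y.fromSpecStalk y Q with hzdef
  have hzy : z ⤳ y := fromSpecStalk_specializes y Q
  have hQz : genPrime y z hzy = Q := genPrime_fromSpecStalk y Q hzy
  have hξz : ξ ⤳ z := by
    rw [← genPrime_le_genPrime_iff y ξ z h hzy, hQz]
    exact hle
  rcases hz z hξz hzy with h1 | h1
  · exfalso
    apply hI0
    have hQ𝔭 : Q.asIdeal = 𝔭 := by
      rw [← hQz]
      have : genPrime y z hzy = genPrime y ξ h := by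
        apply (Y.fromSpecStalk y).isEmbedding.injective
        rw [fromSpecStalk_genPrime, fromSpecStalk_genPrime, h1]
      rw [this]
      rfl
    rw [hI', hQ𝔭, Ideal.map_quotient_self]
  · have hQm : Q = closedPoint (Y.presheaf.stalk y) := (fromSpecStalk_eq_iff y Q).1 h1
    have hQm' : Q.asIdeal = maximalIdeal (Y.presheaf.stalk y) := by rw [hQm]; rfl
    rw [hI', hQm']
    refine Ideal.IsMaximal.map_of_surjective_of_ker_le Ideal.Quotient.mk_surjective ?_
    rw [Ideal.mk_ker, ← hQm']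
    exact hle

end General

section Compat

variable {X' X : Scheme.{u}} (p : X' ⟶ X)

/-- the prime of a generization upstairs contracts to the prime of its image. -/
theorem comap_genPrime (x' z' : X') (hz : z' ⤳ x') :
    Ideal.comap (p.stalkMap x').hom (genPrime x' z' hz).asIdeal =
      (genPrime (p x') (p z') (p.base.hom.map_specializes hz)).asIdeal := by
  ext a
  rw [Ideal.mem_comap, mem_genPrime_iff, mem_genPrime_iff]
  have h1 := Scheme.Hom.stalkSpecializes_stalkMap_apply p z' x' hz a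
  change (X'.presheaf.stalkSpecializes hz).hom ((p.stalkMap x').hom a) ∈ _ ↔ _
  change (p.stalkMap z').hom ((X.presheaf.stalkSpecializes (p.base.hom.map_specializes hz)).hom a) =
    (X'.presheaf.stalkSpecializes hz).hom ((p.stalkMap x').hom a) at h1
  rw [← h1, mem_maximalIdeal, mem_maximalIdeal, mem_nonunits_iff, mem_nonunits_iff,
    isUnit_map_iff]

/-- compatibility of the maps to residue fields of generizations. -/
theorem specMap_stalkMap (x' z' : X') (hz : z' ⤳ x') (a : X.presheaf.stalk (p x')) :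
    Cyc.specMap x' z' hz ((p.stalkMap x').hom a) =
      (p.residueFieldMap z').hom
        (Cyc.specMap (p x') (p z') (p.base.hom.map_specializes hz) a) := by
  have h1 := Scheme.Hom.stalkSpecializes_stalkMap_apply p z' x' hz a
  change (p.stalkMap z').hom ((X.presheaf.stalkSpecializes (p.base.hom.map_specializes hz)).hom a) =
    (X'.presheaf.stalkSpecializes hz).hom ((p.stalkMap x').hom a) at h1
  change (X'.residue z').hom ((X'.presheaf.stalkSpecializes hz).hom ((p.stalkMap x').hom a)) =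
    (p.residueFieldMap z').hom ((X.residue (p z')).hom
      ((X.presheaf.stalkSpecializes (p.base.hom.map_specializes hz)).hom a))
  rw [← h1]
  have h2 := Scheme.residue_residueFieldMap p z'
  exact (congrArg (fun k => k.hom
    ((X.presheaf.stalkSpecializes (p.base.hom.map_specializes hz)).hom a)) h2).symm

/-- the fibre ideal at a generization `z'` of `x'` is generated by the prime of `p z'` in `O_{p x'}`. -/
theorem fibIdeal_eq_map (x' z' : X') (hz : z' ⤳ x') :
    fibIdeal p z' =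
      (((genPrime (p x') (p z') (p.base.hom.map_specializes hz)).asIdeal.map (p.stalkMap x').hom).map
        (X'.presheaf.stalkSpecializes hz).hom) := by
  rw [Ideal.map_map]
  have h1 : (X'.presheaf.stalkSpecializes hz).hom.comp (p.stalkMap x').hom =
      (p.stalkMap z').hom.comp (X.presheaf.stalkSpecializes (p.base.hom.map_specializes hz)).hom := by
    have := Scheme.Hom.stalkSpecializes_stalkMap p z' x' hz
    rw [← CommRingCat.hom_comp, ← CommRingCat.hom_comp, this]
  rw [h1, ← Ideal.map_map]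
  letI := (X.presheaf.stalkSpecializes (p.base.hom.map_specializes hz)).hom.toAlgebra
  haveI := isLocalization_atPrime_stalkSpecializes (p x') (p z') (p.base.hom.map_specializes hz)
  have h2 : (genPrime (p x') (p z') (p.base.hom.map_specializes hz)).asIdeal.map
      (X.presheaf.stalkSpecializes (p.base.hom.map_specializes hz)).hom =
      maximalIdeal (X.presheaf.stalk (p z')) :=
    IsLocalization.AtPrime.map_eq_maximalIdeal _ _
  rw [h2]

/-- the prime of `ξ` generates an ideal contained in the prime of `z'` iff `ξ` specializes to `p z'`. -/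
theorem map_le_genPrime_iff (x' z' : X') (hz : z' ⤳ x') (ξ : X) (h : ξ ⤳ p x') :
    (genPrime (p x') ξ h).asIdeal.map (p.stalkMap x').hom ≤ (genPrime x' z' hz).asIdeal ↔
      ξ ⤳ p z' := by
  rw [Ideal.map_le_iff_le_comap, comap_genPrime, genPrime_le_genPrime_iff]

/-- the map of residue fields `κ(ξ) → κ(ξ')` for a point `ξ'` over `ξ`. -/
noncomputable def resTo (ξ' : X') (ξ : X) (hξ : p ξ' = ξ) :
    X.residueField ξ →+* X'.residueField ξ' :=
  (p.residueFieldMap ξ').hom.comp (X.residueFieldCongr hξ.symm).hom.hom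

lemma resTo_rfl (ξ' : X') : resTo p ξ' (p ξ') rfl = (p.residueFieldMap ξ').hom := by
  unfold resTo
  rw [Scheme.residueFieldCongr_refl]
  rfl

lemma resTo_ne_zero (ξ' : X') (ξ : X) (hξ : p ξ' = ξ) {g : X.residueField ξ} (hg : g ≠ 0) :
    resTo p ξ' ξ hξ g ≠ 0 :=
  (map_ne_zero_iff _ (resTo p ξ' ξ hξ).injective).2 hg

end Compat

section Local

variable {X' X : Scheme.{u}} (p : X' ⟶ X)

/-- the points over `ξ`, maximal in their fibre, specializing to `x'`. -/
def Gen (x' : X') (ξ : X) : Set X' := {ξ' | p ξ' = ξ ∧ IsFibMax p ξ' ∧ ξ' ⤳ x'}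

/-- the prime of a point of `Gen` is minimal over the ideal generated by the prime of `ξ`. -/
theorem genPrime_mem_minimalPrimes (x' : X') (ξ : X) (h : ξ ⤳ p x') (ξ' : X')
    (hξ' : ξ' ∈ Gen p x' ξ) :
    (genPrime x' ξ' hξ'.2.2).asIdeal ∈
      ((genPrime (p x') ξ h).asIdeal.map (p.stalkMap x').hom).minimalPrimes := by
  obtain ⟨h1, h2, h3⟩ := hξ'
  refine ⟨⟨(genPrime x' ξ' h3).isPrime, ?_⟩, ?_⟩
  · rw [map_le_genPrime_iff, h1]
  · rintro q₁ ⟨hq₁, hPq₁⟩ hle
    let Q₁ : PrimeSpectrum (X'.presheaf.stalk x') := ⟨q₁, hq₁⟩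
    set z₁ := X'.fromSpecStalk x' Q₁ with hz₁
    have hz₁x : z₁ ⤳ x' := fromSpecStalk_specializes x' Q₁
    have hQ₁ : genPrime x' z₁ hz₁x = Q₁ := genPrime_fromSpecStalk x' Q₁ hz₁x
    have hq₁eq : (genPrime x' z₁ hz₁x).asIdeal = q₁ := by rw [hQ₁]
    have hz₁ξ' : z₁ ⤳ ξ' := by
      rw [← genPrime_le_genPrime_iff x' z₁ ξ' hz₁x h3, hq₁eq]
      exact hle
    have hξz₁ : ξ ⤳ p z₁ := by
      rw [← map_le_genPrime_iff p x' z₁ hz₁x ξ h, hq₁eq]
      exact hPq₁
    have hpz₁ : p z₁ = p ξ' := by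
      refine (Specializes.antisymm (p.base.hom.map_specializes hz₁ξ') ?_).eq
      rw [h1]; exact hξz₁
    have : z₁ = ξ' := h2 z₁ hpz₁ hz₁ξ'
    rw [← hq₁eq, genPrime_le_genPrime_iff x' ξ' z₁ h3 hz₁x, this]

/-- a prime minimal over the ideal generated by the prime of `ξ` is the prime of a point of `Gen`. -/
theorem fromSpecStalk_mem_gen [Flat p] (x' : X') (ξ : X) (h : ξ ⤳ p x')
    (q : PrimeSpectrum (X'.presheaf.stalk x'))
    (hq : q.asIdeal ∈ ((genPrime (p x') ξ h).asIdeal.map (p.stalkMap x').hom).minimalPrimes) :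
    X'.fromSpecStalk x' q ∈ Gen p x' ξ := by
  set z' := X'.fromSpecStalk x' q with hz'
  have hz'x : z' ⤳ x' := fromSpecStalk_specializes x' q
  have hQ : genPrime x' z' hz'x = q := genPrime_fromSpecStalk x' q hz'x
  have hqeq : (genPrime x' z' hz'x).asIdeal = q.asIdeal := by rw [hQ]
  have hξz' : ξ ⤳ p z' := by
    rw [← map_le_genPrime_iff p x' z' hz'x ξ h, hqeq]
    exact hq.1.2
  -- a generization of `z'` over `ξ`, or in the fibre of `z'`, with prime over `P` is `z'`
  have key : ∀ y : X', y ⤳ z' → ξ ⤳ p y → y = z' := by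
    intro y hyz' hξy
    have hyx : y ⤳ x' := hyz'.trans hz'x
    have h1 : (genPrime x' y hyx).asIdeal ≤ q.asIdeal := by
      rw [← hqeq, genPrime_le_genPrime_iff]
      exact hyz'
    have h2 : (genPrime (p x') ξ h).asIdeal.map (p.stalkMap x').hom ≤ (genPrime x' y hyx).asIdeal := by
      rw [map_le_genPrime_iff]
      exact hξy
    have h3 : q.asIdeal ≤ (genPrime x' y hyx).asIdeal :=
      hq.2 ⟨(genPrime x' y hyx).isPrime, h2⟩ h1
    have h4 : z' ⤳ y := by
      rw [← genPrime_le_genPrime_iff x' z' y hz'x hyx, hqeq]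
      exact h3
    exact (Specializes.antisymm hyz' h4).eq
  obtain ⟨z₁, hz₁z', hpz₁⟩ := (Flat.generalizingMap p) hξz'
  have hz₁ : z₁ = z' := key z₁ hz₁z' (by rw [hpz₁])
  refine ⟨by rw [← hz₁]; exact hpz₁, ?_, hz'x⟩
  intro y hy hyz'
  exact key y hyz' (by rw [hy, ← hz₁, hpz₁])

/-- lengths of quotients of `O_{ξ'}`, computed in the localization of `O_{x'}`. -/
theorem length_localization_quot_eq (x' ξ' : X') (hsp : ξ' ⤳ x') (P : Ideal (X'.presheaf.stalk x')) :
    Module.length (Localization.AtPrime (genPrime x' ξ' hsp).asIdeal)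
      (Localization.AtPrime (genPrime x' ξ' hsp).asIdeal ⧸
        P.map (algebraMap (X'.presheaf.stalk x') (Localization.AtPrime (genPrime x' ξ' hsp).asIdeal))) =
    Module.length (X'.presheaf.stalk ξ')
      (X'.presheaf.stalk ξ' ⧸ P.map (X'.presheaf.stalkSpecializes hsp).hom) := by
  letI := (X'.presheaf.stalkSpecializes hsp).hom.toAlgebra
  haveI := isLocalization_atPrime_stalkSpecializes x' ξ' hsp
  let e := IsLocalization.algEquiv (genPrime x' ξ' hsp).asIdeal.primeCompl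
    (Localization.AtPrime (genPrime x' ξ' hsp).asIdeal) (X'.presheaf.stalk ξ')
  refine length_quot_eq_of_ringEquiv _ _ (Ideal.quotientEquiv _ _ e.toRingEquiv ?_)
  change _ = Ideal.map (e : Localization.AtPrime (genPrime x' ξ' hsp).asIdeal →+*
    X'.presheaf.stalk ξ') _
  rw [Ideal.map_map]
  congr 1
  ext a
  exact (e.commutes a).symm

/-- the multiplicity at a point `ξ'` over `ξ` generizing `x'`, computed in the localization of `O_{x'}`. -/
theorem length_localization_eq_fibre (x' ξ' : X') (hsp : ξ' ⤳ x') (ξ : X) (hξ : p ξ' = ξ)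
    (h : ξ ⤳ p x') (P : Ideal (X'.presheaf.stalk x'))
    (hP : P = (genPrime (p x') ξ h).asIdeal.map (p.stalkMap x').hom) :
    Module.length (Localization.AtPrime (genPrime x' ξ' hsp).asIdeal)
      (Localization.AtPrime (genPrime x' ξ' hsp).asIdeal ⧸
        P.map (algebraMap (X'.presheaf.stalk x') (Localization.AtPrime (genPrime x' ξ' hsp).asIdeal))) =
    Module.length (X'.presheaf.stalk ξ') (X'.presheaf.stalk ξ' ⧸ fibIdeal p ξ') := by
  subst hξ
  rw [length_localization_quot_eq, fibIdeal_eq_map p x' ξ' hsp, hP]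

/-- compatibility of `resTo` with the maps from the local rings. -/
theorem resTo_specMap (x' ξ' : X') (hsp : ξ' ⤳ x') (ξ : X) (hξ : p ξ' = ξ) (h : ξ ⤳ p x')
    (a : X.presheaf.stalk (p x')) :
    resTo p ξ' ξ hξ (Cyc.specMap (p x') ξ h a) = Cyc.specMap x' ξ' hsp ((p.stalkMap x').hom a) := by
  subst hξ
  rw [resTo_rfl, specMap_stalkMap]

open Classical in
/-- the term of the sum at `ξ'`. -/
noncomputable def termAt (x' : X') (ξ : X) (g : X.residueField ξ) (ξ' : X') : ℤ :=
  if hh : ξ' ∈ Gen p x' ξ then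
    ((Module.length (X'.presheaf.stalk ξ') (X'.presheaf.stalk ξ' ⧸ fibIdeal p ξ')).toNat : ℤ) *
      Cyc.ordAt x' ξ' hh.2.2 (resTo p ξ' ξ hh.1 g)
  else 0

lemma support_termAt_subset (x' : X') (ξ : X) (g : X.residueField ξ) :
    Function.support (termAt p x' ξ g) ⊆ Gen p x' ξ := by
  intro ξ' hξ'
  by_contra hn
  apply hξ'
  unfold termAt
  rw [dif_neg hn]

/-- the set `Gen` is the image of the set of minimal primes. -/
theorem gen_eq_image [Flat p] (x' : X') (ξ : X) (h : ξ ⤳ p x') :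
    Gen p x' ξ = X'.fromSpecStalk x' '' {q : PrimeSpectrum (X'.presheaf.stalk x') |
      q.asIdeal ∈ ((genPrime (p x') ξ h).asIdeal.map (p.stalkMap x').hom).minimalPrimes} := by
  ext ξ'
  constructor
  · intro hξ'
    exact ⟨genPrime x' ξ' hξ'.2.2, genPrime_mem_minimalPrimes p x' ξ h ξ' hξ',
      fromSpecStalk_genPrime x' ξ' hξ'.2.2⟩
  · rintro ⟨q, hq, rfl⟩
    exact fromSpecStalk_mem_gen p x' ξ h q hq

theorem finite_gen [Flat p] [IsLocallyNoetherian X'] (x' : X') (ξ : X) (h : ξ ⤳ p x') :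
    (Gen p x' ξ).Finite := by
  rw [gen_eq_image p x' ξ h]
  apply Set.Finite.image
  have := Ideal.finite_minimalPrimes_of_isNoetherianRing (X'.presheaf.stalk x')
    ((genPrime (p x') ξ h).asIdeal.map (p.stalkMap x').hom)
  refine this.preimage ?_
  intro q₁ _ q₂ _ h12
  exact PrimeSpectrum.ext h12

/-- no room between `ξ` and `p x'` downstairs, from the condition upstairs. -/
theorem krullDimLE_one_down [Flat p] (x' : X') (ξ : X) (h : ξ ⤳ p x')
    (hK : ∀ z' : X', z' ⤳ x' → ξ ⤳ p z' → z' = x' ∨ (p z' = ξ ∧ IsFibMax p z')) :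
    Ring.KrullDimLE 1 (Cyc.LocQuot (p x') ξ h) := by
  apply krullDimLE_one_locQuot
  intro z hξz hzx
  obtain ⟨z', hz'x', hpz'⟩ := (Flat.generalizingMap p) hzx
  rcases hK z' hz'x' (by rw [hpz']; exact hξz) with h1 | h1
  · right; rw [← hpz', h1]
  · left; rw [← hpz', h1.1]

/-- no room between a point of `Gen` and `x'`. -/
theorem krullDimLE_one_up (x' : X') (ξ : X)
    (hK : ∀ z' : X', z' ⤳ x' → ξ ⤳ p z' → z' = x' ∨ (p z' = ξ ∧ IsFibMax p z'))
    (ξ' : X') (hξ' : ξ' ∈ Gen p x' ξ) :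
    Ring.KrullDimLE 1 (Cyc.LocQuot x' ξ' hξ'.2.2) := by
  apply krullDimLE_one_locQuot
  intro z' hξ'z' hz'x'
  have h1 : ξ ⤳ p z' := by
    rw [← hξ'.1]
    exact p.base.hom.map_specializes hξ'z'
  rcases hK z' hz'x' h1 with h2 | h2
  · right; exact h2
  · left
    exact (h2.2 ξ' (by rw [hξ'.1, h2.1]) hξ'z').symm

/-- **The pointwise formula for images of elements of the local ring.** -/
theorem formula_specMap [Flat p] [IsLocallyNoetherian X'] [IsLocallyNoetherian X] (x' : X') (ξ : X)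
    (h : ξ ⤳ p x')
    (hK : ∀ z' : X', z' ⤳ x' → ξ ⤳ p z' → z' = x' ∨ (p z' = ξ ∧ IsFibMax p z'))
    (a : X.presheaf.stalk (p x')) (ha : Cyc.specMap (p x') ξ h a ≠ 0) :
    Cyc.ordAt (p x') ξ h (Cyc.specMap (p x') ξ h a) *
        ((Module.length (X'.presheaf.stalk x') (X'.presheaf.stalk x' ⧸ fibIdeal p x')).toNat : ℤ) =
      ∑ᶠ ξ' : X', termAt p x' ξ (Cyc.specMap (p x') ξ h a) ξ' := by
  classical
  have hK0 := krullDimLE_one_down p x' ξ h hK
  rw [ordAt_specMap_eq_length (p x') ξ h hK0 a ha]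
  letI : Algebra (X.presheaf.stalk (p x')) (X'.presheaf.stalk x') := (p.stalkMap x').hom.toAlgebra
  haveI : Module.Flat (X.presheaf.stalk (p x')) (X'.presheaf.stalk x') := Flat.stalkMap p x'
  haveI : IsLocalHom (algebraMap (X.presheaf.stalk (p x')) (X'.presheaf.stalk x')) :=
    (inferInstance : IsLocalHom (p.stalkMap x').hom)
  haveI : (genPrime (p x') ξ h).asIdeal.IsPrime := (genPrime (p x') ξ h).isPrime
  have ha' : a ∉ (genPrime (p x') ξ h).asIdeal := fun hmem => ha (RingHom.mem_ker.1 hmem)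
  set P : Ideal (X'.presheaf.stalk x') :=
    (genPrime (p x') ξ h).asIdeal.map (p.stalkMap x').hom with hP
  have hdim : ∀ Q : Ideal (X'.presheaf.stalk x'), Q.IsPrime → P ≤ Q →
      Q ∈ P.minimalPrimes ∨ Q = maximalIdeal (X'.presheaf.stalk x') := by
    intro Q hQ hPQ
    let Q' : PrimeSpectrum (X'.presheaf.stalk x') := ⟨Q, hQ⟩
    set z' := X'.fromSpecStalk x' Q' with hz'
    have hz'x : z' ⤳ x' := fromSpecStalk_specializes x' Q'
    have hQ'eq : genPrime x' z' hz'x = Q' := genPrime_fromSpecStalk x' Q' hz'x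
    have hQeq : (genPrime x' z' hz'x).asIdeal = Q := by rw [hQ'eq]
    have hξz' : ξ ⤳ p z' := by
      rw [← map_le_genPrime_iff p x' z' hz'x ξ h, hQeq]
      exact hPQ
    rcases hK z' hz'x hξz' with h1 | h1
    · right
      have : Q' = closedPoint (X'.presheaf.stalk x') := (fromSpecStalk_eq_iff x' Q').1 h1
      exact congrArg PrimeSpectrum.asIdeal this
    · left
      rw [← hQeq]
      exact genPrime_mem_minimalPrimes p x' ξ h z' ⟨h1.1, h1.2, hz'x⟩
  have key := flat_ord_formula (A := X.presheaf.stalk (p x')) (B := X'.presheaf.stalk x')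
    (genPrime (p x') ξ h).asIdeal a ha' hdim
  refine key.trans ?_
  rw [finsum_eq_finsum_mem_of_support_subset _ (support_termAt_subset p x' ξ _),
    gen_eq_image p x' ξ h,
    finsum_mem_image ((X'.fromSpecStalk x').isEmbedding.injective.injOn)]
  apply finsum_mem_congr rfl
  intro q hq
  have hmem : X'.fromSpecStalk x' q ∈ Gen p x' ξ := fromSpecStalk_mem_gen p x' ξ h q hq
  have hqeq : genPrime x' (X'.fromSpecStalk x' q) hmem.2.2 = q := genPrime_fromSpecStalk x' q hmem.2.2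
  unfold termAt
  rw [dif_pos hmem, resTo_specMap p x' _ hmem.2.2 ξ hmem.1 h a]
  have hne : Cyc.specMap x' (X'.fromSpecStalk x' q) hmem.2.2 ((p.stalkMap x').hom a) ≠ 0 := by
    rw [← resTo_specMap p x' _ hmem.2.2 ξ hmem.1 h a]
    exact resTo_ne_zero p _ ξ hmem.1 ha
  rw [ordAt_specMap_eq_length x' _ hmem.2.2 (krullDimLE_one_up p x' ξ hK _ hmem) _ hne,
    ← length_localization_eq_fibre p x' _ hmem.2.2 ξ hmem.1 h P hP]
  rw [hqeq]
  rfl

lemma termAt_div (x' : X') (ξ : X) {f g : X.residueField ξ} (hf : f ≠ 0) (hg : g ≠ 0) (ξ' : X') :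
    termAt p x' ξ (f / g) ξ' = termAt p x' ξ f ξ' - termAt p x' ξ g ξ' := by
  unfold termAt
  by_cases hh : ξ' ∈ Gen p x' ξ
  · rw [dif_pos hh, dif_pos hh, dif_pos hh, map_div₀,
      ordAt_div _ _ _ (resTo_ne_zero p ξ' ξ hh.1 hf) (resTo_ne_zero p ξ' ξ hh.1 hg), mul_sub]
  · rw [dif_neg hh, dif_neg hh, dif_neg hh, sub_zero]

/-- **Flat pullback of principal divisors, pointwise.** For `p` flat, `ξ ⤳ p x'` with no room between `ξ`
and `x'` (every generization `z'` of `x'` whose image is a specialization of `ξ` is `x'` or lies over `ξ`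
and is maximal in its fibre), and `g ∈ κ(ξ)ˣ`:
`ord_{p x'}(ξ; g) · length (O_{x'}/𝔪_{p x'} O_{x'}) = ∑_{ξ'} length (O_{ξ'}/𝔪_ξ O_{ξ'}) · ord_{x'}(ξ'; g)`. -/
theorem ordAt_mul_length_eq_finsum [Flat p] [IsLocallyNoetherian X'] [IsLocallyNoetherian X] (x' : X')
    (ξ : X) (h : ξ ⤳ p x')
    (hK : ∀ z' : X', z' ⤳ x' → ξ ⤳ p z' → z' = x' ∨ (p z' = ξ ∧ IsFibMax p z'))
    (g : X.residueField ξ) (hg : g ≠ 0) :
    Cyc.ordAt (p x') ξ h g *
        ((Module.length (X'.presheaf.stalk x') (X'.presheaf.stalk x' ⧸ fibIdeal p x')).toNat : ℤ) =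
      ∑ᶠ ξ' : X', termAt p x' ξ g ξ' := by
  obtain ⟨a, b, hb, rfl⟩ := exists_eq_div_specMap (p x') ξ h g
  have ha : Cyc.specMap (p x') ξ h a ≠ 0 := by
    intro h0
    apply hg
    rw [h0, zero_div]
  have hfin : ∀ f : X.residueField ξ, (Function.support (termAt p x' ξ f)).Finite := fun f =>
    (finite_gen p x' ξ h).subset (support_termAt_subset p x' ξ f)
  rw [ordAt_div _ _ _ ha hb, sub_mul, formula_specMap p x' ξ h hK a ha,
    formula_specMap p x' ξ h hK b hb, ← finsum_sub_distrib (hfin _) (hfin _)]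
  apply finsum_congr
  intro ξ'
  exact (termAt_div p x' ξ ha hb ξ').symm

end Local

end Groth.Agent.Lib.Seat28.FlatDiv
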