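import Mathlib
import Groth.Prelude.Def_Cyc
import Groth.Agent.Lib.Seat28OrdFrac

/-!
# Finiteness properties of principal divisors `Cyc.divFun` (helper32)

* dictionary between points of an affine open and primes (copied from helper4's `VarDim` to keep
  imports light);
* `finite_immediate_specializations_zeroLocus`, `ordAt_eq_zero_of_mem_basicOpen`, `exists_eq_div`;
* `finite_support_divFun_inter`: the support of `Cyc.divFun δ ξ f` meets each affine open of a locally
  Noetherian scheme in a finite set;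
* `finite_setOf_ι_mem`, `locallyFinite_of_finite_affine`: local finiteness of families of points.
-/

set_option autoImplicit false
set_option linter.style.haveILetI false
universe u
open AlgebraicGeometry CategoryTheory TopologicalSpace Opposite

namespace Groth.Agent.Lib.Seat32.CycFin

section Dict

variable {X : Scheme.{u}} {U : X.Opens} (hU : IsAffineOpen U)

theorem primeIdealOf_fromSpec (q : PrimeSpectrum Γ(X, U)) (hq : hU.fromSpec q ∈ U) :
    hU.primeIdealOf ⟨hU.fromSpec q, hq⟩ = q :=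
  hU.fromSpec.isOpenEmbedding.injective (hU.fromSpec_primeIdealOf ⟨hU.fromSpec q, hq⟩)

theorem fromSpec_mem (q : PrimeSpectrum Γ(X, U)) : hU.fromSpec q ∈ U := by
  have : hU.fromSpec q ∈ Set.range hU.fromSpec := ⟨q, rfl⟩
  rwa [hU.range_fromSpec] at this

theorem primeIdealOf_le_iff (x y : X) (hx : x ∈ U) (hy : y ∈ U) :
    (hU.primeIdealOf ⟨x, hx⟩).asIdeal ≤ (hU.primeIdealOf ⟨y, hy⟩).asIdeal ↔ x ⤳ y := by
  have h1 : (hU.primeIdealOf ⟨x, hx⟩).asIdeal ≤ (hU.primeIdealOf ⟨y, hy⟩).asIdeal ↔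
      hU.primeIdealOf ⟨x, hx⟩ ⤳ hU.primeIdealOf ⟨y, hy⟩ :=
    PrimeSpectrum.le_iff_specializes _ _
  have h2 := hU.fromSpec.isOpenEmbedding.isInducing.specializes_iff
    (x := hU.primeIdealOf ⟨x, hx⟩) (y := hU.primeIdealOf ⟨y, hy⟩)
  rw [hU.fromSpec_primeIdealOf ⟨x, hx⟩, hU.fromSpec_primeIdealOf ⟨y, hy⟩] at h2
  exact h1.trans h2.symm

theorem primeIdealOf_injective (x y : X) (hx : x ∈ U) (hy : y ∈ U)
    (h : hU.primeIdealOf ⟨x, hx⟩ = hU.primeIdealOf ⟨y, hy⟩) : x = y := by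
  have := congrArg hU.fromSpec h
  rwa [hU.fromSpec_primeIdealOf ⟨x, hx⟩, hU.fromSpec_primeIdealOf ⟨y, hy⟩] at this

theorem mem_primeIdealOf_iff (x : X) (hx : x ∈ U) (a : Γ(X, U)) :
    a ∈ (hU.primeIdealOf ⟨x, hx⟩).asIdeal ↔
      (X.presheaf.germ U x hx ≫ X.residue x).hom a = 0 := by
  rw [hU.primeIdealOf_eq_map_closedPoint ⟨x, hx⟩]
  change (X.presheaf.germ U x hx).hom a ∈ IsLocalRing.maximalIdeal _ ↔ _
  rw [← IsLocalRing.residue_eq_zero_iff]
  rfl

theorem mem_primeIdealOf_iff_notMem_basicOpen (x : X) (hx : x ∈ U) (a : Γ(X, U)) :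
    a ∈ (hU.primeIdealOf ⟨x, hx⟩).asIdeal ↔ x ∉ X.basicOpen a := by
  rw [mem_primeIdealOf_iff hU x hx a]
  exact Scheme.evaluation_eq_zero_iff_notMem_basicOpen X x hx a

end Dict

variable {X : Scheme.{u}}

/-- immediate specializations: with a dimension function, `δ x + 1 = δ ξ` leaves no room between
`ξ` and `x`. -/
theorem eq_or_eq_of_delta {δ : X → ℤ} (hδ : Cyc.IsDimFun X δ) {ξ z x : X} (h1 : ξ ⤳ z)
    (h2 : z ⤳ x) (hx : δ x + 1 = δ ξ) : z = ξ ∨ z = x := by
  by_contra hne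
  push Not at hne
  have a1 := (hδ ξ z h1 (Ne.symm hne.1)).1
  have a2 := (hδ z x h2 hne.2).1
  omega

/-- On an affine open of a locally Noetherian scheme, the immediate specializations of `ξ` lying in
the zero locus of a function `c` not vanishing at `ξ` are finite in number. -/
theorem finite_immediate_specializations_zeroLocus [IsLocallyNoetherian X] {δ : X → ℤ}
    (hδ : Cyc.IsDimFun X δ) {V : X.Opens} (hV : IsAffineOpen V) (ξ : X) (hξ : ξ ∈ V)
    (c : Γ(X, V)) (hc : ξ ∈ X.basicOpen c) :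
    {x : X | x ∈ V ∧ ξ ⤳ x ∧ δ x + 1 = δ ξ ∧ x ∉ X.basicOpen c}.Finite := by
  haveI : IsNoetherianRing Γ(X, V) := IsLocallyNoetherian.component_noetherian ⟨V, hV⟩
  set p := (hV.primeIdealOf ⟨ξ, hξ⟩).asIdeal with hp
  have hfin := Ideal.finite_minimalPrimes_of_isNoetherianRing Γ(X, V) (p ⊔ Ideal.span {c})
  have hcp : c ∉ p := by
    rw [hp, mem_primeIdealOf_iff_notMem_basicOpen hV ξ hξ c]
    exact fun h => h hc
  -- the set as the image of a finite subset of `V`
  let g : ↥V → Ideal Γ(X, V) := fun v => (hV.primeIdealOf v).asIdeal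
  have hginj : Function.Injective g := by
    intro v w hvw
    have : hV.primeIdealOf v = hV.primeIdealOf w := PrimeSpectrum.ext hvw
    exact Subtype.ext (primeIdealOf_injective hV v.1 w.1 v.2 w.2 this)
  have hfin' : (g ⁻¹' (p ⊔ Ideal.span {c}).minimalPrimes).Finite :=
    hfin.preimage hginj.injOn
  refine (hfin'.image Subtype.val).subset ?_
  rintro x ⟨hxV, hξx, hδx, hxc⟩
  refine ⟨⟨x, hxV⟩, ?_, rfl⟩
  change (hV.primeIdealOf ⟨x, hxV⟩).asIdeal ∈ (p ⊔ Ideal.span {c}).minimalPrimes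
  have hpq : p ≤ (hV.primeIdealOf ⟨x, hxV⟩).asIdeal := (primeIdealOf_le_iff hV ξ x hξ hxV).2 hξx
  have hcq : c ∈ (hV.primeIdealOf ⟨x, hxV⟩).asIdeal :=
    (mem_primeIdealOf_iff_notMem_basicOpen hV x hxV c).2 hxc
  refine ⟨⟨(hV.primeIdealOf ⟨x, hxV⟩).2, sup_le hpq ((Ideal.span_singleton_le_iff_mem _).2 hcq)⟩, ?_⟩
  rintro q' ⟨hq'prime, hq'le⟩ hq'x
  -- the point `z` of `q'`
  set z := hV.fromSpec ⟨q', hq'prime⟩ with hz
  have hzV : z ∈ V := fromSpec_mem hV _
  have hzq : hV.primeIdealOf ⟨z, hzV⟩ = ⟨q', hq'prime⟩ := primeIdealOf_fromSpec hV _ hzV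
  have h1 : ξ ⤳ z := by
    rw [← primeIdealOf_le_iff hV ξ z hξ hzV, hzq]
    exact le_sup_left.trans hq'le
  have h2 : z ⤳ x := by
    rw [← primeIdealOf_le_iff hV z x hzV hxV, hzq]
    exact hq'x
  rcases eq_or_eq_of_delta hδ h1 h2 hδx with h | h
  · exfalso
    have : q' = p := by
      have := congrArg PrimeSpectrum.asIdeal hzq
      simp only [h] at this
      exact this.symm
    apply hcp
    rw [← this]
    exact hq'le (Ideal.mem_sup_right (Ideal.mem_span_singleton_self c))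
  · have : q' = (hV.primeIdealOf ⟨x, hxV⟩).asIdeal := by
      have := congrArg PrimeSpectrum.asIdeal hzq
      simp only [h] at this
      exact this.symm
    rw [this]


open Groth.Agent.Lib.Seat28.OrdFrac in
/-- If `f = ψ a / ψ b` with `a, b` functions on an open `V` that are invertible at `x`, then the
order of `f` along `ξ ⤳ x` vanishes. -/
theorem ordAt_eq_zero_of_mem_basicOpen {V : X.Opens} (ξ x : X) (h : ξ ⤳ x) (hxV : x ∈ V)
    (hξV : ξ ∈ V) (a b : Γ(X, V)) (ha : x ∈ X.basicOpen a) (hb : x ∈ X.basicOpen b) :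
    Cyc.ordAt x ξ h ((X.presheaf.germ V ξ hξV ≫ X.residue ξ).hom a /
      (X.presheaf.germ V ξ hξV ≫ X.residue ξ).hom b) = 0 := by
  have hsp : ∀ r : Γ(X, V), (X.presheaf.germ V ξ hξV ≫ X.residue ξ).hom r =
      algebraMap (Cyc.LocQuot x ξ h) (X.residueField ξ)
        (Ideal.Quotient.mk _ ((X.presheaf.germ V x hxV).hom r)) := by
    intro r
    change _ = Cyc.specMap x ξ h ((X.presheaf.germ V x hxV).hom r)
    unfold Cyc.specMap
    have h1 := TopCat.Presheaf.germ_stalkSpecializes X.presheaf hxV h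
    simp only [CommRingCat.hom_comp, RingHom.coe_comp, Function.comp_apply]
    rw [← h1]
    rfl
  have hua : IsUnit (Ideal.Quotient.mk (RingHom.ker (Cyc.specMap x ξ h))
      ((X.presheaf.germ V x hxV).hom a)) :=
    ((X.mem_basicOpen a x hxV).1 ha).map _
  have hub : IsUnit (Ideal.Quotient.mk (RingHom.ker (Cyc.specMap x ξ h))
      ((X.presheaf.germ V x hxV).hom b)) :=
    ((X.mem_basicOpen b x hxV).1 hb).map _
  unfold Cyc.ordAt
  rw [hsp a, hsp b, div_eq_mul_inv]
  have hane : algebraMap (Cyc.LocQuot x ξ h) (X.residueField ξ)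
      (Ideal.Quotient.mk _ ((X.presheaf.germ V x hxV).hom a)) ≠ 0 := (hua.map _).ne_zero
  have hbne : algebraMap (Cyc.LocQuot x ξ h) (X.residueField ξ)
      (Ideal.Quotient.mk _ ((X.presheaf.germ V x hxV).hom b)) ≠ 0 := (hub.map _).ne_zero
  rw [ordFrac_mul hane (inv_ne_zero hbne), ordFrac_inv, ordFrac_algebraMap_of_isUnit hua,
    ordFrac_algebraMap_of_isUnit hub]
  simp


/-- every element of `κ(ξ)` is a quotient of values of functions on an affine open around `ξ`. -/
theorem exists_eq_div {V : X.Opens} (hV : IsAffineOpen V) (ξ : X) (hξV : ξ ∈ V)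
    (f : X.residueField ξ) :
    ∃ a b : Γ(X, V), (X.presheaf.germ V ξ hξV ≫ X.residue ξ).hom b ≠ 0 ∧
      f = (X.presheaf.germ V ξ hξV ≫ X.residue ξ).hom a /
        (X.presheaf.germ V ξ hξV ≫ X.residue ξ).hom b := by
  letI := X.presheaf.algebra_section_stalk (U := V) ⟨ξ, hξV⟩
  haveI := hV.isLocalization_stalk ⟨ξ, hξV⟩
  obtain ⟨g, rfl⟩ := X.residue_surjective ξ f
  obtain ⟨⟨a, s⟩, hg⟩ := IsLocalization.surj (hV.primeIdealOf ⟨ξ, hξV⟩).asIdeal.primeCompl g
  have hs : (X.presheaf.germ V ξ hξV ≫ X.residue ξ).hom s.1 ≠ 0 := by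
    intro h0
    exact s.2 ((mem_primeIdealOf_iff hV ξ hξV s.1).2 h0)
  refine ⟨a, s.1, hs, ?_⟩
  rw [eq_div_iff hs]
  have := congrArg (X.residue ξ).hom hg
  rw [map_mul] at this
  exact this

/-- The support of a principal divisor meets every affine open in a finite set. -/
theorem finite_support_divFun_inter [IsLocallyNoetherian X] {δ : X → ℤ} (hδ : Cyc.IsDimFun X δ)
    (ξ : X) (f : X.residueField ξ) (hf : f ≠ 0) {V : X.Opens} (hV : IsAffineOpen V) :
    {x : X | x ∈ V ∧ Cyc.divFun δ ξ f x ≠ 0}.Finite := by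
  by_cases hξV : ξ ∈ V
  · obtain ⟨a, b, hb, rfl⟩ := exists_eq_div hV ξ hξV f
    have ha : (X.presheaf.germ V ξ hξV ≫ X.residue ξ).hom a ≠ 0 := by
      intro h0
      apply hf
      rw [h0, zero_div]
    have haξ : ξ ∈ X.basicOpen a := by
      by_contra hnot
      exact ha ((Scheme.evaluation_eq_zero_iff_notMem_basicOpen X ξ hξV a).2 hnot)
    have hbξ : ξ ∈ X.basicOpen b := by
      by_contra hnot
      exact hb ((Scheme.evaluation_eq_zero_iff_notMem_basicOpen X ξ hξV b).2 hnot)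
    refine ((finite_immediate_specializations_zeroLocus hδ hV ξ hξV a haξ).union
      (finite_immediate_specializations_zeroLocus hδ hV ξ hξV b hbξ)).subset ?_
    rintro x ⟨hxV, hx⟩
    unfold Cyc.divFun at hx
    by_cases hc : ξ ⤳ x ∧ δ x + 1 = δ ξ
    · rw [dif_pos hc] at hx
      by_cases hxa : x ∈ X.basicOpen a
      · by_cases hxb : x ∈ X.basicOpen b
        · exact absurd (ordAt_eq_zero_of_mem_basicOpen ξ x hc.1 hxV hξV a b hxa hxb) hx
        · exact Or.inr ⟨hxV, hc.1, hc.2, hxb⟩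
      · exact Or.inl ⟨hxV, hc.1, hc.2, hxa⟩
    · rw [dif_neg hc] at hx
      exact absurd rfl hx
  · convert Set.finite_empty
    ext x
    simp only [Set.mem_ofPred_eq, Set.mem_empty_iff_false, iff_false, not_and, not_not]
    intro hxV
    unfold Cyc.divFun
    rw [dif_neg]
    rintro ⟨h, -⟩
    exact hξV (h.mem_open V.2 hxV)


/-- A family of points of an open subscheme `U` which is locally finite in `U` has only finitely
many members in any affine open of the (locally Noetherian) ambient scheme. -/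
theorem finite_setOf_ι_mem [IsLocallyNoetherian X] (U : X.Opens) {ι : Type*}
    (ξ : ι → ↥(U : Scheme.{u}))
    (hlf : ∀ u : ↥(U : Scheme.{u}), ∃ W : Set ↥(U : Scheme.{u}), IsOpen W ∧ u ∈ W ∧
      {i | (closure {ξ i} ∩ W).Nonempty}.Finite)
    {V : X.Opens} (hV : IsAffineOpen V) : {i | U.ι (ξ i) ∈ V}.Finite := by
  haveI : IsNoetherianRing Γ(X, V) := IsLocallyNoetherian.component_noetherian ⟨V, hV⟩
  haveI : NoetherianSpace ↥V := noetherianSpace_of_isAffineOpen V hV
  -- `K = U ∩ V` is compact in `U`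
  have hK : IsCompact (U.ι ⁻¹' (V : Set X)) := by
    rw [U.ι.isOpenEmbedding.isInducing.isCompact_iff, Set.image_preimage_eq_inter_range]
    have h1 : IsCompact {v : ↥V | (v : X) ∈ U} := NoetherianSpace.isCompact _
    have h2 := h1.image continuous_subtype_val
    convert h2 using 1
    ext x
    simp only [Set.mem_inter_iff, SetLike.mem_coe, Set.mem_range, Set.mem_image,
      Set.mem_ofPred_eq, Subtype.exists, exists_and_left, exists_prop, exists_eq_right_right]
    constructor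
    · rintro ⟨hxV, u, rfl⟩
      exact ⟨u.2, hxV⟩
    · rintro ⟨hxU, hxV⟩
      exact ⟨hxV, ⟨x, hxU⟩, rfl⟩
  choose W hWo hWm hWf using hlf
  obtain ⟨t, -, ht⟩ := hK.elim_nhds_subcover W (fun u _ => (hWo u).mem_nhds (hWm u))
  refine (Set.Finite.biUnion t.finite_toSet (fun u _ => hWf u)).subset ?_
  intro i hi
  have hiK : ξ i ∈ U.ι ⁻¹' (V : Set X) := hi
  obtain ⟨u, hut, hu⟩ := Set.mem_iUnion₂.1 (ht hiK)
  exact Set.mem_iUnion₂.2 ⟨u, hut, ⟨ξ i, subset_closure rfl, hu⟩⟩

/-- local finiteness in the form used by `Cyc.RatEquivZero`. -/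
theorem locallyFinite_of_finite_affine [IsLocallyNoetherian X] {ι : Type*} (ξ : ι → X)
    (h : ∀ V : X.Opens, IsAffineOpen V → {i | ξ i ∈ V}.Finite) (x : X) :
    ∃ W : Set X, IsOpen W ∧ x ∈ W ∧ {i | (closure {ξ i} ∩ W).Nonempty}.Finite := by
  obtain ⟨V, hV, hxV, -⟩ := exists_isAffineOpen_mem_and_subset (U := ⊤) (x := x) (by simp)
  refine ⟨V, V.2, hxV, (h V hV).subset ?_⟩
  rintro i ⟨y, hy, hyV⟩
  have : ξ i ⤳ y := specializes_iff_mem_closure.2 hy
  exact this.mem_open V.2 hyV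

end Groth.Agent.Lib.Seat32.CycFin
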