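import Mathlib
import Groth.Prelude.Def_Cyc
import Groth.Agent.Lib.Seat28FlatDiv
import Groth.Agent.Lib.Seat32CycFin

/-!
# Flat pullback preserves rational equivalence: global lemmas (seat 28)

* `noRoom`: the hypothesis of `FlatDiv.ordAt_mul_length_eq_finsum` from dimension functions;
* `ordAt_resTo_eq_zero_of_same_fibre`: nonzero elements of `κ(p x')` have order zero along generizations of
  `x'` inside the fibre;
* `finite_fibMax_in_affine`: an affine open of a locally Noetherian scheme contains finitely many points over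
  a given point which are maximal in their fibre;
* `finite_setOf_mem_of_isCompact`: a locally finite family of points has finitely many members in a compact set.
-/

set_option autoImplicit false
set_option linter.style.haveILetI false
universe u
open AlgebraicGeometry CategoryTheory TopologicalSpace Opposite IsLocalRing

namespace Groth.Agent.Lib.Seat28.FlatRat

open Groth.Agent.Lib.Seat28.FibreMax Groth.Agent.Lib.Seat28.FibreLen Groth.Agent.Lib.Seat28.FlatDiv
open Groth.Agent.Lib.Seat32.GenPrime Groth.Agent.Lib.Seat32.CycFin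

variable {X' X : Scheme.{u}} (p : X' ⟶ X)

/-- no room between `ξ` and `x'`, from the dimension functions. -/
theorem noRoom {δ : X → ℤ} {δ' : X' → ℤ} (hδ : Cyc.IsDimFun X δ) (hδ' : Cyc.IsDimFun X' δ') (c : ℤ)
    (hc : ∀ x' : X', (∀ y, p y = p x' → y ⤳ x' → y = x') → δ' x' = δ (p x') + c)
    (x' : X') (hx' : IsFibMax p x') (ξ : X) (h : ξ ⤳ p x') (hξ : δ (p x') + 1 = δ ξ) :
    ∀ z' : X', z' ⤳ x' → ξ ⤳ p z' → z' = x' ∨ (p z' = ξ ∧ IsFibMax p z') := by
  intro z' hz' hξz'
  have h2 : p z' ⤳ p x' := p.base.hom.map_specializes hz'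
  rcases eq_or_eq_of_delta hδ hξz' h2 hξ with h3 | h3
  · right
    refine ⟨h3, ?_⟩
    rw [← delta_eq_iff p δ δ' hδ' c hc z']
    have hle := delta_le p δ δ' hδ' c hc z'
    have hne : z' ≠ x' := by
      rintro rfl
      rw [h3] at hξ
      omega
    have hlt := (hδ' z' x' hz' hne).1
    have hx'eq := hc x' hx'
    rw [h3] at hle ⊢
    omega
  · left
    exact hx' z' h3 hz'

/-- nonzero elements of `κ(p x')` have order zero along generizations of `x'` inside the fibre. -/
theorem ordAt_resTo_eq_zero_of_same_fibre (x' z : X') (hzx : z ⤳ x') (η : X) (hη : p z = η)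
    (hη' : p x' = η) (g : X.residueField η) (hg : g ≠ 0) :
    Cyc.ordAt x' z hzx (resTo p z η hη g) = 0 := by
  subst hη'
  obtain ⟨u, rfl⟩ := X.residue_surjective (p x') g
  have hu : IsUnit u := by
    by_contra hnu
    apply hg
    exact (IsLocalRing.residue_eq_zero_iff _).2 hnu
  have h1 : Cyc.specMap (p x') (p x') specializes_rfl u = (X.residue (p x')).hom u := by
    unfold Cyc.specMap
    rw [TopCat.Presheaf.stalkSpecializes_refl]
    rfl
  have h2 := resTo_specMap p x' z hzx (p x') hη specializes_rfl u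
  rw [h1] at h2
  change Cyc.ordAt x' z hzx (resTo p z (p x') hη ((X.residue (p x')).hom u)) = 0
  rw [h2]
  exact ordAt_specMap_of_isUnit x' z hzx _ (hu.map _)

/-- a locally finite family of points has finitely many members in a compact set. -/
theorem finite_setOf_mem_of_isCompact {ι : Type*} (ξ : ι → X)
    (hlf : ∀ x : X, ∃ U : Set X, IsOpen U ∧ x ∈ U ∧ {i | (closure {ξ i} ∩ U).Nonempty}.Finite)
    (K : Set X) (hK : IsCompact K) : {i | ξ i ∈ K}.Finite := by
  choose U hUo hxU hUfin using hlf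
  obtain ⟨t, -, ht⟩ := hK.elim_nhds_subcover U (fun x _ => (hUo x).mem_nhds (hxU x))
  have hfin : (⋃ x ∈ t, {i | (closure {ξ i} ∩ U x).Nonempty}).Finite :=
    t.finite_toSet.biUnion (fun x _ => hUfin x)
  refine hfin.subset ?_
  intro i hi
  obtain ⟨x, hxt, hx⟩ := Set.mem_iUnion₂.1 (ht hi)
  exact Set.mem_iUnion₂.2 ⟨x, hxt, ⟨ξ i, subset_closure rfl, hx⟩⟩

/-- the members of a locally finite family of points generizing a given point are finite in number. -/
theorem finite_setOf_specializes {ι : Type*} (ξ : ι → X)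
    (hlf : ∀ x : X, ∃ U : Set X, IsOpen U ∧ x ∈ U ∧ {i | (closure {ξ i} ∩ U).Nonempty}.Finite)
    (y : X) : {i | ξ i ⤳ y}.Finite := by
  obtain ⟨U, -, hyU, hfin⟩ := hlf y
  refine hfin.subset ?_
  intro i hi
  exact ⟨y, specializes_iff_mem_closure.1 hi, hyU⟩

/-- an affine open of a locally Noetherian scheme contains finitely many points over a given point which
are maximal in their fibre. -/
theorem finite_fibMax_in_affine [IsLocallyNoetherian X'] (V : X'.Opens) (hV : IsAffineOpen V) (y : X) :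
    {z : X' | z ∈ V ∧ p z = y ∧ IsFibMax p z}.Finite := by
  haveI : IsNoetherianRing Γ(X', V) := IsLocallyNoetherian.component_noetherian ⟨V, hV⟩
  haveI : NoetherianSpace ↥V := noetherianSpace_of_isAffineOpen V hV
  -- the fibre and its open subset of points in `V`
  haveI : QuasiSober ↥(p ⁻¹' {y}) := (p.fiberHomeo y).symm.isClosedEmbedding.quasiSober
  let W : Set ↥(p ⁻¹' {y}) := {t | t.1 ∈ V}
  have hWo : IsOpen W := V.2.preimage continuous_subtype_val
  haveI : QuasiSober ↥W := hWo.isOpenEmbedding_subtypeVal.quasiSober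
  let j : ↥W → ↥V := fun w => ⟨w.1.1, w.2⟩
  have hj : Topology.IsInducing j := by
    have h1 : Topology.IsInducing ((Subtype.val : ↥V → X') ∘ j) := by
      have : (Subtype.val : ↥V → X') ∘ j =
          (Subtype.val : ↥(p ⁻¹' {y}) → X') ∘ (Subtype.val : ↥W → ↥(p ⁻¹' {y})) := rfl
      rw [this]
      exact Topology.IsInducing.subtypeVal.comp Topology.IsInducing.subtypeVal
    have hjc : Continuous j := by
      refine Continuous.subtype_mk ?_ _
      exact continuous_subtype_val.comp continuous_subtype_val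
    exact Topology.IsInducing.of_comp hjc continuous_subtype_val h1
  haveI : NoetherianSpace ↥W := hj.noetherianSpace
  have hcomp : (irreducibleComponents ↥W).Finite := NoetherianSpace.finite_irreducibleComponents
  -- the generic points of `W`
  have hgen : {w : ↥W | closure {w} ∈ irreducibleComponents ↥W}.Finite := by
    refine Set.Finite.of_injOn (f := fun w => closure {w}) (fun w hw => hw) ?_ hcomp
    intro w₁ _ w₂ _ h12
    have h1 : IsGenericPoint w₁ (closure {w₂}) := h12
    exact h1.eq (isGenericPoint_closure)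
  refine (hgen.image (fun w => w.1.1)).subset ?_
  rintro z ⟨hzV, hzy, hzmax⟩
  let w : ↥W := ⟨⟨z, hzy⟩, hzV⟩
  refine ⟨w, ?_, rfl⟩
  refine ⟨isIrreducible_singleton.closure, ?_⟩
  intro t ht hwt
  obtain ⟨η, hη⟩ := QuasiSober.sober ht.closure isClosed_closure
  have hwη : η ⤳ w := by
    rw [specializes_iff_mem_closure, hη.def]
    exact subset_closure (hwt (subset_closure rfl))
  have h1 : η.1 ⤳ w.1 := (subtype_specializes_iff η w).1 hwη
  have h2 : η.1.1 ⤳ z := (subtype_specializes_iff η.1 w.1).1 h1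
  have h3 : η.1.1 = z := hzmax η.1.1 (by rw [η.1.2, hzy]) h2
  have h4 : η = w := Subtype.ext (Subtype.ext h3)
  rw [← h4, hη.def]
  exact subset_closure

/-- a sum over a subtype of a product as an iterated sum. -/
lemma finsum_subtype_prod_eq {ι Z : Type*} (Q : ι × Z → Prop) (F : ι × Z → ℤ)
    (hQ : Function.support F ⊆ {t | Q t}) (hfin : (Function.support F).Finite) :
    ∑ᶠ t : {t // Q t}, F t.1 = ∑ᶠ i, ∑ᶠ z, F (i, z) := by
  rw [finsum_subtype_eq_finsum_cond (f := F) Q]
  change ∑ᶠ t ∈ {t | Q t}, F t = _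
  rw [← finsum_eq_finsum_mem_of_support_subset F hQ]
  exact finsum_curry F hfin

/-- the multiplicity of the fibre at a point. -/
noncomputable abbrev mult (z : X') : ℕ :=
  (Module.length (X'.presheaf.stalk z) (X'.presheaf.stalk z ⧸ fibIdeal p z)).toNat

open Classical in
/-- **Flat pullback of a locally finite sum of principal divisors**, pointwise: the pullback of
`∑ᵢ div(ξᵢ, fᵢ)` is `∑ div(ξ', fᵢ^{m(ξ')})`, the sum over the pairs `(i, ξ')` with `ξ'` over `ξᵢ` maximal in its
fibre, and `m(ξ')` the multiplicity of the fibre at `ξ'`. -/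
theorem pullFun_eq_finsum (X X' : Scheme.{u}) (δ : X → ℤ) (δ' : X' → ℤ) (hX : Cyc.IsSetup X δ)
    (hX' : Cyc.IsSetup X' δ') (p : X' ⟶ X) [Flat p] (c : ℤ)
    (hc : ∀ x' : X', (∀ y, p y = p x' → y ⤳ x' → y = x') → δ' x' = δ (p x') + c) (k : ℤ)
    {ι : Type*} (ξ : ι → X) (f : (i : ι) → X.residueField (ξ i)) (hdim : ∀ i, δ (ξ i) = k + 1)
    (hf : ∀ i, f i ≠ 0)
    (hlf : ∀ x : X, ∃ U : Set X, IsOpen U ∧ x ∈ U ∧ {i | (closure {ξ i} ∩ U).Nonempty}.Finite)
    (a : X → ℤ) (hsum : ∀ x : X, a x = ∑ᶠ i, Cyc.divFun δ (ξ i) (f i) x) (x' : X') :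
    Cyc.pullFun p δ' δ c a x' =
      ∑ᶠ t : {t : ι × X' // p t.2 = ξ t.1 ∧ IsFibMax p t.2},
        Cyc.divFun δ' t.1.2 ((resTo p t.1.2 (ξ t.1.1) t.2.1 (f t.1.1)) ^ (mult p t.1.2)) x' := by
  haveI hN : IsLocallyNoetherian X := hX.1
  haveI hN' : IsLocallyNoetherian X' := hX'.1
  have hδ := hX.2.2
  have hδ' := hX'.2.2
  let Q : ι × X' → Prop := fun t => p t.2 = ξ t.1 ∧ IsFibMax p t.2
  have hδz : ∀ t : {t : ι × X' // Q t}, δ' t.1.2 = k + c + 1 := by
    intro t
    rw [hc t.1.2 t.2.2, t.2.1, hdim]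
    ring
  unfold Cyc.pullFun
  by_cases hfm : IsFibMax p x'
  · have hδx' : δ' x' = δ (p x') + c := hc x' hfm
    rw [if_pos hδx']
    by_cases hk : δ (p x') = k
    · -- the main case
      let F : ι × X' → ℤ := fun t => termAt p x' (ξ t.1) (f t.1) t.2
      have hG : ∀ t : {t : ι × X' // Q t},
          Cyc.divFun δ' t.1.2 ((resTo p t.1.2 (ξ t.1.1) t.2.1 (f t.1.1)) ^ (mult p t.1.2)) x' =
            F t.1 := by
        intro t
        have h1 : δ' x' + 1 = δ' t.1.2 := by rw [hδz t, hδx', hk]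
        unfold Cyc.divFun
        change _ = termAt p x' (ξ t.1.1) (f t.1.1) t.1.2
        unfold termAt
        by_cases hzx : t.1.2 ⤳ x'
        · have hgen : t.1.2 ∈ Gen p x' (ξ t.1.1) := ⟨t.2.1, t.2.2, hzx⟩
          rw [dif_pos ⟨hzx, h1⟩, dif_pos hgen,
            ordAt_pow _ _ _ (resTo_ne_zero p _ _ t.2.1 (hf t.1.1))]
        · have hgen : ¬ t.1.2 ∈ Gen p x' (ξ t.1.1) := fun hh => hzx hh.2.2
          rw [dif_neg (fun hh => hzx hh.1), dif_neg hgen]
      have hI₀ : {i | ξ i ⤳ p x'}.Finite := finite_setOf_specializes ξ hlf (p x')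
      have hsuppQ : Function.support F ⊆ {t | Q t} := by
        intro t ht
        have := support_termAt_subset p x' (ξ t.1) (f t.1) ht
        exact ⟨this.1, this.2.1⟩
      have hsuppfin : (Function.support F).Finite := by
        have hT : (⋃ i ∈ {i | ξ i ⤳ p x'},
            (fun z => ((i, z) : ι × X')) '' Gen p x' (ξ i)).Finite :=
          hI₀.biUnion (fun i hi => (finite_gen p x' (ξ i) hi).image _)
        refine hT.subset ?_
        intro t ht
        have hgen := support_termAt_subset p x' (ξ t.1) (f t.1) ht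
        have hsp : ξ t.1 ⤳ p x' := by
          rw [← hgen.1]
          exact p.base.hom.map_specializes hgen.2.2
        exact Set.mem_iUnion₂.2 ⟨t.1, hsp, ⟨t.2, hgen, rfl⟩⟩
      rw [finsum_congr hG, finsum_subtype_prod_eq Q F hsuppQ hsuppfin, hsum (p x'), finsum_mul]
      apply finsum_congr
      intro i
      unfold Cyc.divFun
      by_cases hi : ξ i ⤳ p x'
      · rw [dif_pos ⟨hi, by rw [hk, hdim]⟩]
        exact ordAt_mul_length_eq_finsum p x' (ξ i) hi
          (noRoom p hδ hδ' c hc x' hfm (ξ i) hi (by rw [hk, hdim])) (f i) (hf i)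
      · rw [dif_neg (fun hh => hi hh.1), zero_mul]
        symm
        apply finsum_eq_zero_of_forall_eq_zero
        intro z
        change termAt p x' (ξ i) (f i) z = 0
        unfold termAt
        have hgen : ¬ z ∈ Gen p x' (ξ i) := by
          intro hh
          apply hi
          rw [← hh.1]
          exact p.base.hom.map_specializes hh.2.2
        rw [dif_neg hgen]
    · -- `p x'` is not of dimension `k`
      have ha0 : a (p x') = 0 := by
        rw [hsum (p x')]
        apply finsum_eq_zero_of_forall_eq_zero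
        intro i
        unfold Cyc.divFun
        rw [dif_neg]
        rintro ⟨-, h1⟩
        rw [hdim] at h1
        apply hk
        omega
      rw [ha0, zero_mul]
      symm
      apply finsum_eq_zero_of_forall_eq_zero
      intro t
      unfold Cyc.divFun
      rw [dif_neg]
      rintro ⟨-, h1⟩
      rw [hδz t, hδx'] at h1
      apply hk
      omega
  · -- `x'` is not maximal in its fibre
    rw [if_neg (fun hh => hfm ((delta_eq_iff p δ δ' hδ' c hc x').1 hh))]
    symm
    apply finsum_eq_zero_of_forall_eq_zero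
    intro t
    unfold Cyc.divFun
    by_cases hcond : t.1.2 ⤳ x' ∧ δ' x' + 1 = δ' t.1.2
    · rw [dif_pos hcond, ordAt_pow _ _ _ (resTo_ne_zero p _ _ t.2.1 (hf t.1.1))]
      have hpx' : p x' = ξ t.1.1 := by
        obtain ⟨y, hy1, hy2, hy3⟩ := exists_isFibMax_specializes p x'
        have hyne : y ≠ x' := by
          rintro rfl
          exact hfm hy3
        have h1 := (hδ' y x' hy2 hyne).1
        have h2 := hc y hy3
        rw [hy1] at h2
        have h3 := hcond.2
        rw [hδz t] at h3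
        have hsp : ξ t.1.1 ⤳ p x' := by
          rw [← t.2.1]
          exact p.base.hom.map_specializes hcond.1
        by_contra hne
        have h4 := (hδ (ξ t.1.1) (p x') hsp (fun h => hne h.symm)).1
        rw [hdim] at h4
        omega
      rw [ordAt_resTo_eq_zero_of_same_fibre p x' t.1.2 hcond.1 (ξ t.1.1) t.2.1 hpx' (f t.1.1)
        (hf t.1.1), mul_zero]
    · rw [dif_neg hcond]

/-- local finiteness of the pulled back family of points. -/
theorem locallyFinite_pullback [IsLocallyNoetherian X'] {ι : Type*} (ξ : ι → X)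
    (hlf : ∀ x : X, ∃ U : Set X, IsOpen U ∧ x ∈ U ∧ {i | (closure {ξ i} ∩ U).Nonempty}.Finite)
    (x' : X') :
    ∃ U : Set X', IsOpen U ∧ x' ∈ U ∧
      {t : {t : ι × X' // p t.2 = ξ t.1 ∧ IsFibMax p t.2} |
        (closure {t.1.2} ∩ U).Nonempty}.Finite := by
  apply locallyFinite_of_finite_affine (ξ := fun t : {t : ι × X' // p t.2 = ξ t.1 ∧ IsFibMax p t.2} => t.1.2)
  intro V hV
  have hK : IsCompact (p '' (V : Set X')) := hV.isCompact.image p.continuous
  have hI : {i | ξ i ∈ p '' (V : Set X')}.Finite := finite_setOf_mem_of_isCompact ξ hlf _ hK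
  have hT : (⋃ i ∈ {i | ξ i ∈ p '' (V : Set X')},
      (fun z => ((i, z) : ι × X')) '' {z : X' | z ∈ V ∧ p z = ξ i ∧ IsFibMax p z}).Finite :=
    hI.biUnion (fun i _ => (finite_fibMax_in_affine p V hV (ξ i)).image _)
  refine Set.Finite.of_injOn
    (f := fun t : {t : ι × X' // p t.2 = ξ t.1 ∧ IsFibMax p t.2} => t.1) ?_
    (Subtype.val_injective.injOn) hT
  intro t ht
  have htV : t.1.2 ∈ V := ht
  refine Set.mem_iUnion₂.2 ⟨t.1.1, ⟨t.1.2, htV, t.2.1⟩, ⟨t.1.2, ⟨htV, t.2.1, t.2.2⟩, rfl⟩⟩

/-- **Flat pullback preserves rational equivalence to zero** (base-free form of Stacks 02S1): the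
statement of milestone S1940. -/
theorem ratEquivZero_pullFun (X X' : Scheme.{u}) (δ : X → ℤ) (δ' : X' → ℤ) (hX : Cyc.IsSetup X δ)
    (hX' : Cyc.IsSetup X' δ') (p : X' ⟶ X) [Flat p] (c : ℤ)
    (hc : ∀ x' : X', (∀ y, p y = p x' → y ⤳ x' → y = x') → δ' x' = δ (p x') + c) (k : ℤ)
    (α : AlgebraicCycle X ℤ) (hα : α ∈ Cyc.Zk X δ k) (h0 : Cyc.RatEquivZero δ k α)
    (α' : AlgebraicCycle X' ℤ) (hα' : ⇑α' = Cyc.pullFun p δ' δ c ⇑α) :
    Cyc.RatEquivZero δ' (k + c) α' := by
  obtain ⟨ι, ξ, f, hdim, hf, hlf, hsum⟩ := h0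
  haveI hN' : IsLocallyNoetherian X' := hX'.1
  refine ⟨{t : ι × X' // p t.2 = ξ t.1 ∧ IsFibMax p t.2}, fun t => t.1.2,
    fun t => (resTo p t.1.2 (ξ t.1.1) t.2.1 (f t.1.1)) ^ (mult p t.1.2), ?_, ?_, ?_, ?_⟩
  · intro t
    rw [hc t.1.2 t.2.2, t.2.1, hdim]
    ring
  · intro t
    exact pow_ne_zero _ (resTo_ne_zero p _ _ t.2.1 (hf t.1.1))
  · exact locallyFinite_pullback p ξ hlf
  · intro x'
    rw [hα']
    exact pullFun_eq_finsum X X' δ δ' hX hX' p c hc k ξ f hdim hf hlf ⇑α hsum x'

end Groth.Agent.Lib.Seat28.FlatRat
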