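import Mathlib
import Groth.Agent.Lib.Seat28FibreLen

/-!
# Points of a limit of schemes with affine transition maps (seat 28)

For a cofiltered diagram `D` of schemes with affine transition maps and limit cone `c`:
* `specializes_of_forall_mem_closure`: if `π_i y ∈ closure {π_i ξ}` for all `i`, then `ξ ⤳ y`.
* `exists_fibre_subset_closure`: if the limit is a Noetherian space, then for some `i` the preimage of
  `closure {π_i ξ}` is contained in `closure {ξ}`.
-/

set_option autoImplicit false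
set_option linter.style.haveILetI false
universe u
open CategoryTheory CategoryTheory.Limits AlgebraicGeometry TopologicalSpace IsLocalRing

namespace Groth.Agent.Lib.Seat28.LimCyc

open Groth.Agent.Lib.Seat28.FibreMax Groth.Agent.Lib.Seat28.FibreLen

variable {I : Type u} [Category.{u} I] (D : I ⥤ Scheme.{u}) (c : Cone D) (hc : IsLimit c)

include hc in
/-- a point all of whose images are specializations of the images of `ξ` is a specialization of `ξ`. -/
theorem specializes_of_forall_mem_closure [IsCofiltered I]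
    [∀ {i j} (f : i ⟶ j), IsAffineHom (D.map f)] (ξ y : c.pt)
    (h : ∀ i : I, c.π.app i y ∈ closure ({c.π.app i ξ} : Set (D.obj i))) : ξ ⤳ y := by
  rw [specializes_iff_forall_open]
  intro W hW hyW
  obtain ⟨_, ⟨_, ⟨i, V, hV, rfl⟩, rfl⟩, hyV, hVW⟩ :=
    (isBasis_preimage_isAffineOpen D c hc).exists_subset_of_mem_open hyW hW
  apply hVW
  have h1 : c.π.app i ξ ⤳ c.π.app i y := specializes_iff_mem_closure.2 (h i)
  exact h1.mem_open V.isOpen hyV

include hc in
/-- for a Noetherian limit, some stage cuts out the closure of a given point. -/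
theorem exists_fibre_subset_closure [IsCofiltered I]
    [∀ {i j} (f : i ⟶ j), IsAffineHom (D.map f)] [NoetherianSpace c.pt] (ξ : c.pt) :
    ∃ i₀ : I, ∀ y : c.pt, c.π.app i₀ y ∈ closure ({c.π.app i₀ ξ} : Set (D.obj i₀)) → ξ ⤳ y := by
  -- the closed sets `Z i`
  let Z : I → Closeds c.pt := fun i =>
    ⟨c.π.app i ⁻¹' closure ({c.π.app i ξ} : Set (D.obj i)),
      isClosed_closure.preimage (c.π.app i).continuous⟩
  have hmono : ∀ {i j : I} (f : j ⟶ i), Z j ≤ Z i := by
    intro i j f y hy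
    change c.π.app i y ∈ closure ({c.π.app i ξ} : Set (D.obj i))
    have hy' : c.π.app j y ∈ closure ({c.π.app j ξ} : Set (D.obj j)) := hy
    have e : ∀ z : c.pt, c.π.app i z = D.map f (c.π.app j z) := by
      intro z
      rw [← c.w f]
      rfl
    rw [e y, e ξ]
    have hsp : c.π.app j ξ ⤳ c.π.app j y := specializes_iff_mem_closure.2 hy'
    exact specializes_iff_mem_closure.1 (hsp.map (D.map f).continuous)
  obtain ⟨i₁⟩ := IsCofiltered.nonempty (C := I)
  obtain ⟨_, ⟨i₀, rfl⟩, hmin⟩ := wellFounded_lt.has_min (Set.range Z) ⟨Z i₁, i₁, rfl⟩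
  refine ⟨i₀, fun y hy => ?_⟩
  apply specializes_of_forall_mem_closure D c hc
  intro j
  have hl1 : Z (IsCofiltered.min i₀ j) ≤ Z i₀ := hmono (IsCofiltered.minToLeft i₀ j)
  have hl2 : Z (IsCofiltered.min i₀ j) ≤ Z j := hmono (IsCofiltered.minToRight i₀ j)
  have heq : Z (IsCofiltered.min i₀ j) = Z i₀ := by
    by_contra hne
    exact hmin _ ⟨_, rfl⟩ (lt_of_le_of_ne hl1 hne)
  have : y ∈ Z i₀ := hy
  rw [← heq] at this
  exact hl2 this

set_option backward.defeqAttrib.useBackward true in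
set_option backward.isDefEq.respectTransparency false in
open Scheme.Opens in
include hc in
/-- sections of the limit over the preimage of an affine open come from a finite stage. -/
theorem exists_appLE_eq [IsCofiltered I] [∀ {i j} (f : i ⟶ j), IsAffineHom (D.map f)]
    (i : I) (V : (D.obj i).Opens) (hV : IsAffineOpen V) (r : Γ(c.pt, c.π.app i ⁻¹ᵁ V)) :
    ∃ (j : I) (f : j ⟶ i) (h : c.π.app i ⁻¹ᵁ V ≤ c.π.app j ⁻¹ᵁ (D.map f ⁻¹ᵁ V))
      (t : Γ(D.obj j, D.map f ⁻¹ᵁ V)),
      r = (c.π.app j).appLE (D.map f ⁻¹ᵁ V) (c.π.app i ⁻¹ᵁ V) h t := by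
  have (j : _) : IsAffine ((opensDiagram D i V).op.obj j).unop := hV.preimage _
  have (j : _) : IsAffine ((opensDiagram D i V).obj j) := hV.preimage _
  obtain ⟨⟨j⟩, s, hs⟩ := (Types.jointly_surjective_of_isColimit (isColimitOfPreserves
    (Scheme.Γ ⋙ forget _) (isLimitOpensCone D c hc i V).op) ((c.π.app i ⁻¹ᵁ V).topIso.inv r))
  obtain ⟨s, rfl⟩ := (D.map j.hom ⁻¹ᵁ V).topIso.symm.commRingCatIsoToRingEquiv.surjective s
  have h : c.π.app j.left ⁻¹ᵁ D.map j.hom ⁻¹ᵁ V = c.π.app i ⁻¹ᵁ V := congr($(c.w j.hom) ⁻¹ᵁ V)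
  have : r = (c.π.app j.left).appLE (D.map j.hom ⁻¹ᵁ V) (c.π.app i ⁻¹ᵁ V) h.ge s := by
    convert!
      show r = ((topIso _).inv ≫ ((opensCone D c i V).π.app j).appTop ≫ (topIso _).hom) s from
        (c.π.app i ⁻¹ᵁ V).topIso.commRingCatIsoToRingEquiv.symm_apply_eq.mp hs.symm using 3
    simp [Scheme.Hom.app_eq_appLE, Scheme.Hom.resLE_appLE]
  exact ⟨j.left, j.hom, h.ge, s, this⟩

/-- fibre ideals grow along composition. -/
theorem fibIdeal_comp_le {X Y Z : Scheme.{u}} (g : X ⟶ Y) (h : Y ⟶ Z) (x : X) :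
    fibIdeal (g ≫ h) x ≤ fibIdeal g x := by
  have hsm : ((g ≫ h).stalkMap x).hom = (g.stalkMap x).hom.comp (h.stalkMap (g x)).hom := by
    rw [Scheme.Hom.stalkMap_comp]
    rfl
  have key : fibIdeal (g ≫ h) x = Ideal.map ((g.stalkMap x).hom.comp (h.stalkMap (g x)).hom)
      (maximalIdeal (Z.presheaf.stalk (h (g x)))) := by
    unfold fibIdeal
    rw [hsm]
    rfl
  rw [key, ← Ideal.map_map]
  exact Ideal.map_mono (fibIdeal_le_maximalIdeal h (g x))

/-- fibre ideals grow along the diagram. -/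
theorem fibIdeal_mono {i j : I} (f : j ⟶ i) (ξ : c.pt) :
    fibIdeal (c.π.app i) ξ ≤ fibIdeal (c.π.app j) ξ := by
  have h := fibIdeal_comp_le (c.π.app j) (D.map f) ξ
  rw [c.w f] at h
  exact h

include hc in
/-- the germ of a section over the preimage of an affine open which vanishes at `ξ` lies in the fibre
ideal of some stage. -/
theorem exists_germ_mem_fibIdeal [IsCofiltered I] [∀ {i j} (f : i ⟶ j), IsAffineHom (D.map f)]
    (i : I) (V : (D.obj i).Opens) (hV : IsAffineOpen V) (ξ : c.pt) (hξ : ξ ∈ c.π.app i ⁻¹ᵁ V)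
    (r : Γ(c.pt, c.π.app i ⁻¹ᵁ V))
    (hr : c.pt.presheaf.germ _ ξ hξ r ∈ maximalIdeal (c.pt.presheaf.stalk ξ)) :
    ∃ j : I, c.pt.presheaf.germ _ ξ hξ r ∈ fibIdeal (c.π.app j) ξ := by
  obtain ⟨j, f, h, t, ht⟩ := exists_appLE_eq D c hc i V hV r
  refine ⟨j, ?_⟩
  have hξ' : c.π.app j ξ ∈ D.map f ⁻¹ᵁ V := h hξ
  have e1 : c.pt.presheaf.germ _ ξ hξ r =
      (c.π.app j).stalkMap ξ ((D.obj j).presheaf.germ (D.map f ⁻¹ᵁ V) (c.π.app j ξ) hξ' t) := by
    rw [Scheme.Hom.germ_stalkMap_apply, ht, Scheme.Hom.appLE]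
    exact (TopCat.Presheaf.germ_res_apply c.pt.presheaf (homOfLE h) ξ hξ _)
  rw [e1] at hr ⊢
  apply Ideal.mem_map_of_mem
  by_contra hnm
  have hu : IsUnit ((D.obj j).presheaf.germ (D.map f ⁻¹ᵁ V) (c.π.app j ξ) hξ' t) := by
    by_contra hnu
    exact hnm hnu
  exact hr (hu.map ((c.π.app j).stalkMap ξ).hom)

/-- a property of stages which persists along the diagram holds simultaneously for finitely many
parameters at some stage. -/
theorem exists_common_stage [IsCofiltered I] {β : Type*} (Q : I → β → Prop)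
    (hQ : ∀ {i j : I} (_ : j ⟶ i) (b : β), Q i b → Q j b) (S : Finset β)
    (h : ∀ b ∈ S, ∃ i, Q i b) : ∃ i, ∀ b ∈ S, Q i b := by
  classical
  induction S using Finset.induction_on with
  | empty =>
    obtain ⟨i⟩ := IsCofiltered.nonempty (C := I)
    exact ⟨i, fun b hb => absurd hb (Finset.notMem_empty b)⟩
  | insert a S ha ih =>
    obtain ⟨i₁, hi₁⟩ := ih (fun b hb => h b (Finset.mem_insert_of_mem hb))
    obtain ⟨i₂, hi₂⟩ := h a (Finset.mem_insert_self a S)
    refine ⟨IsCofiltered.min i₁ i₂, fun b hb => ?_⟩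
    rcases Finset.mem_insert.1 hb with rfl | hb'
    · exact hQ (IsCofiltered.minToRight i₁ i₂) _ hi₂
    · exact hQ (IsCofiltered.minToLeft i₁ i₂) _ (hi₁ b hb')

/-- the maximal ideal of the local ring at a point of an affine open of a locally Noetherian scheme is
generated by the germs of finitely many sections vanishing at the point. -/
theorem exists_finset_span_germ_eq_maximalIdeal {X : Scheme.{u}} [IsLocallyNoetherian X]
    (W : X.Opens) (hW : IsAffineOpen W) (ξ : X) (hξW : ξ ∈ W) :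
    ∃ S : Finset Γ(X, W),
      (∀ r ∈ S, X.presheaf.germ W ξ hξW r ∈ maximalIdeal (X.presheaf.stalk ξ)) ∧
      maximalIdeal (X.presheaf.stalk ξ) =
        Ideal.span ((X.presheaf.germ W ξ hξW).hom '' (S : Set Γ(X, W))) := by
  haveI : IsNoetherianRing Γ(X, W) := IsLocallyNoetherian.component_noetherian ⟨W, hW⟩
  letI := X.presheaf.algebra_section_stalk (⟨ξ, hξW⟩ : W)
  haveI hloc := hW.isLocalization_stalk ⟨ξ, hξW⟩
  have hmax0 := IsLocalization.AtPrime.map_eq_maximalIdeal (hW.primeIdealOf ⟨ξ, hξW⟩).asIdeal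
    (X.presheaf.stalk ξ)
  have hmax : Ideal.map (X.presheaf.germ W ξ hξW).hom
      (hW.primeIdealOf ⟨ξ, hξW⟩).asIdeal = maximalIdeal (X.presheaf.stalk ξ) := hmax0
  obtain ⟨S, hS⟩ := (isNoetherian_def.1 inferInstance (hW.primeIdealOf ⟨ξ, hξW⟩).asIdeal)
  refine ⟨S, fun r hr => ?_, ?_⟩
  · have h1 : r ∈ (hW.primeIdealOf ⟨ξ, hξW⟩).asIdeal := by
      rw [← hS]
      exact Ideal.subset_span hr
    have h2 := (IsLocalization.AtPrime.to_map_mem_maximal_iff
      (X.presheaf.stalk ξ) (hW.primeIdealOf ⟨ξ, hξW⟩).asIdeal r).2 h1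
    exact h2
  · rw [← hmax, ← hS, Ideal.map_span]

include hc in
/-- for a locally Noetherian limit, the fibre ideal at `ξ` of some stage is the maximal ideal. -/
theorem exists_fibIdeal_eq [IsCofiltered I] [∀ {i j} (f : i ⟶ j), IsAffineHom (D.map f)]
    [IsLocallyNoetherian c.pt] (ξ : c.pt) :
    ∃ i : I, fibIdeal (c.π.app i) ξ = maximalIdeal (c.pt.presheaf.stalk ξ) := by
  classical
  obtain ⟨i₁⟩ := IsCofiltered.nonempty (C := I)
  obtain ⟨_, ⟨V, hV : IsAffineOpen V, rfl⟩, hξV, -⟩ :=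
    (D.obj i₁).isBasis_affineOpens.exists_subset_of_mem_open
      (Set.mem_univ (c.π.app i₁ ξ)) isOpen_univ
  let g : c.pt ⟶ D.obj i₁ := c.π.app i₁
  haveI : IsAffineHom g := isAffineHom_π_app D c hc i₁
  have hW : IsAffineOpen (g ⁻¹ᵁ V) := hV.preimage g
  have hξW : ξ ∈ g ⁻¹ᵁ V := hξV
  obtain ⟨S, hmem, hspan⟩ := exists_finset_span_germ_eq_maximalIdeal (g ⁻¹ᵁ V) hW ξ hξW
  obtain ⟨i, hi⟩ := exists_common_stage
    (fun (i : I) (r : Γ(c.pt, g ⁻¹ᵁ V)) =>
      c.pt.presheaf.germ (g ⁻¹ᵁ V) ξ hξW r ∈ fibIdeal (c.π.app i) ξ)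
    (fun {i j} f b hb => fibIdeal_mono D c f ξ hb) S
    (fun r hr => exists_germ_mem_fibIdeal D c hc i₁ V hV ξ hξW r (hmem r hr))
  refine ⟨i, le_antisymm (fibIdeal_le_maximalIdeal _ _) ?_⟩
  rw [hspan, Ideal.span_le]
  rintro _ ⟨r, hr, rfl⟩
  exact hi r hr

/-- the stage `i` isolates the point `ξ` of the limit: the fibre through `ξ` lies in the closure of `ξ`
and the fibre ring at `ξ` is the residue field. -/
structure Good (i : I) (ξ : c.pt) : Prop where
  fib : ∀ y : c.pt, c.π.app i y ∈ closure ({c.π.app i ξ} : Set (D.obj i)) → ξ ⤳ y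
  len : fibIdeal (c.π.app i) ξ = maximalIdeal (c.pt.presheaf.stalk ξ)

variable {D c}

theorem Good.mono {i j : I} (f : j ⟶ i) {ξ : c.pt} (h : Good D c i ξ) : Good D c j ξ where
  fib y hy := by
    apply h.fib
    have e : ∀ z : c.pt, c.π.app i z = D.map f (c.π.app j z) := by
      intro z
      rw [← c.w f]
      rfl
    rw [e y, e ξ]
    have hsp : c.π.app j ξ ⤳ c.π.app j y := specializes_iff_mem_closure.2 hy
    exact specializes_iff_mem_closure.1 (hsp.map (D.map f).continuous)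
  len := le_antisymm (fibIdeal_le_maximalIdeal _ _) (h.len ▸ fibIdeal_mono D c f ξ)

theorem Good.isFibMax {i : I} {ξ : c.pt} (h : Good D c i ξ) : IsFibMax (c.π.app i) ξ := by
  intro y hy hyξ
  have h1 : ξ ⤳ y := h.fib y (by rw [hy]; exact subset_closure rfl)
  exact (hyξ.antisymm h1).eq

theorem Good.eq_of_isFibMax {i : I} {ξ : c.pt} (h : Good D c i ξ) (y : c.pt)
    (hy : c.π.app i y = c.π.app i ξ) (hmax : IsFibMax (c.π.app i) y) : y = ξ := by
  have h1 : ξ ⤳ y := h.fib y (by rw [hy]; exact subset_closure rfl)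
  exact (hmax ξ hy.symm h1).symm

theorem Good.length_eq_one {i : I} {ξ : c.pt} (h : Good D c i ξ) :
    Module.length (c.pt.presheaf.stalk ξ)
      (c.pt.presheaf.stalk ξ ⧸ fibIdeal (c.π.app i) ξ) = 1 := by
  rw [h.len]
  haveI : IsSimpleModule (c.pt.presheaf.stalk ξ)
      (c.pt.presheaf.stalk ξ ⧸ maximalIdeal (c.pt.presheaf.stalk ξ)) :=
    isSimpleModule_iff_quot_maximal.2 ⟨_, inferInstance, ⟨LinearEquiv.refl _ _⟩⟩
  exact Module.length_eq_one _ _

variable (D c)

include hc in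
/-- every point of a Noetherian limit is isolated by some stage. -/
theorem exists_good [IsCofiltered I] [∀ {i j} (f : i ⟶ j), IsAffineHom (D.map f)]
    [IsLocallyNoetherian c.pt] [NoetherianSpace c.pt] (ξ : c.pt) : ∃ i : I, Good D c i ξ := by
  obtain ⟨i₁, h₁⟩ := exists_fibre_subset_closure D c hc ξ
  obtain ⟨i₂, h₂⟩ := exists_fibIdeal_eq D c hc ξ
  have hg₁ : ∀ {j : I} (f : j ⟶ i₁) (y : c.pt),
      c.π.app j y ∈ closure ({c.π.app j ξ} : Set (D.obj j)) → ξ ⤳ y := by
    intro j f y hy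
    apply h₁
    have e : ∀ z : c.pt, c.π.app i₁ z = D.map f (c.π.app j z) := by
      intro z
      rw [← c.w f]
      rfl
    rw [e y, e ξ]
    have hsp : c.π.app j ξ ⤳ c.π.app j y := specializes_iff_mem_closure.2 hy
    exact specializes_iff_mem_closure.1 (hsp.map (D.map f).continuous)
  refine ⟨IsCofiltered.min i₁ i₂, hg₁ (IsCofiltered.minToLeft i₁ i₂), ?_⟩
  exact le_antisymm (fibIdeal_le_maximalIdeal _ _)
    (h₂ ▸ fibIdeal_mono D c (IsCofiltered.minToRight i₁ i₂) ξ)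

end Groth.Agent.Lib.Seat28.LimCyc
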