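import Mathlib
import Groth.Prelude.Def_Cyc
import Groth.Agent.Lib.Seat28FlatRat
import Groth.Agent.Lib.Seat28LimCyc

/-!
# Flat pullback of cycles: functoriality and local finiteness (seat 28)

* `pullFun_comp`: `q^* p^* = (q ≫ p)^*` on coefficient functions (shift `0`);
* `pullFun_sub`: additivity;
* `exists_cycle_pullFun`: the flat pullback of a cycle is a cycle (locally finite support);
* `exists_cycle_finsum_divFun`: a finite sum of principal divisors is a cycle.
-/

set_option autoImplicit false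
set_option linter.style.haveILetI false
universe u
open AlgebraicGeometry CategoryTheory TopologicalSpace Opposite IsLocalRing

namespace Groth.Agent.Lib.Seat28.PullCyc

open Groth.Agent.Lib.Seat28.FibreMax Groth.Agent.Lib.Seat28.FibreLen Groth.Agent.Lib.Seat28.FlatDiv
open Groth.Agent.Lib.Seat28.FlatOrd Groth.Agent.Lib.Seat28.FlatRat
open Groth.Agent.Lib.Seat32.GenPrime Groth.Agent.Lib.Seat32.CycFin

section Comp

variable {X'' X' X : Scheme.{u}}

/-- multiplicativity of the fibre multiplicities. -/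
theorem length_fibre_comp (q : X'' ⟶ X') (p : X' ⟶ X) [Flat q] (x'' : X'') :
    Module.length (X''.presheaf.stalk x'') (X''.presheaf.stalk x'' ⧸ fibIdeal (q ≫ p) x'') =
      Module.length (X'.presheaf.stalk (q x'')) (X'.presheaf.stalk (q x'') ⧸ fibIdeal p (q x'')) *
        Module.length (X''.presheaf.stalk x'') (X''.presheaf.stalk x'' ⧸ fibIdeal q x'') := by
  letI : Algebra (X'.presheaf.stalk (q x'')) (X''.presheaf.stalk x'') := (q.stalkMap x'').hom.toAlgebra
  haveI : Module.Flat (X'.presheaf.stalk (q x'')) (X''.presheaf.stalk x'') := Flat.stalkMap q x''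
  haveI : IsLocalHom (algebraMap (X'.presheaf.stalk (q x'')) (X''.presheaf.stalk x'')) :=
    (inferInstance : IsLocalHom (q.stalkMap x'').hom)
  have hsm : ((q ≫ p).stalkMap x'').hom = (q.stalkMap x'').hom.comp (p.stalkMap (q x'')).hom := by
    rw [Scheme.Hom.stalkMap_comp]
    rfl
  have key0 : fibIdeal (q ≫ p) x'' =
      Ideal.map ((q.stalkMap x'').hom.comp (p.stalkMap (q x'')).hom)
        (maximalIdeal (X.presheaf.stalk (p (q x'')))) := by
    unfold fibIdeal
    rw [hsm]
    rfl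
  have key : fibIdeal (q ≫ p) x'' = (fibIdeal p (q x'')).map (q.stalkMap x'').hom := by
    rw [key0, ← Ideal.map_map]
  rw [key]
  exact length_quot_map_eq (A := X'.presheaf.stalk (q x'')) (B := X''.presheaf.stalk x'')
    (fibIdeal p (q x''))

/-- functoriality of the shift-`0` flat pullback on coefficient functions. -/
theorem pullFun_comp (q : X'' ⟶ X') (p : X' ⟶ X) [Flat q] (δ'' : X'' → ℤ) (δ' : X' → ℤ) (δ : X → ℤ)
    (hδ'' : Cyc.IsDimFun X'' δ'') (hδ' : Cyc.IsDimFun X' δ')
    (hq : ∀ x : X'', (∀ y, q y = q x → y ⤳ x → y = x) → δ'' x = δ' (q x) + 0)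
    (hp : ∀ x : X', (∀ y, p y = p x → y ⤳ x → y = x) → δ' x = δ (p x) + 0)
    (a : X → ℤ) :
    Cyc.pullFun q δ'' δ' 0 (Cyc.pullFun p δ' δ 0 a) = Cyc.pullFun (q ≫ p) δ'' δ 0 a := by
  funext x''
  have hle1 := delta_le q δ' δ'' hδ'' 0 hq x''
  have hle2 := delta_le p δ δ' hδ' 0 hp (q x'')
  unfold Cyc.pullFun
  change (if δ'' x'' = δ' (q x'') + 0 then
      (if δ' (q x'') = δ (p (q x'')) + 0 then a (p (q x'')) * _ else 0) * _ else 0) =
    (if δ'' x'' = δ (p (q x'')) + 0 then a (p (q x'')) * _ else 0)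
  by_cases h1 : δ'' x'' = δ' (q x'') + 0
  · by_cases h2 : δ' (q x'') = δ (p (q x'')) + 0
    · have h3 : δ'' x'' = δ (p (q x'')) + 0 := by omega
      rw [if_pos h1, if_pos h2, if_pos h3, mul_assoc]
      congr 1
      have hlen := length_fibre_comp q p x''
      have hlen' := congrArg ENat.toNat hlen
      rw [ENat.toNat_mul] at hlen'
      have hlen'' : ((Module.length (X''.presheaf.stalk x'')
          (X''.presheaf.stalk x'' ⧸ fibIdeal (q ≫ p) x'')).toNat : ℤ) =
          ((Module.length (X'.presheaf.stalk (q x''))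
            (X'.presheaf.stalk (q x'') ⧸ fibIdeal p (q x''))).toNat : ℤ) *
          ((Module.length (X''.presheaf.stalk x'')
            (X''.presheaf.stalk x'' ⧸ fibIdeal q x'')).toNat : ℤ) := by
        exact_mod_cast hlen'
      exact hlen''.symm
    · have h3 : ¬ δ'' x'' = δ (p (q x'')) + 0 := by omega
      rw [if_pos h1, if_neg h2, if_neg h3, zero_mul]
  · have h3 : ¬ δ'' x'' = δ (p (q x'')) + 0 := by omega
    rw [if_neg h1, if_neg h3]

end Comp

section Cycle

variable {X' X : Scheme.{u}}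

/-- additivity of the flat pullback on coefficient functions. -/
theorem pullFun_sub (p : X' ⟶ X) (δ' : X' → ℤ) (δ : X → ℤ) (c : ℤ) (a b : X → ℤ) :
    Cyc.pullFun p δ' δ c (a - b) = Cyc.pullFun p δ' δ c a - Cyc.pullFun p δ' δ c b := by
  funext x
  unfold Cyc.pullFun
  simp only [Pi.sub_apply]
  split_ifs
  · ring
  · ring

/-- the support of a cycle meets a compact set in a finite set. -/
theorem finite_support_inter_of_isCompact (α : AlgebraicCycle X ℤ) (K : Set X) (hK : IsCompact K) :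
    {x : X | x ∈ K ∧ α x ≠ 0}.Finite := by
  have h : ∀ z : X, ∃ t ∈ nhds z, (t ∩ Function.support ⇑α).Finite :=
    fun z => α.supportLocallyFiniteWithinDomain' z (Set.mem_univ _)
  choose t ht hfin using h
  obtain ⟨s, -, hs⟩ := hK.elim_nhds_subcover t (fun z _ => ht z)
  have hcov : {x : X | x ∈ K ∧ α x ≠ 0} ⊆ ⋃ z ∈ s, (t z ∩ Function.support ⇑α) := by
    rintro x ⟨hxK, hx⟩
    have hx' : x ∈ ⋃ z ∈ s, t z := hs hxK
    simp only [Set.mem_iUnion] at hx' ⊢
    obtain ⟨z, hz, hxz⟩ := hx'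
    exact ⟨z, hz, hxz, hx⟩
  refine Set.Finite.subset ?_ hcov
  exact Set.Finite.biUnion s.finite_toSet (fun z _ => hfin z)

/-- a function on a locally Noetherian scheme whose support meets every affine open in a finite set is the
coefficient function of a cycle. -/
theorem exists_cycle_of_finite_affine (a : X → ℤ)
    (h : ∀ V : X.Opens, IsAffineOpen V → {x : X | x ∈ V ∧ a x ≠ 0}.Finite) :
    ∃ α : AlgebraicCycle X ℤ, ⇑α = a := by
  refine ⟨{ toFun := a
            supportWithinDomain' := fun x _ => trivial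
            supportLocallyFiniteWithinDomain' := fun z _ => ?_ }, rfl⟩
  obtain ⟨V, hV, hzV, -⟩ := exists_isAffineOpen_mem_and_subset (U := ⊤) (x := z) (by simp)
  refine ⟨V, V.2.mem_nhds hzV, (h V hV).subset ?_⟩
  rintro x ⟨hxV, hx⟩
  exact ⟨hxV, hx⟩

/-- the flat pullback of a cycle is a cycle. -/
theorem exists_cycle_pullFun (p : X' ⟶ X) [IsLocallyNoetherian X'] (δ' : X' → ℤ) (δ : X → ℤ)
    (hδ' : Cyc.IsDimFun X' δ') (c : ℤ)
    (hc : ∀ x' : X', (∀ y, p y = p x' → y ⤳ x' → y = x') → δ' x' = δ (p x') + c)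
    (α : AlgebraicCycle X ℤ) :
    ∃ α' : AlgebraicCycle X' ℤ, ⇑α' = Cyc.pullFun p δ' δ c ⇑α := by
  apply exists_cycle_of_finite_affine
  intro V hV
  have hK : IsCompact (p '' (V : Set X')) := hV.isCompact.image p.continuous
  have hS := finite_support_inter_of_isCompact α _ hK
  have hT : (⋃ y ∈ {x : X | x ∈ p '' (V : Set X') ∧ α x ≠ 0},
      {z : X' | z ∈ V ∧ p z = y ∧ IsFibMax p z}).Finite :=
    hS.biUnion (fun y _ => finite_fibMax_in_affine p V hV y)
  refine hT.subset ?_
  rintro x' ⟨hx'V, hx'⟩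
  unfold Cyc.pullFun at hx'
  by_cases hcond : δ' x' = δ (p x') + c
  · rw [if_pos hcond] at hx'
    have hα : α (p x') ≠ 0 := fun h0 => hx' (by rw [h0, zero_mul])
    have hfm : IsFibMax p x' := (delta_eq_iff p δ δ' hδ' c hc x').1 hcond
    exact Set.mem_iUnion₂.2 ⟨p x', ⟨⟨x', hx'V, rfl⟩, hα⟩, ⟨hx'V, rfl, hfm⟩⟩
  · rw [if_neg hcond] at hx'
    exact absurd rfl hx'

/-- a finite sum of principal divisors is a cycle. -/
theorem exists_cycle_finsum_divFun [IsLocallyNoetherian X] {δ : X → ℤ} (hδ : Cyc.IsDimFun X δ)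
    {ι : Type*} [Finite ι] (η : ι → X) (u : (l : ι) → X.residueField (η l)) (hu : ∀ l, u l ≠ 0) :
    ∃ γ : AlgebraicCycle X ℤ, ⇑γ = fun x => ∑ᶠ l, Cyc.divFun δ (η l) (u l) x := by
  apply exists_cycle_of_finite_affine
  intro V hV
  have hT : (⋃ l : ι, {x : X | x ∈ V ∧ Cyc.divFun δ (η l) (u l) x ≠ 0}).Finite :=
    Set.finite_iUnion (fun l => finite_support_divFun_inter hδ (η l) (u l) (hu l) hV)
  refine hT.subset ?_
  rintro x ⟨hxV, hx⟩
  by_contra hne
  apply hx
  apply finsum_eq_zero_of_forall_eq_zero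
  intro l
  by_contra hl
  exact hne (Set.mem_iUnion.2 ⟨l, hxV, hl⟩)

end Cycle

end Groth.Agent.Lib.Seat28.PullCyc
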