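import Mathlib
import Groth.Agent.Lib.Helper23SecTw6
import Groth.Agent.Lib.Seat28C1Gen

/-!
# Frames of tensor products of invertible modules (seat 28)

* `isFrame_of_isGen`: a section-level generator (`Helper23.SecTw.IsGen`) generates all stalks freely.
* `exists_frames`: two invertible modules have, locally, frames whose tensor product is a frame of the tensor
  product.
-/

set_option autoImplicit false
set_option linter.style.haveILetI false
universe u
open CategoryTheory AlgebraicGeometry TopologicalSpace Opposite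

namespace Groth.Agent.Lib.Seat28.C1Tensor

open Groth.Agent.Lib.Helper2 Groth.Agent.Lib.Helper6 Groth.Agent.Lib.Helper23.SecTw
open Groth.Agent.Lib.Seat28.C1Gen

variable {X : Scheme.{u}}

/-- a section-level generator generates all stalks freely. -/
theorem isFrame_of_isGen (L : X.Modules) (W : X.Opens) (e : Γ(L, W)) (he : IsGen L W e) :
    IsFrame L W e := by
  intro y hy
  constructor
  · have hlin : Function.Injective
        (LinearMap.toSpanSingleton (X.presheaf.stalk y) (L.presheaf.stalk y)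
          (L.presheaf.germ W y hy e)) := by
      rw [injective_iff_map_eq_zero]
      intro c hc
      change c • L.presheaf.germ W y hy e = 0 at hc
      obtain ⟨W₁, hy₁, r₁, rfl⟩ := X.presheaf.exists_germ_eq c
      have hyW' : y ∈ W₁ ⊓ W := ⟨hy₁, hy⟩
      have h1 : X.presheaf.germ W₁ y hy₁ r₁ =
          X.presheaf.germ (W₁ ⊓ W) y hyW' (resf (inf_le_left : W₁ ⊓ W ≤ W₁) r₁) :=
        (TopCat.Presheaf.germ_res_apply X.presheaf (homOfLE (inf_le_left : W₁ ⊓ W ≤ W₁)) y hyW' r₁).symm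
      have h2 : L.presheaf.germ W y hy e =
          L.presheaf.germ (W₁ ⊓ W) y hyW' (res L (inf_le_right : W₁ ⊓ W ≤ W) e) :=
        (TopCat.Presheaf.germ_res_apply L.presheaf (homOfLE (inf_le_right : W₁ ⊓ W ≤ W)) y hyW' e).symm
      rw [h1, h2, ← QCoh.germ_smul] at hc
      have h0 : L.presheaf.germ (W₁ ⊓ W) y hyW' (0 : Γ(L, W₁ ⊓ W)) = 0 := map_zero _
      rw [← h0] at hc
      obtain ⟨W₂, hy₂, i₁, i₂, hres⟩ := L.presheaf.germ_eq y hyW' hyW' _ _ hc
      have hle : W₂ ≤ W₁ ⊓ W := i₁.le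
      have hres' : res L hle (resf (inf_le_left : W₁ ⊓ W ≤ W₁) r₁ • res L (inf_le_right : W₁ ⊓ W ≤ W) e)
          = 0 := by
        have : res L hle (0 : Γ(L, W₁ ⊓ W)) = 0 := map_zero _
        rw [← this]
        exact hres
      rw [res_smul, res_res, resf_resf] at hres'
      have hinj := (he W₂ (hle.trans inf_le_right)).1
      have hz : resf (hle.trans inf_le_left) r₁ = 0 := by
        apply hinj
        change _ • _ = (0 : Γ(X, W₂)) • _
        rw [zero_smul]
        exact hres'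
      rw [h1]
      have h3 : X.presheaf.germ (W₁ ⊓ W) y hyW' (resf (inf_le_left : W₁ ⊓ W ≤ W₁) r₁) =
          X.presheaf.germ W₂ y hy₂ (resf (hle.trans inf_le_left) r₁) := by
        rw [← resf_resf inf_le_left hle]
        exact (TopCat.Presheaf.germ_res_apply X.presheaf (homOfLE hle) y hy₂ _).symm
      rw [h3, hz, map_zero]
    exact hlin
  · intro m
    obtain ⟨W₁, hy₁, m₁, rfl⟩ := L.presheaf.exists_germ_eq m
    have hyW' : y ∈ W₁ ⊓ W := ⟨hy₁, hy⟩
    obtain ⟨r, hr⟩ := (he (W₁ ⊓ W) inf_le_right).2 (res L (inf_le_left : W₁ ⊓ W ≤ W₁) m₁)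
    refine ⟨X.presheaf.germ (W₁ ⊓ W) y hyW' r, ?_⟩
    have hr' : r • res L (inf_le_right : W₁ ⊓ W ≤ W) e = res L (inf_le_left : W₁ ⊓ W ≤ W₁) m₁ := hr
    have h2 : L.presheaf.germ W y hy e =
        L.presheaf.germ (W₁ ⊓ W) y hyW' (res L (inf_le_right : W₁ ⊓ W ≤ W) e) :=
      (TopCat.Presheaf.germ_res_apply L.presheaf (homOfLE (inf_le_right : W₁ ⊓ W ≤ W)) y hyW' e).symm
    change X.presheaf.germ (W₁ ⊓ W) y hyW' r • L.presheaf.germ W y hy e = _
    rw [h2, ← QCoh.germ_smul, hr']
    exact TopCat.Presheaf.germ_res_apply L.presheaf (homOfLE (inf_le_left : W₁ ⊓ W ≤ W₁)) y hyW' m₁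

/-- local frames of two invertible modules and of their tensor product. -/
theorem exists_frames (L N : X.Modules) (hL : PicF.IsInvertible L) (hN : PicF.IsInvertible N) (x : X) :
    ∃ (W : X.Opens) (a : Γ(L, W)) (b : Γ(N, W)), x ∈ W ∧ IsGen L W a ∧ IsGen N W b ∧
      IsGen (CohB1.tensorMod L N) W (tm L N W a b) := by
  obtain ⟨W₁, a₁, hx₁, ha₁⟩ := exists_gen L hL x
  obtain ⟨W₂, b₂, hx₂, hb₂⟩ := exists_gen N hN x
  have hA : IsGen L (W₁ ⊓ W₂) (res L inf_le_left a₁) := by
    intro W' hW'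
    have := ha₁ W' (hW'.trans inf_le_left)
    rw [res_res]
    exact this
  have hB : IsGen N (W₁ ⊓ W₂) (res N inf_le_right b₂) := by
    intro W' hW'
    have := hb₂ W' (hW'.trans inf_le_right)
    rw [res_res]
    exact this
  exact ⟨W₁ ⊓ W₂, _, _, ⟨hx₁, hx₂⟩, hA, hB, isGen_tm L N _ _ _ hA hB⟩

end Groth.Agent.Lib.Seat28.C1Tensor
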