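import Mathlib
import Groth.Prelude.Def_C1
import Groth.Agent.Lib.Helper23PB
import Groth.Agent.Lib.Seat28C1Tensor

/-!
# Pulling back rational sections of a module (seat 28)

For `p : X' ⟶ X` and an `O_X`-module `L`:
* `pullStalk p L x' : L_{p x'} →+ (p^*L)_{x'}` (germs of `s` go to germs of `unitSec s`), `pullStalk_germ`,
  `pullStalk_smul` (semilinear over `p.stalkMap x'`), `pullStalkₛₗ`;
* `pullFib p L x' : L(p x') → (p^*L)(x')` on fibres (rational sections), `pullFib_mk`;
* `coord_pullFib`: the coordinate of `pullFib s` in the pulled back frame is the image of the coordinate of `s`;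
* `pullFib_ne_zero` (for `L` invertible); `secOrdAt_pullFib`: the order of `pullFib s` along `ξ' ⤳ x'` computed in
  a frame of `L` around `p x'`.
-/

set_option autoImplicit false
set_option linter.style.haveILetI false
universe u
open CategoryTheory AlgebraicGeometry TopologicalSpace Opposite

namespace Groth.Agent.Lib.Seat28.PullSec

open Groth.Agent.Helper13PullbackUnit Groth.Agent.Lib.Helper23.PB Groth.Agent.Lib.Helper23.SecTw
open Groth.Agent.Lib.Seat28.C1Gen Groth.Agent.Lib.Seat28.C1Tensor Groth.Agent.Lib.Seat28.C1Inv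

variable {X' X : Scheme.{u}} (p : X' ⟶ X) (L : X.Modules)

/-- the canonical map on stalks `L_{p x'} → (p^*L)_{x'}`. -/
noncomputable def pullStalk (x' : X') :
    L.presheaf.stalk (p x') →+ ((Scheme.Modules.pullback p).obj L).presheaf.stalk x' :=
  ((TopCat.Presheaf.stalkFunctor Ab.{u} (p x')).map
      ((Scheme.Modules.toPresheaf X).map ((Scheme.Modules.pullbackPushforwardAdjunction p).unit.app L)) ≫
    TopCat.Presheaf.stalkPushforward Ab.{u} p.base ((Scheme.Modules.pullback p).obj L).presheaf x').hom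

theorem pullStalk_germ (x' : X') (W : X.Opens) (hx : p x' ∈ W) (s : Γ(L, W)) :
    pullStalk p L x' (L.presheaf.germ W (p x') hx s) =
      ((Scheme.Modules.pullback p).obj L).presheaf.germ (p ⁻¹ᵁ W) x' hx (unitSec p L le_rfl s) := by
  unfold pullStalk
  have e1 := TopCat.Presheaf.stalkFunctor_map_germ_apply W (p x') hx
    ((Scheme.Modules.toPresheaf X).map ((Scheme.Modules.pullbackPushforwardAdjunction p).unit.app L)) s
  have e2 := TopCat.Presheaf.stalkPushforward_germ_apply Ab.{u} p.base
    ((Scheme.Modules.pullback p).obj L).presheaf W x' hx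
    (((Scheme.Modules.toPresheaf X).map ((Scheme.Modules.pullbackPushforwardAdjunction p).unit.app L)).app (op W) s)
  have e3 : unitSec p L le_rfl s =
      ((Scheme.Modules.toPresheaf X).map ((Scheme.Modules.pullbackPushforwardAdjunction p).unit.app L)).app (op W) s := by
    rw [unitSec_apply]
    have : (homOfLE (le_refl (p ⁻¹ᵁ W))) = 𝟙 _ := rfl
    rw [this, op_id, CategoryTheory.Functor.map_id]
    rfl
  rw [e3]
  exact (congrArg (TopCat.Presheaf.stalkPushforward Ab.{u} p.base
    ((Scheme.Modules.pullback p).obj L).presheaf x') e1).trans e2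

/-- `pullStalk` is semilinear for the stalk map of `p`. -/
theorem pullStalk_smul (x' : X') (a : X.presheaf.stalk (p x')) (m : L.presheaf.stalk (p x')) :
    pullStalk p L x' (a • m) = (p.stalkMap x').hom a • pullStalk p L x' m := by
  obtain ⟨W₁, hx₁, r, rfl⟩ := X.presheaf.exists_germ_eq a
  obtain ⟨W₂, hx₂, m₀, rfl⟩ := L.presheaf.exists_germ_eq m
  have hx : p x' ∈ W₁ ⊓ W₂ := ⟨hx₁, hx₂⟩
  rw [← TopCat.Presheaf.germ_res_apply X.presheaf (homOfLE (inf_le_left : W₁ ⊓ W₂ ≤ W₁)) (p x') hx r,
    ← TopCat.Presheaf.germ_res_apply L.presheaf (homOfLE (inf_le_right : W₁ ⊓ W₂ ≤ W₂)) (p x') hx m₀,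
    ← Groth.Agent.Lib.Helper2.QCoh.germ_smul, pullStalk_germ, pullStalk_germ, unitSec_smul]
  refine (Groth.Agent.Lib.Helper2.QCoh.germ_smul ((Scheme.Modules.pullback p).obj L) x'
    (p ⁻¹ᵁ (W₁ ⊓ W₂)) hx _ _).trans ?_
  congr 1
  rw [Scheme.Hom.appLE_eq_app]
  exact (Scheme.Hom.germ_stalkMap_apply p (W₁ ⊓ W₂) x' hx _).symm

/-- `pullStalk` as a semilinear map. -/
noncomputable def pullStalkₛₗ (x' : X') :
    L.presheaf.stalk (p x') →ₛₗ[(p.stalkMap x').hom]
      ((Scheme.Modules.pullback p).obj L).presheaf.stalk x' where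
  toFun := pullStalk p L x'
  map_add' := map_add _
  map_smul' := pullStalk_smul p L x'

theorem smul_top_le_comap (x' : X') :
    (IsLocalRing.maximalIdeal (X.presheaf.stalk (p x')) •
        (⊤ : Submodule (X.presheaf.stalk (p x')) (L.presheaf.stalk (p x')))) ≤
      Submodule.comap (pullStalkₛₗ p L x')
        (IsLocalRing.maximalIdeal (X'.presheaf.stalk x') •
          (⊤ : Submodule (X'.presheaf.stalk x')
            (((Scheme.Modules.pullback p).obj L).presheaf.stalk x'))) := by
  rw [Submodule.smul_le]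
  intro a ha m _
  rw [Submodule.mem_comap, map_smulₛₗ]
  refine Submodule.smul_mem_smul ?_ Submodule.mem_top
  have hloc : IsLocalHom (p.stalkMap x').hom := inferInstance
  rw [IsLocalRing.mem_maximalIdeal] at ha ⊢
  exact (map_mem_nonunits_iff (p.stalkMap x').hom a).2 ha

/-- the pullback of rational sections `L(p x') → (p^*L)(x')`. -/
noncomputable def pullFib (x' : X') :
    Cyc.secFibre L (p x') →ₛₗ[(p.stalkMap x').hom]
      Cyc.secFibre ((Scheme.Modules.pullback p).obj L) x' :=
  Submodule.mapQ _ _ (pullStalkₛₗ p L x') (smul_top_le_comap p L x')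

theorem pullFib_mk (x' : X') (m : L.presheaf.stalk (p x')) :
    pullFib p L x' (Submodule.Quotient.mk m) = Submodule.Quotient.mk (pullStalk p L x' m) := rfl

/-- coordinates of a pulled back rational section with respect to the pulled back frame. -/
theorem coord_pullFib [L.IsQuasicoherent] {W : X.Opens} (hW : IsAffineOpen W) (e : Γ(L, W))
    (he : IsGen L W e) (x' : X') (hx : p x' ∈ W) (s : Cyc.secFibre L (p x')) :
    coord (isFrame_of_isGen _ _ _ (isGen_unitSec p L hW e he)) x' hx (pullFib p L x' s) =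
      (p.residueFieldMap x').hom (coord (isFrame_of_isGen _ _ _ he) (p x') hx s) := by
  obtain ⟨a, rfl⟩ := exists_eq_smul_germ (isFrame_of_isGen _ _ _ he) (p x') hx s
  rw [coord_mk_smul_germ, pullFib_mk, pullStalk_smul, pullStalk_germ]
  have h1 := coord_mk_smul_germ (isFrame_of_isGen _ _ _ (isGen_unitSec p L hW e he)) x' hx
    ((p.stalkMap x').hom a)
  refine h1.trans ?_
  rfl

/-- the pullback of a nonzero rational section of an invertible module is nonzero. -/
theorem pullFib_ne_zero (hL : PicF.IsInvertible L) (x' : X') {s : Cyc.secFibre L (p x')}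
    (hs : s ≠ 0) : pullFib p L x' s ≠ 0 := by
  haveI : L.IsQuasicoherent := isQuasicoherent_of_isInvertible L hL
  obtain ⟨W, e, hxW, hW, he⟩ := exists_affine_gen L hL (p x')
  intro h0
  have h1 := coord_pullFib p L hW e he x' hxW s
  rw [h0, map_zero] at h1
  have h2 := coord_ne_zero (isFrame_of_isGen _ _ _ he) (p x') hxW hs
  exact h2 ((map_eq_zero_iff _ (p.residueFieldMap x').hom.injective).1 h1.symm)

/-- the order of a pulled back rational section, computed in a frame of `L` around `p x'`. -/
theorem secOrdAt_pullFib [L.IsQuasicoherent] {W : X.Opens} (hW : IsAffineOpen W) (e : Γ(L, W))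
    (he : IsGen L W e) {x' ξ' : X'} (h : ξ' ⤳ x') (hx : p x' ∈ W) (s : Cyc.secFibre L (p ξ')) :
    Cyc.secOrdAt ((Scheme.Modules.pullback p).obj L) ξ' x' h (pullFib p L ξ' s) =
      Cyc.ordAt x' ξ' h ((p.residueFieldMap ξ').hom
        (coord (isFrame_of_isGen _ _ _ he) (p ξ')
          ((p.base.hom.map_specializes h).mem_open W.isOpen hx) s)) := by
  have hx' : x' ∈ p ⁻¹ᵁ W := hx
  rw [secOrdAt_eq_coord (isFrame_of_isGen _ _ _ (isGen_unitSec p L hW e he)) h hx',
    coord_pullFib p L hW e he ξ' ((p.base.hom.map_specializes h).mem_open W.isOpen hx) s]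

end Groth.Agent.Lib.Seat28.PullSec
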