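import Mathlib
import Groth.Prelude.Def_C1
import Groth.Agent.Lib.Seat28FlatRat
import Groth.Agent.Lib.Seat28PullCyc
import Groth.Agent.Lib.Seat28PullSec

/-!
# `c_1(L) ∩ -` commutes with flat pullback (seat 28)

* `finsum_comm'`, `finsum_fiberwise`: commuting and regrouping `finsum`s of integers;
* `pullFun_finsum_divFun`: flat pullback of `∑ α(ξ) div(h_ξ)` is `∑ (p^*α)(ξ') div(h_{p ξ'})`, pointwise;
* `pullFun_c1CapFun`: `p^*(c_1(L) ∩ α) = c_1(p^*L) ∩ p^*α` on the nose, the right side computed with the pulled back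
  rational sections `PullSec.pullFib`;
* `ratEquiv_c1CapFun`: independence of `c_1(L) ∩ α` of the chosen rational sections, up to rational equivalence;
* `ratEquiv_pullFun_c1CapFun`: the base-free statement with arbitrary sections on both sides.
-/

set_option autoImplicit false
set_option linter.unusedVariables false
set_option linter.style.haveILetI false
universe u
open AlgebraicGeometry CategoryTheory TopologicalSpace Opposite IsLocalRing

namespace Groth.Agent.Lib.Seat28.C1Pull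

open Groth.Agent.Lib.Seat28.FibreMax Groth.Agent.Lib.Seat28.FibreLen Groth.Agent.Lib.Seat28.FlatDiv
open Groth.Agent.Lib.Seat28.FlatRat Groth.Agent.Lib.Seat28.PullCyc Groth.Agent.Lib.Seat28.PullSec
open Groth.Agent.Lib.Seat32.GenPrime Groth.Agent.Lib.Seat32.CycFin

section Finsum

lemma finsum_comm' {α β : Type*} (f : α → β → ℤ)
    (h : (Function.support (Function.uncurry f)).Finite) :
    ∑ᶠ a, ∑ᶠ b, f a b = ∑ᶠ b, ∑ᶠ a, f a b := by
  have h1 := finsum_curry (Function.uncurry f) h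
  have h' : (Function.support (fun t : β × α => f t.2 t.1)).Finite := by
    refine (h.image (Equiv.prodComm α β)).subset ?_
    rintro ⟨b, a⟩ hba
    exact ⟨(a, b), hba, rfl⟩
  have h2 := finsum_curry (fun t : β × α => f t.2 t.1) h'
  have h3 : ∑ᶠ t : α × β, Function.uncurry f t = ∑ᶠ t : β × α, f t.2 t.1 :=
    (finsum_comp_equiv (Equiv.prodComm β α) (f := Function.uncurry f)).symm
  calc ∑ᶠ a, ∑ᶠ b, f a b = ∑ᶠ t : α × β, Function.uncurry f t := h1.symm
    _ = ∑ᶠ t : β × α, f t.2 t.1 := h3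
    _ = ∑ᶠ b, ∑ᶠ a, f a b := h2

/-- summing over the fibres of a map. -/
lemma finsum_fiberwise {α β : Type*} (π : β → α) (G : α → β → ℤ)
    (hG : ∀ a b, π b ≠ a → G a b = 0) (hfin : (Function.support (Function.uncurry G)).Finite) :
    ∑ᶠ a, ∑ᶠ b, G a b = ∑ᶠ b, G (π b) b := by
  rw [finsum_comm' G hfin]
  apply finsum_congr
  intro b
  exact finsum_eq_single (fun a => G a b) (π b) (fun a ha => hG a b ha.symm)

end Finsum

variable {X' X : Scheme.{u}}

/-- the points of the support of a cycle which specialize to a given point are finite in number. -/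
lemma finite_support_specializes (α : AlgebraicCycle X ℤ) (x : X) :
    {ξ : X | α ξ ≠ 0 ∧ ξ ⤳ x}.Finite := by
  obtain ⟨T, hT, hfin⟩ := α.supportLocallyFiniteWithinDomain' x (Set.mem_univ _)
  obtain ⟨U, hUT, hUo, hxU⟩ := mem_nhds_iff.1 hT
  refine hfin.subset ?_
  rintro ξ ⟨hξ1, hξ2⟩
  exact ⟨hUT (hξ2.mem_open hUo hxU), hξ1⟩

open Classical in
/-- **Flat pullback of a cycle of principal divisors with coefficients**, pointwise. -/
theorem pullFun_finsum_divFun (δ : X → ℤ) (δ' : X' → ℤ) (hX : Cyc.IsSetup X δ)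
    (hX' : Cyc.IsSetup X' δ') (p : X' ⟶ X) [Flat p] (c : ℤ)
    (hc : ∀ x' : X', (∀ y, p y = p x' → y ⤳ x' → y = x') → δ' x' = δ (p x') + c) (k : ℤ)
    (α : AlgebraicCycle X ℤ) (hα : α ∈ Cyc.Zk X δ (k + 1))
    (h : (ξ : X) → X.residueField ξ) (hh : ∀ ξ, h ξ ≠ 0) (x' : X') :
    Cyc.pullFun p δ' δ c (fun x => ∑ᶠ ξ, α ξ * Cyc.divFun δ ξ (h ξ) x) x' =
      ∑ᶠ ξ' : X', Cyc.pullFun p δ' δ c ⇑α ξ' *
        Cyc.divFun δ' ξ' ((p.residueFieldMap ξ').hom (h (p ξ'))) x' := by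
  haveI hN : IsLocallyNoetherian X := hX.1
  haveI hN' : IsLocallyNoetherian X' := hX'.1
  have hδ := hX.2.2
  have hδ' := hX'.2.2
  have hαk : ∀ ξ, α ξ ≠ 0 → δ ξ = k + 1 := fun ξ hξ => by
    by_contra hne
    exact hξ (hα ξ hne)
  by_cases hfm : IsFibMax p x'
  · have hδx' : δ' x' = δ (p x') + c := hc x' hfm
    by_cases hk : δ (p x') = k
    · -- the main case
      have hR : ∀ ξ' : X', Cyc.pullFun p δ' δ c ⇑α ξ' *
          Cyc.divFun δ' ξ' ((p.residueFieldMap ξ').hom (h (p ξ'))) x' =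
            α (p ξ') * termAt p x' (p ξ') (h (p ξ')) ξ' := by
        intro ξ'
        unfold Cyc.pullFun Cyc.divFun termAt
        by_cases hgen : ξ' ∈ Gen p x' (p ξ')
        · have hfmξ' : IsFibMax p ξ' := hgen.2.1
          have hδξ' : δ' ξ' = δ (p ξ') + c := hc ξ' hfmξ'
          rw [if_pos hδξ', dif_pos hgen]
          by_cases hα0 : α (p ξ') = 0
          · rw [hα0, zero_mul, zero_mul, zero_mul]
          · have h1 : δ' x' + 1 = δ' ξ' := by
              rw [hδξ', hδx', hk, hαk _ hα0]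
              ring
            rw [dif_pos ⟨hgen.2.2, h1⟩, resTo_rfl, mul_assoc]
        · rw [dif_neg hgen, mul_zero]
          by_cases hfmξ' : IsFibMax p ξ'
          · have hnsp : ¬ ξ' ⤳ x' := fun hsp => hgen ⟨rfl, hfmξ', hsp⟩
            rw [dif_neg (fun hh => hnsp hh.1), mul_zero]
          · rw [if_neg (fun hh => hfmξ' ((delta_eq_iff p δ δ' hδ' c hc ξ').1 hh)), zero_mul]
      rw [finsum_congr hR]
      unfold Cyc.pullFun
      rw [if_pos hδx']
      change (∑ᶠ ξ, α ξ * Cyc.divFun δ ξ (h ξ) (p x')) * _ = _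
      rw [finsum_mul]
      let G : X → X' → ℤ := fun ξ ξ' => α ξ * termAt p x' ξ (h ξ) ξ'
      have hGsupp : ∀ a b, p b ≠ a → G a b = 0 := by
        intro a b hab
        change α a * termAt p x' a (h a) b = 0
        unfold termAt
        rw [dif_neg (fun hh => hab hh.1), mul_zero]
      have hGfin : (Function.support (Function.uncurry G)).Finite := by
        have hI := finite_support_specializes α (p x')
        have hT : (⋃ ξ ∈ {ξ : X | α ξ ≠ 0 ∧ ξ ⤳ p x'},
            (fun z => ((ξ, z) : X × X')) '' Gen p x' ξ).Finite :=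
          hI.biUnion (fun ξ hξ => (finite_gen p x' ξ hξ.2).image _)
        refine hT.subset ?_
        rintro ⟨ξ, ξ'⟩ ht
        have ht' : α ξ * termAt p x' ξ (h ξ) ξ' ≠ 0 := ht
        have hgen := support_termAt_subset p x' ξ (h ξ) (right_ne_zero_of_mul ht')
        have hsp : ξ ⤳ p x' := by
          rw [← hgen.1]
          exact p.base.hom.map_specializes hgen.2.2
        exact Set.mem_iUnion₂.2 ⟨ξ, ⟨left_ne_zero_of_mul ht', hsp⟩, ⟨ξ', hgen, rfl⟩⟩
      rw [← finsum_fiberwise (fun ξ' => p ξ') G hGsupp hGfin]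
      apply finsum_congr
      intro ξ
      change α ξ * Cyc.divFun δ ξ (h ξ) (p x') * _ = ∑ᶠ ξ', α ξ * termAt p x' ξ (h ξ) ξ'
      rw [← mul_finsum, mul_assoc]
      by_cases hα0 : α ξ = 0
      · rw [hα0, zero_mul, zero_mul]
      congr 1
      unfold Cyc.divFun
      by_cases hi : ξ ⤳ p x'
      · have h1 : δ (p x') + 1 = δ ξ := by rw [hk, hαk ξ hα0]
        rw [dif_pos ⟨hi, h1⟩]
        exact ordAt_mul_length_eq_finsum p x' ξ hi (noRoom p hδ hδ' c hc x' hfm ξ hi h1) (h ξ) (hh ξ)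
      · rw [dif_neg (fun hh => hi hh.1), zero_mul]
        symm
        apply finsum_eq_zero_of_forall_eq_zero
        intro z
        unfold termAt
        have hgen : ¬ z ∈ Gen p x' ξ := fun hh => hi (by
          rw [← hh.1]
          exact p.base.hom.map_specializes hh.2.2)
        rw [dif_neg hgen]
    · -- `p x'` is not of dimension `k`
      have ha0 : (∑ᶠ ξ, α ξ * Cyc.divFun δ ξ (h ξ) (p x')) = 0 := by
        apply finsum_eq_zero_of_forall_eq_zero
        intro ξ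
        by_cases hα0 : α ξ = 0
        · rw [hα0, zero_mul]
        unfold Cyc.divFun
        rw [dif_neg, mul_zero]
        rintro ⟨-, h1⟩
        rw [hαk ξ hα0] at h1
        apply hk
        omega
      unfold Cyc.pullFun
      rw [if_pos hδx']
      change (∑ᶠ ξ, α ξ * Cyc.divFun δ ξ (h ξ) (p x')) * _ = _
      rw [ha0, zero_mul]
      symm
      apply finsum_eq_zero_of_forall_eq_zero
      intro ξ'
      by_cases hδξ' : δ' ξ' = δ (p ξ') + c
      · rw [if_pos hδξ']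
        by_cases hα0 : α (p ξ') = 0
        · rw [hα0, zero_mul, zero_mul]
        unfold Cyc.divFun
        rw [dif_neg, mul_zero]
        rintro ⟨-, h1⟩
        rw [hδξ', hδx', hαk _ hα0] at h1
        apply hk
        omega
      · rw [if_neg hδξ', zero_mul]
  · -- `x'` is not maximal in its fibre
    unfold Cyc.pullFun
    rw [if_neg (fun hh => hfm ((delta_eq_iff p δ δ' hδ' c hc x').1 hh))]
    symm
    apply finsum_eq_zero_of_forall_eq_zero
    intro ξ'
    by_cases hδξ' : δ' ξ' = δ (p ξ') + c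
    · rw [if_pos hδξ']
      by_cases hα0 : α (p ξ') = 0
      · rw [hα0, zero_mul, zero_mul]
      unfold Cyc.divFun
      by_cases hcond : ξ' ⤳ x' ∧ δ' x' + 1 = δ' ξ'
      · rw [dif_pos hcond]
        have hpx' : p x' = p ξ' := by
          obtain ⟨y, hy1, hy2, hy3⟩ := exists_isFibMax_specializes p x'
          have hyne : y ≠ x' := by
            rintro rfl
            exact hfm hy3
          have h1 := (hδ' y x' hy2 hyne).1
          have h2 := hc y hy3
          rw [hy1] at h2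
          have h3 := hcond.2
          rw [hδξ', hαk _ hα0] at h3
          have hsp : p ξ' ⤳ p x' := p.base.hom.map_specializes hcond.1
          by_contra hne
          have h4 := (hδ (p ξ') (p x') hsp (fun h => hne h.symm)).1
          rw [hαk _ hα0] at h4
          omega
        have := ordAt_resTo_eq_zero_of_same_fibre p x' ξ' hcond.1 (p ξ') rfl hpx' (h (p ξ'))
          (hh (p ξ'))
        rw [resTo_rfl] at this
        rw [this, mul_zero]
      · rw [dif_neg hcond, mul_zero]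
    · rw [if_neg hδξ', zero_mul]

open Groth.Agent.Lib.Helper23.PB Groth.Agent.Lib.Helper23.SecTw
open Groth.Agent.Lib.Seat28.C1Gen Groth.Agent.Lib.Seat28.C1Tensor

open Classical in
/-- **`c_1 ∩ -` commutes with flat pullback on the nose**, when the cap upstairs is computed with the pulled
back rational sections. -/
theorem pullFun_c1CapFun (δ : X → ℤ) (δ' : X' → ℤ) (hX : Cyc.IsSetup X δ)
    (hX' : Cyc.IsSetup X' δ') (p : X' ⟶ X) [Flat p] (c : ℤ)
    (hc : ∀ x' : X', (∀ y, p y = p x' → y ⤳ x' → y = x') → δ' x' = δ (p x') + c) (k : ℤ)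
    (L : X.Modules) (hL : PicF.IsInvertible L)
    (α : AlgebraicCycle X ℤ) (hα : α ∈ Cyc.Zk X δ (k + 1))
    (v : (ξ : X) → Cyc.secFibre L ξ) (hv : ∀ ξ, v ξ ≠ 0) :
    Cyc.pullFun p δ' δ c (Cyc.c1CapFun δ L ⇑α v) =
      Cyc.c1CapFun δ' ((Scheme.Modules.pullback p).obj L) (Cyc.pullFun p δ' δ c ⇑α)
        (fun ξ' => pullFib p L ξ' (v (p ξ'))) := by
  funext x'
  haveI : L.IsQuasicoherent := isQuasicoherent_of_isInvertible L hL
  obtain ⟨W, e, hxW, hW, he⟩ := exists_affine_gen L hL (p x')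
  have hfr := isFrame_of_isGen _ _ _ he
  let h : (ξ : X) → X.residueField ξ := fun ξ =>
    if hξ : ξ ∈ W then coord hfr ξ hξ (v ξ) else 1
  have hh : ∀ ξ, h ξ ≠ 0 := by
    intro ξ
    change (if hξ : ξ ∈ W then coord hfr ξ hξ (v ξ) else 1) ≠ 0
    split_ifs with hξ
    · exact coord_ne_zero hfr ξ hξ (hv ξ)
    · exact one_ne_zero
  have hL1 : Cyc.pullFun p δ' δ c (Cyc.c1CapFun δ L ⇑α v) x' =
      Cyc.pullFun p δ' δ c (fun x => ∑ᶠ ξ, α ξ * Cyc.divFun δ ξ (h ξ) x) x' := by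
    have hval : Cyc.c1CapFun δ L ⇑α v (p x') = ∑ᶠ ξ, α ξ * Cyc.divFun δ ξ (h ξ) (p x') := by
      unfold Cyc.c1CapFun
      apply finsum_congr
      intro ξ
      congr 1
      unfold Cyc.secDivFun Cyc.divFun
      by_cases hcond : ξ ⤳ p x' ∧ δ (p x') + 1 = δ ξ
      · rw [dif_pos hcond, dif_pos hcond]
        have hξW : ξ ∈ W := hcond.1.mem_open W.isOpen hxW
        have hhξ : h ξ = coord hfr ξ hξW (v ξ) := dif_pos hξW
        rw [hhξ]
        exact secOrdAt_eq_coord hfr hcond.1 hxW (v ξ)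
      · rw [dif_neg hcond, dif_neg hcond]
    unfold Cyc.pullFun
    rw [hval]
  rw [hL1, pullFun_finsum_divFun δ δ' hX hX' p c hc k α hα h hh x']
  unfold Cyc.c1CapFun
  apply finsum_congr
  intro ξ'
  congr 1
  unfold Cyc.secDivFun Cyc.divFun
  by_cases hcond : ξ' ⤳ x' ∧ δ' x' + 1 = δ' ξ'
  · rw [dif_pos hcond, dif_pos hcond]
    have hξW : p ξ' ∈ W := (p.base.hom.map_specializes hcond.1).mem_open W.isOpen hxW
    have hhξ : h (p ξ') = coord hfr (p ξ') hξW (v (p ξ')) := dif_pos hξW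
    rw [hhξ]
    exact (secOrdAt_pullFib p L hW e he hcond.1 hxW (v (p ξ'))).symm
  · rw [dif_neg hcond, dif_neg hcond]

/-- **Independence of the rational sections**: computed with two choices of nonzero rational sections,
`c_1(L) ∩ α` gives rationally equivalent cycles. -/
theorem ratEquiv_c1CapFun (δ : X → ℤ) (hX : Cyc.IsSetup X δ) (L : X.Modules)
    (hL : PicF.IsInvertible L) (k : ℤ) (α : AlgebraicCycle X ℤ) (hα : α ∈ Cyc.Zk X δ (k + 1))
    (s₁ : (ξ : X) → Cyc.secFibre L ξ) (hs₁ : ∀ ξ, s₁ ξ ≠ 0)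
    (t : (ξ : X) → Cyc.secFibre L ξ) (ht : ∀ ξ, t ξ ≠ 0) (γ₁ γ₂ : AlgebraicCycle X ℤ)
    (h₁ : ⇑γ₁ = Cyc.c1CapFun δ L ⇑α s₁) (h₂ : ⇑γ₂ = Cyc.c1CapFun δ L ⇑α t) :
    Cyc.RatEquiv δ k γ₁ γ₂ := by
  classical
  -- the ratios
  have hρex : ∀ ξ : X, ∃ ρ : X.presheaf.stalk ξ, s₁ ξ = ρ • t ξ :=
    fun ξ => Groth.Agent.Lib.Seat28.C1Inv.exists_smul_eq hL ξ (s₁ ξ) (t ξ) (ht ξ)
  choose ρ hρ using hρex
  let g : (ξ : X) → X.residueField ξ := fun ξ => IsLocalRing.residue _ (ρ ξ)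
  have hg : ∀ ξ, g ξ ≠ 0 := by
    intro ξ h0
    apply hs₁ ξ
    rw [hρ ξ]
    have hm : ρ ξ ∈ IsLocalRing.maximalIdeal (X.presheaf.stalk ξ) :=
      (IsLocalRing.residue_eq_zero_iff _).1 h0
    obtain ⟨m, hm'⟩ := Submodule.Quotient.mk_surjective _ (t ξ)
    rw [← hm', ← Submodule.Quotient.mk_smul, Submodule.Quotient.mk_eq_zero]
    exact Submodule.smul_mem_smul hm Submodule.mem_top
  -- finiteness of the relevant supports
  have hfinx : ∀ x : X, {ξ : X | α ξ ≠ 0 ∧ ξ ⤳ x}.Finite := by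
    intro x
    obtain ⟨T, hT, hfin⟩ := α.supportLocallyFiniteWithinDomain' x (Set.mem_univ _)
    obtain ⟨U, hUT, hUo, hxU⟩ := mem_nhds_iff.1 hT
    refine hfin.subset ?_
    rintro ξ ⟨hξ1, hξ2⟩
    exact ⟨hUT (hξ2.mem_open hUo hxU), hξ1⟩
  have hsuppfin : ∀ (r : (ξ : X) → Cyc.secFibre L ξ) (x : X),
      (Function.support fun ξ : X => α ξ * Cyc.secDivFun δ L ξ (r ξ) x).Finite := by
    intro r x
    refine (hfinx x).subset ?_
    intro ξ hξ
    have hξ' : α ξ * Cyc.secDivFun δ L ξ (r ξ) x ≠ 0 := hξ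
    refine ⟨left_ne_zero_of_mul hξ', ?_⟩
    by_contra hns
    apply right_ne_zero_of_mul hξ'
    unfold Cyc.secDivFun
    rw [dif_neg (fun hc => hns hc.1)]
  refine ⟨{ξ : X // α ξ ≠ 0}, fun i => i.1, fun i => (g i.1) ^ (α i.1), ?_, ?_, ?_, ?_⟩
  · intro i
    by_contra hne
    exact i.2 (hα i.1 hne)
  · intro i
    exact zpow_ne_zero _ (hg i.1)
  · intro x
    obtain ⟨T, hT, hfin⟩ := α.supportLocallyFiniteWithinDomain' x (Set.mem_univ _)
    obtain ⟨U, hUT, hUo, hxU⟩ := mem_nhds_iff.1 hT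
    refine ⟨U, hUo, hxU, ?_⟩
    have hinj : Function.Injective (fun i : {ξ : X // α ξ ≠ 0} => i.1) := Subtype.val_injective
    refine Set.Finite.of_finite_image (f := fun i : {ξ : X // α ξ ≠ 0} => i.1) ?_ hinj.injOn
    refine hfin.subset ?_
    rintro _ ⟨i, hi, rfl⟩
    obtain ⟨y, hy1, hy2⟩ := hi
    refine ⟨hUT ?_, i.2⟩
    have hsp : i.1 ⤳ y := specializes_iff_mem_closure.2 hy1
    exact hsp.mem_open hUo hy2
  · intro x
    have hsub : (γ₁ - γ₂) x = γ₁ x - γ₂ x := rfl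
    rw [hsub, h₁, h₂]
    unfold Cyc.c1CapFun
    rw [← finsum_sub_distrib (hsuppfin s₁ x) (hsuppfin t x)]
    have hterm : ∀ ξ : X, α ξ * Cyc.secDivFun δ L ξ (s₁ ξ) x - α ξ * Cyc.secDivFun δ L ξ (t ξ) x =
        Cyc.divFun δ ξ ((g ξ) ^ (α ξ)) x := by
      intro ξ
      unfold Cyc.secDivFun Cyc.divFun
      by_cases h : ξ ⤳ x ∧ δ x + 1 = δ ξ
      · rw [dif_pos h, dif_pos h, dif_pos h]
        have h1 : Cyc.secOrdAt L ξ x h.1 (s₁ ξ) =
            Cyc.ordAt x ξ h.1 (g ξ) + Cyc.secOrdAt L ξ x h.1 (t ξ) := by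
          conv_lhs => rw [hρ ξ]
          exact Groth.Agent.Lib.Seat28.C1Inv.secOrdAt_smul hL h.1 (ρ ξ) (t ξ) (by rw [← hρ ξ]; exact hs₁ ξ)
        rw [h1]
        unfold Cyc.ordAt
        rw [Groth.Agent.Lib.Seat28.OrdFrac.ordFrac_zpow (hg ξ) (α ξ)]
        ring
      · rw [dif_neg h, dif_neg h, dif_neg h, mul_zero, sub_zero]
    simp_rw [hterm]
    -- reindex the finsum over the support of α
    have hsupp : (Function.support fun ξ : X => Cyc.divFun δ ξ ((g ξ) ^ (α ξ)) x) ⊆ {ξ | α ξ ≠ 0} := by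
      intro ξ hξ
      by_contra h0
      have h0' : α ξ = 0 := by simpa using h0
      apply hξ
      change Cyc.divFun δ ξ ((g ξ) ^ (α ξ)) x = 0
      rw [← hterm, h0', zero_mul, zero_mul, sub_zero]
    rw [finsum_subtype_eq_finsum_cond (f := fun ξ : X => Cyc.divFun δ ξ ((g ξ) ^ (α ξ)) x)
      (fun ξ => α ξ ≠ 0), ← finsum_mem_univ]
    apply finsum_mem_inter_support_eq
    rw [Set.univ_inter]
    exact (Set.inter_eq_right.2 hsupp).symm


/-- **Intersecting with `c_1` commutes with flat pullback** (base-free form, any rational sections). -/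
theorem ratEquiv_pullFun_c1CapFun (δ : X → ℤ) (δ' : X' → ℤ) (hX : Cyc.IsSetup X δ)
    (hX' : Cyc.IsSetup X' δ') (p : X' ⟶ X) [Flat p] (c : ℤ)
    (hc : ∀ x' : X', (∀ y, p y = p x' → y ⤳ x' → y = x') → δ' x' = δ (p x') + c)
    (L : X.Modules) (hL : PicF.IsInvertible L) (k : ℤ)
    (α : AlgebraicCycle X ℤ) (hα : α ∈ Cyc.Zk X δ k)
    (v : (ξ : X) → Cyc.secFibre L ξ) (hv : ∀ ξ, v ξ ≠ 0)
    (u : (ξ : X') → Cyc.secFibre ((Scheme.Modules.pullback p).obj L) ξ) (hu : ∀ ξ, u ξ ≠ 0)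
    (γ₁ γ₂ : AlgebraicCycle X' ℤ)
    (h₁ : ⇑γ₁ = Cyc.pullFun p δ' δ c (Cyc.c1CapFun δ L ⇑α v))
    (h₂ : ⇑γ₂ = Cyc.c1CapFun δ' ((Scheme.Modules.pullback p).obj L) (Cyc.pullFun p δ' δ c ⇑α) u) :
    Cyc.RatEquiv δ' (k + c - 1) γ₁ γ₂ := by
  haveI hN' : IsLocallyNoetherian X' := hX'.1
  have hαk : α ∈ Cyc.Zk X δ (k - 1 + 1) := by rwa [sub_add_cancel]
  obtain ⟨α', hα'eq⟩ := exists_cycle_pullFun p δ' δ hX'.2.2 c hc α
  have hα'k : α' ∈ Cyc.Zk X' δ' (k + c - 1 + 1) := by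
    intro x' hx'
    rw [hα'eq]
    unfold Cyc.pullFun
    split_ifs with hd
    · have : δ (p x') ≠ k := by
        intro hk
        apply hx'
        rw [hd, hk]
        ring
      rw [hα (p x') this, zero_mul]
    · rfl
  have h₁' : ⇑γ₁ = Cyc.c1CapFun δ' ((Scheme.Modules.pullback p).obj L) ⇑α'
      (fun ξ' => pullFib p L ξ' (v (p ξ'))) := by
    rw [h₁, pullFun_c1CapFun δ δ' hX hX' p c hc (k - 1) L hL α hαk v hv, hα'eq]
  have h₂' : ⇑γ₂ = Cyc.c1CapFun δ' ((Scheme.Modules.pullback p).obj L) ⇑α' u := by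
    rw [h₂, hα'eq]
  exact ratEquiv_c1CapFun δ' hX' _ (isInvertible_pullback p L hL) (k + c - 1) α' hα'k _
    (fun ξ' => pullFib_ne_zero p L hL ξ' (hv (p ξ'))) u hu γ₁ γ₂ h₁' h₂'

end Groth.Agent.Lib.Seat28.C1Pull
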