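import Mathlib
import Groth.Prelude.Def_C1
import Groth.Agent.Lib.Helper23UnitStalk
import Groth.Agent.Lib.Seat28OrdFrac

set_option autoImplicit false
set_option linter.style.haveILetI false
universe u
open CategoryTheory AlgebraicGeometry TopologicalSpace Opposite

namespace Groth.Agent.Lib.Seat28.C1Unit

open Groth.Agent.Lib.Helper23.UnitStalk Groth.Agent.Lib.Helper23.GenLocus Groth.Agent.Lib.Helper2.QCoh

variable {X : Scheme.{u}}

/-- `toUnitStalk` is compatible with generization maps on stalks. -/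
lemma stalkSpecializes_toUnitStalk {x ξ : X} (h : ξ ⤳ x) (a : X.presheaf.stalk x) :
    (Coh.structureModule X).presheaf.stalkSpecializes h (toUnitStalk x a) =
      toUnitStalk ξ (X.presheaf.stalkSpecializes h a) := by
  obtain ⟨W, hxW, s, rfl⟩ := X.presheaf.exists_germ_eq (x := x) a
  have hξW : ξ ∈ W := h.mem_open W.isOpen hxW
  rw [toUnitStalk_germ]
  have e1 : (Coh.structureModule X).presheaf.stalkSpecializes h
      ((Coh.structureModule X).presheaf.germ W x hxW (toS W s)) =
      (Coh.structureModule X).presheaf.germ W ξ hξW (toS W s) := by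
    rw [← ConcreteCategory.comp_apply, TopCat.Presheaf.germ_stalkSpecializes]
  have e2 : X.presheaf.stalkSpecializes h (X.presheaf.germ W x hxW s) =
      X.presheaf.germ W ξ hξW s := by
    rw [← ConcreteCategory.comp_apply, TopCat.Presheaf.germ_stalkSpecializes]
  rw [e1, e2, toUnitStalk_germ]

/-- the linear map `L_ξ → κ(ξ)` for `L = O_X` -/
noncomputable def preθ (ξ : X) :
    (Coh.structureModule X).presheaf.stalk ξ →ₗ[X.presheaf.stalk ξ]
      IsLocalRing.ResidueField (X.presheaf.stalk ξ) :=
  (Algebra.linearMap (X.presheaf.stalk ξ) (IsLocalRing.ResidueField (X.presheaf.stalk ξ))).comp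
    (unitStalkEquiv ξ).symm.toLinearMap

lemma preθ_apply (ξ : X) (t : (Coh.structureModule X).presheaf.stalk ξ) :
    preθ ξ t = IsLocalRing.residue _ ((unitStalkEquiv ξ).symm t) := rfl

lemma preθ_toUnitStalk (ξ : X) (a : X.presheaf.stalk ξ) :
    preθ ξ (toUnitStalk ξ a) = IsLocalRing.residue _ a := by
  rw [preθ_apply]
  congr 1
  exact (unitStalkEquiv ξ).symm_apply_apply a

lemma smul_top_le_ker (ξ : X) :
    IsLocalRing.maximalIdeal (X.presheaf.stalk ξ) •
      (⊤ : Submodule (X.presheaf.stalk ξ) ((Coh.structureModule X).presheaf.stalk ξ)) ≤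
      LinearMap.ker (preθ ξ) := by
  rw [Submodule.smul_le]
  intro r hr n _
  rw [LinearMap.mem_ker, map_smul]
  have : algebraMap (X.presheaf.stalk ξ) (IsLocalRing.ResidueField (X.presheaf.stalk ξ)) r = 0 :=
    (IsLocalRing.residue_eq_zero_iff r).2 hr
  rw [Algebra.smul_def, this, zero_mul]

lemma ker_le_smul_top (ξ : X) :
    LinearMap.ker (preθ ξ) ≤ IsLocalRing.maximalIdeal (X.presheaf.stalk ξ) •
      (⊤ : Submodule (X.presheaf.stalk ξ) ((Coh.structureModule X).presheaf.stalk ξ)) := by
  intro t ht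
  rw [LinearMap.mem_ker, preθ_apply] at ht
  have hm : (unitStalkEquiv ξ).symm t ∈ IsLocalRing.maximalIdeal (X.presheaf.stalk ξ) :=
    (IsLocalRing.residue_eq_zero_iff _).1 ht
  have ht' : t = (unitStalkEquiv ξ).symm t • (unitStalkEquiv ξ) 1 := by
    rw [← map_smul, smul_eq_mul, mul_one, LinearEquiv.apply_symm_apply]
  rw [ht']
  exact Submodule.smul_mem_smul hm Submodule.mem_top

/-- the identification `L(ξ) → κ(ξ)` for `L = O_X` -/
noncomputable def θ (ξ : X) :
    Cyc.secFibre (Coh.structureModule X) ξ →ₗ[X.presheaf.stalk ξ]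
      IsLocalRing.ResidueField (X.presheaf.stalk ξ) :=
  Submodule.liftQ _ (preθ ξ) (smul_top_le_ker ξ)

lemma θ_mk (ξ : X) (t : (Coh.structureModule X).presheaf.stalk ξ) :
    θ ξ (Submodule.Quotient.mk t) = preθ ξ t := rfl

lemma θ_injective (ξ : X) : Function.Injective (θ ξ) := by
  rw [← LinearMap.ker_eq_bot]
  exact Submodule.ker_liftQ_eq_bot _ _ _ (ker_le_smul_top ξ)

lemma θ_smul (ξ : X) (a : X.presheaf.stalk ξ) (s : Cyc.secFibre (Coh.structureModule X) ξ) :
    θ ξ (a • s) = IsLocalRing.residue _ a * θ ξ s := by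
  rw [map_smul, Algebra.smul_def]
  rfl


lemma span_unitStalkEquiv_one (x : X) :
    Submodule.span (X.presheaf.stalk x) {unitStalkEquiv x 1} =
      (⊤ : Submodule (X.presheaf.stalk x) ((Coh.structureModule X).presheaf.stalk x)) := by
  rw [eq_top_iff]
  intro t _
  have : t = (unitStalkEquiv x).symm t • unitStalkEquiv x 1 := by
    rw [← map_smul, smul_eq_mul, mul_one, LinearEquiv.apply_symm_apply]
  rw [this]
  exact Submodule.smul_mem _ _ (Submodule.subset_span rfl)

lemma isUnit_symm_of_span_eq_top (x : X) (t : (Coh.structureModule X).presheaf.stalk x)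
    (ht : Submodule.span (X.presheaf.stalk x) {t} = ⊤) : IsUnit ((unitStalkEquiv x).symm t) := by
  have h1 : unitStalkEquiv x 1 ∈ Submodule.span (X.presheaf.stalk x) {t} := by rw [ht]; trivial
  obtain ⟨a, ha⟩ := Submodule.mem_span_singleton.1 h1
  have h2 : a * (unitStalkEquiv x).symm t = 1 := by
    have := congrArg (unitStalkEquiv x).symm ha
    rw [map_smul, LinearEquiv.symm_apply_apply, smul_eq_mul] at this
    exact this
  exact IsUnit.of_mul_eq_one_right a h2

theorem secOrdAt_unit (ξ x : X) (h : ξ ⤳ x) (s : Cyc.secFibre (Coh.structureModule X) ξ) :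
    Cyc.secOrdAt (Coh.structureModule X) ξ x h s = Cyc.ordAt x ξ h (θ ξ s) := by
  classical
  unfold Cyc.secOrdAt
  have ht : ∃ t : (Coh.structureModule X).presheaf.stalk x,
      Submodule.span (X.presheaf.stalk x) {t} = ⊤ := ⟨unitStalkEquiv x 1, span_unitStalkEquiv_one x⟩
  rw [dif_pos ht]
  have htspan := Classical.choose_spec ht
  set t := Classical.choose ht with ht_def
  set u := (unitStalkEquiv x).symm t with hu_def
  have hu : IsUnit u := isUnit_symm_of_span_eq_top x t htspan
  have ht' : (Coh.structureModule X).presheaf.stalkSpecializes h t =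
      toUnitStalk ξ (X.presheaf.stalkSpecializes h u) := by
    rw [← stalkSpecializes_toUnitStalk]
    congr 1
    exact ((unitStalkEquiv x).apply_symm_apply t).symm
  set u' := X.presheaf.stalkSpecializes h u with hu'_def
  have hu' : IsUnit u' := hu.map (X.presheaf.stalkSpecializes h).hom
  have hθt : θ ξ (Submodule.Quotient.mk ((Coh.structureModule X).presheaf.stalkSpecializes h t)) =
      IsLocalRing.residue _ u' := by
    rw [θ_mk, ht', preθ_toUnitStalk]
  have hru' : IsLocalRing.residue (X.presheaf.stalk ξ) u' ≠ 0 := (hu'.map _).ne_zero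
  by_cases hs : s = 0
  · -- both sides vanish
    subst hs
    have hφ : ∃ φ : X.presheaf.stalk ξ, (0 : Cyc.secFibre (Coh.structureModule X) ξ) =
        φ • (Submodule.Quotient.mk ((Coh.structureModule X).presheaf.stalkSpecializes h t) :
          Cyc.secFibre (Coh.structureModule X) ξ) := ⟨0, by rw [zero_smul]⟩
    rw [dif_pos hφ]
    have hspec := Classical.choose_spec hφ
    set φ := Classical.choose hφ with hφ_def
    have h1 : IsLocalRing.residue _ φ * IsLocalRing.residue _ u' = 0 := by
      rw [← hθt, ← θ_smul, ← hspec, map_zero]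
    have h2 : IsLocalRing.residue (X.presheaf.stalk ξ) φ = 0 := by
      rcases mul_eq_zero.1 h1 with h | h
      · exact h
      · exact absurd h hru'
    rw [map_zero]
    change Cyc.ordAt x ξ h (IsLocalRing.residue _ φ) = _
    rw [h2]
  · have hθs : θ ξ s ≠ 0 := fun h0 => hs (θ_injective ξ (by rw [h0, map_zero]))
    have hφ : ∃ φ : X.presheaf.stalk ξ, s =
        φ • (Submodule.Quotient.mk ((Coh.structureModule X).presheaf.stalkSpecializes h t) :
          Cyc.secFibre (Coh.structureModule X) ξ) := by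
      obtain ⟨φ, hφ⟩ := IsLocalRing.residue_surjective
        (θ ξ s * (IsLocalRing.residue (X.presheaf.stalk ξ) u')⁻¹)
      refine ⟨φ, θ_injective ξ ?_⟩
      rw [θ_smul, hθt, hφ, inv_mul_cancel_right₀ hru']
    rw [dif_pos hφ]
    have hspec := Classical.choose_spec hφ
    set φ := Classical.choose hφ with hφ_def
    have h1 : θ ξ s = IsLocalRing.residue _ φ * IsLocalRing.residue _ u' := by
      conv_lhs => rw [hspec]
      rw [θ_smul, hθt]
    have h2 : IsLocalRing.residue (X.presheaf.stalk ξ) φ =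
        θ ξ s * (IsLocalRing.residue (X.presheaf.stalk ξ) u')⁻¹ := by
      rw [h1, mul_inv_cancel_right₀ hru']
    change Cyc.ordAt x ξ h (IsLocalRing.residue _ φ) = _
    rw [h2]
    unfold Cyc.ordAt
    have gen : ∀ (a b : X.residueField ξ), a ≠ 0 → b ≠ 0 →
        CycAlg.ordFrac (Cyc.LocQuot x ξ h) (X.residueField ξ) b = 0 →
        CycAlg.ordFrac (Cyc.LocQuot x ξ h) (X.residueField ξ) (a * b⁻¹) =
          CycAlg.ordFrac (Cyc.LocQuot x ξ h) (X.residueField ξ) a := by
      intro a b ha hb h0
      rw [OrdFrac.ordFrac_mul ha (inv_ne_zero hb), OrdFrac.ordFrac_inv, h0, neg_zero, add_zero]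
    -- the image of the unit `u` has order zero
    have hunit : CycAlg.ordFrac (Cyc.LocQuot x ξ h) (X.residueField ξ)
        (algebraMap (Cyc.LocQuot x ξ h) (X.residueField ξ)
          (Ideal.Quotient.mk (RingHom.ker (Cyc.specMap x ξ h)) u)) = 0 :=
      OrdFrac.ordFrac_algebraMap_of_isUnit (hu.map _)
    exact gen (θ ξ s) (IsLocalRing.residue (X.presheaf.stalk ξ) u') hθs hru' hunit

end Groth.Agent.Lib.Seat28.C1Unit
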