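import Mathlib
import Groth.Prelude.Def_Cyc
import Groth.Agent.Lib.Seat28FlatOrd
import Groth.Agent.Lib.Helper5RegImm
import Groth.Agent.Lib.Helper22IdealComap

/-!
# Base change of a closed immersion, on stalks (seat 28)

For `f : X' ⟶ X` and a closed immersion `i : D ⟶ X`, with `D' = pullback f i`:
* `exists_unit_mul_of_span_eq`: generators of the same principal ideal of a local ring differ by a unit;
* `length_quot_map_eq_of_square`: pure algebra behind `length_fibre_snd_eq`;
* `germ_appLE`; `ker_stalkMap_fst_eq_map`: the kernel of `O_{X',x'} → O_{D',z}` is generated by the image of the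
  (germs of the) ideal of `D`; `ker_stalkMap_fst_eq_span` (principal case); `ker_stalkMap_fst_le`;
* `length_fibre_snd_eq`: the fibre multiplicities of `D' ⟶ D` and `X' ⟶ X` agree; `pullFun_snd_eq`.
-/

set_option autoImplicit false
set_option linter.style.haveILetI false
universe u
open AlgebraicGeometry CategoryTheory CategoryTheory.Limits TopologicalSpace Opposite IsLocalRing

namespace Groth.Agent.Lib.Seat28.ClosedBC

section Algebra

/-- in a local ring, two generators of the same principal ideal differ by a unit. -/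
theorem exists_unit_mul_of_span_eq {R : Type*} [CommRing R] [IsLocalRing R] {u v : R}
    (h : Ideal.span {u} = Ideal.span {v}) : ∃ c : R, IsUnit c ∧ u = c * v := by
  have hu : u ∈ Ideal.span {v} := h ▸ Ideal.mem_span_singleton_self u
  have hv : v ∈ Ideal.span {u} := h ▸ Ideal.mem_span_singleton_self v
  obtain ⟨c, hc⟩ := Ideal.mem_span_singleton'.1 hu
  obtain ⟨d, hd⟩ := Ideal.mem_span_singleton'.1 hv
  by_cases hcu : IsUnit c
  · exact ⟨c, hcu, hc.symm⟩
  · have hcd : ¬ IsUnit (c * d) := fun hh => hcu (isUnit_of_mul_isUnit_left hh)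
    have h1 : IsUnit (1 - c * d) := by
      have := IsLocalRing.isUnit_one_sub_self_of_mem_nonunits (c * d) hcd
      exact this
    have h2 : (1 - c * d) * u = 0 := by
      rw [sub_mul, one_mul, sub_eq_zero]
      calc u = c * v := hc.symm
        _ = c * (d * u) := by rw [hd]
        _ = c * d * u := by ring
    have hu0 : u = 0 := (h1.mul_right_eq_zero).1 h2
    have hv0 : v = 0 := by rw [← hd, hu0, mul_zero]
    exact ⟨1, isUnit_one, by rw [hu0, hv0, mul_zero]⟩

variable {A B A' B' : Type u} [CommRing A] [CommRing B] [CommRing A'] [CommRing B']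
  [IsLocalRing A] [IsLocalRing A']

/-- the length of the fibre ring is unchanged by a surjective base change whose kernel upstairs lies in the
ideal of the fibre. -/
theorem length_quot_map_eq_of_square (φ : A →+* B) (π : B →+* B') (ι : A →+* A') (ψ : A' →+* B')
    (hπ : Function.Surjective π) (hι : Function.Surjective ι) (hsq : π.comp φ = ψ.comp ι)
    (hker : RingHom.ker π ≤ Ideal.map φ (maximalIdeal A)) :
    Module.length B' (B' ⧸ Ideal.map ψ (maximalIdeal A')) =
      Module.length B (B ⧸ Ideal.map φ (maximalIdeal A)) := by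
  have h1 : Ideal.map ι (maximalIdeal A) = maximalIdeal A' := by
    haveI : IsLocalHom ι := IsLocalHom.of_surjective ι hι
    rcases Ideal.map_eq_top_or_isMaximal_of_surjective ι hι (maximalIdeal.isMaximal A) with h | h
    · exact absurd h (IsLocalRing.map_maximalIdeal_lt_top ι).ne
    · exact IsLocalRing.eq_maximalIdeal h
  have h2 : Ideal.map ψ (maximalIdeal A') = Ideal.map π (Ideal.map φ (maximalIdeal A)) := by
    rw [← h1, Ideal.map_map, ← hsq, ← Ideal.map_map]
  set J := Ideal.map φ (maximalIdeal A) with hJ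
  rw [h2]
  symm
  apply Groth.Agent.Lib.Seat28.FlatOrd.length_quot_eq_of_ringEquiv
  let g : B ⧸ J →+* B' ⧸ Ideal.map π J :=
    Ideal.Quotient.lift J ((Ideal.Quotient.mk (Ideal.map π J)).comp π) (by
      intro b hb
      rw [RingHom.comp_apply, Ideal.Quotient.eq_zero_iff_mem]
      exact Ideal.mem_map_of_mem π hb)
  refine RingEquiv.ofBijective g ⟨?_, ?_⟩
  · rw [injective_iff_map_eq_zero]
    intro x hx
    obtain ⟨b, rfl⟩ := Ideal.Quotient.mk_surjective x
    have hx' : (Ideal.Quotient.mk (Ideal.map π J)) (π b) = 0 := hx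
    rw [Ideal.Quotient.eq_zero_iff_mem] at hx' ⊢
    have h3 : b ∈ Ideal.comap π (Ideal.map π J) := hx'
    rw [Ideal.comap_map_of_surjective π hπ] at h3
    have h4 : Ideal.comap π ⊥ ≤ J := hker
    exact (sup_eq_left.2 h4) ▸ h3
  · intro y
    obtain ⟨b', rfl⟩ := Ideal.Quotient.mk_surjective y
    obtain ⟨b, rfl⟩ := hπ b'
    exact ⟨Ideal.Quotient.mk J b, rfl⟩

end Algebra

section Scheme

variable {X' X D : Scheme.{u}} (f : X' ⟶ X) (i : D ⟶ X) [IsClosedImmersion i]

/-- germs of `appLE`. -/
theorem germ_appLE (W : X.Opens) (U' : X'.Opens) (hle : U' ≤ f ⁻¹ᵁ W) (x' : X') (hx' : x' ∈ U')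
    (a : Γ(X, W)) :
    (X'.presheaf.germ U' x' hx').hom ((f.appLE W U' hle).hom a) =
      (f.stalkMap x').hom ((X.presheaf.germ W (f x') (hle hx')).hom a) := by
  rw [Scheme.Hom.appLE]
  have h1 := Scheme.Hom.germ_stalkMap_apply f W x' (hle hx') a
  have h2 := TopCat.Presheaf.germ_res_apply X'.presheaf (homOfLE hle) x' hx' ((f.app W).hom a)
  exact h2.trans h1.symm

/-- **Base change of the ideal of a closed immersion, on stalks.** -/
theorem ker_stalkMap_fst_eq_map (z : ↥(pullback f i)) (W : X.Opens) (hW : IsAffineOpen W)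
    (hzW : f (pullback.fst f i z) ∈ W) :
    RingHom.ker ((pullback.fst f i).stalkMap z).hom =
      Ideal.map (f.stalkMap (pullback.fst f i z)).hom
        ((i.ker.ideal ⟨W, hW⟩).map (X.presheaf.germ W (f (pullback.fst f i z)) hzW).hom) := by
  obtain ⟨U', hU', hzU', hU'W⟩ := exists_isAffineOpen_mem_and_subset (X := X')
    (x := pullback.fst f i z) (U := f ⁻¹ᵁ W) hzW
  rw [Groth.Agent.Lib.Helper5.RegImm.ker_stalkMap_eq_map_ker (pullback.fst f i) z U' hU' hzU',
    Scheme.IdealSheafData.ker_fst_of_isClosedImmersion i f,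
    Groth.Agent.Lib.Helper22.IdealComap.ideal_comap_eq_map f i.ker ⟨U', hU'⟩ ⟨W, hW⟩ hU'W,
    Ideal.map_map, Ideal.map_map]
  congr 1
  ext a
  exact germ_appLE f W U' hU'W _ hzU' a

/-- the stalk of the ideal of a closed immersion at a point of its image, when the kernel of the stalk map
is generated by the germ of a section. -/
theorem map_germ_ker_ideal_eq_span (W : X.Opens) (hW : IsAffineOpen W) (a : Γ(X, W)) (y : X)
    (hyW : y ∈ W) (d : D) (hd : i d = y)
    (hker : ∀ hdW : i d ∈ W, RingHom.ker (i.stalkMap d).hom =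
      Ideal.span {(X.presheaf.germ W (i d) hdW).hom a}) :
    (i.ker.ideal ⟨W, hW⟩).map (X.presheaf.germ W y hyW).hom =
      Ideal.span {(X.presheaf.germ W y hyW).hom a} := by
  subst hd
  rw [← Groth.Agent.Lib.Helper5.RegImm.ker_stalkMap_eq_map_ker i d W hW hyW]
  exact hker hyW

/-- **Base change of a principal ideal of a closed immersion, on stalks.** -/
theorem ker_stalkMap_fst_eq_span (z : ↥(pullback f i)) (W : X.Opens) (hW : IsAffineOpen W)
    (hzW : f (pullback.fst f i z) ∈ W) (a : Γ(X, W))
    (hker : ∀ hdW : i (pullback.snd f i z) ∈ W, RingHom.ker (i.stalkMap (pullback.snd f i z)).hom =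
      Ideal.span {(X.presheaf.germ W (i (pullback.snd f i z)) hdW).hom a}) :
    RingHom.ker ((pullback.fst f i).stalkMap z).hom =
      Ideal.span {(f.stalkMap (pullback.fst f i z)).hom
        ((X.presheaf.germ W (f (pullback.fst f i z)) hzW).hom a)} := by
  have hpt : i (pullback.snd f i z) = f (pullback.fst f i z) := by
    rw [← Scheme.Hom.comp_apply, ← Scheme.Hom.comp_apply, pullback.condition]
  rw [ker_stalkMap_fst_eq_map f i z W hW hzW,
    map_germ_ker_ideal_eq_span i W hW a _ hzW (pullback.snd f i z) hpt hker,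
    Ideal.map_span, Set.image_singleton]

/-- the kernel of the stalk map of the base change of a closed immersion lies in the ideal of the fibre. -/
theorem ker_stalkMap_fst_le (z : ↥(pullback f i)) :
    RingHom.ker ((pullback.fst f i).stalkMap z).hom ≤
      Ideal.map (f.stalkMap (pullback.fst f i z)).hom
        (maximalIdeal (X.presheaf.stalk (f (pullback.fst f i z)))) := by
  obtain ⟨W, hW, hzW, -⟩ := exists_isAffineOpen_mem_and_subset (X := X)
    (x := f (pullback.fst f i z)) (U := ⊤) trivial
  rw [ker_stalkMap_fst_eq_map f i z W hW hzW]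
  apply Ideal.map_mono
  apply IsLocalRing.le_maximalIdeal
  intro htop
  have h1 := ker_stalkMap_fst_eq_map f i z W hW hzW
  rw [htop, Ideal.map_top] at h1
  exact (RingHom.ker_ne_top _) h1

/-- the multiplicity of the fibre of `D ×_X X' ⟶ D` at a point is that of `X' ⟶ X`. -/
theorem length_fibre_snd_eq (z : ↥(pullback f i)) :
    Module.length ((pullback f i).presheaf.stalk z)
        ((pullback f i).presheaf.stalk z ⧸ Ideal.map ((pullback.snd f i).stalkMap z).hom
          (maximalIdeal (D.presheaf.stalk (pullback.snd f i z)))) =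
      Module.length (X'.presheaf.stalk (pullback.fst f i z))
        (X'.presheaf.stalk (pullback.fst f i z) ⧸ Ideal.map (f.stalkMap (pullback.fst f i z)).hom
          (maximalIdeal (X.presheaf.stalk (f (pullback.fst f i z))))) := by
  have hcongr := Scheme.Hom.stalkMap_congr_hom (pullback.fst f i ≫ f) (pullback.snd f i ≫ i)
    pullback.condition z
  rw [Scheme.Hom.stalkMap_comp, Scheme.Hom.stalkMap_comp] at hcongr
  have hpt : (pullback.fst f i ≫ f) z = (pullback.snd f i ≫ i) z := by rw [pullback.condition]
  let τ : X.presheaf.stalk (f (pullback.fst f i z)) →+* X.presheaf.stalk (i (pullback.snd f i z)) :=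
    (X.presheaf.stalkCongr (.of_eq hpt)).hom.hom
  have hτbij : Function.Bijective τ :=
    ConcreteCategory.bijective_of_isIso (X.presheaf.stalkCongr (.of_eq hpt)).hom
  have hsq : ∀ a, ((pullback.fst f i).stalkMap z).hom ((f.stalkMap (pullback.fst f i z)).hom a) =
      ((pullback.snd f i).stalkMap z).hom ((i.stalkMap (pullback.snd f i z)).hom (τ a)) := fun a =>
    ConcreteCategory.congr_hom hcongr a
  refine length_quot_map_eq_of_square (f.stalkMap (pullback.fst f i z)).hom
    ((pullback.fst f i).stalkMap z).hom ((i.stalkMap (pullback.snd f i z)).hom.comp τ)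
    ((pullback.snd f i).stalkMap z).hom ((pullback.fst f i).stalkMap_surjective z) ?_ ?_
    (ker_stalkMap_fst_le f i z)
  · exact (i.stalkMap_surjective _).comp hτbij.surjective
  · ext a
    exact hsq a

/-- flat pullback along the base change `D ×_X X' ⟶ D` of a function restricted from `X` is the restriction of
the flat pullback along `X' ⟶ X`. -/
theorem pullFun_snd_eq (δ : X → ℤ) (δ' : X' → ℤ) (r : ℤ) (C : X → ℤ) (z : ↥(pullback f i)) :
    Cyc.pullFun (pullback.snd f i) (fun z => δ' (pullback.fst f i z)) (fun d => δ (i d)) r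
        (fun d => C (i d)) z =
      Cyc.pullFun f δ' δ r C (pullback.fst f i z) := by
  have hpt : i (pullback.snd f i z) = f (pullback.fst f i z) := by
    rw [← Scheme.Hom.comp_apply, ← Scheme.Hom.comp_apply, pullback.condition]
  unfold Cyc.pullFun
  simp only [hpt]
  rw [length_fibre_snd_eq f i z]

end Scheme

end Groth.Agent.Lib.Seat28.ClosedBC
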