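import Mathlib

/-!
# Transport of the order of vanishing along ring isomorphisms and open immersions (seat 62)

* `ord_ringEquiv`, `ordMonoidWithZeroHom_ringEquiv`, `ordFrac_ringEquiv`: invariance of
  `Ring.ord`, `Ring.ordFrac` under ring isomorphisms.
* for an open `U` of an integral locally noetherian scheme `X`: `kap U : K(X) ⟶ K(U)` (an iso),
  `coheight_eq`, `ord_kap : Scheme.ord (kap U f) u = Scheme.ord f (U.ι u)`.
-/

open AlgebraicGeometry CategoryTheory Order IsLocalRing

universe u

namespace Groth.Agent.Lib.Seat62.OrdTransport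

section ring

variable {R R' : Type*} [CommRing R] [CommRing R']

/-- `Ring.ord` is invariant under ring isomorphisms. -/
theorem ord_ringEquiv (e : R ≃+* R') (x : R) : Ring.ord R' (e x) = Ring.ord R x := by
  unfold Ring.ord
  let _ : Algebra R R' := e.toRingHom.toAlgebra
  have hsurj : Function.Surjective (algebraMap R R') := e.surjective
  rw [← Module.length_eq_of_surjective (S := R) (R := R') (M := R' ⧸ Ideal.span {e x}) hsurj]
  symm
  apply LinearEquiv.length_eq
  have hmap : (Ideal.span {x}).map (e : R →+* R') = Ideal.span {e x} := by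
    rw [Ideal.map_span, Set.image_singleton]; rfl
  let q := Ideal.quotientEquiv (Ideal.span {x}) (Ideal.span {e x}) e hmap.symm
  exact
    { q.toAddEquiv with
      map_smul' := by
        intro r m
        obtain ⟨m, rfl⟩ := Ideal.Quotient.mk_surjective m
        simp only [RingHom.id_apply]
        change q (r • Ideal.Quotient.mk _ m) = r • q (Ideal.Quotient.mk _ m)
        rw [Algebra.smul_def r (q _)]
        change q (Ideal.Quotient.mk _ (r * m)) = _
        simp only [q, Ideal.quotientEquiv_mk, map_mul]
        rfl }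


theorem ordMonoidWithZeroHom_ringEquiv [IsDomain R] [IsDomain R'] (e : R ≃+* R') (x : R) :
    Ring.ordMonoidWithZeroHom R' (e x) = Ring.ordMonoidWithZeroHom R x := by
  by_cases hx0 : x = 0
  · subst hx0; simp
  have hex0 : e x ≠ 0 := by simpa using hx0
  rw [Ring.ordMonoidWithZeroHom_eq_ord (mem_nonZeroDivisors_of_ne_zero hx0),
    Ring.ordMonoidWithZeroHom_eq_ord (mem_nonZeroDivisors_of_ne_zero hex0), ord_ringEquiv]

/-- `Ring.ordFrac` is invariant under isomorphisms of the ring compatible with a map of the
fraction fields. -/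
theorem ordFrac_ringEquiv [IsDomain R] [IsDomain R'] [IsNoetherianRing R] [IsNoetherianRing R']
    [Ring.KrullDimLE 1 R] [Ring.KrullDimLE 1 R']
    {K K' : Type*} [Field K] [Field K'] [Algebra R K] [Algebra R' K'] [IsFractionRing R K]
    [IsFractionRing R' K'] (e : R ≃+* R') (ε : K →+* K')
    (hcomp : ∀ r, ε (algebraMap R K r) = algebraMap R' K' (e r)) (k : K) :
    Ring.ordFrac R' (ε k) = Ring.ordFrac R k := by
  obtain ⟨a, b, hb, rfl⟩ := IsFractionRing.div_surjective (A := R) k
  have hb0 : b ≠ 0 := nonZeroDivisors.ne_zero hb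
  have heb0 : e b ≠ 0 := by simpa using hb0
  by_cases ha0 : a = 0
  · subst ha0; simp
  have hea0 : e a ≠ 0 := by simpa using ha0
  rw [map_div₀, map_div₀, map_div₀, hcomp, hcomp, Ring.ordFrac_eq_ord R' hea0,
    Ring.ordFrac_eq_ord R' heb0, Ring.ordFrac_eq_ord R ha0, Ring.ordFrac_eq_ord R hb0,
    ordMonoidWithZeroHom_ringEquiv, ordMonoidWithZeroHom_ringEquiv]

end ring

section scheme

variable {X : Scheme.{u}} [IsIntegral X] [IsLocallyNoetherian X] (U : X.Opens) [Nonempty U]

instance : IsLocallyNoetherian (U : Scheme.{u}) := isLocallyNoetherian_of_isOpenImmersion U.ι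

theorem ι_genericPoint : U.ι (genericPoint (U : Scheme.{u})) = genericPoint X :=
  genericPoint_eq_of_isOpenImmersion U.ι

/-- The comparison of function fields `K(X) ⟶ K(U)`. -/
noncomputable def kap : X.functionField ⟶ (U : Scheme.{u}).functionField :=
  (X.presheaf.stalkCongr (Inseparable.of_eq (ι_genericPoint U).symm)).hom ≫
    U.ι.stalkMap (genericPoint (U : Scheme.{u}))

instance : IsIso (kap U) := by
  unfold kap
  infer_instance

theorem kap_algebraMap (u : ↥(U : Scheme.{u})) (a : X.presheaf.stalk (U.ι u)) :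
    kap U (algebraMap (X.presheaf.stalk (U.ι u)) X.functionField a) =
      algebraMap ((U : Scheme.{u}).presheaf.stalk u) (U : Scheme.{u}).functionField
        (U.ι.stalkMap u a) := by
  have hU : genericPoint (U : Scheme.{u}) ⤳ u :=
    (genericPoint_spec (U : Scheme.{u})).specializes trivial
  have hX : genericPoint X ⤳ U.ι u := (genericPoint_spec X).specializes trivial
  have key : X.presheaf.stalkSpecializes hX ≫ kap U =
      U.ι.stalkMap u ≫ (U : Scheme.{u}).presheaf.stalkSpecializes hU := by
    rw [← Scheme.Hom.stalkSpecializes_stalkMap]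
    unfold kap
    rw [← Category.assoc]
    congr 1
    simp only [TopCat.Presheaf.stalkCongr_hom]
    exact TopCat.Presheaf.stalkSpecializes_comp _ _ _
  exact congrArg (fun φ => φ.hom a) key

/-- the ring isomorphism on stalks induced by the open immersion. -/
noncomputable def stalkEquiv (u : ↥(U : Scheme.{u})) :
    X.presheaf.stalk (U.ι u) ≃+* (U : Scheme.{u}).presheaf.stalk u :=
  (asIso (U.ι.stalkMap u)).commRingCatIsoToRingEquiv

theorem stalkEquiv_apply (u : ↥(U : Scheme.{u})) (a : X.presheaf.stalk (U.ι u)) :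
    stalkEquiv U u a = U.ι.stalkMap u a := rfl

theorem coheight_eq (u : ↥(U : Scheme.{u})) : coheight u = coheight (U.ι u) := by
  have h1 := ringKrullDim_stalk_eq_coheight (X := (U : Scheme.{u})) u
  have h2 := ringKrullDim_stalk_eq_coheight (X := X) (U.ι u)
  have h3 := ringKrullDim_eq_of_ringEquiv (stalkEquiv U u)
  rw [h1, h2] at h3
  exact_mod_cast h3.symm

theorem ord_kap (f : X.functionField) (u : ↥(U : Scheme.{u})) :
    Scheme.ord (kap U f) u = Scheme.ord f (U.ι u) := by
  by_cases hu : coheight u = 1
  · have hu' : coheight (U.ι u) = 1 := by rw [← coheight_eq]; exact hu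
    rw [Scheme.ord_eq_ordHom_of_coheight_eq_one hu, Scheme.ord_eq_ordHom_of_coheight_eq_one hu']
    congr 2
    have : Ring.KrullDimLE 1 ((U : Scheme.{u}).presheaf.stalk u) := krullDimLE_of_coheight_le hu.le
    have : Ring.KrullDimLE 1 (X.presheaf.stalk (U.ι u)) := krullDimLE_of_coheight_le hu'.le
    exact ordFrac_ringEquiv (stalkEquiv U u) (kap U).hom (fun r => kap_algebraMap U u r) f
  · have hu' : coheight (U.ι u) ≠ 1 := by rw [← coheight_eq]; exact hu
    rw [Scheme.ord_eq_zero_of_coheight_neq_one hu, Scheme.ord_eq_zero_of_coheight_neq_one hu']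

theorem kap_bijective : Function.Bijective (kap U).hom :=
  ConcreteCategory.bijective_of_isIso (kap U)

end scheme

end Groth.Agent.Lib.Seat62.OrdTransport
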