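import Mathlib
import Groth.Prelude.Def_Cyc
import Groth.Agent.Lib.Seat62OrdTransport
import Groth.Agent.Lib.Seat28OrdFrac

/-!
# Principal divisors (`Cyc.divFun`) and open subschemes (helper32)

* `ordFrac_congr`, `ordFrac_quot_ker_congr`: `CycAlg.ordFrac` is invariant under compatible
  isomorphisms of ring and field (including the guard in its definition).
* `specMap_ι`, `ordAt_ι`, `divFun_ι`: `Cyc.ordAt` / `Cyc.divFun` on an open subscheme `U` agree
  with those on `X`.
-/

set_option autoImplicit false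
set_option linter.style.haveILetI false
universe u v
open AlgebraicGeometry CategoryTheory TopologicalSpace Opposite

namespace Groth.Agent.Lib.Seat32.CycOpen

section ring

variable {R R' : Type u} [CommRing R] [CommRing R'] {K K' : Type v} [Field K] [Field K']
  [Algebra R K] [Algebra R' K']

/-- transfer of the guard of `CycAlg.ordFrac` along compatible isomorphisms. -/
theorem guard_of_ringEquiv (e : R ≃+* R') (σ : K ≃+* K')
    (hc : ∀ r, σ (algebraMap R K r) = algebraMap R' K' (e r))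
    (h : IsNoetherianRing R ∧ Ring.KrullDimLE 1 R ∧ Nontrivial R ∧ IsFractionRing R K) :
    IsNoetherianRing R' ∧ Ring.KrullDimLE 1 R' ∧ Nontrivial R' ∧ IsFractionRing R' K' := by
  obtain ⟨h1, h2, h3, h4⟩ := h
  refine ⟨isNoetherianRing_of_ringEquiv R e, ?_, e.injective.nontrivial, ?_⟩
  · rw [Ring.krullDimLE_iff, ← ringKrullDim_eq_of_ringEquiv e]
    exact Ring.krullDimLE_iff.1 h2
  · have hinj : Function.Injective (algebraMap R' K') := by
      intro a b hab
      obtain ⟨a, rfl⟩ := e.surjective a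
      obtain ⟨b, rfl⟩ := e.surjective b
      rw [← hc, ← hc] at hab
      rw [IsFractionRing.injective R K (σ.injective hab)]
    have : FaithfulSMul R' K' := (faithfulSMul_iff_algebraMap_injective R' K').2 hinj
    apply IsFractionRing.of_field
    intro z
    obtain ⟨z, rfl⟩ := σ.surjective z
    obtain ⟨a, b, _, rfl⟩ := IsFractionRing.div_surjective (A := R) z
    exact ⟨e a, e b, by rw [map_div₀, hc, hc]⟩

/-- `CycAlg.ordFrac` is invariant under compatible isomorphisms of the ring and the field. -/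
theorem ordFrac_congr (e : R ≃+* R') (σ : K ≃+* K')
    (hc : ∀ r, σ (algebraMap R K r) = algebraMap R' K' (e r)) (f : K) :
    CycAlg.ordFrac R K f = CycAlg.ordFrac R' K' (σ f) := by
  by_cases h : IsNoetherianRing R ∧ Ring.KrullDimLE 1 R ∧ Nontrivial R ∧ IsFractionRing R K
  · have h' := guard_of_ringEquiv e σ hc h
    unfold CycAlg.ordFrac
    rw [dif_pos h, dif_pos h']
    obtain ⟨h1, h2, h3, h4⟩ := h
    obtain ⟨h1', h2', h3', h4'⟩ := h'
    have : IsDomain R := (IsFractionRing.injective R K).isDomain (algebraMap R K)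
    have : IsDomain R' := (IsFractionRing.injective R' K').isDomain (algebraMap R' K')
    have key : Ring.ordFrac R' (σ f) = Ring.ordFrac R f :=
      Groth.Agent.Lib.Seat62.OrdTransport.ordFrac_ringEquiv e (σ : K →+* K') hc f
    rw [key]
  · have h' : ¬ (IsNoetherianRing R' ∧ Ring.KrullDimLE 1 R' ∧ Nontrivial R' ∧
        IsFractionRing R' K') := by
      intro h'
      apply h
      refine guard_of_ringEquiv e.symm σ.symm ?_ h'
      intro r'
      obtain ⟨r, rfl⟩ := e.surjective r'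
      rw [← hc]
      simp
    unfold CycAlg.ordFrac
    rw [dif_neg h, dif_neg h']


/-- `CycAlg.ordFrac` of a quotient by a kernel, transported along compatible isomorphisms. -/
theorem ordFrac_quot_ker_congr {A A' : Type u} [CommRing A] [CommRing A'] {K K' : Type v}
    [Field K] [Field K'] (φ : A →+* K) (φ' : A' →+* K') (a : A ≃+* A') (σ : K ≃+* K')
    (hc : ∀ r, φ' (a r) = σ (φ r)) (f : K) :
    letI : Algebra (A ⧸ RingHom.ker φ) K :=
      (Ideal.Quotient.lift (RingHom.ker φ) φ (fun _ ha => RingHom.mem_ker.mp ha)).toAlgebra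
    letI : Algebra (A' ⧸ RingHom.ker φ') K' :=
      (Ideal.Quotient.lift (RingHom.ker φ') φ' (fun _ ha => RingHom.mem_ker.mp ha)).toAlgebra
    CycAlg.ordFrac (A ⧸ RingHom.ker φ) K f = CycAlg.ordFrac (A' ⧸ RingHom.ker φ') K' (σ f) := by
  letI : Algebra (A ⧸ RingHom.ker φ) K :=
    (Ideal.Quotient.lift (RingHom.ker φ) φ (fun _ ha => RingHom.mem_ker.mp ha)).toAlgebra
  letI : Algebra (A' ⧸ RingHom.ker φ') K' :=
    (Ideal.Quotient.lift (RingHom.ker φ') φ' (fun _ ha => RingHom.mem_ker.mp ha)).toAlgebra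
  have hker : RingHom.ker φ' = (RingHom.ker φ).map (a : A →+* A') := by
    ext x'
    obtain ⟨r, rfl⟩ := a.surjective x'
    rw [RingHom.mem_ker, hc]
    constructor
    · intro hx
      have : φ r = 0 := σ.injective (by rw [hx, map_zero])
      exact Ideal.mem_map_of_mem _ (RingHom.mem_ker.2 this)
    · intro hx
      obtain ⟨r', hr', hrr'⟩ :=
        (Ideal.mem_map_iff_of_surjective (a : A →+* A') a.surjective).1 hx
      have : r' = r := a.injective hrr'
      subst this
      rw [RingHom.mem_ker.1 hr', map_zero]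
  let e : (A ⧸ RingHom.ker φ) ≃+* (A' ⧸ RingHom.ker φ') := Ideal.quotientEquiv _ _ a hker
  refine ordFrac_congr e σ ?_ f
  intro r
  obtain ⟨r, rfl⟩ := Ideal.Quotient.mk_surjective r
  have h1 : algebraMap (A ⧸ RingHom.ker φ) K (Ideal.Quotient.mk _ r) = φ r := rfl
  have h2 : e (Ideal.Quotient.mk _ r) = Ideal.Quotient.mk _ (a r) := rfl
  have h3 : algebraMap (A' ⧸ RingHom.ker φ') K' (Ideal.Quotient.mk _ (a r)) = φ' (a r) := rfl
  rw [h1, h2, h3, hc]

end ring


section scheme

variable {X : Scheme.{u}} (U : X.Opens)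

/-- compatibility of `Cyc.specMap` with the inclusion of an open subscheme. -/
theorem specMap_ι (u ξ : ↥(U : Scheme.{u})) (h : ξ ⤳ u) (h' : U.ι ξ ⤳ U.ι u)
    (r : X.presheaf.stalk (U.ι u)) :
    Cyc.specMap u ξ h ((U.ι.stalkMap u).hom r) =
      (U.ι.residueFieldMap ξ).hom (Cyc.specMap (U.ι u) (U.ι ξ) h' r) := by
  unfold Cyc.specMap
  have e1 := Scheme.Hom.stalkSpecializes_stalkMap U.ι ξ u h
  have e2 := Scheme.residue_residueFieldMap U.ι ξ
  have : U.ι.stalkMap u ≫ (U : Scheme.{u}).presheaf.stalkSpecializes h ≫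
      (U : Scheme.{u}).residue ξ =
      X.presheaf.stalkSpecializes h' ≫ X.residue (U.ι ξ) ≫ U.ι.residueFieldMap ξ := by
    rw [← Category.assoc, ← e1, Category.assoc, ← e2]
  exact congrArg (fun φ => φ.hom r) this


/-- the order along a specialization can be computed in an open subscheme. -/
theorem ordAt_ι (u ξ : ↥(U : Scheme.{u})) (h : ξ ⤳ u) (h' : U.ι ξ ⤳ U.ι u)
    (f : X.residueField (U.ι ξ)) :
    Cyc.ordAt (U.ι u) (U.ι ξ) h' f = Cyc.ordAt u ξ h ((U.ι.residueFieldMap ξ).hom f) := by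
  let a : X.presheaf.stalk (U.ι u) ≃+* (U : Scheme.{u}).presheaf.stalk u :=
    (asIso (U.ι.stalkMap u)).commRingCatIsoToRingEquiv
  let σ : X.residueField (U.ι ξ) ≃+* (U : Scheme.{u}).residueField ξ :=
    (asIso (U.ι.residueFieldMap ξ)).commRingCatIsoToRingEquiv
  exact ordFrac_quot_ker_congr (Cyc.specMap (U.ι u) (U.ι ξ) h') (Cyc.specMap u ξ h) a σ
    (fun r => specMap_ι U u ξ h h' r) f

/-- principal divisors restrict to open subschemes. -/
theorem divFun_ι (δ : X → ℤ) (ξ u : ↥(U : Scheme.{u})) (f : X.residueField (U.ι ξ)) :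
    Cyc.divFun δ (U.ι ξ) f (U.ι u) =
      Cyc.divFun (fun u : ↥(U : Scheme.{u}) => δ (U.ι u)) ξ
        ((U.ι.residueFieldMap ξ).hom f) u := by
  unfold Cyc.divFun
  have hiff : U.ι ξ ⤳ U.ι u ↔ ξ ⤳ u := U.ι.isOpenEmbedding.isInducing.specializes_iff
  by_cases h : ξ ⤳ u ∧ δ (U.ι u) + 1 = δ (U.ι ξ)
  · rw [dif_pos h, dif_pos ⟨hiff.2 h.1, h.2⟩]
    exact ordAt_ι U u ξ h.1 (hiff.2 h.1) f
  · rw [dif_neg h, dif_neg (fun h' => h ⟨hiff.1 h'.1, h'.2⟩)]

end scheme

end Groth.Agent.Lib.Seat32.CycOpen
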