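import Mathlib
import Groth.Prelude.Def_Cyc
import Groth.Agent.Lib.Seat11AssStalk
import Groth.Agent.Lib.Helper4DimFormulaAD
import Groth.Agent.Lib.Helper3RelDim

/-!
# Flat pullback of the cycle of a coherent sheaf (helper32)

* `ptTrdeg_le_of_hasRelDim` : for `f` locally of finite type of relative dimension `r`,
  `trdeg κ(x)/κ(f x) ≤ r`.
* `delta_le` : with `DeltaCompat`, `δX x ≤ δY (f x) + r`.
* `length_stalk_pullback` : for `f` flat, the length of `(f^*F)_x` is
  `length F_{f x} * length (O_x / 𝔪_{f x} O_x)`.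
-/

set_option autoImplicit false
universe u
open CategoryTheory AlgebraicGeometry TensorProduct

namespace Groth.Agent.Lib.Seat32.PullSheaf

open Groth.Agent.Lib.Helper4.DimFormula Groth.Agent.Lib.Helper3.RelDim
open Groth.Agent.Lib.Seat11.AssStalk

attribute [local instance] Curv2.resAlgebra

variable {X Y : Scheme.{u}} (f : X ⟶ Y)

theorem ptTrdeg_le_of_hasRelDim [LocallyOfFiniteType f] (r : ℕ) (hr : Cyc.HasRelDim f r) (x : X) :
    ptTrdeg f x ≤ r := by
  have h1 := (hasRelDim_iff_forall_fibreDimAt_eq f r).mp hr x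
  have h2 := fibreDimAt_eq_stalk_add_ptTrdeg f x
  rw [h1] at h2
  have h3 : (0 : WithBot ℕ∞) ≤ ringKrullDim ((f.fiber (f.base x)).presheaf.stalk (f.asFiber x)) :=
    ringKrullDim_nonneg_of_nontrivial
  have h4 : ((ptTrdeg f x : ℕ) : WithBot ℕ∞) ≤ (r : WithBot ℕ∞) := by
    calc ((ptTrdeg f x : ℕ) : WithBot ℕ∞) = 0 + (ptTrdeg f x : WithBot ℕ∞) := by rw [zero_add]
      _ ≤ ringKrullDim ((f.fiber (f.base x)).presheaf.stalk (f.asFiber x)) +
          (ptTrdeg f x : WithBot ℕ∞) := add_le_add_left h3 _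
      _ = r := h2.symm
  exact_mod_cast h4

theorem delta_le [LocallyOfFiniteType f] (r : ℕ) (hr : Cyc.HasRelDim f r) (δX : X → ℤ) (δY : Y → ℤ)
    (hδ : Cyc.DeltaCompat f δX δY) (x : X) : δX x ≤ δY (f x) + r := by
  obtain ⟨n, hn, hx⟩ := hδ x
  have h1 := trdeg_eq_ptTrdeg f x
  have h2 : (n : Cardinal.{u}) = (ptTrdeg f x : Cardinal.{u}) := hn.symm.trans h1
  have h3 : n = ptTrdeg f x := by exact_mod_cast h2
  have h4 := ptTrdeg_le_of_hasRelDim f r hr x
  rw [hx]
  have : (n : ℤ) ≤ r := by exact_mod_cast (h3 ▸ h4)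
  linarith

theorem length_stalk_pullback [Flat f] (F : Y.Modules) (x : X) :
    Module.length (X.presheaf.stalk x) (((Scheme.Modules.pullback f).obj F).presheaf.stalk x) =
      Module.length (Y.presheaf.stalk (f x)) (F.presheaf.stalk (f x)) *
        Module.length (X.presheaf.stalk x)
          (X.presheaf.stalk x ⧸ Ideal.map (f.stalkMap x).hom
            (IsLocalRing.maximalIdeal (Y.presheaf.stalk (f x)))) := by
  letI : Algebra (Y.presheaf.stalk (f x)) (X.presheaf.stalk x) := (f.stalkMap x).hom.toAlgebra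
  haveI : Module.Flat (Y.presheaf.stalk (f x)) (X.presheaf.stalk x) := by
    have := Flat.stalkMap f x
    exact (RingHom.flat_algebraMap_iff).mp this
  haveI : IsLocalHom (algebraMap (Y.presheaf.stalk (f x)) (X.presheaf.stalk x)) :=
    inferInstanceAs (IsLocalHom (f.stalkMap x).hom)
  rw [(stalkPullbackEquiv f F x).length_eq]
  exact IsLocalRing.length_baseChange (Y.presheaf.stalk (f x)) (X.presheaf.stalk x)
    (F.presheaf.stalk (f x))

theorem nontrivial_of_nontrivial_stalk_pullback (F : Y.Modules) (x : X)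
    (h : Nontrivial (((Scheme.Modules.pullback f).obj F).presheaf.stalk x)) :
    Nontrivial (F.presheaf.stalk (f x)) := by
  letI : Algebra (Y.presheaf.stalk (f x)) (X.presheaf.stalk x) := (f.stalkMap x).hom.toAlgebra
  by_contra hn
  rw [not_nontrivial_iff_subsingleton] at hn
  haveI := hn
  have : Subsingleton (((Scheme.Modules.pullback f).obj F).presheaf.stalk x) :=
    (stalkPullbackEquiv f F x).toEquiv.subsingleton
  exact not_subsingleton _ this

end Groth.Agent.Lib.Seat32.PullSheaf
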