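import Groth.Prelude.Def_C1
import Groth.Prelude.Def_Pi1
import Groth.Agent.Lib.Seat62OrdTransport

/-!
# Comparison of `Cyc.ordAt` at the generic point with Mathlib's `Scheme.ord` (helper75)

* `ordAt_eq_ord`: on an integral locally Noetherian scheme, the order of the residue class of a
  rational function `k` along `η ⤳ x` (`Cyc.ordAt`) is `Scheme.ord k x`, for `x` of codimension one.
* `isDiscreteValuationRing_stalk`: local rings of a normal scheme at codimension one points.
* `exists_unit_of_ord_eq_zero`: on a normal scheme a rational function of order zero at a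
  codimension one point is (the image of) a unit of the local ring.
-/

set_option autoImplicit false
set_option linter.style.haveILetI false
set_option linter.unusedSectionVars false
universe u

open AlgebraicGeometry CategoryTheory TopologicalSpace Opposite

namespace Groth.Agent.Lib.Seat75.OrdCompare

variable {X : Scheme.{u}} [IsIntegral X] [IsLocallyNoetherian X]

lemma residue_generic_bijective :
    Function.Bijective (X.residue (genericPoint X)) := by
  have hmax : IsLocalRing.maximalIdeal (X.presheaf.stalk (genericPoint X)) = ⊥ :=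
    IsLocalRing.maximalIdeal_eq_bot
  constructor
  · rw [injective_iff_map_eq_zero]
    intro a ha
    have : a ∈ IsLocalRing.maximalIdeal (X.presheaf.stalk (genericPoint X)) := by
      rw [← IsLocalRing.residue_eq_zero_iff]
      exact ha
    rwa [hmax, Ideal.mem_bot] at this
  · exact IsLocalRing.residue_surjective

theorem ordAt_eq_ord (x : X) (h : genericPoint X ⤳ x) (hx : Order.coheight x = 1)
    (k : X.functionField) :
    Cyc.ordAt x (genericPoint X) h (X.residue (genericPoint X) k) = Scheme.ord k x := by
  set η := genericPoint X with hηdef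
  haveI : Ring.KrullDimLE 1 (X.presheaf.stalk x) := krullDimLE_of_coheight_le hx.le
  have hspec : ∀ r : X.presheaf.stalk x,
      Cyc.specMap x η h r = X.residue η (algebraMap (X.presheaf.stalk x) X.functionField r) :=
    fun r => rfl
  have hker : RingHom.ker (Cyc.specMap x η h) = ⊥ := by
    rw [eq_bot_iff]
    intro r hr
    rw [RingHom.mem_ker, hspec] at hr
    have h1 : algebraMap (X.presheaf.stalk x) X.functionField r = 0 :=
      residue_generic_bijective.1 (hr.trans (map_zero _).symm)
    rw [Ideal.mem_bot]
    exact (map_eq_zero_iff _ (IsFractionRing.injective (X.presheaf.stalk x) X.functionField)).1 h1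
  have hbij : Function.Bijective (Ideal.Quotient.mk (RingHom.ker (Cyc.specMap x η h))) := by
    refine ⟨?_, Ideal.Quotient.mk_surjective⟩
    rw [injective_iff_map_eq_zero]
    intro r hr
    rw [Ideal.Quotient.eq_zero_iff_mem, hker, Ideal.mem_bot] at hr
    exact hr
  let e : X.presheaf.stalk x ≃+* Cyc.LocQuot x η h := RingEquiv.ofBijective _ hbij
  have halg : ∀ r : X.presheaf.stalk x,
      algebraMap (Cyc.LocQuot x η h) (X.residueField η) (e r) =
        X.residue η (algebraMap (X.presheaf.stalk x) X.functionField r) := by
    intro r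
    rw [RingHom.algebraMap_toAlgebra]
    change Ideal.Quotient.lift _ _ _ (Ideal.Quotient.mk _ r) = _
    rw [Ideal.Quotient.lift_mk]
    rfl
  haveI : IsDomain (Cyc.LocQuot x η h) := e.symm.injective.isDomain e.symm.toRingHom
  haveI : IsNoetherianRing (Cyc.LocQuot x η h) := isNoetherianRing_of_ringEquiv _ e
  haveI : Ring.KrullDimLE 1 (Cyc.LocQuot x η h) := by
    rw [Ring.krullDimLE_iff, ← ringKrullDim_eq_of_ringEquiv e]
    exact Ring.krullDimLE_iff.1 inferInstance
  haveI : FaithfulSMul (Cyc.LocQuot x η h) (X.residueField η) := by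
    rw [faithfulSMul_iff_algebraMap_injective]
    intro a b hab
    obtain ⟨a, rfl⟩ := e.surjective a
    obtain ⟨b, rfl⟩ := e.surjective b
    rw [halg, halg] at hab
    have := IsFractionRing.injective (X.presheaf.stalk x) X.functionField
      (residue_generic_bijective.1 hab)
    rw [this]
  haveI : IsFractionRing (Cyc.LocQuot x η h) (X.residueField η) := by
    apply IsFractionRing.of_field
    intro z
    obtain ⟨k', rfl⟩ := residue_generic_bijective.2 z
    obtain ⟨a, b, hb, rfl⟩ := IsFractionRing.div_surjective (A := X.presheaf.stalk x) k'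
    refine ⟨e a, e b, ?_⟩
    rw [halg, halg, map_div₀]
  have key : Ring.ordFrac (Cyc.LocQuot x η h) (X.residue η k) =
      Ring.ordFrac (X.presheaf.stalk x) k :=
    Groth.Agent.Lib.Seat62.OrdTransport.ordFrac_ringEquiv e (X.residue η).hom
      (fun r => (halg r).symm) k
  unfold Cyc.ordAt CycAlg.ordFrac
  rw [dif_pos ⟨inferInstance, inferInstance, inferInstance, inferInstance⟩]
  rw [Scheme.ord_eq_ordHom_of_coheight_eq_one hx]
  have key' : Scheme.ordHom x hx k = Ring.ordFrac (X.presheaf.stalk x) k := rfl
  rw [key', ← key]
  generalize Ring.ordFrac (Cyc.LocQuot x η h) (X.residue η k) = w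
  cases w <;> rfl

/-- the local ring of a normal integral locally Noetherian scheme at a point of codimension one
is a discrete valuation ring. -/
theorem isDiscreteValuationRing_stalk (hX : Pi1.IsNormalScheme X) (x : X)
    (hx : Order.coheight x = 1) : IsDiscreteValuationRing (X.presheaf.stalk x) := by
  haveI : IsIntegrallyClosed (X.presheaf.stalk x) := (hX x).2
  haveI : Ring.KrullDimLE 1 (X.presheaf.stalk x) := krullDimLE_of_coheight_le hx.le
  have hdim : ringKrullDim (X.presheaf.stalk x) = 1 := by
    rw [ringKrullDim_stalk_eq_coheight, hx]; rfl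
  have hnf : ¬ IsField (X.presheaf.stalk x) := by
    intro hf
    have := ringKrullDim_eq_zero_of_isField hf
    rw [hdim] at this
    exact one_ne_zero this
  have h4 : IsIntegrallyClosed (X.presheaf.stalk x) ∧ ∀ P : Ideal (X.presheaf.stalk x), P ≠ ⊥ →
      P.IsPrime → P = IsLocalRing.maximalIdeal (X.presheaf.stalk x) := by
    refine ⟨inferInstance, fun P hP hPp => ?_⟩
    haveI : (⊥ : Ideal (X.presheaf.stalk x)).IsPrime := Ideal.isPrime_bot
    have := (Ring.krullDimLE_one_iff_of_isPrime_bot (R := X.presheaf.stalk x)).mp inferInstance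
      P hP hPp
    exact IsLocalRing.eq_maximalIdeal this
  haveI : IsPrincipalIdealRing (X.presheaf.stalk x) :=
    ((tfae_of_isNoetherianRing_of_isLocalRing_of_isDomain
      (R := X.presheaf.stalk x)).out 3 0).mp h4
  exact { not_a_field' := fun h0 => hnf (IsLocalRing.isField_iff_maximalIdeal_eq.mpr h0) }

/-- on a normal scheme, a rational function of order zero at a point of codimension one is the
image of a unit of the local ring. -/
theorem exists_unit_of_ord_eq_zero (hX : Pi1.IsNormalScheme X) (x : X)
    (hx : Order.coheight x = 1) (k : X.functionField) (hk : k ≠ 0) (h0 : Scheme.ord k x = 0) :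
    ∃ u : (X.presheaf.stalk x)ˣ, algebraMap (X.presheaf.stalk x) X.functionField u = k := by
  haveI := isDiscreteValuationRing_stalk hX x hx
  have h1 : Scheme.ordHom x hx k = Multiplicative.ofAdd (0 : ℤ) := (Scheme.ord_eq_iff hx hk).1 h0
  have h2 : Ring.ordFrac (X.presheaf.stalk x) k =
      Ring.ordFrac (X.presheaf.stalk x) (1 : X.functionField) := by
    rw [map_one]
    exact h1
  obtain ⟨u, hu⟩ := Ring.associated_of_ordFrac_eq k (1 : X.functionField) h2
  refine ⟨u⁻¹, ?_⟩
  have h3 : algebraMap (X.presheaf.stalk x) X.functionField u * k = 1 := by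
    rw [← hu, Units.smul_def, Algebra.smul_def]
  have h4 : algebraMap (X.presheaf.stalk x) X.functionField (u⁻¹ : (X.presheaf.stalk x)ˣ) *
      algebraMap (X.presheaf.stalk x) X.functionField u = 1 := by
    rw [← map_mul, ← Units.val_mul, inv_mul_cancel, Units.val_one, map_one]
  calc algebraMap (X.presheaf.stalk x) X.functionField (u⁻¹ : (X.presheaf.stalk x)ˣ)
      = algebraMap (X.presheaf.stalk x) X.functionField (u⁻¹ : (X.presheaf.stalk x)ˣ) *
        (algebraMap (X.presheaf.stalk x) X.functionField u * k) := by rw [h3, mul_one]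
    _ = k := by rw [← mul_assoc, h4, one_mul]

end Groth.Agent.Lib.Seat75.OrdCompare
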