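import Groth.Prelude.Def_C1
import Groth.Prelude.Def_Pic
import Groth.Prelude.Def_CohB1
import Groth.Agent.Lib.Helper23SecTw6

/-!
# Orders of rational sections of modules with a local generator (helper75)

* `ordFrac_mul`, `ordAt_mul`: additivity of the order function on nonzero elements.
* `ordAt_unit`: the order of the image of a unit of the local ring vanishes.
* `bijective_smul_germ_of_isGen`: a frame (`IsGen`) generates every stalk freely.
* `secOrdAt_eq`: `Cyc.secOrdAt` computed with respect to any free generator of the stalk.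
-/

set_option autoImplicit false
set_option linter.style.haveILetI false
universe u v

open AlgebraicGeometry CategoryTheory TopologicalSpace Opposite

namespace Groth.Agent.Lib.Seat75.SecOrd

open Groth.Agent.Lib.Helper23.SecTw Groth.Agent.Lib.Helper6

section OrdFrac

theorem ordFrac_mul (R : Type u) [CommRing R] (K : Type v) [Field K] [Algebra R K] {f g : K}
    (hf : f ≠ 0) (hg : g ≠ 0) :
    CycAlg.ordFrac R K (f * g) = CycAlg.ordFrac R K f + CycAlg.ordFrac R K g := by
  unfold CycAlg.ordFrac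
  split_ifs with h
  · haveI := h.1; haveI := h.2.1; haveI := h.2.2.1; haveI := h.2.2.2
    rw [map_mul]
    have hf' : Ring.ordFrac R f ≠ 0 := (map_ne_zero _).mpr hf
    have hg' : Ring.ordFrac R g ≠ 0 := (map_ne_zero _).mpr hg
    obtain ⟨a, ha⟩ := WithZero.ne_zero_iff_exists.mp hf'
    obtain ⟨b, hb⟩ := WithZero.ne_zero_iff_exists.mp hg'
    rw [← ha, ← hb, ← WithZero.coe_mul]
    simp only [WithZero.recZeroCoe_coe, toAdd_mul]
  · simp

end OrdFrac

variable {X : Scheme.{u}}

theorem ordAt_mul (x ξ : X) (h : ξ ⤳ x) {f g : X.residueField ξ} (hf : f ≠ 0) (hg : g ≠ 0) :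
    Cyc.ordAt x ξ h (f * g) = Cyc.ordAt x ξ h f + Cyc.ordAt x ξ h g :=
  ordFrac_mul _ _ hf hg

/-- the order of (the image of) a unit of the local ring vanishes. -/
theorem ordAt_unit (x ξ : X) (h : ξ ⤳ x) (c : X.presheaf.stalk x) (hc : IsUnit c) :
    Cyc.ordAt x ξ h (X.residue ξ (X.presheaf.stalkSpecializes h c)) = 0 := by
  have hres : X.residue ξ (X.presheaf.stalkSpecializes h c) =
      algebraMap (Cyc.LocQuot x ξ h) (X.residueField ξ)
        (Ideal.Quotient.mk (RingHom.ker (Cyc.specMap x ξ h)) c) := by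
    rw [RingHom.algebraMap_toAlgebra, Ideal.Quotient.lift_mk]
    rfl
  rw [hres]
  unfold Cyc.ordAt CycAlg.ordFrac
  split_ifs with hcond
  · haveI := hcond.1
    haveI := hcond.2.1
    haveI := hcond.2.2.1
    haveI := hcond.2.2.2
    haveI : IsDomain (Cyc.LocQuot x ξ h) :=
      (FaithfulSMul.algebraMap_injective (Cyc.LocQuot x ξ h) (X.residueField ξ)).isDomain
    have hu : IsUnit (Ideal.Quotient.mk (RingHom.ker (Cyc.specMap x ξ h)) c) := hc.map _
    rw [Ring.ordFrac_of_isUnit hu]
    rfl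
  · rfl

theorem germ_smul (F : X.Modules) (x : X) (V : X.Opens) (hx : x ∈ V) (r : Γ(X, V)) (m : Γ(F, V)) :
    F.presheaf.germ V x hx (r • m) = X.presheaf.germ V x hx r • F.presheaf.germ V x hx m :=
  PresheafOfModules.germ_smul (R := X.presheaf) F.val x V hx r m

/-- specialization maps of stalks of a module are semilinear. -/
theorem stalkSpecializes_smul (L : X.Modules) {x ξ : X} (h : ξ ⤳ x) (c : X.presheaf.stalk x)
    (m : L.presheaf.stalk x) :
    (L.presheaf.stalkSpecializes h) (c • m) =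
      (X.presheaf.stalkSpecializes h c) • (L.presheaf.stalkSpecializes h m) := by
  obtain ⟨W₁, hx₁, r, rfl⟩ := X.presheaf.exists_germ_eq c
  obtain ⟨W₂, hx₂, m₀, rfl⟩ := L.presheaf.exists_germ_eq m
  have hx : x ∈ W₁ ⊓ W₂ := ⟨hx₁, hx₂⟩
  have hξ : ξ ∈ W₁ ⊓ W₂ := h.mem_open (W₁ ⊓ W₂).isOpen hx
  rw [← TopCat.Presheaf.germ_res_apply X.presheaf (homOfLE (inf_le_left : W₁ ⊓ W₂ ≤ W₁)) x hx r,
    ← TopCat.Presheaf.germ_res_apply L.presheaf (homOfLE (inf_le_right : W₁ ⊓ W₂ ≤ W₂)) x hx m₀,
    ← germ_smul]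
  have e1 : ∀ z : Γ(L, W₁ ⊓ W₂), (L.presheaf.stalkSpecializes h) (L.presheaf.germ _ x hx z) =
      L.presheaf.germ _ ξ hξ z := fun z =>
    ConcreteCategory.congr_hom (TopCat.Presheaf.germ_stalkSpecializes L.presheaf hx h) z
  have e2 : ∀ z : Γ(X, W₁ ⊓ W₂), (X.presheaf.stalkSpecializes h) (X.presheaf.germ _ x hx z) =
      X.presheaf.germ _ ξ hξ z := fun z =>
    ConcreteCategory.congr_hom (TopCat.Presheaf.germ_stalkSpecializes X.presheaf hx h) z
  rw [e1, e1, e2, germ_smul]

/-- a frame generates every stalk freely. -/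
theorem bijective_smul_germ_of_isGen (L : X.Modules) {W : X.Opens} {e : Γ(L, W)} (he : IsGen L W e)
    (y : X) (hy : y ∈ W) :
    Function.Bijective (fun c : X.presheaf.stalk y => c • L.presheaf.germ W y hy e) := by
  constructor
  · have key : ∀ c : X.presheaf.stalk y, c • L.presheaf.germ W y hy e = 0 → c = 0 := by
      intro c hc
      obtain ⟨W₁, hy₁, r, rfl⟩ := X.presheaf.exists_germ_eq c
      have hyW : y ∈ W₁ ⊓ W := ⟨hy₁, hy⟩
      have h1 : L.presheaf.germ (W₁ ⊓ W) y hyW
          (resf (inf_le_left : W₁ ⊓ W ≤ W₁) r • res L (inf_le_right : W₁ ⊓ W ≤ W) e) = 0 := by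
        rw [germ_smul]
        rw [TopCat.Presheaf.germ_res_apply X.presheaf (homOfLE (inf_le_left : W₁ ⊓ W ≤ W₁)) y hyW r,
          TopCat.Presheaf.germ_res_apply L.presheaf (homOfLE (inf_le_right : W₁ ⊓ W ≤ W)) y hyW e]
        exact hc
      obtain ⟨W₂, hy₂, hW₂, hzero⟩ : ∃ (W₂ : X.Opens) (_ : y ∈ W₂) (hW₂ : W₂ ≤ W₁ ⊓ W),
          res L hW₂ (resf (inf_le_left : W₁ ⊓ W ≤ W₁) r • res L (inf_le_right : W₁ ⊓ W ≤ W) e) = 0 := by
        have h0 : L.presheaf.germ (W₁ ⊓ W) y hyW
            (resf (inf_le_left : W₁ ⊓ W ≤ W₁) r • res L (inf_le_right : W₁ ⊓ W ≤ W) e) =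
            L.presheaf.germ (W₁ ⊓ W) y hyW 0 := by rw [h1, map_zero]
        obtain ⟨W₂, hy₂, i₁, i₂, hres⟩ := TopCat.Presheaf.germ_eq L.presheaf y hyW hyW _ _ h0
        refine ⟨W₂, hy₂, i₁.le, ?_⟩
        have e1 : i₁ = i₂ := Subsingleton.elim _ _
        subst e1
        rw [map_zero] at hres
        exact hres
      rw [res_smul, res_res, resf_resf] at hzero
      have h2 := (he W₂ (hW₂.trans inf_le_right)).1
        (show (fun r' : Γ(X, W₂) => r' • res L (hW₂.trans inf_le_right) e)
            (resf (hW₂.trans inf_le_left) r) =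
          (fun r' : Γ(X, W₂) => r' • res L (hW₂.trans inf_le_right) e) 0 by
          simp only [zero_smul]; exact hzero)
      rw [← TopCat.Presheaf.germ_res_apply X.presheaf (homOfLE (hW₂.trans inf_le_left)) y hy₂ r]
      change X.presheaf.germ W₂ y hy₂ (resf (hW₂.trans inf_le_left) r) = 0
      rw [h2, map_zero]
    intro c c' hcc'
    rw [← sub_eq_zero]
    apply key
    rw [sub_smul, sub_eq_zero]
    exact hcc'
  · intro m
    obtain ⟨W₁, hy₁, m₀, rfl⟩ := L.presheaf.exists_germ_eq m
    have hyW : y ∈ W₁ ⊓ W := ⟨hy₁, hy⟩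
    obtain ⟨r, hr⟩ := (he (W₁ ⊓ W) inf_le_right).2 (res L inf_le_left m₀)
    refine ⟨X.presheaf.germ (W₁ ⊓ W) y hyW r, ?_⟩
    change X.presheaf.germ (W₁ ⊓ W) y hyW r • L.presheaf.germ W y hy e = _
    rw [← TopCat.Presheaf.germ_res_apply L.presheaf (homOfLE (inf_le_right : W₁ ⊓ W ≤ W)) y hyW e,
      ← germ_smul]
    have hr' : r • res L (inf_le_right : W₁ ⊓ W ≤ W) e = res L inf_le_left m₀ := hr
    change L.presheaf.germ (W₁ ⊓ W) y hyW (r • res L (inf_le_right : W₁ ⊓ W ≤ W) e) = _
    rw [hr']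
    exact TopCat.Presheaf.germ_res_apply L.presheaf (homOfLE (inf_le_left : W₁ ⊓ W ≤ W₁)) y hyW m₀

/-- `Cyc.secOrdAt` with respect to any free generator `tx` of the stalk at `x` whose
specialization freely generates the stalk at the generic point. -/
theorem secOrdAt_eq [IsIntegral X] (L : X.Modules) (x : X)
    (h : genericPoint X ⤳ x)
    (tx : L.presheaf.stalk x)
    (htx : Function.Bijective (fun c : X.presheaf.stalk x => c • tx))
    (htη : Function.Bijective (fun c : X.presheaf.stalk (genericPoint X) =>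
      c • (L.presheaf.stalkSpecializes h tx)))
    (s : Cyc.secFibre L (genericPoint X)) (φ₀ : X.presheaf.stalk (genericPoint X)) (hφ₀ : φ₀ ≠ 0)
    (hs : s = φ₀ • (Submodule.Quotient.mk (L.presheaf.stalkSpecializes h tx) :
      Cyc.secFibre L (genericPoint X))) :
    Cyc.secOrdAt L (genericPoint X) x h s =
      Cyc.ordAt x (genericPoint X) h (X.residue (genericPoint X) φ₀) := by
  have hmax : IsLocalRing.maximalIdeal (X.presheaf.stalk (genericPoint X)) = ⊥ :=
    IsLocalRing.maximalIdeal_eq_bot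
  have hresinj : Function.Injective (X.residue (genericPoint X)) := by
    rw [injective_iff_map_eq_zero]
    intro a ha
    have : a ∈ IsLocalRing.maximalIdeal (X.presheaf.stalk (genericPoint X)) := by
      rw [← IsLocalRing.residue_eq_zero_iff]
      exact ha
    rwa [hmax, Ideal.mem_bot] at this
  unfold Cyc.secOrdAt
  have ht : ∃ t : L.presheaf.stalk x, Submodule.span (X.presheaf.stalk x) {t} = ⊤ := by
    refine ⟨tx, ?_⟩
    rw [eq_top_iff]
    intro m _
    obtain ⟨c, hc⟩ := htx.2 m
    exact Submodule.mem_span_singleton.2 ⟨c, hc⟩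
  rw [dif_pos ht]
  have ht' := Classical.choose_spec ht
  set t' := Classical.choose ht with ht'def
  -- `t' = u • tx` with `u` a unit
  obtain ⟨u, hu⟩ := htx.2 t'
  have hmem : tx ∈ Submodule.span (X.presheaf.stalk x) {t'} := by rw [ht']; trivial
  obtain ⟨v, hv⟩ := Submodule.mem_span_singleton.1 hmem
  have hvu : v * u = 1 := by
    apply htx.1
    change (v * u) • tx = (1 : X.presheaf.stalk x) • tx
    rw [mul_smul, one_smul]
    change v • (u • tx) = tx
    rw [show u • tx = t' from hu, hv]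
  have huu : IsUnit u := IsUnit.of_mul_eq_one_right v hvu
  have hvv : IsUnit v := IsUnit.of_mul_eq_one u hvu
  have hsp : L.presheaf.stalkSpecializes h t' =
      X.presheaf.stalkSpecializes h u • L.presheaf.stalkSpecializes h tx := by
    rw [← show u • tx = t' from hu, stalkSpecializes_smul]
  set tη := L.presheaf.stalkSpecializes h tx with htηdef
  have hφ : ∃ φ : X.presheaf.stalk (genericPoint X),
      s = φ • (Submodule.Quotient.mk ((L.presheaf.stalkSpecializes h) t') :
        Cyc.secFibre L (genericPoint X)) := by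
    refine ⟨φ₀ * X.presheaf.stalkSpecializes h v, ?_⟩
    rw [hs, hsp, Submodule.Quotient.mk_smul, ← mul_smul, mul_assoc, ← map_mul, hvu, map_one, mul_one]
  rw [dif_pos hφ]
  have hφ' := Classical.choose_spec hφ
  set φ := Classical.choose hφ with hφdef
  have hkey : φ * X.presheaf.stalkSpecializes h u = φ₀ := by
    apply htη.1
    change (φ * X.presheaf.stalkSpecializes h u) • tη = φ₀ • tη
    have h1 : (Submodule.Quotient.mk ((φ * X.presheaf.stalkSpecializes h u) • tη) :
        Cyc.secFibre L (genericPoint X)) = Submodule.Quotient.mk (φ₀ • tη) := by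
      rw [Submodule.Quotient.mk_smul, Submodule.Quotient.mk_smul, ← hs, hφ', hsp, mul_smul,
        Submodule.Quotient.mk_smul]
    rw [Submodule.Quotient.eq, hmax, Submodule.bot_smul, Submodule.mem_bot, sub_eq_zero] at h1
    exact h1
  have hφeq : φ = φ₀ * X.presheaf.stalkSpecializes h v := by
    calc φ = φ * X.presheaf.stalkSpecializes h (u * v) := by
          rw [mul_comm u v, hvu, map_one, mul_one]
      _ = (φ * X.presheaf.stalkSpecializes h u) * X.presheaf.stalkSpecializes h v := by
          rw [map_mul, mul_assoc]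
      _ = φ₀ * X.presheaf.stalkSpecializes h v := by rw [hkey]
  rw [hφeq, map_mul]
  have hvne : X.residue (genericPoint X) (X.presheaf.stalkSpecializes h v) ≠ 0 := by
    intro h0
    have hvunit : IsUnit (X.presheaf.stalkSpecializes h v) := hvv.map _
    have := hresinj (h0.trans (map_zero _).symm)
    exact hvunit.ne_zero this
  have hφne : X.residue (genericPoint X) φ₀ ≠ 0 := fun h0 =>
    hφ₀ (hresinj (h0.trans (map_zero _).symm))
  rw [ordAt_mul x _ h hφne hvne, ordAt_unit x _ h v hvv, add_zero]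

end Groth.Agent.Lib.Seat75.SecOrd
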