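import Mathlib
import Groth.Prelude.Def_C1
import Groth.Agent.Lib.Seat75OrdCompare
import Groth.Agent.Lib.Seat75SecOrd
import Groth.Agent.Lib.Seat28C1Inv

/-!
# `div_L(s) = [Z(s)]` for a global section of an invertible module on an integral scheme (helper32)

* `coheight_eq_one_of_delta`: with a dimension function `δ` on an integral scheme, `δ x + 1 = δ η`
  forces `coheight x = 1`.
* `secDivFun_eq_zeroSectionFun`: S1923.
Uses helper75's `ordAt_eq_ord`, `secOrdAt_eq` and helper28's `Seat28C1Inv`.
-/

set_option autoImplicit false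
universe u
open AlgebraicGeometry CategoryTheory TopologicalSpace Opposite

namespace Groth.Agent.Lib.Seat32.ZeroSec

variable {X : Scheme.{u}}

/-- In an integral scheme with a dimension function, a point `x` with `δ x + 1 = δ η` has
coheight one. -/
theorem coheight_eq_one_of_delta [IsIntegral X] {δ : X → ℤ} (hδ : Cyc.IsDimFun X δ) (x : X)
    (h : δ x + 1 = δ (genericPoint X)) : Order.coheight x = 1 := by
  have hlt : ∀ a b : X, a < b → δ a < δ b := by
    intro a b hab
    have h1 : b ⤳ a := hab.le
    have h2 : b ≠ a := fun e => (lt_irrefl _ (e ▸ hab))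
    exact (hδ b a h1 h2).1
  have hle : ∀ a : X, δ a ≤ δ (genericPoint X) := by
    intro a
    by_cases e : genericPoint X = a
    · rw [e]
    · exact ((hδ _ a (genericPoint_specializes a) e).1).le
  apply le_antisymm
  · rw [Order.coheight_le_iff']
    intro p hp
    by_contra hlen
    push Not at hlen
    have h2 : 2 ≤ p.length := by
      have : (1 : ℕ∞) < p.length := hlen
      exact_mod_cast Order.add_one_le_of_lt this
    have e0 : p ⟨0, by omega⟩ = x := hp
    have l1 : p ⟨0, by omega⟩ < p ⟨1, by omega⟩ := p.strictMono (by simp [Fin.lt_def])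
    have l2 : p ⟨1, by omega⟩ < p ⟨2, by omega⟩ := p.strictMono (by simp [Fin.lt_def])
    have d1 := hlt _ _ l1
    have d2 := hlt _ _ l2
    have d3 := hle (p ⟨2, by omega⟩)
    rw [e0] at d1
    omega
  · have hne : x ≠ genericPoint X := by
      intro e
      rw [← e] at h
      omega
    rw [Order.one_le_iff_ne_zero, Order.coheight_ne_zero]
    intro hmax
    have h1 : x ≤ genericPoint X := genericPoint_specializes x
    have h2 : x ⤳ genericPoint X := hmax h1
    exact hne (h2.antisymm (genericPoint_specializes x)).eq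


open Groth.Agent.Lib.Seat28.C1Inv in
/-- `div_L(s) = [Z(s)]_{n-1}` on an integral scheme, for a global section `s` of an invertible
module with nonzero germ at the generic point. -/
theorem secDivFun_eq_zeroSectionFun (X : Scheme.{u}) [IsIntegral X] (δ : X → ℤ)
    (hX : Cyc.IsSetup X δ) (n : ℤ) (hn : δ (genericPoint X) = n) (L : X.Modules)
    (hL : PicF.IsInvertible L) (s : L.presheaf.obj (Opposite.op ⊤))
    (hs : (L.presheaf.germ ⊤ (genericPoint X) trivial) s ≠ 0) :
    Cyc.secDivFun δ L (genericPoint X)
        (Submodule.Quotient.mk ((L.presheaf.germ ⊤ (genericPoint X) trivial) s)) =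
      Cyc.zeroSectionFun δ (n - 1) L s := by
  classical
  have : IsLocallyNoetherian X := hX.1
  funext x
  unfold Cyc.secDivFun Cyc.zeroSectionFun
  by_cases hx : δ x + 1 = δ (genericPoint X)
  · have hxk : δ x = n - 1 := by omega
    have hsp : genericPoint X ⤳ x := genericPoint_specializes x
    rw [dif_pos ⟨hsp, hx⟩, if_pos hxk]
    have ht := exists_span_eq_top hL x
    rw [dif_pos ht]
    have htspan := Classical.choose_spec ht
    set t := Classical.choose ht with htdef
    have hf : ∃ f : X.presheaf.stalk x, (L.presheaf.germ ⊤ x trivial) s = f • t := by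
      have hmem : (L.presheaf.germ ⊤ x trivial) s ∈ Submodule.span (X.presheaf.stalk x) {t} := by
        rw [htspan]; trivial
      obtain ⟨f, hf⟩ := Submodule.mem_span_singleton.1 hmem
      exact ⟨f, hf.symm⟩
    rw [dif_pos hf]
    have hfs := Classical.choose_spec hf
    set f := Classical.choose hf with hfdef
    -- bijectivity
    have htx : Function.Bijective (fun c : X.presheaf.stalk x => c • t) := by
      have h1 := bijective_smul_stalkSpecializes hL (specializes_rfl : x ⤳ x) t htspan
      have h2 : L.presheaf.stalkSpecializes (specializes_rfl : x ⤳ x) t = t := by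
        rw [TopCat.Presheaf.stalkSpecializes_refl]; rfl
      rwa [h2] at h1
    have htη := bijective_smul_stalkSpecializes hL hsp t htspan
    set φ₀ := X.presheaf.stalkSpecializes hsp f with hφ₀def
    have e1 : L.presheaf.stalkSpecializes hsp ((L.presheaf.germ ⊤ x trivial) s) =
        (L.presheaf.germ ⊤ (genericPoint X) trivial) s :=
      ConcreteCategory.congr_hom
        (TopCat.Presheaf.germ_stalkSpecializes L.presheaf (U := ⊤) trivial hsp) s
    have hs' : (L.presheaf.germ ⊤ (genericPoint X) trivial) s =
        φ₀ • L.presheaf.stalkSpecializes hsp t := by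
      rw [← e1, hfs, stalkSpecializes_smul]
    have hφ₀ : φ₀ ≠ 0 := by
      intro h0
      apply hs
      rw [hs', h0, zero_smul]
    rw [Groth.Agent.Lib.Seat75.SecOrd.secOrdAt_eq L x hsp t htx htη _ φ₀ hφ₀ (by rw [hs']; rfl)]
    have hco := coheight_eq_one_of_delta hX.2.2 x hx
    have hφalg : φ₀ = algebraMap (X.presheaf.stalk x) X.functionField f := rfl
    rw [hφalg, Groth.Agent.Lib.Seat75.OrdCompare.ordAt_eq_ord x hsp hco]
    have hf0 : f ≠ 0 := by
      intro h0
      apply hφ₀
      rw [hφalg, h0, map_zero]
    have hk0 : algebraMap (X.presheaf.stalk x) X.functionField f ≠ 0 := hφalg ▸ hφ₀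
    have : Ring.KrullDimLE 1 (X.presheaf.stalk x) := krullDimLE_of_coheight_le hco.le
    have hmem : f ∈ nonZeroDivisors (X.presheaf.stalk x) := mem_nonZeroDivisors_of_ne_zero hf0
    rw [Scheme.ord_eq_iff hco hk0]
    change Ring.ordFrac (X.presheaf.stalk x) _ = _
    rw [Ring.ordFrac_eq_ord _ hf0]
    refine Ring.ordMonoidWithZeroHom_eq_coe _ hmem ?_
    exact (ENat.natCast_toNat (Ring.ord_ne_top hmem)).symm
  · rw [dif_neg (fun h => hx h.2), if_neg (by omega)]

end Groth.Agent.Lib.Seat32.ZeroSec
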