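import Mathlib
import Groth.Prelude.Def_Cyc
import Groth.Agent.Lib.Seat32PullSheaf
import Groth.Agent.Lib.Seat32GenPrime
import Groth.Agent.Lib.Seat32ZeroSec
import Groth.Agent.Lib.Seat62OrdTransport
import Groth.Agent.Lib.Seat28OrdFrac

/-!
# Flat pullback of a principal divisor (helper32)

For `f : X ⟶ Y` flat, locally of finite type, of relative dimension `r` between integral schemes,
`f^* div(g) = div(f^♯ g)` coefficientwise (S1905).
-/

set_option autoImplicit false
set_option linter.style.haveILetI false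
universe u
open CategoryTheory AlgebraicGeometry TensorProduct IsLocalRing

namespace Groth.Agent.Lib.Seat32.PullDiv

open Groth.Agent.Lib.Helper4.DimFormula Groth.Agent.Lib.Helper3.RelDim
open Groth.Agent.Lib.Seat32.GenPrime Groth.Agent.Lib.Seat32.PullSheaf
open Groth.Agent.Lib.Seat28.OrdFrac

section alg

/-- the length of `B/(φ a)` along a flat local homomorphism. -/
theorem length_quot_span_map {A B : Type u} [CommRing A] [CommRing B] [IsLocalRing A]
    [IsLocalRing B] (φ : A →+* B) [IsLocalHom φ] (hφ : φ.Flat) (a : A) :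
    Module.length B (B ⧸ Ideal.span {φ a}) =
      Module.length A (A ⧸ Ideal.span {a}) *
        Module.length B (B ⧸ Ideal.map φ (maximalIdeal A)) := by
  letI : Algebra A B := φ.toAlgebra
  haveI : Module.Flat A B := hφ
  haveI : IsLocalHom (algebraMap A B) := ‹IsLocalHom φ›
  have h1 := IsLocalRing.length_baseChange A B (A ⧸ Ideal.span {a})
  have h2 : Module.length B (B ⊗[A] (A ⧸ Ideal.span {a})) =
      Module.length B (B ⧸ (Ideal.span {a}).map (algebraMap A B)) :=
    ((Algebra.TensorProduct.quotIdealMapEquivTensorQuot B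
      (Ideal.span {a})).toLinearEquiv.length_eq).symm
  rw [h2, Ideal.map_span, Set.image_singleton] at h1
  exact h1

end alg

variable {X Y : Scheme.{u}}

/-- naturality of `Cyc.specMap` along a morphism. -/
theorem specMap_stalkMap (f : X ⟶ Y) (x ξ : X) (h : ξ ⤳ x) (a : Y.presheaf.stalk (f x)) :
    (f.residueFieldMap ξ).hom (Cyc.specMap (f x) (f ξ) (f.base.hom.map_specializes h) a) =
      Cyc.specMap x ξ h ((f.stalkMap x).hom a) := by
  have h1 := Scheme.Hom.stalkSpecializes_stalkMap_apply f ξ x h a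
  have h2 := ConcreteCategory.congr_hom (Scheme.residue_residueFieldMap f ξ)
    (Y.presheaf.stalkSpecializes (f.base.hom.map_specializes h) a)
  simp only [Cyc.specMap]
  change (f.residueFieldMap ξ).hom ((Y.residue (f ξ)).hom
    ((Y.presheaf.stalkSpecializes (f.base.hom.map_specializes h)).hom a)) =
    (X.residue ξ).hom ((X.presheaf.stalkSpecializes h).hom ((f.stalkMap x).hom a))
  rw [← h1]
  exact h2

/-- the kernel of `O_{X,x} → κ(η)` vanishes for `η` the generic point of an integral scheme. -/
theorem ker_specMap_generic [IsIntegral X] (x ξ : X) (hξ : ξ = genericPoint X) (h : ξ ⤳ x) :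
    RingHom.ker (Cyc.specMap x ξ h) = ⊥ := by
  subst hξ
  rw [eq_bot_iff]
  intro r hr
  rw [RingHom.mem_ker] at hr
  have hspec : Cyc.specMap x (genericPoint X) h r =
      X.residue (genericPoint X) (algebraMap (X.presheaf.stalk x) X.functionField r) := rfl
  rw [hspec] at hr
  have hmax : IsLocalRing.maximalIdeal (X.presheaf.stalk (genericPoint X)) = ⊥ :=
    IsLocalRing.maximalIdeal_eq_bot
  have h1 : algebraMap (X.presheaf.stalk x) X.functionField r = 0 := by
    have : algebraMap (X.presheaf.stalk x) X.functionField r ∈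
        IsLocalRing.maximalIdeal (X.presheaf.stalk (genericPoint X)) := by
      rw [← IsLocalRing.residue_eq_zero_iff]
      exact hr
    rwa [hmax, Ideal.mem_bot] at this
  rw [Ideal.mem_bot]
  exact (map_eq_zero_iff _ (IsFractionRing.injective (X.presheaf.stalk x) X.functionField)).1 h1

/-- at a generic point `ξ`: `specMap x ξ a ≠ 0` for `a ≠ 0`. -/
theorem specMap_ne_zero [IsIntegral X] (x ξ : X) (hξ : ξ = genericPoint X) (h : ξ ⤳ x)
    (a : X.presheaf.stalk x) (ha : a ≠ 0) : Cyc.specMap x ξ h a ≠ 0 := by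
  intro h0
  apply ha
  have : a ∈ RingHom.ker (Cyc.specMap x ξ h) := RingHom.mem_ker.2 h0
  rwa [ker_specMap_generic x ξ hξ h, Ideal.mem_bot] at this

/-- the order along `η ⤳ x` of the image of `a ∈ O_{X,x}`, `a ≠ 0`, as a length over `O_{X,x}`. -/
theorem ordAt_specMap_generic [IsIntegral X] [IsLocallyNoetherian X] (x ξ : X)
    (hξ : ξ = genericPoint X) (h : ξ ⤳ x) [Ring.KrullDimLE 1 (X.presheaf.stalk x)]
    (a : X.presheaf.stalk x) (ha : a ≠ 0) :
    Cyc.ordAt x ξ h (Cyc.specMap x ξ h a) =
      ((Module.length (X.presheaf.stalk x) (X.presheaf.stalk x ⧸ Ideal.span {a})).toNat : ℤ) := by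
  rw [ordAt_specMap_eq x ξ h a (specMap_ne_zero x ξ hξ h a ha)]
  have hker := ker_specMap_generic x ξ hξ h
  let e : X.presheaf.stalk x ≃+* Cyc.LocQuot x ξ h :=
    (RingEquiv.quotientBot (X.presheaf.stalk x)).symm.trans
      (Ideal.quotEquivOfEq hker.symm)
  have he : e a = Ideal.Quotient.mk _ a := rfl
  have := Groth.Agent.Lib.Seat62.OrdTransport.ord_ringEquiv e a
  rw [he] at this
  rw [this]
  rfl

/-- every element of `κ(ξ)` is a quotient of images of elements of `O_{X,x}`. -/
theorem exists_eq_div_specMap (x ξ : X) (h : ξ ⤳ x) (g : X.residueField ξ) :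
    ∃ a b : X.presheaf.stalk x, Cyc.specMap x ξ h b ≠ 0 ∧
      g = Cyc.specMap x ξ h a / Cyc.specMap x ξ h b := by
  haveI : (RingHom.ker (Cyc.specMap x ξ h)).IsPrime := RingHom.ker_isPrime _
  haveI := isFractionRing_locQuot x ξ h
  obtain ⟨a, b, hb, rfl⟩ := IsFractionRing.div_surjective (A := Cyc.LocQuot x ξ h) g
  obtain ⟨a, rfl⟩ := Ideal.Quotient.mk_surjective a
  obtain ⟨b, rfl⟩ := Ideal.Quotient.mk_surjective b
  refine ⟨a, b, ?_, rfl⟩
  rw [← algebraMap_locQuot_mk]
  exact (map_ne_zero_iff _ (algebraMap_locQuot_injective x ξ h)).2 (nonZeroDivisors.ne_zero hb)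

/-- `Cyc.ordAt` of a quotient. -/
theorem ordAt_div (x ξ : X) (h : ξ ⤳ x) (p q : X.residueField ξ) (hp : p ≠ 0) (hq : q ≠ 0) :
    Cyc.ordAt x ξ h (p / q) = Cyc.ordAt x ξ h p - Cyc.ordAt x ξ h q := by
  unfold Cyc.ordAt
  rw [div_eq_mul_inv, ordFrac_mul hp (inv_ne_zero hq), ordFrac_inv]
  ring


theorem length_quot_span_unit {B : Type u} [CommRing B] (b : B) (hb : IsUnit b) :
    Module.length B (B ⧸ Ideal.span {b}) = 0 := by
  rw [Ideal.span_singleton_eq_top.2 hb]
  haveI : Subsingleton (B ⧸ (⊤ : Ideal B)) := Ideal.Quotient.subsingleton_iff.2 rfl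
  exact Module.length_eq_zero

/-- a flat morphism of integral schemes maps the generic point to the generic point. -/
theorem map_genericPoint [IsIntegral X] [IsIntegral Y] (f : X ⟶ Y) [Flat f] :
    f (genericPoint X) = genericPoint Y := by
  have hgen : GeneralizingMap f := Flat.generalizingMap f
  obtain ⟨x', hx', hfx'⟩ := hgen (genericPoint_specializes (f (genericPoint X)))
  have : x' = genericPoint X :=
    (hx'.antisymm (genericPoint_specializes x')).eq
  rw [← hfx', this]

attribute [local instance] Curv2.resAlgebra in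
theorem delta_eq_add_ptTrdeg (f : X ⟶ Y) [LocallyOfFiniteType f] (δX : X → ℤ) (δY : Y → ℤ)
    (hδ : Cyc.DeltaCompat f δX δY) (x : X) : δX x = δY (f x) + (ptTrdeg f x : ℤ) := by
  obtain ⟨n, hn, hx⟩ := hδ x
  have h1 := trdeg_eq_ptTrdeg f x
  have h2 : (n : Cardinal.{u}) = (ptTrdeg f x : Cardinal.{u}) := hn.symm.trans h1
  have h3 : n = ptTrdeg f x := by exact_mod_cast h2
  rw [hx, h3]

attribute [local instance] Curv2.resAlgebra in
/-- the dimension function at the generic point. -/
theorem delta_generic [IsIntegral X] (f : X ⟶ Y) [LocallyOfFiniteType f] (r : ℕ)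
    (hr : Cyc.HasRelDim f r) (δX : X → ℤ) (δY : Y → ℤ) (hδ : Cyc.DeltaCompat f δX δY) :
    δX (genericPoint X) = δY (f (genericPoint X)) + r := by
  have h0 := delta_eq_add_ptTrdeg f δX δY hδ (genericPoint X)
  have h1 := (hasRelDim_iff_forall_fibreDimAt_eq f r).mp hr (genericPoint X)
  have h2 := fibreDimAt_eq_ptTrdeg_of_maximal f (genericPoint X) (fun y _ hy =>
    (hy.antisymm (genericPoint_specializes y)).eq)
  rw [h1] at h2
  have h3 : r = ptTrdeg f (genericPoint X) := by exact_mod_cast h2
  rw [h0, ← h3]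

theorem divFun_pos (δ : X → ℤ) (ξ x : X) (g : X.residueField ξ) (h : ξ ⤳ x)
    (h' : δ x + 1 = δ ξ) : Cyc.divFun δ ξ g x = Cyc.ordAt x ξ h g := by
  unfold Cyc.divFun
  exact dif_pos ⟨h, h'⟩

theorem divFun_neg (δ : X → ℤ) (ξ x : X) (g : X.residueField ξ)
    (h' : ¬ δ x + 1 = δ ξ) : Cyc.divFun δ ξ g x = 0 := by
  unfold Cyc.divFun
  exact dif_neg (fun h => h' h.2)

/-- **S1905**: flat pullback of a principal divisor. -/
theorem pullFun_divFun [IsIntegral X] [IsIntegral Y] (δX : X → ℤ) (δY : Y → ℤ)
    (hX : Cyc.IsSetup X δX) (hY : Cyc.IsSetup Y δY) (f : X ⟶ Y) [Flat f] [LocallyOfFiniteType f]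
    (r : ℕ) (hr : Cyc.HasRelDim f r) (hδ : Cyc.DeltaCompat f δX δY)
    (g : Y.residueField (f (genericPoint X))) (hg : g ≠ 0) :
    Cyc.pullFun f δX δY r (Cyc.divFun δY (f (genericPoint X)) g) =
      Cyc.divFun δX (genericPoint X) (f.residueFieldMap (genericPoint X) g) := by
  classical
  haveI : IsLocallyNoetherian X := hX.1
  haveI : IsLocallyNoetherian Y := hY.1
  funext x
  have hηx : genericPoint X ⤳ x := genericPoint_specializes x
  have hfη : f (genericPoint X) = genericPoint Y := map_genericPoint f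
  have hfηy : f (genericPoint X) ⤳ f x := f.base.hom.map_specializes hηx
  have hδη := delta_generic f r hr δX δY hδ
  have hle := delta_le f r hr δX δY hδ x
  obtain ⟨a, b, hb, hgab⟩ := exists_eq_div_specMap (f x) (f (genericPoint X)) hfηy g
  have ha : Cyc.specMap (f x) (f (genericPoint X)) hfηy a ≠ 0 := by
    intro h0
    apply hg
    rw [hgab, h0, zero_div]
  have ha0 : a ≠ 0 := fun h => ha (by rw [h, map_zero])
  have hb0 : b ≠ 0 := fun h => hb (by rw [h, map_zero])
  have hsa := specMap_stalkMap f x (genericPoint X) hηx a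
  have hsb := specMap_stalkMap f x (genericPoint X) hηx b
  have hφa' : Cyc.specMap x (genericPoint X) hηx ((f.stalkMap x).hom a) ≠ 0 := by
    rw [← hsa]
    exact (map_ne_zero_iff _ (f.residueFieldMap (genericPoint X)).hom.injective).2 ha
  have hφb' : Cyc.specMap x (genericPoint X) hηx ((f.stalkMap x).hom b) ≠ 0 := by
    rw [← hsb]
    exact (map_ne_zero_iff _ (f.residueFieldMap (genericPoint X)).hom.injective).2 hb
  have hφa : (f.stalkMap x).hom a ≠ 0 := fun h => hφa' (by rw [h, map_zero])
  have hφb : (f.stalkMap x).hom b ≠ 0 := fun h => hφb' (by rw [h, map_zero])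
  have hRg : (f.residueFieldMap (genericPoint X)).hom g =
      Cyc.specMap x (genericPoint X) hηx ((f.stalkMap x).hom a) /
        Cyc.specMap x (genericPoint X) hηx ((f.stalkMap x).hom b) := by
    rw [hgab, map_div₀, hsa, hsb]
  change (if δX x = δY (f x) + (r : ℤ) then
      Cyc.divFun δY (f (genericPoint X)) g (f x) *
        ((Module.length (X.presheaf.stalk x)
          (X.presheaf.stalk x ⧸ Ideal.map (f.stalkMap x).hom
            (IsLocalRing.maximalIdeal (Y.presheaf.stalk (f x))))).toNat : ℤ) else 0) =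
    Cyc.divFun δX (genericPoint X) ((f.residueFieldMap (genericPoint X)).hom g) x
  by_cases h1 : δX x + 1 = δX (genericPoint X)
  · rw [divFun_pos δX (genericPoint X) x _ hηx h1]
    have hcox := Groth.Agent.Lib.Seat32.ZeroSec.coheight_eq_one_of_delta hX.2.2 x h1
    haveI : Ring.KrullDimLE 1 (X.presheaf.stalk x) := krullDimLE_of_coheight_le hcox.le
    have hR : Cyc.ordAt x (genericPoint X) hηx ((f.residueFieldMap (genericPoint X)).hom g) =
        ((Module.length (X.presheaf.stalk x)
          (X.presheaf.stalk x ⧸ Ideal.span {(f.stalkMap x).hom a})).toNat : ℤ) -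
        ((Module.length (X.presheaf.stalk x)
          (X.presheaf.stalk x ⧸ Ideal.span {(f.stalkMap x).hom b})).toNat : ℤ) := by
      rw [hRg, ordAt_div _ _ _ _ _ hφa' hφb',
        ordAt_specMap_generic x (genericPoint X) rfl hηx _ hφa,
        ordAt_specMap_generic x (genericPoint X) rfl hηx _ hφb]
    by_cases h2 : δX x = δY (f x) + (r : ℤ)
    · have h3 : δY (f x) + 1 = δY (f (genericPoint X)) := by omega
      rw [if_pos h2, divFun_pos δY (f (genericPoint X)) (f x) g hfηy h3]
      have hcoy : Order.coheight (f x) = 1 :=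
        Groth.Agent.Lib.Seat32.ZeroSec.coheight_eq_one_of_delta hY.2.2 (f x)
          (by rw [← hfη]; exact h3)
      haveI : Ring.KrullDimLE 1 (Y.presheaf.stalk (f x)) := krullDimLE_of_coheight_le hcoy.le
      have hL : Cyc.ordAt (f x) (f (genericPoint X)) hfηy g =
          ((Module.length (Y.presheaf.stalk (f x))
            (Y.presheaf.stalk (f x) ⧸ Ideal.span {a})).toNat : ℤ) -
          ((Module.length (Y.presheaf.stalk (f x))
            (Y.presheaf.stalk (f x) ⧸ Ideal.span {b})).toNat : ℤ) := by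
        rw [hgab, ordAt_div _ _ _ _ _ ha hb,
          ordAt_specMap_generic (f x) (f (genericPoint X)) hfη hfηy a ha0,
          ordAt_specMap_generic (f x) (f (genericPoint X)) hfη hfηy b hb0]
      rw [hL, hR, length_quot_span_map (f.stalkMap x).hom (Flat.stalkMap f x) a,
        length_quot_span_map (f.stalkMap x).hom (Flat.stalkMap f x) b, ENat.toNat_mul,
        ENat.toNat_mul]
      push_cast
      ring
    · rw [if_neg h2]
      have hyη : f x = f (genericPoint X) := by
        by_contra hne
        have := (hY.2.2 (f (genericPoint X)) (f x) hfηy (Ne.symm hne)).1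
        omega
      have hfield : IsField (Y.presheaf.stalk (f x)) := by
        rw [hyη, hfη]
        exact Field.toIsField (Y.functionField)
      letI := hfield.toField
      have hua : IsUnit a := isUnit_iff_ne_zero.2 ha0
      have hub : IsUnit b := isUnit_iff_ne_zero.2 hb0
      rw [hR, length_quot_span_unit _ (hua.map (f.stalkMap x).hom),
        length_quot_span_unit _ (hub.map (f.stalkMap x).hom)]
      simp
  · rw [divFun_neg δX (genericPoint X) x _ h1]
    by_cases h2 : δX x = δY (f x) + (r : ℤ)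
    · rw [if_pos h2, divFun_neg δY (f (genericPoint X)) (f x) g (by omega), zero_mul]
    · rw [if_neg h2]

end Groth.Agent.Lib.Seat32.PullDiv
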