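import Mathlib
import Groth.Prelude.Def_Cyc
import Groth.Agent.Lib.Seat32CycOpen
import Groth.Agent.Lib.Seat32CycFin
import Groth.Agent.Lib.Seat32PullDiv
import Groth.Agent.Lib.Seat28OrdFrac

/-!
# Mayer–Vietoris for Chow groups, exactness in the middle (helper32, S1918)

Cycles and principal divisors along closed immersions.
-/

set_option autoImplicit false
set_option linter.style.haveILetI false
universe u v
open AlgebraicGeometry CategoryTheory TopologicalSpace Opposite Topology CategoryTheory.Limits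

namespace Groth.Agent.Lib.Seat32.MV

open Groth.Agent.Lib.Seat32.CycOpen Groth.Agent.Lib.Seat32.CycFin
open Groth.Agent.Lib.Seat32.PullDiv Groth.Agent.Lib.Seat28.OrdFrac

section ring

/-- `CycAlg.ordFrac` of a quotient by a kernel, transported along a surjection of rings and a
compatible isomorphism of fields. -/
theorem ordFrac_quot_ker_congr_surj {A A' : Type u} [CommRing A] [CommRing A'] {K K' : Type v}
    [Field K] [Field K'] (φ : A →+* K) (φ' : A' →+* K') (a : A →+* A')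
    (ha : Function.Surjective a) (σ : K ≃+* K')
    (hc : ∀ r, φ' (a r) = σ (φ r)) (f : K) :
    letI : Algebra (A ⧸ RingHom.ker φ) K :=
      (Ideal.Quotient.lift (RingHom.ker φ) φ (fun _ ha => RingHom.mem_ker.mp ha)).toAlgebra
    letI : Algebra (A' ⧸ RingHom.ker φ') K' :=
      (Ideal.Quotient.lift (RingHom.ker φ') φ' (fun _ ha => RingHom.mem_ker.mp ha)).toAlgebra
    CycAlg.ordFrac (A ⧸ RingHom.ker φ) K f = CycAlg.ordFrac (A' ⧸ RingHom.ker φ') K' (σ f) := by
  letI : Algebra (A ⧸ RingHom.ker φ) K :=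
    (Ideal.Quotient.lift (RingHom.ker φ) φ (fun _ ha => RingHom.mem_ker.mp ha)).toAlgebra
  letI : Algebra (A' ⧸ RingHom.ker φ') K' :=
    (Ideal.Quotient.lift (RingHom.ker φ') φ' (fun _ ha => RingHom.mem_ker.mp ha)).toAlgebra
  let ψ : A →+* A' ⧸ RingHom.ker φ' := (Ideal.Quotient.mk (RingHom.ker φ')).comp a
  have hψ : Function.Surjective ψ := Ideal.Quotient.mk_surjective.comp ha
  have hker : RingHom.ker ψ = RingHom.ker φ := by
    ext r
    rw [RingHom.mem_ker, RingHom.mem_ker]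
    change Ideal.Quotient.mk (RingHom.ker φ') (a r) = 0 ↔ _
    rw [Ideal.Quotient.eq_zero_iff_mem, RingHom.mem_ker, hc]
    exact ⟨fun h => σ.injective (by rw [h, map_zero]), fun h => by rw [h, map_zero]⟩
  let e : (A ⧸ RingHom.ker φ) ≃+* (A' ⧸ RingHom.ker φ') :=
    (Ideal.quotEquivOfEq hker.symm).trans (RingHom.quotientKerEquivOfSurjective hψ)
  refine ordFrac_congr e σ ?_ f
  intro r
  obtain ⟨r, rfl⟩ := Ideal.Quotient.mk_surjective r
  have h1 : algebraMap (A ⧸ RingHom.ker φ) K (Ideal.Quotient.mk _ r) = φ r := rfl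
  have h2 : e (Ideal.Quotient.mk _ r) = Ideal.Quotient.mk _ (a r) := rfl
  have h3 : algebraMap (A' ⧸ RingHom.ker φ') K' (Ideal.Quotient.mk _ (a r)) = φ' (a r) := rfl
  rw [h1, h2, h3, hc]

end ring

section closed

variable {Z X : Scheme.{u}} (i : Z ⟶ X) [IsClosedImmersion i]

theorem residueFieldMap_bijective (z : Z) : Function.Bijective (i.residueFieldMap z).hom := by
  refine ⟨RingHom.injective _, ?_⟩
  intro b
  obtain ⟨b, rfl⟩ := Z.residue_surjective z b
  obtain ⟨a, rfl⟩ := i.stalkMap_surjective z b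
  refine ⟨(X.residue (i z)).hom a, ?_⟩
  exact ConcreteCategory.congr_hom (Scheme.residue_residueFieldMap i z) a

theorem residueDegree_eq_one (z : Z) : i.residueDegree z = 1 := by
  unfold Scheme.Hom.residueDegree
  letI := (i.residueFieldMap z).hom.toAlgebra
  have hbij : Function.Bijective (Algebra.linearMap (X.residueField (i z)) (Z.residueField z)) :=
    residueFieldMap_bijective i z
  rw [← (LinearEquiv.ofBijective _ hbij).finrank_eq]
  exact Module.finrank_self _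

theorem map_apply_closedImmersion (wz : Z → ℤ) (wx : X → ℤ) (hw : ∀ z, wz z = wx (i z))
    (c : AlgebraicCycle Z ℤ) (z : Z) : AlgebraicCycle.map i wz wx c (i z) = c z := by
  have hpre : i ⁻¹' {i z} = {z} := by
    ext y
    simp only [Set.mem_preimage, Set.mem_singleton_iff]
    exact ⟨fun h => i.isEmbedding.injective h, fun h => by rw [h]⟩
  change ∑ᶠ y ∈ i ⁻¹' {i z}, c y * ((AlgebraicCycle.mapCoeff i wz wx y : ℕ) : ℤ) = c z
  rw [hpre, finsum_mem_singleton]
  unfold AlgebraicCycle.mapCoeff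
  rw [if_pos (hw z), residueDegree_eq_one]
  simp

theorem map_apply_of_notMem_range (wz : Z → ℤ) (wx : X → ℤ)
    (c : AlgebraicCycle Z ℤ) (x : X) (hx : x ∉ Set.range i) :
    AlgebraicCycle.map i wz wx c x = 0 := by
  have hpre : i ⁻¹' {x} = ∅ := by
    ext y
    simp only [Set.mem_preimage, Set.mem_singleton_iff, Set.mem_empty_iff_false, iff_false]
    exact fun h => hx ⟨y, h⟩
  change ∑ᶠ y ∈ i ⁻¹' {x}, c y * ((AlgebraicCycle.mapCoeff i wz wx y : ℕ) : ℤ) = 0
  rw [hpre, finsum_mem_empty]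

theorem specializes_iff (z ξ : Z) : i ξ ⤳ i z ↔ ξ ⤳ z :=
  i.isEmbedding.isInducing.specializes_iff

theorem mem_range_of_specializes (ξ : Z) (x : X) (h : i ξ ⤳ x) : x ∈ Set.range i := by
  have hcl : IsClosed (Set.range i) := i.isClosedEmbedding.isClosed_range
  exact h.mem_closed hcl ⟨ξ, rfl⟩

theorem ordAt_closedImmersion (z ξ : Z) (h : ξ ⤳ z) (f : X.residueField (i ξ)) :
    Cyc.ordAt (i z) (i ξ) (i.base.hom.map_specializes h) f =
      Cyc.ordAt z ξ h ((i.residueFieldMap ξ).hom f) := by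
  let σ : X.residueField (i ξ) ≃+* Z.residueField ξ :=
    RingEquiv.ofBijective (i.residueFieldMap ξ).hom (residueFieldMap_bijective i ξ)
  exact ordFrac_quot_ker_congr_surj (Cyc.specMap (i z) (i ξ) (i.base.hom.map_specializes h))
    (Cyc.specMap z ξ h) (i.stalkMap z).hom (i.stalkMap_surjective z) σ
    (fun r => (specMap_stalkMap i z ξ h r).symm) f

theorem divFun_closedImmersion (δ : X → ℤ) (z ξ : Z) (f : X.residueField (i ξ)) :
    Cyc.divFun δ (i ξ) f (i z) =
      Cyc.divFun (fun z => δ (i z)) ξ ((i.residueFieldMap ξ).hom f) z := by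
  classical
  unfold Cyc.divFun
  by_cases h : ξ ⤳ z ∧ δ (i z) + 1 = δ (i ξ)
  · rw [dif_pos h, dif_pos ⟨i.base.hom.map_specializes h.1, h.2⟩]
    exact ordAt_closedImmersion i z ξ h.1 f
  · rw [dif_neg h, dif_neg]
    rintro ⟨h1, h2⟩
    exact h ⟨(specializes_iff i z ξ).1 h1, h2⟩

theorem divFun_eq_zero_of_notMem_range (δ : X → ℤ) (ξ : Z) (f : X.residueField (i ξ)) (x : X)
    (hx : x ∉ Set.range i) : Cyc.divFun δ (i ξ) f x = 0 := by
  unfold Cyc.divFun
  rw [dif_neg]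
  rintro ⟨h1, -⟩
  exact hx (mem_range_of_specializes i ξ x h1)

/-- restriction of a cycle along a closed immersion (composition with the underlying map). -/
noncomputable def comapCycle (c : AlgebraicCycle X ℤ) : AlgebraicCycle Z ℤ where
  toFun z := c (i z)
  supportWithinDomain' := Set.subset_univ _
  supportLocallyFiniteWithinDomain' := fun z _ => by
    obtain ⟨t, ht, hfin⟩ := c.supportLocallyFiniteWithinDomain' (i z) (Set.mem_univ _)
    refine ⟨i ⁻¹' t, i.continuous.continuousAt.preimage_mem_nhds ht, ?_⟩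
    refine (hfin.preimage (i.isEmbedding.injective.injOn)).subset ?_
    rintro y ⟨hy1, hy2⟩
    exact ⟨hy1, hy2⟩

theorem comapCycle_apply (c : AlgebraicCycle X ℤ) (z : Z) : comapCycle i c z = c (i z) := rfl

end closed

section family

variable {X : Scheme.{u}}

theorem divFun_congr_point (δ : X → ℤ) (ξ ξ' x : X) (e : ξ = ξ') (f : X.residueField ξ) :
    Cyc.divFun δ ξ f x = Cyc.divFun δ ξ' ((X.residueFieldCongr e).hom f) x := by
  subst e
  rfl

theorem divFun_inv (δ : X → ℤ) (ξ x : X) (f : X.residueField ξ) :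
    Cyc.divFun δ ξ f⁻¹ x = - Cyc.divFun δ ξ f x := by
  classical
  unfold Cyc.divFun
  by_cases h : ξ ⤳ x ∧ δ x + 1 = δ ξ
  · rw [dif_pos h, dif_pos h]
    unfold Cyc.ordAt
    exact ordFrac_inv f
  · rw [dif_neg h, dif_neg h, neg_zero]

/-- a locally finite family has finitely many members in an affine open. -/
theorem finite_setOf_mem_affine {ι : Type*} (ξ : ι → X)
    (hlf : ∀ x : X, ∃ U : Set X, IsOpen U ∧ x ∈ U ∧ {i | (closure {ξ i} ∩ U).Nonempty}.Finite)
    {V : X.Opens} (hV : IsAffineOpen V) : {j | ξ j ∈ V}.Finite := by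
  choose W hWo hWm hWf using hlf
  obtain ⟨t, -, ht⟩ := hV.isCompact.elim_nhds_subcover W (fun u _ => (hWo u).mem_nhds (hWm u))
  refine (Set.Finite.biUnion t.finite_toSet (fun u _ => hWf u)).subset ?_
  intro j hj
  obtain ⟨u, hut, hu⟩ := Set.mem_iUnion₂.1 (ht hj)
  exact Set.mem_iUnion₂.2 ⟨u, hut, ⟨ξ j, subset_closure rfl, hu⟩⟩

/-- the cycle `Σ_j div(f_j)` of a locally finite family. -/
noncomputable def divCycle (δ : X → ℤ) (hX : Cyc.IsSetup X δ) {ι : Type*} (ξ : ι → X)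
    (f : (j : ι) → X.residueField (ξ j)) (hf : ∀ j, f j ≠ 0)
    (hlf : ∀ x : X, ∃ U : Set X, IsOpen U ∧ x ∈ U ∧ {i | (closure {ξ i} ∩ U).Nonempty}.Finite) :
    AlgebraicCycle X ℤ where
  toFun x := ∑ᶠ j, Cyc.divFun δ (ξ j) (f j) x
  supportWithinDomain' := Set.subset_univ _
  supportLocallyFiniteWithinDomain' := fun z _ => by
    haveI : IsLocallyNoetherian X := hX.1
    obtain ⟨V, hV, hzV, -⟩ := exists_isAffineOpen_mem_and_subset (U := ⊤) (x := z) (by simp)
    refine ⟨V, V.2.mem_nhds hzV, ?_⟩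
    refine (Set.Finite.biUnion (finite_setOf_mem_affine ξ hlf hV) (fun j _ =>
      finite_support_divFun_inter hX.2.2 (ξ j) (f j) (hf j) hV)).subset ?_
    rintro x ⟨hxV, hxD⟩
    have hne : ∃ j, Cyc.divFun δ (ξ j) (f j) x ≠ 0 := by
      by_contra hall
      push Not at hall
      exact hxD (finsum_eq_zero_of_forall_eq_zero hall)
    obtain ⟨j, hj⟩ := hne
    have hjV : ξ j ∈ V := by
      unfold Cyc.divFun at hj
      by_cases hc : ξ j ⤳ x ∧ δ x + 1 = δ (ξ j)
      · exact hc.1.mem_open V.2 hxV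
      · rw [dif_neg hc] at hj
        exact absurd rfl hj
    exact Set.mem_iUnion₂.2 ⟨j, hjV, hxV, hj⟩

theorem divCycle_apply (δ : X → ℤ) (hX : Cyc.IsSetup X δ) {ι : Type*} (ξ : ι → X)
    (f : (j : ι) → X.residueField (ξ j)) (hf : ∀ j, f j ≠ 0)
    (hlf : ∀ x : X, ∃ U : Set X, IsOpen U ∧ x ∈ U ∧ {i | (closure {ξ i} ∩ U).Nonempty}.Finite)
    (x : X) : divCycle δ hX ξ f hf hlf x = ∑ᶠ j, Cyc.divFun δ (ξ j) (f j) x := rfl

end family


section restrict

variable {Z X : Scheme.{u}} (i : Z ⟶ X) [IsClosedImmersion i] (δ : X → ℤ) (hX : Cyc.IsSetup X δ)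

theorem divCycle_eq_zero_of_ne {ι : Type*} (ξ : ι → X)
    (f : (j : ι) → X.residueField (ξ j)) (hf : ∀ j, f j ≠ 0)
    (hlf : ∀ x : X, ∃ U : Set X, IsOpen U ∧ x ∈ U ∧ {i | (closure {ξ i} ∩ U).Nonempty}.Finite)
    (k : ℤ) (hδξ : ∀ j, δ (ξ j) = k + 1) (x : X) (hx : δ x ≠ k) :
    divCycle δ hX ξ f hf hlf x = 0 := by
  rw [divCycle_apply]
  apply finsum_eq_zero_of_forall_eq_zero
  intro j
  unfold Cyc.divFun
  rw [dif_neg]
  rintro ⟨-, h2⟩
  apply hx
  have := hδξ j
  omega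

theorem divCycle_eq_zero_of_notMem_range {ι : Type*} (ξ : ι → X)
    (f : (j : ι) → X.residueField (ξ j)) (hf : ∀ j, f j ≠ 0)
    (hlf : ∀ x : X, ∃ U : Set X, IsOpen U ∧ x ∈ U ∧ {i | (closure {ξ i} ∩ U).Nonempty}.Finite)
    (hr : ∀ j, ξ j ∈ Set.range i) (x : X) (hx : x ∉ Set.range i) :
    divCycle δ hX ξ f hf hlf x = 0 := by
  rw [divCycle_apply]
  apply finsum_eq_zero_of_forall_eq_zero
  intro j
  unfold Cyc.divFun
  rw [dif_neg]
  rintro ⟨h1, -⟩
  obtain ⟨ζ, hζ⟩ := hr j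
  rw [← hζ] at h1
  exact hx (mem_range_of_specializes i ζ x h1)

/-- the restriction to a closed subscheme of the divisor cycle of a family of points of that
subscheme is rationally equivalent to zero there. -/
theorem ratEquivZero_comapCycle (k : ℤ) {ι : Type u} (ξ : ι → X)
    (f : (j : ι) → X.residueField (ξ j)) (hf : ∀ j, f j ≠ 0)
    (hlf : ∀ x : X, ∃ U : Set X, IsOpen U ∧ x ∈ U ∧ {i | (closure {ξ i} ∩ U).Nonempty}.Finite)
    (hδξ : ∀ j, δ (ξ j) = k + 1) (hr : ∀ j, ξ j ∈ Set.range i) :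
    Cyc.RatEquivZero (fun z => δ (i z)) k (comapCycle i (divCycle δ hX ξ f hf hlf)) := by
  choose ζ hζ using hr
  let g : (j : ι) → Z.residueField (ζ j) := fun j =>
    (i.residueFieldMap (ζ j)).hom ((X.residueFieldCongr (hζ j).symm).hom (f j))
  refine ⟨ι, ζ, g, ?_, ?_, ?_, ?_⟩
  · intro j
    show δ (i (ζ j)) = k + 1
    rw [hζ j, hδξ j]
  · intro j
    exact (map_ne_zero_iff _ (RingHom.injective _)).2
      ((map_ne_zero_iff _ (RingHom.injective _)).2 (hf j))
  · intro z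
    obtain ⟨U, hUo, hzU, hfin⟩ := hlf (i z)
    refine ⟨i ⁻¹' U, hUo.preimage i.continuous, hzU, hfin.subset ?_⟩
    rintro j ⟨y, hy, hyU⟩
    refine ⟨i y, ?_, hyU⟩
    have h1 : ζ j ⤳ y := specializes_iff_mem_closure.2 hy
    have h2 : i (ζ j) ⤳ i y := i.base.hom.map_specializes h1
    rw [hζ j] at h2
    exact specializes_iff_mem_closure.1 h2
  · intro z
    rw [comapCycle_apply, divCycle_apply]
    apply finsum_congr
    intro j
    rw [divFun_congr_point δ (ξ j) (i (ζ j)) (i z) (hζ j).symm (f j),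
      divFun_closedImmersion i δ z (ζ j)]

end restrict

section misc

variable {X : Scheme.{u}}

theorem ratEquivZero_neg (δ : X → ℤ) (k : ℤ) (c : AlgebraicCycle X ℤ)
    (h : Cyc.RatEquivZero δ k c) : Cyc.RatEquivZero δ k (-c) := by
  obtain ⟨ι, ξ, f, h1, h2, h3, h4⟩ := h
  refine ⟨ι, ξ, fun j => (f j)⁻¹, h1, fun j => inv_ne_zero (h2 j), h3, ?_⟩
  intro x
  have : (-c) x = - c x := rfl
  rw [this, h4 x, ← finsum_neg_distrib]
  apply finsum_congr
  intro j
  rw [divFun_inv]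

theorem finsum_split {ι : Type*} (P : ι → Prop) (F : ι → ℤ) (hF : (Function.support F).Finite) :
    ∑ᶠ j, F j = ∑ᶠ j : {j // P j}, F j.1 + ∑ᶠ j : {j // ¬ P j}, F j.1 := by
  have h1 : ∑ᶠ j : {j // P j}, F j.1 = ∑ᶠ j ∈ {j | P j}, F j :=
    finsum_set_coe_eq_finsum_mem {j | P j}
  have h2 : ∑ᶠ j : {j // ¬ P j}, F j.1 = ∑ᶠ j ∈ {j | P j}ᶜ, F j :=
    finsum_set_coe_eq_finsum_mem ({j | P j}ᶜ)
  rw [h1, h2, ← finsum_mem_union' disjoint_compl_right (hF.subset Set.inter_subset_right)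
    (hF.subset Set.inter_subset_right), Set.union_compl_self, finsum_mem_univ]

end misc


section main

/-- **S1918**: Mayer–Vietoris for Chow groups, exactness in the middle. -/
theorem mayerVietoris (X : Scheme.{u}) (δ : X → ℤ) (hX : Cyc.IsSetup X δ) (X₁ X₂ : Scheme.{u})
    (i₁ : X₁ ⟶ X) (i₂ : X₂ ⟶ X) [IsClosedImmersion i₁] [IsClosedImmersion i₂]
    (hcov : Set.range ⇑i₁ ∪ Set.range ⇑i₂ = Set.univ) (k : ℤ) (α₁ : AlgebraicCycle X₁ ℤ)
    (α₂ : AlgebraicCycle X₂ ℤ) (h₁ : α₁ ∈ Cyc.Zk X₁ (fun x => δ (i₁ x)) k)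
    (h₂ : α₂ ∈ Cyc.Zk X₂ (fun x => δ (i₂ x)) k)
    (h : Cyc.RatEquiv δ k (AlgebraicCycle.map i₁ (fun x => δ (i₁ x)) δ α₁)
      (AlgebraicCycle.map i₂ (fun x => δ (i₂ x)) δ α₂)) :
    ∃ β : AlgebraicCycle (pullback i₁ i₂) ℤ,
      β ∈ Cyc.Zk (pullback i₁ i₂) (fun z => δ (i₁ (pullback.fst i₁ i₂ z))) k ∧
      Cyc.RatEquiv (fun x => δ (i₁ x)) k α₁
        (AlgebraicCycle.map (pullback.fst i₁ i₂) (fun z => δ (i₁ (pullback.fst i₁ i₂ z)))
          (fun x => δ (i₁ x)) β) ∧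
      Cyc.RatEquiv (fun x => δ (i₂ x)) k α₂
        (AlgebraicCycle.map (pullback.snd i₁ i₂) (fun z => δ (i₁ (pullback.fst i₁ i₂ z)))
          (fun x => δ (i₂ x)) β) := by
  obtain ⟨ι, ξ, f, hδξ, hf, hlf, hsum⟩ := h
  let P : ι → Prop := fun j => ξ j ∈ Set.range i₁
  let ξa : {j // P j} → X := fun j => ξ j.1
  let fa : (j : {j // P j}) → X.residueField (ξa j) := fun j => f j.1
  let ξb : {j // ¬ P j} → X := fun j => ξ j.1
  let fb : (j : {j // ¬ P j}) → X.residueField (ξb j) := fun j => f j.1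
  have hlfa : ∀ x : X, ∃ U : Set X, IsOpen U ∧ x ∈ U ∧
      {j | (closure {ξa j} ∩ U).Nonempty}.Finite := by
    intro x
    obtain ⟨U, hUo, hxU, hfin⟩ := hlf x
    exact ⟨U, hUo, hxU, (hfin.preimage Subtype.val_injective.injOn).subset (fun j hj => hj)⟩
  have hlfb : ∀ x : X, ∃ U : Set X, IsOpen U ∧ x ∈ U ∧
      {j | (closure {ξb j} ∩ U).Nonempty}.Finite := by
    intro x
    obtain ⟨U, hUo, hxU, hfin⟩ := hlf x
    exact ⟨U, hUo, hxU, (hfin.preimage Subtype.val_injective.injOn).subset (fun j hj => hj)⟩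
  have hra : ∀ j, ξa j ∈ Set.range i₁ := fun j => j.2
  have hrb : ∀ j, ξb j ∈ Set.range i₂ := by
    intro j
    have : ξ j.1 ∈ Set.range i₁ ∪ Set.range i₂ := by rw [hcov]; trivial
    exact this.resolve_left j.2
  set Da := divCycle δ hX ξa fa (fun j => hf j.1) hlfa with hDa
  set Db := divCycle δ hX ξb fb (fun j => hf j.1) hlfb with hDb
  have hkey : ∀ x, AlgebraicCycle.map i₁ (fun x => δ (i₁ x)) δ α₁ x -
      AlgebraicCycle.map i₂ (fun x => δ (i₂ x)) δ α₂ x = Da x + Db x := by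
    intro x
    have h0 := hsum x
    have hsub : (AlgebraicCycle.map i₁ (fun x => δ (i₁ x)) δ α₁ -
        AlgebraicCycle.map i₂ (fun x => δ (i₂ x)) δ α₂) x =
        AlgebraicCycle.map i₁ (fun x => δ (i₁ x)) δ α₁ x -
          AlgebraicCycle.map i₂ (fun x => δ (i₂ x)) δ α₂ x := rfl
    rw [hsub] at h0
    rw [h0]
    have hFfin : (Function.support fun j => Cyc.divFun δ (ξ j) (f j) x).Finite := by
      obtain ⟨U, hUo, hxU, hfin⟩ := hlf x
      refine hfin.subset ?_
      intro j hj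
      refine ⟨x, ?_, hxU⟩
      by_contra hcl
      apply hj
      show Cyc.divFun δ (ξ j) (f j) x = 0
      unfold Cyc.divFun
      rw [dif_neg]
      rintro ⟨h1, -⟩
      exact hcl (specializes_iff_mem_closure.1 h1)
    exact finsum_split P _ hFfin
  set C : AlgebraicCycle X ℤ := AlgebraicCycle.map i₁ (fun x => δ (i₁ x)) δ α₁ - Da with hCdef
  have hC1 : ∀ x, C x = AlgebraicCycle.map i₁ (fun x => δ (i₁ x)) δ α₁ x - Da x := fun x => rfl
  have hC2 : ∀ x, C x = AlgebraicCycle.map i₂ (fun x => δ (i₂ x)) δ α₂ x + Db x := by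
    intro x
    rw [hC1]
    have := hkey x
    linarith
  have hCr1 : ∀ x, x ∉ Set.range i₁ → C x = 0 := by
    intro x hx
    rw [hC1, map_apply_of_notMem_range i₁ _ _ α₁ x hx,
      divCycle_eq_zero_of_notMem_range i₁ δ hX ξa fa _ hlfa hra x hx, sub_zero]
  have hCr2 : ∀ x, x ∉ Set.range i₂ → C x = 0 := by
    intro x hx
    rw [hC2, map_apply_of_notMem_range i₂ _ _ α₂ x hx,
      divCycle_eq_zero_of_notMem_range i₂ δ hX ξb fb _ hlfb hrb x hx, add_zero]
  have hCk : ∀ x, δ x ≠ k → C x = 0 := by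
    intro x hx
    rw [hC1, divCycle_eq_zero_of_ne δ hX ξa fa _ hlfa k (fun j => hδξ j.1) x hx, sub_zero]
    by_cases hxr : x ∈ Set.range i₁
    · obtain ⟨z, rfl⟩ := hxr
      rw [map_apply_closedImmersion i₁ (fun x => δ (i₁ x)) δ (fun _ => rfl) α₁ z]
      exact h₁ z hx
    · exact map_apply_of_notMem_range i₁ _ _ α₁ x hxr
  set β : AlgebraicCycle (pullback i₁ i₂) ℤ := comapCycle (pullback.fst i₁ i₂ ≫ i₁) C with hβdef
  have hβ : ∀ z, β z = C (i₁ (pullback.fst i₁ i₂ z)) := fun z => rfl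
  have hcond : ∀ z : ↥(pullback i₁ i₂),
      i₁ (pullback.fst i₁ i₂ z) = i₂ (pullback.snd i₁ i₂ z) := by
    intro z
    have := pullback.condition (f := i₁) (g := i₂)
    exact congrArg (fun (m : pullback i₁ i₂ ⟶ X) => m z) this
  refine ⟨β, ?_, ?_, ?_⟩
  · intro z hz
    rw [hβ]
    exact hCk _ hz
  · have hpush : AlgebraicCycle.map (pullback.fst i₁ i₂)
        (fun z => δ (i₁ (pullback.fst i₁ i₂ z))) (fun x => δ (i₁ x)) β =
        α₁ - comapCycle i₁ Da := by
      ext z₁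
      show _ = α₁ z₁ - Da (i₁ z₁)
      by_cases hz : z₁ ∈ Set.range (pullback.fst i₁ i₂)
      · obtain ⟨z, rfl⟩ := hz
        rw [map_apply_closedImmersion (pullback.fst i₁ i₂)
          (fun z => δ (i₁ (pullback.fst i₁ i₂ z))) (fun x => δ (i₁ x)) (fun _ => rfl) β z, hβ, hC1,
          map_apply_closedImmersion i₁ (fun x => δ (i₁ x)) δ (fun _ => rfl) α₁]
      · rw [map_apply_of_notMem_range _ _ _ β z₁ hz]
        have hz' : i₁ z₁ ∉ Set.range i₂ := by
          rw [Scheme.Pullback.range_fst] at hz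
          exact hz
        have := hCr2 (i₁ z₁) hz'
        rw [hC1, map_apply_closedImmersion i₁ (fun x => δ (i₁ x)) δ (fun _ => rfl) α₁] at this
        exact this.symm
    unfold Cyc.RatEquiv
    rw [hpush]
    have e : α₁ - (α₁ - comapCycle i₁ Da) = comapCycle i₁ Da := by abel
    rw [e]
    exact ratEquivZero_comapCycle i₁ δ hX k ξa fa _ hlfa (fun j => hδξ j.1) hra
  · have hpush : AlgebraicCycle.map (pullback.snd i₁ i₂)
        (fun z => δ (i₁ (pullback.fst i₁ i₂ z))) (fun x => δ (i₂ x)) β =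
        α₂ + comapCycle i₂ Db := by
      ext z₂
      show _ = α₂ z₂ + Db (i₂ z₂)
      by_cases hz : z₂ ∈ Set.range (pullback.snd i₁ i₂)
      · obtain ⟨z, rfl⟩ := hz
        rw [map_apply_closedImmersion (pullback.snd i₁ i₂)
          (fun z => δ (i₁ (pullback.fst i₁ i₂ z))) (fun x => δ (i₂ x))
          (fun z => by
            show δ (i₁ (pullback.fst i₁ i₂ z)) = δ (i₂ (pullback.snd i₁ i₂ z))
            rw [hcond]) β z, hβ, hcond, hC2,
          map_apply_closedImmersion i₂ (fun x => δ (i₂ x)) δ (fun _ => rfl) α₂]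
      · rw [map_apply_of_notMem_range _ _ _ β z₂ hz]
        have hz' : i₂ z₂ ∉ Set.range i₁ := by
          rw [Scheme.Pullback.range_snd] at hz
          exact hz
        have := hCr1 (i₂ z₂) hz'
        rw [hC2, map_apply_closedImmersion i₂ (fun x => δ (i₂ x)) δ (fun _ => rfl) α₂] at this
        exact this.symm
    unfold Cyc.RatEquiv
    rw [hpush]
    have e : α₂ - (α₂ + comapCycle i₂ Db) = -(comapCycle i₂ Db) := by abel
    rw [e]
    exact ratEquivZero_neg _ _ _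
      (ratEquivZero_comapCycle i₂ δ hX k ξb fb _ hlfb (fun j => hδξ j.1) hrb)

end main

end Groth.Agent.Lib.Seat32.MV
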