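import Mathlib
import Groth.Prelude.Def_Cyc
import Groth.Agent.Lib.Seat32PullSheaf
import Groth.Agent.Lib.Helper3CompDim

/-!
# Composition of flat pullbacks of cycles (helper32)

* `hasRelDim_comp` : relative dimensions add for `f` flat.
* `length_quot_comp` : multiplicativity of the length of the fibre ring along a flat local
  homomorphism (same proof as helper28's in S6479).
* `length_stalk_comp` : the scheme version.
-/

set_option autoImplicit false
universe u
open CategoryTheory AlgebraicGeometry TensorProduct IsLocalRing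

namespace Groth.Agent.Lib.Seat32.PullComp

open Groth.Agent.Lib.Helper4.DimFormula Groth.Agent.Lib.Helper3.RelDim
open Groth.Agent.Lib.Helper3.CompDim

attribute [local instance] Curv2.resAlgebra

variable {X Y Z : Scheme.{u}} (f : X ⟶ Y) (g : Y ⟶ Z)

theorem hasRelDim_comp [Flat f] [LocallyOfFiniteType f] [LocallyOfFiniteType g] (r s : ℕ)
    (hr : Cyc.HasRelDim f r) (hs : Cyc.HasRelDim g s) : Cyc.HasRelDim (f ≫ g) (r + s) := by
  rw [hasRelDim_iff_forall_fibreDimAt_eq]
  intro x
  have h1 := (hasRelDim_iff_forall_fibreDimAt_eq f r).mp hr x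
  have h2 := (hasRelDim_iff_forall_fibreDimAt_eq g s).mp hs (f x)
  have h3 := (fibreDimAt_comp f g x).2 (Flat.stalkMap f x)
  rw [h3, h1, h2]
  push_cast
  rfl

/-- multiplicativity of the length of the fibre ring along a flat local homomorphism. -/
theorem length_quot_comp {A B C : Type u} [CommRing A] [CommRing B] [CommRing C]
    [IsLocalRing A] [IsLocalRing B] [IsLocalRing C]
    (φ : A →+* B) (ψ : B →+* C) [IsLocalHom ψ] (hψ : ψ.Flat) :
    Module.length C (C ⧸ Ideal.map (ψ.comp φ) (maximalIdeal A)) =
      Module.length B (B ⧸ Ideal.map φ (maximalIdeal A)) *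
        Module.length C (C ⧸ Ideal.map ψ (maximalIdeal B)) := by
  letI : Algebra B C := ψ.toAlgebra
  haveI : Module.Flat B C := hψ
  haveI : IsLocalHom (algebraMap B C) := ‹IsLocalHom ψ›
  have h1 := IsLocalRing.length_baseChange B C (B ⧸ Ideal.map φ (maximalIdeal A))
  have h2 : Module.length C (C ⊗[B] (B ⧸ Ideal.map φ (maximalIdeal A))) =
      Module.length C (C ⧸ (Ideal.map φ (maximalIdeal A)).map (algebraMap B C)) :=
    ((Algebra.TensorProduct.quotIdealMapEquivTensorQuot C
      (Ideal.map φ (maximalIdeal A))).toLinearEquiv.length_eq).symm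
  rw [h2, Ideal.map_map] at h1
  exact h1

theorem length_stalk_comp [Flat f] (x : X) :
    Module.length (X.presheaf.stalk x)
        (X.presheaf.stalk x ⧸ Ideal.map ((f ≫ g).stalkMap x).hom
          (maximalIdeal (Z.presheaf.stalk ((f ≫ g) x)))) =
      Module.length (Y.presheaf.stalk (f x))
          (Y.presheaf.stalk (f x) ⧸ Ideal.map (g.stalkMap (f x)).hom
            (maximalIdeal (Z.presheaf.stalk (g (f x))))) *
        Module.length (X.presheaf.stalk x)
          (X.presheaf.stalk x ⧸ Ideal.map (f.stalkMap x).hom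
            (maximalIdeal (Y.presheaf.stalk (f x)))) := by
  have hlen := length_quot_comp (g.stalkMap (f x)).hom (f.stalkMap x).hom (Flat.stalkMap f x)
  have hsm : ((f ≫ g).stalkMap x).hom = (f.stalkMap x).hom.comp (g.stalkMap (f x)).hom := by
    rw [Scheme.Hom.stalkMap_comp]
    rfl
  rw [hsm]
  exact hlen

end Groth.Agent.Lib.Seat32.PullComp
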