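import Mathlib
import Groth.Prelude.Def_Cyc
import Groth.Agent.Lib.Seat32PullDiv
import Groth.Agent.Lib.Seat32PullComp
import Groth.Agent.Lib.Seat28FibreMax
import Groth.Agent.S9684

/-!
# Flat pullback of cycles in a cartesian square (helper32, S6478)

* `delta_of_isFibMax`: for `f` locally of finite type of relative dimension `r` with the induced
  dimension function, `δX ξ = δY (f ξ) + r` at points maximal in their fibre.
* `pullFun_comp'`: composition of base-free flat pullbacks (helper28's S6479, assuming only that the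
  dimension functions upstairs are dimension functions).
* `pullFun_square`: S6478.
-/

set_option autoImplicit false
set_option linter.style.haveILetI false
universe u
open CategoryTheory AlgebraicGeometry CategoryTheory.Limits IsLocalRing

namespace Groth.Agent.Lib.Seat32.PullBC

open Groth.Agent.Lib.Helper4.DimFormula Groth.Agent.Lib.Helper3.RelDim
open Groth.Agent.Lib.Seat32.PullDiv Groth.Agent.Lib.Seat32.PullComp
open Groth.Agent.Lib.Seat28.FibreMax

variable {X Y : Scheme.{u}}

attribute [local instance] Curv2.resAlgebra in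
/-- the dimension function at a point maximal in its fibre. -/
theorem delta_of_isFibMax (f : X ⟶ Y) [LocallyOfFiniteType f] (r : ℕ)
    (hr : Cyc.HasRelDim f r) (δX : X → ℤ) (δY : Y → ℤ) (hδ : Cyc.DeltaCompat f δX δY) (ξ : X)
    (hmax : ∀ y : X, f y = f ξ → y ⤳ ξ → y = ξ) : δX ξ = δY (f ξ) + r := by
  have h0 := delta_eq_add_ptTrdeg f δX δY hδ ξ
  have h1 := (hasRelDim_iff_forall_fibreDimAt_eq f r).mp hr ξ
  have h2 := fibreDimAt_eq_ptTrdeg_of_maximal f ξ hmax
  rw [h1] at h2
  have h3 : r = ptTrdeg f ξ := by exact_mod_cast h2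
  rw [h0, ← h3]

/-- composition of base-free flat pullbacks of cycles. -/
theorem pullFun_comp' {X X' X'' : Scheme.{u}} (p : X' ⟶ X) (p' : X'' ⟶ X') [Flat p']
    (δ : X → ℤ) (δ' : X' → ℤ) (δ'' : X'' → ℤ) (hdim' : Cyc.IsDimFun X' δ')
    (hdim'' : Cyc.IsDimFun X'' δ'') (c c' : ℤ)
    (hc : ∀ x' : X', (∀ y, p y = p x' → y ⤳ x' → y = x') → δ' x' = δ (p x') + c)
    (hc' : ∀ x'' : X'', (∀ y, p' y = p' x'' → y ⤳ x'' → y = x'') → δ'' x'' = δ' (p' x'') + c')
    (α : X → ℤ) :
    Cyc.pullFun (p' ≫ p) δ'' δ (c + c') α = Cyc.pullFun p' δ'' δ' c' (Cyc.pullFun p δ' δ c α) := by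
  classical
  funext x''
  have hle'' := delta_le p' δ' δ'' hdim'' c' hc' x''
  have hle' := delta_le p δ δ' hdim' c hc (p' x'')
  have hcomp : (p' ≫ p) x'' = p (p' x'') := rfl
  have hlen := length_stalk_comp p' p x''
  change (if δ'' x'' = δ ((p' ≫ p) x'') + (c + c') then _ else 0) =
    (if δ'' x'' = δ' (p' x'') + c' then
      (if δ' (p' x'') = δ (p (p' x'')) + c then _ else 0) * _ else 0)
  by_cases h1 : δ'' x'' = δ' (p' x'') + c'
  · rw [if_pos h1]
    by_cases h2 : δ' (p' x'') = δ (p (p' x'')) + c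
    · rw [if_pos h2, if_pos (by rw [hcomp, h1, h2]; ring), hlen, ENat.toNat_mul]
      push_cast
      rw [hcomp]
      ring
    · rw [if_neg h2, zero_mul, if_neg]
      intro h3
      apply h2
      rw [hcomp] at h3
      omega
  · rw [if_neg h1, if_neg]
    intro h3
    apply h1
    rw [hcomp] at h3
    omega

/-- **S6478**: flat pullbacks of cycles in a cartesian square commute. -/
theorem pullFun_square {X X' Y : Scheme.{u}} (f : Y ⟶ X) (p : X' ⟶ X) [Flat f]
    [LocallyOfFiniteType f] [Flat p] (r : ℕ) (hr : Cyc.HasRelDim f r) (δ : X → ℤ) (δ' : X' → ℤ)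
    (δY : Y → ℤ) (δY' : ↥(pullback f p) → ℤ) (hX' : Cyc.IsSetup X' δ') (hY : Cyc.IsSetup Y δY)
    (hf : Cyc.DeltaCompat f δY δ) (hf' : Cyc.DeltaCompat (pullback.snd f p) δY' δ') (c : ℤ)
    (hc : ∀ x' : X', (∀ y, p y = p x' → y ⤳ x' → y = x') → δ' x' = δ (p x') + c)
    (hcY : ∀ y' : ↥(pullback f p), (∀ y, pullback.fst f p y = pullback.fst f p y' → y ⤳ y' → y = y') →
      δY' y' = δY (pullback.fst f p y') + c) (α : X → ℤ) :
    Cyc.HasRelDim (pullback.snd f p) r ∧
      Cyc.pullFun (pullback.snd f p) δY' δ' r (Cyc.pullFun p δ' δ c α) =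
        Cyc.pullFun (pullback.fst f p) δY' δY c (Cyc.pullFun f δY δ r α) := by
  have hr' : Cyc.HasRelDim (pullback.snd f p) r :=
    hasRelDim_of_isPullback f p (pullback.fst f p) (pullback.snd f p)
      (IsPullback.of_hasPullback f p) r hr
  refine ⟨hr', ?_⟩
  have hdimY' : Cyc.IsDimFun (pullback f p) δY' :=
    Groth.Agent.S9684.result (pullback.snd f p) δ' hX' δY' hf'
  have h1 := pullFun_comp' p (pullback.snd f p) δ δ' δY' hX'.2.2 hdimY' c r hc
    (fun y' hy' => delta_of_isFibMax (pullback.snd f p) r hr' δY' δ' hf' y' hy') α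
  have h2 := pullFun_comp' f (pullback.fst f p) δ δY δY' hY.2.2 hdimY' r c
    (fun y hy => delta_of_isFibMax f r hr δY δ hf y hy) hcY α
  rw [← h1, ← h2]
  have hcond : pullback.snd f p ≫ p = pullback.fst f p ≫ f := pullback.condition.symm
  rw [hcond, add_comm]

end Groth.Agent.Lib.Seat32.PullBC
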