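import Mathlib
import Groth.Prelude.Def_C1
import Groth.Agent.Lib.Seat28C1Pull
import Groth.Agent.Lib.Seat28ClosedBC
import Groth.Agent.Lib.Seat32MV
import Groth.Agent.Lib.Seat32PullBC

/-!
# Gysin maps commute with flat pullback (seat 28)

* `coefTop`, `germ_top_eq`, `coord_mk_germ_top`, `mk_germ_top_eq_zero_iff`: a global section in a local frame.
* `ker_stalkMap_eq_span`: the ideal of a zero scheme `Z(s)` at a point is generated by the coefficient of `s` in
  any local frame of `L`.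
* `ratEquiv_c1CapFun_restrict`: independence of the rational sections for `c_1(L) ∩ α` restricted to a closed
  subscheme, when the two families of sections have the same orders along specializations from outside.
* `secOrdAt_gysinChoice_eq`: for `D' = X' ×_X D`, a section `s'` of `f^*L` cutting out `D'` and the pullback
  of the section `s` cutting out `D` have the same orders at points of `D'`.
* `gysin_pullFun_ratEquiv`: `(i')^* f^* α ∼ g^* i^* α`.
-/

set_option autoImplicit false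
set_option linter.unusedVariables false
set_option linter.style.haveILetI false
universe u
open AlgebraicGeometry CategoryTheory CategoryTheory.Limits TopologicalSpace Opposite IsLocalRing

namespace Groth.Agent.Lib.Seat28.GysinPull

open Groth.Agent.Lib.Helper6 Groth.Agent.Lib.Helper23.SecTw Groth.Agent.Lib.Helper23.PB
open Groth.Agent.Helper13PullbackUnit
open Groth.Agent.Lib.Seat28.C1Gen Groth.Agent.Lib.Seat28.C1Tensor Groth.Agent.Lib.Seat28.C1Inv
open Groth.Agent.Lib.Seat28.PullSec Groth.Agent.Lib.Seat28.C1Pull Groth.Agent.Lib.Seat28.ClosedBC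

section ZeroScheme

variable {X D : Scheme.{u}} (L : X.Modules) (s : L.presheaf.obj (op ⊤))
  {W : X.Opens} {e : Γ(L, W)} (he : IsGen L W e)

/-- the coefficient of the global section `s` in the frame `e`. -/
noncomputable def coefTop : Γ(X, W) := coef he le_rfl (res L le_top s)

/-- the germ of `s` in the frame. -/
theorem germ_top_eq (y : X) (hy : y ∈ W) :
    L.presheaf.germ ⊤ y trivial s =
      X.presheaf.germ W y hy (coefTop L s he) • L.presheaf.germ W y hy e := by
  have h1 : L.presheaf.germ ⊤ y trivial s = L.presheaf.germ W y hy (res L le_top s) :=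
    (TopCat.Presheaf.germ_res_apply L.presheaf (homOfLE (le_top : W ≤ ⊤)) y hy s).symm
  have h2 := coef_spec he le_rfl (res L le_top s)
  have h3 : res L (le_refl W) e = e := by
    change L.presheaf.map (homOfLE (le_refl W)).op e = e
    have : (homOfLE (le_refl W)) = 𝟙 W := rfl
    rw [this, op_id, CategoryTheory.Functor.map_id]
    rfl
  rw [h3] at h2
  rw [h1, ← Groth.Agent.Lib.Helper2.QCoh.germ_smul]
  exact congrArg _ h2.symm

/-- the coordinate of the image of `s` in the fibre. -/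
theorem coord_mk_germ_top (y : X) (hy : y ∈ W) :
    coord (isFrame_of_isGen _ _ _ he) y hy
        (Submodule.Quotient.mk (L.presheaf.germ ⊤ y trivial s) : Cyc.secFibre L y) =
      IsLocalRing.residue _ (X.presheaf.germ W y hy (coefTop L s he)) := by
  rw [germ_top_eq L s he y hy, coord_mk_smul_germ]

/-- `s` vanishes in the fibre at `y` iff its coefficient lies in the maximal ideal. -/
theorem mk_germ_top_eq_zero_iff (y : X) (hy : y ∈ W) :
    (Submodule.Quotient.mk (L.presheaf.germ ⊤ y trivial s) : Cyc.secFibre L y) = 0 ↔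
      IsLocalRing.residue _ (X.presheaf.germ W y hy (coefTop L s he)) = 0 := by
  rw [← coord_mk_germ_top L s he y hy]
  constructor
  · intro h
    rw [h, map_zero]
  · intro h
    exact coord_injective (isFrame_of_isGen _ _ _ he) y hy (by rw [h, map_zero])

/-- the ideal of the zero scheme is generated by the coefficient of `s` in any frame. -/
theorem ker_stalkMap_eq_span (i : D ⟶ X) (hD : Cyc.IsZeroSchemeOf i L s) (d : D) (hdW : i d ∈ W) :
    RingHom.ker (i.stalkMap d).hom =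
      Ideal.span {(X.presheaf.germ W (i d) hdW).hom (coefTop L s he)} := by
  obtain ⟨t, a₀, hspan, hst, hker⟩ := hD.2 d
  have hfr := isFrame_of_isGen _ _ _ he
  obtain ⟨u, hu⟩ := (hfr (i d) hdW).2 t
  have hu' : u • L.presheaf.germ W (i d) hdW e = t := hu
  have h1 : L.presheaf.germ W (i d) hdW e ∈ Submodule.span (X.presheaf.stalk (i d)) {t} := by
    rw [hspan]; trivial
  obtain ⟨v, hv⟩ := Submodule.mem_span_singleton.1 h1
  have hvu : v * u = 1 := by
    apply (hfr (i d) hdW).1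
    change (v * u) • L.presheaf.germ W (i d) hdW e = (1 : X.presheaf.stalk (i d)) • _
    rw [mul_smul, hu', hv, one_smul]
  have huU : IsUnit u := IsUnit.of_mul_eq_one_right v hvu
  have h2 : a₀ * u = (X.presheaf.germ W (i d) hdW).hom (coefTop L s he) := by
    apply (hfr (i d) hdW).1
    change (a₀ * u) • L.presheaf.germ W (i d) hdW e = _ • L.presheaf.germ W (i d) hdW e
    rw [mul_smul, hu', ← hst]
    exact germ_top_eq L s he (i d) hdW
  rw [hker, ← h2, Ideal.span_singleton_mul_right_unit huU]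

/-- the Gysin choice at a point where `s` does not vanish. -/
theorem gysinChoice_of_ne (w : (ξ : X) → Cyc.secFibre L ξ) (y : X)
    (hy : (Submodule.Quotient.mk (L.presheaf.germ ⊤ y trivial s) : Cyc.secFibre L y) ≠ 0) :
    Cyc.gysinChoice L s w y = Submodule.Quotient.mk (L.presheaf.germ ⊤ y trivial s) := by
  unfold Cyc.gysinChoice
  rw [if_pos hy]

/-- the Gysin choice is nowhere zero. -/
theorem gysinChoice_ne_zero (w : (ξ : X) → Cyc.secFibre L ξ) (hw : ∀ ξ, w ξ ≠ 0) (y : X) :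
    Cyc.gysinChoice L s w y ≠ 0 := by
  unfold Cyc.gysinChoice
  split_ifs with h
  · exact h
  · exact hw y

end ZeroScheme


section Restrict

variable {Z X : Scheme.{u}} (q : Z ⟶ X) [IsClosedImmersion q]

/-- **Independence of the rational sections after restriction to a closed subscheme**: if two families
of nonzero rational sections of `L` have the same orders at the points of the closed subscheme `Z` along
all specializations from points outside `Z`, then the restrictions to `Z` of the two cycles `c_1(L) ∩ α`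
are rationally equivalent on `Z`. -/
theorem ratEquiv_c1CapFun_restrict (δ : X → ℤ) (hX : Cyc.IsSetup X δ) (L : X.Modules)
    (hL : PicF.IsInvertible L) (k : ℤ) (α : AlgebraicCycle X ℤ) (hα : α ∈ Cyc.Zk X δ (k + 1))
    (s₁ : (ξ : X) → Cyc.secFibre L ξ) (hs₁ : ∀ ξ, s₁ ξ ≠ 0)
    (t : (ξ : X) → Cyc.secFibre L ξ) (ht : ∀ ξ, t ξ ≠ 0)
    (hagree : ∀ (z : Z) (ξ : X) (h : ξ ⤳ q z), ξ ∉ Set.range q →
      Cyc.secOrdAt L ξ (q z) h (s₁ ξ) = Cyc.secOrdAt L ξ (q z) h (t ξ))
    (γ₁ γ₂ : AlgebraicCycle Z ℤ)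
    (h₁ : ∀ z, γ₁ z = Cyc.c1CapFun δ L ⇑α s₁ (q z))
    (h₂ : ∀ z, γ₂ z = Cyc.c1CapFun δ L ⇑α t (q z)) :
    Cyc.RatEquiv (fun z => δ (q z)) k γ₁ γ₂ := by
  classical
  -- the ratios
  have hρex : ∀ ξ : X, ∃ ρ : X.presheaf.stalk ξ, s₁ ξ = ρ • t ξ :=
    fun ξ => Groth.Agent.Lib.Seat28.C1Inv.exists_smul_eq hL ξ (s₁ ξ) (t ξ) (ht ξ)
  choose ρ hρ using hρex
  let g : (ξ : X) → X.residueField ξ := fun ξ => IsLocalRing.residue _ (ρ ξ)
  have hg : ∀ ξ, g ξ ≠ 0 := by
    intro ξ h0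
    apply hs₁ ξ
    rw [hρ ξ]
    have hm : ρ ξ ∈ IsLocalRing.maximalIdeal (X.presheaf.stalk ξ) :=
      (IsLocalRing.residue_eq_zero_iff _).1 h0
    obtain ⟨m, hm'⟩ := Submodule.Quotient.mk_surjective _ (t ξ)
    rw [← hm', ← Submodule.Quotient.mk_smul, Submodule.Quotient.mk_eq_zero]
    exact Submodule.smul_mem_smul hm Submodule.mem_top
  -- finiteness of the relevant supports
  have hfinx : ∀ x : X, {ξ : X | α ξ ≠ 0 ∧ ξ ⤳ x}.Finite := by
    intro x
    obtain ⟨T, hT, hfin⟩ := α.supportLocallyFiniteWithinDomain' x (Set.mem_univ _)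
    obtain ⟨U, hUT, hUo, hxU⟩ := mem_nhds_iff.1 hT
    refine hfin.subset ?_
    rintro ξ ⟨hξ1, hξ2⟩
    exact ⟨hUT (hξ2.mem_open hUo hxU), hξ1⟩
  have hsuppfin : ∀ (r : (ξ : X) → Cyc.secFibre L ξ) (x : X),
      (Function.support fun ξ : X => α ξ * Cyc.secDivFun δ L ξ (r ξ) x).Finite := by
    intro r x
    refine (hfinx x).subset ?_
    intro ξ hξ
    have hξ' : α ξ * Cyc.secDivFun δ L ξ (r ξ) x ≠ 0 := hξ
    refine ⟨left_ne_zero_of_mul hξ', ?_⟩
    by_contra hns
    apply right_ne_zero_of_mul hξ'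
    unfold Cyc.secDivFun
    rw [dif_neg (fun hc => hns hc.1)]
  -- the family
  let ι : Type u := {ξ : X // α ξ ≠ 0 ∧ ξ ∈ Set.range q}
  have hlf : ∀ x : X, ∃ U : Set X, IsOpen U ∧ x ∈ U ∧
      {j : ι | (closure {j.1} ∩ U).Nonempty}.Finite := by
    intro x
    obtain ⟨T, hT, hfin⟩ := α.supportLocallyFiniteWithinDomain' x (Set.mem_univ _)
    obtain ⟨U, hUT, hUo, hxU⟩ := mem_nhds_iff.1 hT
    refine ⟨U, hUo, hxU, ?_⟩
    have hinj : Function.Injective (fun j : ι => j.1) := Subtype.val_injective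
    refine Set.Finite.of_finite_image (f := fun j : ι => j.1) ?_ hinj.injOn
    refine hfin.subset ?_
    rintro _ ⟨j, hj, rfl⟩
    obtain ⟨y, hy1, hy2⟩ := hj
    refine ⟨hUT ?_, j.2.1⟩
    have hsp : j.1 ⤳ y := specializes_iff_mem_closure.2 hy1
    exact hsp.mem_open hUo hy2
  have hδξ : ∀ j : ι, δ j.1 = k + 1 := by
    intro j
    by_contra hne
    exact j.2.1 (hα j.1 hne)
  have hgpow : ∀ j : ι, (g j.1) ^ (α j.1) ≠ 0 := fun j => zpow_ne_zero _ (hg j.1)
  have hmain := Groth.Agent.Lib.Seat32.MV.ratEquivZero_comapCycle q δ hX k (fun j : ι => j.1)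
    (fun j => (g j.1) ^ (α j.1)) hgpow hlf hδξ (fun j => j.2.2)
  obtain ⟨ι', ξ', f', hf1, hf2, hf3, hf4⟩ := hmain
  refine ⟨ι', ξ', f', hf1, hf2, hf3, fun z => ?_⟩
  rw [← hf4 z, Groth.Agent.Lib.Seat32.MV.comapCycle_apply,
    Groth.Agent.Lib.Seat32.MV.divCycle_apply]
  have hsub : (γ₁ - γ₂) z = γ₁ z - γ₂ z := rfl
  rw [hsub, h₁, h₂]
  unfold Cyc.c1CapFun
  rw [← finsum_sub_distrib (hsuppfin s₁ (q z)) (hsuppfin t (q z))]
  have hterm : ∀ ξ : X, α ξ * Cyc.secDivFun δ L ξ (s₁ ξ) (q z) -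
      α ξ * Cyc.secDivFun δ L ξ (t ξ) (q z) = Cyc.divFun δ ξ ((g ξ) ^ (α ξ)) (q z) := by
    intro ξ
    unfold Cyc.secDivFun Cyc.divFun
    by_cases h : ξ ⤳ q z ∧ δ (q z) + 1 = δ ξ
    · rw [dif_pos h, dif_pos h, dif_pos h]
      have h1 : Cyc.secOrdAt L ξ (q z) h.1 (s₁ ξ) =
          Cyc.ordAt (q z) ξ h.1 (g ξ) + Cyc.secOrdAt L ξ (q z) h.1 (t ξ) := by
        conv_lhs => rw [hρ ξ]
        exact Groth.Agent.Lib.Seat28.C1Inv.secOrdAt_smul hL h.1 (ρ ξ) (t ξ)
          (by rw [← hρ ξ]; exact hs₁ ξ)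
      rw [h1]
      unfold Cyc.ordAt
      rw [Groth.Agent.Lib.Seat28.OrdFrac.ordFrac_zpow (hg ξ) (α ξ)]
      ring
    · rw [dif_neg h, dif_neg h, dif_neg h, mul_zero, sub_zero]
  have hzero : ∀ ξ : X, ¬ (α ξ ≠ 0 ∧ ξ ∈ Set.range q) →
      Cyc.divFun δ ξ ((g ξ) ^ (α ξ)) (q z) = 0 := by
    intro ξ hξ
    rw [← hterm ξ]
    by_cases h0 : α ξ = 0
    · rw [h0, zero_mul, zero_mul, sub_zero]
    · have hnr : ξ ∉ Set.range q := fun hr => hξ ⟨h0, hr⟩
      have : Cyc.secDivFun δ L ξ (s₁ ξ) (q z) = Cyc.secDivFun δ L ξ (t ξ) (q z) := by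
        unfold Cyc.secDivFun
        by_cases h : ξ ⤳ q z ∧ δ (q z) + 1 = δ ξ
        · rw [dif_pos h, dif_pos h]
          exact hagree z ξ h.1 hnr
        · rw [dif_neg h, dif_neg h]
      rw [this, sub_self]
  simp_rw [hterm]
  have hsupp : (Function.support fun ξ : X => Cyc.divFun δ ξ ((g ξ) ^ (α ξ)) (q z)) ⊆
      {ξ | α ξ ≠ 0 ∧ ξ ∈ Set.range q} := by
    intro ξ hξ
    by_contra h0
    exact hξ (hzero ξ h0)
  rw [finsum_subtype_eq_finsum_cond (f := fun ξ : X => Cyc.divFun δ ξ ((g ξ) ^ (α ξ)) (q z))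
    (fun ξ => α ξ ≠ 0 ∧ ξ ∈ Set.range q), ← finsum_mem_univ]
  apply finsum_mem_inter_support_eq
  rw [Set.univ_inter]
  exact (Set.inter_eq_right.2 hsupp).symm

end Restrict


section Agree

variable {X X' D : Scheme.{u}} (f : X' ⟶ X) (i : D ⟶ X) [IsClosedImmersion i]
  (L : X.Modules) (hL : PicF.IsInvertible L) (s : L.presheaf.obj (op ⊤))
  (hD : Cyc.IsZeroSchemeOf i L s)
  (s' : ((Scheme.Modules.pullback f).obj L).presheaf.obj (op ⊤))
  (hD' : Cyc.IsZeroSchemeOf (pullback.fst f i) ((Scheme.Modules.pullback f).obj L) s')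

include hL hD hD' in
/-- along a specialization to a point of `D' = X' ×_X D` from a point outside `D'`, the section `s'`
cutting out `D'` and the pullback of the section `s` cutting out `D` have the same order. -/
theorem secOrdAt_gysinChoice_eq (w : (ξ : X) → Cyc.secFibre L ξ)
    (w' : (ξ : X') → Cyc.secFibre ((Scheme.Modules.pullback f).obj L) ξ)
    (z : ↥(pullback f i)) (ξ' : X') (h : ξ' ⤳ pullback.fst f i z)
    (hξ' : ξ' ∉ Set.range (pullback.fst f i)) :
    Cyc.secOrdAt ((Scheme.Modules.pullback f).obj L) ξ' (pullback.fst f i z) h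
        (Cyc.gysinChoice ((Scheme.Modules.pullback f).obj L) s' w' ξ') =
      Cyc.secOrdAt ((Scheme.Modules.pullback f).obj L) ξ' (pullback.fst f i z) h
        (pullFib f L ξ' (Cyc.gysinChoice L s w (f ξ'))) := by
  haveI : L.IsQuasicoherent := isQuasicoherent_of_isInvertible L hL
  obtain ⟨W, e, hxW, hW, he⟩ := exists_affine_gen L hL (f (pullback.fst f i z))
  have he' := isGen_unitSec f L hW e he
  have hfr := isFrame_of_isGen _ _ _ he
  have hfr' := isFrame_of_isGen _ _ _ he'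
  have hx'W : pullback.fst f i z ∈ f ⁻¹ᵁ W := hxW
  have hξW' : ξ' ∈ f ⁻¹ᵁ W := h.mem_open (f ⁻¹ᵁ W).isOpen hx'W
  have hξW : f ξ' ∈ W := hξW'
  -- the two generators of the ideal of `D'` at `z`
  have hk1 := ker_stalkMap_eq_span _ s' he' (pullback.fst f i) hD' z hx'W
  have hk2 := ker_stalkMap_fst_eq_span f i z W hW hxW (coefTop L s he)
    (fun hdW => ker_stalkMap_eq_span L s he i hD (pullback.snd f i z) hdW)
  obtain ⟨c, hc, hbc⟩ := exists_unit_mul_of_span_eq (hk1.symm.trans hk2)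
  -- transport to `ξ'`
  have hspb : X'.presheaf.stalkSpecializes h
      ((X'.presheaf.germ (f ⁻¹ᵁ W) (pullback.fst f i z) hx'W).hom (coefTop _ s' he')) =
      (X'.presheaf.germ (f ⁻¹ᵁ W) ξ' hξW').hom (coefTop _ s' he') :=
    ConcreteCategory.congr_hom (TopCat.Presheaf.germ_stalkSpecializes X'.presheaf hx'W h) _
  have hspa : X'.presheaf.stalkSpecializes h
      ((f.stalkMap (pullback.fst f i z)).hom
        ((X.presheaf.germ W (f (pullback.fst f i z)) hxW).hom (coefTop L s he))) =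
      (f.stalkMap ξ').hom ((X.presheaf.germ W (f ξ') hξW).hom (coefTop L s he)) := by
    rw [Scheme.Hom.germ_stalkMap_apply f W (pullback.fst f i z) hxW,
      Scheme.Hom.germ_stalkMap_apply f W ξ' hξW]
    exact ConcreteCategory.congr_hom (TopCat.Presheaf.germ_stalkSpecializes X'.presheaf hx'W h) _
  have hgerm : (X'.presheaf.germ (f ⁻¹ᵁ W) ξ' hξW').hom (coefTop _ s' he') =
      X'.presheaf.stalkSpecializes h c *
        (f.stalkMap ξ').hom ((X.presheaf.germ W (f ξ') hξW).hom (coefTop L s he)) := by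
    rw [← hspb, hbc, map_mul, hspa]
  have hres : IsLocalRing.residue _ ((X'.presheaf.germ (f ⁻¹ᵁ W) ξ' hξW').hom (coefTop _ s' he')) =
      Cyc.specMap (pullback.fst f i z) ξ' h c *
        (f.residueFieldMap ξ').hom
          (IsLocalRing.residue _ ((X.presheaf.germ W (f ξ') hξW).hom (coefTop L s he))) := by
    rw [hgerm, map_mul]
    rfl
  -- nonvanishing
  have hne' : (Submodule.Quotient.mk
      (((Scheme.Modules.pullback f).obj L).presheaf.germ ⊤ ξ' trivial s') :
        Cyc.secFibre ((Scheme.Modules.pullback f).obj L) ξ') ≠ 0 := by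
    intro h0
    apply hξ'
    rw [hD'.1]
    exact h0
  have hb0 : IsLocalRing.residue _
      ((X'.presheaf.germ (f ⁻¹ᵁ W) ξ' hξW').hom (coefTop _ s' he')) ≠ 0 := fun h0 =>
    hne' ((mk_germ_top_eq_zero_iff _ s' he' ξ' hξW').2 h0)
  have ha0 : IsLocalRing.residue _
      ((X.presheaf.germ W (f ξ') hξW).hom (coefTop L s he)) ≠ 0 := by
    intro h0
    apply hb0
    rw [hres, h0]
    erw [map_zero]
    rw [mul_zero]
    rfl
  have hne : (Submodule.Quotient.mk (L.presheaf.germ ⊤ (f ξ') trivial s) :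
      Cyc.secFibre L (f ξ')) ≠ 0 := fun h0 =>
    ha0 ((mk_germ_top_eq_zero_iff L s he (f ξ') hξW).1 h0)
  rw [gysinChoice_of_ne _ s' w' ξ' hne', gysinChoice_of_ne L s w (f ξ') hne,
    secOrdAt_eq_coord hfr' h hx'W, coord_mk_germ_top _ s' he' ξ' hξW',
    secOrdAt_pullFib f L hW e he h hxW, coord_mk_germ_top L s he (f ξ') hξW, hres]
  have hc0 : Cyc.specMap (pullback.fst f i z) ξ' h c ≠ 0 := by
    intro h0
    apply hb0
    rw [hres, h0, zero_mul]
    rfl
  have ha0' : (f.residueFieldMap ξ').hom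
      (IsLocalRing.residue _ ((X.presheaf.germ W (f ξ') hξW).hom (coefTop L s he))) ≠ 0 :=
    (map_ne_zero_iff _ (f.residueFieldMap ξ').hom.injective).2 ha0
  have hord := Groth.Agent.Lib.Seat28.FlatDiv.ordAt_specMap_of_isUnit (pullback.fst f i z) ξ' h c hc
  unfold Cyc.ordAt at hord ⊢
  rw [Groth.Agent.Lib.Seat28.OrdFrac.ordFrac_mul hc0 ha0', hord, zero_add]

end Agree


section Main

open Groth.Agent.Lib.Seat28.PullCyc

/-- **Gysin maps commute with flat pullback.** -/
theorem gysin_pullFun_ratEquiv (X X' D : Scheme.{u}) (δ : X → ℤ) (δ' : X' → ℤ)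
    (hX : Cyc.IsSetup X δ) (hX' : Cyc.IsSetup X' δ') (f : X' ⟶ X) [Flat f]
    [LocallyOfFiniteType f] (r : ℕ) (hr : Cyc.HasRelDim f r) (hδ : Cyc.DeltaCompat f δ' δ)
    (L : X.Modules) (hL : PicF.IsInvertible L) (s : L.presheaf.obj (Opposite.op ⊤)) (i : D ⟶ X)
    [IsClosedImmersion i] (hD : Cyc.IsZeroSchemeOf i L s)
    (s' : ((Scheme.Modules.pullback f).obj L).presheaf.obj (Opposite.op ⊤))
    (hD' : Cyc.IsZeroSchemeOf (pullback.fst f i) ((Scheme.Modules.pullback f).obj L) s') (k : ℤ)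
    (α : AlgebraicCycle X ℤ) (hα : α ∈ Cyc.Zk X δ (k + 1)) (w : (ξ : X) → Cyc.secFibre L ξ)
    (hw : ∀ ξ, w ξ ≠ 0)
    (w' : (ξ : X') → Cyc.secFibre ((Scheme.Modules.pullback f).obj L) ξ) (hw' : ∀ ξ, w' ξ ≠ 0)
    (ζ₁ ζ₂ : AlgebraicCycle (pullback f i) ℤ)
    (h₁ : ∀ z, ζ₁ z = Cyc.c1CapFun δ' ((Scheme.Modules.pullback f).obj L)
      (Cyc.pullFun f δ' δ r ⇑α) (Cyc.gysinChoice ((Scheme.Modules.pullback f).obj L) s' w')
      (pullback.fst f i z))
    (h₂ : ⇑ζ₂ = Cyc.pullFun (pullback.snd f i) (fun z => δ' (pullback.fst f i z))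
      (fun d => δ (i d)) r
      (fun d => Cyc.c1CapFun δ L ⇑α (Cyc.gysinChoice L s w) (i d))) :
    Cyc.RatEquiv (fun z => δ' (pullback.fst f i z)) (k + r) ζ₁ ζ₂ := by
  haveI hN' : IsLocallyNoetherian X' := hX'.1
  have hc : ∀ x' : X', (∀ y, f y = f x' → y ⤳ x' → y = x') → δ' x' = δ (f x') + (r : ℤ) :=
    fun x' hmax => Groth.Agent.Lib.Seat32.PullBC.delta_of_isFibMax f r hr δ' δ hδ x' hmax
  obtain ⟨β, hβeq⟩ := exists_cycle_pullFun f δ' δ hX'.2.2 (r : ℤ) hc α
  have hβk : β ∈ Cyc.Zk X' δ' (k + r + 1) := by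
    intro x' hx'
    rw [hβeq]
    unfold Cyc.pullFun
    split_ifs with hd
    · have : δ (f x') ≠ k + 1 := by
        intro hk
        apply hx'
        rw [hd, hk]
        ring
      rw [hα (f x') this, zero_mul]
    · rfl
  have hL' := isInvertible_pullback f L hL
  have hv := gysinChoice_ne_zero L s w hw
  refine ratEquiv_c1CapFun_restrict (pullback.fst f i) δ' hX' _ hL' (k + r) β hβk
    (Cyc.gysinChoice ((Scheme.Modules.pullback f).obj L) s' w')
    (gysinChoice_ne_zero _ s' w' hw')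
    (fun ξ' => pullFib f L ξ' (Cyc.gysinChoice L s w (f ξ')))
    (fun ξ' => pullFib_ne_zero f L hL ξ' (hv (f ξ')))
    (fun z ξ' h hξ' => secOrdAt_gysinChoice_eq f i L hL s hD s' hD' w w' z ξ' h hξ')
    ζ₁ ζ₂ ?_ ?_
  · intro z
    rw [h₁ z, hβeq]
  · intro z
    rw [h₂, pullFun_snd_eq f i δ δ' (r : ℤ) (Cyc.c1CapFun δ L ⇑α (Cyc.gysinChoice L s w)) z,
      pullFun_c1CapFun δ δ' hX hX' f (r : ℤ) hc k L hL α hα (Cyc.gysinChoice L s w) hv, hβeq]

end Main

end Groth.Agent.Lib.Seat28.GysinPull
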