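import Mathlib
import Groth.Prelude.Def_C1
import Groth.Agent.Lib.Seat28C1Pull
import Groth.Agent.Lib.Seat32MV
import Groth.Agent.Lib.Seat28GysinPull

/-!
# `c_1(L) ∩ -` and closed immersions (seat 28)

* `isUniversallyCatenary_of_surjective`, `isSetup_of_isClosedImmersion`: a closed subscheme of a setup `(X, δ)` is a
  setup for `δ ∘ ι`.
* `secOrdAt_closedImmersion`, `secDivFun_closedImmersion`, `secDivFun_eq_zero_of_notMem_range`: orders and divisors of
  rational sections of `L` at points of a closed subscheme, computed on the subscheme with `ι^*L`.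
* `c1CapFun_push_apply`, `c1CapFun_push_eq_zero`: `c_1(L) ∩ ι_* a = ι_*(c_1(ι^*L) ∩ a)` on the nose, with pulled back
  sections.
* `gysin_push_ratEquiv`: `i^* i_* α ∼ c_1(L|_D) ∩ α`.
-/

set_option autoImplicit false
set_option linter.unusedVariables false
set_option linter.style.haveILetI false
universe u
open AlgebraicGeometry CategoryTheory CategoryTheory.Limits TopologicalSpace Opposite IsLocalRing

namespace Groth.Agent.Lib.Seat28.ClosedC1

open Groth.Agent.Lib.Helper6 Groth.Agent.Lib.Helper23.SecTw Groth.Agent.Lib.Helper23.PB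
open Groth.Agent.Helper13PullbackUnit
open Groth.Agent.Lib.Seat28.C1Gen Groth.Agent.Lib.Seat28.C1Tensor Groth.Agent.Lib.Seat28.C1Inv
open Groth.Agent.Lib.Seat28.PullSec Groth.Agent.Lib.Seat28.C1Pull
open Groth.Agent.Lib.Seat32.MV

section Setup

/-- a quotient of a universally catenary ring is universally catenary. -/
theorem isUniversallyCatenary_of_surjective {R S : Type u} [CommRing R] [CommRing S] (π : R →+* S)
    (hπ : Function.Surjective π) (h : CAlg.IsUniversallyCatenary R) :
    CAlg.IsUniversallyCatenary S := by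
  haveI := h.1
  refine ⟨isNoetherianRing_of_surjective R S π hπ, ?_⟩
  intro T _ _ hT
  letI : Algebra R S := π.toAlgebra
  letI : Algebra R T := ((algebraMap S T).comp π).toAlgebra
  haveI : IsScalarTower R S T := IsScalarTower.of_algebraMap_eq (fun _ => rfl)
  have h1 : Algebra.FiniteType R S :=
    Algebra.FiniteType.of_surjective (Algebra.ofId R S) hπ
  exact h.2 T (Algebra.FiniteType.trans h1 hT)

variable {Y X : Scheme.{u}} (ι : Y ⟶ X) [IsClosedImmersion ι]

/-- a closed subscheme of a setup is a setup for the restricted dimension function. -/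
theorem isSetup_of_isClosedImmersion (δ : X → ℤ) (hX : Cyc.IsSetup X δ) :
    Cyc.IsSetup Y (fun y => δ (ι y)) := by
  haveI := hX.1
  refine ⟨LocallyOfFiniteType.isLocallyNoetherian ι, ?_, ?_⟩
  · intro y
    exact isUniversallyCatenary_of_surjective (ι.stalkMap y).hom (ι.stalkMap_surjective y)
      (hX.2.1 (ι y))
  · intro η y h hne
    have hne' : ι η ≠ ι y := fun h0 => hne (ι.isEmbedding.injective h0)
    have h1 := hX.2.2 (ι η) (ι y) (ι.base.hom.map_specializes h) hne'
    refine ⟨h1.1, fun himm => h1.2 ?_⟩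
    intro z' hz1 hz2
    obtain ⟨z, rfl⟩ := mem_range_of_specializes ι η z' hz1
    rcases himm z ((specializes_iff ι z η).1 hz1) ((specializes_iff ι y z).1 hz2) with h2 | h2
    · left; rw [h2]
    · right; rw [h2]

end Setup

section Dict

variable {Y X : Scheme.{u}} (ι : Y ⟶ X) [IsClosedImmersion ι] (L : X.Modules)
  (hL : PicF.IsInvertible L)

include hL in
/-- orders of rational sections along a closed immersion. -/
theorem secOrdAt_closedImmersion (η y : Y) (h : η ⤳ y) (v : Cyc.secFibre L (ι η)) :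
    Cyc.secOrdAt L (ι η) (ι y) (ι.base.hom.map_specializes h) v =
      Cyc.secOrdAt ((Scheme.Modules.pullback ι).obj L) η y h (pullFib ι L η v) := by
  haveI : L.IsQuasicoherent := isQuasicoherent_of_isInvertible L hL
  obtain ⟨W, e, hxW, hW, he⟩ := exists_affine_gen L hL (ι y)
  rw [secOrdAt_pullFib ι L hW e he h hxW v,
    secOrdAt_eq_coord (isFrame_of_isGen _ _ _ he) (ι.base.hom.map_specializes h) hxW v]
  exact ordAt_closedImmersion ι y η h _

include hL in
/-- divisors of rational sections along a closed immersion. -/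
theorem secDivFun_closedImmersion (δ : X → ℤ) (η y : Y) (v : Cyc.secFibre L (ι η)) :
    Cyc.secDivFun δ L (ι η) v (ι y) =
      Cyc.secDivFun (fun y => δ (ι y)) ((Scheme.Modules.pullback ι).obj L) η (pullFib ι L η v) y := by
  classical
  unfold Cyc.secDivFun
  by_cases h : η ⤳ y ∧ δ (ι y) + 1 = δ (ι η)
  · rw [dif_pos h, dif_pos ⟨ι.base.hom.map_specializes h.1, h.2⟩]
    exact secOrdAt_closedImmersion ι L hL η y h.1 v
  · rw [dif_neg h, dif_neg]
    rintro ⟨h1, h2⟩
    exact h ⟨(specializes_iff ι y η).1 h1, h2⟩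

theorem secDivFun_eq_zero_of_notMem_range (δ : X → ℤ) (η : Y) (v : Cyc.secFibre L (ι η)) (x : X)
    (hx : x ∉ Set.range ι) : Cyc.secDivFun δ L (ι η) v x = 0 := by
  unfold Cyc.secDivFun
  rw [dif_neg]
  rintro ⟨h1, -⟩
  exact hx (mem_range_of_specializes ι η x h1)

/-- reindexing a sum supported on the image of a closed immersion. -/
theorem finsum_eq_finsum_comp (f : X → ℤ) (hf : ∀ x, x ∉ Set.range ι → f x = 0) :
    ∑ᶠ x, f x = ∑ᶠ y, f (ι y) := by
  rw [← finsum_mem_range ι.isEmbedding.injective, ← finsum_mem_univ]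
  apply finsum_mem_inter_support_eq
  ext x
  simp only [Set.univ_inter, Set.mem_inter_iff, Function.mem_support, Set.mem_range]
  constructor
  · intro hx
    refine ⟨?_, hx⟩
    by_contra hn
    exact hx (hf x hn)
  · exact fun hx => hx.2

include hL in
/-- **`c_1(L) ∩ -` and pushforward along a closed immersion, at points of the subscheme.** -/
theorem c1CapFun_push_apply (δ : X → ℤ) (A : X → ℤ) (a : Y → ℤ) (hA1 : ∀ z, A (ι z) = a z)
    (hA2 : ∀ x, x ∉ Set.range ι → A x = 0) (v : (ξ : X) → Cyc.secFibre L ξ) (y : Y) :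
    Cyc.c1CapFun δ L A v (ι y) =
      Cyc.c1CapFun (fun y => δ (ι y)) ((Scheme.Modules.pullback ι).obj L) a
        (fun η => pullFib ι L η (v (ι η))) y := by
  unfold Cyc.c1CapFun
  rw [finsum_eq_finsum_comp ι _ (fun x hx => by rw [hA2 x hx, zero_mul])]
  apply finsum_congr
  intro η
  rw [hA1, secDivFun_closedImmersion ι L hL δ η y]

/-- **`c_1(L) ∩ -` and pushforward along a closed immersion, off the subscheme.** -/
theorem c1CapFun_push_eq_zero (δ : X → ℤ) (A : X → ℤ)
    (hA2 : ∀ x, x ∉ Set.range ι → A x = 0) (v : (ξ : X) → Cyc.secFibre L ξ) (x : X)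
    (hx : x ∉ Set.range ι) : Cyc.c1CapFun δ L A v x = 0 := by
  unfold Cyc.c1CapFun
  rw [finsum_eq_finsum_comp ι _ (fun x hx => by rw [hA2 x hx, zero_mul])]
  apply finsum_eq_zero_of_forall_eq_zero
  intro η
  rw [secDivFun_eq_zero_of_notMem_range ι L δ η _ x hx, mul_zero]

end Dict

section GysinPush

open Groth.Agent.Lib.Seat28.GysinPull

/-- **`i^* i_* α = c_1(L|_D) ∩ α`** for the Gysin map of `(L, s, i : D → X)`. -/
theorem gysin_push_ratEquiv (X D : Scheme.{u}) (δ : X → ℤ) (hX : Cyc.IsSetup X δ) (L : X.Modules)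
    (hL : PicF.IsInvertible L) (s : L.presheaf.obj (Opposite.op ⊤)) (i : D ⟶ X)
    [IsClosedImmersion i] (k : ℤ) (α : AlgebraicCycle D ℤ)
    (hα : α ∈ Cyc.Zk D (fun d => δ (i d)) k) (w : (ξ : X) → Cyc.secFibre L ξ) (hw : ∀ ξ, w ξ ≠ 0)
    (t : (d : D) → Cyc.secFibre ((Scheme.Modules.pullback i).obj L) d) (ht : ∀ d, t d ≠ 0)
    (ζ₁ ζ₂ : AlgebraicCycle D ℤ)
    (h₁ : ∀ d, ζ₁ d = Cyc.c1CapFun δ L ⇑(AlgebraicCycle.map i (fun d => δ (i d)) δ α)
      (Cyc.gysinChoice L s w) (i d))
    (h₂ : ⇑ζ₂ = Cyc.c1CapFun (fun d => δ (i d)) ((Scheme.Modules.pullback i).obj L) ⇑α t) :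
    Cyc.RatEquiv (fun d => δ (i d)) (k - 1) ζ₁ ζ₂ := by
  have hDsetup := isSetup_of_isClosedImmersion i δ hX
  have hA1 : ∀ z, AlgebraicCycle.map i (fun d => δ (i d)) δ α (i z) = α z :=
    fun z => map_apply_closedImmersion i _ δ (fun _ => rfl) α z
  have hA2 : ∀ x, x ∉ Set.range i → AlgebraicCycle.map i (fun d => δ (i d)) δ α x = 0 :=
    fun x hx => map_apply_of_notMem_range i _ δ α x hx
  have h₁' : ⇑ζ₁ = Cyc.c1CapFun (fun d => δ (i d)) ((Scheme.Modules.pullback i).obj L) ⇑α
      (fun η => pullFib i L η (Cyc.gysinChoice L s w (i η))) := by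
    funext d
    rw [h₁ d]
    exact c1CapFun_push_apply i L hL δ _ _ hA1 hA2 _ d
  have hαk : α ∈ Cyc.Zk D (fun d => δ (i d)) (k - 1 + 1) := by rwa [sub_add_cancel]
  exact ratEquiv_c1CapFun _ hDsetup _ (isInvertible_pullback i L hL) (k - 1) α hαk _
    (fun η => pullFib_ne_zero i L hL η (gysinChoice_ne_zero L s w hw (i η))) t ht ζ₁ ζ₂ h₁' h₂

end GysinPush

end Groth.Agent.Lib.Seat28.ClosedC1
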