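import Mathlib.CategoryTheory.Adjunction.Mates
import Mathlib.CategoryTheory.Adjunction.Additive
import Mathlib.Algebra.Homology.ShortComplex.ShortExact
import Mathlib.CategoryTheory.Preadditive.Injective.Basic
import Mathlib.CategoryTheory.Abelian.Injective.Basic

/-!
# Conjugate (mate) short exact sequences of adjoint functors (seat 28)

If `𝟭 → R_U ⊞ R_V → R_W` is short exact on injective objects, then the conjugate sequence of left
adjoints `L_W → L_U ⊞ L_V → 𝟭` is short exact on all objects.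
-/

set_option autoImplicit false
set_option linter.style.haveILetI false
set_option linter.unusedSectionVars false
universe v u
open CategoryTheory CategoryTheory.Limits

namespace Groth.Agent.Lib.Seat28.Conj

section Criterion

variable {𝒜 : Type u} [Category.{v} 𝒜] [Abelian 𝒜] [EnoughInjectives 𝒜]

/-- a short complex is short exact as soon as `Hom(-, I)` makes it short exact for all injective `I`. -/
lemma shortExact_of_hom_injective (S : ShortComplex 𝒜)
    (h1 : ∀ (I : 𝒜), Injective I → ∀ (φ : S.X₁ ⟶ I), ∃ ψ : S.X₂ ⟶ I, S.f ≫ ψ = φ)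
    (h2 : ∀ (I : 𝒜), Injective I → ∀ (ψ : S.X₂ ⟶ I), S.f ≫ ψ = 0 → ∃ χ : S.X₃ ⟶ I, S.g ≫ χ = ψ)
    (h3 : ∀ (I : 𝒜), Injective I → ∀ (χ : S.X₃ ⟶ I), S.g ≫ χ = 0 → χ = 0) : S.ShortExact := by
  have hmono : Mono S.f := by
    refine Preadditive.mono_of_cancel_zero _ (fun {Z} h hh => ?_)
    obtain ⟨ψ, hψ⟩ := h1 _ inferInstance (Injective.ι S.X₁)
    have : h ≫ Injective.ι S.X₁ = 0 := by rw [← hψ, ← Category.assoc, hh, zero_comp]
    exact (cancel_mono (Injective.ι S.X₁)).1 (by rw [this, zero_comp])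
  have hepi : Epi S.g := by
    refine Preadditive.epi_of_cancel_zero _ (fun {Z} χ hχ => ?_)
    have : χ ≫ Injective.ι Z = 0 :=
      h3 _ inferInstance (χ ≫ Injective.ι Z) (by rw [← Category.assoc, hχ, zero_comp])
    exact (cancel_mono (Injective.ι Z)).1 (by rw [this, zero_comp])
  have hex : S.Exact := by
    rw [S.exact_iff_mono_fromOpcycles]
    refine Preadditive.mono_of_cancel_zero _ (fun {Z} h hh => ?_)
    obtain ⟨χ, hχ⟩ := h2 _ inferInstance (S.pOpcycles ≫ Injective.ι S.opcycles)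
      (by rw [← Category.assoc, S.f_pOpcycles, zero_comp])
    have h4 : S.fromOpcycles ≫ χ = Injective.ι S.opcycles := by
      rw [← cancel_epi S.pOpcycles, ← hχ, ← Category.assoc, S.p_fromOpcycles]
    have : h ≫ Injective.ι S.opcycles = 0 := by rw [← h4, ← Category.assoc, hh, zero_comp]
    exact (cancel_mono (Injective.ι S.opcycles)).1 (by rw [this, zero_comp])
  exact ShortComplex.ShortExact.mk hex

end Criterion

section Hom

variable {C : Type*} [Category C] {D : Type*} [Category D]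
  {L₁ L₂ : C ⥤ D} {R₁ R₂ : D ⥤ C} (adj₁ : L₁ ⊣ R₁) (adj₂ : L₂ ⊣ R₂)

/-- the hom-set description of conjugate natural transformations. -/
lemma homEquiv_conjugate_symm (α : R₁ ⟶ R₂) {c : C} {d : D} (g : L₁.obj c ⟶ d) :
    adj₂.homEquiv c d (((conjugateEquiv adj₁ adj₂).symm α).app c ≫ g) =
      adj₁.homEquiv c d g ≫ α.app d := by
  rw [Adjunction.homEquiv_unit, Adjunction.homEquiv_unit, Functor.map_comp, ← Category.assoc,
    ← unit_conjugateEquiv_symm, Category.assoc, Category.assoc, α.naturality]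

end Hom

section Main

variable {𝒜 : Type u} [Category.{v} 𝒜] [Abelian 𝒜] [EnoughInjectives 𝒜]
  {LU LV LW RU RV RW : 𝒜 ⥤ 𝒜} [LU.Additive] [LV.Additive] [LW.Additive]
  (aU : LU ⊣ RU) (aV : LV ⊣ RV) (aW : LW ⊣ RW)

/-- the conjugate of `η : 𝟭 ⟶ R`. -/
noncomputable def εOf {L R : 𝒜 ⥤ 𝒜} (a : L ⊣ R) (η : 𝟭 𝒜 ⟶ R) : L ⟶ 𝟭 𝒜 :=
  (conjugateEquiv Adjunction.id a).symm η

/-- the conjugate of `ρ : R ⟶ R'`. -/
noncomputable def σOf {L R L' R' : 𝒜 ⥤ 𝒜} (a : L ⊣ R) (a' : L' ⊣ R') (ρ : R ⟶ R') : L' ⟶ L :=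
  (conjugateEquiv a a').symm ρ

lemma homEquiv_εOf {L R : 𝒜 ⥤ 𝒜} (a : L ⊣ R) (η : 𝟭 𝒜 ⟶ R) {M N : 𝒜} (g : M ⟶ N) :
    a.homEquiv M N ((εOf a η).app M ≫ g) = g ≫ η.app N := by
  have h := homEquiv_conjugate_symm Adjunction.id a η (c := M) (d := N) g
  have h' : Adjunction.id.homEquiv M N g = g := by
    rw [Adjunction.homEquiv_unit]
    simp
  rw [h'] at h
  exact h

lemma homEquiv_σOf {L R L' R' : 𝒜 ⥤ 𝒜} (a : L ⊣ R) (a' : L' ⊣ R') (ρ : R ⟶ R') {M N : 𝒜}
    (g : L.obj M ⟶ N) :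
    a'.homEquiv M N ((σOf a a' ρ).app M ≫ g) = a.homEquiv M N g ≫ ρ.app N :=
  homEquiv_conjugate_symm a a' ρ g

variable (ηU : 𝟭 𝒜 ⟶ RU) (ηV : 𝟭 𝒜 ⟶ RV) (ρU : RU ⟶ RW) (ρV : RV ⟶ RW)

include aU aV aW in
lemma σ_ε_eq (hη : ηU ≫ ρU = ηV ≫ ρV) (M : 𝒜) :
    (σOf aU aW ρU).app M ≫ (εOf aU ηU).app M = (σOf aV aW ρV).app M ≫ (εOf aV ηV).app M := by
  apply (aW.homEquiv M M).injective
  rw [homEquiv_σOf, homEquiv_σOf]
  have h1 : aU.homEquiv M M ((εOf aU ηU).app M) = ηU.app M := by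
    have := homEquiv_εOf aU ηU (𝟙 M)
    simpa using this
  have h2 : aV.homEquiv M M ((εOf aV ηV).app M) = ηV.app M := by
    have := homEquiv_εOf aV ηV (𝟙 M)
    simpa using this
  rw [h1, h2]
  exact congrArg (fun t => NatTrans.app t M) hη

/-- the conjugate sequence `L_W M ⟶ L_U M ⊞ L_V M ⟶ M`. -/
noncomputable def conjSC (hη : ηU ≫ ρU = ηV ≫ ρV) (M : 𝒜) : ShortComplex 𝒜 :=
  ShortComplex.mk
    (biprod.lift ((σOf aU aW ρU).app M) ((σOf aV aW ρV).app M))
    (biprod.fst ≫ (εOf aU ηU).app M - biprod.snd ≫ (εOf aV ηV).app M)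
    (by
      rw [Preadditive.comp_sub, biprod.lift_fst_assoc, biprod.lift_snd_assoc,
        σ_ε_eq aU aV aW ηU ηV ρU ρV hη M, sub_self])

theorem conjSC_shortExact (hη : ηU ≫ ρU = ηV ≫ ρV)
    (hex : ∀ I : 𝒜, Injective I → ∀ hz,
      (ShortComplex.mk (biprod.lift (ηU.app I) (ηV.app I))
        (biprod.fst ≫ ρU.app I - biprod.snd ≫ ρV.app I) hz).ShortExact)
    (M : 𝒜) : (conjSC aU aV aW ηU ηV ρU ρV hη M).ShortExact := by
  have hzI : ∀ I : 𝒜, biprod.lift (ηU.app I) (ηV.app I) ≫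
      (biprod.fst ≫ ρU.app I - biprod.snd ≫ ρV.app I) = 0 := by
    intro I
    rw [Preadditive.comp_sub, biprod.lift_fst_assoc, biprod.lift_snd_assoc]
    have := congrArg (fun t => NatTrans.app t I) hη
    simp only [NatTrans.comp_app] at this
    rw [this, sub_self]
  let f' : LW.obj M ⟶ LU.obj M ⊞ LV.obj M :=
    biprod.lift ((σOf aU aW ρU).app M) ((σOf aV aW ρV).app M)
  let g' : LU.obj M ⊞ LV.obj M ⟶ M :=
    biprod.fst ≫ (εOf aU ηU).app M - biprod.snd ≫ (εOf aV ηV).app M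
  have hinl : biprod.inl ≫ g' = (εOf aU ηU).app M := by
    simp [g']
  have hinr : biprod.inr ≫ g' = -(εOf aV ηV).app M := by
    simp [g']
  have hdec : ∀ {I : 𝒜} (ψ : LU.obj M ⊞ LV.obj M ⟶ I), f' ≫ ψ =
      (σOf aU aW ρU).app M ≫ biprod.inl ≫ ψ + (σOf aV aW ρV).app M ≫ biprod.inr ≫ ψ := by
    intro I ψ
    rw [show f' = _ from biprod.lift_eq, Preadditive.add_comp, Category.assoc, Category.assoc]
  have H1 : ∀ (I : 𝒜), Injective I → ∀ (φ : LW.obj M ⟶ I),
      ∃ ψ : LU.obj M ⊞ LV.obj M ⟶ I, f' ≫ ψ = φ := by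
    intro I hI φ
    have hS := hex I hI (hzI I)
    haveI : Injective (ShortComplex.mk (biprod.lift (ηU.app I) (ηV.app I))
        (biprod.fst ≫ ρU.app I - biprod.snd ≫ ρV.app I) (hzI I)).X₁ := hI
    let sp := hS.splittingOfInjective
    let t := aW.homEquiv M I φ
    let θ : M ⟶ RU.obj I ⊞ RV.obj I := t ≫ sp.s
    have hθ : θ ≫ (biprod.fst ≫ ρU.app I - biprod.snd ≫ ρV.app I) = t := by
      have := sp.s_g
      dsimp at this
      rw [Category.assoc, this, Category.comp_id]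
    refine ⟨biprod.desc ((aU.homEquiv M I).symm (θ ≫ biprod.fst))
      ((aV.homEquiv M I).symm (-(θ ≫ biprod.snd))), ?_⟩
    apply (aW.homEquiv M I).injective
    show aW.homEquiv M I (f' ≫ _) = t
    rw [hdec, biprod.inl_desc, biprod.inr_desc, Adjunction.homAddEquiv_add, homEquiv_σOf,
      homEquiv_σOf, Equiv.apply_symm_apply, Equiv.apply_symm_apply, ← hθ]
    simp only [Preadditive.comp_sub, Preadditive.neg_comp, Category.assoc]
    abel
  have H2 : ∀ (I : 𝒜), Injective I → ∀ (ψ : LU.obj M ⊞ LV.obj M ⟶ I), f' ≫ ψ = 0 →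
      ∃ χ : M ⟶ I, g' ≫ χ = ψ := by
    intro I hI ψ hψ
    have hS := hex I hI (hzI I)
    haveI : Mono (ShortComplex.mk (biprod.lift (ηU.app I) (ηV.app I))
        (biprod.fst ≫ ρU.app I - biprod.snd ≫ ρV.app I) (hzI I)).f := hS.mono_f
    let tU := aU.homEquiv M I (biprod.inl ≫ ψ)
    let tV := aV.homEquiv M I (biprod.inr ≫ ψ)
    have h0 : tU ≫ ρU.app I + tV ≫ ρV.app I = 0 := by
      have := congrArg (aW.homEquiv M I) hψ
      rw [Adjunction.homAddEquiv_zero, hdec, Adjunction.homAddEquiv_add, homEquiv_σOf,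
        homEquiv_σOf] at this
      exact this
    let θ : M ⟶ RU.obj I ⊞ RV.obj I := biprod.lift tU (-tV)
    have hθ : θ ≫ (biprod.fst ≫ ρU.app I - biprod.snd ≫ ρV.app I) = 0 := by
      rw [Preadditive.comp_sub, biprod.lift_fst_assoc, biprod.lift_snd_assoc, Preadditive.neg_comp,
        sub_neg_eq_add, h0]
    let χ : M ⟶ I := hS.exact.lift θ hθ
    have hχ : χ ≫ biprod.lift (ηU.app I) (ηV.app I) = θ := hS.exact.lift_f θ hθ
    have hχU : χ ≫ ηU.app I = tU := by
      have := congrArg (fun k => k ≫ biprod.fst) hχ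
      simpa [θ] using this
    have hχV : χ ≫ ηV.app I = -tV := by
      have := congrArg (fun k => k ≫ biprod.snd) hχ
      simpa [θ] using this
    refine ⟨χ, ?_⟩
    apply biprod.hom_ext'
    · rw [← Category.assoc, hinl]
      apply (aU.homEquiv M I).injective
      rw [homEquiv_εOf, hχU]
    · rw [← Category.assoc, hinr, Preadditive.neg_comp]
      apply (aV.homEquiv M I).injective
      rw [Adjunction.homAddEquiv_neg, homEquiv_εOf, hχV, neg_neg]
  have H3 : ∀ (I : 𝒜), Injective I → ∀ (χ : M ⟶ I), g' ≫ χ = 0 → χ = 0 := by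
    intro I hI χ hχ
    have hS := hex I hI (hzI I)
    haveI : Mono (ShortComplex.mk (biprod.lift (ηU.app I) (ηV.app I))
        (biprod.fst ≫ ρU.app I - biprod.snd ≫ ρV.app I) (hzI I)).f := hS.mono_f
    have hU : χ ≫ ηU.app I = 0 := by
      rw [← homEquiv_εOf aU ηU χ, ← hinl, Category.assoc, hχ, comp_zero,
        Adjunction.homAddEquiv_zero]
    have hV : χ ≫ ηV.app I = 0 := by
      have h' : (εOf aV ηV).app M ≫ χ = 0 := by
        have := congrArg (fun k => biprod.inr ≫ k) hχ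
        simp only [comp_zero] at this
        rw [← Category.assoc, hinr, Preadditive.neg_comp, neg_eq_zero] at this
        exact this
      rw [← homEquiv_εOf aV ηV χ, h', Adjunction.homAddEquiv_zero]
    have h0 : χ ≫ biprod.lift (ηU.app I) (ηV.app I) = 0 := by
      apply biprod.hom_ext
      · rw [Category.assoc, biprod.lift_fst, hU, zero_comp]
      · rw [Category.assoc, biprod.lift_snd, hV, zero_comp]
    exact (cancel_mono (biprod.lift (ηU.app I) (ηV.app I))).1 (by rw [h0, zero_comp])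
  exact shortExact_of_hom_injective _ H1 H2 H3

end Main

end Groth.Agent.Lib.Seat28.Conj
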