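import Groth.Agent.Lib.Seat28RD2
import Groth.Agent.Lib.Helper1Sky8
import Groth.Agent.Lib.Helper1CI9

/-!
# The derived adjunction `Lf^* ⊣ Rf_*` on unbounded derived categories of `O`-modules of schemes (seat 28)

`lpullRpushAdj f : DCoh.Lpull f ⊣ DCoh.Rpush f`, from Mathlib's `Adjunction.derived`, helper1's K-flat resolutions and
helper17's K-injective resolutions.
-/

set_option autoImplicit false
set_option linter.style.haveILetI false
universe u
open CategoryTheory CategoryTheory.Limits AlgebraicGeometry HomologicalComplex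
open Groth.Agent.Lib.Helper17.KInj Groth.Agent.Lib.Helper1.Sky Groth.Agent.Lib.Helper1.CI
  Groth.Agent.Lib.Helper1.BKF

attribute [local instance] HasDerivedCategory.standard

namespace Groth.Agent.Lib.Seat28.RD

section PostGen

universe w w₁ w₂ v v' u₁ u'

variable {A : Type u₁} [Category.{v} A] [Abelian A] {B : Type u'} [Category.{v'} B] [Abelian B]
  [IsGrothendieckAbelian.{w} B] [HasDerivedCategory.{w₁} A] [HasDerivedCategory.{w₂} B]
  (G : B ⥤ A) [G.Additive]
  [(Kh G).HasRightDerivedFunctor (HomotopyCategory.quasiIso B (ComplexShape.up ℤ))]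
  {H : Type*} [Category H] (Ψ : DerivedCategory A ⥤ H)

/-- post-composition of a total right derived functor with any functor (absoluteness). -/
lemma isRightDerivedFunctor_postGen :
    (RFun G ⋙ Ψ).IsRightDerivedFunctor
      (Functor.whiskerRight (unitC G) Ψ ≫ (Functor.associator _ _ _).hom)
      (HomologicalComplex.quasiIso B (ComplexShape.up ℤ)) := by
  refine isRightDerivedFunctor_of_isIso_fibrant.{w} _
    (isInvertedBy_comp (isInvertedBy_mapHomologicalComplex_comp_Q G) Ψ) _ _
    (fun I hI => ?_)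
  haveI := hI.isKInjective
  haveI := isIso_unitC_app.{w} G I
  dsimp
  rw [Category.comp_id]
  infer_instance

end PostGen

section Adj

variable {X Y : Scheme.{u}} (f : X ⟶ Y) [DCoh.HasLpull f]

/-- the counit of `Lf^*` relative to the localization functors `Q`. -/
noncomputable def lpullCounitQ :
    DerivedCategory.Q ⋙ DCoh.Lpull f ⟶ pullC f ⋙ DerivedCategory.Q :=
  Functor.whiskerRight (DerivedCategory.quotientCompQhIso Y.Modules).inv (DCoh.Lpull f) ≫
    lpullCounit f ≫ (facIso f).hom ≫
    Functor.whiskerLeft (pullC f) (DerivedCategory.quotientCompQhIso X.Modules).hom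

lemma isIso_lpullCounitQ_app (E : CochainComplex Y.Modules ℤ) (hE : KFFs E) :
    IsIso ((lpullCounitQ f).app E) := by
  haveI := isIso_lpullCounit_app f E hE
  dsimp [lpullCounitQ]
  infer_instance

/-- the data of functorial K-flat resolutions with flat terms on `Y`. -/
lemma exists_kffs_resolution (Y : Scheme.{u}) :
    ∃ (R : CochainComplex Y.Modules ℤ ⥤ CochainComplex Y.Modules ℤ)
      (ψ : R ⟶ 𝟭 (CochainComplex Y.Modules ℤ)),
      (∀ G, KFFs (R.obj G)) ∧
      ∀ G, HomologicalComplex.quasiIso Y.Modules (ComplexShape.up ℤ) (ψ.app G) := by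
  obtain ⟨R, ψ, h⟩ := exists_functorial_kflat_flat_resolution Y.sheaf
  exact ⟨R, ψ, fun G => ⟨(h G).1, (h G).2.1⟩, fun G => (h G).2.2.1⟩

omit [DCoh.HasLpull f] in
lemma isIso_pullC_Q_map {E E' : CochainComplex Y.Modules ℤ} (q : E ⟶ E')
    (hE : KFFs E) (hE' : KFFs E')
    (hq : HomologicalComplex.quasiIso Y.Modules (ComplexShape.up ℤ) q) :
    IsIso ((pullC f ⋙ DerivedCategory.Q).map q) := by
  haveI : QuasiIso q := hq
  have h1 : QuasiIso ((pullC f).map q) := quasiIso_pullC_map f q hE hE'
  dsimp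
  rw [DerivedCategory.isIso_Q_map_iff_quasiIso]
  exact h1

instance isLeftDerivedFunctor_lpullQ :
    (DCoh.Lpull f).IsLeftDerivedFunctor (lpullCounitQ f)
      (HomologicalComplex.quasiIso Y.Modules (ComplexShape.up ℤ)) := by
  obtain ⟨R, ψ, hρ, hπ⟩ := exists_kffs_resolution Y
  exact isLeftDerivedFunctor_of_isIso_app
    (HomologicalComplex.quasiIso Y.Modules (ComplexShape.up ℤ)) DerivedCategory.Q
    (pullC f ⋙ DerivedCategory.Q) (fun E => KFFs E) R ψ hρ hπ
    (fun {E E'} q hE hE' hq => isIso_pullC_Q_map f q hE hE' hq)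
    (DCoh.Lpull f) (lpullCounitQ f) (fun E hE => isIso_lpullCounitQ_app f E hE)

/-- absoluteness of `Lf^*`. -/
lemma isLeftDerivedFunctor_lpullQ_comp {H : Type*} [Category H] (Ψ : DCoh.D X ⥤ H) :
    (DCoh.Lpull f ⋙ Ψ).IsLeftDerivedFunctor
      ((Functor.associator _ _ _).inv ≫ Functor.whiskerRight (lpullCounitQ f) Ψ)
      (HomologicalComplex.quasiIso Y.Modules (ComplexShape.up ℤ)) := by
  obtain ⟨R, ψ, hρ, hπ⟩ := exists_kffs_resolution Y
  refine isLeftDerivedFunctor_of_isIso_app
    (HomologicalComplex.quasiIso Y.Modules (ComplexShape.up ℤ)) DerivedCategory.Q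
    ((pullC f ⋙ DerivedCategory.Q) ⋙ Ψ) (fun E => KFFs E) R ψ hρ hπ
    (fun {E E'} q hE hE' hq => ?_)
    (DCoh.Lpull f ⋙ Ψ) _ (fun E hE => ?_)
  · haveI := isIso_pullC_Q_map f q hE hE' hq
    exact inferInstanceAs (IsIso (Ψ.map ((pullC f ⋙ DerivedCategory.Q).map q)))
  · haveI := isIso_lpullCounitQ_app f E hE
    dsimp
    rw [Category.id_comp]
    infer_instance

variable [DCoh.HasRpush f]

/-- the derived adjunction `Lf^* ⊣ Rf_*` on unbounded derived categories of `O`-modules. -/
noncomputable def lpullRpushAdj : DCoh.Lpull f ⊣ DCoh.Rpush f :=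
  haveI := isLeftDerivedFunctor_lpullQ_comp f (DCoh.Rpush f)
  haveI := isRightDerivedFunctor_postGen.{u} (Scheme.Modules.pushforward f) (DCoh.Lpull f)
  (Groth.Agent.Lib.Helper17.SerreLoc.adjHC (Scheme.Modules.pullbackPushforwardAdjunction f) (ComplexShape.up ℤ)).derived
    (HomologicalComplex.quasiIso Y.Modules (ComplexShape.up ℤ))
    (HomologicalComplex.quasiIso X.Modules (ComplexShape.up ℤ))
    (lpullCounitQ f) (unitC (Scheme.Modules.pushforward f))

end Adj

end Groth.Agent.Lib.Seat28.RD
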