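import Groth.Agent.Lib.Helper20OmegaUnr
import Groth.Agent.Lib.Helper17AdjWay1
import Groth.Prelude.Def_CxOX

/-!
# Supports, stalks and restriction to opens, on modules and in the derived category (seat 28)
-/

set_option autoImplicit false
set_option linter.style.haveILetI false
universe u
open CategoryTheory CategoryTheory.Limits AlgebraicGeometry Opposite

attribute [local instance] HasDerivedCategory.standard

namespace Groth.Agent.Lib.Seat28.Supp

variable {X : Scheme.{u}}

/-- a module with vanishing stalks is zero. -/
theorem isZero_of_subsingleton_stalk (M : X.Modules)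
    (h : ∀ x : X, Subsingleton (M.presheaf.stalk x)) : IsZero M := by
  refine Groth.Agent.Lib.Helper20.OmegaUnr.isZero_of_basis M Set.univ ?_ ?_
  · rw [TopologicalSpace.Opens.isBasis_iff_nbhd]
    intro U x hx
    exact ⟨U, trivial, hx, le_rfl⟩
  · intro U _
    refine ⟨fun s t => ?_⟩
    refine TopCat.Presheaf.section_ext ⟨M.presheaf, M.isSheaf⟩ U s t fun x hx => ?_
    haveI := h x
    exact Subsingleton.elim _ _

/-- stalks of the restriction to an open. -/
lemma subsingleton_stalk_restrict (W : X.Opens) (M : X.Modules) (y : (W : Scheme.{u}))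
    (h : Subsingleton (M.presheaf.stalk (W.ι y))) :
    Subsingleton (((Scheme.Modules.restrictFunctor W.ι).obj M).presheaf.stalk y) := by
  let e := (Scheme.Modules.restrictStalkNatIso W.ι y).app M
  refine ⟨fun a b => ?_⟩
  have hab : e.hom a = e.hom b := Subsingleton.elim (α := M.presheaf.stalk (W.ι y)) _ _
  have h1 : ∀ c, e.inv (e.hom c) = c := fun c => by
    rw [← ConcreteCategory.comp_apply, e.hom_inv_id]
    rfl
  rw [← h1 a, ← h1 b, hab]

lemma isZero_restrict (W : X.Opens) (M : X.Modules)
    (h : ∀ x ∈ W, Subsingleton (M.presheaf.stalk x)) :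
    IsZero ((Scheme.Modules.restrictFunctor W.ι).obj M) :=
  isZero_of_subsingleton_stalk _ fun y =>
    subsingleton_stalk_restrict W M y (h _ (Subtype.property (p := fun x : X => x ∈ W) y))

/-- an object of the derived category with vanishing cohomology is zero. -/
lemma isZero_of_HD {A : Type*} [Category A] [Abelian A] [HasDerivedCategory A]
    (E : DerivedCategory A)
    (h : ∀ i : ℤ, IsZero ((DerivedCategory.homologyFunctor A i).obj E)) : IsZero E := by
  haveI : E.IsLE 0 := by
    rw [DerivedCategory.isLE_iff]
    intro i _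
    exact h i
  haveI : E.IsGE 1 := by
    rw [DerivedCategory.isGE_iff]
    intro i _
    exact h i
  exact DerivedCategory.TStructure.t.isZero E 0 1 (by omega)

lemma isZero_restrictD (W : X.Opens) (E : DCoh.D X)
    (h : ∀ (i : ℤ), ∀ x ∈ W, Subsingleton ((DCoh.HD E i).presheaf.stalk x)) :
    IsZero ((DCoh.restrictD W.ι).obj E) :=
  isZero_of_HD _ fun i =>
    IsZero.of_iso (isZero_restrict W _ (h i))
      (Groth.Agent.Lib.Helper17.AdjWay.homologyIso (Scheme.Modules.restrictFunctor W.ι) E i)

end Groth.Agent.Lib.Seat28.Supp
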