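import Mathlib
import Groth.Agent.Lib.Helper20StalkExact

/-!
# The Mayer–Vietoris short exact sequence of sheaves of modules (seat 28)

For a scheme `X` covered by two opens `U`, `V` and an `O_X`-module `M`:
`0 → M → j_{U*}(M|_U) ⊕ j_{V*}(M|_V) → j_{W*}(M|_W) → 0` with `W = U ⊓ V`, functorially in `M`.
-/

set_option autoImplicit false
set_option linter.style.haveILetI false
universe u
open CategoryTheory CategoryTheory.Limits AlgebraicGeometry Opposite TopologicalSpace

namespace Groth.Agent.Lib.Seat28.MVSheaf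

variable {X : Scheme.{u}}

/-- `T_U = j_{U*} ∘ (-)|_U`. -/
noncomputable abbrev TT (U : X.Opens) : X.Modules ⥤ X.Modules :=
  Scheme.Modules.restrictFunctor U.ι ⋙ Scheme.Modules.pushforward U.ι

/-- the unit `M ⟶ j_{U*}(M|_U)`. -/
noncomputable abbrev ηη (U : X.Opens) : 𝟭 X.Modules ⟶ TT U :=
  (Scheme.Modules.restrictAdjunction U.ι).unit

/-- the open `U ⊓ O` in the form in which it appears in sections of `T_U M`. -/
abbrev cut (U O : X.Opens) : X.Opens := U.ι ''ᵁ (U.ι ⁻¹ᵁ O)

lemma cut_eq (U O : X.Opens) : cut U O = U ⊓ O := by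
  rw [cut, Scheme.Hom.image_preimage_eq_opensRange_inf, Scheme.Opens.opensRange_ι]

lemma cut_le (U O : X.Opens) : cut U O ≤ O := U.ι.image_preimage_le O

lemma ηη_app_app (U : X.Opens) (M : X.Modules) (O : X.Opens) :
    ((ηη U).app M).app O = M.presheaf.map (homOfLE (cut_le U O)).op := rfl

lemma TT_map_app (U : X.Opens) {M N : X.Modules} (φ : M ⟶ N) (O : X.Opens) :
    ((TT U).map φ).app O = φ.app (cut U O) := rfl

lemma TT_obj_map (U : X.Opens) (M : X.Modules) {O O' : X.Opens} (i : O ⟶ O') :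
    ((TT U).obj M).presheaf.map i.op =
      M.presheaf.map (homOfLE (show cut U O ≤ cut U O' from
        U.ι.image_mono (U.ι.preimage_mono (leOfHom i)))).op := rfl

lemma isIso_map_of_eq (M : X.Modules) {O O' : X.Opens} (i : O ⟶ O') (h : O = O') :
    IsIso (M.presheaf.map i.op) := by
  subst h
  have : i = 𝟙 _ := Subsingleton.elim _ _
  rw [this]
  simp only [op_id, CategoryTheory.Functor.map_id]
  infer_instance

lemma map_comp_eq (M : X.Modules) {O₁ O₂ O₃ : X.Opens} (i : O₂ ⟶ O₁) (j : O₃ ⟶ O₂) (k : O₃ ⟶ O₁) :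
    M.presheaf.map i.op ≫ M.presheaf.map j.op = M.presheaf.map k.op := by
  rw [← Functor.map_comp, ← op_comp]
  congr 1

lemma map_map_apply (M : X.Modules) {O₁ O₂ O₃ : X.Opens} (i : O₂ ⟶ O₁) (j : O₃ ⟶ O₂)
    (k : O₃ ⟶ O₁) (s : Γ(M, O₁)) :
    M.presheaf.map j.op (M.presheaf.map i.op s) = M.presheaf.map k.op s := by
  rw [← map_comp_eq M i j k]
  rfl

/-- sections of `T_U M` over `O` are sections of `M` over `U ⊓ O`. -/
noncomputable def secIso (U : X.Opens) (M : X.Modules) (O : X.Opens) :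
    Γ((TT U).obj M, O) ≅ Γ(M, cut U O) := Iso.refl _

lemma ηη_sec (U : X.Opens) (M : X.Modules) (O : X.Opens) :
    ((ηη U).app M).app O ≫ (secIso U M O).hom = M.presheaf.map (homOfLE (cut_le U O)).op := rfl

lemma TT_map_sec (U : X.Opens) {M N : X.Modules} (φ : M ⟶ N) (O : X.Opens) :
    ((TT U).map φ).app O ≫ (secIso U N O).hom = (secIso U M O).hom ≫ φ.app (cut U O) := rfl

lemma cut_mono_right (U : X.Opens) {O O' : X.Opens} (h : O ≤ O') : cut U O ≤ cut U O' :=
  U.ι.image_mono (U.ι.preimage_mono h)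

lemma TT_res_sec (U : X.Opens) (M : X.Modules) {O O' : X.Opens} (i : O ⟶ O') :
    ((TT U).obj M).presheaf.map i.op ≫ (secIso U M O).hom =
      (secIso U M O').hom ≫ M.presheaf.map (homOfLE (cut_mono_right U (leOfHom i))).op := rfl

lemma isIso_TT_map_ηη {U W : X.Opens} (h : W ≤ U) (M : X.Modules) :
    IsIso ((TT W).map ((ηη U).app M)) := by
  rw [Scheme.Modules.Hom.isIso_iff_isIso_app]
  intro O
  rw [TT_map_app, ηη_app_app]
  apply isIso_map_of_eq
  rw [cut_eq, cut_eq]
  exact inf_eq_right.2 (inf_le_left.trans h)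

/-- the restriction map `j_{U*}(M|_U) ⟶ j_{W*}(M|_W)` for `W ≤ U`. -/
noncomputable def ρρ {U W : X.Opens} (h : W ≤ U) : TT U ⟶ TT W where
  app M :=
    haveI := isIso_TT_map_ηη h M
    (ηη W).app ((TT U).obj M) ≫ inv ((TT W).map ((ηη U).app M))
  naturality M N φ := by
    haveI := isIso_TT_map_ηη h M
    haveI := isIso_TT_map_ηη h N
    have h1 : (TT U).map φ ≫ (ηη W).app ((TT U).obj N) =
        (ηη W).app ((TT U).obj M) ≫ (TT W).map ((TT U).map φ) :=
      (ηη W).naturality ((TT U).map φ)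
    have h2 : (TT W).map φ ≫ (TT W).map ((ηη U).app N) =
        (TT W).map ((ηη U).app M) ≫ (TT W).map ((TT U).map φ) := by
      rw [← Functor.map_comp, ← Functor.map_comp]
      exact congrArg (TT W).map ((ηη U).naturality φ)
    have h3 : (TT W).map ((TT U).map φ) ≫ inv ((TT W).map ((ηη U).app N)) =
        inv ((TT W).map ((ηη U).app M)) ≫ (TT W).map φ := by
      rw [IsIso.eq_inv_comp, ← Category.assoc, IsIso.comp_inv_eq]
      exact h2.symm
    rw [← Category.assoc, h1, Category.assoc, h3, Category.assoc]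

lemma cut_mono {U W : X.Opens} (h : W ≤ U) (O : X.Opens) : cut W O ≤ cut U O := by
  rw [cut_eq, cut_eq]
  exact inf_le_inf_right O h

lemma ρρ_sec {U W : X.Opens} (h : W ≤ U) (M : X.Modules) (O : X.Opens) :
    ((ρρ h).app M).app O ≫ (secIso W M O).hom =
      (secIso U M O).hom ≫ M.presheaf.map (homOfLE (cut_mono h O)).op := by
  haveI := isIso_TT_map_ηη h M
  have h1 : (ρρ h).app M ≫ (TT W).map ((ηη U).app M) = (ηη W).app ((TT U).obj M) := by
    simp [ρρ]
  have h2 : ((ρρ h).app M).app O ≫ ((TT W).map ((ηη U).app M)).app O =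
      ((ηη W).app ((TT U).obj M)).app O := by
    rw [← Scheme.Modules.Hom.comp_app, h1]
  haveI : IsIso (M.presheaf.map (homOfLE (cut_le U (cut W O))).op) := by
    apply isIso_map_of_eq
    rw [cut_eq, cut_eq]
    exact inf_eq_right.2 (inf_le_left.trans h)
  rw [← cancel_mono (M.presheaf.map (homOfLE (cut_le U (cut W O))).op), Category.assoc,
    Category.assoc, map_comp_eq M _ _ (homOfLE ((cut_le U (cut W O)).trans (cut_mono h O))),
    ← ηη_sec U M (cut W O), ← Category.assoc (secIso W M O).hom, ← TT_map_sec W (M := M) (N := (TT U).obj M) ((ηη U).app M) O,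
    ← Category.assoc, ← Category.assoc, h2, ηη_sec W ((TT U).obj M) O, TT_res_sec]

lemma ηη_ρρ {U W : X.Opens} (h : W ≤ U) (M : X.Modules) :
    (ηη U).app M ≫ (ρρ h).app M = (ηη W).app M := by
  haveI := isIso_TT_map_ηη h M
  have h1 : (ρρ h).app M = (ηη W).app ((TT U).obj M) ≫ inv ((TT W).map ((ηη U).app M)) := rfl
  rw [h1, ← Category.assoc, IsIso.comp_inv_eq]
  exact (ηη W).naturality ((ηη U).app M)

/-- the underlying sheaf of abelian groups. -/
noncomputable abbrev shf (M : X.Modules) : TopCat.Sheaf Ab X := ⟨M.presheaf, M.isSheaf⟩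

lemma eq_zero_of_res₂ (M : X.Modules) {O₁ O₂ O : X.Opens} (h₁ : O₁ ≤ O) (h₂ : O₂ ≤ O)
    (hcover : O ≤ O₁ ⊔ O₂) (s : Γ(M, O)) (hs₁ : M.presheaf.map (homOfLE h₁).op s = 0)
    (hs₂ : M.presheaf.map (homOfLE h₂).op s = 0) : s = 0 := by
  refine TopCat.Sheaf.eq_of_locally_eq₂ (shf M) (homOfLE h₁) (homOfLE h₂) hcover s 0 ?_ ?_
  · exact hs₁.trans (map_zero _).symm
  · exact hs₂.trans (map_zero _).symm

lemma exists_glue₂ (M : X.Modules) {O₁ O₂ O₃ O : X.Opens} (h₁ : O₁ ≤ O) (h₂ : O₂ ≤ O)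
    (h₃₁ : O₃ ≤ O₁) (h₃₂ : O₃ ≤ O₂) (h₃ : O₁ ⊓ O₂ ≤ O₃)
    (hcover : O ≤ O₁ ⊔ O₂) (s₁ : Γ(M, O₁)) (s₂ : Γ(M, O₂))
    (h : M.presheaf.map (homOfLE h₃₁).op s₁ = M.presheaf.map (homOfLE h₃₂).op s₂) :
    ∃ s : Γ(M, O), M.presheaf.map (homOfLE h₁).op s = s₁ ∧
      M.presheaf.map (homOfLE h₂).op s = s₂ := by
  let Uf : Bool → X.Opens := fun b => Bool.rec O₂ O₁ b
  let sf : ∀ b : Bool, Γ(M, Uf b) := fun b => Bool.rec (motive := fun b => Γ(M, Uf b)) s₂ s₁ b
  have hle : ∀ b, Uf b ≤ O := fun b => by cases b <;> assumption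
  have hcov : O ≤ iSup Uf := by
    refine hcover.trans (sup_le ?_ ?_)
    · exact le_iSup Uf true
    · exact le_iSup Uf false
  have key : M.presheaf.map (homOfLE (inf_le_left : O₁ ⊓ O₂ ≤ O₁)).op s₁ =
      M.presheaf.map (homOfLE (inf_le_right : O₁ ⊓ O₂ ≤ O₂)).op s₂ := by
    rw [← map_map_apply M (homOfLE h₃₁) (homOfLE h₃) (homOfLE inf_le_left) s₁,
      ← map_map_apply M (homOfLE h₃₂) (homOfLE h₃) (homOfLE inf_le_right) s₂, h]
  have hcompat : TopCat.Presheaf.IsCompatible (shf M).1 Uf sf := by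
    rintro (_ | _) (_ | _)
    · rfl
    · exact ((map_map_apply M (homOfLE inf_le_right) (homOfLE (le_of_eq (inf_comm O₂ O₁)))
        (homOfLE (inf_le_left : O₂ ⊓ O₁ ≤ O₂)) s₂).symm.trans
          (congrArg _ key.symm)).trans
        (map_map_apply M (homOfLE inf_le_left) (homOfLE (le_of_eq (inf_comm O₂ O₁)))
          (homOfLE (inf_le_right : O₂ ⊓ O₁ ≤ O₁)) s₁)
    · exact key
    · rfl
  obtain ⟨s, hs, -⟩ := TopCat.Sheaf.existsUnique_gluing' (shf M) Uf O (fun b => homOfLE (hle b))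
    hcov sf hcompat
  exact ⟨s, hs true, hs false⟩

lemma app_res {M N : X.Modules} (φ : M ⟶ N) {O O' : X.Opens} (i : O' ⟶ O) (s : Γ(M, O)) :
    φ.app O' (M.presheaf.map i.op s) = N.presheaf.map i.op (φ.app O s) :=
  congr($(φ.mapPresheaf.naturality i.op) s)

lemma eq_zero_of_locally (M : X.Modules) {O : X.Opens} (s : Γ(M, O))
    (h : ∀ x ∈ O, ∃ (O' : X.Opens) (hle : O' ≤ O), x ∈ O' ∧
      M.presheaf.map (homOfLE hle).op s = 0) : s = 0 := by
  choose O' hle hx hs using h
  refine TopCat.Sheaf.eq_of_locally_eq' (shf M) (fun x : O => O' x.1 x.2) O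
    (fun x => homOfLE (hle x.1 x.2)) ?_ s 0 ?_
  · intro x hxO
    exact Opens.mem_iSup.2 ⟨⟨x, hxO⟩, hx x hxO⟩
  · intro x
    exact (hs x.1 x.2).trans (map_zero _).symm

lemma epi_of_locally_surjective {M N : X.Modules} (φ : M ⟶ N)
    (h : ∀ (O : X.Opens) (t : Γ(N, O)) (x : X), x ∈ O → ∃ (O' : X.Opens) (hle : O' ≤ O),
      x ∈ O' ∧ ∃ s : Γ(M, O'), φ.app O' s = N.presheaf.map (homOfLE hle).op t) : Epi φ := by
  refine Preadditive.epi_of_cancel_zero _ (fun {P} g hg => ?_)
  apply Scheme.Modules.hom_ext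
  intro O
  ext t
  refine eq_zero_of_locally P _ (fun x hx => ?_)
  obtain ⟨O', hle, hx', s, hs⟩ := h O t x hx
  refine ⟨O', hle, hx', ?_⟩
  rw [← app_res g (homOfLE hle) t, ← hs]
  exact congr($(congrArg (fun f => Scheme.Modules.Hom.app f O') hg) s)

lemma mono_of_app_injective {M N : X.Modules} (φ : M ⟶ N)
    (h : ∀ U : X.Opens, Function.Injective (φ.app U)) : Mono φ := by
  apply Functor.mono_of_mono_map (Scheme.Modules.toPresheaf X)
  apply (config := { allowSynthFailures := true }) NatTrans.mono_of_mono_app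
  intro U
  rw [AddCommGrpCat.mono_iff_injective]
  exact h U.unop

lemma exact_and_mono_of_sections (S : ShortComplex X.Modules)
    (hinj : ∀ O : X.Opens, Function.Injective (S.f.app O))
    (hex : ∀ (O : X.Opens) (t : Γ(S.X₂, O)), S.g.app O t = 0 → ∃ s, S.f.app O s = t) :
    S.Exact ∧ Mono S.f := by
  haveI hm : Mono S.f := mono_of_app_injective S.f hinj
  refine ⟨?_, hm⟩
  rw [S.exact_iff_epi_toCycles]
  suffices IsIso S.toCycles from inferInstance
  rw [Scheme.Modules.Hom.isIso_iff_isIso_app]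
  intro O
  have hi : Function.Injective (S.iCycles.app O) :=
    Groth.Agent.Lib.Helper20.StalkExact.injective_app_of_mono S.iCycles O
  have hfac : ∀ s, S.iCycles.app O (S.toCycles.app O s) = S.f.app O s := fun s =>
    congr($(congrArg (fun f => Scheme.Modules.Hom.app f O) S.toCycles_i) s)
  rw [ConcreteCategory.isIso_iff_bijective]
  constructor
  · intro s s' hss
    exact hinj O ((hfac s).symm.trans ((congrArg _ hss).trans (hfac s')))
  · intro z
    obtain ⟨s, hs⟩ := hex O (S.iCycles.app O z)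
      (congr($(congrArg (fun f => Scheme.Modules.Hom.app f O) S.iCycles_g) z))
    exact ⟨s, hi ((hfac s).trans hs)⟩

section MV

variable {X : Scheme.{u}} (U V : X.Opens)

/-- `M ↦ j_{U*}(M|_U) ⊞ j_{V*}(M|_V)`. -/
noncomputable abbrev T2 : X.Modules ⥤ X.Modules where
  obj M := (TT U).obj M ⊞ (TT V).obj M
  map φ := biprod.map ((TT U).map φ) ((TT V).map φ)
  map_id M := by apply biprod.hom_ext <;> simp
  map_comp φ ψ := by apply biprod.hom_ext <;> simp

/-- first projection -/
noncomputable def fstN : T2 U V ⟶ TT U where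
  app M := biprod.fst
  naturality M N φ := by simp [T2]

/-- second projection -/
noncomputable def sndN : T2 U V ⟶ TT V where
  app M := biprod.snd
  naturality M N φ := by simp [T2]

/-- first inclusion -/
noncomputable def inlN : TT U ⟶ T2 U V where
  app M := biprod.inl
  naturality M N φ := by simp [T2]

/-- second inclusion -/
noncomputable def inrN : TT V ⟶ T2 U V where
  app M := biprod.inr
  naturality M N φ := by simp [T2]

/-- `M ⟶ j_{U*}(M|_U) ⊞ j_{V*}(M|_V)`. -/
noncomputable def aN : 𝟭 X.Modules ⟶ T2 U V where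
  app M := biprod.lift ((ηη U).app M) ((ηη V).app M)
  naturality M N φ := by
    apply biprod.hom_ext
    · simp [T2]
    · simp [T2]

/-- `j_{U*}(M|_U) ⊞ j_{V*}(M|_V) ⟶ j_{W*}(M|_W)`, the difference of the restrictions. -/
noncomputable def bN : T2 U V ⟶ TT (U ⊓ V) where
  app M := biprod.fst ≫ (ρρ (inf_le_left : U ⊓ V ≤ U)).app M -
    biprod.snd ≫ (ρρ (inf_le_right : U ⊓ V ≤ V)).app M
  naturality M N φ := by
    have h1 := (ρρ (inf_le_left : U ⊓ V ≤ U)).naturality φ
    have h2 := (ρρ (inf_le_right : U ⊓ V ≤ V)).naturality φ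
    simp only [T2, Preadditive.comp_sub, Preadditive.sub_comp, Category.assoc, ← h1, ← h2]
    simp

lemma aN_bN (M : X.Modules) : (aN U V).app M ≫ (bN U V).app M = 0 := by
  simp only [aN, bN, Preadditive.comp_sub, biprod.lift_fst_assoc, biprod.lift_snd_assoc, ηη_ρρ,
    sub_self]

/-- the Mayer–Vietoris short complex. -/
noncomputable def mvSC (M : X.Modules) : ShortComplex X.Modules :=
  ShortComplex.mk ((aN U V).app M) ((bN U V).app M) (aN_bN U V M)

variable {U V}

lemma T2_sec_ext (M : X.Modules) (O : X.Opens) (x y : Γ((T2 U V).obj M, O))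
    (h1 : (biprod.fst : (TT U).obj M ⊞ (TT V).obj M ⟶ _).app O x =
      (biprod.fst : (TT U).obj M ⊞ (TT V).obj M ⟶ _).app O y)
    (h2 : (biprod.snd : (TT U).obj M ⊞ (TT V).obj M ⟶ _).app O x =
      (biprod.snd : (TT U).obj M ⊞ (TT V).obj M ⟶ _).app O y) : x = y := by
  have total : (biprod.fst : (TT U).obj M ⊞ (TT V).obj M ⟶ _) ≫ biprod.inl +
      biprod.snd ≫ biprod.inr = 𝟙 _ := biprod.total
  have key : ∀ z : Γ((T2 U V).obj M, O),
      (biprod.inl : (TT U).obj M ⟶ (TT U).obj M ⊞ (TT V).obj M).app O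
        ((biprod.fst : (TT U).obj M ⊞ (TT V).obj M ⟶ _).app O z) +
      (biprod.inr : (TT V).obj M ⟶ (TT U).obj M ⊞ (TT V).obj M).app O
        ((biprod.snd : (TT U).obj M ⊞ (TT V).obj M ⟶ _).app O z) = z := fun z =>
    congr($(congrArg (fun f => Scheme.Modules.Hom.app f O) total) z)
  rw [← key x, ← key y, h1, h2]

lemma iso_hom_injective {A B : Ab.{u}} (e : A ≅ B) : Function.Injective e.hom := by
  intro x y h
  have := congrArg e.inv h
  simpa using this

theorem mvSC_shortExact (hUV : U ⊔ V = ⊤) (M : X.Modules) : (mvSC U V M).ShortExact := by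
  have hcover : ∀ O : X.Opens, O ≤ cut U O ⊔ cut V O := by
    intro O
    rw [cut_eq, cut_eq, ← inf_sup_right, hUV, top_inf_eq]
  have hfst : ∀ (O : X.Opens) (s : Γ(M, O)),
      (biprod.fst : (TT U).obj M ⊞ (TT V).obj M ⟶ _).app O (((aN U V).app M).app O s) =
        ((ηη U).app M).app O s := fun O s =>
    congr($(congrArg (fun f => Scheme.Modules.Hom.app f O)
      (biprod.lift_fst ((ηη U).app M) ((ηη V).app M))) s)
  have hsnd : ∀ (O : X.Opens) (s : Γ(M, O)),
      (biprod.snd : (TT U).obj M ⊞ (TT V).obj M ⟶ _).app O (((aN U V).app M).app O s) =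
        ((ηη V).app M).app O s := fun O s =>
    congr($(congrArg (fun f => Scheme.Modules.Hom.app f O)
      (biprod.lift_snd ((ηη U).app M) ((ηη V).app M))) s)
  have hηU : ∀ (O : X.Opens) (s : Γ(M, O)), (secIso U M O).hom (((ηη U).app M).app O s) =
      M.presheaf.map (homOfLE (cut_le U O)).op s := fun O s => congr($(ηη_sec U M O) s)
  have hηV : ∀ (O : X.Opens) (s : Γ(M, O)), (secIso V M O).hom (((ηη V).app M).app O s) =
      M.presheaf.map (homOfLE (cut_le V O)).op s := fun O s => congr($(ηη_sec V M O) s)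
  have hinj : ∀ O : X.Opens, Function.Injective (((aN U V).app M).app O) := by
    intro O
    refine (injective_iff_map_eq_zero (((aN U V).app M).app O).hom).2 (fun (s : Γ(M, O)) hs => ?_)
    have hs' : ((aN U V).app M).app O s = 0 := hs
    refine eq_zero_of_res₂ M (cut_le U O) (cut_le V O) (hcover O) s ?_ ?_
    · have e1 : ((ηη U).app M).app O s = 0 :=
        (hfst O s).symm.trans ((congrArg _ hs').trans (map_zero _))
      exact (hηU O s).symm.trans ((congrArg _ e1).trans (map_zero _))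
    · have e1 : ((ηη V).app M).app O s = 0 :=
        (hsnd O s).symm.trans ((congrArg _ hs').trans (map_zero _))
      exact (hηV O s).symm.trans ((congrArg _ e1).trans (map_zero _))
  have hρU : ∀ (O : X.Opens) (z : Γ((TT U).obj M, O)),
      (secIso (U ⊓ V) M O).hom (((ρρ (inf_le_left : U ⊓ V ≤ U)).app M).app O z) =
        M.presheaf.map (homOfLE (cut_mono inf_le_left O)).op ((secIso U M O).hom z) :=
    fun O z => congr($(ρρ_sec (inf_le_left : U ⊓ V ≤ U) M O) z)
  have hρV : ∀ (O : X.Opens) (z : Γ((TT V).obj M, O)),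
      (secIso (U ⊓ V) M O).hom (((ρρ (inf_le_right : U ⊓ V ≤ V)).app M).app O z) =
        M.presheaf.map (homOfLE (cut_mono inf_le_right O)).op ((secIso V M O).hom z) :=
    fun O z => congr($(ρρ_sec (inf_le_right : U ⊓ V ≤ V) M O) z)
  have hb : ∀ (O : X.Opens) (t : Γ((T2 U V).obj M, O)), ((bN U V).app M).app O t =
      ((ρρ (inf_le_left : U ⊓ V ≤ U)).app M).app O
        ((biprod.fst : (TT U).obj M ⊞ (TT V).obj M ⟶ _).app O t) -
      ((ρρ (inf_le_right : U ⊓ V ≤ V)).app M).app O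
        ((biprod.snd : (TT U).obj M ⊞ (TT V).obj M ⟶ _).app O t) := fun O t => rfl
  have hex' : ∀ (O : X.Opens) (t : Γ((T2 U V).obj M, O)), ((bN U V).app M).app O t = 0 →
      ∃ s : Γ(M, O), ((aN U V).app M).app O s = t := by
    intro O t ht'
    rw [hb, sub_eq_zero] at ht'
    have h3 : cut U O ⊓ cut V O ≤ cut (U ⊓ V) O := by
      rw [cut_eq, cut_eq, cut_eq]
      exact le_inf (inf_le_inf inf_le_left inf_le_left) (inf_le_left.trans inf_le_right)
    obtain ⟨s, hs1, hs2⟩ := exists_glue₂ M (cut_le U O) (cut_le V O) (cut_mono inf_le_left O)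
      (cut_mono inf_le_right O) h3 (hcover O) _ _
      ((hρU O _).symm.trans ((congrArg _ ht').trans (hρV O _)))
    refine ⟨s, T2_sec_ext M O _ _ ?_ ?_⟩
    · refine iso_hom_injective (secIso U M O) ?_
      exact (congrArg _ (hfst O s)).trans ((hηU O s).trans hs1)
    · refine iso_hom_injective (secIso V M O) ?_
      exact (congrArg _ (hsnd O s)).trans ((hηV O s).trans hs2)
  obtain ⟨hex, hmono⟩ := exact_and_mono_of_sections (mvSC U V M) hinj hex'
  haveI := hmono
  haveI : Epi (mvSC U V M).g := by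
    have hinl : (biprod.inl : (TT U).obj M ⟶ (TT U).obj M ⊞ (TT V).obj M) ≫ (bN U V).app M =
        (ρρ (inf_le_left : U ⊓ V ≤ U)).app M := by
      simp [bN]
    have hinr : (biprod.inr : (TT V).obj M ⟶ (TT U).obj M ⊞ (TT V).obj M) ≫ (bN U V).app M =
        0 - (ρρ (inf_le_right : U ⊓ V ≤ V)).app M := by
      simp [bN]
    refine epi_of_locally_surjective ((bN U V).app M) (fun O t x hx => ?_)
    have hxUV : x ∈ U ∨ x ∈ V := by
      have : x ∈ (U ⊔ V : X.Opens) := by rw [hUV]; trivial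
      exact this
    rcases hxUV with hxU | hxV
    · refine ⟨cut U O, cut_le U O, by rw [cut_eq]; exact ⟨hxU, hx⟩, ?_⟩
      haveI hiso : IsIso (((ρρ (inf_le_right : U ⊓ V ≤ V)).app M).app (cut U O)) := by
        have h1 := ρρ_sec (inf_le_right : U ⊓ V ≤ V) M (cut U O)
        haveI : IsIso (M.presheaf.map
            (homOfLE (cut_mono (inf_le_right : U ⊓ V ≤ V) (cut U O))).op) := by
          apply isIso_map_of_eq
          rw [cut_eq, cut_eq, cut_eq]
          apply le_antisymm
          · exact inf_le_inf_right _ inf_le_right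
          · exact le_inf (le_inf (inf_le_right.trans inf_le_left) inf_le_left) inf_le_right
        haveI : IsIso (((ρρ (inf_le_right : U ⊓ V ≤ V)).app M).app (cut U O) ≫
            (secIso (U ⊓ V) M (cut U O)).hom) := by
          rw [h1]; infer_instance
        exact IsIso.of_isIso_comp_right _ (secIso (U ⊓ V) M (cut U O)).hom
      refine ⟨-((biprod.inr : (TT V).obj M ⟶ (TT U).obj M ⊞ (TT V).obj M).app (cut U O)
        ((inv (((ρρ (inf_le_right : U ⊓ V ≤ V)).app M).app (cut U O)))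
          (((TT (U ⊓ V)).obj M).presheaf.map (homOfLE (cut_le U O)).op t))), ?_⟩
      have e1 := fun z => congr($(congrArg (fun f => Scheme.Modules.Hom.app f (cut U O)) hinr) z)
      rw [map_neg]
      refine (congrArg Neg.neg (e1 _)).trans ?_
      have e2 := congr($(IsIso.inv_hom_id (((ρρ (inf_le_right : U ⊓ V ≤ V)).app M).app (cut U O)))
        (((TT (U ⊓ V)).obj M).presheaf.map (homOfLE (cut_le U O)).op t))
      have e3 : ∀ z, (0 - (ρρ (inf_le_right : U ⊓ V ≤ V)).app M).app (cut U O) z =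
          -(((ρρ (inf_le_right : U ⊓ V ≤ V)).app M).app (cut U O) z) := fun z => by
        rw [Scheme.Modules.Hom.sub_app, Scheme.Modules.Hom.zero_app, zero_sub]
        rfl
      rw [e3, neg_neg]
      exact e2
    · refine ⟨cut V O, cut_le V O, by rw [cut_eq]; exact ⟨hxV, hx⟩, ?_⟩
      haveI hiso : IsIso (((ρρ (inf_le_left : U ⊓ V ≤ U)).app M).app (cut V O)) := by
        have h1 := ρρ_sec (inf_le_left : U ⊓ V ≤ U) M (cut V O)
        haveI : IsIso (M.presheaf.map
            (homOfLE (cut_mono (inf_le_left : U ⊓ V ≤ U) (cut V O))).op) := by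
          apply isIso_map_of_eq
          rw [cut_eq, cut_eq, cut_eq]
          apply le_antisymm
          · exact inf_le_inf_right _ inf_le_left
          · exact le_inf (le_inf inf_le_left (inf_le_right.trans inf_le_left)) inf_le_right
        haveI : IsIso (((ρρ (inf_le_left : U ⊓ V ≤ U)).app M).app (cut V O) ≫
            (secIso (U ⊓ V) M (cut V O)).hom) := by
          rw [h1]; infer_instance
        exact IsIso.of_isIso_comp_right _ (secIso (U ⊓ V) M (cut V O)).hom
      refine ⟨(biprod.inl : (TT U).obj M ⟶ (TT U).obj M ⊞ (TT V).obj M).app (cut V O)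
        ((inv (((ρρ (inf_le_left : U ⊓ V ≤ U)).app M).app (cut V O)))
          (((TT (U ⊓ V)).obj M).presheaf.map (homOfLE (cut_le V O)).op t)), ?_⟩
      have e1 := fun z => congr($(congrArg (fun f => Scheme.Modules.Hom.app f (cut V O)) hinl) z)
      refine (e1 _).trans ?_
      exact congr($(IsIso.inv_hom_id (((ρρ (inf_le_left : U ⊓ V ≤ U)).app M).app (cut V O))) _)
  exact ShortComplex.ShortExact.mk hex

end MV

end Groth.Agent.Lib.Seat28.MVSheaf
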