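import Groth.Agent.Lib.Seat28RD
import Groth.Agent.Lib.Seat28MVSheaf

/-!
# The Mayer–Vietoris distinguished triangle for right derived functors on a scheme (seat 28)

`exists_mv_triangle`: for `X = U ∪ V`, an additive functor `Φ` on `O_X`-modules and additive functors
`Φ_O ≅ Φ ∘ j_{O*}` on the opens `O = U, V, U ⊓ V`, there is a distinguished triangle
`A₁ → RΦ_U(E|_U) ⊞ RΦ_V(E|_V) → RΦ_W(E|_W) → A₁[1]` as soon as `A₁ ≅ Q(Φ I)` for fibrant `I ≅ E`.
-/

set_option autoImplicit false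
set_option linter.style.haveILetI false
universe w₁ w₂ w₃ v₁ u₁ u
open CategoryTheory CategoryTheory.Limits AlgebraicGeometry HomologicalComplex
open Groth.Agent.Lib.Helper17.KInj Groth.Agent.Lib.Seat28.MVSheaf Groth.Agent.Lib.Seat28.RD

namespace Groth.Agent.Lib.Seat28.MVTri

variable {X : Scheme.{u}} (U V : X.Opens)
variable {𝒜 : Type u₁} [Category.{v₁} 𝒜] [Abelian 𝒜] (Φ : X.Modules ⥤ 𝒜) [Φ.Additive]

instance additive_T2 : (T2 U V).Additive :=
  ⟨by intros; apply biprod.hom_ext <;> simp [Functor.map_add]⟩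

/-- the Mayer–Vietoris short complex of complexes, after applying `Φ` termwise. -/
noncomputable def cxSC (I : CochainComplex X.Modules ℤ) : ShortComplex (CochainComplex 𝒜 ℤ) :=
  ShortComplex.mk
    ((NatTrans.mapHomologicalComplex (Functor.whiskerRight (aN U V) Φ) (ComplexShape.up ℤ)).app I)
    ((NatTrans.mapHomologicalComplex (Functor.whiskerRight (bN U V) Φ) (ComplexShape.up ℤ)).app I)
    (by
      ext n
      show Φ.map ((aN U V).app (I.X n)) ≫ Φ.map ((bN U V).app (I.X n)) = 0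
      rw [← Φ.map_comp, aN_bN, Φ.map_zero])

variable {U V}

lemma cxSC_shortExact (hUV : U ⊔ V = ⊤) (I : CochainComplex X.Modules ℤ)
    (hI : ∀ n, Injective (I.X n)) : (cxSC U V Φ I).ShortExact := by
  apply HomologicalComplex.shortExact_of_degreewise_shortExact
  intro n
  have hS := mvSC_shortExact hUV (I.X n)
  haveI : Injective (mvSC U V (I.X n)).X₁ := hI n
  exact ((hS.splittingOfInjective).map Φ).shortExact

variable [HasDerivedCategory.{w₁} 𝒜]

/-- `Q` of the middle term is the biproduct. -/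
lemma nonempty_iso_middle (I : CochainComplex X.Modules ℤ) :
    Nonempty (DerivedCategory.Q.obj (((T2 U V ⋙ Φ).mapHomologicalComplex (ComplexShape.up ℤ)).obj I) ≅
      DerivedCategory.Q.obj (((TT U ⋙ Φ).mapHomologicalComplex (ComplexShape.up ℤ)).obj I) ⊞
      DerivedCategory.Q.obj (((TT V ⋙ Φ).mapHomologicalComplex (ComplexShape.up ℤ)).obj I)) := by
  refine nonempty_iso_biprod
    (DerivedCategory.Q.map ((NatTrans.mapHomologicalComplex (Functor.whiskerRight (fstN U V) Φ)
      (ComplexShape.up ℤ)).app I))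
    (DerivedCategory.Q.map ((NatTrans.mapHomologicalComplex (Functor.whiskerRight (sndN U V) Φ)
      (ComplexShape.up ℤ)).app I))
    (DerivedCategory.Q.map ((NatTrans.mapHomologicalComplex (Functor.whiskerRight (inlN U V) Φ)
      (ComplexShape.up ℤ)).app I))
    (DerivedCategory.Q.map ((NatTrans.mapHomologicalComplex (Functor.whiskerRight (inrN U V) Φ)
      (ComplexShape.up ℤ)).app I)) ?_ ?_ ?_ ?_ ?_
  · rw [← Functor.map_comp, ← CategoryTheory.Functor.map_id]
    congr 1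
    ext n
    show Φ.map (biprod.inl) ≫ Φ.map (biprod.fst) = 𝟙 _
    rw [← Φ.map_comp, biprod.inl_fst, Φ.map_id]
  · rw [← Functor.map_comp, ← CategoryTheory.Functor.map_id]
    congr 1
    ext n
    show Φ.map (biprod.inr) ≫ Φ.map (biprod.snd) = 𝟙 _
    rw [← Φ.map_comp, biprod.inr_snd, Φ.map_id]
  · rw [← Functor.map_comp, ← Functor.map_zero DerivedCategory.Q]
    congr 1
    ext n
    show Φ.map (biprod.inl) ≫ Φ.map (biprod.snd) = 0
    rw [← Φ.map_comp, biprod.inl_snd, Φ.map_zero]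
  · rw [← Functor.map_comp, ← Functor.map_zero DerivedCategory.Q]
    congr 1
    ext n
    show Φ.map (biprod.inr) ≫ Φ.map (biprod.fst) = 0
    rw [← Φ.map_comp, biprod.inr_fst, Φ.map_zero]
  · rw [← Functor.map_comp, ← Functor.map_comp, ← Functor.map_add,
      ← CategoryTheory.Functor.map_id]
    congr 1
    ext n
    have key : Φ.map (biprod.fst : (TT U).obj (I.X n) ⊞ (TT V).obj (I.X n) ⟶ _) ≫ Φ.map biprod.inl +
        Φ.map biprod.snd ≫ Φ.map biprod.inr =
        𝟙 (Φ.obj ((TT U).obj (I.X n) ⊞ (TT V).obj (I.X n))) := by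
      rw [← Φ.map_comp, ← Φ.map_comp, ← Φ.map_add, biprod.total, Φ.map_id]
    exact key

section IsoO

variable (O : X.Opens) (ΦO : (O : Scheme.{u}).Modules ⥤ 𝒜) [ΦO.Additive]
  [HasDerivedCategory.{w₂} X.Modules] [HasDerivedCategory.{w₃} (O : Scheme.{u}).Modules]
  [(Kh ΦO).HasRightDerivedFunctor
    (HomotopyCategory.quasiIso (O : Scheme.{u}).Modules (ComplexShape.up ℤ))]
  [PreservesFiniteLimits (Scheme.Modules.restrictFunctor O.ι)]

/-- the vertex of the Mayer–Vietoris triangle over an open `O`. -/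
lemma nonempty_iso_open (σ : ΦO ≅ Scheme.Modules.pushforward O.ι ⋙ Φ)
    (I : CochainComplex X.Modules ℤ) [I.IsKInjective]
    (E : DerivedCategory X.Modules) (eE : DerivedCategory.Q.obj I ≅ E) :
    Nonempty (DerivedCategory.Q.obj (((TT O ⋙ Φ).mapHomologicalComplex (ComplexShape.up ℤ)).obj I) ≅
      (RFun ΦO).obj ((Scheme.Modules.restrictFunctor O.ι).mapDerivedCategory.obj E)) := by
  haveI := isKInjective_restrict O I
  let J := ((Scheme.Modules.restrictFunctor O.ι).mapHomologicalComplex (ComplexShape.up ℤ)).obj I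
  have e1 : (RFun ΦO).obj ((Scheme.Modules.restrictFunctor O.ι).mapDerivedCategory.obj E) ≅
      (RFun ΦO).obj ((Scheme.Modules.restrictFunctor O.ι).mapDerivedCategory.obj
        (DerivedCategory.Q.obj I)) :=
    (RFun ΦO).mapIso ((Scheme.Modules.restrictFunctor O.ι).mapDerivedCategory.mapIso eE.symm)
  have e2 : (Scheme.Modules.restrictFunctor O.ι).mapDerivedCategory.obj (DerivedCategory.Q.obj I) ≅
      DerivedCategory.Q.obj J :=
    (Scheme.Modules.restrictFunctor O.ι).mapDerivedCategoryFactors.app I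
  have e3 : (RFun ΦO).obj (DerivedCategory.Q.obj J) ≅
      DerivedCategory.Q.obj ((ΦO.mapHomologicalComplex (ComplexShape.up ℤ)).obj J) :=
    isoOfKInj.{u} ΦO J
  have e4 : (ΦO.mapHomologicalComplex (ComplexShape.up ℤ)).obj J ≅
      ((TT O ⋙ Φ).mapHomologicalComplex (ComplexShape.up ℤ)).obj I :=
    HomologicalComplex.Hom.isoOfComponents (fun n => σ.app (J.X n)) (fun i j _ => by
      exact (σ.hom.naturality (J.d i j)).symm)
  exact ⟨(DerivedCategory.Q.mapIso e4).symm ≪≫ e3.symm ≪≫ (RFun ΦO).mapIso e2.symm ≪≫ e1.symm⟩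

end IsoO

open Pretriangulated in
/-- the general Mayer–Vietoris triangle for the right derived functors of an additive functor `Φ`
on `X = U ∪ V` and of its restrictions `Φ_O ≅ Φ ∘ j_{O*}`. -/
theorem exists_mv_triangle (hUV : U ⊔ V = ⊤)
    [HasDerivedCategory.{w₂} X.Modules]
    [HasDerivedCategory.{w₃} (U : Scheme.{u}).Modules]
    [HasDerivedCategory.{w₃} (V : Scheme.{u}).Modules]
    [HasDerivedCategory.{w₃} ((U ⊓ V : X.Opens) : Scheme.{u}).Modules]
    (ΦU : (U : Scheme.{u}).Modules ⥤ 𝒜) [ΦU.Additive]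
    [(Kh ΦU).HasRightDerivedFunctor
      (HomotopyCategory.quasiIso (U : Scheme.{u}).Modules (ComplexShape.up ℤ))]
    (ΦV : (V : Scheme.{u}).Modules ⥤ 𝒜) [ΦV.Additive]
    [(Kh ΦV).HasRightDerivedFunctor
      (HomotopyCategory.quasiIso (V : Scheme.{u}).Modules (ComplexShape.up ℤ))]
    (ΦW : ((U ⊓ V : X.Opens) : Scheme.{u}).Modules ⥤ 𝒜) [ΦW.Additive]
    [(Kh ΦW).HasRightDerivedFunctor
      (HomotopyCategory.quasiIso ((U ⊓ V : X.Opens) : Scheme.{u}).Modules (ComplexShape.up ℤ))]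
    [PreservesFiniteLimits (Scheme.Modules.restrictFunctor U.ι)]
    [PreservesFiniteLimits (Scheme.Modules.restrictFunctor V.ι)]
    [PreservesFiniteLimits (Scheme.Modules.restrictFunctor (U ⊓ V).ι)]
    (σU : ΦU ≅ Scheme.Modules.pushforward U.ι ⋙ Φ)
    (σV : ΦV ≅ Scheme.Modules.pushforward V.ι ⋙ Φ)
    (σW : ΦW ≅ Scheme.Modules.pushforward (U ⊓ V).ι ⋙ Φ)
    (E : DerivedCategory X.Modules) (A₁ : DerivedCategory 𝒜)
    (hA : ∀ I : CochainComplex X.Modules ℤ, fibrant X.Modules I → (DerivedCategory.Q.obj I ≅ E) →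
      Nonempty (DerivedCategory.Q.obj ((Φ.mapHomologicalComplex (ComplexShape.up ℤ)).obj I) ≅ A₁)) :
    ∃ (a : A₁ ⟶ (RFun ΦU).obj ((Scheme.Modules.restrictFunctor U.ι).mapDerivedCategory.obj E) ⊞
          (RFun ΦV).obj ((Scheme.Modules.restrictFunctor V.ι).mapDerivedCategory.obj E))
      (b : (RFun ΦU).obj ((Scheme.Modules.restrictFunctor U.ι).mapDerivedCategory.obj E) ⊞
          (RFun ΦV).obj ((Scheme.Modules.restrictFunctor V.ι).mapDerivedCategory.obj E) ⟶
        (RFun ΦW).obj ((Scheme.Modules.restrictFunctor (U ⊓ V).ι).mapDerivedCategory.obj E))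
      (c : (RFun ΦW).obj ((Scheme.Modules.restrictFunctor (U ⊓ V).ι).mapDerivedCategory.obj E) ⟶
        A₁⟦(1 : ℤ)⟧),
      Triangle.mk a b c ∈ distTriang (DerivedCategory 𝒜) := by
  obtain ⟨I, hI, ⟨eE⟩⟩ := exists_fibrant_repr.{u} E
  haveI := hI.isKInjective
  have hinj : ∀ n, Injective (I.X n) := fun n => injective_X_of_rlp hI n
  have hS := cxSC_shortExact Φ hUV I hinj
  have hT := DerivedCategory.triangleOfSES_distinguished hS
  obtain ⟨e₁⟩ := hA I hI eE
  obtain ⟨eM⟩ := nonempty_iso_middle (U := U) (V := V) Φ I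
  obtain ⟨eU⟩ := nonempty_iso_open Φ U ΦU σU I E eE
  obtain ⟨eV⟩ := nonempty_iso_open Φ V ΦV σV I E eE
  obtain ⟨eW⟩ := nonempty_iso_open Φ (U ⊓ V) ΦW σW I E eE
  exact exists_distinguished_of_iso _ hT e₁ (eM ≪≫ biprod.mapIso eU eV) eW

end Groth.Agent.Lib.Seat28.MVTri
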