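import Groth.Agent.Lib.Seat28RpushAdd
import Groth.Agent.Lib.Seat28Supp
import Groth.Agent.S6510

/-!
# Objects supported on a closed subset contained in an open `U` are `Rj_*` of their restriction (seat 28)
-/

set_option autoImplicit false
universe u
open CategoryTheory CategoryTheory.Limits AlgebraicGeometry Opposite Pretriangulated

attribute [local instance] HasDerivedCategory.standard

namespace Groth.Agent.Lib.Seat28.Supp

open Groth.Agent.Lib.Seat28.RD

variable {X : Scheme.{u}}

lemma subsingleton_stalk_of_notMem_support (M : X.Modules) (x : X) (hx : x ∉ CohB1.support M) :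
    Subsingleton (M.presheaf.stalk x) := by
  by_contra h
  exact hx h

/-- an object whose cohomology sheaves are supported on a closed subset `T ⊆ U` is the derived direct
image of its restriction to `U`. -/
theorem nonempty_iso_rpush_restrict (U : X.Opens) [DCoh.HasRpush U.ι] (T : Set X) (hT : IsClosed T)
    (hTU : T ⊆ (U : Set X)) (E : DCoh.D X)
    (hE : ∀ i : ℤ, ∀ x : X, x ∉ T → Subsingleton ((DCoh.HD E i).presheaf.stalk x)) :
    Nonempty (E ≅ (DCoh.Rpush U.ι).obj ((DCoh.restrictD U.ι).obj E)) := by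
  let V : X.Opens := ⟨Tᶜ, hT.isOpen_compl⟩
  have hUV : U ⊔ V = ⊤ := by
    ext x
    simp only [TopologicalSpace.Opens.coe_sup, Set.mem_union, SetLike.mem_coe,
      TopologicalSpace.Opens.coe_top, Set.mem_univ, iff_true]
    by_cases hx : x ∈ T
    · exact Or.inl (hTU hx)
    · exact Or.inr hx
  have := Groth.Agent.Lib.Seat28.RDExist.hasRpush V.ι
  have := Groth.Agent.Lib.Seat28.RDExist.hasRpush (U ⊓ V).ι
  have hV0 : IsZero ((DCoh.restrictD V.ι).obj E) :=
    isZero_restrictD V E fun i x hx => hE i x hx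
  have hUV0 : IsZero ((DCoh.restrictD (U ⊓ V).ι).obj E) :=
    isZero_restrictD (U ⊓ V) E fun i x hx => hE i x hx.2
  obtain ⟨a, b, c, hT'⟩ := Groth.Agent.S6510.result U V hUV E
  have h3 : IsZero (Triangle.mk a b c).obj₃ := isZero_rpush_obj (U ⊓ V).ι hUV0
  have ha : IsIso a := (Triangle.isZero₃_iff_isIso₁ _ hT').1 h3
  exact ⟨asIso a ≪≫ (isoBiprodZero (isZero_rpush_obj V.ι hV0)).symm⟩

end Groth.Agent.Lib.Seat28.Supp
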