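import Groth.Agent.Lib.Seat28ExtZeroStalk
import Groth.Agent.Lib.Seat28SuppRpush

/-!
# `j_!` on derived categories: `(j_! F)|_U ≅ F`, supports, and `j_! F ≅ Rj_* F` for `F` supported on a
closed subset of `X` contained in `U` (seat 28)
-/

set_option autoImplicit false
universe u
open CategoryTheory CategoryTheory.Limits AlgebraicGeometry Opposite

attribute [local instance] HasDerivedCategory.standard

namespace Groth.Agent.Lib.Seat28.Supp

variable {X : Scheme.{u}}

lemma subsingleton_stalk_of_iso {M N : X.Modules} (e : M ≅ N) (x : X)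
    (h : Subsingleton (N.presheaf.stalk x)) : Subsingleton (M.presheaf.stalk x) := by
  let e' := (Scheme.Modules.toPresheaf _ ⋙ TopCat.Presheaf.stalkFunctor _ x).mapIso e
  refine ⟨fun a b => ?_⟩
  have hab : e'.hom a = e'.hom b := Subsingleton.elim (α := N.presheaf.stalk x) _ _
  have h1 : ∀ c, e'.inv (e'.hom c) = c := fun c => by
    rw [← ConcreteCategory.comp_apply, e'.hom_inv_id]
    rfl
  rw [← h1 a, ← h1 b, hab]

variable (U : X.Opens) [PreservesFiniteLimits (CxOX.extZero U.ι)]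

/-- `(j_! F)|_U ≅ F` in the derived category. -/
lemma nonempty_restrictD_extZeroD_iso (F : DCoh.D (U : Scheme.{u})) :
    Nonempty ((DCoh.restrictD U.ι).obj ((CxOX.extZeroD U.ι).obj F) ≅ F) := by
  let K := DerivedCategory.Q.objPreimage F
  let e₀ : DerivedCategory.Q.obj K ≅ F := DerivedCategory.Q.objObjPreimageIso F
  let e₁ : (CxOX.extZeroD U.ι).obj (DerivedCategory.Q.obj K) ≅ DerivedCategory.Q.obj
      (((CxOX.extZero U.ι).mapHomologicalComplex (ComplexShape.up ℤ)).obj K) :=
    (CxOX.extZero U.ι).mapDerivedCategoryFactors.app K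
  let e₂ : (DCoh.restrictD U.ι).obj (DerivedCategory.Q.obj
      (((CxOX.extZero U.ι).mapHomologicalComplex (ComplexShape.up ℤ)).obj K)) ≅
      DerivedCategory.Q.obj (((Scheme.Modules.restrictFunctor U.ι).mapHomologicalComplex
        (ComplexShape.up ℤ)).obj
        (((CxOX.extZero U.ι).mapHomologicalComplex (ComplexShape.up ℤ)).obj K)) :=
    (Scheme.Modules.restrictFunctor U.ι).mapDerivedCategoryFactors.app _
  let e₃ : K ≅ ((Scheme.Modules.restrictFunctor U.ι).mapHomologicalComplex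
        (ComplexShape.up ℤ)).obj
        (((CxOX.extZero U.ι).mapHomologicalComplex (ComplexShape.up ℤ)).obj K) :=
    HomologicalComplex.Hom.isoOfComponents (fun i => (extZeroRestrictIso U).app (K.X i))
      (fun i j _ => ((extZeroRestrictIso U).hom.naturality (K.d i j)).symm)
  exact ⟨(DCoh.restrictD U.ι).mapIso ((CxOX.extZeroD U.ι).mapIso e₀.symm ≪≫ e₁) ≪≫ e₂ ≪≫
    (DerivedCategory.Q.mapIso e₃).symm ≪≫ e₀⟩

/-- stalks of the cohomology sheaves of `j_! F`. -/
lemma subsingleton_stalk_HD_extZeroD (F : DCoh.D (U : Scheme.{u})) (i : ℤ) (x : X)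
    (h : ∀ u : (U : Scheme.{u}), U.ι u = x → Subsingleton ((DCoh.HD F i).presheaf.stalk u)) :
    Subsingleton ((DCoh.HD ((CxOX.extZeroD U.ι).obj F) i).presheaf.stalk x) :=
  subsingleton_stalk_of_iso
    (Groth.Agent.Lib.Helper17.AdjWay.homologyIso (CxOX.extZero U.ι) F i) x
    (subsingleton_stalk_extZero U _ x h)

/-- `j_! F ≅ Rj_* F` when the cohomology sheaves of `F` are supported on a subset closed in `X`. -/
theorem nonempty_extZeroD_iso_rpush [DCoh.HasRpush U.ι] (T : Set X) (hT : IsClosed T)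
    (hTU : T ⊆ (U : Set X)) (F : DCoh.D (U : Scheme.{u}))
    (hF : ∀ i : ℤ, (fun x : (U : Scheme.{u}) => U.ι.base x) '' CohB1.support (DCoh.HD F i) ⊆ T) :
    Nonempty ((CxOX.extZeroD U.ι).obj F ≅ (DCoh.Rpush U.ι).obj F) := by
  obtain ⟨e⟩ := nonempty_iso_rpush_restrict U T hT hTU ((CxOX.extZeroD U.ι).obj F)
    (fun i x hx => subsingleton_stalk_HD_extZeroD U F i x (fun u hu => by
      by_contra hns
      exact hx (hF i ⟨u, hns, hu⟩)))
  obtain ⟨e'⟩ := nonempty_restrictD_extZeroD_iso U F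
  exact ⟨e ≪≫ (DCoh.Rpush U.ι).mapIso e'⟩

end Groth.Agent.Lib.Seat28.Supp
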