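import Groth.Agent.Lib.Seat28RpushAdd
import Groth.Agent.Lib.Seat28Supp
import Mathlib.CategoryTheory.Adjunction.Triple

/-!
# Stalks of extension by zero `j_!` along an open immersion of schemes (seat 28)

* `isIso_extZeroAdj_unit`: `G ≅ (j_! G)|_U` (from the adjoint triple `j_! ⊣ j^* ⊣ j_*`);
* `subsingleton_stalk_extZero`: the stalk of `j_! G` at `x` vanishes if `x ∉ U` or `x = j u` with `G_u = 0`.
-/

set_option autoImplicit false
universe u
open CategoryTheory CategoryTheory.Limits AlgebraicGeometry Opposite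
open Groth.Agent.Lib.Helper1.Sky

attribute [local instance] HasDerivedCategory.standard

namespace Groth.Agent.Lib.Seat28.Supp

variable {X : Scheme.{u}}

/-- the adjoint triple `j_! ⊣ j^* ⊣ j_*`. -/
noncomputable def extZeroTriple (U : X.Opens) :
    Adjunction.Triple (CxOX.extZero U.ι) (Scheme.Modules.restrictFunctor U.ι)
      (Scheme.Modules.pushforward U.ι) where
  adj₁ := CxOX.extZeroAdj U.ι
  adj₂ := Scheme.Modules.restrictAdjunction U.ι

instance isIso_extZeroAdj_unit (U : X.Opens) : IsIso (CxOX.extZeroAdj U.ι).unit :=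
  (extZeroTriple U).isIso_unit_iff_isIso_counit.2
    (inferInstanceAs (IsIso (Scheme.Modules.restrictAdjunction U.ι).counit))

/-- `G ≅ (j_! G)|_U`. -/
noncomputable def extZeroRestrictIso (U : X.Opens) :
    𝟭 (U : Scheme.{u}).Modules ≅ CxOX.extZero U.ι ⋙ Scheme.Modules.restrictFunctor U.ι :=
  asIso (CxOX.extZeroAdj U.ι).unit

lemma isZero_restrict_sky (U : X.Opens) (x : X) (hx : x ∉ U) (N : ModuleCat.{u} (Ox x)) :
    IsZero ((Scheme.Modules.restrictFunctor U.ι).obj ((skyFun x).obj N)) := by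
  refine Groth.Agent.Lib.Helper20.OmegaUnr.isZero_of_basis _ Set.univ ?_ ?_
  · rw [TopologicalSpace.Opens.isBasis_iff_nbhd]
    intro U x hx
    exact ⟨U, trivial, hx, le_rfl⟩
  · intro O _
    have hxO : x ∉ U.ι ''ᵁ O := fun h => hx (Scheme.Opens.ι_image_le U O h)
    change Subsingleton (SkyT X.presheaf x N (U.ι ''ᵁ O))
    refine ⟨fun s t => ?_⟩
    funext h
    exact absurd h.down hxO

/-- the stalk of `j_! G` vanishes outside of `U`. -/
lemma subsingleton_stalk_extZero_of_notMem (U : X.Opens) (G : (U : Scheme.{u}).Modules) (x : X)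
    (hx : x ∉ U) : Subsingleton (((CxOX.extZero U.ι).obj G).presheaf.stalk x) := by
  have hZ : IsZero ((stalkFun x).obj ((CxOX.extZero U.ι).obj G)) := by
    rw [IsZero.iff_id_eq_zero]
    apply ((stalkSkyAdj x).homEquiv _ _).injective
    apply ((CxOX.extZeroAdj U.ι).homEquiv _ _).injective
    exact (isZero_restrict_sky U x hx _).eq_of_tgt _ _
  exact ModuleCat.subsingleton_of_isZero hZ

/-- the stalk of `j_! G` at a point `j u` is the stalk of `G` at `u`. -/
lemma subsingleton_stalk_extZero_of_mem (U : X.Opens) (G : (U : Scheme.{u}).Modules)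
    (u : (U : Scheme.{u})) (hu : Subsingleton (G.presheaf.stalk u)) :
    Subsingleton (((CxOX.extZero U.ι).obj G).presheaf.stalk (U.ι u)) := by
  let M := (CxOX.extZero U.ι).obj G
  let e₁ := (Scheme.Modules.restrictStalkNatIso U.ι u).app M
  let e₂ := (Scheme.Modules.toPresheaf _ ⋙ TopCat.Presheaf.stalkFunctor _ u).mapIso
    ((extZeroRestrictIso U).app G)
  let e := e₂ ≪≫ e₁
  refine ⟨fun a b => ?_⟩
  have hab : e.inv a = e.inv b := Subsingleton.elim (α := G.presheaf.stalk u) _ _
  have h1 : ∀ c, e.hom (e.inv c) = c := fun c => by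
    rw [← ConcreteCategory.comp_apply, e.inv_hom_id]
    rfl
  rw [← h1 a, ← h1 b, hab]

lemma subsingleton_stalk_extZero (U : X.Opens) (G : (U : Scheme.{u}).Modules) (x : X)
    (h : ∀ u : (U : Scheme.{u}), U.ι u = x → Subsingleton (G.presheaf.stalk u)) :
    Subsingleton (((CxOX.extZero U.ι).obj G).presheaf.stalk x) := by
  by_cases hx : x ∈ U
  · have := subsingleton_stalk_extZero_of_mem U G ⟨x, hx⟩ (h ⟨x, hx⟩ rfl)
    exact this
  · exact subsingleton_stalk_extZero_of_notMem U G x hx

end Groth.Agent.Lib.Seat28.Supp
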