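import Groth.Agent.Lib.Seat28ExtZeroD
import Groth.Agent.Lib.Helper1Sky9
import Groth.Agent.Lib.Seat28FLF

/-!
# `Rj_*` of a perfect object supported on a closed subset of `X` contained in `U` is perfect (seat 28)
-/

set_option autoImplicit false
universe u
open CategoryTheory CategoryTheory.Limits AlgebraicGeometry Opposite ZeroObject

attribute [local instance] HasDerivedCategory.standard

namespace Groth.Agent.Lib.Seat28.Supp

lemma isStrictlyPerfect_restrict {A B : Scheme.{u}} (g : A ⟶ B) [IsOpenImmersion g]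
    (P : CochainComplex B.Modules ℤ) (hP : DCoh.IsStrictlyPerfect P) :
    DCoh.IsStrictlyPerfect
      (((Scheme.Modules.restrictFunctor g).mapHomologicalComplex (ComplexShape.up ℤ)).obj P) := by
  obtain ⟨⟨a, b, hv⟩, hfl⟩ := hP
  refine ⟨⟨a, b, fun i hi => (Scheme.Modules.restrictFunctor g).map_isZero (hv i hi)⟩, fun i => ?_⟩
  exact Groth.Agent.Lib.Seat28.FLF.isFinLocFree_of_iso
    ((Scheme.Modules.restrictFunctorIsoPullback g).app (P.X i)).symm
    (Groth.Agent.Lib.Helper1.Sky.isFinLocFree_pullback g _ (hfl i))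

lemma isStrictlyPerfect_zero (X : Scheme.{u}) :
    DCoh.IsStrictlyPerfect (0 : CochainComplex X.Modules ℤ) := by
  have hz : ∀ i : ℤ, IsZero ((0 : CochainComplex X.Modules ℤ).X i) := fun i =>
    (HomologicalComplex.eval X.Modules (ComplexShape.up ℤ) i).map_isZero (isZero_zero _)
  exact ⟨⟨0, 0, fun i _ => hz i⟩,
    fun i => Groth.Agent.Lib.Seat28.FLF.isFinLocFree_of_isZero _ (hz i)⟩

variable {X : Scheme.{u}}

lemma isPerfect_of_iso {K K' : DCoh.D X} (e : K ≅ K') (h : DCoh.IsPerfect K) :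
    DCoh.IsPerfect K' := by
  intro x
  obtain ⟨V, hxV, hV⟩ := h x
  exact ⟨V, hxV, fun F ⟨eF⟩ => hV F ⟨eF ≪≫ e.symm⟩⟩

/-- `Q (F|_V) ≅ (Q F)|_V`. -/
noncomputable def restrictCxIso (V : X.Opens) (F : CochainComplex X.Modules ℤ) :
    (DCoh.restrictD V.ι).obj (DerivedCategory.Q.obj F) ≅
      DerivedCategory.Q.obj ((DCoh.restrictCx V).obj F) :=
  (Scheme.Modules.restrictFunctor V.ι).mapDerivedCategoryFactors.app F

/-- transport of a local strictly perfect model from an open of `U` to its image in `X`. -/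
lemma exists_strictlyPerfect_image (U : X.Opens) (V' : (U : Scheme.{u}).Opens)
    (F : CochainComplex X.Modules ℤ)
    (E'' : CochainComplex (V' : Scheme.{u}).Modules ℤ) (hE'' : DCoh.IsStrictlyPerfect E'')
    (e : DerivedCategory.Q.obj ((DCoh.restrictCx V').obj ((DCoh.restrictCx U).obj F)) ≅
      DerivedCategory.Q.obj E'') :
    ∃ E''' : CochainComplex ((U.ι ''ᵁ V' : X.Opens) : Scheme.{u}).Modules ℤ,
      DCoh.IsStrictlyPerfect E''' ∧
      Nonempty (DerivedCategory.Q.obj ((DCoh.restrictCx (U.ι ''ᵁ V')).obj F) ≅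
        DerivedCategory.Q.obj E''') := by
  let V : X.Opens := U.ι ''ᵁ V'
  let φ : (V' : Scheme.{u}) ≅ (V : Scheme.{u}) := U.ι.isoImage V'
  have hφ : φ.inv ≫ V'.ι ≫ U.ι = V.ι := U.ι.isoImage_inv_ι V'
  let R := Scheme.Modules.restrictFunctor φ.inv
  refine ⟨(R.mapHomologicalComplex (ComplexShape.up ℤ)).obj E'',
    isStrictlyPerfect_restrict φ.inv E'' hE'', ⟨?_⟩⟩
  -- the termwise comparison
  let θ : Scheme.Modules.restrictFunctor V.ι ≅
      Scheme.Modules.restrictFunctor U.ι ⋙ Scheme.Modules.restrictFunctor V'.ι ⋙ R :=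
    Scheme.Modules.restrictFunctorCongr hφ.symm ≪≫
      Scheme.Modules.restrictFunctorComp φ.inv (V'.ι ≫ U.ι) ≪≫
      Functor.isoWhiskerRight (Scheme.Modules.restrictFunctorComp V'.ι U.ι) R ≪≫
      Functor.associator _ _ _
  let e₁ : (DCoh.restrictCx V).obj F ≅ (R.mapHomologicalComplex (ComplexShape.up ℤ)).obj
      ((DCoh.restrictCx V').obj ((DCoh.restrictCx U).obj F)) :=
    HomologicalComplex.Hom.isoOfComponents (fun n => θ.app (F.X n))
      (fun i j _ => (θ.hom.naturality (F.d i j)).symm)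
  exact DerivedCategory.Q.mapIso e₁ ≪≫
    (R.mapDerivedCategoryFactors.app _).symm ≪≫ R.mapDerivedCategory.mapIso e ≪≫
    R.mapDerivedCategoryFactors.app E''

/-- `j_! E` is perfect if `E` is perfect with cohomology supported on `T` and `j(T)` is closed. -/
theorem isPerfect_extZeroD (U : X.Opens) [PreservesFiniteLimits (CxOX.extZero U.ι)]
    (E : DCoh.D (U : Scheme.{u})) (hE : DCoh.IsPerfect E) (T : Set (U : Scheme.{u}))
    (hjT : IsClosed ((fun x : (U : Scheme.{u}) => U.ι.base x) '' T))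
    (hsupp : ∀ i : ℤ, CohB1.support (DCoh.HD E i) ⊆ T) :
    DCoh.IsPerfect ((CxOX.extZeroD U.ι).obj E) := by
  intro x
  by_cases hx : x ∈ (fun x : (U : Scheme.{u}) => U.ι.base x) '' T
  · obtain ⟨u, _, rfl⟩ := hx
    obtain ⟨V', huV', hV'⟩ := hE u
    refine ⟨U.ι ''ᵁ V', ⟨u, huV', rfl⟩, fun F ⟨eF⟩ => ?_⟩
    obtain ⟨e₀⟩ := nonempty_restrictD_extZeroD_iso U E
    obtain ⟨E'', hE'', ⟨e⟩⟩ := hV' ((DCoh.restrictCx U).obj F)
      ⟨(restrictCxIso U F).symm ≪≫ (DCoh.restrictD U.ι).mapIso eF ≪≫ e₀⟩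
    obtain ⟨E''', h, ⟨e'⟩⟩ := exists_strictlyPerfect_image U V' F E'' hE'' e
    exact ⟨E''', h, ⟨e'⟩⟩
  · let V : X.Opens := ⟨((fun x : (U : Scheme.{u}) => U.ι.base x) '' T)ᶜ, hjT.isOpen_compl⟩
    refine ⟨V, hx, fun F ⟨eF⟩ => ⟨0, isStrictlyPerfect_zero _, ⟨?_⟩⟩⟩
    have h1 : IsZero ((DCoh.restrictD V.ι).obj ((CxOX.extZeroD U.ι).obj E)) :=
      isZero_restrictD V _ (fun i y hy => subsingleton_stalk_HD_extZeroD U E i y (fun u hu => by
        by_contra hns
        exact hy ⟨u, hsupp i hns, hu⟩))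
    have h2 : IsZero (DerivedCategory.Q.obj ((DCoh.restrictCx V).obj F)) :=
      IsZero.of_iso h1 ((restrictCxIso V F).symm ≪≫ (DCoh.restrictD V.ι).mapIso eF)
    exact h2.iso (DerivedCategory.Q.map_isZero (isZero_zero _))

/-- `Rj_* E` is perfect if `E` is perfect with cohomology supported on `T` and `j(T)` is closed. -/
theorem isPerfect_rpush (U : X.Opens) [DCoh.HasRpush U.ι]
    (E : DCoh.D (U : Scheme.{u})) (hE : DCoh.IsPerfect E) (T : Set (U : Scheme.{u}))
    (hjT : IsClosed ((fun x : (U : Scheme.{u}) => U.ι.base x) '' T))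
    (hsupp : ∀ i : ℤ, CohB1.support (DCoh.HD E i) ⊆ T) :
    DCoh.IsPerfect ((DCoh.Rpush U.ι).obj E) := by
  have hTU : (fun x : (U : Scheme.{u}) => U.ι.base x) '' T ⊆ (U : Set X) := by
    rintro _ ⟨u, _, rfl⟩
    exact Subtype.property (p := fun x : X => x ∈ U) u
  obtain ⟨e⟩ := nonempty_extZeroD_iso_rpush U _ hjT hTU E
    (fun i => Set.image_mono (hsupp i))
  exact isPerfect_of_iso e (isPerfect_extZeroD U E hE T hjT hsupp)

end Groth.Agent.Lib.Seat28.Supp
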