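import Groth.Agent.Lib.Seat28QBij
import Groth.Agent.Lib.Helper21UnitHom
import Groth.Agent.Lib.Helper2LocFree
import Groth.Agent.Lib.Seat28FLF
import Groth.Agent.Lib.Seat28PerfPush

/-!
# Direct images of K-injective complexes are acyclic for global sections (seat 28)
-/

set_option autoImplicit false
set_option linter.style.haveILetI false
universe u
open CategoryTheory CategoryTheory.Limits AlgebraicGeometry HomologicalComplex Opposite
open Groth.Agent.Lib.Helper17.KInj Groth.Agent.Lib.Helper1.Sky Groth.Agent.Lib.Helper1.BKF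

attribute [local instance] HasDerivedCategory.standard

namespace Groth.Agent.Lib.Seat28.Good

open Groth.Agent.Lib.Seat28.RD

variable (Y : Scheme.{u})

lemma isFinLocFree_structureModule : FlatMod.IsFinLocFree (Coh.structureModule Y) :=
  Groth.Agent.Lib.Helper2.LocFree.isFinLocFree_of_iso_freeMod _ (m := 1)
    (coproductUniqueIso (fun _ : Fin 1 => Coh.structureModule Y)).symm

/-- the structure sheaf placed in degree `n`. -/
noncomputable abbrev SO (n : ℤ) : CochainComplex Y.Modules ℤ :=
  (HomologicalComplex.single Y.Modules (ComplexShape.up ℤ) n).obj (Coh.structureModule Y)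

lemma isStrictlyPerfect_SO (n : ℤ) : DCoh.IsStrictlyPerfect (SO Y n) := by
  refine ⟨⟨n, n, fun i hi => ?_⟩, fun i => ?_⟩
  · exact HomologicalComplex.isZero_single_obj_X _ _ _ _ (by omega)
  · by_cases h : i = n
    · subst h
      exact Groth.Agent.Lib.Seat28.FLF.isFinLocFree_of_iso
        (HomologicalComplex.singleObjXSelf (ComplexShape.up ℤ) i (Coh.structureModule Y)).symm
        (isFinLocFree_structureModule Y)
    · exact Groth.Agent.Lib.Seat28.FLF.isFinLocFree_of_isZero _
        (HomologicalComplex.isZero_single_obj_X _ _ _ _ h)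

lemma kffs_SO (n : ℤ) : KFFs (SO Y n) := kffs_of_isStrictlyPerfect _ (isStrictlyPerfect_SO Y n)

/-- `Hom(O_Y, M) ≃+ Γ(Y, M)`. -/
noncomputable def secEquiv (M : Y.Modules) :
    (Coh.structureModule Y ⟶ M) ≃+ (DCoh.gammaAb Y).obj M :=
  Groth.Agent.Lib.Helper21.UnitHom.unitHomAddEquiv (R := Y.ringCatSheaf) (T := (⊤ : Y.Opens))
    isTerminalTop M

lemma secEquiv_comp {M N : Y.Modules} (g : Coh.structureModule Y ⟶ M) (φ : M ⟶ N) :
    secEquiv Y N (g ≫ φ) = (DCoh.gammaAb Y).map φ (secEquiv Y M g) := rfl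

/-- a complex receiving no nonzero homotopy classes of maps from the shifted structure sheaves
has acyclic global sections. -/
lemma acyc_gamma_of_hom_eq_zero (C : CochainComplex Y.Modules ℤ)
    (h : ∀ (n : ℤ) (x : (HomotopyCategory.quotient Y.Modules (ComplexShape.up ℤ)).obj (SO Y n) ⟶
      (HomotopyCategory.quotient Y.Modules (ComplexShape.up ℤ)).obj C), x = 0) :
    Acyc (((DCoh.gammaAb Y).mapHomologicalComplex (ComplexShape.up ℤ)).obj C) := by
  rw [acyc_iff_acyclic]
  intro n
  rw [HomologicalComplex.exactAt_iff' _ (n - 1) n (n + 1) (by simp) (by simp),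
    ShortComplex.ab_exact_iff]
  intro z hz
  obtain ⟨fz, rfl⟩ := (secEquiv Y (C.X n)).surjective z
  have hfz : fz ≫ C.d n (n + 1) = 0 := by
    apply (secEquiv Y _).injective
    rw [secEquiv_comp, map_zero]
    exact hz
  let ψ : SO Y n ⟶ C := HomologicalComplex.mkHomFromSingle fz (fun k hk => by
    obtain rfl : n + 1 = k := hk
    exact hfz)
  have hψ := h n ((HomotopyCategory.quotient Y.Modules (ComplexShape.up ℤ)).map ψ)
  rw [HomotopyCategory.quotient_map_eq_zero_iff] at hψ
  obtain ⟨H⟩ := hψ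
  have hc := H.comm n
  have hd : dNext n H.hom = 0 := by
    rw [dNext_eq H.hom (show (ComplexShape.up ℤ).Rel n (n + 1) from rfl),
      HomologicalComplex.single_obj_d, zero_comp]
  have hp : prevD n H.hom = H.hom n (n - 1) ≫ C.d (n - 1) n :=
    prevD_eq H.hom (show (ComplexShape.up ℤ).Rel (n - 1) n by simp)
  have hψn : ψ.f n = (HomologicalComplex.singleObjXSelf (ComplexShape.up ℤ) n
      (Coh.structureModule Y)).hom ≫ fz := HomologicalComplex.mkHomFromSingle_f _ _
  rw [hd, hp, hψn, zero_add, HomologicalComplex.zero_f, add_zero] at hc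
  have hfz2 : fz = ((HomologicalComplex.singleObjXSelf (ComplexShape.up ℤ) n
      (Coh.structureModule Y)).inv ≫ H.hom n (n - 1)) ≫ C.d (n - 1) n := by
    rw [Category.assoc, ← hc, Iso.inv_hom_id_assoc]
  refine ⟨secEquiv Y (C.X (n - 1)) ((HomologicalComplex.singleObjXSelf (ComplexShape.up ℤ) n
      (Coh.structureModule Y)).inv ≫ H.hom n (n - 1)), ?_⟩
  conv_rhs => rw [hfz2]
  rw [secEquiv_comp]
  rfl

instance instHasRΓ : DCoh.HasRΓ Y := Groth.Agent.Lib.Seat28.RDExist.hasRΓ Y

variable {Y}

/-- **Direct images of K-injective complexes are acyclic for global sections.** -/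
theorem isIso_unitC_gamma_pushC {X : Scheme.{u}} (f : X ⟶ Y) (I : CochainComplex X.Modules ℤ)
    [I.IsKInjective] :
    IsIso ((unitC (DCoh.gammaAb Y)).app ((pushC f).obj I)) := by
  let M := (pushC f).obj I
  let j : M ⟶ (fibRepl₀ Y.Modules).obj M := (fibReplι₀ Y.Modules).app M
  have hq : trivCof j := trivCof_fibReplι₀ Y.Modules M
  haveI : QuasiIso j := hq.2
  haveI hJ : CochainComplex.IsKInjective ((fibRepl₀ Y.Modules).obj M) :=
    (fibrant_fibRepl₀ Y.Modules M).isKInjective
  have hac : Acyc (((DCoh.gammaAb Y).mapHomologicalComplex (ComplexShape.up ℤ)).obj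
      (CochainComplex.mappingCone j)) := by
    apply acyc_gamma_of_hom_eq_zero
    intro n x
    exact eq_zero_of_qBij j (SO Y n) (good_pushC f _ (kffs_SO Y n) I)
      (good_of_isKInjective _ _)
      (good_of_iso (((pushC f).commShiftIso (1 : ℤ)).app I)
        (good_pushC f _ (kffs_SO Y n) (I⟦(1 : ℤ)⟧)))
      (good_of_isKInjective _ _) x
  haveI hqi : QuasiIso (((DCoh.gammaAb Y).mapHomologicalComplex (ComplexShape.up ℤ)).map j) :=
    quasiIso_of_acyc_cone _ (Acyc.of_iso
      (CochainComplex.mappingCone.mapHomologicalComplexIso j (DCoh.gammaAb Y)) hac)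
  haveI h1 : IsIso (DerivedCategory.Q.map
      (((DCoh.gammaAb Y).mapHomologicalComplex (ComplexShape.up ℤ)).map j)) := by
    rw [DerivedCategory.isIso_Q_map_iff_quasiIso]
    exact hqi
  haveI h2 : IsIso (DerivedCategory.Q.map j) := by
    rw [DerivedCategory.isIso_Q_map_iff_quasiIso]
    infer_instance
  haveI h3 : IsIso ((unitC (DCoh.gammaAb Y)).app ((fibRepl₀ Y.Modules).obj M)) :=
    isIso_unitC_app.{u} (DCoh.gammaAb Y) _
  have hn := (unitC (DCoh.gammaAb Y)).naturality j
  dsimp at hn
  haveI h4 : IsIso ((RFun (DCoh.gammaAb Y)).map (DerivedCategory.Q.map j)) := inferInstance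
  have h5 : (unitC (DCoh.gammaAb Y)).app M =
      (DerivedCategory.Q.map (((DCoh.gammaAb Y).mapHomologicalComplex (ComplexShape.up ℤ)).map j) ≫
        (unitC (DCoh.gammaAb Y)).app ((fibRepl₀ Y.Modules).obj M)) ≫
        inv ((RFun (DCoh.gammaAb Y)).map (DerivedCategory.Q.map j)) := by
    rw [hn, Category.assoc, IsIso.hom_inv_id, Category.comp_id]
  rw [show (unitC (DCoh.gammaAb Y)).app ((pushC f).obj I) = (unitC (DCoh.gammaAb Y)).app M from rfl,
    h5]
  infer_instance

end Groth.Agent.Lib.Seat28.Good
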