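import Groth.Agent.Lib.Seat28Approx
import Groth.Agent.Lib.Helper1KBC2

/-!
# Gluing objects of `D(O_X)` over two opens (seat 28)
-/

set_option autoImplicit false
set_option linter.style.haveILetI false
universe u
open CategoryTheory CategoryTheory.Limits AlgebraicGeometry Pretriangulated

attribute [local instance] HasDerivedCategory.standard

namespace Groth.Agent.Lib.Seat28.Glue

open Groth.Agent.Lib.Seat28.RD Groth.Agent.Lib.Seat28.Supp Groth.Agent.Lib.Seat28.Approx

section Tri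

variable {C : Type*} [Category C] [HasZeroObject C] [HasShift C ℤ] [Preadditive C]
  [∀ n : ℤ, (shiftFunctor C n).Additive] [Pretriangulated C]

/-- In a distinguished triangle `M ⟶ Y ⟶ F` where `Y` is decomposed as `A' ⊕ B'` and the component
`M ⟶ B'` of the first map is an isomorphism, the composite `A' ⟶ Y ⟶ F` is an isomorphism. -/
lemma isIso_inl_comp_mor₂ (T : Triangle C) (hT : T ∈ distTriang C) {A' B' : C}
    (inl : A' ⟶ T.obj₂) (inr : B' ⟶ T.obj₂) (fst : T.obj₂ ⟶ A') (snd : T.obj₂ ⟶ B')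
    (h1 : inl ≫ fst = 𝟙 A') (h2 : inl ≫ snd = 0)
    (h5 : fst ≫ inl + snd ≫ inr = 𝟙 T.obj₂) (hu : IsIso (T.mor₁ ≫ snd)) :
    IsIso (inl ≫ T.mor₂) := by
  let u := T.mor₁ ≫ snd
  let p := T.mor₁ ≫ fst
  let π : T.obj₂ ⟶ A' := fst - snd ≫ inv u ≫ p
  have hfπ : T.mor₁ ≫ π = 0 := by
    dsimp only [π, p]
    rw [Preadditive.comp_sub, ← Category.assoc T.mor₁ snd, IsIso.hom_inv_id_assoc, sub_self]
  have hmono : Mono T.mor₁ := by
    have : T.mor₁ ≫ (snd ≫ inv u) = 𝟙 _ := by
      rw [← Category.assoc]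
      exact IsIso.hom_inv_id u
    exact mono_of_mono_fac this
  have hepi : Epi T.mor₂ := T.epi₂ hT (T.mor₃_eq_zero_of_mono₁ hT hmono)
  obtain ⟨κ, hκ⟩ := T.yoneda_exact₂ hT π hfπ
  have hfg : T.mor₁ ≫ T.mor₂ = 0 := comp_distTriang_mor_zero₁₂ T hT
  have h6 : inv u ≫ p ≫ inl ≫ T.mor₂ + inr ≫ T.mor₂ = 0 := by
    have h7 : T.mor₁ ≫ (fst ≫ inl + snd ≫ inr) ≫ T.mor₂ = 0 := by
      rw [h5, Category.id_comp, hfg]
    rw [Preadditive.add_comp, Preadditive.comp_add] at h7
    have h8 : u ≫ (inv u ≫ p ≫ inl ≫ T.mor₂ + inr ≫ T.mor₂) = 0 := by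
      rw [Preadditive.comp_add, IsIso.hom_inv_id_assoc]
      simpa [u, p, Category.assoc] using h7
    exact (cancel_epi u).mp (h8.trans comp_zero.symm)
  refine ⟨κ, ?_, ?_⟩
  · rw [Category.assoc, ← hκ]
    dsimp only [π]
    rw [Preadditive.comp_sub, h1, reassoc_of% h2, zero_comp, sub_zero]
  · rw [← cancel_epi T.mor₂, ← Category.assoc, ← hκ, Category.comp_id]
    dsimp only [π]
    rw [Preadditive.sub_comp]
    conv_rhs => rw [← Category.id_comp T.mor₂, ← h5, Preadditive.add_comp]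
    rw [sub_eq_add_neg]
    congr 1
    · rw [Category.assoc]
    · have h9 : snd ≫ (inv u ≫ p ≫ inl ≫ T.mor₂ + inr ≫ T.mor₂) = 0 := by rw [h6, comp_zero]
      rw [Preadditive.comp_add] at h9
      simp only [Category.assoc]
      exact (eq_neg_of_add_eq_zero_left h9).symm ▸ by simp

end Tri

section Stalk

open Groth.Agent.Lib.Helper1.Sky Groth.Agent.Lib.Helper1.KBC Groth.Agent.Lib.Helper1.StalkTensor

variable {X : Scheme.{u}}

/-- the middle term of an exact sequence of modules has trivial stalk where the outer terms do. -/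
lemma subsingleton_stalk_of_exact (S : ShortComplex X.Modules) (hS : S.Exact) (x : X)
    (h₁ : Subsingleton (S.X₁.presheaf.stalk x)) (h₃ : Subsingleton (S.X₃.presheaf.stalk x)) :
    Subsingleton (S.X₂.presheaf.stalk x) := by
  have hS' : (S.map (stalkFun x)).Exact := hS.map (stalkFun x)
  have hz₁ : IsZero ((stalkFun x).obj S.X₁) := by
    haveI : Subsingleton ((stalkFun x).obj S.X₁) := h₁
    exact ModuleCat.isZero_of_subsingleton _
  have hz₃ : IsZero ((stalkFun x).obj S.X₃) := by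
    haveI : Subsingleton ((stalkFun x).obj S.X₃) := h₃
    exact ModuleCat.isZero_of_subsingleton _
  have hz₂ : IsZero ((stalkFun x).obj S.X₂) :=
    hS'.isZero_of_both_zeros (hz₁.eq_of_src _ _) (hz₃.eq_of_tgt _ _)
  exact ModuleCat.subsingleton_of_isZero hz₂

end Stalk

section Supp

variable {X : Scheme.{u}}

/-- a morphism of `D(O_X)` which is an isomorphism over the open `W ≤ U` and whose source and
target have no cohomology at the points of `U ∖ W` is an isomorphism over `U`. -/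
lemma isIso_restrictD_map_of_supp (W U : X.Opens) {M N : DCoh.D X} (φ : M ⟶ N)
    (hφ : IsIso ((DCoh.restrictD W.ι).map φ))
    (hM : ∀ (i : ℤ) (x : X), x ∈ U → x ∉ W → Subsingleton ((DCoh.HD M i).presheaf.stalk x))
    (hN : ∀ (i : ℤ) (x : X), x ∈ U → x ∉ W → Subsingleton ((DCoh.HD N i).presheaf.stalk x)) :
    IsIso ((DCoh.restrictD U.ι).map φ) := by
  obtain ⟨C, g, h, hT⟩ := distinguished_cocone_triangle φ
  have hTU := (DCoh.restrictD U.ι).map_distinguished _ hT
  have hTW := (DCoh.restrictD W.ι).map_distinguished _ hT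
  refine (Triangle.isZero₃_iff_isIso₁ _ hTU).1 ?_
  show IsZero ((DCoh.restrictD U.ι).obj C)
  have hCW : IsZero ((DCoh.restrictD W.ι).obj C) := Triangle.isZero₃_of_isIso₁ _ hTW hφ
  apply isZero_restrictD
  intro i x hxU
  by_cases hxW : x ∈ W
  · have h2 : IsZero ((Scheme.Modules.restrictFunctor W.ι).obj (DCoh.HD C i)) :=
      IsZero.of_iso ((DerivedCategory.homologyFunctor _ i).map_isZero hCW)
        (Groth.Agent.Lib.Helper17.AdjWay.homologyIso (Scheme.Modules.restrictFunctor W.ι) C i).symm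
    exact subsingleton_stalk_of_isZero_restrict W _ h2 x hxW
  · exact subsingleton_stalk_of_exact _
      (DerivedCategory.HomologySequence.exact₃ _ hT i (i + 1) rfl) x
      (hN i x hxU hxW) (hM (i + 1) x hxU hxW)

end Supp

section RdComp

open DerivedCategory

variable {U' W' X : Scheme.{u}} (j₁ : W' ⟶ U') (j : U' ⟶ X) [IsOpenImmersion j₁] [IsOpenImmersion j]

/-- termwise restriction of complexes. -/
noncomputable abbrev Rc {U' X : Scheme.{u}} (j : U' ⟶ X) [IsOpenImmersion j] :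
    CochainComplex X.Modules ℤ ⥤ CochainComplex U'.Modules ℤ :=
  (Scheme.Modules.restrictFunctor j).mapHomologicalComplex (ComplexShape.up ℤ)

/-- double restriction of complexes. -/
noncomputable def rcCompIso (F : CochainComplex X.Modules ℤ) :
    (Rc (j₁ ≫ j)).obj F ≅ (Rc j₁).obj ((Rc j).obj F) :=
  HomologicalComplex.Hom.isoOfComponents
    (fun i => (Scheme.Modules.restrictFunctorComp j₁ j).app (F.X i))
    (fun i k _ => ((Scheme.Modules.restrictFunctorComp j₁ j).hom.naturality (F.d i k)).symm)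

/-- `restrictD` on a complex. -/
noncomputable def rdQIso {U' X : Scheme.{u}} (j : U' ⟶ X) [IsOpenImmersion j]
    (F : CochainComplex X.Modules ℤ) :
    (DCoh.restrictD j).obj (Q.obj F) ≅ Q.obj ((Rc j).obj F) :=
  (Scheme.Modules.restrictFunctor j).mapDerivedCategoryFactors.app F

/-- objectwise composition isomorphism for `restrictD`. -/
noncomputable def rdCompObjIso (M : DCoh.D X) :
    (DCoh.restrictD (j₁ ≫ j)).obj M ≅ (DCoh.restrictD j₁).obj ((DCoh.restrictD j).obj M) :=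
  let F := Q.objPreimage M
  let e : Q.obj F ≅ M := Q.objObjPreimageIso M
  (DCoh.restrictD (j₁ ≫ j)).mapIso e.symm ≪≫ rdQIso (j₁ ≫ j) F ≪≫
    Q.mapIso (rcCompIso j₁ j F) ≪≫ (rdQIso j₁ ((Rc j).obj F)).symm ≪≫
    (DCoh.restrictD j₁).mapIso ((rdQIso j F).symm ≪≫ (DCoh.restrictD j).mapIso e)

/-- restriction along equal open immersions. -/
noncomputable def rdEqIso {U' X : Scheme.{u}} {j j' : U' ⟶ X} [IsOpenImmersion j] [IsOpenImmersion j']
    (h : j = j') (M : DCoh.D X) : (DCoh.restrictD j).obj M ≅ (DCoh.restrictD j').obj M := by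
  subst h
  exact Iso.refl _

end RdComp

section Main

variable {X : Scheme.{u}} (U V : X.Opens)

lemma isIso_restrictD_map_adjunct (W : X.Opens) {P : DCoh.D (W : Scheme.{u})} {E : DCoh.D X}
    (θ : P ⟶ (DCoh.restrictD W.ι).obj E) (hθ : IsIso θ) :
    IsIso ((DCoh.restrictD W.ι).map (((extZeroDAdj W).homEquiv P E).symm θ)) := by
  have h := ((extZeroDAdj W).homEquiv P E).apply_symm_apply θ
  rw [Adjunction.homEquiv_unit] at h
  have h2 : (DCoh.restrictD W.ι).map (((extZeroDAdj W).homEquiv P E).symm θ) =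
      inv ((extZeroDAdj W).unit.app P) ≫ θ := by
    rw [IsIso.eq_inv_comp]
    exact h
  rw [h2]
  infer_instance

theorem exists_glue (_hUV : U ⊔ V = ⊤)
    (A : DCoh.D (U : Scheme.{u})) (B : DCoh.D (V : Scheme.{u}))
    (c : (DCoh.restrictD (X.homOfLE (inf_le_left : U ⊓ V ≤ U))).obj A ≅
      (DCoh.restrictD (X.homOfLE (inf_le_right : U ⊓ V ≤ V))).obj B) :
    ∃ F : DCoh.D X, Nonempty ((DCoh.restrictD U.ι).obj F ≅ A) ∧
      Nonempty ((DCoh.restrictD V.ι).obj F ≅ B) := by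
  let W : X.Opens := U ⊓ V
  let a := X.homOfLE (inf_le_left : U ⊓ V ≤ U)
  let b := X.homOfLE (inf_le_right : U ⊓ V ≤ V)
  let AX := (CxOX.extZeroD U.ι).obj A
  let BX := (CxOX.extZeroD V.ι).obj B
  let ηA := asIso ((extZeroDAdj U).unit.app A)
  let ηB := asIso ((extZeroDAdj V).unit.app B)
  let θA : (DCoh.restrictD a).obj A ≅ (DCoh.restrictD W.ι).obj AX :=
    (DCoh.restrictD a).mapIso ηA ≪≫ (rdCompObjIso a U.ι AX).symm ≪≫
      rdEqIso (X.homOfLE_ι (inf_le_left : U ⊓ V ≤ U)) AX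
  let θB : (DCoh.restrictD a).obj A ≅ (DCoh.restrictD W.ι).obj BX :=
    c ≪≫ (DCoh.restrictD b).mapIso ηB ≪≫ (rdCompObjIso b V.ι BX).symm ≪≫
      rdEqIso (X.homOfLE_ι (inf_le_right : U ⊓ V ≤ V)) BX
  let M := (CxOX.extZeroD W.ι).obj ((DCoh.restrictD a).obj A)
  let p : M ⟶ AX := ((extZeroDAdj W).homEquiv _ _).symm θA.hom
  let q : M ⟶ BX := ((extZeroDAdj W).homEquiv _ _).symm θB.hom
  have hpW : IsIso ((DCoh.restrictD W.ι).map p) := isIso_restrictD_map_adjunct W θA.hom inferInstance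
  have hqW : IsIso ((DCoh.restrictD W.ι).map q) := isIso_restrictD_map_adjunct W θB.hom inferInstance
  have hMs : ∀ (i : ℤ) (x : X), x ∉ W → Subsingleton ((DCoh.HD M i).presheaf.stalk x) := by
    intro i x hx
    apply subsingleton_stalk_HD_extZeroD
    intro w hw
    exact absurd (hw ▸ Subtype.property (p := fun x : X => x ∈ W) w) hx
  have hAs : ∀ (i : ℤ) (x : X), x ∉ U → Subsingleton ((DCoh.HD AX i).presheaf.stalk x) := by
    intro i x hx
    apply subsingleton_stalk_HD_extZeroD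
    intro w hw
    exact absurd (hw ▸ Subtype.property (p := fun x : X => x ∈ U) w) hx
  have hBs : ∀ (i : ℤ) (x : X), x ∉ V → Subsingleton ((DCoh.HD BX i).presheaf.stalk x) := by
    intro i x hx
    apply subsingleton_stalk_HD_extZeroD
    intro w hw
    exact absurd (hw ▸ Subtype.property (p := fun x : X => x ∈ V) w) hx
  have hqU : IsIso ((DCoh.restrictD U.ι).map q) :=
    isIso_restrictD_map_of_supp W U q hqW (fun i x _ hxW => hMs i x hxW)
      (fun i x hxU hxW => hBs i x (fun hxV => hxW ⟨hxU, hxV⟩))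
  have hpV : IsIso ((DCoh.restrictD V.ι).map p) :=
    isIso_restrictD_map_of_supp W V p hpW (fun i x _ hxW => hMs i x hxW)
      (fun i x hxV hxW => hAs i x (fun hxU => hxW ⟨hxU, hxV⟩))
  obtain ⟨F, g, h, hT⟩ := distinguished_cocone_triangle (biprod.lift p q)
  have hTU := (DCoh.restrictD U.ι).map_distinguished _ hT
  have hTV := (DCoh.restrictD V.ι).map_distinguished _ hT
  have eU1 : (DCoh.restrictD U.ι).map (biprod.inl : AX ⟶ AX ⊞ BX) ≫
      (DCoh.restrictD U.ι).map biprod.fst = 𝟙 _ := by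
    rw [← Functor.map_comp, biprod.inl_fst, CategoryTheory.Functor.map_id]
  have eU2 : (DCoh.restrictD U.ι).map (biprod.inl : AX ⟶ AX ⊞ BX) ≫
      (DCoh.restrictD U.ι).map biprod.snd = 0 := by
    rw [← Functor.map_comp, biprod.inl_snd, Functor.map_zero]
  have eU5 : (DCoh.restrictD U.ι).map (biprod.fst : AX ⊞ BX ⟶ AX) ≫
      (DCoh.restrictD U.ι).map biprod.inl + (DCoh.restrictD U.ι).map (biprod.snd : AX ⊞ BX ⟶ BX) ≫
      (DCoh.restrictD U.ι).map biprod.inr = 𝟙 _ := by
    rw [← Functor.map_comp, ← Functor.map_comp, ← Functor.map_add, biprod.total,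
      CategoryTheory.Functor.map_id]
  have eUu : IsIso ((DCoh.restrictD U.ι).map (biprod.lift p q) ≫
      (DCoh.restrictD U.ι).map (biprod.snd : AX ⊞ BX ⟶ BX)) := by
    rw [← Functor.map_comp, biprod.lift_snd]
    exact hqU
  have eV1 : (DCoh.restrictD V.ι).map (biprod.inr : BX ⟶ AX ⊞ BX) ≫
      (DCoh.restrictD V.ι).map biprod.snd = 𝟙 _ := by
    rw [← Functor.map_comp, biprod.inr_snd, CategoryTheory.Functor.map_id]
  have eV2 : (DCoh.restrictD V.ι).map (biprod.inr : BX ⟶ AX ⊞ BX) ≫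
      (DCoh.restrictD V.ι).map biprod.fst = 0 := by
    rw [← Functor.map_comp, biprod.inr_fst, Functor.map_zero]
  have eV5 : (DCoh.restrictD V.ι).map (biprod.snd : AX ⊞ BX ⟶ BX) ≫
      (DCoh.restrictD V.ι).map biprod.inr + (DCoh.restrictD V.ι).map (biprod.fst : AX ⊞ BX ⟶ AX) ≫
      (DCoh.restrictD V.ι).map biprod.inl = 𝟙 _ := by
    rw [← Functor.map_comp, ← Functor.map_comp, ← Functor.map_add, add_comm, biprod.total,
      CategoryTheory.Functor.map_id]
  have eVu : IsIso ((DCoh.restrictD V.ι).map (biprod.lift p q) ≫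
      (DCoh.restrictD V.ι).map (biprod.fst : AX ⊞ BX ⟶ AX)) := by
    rw [← Functor.map_comp, biprod.lift_fst]
    exact hpV
  refine ⟨F, ⟨?_⟩, ⟨?_⟩⟩
  · have hiso : IsIso ((DCoh.restrictD U.ι).map (biprod.inl : AX ⟶ AX ⊞ BX) ≫
        (DCoh.restrictD U.ι).map g) :=
      isIso_inl_comp_mor₂ _ hTU _ _ _ _ eU1 eU2 eU5 eUu
    exact (ηA ≪≫ @asIso _ _ _ _ ((DCoh.restrictD U.ι).map (biprod.inl : AX ⟶ AX ⊞ BX) ≫
        (DCoh.restrictD U.ι).map g) hiso).symm
  · have hiso : IsIso ((DCoh.restrictD V.ι).map (biprod.inr : BX ⟶ AX ⊞ BX) ≫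
        (DCoh.restrictD V.ι).map g) :=
      isIso_inl_comp_mor₂ _ hTV _ _ _ _ eV1 eV2 eV5 eVu
    exact (ηB ≪≫ @asIso _ _ _ _ ((DCoh.restrictD V.ι).map (biprod.inr : BX ⟶ AX ⊞ BX) ≫
        (DCoh.restrictD V.ι).map g) hiso).symm

end Main

end Groth.Agent.Lib.Seat28.Glue
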