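import Groth.Agent.Lib.Seat28RD
import Groth.Prelude.Def_DCoh2

/-!
# Existence of unbounded total right derived functors (seat 28)

For an additive functor `G : B ⥤ A` out of a Grothendieck abelian category, the functor
`K(B) ⥤ D(A)` induced by `G` has a total right derived functor with respect to quasi-isomorphisms.
In particular `DCoh.HasRpush f` and `DCoh.HasRΓ X` hold for all schemes.
-/

set_option autoImplicit false
set_option linter.style.haveILetI false
universe w w₁ w₂ v v' u u'
open CategoryTheory CategoryTheory.Limits HomologicalComplex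
open Groth.Agent.Lib.Helper17.KInj Groth.Agent.Lib.Seat28.RD

namespace Groth.Agent.Lib.Seat28.RDExist

variable {A : Type u} [Category.{v} A] [Abelian A] {B : Type u'} [Category.{v'} B] [Abelian B]
  [IsGrothendieckAbelian.{w} B] [HasDerivedCategory.{w₁} A] [HasDerivedCategory.{w₂} B]
  (G : B ⥤ A) [G.Additive]

/-- `C(B) ⥤ D(A)` induced by `G`. -/
noncomputable abbrev Fc : CochainComplex B ℤ ⥤ DerivedCategory A :=
  G.mapHomologicalComplex (ComplexShape.up ℤ) ⋙ DerivedCategory.Q

lemma hasRightDerivedFunctor_cx :
    (Fc G).HasRightDerivedFunctor (HomologicalComplex.quasiIso B (ComplexShape.up ℤ)) := by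
  have hd := fibLocalizerMorphism_derives.{w} (Fc G) (isInvertedBy_mapHomologicalComplex_comp_Q G)
  have := hd.hasPointwiseRightDerivedFunctor
  infer_instance

/-- **Existence of the unbounded total right derived functor.** -/
theorem hasRightDerivedFunctor_Kh :
    (Kh G).HasRightDerivedFunctor (HomotopyCategory.quasiIso B (ComplexShape.up ℤ)) := by
  haveI := hasRightDerivedFunctor_cx.{w} G
  let W := HomologicalComplex.quasiIso B (ComplexShape.up ℤ)
  let RG := (Fc G).totalRightDerived DerivedCategory.Q W
  let β : Fc G ⟶ DerivedCategory.Q ⋙ RG := (Fc G).totalRightDerivedUnit DerivedCategory.Q W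
  letI l₁ : Localization.Lifting (HomotopyCategory.quotient B (ComplexShape.up ℤ))
      (HomologicalComplex.homotopyEquivalences B (ComplexShape.up ℤ)) (Fc G) (Kh G) :=
    ⟨isoF₀ G⟩
  letI l₂ : Localization.Lifting (HomotopyCategory.quotient B (ComplexShape.up ℤ))
      (HomologicalComplex.homotopyEquivalences B (ComplexShape.up ℤ))
      (DerivedCategory.Q ⋙ RG) (DerivedCategory.Qh ⋙ RG) :=
    ⟨(Functor.associator _ _ _).symm ≪≫
      Functor.isoWhiskerRight (DerivedCategory.quotientCompQhIso B) RG⟩
  let βK : Kh G ⟶ DerivedCategory.Qh ⋙ RG :=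
    Localization.liftNatTrans (HomotopyCategory.quotient B (ComplexShape.up ℤ))
      (HomologicalComplex.homotopyEquivalences B (ComplexShape.up ℤ))
      (Fc G) (DerivedCategory.Q ⋙ RG) (Kh G) (DerivedCategory.Qh ⋙ RG) β
  have hγ : γOfK G RG βK = (isoF₀ G).hom ≫ β := by
    ext K
    have h := Localization.liftNatTrans_app (HomotopyCategory.quotient B (ComplexShape.up ℤ))
      (HomologicalComplex.homotopyEquivalences B (ComplexShape.up ℤ))
      (Fc G) (DerivedCategory.Q ⋙ RG) (Kh G) (DerivedCategory.Qh ⋙ RG) β K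
    simp only [γOfK, NatTrans.comp_app, Functor.whiskerLeft_app,
      Functor.associator_inv_app, Functor.whiskerRight_app, Category.id_comp]
    erw [h]
    simp [Localization.Lifting.iso, l₁, l₂]
  have hu : unitOfK G RG βK = β := by
    rw [unitOfK, hγ, Iso.inv_hom_id_assoc]
  have h1 : RG.IsLeftKanExtension β :=
    Functor.IsRightDerivedFunctor.isLeftKanExtension RG β W
  have h3 : RG.IsLeftKanExtension (γOfK G RG βK) :=
    (Functor.isLeftKanExtension_iff_of_iso₂ (γOfK G RG βK) (unitOfK G RG βK) (isoF₀ G)
      (Iso.refl RG) (by simp [unitOfK])).2 (hu ▸ h1)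
  haveI hKan : (Kh G).IsLeftKanExtension
      (𝟙 (HomotopyCategory.quotient B (ComplexShape.up ℤ) ⋙ Kh G)) :=
    (Functor.isRightDerivedFunctor_of_inverts
      (HomologicalComplex.homotopyEquivalences B (ComplexShape.up ℤ))
      (Kh G) (Iso.refl _)).isLeftKanExtension
  have h2 : RG.IsLeftKanExtension βK :=
    (Functor.isLeftKanExtension_iff_postcompose
      (𝟙 (HomotopyCategory.quotient B (ComplexShape.up ℤ) ⋙ Kh G))
      (L' := DerivedCategory.Qh) (L'' := DerivedCategory.Q)
      (DerivedCategory.quotientCompQhIso B) βK (γOfK G RG βK) rfl).2 h3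
  haveI : RG.IsRightDerivedFunctor βK (HomotopyCategory.quasiIso B (ComplexShape.up ℤ)) := ⟨h2⟩
  exact Functor.HasRightDerivedFunctor.mk' (RF := RG) (α := βK)

section Scheme

open AlgebraicGeometry

attribute [local instance] HasDerivedCategory.standard

universe u₀

/-- `Rf_*` exists on unbounded derived categories, for every morphism of schemes. -/
theorem hasRpush {X Y : Scheme.{u₀}} (f : X ⟶ Y) : DCoh.HasRpush f :=
  hasRightDerivedFunctor_Kh.{u₀} (Scheme.Modules.pushforward f)

/-- `RΓ(X, -)` exists on the unbounded derived category, for every scheme. -/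
theorem hasRΓ (X : Scheme.{u₀}) : DCoh.HasRΓ X :=
  hasRightDerivedFunctor_Kh.{u₀} (DCoh.gammaAb X)

end Scheme

end Groth.Agent.Lib.Seat28.RDExist
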