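import Groth.Agent.Lib.Seat28DAdj
import Groth.Agent.Lib.Seat28RDExist

/-!
# `Rf_*` is additive and preserves limits; `Lf^*` is additive and preserves colimits (seat 28)
-/

set_option autoImplicit false
universe u
open CategoryTheory CategoryTheory.Limits AlgebraicGeometry

attribute [local instance] HasDerivedCategory.standard

namespace Groth.Agent.Lib.Seat28.RD

variable {X Y : Scheme.{u}} (f : X ⟶ Y)

/-- `Rf_*` is a right adjoint. -/
lemma isRightAdjoint_rpush [DCoh.HasRpush f] : (DCoh.Rpush f).IsRightAdjoint := by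
  have := Groth.Agent.Lib.Helper1.Sky.hasLpull f
  exact (lpullRpushAdj f).isRightAdjoint

/-- `Lf^*` is a left adjoint. -/
lemma isLeftAdjoint_lpull [DCoh.HasLpull f] : (DCoh.Lpull f).IsLeftAdjoint := by
  have := Groth.Agent.Lib.Seat28.RDExist.hasRpush f
  exact (lpullRpushAdj f).isLeftAdjoint

lemma preservesLimits_rpush [DCoh.HasRpush f] :
    PreservesLimitsOfSize.{u, u} (DCoh.Rpush f) := by
  have := Groth.Agent.Lib.Helper1.Sky.hasLpull f
  exact (lpullRpushAdj f).rightAdjoint_preservesLimits

lemma preservesColimits_lpull [DCoh.HasLpull f] :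
    PreservesColimitsOfSize.{u, u} (DCoh.Lpull f) := by
  have := Groth.Agent.Lib.Seat28.RDExist.hasRpush f
  exact (lpullRpushAdj f).leftAdjoint_preservesColimits

lemma additive_rpush [DCoh.HasRpush f] : (DCoh.Rpush f).Additive := by
  have := Groth.Agent.Lib.Helper1.Sky.hasLpull f
  have hlim : PreservesLimitsOfSize.{0, 0} (DCoh.Rpush f) :=
    (lpullRpushAdj f).rightAdjoint_preservesLimits
  have hz : (DCoh.Rpush f).PreservesZeroMorphisms := inferInstance
  have hb : PreservesBinaryBiproducts (DCoh.Rpush f) :=
    preservesBinaryBiproducts_of_preservesBinaryProducts _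
  exact Functor.additive_of_preservesBinaryBiproducts _

lemma additive_lpull [DCoh.HasLpull f] : (DCoh.Lpull f).Additive := by
  have := Groth.Agent.Lib.Seat28.RDExist.hasRpush f
  have := additive_rpush f
  exact (lpullRpushAdj f).left_adjoint_additive

lemma isZero_rpush_obj [DCoh.HasRpush f] {E : DCoh.D X} (hE : IsZero E) :
    IsZero ((DCoh.Rpush f).obj E) := by
  have := additive_rpush f
  exact (DCoh.Rpush f).map_isZero hE

end Groth.Agent.Lib.Seat28.RD
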