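import Groth.Agent.Lib.Seat28DAdj
import Groth.Agent.Lib.Seat28RDExist
import Groth.Agent.Lib.Seat28RpushAdd

/-!
# Direct images of K-injective complexes are right orthogonal to K-flat complexes, up to `Q` (seat 28)

For `f : X ⟶ Y`, a K-flat complex `P` with flat terms on `Y` and a K-injective complex `I` on `X`,
the localization functor induces a bijection `Hom_K(P, f_* I) ≃ Hom_D(P, f_* I)`.
-/

set_option autoImplicit false
set_option linter.style.haveILetI false
universe u
open CategoryTheory CategoryTheory.Limits AlgebraicGeometry HomologicalComplex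
open Groth.Agent.Lib.Helper17.KInj Groth.Agent.Lib.Helper1.Sky Groth.Agent.Lib.Helper1.CI
  Groth.Agent.Lib.Helper1.BKF

attribute [local instance] HasDerivedCategory.standard

namespace Groth.Agent.Lib.Seat28.Good

open Groth.Agent.Lib.Seat28.RD

variable {X Y : Scheme.{u}} (f : X ⟶ Y)

/-- the termwise adjunction `f^* ⊣ f_*` on complexes. -/
noncomputable abbrev adjC : pullC f ⊣
    (Scheme.Modules.pushforward f).mapHomologicalComplex (ComplexShape.up ℤ) :=
  Groth.Agent.Lib.Helper17.SerreLoc.adjHC (Scheme.Modules.pullbackPushforwardAdjunction f)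
    (ComplexShape.up ℤ)

/-- termwise direct image of complexes. -/
noncomputable abbrev pushC : CochainComplex X.Modules ℤ ⥤ CochainComplex Y.Modules ℤ :=
  (Scheme.Modules.pushforward f).mapHomologicalComplex (ComplexShape.up ℤ)

instance : DCoh.HasRpush f := Groth.Agent.Lib.Seat28.RDExist.hasRpush f
instance : DCoh.HasLpull f := hasLpull f

lemma key (P : CochainComplex Y.Modules ℤ) (I : CochainComplex X.Modules ℤ)
    (φ : (pullC f).obj P ⟶ I) :
    DerivedCategory.Q.map ((adjC f).homEquiv P I φ) ≫
        (unitC (Scheme.Modules.pushforward f)).app I =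
      (lpullRpushAdj f).homEquiv (DerivedCategory.Q.obj P) (DerivedCategory.Q.obj I)
        ((lpullCounitQ f).app P ≫ DerivedCategory.Q.map φ) := by
  haveI := isLeftDerivedFunctor_lpullQ_comp f (DCoh.Rpush f)
  haveI := isRightDerivedFunctor_postGen.{u} (Scheme.Modules.pushforward f) (DCoh.Lpull f)
  have h1 := (adjC f).derivedη_fac_app
    (HomologicalComplex.quasiIso Y.Modules (ComplexShape.up ℤ))
    (lpullCounitQ f) (unitC (Scheme.Modules.pushforward f)) P
  have h2 := (unitC (Scheme.Modules.pushforward f)).naturality φ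
  rw [Adjunction.homEquiv_unit, Adjunction.homEquiv_unit, Functor.map_comp, Functor.map_comp,
    Category.assoc]
  dsimp at h2
  rw [h2]
  rw [← Category.assoc, ← h1]
  rw [Category.assoc]
  rfl

/-- a pair `(P, M)` of complexes such that the localization functor is bijective on `Hom_K(P, M)`. -/
def QBij {A : Type*} [Category A] [Abelian A] [HasDerivedCategory A]
    (P M : CochainComplex A ℤ) : Prop :=
  Function.Bijective (fun ψ : ((HomotopyCategory.quotient A (ComplexShape.up ℤ)).obj P ⟶
    (HomotopyCategory.quotient A (ComplexShape.up ℤ)).obj M) => DerivedCategory.Qh.map ψ)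

lemma good_of_isKInjective {A : Type*} [Category A] [Abelian A] [HasDerivedCategory A]
    (P J : CochainComplex A ℤ) [J.IsKInjective] : QBij P J :=
  CochainComplex.IsKInjective.Qh_map_bijective _ J

lemma quotient_map_pushC_eq_zero {I I' : CochainComplex X.Modules ℤ} (φ : I ⟶ I')
    (h : (HomotopyCategory.quotient _ (ComplexShape.up ℤ)).map φ = 0) :
    (HomotopyCategory.quotient _ (ComplexShape.up ℤ)).map ((pushC f).map φ) = 0 := by
  rw [HomotopyCategory.quotient_map_eq_zero_iff] at h ⊢
  obtain ⟨h⟩ := h
  refine ⟨((Scheme.Modules.pushforward f).mapHomotopy h).trans (Homotopy.ofEq ?_)⟩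
  exact Functor.map_zero _ _ _

lemma good_pushC (P : CochainComplex Y.Modules ℤ) (hP : KFFs P)
    (I : CochainComplex X.Modules ℤ) [I.IsKInjective] : QBij P ((pushC f).obj I) := by
  haveI hα : IsIso ((lpullCounitQ f).app P) := isIso_lpullCounitQ_app f P hP
  haveI hβ : IsIso ((unitC (Scheme.Modules.pushforward f)).app I) :=
    isIso_unitC_app.{u} (Scheme.Modules.pushforward f) I
  haveI hadd := additive_rpush f
  have hzero : ∀ ψ' : P ⟶ (pushC f).obj I, DerivedCategory.Q.map ψ' = 0 →
      (HomotopyCategory.quotient _ (ComplexShape.up ℤ)).map ψ' = 0 := by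
    intro ψ' h0
    obtain ⟨φ, rfl⟩ := ((adjC f).homEquiv P I).surjective ψ'
    have hk := key f P I φ
    rw [h0, zero_comp] at hk
    have h1 : (lpullCounitQ f).app P ≫ DerivedCategory.Q.map φ = 0 := by
      apply ((lpullRpushAdj f).homEquiv _ _).injective
      rw [← hk, Adjunction.homEquiv_unit, Functor.map_zero, comp_zero]
    have h2 : DerivedCategory.Q.map φ = 0 := by
      rw [← cancel_epi ((lpullCounitQ f).app P), h1, comp_zero]
    have h3 : (HomotopyCategory.quotient _ (ComplexShape.up ℤ)).map φ = 0 := by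
      apply (CochainComplex.IsKInjective.Qh_map_bijective _ I).injective
      rw [Functor.map_zero]
      exact h2
    rw [Adjunction.homEquiv_unit, Functor.map_comp, quotient_map_pushC_eq_zero f φ h3, comp_zero]
  constructor
  · intro ψ₁ ψ₂ h
    dsimp only at h
    obtain ⟨ψ', hψ'⟩ := (HomotopyCategory.quotient _ (ComplexShape.up ℤ)).map_surjective (ψ₁ - ψ₂)
    have h0 : DerivedCategory.Q.map ψ' = 0 := by
      show DerivedCategory.Qh.map ((HomotopyCategory.quotient _ (ComplexShape.up ℤ)).map ψ') = 0
      rw [hψ', Functor.map_sub, h, sub_self]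
    have := hzero ψ' h0
    rw [hψ'] at this
    exact sub_eq_zero.mp this
  · intro g
    let h := ((lpullRpushAdj f).homEquiv (DerivedCategory.Q.obj P) (DerivedCategory.Q.obj I)).symm
      (g ≫ (unitC (Scheme.Modules.pushforward f)).app I)
    let k := inv ((lpullCounitQ f).app P) ≫ h
    obtain ⟨φ', hφ'⟩ := (CochainComplex.IsKInjective.Qh_map_bijective
      ((HomotopyCategory.quotient _ (ComplexShape.up ℤ)).obj ((pullC f).obj P)) I).surjective k
    obtain ⟨φ, rfl⟩ := (HomotopyCategory.quotient _ (ComplexShape.up ℤ)).map_surjective φ'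
    refine ⟨(HomotopyCategory.quotient _ (ComplexShape.up ℤ)).map ((adjC f).homEquiv P I φ), ?_⟩
    have hk := key f P I φ
    have hφ2 : DerivedCategory.Q.map φ = inv ((lpullCounitQ f).app P) ≫ h := hφ'
    rw [hφ2, IsIso.hom_inv_id_assoc, Equiv.apply_symm_apply] at hk
    exact (cancel_mono ((unitC (Scheme.Modules.pushforward f)).app I)).mp hk

lemma good_of_iso {A : Type*} [Category A] [Abelian A] [HasDerivedCategory A]
    {P M M' : CochainComplex A ℤ} (e : M ≅ M') (h : QBij P M) : QBij P M' := by
  let eK := (HomotopyCategory.quotient A (ComplexShape.up ℤ)).mapIso e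
  constructor
  · intro ψ₁ ψ₂ hψ
    dsimp only at hψ
    have : ψ₁ ≫ eK.inv = ψ₂ ≫ eK.inv := by
      apply h.1
      dsimp only
      rw [Functor.map_comp, Functor.map_comp, hψ]
    exact (cancel_mono eK.inv).mp this
  · intro g
    obtain ⟨ψ, hψ⟩ := h.2 (g ≫ DerivedCategory.Qh.map eK.inv)
    dsimp only at hψ
    refine ⟨ψ ≫ eK.hom, ?_⟩
    dsimp only
    rw [Functor.map_comp, hψ, Category.assoc, ← Functor.map_comp, Iso.inv_hom_id,
      CategoryTheory.Functor.map_id, Category.comp_id]

end Groth.Agent.Lib.Seat28.Good
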