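import Groth.Agent.Lib.Seat28TrAssoc
import Groth.Agent.Lib.Helper1LDer4

set_option backward.isDefEq.respectTransparency.types false

/-!
# `(- ⊗^L K) ⊗^L L ≅ - ⊗^L (K ⊗ L)` for `L` K-flat, on a ringed site (seat 28)
-/

set_option autoImplicit false
universe u
open CategoryTheory CategoryTheory.Limits HomologicalComplex

attribute [local instance] HasDerivedCategory.standard

namespace Groth.Agent.Lib.Seat28.LTensorComp

open Groth.Agent.Lib.Helper1.BKF Groth.Agent.Lib.Helper1 Groth.Agent.Lib.Seat28.TrAssoc
open Groth.Agent.Lib.Helper21.ModTensor3 Groth.Agent.Lib.Helper21.ModTensor5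

variable {C : Type u} [SmallCategory C] {J : GrothendieckTopology C} {O : Sheaf J CommRingCat.{u}}

variable (K L : CochainComplex (ModSite.Mod O) ℤ)
  [ModSite.HasLTensorCx K] [ModSite.HasLTensorCx L]

/-- the counit of the composite `(- ⊗^L K) ⊗^L L`. -/
noncomputable def compCounit :
    DerivedCategory.Q ⋙ (ModSite.LTensorCx K ⋙ ModSite.LTensorCx L) ⟶
      ModSite.tensorCxQ (((ModSite.tensorCx O).obj K).obj L) :=
  (Functor.associator _ _ _).inv ≫
    Functor.whiskerRight ((ModSite.tensorCxQ K).totalLeftDerivedCounit DerivedCategory.Q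
      (HomologicalComplex.quasiIso (ModSite.Mod O) (ComplexShape.up ℤ))) (ModSite.LTensorCx L) ≫
    (Functor.associator _ _ _).hom ≫
    Functor.whiskerLeft ((ModSite.tensorCx O).flip.obj K)
      ((ModSite.tensorCxQ L).totalLeftDerivedCounit DerivedCategory.Q
        (HomologicalComplex.quasiIso (ModSite.Mod O) (ComplexShape.up ℤ))) ≫
    (Functor.associator _ _ _).inv ≫
    Functor.whiskerRight (trAssoc K L).hom DerivedCategory.Q

lemma isIso_counit_of_isKFlat_right (hL : ModSite.IsKFlat L) :
    IsIso ((ModSite.tensorCxQ L).totalLeftDerivedCounit DerivedCategory.Q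
      (HomologicalComplex.quasiIso (ModSite.Mod O) (ComplexShape.up ℤ))) :=
  Functor.isIso_of_isLeftDerivedFunctor_of_inverts _ _ (inverts_tensorCxQ_of_isKFlat L hL)

lemma compCounit_app (P : CochainComplex (ModSite.Mod O) ℤ) :
    (compCounit K L).app P =
      (ModSite.LTensorCx L).map (((ModSite.tensorCxQ K).totalLeftDerivedCounit DerivedCategory.Q
        (HomologicalComplex.quasiIso (ModSite.Mod O) (ComplexShape.up ℤ))).app P) ≫
      ((ModSite.tensorCxQ L).totalLeftDerivedCounit DerivedCategory.Q
        (HomologicalComplex.quasiIso (ModSite.Mod O) (ComplexShape.up ℤ))).app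
          (((ModSite.tensorCx O).obj P).obj K) ≫
      DerivedCategory.Q.map ((trAssoc K L).hom.app P) := by
  dsimp only [compCounit, NatTrans.comp_app, Functor.associator_inv_app,
    Functor.associator_hom_app, Functor.whiskerRight_app, Functor.whiskerLeft_app]
  simp only [Category.id_comp]
  rfl

lemma isIso_compCounit_app (hL : ModSite.IsKFlat L) (P : CochainComplex (ModSite.Mod O) ℤ)
    (hP : ModSite.IsKFlat P) : IsIso ((compCounit K L).app P) := by
  have h0 := isIso_counit_of_isKFlat K _ ((ModSite.tensorCxQ K).totalLeftDerivedCounit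
    DerivedCategory.Q (HomologicalComplex.quasiIso (ModSite.Mod O) (ComplexShape.up ℤ))) P hP
  have h1 : IsIso ((ModSite.LTensorCx L).map (((ModSite.tensorCxQ K).totalLeftDerivedCounit
      DerivedCategory.Q (HomologicalComplex.quasiIso (ModSite.Mod O) (ComplexShape.up ℤ))).app P)) :=
    Functor.map_isIso _ _
  have h2' := isIso_counit_of_isKFlat_right L hL
  have h2 : IsIso (((ModSite.tensorCxQ L).totalLeftDerivedCounit DerivedCategory.Q
        (HomologicalComplex.quasiIso (ModSite.Mod O) (ComplexShape.up ℤ))).app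
          (((ModSite.tensorCx O).obj P).obj K)) := NatIso.isIso_app_of_isIso _ _
  have h3 : IsIso (DerivedCategory.Q.map ((trAssoc K L).hom.app P)) := Functor.map_isIso _ _
  rw [compCounit_app]
  exact IsIso.comp_isIso' h1 (IsIso.comp_isIso' h2 h3)

variable [ModSite.HasLTensorCx (((ModSite.tensorCx O).obj K).obj L)]

lemma isLeftDerivedFunctor_comp (hL : ModSite.IsKFlat L) :
    (ModSite.LTensorCx K ⋙ ModSite.LTensorCx L).IsLeftDerivedFunctor (compCounit K L)
      (HomologicalComplex.quasiIso (ModSite.Mod O) (ComplexShape.up ℤ)) := by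
  obtain ⟨R, ψ, hR⟩ := exists_functorial_kflat_flat_resolution O
  exact LDerRes.isLeftDerivedFunctor_of_isIso_good DerivedCategory.Q
    (HomologicalComplex.quasiIso (ModSite.Mod O) (ComplexShape.up ℤ))
    (ModSite.tensorCxQ (((ModSite.tensorCx O).obj K).obj L)) R ψ
    (fun X => (hR X).2.2.1) (fun X => ModSite.IsKFlat X) (fun X => (hR X).1)
    (fun X Y f hf hX hY => by
      have : QuasiIso f := (HomologicalComplex.mem_quasiIso_iff f).1 hf
      have := quasiIso_TR_map_of_isKFlat_of_isKFlat X Y hX hY f
        (((ModSite.tensorCx O).obj K).obj L)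
      exact inferInstanceAs (IsIso (DerivedCategory.Q.map
        ((TR (ModSite.tensorBi O) (((ModSite.tensorCx O).obj K).obj L)).map f))))
    _ (compCounit K L) (fun P hP => isIso_compCounit_app K L hL P hP)

/-- `(- ⊗^L K) ⊗^L L ≅ - ⊗^L (K ⊗ L)` for `L` K-flat. -/
noncomputable def lTensorCompIso (hL : ModSite.IsKFlat L) :
    ModSite.LTensorCx K ⋙ ModSite.LTensorCx L ≅
      ModSite.LTensorCx (((ModSite.tensorCx O).obj K).obj L) :=
  have := isLeftDerivedFunctor_comp K L hL
  Functor.leftDerivedUnique (LF := ModSite.LTensorCx K ⋙ ModSite.LTensorCx L)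
    (LF' := ModSite.LTensorCx (((ModSite.tensorCx O).obj K).obj L))
    (α := compCounit K L)
    (α'₂ := (ModSite.tensorCxQ (((ModSite.tensorCx O).obj K).obj L)).totalLeftDerivedCounit
      DerivedCategory.Q (HomologicalComplex.quasiIso (ModSite.Mod O) (ComplexShape.up ℤ)))
    (HomologicalComplex.quasiIso (ModSite.Mod O) (ComplexShape.up ℤ))

end Groth.Agent.Lib.Seat28.LTensorComp
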