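import Mathlib
import Groth.Prelude.Def_Cyc
import Groth.Agent.Lib.Seat28PullCyc

/-!
# Rational equivalence and limits of schemes (seat 28)

For a cofiltered diagram `D` of schemes with affine transition maps and limit cone `c`:
* `resRange D c j ξ`: the subfield of `κ(ξ)` of elements coming from `κ(π_j ξ)`; `resRange_mono`;
* `exists_mem_resRange`: every element of `κ(ξ)` comes from a finite stage.
-/

set_option autoImplicit false
set_option linter.style.haveILetI false
universe u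
open CategoryTheory CategoryTheory.Limits AlgebraicGeometry TopologicalSpace IsLocalRing

namespace Groth.Agent.Lib.Seat28.LimRat

open Groth.Agent.Lib.Seat28.FibreMax Groth.Agent.Lib.Seat28.FibreLen Groth.Agent.Lib.Seat28.LimCyc
open Groth.Agent.Lib.Seat32.CycFin

variable {I : Type u} [Category.{u} I] (D : I ⥤ Scheme.{u}) (c : Cone D) (hc : IsLimit c)

/-- the subfield of `κ(ξ)` of elements coming from the stage `j`. -/
noncomputable def resRange (j : I) (ξ : c.pt) : Subfield (c.pt.residueField ξ) :=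
  ((c.π.app j).residueFieldMap ξ).hom.fieldRange

theorem resRange_mono {i j : I} (f : j ⟶ i) (ξ : c.pt) : resRange D c i ξ ≤ resRange D c j ξ := by
  rintro x ⟨u, rfl⟩
  have e : c.π.app i = c.π.app j ≫ D.map f := (c.w f).symm
  have h1 := Scheme.Hom.residueFieldMap_congr e ξ
  rw [Scheme.residueFieldMap_comp] at h1
  rw [h1]
  exact ⟨_, rfl⟩

include hc in
/-- the value at `ξ` of a section over the preimage of an affine open comes from a finite stage. -/
theorem exists_evaluation_mem_resRange [IsCofiltered I] [∀ {i j} (f : i ⟶ j), IsAffineHom (D.map f)]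
    (i : I) (V : (D.obj i).Opens) (hV : IsAffineOpen V) (ξ : c.pt) (hξ : ξ ∈ c.π.app i ⁻¹ᵁ V)
    (r : Γ(c.pt, c.π.app i ⁻¹ᵁ V)) :
    ∃ j : I, (c.pt.presheaf.germ _ ξ hξ ≫ c.pt.residue ξ).hom r ∈ resRange D c j ξ := by
  obtain ⟨j, f, h, t, ht⟩ := exists_appLE_eq D c hc i V hV r
  refine ⟨j, ?_⟩
  have hξ' : c.π.app j ξ ∈ D.map f ⁻¹ᵁ V := h hξ
  have e1 : c.pt.presheaf.germ _ ξ hξ r =
      (c.π.app j).stalkMap ξ ((D.obj j).presheaf.germ (D.map f ⁻¹ᵁ V) (c.π.app j ξ) hξ' t) := by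
    rw [Scheme.Hom.germ_stalkMap_apply, ht, Scheme.Hom.appLE]
    exact (TopCat.Presheaf.germ_res_apply c.pt.presheaf (homOfLE h) ξ hξ _)
  refine ⟨((D.obj j).residue (c.π.app j ξ)).hom
    ((D.obj j).presheaf.germ (D.map f ⁻¹ᵁ V) (c.π.app j ξ) hξ' t), ?_⟩
  have h2 := Scheme.residue_residueFieldMap (c.π.app j) ξ
  have h3 := congrArg (fun k => k.hom
    ((D.obj j).presheaf.germ (D.map f ⁻¹ᵁ V) (c.π.app j ξ) hξ' t)) h2
  change ((c.π.app j).residueFieldMap ξ).hom _ = (c.pt.residue ξ).hom (c.pt.presheaf.germ _ ξ hξ r)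
  rw [e1]
  exact h3

include hc in
/-- every element of the residue field of a point of the limit comes from a finite stage. -/
theorem exists_mem_resRange [IsCofiltered I] [∀ {i j} (f : i ⟶ j), IsAffineHom (D.map f)]
    (ξ : c.pt) (f : c.pt.residueField ξ) : ∃ j : I, f ∈ resRange D c j ξ := by
  obtain ⟨i₁⟩ := IsCofiltered.nonempty (C := I)
  obtain ⟨_, ⟨V, hV : IsAffineOpen V, rfl⟩, hξV, -⟩ :=
    (D.obj i₁).isBasis_affineOpens.exists_subset_of_mem_open
      (Set.mem_univ (c.π.app i₁ ξ)) isOpen_univ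
  haveI : IsAffineHom (c.π.app i₁) := isAffineHom_π_app D c hc i₁
  have hW : IsAffineOpen (c.π.app i₁ ⁻¹ᵁ V) := hV.preimage (c.π.app i₁)
  have hξW : ξ ∈ c.π.app i₁ ⁻¹ᵁ V := hξV
  obtain ⟨a, b, -, rfl⟩ := exists_eq_div hW ξ hξW f
  obtain ⟨ja, hja⟩ := exists_evaluation_mem_resRange D c hc i₁ V hV ξ hξW a
  obtain ⟨jb, hjb⟩ := exists_evaluation_mem_resRange D c hc i₁ V hV ξ hξW b
  refine ⟨IsCofiltered.min ja jb, ?_⟩
  exact div_mem (resRange_mono D c (IsCofiltered.minToLeft ja jb) ξ hja)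
    (resRange_mono D c (IsCofiltered.minToRight ja jb) ξ hjb)

end Groth.Agent.Lib.Seat28.LimRat
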