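import Groth.Agent.Lib.Seat28Conj
import Groth.Agent.Lib.Seat28MVTri

/-!
# The Mayer–Vietoris triangle for extension by zero `j_!` (seat 28)

For `X = U ∪ V` the sequence `0 → j_{W!}(M|_W) → j_{U!}(M|_U) ⊞ j_{V!}(M|_V) → M → 0` (`W = U ⊓ V`) is the
conjugate, under the adjunctions `j_! j^* ⊣ j_* j^*`, of the Mayer–Vietoris sequence of
`Seat28MVSheaf`; it is short exact, and gives a distinguished triangle in `D(O_X)`.
-/

set_option autoImplicit false
set_option linter.style.haveILetI false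
universe u
open CategoryTheory CategoryTheory.Limits AlgebraicGeometry HomologicalComplex
open Groth.Agent.Lib.Seat28.MVSheaf Groth.Agent.Lib.Seat28.RD Groth.Agent.Lib.Seat28.Conj

namespace Groth.Agent.Lib.Seat28.MVShriek

section BiprodFunctor

variable {A : Type*} [Category A] [Preadditive A] {B : Type*} [Category B] [Preadditive B]
  [HasBinaryBiproducts B] (F₁ F₂ : A ⥤ B)

/-- `M ↦ F₁ M ⊞ F₂ M`. -/
noncomputable abbrev F2 : A ⥤ B where
  obj M := F₁.obj M ⊞ F₂.obj M
  map φ := biprod.map (F₁.map φ) (F₂.map φ)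
  map_id M := by apply biprod.hom_ext <;> simp
  map_comp φ ψ := by apply biprod.hom_ext <;> simp

instance additive_F2 [F₁.Additive] [F₂.Additive] : (F2 F₁ F₂).Additive :=
  ⟨by intros; apply biprod.hom_ext <;> simp [Functor.map_add]⟩

/-- first projection -/
noncomputable def fstN : F2 F₁ F₂ ⟶ F₁ where
  app M := biprod.fst
  naturality M N φ := by simp [F2]

/-- second projection -/
noncomputable def sndN : F2 F₁ F₂ ⟶ F₂ where
  app M := biprod.snd
  naturality M N φ := by simp [F2]

/-- first inclusion -/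
noncomputable def inlN : F₁ ⟶ F2 F₁ F₂ where
  app M := biprod.inl
  naturality M N φ := by simp [F2]

/-- second inclusion -/
noncomputable def inrN : F₂ ⟶ F2 F₁ F₂ where
  app M := biprod.inr
  naturality M N φ := by simp [F2]

end BiprodFunctor

section BiprodQ

variable {A : Type*} [Category A] [Abelian A] {B : Type*} [Category B] [Abelian B]
  [HasDerivedCategory B] (F₁ F₂ : A ⥤ B) [F₁.Additive] [F₂.Additive]

lemma nonempty_iso_Q_F2 (K : CochainComplex A ℤ) :
    Nonempty (DerivedCategory.Q.obj (((F2 F₁ F₂).mapHomologicalComplex (ComplexShape.up ℤ)).obj K) ≅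
      DerivedCategory.Q.obj ((F₁.mapHomologicalComplex (ComplexShape.up ℤ)).obj K) ⊞
      DerivedCategory.Q.obj ((F₂.mapHomologicalComplex (ComplexShape.up ℤ)).obj K)) := by
  refine nonempty_iso_biprod
    (DerivedCategory.Q.map ((NatTrans.mapHomologicalComplex (fstN F₁ F₂) (ComplexShape.up ℤ)).app K))
    (DerivedCategory.Q.map ((NatTrans.mapHomologicalComplex (sndN F₁ F₂) (ComplexShape.up ℤ)).app K))
    (DerivedCategory.Q.map ((NatTrans.mapHomologicalComplex (inlN F₁ F₂) (ComplexShape.up ℤ)).app K))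
    (DerivedCategory.Q.map ((NatTrans.mapHomologicalComplex (inrN F₁ F₂) (ComplexShape.up ℤ)).app K))
    ?_ ?_ ?_ ?_ ?_
  · rw [← Functor.map_comp, ← CategoryTheory.Functor.map_id]
    congr 1
    ext n
    exact biprod.inl_fst
  · rw [← Functor.map_comp, ← CategoryTheory.Functor.map_id]
    congr 1
    ext n
    exact biprod.inr_snd
  · rw [← Functor.map_comp, ← Functor.map_zero DerivedCategory.Q]
    congr 1
    ext n
    exact biprod.inl_snd
  · rw [← Functor.map_comp, ← Functor.map_zero DerivedCategory.Q]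
    congr 1
    ext n
    exact biprod.inr_fst
  · rw [← Functor.map_comp, ← Functor.map_comp, ← Functor.map_add,
      ← CategoryTheory.Functor.map_id]
    congr 1
    ext n
    exact biprod.total

end BiprodQ

variable {X : Scheme.{u}}

/-- `S_O = j_{O!} ∘ (-)|_O`. -/
noncomputable abbrev SS (O : X.Opens) : X.Modules ⥤ X.Modules :=
  Scheme.Modules.restrictFunctor O.ι ⋙ CxOX.extZero O.ι

/-- the adjunction `j_! j^* ⊣ j_* j^*`. -/
noncomputable def adjST (O : X.Opens) : SS O ⊣ TT O :=
  (Scheme.Modules.restrictAdjunction O.ι).comp (CxOX.extZeroAdj O.ι)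

/-- `j_{O!}(M|_O) ⟶ M`, the conjugate of `M ⟶ j_{O*}(M|_O)`. -/
noncomputable def εε (O : X.Opens) : SS O ⟶ 𝟭 X.Modules := εOf (adjST O) (ηη O)

/-- `j_{W!}(M|_W) ⟶ j_{U!}(M|_U)` for `W ≤ U`, the conjugate of the restriction. -/
noncomputable def σσ {U W : X.Opens} (h : W ≤ U) : SS W ⟶ SS U :=
  σOf (adjST U) (adjST W) (ρρ h)

variable (U V : X.Opens)

lemma ηη_ρρ_eq : ηη U ≫ ρρ (inf_le_left : U ⊓ V ≤ U) = ηη V ≫ ρρ (inf_le_right : U ⊓ V ≤ V) := by
  ext M : 2
  rw [NatTrans.comp_app, NatTrans.comp_app, ηη_ρρ, ηη_ρρ]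

/-- the Mayer–Vietoris short complex for `j_!`. -/
noncomputable def mvSC' (M : X.Modules) : ShortComplex X.Modules :=
  conjSC (adjST U) (adjST V) (adjST (U ⊓ V)) (ηη U) (ηη V) (ρρ inf_le_left) (ρρ inf_le_right)
    (ηη_ρρ_eq U V) M

variable {U V}

theorem mvSC'_shortExact (hUV : U ⊔ V = ⊤) (M : X.Modules) : (mvSC' U V M).ShortExact :=
  conjSC_shortExact _ _ _ _ _ _ _ _ (fun I _ _ => mvSC_shortExact hUV I) M

variable (U V)

/-- `j_{W!}(M|_W) ⟶ j_{U!}(M|_U) ⊞ j_{V!}(M|_V)`. -/
noncomputable def aN' : SS (U ⊓ V) ⟶ F2 (SS U) (SS V) where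
  app M := (mvSC' U V M).f
  naturality M N φ := by
    apply biprod.hom_ext
    · simp only [mvSC', conjSC, F2, Category.assoc, biprod.lift_fst, biprod.map_fst,
        biprod.lift_fst_assoc]
      exact (σOf (adjST U) (adjST (U ⊓ V)) (ρρ inf_le_left)).naturality φ
    · simp only [mvSC', conjSC, F2, Category.assoc, biprod.lift_snd, biprod.map_snd,
        biprod.lift_snd_assoc]
      exact (σOf (adjST V) (adjST (U ⊓ V)) (ρρ inf_le_right)).naturality φ

/-- `j_{U!}(M|_U) ⊞ j_{V!}(M|_V) ⟶ M`. -/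
noncomputable def bN' : F2 (SS U) (SS V) ⟶ 𝟭 X.Modules where
  app M := (mvSC' U V M).g
  naturality M N φ := by
    apply biprod.hom_ext'
    · have h := (εOf (adjST U) (ηη U)).naturality φ
      simp only [Functor.id_map] at h
      simp only [mvSC', conjSC, F2, biprod.inl_map_assoc, Preadditive.comp_sub,
        biprod.inl_fst_assoc, biprod.inl_snd_assoc, zero_comp, sub_zero, Preadditive.sub_comp,
        Category.assoc, Functor.id_map, comp_zero, h]
    · have h := (εOf (adjST V) (ηη V)).naturality φ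
      simp only [Functor.id_map] at h
      simp only [mvSC', conjSC, F2, biprod.inr_map_assoc, Preadditive.comp_sub,
        biprod.inr_fst_assoc, biprod.inr_snd_assoc, zero_comp, zero_sub, Preadditive.sub_comp,
        Category.assoc, Functor.id_map, comp_zero, h]

section Triangle

open Pretriangulated

attribute [local instance] HasDerivedCategory.standard

/-- the Mayer–Vietoris short complex of complexes for `j_!`. -/
noncomputable def cxSC' (K : CochainComplex X.Modules ℤ) :
    ShortComplex (CochainComplex X.Modules ℤ) :=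
  ShortComplex.mk
    ((NatTrans.mapHomologicalComplex (aN' U V) (ComplexShape.up ℤ)).app K)
    ((NatTrans.mapHomologicalComplex (bN' U V) (ComplexShape.up ℤ)).app K)
    (HomologicalComplex.hom_ext _ _ (fun n => (mvSC' U V (K.X n)).zero))

variable {U V}

lemma cxSC'_shortExact (hUV : U ⊔ V = ⊤) (K : CochainComplex X.Modules ℤ) :
    (cxSC' U V K).ShortExact := by
  apply HomologicalComplex.shortExact_of_degreewise_shortExact
  intro n
  exact mvSC'_shortExact hUV (K.X n)

/-- the vertex of the triangle over an open `O`. -/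
lemma nonempty_iso_vertex (O : X.Opens) [PreservesFiniteLimits (CxOX.extZero O.ι)]
    (K : CochainComplex X.Modules ℤ) (E : DCoh.D X) (eE : DerivedCategory.Q.obj K ≅ E) :
    Nonempty (DerivedCategory.Q.obj (((SS O).mapHomologicalComplex (ComplexShape.up ℤ)).obj K) ≅
      (CxOX.extZeroD O.ι).obj ((DCoh.restrictD O.ι).obj E)) := by
  let J := ((Scheme.Modules.restrictFunctor O.ι).mapHomologicalComplex (ComplexShape.up ℤ)).obj K
  have e1 : (DCoh.restrictD O.ι).obj E ≅ (DCoh.restrictD O.ι).obj (DerivedCategory.Q.obj K) :=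
    (DCoh.restrictD O.ι).mapIso eE.symm
  have e2 : (DCoh.restrictD O.ι).obj (DerivedCategory.Q.obj K) ≅ DerivedCategory.Q.obj J :=
    (Scheme.Modules.restrictFunctor O.ι).mapDerivedCategoryFactors.app K
  have e3 : (CxOX.extZeroD O.ι).obj (DerivedCategory.Q.obj J) ≅
      DerivedCategory.Q.obj (((CxOX.extZero O.ι).mapHomologicalComplex (ComplexShape.up ℤ)).obj J) :=
    (CxOX.extZero O.ι).mapDerivedCategoryFactors.app J
  have e4 : ((CxOX.extZero O.ι).mapHomologicalComplex (ComplexShape.up ℤ)).obj J ≅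
      ((SS O).mapHomologicalComplex (ComplexShape.up ℤ)).obj K :=
    HomologicalComplex.Hom.isoOfComponents (fun n => Iso.refl _) (fun i j _ => by
      erw [Category.comp_id, Category.id_comp]
      rfl)
  exact ⟨(DerivedCategory.Q.mapIso e4).symm ≪≫ e3.symm ≪≫
    (CxOX.extZeroD O.ι).mapIso (e2.symm ≪≫ e1.symm)⟩

/-- the Mayer–Vietoris distinguished triangle for `j_!`. -/
theorem exists_mv_triangle_extZero (hUV : U ⊔ V = ⊤)
    [PreservesFiniteLimits (CxOX.extZero U.ι)] [PreservesFiniteLimits (CxOX.extZero V.ι)]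
    [PreservesFiniteLimits (CxOX.extZero (U ⊓ V).ι)] (E : DCoh.D X) :
    ∃ (a : (CxOX.extZeroD (U ⊓ V).ι).obj ((DCoh.restrictD (U ⊓ V).ι).obj E) ⟶
          ((CxOX.extZeroD U.ι).obj ((DCoh.restrictD U.ι).obj E) ⊞
            (CxOX.extZeroD V.ι).obj ((DCoh.restrictD V.ι).obj E)))
      (b : ((CxOX.extZeroD U.ι).obj ((DCoh.restrictD U.ι).obj E) ⊞
            (CxOX.extZeroD V.ι).obj ((DCoh.restrictD V.ι).obj E)) ⟶ E)
      (c : E ⟶ ((CxOX.extZeroD (U ⊓ V).ι).obj ((DCoh.restrictD (U ⊓ V).ι).obj E))⟦(1 : ℤ)⟧),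
      Triangle.mk a b c ∈ distTriang (DCoh.D X) := by
  let K := DerivedCategory.Q.objPreimage E
  let eE : DerivedCategory.Q.obj K ≅ E := DerivedCategory.Q.objObjPreimageIso E
  have hS := cxSC'_shortExact hUV K
  have hT := DerivedCategory.triangleOfSES_distinguished hS
  obtain ⟨eM⟩ := nonempty_iso_Q_F2 (SS U) (SS V) K
  obtain ⟨eU⟩ := nonempty_iso_vertex U K E eE
  obtain ⟨eV⟩ := nonempty_iso_vertex V K E eE
  obtain ⟨eW⟩ := nonempty_iso_vertex (U ⊓ V) K E eE
  have e₃ : DerivedCategory.Q.obj (((𝟭 X.Modules).mapHomologicalComplex (ComplexShape.up ℤ)).obj K) ≅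
      E := DerivedCategory.Q.mapIso ((Functor.mapHomologicalComplexIdIso X.Modules
        (ComplexShape.up ℤ)).app K) ≪≫ eE
  exact exists_distinguished_of_iso _ hT eW (eM ≪≫ biprod.mapIso eU eV) e₃

end Triangle

end Groth.Agent.Lib.Seat28.MVShriek
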