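import Groth.Agent.Lib.Seat28MVSheaf

/-!
# Direct image commutes with restriction to an open, on modules (seat 28)

`bcIso f V : pushforward f ⋙ restrictFunctor V.ι ≅ restrictFunctor (f ⁻¹ᵁ V).ι ⋙ pushforward (f ∣_ V)`.
-/

set_option autoImplicit false
set_option linter.style.haveILetI false
universe u
open CategoryTheory CategoryTheory.Limits AlgebraicGeometry Opposite TopologicalSpace

namespace Groth.Agent.Lib.Seat28.OpenBC

open Groth.Agent.Lib.Seat28.MVSheaf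

variable {X Y : Scheme.{u}} (f : X ⟶ Y) (V : Y.Opens)

/-- `j_{U*} f|_{V*}`-square: `j_{U*} ⋙ f_* ≅ (f|_V)_* ⋙ j_{V*}` for `U = f⁻¹ V`. -/
noncomputable def θθ : Scheme.Modules.pushforward (f ⁻¹ᵁ V).ι ⋙ Scheme.Modules.pushforward f ≅
    Scheme.Modules.pushforward (f ∣_ V) ⋙ Scheme.Modules.pushforward V.ι :=
  Scheme.Modules.pushforwardComp (f ⁻¹ᵁ V).ι f ≪≫
    Scheme.Modules.pushforwardCongr (morphismRestrict_ι f V).symm ≪≫
    (Scheme.Modules.pushforwardComp (f ∣_ V) V.ι).symm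

/-- the base change map `(f_* M)|_V ⟶ (f|_V)_* (M|_U)`. -/
noncomputable def bcHom : Scheme.Modules.pushforward f ⋙ Scheme.Modules.restrictFunctor V.ι ⟶
    Scheme.Modules.restrictFunctor (f ⁻¹ᵁ V).ι ⋙ Scheme.Modules.pushforward (f ∣_ V) :=
  (show Scheme.Modules.pushforward f ⋙ Scheme.Modules.restrictFunctor V.ι ⟶
      TT (f ⁻¹ᵁ V) ⋙ Scheme.Modules.pushforward f ⋙ Scheme.Modules.restrictFunctor V.ι from
    Functor.whiskerRight (ηη (f ⁻¹ᵁ V))
      (Scheme.Modules.pushforward f ⋙ Scheme.Modules.restrictFunctor V.ι)) ≫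
  (show TT (f ⁻¹ᵁ V) ⋙ Scheme.Modules.pushforward f ⋙ Scheme.Modules.restrictFunctor V.ι ⟶
      Scheme.Modules.restrictFunctor (f ⁻¹ᵁ V).ι ⋙ (Scheme.Modules.pushforward (f ∣_ V) ⋙
        Scheme.Modules.pushforward V.ι) ⋙ Scheme.Modules.restrictFunctor V.ι from
    Functor.whiskerLeft (Scheme.Modules.restrictFunctor (f ⁻¹ᵁ V).ι)
      (Functor.whiskerRight (θθ f V).hom (Scheme.Modules.restrictFunctor V.ι))) ≫
  (show Scheme.Modules.restrictFunctor (f ⁻¹ᵁ V).ι ⋙ (Scheme.Modules.pushforward (f ∣_ V) ⋙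
        Scheme.Modules.pushforward V.ι) ⋙ Scheme.Modules.restrictFunctor V.ι ⟶
      Scheme.Modules.restrictFunctor (f ⁻¹ᵁ V).ι ⋙ Scheme.Modules.pushforward (f ∣_ V) from
    Functor.whiskerLeft (Scheme.Modules.restrictFunctor (f ⁻¹ᵁ V).ι ⋙
      Scheme.Modules.pushforward (f ∣_ V)) (Scheme.Modules.restrictAdjunction V.ι).counit)

lemma bcHom_app (M : X.Modules) : (bcHom f V).app M =
    (Scheme.Modules.restrictFunctor V.ι).map ((Scheme.Modules.pushforward f).map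
      ((ηη (f ⁻¹ᵁ V)).app M)) ≫
    (Scheme.Modules.restrictFunctor V.ι).map ((θθ f V).hom.app
      ((Scheme.Modules.restrictFunctor (f ⁻¹ᵁ V).ι).obj M)) ≫
    (Scheme.Modules.restrictAdjunction V.ι).counit.app
      ((Scheme.Modules.pushforward (f ∣_ V)).obj
        ((Scheme.Modules.restrictFunctor (f ⁻¹ᵁ V).ι).obj M)) := rfl

lemma isIso_first (M : X.Modules) :
    IsIso ((Scheme.Modules.restrictFunctor V.ι).map ((Scheme.Modules.pushforward f).map
      ((ηη (f ⁻¹ᵁ V)).app M))) := by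
  rw [Scheme.Modules.Hom.isIso_iff_isIso_app]
  intro O
  have h : ((Scheme.Modules.restrictFunctor V.ι).map ((Scheme.Modules.pushforward f).map
      ((ηη (f ⁻¹ᵁ V)).app M))).app O =
      ((ηη (f ⁻¹ᵁ V)).app M).app (f ⁻¹ᵁ (V.ι ''ᵁ O)) := rfl
  rw [h, ηη_app_app]
  apply isIso_map_of_eq
  rw [cut_eq]
  refine inf_eq_right.2 (f.preimage_mono ?_)
  exact (V.ι.image_le_opensRange O).trans (le_of_eq V.opensRange_ι)

instance isIso_bcHom : IsIso (bcHom f V) := by
  haveI : ∀ M, IsIso ((bcHom f V).app M) := fun M => by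
    rw [bcHom_app]
    haveI := isIso_first f V M
    infer_instance
  exact NatIso.isIso_of_isIso_app _

/-- `(f_* M)|_V ≅ (f|_V)_* (M|_{f⁻¹ V})`, naturally in `M`. -/
noncomputable def bcIso : Scheme.Modules.pushforward f ⋙ Scheme.Modules.restrictFunctor V.ι ≅
    Scheme.Modules.restrictFunctor (f ⁻¹ᵁ V).ι ⋙ Scheme.Modules.pushforward (f ∣_ V) :=
  asIso (bcHom f V)

end Groth.Agent.Lib.Seat28.OpenBC
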