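import Mathlib
import Groth.Agent.Lib.Seat28FlatOrd

/-!
# Stacks 02QF for a quotient `B/P` (seat 28)

* `length_quot_sup_span_eq_sum`: for a Noetherian local ring `B`, an ideal `P` with `dim B/P ≤ 1` and `b ∈ B`
  a nonzerodivisor on `B/P`: `length (B/(P + bB)) = ∑_𝔮 length (B_𝔮/PB_𝔮) · length (B/(𝔮 + bB))`, the sum over the
  primes minimal over `P`.
* `length_quot_map_eq_sup_ker`: lengths of quotients along a surjection.
-/

set_option autoImplicit false
set_option linter.style.haveILetI false
universe u
open IsLocalRing TensorProduct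

namespace Groth.Agent.Lib.Seat28.QuotOrd

open Groth.Agent.Lib.Seat28.FlatOrd

section Surj

/-- lengths of quotients along a surjective ring homomorphism. -/
theorem length_quot_map_eq_sup_ker {R S : Type*} [CommRing R] [CommRing S] (π : R →+* S)
    (hπ : Function.Surjective π) (J : Ideal R) :
    Module.length S (S ⧸ J.map π) = Module.length R (R ⧸ (J ⊔ RingHom.ker π)) := by
  have h1 : (J ⊔ RingHom.ker π) = Ideal.comap π (J.map π) := by
    rw [Ideal.comap_map_of_surjective π hπ, RingHom.ker_eq_comap_bot]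
  let φ : R ⧸ (J ⊔ RingHom.ker π) →+* S ⧸ J.map π :=
    Ideal.quotientMap (J.map π) π (by rw [h1])
  have hφs : Function.Surjective φ := Ideal.quotientMap_surjective hπ
  have hφi : Function.Injective φ := by
    apply Ideal.quotientMap_injective'
    rw [h1]
  exact (length_quot_eq_of_ringEquiv _ _ (RingEquiv.ofBijective φ ⟨hφi, hφs⟩)).symm

end Surj

section Main

variable {B : Type u} [CommRing B] [IsLocalRing B] [IsNoetherianRing B]

/-- **Stacks 02QF for `B/P`.** -/
theorem length_quot_sup_span_eq_sum (P : Ideal B) (b : B)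
    (hb : Ideal.Quotient.mk P b ∈ nonZeroDivisors (B ⧸ P))
    (hdim : ∀ Q : Ideal B, Q.IsPrime → P ≤ Q → Q ∈ P.minimalPrimes ∨ Q = maximalIdeal B) :
    ((Module.length B (B ⧸ (P ⊔ Ideal.span {b}))).toNat : ℤ) =
      ∑ᶠ (q : PrimeSpectrum B) (_ : q.asIdeal ∈ P.minimalPrimes),
        ((Module.length (Localization.AtPrime q.asIdeal)
          (Localization.AtPrime q.asIdeal ⧸
            P.map (algebraMap B (Localization.AtPrime q.asIdeal)))).toNat : ℤ) *
        ((Module.length B (B ⧸ (q.asIdeal ⊔ Ideal.span {b}))).toNat : ℤ) := by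
  classical
  by_cases hbu : IsUnit b
  · -- both sides vanish
    have h2 : ∀ q : Ideal B, q ⊔ Ideal.span {b} = ⊤ := fun q =>
      Ideal.eq_top_of_isUnit_mem _ (Submodule.mem_sup_right (Ideal.subset_span rfl)) hbu
    have h4 : ∀ q : Ideal B, Module.length B (B ⧸ (q ⊔ Ideal.span {b})) = 0 := by
      intro q
      rw [h2 q, Module.length_eq_zero_iff]
      exact Ideal.Quotient.subsingleton_iff.2 rfl
    simp only [h4]
    simp
  by_cases hPtop : P = ⊤
  · -- both sides vanish
    have h3 : Module.length B (B ⧸ (P ⊔ Ideal.span {b})) = 0 := by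
      rw [hPtop, top_sup_eq, Module.length_eq_zero_iff]
      exact Ideal.Quotient.subsingleton_iff.2 rfl
    rw [h3]
    have hno : ∀ q : PrimeSpectrum B, ¬ q.asIdeal ∈ P.minimalPrimes := by
      intro q hq
      have h1 : P ≤ q.asIdeal := hq.1.2
      rw [hPtop, top_le_iff] at h1
      exact q.2.ne_top h1
    symm
    apply finsum_eq_zero_of_forall_eq_zero
    intro q
    have hq : ¬ q.asIdeal ∈ P.minimalPrimes := hno q
    simp [hq]
  · -- the main case
    have hPle : P ≤ maximalIdeal B := IsLocalRing.le_maximalIdeal hPtop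
    set c : B ⧸ P := Ideal.Quotient.mk P b with hc
    haveI : Nontrivial (B ⧸ P) := Ideal.Quotient.nontrivial_iff.2 hPtop
    haveI : IsLocalRing (B ⧸ P) :=
      IsLocalRing.of_surjective' (Ideal.Quotient.mk P) Ideal.Quotient.mk_surjective
    have hcu : ¬ IsUnit c := by
      intro hu
      have hmem : b ∈ maximalIdeal B := by
        rw [mem_maximalIdeal, mem_nonunits_iff]
        exact hbu
      have : c ∈ (maximalIdeal B).map (Ideal.Quotient.mk P) := Ideal.mem_map_of_mem _ hmem
      have hne : (maximalIdeal B).map (Ideal.Quotient.mk P) ≠ ⊤ := by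
        intro htop
        have h1 := congrArg (Ideal.comap (Ideal.Quotient.mk P)) htop
        rw [Ideal.comap_map_of_surjective _ Ideal.Quotient.mk_surjective, ← RingHom.ker_eq_comap_bot,
          Ideal.mk_ker, sup_eq_left.2 hPle, Ideal.comap_top] at h1
        exact (maximalIdeal.isMaximal B).ne_top h1
      exact hne (Ideal.eq_top_of_isUnit_mem _ this hu)
    haveI hK1 : Ring.KrullDimLE 1 (B ⧸ P) := by
      apply Ring.KrullDimLE.mk₁
      intro I hI
      have hQ : (Ideal.comap (Ideal.Quotient.mk P) I).IsPrime := Ideal.IsPrime.comap _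
      have hle : P ≤ Ideal.comap (Ideal.Quotient.mk P) I := by
        intro x hx
        rw [Ideal.mem_comap, Ideal.Quotient.eq_zero_iff_mem.2 hx]
        exact I.zero_mem
      have hI' : I = Ideal.map (Ideal.Quotient.mk P) (Ideal.comap (Ideal.Quotient.mk P) I) :=
        (Ideal.map_comap_of_surjective _ Ideal.Quotient.mk_surjective I).symm
      rcases hdim _ hQ hle with h | h
      · left
        rw [Ideal.minimalPrimes_eq_comap] at h
        obtain ⟨I', hI'min, hI'eq⟩ := h
        have : I' = I := Ideal.comap_injective_of_surjective _ Ideal.Quotient.mk_surjective hI'eq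
        rw [← this]; exact hI'min
      · right
        rw [hI', h]
        exact Ideal.IsMaximal.map_of_surjective_of_ker_le Ideal.Quotient.mk_surjective
          (by rw [Ideal.mk_ker]; exact hPle)
    have hdim1 : ringKrullDim (B ⧸ P) = 1 := ringKrullDim_eq_one_of_nonZeroDivisor c hb hcu
    have hE1 := length_quot_span_eq_sum hdim1 c hb
    have hB : Module.length (B ⧸ P) ((B ⧸ P) ⧸ Ideal.span {c}) =
        Module.length B (B ⧸ (P ⊔ Ideal.span {b})) := by
      have h : Ideal.span {c} = (Ideal.span {b}).map (Ideal.Quotient.mk P) := by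
        rw [Ideal.map_span, Set.image_singleton]
      rw [h]
      exact length_quot_eq_of_ringEquiv _ _ (DoubleQuot.quotQuotEquivQuotSup P _)
    rw [← hB, hE1]
    -- reindexing
    let g : PrimeSpectrum (B ⧸ P) → PrimeSpectrum B := PrimeSpectrum.comap (Ideal.Quotient.mk P)
    have hginj : Function.Injective g :=
      PrimeSpectrum.comap_injective_of_surjective _ Ideal.Quotient.mk_surjective
    let S : Set (PrimeSpectrum (B ⧸ P)) := {p | p.asIdeal ∈ minimalPrimes (B ⧸ P)}
    let T : Set (PrimeSpectrum B) := {q | q.asIdeal ∈ P.minimalPrimes}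
    have hST : g '' S = T := by
      ext q
      constructor
      · rintro ⟨p, hp, rfl⟩
        change (g p).asIdeal ∈ P.minimalPrimes
        rw [Ideal.minimalPrimes_eq_comap]
        exact ⟨p.asIdeal, hp, rfl⟩
      · intro hq
        have hq' : q.asIdeal ∈ P.minimalPrimes := hq
        rw [Ideal.minimalPrimes_eq_comap] at hq'
        obtain ⟨I, hI, hIq⟩ := hq'
        exact ⟨⟨I, hI.1.1⟩, hI, PrimeSpectrum.ext hIq⟩
    change ∑ᶠ p ∈ S, _ = ∑ᶠ q ∈ T, _
    rw [← hST, finsum_mem_image hginj.injOn]
    apply finsum_mem_congr rfl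
    intro p hp
    have hgp : (g p).asIdeal = Ideal.comap (Ideal.Quotient.mk P) p.asIdeal := rfl
    have hPq : P ≤ (g p).asIdeal := by
      intro x hx
      rw [hgp, Ideal.mem_comap, Ideal.Quotient.eq_zero_iff_mem.2 hx]
      exact p.asIdeal.zero_mem
    have hmap : p.asIdeal = (g p).asIdeal.map (Ideal.Quotient.mk P) := by
      rw [hgp, Ideal.map_comap_of_surjective _ Ideal.Quotient.mk_surjective]
    have h1 := length_localization_quot P (g p).asIdeal hPq p.asIdeal hmap
    have h2 : Module.length (B ⧸ P) ((B ⧸ P) ⧸ (p.asIdeal ⊔ Ideal.span {c})) =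
        Module.length B (B ⧸ ((g p).asIdeal ⊔ Ideal.span {b})) := by
      have h : p.asIdeal ⊔ Ideal.span {c} =
          ((g p).asIdeal ⊔ Ideal.span {b}).map (Ideal.Quotient.mk P) := by
        rw [Ideal.map_sup, ← hmap, Ideal.map_span, Set.image_singleton]
      rw [h]
      have h' : P ⊔ ((g p).asIdeal ⊔ Ideal.span {b}) = (g p).asIdeal ⊔ Ideal.span {b} :=
        sup_eq_right.2 (hPq.trans le_sup_left)
      exact length_quot_eq_of_ringEquiv _ _
        ((DoubleQuot.quotQuotEquivQuotSup P _).trans (Ideal.quotEquivOfEq h'))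
    rw [h1, h2]

end Main

end Groth.Agent.Lib.Seat28.QuotOrd
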