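import Mathlib
import Groth.Prelude.Def_Cyc
import Groth.Agent.Lib.Seat28FlatDiv
import Groth.Agent.Lib.Seat28QuotOrd

/-!
# Stacks 02QF at a point of a scheme (seat 28)

For a point `x` of a locally Noetherian scheme, an ideal `P` of `O_{X,x}` with `dim O_{X,x}/P ≤ 1` and
`b ∈ O_{X,x}` a nonzerodivisor on `O_{X,x}/P`:
`length (O_x/(P + b)) = ∑_ξ length (O_ξ/P O_ξ) · ord_{ξ ⤳ x}(b)`, the sum over the generizations `ξ` of `x`
whose prime is minimal over `P` (`length_eq_finsum_termP`).

Also `mk_mem_nonZeroDivisors_of_flat`: a nonzerodivisor `b` of `R` with `R/b` flat over `A` remains a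
nonzerodivisor on `R/IR` for every ideal `I` of `A`.
-/

set_option autoImplicit false
set_option linter.style.haveILetI false
universe u
open AlgebraicGeometry CategoryTheory TopologicalSpace Opposite IsLocalRing TensorProduct

namespace Groth.Agent.Lib.Seat28.PointOrd

open Groth.Agent.Lib.Seat28.FlatOrd Groth.Agent.Lib.Seat28.QuotOrd Groth.Agent.Lib.Seat28.FlatDiv
open Groth.Agent.Lib.Seat32.GenPrime Groth.Agent.Lib.Seat28.OrdFrac

section Algebra

/-- a nonzerodivisor `b` of `R` whose quotient `S = R/b` is flat over `A` stays a nonzerodivisor on `R/IR`. -/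
theorem mk_mem_nonZeroDivisors_of_flat {A R S : Type u} [CommRing A] [CommRing R] [CommRing S]
    (φ : A →+* R) (π : R →+* S) (hπ : Function.Surjective π) (b : R)
    (hker : RingHom.ker π = Ideal.span {b}) (hb : b ∈ nonZeroDivisors R)
    (hflat : (π.comp φ).Flat) (I : Ideal A) :
    Ideal.Quotient.mk (I.map φ) b ∈ nonZeroDivisors (R ⧸ I.map φ) := by
  letI : Algebra A R := φ.toAlgebra
  letI : Algebra A S := (π.comp φ).toAlgebra
  letI : Algebra R S := π.toAlgebra
  haveI : IsScalarTower A R S := IsScalarTower.of_algebraMap_eq (fun _ => rfl)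
  haveI : Module.Flat A S := hflat
  let f : R →ₗ[A] S := (IsScalarTower.toAlgHom A R S).toLinearMap
  have hf : ∀ x, f x = π x := fun _ => rfl
  let g : R →ₗ[A] R := LinearMap.mulLeft A b
  have hg : Function.Injective g := by
    intro x y hxy
    have h1 : b * x = b * y := hxy
    have h2 : (x - y) * b = 0 := by
      rw [sub_mul, mul_comm x b, mul_comm y b, h1, sub_self]
    exact sub_eq_zero.1 ((mem_nonZeroDivisors_iff_right.1 hb) _ h2)
  have hex : Function.Exact g f := by
    intro x
    rw [hf, ← RingHom.mem_ker, hker, Ideal.mem_span_singleton']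
    constructor
    · rintro ⟨a, rfl⟩
      exact ⟨a, mul_comm b a⟩
    · rintro ⟨a, rfl⟩
      exact ⟨a, mul_comm a b⟩
  have hinj := LinearMap.lTensor_injective_of_exact_of_flat f hπ g hg hex (A ⧸ I)
  -- transport to `R/IR`
  let e := (Algebra.TensorProduct.quotIdealMapEquivTensorQuot R I).toLinearEquiv
  have hcomm : ∀ y : R ⊗[A] (A ⧸ I), (TensorProduct.comm A R (A ⧸ I)).symm
      ((g.lTensor (A ⧸ I)) (TensorProduct.comm A R (A ⧸ I) y)) = b • y := by
    intro y
    induction y using TensorProduct.induction_on with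
    | zero => simp
    | tmul r a =>
      simp only [TensorProduct.comm_tmul, LinearMap.lTensor_tmul, TensorProduct.comm_symm_tmul]
      rfl
    | add y z hy hz =>
      rw [map_add, map_add, map_add, hy, hz, smul_add]
  rw [mem_nonZeroDivisors_iff_right]
  intro x hx
  have h1 : b • x = 0 := by
    rw [Algebra.smul_def, mul_comm]
    exact hx
  have h2 : b • e x = 0 := by
    rw [← map_smul, h1, map_zero]
  rw [← hcomm] at h2
  have h3 := (TensorProduct.comm A R (A ⧸ I)).symm.injective (h2.trans (map_zero _).symm)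
  have h4 := hinj (h3.trans (map_zero _).symm)
  have h5 := (TensorProduct.comm A R (A ⧸ I)).injective (h4.trans (map_zero _).symm)
  exact e.injective (h5.trans (map_zero _).symm)

end Algebra

section Point

variable {X : Scheme.{u}}

open Classical in
/-- the term at a generization `ξ` of `x`. -/
noncomputable def termP (x : X) (P : Ideal (X.presheaf.stalk x)) (b : X.presheaf.stalk x) (ξ : X) : ℤ :=
  if h : ξ ⤳ x then
    if (genPrime x ξ h).asIdeal ∈ P.minimalPrimes then
      ((Module.length (X.presheaf.stalk ξ)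
        (X.presheaf.stalk ξ ⧸ P.map (X.presheaf.stalkSpecializes h).hom)).toNat : ℤ) *
          Cyc.ordAt x ξ h (Cyc.specMap x ξ h b)
    else 0
  else 0

/-- if the primes over `P` are minimal or maximal, the quotient by a minimal one has dimension `≤ 1`. -/
theorem krullDimLE_one_locQuot_of_minimal (x ξ : X) (h : ξ ⤳ x) (P : Ideal (X.presheaf.stalk x))
    (hdim : ∀ Q : Ideal (X.presheaf.stalk x), Q.IsPrime → P ≤ Q →
      Q ∈ P.minimalPrimes ∨ Q = maximalIdeal (X.presheaf.stalk x))
    (hmin : (genPrime x ξ h).asIdeal ∈ P.minimalPrimes) :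
    Ring.KrullDimLE 1 (Cyc.LocQuot x ξ h) := by
  apply krullDimLE_one_locQuot
  intro z hξz hzx
  have hle : (genPrime x ξ h).asIdeal ≤ (genPrime x z hzx).asIdeal :=
    (genPrime_le_genPrime_iff x ξ z h hzx).2 hξz
  rcases hdim _ (genPrime x z hzx).isPrime (hmin.1.2.trans hle) with h1 | h1
  · left
    have h2 : (genPrime x z hzx).asIdeal ≤ (genPrime x ξ h).asIdeal :=
      h1.2 hmin.1 hle
    have h3 : z ⤳ ξ := (genPrime_le_genPrime_iff x z ξ hzx h).1 h2
    exact (Specializes.antisymm h3 hξz).eq
  · right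
    have h2 : genPrime x z hzx = closedPoint (X.presheaf.stalk x) := PrimeSpectrum.ext h1
    have h3 := fromSpecStalk_genPrime x z hzx
    rw [← h3]
    exact (fromSpecStalk_eq_iff x _).2 h2

/-- **Stacks 02QF at a point of a scheme.** -/
theorem length_eq_finsum_termP [IsLocallyNoetherian X] (x : X) (P : Ideal (X.presheaf.stalk x))
    (b : X.presheaf.stalk x)
    (hb : Ideal.Quotient.mk P b ∈ nonZeroDivisors (X.presheaf.stalk x ⧸ P))
    (hdim : ∀ Q : Ideal (X.presheaf.stalk x), Q.IsPrime → P ≤ Q →
      Q ∈ P.minimalPrimes ∨ Q = maximalIdeal (X.presheaf.stalk x)) :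
    ((Module.length (X.presheaf.stalk x)
        (X.presheaf.stalk x ⧸ (P ⊔ Ideal.span {b}))).toNat : ℤ) = ∑ᶠ ξ : X, termP x P b ξ := by
  classical
  rw [length_quot_sup_span_eq_sum P b hb hdim]
  have hsupp : Function.support (termP x P b) ⊆ X.fromSpecStalk x ''
      {q : PrimeSpectrum (X.presheaf.stalk x) | q.asIdeal ∈ P.minimalPrimes} := by
    intro ξ hξ
    by_contra hn
    apply hξ
    unfold termP
    by_cases h1 : ξ ⤳ x
    · rw [dif_pos h1, if_neg]
      intro h2
      exact hn ⟨genPrime x ξ h1, h2, fromSpecStalk_genPrime x ξ h1⟩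
    · rw [dif_neg h1]
  rw [finsum_eq_finsum_mem_of_support_subset _ hsupp,
    finsum_mem_image ((X.fromSpecStalk x).isEmbedding.injective.injOn)]
  apply finsum_mem_congr rfl
  intro q hq
  have hq' : q.asIdeal ∈ P.minimalPrimes := hq
  have hsp : X.fromSpecStalk x q ⤳ x := fromSpecStalk_specializes x q
  have hqeq : genPrime x (X.fromSpecStalk x q) hsp = q := genPrime_fromSpecStalk x q hsp
  have hmin : (genPrime x (X.fromSpecStalk x q) hsp).asIdeal ∈ P.minimalPrimes := by
    rw [hqeq]; exact hq'
  unfold termP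
  rw [dif_pos hsp, if_pos hmin]
  have hne : Cyc.specMap x (X.fromSpecStalk x q) hsp b ≠ 0 := by
    intro h0
    have hbq : b ∈ (genPrime x (X.fromSpecStalk x q) hsp).asIdeal := RingHom.mem_ker.2 h0
    rw [Ideal.minimalPrimes_eq_comap] at hmin
    obtain ⟨I, hI, hIq⟩ := hmin
    have hbI : Ideal.Quotient.mk P b ∈ I := by
      have : b ∈ Ideal.comap (Ideal.Quotient.mk P) I := by rw [hIq]; exact hbq
      exact this
    exact (Set.disjoint_left.1 (Ideal.disjoint_nonZeroDivisors_of_mem_minimalPrimes hI)) hbI hb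
  rw [ordAt_specMap_eq_length x _ hsp (krullDimLE_one_locQuot_of_minimal x _ hsp P hdim hmin) b hne,
    ← length_localization_quot_eq x _ hsp P, hqeq]

end Point

end Groth.Agent.Lib.Seat28.PointOrd
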