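import Groth.Agent.Lib.Seat28Good

/-!
# Vanishing of `Hom_K(P, cone j)` from bijectivity of the localization on `Hom_K(P, -)` (seat 28)
-/

set_option autoImplicit false
set_option linter.style.haveILetI false
universe u
open CategoryTheory CategoryTheory.Limits HomologicalComplex Pretriangulated

namespace Groth.Agent.Lib.Seat28.Good

section Abstract

variable {A : Type*} [Category A] [Abelian A] [HasDerivedCategory A]

/-- homotopy-category version of `QBij`. -/
def QBij' (P M : HomotopyCategory A (ComplexShape.up ℤ)) : Prop :=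
  Function.Bijective (fun ψ : (P ⟶ M) => DerivedCategory.Qh.map ψ)

lemma qBij'_of_iso {P M M' : HomotopyCategory A (ComplexShape.up ℤ)} (eK : M ≅ M')
    (h : QBij' P M) : QBij' P M' := by
  constructor
  · intro ψ₁ ψ₂ hψ
    dsimp only at hψ
    have : ψ₁ ≫ eK.inv = ψ₂ ≫ eK.inv := by
      apply h.1
      dsimp only
      rw [Functor.map_comp, Functor.map_comp, hψ]
    exact (cancel_mono eK.inv).mp this
  · intro g
    obtain ⟨ψ, hψ⟩ := h.2 (g ≫ DerivedCategory.Qh.map eK.inv)
    dsimp only at hψ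
    refine ⟨ψ ≫ eK.hom, ?_⟩
    dsimp only
    rw [Functor.map_comp, hψ, Category.assoc, ← Functor.map_comp, Iso.inv_hom_id,
      CategoryTheory.Functor.map_id, Category.comp_id]

lemma comp_bijective {P M J : HomotopyCategory A (ComplexShape.up ℤ)} (j : M ⟶ J)
    (hj : IsIso (DerivedCategory.Qh.map j)) (hM : QBij' P M) (hJ : QBij' P J) :
    Function.Bijective (fun ψ : (P ⟶ M) => ψ ≫ j) := by
  constructor
  · intro ψ₁ ψ₂ h
    dsimp only at h
    apply hM.1
    dsimp only
    have h2 : DerivedCategory.Qh.map (ψ₁ ≫ j) = DerivedCategory.Qh.map (ψ₂ ≫ j) := by rw [h]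
    rw [Functor.map_comp, Functor.map_comp] at h2
    exact (cancel_mono (DerivedCategory.Qh.map j)).mp h2
  · intro χ
    obtain ⟨ψ, hψ⟩ := hM.2 (DerivedCategory.Qh.map χ ≫ inv (DerivedCategory.Qh.map j))
    dsimp only at hψ
    refine ⟨ψ, ?_⟩
    dsimp only
    apply hJ.1
    dsimp only
    rw [Functor.map_comp, hψ, Category.assoc, IsIso.inv_hom_id, Category.comp_id]

lemma isIso_Qh_map_shift {M J : HomotopyCategory A (ComplexShape.up ℤ)} (j : M ⟶ J)
    (hj : IsIso (DerivedCategory.Qh.map j)) (n : ℤ) :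
    IsIso (DerivedCategory.Qh.map (j⟦n⟧')) := by
  have h := (DerivedCategory.Qh (C := A)).commShiftIso_hom_naturality j n
  haveI : IsIso ((DerivedCategory.Qh.map j)⟦n⟧') := inferInstance
  have h2 : DerivedCategory.Qh.map (j⟦n⟧') =
      ((DerivedCategory.Qh (C := A)).commShiftIso n).hom.app M ≫
        (DerivedCategory.Qh.map j)⟦n⟧' ≫ ((DerivedCategory.Qh (C := A)).commShiftIso n).inv.app J := by
    rw [← Category.assoc, ← h, Category.assoc, Iso.hom_inv_id_app]
    exact (Category.comp_id _).symm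
  rw [h2]
  infer_instance

/-- if the first map of a distinguished triangle of the homotopy category is a quasi-isomorphism,
and `P` sees the first two vertices (and their shifts) as in the derived category, then there
are no nonzero maps from `P` to the third vertex. -/
lemma eq_zero_of_qBij' (T : Triangle (HomotopyCategory A (ComplexShape.up ℤ)))
    (hT : T ∈ distTriang _) (hj : IsIso (DerivedCategory.Qh.map T.mor₁))
    (P : HomotopyCategory A (ComplexShape.up ℤ))
    (h₁ : QBij' P T.obj₁) (h₂ : QBij' P T.obj₂)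
    (h₁' : QBij' P (T.obj₁⟦(1 : ℤ)⟧)) (h₂' : QBij' P (T.obj₂⟦(1 : ℤ)⟧))
    (x : P ⟶ T.obj₃) : x = 0 := by
  have hy : x ≫ T.mor₃ = 0 := by
    apply (comp_bijective (T.mor₁⟦(1 : ℤ)⟧') (isIso_Qh_map_shift T.mor₁ hj 1) h₁' h₂').1
    dsimp only
    rw [Category.assoc, comp_distTriang_mor_zero₃₁ T hT, comp_zero, zero_comp]
  obtain ⟨x', hx'⟩ := Triangle.coyoneda_exact₃ T hT x hy
  obtain ⟨x'', hx''⟩ := (comp_bijective T.mor₁ hj h₁ h₂).2 x'
  dsimp only at hx''
  rw [hx', ← hx'', Category.assoc, comp_distTriang_mor_zero₁₂ T hT, comp_zero]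

/-- complex-level version. -/
lemma eq_zero_of_qBij {M J : CochainComplex A ℤ} (j : M ⟶ J) [QuasiIso j]
    (P : CochainComplex A ℤ) (h₁ : QBij P M) (h₂ : QBij P J)
    (h₁' : QBij P (M⟦(1 : ℤ)⟧)) (h₂' : QBij P (J⟦(1 : ℤ)⟧))
    (x : (HomotopyCategory.quotient A (ComplexShape.up ℤ)).obj P ⟶
      (HomotopyCategory.quotient A (ComplexShape.up ℤ)).obj (CochainComplex.mappingCone j)) :
    x = 0 := by
  have hj : IsIso (DerivedCategory.Qh.map (CochainComplex.mappingCone.triangleh j).mor₁) := by
    show IsIso (DerivedCategory.Q.map j)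
    rw [DerivedCategory.isIso_Q_map_iff_quasiIso]
    infer_instance
  exact eq_zero_of_qBij' (CochainComplex.mappingCone.triangleh j)
    (HomotopyCategory.mappingCone_triangleh_distinguished j) hj _ h₁ h₂
    (qBij'_of_iso (((HomotopyCategory.quotient A (ComplexShape.up ℤ)).commShiftIso (1 : ℤ)).app M) h₁')
    (qBij'_of_iso (((HomotopyCategory.quotient A (ComplexShape.up ℤ)).commShiftIso (1 : ℤ)).app J) h₂')
    x

end Abstract

end Groth.Agent.Lib.Seat28.Good
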