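import Groth.Agent.Lib.Helper17KInjD5
import Groth.Agent.Lib.Helper16KInjAdj
import Groth.Agent.S0484
import Groth.Prelude.Def_CxOX
import Groth.Agent.Lib.Helper21ExtZero4

/-!
# Total right derived functors on K-injective complexes (seat 28)

Glue between the prelude's `DCoh.Rpush`/`DCoh.RΓ` (total right derived functors along `Qh`) and
helper17's K-injective machinery: the value on a K-injective complex is computed termwise.
-/

set_option autoImplicit false
set_option linter.style.haveILetI false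
universe w w₁ w₂ v v' u u'
open CategoryTheory CategoryTheory.Limits AlgebraicGeometry HomologicalComplex
open Groth.Agent.Lib.Helper17.KInj

namespace Groth.Agent.Lib.Seat28.RD

section Abstract

variable {A : Type u} [Category.{v} A] [Abelian A] {B : Type u'} [Category.{v'} B] [Abelian B]
  [IsGrothendieckAbelian.{w} B] [HasDerivedCategory.{w₁} A] [HasDerivedCategory.{w₂} B]
  (G : B ⥤ A) [G.Additive]

/-- `K(B) ⥤ D(A)` induced by `G`. -/
noncomputable abbrev Kh : HomotopyCategory B (ComplexShape.up ℤ) ⥤ DerivedCategory A :=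
  G.mapHomotopyCategory (ComplexShape.up ℤ) ⋙ DerivedCategory.Qh

variable [(Kh G).HasRightDerivedFunctor (HomotopyCategory.quasiIso B (ComplexShape.up ℤ))]

/-- the total right derived functor of `G`. -/
noncomputable abbrev RFun : DerivedCategory B ⥤ DerivedCategory A :=
  (Kh G).totalRightDerived DerivedCategory.Qh (HomotopyCategory.quasiIso B (ComplexShape.up ℤ))

/-- the unit on complexes. -/
noncomputable def unitC : G.mapHomologicalComplex (ComplexShape.up ℤ) ⋙ DerivedCategory.Q ⟶
    DerivedCategory.Q ⋙ RFun G :=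
  unitOfK G (RFun G) ((Kh G).totalRightDerivedUnit DerivedCategory.Qh
    (HomotopyCategory.quasiIso B (ComplexShape.up ℤ)))

instance isRightDerivedFunctor_unitC : (RFun G).IsRightDerivedFunctor (unitC G)
    (HomologicalComplex.quasiIso B (ComplexShape.up ℤ)) := by
  unfold unitC
  infer_instance

lemma isIso_unitC_app (I : CochainComplex B ℤ) [I.IsKInjective] : IsIso ((unitC G).app I) :=
  isIso_app_of_isKInjective.{w} G (RFun G) (unitC G) I

/-- the value of the total right derived functor on a K-injective complex. -/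
noncomputable def isoOfKInj (I : CochainComplex B ℤ) [I.IsKInjective] :
    (RFun G).obj (DerivedCategory.Q.obj I) ≅
      DerivedCategory.Q.obj ((G.mapHomologicalComplex (ComplexShape.up ℤ)).obj I) :=
  haveI := isIso_unitC_app.{w} G I
  (asIso ((unitC G).app I)).symm

end Abstract

section Repr

variable {B : Type u'} [Category.{v'} B] [Abelian B] [IsGrothendieckAbelian.{w} B]
  [HasDerivedCategory.{w₂} B]

/-- every object of the derived category is represented by a fibrant complex. -/
lemma exists_fibrant_repr (E : DerivedCategory B) :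
    ∃ I : CochainComplex B ℤ, fibrant B I ∧ Nonempty (DerivedCategory.Q.obj I ≅ E) := by
  obtain ⟨K, ⟨e⟩⟩ : ∃ K : CochainComplex B ℤ, Nonempty (DerivedCategory.Q.obj K ≅ E) :=
    ⟨_, ⟨DerivedCategory.Q.objObjPreimageIso E⟩⟩
  have hq : trivCof ((fibReplι₀ B).app K) := trivCof_fibReplι₀ B K
  haveI : QuasiIso ((fibReplι₀ B).app K) := hq.2
  haveI : IsIso (DerivedCategory.Q.map ((fibReplι₀ B).app K)) := by
    rw [DerivedCategory.isIso_Q_map_iff_quasiIso]
    infer_instance
  exact ⟨_, fibrant_fibRepl₀ B K,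
    ⟨(asIso (DerivedCategory.Q.map ((fibReplι₀ B).app K))).symm ≪≫ e⟩⟩

end Repr

section Tri

open Pretriangulated

variable {C : Type*} [Category C] [HasZeroObject C] [HasShift C ℤ] [Preadditive C]
  [∀ n : ℤ, (shiftFunctor C n).Additive] [Pretriangulated C]

/-- transport a distinguished triangle along isomorphisms of its three objects. -/
lemma exists_distinguished_of_iso (T : Triangle C) (hT : T ∈ distTriang C) {A₁ A₂ A₃ : C}
    (e₁ : T.obj₁ ≅ A₁) (e₂ : T.obj₂ ≅ A₂) (e₃ : T.obj₃ ≅ A₃) :
    ∃ (a : A₁ ⟶ A₂) (b : A₂ ⟶ A₃) (c : A₃ ⟶ A₁⟦(1 : ℤ)⟧),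
      Triangle.mk a b c ∈ distTriang C :=
  ⟨e₁.inv ≫ T.mor₁ ≫ e₂.hom, e₂.inv ≫ T.mor₂ ≫ e₃.hom, e₃.inv ≫ T.mor₃ ≫ e₁.hom⟦(1 : ℤ)⟧',
    isomorphic_distinguished _ hT _
      (Triangle.isoMk _ _ e₁.symm e₂.symm e₃.symm
        (by
          show (e₁.inv ≫ T.mor₁ ≫ e₂.hom) ≫ e₂.inv = e₁.inv ≫ T.mor₁
          rw [Category.assoc, Category.assoc, Iso.hom_inv_id, Category.comp_id])
        (by
          show (e₂.inv ≫ T.mor₂ ≫ e₃.hom) ≫ e₃.inv = e₂.inv ≫ T.mor₂
          rw [Category.assoc, Category.assoc, Iso.hom_inv_id, Category.comp_id])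
        (by
          show (e₃.inv ≫ T.mor₃ ≫ e₁.hom⟦(1 : ℤ)⟧') ≫ e₁.inv⟦(1 : ℤ)⟧' = e₃.inv ≫ T.mor₃
          rw [Category.assoc, Category.assoc, ← Functor.map_comp, Iso.hom_inv_id,
            CategoryTheory.Functor.map_id, Category.comp_id]))⟩

end Tri

section Biprod

variable {C : Type*} [Category C] [Preadditive C] [HasBinaryBiproducts C]

/-- recognise a binary biproduct. -/
lemma nonempty_iso_biprod {P A B : C} (pA : P ⟶ A) (pB : P ⟶ B) (iA : A ⟶ P) (iB : B ⟶ P)
    (h1 : iA ≫ pA = 𝟙 A) (h2 : iB ≫ pB = 𝟙 B) (h3 : iA ≫ pB = 0) (h4 : iB ≫ pA = 0)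
    (h5 : pA ≫ iA + pB ≫ iB = 𝟙 P) : Nonempty (P ≅ A ⊞ B) := by
  let b : BinaryBicone A B :=
    { pt := P, fst := pA, snd := pB, inl := iA, inr := iB, inl_fst := h1, inl_snd := h3,
      inr_fst := h4, inr_snd := h2 }
  exact ⟨biprod.uniqueUpToIso A B (isBinaryBilimitOfTotal b h5)⟩

end Biprod

section Scheme

variable (X : Scheme.{u})

instance isGrothendieckAbelian_modules : IsGrothendieckAbelian.{u} X.Modules :=
  Groth.Agent.S0484.result (Opens.grothendieckTopology X) X.ringCatSheaf

variable {X}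

instance preservesFiniteLimits_extZero (U : X.Opens) :
    PreservesFiniteLimits (CxOX.extZero U.ι) := by
  haveI h0 : PreservesFiniteLimits (ModSite.extZero X.sheaf U) :=
    Groth.Agent.Lib.Helper21.ExtZeroS.instPreservesFiniteLimitsModOverOverCommRingCatExtZero
      (C := TopologicalSpace.Opens X) X.sheaf U
  haveI h1 : PreservesFiniteLimits (Scheme.Modules.overEquiv U).inverse := inferInstance
  have h2 : PreservesFiniteLimits
      ((Scheme.Modules.overEquiv U).inverse ⋙ ModSite.extZero X.sheaf U) :=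
    @comp_preservesFiniteLimits _ _ _ _ _ _ _ _ h1 h0
  exact @preservesFiniteLimits_of_natIso _ _ _ _ _ _ (CxOX.extZeroIsoSite U).symm h2

/-- restriction to an open preserves K-injective complexes. -/
lemma isKInjective_restrict (U : X.Opens) (I : CochainComplex X.Modules ℤ) [I.IsKInjective] :
    CochainComplex.IsKInjective
      (((Scheme.Modules.restrictFunctor U.ι).mapHomologicalComplex (ComplexShape.up ℤ)).obj I) :=
  Groth.Agent.Lib.Helper16.KInjAdj.isKInjective_map (CxOX.extZeroAdj U.ι) I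

end Scheme

end Groth.Agent.Lib.Seat28.RD
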