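import Groth.Agent.Lib.Seat28RD
import Groth.Agent.Lib.Seat28OpenBC

/-!
# Recognising total right derived functors; pre- and post-composition with exact functors (seat 28)
-/

set_option autoImplicit false
set_option linter.style.haveILetI false
universe w w₁ w₂ w₃ v v' v'' u u' u''
open CategoryTheory CategoryTheory.Limits AlgebraicGeometry HomologicalComplex
open Groth.Agent.Lib.Helper17.KInj

namespace Groth.Agent.Lib.Seat28.RD

section Recognise

variable {B : Type u'} [Category.{v'} B] [Abelian B] [IsGrothendieckAbelian.{w} B]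
  [HasDerivedCategory.{w₂} B]

/-- a functor on `D(B)` which agrees with `F'` on fibrant complexes is the right derived functor. -/
lemma isRightDerivedFunctor_of_isIso_fibrant {H : Type*} [Category H]
    (F' : CochainComplex B ℤ ⥤ H)
    (hF' : (HomologicalComplex.homotopyEquivalences B (ComplexShape.up ℤ)).IsInvertedBy F')
    (RF : DerivedCategory B ⥤ H) (α : F' ⟶ DerivedCategory.Q ⋙ RF)
    (hα : ∀ I : CochainComplex B ℤ, fibrant B I → IsIso (α.app I)) :
    RF.IsRightDerivedFunctor α (HomologicalComplex.quasiIso B (ComplexShape.up ℤ)) :=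
  (fibLocalizerMorphism_derives F' hF').isRightDerivedFunctor_of_isIso α
    (fun I => hα I.obj I.property)

end Recognise

section Post

variable {A : Type u} [Category.{v} A] [Abelian A] {B : Type u'} [Category.{v'} B] [Abelian B]
  {A' : Type u''} [Category.{v''} A'] [Abelian A']
  [IsGrothendieckAbelian.{w} B] [HasDerivedCategory.{w₁} A] [HasDerivedCategory.{w₂} B]
  [HasDerivedCategory.{w₃} A']
  (G : B ⥤ A) [G.Additive]
  [(Kh G).HasRightDerivedFunctor (HomotopyCategory.quasiIso B (ComplexShape.up ℤ))]
  (E : A ⥤ A') [E.Additive] [PreservesFiniteLimits E] [PreservesFiniteColimits E]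

/-- post-composition of a total right derived functor with an exact functor. -/
lemma isRightDerivedFunctor_post :
    (RFun G ⋙ E.mapDerivedCategory).IsRightDerivedFunctor
      (Functor.whiskerRight (unitC G) E.mapDerivedCategory ≫ (Functor.associator _ _ _).hom)
      (HomologicalComplex.quasiIso B (ComplexShape.up ℤ)) := by
  refine isRightDerivedFunctor_of_isIso_fibrant.{w} _
    (isInvertedBy_comp (isInvertedBy_mapHomologicalComplex_comp_Q G) E.mapDerivedCategory) _ _
    (fun I hI => ?_)
  haveI := hI.isKInjective
  haveI := isIso_unitC_app.{w} G I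
  dsimp
  rw [Category.comp_id]
  infer_instance

end Post

section Pre

variable {A : Type u} [Category.{v} A] [Abelian A] {B : Type u'} [Category.{v'} B] [Abelian B]
  {B' : Type u''} [Category.{v''} B'] [Abelian B']
  [IsGrothendieckAbelian.{w} B] [IsGrothendieckAbelian.{w} B']
  [HasDerivedCategory.{w₁} A] [HasDerivedCategory.{w₂} B] [HasDerivedCategory.{w₃} B']
  (G : B ⥤ A) [G.Additive]
  [(Kh G).HasRightDerivedFunctor (HomotopyCategory.quasiIso B (ComplexShape.up ℤ))]
  (P : B' ⥤ B) [P.Additive] [PreservesFiniteLimits P] [PreservesFiniteColimits P]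

/-- the unit for the precomposition. -/
noncomputable def unitPre :
    P.mapHomologicalComplex (ComplexShape.up ℤ) ⋙
      (G.mapHomologicalComplex (ComplexShape.up ℤ) ⋙ DerivedCategory.Q) ⟶
    DerivedCategory.Q ⋙ (P.mapDerivedCategory ⋙ RFun G) :=
  Functor.whiskerLeft (P.mapHomologicalComplex (ComplexShape.up ℤ)) (unitC G) ≫
    (Functor.associator _ _ _).inv ≫
    Functor.whiskerRight P.mapDerivedCategoryFactors.inv (RFun G) ≫
    (Functor.associator _ _ _).hom

/-- pre-composition of a total right derived functor with an exact functor preserving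
K-injectives. -/
lemma isRightDerivedFunctor_pre
    (hF : (HomologicalComplex.homotopyEquivalences B' (ComplexShape.up ℤ)).IsInvertedBy
      (P.mapHomologicalComplex (ComplexShape.up ℤ) ⋙
        (G.mapHomologicalComplex (ComplexShape.up ℤ) ⋙ DerivedCategory.Q)))
    (hP : ∀ I : CochainComplex B' ℤ, I.IsKInjective →
      CochainComplex.IsKInjective ((P.mapHomologicalComplex (ComplexShape.up ℤ)).obj I)) :
    (P.mapDerivedCategory ⋙ RFun G).IsRightDerivedFunctor (unitPre G P)
      (HomologicalComplex.quasiIso B' (ComplexShape.up ℤ)) := by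
  refine isRightDerivedFunctor_of_isIso_fibrant.{w} _ hF _ _ (fun I hI => ?_)
  haveI := hP I hI.isKInjective
  haveI := isIso_unitC_app.{w} G ((P.mapHomologicalComplex (ComplexShape.up ℤ)).obj I)
  dsimp [unitPre]
  rw [Category.comp_id, Category.id_comp]
  infer_instance

end Pre

end Groth.Agent.Lib.Seat28.RD
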