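import Groth.Agent.Lib.Seat28RD

/-!
# Total right derived functors and distinguished triangles (seat 28)

The total right derived functor `RFun G` of an additive functor `G` out of a Grothendieck abelian
category sends the first two maps of a distinguished triangle to the first two maps of a
distinguished triangle.
-/

set_option autoImplicit false
set_option linter.style.haveILetI false
universe w w₁ w₂ v v' u u'
open CategoryTheory CategoryTheory.Limits HomologicalComplex Pretriangulated
open Groth.Agent.Lib.Helper17.KInj Groth.Agent.Lib.Seat28.RD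

namespace Groth.Agent.Lib.Seat28.RD3

section Tri

variable {C : Type*} [Category C] [HasZeroObject C] [HasShift C ℤ] [Preadditive C]
  [∀ n : ℤ, (shiftFunctor C n).Additive] [Pretriangulated C]

/-- complete two composable maps to a distinguished triangle, given isomorphisms to the first two
maps of a distinguished triangle. -/
lemma exists_mor₃_of_iso {X Y Z : C} (u : X ⟶ Y) (v : Y ⟶ Z) (T' : Triangle C)
    (hT' : T' ∈ distTriang C) (a : X ≅ T'.obj₁) (b : Y ≅ T'.obj₂) (c : Z ≅ T'.obj₃)
    (h1 : u ≫ b.hom = a.hom ≫ T'.mor₁) (h2 : v ≫ c.hom = b.hom ≫ T'.mor₂) :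
    ∃ w : Z ⟶ X⟦(1 : ℤ)⟧, Triangle.mk u v w ∈ distTriang C :=
  ⟨c.hom ≫ T'.mor₃ ≫ a.inv⟦(1 : ℤ)⟧', isomorphic_distinguished _ hT' _
    (Triangle.isoMk _ _ a b c h1 h2 (by
      show (c.hom ≫ T'.mor₃ ≫ a.inv⟦(1 : ℤ)⟧') ≫ a.hom⟦(1 : ℤ)⟧' = c.hom ≫ T'.mor₃
      rw [Category.assoc, Category.assoc, ← Functor.map_comp, Iso.inv_hom_id,
        CategoryTheory.Functor.map_id, Category.comp_id]))⟩

end Tri

section Abstract

variable {A : Type u} [Category.{v} A] [Abelian A] {B : Type u'} [Category.{v'} B] [Abelian B]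
  [IsGrothendieckAbelian.{w} B] [HasDerivedCategory.{w₁} A] [HasDerivedCategory.{w₂} B]
  (G : B ⥤ A) [G.Additive]
  [(Kh G).HasRightDerivedFunctor (HomotopyCategory.quasiIso B (ComplexShape.up ℤ))]

/-- naturality of `isoOfKInj`. -/
lemma isoOfKInj_naturality {I J : CochainComplex B ℤ} [I.IsKInjective] [J.IsKInjective]
    (ψ : I ⟶ J) :
    (RFun G).map (DerivedCategory.Q.map ψ) ≫ (isoOfKInj.{w} G J).hom =
      (isoOfKInj.{w} G I).hom ≫
        DerivedCategory.Q.map ((G.mapHomologicalComplex (ComplexShape.up ℤ)).map ψ) := by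
  haveI := isIso_unitC_app.{w} G I
  haveI := isIso_unitC_app.{w} G J
  have hn := (unitC G).naturality ψ
  simp only [Functor.comp_map] at hn
  show (RFun G).map (DerivedCategory.Q.map ψ) ≫ inv ((unitC G).app J) =
    inv ((unitC G).app I) ≫ _
  rw [IsIso.comp_inv_eq, Category.assoc, hn, IsIso.inv_hom_id_assoc]

/-- the case of the standard triangle of a map of K-injective complexes. -/
lemma exists_distinguished_of_kInj {I J : CochainComplex B ℤ} [I.IsKInjective] [J.IsKInjective]
    (φ : I ⟶ J) :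
    ∃ w : (RFun G).obj (DerivedCategory.Q.obj (CochainComplex.mappingCone φ)) ⟶
        ((RFun G).obj (DerivedCategory.Q.obj I))⟦(1 : ℤ)⟧,
      Triangle.mk ((RFun G).map (DerivedCategory.Q.map φ))
        ((RFun G).map (DerivedCategory.Q.map (CochainComplex.mappingCone.inr φ))) w ∈
          distTriang (DerivedCategory A) := by
  haveI := isKInjective_mappingCone φ
  refine exists_mor₃_of_iso _ _
    (DerivedCategory.Q.mapTriangle.obj (CochainComplex.mappingCone.triangle
      ((G.mapHomologicalComplex (ComplexShape.up ℤ)).map φ)))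
    (DerivedCategory.mappingCone_triangle_distinguished _)
    (isoOfKInj.{w} G I) (isoOfKInj.{w} G J)
    (isoOfKInj.{w} G (CochainComplex.mappingCone φ) ≪≫
      DerivedCategory.Q.mapIso (CochainComplex.mappingCone.mapHomologicalComplexIso φ G)) ?_ ?_
  · exact isoOfKInj_naturality.{w} G φ
  · show _ ≫ (isoOfKInj.{w} G (CochainComplex.mappingCone φ)).hom ≫
      DerivedCategory.Q.map (CochainComplex.mappingCone.mapHomologicalComplexIso φ G).hom =
      (isoOfKInj.{w} G J).hom ≫ DerivedCategory.Q.map (CochainComplex.mappingCone.inr _)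
    rw [← Category.assoc, isoOfKInj_naturality.{w} G (CochainComplex.mappingCone.inr φ),
      Category.assoc, ← Functor.map_comp, CochainComplex.mappingCone.map_inr]

omit [IsGrothendieckAbelian.{w} B] in
/-- transport along an isomorphism of triangles. -/
lemma exists_distinguished_of_triangle_iso (F : DerivedCategory B ⥤ DerivedCategory A)
    {T T₀ : Triangle (DerivedCategory B)} (e : T ≅ T₀)
    (h : ∃ w : F.obj T₀.obj₃ ⟶ (F.obj T₀.obj₁)⟦(1 : ℤ)⟧,
      Triangle.mk (F.map T₀.mor₁) (F.map T₀.mor₂) w ∈ distTriang (DerivedCategory A)) :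
    ∃ w : F.obj T.obj₃ ⟶ (F.obj T.obj₁)⟦(1 : ℤ)⟧,
      Triangle.mk (F.map T.mor₁) (F.map T.mor₂) w ∈ distTriang (DerivedCategory A) := by
  obtain ⟨w₀, hw₀⟩ := h
  refine exists_mor₃_of_iso _ _ _ hw₀
    (F.mapIso ((Triangle.π₁).mapIso e)) (F.mapIso ((Triangle.π₂).mapIso e))
    (F.mapIso ((Triangle.π₃).mapIso e)) ?_ ?_
  · show F.map T.mor₁ ≫ F.map e.hom.hom₂ = F.map e.hom.hom₁ ≫ F.map T₀.mor₁
    rw [← Functor.map_comp, ← Functor.map_comp, e.hom.comm₁]
  · show F.map T.mor₂ ≫ F.map e.hom.hom₃ = F.map e.hom.hom₂ ≫ F.map T₀.mor₂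
    rw [← Functor.map_comp, ← Functor.map_comp, e.hom.comm₂]

/-- every distinguished triangle is isomorphic to the standard triangle of a map of fibrant
complexes. -/
lemma exists_iso_triangle_fibrant (T : Triangle (DerivedCategory B))
    (hT : T ∈ distTriang (DerivedCategory B)) :
    ∃ (I J : CochainComplex B ℤ) (_ : fibrant B I) (_ : fibrant B J) (φ : I ⟶ J),
      Nonempty (T ≅ DerivedCategory.Q.mapTriangle.obj (CochainComplex.mappingCone.triangle φ)) := by
  obtain ⟨K, L, φ, ⟨e⟩⟩ := (DerivedCategory.mem_distTriang_iff T).1 hT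
  have comm : φ ≫ (fibReplι₀ B).app L = (fibReplι₀ B).app K ≫ (fibRepl₀ B).map φ :=
    (fibReplι₀ B).naturality φ
  let tm := CochainComplex.mappingCone.triangleMap φ ((fibRepl₀ B).map φ)
    ((fibReplι₀ B).app K) ((fibReplι₀ B).app L) comm
  let τ := DerivedCategory.Q.mapTriangle.map tm
  haveI : QuasiIso ((fibReplι₀ B).app K) := (trivCof_fibReplι₀ B K).2
  haveI : QuasiIso ((fibReplι₀ B).app L) := (trivCof_fibReplι₀ B L).2
  haveI h₁ : IsIso τ.hom₁ := by
    show IsIso (DerivedCategory.Q.map ((fibReplι₀ B).app K))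
    rw [DerivedCategory.isIso_Q_map_iff_quasiIso]
    infer_instance
  haveI h₂ : IsIso τ.hom₂ := by
    show IsIso (DerivedCategory.Q.map ((fibReplι₀ B).app L))
    rw [DerivedCategory.isIso_Q_map_iff_quasiIso]
    infer_instance
  haveI h₃ : IsIso τ.hom₃ := isIso₃_of_isIso₁₂ τ
    (DerivedCategory.mappingCone_triangle_distinguished _)
    (DerivedCategory.mappingCone_triangle_distinguished _) h₁ h₂
  haveI : IsIso τ := Triangle.isIso_of_isIsos τ h₁ h₂ h₃
  exact ⟨_, _, fibrant_fibRepl₀ B K, fibrant_fibRepl₀ B L, (fibRepl₀ B).map φ,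
    ⟨e ≪≫ asIso τ⟩⟩

/-- `RFun G` sends the first two maps of a distinguished triangle to the first two maps of a
distinguished triangle. -/
theorem exists_distinguished_map (T : Triangle (DerivedCategory B))
    (hT : T ∈ distTriang (DerivedCategory B)) :
    ∃ w : (RFun G).obj T.obj₃ ⟶ ((RFun G).obj T.obj₁)⟦(1 : ℤ)⟧,
      Triangle.mk ((RFun G).map T.mor₁) ((RFun G).map T.mor₂) w ∈
        distTriang (DerivedCategory A) := by
  obtain ⟨I, J, hI, hJ, φ, ⟨e⟩⟩ := exists_iso_triangle_fibrant.{w} T hT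
  haveI := hI.isKInjective
  haveI := hJ.isKInjective
  exact exists_distinguished_of_triangle_iso (RFun G) e (exists_distinguished_of_kInj.{w} G φ)

end Abstract

end Groth.Agent.Lib.Seat28.RD3
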