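import Groth.Agent.Lib.Seat28GammaAcyc
import Groth.Agent.Lib.Seat28RD2

/-!
# `RΓ(Y, Rf_* E) ≅ RΓ(X, E)` (seat 28)
-/

set_option autoImplicit false
set_option linter.style.haveILetI false
universe u
open CategoryTheory CategoryTheory.Limits AlgebraicGeometry HomologicalComplex Opposite
open Groth.Agent.Lib.Helper17.KInj

attribute [local instance] HasDerivedCategory.standard

namespace Groth.Agent.Lib.Seat28.Good

open Groth.Agent.Lib.Seat28.RD

variable {X Y : Scheme.{u}} (f : X ⟶ Y)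

/-- `Γ(Y, f_* M) = Γ(X, M)`. -/
noncomputable def gammaPushIso :
    Scheme.Modules.pushforward f ⋙ DCoh.gammaAb Y ≅ DCoh.gammaAb X :=
  NatIso.ofComponents (fun M => Iso.refl _) (fun {M N} φ => by
    show (DCoh.gammaAb X).map φ ≫ 𝟙 _ = 𝟙 _ ≫ (DCoh.gammaAb X).map φ
    rw [Category.comp_id, Category.id_comp])

variable [DCoh.HasRpush f] [DCoh.HasRΓ X] [DCoh.HasRΓ Y]

/-- the functor on complexes whose right derived functor is `RΓ(X, -)`. -/
noncomputable abbrev gammaQ : CochainComplex X.Modules ℤ ⥤ DerivedCategory AddCommGrpCat.{u} :=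
  (DCoh.gammaAb X).mapHomologicalComplex (ComplexShape.up ℤ) ⋙ DerivedCategory.Q

/-- the comparison `Γ(X, K) ⟶ RΓ(Y, Rf_* K)`. -/
noncomputable def rgammaPushUnit :
    gammaQ (X := X) ⟶ DerivedCategory.Q ⋙ (DCoh.Rpush f ⋙ DCoh.RΓ Y) :=
  Functor.whiskerRight (Functor.mapHomologicalComplexCompIso (gammaPushIso f)
      (ComplexShape.up ℤ)).inv DerivedCategory.Q ≫
    (Functor.associator _ _ _).hom ≫
    Functor.whiskerLeft (pushC f) (unitC (DCoh.gammaAb Y)) ≫
    (Functor.associator _ _ _).inv ≫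
    Functor.whiskerRight (unitC (Scheme.Modules.pushforward f)) (DCoh.RΓ Y) ≫
    (Functor.associator _ _ _).hom

omit [DCoh.HasRΓ X] in
lemma isIso_rgammaPushUnit_app (I : CochainComplex X.Modules ℤ) [I.IsKInjective] :
    IsIso ((rgammaPushUnit f).app I) := by
  haveI h1 := isIso_unitC_gamma_pushC f I
  haveI h2 := isIso_unitC_app.{u} (Scheme.Modules.pushforward f) I
  dsimp [rgammaPushUnit]
  rw [Category.id_comp, Category.id_comp, Category.comp_id]
  infer_instance

instance isRightDerivedFunctor_rgammaPushUnit :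
    (DCoh.Rpush f ⋙ DCoh.RΓ Y).IsRightDerivedFunctor (rgammaPushUnit f)
      (HomologicalComplex.quasiIso X.Modules (ComplexShape.up ℤ)) :=
  isRightDerivedFunctor_of_isIso_fibrant.{u} _
    (isInvertedBy_mapHomologicalComplex_comp_Q (DCoh.gammaAb X)) _ _
    (fun I hI => by
      haveI := hI.isKInjective
      exact isIso_rgammaPushUnit_app f I)

/-- **`RΓ(Y, Rf_* E) ≅ RΓ(X, E)`**, naturally in `E`. -/
noncomputable def rpushRΓIso : DCoh.Rpush f ⋙ DCoh.RΓ Y ≅ DCoh.RΓ X :=
  Functor.rightDerivedUnique (DCoh.Rpush f ⋙ DCoh.RΓ Y) (DCoh.RΓ X)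
    (rgammaPushUnit f) (unitC (DCoh.gammaAb X))
    (HomologicalComplex.quasiIso X.Modules (ComplexShape.up ℤ))

end Groth.Agent.Lib.Seat28.Good
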