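import Mathlib
import Groth.Prelude.Def_C1
import Groth.Agent.Lib.Seat28PointOrd
import Groth.Agent.Lib.Seat28GysinPull
import Groth.Agent.Lib.Seat32PullSheaf
import Groth.Agent.Lib.Seat32PullBC
import Groth.Agent.Lib.Seat32MV

/-!
# Relative effective Cartier divisors and flat pullback (seat 28)

* `deltaCompat_comp_closedImmersion`: the induced dimension function on a closed subscheme.
* `c1CapFun_pullFun_eq`, `c1CapFun_pullFun_eq_zero`: the coefficient of `c_1(L) ∩ p^*α` (computed with the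
  Gysin choice for a section `s`) at a point `x`, when `s` is a nonzerodivisor on the fibre at `x`.
* `gysin_pullFun_eq_pullFun`: for a relative effective Cartier divisor `D ⊂ X` over `Y`: `i^* p^* α = (p|_D)^* α`
  coefficientwise.
* `ratEquiv_of_forall_eq`, `gysin_pullFun_ratEquiv`.
-/

set_option autoImplicit false
set_option linter.unusedVariables false
set_option linter.style.haveILetI false
universe u
open AlgebraicGeometry CategoryTheory CategoryTheory.Limits TopologicalSpace Opposite IsLocalRing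

namespace Groth.Agent.Lib.Seat28.RelCartier

open Groth.Agent.Lib.Helper6 Groth.Agent.Lib.Helper23.SecTw Groth.Agent.Lib.Helper23.PB
open Groth.Agent.Lib.Seat28.C1Gen Groth.Agent.Lib.Seat28.C1Tensor Groth.Agent.Lib.Seat28.C1Inv
open Groth.Agent.Lib.Seat28.GysinPull Groth.Agent.Lib.Seat28.PointOrd Groth.Agent.Lib.Seat28.QuotOrd
open Groth.Agent.Lib.Seat28.FlatDiv Groth.Agent.Lib.Seat28.FibreMax Groth.Agent.Lib.Seat28.FibreLen
open Groth.Agent.Lib.Seat32.GenPrime

section Compat

variable {D X Y : Scheme.{u}}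

/-- the induced dimension function on a closed subscheme is compatible with the composite. -/
theorem deltaCompat_comp_closedImmersion (i : D ⟶ X) [IsClosedImmersion i] (p : X ⟶ Y)
    (δX : X → ℤ) (δY : Y → ℤ) (hδ : Cyc.DeltaCompat p δX δY) :
    Cyc.DeltaCompat (i ≫ p) (fun d => δX (i d)) δY := by
  intro d
  obtain ⟨n, hn, hx⟩ := hδ (i d)
  refine ⟨n, ?_, hx⟩
  rw [← hn]
  letI alg1 : Algebra (Y.residueField (p (i d))) (X.residueField (i d)) :=
    (p.residueFieldMap (i d)).hom.toAlgebra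
  letI alg2 : Algebra (Y.residueField (p (i d))) (D.residueField d) :=
    ((i ≫ p).residueFieldMap d).hom.toAlgebra
  have hbij := Groth.Agent.Lib.Seat32.MV.residueFieldMap_bijective i d
  let e : X.residueField (i d) ≃ₐ[Y.residueField (p (i d))] D.residueField d :=
    AlgEquiv.ofBijective
      { (i.residueFieldMap d).hom with
        commutes' := by
          intro c
          change (i.residueFieldMap d).hom ((p.residueFieldMap (i d)).hom c) =
            ((i ≫ p).residueFieldMap d).hom c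
          rw [Scheme.residueFieldMap_comp]
          rfl } hbij
  exact e.trdeg_eq.symm

end Compat

section Aux

variable {X Y : Scheme.{u}}

/-- the image in `κ(ξ)` of the germ at `x` of a section is the residue of its germ at `ξ`. -/
theorem specMap_germ (x ξ : X) (h : ξ ⤳ x) (W : X.Opens) (hxW : x ∈ W) (a : Γ(X, W)) :
    Cyc.specMap x ξ h ((X.presheaf.germ W x hxW).hom a) =
      IsLocalRing.residue _ ((X.presheaf.germ W ξ (h.mem_open W.isOpen hxW)).hom a) := by
  have h1 : X.presheaf.stalkSpecializes h ((X.presheaf.germ W x hxW).hom a) =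
      (X.presheaf.germ W ξ (h.mem_open W.isOpen hxW)).hom a :=
    ConcreteCategory.congr_hom (TopCat.Presheaf.germ_stalkSpecializes X.presheaf hxW h) a
  rw [← h1]
  rfl

/-- the prime of a point in its own local ring is the maximal ideal. -/
theorem genPrime_eq_maximalIdeal (y y' : Y) (h : y' ⤳ y) (hy : y' = y) :
    (genPrime y y' h).asIdeal = maximalIdeal (Y.presheaf.stalk y) := by
  have h1 := (fromSpecStalk_genPrime y y' h).trans hy
  have h2 := (fromSpecStalk_eq_iff y _).1 h1
  rw [h2]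
  rfl

variable (p : X ⟶ Y)

theorem fibIdeal_eq_genPrime_map (x : X) (h : p x ⤳ p x) :
    fibIdeal p x = (genPrime (p x) (p x) h).asIdeal.map (p.stalkMap x).hom := by
  rw [genPrime_eq_maximalIdeal (p x) (p x) h rfl]

/-- the fibre ideal at a generization in the same fibre. -/
theorem fibIdeal_map_stalkSpecializes (x ξ : X) (hsp : ξ ⤳ x) (hp : p ξ = p x) :
    (fibIdeal p x).map (X.presheaf.stalkSpecializes hsp).hom = fibIdeal p ξ := by
  rw [fibIdeal_eq_map p x ξ hsp,
    genPrime_eq_maximalIdeal (p x) (p ξ) (p.base.hom.map_specializes hsp) hp]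

/-- a nonzerodivisor modulo `P` does not vanish at the points whose primes are minimal over `P`. -/
theorem specMap_ne_zero_of_minimal (x ξ : X) (h : ξ ⤳ x) (P : Ideal (X.presheaf.stalk x))
    (b : X.presheaf.stalk x)
    (hb : Ideal.Quotient.mk P b ∈ nonZeroDivisors (X.presheaf.stalk x ⧸ P))
    (hmin : (genPrime x ξ h).asIdeal ∈ P.minimalPrimes) : Cyc.specMap x ξ h b ≠ 0 := by
  intro h0
  have hbq : b ∈ (genPrime x ξ h).asIdeal := RingHom.mem_ker.2 h0
  rw [Ideal.minimalPrimes_eq_comap] at hmin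
  obtain ⟨I, hI, hIq⟩ := hmin
  have hbI : Ideal.Quotient.mk P b ∈ I := by
    have : b ∈ Ideal.comap (Ideal.Quotient.mk P) I := by rw [hIq]; exact hbq
    exact this
  exact (Set.disjoint_left.1 (Ideal.disjoint_nonZeroDivisors_of_mem_minimalPrimes hI)) hbI hb

end Aux

section XLevel

variable {X Y : Scheme.{u}} (δX : X → ℤ) (δY : Y → ℤ) (hX : Cyc.IsSetup X δX)
  (hY : Cyc.IsSetup Y δY) (p : X ⟶ Y) [Flat p] [LocallyOfFiniteType p] (r : ℕ)
  (hr : Cyc.HasRelDim p (r + 1)) (hδ : Cyc.DeltaCompat p δX δY)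
  (L : X.Modules) (s : L.presheaf.obj (op ⊤)) (w : (ξ : X) → Cyc.secFibre L ξ) (α : Y → ℤ)

omit [Flat p] [LocallyOfFiniteType p] in
include hY in
/-- the terms of `c_1(L) ∩ p^*α` at a point which is not of the right dimension vanish. -/
theorem c1CapFun_pullFun_eq_zero (x : X) (hle : δX x ≤ δY (p x) + r) (hne : δX x ≠ δY (p x) + r) :
    Cyc.c1CapFun δX L (Cyc.pullFun p δX δY (r + 1) α) (Cyc.gysinChoice L s w) x = 0 := by
  classical
  unfold Cyc.c1CapFun
  apply finsum_eq_zero_of_forall_eq_zero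
  intro ξ
  by_contra h0
  have h1 : Cyc.pullFun p δX δY (r + 1) α ξ ≠ 0 := left_ne_zero_of_mul h0
  have h2 : Cyc.secDivFun δX L ξ (Cyc.gysinChoice L s w ξ) x ≠ 0 := right_ne_zero_of_mul h0
  have h3 : δX ξ = δY (p ξ) + (r + 1) := by
    by_contra hn
    apply h1
    unfold Cyc.pullFun
    rw [if_neg hn]
  have h4 : ξ ⤳ x ∧ δX x + 1 = δX ξ := by
    by_contra hn
    apply h2
    unfold Cyc.secDivFun
    rw [dif_neg hn]
  have h5 : δY (p x) ≤ δY (p ξ) := by
    by_cases heq : p ξ = p x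
    · rw [heq]
    · exact (hY.2.2 (p ξ) (p x) (p.base.hom.map_specializes h4.1) heq).1.le
  apply hne
  omega

include hX hY hr hδ in
/-- **`c_1(L) ∩ p^*α` at a point of dimension `δ(p x) + r`**, where `s` is a nonzerodivisor on the fibre. -/
theorem c1CapFun_pullFun_eq (x : X) (hx : δX x = δY (p x) + r) {W : X.Opens} {e : Γ(L, W)}
    (he : IsGen L W e) (hxW : x ∈ W)
    (hb : Ideal.Quotient.mk (fibIdeal p x) ((X.presheaf.germ W x hxW).hom (coefTop L s he)) ∈
      nonZeroDivisors (X.presheaf.stalk x ⧸ fibIdeal p x)) :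
    Cyc.c1CapFun δX L (Cyc.pullFun p δX δY (r + 1) α) (Cyc.gysinChoice L s w) x =
      α (p x) * ((Module.length (X.presheaf.stalk x) (X.presheaf.stalk x ⧸
        (fibIdeal p x ⊔ Ideal.span {(X.presheaf.germ W x hxW).hom (coefTop L s he)}))).toNat : ℤ) := by
  classical
  haveI : IsLocallyNoetherian X := hX.1
  haveI : IsLocallyNoetherian Y := hY.1
  set b := (X.presheaf.germ W x hxW).hom (coefTop L s he) with hbdef
  set P := fibIdeal p x with hPdef
  have hfr := isFrame_of_isGen _ _ _ he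
  have hc1 : ∀ ξ : X, (∀ y, p y = p ξ → y ⤳ ξ → y = ξ) → δX ξ = δY (p ξ) + ((r : ℤ) + 1) := by
    intro ξ hmax
    have := Groth.Agent.Lib.Seat32.PullBC.delta_of_isFibMax p (r + 1) hr δX δY hδ ξ hmax
    rw [this]
    push_cast
    ring
  have hiff : ∀ ξ : X, δX ξ = δY (p ξ) + ((r : ℤ) + 1) ↔ IsFibMax p ξ :=
    fun ξ => delta_eq_iff p δY δX hX.2.2 ((r : ℤ) + 1) hc1 ξ
  have hleX : ∀ ξ : X, δX ξ ≤ δY (p ξ) + ((r : ℤ) + 1) :=
    fun ξ => FibreMax.delta_le p δY δX hX.2.2 ((r : ℤ) + 1) hc1 ξ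
  have hsp0 : p x ⤳ p x := specializes_rfl
  have hPgen : P = (genPrime (p x) (p x) hsp0).asIdeal.map (p.stalkMap x).hom :=
    fibIdeal_eq_genPrime_map p x hsp0
  -- no room
  have hK : ∀ z : X, z ⤳ x → p x ⤳ p z → z = x ∨ (p z = p x ∧ IsFibMax p z) := by
    intro z hzx hpz
    have hpzx : p z = p x := (Specializes.antisymm (p.base.hom.map_specializes hzx) hpz).eq
    by_cases hzx' : z = x
    · left; exact hzx'
    · right
      refine ⟨hpzx, (hiff z).1 ?_⟩
      have h1 := (hX.2.2 z x hzx hzx').1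
      have h2 := hleX z
      rw [hpzx] at h2 ⊢
      omega
  have hdim : ∀ Q : Ideal (X.presheaf.stalk x), Q.IsPrime → P ≤ Q →
      Q ∈ P.minimalPrimes ∨ Q = maximalIdeal (X.presheaf.stalk x) := by
    intro Q hQ hPQ
    let Q' : PrimeSpectrum (X.presheaf.stalk x) := ⟨Q, hQ⟩
    set z := X.fromSpecStalk x Q' with hz
    have hzx : z ⤳ x := fromSpecStalk_specializes x Q'
    have hQ'eq : genPrime x z hzx = Q' := genPrime_fromSpecStalk x Q' hzx
    have hQeq : (genPrime x z hzx).asIdeal = Q := by rw [hQ'eq]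
    have hξz : p x ⤳ p z := by
      rw [← map_le_genPrime_iff p x z hzx (p x) hsp0, hQeq, ← hPgen]
      exact hPQ
    rcases hK z hzx hξz with h1 | h1
    · right
      have : Q' = closedPoint (X.presheaf.stalk x) := (fromSpecStalk_eq_iff x Q').1 h1
      exact congrArg PrimeSpectrum.asIdeal this
    · left
      rw [← hQeq, hPgen]
      exact genPrime_mem_minimalPrimes p x (p x) hsp0 z ⟨h1.1, h1.2, hzx⟩
  have key := length_eq_finsum_termP x P b hb hdim
  rw [key]
  rw [mul_finsum]
  unfold Cyc.c1CapFun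
  apply finsum_congr
  intro ξ
  by_cases hsp : ξ ⤳ x
  · by_cases hmin : (genPrime x ξ hsp).asIdeal ∈ P.minimalPrimes
    · -- the main case
      have hgen : ξ ∈ Gen p x (p x) := by
        have h1 := fromSpecStalk_mem_gen p x (p x) hsp0 (genPrime x ξ hsp) (by rw [← hPgen]; exact hmin)
        rw [fromSpecStalk_genPrime] at h1
        exact h1
      obtain ⟨hpξ, hfm, -⟩ := hgen
      have hδξ : δX ξ = δY (p ξ) + ((r : ℤ) + 1) := hc1 ξ hfm
      have hcond : ξ ⤳ x ∧ δX x + 1 = δX ξ := ⟨hsp, by rw [hδξ, hpξ, hx]; ring⟩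
      have hξW : ξ ∈ W := hsp.mem_open W.isOpen hxW
      have hne : Cyc.specMap x ξ hsp b ≠ 0 := specMap_ne_zero_of_minimal x ξ hsp P b hb hmin
      have hres : IsLocalRing.residue _ ((X.presheaf.germ W ξ hξW).hom (coefTop L s he)) =
          Cyc.specMap x ξ hsp b := (specMap_germ x ξ hsp W hxW _).symm
      have hmk : (Submodule.Quotient.mk (L.presheaf.germ ⊤ ξ trivial s) : Cyc.secFibre L ξ) ≠ 0 := by
        intro h0
        apply hne
        rw [← hres]
        exact (mk_germ_top_eq_zero_iff L s he ξ hξW).1 h0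
      have hpull : Cyc.pullFun p δX δY (r + 1) α ξ = α (p x) *
          ((Module.length (X.presheaf.stalk ξ) (X.presheaf.stalk ξ ⧸ fibIdeal p ξ)).toNat : ℤ) := by
        unfold Cyc.pullFun
        rw [if_pos hδξ, congrArg α hpξ]
      have hdiv : Cyc.secDivFun δX L ξ (Cyc.gysinChoice L s w ξ) x =
          Cyc.ordAt x ξ hsp (Cyc.specMap x ξ hsp b) := by
        unfold Cyc.secDivFun
        rw [dif_pos hcond, gysinChoice_of_ne L s w ξ hmk, secOrdAt_eq_coord hfr hsp hxW,
          coord_mk_germ_top L s he ξ hξW, hres]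
      have hterm : termP x P b ξ =
          ((Module.length (X.presheaf.stalk ξ) (X.presheaf.stalk ξ ⧸ fibIdeal p ξ)).toNat : ℤ) *
            Cyc.ordAt x ξ hsp (Cyc.specMap x ξ hsp b) := by
        unfold termP
        rw [dif_pos hsp, if_pos hmin, fibIdeal_map_stalkSpecializes p x ξ hsp hpξ]
      rw [hpull, hdiv, hterm, mul_assoc]
    · -- not a generic point of the fibre through `x`
      have hterm : termP x P b ξ = 0 := by
        unfold termP
        rw [dif_pos hsp, if_neg hmin]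
      rw [hterm, mul_zero]
      by_contra h0
      have h1 : Cyc.pullFun p δX δY (r + 1) α ξ ≠ 0 := left_ne_zero_of_mul h0
      have h2 : Cyc.secDivFun δX L ξ (Cyc.gysinChoice L s w ξ) x ≠ 0 := right_ne_zero_of_mul h0
      have h3 : δX ξ = δY (p ξ) + ((r : ℤ) + 1) := by
        by_contra hn
        apply h1
        unfold Cyc.pullFun
        rw [if_neg hn]
      have h4 : ξ ⤳ x ∧ δX x + 1 = δX ξ := by
        by_contra hn
        apply h2
        unfold Cyc.secDivFun
        rw [dif_neg hn]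
      have hpξ : p ξ = p x := by
        by_contra heq
        have := (hY.2.2 (p ξ) (p x) (p.base.hom.map_specializes h4.1) heq).1
        omega
      apply hmin
      rw [hPgen]
      exact genPrime_mem_minimalPrimes p x (p x) hsp0 ξ ⟨hpξ, (hiff ξ).1 h3, hsp⟩
  · have hterm : termP x P b ξ = 0 := by
      unfold termP
      rw [dif_neg hsp]
    have hdiv : Cyc.secDivFun δX L ξ (Cyc.gysinChoice L s w ξ) x = 0 := by
      unfold Cyc.secDivFun
      rw [dif_neg (fun hc => hsp hc.1)]
    rw [hterm, hdiv, mul_zero, mul_zero]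

end XLevel

section DLevel

variable {X Y D : Scheme.{u}} (δX : X → ℤ) (δY : Y → ℤ) (hX : Cyc.IsSetup X δX)
  (hY : Cyc.IsSetup Y δY) (p : X ⟶ Y) [Flat p] [LocallyOfFiniteType p] (r : ℕ)
  (hr : Cyc.HasRelDim p (r + 1)) (hδ : Cyc.DeltaCompat p δX δY)
  (L : X.Modules) (hL : PicF.IsInvertible L) (s : L.presheaf.obj (op ⊤))
  (hreg : ∀ x : X, Function.Injective
    (fun a : X.presheaf.stalk x => a • (L.presheaf.germ ⊤ x trivial) s))
  (i : D ⟶ X) [IsClosedImmersion i] (hD : Cyc.IsZeroSchemeOf i L s) [Flat (i ≫ p)]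
  (hrD : Cyc.HasRelDim (i ≫ p) r)
  (w : (ξ : X) → Cyc.secFibre L ξ) (α : Y → ℤ)

include hX hY hr hδ hL hreg hD hrD in
/-- **Relative effective Cartier divisors**: on the nose, `i^* p^* α = (p|_D)^* α`. -/
theorem gysin_pullFun_eq_pullFun (d : D) :
    Cyc.c1CapFun δX L (Cyc.pullFun p δX δY (r + 1) α) (Cyc.gysinChoice L s w) (i d) =
      Cyc.pullFun (i ≫ p) (fun d => δX (i d)) δY r α d := by
  haveI : L.IsQuasicoherent := isQuasicoherent_of_isInvertible L hL
  obtain ⟨W, e, hxW, hW, he⟩ := exists_affine_gen L hL (i d)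
  have hδD := deltaCompat_comp_closedImmersion i p δX δY hδ
  have hleD : δX (i d) ≤ δY (p (i d)) + r :=
    Groth.Agent.Lib.Seat32.PullSheaf.delta_le (i ≫ p) r hrD _ δY hδD d
  by_cases hx : δX (i d) = δY (p (i d)) + r
  · set b := (X.presheaf.germ W (i d) hxW).hom (coefTop L s he) with hbdef
    have hker : RingHom.ker (i.stalkMap d).hom = Ideal.span {b} :=
      ker_stalkMap_eq_span L s he i hD d hxW
    have hfr := isFrame_of_isGen _ _ _ he
    have hbnzd : b ∈ nonZeroDivisors (X.presheaf.stalk (i d)) := by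
      rw [mem_nonZeroDivisors_iff_right]
      intro a ha
      apply hreg (i d)
      change a • (L.presheaf.germ ⊤ (i d) trivial) s = (0 : X.presheaf.stalk (i d)) • _
      rw [germ_top_eq L s he (i d) hxW, ← mul_smul, ha, zero_smul, zero_smul]
    have hcomp : ((i ≫ p).stalkMap d).hom = (i.stalkMap d).hom.comp (p.stalkMap (i d)).hom := by
      rw [Scheme.Hom.stalkMap_comp]
      rfl
    have hflat : ((i.stalkMap d).hom.comp (p.stalkMap (i d)).hom).Flat := by
      rw [← hcomp]
      exact Flat.stalkMap (i ≫ p) d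
    have hb := mk_mem_nonZeroDivisors_of_flat (p.stalkMap (i d)).hom (i.stalkMap d).hom
      (i.stalkMap_surjective d) b hker hbnzd hflat (maximalIdeal _)
    rw [c1CapFun_pullFun_eq δX δY hX hY p r hr hδ L s w α (i d) hx he hxW hb]
    unfold Cyc.pullFun
    have hx' : δX (i d) = δY ((i ≫ p) d) + r := hx
    rw [if_pos hx']
    have hlen := length_quot_map_eq_sup_ker (i.stalkMap d).hom (i.stalkMap_surjective d)
      (fibIdeal p (i d))
    rw [hker, fibIdeal, Ideal.map_map, ← hcomp] at hlen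
    rw [← hlen]
    rfl
  · rw [c1CapFun_pullFun_eq_zero δX δY hY p r L s w α (i d) hleD hx]
    unfold Cyc.pullFun
    have hx' : ¬ δX (i d) = δY ((i ≫ p) d) + r := hx
    rw [if_neg hx']

end DLevel

section Final

/-- cycles with equal coefficients are rationally equivalent. -/
theorem ratEquiv_of_forall_eq {X : Scheme.{u}} (δ : X → ℤ) (k : ℤ) (γ ζ : AlgebraicCycle X ℤ)
    (h : ∀ x, γ x = ζ x) : Cyc.RatEquiv δ k γ ζ := by
  refine ⟨PEmpty, fun j => j.elim, fun j => j.elim, fun j => j.elim, fun j => j.elim, ?_, ?_⟩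
  · intro x
    exact ⟨Set.univ, isOpen_univ, trivial, Set.toFinite _⟩
  · intro x
    rw [finsum_of_isEmpty]
    have : (γ - ζ) x = γ x - ζ x := rfl
    rw [this, h x, sub_self]

/-- **Relative effective Cartier divisors and flat pullback.** -/
theorem gysin_pullFun_ratEquiv (X Y D : Scheme.{u}) (δX : X → ℤ) (δY : Y → ℤ)
    (hX : Cyc.IsSetup X δX) (hY : Cyc.IsSetup Y δY) (p : X ⟶ Y) [Flat p] [LocallyOfFiniteType p]
    (r : ℕ) (hr : Cyc.HasRelDim p (r + 1)) (hδ : Cyc.DeltaCompat p δX δY) (L : X.Modules)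
    (hL : PicF.IsInvertible L) (s : L.presheaf.obj (Opposite.op ⊤))
    (hreg : ∀ x : X, Function.Injective
      (fun a : X.presheaf.stalk x => a • (L.presheaf.germ ⊤ x trivial) s))
    (i : D ⟶ X) [IsClosedImmersion i] (hD : Cyc.IsZeroSchemeOf i L s) [Flat (i ≫ p)]
    (hrD : Cyc.HasRelDim (i ≫ p) r) (k : ℤ) (α : AlgebraicCycle Y ℤ)
    (w : (ξ : X) → Cyc.secFibre L ξ) (γ ζ : AlgebraicCycle D ℤ)
    (hγ : ∀ d, γ d = Cyc.c1CapFun δX L (Cyc.pullFun p δX δY (r + 1) ⇑α) (Cyc.gysinChoice L s w) (i d))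
    (hζ : ⇑ζ = Cyc.pullFun (i ≫ p) (fun d => δX (i d)) δY r ⇑α) :
    Cyc.RatEquiv (fun d => δX (i d)) (k + r + 1) γ ζ := by
  apply ratEquiv_of_forall_eq
  intro d
  rw [hγ d, hζ]
  exact gysin_pullFun_eq_pullFun δX δY hX hY p r hr hδ L hL s hreg i hD hrD w (⇑α) d

end Final

end Groth.Agent.Lib.Seat28.RelCartier
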