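import Groth.Agent.Lib.Seat28AssocNat
import Groth.Agent.Lib.Helper1BKF17

set_option backward.isDefEq.respectTransparency.types false

/-!
# Associativity of the total tensor complex on a ringed site as a natural isomorphism (seat 28)
-/

set_option autoImplicit false
universe u
open CategoryTheory CategoryTheory.Limits HomologicalComplex

namespace Groth.Agent.Lib.Seat28.TrAssoc

open Groth.Agent.Lib.Helper1.BKF Groth.Agent.Lib.Helper1
open Groth.Agent.Lib.Helper21.ModTensor3 Groth.Agent.Lib.Helper21.ModTensor5

variable {C : Type u} [SmallCategory C] {J : GrothendieckTopology C} {O : Sheaf J CommRingCat.{u}}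

/-- associativity of the total tensor complex (in `tensorCx` form). -/
noncomputable def totAssoc' (N K L : CochainComplex (ModSite.Mod O) ℤ) :
    ((ModSite.tensorCx O).obj (((ModSite.tensorCx O).obj N).obj K)).obj L ≅
      ((ModSite.tensorCx O).obj N).obj (((ModSite.tensorCx O).obj K).obj L) :=
  mapBifunctorAssociator (assocT O) N K L _ _ _

lemma totAssoc'_hom_naturality₁ {N N' : CochainComplex (ModSite.Mod O) ℤ} (f : N ⟶ N')
    (K L : CochainComplex (ModSite.Mod O) ℤ) :
    ((ModSite.tensorCx O).map (((ModSite.tensorCx O).map f).app K)).app L ≫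
        (totAssoc' N' K L).hom =
    (totAssoc' N K L).hom ≫
      ((ModSite.tensorCx O).map f).app (((ModSite.tensorCx O).obj K).obj L) :=
  AssocNat.mapBifunctorAssociator_hom_naturality₁ (assocT O) f K L _ _ _

/-- associativity of the total tensor complex, natural in the first variable. -/
noncomputable def trAssoc (K L : CochainComplex (ModSite.Mod O) ℤ) :
    (ModSite.tensorCx O).flip.obj K ⋙ (ModSite.tensorCx O).flip.obj L ≅
      (ModSite.tensorCx O).flip.obj (((ModSite.tensorCx O).obj K).obj L) :=
  NatIso.ofComponents (fun N => totAssoc' N K L)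
    (fun {_ _} f => totAssoc'_hom_naturality₁ f K L)

end Groth.Agent.Lib.Seat28.TrAssoc
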