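import Groth.Agent.Lib.Seat28RD

/-!
# The unit of a total right derived functor: homotopy-category form versus complex form (seat 28)
-/

set_option autoImplicit false
set_option linter.style.haveILetI false
universe w w₁ w₂ v v' u u'
open CategoryTheory CategoryTheory.Limits HomologicalComplex
open Groth.Agent.Lib.Helper17.KInj

namespace Groth.Agent.Lib.Seat28.RD

variable {A : Type u} [Category.{v} A] [Abelian A] {B : Type u'} [Category.{v'} B] [Abelian B]
  [HasDerivedCategory.{w₁} A] [HasDerivedCategory.{w₂} B]
  (G : B ⥤ A) [G.Additive]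
  [(Kh G).HasRightDerivedFunctor (HomotopyCategory.quasiIso B (ComplexShape.up ℤ))]

lemma unitC_app_eq (K : CochainComplex B ℤ) :
    (unitC G).app K = (isoF₀ G).inv.app K ≫
      ((Kh G).totalRightDerivedUnit DerivedCategory.Qh
        (HomotopyCategory.quasiIso B (ComplexShape.up ℤ))).app
        ((HomotopyCategory.quotient B (ComplexShape.up ℤ)).obj K) := by
  dsimp [unitC, unitOfK, γOfK]
  rw [Category.id_comp, Category.id_comp]
  erw [CategoryTheory.Functor.map_id]
  congr 1
  exact Category.comp_id _

lemma isIso_totalRightDerivedUnit_app_iff (K : CochainComplex B ℤ) :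
    IsIso (((Kh G).totalRightDerivedUnit DerivedCategory.Qh
        (HomotopyCategory.quasiIso B (ComplexShape.up ℤ))).app
        ((HomotopyCategory.quotient B (ComplexShape.up ℤ)).obj K)) ↔
      IsIso ((unitC G).app K) := by
  rw [unitC_app_eq]
  exact (isIso_comp_left_iff _ _).symm

/-- the unit at isomorphic complexes. -/
lemma isIso_unitC_app_of_iso {K K' : CochainComplex B ℤ} (e : K ≅ K')
    (h : IsIso ((unitC G).app K')) : IsIso ((unitC G).app K) := by
  have hn := (unitC G).naturality e.hom
  haveI : IsIso ((DerivedCategory.Q ⋙ RFun G).map e.hom) := inferInstance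
  have h5 : (unitC G).app K =
      ((G.mapHomologicalComplex (ComplexShape.up ℤ) ⋙ DerivedCategory.Q).map e.hom ≫
        (unitC G).app K') ≫ inv ((DerivedCategory.Q ⋙ RFun G).map e.hom) := by
    rw [hn, Category.assoc, IsIso.hom_inv_id, Category.comp_id]
  rw [h5]
  infer_instance

end Groth.Agent.Lib.Seat28.RD
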