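import Mathlib

/-!
# Restriction of constant sheaves along continuous + cocontinuous functors (seat 29)

For a functor `G : C ⥤ D` between sites which is both continuous and cocontinuous
(e.g. `Over.forget U`, `Over.map g`), the pushforward (= restriction) of sheaves along `G`
commutes with the constant sheaf functor: `constPullIso`.  We record the compatibility of
this isomorphism with the sheafification units (`toSheafify_constPullIso_inv`) and deduce a
criterion (`pull_map_eq_of_fac`) for the restriction of a morphism `ψ : const M ⟶ const N`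
to be the map of constant sheaves induced by `h : M ⟶ N`.
-/

set_option autoImplicit false

universe v₁ u₁ v₂ u₂ v u

open CategoryTheory CategoryTheory.Limits Opposite

namespace Groth.Agent.Lib.Seat29.ConstRes

section ConstHom

variable {C : Type u₁} [Category.{v₁} C] {A : Type u} [Category.{v} A]

/-- Two natural transformations out of a constant presheaf on a category with a terminal object
agree as soon as they agree on the terminal object. -/
lemma const_hom_ext {T : C} (hT : IsTerminal T) {M : A} {P : Cᵒᵖ ⥤ A}
    (a b : (Functor.const Cᵒᵖ).obj M ⟶ P) (h : a.app (op T) = b.app (op T)) : a = b := by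
  ext X
  have ha := a.naturality (hT.from X.unop).op
  have hb := b.naturality (hT.from X.unop).op
  simp only [Functor.const_obj_obj, Functor.const_obj_map, Category.id_comp] at ha hb
  rw [ha, hb, h]

end ConstHom

section Compat

variable {C : Type u₁} [Category.{v₁} C] {D : Type u₂} [Category.{v₂} D]
  (G : C ⥤ D) (A : Type u) [Category.{v} A]
  (J : GrothendieckTopology C) (K : GrothendieckTopology D)
  [G.IsContinuous J K] [G.IsCocontinuous J K]
  [∀ (F : Cᵒᵖ ⥤ A), G.op.HasPointwiseRightKanExtension F]
  [HasWeakSheafify J A] [HasWeakSheafify K A]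

/-- Restriction along a continuous and cocontinuous functor commutes with the constant sheaf
functor (explicit form, with `constantSheaf` unfolded). -/
noncomputable def constPullIso' :
    (Functor.const Dᵒᵖ ⋙ presheafToSheaf K A) ⋙ G.sheafPushforwardContinuous A J K ≅
      Functor.const Cᵒᵖ ⋙ presheafToSheaf J A :=
  Functor.associator _ _ _ ≪≫
    Functor.isoWhiskerLeft (Functor.const Dᵒᵖ)
      (G.pushforwardContinuousSheafificationCompatibility A J K).symm ≪≫
    (Functor.associator _ _ _).symm ≪≫
    Functor.isoWhiskerRight (Functor.constCompWhiskeringLeftIso Cᵒᵖ (C := A) G.op)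
      (presheafToSheaf J A)

lemma constPullIso'_inv_app_hom (M : A) :
    ((constPullIso' G A J K).inv.app M).hom =
      sheafifyMap J ((Functor.constCompWhiskeringLeftIso Cᵒᵖ (C := A) G.op).inv.app M) ≫
        ((G.pushforwardContinuousSheafificationCompatibility A J K).hom.app
          ((Functor.const Dᵒᵖ).obj M)).hom := by
  dsimp [constPullIso']
  erw [Category.comp_id, Category.comp_id]

/-- Compatibility of `constPullIso'` with the sheafification units. -/
lemma toSheafify_constPullIso'_inv (M : A) (X : Cᵒᵖ) :
    (toSheafify J ((Functor.const Cᵒᵖ).obj M)).app X ≫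
      ((constPullIso' G A J K).inv.app M).hom.app X =
    (toSheafify K ((Functor.const Dᵒᵖ).obj M)).app (G.op.obj X) := by
  have h1 := toSheafify_naturality J
    ((Functor.constCompWhiskeringLeftIso Cᵒᵖ (C := A) G.op).inv.app M)
  have h2 := Functor.toSheafify_pullbackSheafificationCompatibility G A J K
    ((Functor.const Dᵒᵖ).obj M)
  have h1' := congr_app h1 X
  have h2' := congr_app h2 X
  have h3 : ((Functor.constCompWhiskeringLeftIso Cᵒᵖ (C := A) G.op).inv.app M).app X = 𝟙 _ := rfl
  rw [constPullIso'_inv_app_hom]
  dsimp at h1' h2' ⊢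
  rw [h3] at h1'
  erw [Category.id_comp] at h1'
  rw [← Category.assoc, ← h1', h2']

/-- Restriction along a continuous and cocontinuous functor commutes with the constant sheaf
functor. -/
noncomputable def constPullIso :
    constantSheaf K A ⋙ G.sheafPushforwardContinuous A J K ≅ constantSheaf J A :=
  constPullIso' G A J K

/-- Compatibility of `constPullIso` with the sheafification units. -/
lemma toSheafify_constPullIso_inv (M : A) (X : Cᵒᵖ) :
    (toSheafify J ((Functor.const Cᵒᵖ).obj M)).app X ≫
      ((constPullIso G A J K).inv.app M).hom.app X =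
    (toSheafify K ((Functor.const Dᵒᵖ).obj M)).app (G.op.obj X) :=
  toSheafify_constPullIso'_inv G A J K M X

/-- **Criterion**: if `ψ : const M ⟶ const N` (on `D`) is given on the sections over `G.obj T'`
(`T'` terminal in `C`) by `h : M ⟶ N` on constants, then the restriction of `ψ` along `G` is the
map of constant sheaves induced by `h`. -/
lemma pull_map_eq_of_fac {T' : C} (hT' : IsTerminal T') {M N : A}
    (ψ : (constantSheaf K A).obj M ⟶ (constantSheaf K A).obj N) (h : M ⟶ N)
    (hfac : (toSheafify K ((Functor.const Dᵒᵖ).obj M)).app (op (G.obj T')) ≫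
        ψ.hom.app (op (G.obj T')) =
      h ≫ (toSheafify K ((Functor.const Dᵒᵖ).obj N)).app (op (G.obj T'))) :
    (G.sheafPushforwardContinuous A J K).map ψ ≫ (constPullIso G A J K).hom.app N =
      (constPullIso G A J K).hom.app M ≫ (constantSheaf J A).map h := by
  suffices hs : (constPullIso G A J K).inv.app M ≫ (G.sheafPushforwardContinuous A J K).map ψ =
      (constantSheaf J A).map h ≫ (constPullIso G A J K).inv.app N by
    have h1 := congrArg (fun t => (constPullIso G A J K).hom.app M ≫ t ≫
      (constPullIso G A J K).hom.app N) hs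
    simp only [Category.assoc, Iso.hom_inv_id_app_assoc, Iso.inv_hom_id_app,
      Category.comp_id] at h1
    exact h1
  apply Sheaf.hom_ext
  apply sheafify_hom_ext J _ _
    ((G.sheafPushforwardContinuous A J K).obj ((constantSheaf K A).obj N)).property
  apply const_hom_ext hT'
  have e1 := toSheafify_constPullIso_inv G A J K M (op T')
  have e2 := toSheafify_constPullIso_inv G A J K N (op T')
  have e3 := congr_app (toSheafify_naturality J ((Functor.const Cᵒᵖ).map h)) (op T')
  simp only [NatTrans.comp_app, Functor.const_map_app] at e3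
  have l1 : (toSheafify J ((Functor.const Cᵒᵖ).obj M)).app (op T') ≫
      ((constPullIso G A J K).inv.app M).hom.app (op T') ≫
        ((G.sheafPushforwardContinuous A J K).map ψ).hom.app (op T') =
      h ≫ (toSheafify K ((Functor.const Dᵒᵖ).obj N)).app (op (G.obj T')) := by
    rw [← Category.assoc, e1]
    exact hfac
  have l2 : (toSheafify J ((Functor.const Cᵒᵖ).obj M)).app (op T') ≫
      ((constantSheaf J A).map h).hom.app (op T') ≫
        ((constPullIso G A J K).inv.app N).hom.app (op T') =
      h ≫ (toSheafify K ((Functor.const Dᵒᵖ).obj N)).app (op (G.obj T')) := by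
    refine (Category.assoc _ _ _).symm.trans ?_
    refine (congrArg (fun t => t ≫ ((constPullIso G A J K).inv.app N).hom.app (op T')) e3.symm).trans ?_
    refine (Category.assoc _ _ _).trans ?_
    exact congrArg (fun t => h ≫ t) e2
  exact l1.trans l2.symm

end Compat

section Empty

variable {C : Type u₁} [Category.{v₁} C] {A : Type u} [Category.{v} A]
  (J : GrothendieckTopology C)

/-- If every object is covered by the empty sieve, any two morphisms of presheaves into a sheaf
coincide. -/
lemma presheaf_hom_eq_of_bot_mem (hJ : ∀ X : C, ⊥ ∈ J X) {P : Cᵒᵖ ⥤ A} (Q : Sheaf J A)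
    (a b : P ⟶ Q.obj) : a = b := by
  ext X
  have hQ := Q.property (P.obj X)
  exact ((hQ ⊥ (hJ X.unop)).isSeparatedFor).ext (fun Y f hf => hf.elim)

/-- If every object is covered by the empty sieve, any two morphisms of sheaves coincide. -/
lemma sheaf_hom_eq_of_bot_mem (hJ : ∀ X : C, ⊥ ∈ J X) {P Q : Sheaf J A} (a b : P ⟶ Q) : a = b :=
  Sheaf.hom_ext (presheaf_hom_eq_of_bot_mem J hJ Q a.hom b.hom)

lemma bot_mem_of_hom {X Y : C} (f : Y ⟶ X) (h : ⊥ ∈ J X) : ⊥ ∈ J Y := by
  have := J.pullback_stable f h
  convert this
  ext Z g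
  simp

lemma bot_mem_over {W : C} (h : ⊥ ∈ J W) (Y : Over W) : ⊥ ∈ (J.over W) Y := by
  rw [GrothendieckTopology.mem_over_iff]
  have : Sieve.overEquiv Y ⊥ = ⊥ := (Sieve.overEquiv Y).map_bot
  rw [this]
  exact bot_mem_of_hom J Y.hom h

end Empty

section Fac

variable {D : Type u₂} [Category.{v₂} D] {A : Type u} [Category.{v} A]
  (K : GrothendieckTopology D) [HasWeakSheafify K A]

/-- `ψ : const M ⟶ const N` is, on sections over `W`, induced on constants by some `h : M ⟶ N`
(or `W` is covered by the empty sieve). -/
def Fac {M N : A} (ψ : (constantSheaf K A).obj M ⟶ (constantSheaf K A).obj N) (W : D) : Prop :=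
  ⊥ ∈ K W ∨ ∃ h : M ⟶ N,
    (toSheafify K ((Functor.const Dᵒᵖ).obj M)).app (op W) ≫ ψ.hom.app (op W) =
      h ≫ (toSheafify K ((Functor.const Dᵒᵖ).obj N)).app (op W)

/-- `ψ : const M ⟶ const N` is locally induced by morphisms `M ⟶ N`. -/
def LocFac {M N : A} (ψ : (constantSheaf K A).obj M ⟶ (constantSheaf K A).obj N) : Prop :=
  ∀ W : D, ∃ S ∈ K W, ∀ ⦃W' : D⦄ (g : W' ⟶ W), S g → Fac K ψ W'

end Fac

section OverRes

variable {C : Type u₁} [Category.{v₁} C] (J : GrothendieckTopology C) (A : Type u) [Category.{v} A]
  [∀ X : C, HasWeakSheafify (J.over X) A]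
  [∀ {X Y : C} (f : X ⟶ Y) (F : (Over X)ᵒᵖ ⥤ A), (Over.map f).op.HasPointwiseRightKanExtension F]

/-- The restriction to `Over W` of the constant sheaf on `Over V` is the constant sheaf. -/
noncomputable abbrev cIso {W V : C} (g : W ⟶ V) :
    constantSheaf (J.over V) A ⋙ J.overMapPullback A g ≅ constantSheaf (J.over W) A :=
  constPullIso (Over.map g) A (J.over W) (J.over V)

variable {J A}

/-- If `F` is constant on `Over V` with value `M`, then it is constant on `Over W` with value `M`
for every `g : W ⟶ V`. -/
noncomputable def resIso {F : Sheaf J A} {W V : C} (g : W ⟶ V) {M : A}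
    (α : F.over V ≅ (constantSheaf (J.over V) A).obj M) :
    F.over W ≅ (constantSheaf (J.over W) A).obj M :=
  (F.pushforwardOverMapIso g).symm ≪≫ (J.overMapPullback A g).mapIso α ≪≫ (cIso J A g).app M

omit [∀ X : C, HasWeakSheafify (J.over X) A]
  [∀ {X Y : C} (f : X ⟶ Y) (F : (Over X)ᵒᵖ ⥤ A),
    (Over.map f).op.HasPointwiseRightKanExtension F] in
lemma pushforwardOverMapIso_naturality {F F' : Sheaf J A} (φ : F ⟶ F') {W V : C} (g : W ⟶ V) :
    (J.overMapPullback A g).map ((J.overPullback A V).map φ) ≫ (F'.pushforwardOverMapIso g).hom =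
      (F.pushforwardOverMapIso g).hom ≫ (J.overPullback A W).map φ := by
  apply Sheaf.hom_ext
  ext X
  simp [Sheaf.pushforwardOverMapIso]
  erw [Category.comp_id, Category.id_comp]

lemma res_comm {F F' : Sheaf J A} (φ : F ⟶ F') {W V : C} (g : W ⟶ V) {M N : A}
    (α : F.over V ≅ (constantSheaf (J.over V) A).obj M)
    (β : F'.over V ≅ (constantSheaf (J.over V) A).obj N) (h : M ⟶ N)
    (hψ : (J.overMapPullback A g).map (α.inv ≫ (J.overPullback A V).map φ ≫ β.hom) ≫
        (cIso J A g).hom.app N = (cIso J A g).hom.app M ≫ (constantSheaf (J.over W) A).map h) :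
    (J.overPullback A W).map φ ≫ (resIso g β).hom =
      (resIso g α).hom ≫ (constantSheaf (J.over W) A).map h := by
  have nat := pushforwardOverMapIso_naturality φ g
  have nat' : (J.overPullback A W).map φ ≫ (F'.pushforwardOverMapIso g).inv =
      (F.pushforwardOverMapIso g).inv ≫
        (J.overMapPullback A g).map ((J.overPullback A V).map φ) := by
    rw [Iso.comp_inv_eq, Category.assoc, nat, Iso.inv_hom_id_assoc]
  have e : α.hom ≫ (α.inv ≫ (J.overPullback A V).map φ ≫ β.hom) =
      (J.overPullback A V).map φ ≫ β.hom := by simp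
  calc (J.overPullback A W).map φ ≫ (resIso g β).hom
      = ((J.overPullback A W).map φ ≫ (F'.pushforwardOverMapIso g).inv) ≫
          (J.overMapPullback A g).map β.hom ≫ (cIso J A g).hom.app N := by
        simp [resIso]
    _ = (resIso g α).hom ≫ (constantSheaf (J.over W) A).map h := by
        rw [nat', Category.assoc, ← Functor.map_comp_assoc, ← e, Functor.map_comp_assoc, hψ]
        simp [resIso]

/-- **Local structure of morphisms between constant restrictions.**  If `F`, `F'` are constant
on `Over V` and the induced morphism of constant sheaves is locally induced by morphisms of the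
value objects (`LocFac`), then there is a covering sieve of `V` on whose members `φ` is, up to
the (restricted) trivialisations, a map of constant sheaves. -/
theorem exists_sieve_of_locFac [HasZeroMorphisms A] {F F' : Sheaf J A} (φ : F ⟶ F') {V : C}
    {M N : A} (α : F.over V ≅ (constantSheaf (J.over V) A).obj M)
    (β : F'.over V ≅ (constantSheaf (J.over V) A).obj N)
    (hLF : LocFac (J.over V) (α.inv ≫ (J.overPullback A V).map φ ≫ β.hom)) :
    ∃ S ∈ J V, ∀ ⦃W : C⦄ (g : W ⟶ V), S g → ∃ h : M ⟶ N,
      (J.overPullback A W).map φ ≫ (resIso g β).hom =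
        (resIso g α).hom ≫ (constantSheaf (J.over W) A).map h := by
  obtain ⟨S, hS, H⟩ := hLF (Over.mk (𝟙 V))
  refine ⟨Sieve.overEquiv _ S, (GrothendieckTopology.mem_over_iff J S).1 hS, ?_⟩
  intro W g hg
  rw [Sieve.overEquiv_iff] at hg
  -- the object `(Over.map g).obj (Over.mk (𝟙 W))` of `Over V`
  let e : (Over.map g).obj (Over.mk (𝟙 W)) ⟶ Over.mk (g ≫ (Over.mk (𝟙 V)).hom) :=
    Over.homMk (𝟙 W) (by simp)
  have hg' := H _ (S.downward_closed hg e)
  rcases hg' with hbot | ⟨h, hfac⟩
  · have hW : ⊥ ∈ J W := by
      have h1 := (GrothendieckTopology.mem_over_iff J _).1 hbot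
      have h2 : Sieve.overEquiv ((Over.map g).obj (Over.mk (𝟙 W))) ⊥ = ⊥ :=
        (Sieve.overEquiv _).map_bot
      rw [h2] at h1
      exact h1
    exact ⟨0, sheaf_hom_eq_of_bot_mem (J.over W) (bot_mem_over J hW) _ _⟩
  · exact ⟨h, res_comm φ g α β h
      (pull_map_eq_of_fac (Over.map g) A (J.over W) (J.over V) Over.mkIdTerminal _ h hfac)⟩

end OverRes

end Groth.Agent.Lib.Seat29.ConstRes
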