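import Mathlib
import Groth.Agent.Lib.Seat29ConstRes

/-!
# Restriction of constant sheaves, II: units, kernels and cokernels (seat 29)
-/

set_option autoImplicit false

universe v₁ u₁ v u

open CategoryTheory CategoryTheory.Limits Opposite

namespace Groth.Agent.Lib.Seat29.ConstRes

section Units

variable {C : Type u₁} [Category.{v₁} C] {J : GrothendieckTopology C} {A : Type u} [Category.{v} A]
  [∀ X : C, HasWeakSheafify (J.over X) A]
  [∀ {X Y : C} (f : X ⟶ Y) (F : (Over X)ᵒᵖ ⥤ A), (Over.map f).op.HasPointwiseRightKanExtension F]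

/-- The canonical map `M ⟶ F(V)` attached to a trivialisation `F.over V ≅ const M`. -/
noncomputable def unitMap {F : Sheaf J A} {V : C} {M : A}
    (α : F.over V ≅ (constantSheaf (J.over V) A).obj M) : M ⟶ F.obj.obj (op V) :=
  (toSheafify (J.over V) ((Functor.const (Over V)ᵒᵖ).obj M)).app (op (Over.mk (𝟙 V))) ≫
    α.inv.hom.app (op (Over.mk (𝟙 V)))

/-- Compatibility of `resIso` with the canonical maps `M ⟶ F(V)`. -/
lemma unitMap_resIso {F : Sheaf J A} {W V : C} (g : W ⟶ V) {M : A}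
    (α : F.over V ≅ (constantSheaf (J.over V) A).obj M) :
    unitMap (resIso g α) = unitMap α ≫ F.obj.map g.op := by
  -- the morphism `(Over.map g).obj (Over.mk (𝟙 W)) ⟶ Over.mk (𝟙 V)` in `Over V`
  let e : (Over.map g).obj (Over.mk (𝟙 W)) ⟶ Over.mk (𝟙 V) := Over.homMk g (by simp)
  have h1 := toSheafify_constPullIso_inv (Over.map g) A (J.over W) (J.over V) M
    (op (Over.mk (𝟙 W)))
  have h2 := (toSheafify (J.over V) ((Functor.const (Over V)ᵒᵖ).obj M)).naturality e.op
  have h3 := α.inv.hom.naturality e.op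
  simp only [Functor.const_obj_obj, Functor.const_obj_map, Category.id_comp] at h2
  have h4 : (resIso g α).inv.hom.app (op (Over.mk (𝟙 W))) =
      ((cIso J A g).inv.app M).hom.app (op (Over.mk (𝟙 W))) ≫
        α.inv.hom.app (op ((Over.map g).obj (Over.mk (𝟙 W)))) := by
    simp [resIso, Sheaf.pushforwardOverMapIso]
    erw [Category.comp_id]
    rfl
  have h5 : (toSheafify (J.over W) ((Functor.const (Over W)ᵒᵖ).obj M)).app (op (Over.mk (𝟙 W))) ≫
      (resIso g α).inv.hom.app (op (Over.mk (𝟙 W))) =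
      (toSheafify (J.over V) ((Functor.const (Over V)ᵒᵖ).obj M)).app
        (op ((Over.map g).obj (Over.mk (𝟙 W)))) ≫
        α.inv.hom.app (op ((Over.map g).obj (Over.mk (𝟙 W)))) := by
    refine (congrArg (fun t => _ ≫ t) h4).trans ?_
    refine (Category.assoc _ _ _).symm.trans ?_
    exact congrArg (fun t => t ≫ α.inv.hom.app (op ((Over.map g).obj (Over.mk (𝟙 W))))) h1
  refine h5.trans ?_
  refine (congrArg (fun t => t ≫ α.inv.hom.app (op ((Over.map g).obj (Over.mk (𝟙 W))))) h2).trans ?_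
  refine (Category.assoc _ _ _).trans ?_
  refine (congrArg (fun t => (toSheafify (J.over V) ((Functor.const (Over V)ᵒᵖ).obj M)).app
    (op (Over.mk (𝟙 V))) ≫ t) h3).trans ?_
  exact (Category.assoc _ _ _).symm

end Units

section ConstHom

variable {C : Type u₁} [Category.{v₁} C] {J : GrothendieckTopology C} {A : Type u} [Category.{v} A]
  [∀ X : C, HasWeakSheafify (J.over X) A]

/-- The morphism `P ⟶ Q(id_W)` attached to a morphism `const_W P ⟶ Q` of sheaves on `Over W`. -/
noncomputable def secMap {W : C} {P : A} {Q : Sheaf (J.over W) A}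
    (ρ : (constantSheaf (J.over W) A).obj P ⟶ Q) : P ⟶ Q.obj.obj (op (Over.mk (𝟙 W))) :=
  (toSheafify (J.over W) ((Functor.const (Over W)ᵒᵖ).obj P)).app (op (Over.mk (𝟙 W))) ≫
    ρ.hom.app (op (Over.mk (𝟙 W)))

lemma secMap_injective {W : C} {P : A} {Q : Sheaf (J.over W) A}
    (ρ₁ ρ₂ : (constantSheaf (J.over W) A).obj P ⟶ Q) (h : secMap ρ₁ = secMap ρ₂) : ρ₁ = ρ₂ := by
  apply Sheaf.hom_ext
  apply sheafify_hom_ext (J.over W) _ _ Q.property
  apply const_hom_ext (Over.mkIdTerminal (X := W))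
  exact h

lemma secMap_comp {W : C} {P : A} {Q Q' : Sheaf (J.over W) A}
    (ρ : (constantSheaf (J.over W) A).obj P ⟶ Q) (f : Q ⟶ Q') :
    secMap (ρ ≫ f) = secMap ρ ≫ f.hom.app (op (Over.mk (𝟙 W))) :=
  (Category.assoc _ _ _).symm

lemma secMap_map_comp {W : C} {P P' : A} {Q : Sheaf (J.over W) A} (p : P ⟶ P')
    (ρ : (constantSheaf (J.over W) A).obj P' ⟶ Q) :
    secMap ((constantSheaf (J.over W) A).map p ≫ ρ) = p ≫ secMap ρ := by
  have e3 := congr_app (toSheafify_naturality (J.over W) ((Functor.const (Over W)ᵒᵖ).map p))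
    (op (Over.mk (𝟙 W)))
  simp only [NatTrans.comp_app, Functor.const_map_app] at e3
  refine (Category.assoc _ _ _).symm.trans ?_
  refine (congrArg (fun t => t ≫ ρ.hom.app (op (Over.mk (𝟙 W)))) e3.symm).trans ?_
  exact Category.assoc _ _ _

/-- The natural transformation from the constant presheaf attached to `P ⟶ Q(id_W)`. -/
noncomputable def constNat {W : C} {P : A} (Q : (Over W)ᵒᵖ ⥤ A)
    (s : P ⟶ Q.obj (op (Over.mk (𝟙 W)))) : (Functor.const (Over W)ᵒᵖ).obj P ⟶ Q where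
  app Y := s ≫ Q.map (Over.mkIdTerminal.from Y.unop).op
  naturality Y Z f := by
    dsimp
    rw [Category.id_comp, Category.assoc, ← Q.map_comp]
    congr 2
    apply Quiver.Hom.unop_inj
    exact Over.mkIdTerminal.hom_ext _ _

/-- The morphism `const_W P ⟶ Q` of sheaves on `Over W` attached to `P ⟶ Q(id_W)`. -/
noncomputable def constDesc {W : C} {P : A} (Q : Sheaf (J.over W) A)
    (s : P ⟶ Q.obj.obj (op (Over.mk (𝟙 W)))) : (constantSheaf (J.over W) A).obj P ⟶ Q :=
  ⟨sheafifyLift (J.over W) (constNat Q.obj s) Q.property⟩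

lemma secMap_constDesc {W : C} {P : A} (Q : Sheaf (J.over W) A)
    (s : P ⟶ Q.obj.obj (op (Over.mk (𝟙 W)))) : secMap (constDesc Q s) = s := by
  have h := congr_app (toSheafify_sheafifyLift (J.over W) (constNat Q.obj s) Q.property)
    (op (Over.mk (𝟙 W)))
  refine h.trans ?_
  simp [constNat]

end ConstHom

section SieveFac

variable {C : Type u₁} [Category.{v₁} C] {J : GrothendieckTopology C} {A : Type u} [Category.{v} A]
  [∀ X : C, HasWeakSheafify (J.over X) A]
  [∀ {X Y : C} (f : X ⟶ Y) (F : (Over X)ᵒᵖ ⥤ A), (Over.map f).op.HasPointwiseRightKanExtension F]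

/-- A `LocFac` morphism `ψ : const_V M ⟶ const_V N` restricts, on the members `g : W ⟶ V` of a
covering sieve of `V`, to a map of constant sheaves (unless `W` is covered by the empty sieve). -/
theorem exists_sieve_fac {V : C} {M N : A}
    (ψ : (constantSheaf (J.over V) A).obj M ⟶ (constantSheaf (J.over V) A).obj N)
    (hLF : LocFac (J.over V) ψ) :
    ∃ S ∈ J V, ∀ ⦃W : C⦄ (g : W ⟶ V), S g → (⊥ ∈ J W) ∨ ∃ h : M ⟶ N,
      (J.overMapPullback A g).map ψ ≫ (cIso J A g).hom.app N =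
        (cIso J A g).hom.app M ≫ (constantSheaf (J.over W) A).map h := by
  obtain ⟨S, hS, H⟩ := hLF (Over.mk (𝟙 V))
  refine ⟨Sieve.overEquiv _ S, (GrothendieckTopology.mem_over_iff J S).1 hS, ?_⟩
  intro W g hg
  rw [Sieve.overEquiv_iff] at hg
  let e : (Over.map g).obj (Over.mk (𝟙 W)) ⟶ Over.mk (g ≫ (Over.mk (𝟙 V)).hom) :=
    Over.homMk (𝟙 W) (by simp)
  have hg' := H _ (S.downward_closed hg e)
  rcases hg' with hbot | ⟨h, hfac⟩
  · left
    have h1 := (GrothendieckTopology.mem_over_iff J _).1 hbot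
    have h2 : Sieve.overEquiv ((Over.map g).obj (Over.mk (𝟙 W))) ⊥ = ⊥ :=
      (Sieve.overEquiv _).map_bot
    rw [h2] at h1
    exact h1
  · exact Or.inr ⟨h,
      pull_map_eq_of_fac (Over.map g) A (J.over W) (J.over V) Over.mkIdTerminal _ h hfac⟩

end SieveFac

section AbelianIso

variable {𝒜 : Type*} [Category 𝒜] [Abelian 𝒜] {ℬ : Type*} [Category ℬ] [Abelian ℬ]
  (Ψ : 𝒜 ⥤ ℬ) [Ψ.PreservesZeroMorphisms]

/-- kernels and commutative squares -/
noncomputable def kernelIsoOfSq {X Y : 𝒜} (f : X ⟶ Y) [PreservesLimit (parallelPair f 0) Ψ]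
    {X' Y' : ℬ} (f' : X' ⟶ Y') (a : Ψ.obj X ≅ X') (b : Ψ.obj Y ≅ Y')
    (sq : Ψ.map f ≫ b.hom = a.hom ≫ f') : Ψ.obj (kernel f) ≅ kernel f' :=
  PreservesKernel.iso Ψ f ≪≫ kernel.mapIso _ _ a b sq

/-- cokernels and commutative squares -/
noncomputable def cokernelIsoOfSq {X Y : 𝒜} (f : X ⟶ Y) [PreservesColimit (parallelPair f 0) Ψ]
    {X' Y' : ℬ} (f' : X' ⟶ Y') (a : Ψ.obj X ≅ X') (b : Ψ.obj Y ≅ Y')
    (sq : Ψ.map f ≫ b.hom = a.hom ≫ f') : Ψ.obj (cokernel f) ≅ cokernel f' :=
  PreservesCokernel.iso Ψ f ≪≫ cokernel.mapIso _ _ a b sq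

end AbelianIso

section BotIso

variable {C : Type u₁} [Category.{v₁} C] (J : GrothendieckTopology C) {A : Type u} [Category.{v} A]
  [HasZeroMorphisms A]

/-- If every object is covered by the empty sieve, any two sheaves are isomorphic. -/
lemma nonempty_iso_of_bot_mem (hJ : ∀ X : C, ⊥ ∈ J X) (P Q : Sheaf J A) : Nonempty (P ≅ Q) :=
  ⟨⟨⟨0⟩, ⟨0⟩, sheaf_hom_eq_of_bot_mem J hJ _ _, sheaf_hom_eq_of_bot_mem J hJ _ _⟩⟩

end BotIso

section Adjoint

variable {C : Type u₁} [Category.{v₁} C] {D : Type*} [Category D]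
  (G : C ⥤ D) (A : Type u) [Category.{v} A]
  (J : GrothendieckTopology C) (K : GrothendieckTopology D)
  [G.IsContinuous J K] [G.IsCocontinuous J K]
  [∀ (F : Cᵒᵖ ⥤ A), G.op.HasPointwiseRightKanExtension F]

/-- Restriction along a continuous and cocontinuous functor is a left adjoint. -/
lemma isLeftAdjoint_pushforwardContinuous : (G.sheafPushforwardContinuous A J K).IsLeftAdjoint :=
  ⟨_, ⟨G.sheafAdjunctionCocontinuous A J K⟩⟩

end Adjoint

section CK

variable {C : Type u₁} [Category.{v₁} C] {J : GrothendieckTopology C} {A : Type u} [Category.{v} A]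
  [Abelian A] [∀ X : C, HasSheafify (J.over X) A]
  [∀ {X Y : C} (f : X ⟶ Y) (F : (Over X)ᵒᵖ ⥤ A), (Over.map f).op.HasPointwiseRightKanExtension F]
  [∀ {W V : C} (g : W ⟶ V), PreservesFiniteColimits (J.overMapPullback A g)]

/-- The cokernel of a `LocFac` morphism of constant sheaves on `Over V` restricts to constant
sheaves on the members of a covering sieve of `V`. -/
theorem exists_sieve_cokernel {V : C} {R N : A}
    (ψ' : (constantSheaf (J.over V) A).obj R ⟶ (constantSheaf (J.over V) A).obj N)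
    (hLF : LocFac (J.over V) ψ') (P : Sheaf (J.over V) A) (e : P ≅ cokernel ψ') :
    ∃ S ∈ J V, ∀ ⦃W : C⦄ (g : W ⟶ V), S g → ∃ h : R ⟶ N,
      Nonempty ((J.overMapPullback A g).obj P ≅
        (constantSheaf (J.over W) A).obj (cokernel h)) := by
  obtain ⟨S, hS, H⟩ := exists_sieve_fac ψ' hLF
  refine ⟨S, hS, fun W g hg => ?_⟩
  rcases H g hg with hbot | ⟨h, hh⟩
  · exact ⟨0, nonempty_iso_of_bot_mem (J.over W) (bot_mem_over J hbot) _ _⟩
  · exact ⟨h, ⟨(J.overMapPullback A g).mapIso e ≪≫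
      cokernelIsoOfSq (J.overMapPullback A g) ψ' ((constantSheaf (J.over W) A).map h)
        ((cIso J A g).app R) ((cIso J A g).app N) hh ≪≫
      (PreservesCokernel.iso (constantSheaf (J.over W) A) h).symm⟩⟩

end CK

end Groth.Agent.Lib.Seat29.ConstRes
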