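import Mathlib
import Groth.Agent.Lib.Seat29ConstRes

/-!
# Morphisms between constant sheaves are locally induced by morphisms of values (seat 29)

On any site, a morphism `ψ : const M ⟶ const N` of constant sheaves of modules (resp. abelian
groups) with `M` finitely generated is locally induced by linear maps (resp. group homomorphisms)
`M ⟶ N`: `locFac_moduleCat`, `locFac_addCommGrpCat` (in the sense of `ConstRes.LocFac`).
-/

set_option autoImplicit false

universe w v₂ u₂ v u

open CategoryTheory CategoryTheory.Limits Opposite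

namespace Groth.Agent.Lib.Seat29.LocFac

open Groth.Agent.Lib.Seat29.ConstRes

section Generic

variable {D : Type u₂} [Category.{v₂} D] (K : GrothendieckTopology D)

lemma finset_inf_mem {X : D} {ι : Type*} (s : Finset ι) (S : ι → Sieve X)
    (hS : ∀ i ∈ s, S i ∈ K X) : s.inf S ∈ K X :=
  Finset.inf_induction (K.top_mem X) (fun _ ha _ hb => K.intersection_covering ha hb) hS

variable {A : Type u} [Category.{v} A] {FA : A → A → Type*} {CA : A → Type w}
  [∀ X Y, FunLike (FA X Y) (CA X) (CA Y)] [ConcreteCategory.{w} A FA]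
  [HasWeakSheafify K A] [K.WEqualsLocallyBijective A]

/-- The canonical map `N ⟶ (const N)(W)` is injective if `W` is not covered by the empty
sieve. -/
lemma toSheafify_const_injective (N : A) {W : D} (hW : ⊥ ∉ K W) :
    Function.Injective ((toSheafify K ((Functor.const Dᵒᵖ).obj N)).app (op W)) := by
  intro n n' h
  have hmem := Presheaf.equalizerSieve_mem K (toSheafify K ((Functor.const Dᵒᵖ).obj N))
    (X := op W) n n' h
  by_contra hne
  apply hW
  convert hmem using 1
  ext Y f
  simp only [Sieve.bot_apply, Presheaf.equalizerSieve_apply, Functor.const_obj_obj,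
    Functor.const_obj_map, ConcreteCategory.id_apply, false_iff]
  exact hne

/-- Finitely many sections of a constant sheaf are simultaneously locally constant. -/
lemma exists_sieve_const (N : A) {W : D} {ι : Type*} (s : Finset ι)
    (t : ι → ToType ((sheafify K ((Functor.const Dᵒᵖ).obj N)).obj (op W))) :
    ∃ S ∈ K W, ∀ ⦃W' : D⦄ (g : W' ⟶ W), S g → ∀ i ∈ s, ∃ n : ToType N,
      (toSheafify K ((Functor.const Dᵒᵖ).obj N)).app (op W') n =
        (sheafify K ((Functor.const Dᵒᵖ).obj N)).map g.op (t i) := by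
  refine ⟨s.inf (fun i => Presheaf.imageSieve (toSheafify K ((Functor.const Dᵒᵖ).obj N)) (t i)),
    finset_inf_mem K s _ (fun i _ => Presheaf.imageSieve_mem K _ (U := op W) (t i)), ?_⟩
  intro W' g hg i hi
  have hle : s.inf (fun i => Presheaf.imageSieve
      (toSheafify K ((Functor.const Dᵒᵖ).obj N)) (t i)) ≤ _ := Finset.inf_le hi
  exact hle _ hg

omit [K.WEqualsLocallyBijective A] in
/-- Naturality: the restriction of the section `ψ(η m)` is `ψ(η m)`. -/
lemma map_toSheafify_const {M N : A}
    (ψ : (constantSheaf K A).obj M ⟶ (constantSheaf K A).obj N) {W W' : D} (g : W' ⟶ W)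
    (m : ToType M) :
    (sheafify K ((Functor.const Dᵒᵖ).obj N)).map g.op
      (ψ.hom.app (op W) ((toSheafify K ((Functor.const Dᵒᵖ).obj M)).app (op W) m)) =
    ψ.hom.app (op W') ((toSheafify K ((Functor.const Dᵒᵖ).obj M)).app (op W') m) := by
  have h1 := NatTrans.naturality_apply ψ.hom g.op
    ((toSheafify K ((Functor.const Dᵒᵖ).obj M)).app (op W) m)
  have h2 := NatTrans.naturality_apply (toSheafify K ((Functor.const Dᵒᵖ).obj M)) g.op m
  simp only [Functor.const_obj_obj, Functor.const_obj_map, ConcreteCategory.id_apply] at h2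
  erw [← h1, ← h2]

end Generic

section Mod

variable {D : Type u₂} [Category.{v₂} D] (K : GrothendieckTopology D)
  {Λ : Type u} [Ring Λ]
  [HasWeakSheafify K (ModuleCat.{w} Λ)] [K.WEqualsLocallyBijective (ModuleCat.{w} Λ)]

/-- A linear map whose values on a generating set lie in the range of an injective linear map
factors through it. -/
lemma exists_fac_of_span {M N Q : ModuleCat.{w} Λ} (f : M ⟶ Q) (e : N ⟶ Q)
    (he : Function.Injective e) (s : Set M) (hs : Submodule.span Λ s = ⊤)
    (hf : ∀ m ∈ s, ∃ n : N, e n = f m) : ∃ h : M ⟶ N, h ≫ e = f := by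
  have hle : LinearMap.range f.hom ≤ LinearMap.range e.hom := by
    rw [LinearMap.range_eq_map, ← hs, Submodule.map_span, Submodule.span_le]
    rintro _ ⟨m, hm, rfl⟩
    obtain ⟨n, hn⟩ := hf m hm
    exact ⟨n, hn⟩
  refine ⟨ModuleCat.ofHom ((LinearEquiv.ofInjective e.hom he).symm.toLinearMap ∘ₗ
    (f.hom.codRestrict (LinearMap.range e.hom) (fun m => hle ⟨m, rfl⟩))), ?_⟩
  ext m
  simp only [ModuleCat.hom_comp, ModuleCat.hom_ofHom, LinearMap.coe_comp, LinearEquiv.coe_coe,
    Function.comp_apply]
  have := (LinearEquiv.ofInjective e.hom he).apply_symm_apply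
    (f.hom.codRestrict (LinearMap.range e.hom) (fun m => hle ⟨m, rfl⟩) m)
  exact congrArg Subtype.val this

/-- **Morphisms between constant sheaves of modules with finitely generated source are locally
induced by linear maps.** -/
theorem locFac_moduleCat {M N : ModuleCat.{w} Λ} [Module.Finite Λ M]
    (ψ : (constantSheaf K (ModuleCat.{w} Λ)).obj M ⟶ (constantSheaf K (ModuleCat.{w} Λ)).obj N) :
    LocFac K ψ := by
  intro W
  obtain ⟨s, hs⟩ := (Module.finite_def (R := Λ) (M := M)).1 inferInstance
  obtain ⟨S, hS, H⟩ := exists_sieve_const K N s (fun m : M =>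
    ψ.hom.app (op W) ((toSheafify K ((Functor.const Dᵒᵖ).obj M)).app (op W) m))
  refine ⟨S, hS, fun W' g hg => ?_⟩
  by_cases hW' : ⊥ ∈ K W'
  · exact Or.inl hW'
  · refine Or.inr ?_
    suffices hh : ∃ h : M ⟶ N, h ≫ (toSheafify K ((Functor.const Dᵒᵖ).obj N)).app (op W') =
        (toSheafify K ((Functor.const Dᵒᵖ).obj M)).app (op W') ≫ ψ.hom.app (op W') by
      obtain ⟨h, hh⟩ := hh
      exact ⟨h, hh.symm⟩
    refine exists_fac_of_span
      ((toSheafify K ((Functor.const Dᵒᵖ).obj M)).app (op W') ≫ ψ.hom.app (op W'))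
      ((toSheafify K ((Functor.const Dᵒᵖ).obj N)).app (op W'))
      (toSheafify_const_injective K N hW') (s : Set M) hs ?_
    intro m hm
    obtain ⟨n, hn⟩ := H g hg m hm
    refine ⟨n, hn.trans ?_⟩
    exact map_toSheafify_const K ψ g m

end Mod

section Ab

variable {D : Type u₂} [Category.{v₂} D] (K : GrothendieckTopology D)
  [HasWeakSheafify K AddCommGrpCat.{w}] [K.WEqualsLocallyBijective AddCommGrpCat.{w}]

/-- A homomorphism whose values on a generating set lie in the range of an injective
homomorphism factors through it. -/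
lemma exists_fac_of_closure {M N Q : AddCommGrpCat.{w}} (f : M ⟶ Q) (e : N ⟶ Q)
    (he : Function.Injective e) (s : Set M) (hs : AddSubgroup.closure s = ⊤)
    (hf : ∀ m ∈ s, ∃ n : N, e n = f m) : ∃ h : M ⟶ N, h ≫ e = f := by
  have hle : AddMonoidHom.range f.hom ≤ AddMonoidHom.range e.hom := by
    rw [AddMonoidHom.range_eq_map, ← hs, AddMonoidHom.map_closure, AddSubgroup.closure_le]
    rintro _ ⟨m, hm, rfl⟩
    obtain ⟨n, hn⟩ := hf m hm
    exact ⟨n, hn⟩
  refine ⟨AddCommGrpCat.ofHom ((AddMonoidHom.ofInjective (f := e.hom) he).symm.toAddMonoidHom.comp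
    (f.hom.codRestrict (AddMonoidHom.range e.hom) (fun m => hle ⟨m, rfl⟩))), ?_⟩
  ext m
  simp only [AddCommGrpCat.hom_comp, AddCommGrpCat.hom_ofHom, AddMonoidHom.coe_comp,
    Function.comp_apply]
  have := (AddMonoidHom.ofInjective (f := e.hom) he).apply_symm_apply
    (f.hom.codRestrict (AddMonoidHom.range e.hom) (fun m => hle ⟨m, rfl⟩) m)
  exact congrArg Subtype.val this

/-- **Morphisms between constant sheaves of abelian groups with finitely generated source are
locally induced by group homomorphisms.** -/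
theorem locFac_addCommGrpCat {M N : AddCommGrpCat.{w}} [AddGroup.FG M]
    (ψ : (constantSheaf K AddCommGrpCat.{w}).obj M ⟶ (constantSheaf K AddCommGrpCat.{w}).obj N) :
    LocFac K ψ := by
  intro W
  obtain ⟨s, hs⟩ := (AddGroup.fg_def (H := M)).1 inferInstance
  obtain ⟨S, hS, H⟩ := exists_sieve_const K N s (fun m : M =>
    ψ.hom.app (op W) ((toSheafify K ((Functor.const Dᵒᵖ).obj M)).app (op W) m))
  refine ⟨S, hS, fun W' g hg => ?_⟩
  by_cases hW' : ⊥ ∈ K W'
  · exact Or.inl hW'
  · refine Or.inr ?_
    suffices hh : ∃ h : M ⟶ N, h ≫ (toSheafify K ((Functor.const Dᵒᵖ).obj N)).app (op W') =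
        (toSheafify K ((Functor.const Dᵒᵖ).obj M)).app (op W') ≫ ψ.hom.app (op W') by
      obtain ⟨h, hh⟩ := hh
      exact ⟨h, hh.symm⟩
    refine exists_fac_of_closure
      ((toSheafify K ((Functor.const Dᵒᵖ).obj M)).app (op W') ≫ ψ.hom.app (op W'))
      ((toSheafify K ((Functor.const Dᵒᵖ).obj N)).app (op W'))
      (toSheafify_const_injective K N hW') (s : Set M) hs ?_
    intro m hm
    obtain ⟨n, hn⟩ := H g hg m hm
    refine ⟨n, hn.trans ?_⟩
    exact map_toSheafify_const K ψ g m

end Ab

end Groth.Agent.Lib.Seat29.LocFac
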