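import Mathlib
import Groth.Prelude.Def_EtBase
import Groth.Prelude.Def_EtRestW
import Groth.Prelude.Def_EtMod2
import Groth.Agent.Lib.Seat29ConstRes
import Groth.Agent.Lib.Seat29LocFac

/-!
# Locally constant sheaves on the small étale site: covers and local structure of morphisms
(seat 29)
-/

set_option autoImplicit false

universe u

open CategoryTheory CategoryTheory.Limits AlgebraicGeometry Opposite

namespace Groth.Agent.Lib.Seat29.EtLocConst

open Groth.Agent.Lib.Seat29.ConstRes

variable {X : Scheme.{u}}

/-- A property holding on an étale neighbourhood of every point holds on the members of an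
étale covering. -/
lemma exists_cover_of_forall (P : X.Etale → Prop)
    (h : ∀ x : X, ∃ (W : X.Etale) (w : W.left), W.hom.base w = x ∧ P W) :
    ∃ (ι : Type u) (U : ι → X.Etale), EtCoh.Covers U ∧ ∀ i, P (U i) := by
  choose W w hw hP using h
  exact ⟨X, W, fun x => ⟨x, w x, hw x⟩, hP⟩

lemma forall_of_cover (P : X.Etale → Prop)
    (h : ∃ (ι : Type u) (U : ι → X.Etale), EtCoh.Covers U ∧ ∀ i, P (U i)) :
    ∀ x : X, ∃ (W : X.Etale) (w : W.left), W.hom.base w = x ∧ P W := by
  obtain ⟨ι, U, hU, hP⟩ := h
  intro x
  obtain ⟨i, y, hy⟩ := hU x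
  exact ⟨U i, y, hy, hP i⟩

set_option backward.isDefEq.respectTransparency.types false in
/-- A covering sieve of `W` has a member through every point of `W`. -/
lemma exists_mem_sieve {W : X.Etale} {S : Sieve W} (hS : S ∈ X.smallEtaleTopology W)
    (w : W.left) :
    ∃ (W' : X.Etale) (g : W' ⟶ W) (w' : W'.left), S g ∧ g.left.base w' = w := by
  have eX : X.smallEtaleTopology =
      (X.smallPretopology (P := EtCoh.etaleMP) (Q := EtCoh.etaleMP)).toGrothendieck :=
    Scheme.smallGrothendieckTopology_eq_toGrothendieck_smallPretopology X le_rfl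
  rw [eX] at hS
  obtain ⟨V, g, v, hg, -, hv⟩ := (Scheme.mem_toGrothendieck_smallPretopology W S).1 hS w
  exact ⟨V, g, v, hg, hv⟩

/-- fibre product of two étale `X`-schemes as an étale `X`-scheme -/
noncomputable def prodEt (U V : X.Etale) : X.Etale :=
  Scheme.Etale.mk (pullback.fst U.hom V.hom ≫ U.hom)

/-- first projection -/
noncomputable def prodEtFst (U V : X.Etale) : prodEt U V ⟶ U :=
  MorphismProperty.Over.homMk (pullback.fst U.hom V.hom) rfl

/-- second projection -/
noncomputable def prodEtSnd (U V : X.Etale) : prodEt U V ⟶ V :=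
  MorphismProperty.Over.homMk (pullback.snd U.hom V.hom) pullback.condition.symm

/-- Two étale neighbourhoods of a point have a common refinement. -/
lemma exists_common {U V : X.Etale} (a : U.left) (b : V.left)
    (h : U.hom.base a = V.hom.base b) :
    ∃ (W : X.Etale) (p : W ⟶ U) (q : W ⟶ V) (w : W.left),
      p.left.base w = a ∧ q.left.base w = b := by
  obtain ⟨w, hw1, hw2⟩ := Scheme.Pullback.exists_preimage_pullback (f := U.hom) (g := V.hom) a b h
  exact ⟨prodEt U V, prodEtFst U V, prodEtSnd U V, w, hw1, hw2⟩

lemma hom_base_comp {W' W : X.Etale} (g : W' ⟶ W) (w' : W'.left) :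
    W.hom.base (g.left.base w') = W'.hom.base w' := by
  have h : g.left ≫ W.hom = W'.hom := Over.w g.hom
  have h2 := congrArg (fun f => f.base w') h
  exact h2

section Main

variable (A : Type (u + 2)) [Category.{u + 1} A] [HasZeroMorphisms A]
  [∀ V : X.Etale, HasWeakSheafify (X.smallEtaleTopology.over V) A]
  [∀ {V W : X.Etale} (f : V ⟶ W) (F : (Over V)ᵒᵖ ⥤ A),
    (Over.map f).op.HasPointwiseRightKanExtension F]

variable {A}

/-- **Local structure of a morphism between sheaves which are constant near a point.**
If `F` is constant (value `M`) on an étale neighbourhood `U` of `x`, `G` is constant (value `N`)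
on an étale neighbourhood `V` of `x`, and morphisms `const M ⟶ const N` are locally induced by
morphisms `M ⟶ N`, then on some étale neighbourhood `W` of `x` the morphism `φ : F ⟶ G` is,
up to trivialisations, the map of constant sheaves induced by some `h : M ⟶ N`. -/
theorem exists_nbhd_hom {M N : A}
    (hLF : ∀ (W : X.Etale) (ψ : (constantSheaf (X.smallEtaleTopology.over W) A).obj M ⟶
      (constantSheaf (X.smallEtaleTopology.over W) A).obj N),
      LocFac (X.smallEtaleTopology.over W) ψ)
    {F G : Sheaf X.smallEtaleTopology A} (φ : F ⟶ G) {U V : X.Etale} (a : U.left) (b : V.left)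
    (hab : U.hom.base a = V.hom.base b)
    (α₀ : F.over U ≅ (constantSheaf (X.smallEtaleTopology.over U) A).obj M)
    (β₀ : G.over V ≅ (constantSheaf (X.smallEtaleTopology.over V) A).obj N) :
    ∃ (W : X.Etale) (w : W.left) (h : M ⟶ N)
      (α : F.over W ≅ (constantSheaf (X.smallEtaleTopology.over W) A).obj M)
      (β : G.over W ≅ (constantSheaf (X.smallEtaleTopology.over W) A).obj N),
      W.hom.base w = U.hom.base a ∧
      (X.smallEtaleTopology.overPullback A W).map φ ≫ β.hom =
        α.hom ≫ (constantSheaf (X.smallEtaleTopology.over W) A).map h := by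
  obtain ⟨W, p, q, w, hp, hq⟩ := exists_common a b hab
  obtain ⟨S, hS, H⟩ := exists_sieve_of_locFac φ (resIso p α₀) (resIso q β₀) (hLF W _)
  obtain ⟨W', g, w', hg, hw'⟩ := exists_mem_sieve hS w
  obtain ⟨h, hh⟩ := H g hg
  refine ⟨W', w', h, resIso g (resIso p α₀), resIso g (resIso q β₀), ?_, hh⟩
  rw [← hom_base_comp g w', hw', ← hom_base_comp p w, hp]

end Main

end Groth.Agent.Lib.Seat29.EtLocConst
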