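import Mathlib

/-!
# A presentation of the middle term of a short exact sequence (seat 29)

In an abelian category, given a short exact sequence `0 ⟶ X₁ ⟶ X₂ ⟶ X₃ ⟶ 0` and a morphism
`σ : Q ⟶ X₂` whose composite `Q ⟶ X₃` is an epimorphism, the middle term `X₂` is the cokernel of
a morphism `kernel (Q ⟶ X₃) ⟶ X₁ ⊞ Q`.
-/

set_option autoImplicit false

universe v u

open CategoryTheory CategoryTheory.Limits

namespace Groth.Agent.Lib.Seat29.ExtPres

variable {𝒜 : Type u} [Category.{v} 𝒜] [Abelian 𝒜]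

section

variable (S : ShortComplex 𝒜) (hS : S.ShortExact) {Q : 𝒜} (σ : Q ⟶ S.X₂)

/-- the map `X₁ ⊞ Q ⟶ X₂` -/
noncomputable abbrev Φ : S.X₁ ⊞ Q ⟶ S.X₂ := biprod.desc S.f σ

include hS in
lemma epi_Φ [Epi (σ ≫ S.g)] : Epi (Φ S σ) := by
  rw [epi_iff_surjective_up_to_refinements]
  intro A₀ y
  obtain ⟨A₁, π₁, _, z, hz⟩ := surjective_up_to_refinements_of_epi (σ ≫ S.g) (y ≫ S.g)
  obtain ⟨A₂, π₂, _, y', hy'⟩ := hS.exact.exact_up_to_refinements (π₁ ≫ y - z ≫ σ) (by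
    rw [Preadditive.sub_comp, Category.assoc, Category.assoc, hz, sub_self])
  refine ⟨A₂, π₂ ≫ π₁, inferInstance, biprod.lift y' (π₂ ≫ z), ?_⟩
  rw [biprod.lift_desc, ← hy', Preadditive.comp_sub, Category.assoc, Category.assoc]
  abel

lemma kernel_ι_add :
    kernel.ι (Φ S σ) ≫ biprod.fst ≫ S.f + kernel.ι (Φ S σ) ≫ biprod.snd ≫ σ = 0 := by
  have h0 : kernel.ι (Φ S σ) ≫ Φ S σ = 0 := kernel.condition _
  have h1 : Φ S σ = biprod.fst ≫ S.f + biprod.snd ≫ σ := biprod.desc_eq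
  rw [← Preadditive.comp_add, ← h1, h0]

lemma kernel_ι_Φ_snd : kernel.ι (Φ S σ) ≫ biprod.snd ≫ σ ≫ S.g = 0 := by
  have h0 := kernel_ι_add S σ
  have h2 := congrArg (fun t => t ≫ S.g) h0
  simp only [Preadditive.add_comp, Category.assoc, S.zero, comp_zero, zero_add, zero_comp] at h2
  exact h2

/-- comparison of kernels -/
noncomputable def θ : kernel (Φ S σ) ⟶ kernel (σ ≫ S.g) :=
  kernel.lift _ (kernel.ι (Φ S σ) ≫ biprod.snd) (by
    rw [Category.assoc]; exact kernel_ι_Φ_snd S σ)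

@[reassoc (attr := simp)]
lemma θ_ι : θ S σ ≫ kernel.ι (σ ≫ S.g) = kernel.ι (Φ S σ) ≫ biprod.snd :=
  kernel.lift_ι _ _ _

include hS in
lemma mono_θ : Mono (θ S σ) := by
  have := hS.mono_f
  rw [Preadditive.mono_iff_cancel_zero]
  intro T x hx
  have h1 : x ≫ kernel.ι (Φ S σ) ≫ biprod.snd = 0 := by
    rw [← θ_ι, reassoc_of% hx, zero_comp]
  have h0 := kernel_ι_add S σ
  have h2 : x ≫ kernel.ι (Φ S σ) ≫ biprod.fst = 0 := by
    rw [← cancel_mono S.f, zero_comp]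
    have h3 := congrArg (fun t => x ≫ t) h0
    simp only [Preadditive.comp_add, comp_zero] at h3
    have h4 : x ≫ kernel.ι (Φ S σ) ≫ biprod.snd ≫ σ = 0 := by
      rw [← Category.assoc (kernel.ι _), ← Category.assoc x, h1, zero_comp]
    rw [h4, add_zero] at h3
    simpa using h3
  rw [← cancel_mono (kernel.ι (Φ S σ)), zero_comp]
  apply biprod.hom_ext
  · simpa using h2
  · simpa using h1

include hS in
lemma epi_θ : Epi (θ S σ) := by
  rw [epi_iff_surjective_up_to_refinements]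
  intro A₀ z
  obtain ⟨A₁, π₁, _, y', hy'⟩ := hS.exact.exact_up_to_refinements
    (z ≫ kernel.ι (σ ≫ S.g) ≫ σ) (by
      rw [Category.assoc, Category.assoc, kernel.condition, comp_zero])
  refine ⟨A₁, π₁, inferInstance,
    kernel.lift _ (biprod.lift (-y') (π₁ ≫ z ≫ kernel.ι (σ ≫ S.g))) ?_, ?_⟩
  · rw [biprod.lift_desc, Preadditive.neg_comp, ← hy']
    simp
  · rw [← cancel_mono (kernel.ι (σ ≫ S.g))]
    simp

include hS in
/-- **Presentation of the middle term.** -/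
theorem exists_presentation [Epi (σ ≫ S.g)] :
    ∃ ψ : kernel (σ ≫ S.g) ⟶ S.X₁ ⊞ Q, Nonempty (cokernel ψ ≅ S.X₂) := by
  have := mono_θ S hS σ
  have := epi_θ S hS σ
  have : IsIso (θ S σ) := isIso_of_mono_of_epi _
  have := epi_Φ S hS σ
  refine ⟨inv (θ S σ) ≫ kernel.ι (Φ S σ), ⟨cokernelEpiComp _ _ ≪≫ ?_⟩⟩
  exact IsColimit.coconePointUniqueUpToIso (colimit.isColimit _)
    (Abelian.epiIsCokernelOfKernel _ (kernelIsKernel (Φ S σ)))

end

end Groth.Agent.Lib.Seat29.ExtPres
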