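import Mathlib
import Groth.Agent.Lib.Seat29LocFac

/-!
# Local lifting of morphisms from free objects along locally surjective maps (seat 29)
-/

set_option autoImplicit false

universe w v₁ u₁ v u

open CategoryTheory CategoryTheory.Limits Opposite

namespace Groth.Agent.Lib.Seat29.Lift

open Groth.Agent.Lib.Seat29.LocFac

variable {C : Type u₁} [Category.{v₁} C] (J : GrothendieckTopology C)
  {A : Type u} [Category.{v} A] {FA : A → A → Type*} {CA : A → Type w}
  [∀ X Y, FunLike (FA X Y) (CA X) (CA Y)] [ConcreteCategory.{w} A FA]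
  {L : Type w ⥤ A} (adj : L ⊣ forget A)

include adj in
/-- A morphism from a free object on a finite set into the sections of the target of a locally
surjective morphism of presheaves lifts on the members of a covering sieve. -/
theorem exists_sieve_lift {F G : Cᵒᵖ ⥤ A} (π : F ⟶ G) [Presheaf.IsLocallySurjective J π]
    (T : Type w) [Finite T] {W₀ : C} (τ : L.obj T ⟶ G.obj (op W₀)) :
    ∃ S ∈ J W₀, ∀ ⦃W₁ : C⦄ (g : W₁ ⟶ W₀), S g →
      ∃ σ : L.obj T ⟶ F.obj (op W₁), σ ≫ π.app (op W₁) = τ ≫ G.map g.op := by
  classical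
  have := Fintype.ofFinite T
  let t : T → ToType (G.obj (op W₀)) := fun s => adj.homEquiv T (G.obj (op W₀)) τ s
  refine ⟨Finset.univ.inf (fun s => Presheaf.imageSieve π (t s)),
    finset_inf_mem J _ _ (fun s _ => Presheaf.imageSieve_mem J π (U := op W₀) (t s)), ?_⟩
  intro W₁ g hg
  have H : ∀ s : T, ∃ y : ToType (F.obj (op W₁)), π.app _ y = G.map g.op (t s) := by
    intro s
    have hle : Finset.univ.inf (fun s => Presheaf.imageSieve π (t s)) ≤ _ :=
      Finset.inf_le (Finset.mem_univ s)
    exact hle _ hg
  choose y hy using H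
  refine ⟨(adj.homEquiv T (F.obj (op W₁))).symm (TypeCat.ofHom y), ?_⟩
  apply (adj.homEquiv T (G.obj (op W₁))).injective
  rw [Adjunction.homEquiv_naturality_right, Adjunction.homEquiv_naturality_right,
    Equiv.apply_symm_apply]
  ext s
  exact hy s

end Groth.Agent.Lib.Seat29.Lift
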