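import Mathlib
import Groth.Agent.Lib.Seat29EtLocConst
import Groth.Agent.Lib.Seat29ConstRes2
import Groth.Agent.Lib.Seat29Lift
import Groth.Agent.Lib.Seat29ExtPres

/-!
# Kernels, cokernels and extensions of locally constant étale sheaves (seat 29)

Generic (in the coefficient category `A`) local statements on the small étale site.
-/

set_option autoImplicit false

universe u

open CategoryTheory CategoryTheory.Limits AlgebraicGeometry Opposite

namespace Groth.Agent.Lib.Seat29.EtExt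

open Groth.Agent.Lib.Seat29.ConstRes Groth.Agent.Lib.Seat29.EtLocConst

variable {X : Scheme.{u}} {A : Type (u + 2)} [Category.{u + 1} A] [Abelian A]
  [HasSheafify X.smallEtaleTopology A]
  [∀ V : X.Etale, HasSheafify (X.smallEtaleTopology.over V) A]

section KerCoker

variable
  [∀ W : X.Etale, PreservesFiniteLimits (X.smallEtaleTopology.overPullback A W)]
  [∀ W : X.Etale, PreservesFiniteColimits (X.smallEtaleTopology.overPullback A W)]
  [∀ W : X.Etale, PreservesFiniteLimits (constantSheaf (X.smallEtaleTopology.over W) A)]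

/-- If `φ` is, over `W`, the map of constant sheaves induced by `h`, then the kernel and the
cokernel of `φ` are constant over `W` with values the kernel and cokernel of `h`. -/
theorem nonempty_ker_coker_iso {F G : Sheaf X.smallEtaleTopology A} (φ : F ⟶ G) {W : X.Etale}
    {M N : A} (h : M ⟶ N)
    (α : F.over W ≅ (constantSheaf (X.smallEtaleTopology.over W) A).obj M)
    (β : G.over W ≅ (constantSheaf (X.smallEtaleTopology.over W) A).obj N)
    (sq : (X.smallEtaleTopology.overPullback A W).map φ ≫ β.hom =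
      α.hom ≫ (constantSheaf (X.smallEtaleTopology.over W) A).map h) :
    Nonempty ((kernel φ).over W ≅
      (constantSheaf (X.smallEtaleTopology.over W) A).obj (kernel h)) ∧
    Nonempty ((cokernel φ).over W ≅
      (constantSheaf (X.smallEtaleTopology.over W) A).obj (cokernel h)) :=
  ⟨⟨kernelIsoOfSq (X.smallEtaleTopology.overPullback A W) φ _ α β sq ≪≫
      (PreservesKernel.iso (constantSheaf (X.smallEtaleTopology.over W) A) h).symm⟩,
    ⟨cokernelIsoOfSq (X.smallEtaleTopology.overPullback A W) φ _ α β sq ≪≫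
      (PreservesCokernel.iso (constantSheaf (X.smallEtaleTopology.over W) A) h).symm⟩⟩

end KerCoker

section Ext

variable {FA : A → A → Type*} {CA : A → Type (u + 1)}
  [∀ X Y, FunLike (FA X Y) (CA X) (CA Y)] [ConcreteCategory.{u + 1} A FA]
  [∀ {V W : X.Etale} (f : V ⟶ W) (F : (Over V)ᵒᵖ ⥤ A),
    (Over.map f).op.HasPointwiseRightKanExtension F]
  [∀ {W V : X.Etale} (g : W ⟶ V),
    PreservesFiniteColimits (X.smallEtaleTopology.overMapPullback A g)]
  [∀ W : X.Etale, PreservesFiniteLimits (X.smallEtaleTopology.overPullback A W)]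
  [∀ W : X.Etale, PreservesFiniteColimits (X.smallEtaleTopology.overPullback A W)]
  [∀ W : X.Etale, PreservesFiniteLimits (constantSheaf (X.smallEtaleTopology.over W) A)]
  [∀ W : X.Etale, (constantSheaf (X.smallEtaleTopology.over W) A).PreservesEpimorphisms]
  {L : Type (u + 1) ⥤ A} (adj : L ⊣ forget A)

include adj in
/-- **Extensions of sheaves which are constant near a point are constant near that point.** -/
theorem exists_nbhd_ext
    (hepi : ∀ {F G : Sheaf X.smallEtaleTopology A} (π : F ⟶ G), Epi π →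
      Presheaf.IsLocallySurjective X.smallEtaleTopology π.hom)
    (S : ShortComplex (Sheaf X.smallEtaleTopology A)) (hS : S.ShortExact)
    {W₀ : X.Etale} (w₀ : W₀.left) {M' M'' : A}
    (α' : S.X₁.over W₀ ≅ (constantSheaf (X.smallEtaleTopology.over W₀) A).obj M')
    (α'' : S.X₃.over W₀ ≅ (constantSheaf (X.smallEtaleTopology.over W₀) A).obj M'')
    (T : Type (u + 1)) [Finite T] (p : L.obj T ⟶ M'') [Epi p]
    (hLF : ∀ (W : X.Etale) (ψ : (constantSheaf (X.smallEtaleTopology.over W) A).obj (kernel p) ⟶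
      (constantSheaf (X.smallEtaleTopology.over W) A).obj (M' ⊞ L.obj T)),
      LocFac (X.smallEtaleTopology.over W) ψ) :
    ∃ (W : X.Etale) (w : W.left) (h : kernel p ⟶ M' ⊞ L.obj T),
      W.hom.base w = W₀.hom.base w₀ ∧
      Nonempty (S.X₂.over W ≅
        (constantSheaf (X.smallEtaleTopology.over W) A).obj (cokernel h)) := by
  -- Step 1: lift
  have hls : Presheaf.IsLocallySurjective X.smallEtaleTopology S.g.hom := hepi S.g hS.epi_g
  obtain ⟨𝒮₁, h𝒮₁, H₁⟩ := Groth.Agent.Lib.Seat29.Lift.exists_sieve_lift X.smallEtaleTopology adj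
    S.g.hom T (p ≫ unitMap α'')
  obtain ⟨W₁, g₁, w₁, hg₁, hw₁⟩ := exists_mem_sieve h𝒮₁ w₀
  obtain ⟨σ₀, hσ₀⟩ := H₁ g₁ hg₁
  -- Step 2: the morphism `σ` and the restricted short exact sequence
  let σ : (constantSheaf (X.smallEtaleTopology.over W₁) A).obj (L.obj T) ⟶ S.X₂.over W₁ :=
    constDesc (S.X₂.over W₁) σ₀
  let S₁ : ShortComplex (Sheaf (X.smallEtaleTopology.over W₁) A) :=
    S.map (X.smallEtaleTopology.overPullback A W₁)
  have hS₁ : S₁.ShortExact := hS.map_of_exact _
  have key : σ ≫ S₁.g = (constantSheaf (X.smallEtaleTopology.over W₁) A).map p ≫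
      (resIso g₁ α'').inv := by
    apply secMap_injective
    refine (secMap_comp σ S₁.g).trans ?_
    refine Eq.trans ?_ (secMap_map_comp p (resIso g₁ α'').inv).symm
    refine (congrArg (fun t => t ≫ S₁.g.hom.app (op (Over.mk (𝟙 W₁))))
      (secMap_constDesc (S.X₂.over W₁) σ₀)).trans ?_
    exact hσ₀.trans ((Category.assoc _ _ _).trans
      (congrArg (fun t => p ≫ t) (unitMap_resIso g₁ α'').symm))
  have hepi' : Epi (σ ≫ S₁.g) := by
    rw [key]
    have h1 : Epi ((constantSheaf (X.smallEtaleTopology.over W₁) A).map p) :=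
      Functor.map_epi _ p
    have h2 : IsIso (resIso g₁ α'').inv := Iso.isIso_inv _
    have h3 : Epi (resIso g₁ α'').inv := IsIso.epi_of_iso _
    exact epi_comp' h1 h3
  -- Step 3: presentation
  obtain ⟨ψ, ⟨eψ⟩⟩ :=
    @Groth.Agent.Lib.Seat29.ExtPres.exists_presentation _ _ _ S₁ hS₁ _ σ hepi'
  let iso₁ : kernel (σ ≫ S₁.g) ≅
      (constantSheaf (X.smallEtaleTopology.over W₁) A).obj (kernel p) :=
    kernelIsoOfEq key ≪≫ kernelCompMono _ _ ≪≫
      (PreservesKernel.iso (constantSheaf (X.smallEtaleTopology.over W₁) A) p).symm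
  have hbp : PreservesBinaryBiproduct M' (L.obj T)
      (constantSheaf (X.smallEtaleTopology.over W₁) A) :=
    preservesBinaryBiproduct_of_preservesBinaryProduct _
  let iso₂ : S₁.X₁ ⊞ (constantSheaf (X.smallEtaleTopology.over W₁) A).obj (L.obj T) ≅
      (constantSheaf (X.smallEtaleTopology.over W₁) A).obj (M' ⊞ L.obj T) :=
    biprod.mapIso (resIso g₁ α') (Iso.refl _) ≪≫
      ((constantSheaf (X.smallEtaleTopology.over W₁) A).mapBiprod M' (L.obj T)).symm
  obtain ⟨ψ', hψ'⟩ : ∃ ψ' : (constantSheaf (X.smallEtaleTopology.over W₁) A).obj (kernel p) ⟶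
      (constantSheaf (X.smallEtaleTopology.over W₁) A).obj (M' ⊞ L.obj T),
      ψ ≫ iso₂.hom = iso₁.hom ≫ ψ' :=
    ⟨iso₁.inv ≫ ψ ≫ iso₂.hom, (Iso.hom_inv_id_assoc iso₁ _).symm⟩
  have hck : HasCokernel ψ' := inferInstance
  let e : S.X₂.over W₁ ≅ cokernel ψ' :=
    eψ.symm ≪≫ cokernel.mapIso ψ ψ' iso₁ iso₂ hψ'
  -- Step 4: the cokernel is locally constant
  obtain ⟨𝒮₂, h𝒮₂, H₂⟩ := exists_sieve_cokernel ψ' (hLF W₁ ψ') (S.X₂.over W₁) e
  obtain ⟨W₂, g₂, w₂, hg₂, hw₂⟩ := exists_mem_sieve h𝒮₂ w₁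
  obtain ⟨h, ⟨ι⟩⟩ := H₂ g₂ hg₂
  refine ⟨W₂, w₂, h, ?_, ⟨(S.X₂.pushforwardOverMapIso g₂).symm ≪≫ ι⟩⟩
  rw [← hom_base_comp g₂ w₂, hw₂, ← hom_base_comp g₁ w₁, hw₁]

end Ext

end Groth.Agent.Lib.Seat29.EtExt
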