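import Mathlib
import Groth.Agent.Lib.Seat29EtExt

/-!
# Exactness instances for restriction and constant sheaf functors (seat 29)
-/

set_option autoImplicit false

universe v₁ u₁ v₂ u₂ v u

open CategoryTheory CategoryTheory.Limits Opposite

namespace Groth.Agent.Lib.Seat29.EtInst

section

variable {C : Type u₁} [Category.{v₁} C] {D : Type u₂} [Category.{v₂} D]
  (G : C ⥤ D) (A : Type u) [Category.{v} A]
  (J : GrothendieckTopology C) (K : GrothendieckTopology D)
  [G.IsContinuous J K] [G.IsCocontinuous J K]
  [∀ (F : Cᵒᵖ ⥤ A), G.op.HasPointwiseRightKanExtension F]

/-- Restriction along a continuous and cocontinuous functor preserves all colimits. -/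
instance preservesColimits_pushforwardContinuous :
    PreservesColimitsOfSize.{v₁, v₁} (G.sheafPushforwardContinuous A J K) :=
  (G.sheafAdjunctionCocontinuous A J K).leftAdjoint_preservesColimits

instance preservesFiniteColimits_pushforwardContinuous :
    PreservesFiniteColimits (G.sheafPushforwardContinuous A J K) := by
  have := (G.sheafAdjunctionCocontinuous A J K).isLeftAdjoint
  infer_instance

end

section

variable {C : Type u₁} [Category.{v₁} C] (K : GrothendieckTopology C)
  (A : Type u) [Category.{v} A] [HasSheafify K A] [HasFiniteLimits A]

instance preservesFiniteLimits_constantSheaf : PreservesFiniteLimits (constantSheaf K A) := by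
  unfold constantSheaf
  exact comp_preservesFiniteLimits _ _

end

end Groth.Agent.Lib.Seat29.EtInst
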