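import Mathlib
import Groth.Agent.Lib.Seat29EtInst

/-!
# Finite locally constant abelian étale sheaves: kernels, cokernels, extensions (seat 29)
-/

set_option autoImplicit false

universe u

open CategoryTheory CategoryTheory.Limits AlgebraicGeometry Opposite

namespace Groth.Agent.Lib.Seat29.EtAbLC

open Groth.Agent.Lib.Seat29.ConstRes Groth.Agent.Lib.Seat29.EtLocConst
  Groth.Agent.Lib.Seat29.EtExt Groth.Agent.Lib.Seat29.EtInst

section Alg

lemma surjective_of_epi {M N : AddCommGrpCat.{u + 1}} (f : M ⟶ N) [Epi f] :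
    Function.Surjective f :=
  (AddCommGrpCat.epi_iff_surjective f).1 inferInstance

lemma mfinite_of_epi {M N : AddCommGrpCat.{u + 1}} (f : M ⟶ N) [Epi f] [Module.Finite ℤ M] :
    Module.Finite ℤ N :=
  Module.Finite.of_surjective f.hom.toIntLinearMap (surjective_of_epi f)

lemma mfinite_of_iso {M N : AddCommGrpCat.{u + 1}} (e : M ≅ N) [Module.Finite ℤ M] :
    Module.Finite ℤ N :=
  mfinite_of_epi e.hom

lemma finite_of_epi {M N : AddCommGrpCat.{u + 1}} (f : M ⟶ N) [Epi f] [Finite M] : Finite N :=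
  Finite.of_surjective f (surjective_of_epi f)

lemma finite_of_iso {M N : AddCommGrpCat.{u + 1}} (e : M ≅ N) [Finite M] : Finite N :=
  finite_of_epi e.hom

instance mfinite_biprod (M N : AddCommGrpCat.{u + 1}) [Module.Finite ℤ M] [Module.Finite ℤ N] :
    Module.Finite ℤ (M ⊞ N : AddCommGrpCat.{u + 1}) := by
  have : Module.Finite ℤ (AddCommGrpCat.of (M × N)) := inferInstanceAs (Module.Finite ℤ (M × N))
  exact mfinite_of_iso (AddCommGrpCat.biprodIsoProd M N).symm

instance mfinite_free (T : Type (u + 1)) [Finite T] :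
    Module.Finite ℤ (AddCommGrpCat.free.obj T) := by
  have : Module.Finite ℤ (T →₀ ℤ) := inferInstance
  exact Module.Finite.equiv (FreeAbelianGroup.equivFinsupp T).toIntLinearEquiv.symm

lemma exists_free_epi (M : AddCommGrpCat.{u + 1}) [Module.Finite ℤ M] :
    ∃ (T : Type (u + 1)) (_ : Finite T) (p : AddCommGrpCat.free.obj T ⟶ M), Epi p := by
  have hfg : AddGroup.FG M := Module.Finite.iff_addGroup_fg.1 inferInstance
  obtain ⟨s, hs⟩ := (AddGroup.fg_def (H := M)).1 hfg
  refine ⟨s, inferInstance,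
    AddCommGrpCat.ofHom (FreeAbelianGroup.lift (Subtype.val : s → M)), ?_⟩
  rw [AddCommGrpCat.epi_iff_surjective]
  intro m
  have hm : m ∈ AddSubgroup.closure (s : Set M) := by rw [hs]; trivial
  refine AddSubgroup.closure_induction (p := fun m _ => ∃ a, (AddCommGrpCat.ofHom
    (FreeAbelianGroup.lift (Subtype.val : s → M))) a = m) ?_ ?_ ?_ ?_ hm
  · intro x hx
    exact ⟨FreeAbelianGroup.of ⟨x, hx⟩, by simp⟩
  · exact ⟨0, by simp⟩
  · rintro x y _ _ ⟨a, rfl⟩ ⟨b, rfl⟩
    exact ⟨a + b, by simp⟩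
  · rintro x _ ⟨a, rfl⟩
    exact ⟨-a, by simp⟩

lemma mfinite_kernel {M N : AddCommGrpCat.{u + 1}} (f : M ⟶ N) [Module.Finite ℤ M] :
    Module.Finite ℤ (kernel f : AddCommGrpCat.{u + 1}) := by
  have hK : Module.Finite ℤ (LinearMap.ker f.hom.toIntLinearMap) := inferInstance
  let g : LinearMap.ker f.hom.toIntLinearMap →+ f.hom.ker :=
    { toFun := fun x => ⟨x.1, x.2⟩, map_zero' := rfl, map_add' := fun _ _ => rfl }
  have hg : Function.Surjective g := fun y => ⟨⟨y.1, y.2⟩, rfl⟩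
  have he : Function.Surjective (AddCommGrpCat.kernelIsoKer f).inv :=
    surjective_of_epi _
  exact Module.Finite.of_surjective
    (((AddCommGrpCat.kernelIsoKer f).inv.hom.comp g).toIntLinearMap) (he.comp hg)

lemma mfinite_cokernel {M N : AddCommGrpCat.{u + 1}} (f : M ⟶ N) [Module.Finite ℤ N] :
    Module.Finite ℤ (cokernel f : AddCommGrpCat.{u + 1}) :=
  mfinite_of_epi (cokernel.π f)

lemma finite_kernel {M N : AddCommGrpCat.{u + 1}} (f : M ⟶ N) [Finite M] :
    Finite (kernel f : AddCommGrpCat.{u + 1}) := by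
  have : Finite (AddCommGrpCat.of f.hom.ker) := inferInstanceAs (Finite f.hom.ker)
  exact finite_of_iso (AddCommGrpCat.kernelIsoKer f).symm

lemma finite_cokernel {M N : AddCommGrpCat.{u + 1}} (f : M ⟶ N) [Finite N] :
    Finite (cokernel f : AddCommGrpCat.{u + 1}) :=
  finite_of_epi (cokernel.π f)

/-- a copy of `Fin n` without algebraic instances -/
def Model (n : ℕ) : Type := Fin n

instance (n : ℕ) : Finite (Model n) := inferInstanceAs (Finite (Fin n))

/-- A finite abelian group in a higher universe has a model in `Type`. -/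
lemma exists_small_model (M : AddCommGrpCat.{u + 1}) [Finite M] :
    ∃ (M₀ : Type) (_ : AddCommGroup M₀) (_ : Finite M₀),
      Nonempty (M ≅ AddCommGrpCat.of (ULift.{u + 1} M₀)) := by
  obtain ⟨n, ⟨e⟩⟩ := Finite.exists_equiv_fin M
  let e' : Model n ≃ M := e.symm
  let _ : AddCommGroup (Model n) := e'.addCommGroup
  exact ⟨Model n, inferInstance, inferInstance,
    ⟨(AddEquiv.toAddCommGrpIso (AddEquiv.ulift.trans e'.addEquiv)).symm⟩⟩

end Alg

section Torsion

/-- In a short exact sequence, if `n₁` kills the left term and `n₃` kills the right term, then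
`n₁ * n₃` kills the middle term. -/
lemma nsmul_id_eq_zero_of_shortExact {𝒜 : Type*} [Category 𝒜] [Abelian 𝒜]
    {S : ShortComplex 𝒜} (hS : S.ShortExact) (n₁ n₃ : ℕ)
    (h₁ : n₁ • 𝟙 S.X₁ = 0) (h₃ : n₃ • 𝟙 S.X₃ = 0) : (n₁ * n₃) • 𝟙 S.X₂ = 0 := by
  have := hS.mono_f
  have e1 : (n₃ • 𝟙 S.X₂) ≫ S.g = 0 := by
    rw [Preadditive.nsmul_comp, Category.id_comp, ← Category.comp_id S.g,
      ← Preadditive.comp_nsmul, h₃, comp_zero]
  have e2 := hS.exact.lift_f (n₃ • 𝟙 S.X₂) e1
  rw [mul_comm, mul_nsmul, ← e2, ← Preadditive.comp_nsmul, ← Category.id_comp S.f,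
    ← Preadditive.nsmul_comp, h₁, zero_comp, comp_zero]

lemma nsmul_id_eq_zero_of_iso {𝒜 : Type*} [Category 𝒜] [Preadditive 𝒜] {P Q : 𝒜} (e : P ≅ Q)
    (n : ℕ) (h : n • 𝟙 Q = 0) : n • 𝟙 P = 0 := by
  have : n • 𝟙 P = e.hom ≫ (n • 𝟙 Q) ≫ e.inv := by
    rw [Preadditive.nsmul_comp, Preadditive.comp_nsmul, Category.id_comp, e.hom_inv_id]
  rw [this, h, zero_comp, comp_zero]

lemma card_nsmul_id (M : AddCommGrpCat.{u + 1}) : Nat.card M • 𝟙 M = 0 := by
  ext m
  simp only [AddCommGrpCat.hom_nsmul, AddCommGrpCat.hom_id, AddMonoidHom.coe_smul, Pi.smul_apply,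
    AddMonoidHom.id_apply, AddCommGrpCat.hom_zero, AddMonoidHom.zero_apply]
  exact card_nsmul_eq_zero'

lemma finite_of_nsmul_id {E : AddCommGrpCat.{u + 1}} [Module.Finite ℤ E] (n : ℕ) (hn : 0 < n)
    (h : n • 𝟙 E = 0) : Finite E := by
  apply Module.finite_of_fg_torsion
  intro x
  refine ⟨⟨(n : ℤ), mem_nonZeroDivisors_of_ne_zero (by exact_mod_cast hn.ne')⟩, ?_⟩
  have hx := congrArg (fun f => f.hom x) h
  simp only [AddCommGrpCat.hom_nsmul, AddCommGrpCat.hom_id, AddMonoidHom.coe_smul, Pi.smul_apply,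
    AddMonoidHom.id_apply, AddCommGrpCat.hom_zero, AddMonoidHom.zero_apply] at hx
  change (n : ℤ) • x = 0
  rw [natCast_zsmul]
  exact hx

end Torsion

section Main

variable {X : Scheme.{u}}

/-- pointwise form of `EtCoh.IsFiniteLocallyConstant` -/
lemma isFLC_iff (F : EtCoh.Ab X) :
    EtCoh.IsFiniteLocallyConstant F ↔ ∀ x : X, ∃ (W : X.Etale) (w : W.left), W.hom.base w = x ∧
      ∃ (M : AddCommGrpCat.{u + 1}) (_ : Finite M),
        Nonempty (F.over W ≅
          (constantSheaf (X.smallEtaleTopology.over W) AddCommGrpCat.{u + 1}).obj M) := by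
  constructor
  · intro h x
    obtain ⟨W, w, hw, M, i1, i2, ⟨e⟩⟩ := forall_of_cover (fun W : X.Etale =>
      ∃ (M : Type) (_ : AddCommGroup M) (_ : Finite M), Nonempty (EtCoh.restr F W ≅
        (constantSheaf (X.smallEtaleTopology.over W) AddCommGrpCat.{u + 1}).obj
          (AddCommGrpCat.of (ULift.{u + 1} M)))) h x
    exact ⟨W, w, hw, AddCommGrpCat.of (ULift.{u + 1} M),
      inferInstanceAs (Finite (ULift.{u + 1} M)), ⟨e⟩⟩
  · intro h
    refine exists_cover_of_forall (fun W : X.Etale =>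
      ∃ (M : Type) (_ : AddCommGroup M) (_ : Finite M), Nonempty (EtCoh.restr F W ≅
        (constantSheaf (X.smallEtaleTopology.over W) AddCommGrpCat.{u + 1}).obj
          (AddCommGrpCat.of (ULift.{u + 1} M)))) ?_
    intro x
    obtain ⟨W, w, hw, M, hM, ⟨e⟩⟩ := h x
    obtain ⟨M₀, i1, i2, ⟨e₀⟩⟩ := exists_small_model M
    exact ⟨W, w, hw, M₀, i1, i2, ⟨e ≪≫
      (constantSheaf (X.smallEtaleTopology.over W) AddCommGrpCat.{u + 1}).mapIso e₀⟩⟩


/-- On an étale `X`-scheme `W` not covered by the empty sieve, the constant sheaf functor on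
`Over W` is faithful (on zero maps). -/
lemma eq_zero_of_const_map_eq_zero {W : X.Etale} (hW : ⊥ ∉ X.smallEtaleTopology W)
    {M N : AddCommGrpCat.{u + 1}} (f : M ⟶ N)
    (hf : (constantSheaf (X.smallEtaleTopology.over W) AddCommGrpCat.{u + 1}).map f = 0) :
    f = 0 := by
  have h1 := secMap_map_comp (J := X.smallEtaleTopology) (W := W) f
    (𝟙 ((constantSheaf (X.smallEtaleTopology.over W) AddCommGrpCat.{u + 1}).obj N))
  rw [hf, zero_comp] at h1
  have h2 : secMap (J := X.smallEtaleTopology) (W := W) (0 : (constantSheaf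
      (X.smallEtaleTopology.over W) AddCommGrpCat.{u + 1}).obj M ⟶ (constantSheaf
      (X.smallEtaleTopology.over W) AddCommGrpCat.{u + 1}).obj N) = 0 := by
    unfold secMap
    erw [comp_zero]
  have hW' : ⊥ ∉ (X.smallEtaleTopology.over W) (Over.mk (𝟙 W)) := by
    intro hb
    apply hW
    have h3 := (GrothendieckTopology.mem_over_iff X.smallEtaleTopology _).1 hb
    have h4 : Sieve.overEquiv (Over.mk (𝟙 W)) ⊥ = ⊥ := (Sieve.overEquiv _).map_bot
    rw [h4] at h3
    exact h3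
  have hinj := Groth.Agent.Lib.Seat29.LocFac.toSheafify_const_injective
    (X.smallEtaleTopology.over W) N hW'
  have hmono : Mono ((toSheafify (X.smallEtaleTopology.over W)
      ((Functor.const (Over W)ᵒᵖ).obj N)).app (op (Over.mk (𝟙 W)))) :=
    ConcreteCategory.mono_of_injective _ hinj
  have h5 : f ≫ (toSheafify (X.smallEtaleTopology.over W)
      ((Functor.const (Over W)ᵒᵖ).obj N)).app (op (Over.mk (𝟙 W))) = 0 := by
    have h6 : secMap (J := X.smallEtaleTopology) (W := W)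
        (𝟙 ((constantSheaf (X.smallEtaleTopology.over W) AddCommGrpCat.{u + 1}).obj N)) =
        (toSheafify (X.smallEtaleTopology.over W)
          ((Functor.const (Over W)ᵒᵖ).obj N)).app (op (Over.mk (𝟙 W))) := by
      unfold secMap
      erw [Category.comp_id]
    exact (congrArg (fun t => f ≫ t) h6.symm).trans (h1.symm.trans h2)
  exact zero_of_comp_mono _ h5

/-- Kernels and cokernels of maps between finite locally constant abelian sheaves. -/
theorem isFLC_ker_coker {F G : EtCoh.Ab X} (φ : F ⟶ G)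
    (hF : EtCoh.IsFiniteLocallyConstant F) (hG : EtCoh.IsFiniteLocallyConstant G) :
    EtCoh.IsFiniteLocallyConstant (kernel φ) ∧ EtCoh.IsFiniteLocallyConstant (cokernel φ) := by
  rw [isFLC_iff] at hF hG
  have key : ∀ x : X, ∃ (W : X.Etale) (w : W.left), W.hom.base w = x ∧
      (∃ (M : AddCommGrpCat.{u + 1}) (_ : Finite M), Nonempty ((kernel φ).over W ≅
        (constantSheaf (X.smallEtaleTopology.over W) AddCommGrpCat.{u + 1}).obj M)) ∧
      (∃ (M : AddCommGrpCat.{u + 1}) (_ : Finite M), Nonempty ((cokernel φ).over W ≅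
        (constantSheaf (X.smallEtaleTopology.over W) AddCommGrpCat.{u + 1}).obj M)) := by
    intro x
    obtain ⟨U, a, ha, M, hM, ⟨α₀⟩⟩ := hF x
    obtain ⟨V, b, hb, N, hN, ⟨β₀⟩⟩ := hG x
    have hfg : AddGroup.FG M := AddGroup.fg_of_finite
    obtain ⟨W, w, h, α, β, hw, hsq⟩ := exists_nbhd_hom (M := M) (N := N)
      (fun W ψ => Groth.Agent.Lib.Seat29.LocFac.locFac_addCommGrpCat _ ψ)
      φ a b (ha.trans hb.symm) α₀ β₀
    obtain ⟨h1, h2⟩ := nonempty_ker_coker_iso φ h α β hsq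
    exact ⟨W, w, hw.trans ha, ⟨kernel h, finite_kernel h, h1⟩, ⟨cokernel h, finite_cokernel h, h2⟩⟩
  constructor
  · rw [isFLC_iff]
    intro x
    obtain ⟨W, w, hw, h1, -⟩ := key x
    exact ⟨W, w, hw, h1⟩
  · rw [isFLC_iff]
    intro x
    obtain ⟨W, w, hw, -, h2⟩ := key x
    exact ⟨W, w, hw, h2⟩

lemma nsmul_id_const {W : X.Etale} (M : AddCommGrpCat.{u + 1}) (n : ℕ) (h : n • 𝟙 M = 0) :
    n • 𝟙 ((constantSheaf (X.smallEtaleTopology.over W) AddCommGrpCat.{u + 1}).obj M) = 0 := by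
  rw [← CategoryTheory.Functor.map_id, ← Functor.map_nsmul, h, Functor.map_zero]

/-- Finite locally constant abelian sheaves are closed under extensions. -/
theorem isFLC_ext (S : ShortComplex (EtCoh.Ab X)) (hS : S.ShortExact)
    (h₁ : EtCoh.IsFiniteLocallyConstant S.X₁) (h₃ : EtCoh.IsFiniteLocallyConstant S.X₃) :
    EtCoh.IsFiniteLocallyConstant S.X₂ := by
  rw [isFLC_iff] at h₁ h₃ ⊢
  intro x
  obtain ⟨U, a, ha, M', hM', ⟨α'⟩⟩ := h₁ x
  obtain ⟨V, b, hb, M'', hM'', ⟨α''⟩⟩ := h₃ x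
  obtain ⟨W₀, p₀, q₀, w₀, hp₀, hq₀⟩ := exists_common a b (ha.trans hb.symm)
  have hf' : Module.Finite ℤ M' := Module.Finite.of_finite
  have hf'' : Module.Finite ℤ M'' := Module.Finite.of_finite
  obtain ⟨T, hT, p, hp⟩ := exists_free_epi M''
  have hker : Module.Finite ℤ (kernel p : AddCommGrpCat.{u + 1}) := mfinite_kernel p
  have hfg : AddGroup.FG (kernel p : AddCommGrpCat.{u + 1}) :=
    Module.Finite.iff_addGroup_fg.1 hker
  obtain ⟨W, w, h, hw, ⟨e⟩⟩ := exists_nbhd_ext AddCommGrpCat.adj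
    (fun {F G} π hπ => (Sheaf.isLocallySurjective_iff_epi' (A := AddCommGrpCat.{u + 1}) π).2 hπ)
    S hS w₀ (resIso p₀ α') (resIso q₀ α'') T p
    (fun W ψ => Groth.Agent.Lib.Seat29.LocFac.locFac_addCommGrpCat _ ψ)
  obtain ⟨W', r, r₀, w', hr, hr₀⟩ := exists_common w w₀ hw
  have hpt : W'.hom.base w' = x := by
    rw [← hom_base_comp r₀ w', hr₀, ← hom_base_comp p₀ w₀, hp₀, ha]
  refine ⟨W', w', hpt, ?_⟩
  by_cases hbot : ⊥ ∈ X.smallEtaleTopology W'
  · exact ⟨AddCommGrpCat.of PUnit.{u + 2}, inferInstanceAs (Finite PUnit.{u + 2}),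
      nonempty_iso_of_bot_mem (X.smallEtaleTopology.over W')
        (bot_mem_over X.smallEtaleTopology hbot) _ _⟩
  · have hck : Module.Finite ℤ (cokernel h : AddCommGrpCat.{u + 1}) := mfinite_cokernel h
    let S' : ShortComplex (Sheaf (X.smallEtaleTopology.over W') AddCommGrpCat.{u + 1}) :=
      S.map (X.smallEtaleTopology.overPullback AddCommGrpCat.{u + 1} W')
    have hS' : S'.ShortExact := hS.map_of_exact _
    have k1 : Nat.card M' • 𝟙 S'.X₁ = 0 :=
      nsmul_id_eq_zero_of_iso (resIso r₀ (resIso p₀ α')) _ (nsmul_id_const M' _ (card_nsmul_id M'))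
    have k3 : Nat.card M'' • 𝟙 S'.X₃ = 0 :=
      nsmul_id_eq_zero_of_iso (resIso r₀ (resIso q₀ α'')) _
        (nsmul_id_const M'' _ (card_nsmul_id M''))
    have k2 : (Nat.card M' * Nat.card M'') • 𝟙 S'.X₂ = 0 :=
      nsmul_id_eq_zero_of_shortExact hS' _ _ k1 k3
    have k4 : (Nat.card M' * Nat.card M'') •
        𝟙 ((constantSheaf (X.smallEtaleTopology.over W') AddCommGrpCat.{u + 1}).obj
          (cokernel h)) = 0 :=
      nsmul_id_eq_zero_of_iso (resIso r e).symm _ k2
    have k5 : (constantSheaf (X.smallEtaleTopology.over W') AddCommGrpCat.{u + 1}).map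
        ((Nat.card M' * Nat.card M'') • 𝟙 (cokernel h)) = 0 := by
      rw [Functor.map_nsmul, CategoryTheory.Functor.map_id]
      exact k4
    have k6 := eq_zero_of_const_map_eq_zero hbot _ k5
    have hfin : Finite (cokernel h : AddCommGrpCat.{u + 1}) :=
      finite_of_nsmul_id _ (Nat.mul_pos Nat.card_pos Nat.card_pos) k6
    exact ⟨cokernel h, hfin, ⟨resIso r e⟩⟩

end Main

end Groth.Agent.Lib.Seat29.EtAbLC
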