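import Mathlib
import Groth.Agent.Lib.Seat29LocFac

/-!
# Subsheaves of constant sheaves and a "generic" point (seat 29)

Let `Φ` be a point of a site `(C, J)` such that every object of `C` not covered by the empty
sieve has a `Φ`-point (e.g. a geometric generic point of an irreducible scheme for the small étale
site).  If `const M' ⟶ G ⟶ const M` has composite induced by `i : M' ⟶ M`, the second map is
injective on sections and the first map is surjective on fibres at `Φ`, then the first map is
locally surjective.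
-/

set_option autoImplicit false

universe w w' v₁ u₁ v u

open CategoryTheory CategoryTheory.Limits Opposite GrothendieckTopology

namespace Groth.Agent.Lib.Seat29.GenStalk

open Groth.Agent.Lib.Seat29.LocFac

variable {C : Type u₁} [Category.{v₁} C] {J : GrothendieckTopology C} (Φ : Point.{w} J)
  {A : Type u} [Category.{v} A] [HasColimitsOfSize.{w, w} A]
  {FA : A → A → Type*} {CA : A → Type w'}
  [∀ X Y, FunLike (FA X Y) (CA X) (CA Y)] [ConcreteCategory.{w'} A FA]
  [PreservesFilteredColimitsOfSize.{w, w} (forget A)] [LocallySmall.{w} C]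

/-- Germs of constants in the fibre of a constant presheaf determine the constant. -/
lemma toPresheafFiber_const_inj {M : A} {V V₁ : C} (t : Φ.fiber.obj V) (t₁ : Φ.fiber.obj V₁)
    (m m₁ : ToType M)
    (h : Φ.toPresheafFiber V t ((Functor.const Cᵒᵖ).obj M) m =
      Φ.toPresheafFiber V₁ t₁ ((Functor.const Cᵒᵖ).obj M) m₁) : m = m₁ := by
  let e₁ : Φ.fiber.Elements := ⟨V, t⟩
  let e₂ : Φ.fiber.Elements := ⟨V₁, t₁⟩
  let e₃ := IsCofiltered.min e₁ e₂
  let g₁ : e₃ ⟶ e₁ := IsCofiltered.minToLeft _ _
  let g₂ : e₃ ⟶ e₂ := IsCofiltered.minToRight _ _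
  have hg₁ : Φ.fiber.map g₁.1 e₃.2 = t := g₁.2
  have hg₂ : Φ.fiber.map g₂.1 e₃.2 = t₁ := g₂.2
  have k₁ := Φ.toPresheafFiber_w_apply g₁.1 e₃.2 ((Functor.const Cᵒᵖ).obj M) m
  have k₂ := Φ.toPresheafFiber_w_apply g₂.1 e₃.2 ((Functor.const Cᵒᵖ).obj M) m₁
  rw [hg₁] at k₁
  rw [hg₂] at k₂
  simp only [Functor.const_obj_obj, Functor.const_obj_map, ConcreteCategory.id_apply] at k₁ k₂
  have k₃ : Φ.toPresheafFiber e₃.1 e₃.2 ((Functor.const Cᵒᵖ).obj M) m =
      Φ.toPresheafFiber e₃.1 e₃.2 ((Functor.const Cᵒᵖ).obj M) m₁ := k₁.trans (h.trans k₂.symm)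
  obtain ⟨Y, f, y, -, hf⟩ :=
    (Φ.toPresheafFiber_eq_iff' (P := (Functor.const Cᵒᵖ).obj M) e₃.1 e₃.2 m m₁).1 k₃
  simpa using hf

variable [HasWeakSheafify J A] [J.WEqualsLocallyBijective A]

omit Φ [HasColimitsOfSize.{w, w} A] [PreservesFilteredColimitsOfSize.{w, w} (forget A)]
  [LocallySmall.{w} C] [J.WEqualsLocallyBijective A] in
/-- The map of constant sheaves induced by `i` sends the constant section `m'` to `i m'`. -/
lemma constMap_toSheafify {M' M : A} (i : M' ⟶ M) (V : C) (m' : ToType M') :
    ((constantSheaf J A).map i).hom.app (op V)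
      ((toSheafify J ((Functor.const Cᵒᵖ).obj M')).app (op V) m') =
    (toSheafify J ((Functor.const Cᵒᵖ).obj M)).app (op V) (i m') := by
  have h := congrArg (fun φ => (φ.app (op V)) m')
    (toSheafify_naturality J ((Functor.const Cᵒᵖ).map i))
  simp only [NatTrans.comp_app, ConcreteCategory.comp_apply, Functor.const_map_app] at h
  exact h.symm

/-- Main lemma: a subsheaf `G` of a constant sheaf `const M` containing `const M'` and having the
same fibre as `const M'` at a "generic" point is equal to `const M'`. -/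
theorem isLocallySurjective_of_generic
    (hgen : ∀ V : C, ⊥ ∈ J V ∨ Nonempty (Φ.fiber.obj V))
    {M' M : A} (i : M' ⟶ M) {G : Sheaf J A}
    (a : (constantSheaf J A).obj M' ⟶ G) (b : G ⟶ (constantSheaf J A).obj M)
    (hab : a ≫ b = (constantSheaf J A).map i)
    (hb : ∀ V : C, Function.Injective (b.hom.app (op V)))
    (hst : Function.Surjective (Φ.sheafFiber.map a)) :
    Presheaf.IsLocallySurjective J a.hom := by
  refine ⟨fun {U} g => ?_⟩
  -- the section `b g` of the constant sheaf is locally constant
  obtain ⟨S, hS, hSg⟩ := exists_sieve_const J M (W := U) (ι := Unit) {()}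
    (fun _ => b.hom.app (op U) g)
  refine J.transitive hS _ (fun V f hf => ?_)
  rw [Presheaf.pullback_imageSieve]
  obtain ⟨m, hm⟩ := hSg f hf () (by simp)
  rcases hgen V with hV | ⟨⟨t⟩⟩
  · exact J.superset_covering bot_le hV
  · -- the germ of `g|_V` at `t` comes from the germ of some constant `m'`
    obtain ⟨μ, hμ⟩ := hst (Φ.toPresheafFiber V t G.obj (G.obj.map f.op g))
    obtain ⟨μ₀, hμ₀⟩ := Φ.toPresheafFiber_map_surjective
      (toSheafify J ((Functor.const Cᵒᵖ).obj M')) μ
    obtain ⟨V₁, t₁, m', hm'⟩ := Φ.toPresheafFiber_jointly_surjective μ₀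
    -- compare germs in the fibre of `const M`
    have key : m = i m' := by
      apply toPresheafFiber_const_inj Φ t t₁
      apply Φ.toPresheafFiber_map_injective (toSheafify J ((Functor.const Cᵒᵖ).obj M))
      rw [Φ.toPresheafFiber_naturality_apply, Φ.toPresheafFiber_naturality_apply, hm]
      have e1 := Φ.toPresheafFiber_naturality_apply b.hom V t (G.obj.map f.op g)
      have e2 : b.hom.app (op V) (G.obj.map f.op g) =
          (sheafify J ((Functor.const Cᵒᵖ).obj M)).map f.op (b.hom.app (op U) g) :=
        NatTrans.naturality_apply b.hom f.op g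
      rw [← e2]
      refine Eq.trans e1.symm ?_
      rw [← hμ, ← hμ₀, ← hm']
      have e3 : Φ.sheafFiber.map a ≫ Φ.presheafFiber.map b.hom =
          Φ.presheafFiber.map ((constantSheaf J A).map i).hom := by
        rw [← hab]
        exact (Φ.presheafFiber.map_comp a.hom b.hom).symm
      have e4 := congrArg (fun φ => φ
        (Φ.presheafFiber.map (toSheafify J ((Functor.const Cᵒᵖ).obj M'))
          (Φ.toPresheafFiber V₁ t₁ ((Functor.const Cᵒᵖ).obj M') m'))) e3
      simp only [ConcreteCategory.comp_apply] at e4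
      refine Eq.trans e4 ?_
      rw [Φ.toPresheafFiber_naturality_apply]
      refine Eq.trans (Φ.toPresheafFiber_naturality_apply ((constantSheaf J A).map i).hom V₁ t₁ _) ?_
      exact congrArg _ (constMap_toSheafify i V₁ m')
    -- hence `g|_V = a (η m')`
    have e5 : b.hom.app (op V) (G.obj.map f.op g) =
        b.hom.app (op V) (a.hom.app (op V)
          ((toSheafify J ((Functor.const Cᵒᵖ).obj M')).app (op V) m')) := by
      have e2 : b.hom.app (op V) (G.obj.map f.op g) =
          (sheafify J ((Functor.const Cᵒᵖ).obj M)).map f.op (b.hom.app (op U) g) :=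
        NatTrans.naturality_apply b.hom f.op g
      refine e2.trans (hm.symm.trans ?_)
      rw [key]
      refine (constMap_toSheafify i V m').symm.trans ?_
      rw [← hab]
      simp only [ObjectProperty.FullSubcategory.comp_hom, NatTrans.comp_app,
        ConcreteCategory.comp_apply]
    have e6 := hb V e5
    rw [e6, Presheaf.imageSieve_app]
    exact J.top_mem V

end Groth.Agent.Lib.Seat29.GenStalk
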