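import Mathlib
import Groth.Prelude.Def_EtBase
import Groth.Agent.Lib.Seat29GenStalk

/-!
# The geometric generic point of an irreducible scheme is "generic" for the small étale site
(seat 29)
-/

set_option autoImplicit false

universe u

open CategoryTheory CategoryTheory.Limits AlgebraicGeometry Opposite

namespace Groth.Agent.Lib.Seat29.EtGen

variable {X : Scheme.{u}}

/-- Over an empty étale scheme every sieve is covering. -/
lemma mem_smallEtaleTopology_of_isEmpty (U : X.Etale) [IsEmpty U.left] (R : Sieve U) :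
    R ∈ X.smallEtaleTopology U := by
  have h : Sieve.ofArrows (fun i : PEmpty.{1} => (i.elim : X.Etale)) (fun i => (i.elim : _ ⟶ U)) ∈
      X.smallEtaleTopology U := by
    rw [Scheme.ofArrows_mem_smallEtaleTopology_iff]
    ext x
    exact isEmptyElim x
  refine X.smallEtaleTopology.superset_covering ?_ h
  rintro V g ⟨_, _, _, ⟨i⟩, _⟩
  exact i.elim

/-- Every non-empty étale scheme over an irreducible scheme has a point over the geometric
generic point. -/
lemma bot_mem_or_nonempty_fiber [IrreducibleSpace ↥X]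
    {Ω : Type u} [Field Ω] [IsSepClosed Ω] (ξ : Spec (CommRingCat.of Ω) ⟶ X)
    (hξ : ξ.base default = genericPoint ↥X) (V : X.Etale) :
    ⊥ ∈ X.smallEtaleTopology V ∨ Nonempty ((Scheme.pointSmallEtale ξ).fiber.obj V) := by
  by_cases h : IsEmpty V.left
  · exact Or.inl (mem_smallEtaleTopology_of_isEmpty V ⊥)
  · right
    rw [not_isEmpty_iff] at h
    obtain ⟨v⟩ := h
    have hopen : IsOpen (Set.range V.hom) := V.hom.isOpenMap.isOpen_range
    have hmem : genericPoint ↥X ∈ Set.range V.hom := by
      rw [(genericPoint_spec ↥X).mem_open_set_iff hopen]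
      exact ⟨V.hom v, Set.mem_univ _, v, rfl⟩
    obtain ⟨y, hy⟩ := hmem
    obtain ⟨t, -⟩ := Scheme.pointSmallEtaleFiberObjToPreimage_surjective ξ hξ V ⟨y, hy⟩
    exact ⟨t⟩

end Groth.Agent.Lib.Seat29.EtGen
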