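import Mathlib

/-!
# Topological lemmas on constructible sets (seat 29)

* `exists_finset_separating`: finitely many constructible sets are unions of atoms of a finite
  family of retrocompact opens;
* `isConstructible_image_of_isEmbedding`: images of constructible sets under an embedding whose
  range is `O ∩ C` with `O`, `Cᶜ` retrocompact open.
-/

set_option autoImplicit false
set_option linter.unusedSectionVars false

open Set Topology TopologicalSpace

namespace Groth.Agent.Lib.Seat29.ConstrTop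

variable {X : Type*} [TopologicalSpace X]

/-- A constructible set is saturated for the equivalence relation defined by a finite family of
retrocompact opens. -/
lemma exists_finset_of_isConstructible {s : Set X} (hs : IsConstructible s) :
    ∃ 𝒲 : Finset (Set X), (∀ W ∈ 𝒲, IsOpen W ∧ IsRetrocompact W) ∧
      ∀ x y : X, (∀ W ∈ 𝒲, x ∈ W ↔ y ∈ W) → (x ∈ s ↔ y ∈ s) := by
  classical
  induction hs using IsConstructible.empty_union_induction with
  | open_retrocompact U hUo hUc =>
    exact ⟨{U}, fun W hW => by rw [Finset.mem_singleton] at hW; subst hW; exact ⟨hUo, hUc⟩,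
      fun x y h => h U (Finset.mem_singleton_self U)⟩
  | union s hs t ht ihs iht =>
    obtain ⟨𝒲₁, h1, h1'⟩ := ihs
    obtain ⟨𝒲₂, h2, h2'⟩ := iht
    refine ⟨𝒲₁ ∪ 𝒲₂, fun W hW => ?_, fun x y h => ?_⟩
    · rcases Finset.mem_union.1 hW with hW | hW
      · exact h1 W hW
      · exact h2 W hW
    · have e1 := h1' x y (fun W hW => h W (Finset.mem_union_left _ hW))
      have e2 := h2' x y (fun W hW => h W (Finset.mem_union_right _ hW))
      simp only [Set.mem_union, e1, e2]
  | compl s hs ih =>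
    obtain ⟨𝒲, h1, h1'⟩ := ih
    exact ⟨𝒲, h1, fun x y h => by simp only [Set.mem_compl_iff, h1' x y h]⟩

/-- Finitely many constructible sets are simultaneously saturated for a finite family of
retrocompact opens. -/
lemma exists_finset_separating {ι : Type*} (t : Finset ι) (R : ι → Set X)
    (hR : ∀ i ∈ t, IsConstructible (R i)) :
    ∃ 𝒲 : Finset (Set X), (∀ W ∈ 𝒲, IsOpen W ∧ IsRetrocompact W) ∧
      ∀ i ∈ t, ∀ x y : X, (∀ W ∈ 𝒲, x ∈ W ↔ y ∈ W) → (x ∈ R i ↔ y ∈ R i) := by
  classical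
  induction t using Finset.induction_on with
  | empty => exact ⟨∅, by simp, by simp⟩
  | insert a t ha ih =>
    obtain ⟨𝒲₁, h1, h1'⟩ := ih (fun i hi => hR i (Finset.mem_insert_of_mem hi))
    obtain ⟨𝒲₂, h2, h2'⟩ := exists_finset_of_isConstructible (hR a (Finset.mem_insert_self a t))
    refine ⟨𝒲₁ ∪ 𝒲₂, fun W hW => ?_, fun i hi x y h => ?_⟩
    · rcases Finset.mem_union.1 hW with hW | hW
      · exact h1 W hW
      · exact h2 W hW
    · rcases Finset.mem_insert.1 hi with rfl | hi
      · exact h2' x y (fun W hW => h W (Finset.mem_union_right _ hW))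
      · exact h1' i hi x y (fun W hW => h W (Finset.mem_union_left _ hW))

/-- Images of constructible sets under an embedding with range `O ∩ C`, `O` and `Cᶜ` retrocompact
open. -/
lemma isConstructible_image_of_isEmbedding {P : Type*} [TopologicalSpace P] {p : P → X}
    (hp : IsEmbedding p) {O C : Set X} (hO : IsOpen O) (hOr : IsRetrocompact O)
    (hC : IsClosed C) (hCr : IsRetrocompact Cᶜ) (hrange : range p = O ∩ C)
    {A : Set P} (hA : IsConstructible A) : IsConstructible (p '' A) := by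
  have hmemO : ∀ x : P, p x ∈ O := fun x => ((hrange ▸ mem_range_self x : p x ∈ O ∩ C)).1
  let p₁ : P → ↥O := fun x => ⟨p x, hmemO x⟩
  have hp₁c : Continuous p₁ := hp.continuous.subtype_mk _
  have hp₁e : IsEmbedding p₁ :=
    IsEmbedding.of_comp hp₁c continuous_subtype_val (by exact hp)
  have hr₁ : range p₁ = (Subtype.val : ↥O → X) ⁻¹' C := by
    ext x
    constructor
    · rintro ⟨y, rfl⟩
      exact ((hrange ▸ mem_range_self y : p y ∈ O ∩ C)).2
    · intro hx
      have : x.1 ∈ range p := by rw [hrange]; exact ⟨x.2, hx⟩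
      obtain ⟨y, hy⟩ := this
      exact ⟨y, Subtype.ext hy⟩
  have hp₁ : IsClosedEmbedding p₁ :=
    ⟨hp₁e, by rw [hr₁]; exact hC.preimage continuous_subtype_val⟩
  have hcompl : IsRetrocompact (range p₁)ᶜ := by
    rw [hr₁, ← Set.preimage_compl]
    exact hCr.preimage_of_isOpenEmbedding hO.isOpenEmbedding_subtypeVal
  have h1 : IsConstructible (p₁ '' A) := hA.image_of_isClosedEmbedding hp₁ hcompl
  have h2 : IsConstructible ((Subtype.val : ↥O → X) '' (p₁ '' A)) :=
    h1.image_of_isOpenEmbedding hO.isOpenEmbedding_subtypeVal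
      (by rw [Subtype.range_coe]; exact hOr)
  rwa [← Set.image_comp] at h2

section Atoms

/-- The atom of the finite family `𝒲` determined by the subfamily `S`. -/
def atom (𝒲 S : Finset (Set X)) : Set X := {x | ∀ W ∈ 𝒲, x ∈ W ↔ W ∈ S}

lemma atom_eq (𝒲 S : Finset (Set X)) [DecidableEq (Set X)] (hS : S ⊆ 𝒲) :
    atom 𝒲 S = (⋂ W ∈ S, W) ∩ (⋃ W ∈ 𝒲 \ S, W)ᶜ := by
  ext x
  simp only [atom, Set.mem_ofPred_eq, Set.mem_inter_iff, Set.mem_iInter, Set.mem_compl_iff,
    Set.mem_iUnion, Finset.mem_sdiff, not_exists, and_imp]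
  constructor
  · intro h
    exact ⟨fun W hW => (h W (hS hW)).2 hW, fun W hW hWS hx => hWS ((h W hW).1 hx)⟩
  · rintro ⟨h1, h2⟩ W hW
    constructor
    · intro hx
      by_contra hWS
      exact h2 W hW hWS hx
    · intro hWS
      exact h1 W hWS

lemma isOpen_isRetrocompact_biInter (S : Finset (Set X))
    (h : ∀ W ∈ S, IsOpen W ∧ IsRetrocompact W) :
    IsOpen (⋂ W ∈ S, W) ∧ IsRetrocompact (⋂ W ∈ S, W) := by
  classical
  induction S using Finset.induction_on with
  | empty => simp
  | insert a S ha ih =>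
    obtain ⟨h1, h2⟩ := ih (fun W hW => h W (Finset.mem_insert_of_mem hW))
    obtain ⟨h3, h4⟩ := h a (Finset.mem_insert_self a S)
    rw [Finset.set_biInter_insert]
    exact ⟨h3.inter h1, h4.inter_isOpen h2 h1⟩

lemma isOpen_isRetrocompact_biUnion (S : Finset (Set X))
    (h : ∀ W ∈ S, IsOpen W ∧ IsRetrocompact W) :
    IsOpen (⋃ W ∈ S, W) ∧ IsRetrocompact (⋃ W ∈ S, W) :=
  ⟨isOpen_biUnion fun W hW => (h W hW).1,
    IsRetrocompact.biUnion (Finset.finite_toSet S) fun W hW => (h W hW).2⟩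

lemma atom_disjoint (𝒲 S S' : Finset (Set X)) (hS : S ⊆ 𝒲) (hS' : S' ⊆ 𝒲) (hne : S ≠ S') :
    Disjoint (atom 𝒲 S) (atom 𝒲 S') := by
  rw [Set.disjoint_left]
  intro x hx hx'
  apply hne
  ext W
  constructor
  · intro hW
    exact (hx' W (hS hW)).1 ((hx W (hS hW)).2 hW)
  · intro hW
    exact (hx W (hS' hW)).1 ((hx' W (hS' hW)).2 hW)

lemma exists_atom_mem (𝒲 : Finset (Set X)) (x : X) :
    ∃ S ∈ 𝒲.powerset, x ∈ atom 𝒲 S := by
  classical
  refine ⟨𝒲.filter (fun W => x ∈ W), Finset.mem_powerset.2 (Finset.filter_subset _ _), ?_⟩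
  intro W hW
  simp [Finset.mem_filter, hW]

lemma atom_subset_of_mem {𝒲 S : Finset (Set X)} {R : Set X}
    (hR : ∀ x y : X, (∀ W ∈ 𝒲, x ∈ W ↔ y ∈ W) → (x ∈ R ↔ y ∈ R)) {x : X}
    (hx : x ∈ atom 𝒲 S) (hxR : x ∈ R) : atom 𝒲 S ⊆ R := by
  intro y hy
  exact (hR x y (fun W hW => (hx W hW).trans (hy W hW).symm)).1 hxR

end Atoms

end Groth.Agent.Lib.Seat29.ConstrTop
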