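import Mathlib

/-!
# Extending a rational map from an integral scheme at a point whose local ring is a valuation ring
(seat 29)

Let `X` be an integral `S`-scheme, `Y` a proper `S`-scheme, `U ⊆ X` a nonempty open and
`f : U ⟶ Y` an `S`-morphism. If the local ring of `X` at `x` is a valuation ring, then `f` extends to
an open neighbourhood of `x` (valuative criterion, spreading out, gluing).
-/

set_option autoImplicit false
set_option linter.unusedSectionVars false
set_option linter.unusedVariables false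

universe u

open CategoryTheory AlgebraicGeometry Limits

namespace Groth.Agent.Lib.Seat29.CurveExt

section Glue

variable {X Y : Scheme.{u}}

/-- The pullback of two open subschemes maps to their intersection. -/
lemma pullback_homOfLE_compat {U₁ U₂ U' : X.Opens} (h₁ : U₁ ≤ U') (h₂ : U₂ ≤ U')
    (f₁ : U₁.toScheme ⟶ Y) (f₂ : U₂.toScheme ⟶ Y)
    (h : X.homOfLE (inf_le_left : U₁ ⊓ U₂ ≤ U₁) ≫ f₁ = X.homOfLE (inf_le_right : U₁ ⊓ U₂ ≤ U₂) ≫ f₂) :
    pullback.fst (X.homOfLE h₁) (X.homOfLE h₂) ≫ f₁ =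
      pullback.snd (X.homOfLE h₁) (X.homOfLE h₂) ≫ f₂ := by
  have hcond : pullback.fst (X.homOfLE h₁) (X.homOfLE h₂) ≫ U₁.ι =
      pullback.snd (X.homOfLE h₁) (X.homOfLE h₂) ≫ U₂.ι := by
    have := pullback.condition (f := X.homOfLE h₁) (g := X.homOfLE h₂)
    have h' := congrArg (fun t => t ≫ U'.ι) this
    simpa using h'
  have hrange : Set.range (pullback.fst (X.homOfLE h₁) (X.homOfLE h₂) ≫ U₁.ι) ⊆
      Set.range (U₁ ⊓ U₂).ι := by
    rintro _ ⟨p, rfl⟩
    rw [Scheme.Opens.range_ι]
    refine ⟨?_, ?_⟩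
    · have : (pullback.fst (X.homOfLE h₁) (X.homOfLE h₂) ≫ U₁.ι) p ∈ Set.range U₁.ι :=
        ⟨pullback.fst (X.homOfLE h₁) (X.homOfLE h₂) p, rfl⟩
      rwa [Scheme.Opens.range_ι] at this
    · rw [hcond]
      have : (pullback.snd (X.homOfLE h₁) (X.homOfLE h₂) ≫ U₂.ι) p ∈ Set.range U₂.ι :=
        ⟨pullback.snd (X.homOfLE h₁) (X.homOfLE h₂) p, rfl⟩
      rwa [Scheme.Opens.range_ι] at this
  let φ := IsOpenImmersion.lift (U₁ ⊓ U₂).ι (pullback.fst (X.homOfLE h₁) (X.homOfLE h₂) ≫ U₁.ι)
    hrange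
  have hφ : φ ≫ (U₁ ⊓ U₂).ι = pullback.fst (X.homOfLE h₁) (X.homOfLE h₂) ≫ U₁.ι :=
    IsOpenImmersion.lift_fac _ _ _
  have hfst : φ ≫ X.homOfLE (inf_le_left : U₁ ⊓ U₂ ≤ U₁) =
      pullback.fst (X.homOfLE h₁) (X.homOfLE h₂) := by
    rw [← cancel_mono U₁.ι, Category.assoc, Scheme.homOfLE_ι, hφ]
  have hsnd : φ ≫ X.homOfLE (inf_le_right : U₁ ⊓ U₂ ≤ U₂) =
      pullback.snd (X.homOfLE h₁) (X.homOfLE h₂) := by
    rw [← cancel_mono U₂.ι, Category.assoc, Scheme.homOfLE_ι, hφ, hcond]
  rw [← hfst, ← hsnd, Category.assoc, Category.assoc, h]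

end Glue

section Glue2

variable {X Y : Scheme.{u}} (U W : X.Opens)

/-- The family of two opens indexed by `Bool`. -/
abbrev pair : Bool → X.Opens := fun b => cond b U W

/-- Gluing two morphisms defined on opens `U`, `W` that agree on `U ⊓ W`. -/
lemma exists_glue (f : U.toScheme ⟶ Y) (g : W.toScheme ⟶ Y)
    (h : X.homOfLE (inf_le_left : U ⊓ W ≤ U) ≫ f = X.homOfLE (inf_le_right : U ⊓ W ≤ W) ≫ g) :
    ∃ f' : (⨆ b, pair U W b).toScheme ⟶ Y,
      X.homOfLE (le_iSup (pair U W) true) ≫ f' = f ∧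
      X.homOfLE (le_iSup (pair U W) false) ≫ f' = g := by
  let 𝒰 := Scheme.Opens.iSupOpenCover (pair U W)
  let F : ∀ b : Bool, ((pair U W b : X.Opens) : Scheme.{u}) ⟶ Y := fun b =>
    Bool.rec (motive := fun b => ((pair U W b : X.Opens) : Scheme.{u}) ⟶ Y) g f b
  have hF : ∀ b₁ b₂ : Bool, pullback.fst (𝒰.f b₁) (𝒰.f b₂) ≫ F b₁ =
      pullback.snd (𝒰.f b₁) (𝒰.f b₂) ≫ F b₂ := by
    have hsymm : X.homOfLE (inf_le_left : W ⊓ U ≤ W) ≫ g =
        X.homOfLE (inf_le_right : W ⊓ U ≤ U) ≫ f := by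
      have e : W ⊓ U ≤ U ⊓ W := by rw [inf_comm]
      have h' := congrArg (fun t => X.homOfLE e ≫ t) h
      simpa using h'.symm
    intro b₁ b₂
    cases b₁ <;> cases b₂
    · exact pullback_homOfLE_compat (le_iSup (pair U W) false) (le_iSup (pair U W) false) g g rfl
    · exact pullback_homOfLE_compat (le_iSup (pair U W) false) (le_iSup (pair U W) true) g f hsymm
    · exact pullback_homOfLE_compat (le_iSup (pair U W) true) (le_iSup (pair U W) false) f g h
    · exact pullback_homOfLE_compat (le_iSup (pair U W) true) (le_iSup (pair U W) true) f f rfl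
  refine ⟨𝒰.glueMorphisms F hF, ?_, ?_⟩
  · exact 𝒰.ι_glueMorphisms F hF true
  · exact 𝒰.ι_glueMorphisms F hF false

end Glue2

section Main

variable {S X Y : Scheme.{u}} (sX : X ⟶ S) (sY : Y ⟶ S) [IsIntegral X] [IsProper sY]

/-- The valuative criterion step. -/
lemma exists_lift_stalk (U : X.Opens) (hη : genericPoint X ∈ U) (f : U.toScheme ⟶ Y)
    (hf : f ≫ sY = U.ι ≫ sX) (x : X) [ValuationRing (X.presheaf.stalk x)] :
    ∃ l : Spec (X.presheaf.stalk x) ⟶ Y, l ≫ sY = X.fromSpecStalk x ≫ sX ∧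
      Spec.map (X.presheaf.stalkSpecializes ((genericPoint_spec X).specializes trivial)) ≫ l =
        U.fromSpecStalkOfMem (genericPoint X) hη ≫ f := by
  have hvc : ValuativeCriterion.Existence sY := by
    have h : IsProper sY := inferInstance
    rw [IsProper.eq_valuativeCriterion] at h
    exact h.1.1.1.existence
  let sq : ValuativeCommSq sY :=
    { R := X.presheaf.stalk x
      commRing := inferInstance
      domain := inferInstance
      valuationRing := inferInstance
      K := X.functionField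
      field := inferInstance
      algebra := inferInstance
      isFractionRing := inferInstance
      i₁ := U.fromSpecStalkOfMem (genericPoint X) hη ≫ f
      i₂ := X.fromSpecStalk x ≫ sX
      commSq := ⟨by
        rw [Category.assoc, hf, ← Category.assoc, Scheme.Opens.fromSpecStalkOfMem_ι]
        change _ = Spec.map (X.presheaf.stalkSpecializes
          ((genericPoint_spec X).specializes trivial)) ≫ _
        rw [← Category.assoc, Scheme.SpecMap_stalkSpecializes_fromSpecStalk]⟩ }
  obtain ⟨⟨l⟩⟩ := hvc sq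
  exact ⟨l.l, l.fac_right, l.fac_left⟩

/-- The canonical morphism from the spectrum of the function field to a nonempty open is
dominant. -/
lemma isDominant_fromSpecStalkOfMem (V : X.Opens) (hη : genericPoint X ∈ V) :
    IsDominant (V.fromSpecStalkOfMem (genericPoint X) hη) := by
  constructor
  rw [DenseRange, dense_iff_closure_eq]
  let v₀ : V.toScheme := (V.fromSpecStalkOfMem (genericPoint X) hη)
      (IsLocalRing.closedPoint (X.presheaf.stalk (genericPoint X)))
  have hpt : V.ι v₀ = genericPoint X := by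
    change (V.fromSpecStalkOfMem (genericPoint X) hη ≫ V.ι) _ = _
    rw [Scheme.Opens.fromSpecStalkOfMem_ι, Scheme.fromSpecStalk_closedPoint]
  refine Set.eq_univ_of_univ_subset ?_
  have h1 : closure ({v₀} : Set V.toScheme) ⊆
      closure (Set.range (V.fromSpecStalkOfMem (genericPoint X) hη)) :=
    closure_mono (by
      rintro _ rfl
      exact ⟨_, rfl⟩)
  refine subset_trans ?_ h1
  rw [V.ι.isOpenEmbedding.isEmbedding.closure_eq_preimage_closure_image, Set.image_singleton, hpt]
  intro v _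
  have : closure ({genericPoint X} : Set X) = Set.univ := (genericPoint_spec X).def
  change V.ι v ∈ closure {genericPoint X}
  rw [this]
  trivial

/-- Extension of a morphism defined on a nonempty open of an integral scheme to a neighbourhood of a
point whose local ring is a valuation ring, the target being proper. -/
theorem exists_extension (U : X.Opens) (hU : (U : Set X).Nonempty) (f : U.toScheme ⟶ Y)
    (hf : f ≫ sY = U.ι ≫ sX) (x : X) [ValuationRing (X.presheaf.stalk x)] :
    ∃ (U' : X.Opens) (hUU' : U ≤ U') (f' : U'.toScheme ⟶ Y), x ∈ U' ∧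
      f' ≫ sY = U'.ι ≫ sX ∧ X.homOfLE hUU' ≫ f' = f := by
  have hη : genericPoint X ∈ U :=
    ((genericPoint_spec X).mem_open_set_iff U.isOpen).mpr (by simpa using hU)
  obtain ⟨l, hl, hlη⟩ := exists_lift_stalk sX sY U hη f hf x
  obtain ⟨W, hxW, g, hlg, hg⟩ := spread_out_of_isGermInjective' sX sY l hl
  have hηW : genericPoint X ∈ W :=
    ((genericPoint_spec X).mem_open_set_iff W.isOpen).mpr ⟨x, trivial, hxW⟩
  -- agreement on the intersection
  have hagree : X.homOfLE (inf_le_left : U ⊓ W ≤ U) ≫ f =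
      X.homOfLE (inf_le_right : U ⊓ W ≤ W) ≫ g := by
    have hηV : genericPoint X ∈ U ⊓ W := ⟨hη, hηW⟩
    have := isDominant_fromSpecStalkOfMem (U ⊓ W) hηV
    refine ext_of_isDominant_of_isSeparated sY ?_
      ((U ⊓ W).fromSpecStalkOfMem (genericPoint X) hηV) ?_
    · rw [Category.assoc, Category.assoc, hf, hg, Scheme.homOfLE_ι_assoc, Scheme.homOfLE_ι_assoc]
    · have e1 : (U ⊓ W).fromSpecStalkOfMem (genericPoint X) hηV ≫
          X.homOfLE (inf_le_left : U ⊓ W ≤ U) = U.fromSpecStalkOfMem (genericPoint X) hη := by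
        rw [← cancel_mono U.ι, Category.assoc, Scheme.homOfLE_ι,
          Scheme.Opens.fromSpecStalkOfMem_ι, Scheme.Opens.fromSpecStalkOfMem_ι]
      have e2 : (U ⊓ W).fromSpecStalkOfMem (genericPoint X) hηV ≫
          X.homOfLE (inf_le_right : U ⊓ W ≤ W) = W.fromSpecStalkOfMem (genericPoint X) hηW := by
        rw [← cancel_mono W.ι, Category.assoc, Scheme.homOfLE_ι,
          Scheme.Opens.fromSpecStalkOfMem_ι, Scheme.Opens.fromSpecStalkOfMem_ι]
      have e3 : Spec.map (X.presheaf.stalkSpecializes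
          ((genericPoint_spec X).specializes trivial)) ≫ W.fromSpecStalkOfMem x hxW =
          W.fromSpecStalkOfMem (genericPoint X) hηW := by
        rw [← cancel_mono W.ι, Category.assoc, Scheme.Opens.fromSpecStalkOfMem_ι,
          Scheme.Opens.fromSpecStalkOfMem_ι, Scheme.SpecMap_stalkSpecializes_fromSpecStalk]
      rw [← Category.assoc, ← Category.assoc, e1, e2, ← hlη, hlg, ← Category.assoc, e3]
  obtain ⟨f', hf'U, hf'W⟩ := exists_glue U W f g hagree
  refine ⟨⨆ b, pair U W b, le_iSup (pair U W) true, f', ?_, ?_, hf'U⟩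
  · exact TopologicalSpace.Opens.mem_iSup.mpr ⟨false, hxW⟩
  · apply (Scheme.Opens.iSupOpenCover (pair U W)).hom_ext
    intro b
    cases b
    · change X.homOfLE (le_iSup (pair U W) false) ≫ f' ≫ sY =
        X.homOfLE (le_iSup (pair U W) false) ≫ (⨆ b, pair U W b).ι ≫ sX
      rw [← Category.assoc, hf'W, hg, Scheme.homOfLE_ι_assoc]
      rfl
    · change X.homOfLE (le_iSup (pair U W) true) ≫ f' ≫ sY =
        X.homOfLE (le_iSup (pair U W) true) ≫ (⨆ b, pair U W b).ι ≫ sX
      rw [← Category.assoc, hf'U, hf, Scheme.homOfLE_ι_assoc]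
      rfl


end Main

end Groth.Agent.Lib.Seat29.CurveExt
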