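import Mathlib

/-!
# Countability of the bounded derived category of a countable abelian category (helper29)

If an abelian category `A` has countable Hom sets and countably many isomorphism classes of objects, then so
does `D^b(A)` (`main`).  Strictly bounded complexes are enumerated up to isomorphism by a countable type of
data (`Dat`, `cx`, `exists_iso_cx`), morphisms of complexes out of them are countable
(`countable_hom_cx`), and morphisms in the derived category are right fractions with a strictly bounded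
middle term (`countable_hom_Q`, using Mathlib's `right_fac_of_isStrictlyLE_of_isStrictlyGE`).
-/

set_option linter.unusedSectionVars false

set_option autoImplicit false
universe w v u
open CategoryTheory CategoryTheory.Limits

namespace Groth.Agent.Lib.Seat29.DbCount

variable {A : Type u} [Category.{v} A] [Abelian A]

section Enum

variable (e : ℕ → A) (he0 : IsZero (e 0))

/-- The differentials for a given finitely supported index function. -/
abbrev Diff (n : ℤ →₀ ℕ) : Type v := ∀ i : ℤ, e (n i) ⟶ e (n (i + 1))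

include he0 in
lemma countable_diff (hhom : ∀ X Y : A, Countable (X ⟶ Y)) (n : ℤ →₀ ℕ) :
    Countable (Diff e n) := by
  let r : Diff e n → (∀ i : n.support, e (n i) ⟶ e (n ((i : ℤ) + 1))) := fun d i => d i
  have hr : Function.Injective r := by
    intro d d' h
    funext i
    by_cases hi : i ∈ n.support
    · exact congrFun h ⟨i, hi⟩
    · have : n i = 0 := by simpa using hi
      have hz : IsZero (e (n i)) := by rw [this]; exact he0
      exact hz.eq_of_src _ _
  exact hr.countable

/-- The data of a bounded complex with terms among the `e n`. -/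
abbrev Dat : Type v :=
  Σ (n : ℤ →₀ ℕ), {d : Diff e n // ∀ i, d i ≫ d (i + 1) = 0}

include he0 in
lemma countable_dat (hhom : ∀ X Y : A, Countable (X ⟶ Y)) : Countable (Dat e) := by
  have : ∀ n : ℤ →₀ ℕ, Countable {d : Diff e n // ∀ i, d i ≫ d (i + 1) = 0} := fun n => by
    have := countable_diff e he0 hhom n
    infer_instance
  infer_instance

lemma nonempty_dat : Nonempty (Dat e) :=
  ⟨⟨(0 : ℤ →₀ ℕ), ⟨fun _ => 0, fun _ => comp_zero⟩⟩⟩

/-- The complex attached to a datum. -/
noncomputable def cx (t : Dat e) : CochainComplex A ℤ :=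
  CochainComplex.of (fun i => e (t.1 i)) t.2.1 t.2.2

include he0 in
lemma cx_isZero (t : Dat e) (i : ℤ) (hi : i ∉ t.1.support) : IsZero ((cx e t).X i) := by
  have : t.1 i = 0 := by simpa using hi
  change IsZero (e (t.1 i))
  rw [this]
  exact he0

include he0 in
lemma exists_iso_cx (he : ∀ X : A, ∃ n, Nonempty (X ≅ e n)) (K : CochainComplex A ℤ) (a b : ℤ)
    [K.IsStrictlyGE a] [K.IsStrictlyLE b] : ∃ t : Dat e, Nonempty (K ≅ cx e t) := by
  classical
  have h1 : ∀ i : ℤ, ∃ m : ℕ, Nonempty (K.X i ≅ e m) ∧ (i ∉ Finset.Icc a b → m = 0) := by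
    intro i
    by_cases hi : i ∈ Finset.Icc a b
    · obtain ⟨m, hm⟩ := he (K.X i)
      exact ⟨m, hm, fun h => absurd hi h⟩
    · have hz : IsZero (K.X i) := by
        rw [Finset.mem_Icc, not_and_or] at hi
        rcases hi with hi | hi
        · exact K.isZero_of_isStrictlyGE a i (by omega)
        · exact K.isZero_of_isStrictlyLE b i (by omega)
      exact ⟨0, ⟨hz.iso he0⟩, fun _ => rfl⟩
  choose nn hnn using h1
  have hfin : (Function.support nn).Finite :=
    (Finset.Icc a b).finite_toSet.subset (fun i hi => by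
      by_contra h
      exact hi ((hnn i).2 h))
  let n : ℤ →₀ ℕ := Finsupp.ofSupportFinite nn hfin
  let φ : ∀ i, K.X i ≅ e (n i) := fun i => (hnn i).1.some
  let d : Diff e n := fun i => (φ i).inv ≫ K.d i (i + 1) ≫ (φ (i + 1)).hom
  have sq : ∀ i, d i ≫ d (i + 1) = 0 := by
    intro i
    simp [d]
  refine ⟨⟨n, d, sq⟩, ⟨HomologicalComplex.Hom.isoOfComponents φ ?_⟩⟩
  intro i j hij
  obtain rfl : i + 1 = j := hij
  simp [cx, d]

include he0 in
lemma countable_hom_cx (hhom : ∀ X Y : A, Countable (X ⟶ Y)) (t : Dat e) (L : CochainComplex A ℤ) :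
    Countable (cx e t ⟶ L) := by
  let r : (cx e t ⟶ L) → (∀ i : t.1.support, (cx e t).X i ⟶ L.X i) := fun f i => f.f i
  have hr : Function.Injective r := by
    intro f f' h
    ext i
    by_cases hi : i ∈ t.1.support
    · exact congrFun h ⟨i, hi⟩
    · exact (cx_isZero e he0 t i hi).eq_of_src _ _
  exact hr.countable

lemma exists_bounds (S : Finset ℤ) : ∃ a b : ℤ, ∀ n ∈ S, a ≤ n ∧ n ≤ b := by
  classical
  obtain ⟨b, hb⟩ := Finset.exists_le S
  obtain ⟨a, ha⟩ := Finset.exists_le (S.image (fun n => -n))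
  refine ⟨-a, b, fun n hn => ⟨?_, hb n hn⟩⟩
  have := ha (-n) (Finset.mem_image_of_mem _ hn)
  omega

include he0 in
lemma cx_strictly_bounded (t : Dat e) :
    ∃ a b : ℤ, (cx e t).IsStrictlyGE a ∧ (cx e t).IsStrictlyLE b := by
  obtain ⟨a, b, hab⟩ := exists_bounds t.1.support
  refine ⟨a, b, ?_, ?_⟩
  · rw [CochainComplex.isStrictlyGE_iff]
    intro i hi
    exact cx_isZero e he0 t i (fun h => by have := hab i h; omega)
  · rw [CochainComplex.isStrictlyLE_iff]
    intro i hi
    exact cx_isZero e he0 t i (fun h => by have := hab i h; omega)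

section Derived

variable [HasDerivedCategory.{w} A]

open DerivedCategory

include he0 in
lemma countable_hom_Q (hhom : ∀ X Y : A, Countable (X ⟶ Y))
    (he : ∀ X : A, ∃ n, Nonempty (X ≅ e n)) (K L : CochainComplex A ℤ) (a b a' : ℤ)
    [K.IsStrictlyGE a] [K.IsStrictlyLE b] [L.IsStrictlyGE a'] :
    Countable (Q.obj K ⟶ Q.obj L) := by
  have hK : K.IsStrictlyGE (min a a') := K.isStrictlyGE_of_ge (min a a') a (min_le_left _ _)
  have hL : L.IsStrictlyGE (min a a') := L.isStrictlyGE_of_ge (min a a') a' (min_le_right _ _)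
  have := countable_dat e he0 hhom
  have : ∀ t : Dat e, Countable (cx e t ⟶ K) := fun t => countable_hom_cx e he0 hhom t K
  have : ∀ t : Dat e, Countable (cx e t ⟶ L) := fun t => countable_hom_cx e he0 hhom t L
  let I := Σ t : Dat e, {s : cx e t ⟶ K // IsIso (Q.map s)} × (cx e t ⟶ L)
  let Φ : I → (Q.obj K ⟶ Q.obj L) := fun x =>
    haveI := x.2.1.2
    inv (Q.map x.2.1.1) ≫ Q.map x.2.2
  have hΦ : Function.Surjective Φ := by
    intro f
    obtain ⟨X', h1, h2, s, hs, g, hf⟩ :=
      right_fac_of_isStrictlyLE_of_isStrictlyGE (min a a') b f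
    obtain ⟨t, ⟨ψ⟩⟩ := exists_iso_cx e he0 he X' (min a a') b
    have hs' : IsIso (Q.map (ψ.inv ≫ s)) := by
      rw [Q.map_comp]
      infer_instance
    refine ⟨⟨t, ⟨ψ.inv ≫ s, hs'⟩, ψ.inv ≫ g⟩, ?_⟩
    dsimp only [Φ]
    rw [hf]
    simp only [Functor.map_comp, IsIso.inv_comp, Category.assoc, IsIso.inv_hom_id_assoc]
  exact hΦ.countable

end Derived

end Enum

section Main

open DerivedCategory ZeroObject

theorem main [HasDerivedCategory.{w} A]
    (hhom : ∀ X Y : A, Countable (X ⟶ Y))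
    (hiso : ∃ e : ℕ → A, ∀ X : A, ∃ n : ℕ, Nonempty (X ≅ e n)) :
    (∀ K L : DerivedCategory.Bounded A, Countable (K ⟶ L)) ∧
      ∃ e : ℕ → DerivedCategory.Bounded A, ∀ K : DerivedCategory.Bounded A,
        ∃ n : ℕ, Nonempty (K ≅ e n) := by
  obtain ⟨e₀, he₀⟩ := hiso
  let e : ℕ → A := fun n => Nat.casesOn n (0 : A) e₀
  have he0 : IsZero (e 0) := isZero_zero A
  have he : ∀ X : A, ∃ n, Nonempty (X ≅ e n) := fun X => by
    obtain ⟨n, hn⟩ := he₀ X
    exact ⟨n + 1, hn⟩
  have key : ∀ K : DerivedCategory.Bounded A, ∃ t : Dat e, Nonempty (K.obj ≅ Q.obj (cx e t)) := by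
    intro K
    obtain ⟨⟨a, ha⟩, ⟨b, hb⟩⟩ := K.property
    obtain ⟨K', _, _, ⟨φ⟩⟩ := exists_iso_Q_obj_of_isGE_of_isLE K.obj a b
    obtain ⟨t, ⟨ψ⟩⟩ := exists_iso_cx e he0 he K' a b
    exact ⟨t, ⟨φ ≪≫ Q.mapIso ψ⟩⟩
  constructor
  · intro K L
    obtain ⟨t, ⟨φ⟩⟩ := key K
    obtain ⟨t', ⟨φ'⟩⟩ := key L
    obtain ⟨a, b, _, _⟩ := cx_strictly_bounded e he0 t
    obtain ⟨a', b', _, _⟩ := cx_strictly_bounded e he0 t'
    have := countable_hom_Q e he0 hhom he (cx e t) (cx e t') a b a'
    refine Function.Injective.countable (f := fun f : K ⟶ L => φ.inv ≫ f.hom ≫ φ'.hom) ?_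
    intro f f' h
    apply ObjectProperty.hom_ext
    simpa using h
  · have : Nonempty (Dat e) := nonempty_dat e
    have := countable_dat e he0 hhom
    obtain ⟨σ, hσ⟩ := exists_surjective_nat (Dat e)
    have hb : ∀ t : Dat e, (TStructure.t : Triangulated.TStructure (DerivedCategory A)).bounded
        (Q.obj (cx e t)) := by
      intro t
      obtain ⟨a, b, h1, h2⟩ := cx_strictly_bounded e he0 t
      exact ⟨⟨a, (isGE_Q_obj_iff _ _).2 inferInstance⟩, ⟨b, (isLE_Q_obj_iff _ _).2 inferInstance⟩⟩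
    refine ⟨fun n => ⟨Q.obj (cx e (σ n)), hb _⟩, fun K => ?_⟩
    obtain ⟨t, ⟨φ⟩⟩ := key K
    obtain ⟨n, rfl⟩ := hσ t
    exact ⟨n, ⟨ObjectProperty.isoMk _ φ⟩⟩

end Main

end Groth.Agent.Lib.Seat29.DbCount
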