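import Mathlib
import Groth.Agent.Lib.Helper26StalkLim

/-!
# Dévissage of a property of schemes over `T` to a field (seat 29)

Abstract setting for statement S6666: a property `P` of morphisms `T' ⟶ T` which is insensitive to
thickenings, passes to cofiltered limits with affine transition maps and satisfies the
"open or closed" dichotomy descends to the spectrum of a field.
-/

set_option autoImplicit false
set_option linter.unusedSectionVars false
set_option linter.unusedVariables false

universe u

open CategoryTheory AlgebraicGeometry Limits TopologicalSpace Opposite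

namespace Groth.Agent.Lib.Seat29.Devissage

variable {T : Scheme.{u}}

section Instances

variable [CompactSpace T] [QuasiSeparatedSpace T]

lemma compactSpace_subscheme (I : T.IdealSheafData) : CompactSpace I.subscheme :=
  QuasiCompact.compactSpace_of_compactSpace I.subschemeι

lemma quasiSeparatedSpace_subscheme (I : T.IdealSheafData) : QuasiSeparatedSpace I.subscheme :=
  quasiSeparatedSpace_of_quasiSeparated I.subschemeι

end Instances

section Hyp

variable (P : ∀ ⦃T' : Scheme.{u}⦄, (T' ⟶ T) → Prop)
  (h1 : ∀ ⦃T' T'' : Scheme.{u}⦄ (a : T' ⟶ T) (t : T'' ⟶ T') [IsClosedImmersion t] [Surjective t]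
    [CompactSpace T'] [QuasiSeparatedSpace T'] [CompactSpace T''] [QuasiSeparatedSpace T''],
    P (t ≫ a) ↔ P a)

include h1 in
/-- `P` is invariant under isomorphisms of the source. -/
lemma iso_inv {T' T'' : Scheme.{u}} (a : T' ⟶ T) (e : T'' ⟶ T') [IsIso e]
    [CompactSpace T'] [QuasiSeparatedSpace T'] : P (e ≫ a) ↔ P a := by
  have : CompactSpace T'' := QuasiCompact.compactSpace_of_compactSpace e
  have : QuasiSeparatedSpace T'' := quasiSeparatedSpace_of_quasiSeparated e
  exact h1 a e

end Hyp

section Chain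

variable [CompactSpace T] [QuasiSeparatedSpace T]
  (P : ∀ ⦃T' : Scheme.{u}⦄, (T' ⟶ T) → Prop)
  (h2 : ∀ ⦃I : Type u⦄ [SmallCategory I] [IsCofiltered I] (D : I ⥤ Over T) (c : Limits.Cone D)
    (_ : Limits.IsLimit c),
    (∀ (i j : I) (m : i ⟶ j), IsAffineHom (D.map m).left) →
    (∀ i, CompactSpace (D.obj i).left ∧ QuasiSeparatedSpace (D.obj i).left) →
    (∀ i, P (D.obj i).hom) → P c.pt.hom)

/-- The set of ideal sheaves whose closed subscheme is nonempty and satisfies `P`. -/
def goodIdeals : Set T.IdealSheafData := {I | Nonempty I.subscheme ∧ P I.subschemeι}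

variable (C : Set T.IdealSheafData)

/-- The diagram of closed subschemes attached to a set of ideal sheaves. -/
noncomputable abbrev chainDiagram : (↥C)ᵒᵖ ⥤ Over T where
  obj i := Over.mk i.unop.1.subschemeι
  map {i j} f := Over.homMk (Scheme.IdealSheafData.inclusion (leOfHom f.unop))
    (Scheme.IdealSheafData.inclusion_subschemeι _)
  map_id i := by
    apply Over.OverMorphism.ext
    exact Scheme.IdealSheafData.inclusion_id _
  map_comp f g := by
    apply Over.OverMorphism.ext
    exact (Scheme.IdealSheafData.inclusion_comp _ _).symm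

/-- The cone over `chainDiagram` with vertex the closed subscheme of the supremum. -/
noncomputable abbrev chainCone : Cone (chainDiagram C) where
  pt := Over.mk (sSup C).subschemeι
  π :=
    { app := fun i => Over.homMk (Scheme.IdealSheafData.inclusion (le_sSup i.unop.2))
        (Scheme.IdealSheafData.inclusion_subschemeι _)
      naturality := fun i j f => by
        apply Over.OverMorphism.ext
        change 𝟙 _ ≫ Scheme.IdealSheafData.inclusion _ =
          Scheme.IdealSheafData.inclusion _ ≫ Scheme.IdealSheafData.inclusion _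
        rw [Category.id_comp, Scheme.IdealSheafData.inclusion_comp] }

lemma leg_comp (s : Cone (chainDiagram C)) (i : (↥C)ᵒᵖ) :
    (s.π.app i).left ≫ i.unop.1.subschemeι = s.pt.hom :=
  Over.w (s.π.app i)

lemma sSup_le_ker (s : Cone (chainDiagram C)) :
    (sSup C).subschemeι.ker ≤ s.pt.hom.ker := by
  rw [Scheme.IdealSheafData.ker_subschemeι]
  refine sSup_le (fun I hI => ?_)
  have h := leg_comp C s (op ⟨I, hI⟩)
  change (s.π.app (op ⟨I, hI⟩)).left ≫ I.subschemeι = s.pt.hom at h
  rw [← h]
  refine le_trans ?_ (Scheme.Hom.le_ker_comp _ _)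
  rw [Scheme.IdealSheafData.ker_subschemeι]

/-- The lift of a cone to the subscheme of the supremum. -/
noncomputable def chainLift (s : Cone (chainDiagram C)) : s.pt.left ⟶ (sSup C).subscheme :=
  IsClosedImmersion.lift (sSup C).subschemeι s.pt.hom (sSup_le_ker C s)

lemma chainLift_fac (s : Cone (chainDiagram C)) :
    chainLift C s ≫ (sSup C).subschemeι = s.pt.hom :=
  IsClosedImmersion.lift_fac _ _ _

/-- `chainCone` is a limit cone. -/
noncomputable def chainConeIsLimit : IsLimit (chainCone C) where
  lift s := Over.homMk (U := s.pt) (V := Over.mk (sSup C).subschemeι) (chainLift C s)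
    (chainLift_fac C s)
  fac s i := by
    apply Over.OverMorphism.ext
    change chainLift C s ≫ Scheme.IdealSheafData.inclusion (le_sSup i.unop.2) = (s.π.app i).left
    rw [← cancel_mono i.unop.1.subschemeι, Category.assoc,
      Scheme.IdealSheafData.inclusion_subschemeι, chainLift_fac]
    exact (leg_comp C s i).symm
  uniq s m hm := by
    apply Over.OverMorphism.ext
    change m.left = chainLift C s
    have h' : m.left ≫ (sSup C).subschemeι = s.pt.hom := Over.w m
    rw [← cancel_mono (sSup C).subschemeι, h']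
    exact (chainLift_fac C s).symm

attribute [local instance] IsCofiltered.isConnected in
include h2 in
/-- The supremum of a nonempty chain of good ideals is good. -/
lemma sSup_mem_goodIdeals (hC : IsChain (· ≤ ·) C) (hne : C.Nonempty)
    (hCS : C ⊆ goodIdeals P) : sSup C ∈ goodIdeals P := by
  have : Nonempty ↥C := hne.to_subtype
  have : IsDirectedOrder ↥C := directedOn_iff_isDirectedOrder.mp hC.directedOn
  have hcof : IsCofiltered (↥C)ᵒᵖ := inferInstance
  have haff : ∀ (i j : (↥C)ᵒᵖ) (m : i ⟶ j), IsAffineHom ((chainDiagram C).map m).left := by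
    intro i j m
    change IsAffineHom (Scheme.IdealSheafData.inclusion (leOfHom m.unop))
    have : IsClosedImmersion (Scheme.IdealSheafData.inclusion (leOfHom m.unop)) := by
      apply IsClosedImmersion.of_comp_isClosedImmersion _ j.unop.1.subschemeι
    infer_instance
  refine ⟨?_, ?_⟩
  · have hlim : IsLimit ((Over.forget T).mapCone (chainCone C)) :=
      isLimitOfPreserves (Over.forget T) (chainConeIsLimit C)
    have : ∀ {i j : (↥C)ᵒᵖ} (f : i ⟶ j), IsAffineHom ((chainDiagram C ⋙ Over.forget T).map f) :=
      fun f => haff _ _ f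
    have : ∀ i : (↥C)ᵒᵖ, Nonempty ((chainDiagram C ⋙ Over.forget T).obj i) :=
      fun i => (hCS i.unop.2).1
    have : ∀ i : (↥C)ᵒᵖ, CompactSpace ((chainDiagram C ⋙ Over.forget T).obj i) :=
      fun i => compactSpace_subscheme i.unop.1
    exact Scheme.nonempty_of_isLimit (chainDiagram C ⋙ Over.forget T) _ hlim
  · exact h2 (chainDiagram C) (chainCone C) (chainConeIsLimit C) haff
      (fun i => ⟨compactSpace_subscheme i.unop.1, quasiSeparatedSpace_subscheme i.unop.1⟩)
      (fun i => (hCS i.unop.2).2)


end Chain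

section Main

variable [CompactSpace T] [QuasiSeparatedSpace T]
  (P : ∀ ⦃T' : Scheme.{u}⦄, (T' ⟶ T) → Prop)
  (h1 : ∀ ⦃T' T'' : Scheme.{u}⦄ (a : T' ⟶ T) (t : T'' ⟶ T') [IsClosedImmersion t] [Surjective t]
    [CompactSpace T'] [QuasiSeparatedSpace T'] [CompactSpace T''] [QuasiSeparatedSpace T''],
    P (t ≫ a) ↔ P a)
  (h2 : ∀ ⦃I : Type u⦄ [SmallCategory I] [IsCofiltered I] (D : I ⥤ Over T) (c : Limits.Cone D)
    (_ : Limits.IsLimit c),
    (∀ (i j : I) (m : i ⟶ j), IsAffineHom (D.map m).left) →
    (∀ i, CompactSpace (D.obj i).left ∧ QuasiSeparatedSpace (D.obj i).left) →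
    (∀ i, P (D.obj i).hom) → P c.pt.hom)
  (h3 : ∀ ⦃T' Z V : Scheme.{u}⦄ (a : T' ⟶ T) [CompactSpace T'] [QuasiSeparatedSpace T']
    (i : Z ⟶ T') [IsClosedImmersion i] (j : V ⟶ T') [IsOpenImmersion j] [CompactSpace V],
    Set.range j = (Set.range i)ᶜ → P a → P (j ≫ a) ∨ P (i ≫ a))

include h1 in
lemma bot_mem_goodIdeals [Nonempty T] (hT : P (𝟙 T)) : (⊥ : T.IdealSheafData) ∈ goodIdeals P := by
  refine ⟨?_, ?_⟩
  · obtain ⟨x⟩ := ‹Nonempty T›
    exact ⟨(inv (Scheme.IdealSheafData.subschemeι (⊥ : T.IdealSheafData))) x⟩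
  · have := iso_inv P h1 (𝟙 T) (Scheme.IdealSheafData.subschemeι (⊥ : T.IdealSheafData))
    rw [Category.comp_id] at this
    exact this.mpr hT

include h1 h2 in
lemma exists_maximal_goodIdeal [Nonempty T] (hT : P (𝟙 T)) :
    ∃ I₀, Maximal (· ∈ goodIdeals P) I₀ := by
  obtain ⟨m, -, hm⟩ := zorn_le_nonempty₀ (goodIdeals P)
    (fun c hc hchain y hy => ⟨sSup c, sSup_mem_goodIdeals P h2 c hchain ⟨y, hy⟩ hc,
      fun z hz => le_sSup hz⟩) ⊥ (bot_mem_goodIdeals P h1 hT)
  exact ⟨m, hm⟩

include h1 h3 in
/-- Every nonempty quasi-compact open of a minimal good closed subscheme satisfies `P`. -/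
lemma P_opens (I₀ : T.IdealSheafData) (hI₀ : Maximal (· ∈ goodIdeals P) I₀)
    (V : I₀.subscheme.Opens) (hVc : IsCompact (V : Set I₀.subscheme))
    (hVne : (V : Set I₀.subscheme).Nonempty) : P (V.ι ≫ I₀.subschemeι) := by
  have : CompactSpace I₀.subscheme := compactSpace_subscheme I₀
  have : QuasiSeparatedSpace I₀.subscheme := quasiSeparatedSpace_subscheme I₀
  by_cases hVtop : V = ⊤
  · subst hVtop
    have : IsIso (⊤ : I₀.subscheme.Opens).ι := by
      rw [← Scheme.topIso_hom]
      infer_instance
    exact (iso_inv P h1 I₀.subschemeι (⊤ : I₀.subscheme.Opens).ι).mpr hI₀.1.2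
  have : CompactSpace V := isCompact_iff_compactSpace.mp hVc
  let Zc : Closeds I₀.subscheme := ⟨(V : Set _)ᶜ, V.isOpen.isClosed_compl⟩
  have hZne : (Zc : Set I₀.subscheme).Nonempty := by
    by_contra hcon
    apply hVtop
    rw [Set.not_nonempty_iff_eq_empty] at hcon
    ext x
    simp only [Opens.coe_top, Set.mem_univ, iff_true]
    by_contra hx
    have : x ∈ (Zc : Set I₀.subscheme) := hx
    rw [hcon] at this
    exact this
  let J' := Scheme.IdealSheafData.vanishingIdeal Zc
  have hrJ' : Set.range J'.subschemeι = (V : Set I₀.subscheme)ᶜ := by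
    rw [Scheme.IdealSheafData.range_subschemeι, Scheme.IdealSheafData.coe_support_vanishingIdeal]
    rfl
  have hrange : Set.range V.ι = (Set.range J'.subschemeι)ᶜ := by
    rw [hrJ', compl_compl, Scheme.Opens.range_ι]
  rcases h3 I₀.subschemeι J'.subschemeι V.ι hrange hI₀.1.2 with h | h
  · exact h
  · exfalso
    have hJ'ne : Nonempty J'.subscheme := Set.nonempty_coe_sort.mpr hZne
    let g : J'.subscheme ⟶ T := J'.subschemeι ≫ I₀.subschemeι
    have hle : I₀ ≤ g.ker := by
      conv_lhs => rw [← I₀.ker_subschemeι]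
      exact Scheme.Hom.le_ker_comp _ _
    have hJ : g.ker ∈ goodIdeals P := by
      refine ⟨?_, ?_⟩
      · obtain ⟨w⟩ := hJ'ne
        exact ⟨g.toImage w⟩
      · have : CompactSpace g.ker.subscheme := compactSpace_subscheme _
        have : QuasiSeparatedSpace g.ker.subscheme := quasiSeparatedSpace_subscheme _
        have h' : P (g.toImage ≫ g.ker.subschemeι) := by
          rw [g.toImage_imageι]
          exact h
        exact (iso_inv P h1 g.ker.subschemeι g.toImage).mp h'
    have heq : g.ker = I₀ := le_antisymm (hI₀.2 hJ hle) hle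
    have hs : (g.ker.support : Set T) = I₀.support := by rw [heq]
    rw [Scheme.Hom.support_ker, g.isClosedEmbedding.isClosed_range.closure_eq,
      ← Scheme.IdealSheafData.range_subschemeι] at hs
    obtain ⟨v, hv⟩ := hVne
    have hmem : I₀.subschemeι v ∈ Set.range g := by
      rw [hs]
      exact ⟨v, rfl⟩
    obtain ⟨w, hw⟩ := hmem
    have hw' : I₀.subschemeι (J'.subschemeι w) = I₀.subschemeι v := hw
    have hinj := I₀.subschemeι.isEmbedding.injective hw'
    have : v ∈ Set.range J'.subschemeι := ⟨w, hinj⟩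
    rw [hrJ'] at this
    exact this hv


end Main

section Generic

/-- A nonempty scheme has a point without proper generizations (the generic point of an
irreducible component). -/
lemma exists_generic (X : Scheme.{u}) [Nonempty X] : ∃ z : X, ∀ y : X, y ⤳ z → y = z := by
  obtain ⟨x₀⟩ := ‹Nonempty X›
  obtain ⟨z, hz⟩ := QuasiSober.sober (isIrreducible_irreducibleComponent (x := x₀))
    isClosed_irreducibleComponent
  refine ⟨z, fun y hy => ?_⟩
  have hmax : Maximal IsIrreducible (irreducibleComponent x₀) :=
    irreducibleComponent_mem_irreducibleComponents x₀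
  have hy' : closure ({z} : Set X) ⊆ closure {y} := specializes_iff_closure_subset.mp hy
  have hirr : IsIrreducible (closure ({y} : Set X)) := isIrreducible_singleton.closure
  have hz' : closure ({z} : Set X) = irreducibleComponent x₀ := hz
  have hle : closure ({y} : Set X) ⊆ irreducibleComponent x₀ :=
    hmax.2 hirr (hz' ▸ hy')
  have hzy : z ⤳ y := specializes_iff_closure_subset.mpr (hz' ▸ hle)
  exact (hy.antisymm hzy).eq

/-- The spectrum of the local ring at a point without proper generizations is a singleton. -/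
lemma eq_closedPoint_of_generic (X : Scheme.{u}) (z : X) (hz : ∀ y : X, y ⤳ z → y = z)
    (q : Spec (X.presheaf.stalk z)) :
    q = IsLocalRing.closedPoint (X.presheaf.stalk z) := by
  apply (X.fromSpecStalk z).isEmbedding.injective
  have h1 : (X.fromSpecStalk z) q ∈ Set.range (X.fromSpecStalk z) := ⟨q, rfl⟩
  rw [Scheme.range_fromSpecStalk] at h1
  rw [hz _ h1, Scheme.fromSpecStalk_closedPoint]

lemma surjective_SpecMap_residue (X : Scheme.{u}) (z : X) (hz : ∀ y : X, y ⤳ z → y = z) :
    Surjective (Spec.map (X.residue z)) := by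
  constructor
  intro q
  have hne : Nonempty (Spec (X.residueField z)) := inferInstance
  obtain ⟨p⟩ := hne
  refine ⟨p, ?_⟩
  exact (eq_closedPoint_of_generic X z hz ((Spec.map (X.residue z)) p)).trans
    (eq_closedPoint_of_generic X z hz q).symm

end Generic

section Stalk

open Groth.Agent.Lib.Helper26.StalkLim

variable {Z : Scheme.{u}} (a : Z ⟶ T) (z : Z)

/-- The diagram of affine open neighbourhoods of `z`, over `T`. -/
noncomputable abbrev nhdDiagram : (AffNhd z)ᵒᵖ ⥤ Over T where
  obj i := Over.mk (toX z i ≫ a)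
  map {i j} f := Over.homMk ((specDiagram z).map f) (by
    exact map_toX_assoc z f a)
  map_id i := by
    apply Over.OverMorphism.ext
    exact (specDiagram z).map_id i
  map_comp f g := by
    apply Over.OverMorphism.ext
    exact (specDiagram z).map_comp f g

/-- The cone over `nhdDiagram` with vertex the spectrum of the local ring. -/
noncomputable abbrev nhdCone : Cone (nhdDiagram a z) where
  pt := Over.mk (Z.fromSpecStalk z ≫ a)
  π :=
    { app := fun i => Over.homMk ((specCone z).π.app i) (by
        exact π_toX_assoc z i a)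
      naturality := fun i j f => by
        apply Over.OverMorphism.ext
        exact (specCone z).π.naturality f }

/-- `nhdCone` is a limit cone. -/
noncomputable def nhdConeIsLimit : IsLimit (nhdCone a z) where
  lift s := Over.homMk (U := s.pt) (V := Over.mk (Z.fromSpecStalk z ≫ a))
    ((specIsLimit z).lift ((Over.forget T).mapCone s)) (by
      obtain ⟨i⟩ : Nonempty (AffNhd z)ᵒᵖ := inferInstance
      have h1 := (specIsLimit z).fac ((Over.forget T).mapCone s) i
      have h2 : (s.π.app i).left ≫ toX z i ≫ a = s.pt.hom := Over.w (s.π.app i)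
      change (specIsLimit z).lift ((Over.forget T).mapCone s) ≫ Z.fromSpecStalk z ≫ a = s.pt.hom
      rw [← π_toX z i, Category.assoc, ← Category.assoc, h1]
      exact h2)
  fac s i := by
    apply Over.OverMorphism.ext
    exact (specIsLimit z).fac ((Over.forget T).mapCone s) i
  uniq s m hm := by
    apply Over.OverMorphism.ext
    refine (specIsLimit z).uniq ((Over.forget T).mapCone s) m.left (fun i => ?_)
    exact congrArg (fun t => t.left) (hm i)

end Stalk

section Final

open Groth.Agent.Lib.Helper26.StalkLim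

variable [CompactSpace T] [QuasiSeparatedSpace T] [Nonempty T]
  (P : ∀ ⦃T' : Scheme.{u}⦄, (T' ⟶ T) → Prop)
  (h1 : ∀ ⦃T' T'' : Scheme.{u}⦄ (a : T' ⟶ T) (t : T'' ⟶ T') [IsClosedImmersion t] [Surjective t]
    [CompactSpace T'] [QuasiSeparatedSpace T'] [CompactSpace T''] [QuasiSeparatedSpace T''],
    P (t ≫ a) ↔ P a)
  (h2 : ∀ ⦃I : Type u⦄ [SmallCategory I] [IsCofiltered I] (D : I ⥤ Over T) (c : Limits.Cone D)
    (_ : Limits.IsLimit c),
    (∀ (i j : I) (m : i ⟶ j), IsAffineHom (D.map m).left) →
    (∀ i, CompactSpace (D.obj i).left ∧ QuasiSeparatedSpace (D.obj i).left) →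
    (∀ i, P (D.obj i).hom) → P c.pt.hom)
  (h3 : ∀ ⦃T' Z V : Scheme.{u}⦄ (a : T' ⟶ T) [CompactSpace T'] [QuasiSeparatedSpace T']
    (i : Z ⟶ T') [IsClosedImmersion i] (j : V ⟶ T') [IsOpenImmersion j] [CompactSpace V],
    Set.range j = (Set.range i)ᶜ → P a → P (j ≫ a) ∨ P (i ≫ a))

include h1 h2 h3 in
/-- Dévissage to the spectrum of a field. -/
theorem exists_field (hT : P (𝟙 T)) :
    ∃ (Z : Scheme.{u}) (a : Z ⟶ T) (z : Z), P (Spec.map (Z.residue z) ≫ Z.fromSpecStalk z ≫ a) := by
  obtain ⟨I₀, hI₀⟩ := exists_maximal_goodIdeal P h1 h2 hT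
  have hne : Nonempty I₀.subscheme := hI₀.1.1
  obtain ⟨z, hz⟩ := exists_generic I₀.subscheme
  refine ⟨I₀.subscheme, I₀.subschemeι, z, ?_⟩
  have hP : P (I₀.subscheme.fromSpecStalk z ≫ I₀.subschemeι) := by
    refine h2 (nhdDiagram I₀.subschemeι z) (nhdCone I₀.subschemeι z)
      (nhdConeIsLimit I₀.subschemeι z) ?_ ?_ ?_
    · intro i j m
      change IsAffineHom ((specDiagram z).map m)
      infer_instance
    · intro i
      have : IsAffine ((nhdDiagram I₀.subschemeι z).obj i).left := by
        change IsAffine ((specDiagram z).obj i)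
        infer_instance
      exact ⟨inferInstance, inferInstance⟩
    · intro i
      have hU : IsAffineOpen i.unop.U := i.unop.isAffine
      have hPU : P (i.unop.U.ι ≫ I₀.subschemeι) :=
        P_opens P h1 h3 I₀ hI₀ i.unop.U hU.isCompact ⟨z, i.unop.mem⟩
      have : IsAffine i.unop.U.toScheme := hU
      have h := (iso_inv P h1 (i.unop.U.ι ≫ I₀.subschemeι) hU.isoSpec.inv).mpr hPU
      rw [← Category.assoc, hU.isoSpec_inv_ι] at h
      exact h
  have := surjective_SpecMap_residue I₀.subscheme z hz
  exact (h1 (I₀.subscheme.fromSpecStalk z ≫ I₀.subschemeι) (Spec.map (I₀.subscheme.residue z))).mpr hP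

end Final

end Groth.Agent.Lib.Seat29.Devissage
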