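import Groth.Prelude.Def_DRing2
import Groth.Prelude.Def_DRing4
import Mathlib.Algebra.Homology.DerivedCategory.HomologySequence
import Mathlib.CategoryTheory.Monoidal.Rigid.Basic
import Mathlib.Algebra.Homology.Monoidal
import Mathlib.RingTheory.Finiteness.Prod
import Mathlib.LinearAlgebra.FreeModule.Finite.Basic

/-!
# Dualizable cochain complexes of modules are bounded with finite projective terms (helper29)

For `M N : CochainComplex (ModuleCat R) ℤ` with an `ExactPairing M N` (for Mathlib's monoidal structure on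
complexes), `M_side` and `N_side` show that both complexes vanish outside a finite interval and have
finitely generated projective terms.  The proof evaluates the two triangle identities in each degree on the
element `η(1)`, which is a finite sum of images of pure tensors (`span_gens_eq_top`), and reads off a finite
dual basis (`FinRank`).  Reusable pieces: `ι₁₂_eq`, `ι₂₃_eq`, `ι_assoc_hom`, `ι_assoc_inv`,
`ι_whiskerLeft`, `ι_whiskerRight`, `ι_leftUnitor_hom`, `ι_rightUnitor_hom` (componentwise description of the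
monoidal structure on complexes of modules), `span_gens_eq_top`, `FinRank`.
-/

set_option autoImplicit false
universe u
open CategoryTheory CategoryTheory.Limits MonoidalCategory HomologicalComplex

namespace Groth.Agent.Lib.Seat29.DualCx

variable {R : Type u} [CommRing R]

abbrev Cx (R : Type u) [CommRing R] := CochainComplex (ModuleCat.{u} R) ℤ

/-- The iso `(𝟙_).X 0 ≅ R`. -/
noncomputable abbrev unit0 (R : Type u) [CommRing R] : (𝟙_ (Cx R)).X 0 ≅ 𝟙_ (ModuleCat.{u} R) :=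
  singleObjXSelf (ComplexShape.up ℤ) 0 (𝟙_ (ModuleCat.{u} R))

lemma isZero_unit_X (i : ℤ) (hi : i ≠ 0) : IsZero ((𝟙_ (Cx R)).X i) :=
  isZero_single_obj_X (ComplexShape.up ℤ) 0 (𝟙_ (ModuleCat.{u} R)) i hi

variable (K₁ K₂ K₃ : Cx R)

/-- triple inclusion, left bracketing -/
lemma ι₁₂_eq (i₁ i₂ i₃ i₁₂ j : ℤ) (h₁₂ : i₁ + i₂ = i₁₂) (h : i₁₂ + i₃ = j) :
    (ιTensorObj K₁ K₂ i₁ i₂ i₁₂ h₁₂ ▷ K₃.X i₃) ≫ ιTensorObj (K₁ ⊗ K₂) K₃ i₁₂ i₃ j h =
      mapBifunctor₁₂.ι (curriedTensor (ModuleCat.{u} R)) (curriedTensor (ModuleCat.{u} R)) K₁ K₂ K₃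
        (ComplexShape.up ℤ) (ComplexShape.up ℤ) i₁ i₂ i₃ j (by subst h₁₂ h; rfl) :=
  (mapBifunctor₁₂.ι_eq (curriedTensor (ModuleCat.{u} R)) (curriedTensor (ModuleCat.{u} R)) K₁ K₂ K₃
        (ComplexShape.up ℤ) (ComplexShape.up ℤ) i₁ i₂ i₃ i₁₂ j h₁₂ h).symm

lemma ι₂₃_eq (i₁ i₂ i₃ i₂₃ j : ℤ) (h₂₃ : i₂ + i₃ = i₂₃) (h : i₁ + i₂₃ = j) :
    (K₁.X i₁ ◁ ιTensorObj K₂ K₃ i₂ i₃ i₂₃ h₂₃) ≫ ιTensorObj K₁ (K₂ ⊗ K₃) i₁ i₂₃ j h =
      mapBifunctor₂₃.ι (curriedTensor (ModuleCat.{u} R)) (curriedTensor (ModuleCat.{u} R)) K₁ K₂ K₃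
        (ComplexShape.up ℤ) (ComplexShape.up ℤ) (ComplexShape.up ℤ) i₁ i₂ i₃ j
        (by subst h₂₃ h; exact (add_assoc _ _ _)) :=
  (mapBifunctor₂₃.ι_eq (curriedTensor (ModuleCat.{u} R)) (curriedTensor (ModuleCat.{u} R)) K₁ K₂ K₃
        (ComplexShape.up ℤ) (ComplexShape.up ℤ) (ComplexShape.up ℤ) i₁ i₂ i₃ i₂₃ j h₂₃ h).symm

lemma ι_assoc_hom (i₁ i₂ i₃ j : ℤ) (h : i₁ + i₂ + i₃ = j) :
    mapBifunctor₁₂.ι (curriedTensor (ModuleCat.{u} R)) (curriedTensor (ModuleCat.{u} R)) K₁ K₂ K₃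
        (ComplexShape.up ℤ) (ComplexShape.up ℤ) i₁ i₂ i₃ j h ≫ (α_ K₁ K₂ K₃).hom.f j =
      (α_ (K₁.X i₁) (K₂.X i₂) (K₃.X i₃)).hom ≫
      mapBifunctor₂₃.ι (curriedTensor (ModuleCat.{u} R)) (curriedTensor (ModuleCat.{u} R)) K₁ K₂ K₃
        (ComplexShape.up ℤ) (ComplexShape.up ℤ) (ComplexShape.up ℤ) i₁ i₂ i₃ j h :=
  ι_mapBifunctorAssociatorX_hom (curriedAssociatorNatIso (ModuleCat.{u} R)) K₁ K₂ K₃
    (ComplexShape.up ℤ) (ComplexShape.up ℤ) (ComplexShape.up ℤ) i₁ i₂ i₃ j h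

lemma ι_assoc_inv (i₁ i₂ i₃ j : ℤ) (h : i₁ + i₂ + i₃ = j) :
    mapBifunctor₂₃.ι (curriedTensor (ModuleCat.{u} R)) (curriedTensor (ModuleCat.{u} R)) K₁ K₂ K₃
        (ComplexShape.up ℤ) (ComplexShape.up ℤ) (ComplexShape.up ℤ) i₁ i₂ i₃ j h ≫
          (α_ K₁ K₂ K₃).inv.f j =
      (α_ (K₁.X i₁) (K₂.X i₂) (K₃.X i₃)).inv ≫
      mapBifunctor₁₂.ι (curriedTensor (ModuleCat.{u} R)) (curriedTensor (ModuleCat.{u} R)) K₁ K₂ K₃
        (ComplexShape.up ℤ) (ComplexShape.up ℤ) i₁ i₂ i₃ j h := by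
  have h2 : (α_ K₁ K₂ K₃).hom.f j ≫ (α_ K₁ K₂ K₃).inv.f j = 𝟙 _ := by
    rw [← HomologicalComplex.comp_f, Iso.hom_inv_id, HomologicalComplex.id_f]
  rw [← cancel_epi (α_ (K₁.X i₁) (K₂.X i₂) (K₃.X i₃)).hom, ← Category.assoc, ← ι_assoc_hom,
    Category.assoc, h2, Iso.hom_inv_id_assoc]
  exact Category.comp_id _

lemma ι_whiskerLeft {L₁ L₂ : Cx R} (K : Cx R) (g : L₁ ⟶ L₂) (i₁ i₂ j : ℤ) (h : i₁ + i₂ = j) :
    ιTensorObj K L₁ i₁ i₂ j h ≫ (K ◁ g).f j = (K.X i₁ ◁ g.f i₂) ≫ ιTensorObj K L₂ i₁ i₂ j h := by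
  have := ι_mapBifunctorMap (𝟙 K) g (curriedTensor (ModuleCat.{u} R)) (ComplexShape.up ℤ) i₁ i₂ j h
  refine this.trans ?_
  simp

lemma ι_whiskerRight {L₁ L₂ : Cx R} (g : L₁ ⟶ L₂) (K : Cx R) (i₁ i₂ j : ℤ) (h : i₁ + i₂ = j) :
    ιTensorObj L₁ K i₁ i₂ j h ≫ (g ▷ K).f j = (g.f i₁ ▷ K.X i₂) ≫ ιTensorObj L₂ K i₁ i₂ j h := by
  have := ι_mapBifunctorMap g (𝟙 K) (curriedTensor (ModuleCat.{u} R)) (ComplexShape.up ℤ) i₁ i₂ j h
  refine this.trans ?_
  simp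

lemma ι_rightUnitor_hom (K : Cx R) (i : ℤ) :
    ιTensorObj K (𝟙_ (Cx R)) i 0 i (add_zero i) ≫ (ρ_ K).hom.f i =
      (K.X i ◁ (unit0 R).hom) ≫ (ρ_ (K.X i)).hom := by
  have h : (ρ_ K).inv.f i = (ρ_ (K.X i)).inv ≫ ((K.X i) ◁ (unit0 R).inv) ≫
      ιTensorObj K (𝟙_ (Cx R)) i 0 i (add_zero i) := rightUnitor'_inv K i
  have h2 : (ρ_ K).inv.f i ≫ (ρ_ K).hom.f i = 𝟙 _ := by
    rw [← HomologicalComplex.comp_f, Iso.inv_hom_id, HomologicalComplex.id_f]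
  rw [h] at h2
  simp only [Category.assoc] at h2
  rw [← cancel_epi ((ρ_ (K.X i)).inv ≫ ((K.X i) ◁ (unit0 R).inv))]
  simp only [Category.assoc]
  rw [h2]
  simp [← MonoidalCategory.whiskerLeft_comp_assoc]

lemma ι_leftUnitor_hom (K : Cx R) (i : ℤ) :
    ιTensorObj (𝟙_ (Cx R)) K 0 i i (zero_add i) ≫ (λ_ K).hom.f i =
      ((unit0 R).hom ▷ K.X i) ≫ (λ_ (K.X i)).hom := by
  have h : (λ_ K).inv.f i = (λ_ (K.X i)).inv ≫ ((unit0 R).inv ▷ (K.X i)) ≫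
      ιTensorObj (𝟙_ (Cx R)) K 0 i i (zero_add i) := leftUnitor'_inv K i
  have h2 : (λ_ K).inv.f i ≫ (λ_ K).hom.f i = 𝟙 _ := by
    rw [← HomologicalComplex.comp_f, Iso.inv_hom_id, HomologicalComplex.id_f]
  rw [h] at h2
  simp only [Category.assoc] at h2
  rw [← cancel_epi ((λ_ (K.X i)).inv ≫ ((unit0 R).inv ▷ (K.X i)))]
  simp only [Category.assoc]
  rw [h2]
  simp [← MonoidalCategory.comp_whiskerRight_assoc]

section Mside

variable (M N : Cx R) (ε : N ⊗ M ⟶ 𝟙_ (Cx R))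

/-- The composite used for the `M`-side triangle identity. -/
noncomputable def G (n : ℤ) :
    ((M ⊗ N).X 0 ⊗ M.X n : ModuleCat.{u} R) ⟶ M.X n :=
  ιTensorObj (M ⊗ N) M 0 n n (zero_add n) ≫ (α_ M N M).hom.f n ≫ (M ◁ ε).f n ≫ (ρ_ M).hom.f n

lemma whisker_ι_G (p q : ℤ) (h : p + q = 0) (n i₂₃ : ℤ) (h₂₃ : q + n = i₂₃) (hn : p + i₂₃ = n) :
    (ιTensorObj M N p q 0 h ▷ M.X n) ≫ G M N ε n =
      (α_ (M.X p) (N.X q) (M.X n)).hom ≫ (M.X p ◁ (ιTensorObj N M q n i₂₃ h₂₃ ≫ ε.f i₂₃)) ≫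
        ιTensorObj M (𝟙_ (Cx R)) p i₂₃ n hn ≫ (ρ_ M).hom.f n := by
  unfold G
  rw [← Category.assoc, ι₁₂_eq M N M p q n 0 n h (zero_add n), ← Category.assoc,
    ι_assoc_hom M N M p q n n (by omega), Category.assoc,
    ← ι₂₃_eq M N M p q n i₂₃ n h₂₃ hn, Category.assoc, ← Category.assoc _ _ ((ρ_ M).hom.f n),
    ι_whiskerLeft, Category.assoc, ← MonoidalCategory.whiskerLeft_comp_assoc]

lemma whisker_ι_G_of_ne (p q : ℤ) (h : p + q = 0) (n : ℤ) (hn : n ≠ p) :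
    (ιTensorObj M N p q 0 h ▷ M.X n) ≫ G M N ε n = 0 := by
  rw [whisker_ι_G M N ε p q h n (q + n) rfl (by omega)]
  have : ε.f (q + n) = 0 := (isZero_unit_X (q + n) (by omega)).eq_of_tgt _ _
  rw [this]
  simp

lemma whisker_ι_G_self (p q : ℤ) (h : p + q = 0) :
    (ιTensorObj M N p q 0 h ▷ M.X p) ≫ G M N ε p =
      (α_ (M.X p) (N.X q) (M.X p)).hom ≫
        (M.X p ◁ (ιTensorObj N M q p 0 (by omega) ≫ ε.f 0 ≫ (unit0 R).hom)) ≫
          (ρ_ (M.X p)).hom := by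
  rw [whisker_ι_G M N ε p q h p 0 (by omega) (by omega), ι_rightUnitor_hom,
    ← MonoidalCategory.whiskerLeft_comp_assoc, Category.assoc]

end Mside

section Nside

variable (M N : Cx R) (ε : N ⊗ M ⟶ 𝟙_ (Cx R))

/-- The composite used for the `N`-side triangle identity. -/
noncomputable def G' (n : ℤ) :
    (N.X n ⊗ (M ⊗ N).X 0 : ModuleCat.{u} R) ⟶ N.X n :=
  ιTensorObj N (M ⊗ N) n 0 n (add_zero n) ≫ (α_ N M N).inv.f n ≫ (ε ▷ N).f n ≫ (λ_ N).hom.f n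

lemma whisker_ι_G' (p q : ℤ) (h : p + q = 0) (n i₁₂ : ℤ) (h₁₂ : n + p = i₁₂) (hn : i₁₂ + q = n) :
    (N.X n ◁ ιTensorObj M N p q 0 h) ≫ G' M N ε n =
      (α_ (N.X n) (M.X p) (N.X q)).inv ≫ ((ιTensorObj N M n p i₁₂ h₁₂ ≫ ε.f i₁₂) ▷ N.X q) ≫
        ιTensorObj (𝟙_ (Cx R)) N i₁₂ q n hn ≫ (λ_ N).hom.f n := by
  unfold G'
  rw [← Category.assoc, ι₂₃_eq N M N n p q 0 n h (add_zero n), ← Category.assoc,
    ι_assoc_inv N M N n p q n (by omega), Category.assoc,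
    ← ι₁₂_eq N M N n p q i₁₂ n h₁₂ hn, Category.assoc, ← Category.assoc _ _ ((λ_ N).hom.f n),
    ι_whiskerRight, Category.assoc, ← MonoidalCategory.comp_whiskerRight_assoc]

lemma whisker_ι_G'_of_ne (p q : ℤ) (h : p + q = 0) (n : ℤ) (hn : n ≠ q) :
    (N.X n ◁ ιTensorObj M N p q 0 h) ≫ G' M N ε n = 0 := by
  rw [whisker_ι_G' M N ε p q h n (n + p) rfl (by omega)]
  have : ε.f (n + p) = 0 := (isZero_unit_X (n + p) (by omega)).eq_of_tgt _ _
  rw [this]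
  simp

lemma whisker_ι_G'_self (p q : ℤ) (h : p + q = 0) :
    (N.X q ◁ ιTensorObj M N p q 0 h) ≫ G' M N ε q =
      (α_ (N.X q) (M.X p) (N.X q)).inv ≫
        ((ιTensorObj N M q p 0 (by omega) ≫ ε.f 0 ≫ (unit0 R).hom) ▷ N.X q) ≫
          (λ_ (N.X q)).hom := by
  rw [whisker_ι_G' M N ε p q h q 0 (by omega) (by omega), ι_leftUnitor_hom,
    ← MonoidalCategory.comp_whiskerRight_assoc, Category.assoc]

end Nside

section Span

/-- The generators of `(K₁ ⊗ K₂).X j`: images of pure tensors. -/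
def gens (K₁ K₂ : Cx R) (j : ℤ) : Set ((K₁ ⊗ K₂).X j) :=
  {z | ∃ (p q : ℤ) (h : p + q = j) (a : K₁.X p) (b : K₂.X q),
      z = (ιTensorObj K₁ K₂ p q j h).hom (a ⊗ₜ[R] b)}

lemma span_gens_eq_top (K₁ K₂ : Cx R) (j : ℤ) :
    Submodule.span R (gens K₁ K₂ j) = ⊤ := by
  set S := Submodule.span R (gens K₁ K₂ j) with hS
  have hπ : ModuleCat.ofHom S.mkQ = 0 := by
    apply mapBifunctor.hom_ext
    intro p q h
    apply ModuleCat.MonoidalCategory.tensor_ext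
    intro a b
    have : (ιTensorObj K₁ K₂ p q j h).hom (a ⊗ₜ[R] b) ∈ S :=
      Submodule.subset_span ⟨p, q, h, a, b, rfl⟩
    simpa using this
  have h2 : S.mkQ = 0 := by
    have := congrArg ModuleCat.Hom.hom hπ
    simpa using this
  have h3 := Submodule.ker_mkQ S
  rw [h2, LinearMap.ker_zero] at h3
  exact h3.symm

end Span


section FinRank

variable {R : Type u} [CommRing R] {P : Type u} [AddCommGroup P] [Module R P]

/-- An endomorphism factoring through a finite free module. -/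
def FinRank (f : P →ₗ[R] P) : Prop :=
  ∃ (F : Type u) (_ : AddCommGroup F) (_ : Module R F) (_ : Module.Finite R F)
    (_ : Module.Free R F) (a : P →ₗ[R] F) (b : F →ₗ[R] P), f = b ∘ₗ a

lemma finRank_zero : FinRank (0 : P →ₗ[R] P) :=
  ⟨R, inferInstance, inferInstance, inferInstance, inferInstance, 0, 0, by simp⟩

lemma FinRank.add {f g : P →ₗ[R] P} (hf : FinRank f) (hg : FinRank g) : FinRank (f + g) := by
  obtain ⟨F, _, _, _, _, a, b, rfl⟩ := hf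
  obtain ⟨F', _, _, _, _, a', b', rfl⟩ := hg
  exact ⟨F × F', inferInstance, inferInstance, inferInstance, inferInstance, a.prod a',
    b.coprod b', (LinearMap.coprod_comp_prod _ _ _ _).symm⟩

lemma FinRank.smul {f : P →ₗ[R] P} (hf : FinRank f) (r : R) : FinRank (r • f) := by
  obtain ⟨F, _, _, _, _, a, b, rfl⟩ := hf
  exact ⟨F, inferInstance, inferInstance, inferInstance, inferInstance, r • a, b,
    (LinearMap.comp_smul _ _ _).symm⟩

lemma finRank_of_apply (ψ : P →ₗ[R] R) (m : P) (f : P →ₗ[R] P) (h : ∀ x, f x = ψ x • m) :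
    FinRank f :=
  ⟨R, inferInstance, inferInstance, inferInstance, inferInstance, ψ,
    LinearMap.toSpanSingleton R P m, by ext x; simp [h]⟩

lemma FinRank.finite_projective (h : FinRank (LinearMap.id : P →ₗ[R] P)) :
    Module.Finite R P ∧ Module.Projective R P := by
  obtain ⟨F, _, _, _, _, a, b, hab⟩ := h
  refine ⟨Module.Finite.of_surjective b fun x => ⟨a x, ?_⟩, Module.Projective.of_split a b hab.symm⟩
  exact (LinearMap.congr_fun hab x).symm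

end FinRank

section Apply

lemma self_apply (A B C : ModuleCat.{u} R) (ψ : B ⊗ C ⟶ 𝟙_ (ModuleCat.{u} R)) (a : A) (b : B) (c : C) :
    ((α_ A B C).hom ≫ (A ◁ ψ) ≫ (ρ_ A).hom).hom ((a ⊗ₜ[R] b) ⊗ₜ[R] c) =
      (ψ.hom (b ⊗ₜ[R] c) : R) • a := by
  rw [ModuleCat.hom_comp, ModuleCat.hom_comp, ModuleCat.hom_hom_associator, ModuleCat.hom_whiskerLeft,
    ModuleCat.hom_hom_rightUnitor]
  change (TensorProduct.rid R A) ((LinearMap.lTensor A ψ.hom)
    ((TensorProduct.assoc R A B C) ((a ⊗ₜ[R] b) ⊗ₜ[R] c))) = _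
  rw [TensorProduct.assoc_tmul, LinearMap.lTensor_tmul]
  exact TensorProduct.rid_tmul _ _

lemma self_apply' (A B C : ModuleCat.{u} R) (ψ : A ⊗ B ⟶ 𝟙_ (ModuleCat.{u} R)) (a : A) (b : B) (c : C) :
    ((α_ A B C).inv ≫ (ψ ▷ C) ≫ (λ_ C).hom).hom (a ⊗ₜ[R] (b ⊗ₜ[R] c)) =
      (ψ.hom (a ⊗ₜ[R] b) : R) • c := by
  rw [ModuleCat.hom_comp, ModuleCat.hom_comp, ModuleCat.hom_inv_associator, ModuleCat.hom_whiskerRight,
    ModuleCat.hom_hom_leftUnitor]
  change (TensorProduct.lid R C) ((LinearMap.rTensor C ψ.hom)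
    ((TensorProduct.assoc R A B C).symm (a ⊗ₜ[R] (b ⊗ₜ[R] c)))) = _
  rw [TensorProduct.assoc_symm_tmul, LinearMap.rTensor_tmul]
  exact TensorProduct.lid_tmul _ _

lemma unit_apply (A : ModuleCat.{u} R) (x : A) :
    (((unit0 R).hom ▷ A) ≫ (λ_ A).hom).hom (((unit0 R).inv.hom (1 : R)) ⊗ₜ[R] x) = x := by
  rw [ModuleCat.hom_comp, ModuleCat.hom_whiskerRight, ModuleCat.hom_hom_leftUnitor]
  change (TensorProduct.lid R A) ((LinearMap.rTensor A (unit0 R).hom.hom)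
    (((unit0 R).inv.hom (1 : R)) ⊗ₜ[R] x)) = _
  rw [LinearMap.rTensor_tmul]
  have : (unit0 R).hom.hom ((unit0 R).inv.hom (1 : R)) = (1 : R) := by
    have := congrArg (fun t => t.hom (1 : R)) (unit0 R).inv_hom_id
    exact this
  rw [this]
  exact (TensorProduct.lid_tmul _ _).trans (one_smul _ _)

lemma unit_apply' (A : ModuleCat.{u} R) (x : A) :
    ((A ◁ (unit0 R).hom) ≫ (ρ_ A).hom).hom (x ⊗ₜ[R] ((unit0 R).inv.hom (1 : R))) = x := by
  rw [ModuleCat.hom_comp, ModuleCat.hom_whiskerLeft, ModuleCat.hom_hom_rightUnitor]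
  change (TensorProduct.rid R A) ((LinearMap.lTensor A (unit0 R).hom.hom)
    (x ⊗ₜ[R] ((unit0 R).inv.hom (1 : R)))) = _
  rw [LinearMap.lTensor_tmul]
  have : (unit0 R).hom.hom ((unit0 R).inv.hom (1 : R)) = (1 : R) := by
    have := congrArg (fun t => t.hom (1 : R)) (unit0 R).inv_hom_id
    exact this
  rw [this]
  exact (TensorProduct.rid_tmul _ _).trans (one_smul _ _)

lemma exists_bounds (S : Finset ℤ) : ∃ a b : ℤ, ∀ n ∈ S, a ≤ n ∧ n ≤ b := by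
  classical
  obtain ⟨b, hb⟩ := Finset.exists_le S
  obtain ⟨a, ha⟩ := Finset.exists_le (S.image (fun n => -n))
  refine ⟨-a, b, fun n hn => ⟨?_, hb n hn⟩⟩
  have := ha (-n) (Finset.mem_image_of_mem _ hn)
  omega

end Apply

section MsideMain

variable (M N : Cx R) (ε : N ⊗ M ⟶ 𝟙_ (Cx R))

/-- `z ↦ (x ↦ G n (z ⊗ x))`. -/
noncomputable def Fmap (n : ℤ) : (M ⊗ N).X 0 →ₗ[R] (M.X n →ₗ[R] M.X n) :=
  (TensorProduct.mk R ((M ⊗ N).X 0) (M.X n)).compr₂ (G M N ε n).hom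

lemma Fmap_apply (n : ℤ) (z : (M ⊗ N).X 0) (x : M.X n) :
    Fmap M N ε n z x = (G M N ε n).hom (z ⊗ₜ[R] x) := rfl

/-- The property propagated along the generators. -/
def Good (z : (M ⊗ N).X 0) : Prop :=
  (∃ S : Finset ℤ, ∀ n, n ∉ S → Fmap M N ε n z = 0) ∧ ∀ n, FinRank (Fmap M N ε n z)

lemma good_zero : Good M N ε 0 :=
  ⟨⟨∅, fun n _ => by simp⟩, fun n => by simpa using finRank_zero⟩

lemma Good.add {z z' : (M ⊗ N).X 0} (h : Good M N ε z) (h' : Good M N ε z') :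
    Good M N ε (z + z') := by
  classical
  obtain ⟨⟨S, hS⟩, h2⟩ := h
  obtain ⟨⟨S', hS'⟩, h2'⟩ := h'
  refine ⟨⟨S ∪ S', fun n hn => ?_⟩, fun n => ?_⟩
  · rw [Finset.mem_union, not_or] at hn
    rw [map_add, hS n hn.1, hS' n hn.2, add_zero]
  · rw [map_add]
    exact (h2 n).add (h2' n)

lemma Good.smul {z : (M ⊗ N).X 0} (h : Good M N ε z) (r : R) : Good M N ε (r • z) := by
  obtain ⟨⟨S, hS⟩, h2⟩ := h
  refine ⟨⟨S, fun n hn => ?_⟩, fun n => ?_⟩
  · rw [map_smul, hS n hn, smul_zero]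
  · rw [map_smul]
    exact (h2 n).smul r

lemma Fmap_gen (p q : ℤ) (h : p + q = 0) (a : M.X p) (b : N.X q) (n : ℤ) (x : M.X n) :
    Fmap M N ε n ((ιTensorObj M N p q 0 h).hom (a ⊗ₜ[R] b)) x =
      ((ιTensorObj M N p q 0 h ▷ M.X n) ≫ G M N ε n).hom ((a ⊗ₜ[R] b) ⊗ₜ[R] x) := by
  rw [Fmap_apply]
  rfl

lemma Fmap_gen_of_ne (p q : ℤ) (h : p + q = 0) (a : M.X p) (b : N.X q) (n : ℤ) (hn : n ≠ p) :
    Fmap M N ε n ((ιTensorObj M N p q 0 h).hom (a ⊗ₜ[R] b)) = 0 := by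
  ext x
  rw [Fmap_gen, whisker_ι_G_of_ne M N ε p q h n hn]
  rfl

lemma Fmap_gen_self (p q : ℤ) (h : p + q = 0) (a : M.X p) (b : N.X q) (x : M.X p) :
    Fmap M N ε p ((ιTensorObj M N p q 0 h).hom (a ⊗ₜ[R] b)) x =
      ((ιTensorObj N M q p 0 (by omega) ≫ ε.f 0 ≫ (unit0 R).hom).hom (b ⊗ₜ[R] x) : R) • a := by
  rw [Fmap_gen, whisker_ι_G_self M N ε p q h]
  exact self_apply _ _ _ _ a b x

lemma good_gen (p q : ℤ) (h : p + q = 0) (a : M.X p) (b : N.X q) :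
    Good M N ε ((ιTensorObj M N p q 0 h).hom (a ⊗ₜ[R] b)) := by
  refine ⟨⟨{p}, fun n hn => ?_⟩, fun n => ?_⟩
  · rw [Finset.mem_singleton] at hn
    exact Fmap_gen_of_ne M N ε p q h a b n hn
  · by_cases hn : n = p
    · subst hn
      exact finRank_of_apply
        ((ιTensorObj N M q n 0 (by omega) ≫ ε.f 0 ≫ (unit0 R).hom).hom ∘ₗ
          (TensorProduct.mk R (N.X q) (M.X n) b)) a _
          fun x => Fmap_gen_self M N ε n q h a b x
    · rw [Fmap_gen_of_ne M N ε p q h a b n hn]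
      exact finRank_zero

lemma good_all (z : (M ⊗ N).X 0) : Good M N ε z := by
  have hz : z ∈ Submodule.span R (gens M N 0) := by
    rw [span_gens_eq_top]; trivial
  induction hz using Submodule.span_induction with
  | mem x hx =>
    obtain ⟨p, q, h, a, b, rfl⟩ := hx
    exact good_gen M N ε p q h a b
  | zero => exact good_zero M N ε
  | add x y _ _ hx hy => exact hx.add M N ε hy
  | smul r x _ hx => exact hx.smul M N ε r

lemma coev_G [ExactPairing M N] (n : ℤ) :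
    ((η_ M N).f 0 ▷ M.X n) ≫ G M N (ε_ M N) n =
      ((unit0 R).hom ▷ M.X n) ≫ (λ_ (M.X n)).hom := by
  have key2 : (η_ M N ▷ M).f n ≫ (α_ M N M).hom.f n ≫ (M ◁ ε_ M N).f n ≫ (ρ_ M).hom.f n =
      (λ_ M).hom.f n := by
    have h := congrArg (fun t => t.f n) (ExactPairing.evaluation_coevaluation M N)
    simp only [HomologicalComplex.comp_f] at h
    have h3 : (ρ_ M).inv.f n ≫ (ρ_ M).hom.f n = 𝟙 _ := by
      rw [← HomologicalComplex.comp_f, Iso.inv_hom_id, HomologicalComplex.id_f]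
    calc _ = ((η_ M N ▷ M).f n ≫ (α_ M N M).hom.f n ≫ (M ◁ ε_ M N).f n) ≫ (ρ_ M).hom.f n := by
          simp only [Category.assoc]
      _ = ((λ_ M).hom.f n ≫ (ρ_ M).inv.f n) ≫ (ρ_ M).hom.f n := by rw [h]
      _ = _ := by rw [Category.assoc, h3, Category.comp_id]
  unfold G
  rw [← Category.assoc, ← ι_whiskerRight (η_ M N) M 0 n n (zero_add n), Category.assoc, key2,
    ι_leftUnitor_hom]

lemma Fmap_coev [ExactPairing M N] (n : ℤ) :
    Fmap M N (ε_ M N) n ((η_ M N).f 0 |>.hom ((unit0 R).inv.hom (1 : R))) = LinearMap.id := by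
  ext x
  have h1 : Fmap M N (ε_ M N) n ((η_ M N).f 0 |>.hom ((unit0 R).inv.hom (1 : R))) x =
      (((η_ M N).f 0 ▷ M.X n) ≫ G M N (ε_ M N) n).hom (((unit0 R).inv.hom (1 : R)) ⊗ₜ[R] x) := rfl
  rw [h1, coev_G]
  exact unit_apply _ x

theorem M_side [ExactPairing M N] :
    (∃ a b : ℤ, DRing.VanishesOutside M a b) ∧ DRing.TermwiseFiniteProjective M := by
  obtain ⟨⟨S, hS⟩, h2⟩ := good_all M N (ε_ M N) ((η_ M N).f 0 |>.hom ((unit0 R).inv.hom (1 : R)))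
  constructor
  · obtain ⟨a, b, hab⟩ := exists_bounds S
    refine ⟨a, b, fun i hi => ?_⟩
    have hiS : i ∉ S := fun h => by have := hab i h; omega
    have h0 := hS i hiS
    rw [Fmap_coev] at h0
    have : Subsingleton (M.X i) := ⟨fun x y => by
      have hx := LinearMap.congr_fun h0 x
      have hy := LinearMap.congr_fun h0 y
      simp only [LinearMap.id_apply, LinearMap.zero_apply] at hx hy
      rw [hx, hy]⟩
    exact ModuleCat.isZero_of_subsingleton _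
  · intro i
    have := h2 i
    rw [Fmap_coev] at this
    exact this.finite_projective

end MsideMain

section NsideMain

variable (M N : Cx R) (ε : N ⊗ M ⟶ 𝟙_ (Cx R))

/-- `z ↦ (y ↦ G' n (y ⊗ z))`. -/
noncomputable def Fmap' (n : ℤ) : (M ⊗ N).X 0 →ₗ[R] (N.X n →ₗ[R] N.X n) :=
  ((TensorProduct.mk R (N.X n) ((M ⊗ N).X 0)).flip).compr₂ (G' M N ε n).hom

lemma Fmap'_apply (n : ℤ) (z : (M ⊗ N).X 0) (y : N.X n) :
    Fmap' M N ε n z y = (G' M N ε n).hom (y ⊗ₜ[R] z) := rfl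

/-- The property propagated along the generators (`N`-side). -/
def Good' (z : (M ⊗ N).X 0) : Prop :=
  (∃ S : Finset ℤ, ∀ n, n ∉ S → Fmap' M N ε n z = 0) ∧ ∀ n, FinRank (Fmap' M N ε n z)

lemma good'_zero : Good' M N ε 0 :=
  ⟨⟨∅, fun n _ => by simp⟩, fun n => by simpa using finRank_zero⟩

lemma Good'.add {z z' : (M ⊗ N).X 0} (h : Good' M N ε z) (h' : Good' M N ε z') :
    Good' M N ε (z + z') := by
  classical
  obtain ⟨⟨S, hS⟩, h2⟩ := h
  obtain ⟨⟨S', hS'⟩, h2'⟩ := h'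
  refine ⟨⟨S ∪ S', fun n hn => ?_⟩, fun n => ?_⟩
  · rw [Finset.mem_union, not_or] at hn
    rw [map_add, hS n hn.1, hS' n hn.2, add_zero]
  · rw [map_add]
    exact (h2 n).add (h2' n)

lemma Good'.smul {z : (M ⊗ N).X 0} (h : Good' M N ε z) (r : R) : Good' M N ε (r • z) := by
  obtain ⟨⟨S, hS⟩, h2⟩ := h
  refine ⟨⟨S, fun n hn => ?_⟩, fun n => ?_⟩
  · rw [map_smul, hS n hn, smul_zero]
  · rw [map_smul]
    exact (h2 n).smul r

lemma Fmap'_gen (p q : ℤ) (h : p + q = 0) (a : M.X p) (b : N.X q) (n : ℤ) (y : N.X n) :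
    Fmap' M N ε n ((ιTensorObj M N p q 0 h).hom (a ⊗ₜ[R] b)) y =
      ((N.X n ◁ ιTensorObj M N p q 0 h) ≫ G' M N ε n).hom (y ⊗ₜ[R] (a ⊗ₜ[R] b)) := by
  rw [Fmap'_apply]
  rfl

lemma Fmap'_gen_of_ne (p q : ℤ) (h : p + q = 0) (a : M.X p) (b : N.X q) (n : ℤ) (hn : n ≠ q) :
    Fmap' M N ε n ((ιTensorObj M N p q 0 h).hom (a ⊗ₜ[R] b)) = 0 := by
  ext y
  rw [Fmap'_gen, whisker_ι_G'_of_ne M N ε p q h n hn]
  rfl

lemma Fmap'_gen_self (p q : ℤ) (h : p + q = 0) (a : M.X p) (b : N.X q) (y : N.X q) :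
    Fmap' M N ε q ((ιTensorObj M N p q 0 h).hom (a ⊗ₜ[R] b)) y =
      ((ιTensorObj N M q p 0 (by omega) ≫ ε.f 0 ≫ (unit0 R).hom).hom (y ⊗ₜ[R] a) : R) • b := by
  rw [Fmap'_gen, whisker_ι_G'_self M N ε p q h]
  exact self_apply' _ _ _ _ y a b

lemma good'_gen (p q : ℤ) (h : p + q = 0) (a : M.X p) (b : N.X q) :
    Good' M N ε ((ιTensorObj M N p q 0 h).hom (a ⊗ₜ[R] b)) := by
  refine ⟨⟨{q}, fun n hn => ?_⟩, fun n => ?_⟩
  · rw [Finset.mem_singleton] at hn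
    exact Fmap'_gen_of_ne M N ε p q h a b n hn
  · by_cases hn : n = q
    · subst hn
      exact finRank_of_apply
        ((ιTensorObj N M n p 0 (by omega) ≫ ε.f 0 ≫ (unit0 R).hom).hom ∘ₗ
          ((TensorProduct.mk R (N.X n) (M.X p)).flip a)) b _
          fun y => Fmap'_gen_self M N ε p n h a b y
    · rw [Fmap'_gen_of_ne M N ε p q h a b n hn]
      exact finRank_zero

lemma good'_all (z : (M ⊗ N).X 0) : Good' M N ε z := by
  have hz : z ∈ Submodule.span R (gens M N 0) := by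
    rw [span_gens_eq_top]; trivial
  induction hz using Submodule.span_induction with
  | mem x hx =>
    obtain ⟨p, q, h, a, b, rfl⟩ := hx
    exact good'_gen M N ε p q h a b
  | zero => exact good'_zero M N ε
  | add x y _ _ hx hy => exact hx.add M N ε hy
  | smul r x _ hx => exact hx.smul M N ε r

lemma coev_G' [ExactPairing M N] (n : ℤ) :
    (N.X n ◁ (η_ M N).f 0) ≫ G' M N (ε_ M N) n =
      (N.X n ◁ (unit0 R).hom) ≫ (ρ_ (N.X n)).hom := by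
  have key2 : (N ◁ η_ M N).f n ≫ (α_ N M N).inv.f n ≫ (ε_ M N ▷ N).f n ≫ (λ_ N).hom.f n =
      (ρ_ N).hom.f n := by
    have h := congrArg (fun t => t.f n) (ExactPairing.coevaluation_evaluation M N)
    simp only [HomologicalComplex.comp_f] at h
    have h3 : (λ_ N).inv.f n ≫ (λ_ N).hom.f n = 𝟙 _ := by
      rw [← HomologicalComplex.comp_f, Iso.inv_hom_id, HomologicalComplex.id_f]
    calc _ = ((N ◁ η_ M N).f n ≫ (α_ N M N).inv.f n ≫ (ε_ M N ▷ N).f n) ≫ (λ_ N).hom.f n := by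
          simp only [Category.assoc]
      _ = ((ρ_ N).hom.f n ≫ (λ_ N).inv.f n) ≫ (λ_ N).hom.f n := by rw [h]
      _ = _ := by rw [Category.assoc, h3, Category.comp_id]
  unfold G'
  rw [← Category.assoc, ← ι_whiskerLeft N (η_ M N) n 0 n (add_zero n), Category.assoc, key2,
    ι_rightUnitor_hom]

lemma Fmap'_coev [ExactPairing M N] (n : ℤ) :
    Fmap' M N (ε_ M N) n ((η_ M N).f 0 |>.hom ((unit0 R).inv.hom (1 : R))) = LinearMap.id := by
  ext y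
  have h1 : Fmap' M N (ε_ M N) n ((η_ M N).f 0 |>.hom ((unit0 R).inv.hom (1 : R))) y =
      ((N.X n ◁ (η_ M N).f 0) ≫ G' M N (ε_ M N) n).hom (y ⊗ₜ[R] ((unit0 R).inv.hom (1 : R))) := rfl
  rw [h1, coev_G']
  exact unit_apply' _ y

theorem N_side [ExactPairing M N] :
    (∃ a b : ℤ, DRing.VanishesOutside N a b) ∧ DRing.TermwiseFiniteProjective N := by
  obtain ⟨⟨S, hS⟩, h2⟩ := good'_all M N (ε_ M N) ((η_ M N).f 0 |>.hom ((unit0 R).inv.hom (1 : R)))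
  constructor
  · obtain ⟨a, b, hab⟩ := exists_bounds S
    refine ⟨a, b, fun i hi => ?_⟩
    have hiS : i ∉ S := fun h => by have := hab i h; omega
    have h0 := hS i hiS
    rw [Fmap'_coev] at h0
    have : Subsingleton (N.X i) := ⟨fun x y => by
      have hx := LinearMap.congr_fun h0 x
      have hy := LinearMap.congr_fun h0 y
      simp only [LinearMap.id_apply, LinearMap.zero_apply] at hx hy
      rw [hx, hy]⟩
    exact ModuleCat.isZero_of_subsingleton _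
  · intro i
    have := h2 i
    rw [Fmap'_coev] at this
    exact this.finite_projective

end NsideMain

end Groth.Agent.Lib.Seat29.DualCx
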