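import Mathlib
import Groth.Agent.Lib.Seat29EtInst

/-!
# Finite type locally constant étale sheaves of modules: kernels, cokernels, extensions (seat 29)
-/

set_option autoImplicit false

universe u

open CategoryTheory CategoryTheory.Limits AlgebraicGeometry Opposite

namespace Groth.Agent.Lib.Seat29.EtModLC

open Groth.Agent.Lib.Seat29.ConstRes Groth.Agent.Lib.Seat29.EtLocConst
  Groth.Agent.Lib.Seat29.EtExt Groth.Agent.Lib.Seat29.EtInst

section Alg

variable {Λ : Type (u + 1)} [CommRing Λ]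

lemma finite_of_epi {M N : ModuleCat.{u + 1} Λ} (f : M ⟶ N) [Epi f] [Module.Finite Λ M] :
    Module.Finite Λ N :=
  Module.Finite.of_surjective f.hom ((ModuleCat.epi_iff_surjective f).1 inferInstance)

lemma finite_of_iso {M N : ModuleCat.{u + 1} Λ} (e : M ≅ N) [Module.Finite Λ M] :
    Module.Finite Λ N :=
  finite_of_epi e.hom

instance finite_biprod (M N : ModuleCat.{u + 1} Λ) [Module.Finite Λ M] [Module.Finite Λ N] :
    Module.Finite Λ (M ⊞ N : ModuleCat.{u + 1} Λ) := by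
  have : Module.Finite Λ (ModuleCat.of Λ (M × N)) := inferInstanceAs (Module.Finite Λ (M × N))
  exact finite_of_iso (ModuleCat.biprodIsoProd M N).symm

instance finite_free (T : Type (u + 1)) [Finite T] :
    Module.Finite Λ ((ModuleCat.free Λ).obj T) :=
  inferInstanceAs (Module.Finite Λ (T →₀ Λ))

lemma exists_free_epi (M : ModuleCat.{u + 1} Λ) [Module.Finite Λ M] :
    ∃ (T : Type (u + 1)) (_ : Finite T) (p : (ModuleCat.free Λ).obj T ⟶ M), Epi p := by
  obtain ⟨s, hs⟩ := (Module.finite_def (R := Λ) (M := M)).1 inferInstance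
  refine ⟨s, inferInstance,
    ModuleCat.ofHom (Finsupp.linearCombination Λ (Subtype.val : s → M)), ?_⟩
  rw [ModuleCat.epi_iff_surjective]
  rw [← LinearMap.range_eq_top]
  erw [Finsupp.range_linearCombination]
  simpa using hs

lemma finite_kernel [IsNoetherianRing Λ] {M N : ModuleCat.{u + 1} Λ} (f : M ⟶ N)
    [Module.Finite Λ M] : Module.Finite Λ (kernel f : ModuleCat.{u + 1} Λ) := by
  have : Module.Finite Λ (ModuleCat.of Λ (LinearMap.ker f.hom)) :=
    inferInstanceAs (Module.Finite Λ (LinearMap.ker f.hom))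
  exact finite_of_iso (ModuleCat.kernelIsoKer f).symm

lemma finite_cokernel {M N : ModuleCat.{u + 1} Λ} (f : M ⟶ N)
    [Module.Finite Λ N] : Module.Finite Λ (cokernel f : ModuleCat.{u + 1} Λ) :=
  finite_of_epi (cokernel.π f)

end Alg

section Main

variable (Λ : Type (u + 1)) [CommRing Λ] {X : Scheme.{u}}

/-- pointwise form of `EtModW.IsFTLocConst` -/
lemma isFTLocConst_iff (F : EtModW.Mod Λ X) :
    EtModW.IsFTLocConst Λ F ↔ ∀ x : X, ∃ (W : X.Etale) (w : W.left), W.hom.base w = x ∧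
      ∃ (M : ModuleCat.{u + 1} Λ) (_ : Module.Finite Λ M),
        Nonempty (F.over W ≅ (constantSheaf (X.smallEtaleTopology.over W) (ModuleCat.{u + 1} Λ)).obj M) := by
  constructor
  · intro h x
    obtain ⟨W, w, hw, M, i1, i2, i3, ⟨e⟩⟩ := forall_of_cover (fun W : X.Etale =>
      ∃ (M : Type (u + 1)) (_ : AddCommGroup M) (_ : Module Λ M) (_ : Module.Finite Λ M),
        Nonempty (EtModW.restr Λ F W ≅
          (constantSheaf (X.smallEtaleTopology.over W) (ModuleCat.{u + 1} Λ)).obj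
            (ModuleCat.of Λ M))) h x
    exact ⟨W, w, hw, ModuleCat.of Λ M, i3, ⟨e⟩⟩
  · intro h
    refine exists_cover_of_forall (fun W : X.Etale =>
      ∃ (M : Type (u + 1)) (_ : AddCommGroup M) (_ : Module Λ M) (_ : Module.Finite Λ M),
        Nonempty (EtModW.restr Λ F W ≅
          (constantSheaf (X.smallEtaleTopology.over W) (ModuleCat.{u + 1} Λ)).obj
            (ModuleCat.of Λ M))) ?_
    intro x
    obtain ⟨W, w, hw, M, hM, ⟨e⟩⟩ := h x
    exact ⟨W, w, hw, M, inferInstance, inferInstance, hM, ⟨e⟩⟩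

variable [IsNoetherianRing Λ]

/-- Kernels and cokernels of maps between finite type locally constant sheaves of modules. -/
theorem isFTLocConst_ker_coker {F G : EtModW.Mod Λ X} (φ : F ⟶ G)
    (hF : EtModW.IsFTLocConst Λ F) (hG : EtModW.IsFTLocConst Λ G) :
    EtModW.IsFTLocConst Λ (kernel φ) ∧ EtModW.IsFTLocConst Λ (cokernel φ) := by
  rw [isFTLocConst_iff] at hF hG
  have key : ∀ x : X, ∃ (W : X.Etale) (w : W.left), W.hom.base w = x ∧
      (∃ (M : ModuleCat.{u + 1} Λ) (_ : Module.Finite Λ M), Nonempty ((kernel φ).over W ≅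
        (constantSheaf (X.smallEtaleTopology.over W) (ModuleCat.{u + 1} Λ)).obj M)) ∧
      (∃ (M : ModuleCat.{u + 1} Λ) (_ : Module.Finite Λ M), Nonempty ((cokernel φ).over W ≅
        (constantSheaf (X.smallEtaleTopology.over W) (ModuleCat.{u + 1} Λ)).obj M)) := by
    intro x
    obtain ⟨U, a, ha, M, hM, ⟨α₀⟩⟩ := hF x
    obtain ⟨V, b, hb, N, hN, ⟨β₀⟩⟩ := hG x
    obtain ⟨W, w, h, α, β, hw, hsq⟩ := exists_nbhd_hom (M := M) (N := N)
      (fun W ψ => Groth.Agent.Lib.Seat29.LocFac.locFac_moduleCat _ ψ)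
      φ a b (ha.trans hb.symm) α₀ β₀
    obtain ⟨h1, h2⟩ := nonempty_ker_coker_iso φ h α β hsq
    exact ⟨W, w, hw.trans ha, ⟨kernel h, finite_kernel h, h1⟩, ⟨cokernel h, finite_cokernel h, h2⟩⟩
  constructor
  · rw [isFTLocConst_iff]
    intro x
    obtain ⟨W, w, hw, h1, -⟩ := key x
    exact ⟨W, w, hw, h1⟩
  · rw [isFTLocConst_iff]
    intro x
    obtain ⟨W, w, hw, -, h2⟩ := key x
    exact ⟨W, w, hw, h2⟩

/-- Finite type locally constant sheaves of modules are closed under extensions. -/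
theorem isFTLocConst_ext (S : ShortComplex (EtModW.Mod Λ X)) (hS : S.ShortExact)
    (h₁ : EtModW.IsFTLocConst Λ S.X₁) (h₃ : EtModW.IsFTLocConst Λ S.X₃) :
    EtModW.IsFTLocConst Λ S.X₂ := by
  rw [isFTLocConst_iff] at h₁ h₃ ⊢
  intro x
  obtain ⟨U, a, ha, M', hM', ⟨α'⟩⟩ := h₁ x
  obtain ⟨V, b, hb, M'', hM'', ⟨α''⟩⟩ := h₃ x
  obtain ⟨W₀, p₀, q₀, w₀, hp₀, hq₀⟩ := exists_common a b (ha.trans hb.symm)
  obtain ⟨T, hT, p, hp⟩ := exists_free_epi M''
  have hker : Module.Finite Λ (kernel p : ModuleCat.{u + 1} Λ) := finite_kernel p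
  obtain ⟨W, w, h, hw, ⟨e⟩⟩ := exists_nbhd_ext (ModuleCat.adj Λ)
    (fun {F G} π hπ => (Sheaf.isLocallySurjective_iff_epi' (A := ModuleCat.{u + 1} Λ) π).2 hπ)
    S hS w₀ (resIso p₀ α') (resIso q₀ α'') T p
    (fun W ψ => Groth.Agent.Lib.Seat29.LocFac.locFac_moduleCat _ ψ)
  refine ⟨W, w, ?_, cokernel h, finite_cokernel h, ⟨e⟩⟩
  rw [hw, ← hom_base_comp p₀ w₀, hp₀, ha]

end Main

end Groth.Agent.Lib.Seat29.EtModLC
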