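import Mathlib

/-!
# Sheaf pullback commutes with localization (seat 29)

Let `Φ : C ⥤ D` be a continuous functor between sites `(C, J)`, `(D, K)` with binary products,
preserving binary products with `V : C`, and such that `Over.post Φ : Over V ⥤ Over (Φ V)` is
continuous.  Then `(Φ^* G)|_{Φ V} ≅ Φ_V^* (G|_V)`, and consequently if `G|_V` is constant with
value `M` then so is `(Φ^* G)|_{Φ V}`.
-/

set_option autoImplicit false

universe v₁ u₁ v₂ u₂ v u

open CategoryTheory CategoryTheory.Limits Opposite

namespace Groth.Agent.Lib.Seat29.PullOver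

section ConstPull

variable {C : Type u₁} [Category.{v₁} C] {D : Type u₂} [Category.{v₂} D]
  (J : GrothendieckTopology C) (K : GrothendieckTopology D) (Ψ : C ⥤ D)
  (A : Type u) [Category.{v} A] [Ψ.IsContinuous J K]
  [(Ψ.sheafPushforwardContinuous A J K).IsRightAdjoint]
  [HasWeakSheafify J A] [HasWeakSheafify K A]

/-- Pushforward followed by sections at `T` is sections at `Ψ T`. -/
def pushSectionsIso (T : C) :
    Ψ.sheafPushforwardContinuous A J K ⋙ (sheafSections J A).obj (op T) ≅
      (sheafSections K A).obj (op (Ψ.obj T)) :=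
  NatIso.ofComponents (fun _ => Iso.refl _) (fun {X Y} f => by
    dsimp
    erw [Category.comp_id, Category.id_comp]
    rfl)

/-- Pullback of a constant sheaf along a continuous functor preserving the terminal object is
constant. -/
noncomputable def constPullbackIso {T : C} (hT : IsTerminal T) (hT' : IsTerminal (Ψ.obj T)) :
    constantSheaf J A ⋙ Ψ.sheafPullback A J K ≅ constantSheaf K A :=
  Adjunction.leftAdjointUniq
    (((constantSheafAdj J A hT).comp (Ψ.sheafAdjunctionContinuous A J K)).ofNatIsoRight
      (pushSectionsIso J K Ψ A T))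
    (constantSheafAdj K A hT')

end ConstPull

section Loc

variable {C : Type u₁} [Category.{v₁} C] {D : Type u₂} [Category.{v₂} D]
  (J : GrothendieckTopology C) (K : GrothendieckTopology D) (Φ : C ⥤ D)
  (A : Type u) [Category.{v} A]
  [HasBinaryProducts C] [HasBinaryProducts D] (V : C)

omit [HasBinaryProducts D] in
lemma star_hom (U : C) : ((Over.star V).obj U).hom = (prod.fst : V ⨯ U ⟶ V) :=
  (Over.star_obj_hom V U).trans (prod.lift_fst _ _)

omit [HasBinaryProducts D] in
lemma star_map_left {U U' : C} (g : U ⟶ U') :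
    ((Over.star V).map g).left = prod.map (𝟙 V) g :=
  (Over.star_map_left V g).trans (by simp)

variable [∀ U : C, PreservesLimit (pair V U) Φ]

/-- `Φ (V × U) ≅ Φ V × Φ U`, as an isomorphism of functors to `Over (Φ V)`. -/
noncomputable def starPostIso :
    Over.star V ⋙ Over.post (X := V) Φ ≅ Φ ⋙ Over.star (Φ.obj V) :=
  NatIso.ofComponents (fun U => Over.isoMk (PreservesLimitPair.iso Φ V U) (by
      refine Eq.trans (congrArg (fun t => (PreservesLimitPair.iso Φ V U).hom ≫ t)
        (star_hom (Φ.obj V) (Φ.obj U))) ?_
      refine Eq.trans (prodComparison_fst Φ V U) ?_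
      exact (congrArg (fun t => Φ.map t) (star_hom V U)).symm))
    (fun {U U'} g => by
      ext
      refine Eq.trans (congrArg (fun t => Φ.map t ≫ prodComparison Φ V U')
        (star_map_left V g)) ?_
      refine Eq.trans (prodComparison_natural Φ (𝟙 V) g) ?_
      refine Eq.trans ?_ (congrArg (fun t => prodComparison Φ V U ≫ t)
        (star_map_left (Φ.obj V) (Φ.map g))).symm
      rw [CategoryTheory.Functor.map_id]
      rfl)

variable [Φ.IsContinuous J K]
  [(Over.post (X := V) Φ).IsContinuous (J.over V) (K.over (Φ.obj V))]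
  [(Φ.sheafPushforwardContinuous A J K).IsRightAdjoint]
  [((Over.post (X := V) Φ).sheafPushforwardContinuous A (J.over V)
    (K.over (Φ.obj V))).IsRightAdjoint]

/-- The two composite right adjoints agree. -/
noncomputable def rightAdjIso :
    (Over.post (X := V) Φ).sheafPushforwardContinuous A (J.over V) (K.over (Φ.obj V)) ⋙
        (Over.star V).sheafPushforwardContinuous A J (J.over V) ≅
      (Over.star (Φ.obj V)).sheafPushforwardContinuous A K (K.over (Φ.obj V)) ⋙
        Φ.sheafPushforwardContinuous A J K :=
  haveI : (Φ ⋙ Over.star (Φ.obj V)).IsContinuous J (K.over (Φ.obj V)) :=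
    Functor.isContinuous_comp Φ (Over.star (Φ.obj V)) J K (K.over (Φ.obj V))
  Functor.sheafPushforwardContinuousComp' (starPostIso Φ V) A J (J.over V) (K.over (Φ.obj V)) ≪≫
    (Functor.sheafPushforwardContinuousComp' (Iso.refl (Φ ⋙ Over.star (Φ.obj V))) A J K
      (K.over (Φ.obj V))).symm

/-- **Localization commutes with sheaf pullback.** -/
noncomputable def pullOverIso :
    Φ.sheafPullback A J K ⋙ K.overPullback A (Φ.obj V) ≅
      J.overPullback A V ⋙
        (Over.post (X := V) Φ).sheafPullback A (J.over V) (K.over (Φ.obj V)) :=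
  Adjunction.leftAdjointUniq
    ((Φ.sheafAdjunctionContinuous A J K).comp
      ((Over.forgetAdjStar (Φ.obj V)).sheafPushforwardContinuous (E := A) (K.over (Φ.obj V)) K))
    ((((Over.forgetAdjStar V).sheafPushforwardContinuous (E := A) (J.over V) J).comp
      ((Over.post (X := V) Φ).sheafAdjunctionContinuous A (J.over V)
        (K.over (Φ.obj V)))).ofNatIsoRight (rightAdjIso J K Φ A V))

variable [HasWeakSheafify (J.over V) A] [HasWeakSheafify (K.over (Φ.obj V)) A]

/-- `Over.post Φ` preserves the terminal object of `Over V`. -/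
noncomputable def isTerminalPostMkId :
    IsTerminal ((Over.post (X := V) Φ).obj (Over.mk (𝟙 V))) :=
  IsTerminal.ofIso Over.mkIdTerminal (Over.isoMk (Iso.refl _) (by
    refine Eq.trans (Category.id_comp _) ?_
    exact Φ.map_id V))

/-- **Main result**: if `G` is constant on `V` with value `M`, then the pullback `Φ^* G` is
constant on `Φ V` with value `M`. -/
theorem nonempty_pull_over_iso (G : Sheaf J A) {M : A}
    (α : G.over V ≅ (constantSheaf (J.over V) A).obj M) :
    Nonempty (((Φ.sheafPullback A J K).obj G).over (Φ.obj V) ≅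
      (constantSheaf (K.over (Φ.obj V)) A).obj M) :=
  ⟨(pullOverIso J K Φ A V).app G ≪≫
    ((Over.post (X := V) Φ).sheafPullback A (J.over V) (K.over (Φ.obj V))).mapIso α ≪≫
    (constPullbackIso (J.over V) (K.over (Φ.obj V)) (Over.post (X := V) Φ) A Over.mkIdTerminal
      (isTerminalPostMkId Φ V)).app M⟩

end Loc

end Groth.Agent.Lib.Seat29.PullOver
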