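import Mathlib
import Groth.Prelude.Def_EtMod2
import Groth.Prelude.Def_EtRestW
import Groth.Agent.Lib.Seat29PullOver
import Groth.Agent.Lib.Seat29EtLocConst
import Groth.Agent.Lib.Seat29EtModLC
import Groth.Agent.Lib.Seat29EtAbLC

/-!
# Inverse image of locally constant étale sheaves (seat 29)
-/

set_option autoImplicit false

universe u

open CategoryTheory CategoryTheory.Limits AlgebraicGeometry Opposite

namespace Groth.Agent.Lib.Seat29.EtPull

open Groth.Agent.Lib.Seat29.EtLocConst

variable {X Y : Scheme.{u}} (f : X ⟶ Y)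

instance isContinuous_post_bc (V : Y.Etale) :
    (Over.post (X := V) (EtCoh.bc f)).IsContinuous (Y.smallEtaleTopology.over V)
      (X.smallEtaleTopology.over ((EtCoh.bc f).obj V)) := by
  have : RepresentablyFlat (Over.post (X := V) (EtCoh.bc f)) := flat_of_preservesFiniteLimits _
  exact Functor.isContinuous_of_coverPreserving (compatiblePreservingOfFlat _ _)
    ((EtCoh.coverPreserving_bc f).overPost V)

section Main

variable (Λ : Type (u + 1)) [CommRing Λ]

/-- If `G` is constant on `V` with value `M`, then `f⁻¹ G` is constant on `V ×_Y X`. -/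
theorem nonempty_pull_over_iso_ab (G : EtCoh.Ab Y) (V : Y.Etale) {M : AddCommGrpCat.{u + 1}}
    (α : G.over V ≅ (constantSheaf (Y.smallEtaleTopology.over V) AddCommGrpCat.{u + 1}).obj M) :
    Nonempty (((EtCoh.pull f).obj G).over ((EtCoh.bc f).obj V) ≅
      (constantSheaf (X.smallEtaleTopology.over ((EtCoh.bc f).obj V))
        AddCommGrpCat.{u + 1}).obj M) :=
  Groth.Agent.Lib.Seat29.PullOver.nonempty_pull_over_iso Y.smallEtaleTopology
    X.smallEtaleTopology (EtCoh.bc f) AddCommGrpCat.{u + 1} V G α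

/-- If `G` is constant on `V` with value `M`, then `f⁻¹ G` is constant on `V ×_Y X`. -/
theorem nonempty_pull_over_iso_mod (G : EtModW.Mod Λ Y) (V : Y.Etale) {M : ModuleCat.{u + 1} Λ}
    (α : G.over V ≅ (constantSheaf (Y.smallEtaleTopology.over V) (ModuleCat.{u + 1} Λ)).obj M) :
    Nonempty (((EtModW.pull Λ f).obj G).over ((EtCoh.bc f).obj V) ≅
      (constantSheaf (X.smallEtaleTopology.over ((EtCoh.bc f).obj V))
        (ModuleCat.{u + 1} Λ)).obj M) :=
  Groth.Agent.Lib.Seat29.PullOver.nonempty_pull_over_iso Y.smallEtaleTopology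
    X.smallEtaleTopology (EtCoh.bc f) (ModuleCat.{u + 1} Λ) V G α

/-- Every point of `X` lifts to `V ×_Y X` when its image lifts to `V`. -/
lemma exists_bc_point (V : Y.Etale) (v : V.left) (x : X) (h : V.hom.base v = f.base x) :
    ∃ w : ((EtCoh.bc f).obj V).left, ((EtCoh.bc f).obj V).hom.base w = x := by
  obtain ⟨w, -, hw2⟩ := Scheme.Pullback.exists_preimage_pullback (f := V.hom) (g := f) v x h
  exact ⟨w, hw2⟩

/-- Inverse image preserves locally constant abelian sheaves. -/
theorem isLocallyConstant_pull (G : EtCoh.Ab Y) (hG : EtRest.IsLocallyConstant G) :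
    EtRest.IsLocallyConstant ((EtCoh.pull f).obj G) := by
  have h := forall_of_cover (fun W : Y.Etale => ∃ (M : Type (u + 1)) (_ : AddCommGroup M),
    Nonempty (EtCoh.restr G W ≅ (constantSheaf (Y.smallEtaleTopology.over W)
      AddCommGrpCat.{u + 1}).obj (AddCommGrpCat.of M))) hG
  refine exists_cover_of_forall (fun W : X.Etale => ∃ (M : Type (u + 1)) (_ : AddCommGroup M),
    Nonempty (EtCoh.restr ((EtCoh.pull f).obj G) W ≅ (constantSheaf (X.smallEtaleTopology.over W)
      AddCommGrpCat.{u + 1}).obj (AddCommGrpCat.of M))) ?_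
  intro x
  obtain ⟨V, v, hv, M, hM, ⟨α⟩⟩ := h (f.base x)
  obtain ⟨w, hw⟩ := exists_bc_point f V v x hv
  exact ⟨(EtCoh.bc f).obj V, w, hw, M, hM, nonempty_pull_over_iso_ab f G V α⟩

/-- Inverse image preserves finite locally constant abelian sheaves. -/
theorem isFiniteLocallyConstant_pull (G : EtCoh.Ab Y) (hG : EtCoh.IsFiniteLocallyConstant G) :
    EtCoh.IsFiniteLocallyConstant ((EtCoh.pull f).obj G) := by
  rw [Groth.Agent.Lib.Seat29.EtAbLC.isFLC_iff] at hG ⊢
  intro x
  obtain ⟨V, v, hv, M, hM, ⟨α⟩⟩ := hG (f.base x)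
  obtain ⟨w, hw⟩ := exists_bc_point f V v x hv
  exact ⟨(EtCoh.bc f).obj V, w, hw, M, hM, nonempty_pull_over_iso_ab f G V α⟩

/-- Inverse image preserves finite type locally constant sheaves of modules. -/
theorem isFTLocConst_pull (G : EtModW.Mod Λ Y) (hG : EtModW.IsFTLocConst Λ G) :
    EtModW.IsFTLocConst Λ ((EtModW.pull Λ f).obj G) := by
  rw [Groth.Agent.Lib.Seat29.EtModLC.isFTLocConst_iff] at hG ⊢
  intro x
  obtain ⟨V, v, hv, M, hM, ⟨α⟩⟩ := hG (f.base x)
  obtain ⟨w, hw⟩ := exists_bc_point f V v x hv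
  exact ⟨(EtCoh.bc f).obj V, w, hw, M, hM, nonempty_pull_over_iso_mod f Λ G V α⟩

end Main

end Groth.Agent.Lib.Seat29.EtPull
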