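import Mathlib

/-!
# Finite stratifications by immersions (seat 29)

A flexible version of the "adapted strata" used in the definition of constructible étale sheaves,
with generic closure properties: reindexing, finite disjoint unions, locally closed subsets as
ranges of immersions.
-/

set_option autoImplicit false

universe u

open CategoryTheory CategoryTheory.Limits AlgebraicGeometry Opposite TopologicalSpace Topology

namespace Groth.Agent.Lib.Seat29.Strata

variable {X : Scheme.{u}}

/-- Every locally closed subset `O ∩ C` is the range of an immersion. -/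
lemma exists_immersion_range (O : X.Opens) (C : Closeds X) :
    ∃ (T : Scheme.{u}) (g : T ⟶ X), IsImmersion g ∧ Set.range g = (O : Set X) ∩ (C : Set X) := by
  let I := Scheme.IdealSheafData.vanishingIdeal C
  let O' : I.subscheme.Opens := I.subschemeι ⁻¹ᵁ O
  refine ⟨O'.toScheme, O'.ι ≫ I.subschemeι, inferInstance, ?_⟩
  rw [Scheme.Hom.comp_base, TopCat.coe_comp, Set.range_comp, Scheme.Opens.range_ι]
  ext x
  simp only [Set.mem_image, Set.mem_inter_iff, SetLike.mem_coe]
  constructor
  · rintro ⟨y, hy, rfl⟩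
    refine ⟨hy, ?_⟩
    have : I.subschemeι y ∈ Set.range I.subschemeι := ⟨y, rfl⟩
    rw [I.range_subschemeι] at this
    simpa [I] using this
  · rintro ⟨hxO, hxC⟩
    have : x ∈ Set.range I.subschemeι := by
      rw [I.range_subschemeι]
      simpa [I] using hxC
    obtain ⟨y, rfl⟩ := this
    exact ⟨y, hxO, rfl⟩

/-- `Strat P U S`: the subset `S` of `X` is a finite disjoint union of ranges of immersions
`g i : T i ⟶ X` satisfying `P`, each range being constructible in the subspace `U`. -/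
def Strat (P : ∀ T : Scheme.{u}, (T ⟶ X) → Prop) (U S : Set X) : Prop :=
  ∃ (ι : Type) (_ : Finite ι) (T : ι → Scheme.{u}) (g : ∀ i, T i ⟶ X),
    (∀ i, IsImmersion (g i)) ∧
    (∀ i, IsConstructible ((Subtype.val : U → X) ⁻¹' Set.range (g i))) ∧
    Pairwise (fun i j => Disjoint (Set.range (g i)) (Set.range (g j))) ∧
    (⋃ i, Set.range (g i)) = S ∧ ∀ i, P (T i) (g i)

variable {P : ∀ T : Scheme.{u}, (T ⟶ X) → Prop} {U : Set X}

/-- `Fin n`-indexed form. -/
lemma strat_iff_fin {S : Set X} : Strat P U S ↔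
    ∃ (n : ℕ) (T : Fin n → Scheme.{u}) (g : ∀ i, T i ⟶ X),
      (∀ i, IsImmersion (g i)) ∧
      (∀ i, IsConstructible ((Subtype.val : U → X) ⁻¹' Set.range (g i))) ∧
      Pairwise (fun i j => Disjoint (Set.range (g i)) (Set.range (g j))) ∧
      (⋃ i, Set.range (g i)) = S ∧ ∀ i, P (T i) (g i) := by
  constructor
  · rintro ⟨ι, hι, T, g, h1, h2, h3, h4, h5⟩
    obtain ⟨n, ⟨e⟩⟩ := Finite.exists_equiv_fin ι
    refine ⟨n, fun k => T (e.symm k), fun k => g (e.symm k), fun k => h1 _, fun k => h2 _, ?_, ?_,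
      fun k => h5 _⟩
    · intro k k' hkk'
      exact h3 (fun h => hkk' (e.symm.injective h))
    · rw [← h4]
      exact e.symm.surjective.iUnion_comp (fun i => Set.range (g i))
  · rintro ⟨n, T, g, h1, h2, h3, h4, h5⟩
    exact ⟨Fin n, inferInstance, T, g, h1, h2, h3, h4, h5⟩

/-- Finite disjoint unions of stratified sets are stratified. -/
lemma Strat.iUnion {κ : Type} [Finite κ] (S : κ → Set X)
    (hdisj : Pairwise (fun k k' => Disjoint (S k) (S k')))
    (h : ∀ k, Strat P U (S k)) : Strat P U (⋃ k, S k) := by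
  choose ι hι T g h1 h2 h3 h4 h5 using h
  have hsub : ∀ k i, Set.range (g k i) ⊆ S k := by
    intro k i
    rw [← h4 k]
    exact Set.subset_iUnion (fun i => Set.range (g k i)) i
  refine ⟨Σ k, ι k, inferInstance, fun p => T p.1 p.2, fun p => g p.1 p.2, fun p => h1 _ _,
    fun p => h2 _ _, ?_, ?_, fun p => h5 _ _⟩
  · rintro ⟨k, i⟩ ⟨k', i'⟩ hne
    by_cases hk : k = k'
    · subst hk
      have : i ≠ i' := fun h => hne (by rw [h])
      exact h3 k this
    · exact (hdisj hk).mono (hsub k i) (hsub k' i')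
  · rw [Set.iUnion_sigma]
    exact Set.iUnion_congr h4

section Pullback

variable {Y : Scheme.{u}} (f : X ⟶ Y)
  {Q : ∀ T : Scheme.{u}, (T ⟶ Y) → Prop} {P' : ∀ T : Scheme.{u}, (T ⟶ X) → Prop}

lemma resLE_apply_val (V : Y.Opens) (D : X.Opens) (hDV : D ≤ f ⁻¹ᵁ V) (d : D) :
    ((f.resLE V D hDV) d).1 = f d.1 := by
  have := congrArg (fun φ => φ d) (Scheme.Hom.resLE_comp_ι f hDV)
  simpa only [Scheme.Hom.comp_apply, Scheme.Opens.ι_apply] using this

/-- Constructibility of the preimage of a stratum, inside an affine-like chart. -/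
lemma isConstructible_preimage_piece (V : Y.Opens) (U' D : X.Opens) (hDU : D ≤ U')
    (hDV : D ≤ f ⁻¹ᵁ V)
    (hDret : IsRetrocompact ((Subtype.val : ↥(U' : Set X) → X) ⁻¹' (D : Set X)))
    (A : Set Y) (hA : IsConstructible ((Subtype.val : ↥(V : Set Y) → Y) ⁻¹' A)) :
    IsConstructible ((Subtype.val : ↥(U' : Set X) → X) ⁻¹' ((D : Set X) ∩ f ⁻¹' A)) := by
  let fD : D.toScheme ⟶ V.toScheme := f.resLE V D hDV
  have hB : IsConstructible (fD ⁻¹' ((Subtype.val : ↥(V : Set Y) → Y) ⁻¹' A)) :=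
    Scheme.Hom.isConstructible_preimage fD hA
  let j : ↥(D : Set X) → ↥(U' : Set X) := fun d => ⟨d.1, hDU d.2⟩
  have hj : IsOpenEmbedding j := by
    have h1 : IsOpenEmbedding ((Subtype.val : ↥(U' : Set X) → X) ∘ j) :=
      D.isOpen.isOpenEmbedding_subtypeVal
    exact IsOpenEmbedding.of_comp j U'.isOpen.isOpenEmbedding_subtypeVal h1
  have hrange : Set.range j = (Subtype.val : ↥(U' : Set X) → X) ⁻¹' (D : Set X) := by
    ext x
    constructor
    · rintro ⟨d, rfl⟩
      exact d.2
    · intro hx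
      exact ⟨⟨x.1, hx⟩, rfl⟩
  have himg := hB.image_of_isOpenEmbedding hj (by rw [hrange]; exact hDret)
  convert himg using 1
  ext x
  simp only [Set.mem_preimage, Set.mem_inter_iff, SetLike.mem_coe, Set.mem_image]
  constructor
  · rintro ⟨hxD, hxA⟩
    refine ⟨⟨x.1, hxD⟩, ?_, rfl⟩
    have e := resLE_apply_val f V D hDV ⟨x.1, hxD⟩
    exact (congrArg (fun y => y ∈ A) e).mpr hxA
  · rintro ⟨d, hd, rfl⟩
    refine ⟨d.2, ?_⟩
    have e := resLE_apply_val f V D hDV d
    exact (congrArg (fun y => y ∈ A) e).mp hd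

/-- Pulling back the strata of an open `V ⊆ Y` to an immersed piece `z : Z ⟶ X` lying over `V`
and contained in a retrocompact open `D` of `U'`. -/
lemma strat_pullback_piece
    (hQP' : ∀ (T : Scheme.{u}) (g : T ⟶ Y) (T' : Scheme.{u}) (s : T' ⟶ T) (p : T' ⟶ X),
      p ≫ f = s ≫ g → Q T g → P' T' p)
    (V : Y.Opens) (hV : Strat Q (V : Set Y) (V : Set Y)) (U' D : X.Opens) (hDU : D ≤ U')
    (hDV : D ≤ f ⁻¹ᵁ V)
    (hDret : IsRetrocompact ((Subtype.val : ↥(U' : Set X) → X) ⁻¹' (D : Set X)))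
    {Z : Scheme.{u}} (z : Z ⟶ X) [IsImmersion z] (hzD : Set.range z ⊆ (D : Set X))
    (hzc : IsConstructible ((Subtype.val : ↥(U' : Set X) → X) ⁻¹' Set.range z)) :
    Strat P' (U' : Set X) (Set.range z) := by
  obtain ⟨ι, hι, T, g, h1, h2, h3, h4, h5⟩ := hV
  have hrange : ∀ i, Set.range (pullback.fst (z ≫ f) (g i) ≫ z) =
      Set.range z ∩ f ⁻¹' Set.range (g i) := by
    intro i
    rw [Scheme.Hom.comp_base, TopCat.coe_comp, Set.range_comp, Scheme.Pullback.range_fst]
    ext x
    simp only [Set.mem_image, Set.mem_preimage, Set.mem_inter_iff, Set.mem_range]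
    constructor
    · rintro ⟨y, hy, rfl⟩
      exact ⟨⟨y, rfl⟩, by simpa using hy⟩
    · rintro ⟨⟨y, rfl⟩, hy⟩
      exact ⟨y, by simpa using hy, rfl⟩
  refine ⟨ι, hι, fun i => pullback (z ≫ f) (g i), fun i => pullback.fst (z ≫ f) (g i) ≫ z,
    fun i => inferInstance, ?_, ?_, ?_, ?_⟩
  · intro i
    rw [hrange i]
    have hc := isConstructible_preimage_piece f V U' D hDU hDV hDret (Set.range (g i)) (h2 i)
    have : (Subtype.val : ↥(U' : Set X) → X) ⁻¹' (Set.range z ∩ f ⁻¹' Set.range (g i)) =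
        (Subtype.val : ↥(U' : Set X) → X) ⁻¹' Set.range z ∩
          (Subtype.val : ↥(U' : Set X) → X) ⁻¹' ((D : Set X) ∩ f ⁻¹' Set.range (g i)) := by
      ext x
      simp only [Set.mem_preimage, Set.mem_inter_iff]
      constructor
      · rintro ⟨hx1, hx2⟩
        exact ⟨hx1, hzD hx1, hx2⟩
      · rintro ⟨hx1, -, hx2⟩
        exact ⟨hx1, hx2⟩
    rw [this]
    exact hzc.inter hc
  · intro i i' hii'
    rw [hrange i, hrange i']
    exact ((h3 hii').preimage f).mono Set.inter_subset_right Set.inter_subset_right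
  · simp_rw [hrange]
    rw [← Set.inter_iUnion, ← Set.preimage_iUnion, h4]
    apply Set.inter_eq_left.2
    intro x hx
    exact hDV (hzD hx)
  · intro i
    refine hQP' (T i) (g i) _ (pullback.snd (z ≫ f) (g i)) _ ?_ (h5 i)
    rw [Category.assoc]
    exact pullback.condition

lemma isRetrocompact_basicOpen_val {U' : X.Opens} (hU : IsAffineOpen U') (h : Γ(X, U')) :
    IsRetrocompact ((Subtype.val : ↥(U' : Set X) → X) ⁻¹' (X.basicOpen h : Set X)) := by
  have : IsAffine U'.toScheme := hU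
  have hqs : QuasiSeparatedSpace ↥(U' : Set X) :=
    inferInstanceAs (QuasiSeparatedSpace ↥U'.toScheme)
  have hopen : IsOpen ((Subtype.val : ↥(U' : Set X) → X) ⁻¹' (X.basicOpen h : Set X)) :=
    (X.basicOpen h).isOpen.preimage continuous_subtype_val
  refine IsCompact.isRetrocompact ?_ hopen
  rw [Subtype.isCompact_iff, Subtype.image_preimage_coe, Set.inter_eq_right.2 (X.basicOpen_le h)]
  exact (hU.basicOpen h).isCompact

/-- **Pullback of stratifications**: if every affine open of `Y` is `Q`-stratified and `Q`-strata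
pull back to `P'`-strata, then every affine open of `X` is `P'`-stratified. -/
theorem strat_pullback
    (hQP' : ∀ (T : Scheme.{u}) (g : T ⟶ Y) (T' : Scheme.{u}) (s : T' ⟶ T) (p : T' ⟶ X),
      p ≫ f = s ≫ g → Q T g → P' T' p)
    (hY : ∀ V : Y.Opens, IsAffineOpen V → Strat Q (V : Set Y) (V : Set Y))
    (U' : X.Opens) (hU : IsAffineOpen U') : Strat P' (U' : Set X) (U' : Set X) := by
  -- local data at each point of `U'`
  have hloc : ∀ x : U', ∃ (V : Y.Opens) (h : Γ(X, U')), IsAffineOpen V ∧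
      x.1 ∈ X.basicOpen h ∧ X.basicOpen h ≤ f ⁻¹ᵁ V := by
    intro x
    obtain ⟨V, hV, hxV, -⟩ := exists_isAffineOpen_mem_and_subset (X := Y) (x := f x.1)
      (U := ⊤) trivial
    obtain ⟨h, hle, hx⟩ := hU.exists_basicOpen_le (V := f ⁻¹ᵁ V) ⟨x.1, hxV⟩ x.2
    exact ⟨V, h, hV, hx, hle⟩
  choose V h hV hx hle using hloc
  obtain ⟨t, ht⟩ := hU.isCompact.elim_finite_subcover (fun x : U' => (X.basicOpen (h x) : Set X))
    (fun x => (X.basicOpen (h x)).isOpen) (fun x hxU => Set.mem_iUnion.2 ⟨⟨x, hxU⟩, hx ⟨x, hxU⟩⟩)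
  let e : Fin t.card ≃ t := t.equivFin.symm
  let pt : Fin t.card → U' := fun k => (e k).1
  let D : Fin t.card → Set X := fun k => (X.basicOpen (h (pt k)) : Set X)
  have hDunion : (⋃ k, D k) = (U' : Set X) := by
    apply subset_antisymm
    · exact Set.iUnion_subset fun k => X.basicOpen_le (h (pt k))
    · intro x hxU
      obtain ⟨y, hy⟩ := Set.mem_iUnion.1 (ht hxU)
      obtain ⟨hyt, hxy⟩ := Set.mem_iUnion.1 hy
      exact Set.mem_iUnion.2 ⟨e.symm ⟨y, hyt⟩, by simpa [D, pt] using hxy⟩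
  -- the closed complements
  let C : Fin t.card → Closeds X := fun k =>
    ⟨(⋃ l ∈ Finset.Iio k, D l)ᶜ, (isOpen_biUnion fun l _ =>
      (X.basicOpen (h (pt l))).isOpen).isClosed_compl⟩
  have himm : ∀ k, ∃ (Z : Scheme.{u}) (z : Z ⟶ X), IsImmersion z ∧
      Set.range z = disjointed D k := by
    intro k
    obtain ⟨Z, z, hz, hr⟩ := exists_immersion_range (X.basicOpen (h (pt k))) (C k)
    refine ⟨Z, z, hz, ?_⟩
    rw [hr, disjointed_apply, Finset.sup_set_eq_biUnion]
    rfl
  choose Z z hz hr using himm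
  have hmain : ∀ k, Strat P' (U' : Set X) (disjointed D k) := by
    intro k
    rw [← hr k]
    have := hz k
    refine strat_pullback_piece f hQP' (V (pt k)) (hY _ (hV (pt k))) U' (X.basicOpen (h (pt k)))
      (X.basicOpen_le _) (hle (pt k)) (isRetrocompact_basicOpen_val hU _) (z k) ?_ ?_
    · rw [hr k]
      exact disjointed_subset D k
    · rw [hr k, disjointed_apply, Finset.sup_set_eq_biUnion, Set.preimage_sdiff]
      refine IsConstructible.sdiff ?_ ?_
      · exact (isRetrocompact_basicOpen_val hU (h (pt k))).isConstructible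
          ((X.basicOpen (h (pt k))).isOpen.preimage continuous_subtype_val)
      · rw [Set.preimage_iUnion₂]
        refine IsConstructible.biUnion (Finset.finite_toSet _) (fun l _ => ?_)
        exact (isRetrocompact_basicOpen_val hU (h (pt l))).isConstructible
          ((X.basicOpen (h (pt l))).isOpen.preimage continuous_subtype_val)
  have := Strat.iUnion (P := P') (U := (U' : Set X)) (fun k => disjointed D k)
    (fun k k' hkk' => disjoint_disjointed D hkk') hmain
  rwa [iUnion_disjointed, hDunion] at this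

end Pullback

end Groth.Agent.Lib.Seat29.Strata
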