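import Mathlib
import Groth.Prelude.Def_PBC
import Groth.Prelude.Def_EtCore
import Groth.Agent.Lib.Seat29Strata
import Groth.Agent.Lib.Seat29EtPull

/-!
# Inverse image of constructible étale sheaves (seat 29)
-/

set_option autoImplicit false

universe u

open CategoryTheory CategoryTheory.Limits AlgebraicGeometry Opposite

namespace Groth.Agent.Lib.Seat29.EtConstrPull

open Groth.Agent.Lib.Seat29.Strata Groth.Agent.Lib.Seat29.EtPull

variable {X Y : Scheme.{u}}

/-- Finite local constancy is invariant under isomorphism. -/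
lemma isFLC_of_iso {F G : EtCoh.Ab X} (e : F ≅ G) (h : EtCoh.IsFiniteLocallyConstant F) :
    EtCoh.IsFiniteLocallyConstant G := by
  obtain ⟨ι, U, hU, hM⟩ := h
  refine ⟨ι, U, hU, fun i => ?_⟩
  obtain ⟨M, i1, i2, ⟨α⟩⟩ := hM i
  exact ⟨M, i1, i2, ⟨((X.smallEtaleTopology.overPullback AddCommGrpCat.{u + 1} (U i)).mapIso
    e).symm ≪≫ α⟩⟩

/-- The predicate used in abelian adapted strata. -/
def QAb (F : EtCoh.Ab X) : ∀ T : Scheme.{u}, (T ⟶ X) → Prop :=
  fun _ g => EtCoh.IsFiniteLocallyConstant ((EtCoh.pull g).obj F)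

lemma adaptedStrata_iff (F : EtCoh.Ab X) (S : Set X) :
    EtPBC.AdaptedStrata F S ↔ Strat (QAb F) S S := by
  rw [strat_iff_fin]
  constructor
  · rintro ⟨n, T, g, h1, h2, h3, h4, h5⟩
    exact ⟨n, T, g, h1, h2, h3, h4, fun i => h5 i⟩
  · rintro ⟨n, T, g, h1, h2, h3, h4, h5⟩
    exact ⟨n, T, g, h1, h2, h3, h4, fun i _ => h5 i⟩

/-- Compatibility of pullbacks along a commutative square. -/
lemma qAb_pull (f : X ⟶ Y) (F : EtCoh.Ab Y) (T : Scheme.{u}) (g : T ⟶ Y) (T' : Scheme.{u})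
    (s : T' ⟶ T) (p : T' ⟶ X) (w : p ≫ f = s ≫ g) (h : QAb F T g) :
    QAb ((EtCoh.pull f).obj F) T' p := by
  have h1 : EtCoh.IsFiniteLocallyConstant ((EtCoh.pull s).obj ((EtCoh.pull g).obj F)) :=
    isFiniteLocallyConstant_pull s _ h
  refine isFLC_of_iso ?_ h1
  exact ((EtCore.pullComp s g).app F).symm ≪≫ (EtCore.pullCongr w.symm).app F ≪≫
    (EtCore.pullComp p f).app F

/-- **Inverse image preserves constructible abelian sheaves.** -/
theorem isConstructible_pull (f : X ⟶ Y) (F : EtCoh.Ab Y) (hF : EtPBC.IsConstructible F) :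
    EtPBC.IsConstructible ((EtCoh.pull f).obj F) := by
  intro U hU
  rw [adaptedStrata_iff]
  exact strat_pullback f (qAb_pull f F)
    (fun V hV => (adaptedStrata_iff F _).1 (hF V hV)) U hU

end Groth.Agent.Lib.Seat29.EtConstrPull
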