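import Mathlib
import Groth.Agent.Lib.Seat29Strata

/-!
# Common refinement of two stratifications (seat 29)
-/

set_option autoImplicit false

universe u

open CategoryTheory CategoryTheory.Limits AlgebraicGeometry Opposite TopologicalSpace Topology

namespace Groth.Agent.Lib.Seat29.Strata

variable {X : Scheme.{u}}

lemma range_pullback_fst_comp {T₁ T₂ : Scheme.{u}} (g₁ : T₁ ⟶ X) (g₂ : T₂ ⟶ X) :
    Set.range (pullback.fst g₁ g₂ ≫ g₁) = Set.range g₁ ∩ Set.range g₂ := by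
  rw [Scheme.Hom.comp_base, TopCat.coe_comp, Set.range_comp, Scheme.Pullback.range_fst,
    Set.image_preimage_eq_range_inter]

/-- Common refinement: fibre products of strata. -/
lemma Strat.inter {P₁ P₂ R : ∀ T : Scheme.{u}, (T ⟶ X) → Prop}
    (hR : ∀ (T₁ : Scheme.{u}) (g₁ : T₁ ⟶ X) (T₂ : Scheme.{u}) (g₂ : T₂ ⟶ X),
      P₁ T₁ g₁ → P₂ T₂ g₂ → R (pullback g₁ g₂) (pullback.fst g₁ g₂ ≫ g₁))
    {U S : Set X} (h₁ : Strat P₁ U S) (h₂ : Strat P₂ U S) : Strat R U S := by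
  obtain ⟨ι₁, _, T₁, g₁, a1, a2, a3, a4, a5⟩ := h₁
  obtain ⟨ι₂, _, T₂, g₂, b1, b2, b3, b4, b5⟩ := h₂
  refine ⟨ι₁ × ι₂, inferInstance, fun p => pullback (g₁ p.1) (g₂ p.2),
    fun p => pullback.fst (g₁ p.1) (g₂ p.2) ≫ g₁ p.1, ?_, ?_, ?_, ?_, ?_⟩
  · intro p
    have := a1 p.1
    have := b1 p.2
    infer_instance
  · intro p
    rw [range_pullback_fst_comp, Set.preimage_inter]
    exact (a2 p.1).inter (b2 p.2)
  · rintro ⟨i, j⟩ ⟨i', j'⟩ hne
    dsimp only
    rw [range_pullback_fst_comp, range_pullback_fst_comp]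
    by_cases hi : i = i'
    · subst hi
      have hj : j ≠ j' := fun h => hne (by rw [h])
      exact (b3 hj).mono Set.inter_subset_right Set.inter_subset_right
    · exact (a3 hi).mono Set.inter_subset_left Set.inter_subset_left
  · simp_rw [range_pullback_fst_comp]
    ext x
    simp only [Set.mem_iUnion, Set.mem_inter_iff, Prod.exists]
    constructor
    · rintro ⟨i, j, hx1, -⟩
      rw [← a4]
      exact Set.mem_iUnion.2 ⟨i, hx1⟩
    · intro hx
      have hx1 : x ∈ ⋃ i, Set.range (g₁ i) := by rw [a4]; exact hx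
      have hx2 : x ∈ ⋃ j, Set.range (g₂ j) := by rw [b4]; exact hx
      obtain ⟨i, hi⟩ := Set.mem_iUnion.1 hx1
      obtain ⟨j, hj⟩ := Set.mem_iUnion.1 hx2
      exact ⟨i, j, hi, hj⟩
  · intro p
    exact hR _ _ _ _ (a5 p.1) (b5 p.2)

end Groth.Agent.Lib.Seat29.Strata
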