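import Mathlib
import Groth.Agent.Lib.Seat29Strata2
import Groth.Agent.Lib.Seat29EtConstrPull
import Groth.Agent.Lib.Seat29EtAbLC
import Groth.Agent.Lib.Seat38PullExact

/-!
# Kernels, cokernels and extensions of constructible abelian étale sheaves (seat 29)
-/

set_option autoImplicit false

universe u

open CategoryTheory CategoryTheory.Limits AlgebraicGeometry Opposite

namespace Groth.Agent.Lib.Seat29.EtConstrKer

open Groth.Agent.Lib.Seat29.Strata Groth.Agent.Lib.Seat29.EtPull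
  Groth.Agent.Lib.Seat29.EtConstrPull Groth.Agent.Lib.Seat29.EtAbLC
  Groth.Agent.Lib.Seat38.PullExact

variable {X : Scheme.{u}}

/-- Weakening the predicate of a stratification. -/
lemma Strat.imp {P P' : ∀ T : Scheme.{u}, (T ⟶ X) → Prop} (h : ∀ T g, P T g → P' T g)
    {U S : Set X} (hS : Strat P U S) : Strat P' U S := by
  obtain ⟨ι, hι, T, g, h1, h2, h3, h4, h5⟩ := hS
  exact ⟨ι, hι, T, g, h1, h2, h3, h4, fun i => h _ _ (h5 i)⟩

/-- Strata remain adapted after further pullback. -/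
lemma qAb_comp (F : EtCoh.Ab X) {T T' : Scheme.{u}} (g : T ⟶ X) (s : T' ⟶ T) (h : QAb F T g) :
    QAb F T' (s ≫ g) := by
  have h1 : EtCoh.IsFiniteLocallyConstant ((EtCoh.pull s).obj ((EtCoh.pull g).obj F)) :=
    isFiniteLocallyConstant_pull s _ h
  exact isFLC_of_iso ((EtCore.pullComp s g).app F).symm h1

lemma qAb_of_eq (F : EtCoh.Ab X) {T : Scheme.{u}} {p p' : T ⟶ X} (e : p = p') (h : QAb F T p) :
    QAb F T p' := by
  subst e
  exact h

/-- Kernels and cokernels of maps of constructible abelian sheaves are constructible. -/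
theorem isConstructible_ker_coker {F G : EtCoh.Ab X} (φ : F ⟶ G)
    (hF : EtPBC.IsConstructible F) (hG : EtPBC.IsConstructible G) :
    EtPBC.IsConstructible (kernel φ) ∧ EtPBC.IsConstructible (cokernel φ) := by
  have key : ∀ U : X.Opens, IsAffineOpen U →
      Strat (fun T p => QAb (kernel φ) T p ∧ QAb (cokernel φ) T p) (U : Set X) (U : Set X) := by
    intro U hU
    refine Strat.inter ?_ ((adaptedStrata_iff F _).1 (hF U hU)) ((adaptedStrata_iff G _).1 (hG U hU))
    intro T₁ g₁ T₂ g₂ h1 h2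
    have hpF : QAb F _ (pullback.fst g₁ g₂ ≫ g₁) := qAb_comp F g₁ _ h1
    have hpG : QAb G _ (pullback.fst g₁ g₂ ≫ g₁) :=
      qAb_of_eq G pullback.condition.symm (qAb_comp G g₂ (pullback.snd g₁ g₂) h2)
    obtain ⟨k1, k2⟩ := isFLC_ker_coker ((EtCoh.pull (pullback.fst g₁ g₂ ≫ g₁)).map φ) hpF hpG
    exact ⟨isFLC_of_iso (PreservesKernel.iso (EtCoh.pull (pullback.fst g₁ g₂ ≫ g₁)) φ).symm k1,
      isFLC_of_iso (PreservesCokernel.iso (EtCoh.pull (pullback.fst g₁ g₂ ≫ g₁)) φ).symm k2⟩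
  constructor
  · intro U hU
    rw [adaptedStrata_iff]
    exact Strat.imp (fun T g h => h.1) (key U hU)
  · intro U hU
    rw [adaptedStrata_iff]
    exact Strat.imp (fun T g h => h.2) (key U hU)

/-- Extensions of constructible abelian sheaves are constructible. -/
theorem isConstructible_ext (S : ShortComplex (EtCoh.Ab X)) (hS : S.ShortExact)
    (h1 : EtPBC.IsConstructible S.X₁) (h3 : EtPBC.IsConstructible S.X₃) :
    EtPBC.IsConstructible S.X₂ := by
  intro U hU
  rw [adaptedStrata_iff]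
  refine Strat.inter ?_ ((adaptedStrata_iff S.X₁ _).1 (h1 U hU))
    ((adaptedStrata_iff S.X₃ _).1 (h3 U hU))
  intro T₁ g₁ T₂ g₂ k1 k3
  have hp1 : QAb S.X₁ _ (pullback.fst g₁ g₂ ≫ g₁) := qAb_comp S.X₁ g₁ _ k1
  have hp3 : QAb S.X₃ _ (pullback.fst g₁ g₂ ≫ g₁) :=
    qAb_of_eq S.X₃ pullback.condition.symm (qAb_comp S.X₃ g₂ (pullback.snd g₁ g₂) k3)
  have hS' : (S.map (EtCoh.pull (pullback.fst g₁ g₂ ≫ g₁))).ShortExact :=
    hS.map_of_exact _
  exact isFLC_ext (S.map (EtCoh.pull (pullback.fst g₁ g₂ ≫ g₁))) hS' hp1 hp3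

end Groth.Agent.Lib.Seat29.EtConstrKer
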