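import Mathlib
import Groth.Agent.Lib.Seat29Strata2

/-!
# Further operations on stratifications (seat 29)

* `Strat.restrict`: restriction of a stratification to the range of an immersion, with change of
  the ambient subspace;
* `strat_of_local`: a stratification of an affine open can be assembled from data local for the
  basic-open topology;
* `isConstructible_val_iff`: constructibility in a retrocompact open subspace.
-/

set_option autoImplicit false

universe u

open CategoryTheory CategoryTheory.Limits AlgebraicGeometry Opposite TopologicalSpace Topology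

namespace Groth.Agent.Lib.Seat29.Strata

variable {X : Scheme.{u}}

/-- Restriction of a stratification to the range of an immersion. -/
lemma Strat.restrict {P : ∀ T : Scheme.{u}, (T ⟶ X) → Prop}
    (hP : ∀ (T : Scheme.{u}) (g : T ⟶ X) (T' : Scheme.{u}) (s : T' ⟶ T), P T g → P T' (s ≫ g))
    {U U' S : Set X} (h : Strat P U S) {Z : Scheme.{u}} (z : Z ⟶ X) [IsImmersion z]
    (hamb : ∀ A : Set X, A ⊆ S → IsConstructible ((Subtype.val : U → X) ⁻¹' A) →
      IsConstructible ((Subtype.val : U' → X) ⁻¹' (A ∩ Set.range z))) :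
    Strat P U' (S ∩ Set.range z) := by
  obtain ⟨ι, hι, T, g, h1, h2, h3, h4, h5⟩ := h
  have hsub : ∀ i, Set.range (g i) ⊆ S := by
    intro i
    rw [← h4]
    exact Set.subset_iUnion (fun i => Set.range (g i)) i
  refine ⟨ι, hι, fun i => pullback (g i) z, fun i => pullback.fst (g i) z ≫ g i, ?_, ?_, ?_, ?_,
    ?_⟩
  · intro i
    have := h1 i
    infer_instance
  · intro i
    rw [range_pullback_fst_comp]
    exact hamb _ (hsub i) (h2 i)
  · intro i i' hii'
    rw [range_pullback_fst_comp, range_pullback_fst_comp]
    exact (h3 hii').mono Set.inter_subset_left Set.inter_subset_left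
  · simp_rw [range_pullback_fst_comp]
    rw [← Set.iUnion_inter, h4]
  · intro i
    exact hP _ _ _ _ (h5 i)

/-- Constructibility in a retrocompact open subspace, for subsets of it. -/
lemma isConstructible_val_iff {W : Set X} (hW : IsOpen W) (hWr : IsRetrocompact W) {A : Set X}
    (hA : A ⊆ W) :
    IsConstructible ((Subtype.val : ↥W → X) ⁻¹' A) ↔ IsConstructible A :=
  isConstructible_preimage_iff_of_isOpenEmbedding hW.isOpenEmbedding_subtypeVal
    (by rw [Subtype.range_coe]; exact hWr) (by rw [Subtype.range_coe]; exact hA)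

lemma isConstructible_val_univ_iff {A : Set X} :
    IsConstructible ((Subtype.val : ↥(Set.univ : Set X) → X) ⁻¹' A) ↔ IsConstructible A :=
  isConstructible_val_iff isOpen_univ IsRetrocompact.univ (Set.subset_univ A)

/-- A stratification of an affine open can be assembled from basic-open-local data. -/
theorem strat_of_local {P' : ∀ T : Scheme.{u}, (T ⟶ X) → Prop} (U' : X.Opens)
    (hU : IsAffineOpen U')
    (hloc : ∀ x : U', ∃ h : Γ(X, U'), x.1 ∈ X.basicOpen h ∧
      ∀ (Z : Scheme.{u}) (z : Z ⟶ X), IsImmersion z → Set.range z ⊆ (X.basicOpen h : Set X) →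
        IsConstructible ((Subtype.val : ↥(U' : Set X) → X) ⁻¹' Set.range z) →
        Strat P' (U' : Set X) (Set.range z)) :
    Strat P' (U' : Set X) (U' : Set X) := by
  choose h hx hpiece using hloc
  obtain ⟨t, ht⟩ := hU.isCompact.elim_finite_subcover (fun x : U' => (X.basicOpen (h x) : Set X))
    (fun x => (X.basicOpen (h x)).isOpen) (fun x hxU => Set.mem_iUnion.2 ⟨⟨x, hxU⟩, hx ⟨x, hxU⟩⟩)
  let e : Fin t.card ≃ t := t.equivFin.symm
  let pt : Fin t.card → U' := fun k => (e k).1
  let D : Fin t.card → Set X := fun k => (X.basicOpen (h (pt k)) : Set X)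
  have hDunion : (⋃ k, D k) = (U' : Set X) := by
    apply subset_antisymm
    · exact Set.iUnion_subset fun k => X.basicOpen_le (h (pt k))
    · intro x hxU
      obtain ⟨y, hy⟩ := Set.mem_iUnion.1 (ht hxU)
      obtain ⟨hyt, hxy⟩ := Set.mem_iUnion.1 hy
      exact Set.mem_iUnion.2 ⟨e.symm ⟨y, hyt⟩, by simpa [D, pt] using hxy⟩
  let C : Fin t.card → Closeds X := fun k =>
    ⟨(⋃ l ∈ Finset.Iio k, D l)ᶜ, (isOpen_biUnion fun l _ =>
      (X.basicOpen (h (pt l))).isOpen).isClosed_compl⟩
  have himm : ∀ k, ∃ (Z : Scheme.{u}) (z : Z ⟶ X), IsImmersion z ∧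
      Set.range z = disjointed D k := by
    intro k
    obtain ⟨Z, z, hz, hr⟩ := exists_immersion_range (X.basicOpen (h (pt k))) (C k)
    refine ⟨Z, z, hz, ?_⟩
    rw [hr, disjointed_apply, Finset.sup_set_eq_biUnion]
    rfl
  choose Z z hz hr using himm
  have hmain : ∀ k, Strat P' (U' : Set X) (disjointed D k) := by
    intro k
    rw [← hr k]
    refine hpiece (pt k) (Z k) (z k) (hz k) ?_ ?_
    · rw [hr k]
      exact disjointed_subset D k
    · rw [hr k, disjointed_apply, Finset.sup_set_eq_biUnion, Set.preimage_sdiff]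
      refine IsConstructible.sdiff ?_ ?_
      · exact (isRetrocompact_basicOpen_val hU (h (pt k))).isConstructible
          ((X.basicOpen (h (pt k))).isOpen.preimage continuous_subtype_val)
      · rw [Set.preimage_iUnion₂]
        refine IsConstructible.biUnion (Finset.finite_toSet _) (fun l _ => ?_)
        exact (isRetrocompact_basicOpen_val hU (h (pt l))).isConstructible
          ((X.basicOpen (h (pt l))).isOpen.preimage continuous_subtype_val)
  have := Strat.iUnion (P := P') (U := (U' : Set X)) (fun k => disjointed D k)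
    (fun k k' hkk' => disjoint_disjointed D hkk') hmain
  rwa [iUnion_disjointed, hDunion] at this

section Univ

variable {P : ∀ T : Scheme.{u}, (T ⟶ X) → Prop}
  (hP : ∀ (T : Scheme.{u}) (g : T ⟶ X) (T' : Scheme.{u}) (s : T' ⟶ T), P T g → P T' (s ≫ g))

include hP

/-- A global stratification restricts to every open subscheme. -/
theorem strat_open_of_univ (h : Strat P (Set.univ : Set X) (Set.univ : Set X)) (W : X.Opens) :
    Strat P (W : Set X) (W : Set X) := by
  have := Strat.restrict hP (U' := (W : Set X)) h W.ι (fun A _ hA => by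
    rw [isConstructible_val_univ_iff] at hA
    have h2 : IsConstructible (W.ι ⁻¹' A) := Scheme.Hom.isConstructible_preimage W.ι hA
    rw [Scheme.Opens.range_ι]
    have e : (Subtype.val : ↥(W : Set X) → X) ⁻¹' (A ∩ (W : Set X)) =
        (Subtype.val : ↥(W : Set X) → X) ⁻¹' A := by
      ext x
      simp only [Set.mem_preimage, Set.mem_inter_iff, SetLike.mem_coe]
      constructor
      · rintro ⟨hx, -⟩
        exact hx
      · intro hx
        exact ⟨hx, x.2⟩
    rw [e]
    exact h2)
  rwa [Scheme.Opens.range_ι, Set.univ_inter] at this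

/-- On a quasi-compact quasi-separated scheme, affine-local stratifications glue to a global
one. -/
theorem strat_univ_of_affine [CompactSpace X] [QuasiSeparatedSpace X]
    (h : ∀ W : X.Opens, IsAffineOpen W → Strat P (W : Set X) (W : Set X)) :
    Strat P (Set.univ : Set X) (Set.univ : Set X) := by
  have hloc : ∀ x : X, ∃ W : X.Opens, IsAffineOpen W ∧ x ∈ W := by
    intro x
    obtain ⟨W, hW, hxW, -⟩ := exists_isAffineOpen_mem_and_subset (X := X) (x := x)
      (U := ⊤) trivial
    exact ⟨W, hW, hxW⟩
  choose W hW hxW using hloc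
  obtain ⟨t, ht⟩ := isCompact_univ.elim_finite_subcover (fun x : X => (W x : Set X))
    (fun x => (W x).isOpen) (fun x _ => Set.mem_iUnion.2 ⟨x, hxW x⟩)
  let e : Fin t.card ≃ t := t.equivFin.symm
  let pt : Fin t.card → X := fun k => (e k).1
  let D : Fin t.card → Set X := fun k => (W (pt k) : Set X)
  have hDunion : (⋃ k, D k) = (Set.univ : Set X) := by
    apply Set.eq_univ_of_univ_subset
    intro x hxU
    obtain ⟨y, hy⟩ := Set.mem_iUnion.1 (ht hxU)
    obtain ⟨hyt, hxy⟩ := Set.mem_iUnion.1 hy
    exact Set.mem_iUnion.2 ⟨e.symm ⟨y, hyt⟩, by simpa [D, pt] using hxy⟩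
  have hDr : ∀ k, IsRetrocompact (D k) := fun k =>
    (QuasiSeparatedSpace.isRetrocompact_iff_isCompact (W (pt k)).isOpen).2 (hW (pt k)).isCompact
  let C : Fin t.card → Closeds X := fun k =>
    ⟨(⋃ l ∈ Finset.Iio k, D l)ᶜ, (isOpen_biUnion fun l _ => (W (pt l)).isOpen).isClosed_compl⟩
  have himm : ∀ k, ∃ (Z : Scheme.{u}) (z : Z ⟶ X), IsImmersion z ∧
      Set.range z = disjointed D k := by
    intro k
    obtain ⟨Z, z, hz, hr⟩ := exists_immersion_range (W (pt k)) (C k)
    refine ⟨Z, z, hz, ?_⟩
    rw [hr, disjointed_apply, Finset.sup_set_eq_biUnion]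
    rfl
  choose Z z hz hr using himm
  have hZc : ∀ k, IsConstructible (disjointed D k) := by
    intro k
    rw [disjointed_apply, Finset.sup_set_eq_biUnion]
    refine IsConstructible.sdiff ((hDr k).isConstructible (W (pt k)).isOpen) ?_
    exact IsConstructible.biUnion (Finset.finite_toSet _)
      (fun l _ => (hDr l).isConstructible (W (pt l)).isOpen)
  have hmain : ∀ k, Strat P (Set.univ : Set X) (disjointed D k) := by
    intro k
    have := hz k
    have h1 := Strat.restrict hP (U' := (Set.univ : Set X)) (h (W (pt k)) (hW (pt k))) (z k)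
      (fun A hAW hA => by
        rw [isConstructible_val_iff (W (pt k)).isOpen (hDr k) hAW] at hA
        rw [isConstructible_val_univ_iff, hr k]
        exact hA.inter (hZc k))
    rwa [hr k, Set.inter_eq_right.2 (disjointed_subset D k)] at h1
  have := Strat.iUnion (P := P) (U := (Set.univ : Set X)) (fun k => disjointed D k)
    (fun k k' hkk' => disjoint_disjointed D hkk') hmain
  rwa [iUnion_disjointed, hDunion] at this

end Univ

end Groth.Agent.Lib.Seat29.Strata
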