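import Mathlib
import Groth.Agent.Lib.Seat29Strata3

/-!
# Transport of stratifications along open subschemes (seat 29)
-/

set_option autoImplicit false

universe u

open CategoryTheory CategoryTheory.Limits AlgebraicGeometry Opposite TopologicalSpace Topology

namespace Groth.Agent.Lib.Seat29.Strata

variable {X : Scheme.{u}}

/-- Constructibility in a subspace `D` implies constructibility in a bigger subspace `W` in which
`D` is retrocompact. -/
lemma isConstructible_val_of_val {W D : X.Opens} (hDW : D ≤ W)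
    (hDret : IsRetrocompact ((Subtype.val : ↥(W : Set X) → X) ⁻¹' (D : Set X)))
    {A : Set X} (hA : A ⊆ (D : Set X))
    (h : IsConstructible ((Subtype.val : ↥(D : Set X) → X) ⁻¹' A)) :
    IsConstructible ((Subtype.val : ↥(W : Set X) → X) ⁻¹' A) := by
  let j : ↥(D : Set X) → ↥(W : Set X) := fun d => ⟨d.1, hDW d.2⟩
  have hj : IsOpenEmbedding j := by
    have h1 : IsOpenEmbedding ((Subtype.val : ↥(W : Set X) → X) ∘ j) :=
      D.isOpen.isOpenEmbedding_subtypeVal
    exact IsOpenEmbedding.of_comp j W.isOpen.isOpenEmbedding_subtypeVal h1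
  have hrange : Set.range j = (Subtype.val : ↥(W : Set X) → X) ⁻¹' (D : Set X) := by
    ext x
    constructor
    · rintro ⟨d, rfl⟩
      exact d.2
    · intro hx
      exact ⟨⟨x.1, hx⟩, rfl⟩
  have himg := h.image_of_isOpenEmbedding hj (by rw [hrange]; exact hDret)
  have e : j '' ((Subtype.val : ↥(D : Set X) → X) ⁻¹' A) =
      (Subtype.val : ↥(W : Set X) → X) ⁻¹' A := by
    ext x
    simp only [Set.mem_image, Set.mem_preimage]
    constructor
    · rintro ⟨d, hd, rfl⟩
      exact hd
    · intro hx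
      exact ⟨⟨x.1, hA hx⟩, hx, rfl⟩
  rw [← e]
  exact himg

/-- Transport of a stratification along the inclusion of an open subscheme `V`. -/
lemma Strat.map_ι (V : X.Opens) {P' : ∀ T : Scheme.{u}, (T ⟶ V.toScheme) → Prop}
    {P : ∀ T : Scheme.{u}, (T ⟶ X) → Prop}
    (hPP : ∀ (T : Scheme.{u}) (g : T ⟶ V.toScheme), P' T g → P T (g ≫ V.ι))
    (D : X.Opens) (hDV : D ≤ V)
    (h : Strat P' ((V.ι ⁻¹ᵁ D : V.toScheme.Opens) : Set V.toScheme)
      ((V.ι ⁻¹ᵁ D : V.toScheme.Opens) : Set V.toScheme)) :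
    Strat P (D : Set X) (D : Set X) := by
  obtain ⟨ι, hι, T, g, h1, h2, h3, h4, h5⟩ := h
  have hrange : ∀ i, Set.range (g i ≫ V.ι) = V.ι '' Set.range (g i) := by
    intro i
    rw [Scheme.Hom.comp_base, TopCat.coe_comp, Set.range_comp]
  have hinj : Function.Injective V.ι := V.ι.isOpenEmbedding.injective
  refine ⟨ι, hι, T, fun i => g i ≫ V.ι, ?_, ?_, ?_, ?_, fun i => hPP _ _ (h5 i)⟩
  · intro i
    have := h1 i
    infer_instance
  · intro i
    rw [hrange i]
    let e : ↥(D : Set X) → ↥((V.ι ⁻¹ᵁ D : V.toScheme.Opens) : Set V.toScheme) :=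
      fun d => ⟨⟨d.1, hDV d.2⟩, d.2⟩
    have he : IsOpenEmbedding e := by
      have hc : IsOpenEmbedding ((Subtype.val : ↥(V : Set X) → X) ∘
          (Subtype.val : ↥((V.ι ⁻¹ᵁ D : V.toScheme.Opens) : Set V.toScheme) → V.toScheme)) :=
        V.isOpen.isOpenEmbedding_subtypeVal.comp
          (V.ι ⁻¹ᵁ D).isOpen.isOpenEmbedding_subtypeVal
      have h1 : IsOpenEmbedding (((Subtype.val : ↥(V : Set X) → X) ∘
          (Subtype.val : ↥((V.ι ⁻¹ᵁ D : V.toScheme.Opens) : Set V.toScheme) → V.toScheme)) ∘ e) :=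
        D.isOpen.isOpenEmbedding_subtypeVal
      exact IsOpenEmbedding.of_comp e hc h1
    have hpre := (h2 i).preimage_of_isOpenEmbedding he
    have eq : e ⁻¹' ((Subtype.val : ↥((V.ι ⁻¹ᵁ D : V.toScheme.Opens) : Set V.toScheme) →
        V.toScheme) ⁻¹' Set.range (g i)) =
        (Subtype.val : ↥(D : Set X) → X) ⁻¹' (V.ι '' Set.range (g i)) := by
      ext d
      simp only [Set.mem_preimage, Set.mem_image]
      constructor
      · intro hd
        exact ⟨_, hd, rfl⟩
      · rintro ⟨y, hy, hyd⟩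
        have : y = ⟨d.1, hDV d.2⟩ := hinj hyd
        subst this
        exact hy
    rw [← eq]
    exact hpre
  · intro i i' hii'
    rw [hrange i, hrange i']
    exact (Set.disjoint_image_iff hinj).2 (h3 hii')
  · simp_rw [hrange]
    rw [← Set.image_iUnion, h4]
    ext x
    simp only [Set.mem_image, SetLike.mem_coe]
    constructor
    · rintro ⟨y, hy, rfl⟩
      exact hy
    · intro hx
      exact ⟨⟨x, hDV hx⟩, hx, rfl⟩

end Groth.Agent.Lib.Seat29.Strata
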