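import Mathlib

/-!
# Open constructible subsets are quasi-compact (seat 82)

Namespace `Groth.Agent.Lib.Seat82.ConstructibleOpen`.
* `isOpen_constructibleTopology_of_isConstructible`: in a compact space, a constructible set and its complement are open
  for the constructible topology.
* `isCompact_of_isOpen_of_isConstructible`: in a quasi-compact, quasi-separated, quasi-sober, prespectral space (e.g. a
  qcqs scheme), an open constructible subset is quasi-compact (Stacks 0903-type statement), from compactness of the
  constructible topology.
* `isCompact_compl_of_isClosed_of_isConstructible`.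
-/

set_option autoImplicit false
open Topology TopologicalSpace

namespace Groth.Agent.Lib.Seat82.ConstructibleOpen

variable {X : Type*} [TopologicalSpace X]

theorem isOpen_constructibleTopology_of_isConstructible [CompactSpace X] {s : Set X}
    (hs : IsConstructible s) :
    IsOpen[constructibleTopology X] s ∧ IsOpen[constructibleTopology X] sᶜ := by
  induction hs using IsConstructible.empty_union_induction with
  | open_retrocompact U hUo hUc =>
    exact ⟨hUc.isCompact.isOpen_constructibleTopology_of_isOpen hUo,
      IsCompact.isOpen_constructibleTopology_of_isClosed (by rw [compl_compl]; exact hUc.isCompact)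
        hUo.isClosed_compl⟩
  | union s hs t ht ihs iht =>
    refine ⟨@IsOpen.union _ _ _ (constructibleTopology X) ihs.1 iht.1, ?_⟩
    rw [Set.compl_union]
    exact @IsOpen.inter _ (constructibleTopology X) _ _ ihs.2 iht.2
  | compl s hs ih =>
    exact ⟨ih.2, by rw [compl_compl]; exact ih.1⟩

theorem isOpen_constructibleTopology_of_isOpen [PrespectralSpace X] {U : Set X} (hU : IsOpen U) :
    IsOpen[constructibleTopology X] U := by
  obtain ⟨S, hS, rfl⟩ := (PrespectralSpace.isTopologicalBasis (X := X)).open_eq_sUnion hU
  exact @isOpen_sUnion _ (constructibleTopology X) _ fun t ht =>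
    (hS ht).2.isOpen_constructibleTopology_of_isOpen (hS ht).1

theorem isCompact_of_isOpen_of_isConstructible [CompactSpace X] [QuasiSober X] [PrespectralSpace X]
    [QuasiSeparatedSpace X] {s : Set X} (hc : IsConstructible s) : IsCompact s := by
  let g : WithConstructibleTopology X → X := WithTopology.ofTopology
  have hg : Continuous g := by
    refine ⟨fun U hU => ?_⟩
    rw [WithConstructibleTopology.isOpen_iff]
    exact isOpen_constructibleTopology_of_isOpen hU
  have hcl : IsClosed (g ⁻¹' s) := by
    rw [← isOpen_compl_iff, WithConstructibleTopology.isOpen_iff]
    exact (isOpen_constructibleTopology_of_isConstructible hc).2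
  have hcomp : IsCompact (g ⁻¹' s) := hcl.isCompact
  have := hcomp.image hg
  rwa [Set.image_preimage_eq _ (WithTopology.ofTopology_surjective _)] at this

end Groth.Agent.Lib.Seat82.ConstructibleOpen
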