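import Mathlib
import Groth.Agent.Lib.Seat29Strata4
import Groth.Agent.Lib.Seat29ConstrTop
import Groth.Agent.Lib.Seat82ConstructibleOpen

/-!
# Gluing stratifications along constructible locally closed pieces (seat 29)
-/

set_option autoImplicit false

universe u

open CategoryTheory CategoryTheory.Limits AlgebraicGeometry Opposite TopologicalSpace Topology

namespace Groth.Agent.Lib.Seat29.Strata

open Groth.Agent.Lib.Seat29.ConstrTop

variable {X : Scheme.{u}}

/-- The empty set is stratified. -/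
lemma Strat.empty {Q : ∀ T : Scheme.{u}, (T ⟶ X) → Prop} {U : Set X} : Strat Q U ∅ :=
  ⟨PEmpty, inferInstance, fun i => i.elim, fun i => i.elim, fun i => i.elim, fun i => i.elim,
    fun i => i.elim, by simp, fun i => i.elim⟩

/-- Transport of a global stratification along an immersion whose range is `O ∩ C` with `O`, `Cᶜ`
retrocompact open. -/
lemma Strat.map_immersion {P : Scheme.{u}} (p : P ⟶ X) [IsImmersion p] {O C : Set X}
    (hO : IsOpen O) (hOr : IsRetrocompact O) (hC : IsClosed C) (hCr : IsRetrocompact Cᶜ)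
    (hrange : Set.range p = O ∩ C)
    {P' : ∀ T : Scheme.{u}, (T ⟶ P) → Prop} {Q : ∀ T : Scheme.{u}, (T ⟶ X) → Prop}
    (hPQ : ∀ (T : Scheme.{u}) (g : T ⟶ P), P' T g → Q T (g ≫ p))
    (h : Strat P' (Set.univ : Set P) (Set.univ : Set P)) :
    Strat Q (Set.univ : Set X) (Set.range p) := by
  obtain ⟨ι, hι, T, g, h1, h2, h3, h4, h5⟩ := h
  have hr : ∀ i, Set.range (g i ≫ p) = p '' Set.range (g i) := by
    intro i
    rw [Scheme.Hom.comp_base, TopCat.coe_comp, Set.range_comp]
  have hinj : Function.Injective p := p.isEmbedding.injective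
  refine ⟨ι, hι, T, fun i => g i ≫ p, ?_, ?_, ?_, ?_, fun i => hPQ _ _ (h5 i)⟩
  · intro i
    have := h1 i
    infer_instance
  · intro i
    rw [hr i, isConstructible_val_univ_iff]
    exact isConstructible_image_of_isEmbedding p.isEmbedding hO hOr hC hCr hrange
      (isConstructible_val_univ_iff.1 (h2 i))
  · intro i i' hii'
    rw [hr i, hr i']
    exact (Set.disjoint_image_iff hinj).2 (h3 hii')
  · simp_rw [hr]
    rw [← Set.image_iUnion, h4, Set.image_univ]

/-- A cover of a qcqs scheme by constructible sets has a finite subcover. -/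
lemma exists_finset_cover_of_isConstructible [CompactSpace X] [QuasiSeparatedSpace X]
    {ι : Type*} (R : ι → Set X) (hc : ∀ i, IsConstructible (R i))
    (hcov : (⋃ i, R i) = Set.univ) :
    ∃ t : Finset ι, ∀ x : X, ∃ i ∈ t, x ∈ R i := by
  let q : WithConstructibleTopology X → X := WithTopology.ofTopology
  have hopen : ∀ i, IsOpen (q ⁻¹' R i) := by
    intro i
    rw [WithConstructibleTopology.isOpen_iff]
    exact (Groth.Agent.Lib.Seat82.ConstructibleOpen.isOpen_constructibleTopology_of_isConstructible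
      (hc i)).1
  have hcover : (Set.univ : Set (WithConstructibleTopology X)) ⊆ ⋃ i, q ⁻¹' R i := by
    intro y _
    have : q y ∈ ⋃ i, R i := by rw [hcov]; trivial
    obtain ⟨i, hi⟩ := Set.mem_iUnion.1 this
    exact Set.mem_iUnion.2 ⟨i, hi⟩
  obtain ⟨t, ht⟩ := isCompact_univ.elim_finite_subcover (fun i => q ⁻¹' R i) hopen hcover
  refine ⟨t, fun x => ?_⟩
  have hx := ht (Set.mem_univ (WithTopology.toTopology _ x))
  obtain ⟨i, hi⟩ := Set.mem_iUnion.1 hx
  obtain ⟨hit, hxi⟩ := Set.mem_iUnion.1 hi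
  exact ⟨i, hit, hxi⟩

/-- **Gluing along constructible strata**: on a qcqs scheme covered by the (constructible) ranges
of immersions `g i`, a global stratification exists provided every immersion `p : P ⟶ X` with
nice range factoring through some `g i` has stratified range. -/
theorem strat_univ_of_strata [CompactSpace X] [QuasiSeparatedSpace X]
    {Q : ∀ T : Scheme.{u}, (T ⟶ X) → Prop}
    {ι : Type*} (T : ι → Scheme.{u}) (g : ∀ i, T i ⟶ X) [∀ i, IsImmersion (g i)]
    (hc : ∀ i, IsConstructible (Set.range (g i)))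
    (hcov : (⋃ i, Set.range (g i)) = Set.univ)
    (hloc : ∀ (i : ι) (P : Scheme.{u}) (p : P ⟶ X), IsImmersion p → ∀ (s : P ⟶ T i),
      s ≫ g i = p → ∀ (O C : Set X), IsOpen O → IsRetrocompact O → IsClosed C →
      IsRetrocompact Cᶜ → Set.range p = O ∩ C → Strat Q (Set.univ : Set X) (Set.range p)) :
    Strat Q (Set.univ : Set X) (Set.univ : Set X) := by
  classical
  obtain ⟨t, ht⟩ := exists_finset_cover_of_isConstructible (fun i => Set.range (g i)) hc hcov
  obtain ⟨𝒲, h𝒲, hsat⟩ := exists_finset_separating t (fun i => Set.range (g i))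
    (fun i _ => hc i)
  let e : Fin 𝒲.powerset.card ≃ 𝒲.powerset := 𝒲.powerset.equivFin.symm
  have hmain : ∀ k, Strat Q (Set.univ : Set X) (atom 𝒲 (e k).1) := by
    intro k
    have hS : (e k).1 ⊆ 𝒲 := Finset.mem_powerset.1 (e k).2
    by_cases hne : (atom 𝒲 (e k).1).Nonempty
    · obtain ⟨x, hx⟩ := hne
      obtain ⟨i, hit, hxi⟩ := ht x
      have hsub : atom 𝒲 (e k).1 ⊆ Set.range (g i) := atom_subset_of_mem (hsat i hit) hx hxi
      obtain ⟨hO1, hO2⟩ := isOpen_isRetrocompact_biInter (e k).1 (fun W hW => h𝒲 W (hS hW))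
      obtain ⟨hC1, hC2⟩ := isOpen_isRetrocompact_biUnion (𝒲 \ (e k).1)
        (fun W hW => h𝒲 W (Finset.mem_sdiff.1 hW).1)
      obtain ⟨Z, z, hz, hr⟩ := exists_immersion_range (X := X) ⟨⋂ W ∈ (e k).1, W, hO1⟩
        ⟨(⋃ W ∈ 𝒲 \ (e k).1, W)ᶜ, hC1.isClosed_compl⟩
      have hr' : Set.range z = atom 𝒲 (e k).1 := by
        rw [hr, atom_eq 𝒲 _ hS]
        rfl
      have hrp : Set.range (pullback.fst z (g i) ≫ z) = atom 𝒲 (e k).1 := by
        rw [range_pullback_fst_comp, hr', Set.inter_eq_left.2 hsub]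
      have := hloc i (pullback z (g i)) (pullback.fst z (g i) ≫ z) inferInstance
        (pullback.snd z (g i)) pullback.condition.symm (⋂ W ∈ (e k).1, W)
        (⋃ W ∈ 𝒲 \ (e k).1, W)ᶜ hO1 hO2 hC1.isClosed_compl (by rw [compl_compl]; exact hC2)
        (by rw [hrp, atom_eq 𝒲 _ hS])
      rwa [hrp] at this
    · rw [Set.not_nonempty_iff_eq_empty.1 hne]
      exact Strat.empty
  have := Strat.iUnion (P := Q) (U := (Set.univ : Set X)) (fun k => atom 𝒲 (e k).1)
    (fun k k' hkk' => atom_disjoint 𝒲 _ _ (Finset.mem_powerset.1 (e k).2)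
      (Finset.mem_powerset.1 (e k').2)
      (fun h => hkk' (e.injective (Subtype.ext h)))) hmain
  convert this using 1
  symm
  apply Set.eq_univ_of_forall
  intro x
  obtain ⟨S, hS, hx⟩ := exists_atom_mem 𝒲 x
  exact Set.mem_iUnion.2 ⟨e.symm ⟨S, hS⟩, by simpa using hx⟩

end Groth.Agent.Lib.Seat29.Strata
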