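import Mathlib
import Groth.Agent.Lib.Seat29Strata4
import Groth.Agent.Lib.Seat29EtConstrKer

/-!
# Constructibility of abelian étale sheaves is Zariski-local (seat 29)
-/

set_option autoImplicit false

universe u

open CategoryTheory CategoryTheory.Limits AlgebraicGeometry Opposite

namespace Groth.Agent.Lib.Seat29.EtConstrCover

open Groth.Agent.Lib.Seat29.Strata Groth.Agent.Lib.Seat29.EtConstrPull
  Groth.Agent.Lib.Seat29.EtConstrKer

variable {X : Scheme.{u}}

/-- If the restrictions of `F` to the members of an open cover are constructible, then `F` is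
constructible. -/
theorem isConstructible_of_open_cover (F : EtCoh.Ab X) {ι : Type u} (U : ι → X.Opens)
    (hU : ⨆ i, U i = ⊤)
    (h : ∀ i, EtPBC.IsConstructible ((EtCoh.pull (U i).ι).obj F)) :
    EtPBC.IsConstructible F := by
  intro W hW
  rw [adaptedStrata_iff]
  apply strat_of_local W hW
  intro x
  have hx : x.1 ∈ ⨆ i, U i := by rw [hU]; trivial
  obtain ⟨i, hxi⟩ := TopologicalSpace.Opens.mem_iSup.1 hx
  obtain ⟨hh, hle, hxh⟩ := hW.exists_basicOpen_le (V := U i) ⟨x.1, hxi⟩ x.2
  refine ⟨hh, hxh, ?_⟩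
  intro Z z hz hzD hzc
  have hDaff : IsAffineOpen ((U i).ι ⁻¹ᵁ X.basicOpen hh) :=
    (hW.basicOpen hh).preimage_of_isOpenImmersion (U i).ι (by
      rw [Scheme.Opens.opensRange_ι]; exact hle)
  have h1 := (adaptedStrata_iff _ _).1 (h i _ hDaff)
  have h2 : Strat (QAb F) (X.basicOpen hh : Set X) (X.basicOpen hh : Set X) :=
    Strat.map_ι (U i) (fun T g hg => isFLC_of_iso ((EtCore.pullComp g (U i).ι).app F).symm hg)
      (X.basicOpen hh) hle h1
  have h3 := Strat.restrict (fun T g T' s hg => qAb_comp F g s hg) (U' := (W : Set X)) h2 z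
    (fun A hAD hA => by
      rw [Set.preimage_inter]
      exact (isConstructible_val_of_val (X.basicOpen_le hh)
        (isRetrocompact_basicOpen_val hW hh) hAD hA).inter hzc)
  rwa [Set.inter_eq_right.2 hzD] at h3

end Groth.Agent.Lib.Seat29.EtConstrCover
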