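import Mathlib
import Groth.Prelude.Def_PBC
import Groth.Prelude.Def_EtShriek2
import Groth.Agent.Lib.Helper9JContAll
import Groth.Agent.Lib.Helper16SmallEtale
import Groth.Agent.Lib.Seat29ConstRes
import Groth.Agent.Lib.Helper9EtPull

/-!
# The over-site of an étale `X`-scheme `U` versus the small étale site of `U.left` (seat 29)

For `U : X.Etale` we construct mutually inverse functors `R U : Over U ⥤ U.left.Etale` and
`L U : U.left.Etale ⥤ Over U`, both continuous and cocontinuous, and deduce that `F.over U` is a
constant sheaf if and only if the restriction of `F` to the scheme `U.left` is a constant sheaf.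
-/

set_option autoImplicit false
set_option linter.style.haveILetI false

universe u

open CategoryTheory CategoryTheory.Limits AlgebraicGeometry Opposite

namespace Groth.Agent.Lib.Seat29.EtOverBridge2

open Groth.Agent.Lib.Helper16.SmallEtale Groth.Agent.Lib.Seat29.ConstRes

variable {X : Scheme.{u}} (U : X.Etale)

instance etale_hom : Etale U.hom := U.prop

lemma hom_left_comp (Z : Over U) : Z.hom.left ≫ U.hom = Z.left.hom :=
  MorphismProperty.Over.w Z.hom

lemma etale_hom_left (Z : Over U) : EtCoh.etaleMP (Z.hom.left : Z.left.left ⟶ U.left) := by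
  have hW : EtCoh.etaleMP (Z.hom.left ≫ U.hom) := by
    rw [hom_left_comp]; exact Z.left.prop
  exact EtCoh.etaleMP.of_postcomp (W' := EtCoh.etaleMP) Z.hom.left U.hom U.prop hW

/-- The functor `(Z ⟶ U) ↦ (Z.left ⟶ U.left)`. -/
noncomputable def R : Over U ⥤ U.left.Etale where
  obj Z := MorphismProperty.Over.mk ⊤ (Z.hom.left : Z.left.left ⟶ U.left) (etale_hom_left U Z)
  map {Z₁ Z₂} f := MorphismProperty.Over.homMk f.left.left
    (congrArg (fun m => m.left) (Over.w f))
  map_id Z := MorphismProperty.Over.Hom.ext rfl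
  map_comp f g := MorphismProperty.Over.Hom.ext rfl

/-- The functor `(V ⟶ U.left) ↦ ((V ⟶ U.left ⟶ X) ⟶ U)`. -/
noncomputable def L : U.left.Etale ⥤ Over U where
  obj V := Over.mk (MorphismProperty.Over.homMk V.hom rfl :
    (EtShriek.compEtale U.hom).obj V ⟶ U)
  map {V₁ V₂} g := Over.homMk ((EtShriek.compEtale U.hom).map g)
    (MorphismProperty.Over.Hom.ext (MorphismProperty.Over.w g))
  map_id V := by
    apply Over.OverMorphism.ext
    exact (EtShriek.compEtale U.hom).map_id V
  map_comp f g := by
    apply Over.OverMorphism.ext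
    exact (EtShriek.compEtale U.hom).map_comp f g

/-- `R ⋙ compEtale ≅ Over.forget`. -/
noncomputable def ηR : R U ⋙ EtShriek.compEtale U.hom ≅ Over.forget U :=
  NatIso.ofComponents (fun Z => MorphismProperty.Over.isoMk (Iso.refl _)
    (by
      exact (Category.id_comp Z.left.hom).trans (hom_left_comp U Z).symm)) (fun {Z₁ Z₂} f => by
      apply MorphismProperty.Over.Hom.ext
      exact (Category.comp_id f.left.left).trans (Category.id_comp f.left.left).symm)

/-- `L ⋙ Over.forget = compEtale`. -/
noncomputable def ηL : L U ⋙ Over.forget U ≅ EtShriek.compEtale U.hom :=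
  NatIso.ofComponents (fun V => Iso.refl _) (fun {V₁ V₂} g => by
    exact (Category.comp_id _).trans (Category.id_comp _).symm)

/-- `R (L V) ≅ V`. -/
noncomputable def RLIso (V : U.left.Etale) : (R U).obj ((L U).obj V) ≅ V :=
  MorphismProperty.Over.isoMk (Iso.refl _) (by
    exact Category.id_comp V.hom)

/-- `L (R Z) ≅ Z`. -/
noncomputable def LRIso (Z : Over U) : (L U).obj ((R U).obj Z) ≅ Z :=
  Over.isoMk (MorphismProperty.Over.isoMk (Iso.refl _) (by
    exact (Category.id_comp Z.left.hom).trans (hom_left_comp U Z).symm)) (by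
    apply MorphismProperty.Over.Hom.ext
    exact Category.id_comp _)

instance : (R U).Faithful where
  map_injective {Z₁ Z₂} f g hfg := by
    apply Over.OverMorphism.ext
    apply MorphismProperty.Over.Hom.ext
    exact congrArg (fun m => m.left) hfg

instance : (R U).Full where
  map_surjective {Z₁ Z₂} φ := by
    have hφ : φ.left ≫ Z₂.hom.left = Z₁.hom.left := MorphismProperty.Over.w φ
    have h1 : φ.left ≫ Z₂.left.hom = Z₁.left.hom :=
      (congrArg (fun t => φ.left ≫ t) (hom_left_comp U Z₂).symm).trans
        ((Category.assoc _ _ _).symm.trans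
          ((congrArg (fun t => t ≫ U.hom) hφ).trans (hom_left_comp U Z₁)))
    let f₀ : Z₁.left ⟶ Z₂.left := MorphismProperty.Over.homMk φ.left h1
    have h2 : f₀ ≫ Z₂.hom = Z₁.hom := MorphismProperty.Over.Hom.ext hφ
    exact ⟨Over.homMk f₀ h2, MorphismProperty.Over.Hom.ext rfl⟩

instance : (L U).Faithful where
  map_injective {V₁ V₂} f g hfg := by
    apply MorphismProperty.Over.Hom.ext
    exact congrArg (fun m => m.left.left) hfg

instance : (L U).Full where
  map_surjective {V₁ V₂} φ := by
    have hφ : φ.left ≫ ((L U).obj V₂).hom = ((L U).obj V₁).hom := Over.w φ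
    have h1 : φ.left.left ≫ V₂.hom = V₁.hom := congrArg (fun m => m.left) hφ
    exact ⟨MorphismProperty.Over.homMk φ.left.left h1,
      Over.OverMorphism.ext (MorphismProperty.Over.Hom.ext rfl)⟩

lemma compatiblePreserving_R :
    CompatiblePreserving U.left.smallEtaleTopology (R U) :=
  compatiblePreservingOfDownwardsClosed _ (R U) (fun {_ d} _ => ⟨(L U).obj d, RLIso U d⟩)

lemma compatiblePreserving_L :
    CompatiblePreserving (X.smallEtaleTopology.over U) (L U) :=
  compatiblePreservingOfDownwardsClosed _ (L U) (fun {_ d} _ => ⟨(R U).obj d, LRIso U d⟩)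

lemma coverPreserving_R :
    CoverPreserving (X.smallEtaleTopology.over U) U.left.smallEtaleTopology (R U) := by
  constructor
  intro Z 𝒮 h𝒮
  rw [GrothendieckTopology.mem_over_iff, mem_smallEtale_iff] at h𝒮
  rw [mem_smallEtale_iff]
  intro x
  obtain ⟨V, g, y, hg, hy⟩ := h𝒮 x
  rw [Sieve.overEquiv_iff] at hg
  exact ⟨(R U).obj (Over.mk (g ≫ Z.hom)), (R U).map (Over.homMk g), y,
    Sieve.image_mem_functorPushforward _ _ hg, hy⟩

instance isContinuous_R :
    (R U).IsContinuous (X.smallEtaleTopology.over U) U.left.smallEtaleTopology :=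
  Functor.isContinuous_of_coverPreserving (compatiblePreserving_R U) (coverPreserving_R U)

instance isCocontinuous_R :
    (R U).IsCocontinuous (X.smallEtaleTopology.over U) U.left.smallEtaleTopology where
  cover_lift {Z 𝒯} h𝒯 := by
    rw [mem_smallEtale_iff] at h𝒯
    rw [GrothendieckTopology.mem_over_iff, mem_smallEtale_iff]
    intro x
    obtain ⟨V', g', y, hg', hy⟩ := h𝒯 x
    have hg'w : g'.left ≫ Z.hom.left = V'.hom := MorphismProperty.Over.w g'
    have h1 : g'.left ≫ Z.left.hom = V'.hom ≫ U.hom :=
      (congrArg (fun t => g'.left ≫ t) (hom_left_comp U Z).symm).trans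
        ((Category.assoc _ _ _).symm.trans (congrArg (fun t => t ≫ U.hom) hg'w))
    let g : (EtShriek.compEtale U.hom).obj V' ⟶ Z.left := MorphismProperty.Over.homMk g'.left h1
    refine ⟨(EtShriek.compEtale U.hom).obj V', g, y, ?_, hy⟩
    rw [Sieve.overEquiv_iff]
    change 𝒯 ((R U).map (Over.homMk g : Over.mk (g ≫ Z.hom) ⟶ Z))
    let e : (R U).obj (Over.mk (g ≫ Z.hom)) ≅ V' :=
      MorphismProperty.Over.isoMk (Iso.refl _) ((Category.id_comp _).trans hg'w.symm)
    have he : (R U).map (Over.homMk g : Over.mk (g ≫ Z.hom) ⟶ Z) = e.hom ≫ g' :=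
      MorphismProperty.Over.Hom.ext (Category.id_comp _).symm
    rw [he]
    exact 𝒯.downward_closed hg' e.hom

lemma coverPreserving_L :
    CoverPreserving U.left.smallEtaleTopology (X.smallEtaleTopology.over U) (L U) := by
  constructor
  intro V 𝒮 h𝒮
  rw [mem_smallEtale_iff] at h𝒮
  rw [GrothendieckTopology.mem_over_iff, mem_smallEtale_iff]
  intro x
  obtain ⟨V', g', y, hg', hy⟩ := h𝒮 x
  refine ⟨(EtShriek.compEtale U.hom).obj V', (EtShriek.compEtale U.hom).map g', y, ?_, hy⟩
  rw [Sieve.overEquiv_iff]
  let e : Over.mk ((EtShriek.compEtale U.hom).map g' ≫ ((L U).obj V).hom) ≅ (L U).obj V' :=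
    Over.isoMk (Iso.refl _) (by
      apply MorphismProperty.Over.Hom.ext
      exact (Category.id_comp _).trans (MorphismProperty.Over.w g').symm)
  refine ⟨V', g', e.hom, hg', ?_⟩
  apply Over.OverMorphism.ext
  exact (Category.id_comp _).symm

instance isContinuous_L :
    (L U).IsContinuous U.left.smallEtaleTopology (X.smallEtaleTopology.over U) :=
  Functor.isContinuous_of_coverPreserving (compatiblePreserving_L U) (coverPreserving_L U)

instance isCocontinuous_L :
    (L U).IsCocontinuous U.left.smallEtaleTopology (X.smallEtaleTopology.over U) where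
  cover_lift {V 𝒯} h𝒯 := by
    rw [GrothendieckTopology.mem_over_iff, mem_smallEtale_iff] at h𝒯
    rw [mem_smallEtale_iff]
    intro x
    obtain ⟨W, g, y, hg, hy⟩ := h𝒯 x
    rw [Sieve.overEquiv_iff] at hg
    let Z : Over U := Over.mk (g ≫ ((L U).obj V).hom)
    let g' : (R U).obj Z ⟶ V := (R U).map (Over.homMk g : Z ⟶ (L U).obj V) ≫ (RLIso U V).hom
    refine ⟨(R U).obj Z, g', y, ?_, ?_⟩
    · change 𝒯 ((L U).map g')
      have he : (L U).map g' = (LRIso U Z).hom ≫ (Over.homMk g : Z ⟶ (L U).obj V) := by
        apply Over.OverMorphism.ext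
        apply MorphismProperty.Over.Hom.ext
        exact (Category.comp_id _).trans (Category.id_comp _).symm
      rw [he]
      exact 𝒯.downward_closed hg _
    · change (g.left ≫ 𝟙 _) y = x
      rw [Category.comp_id]
      exact hy

section Sheaf

variable [EtShriek.JCont U.hom]

/-- `F.over U` is the restriction along `R` of the restriction of `F` to the scheme `U.left`. -/
noncomputable def overIso (F : EtCoh.Ab X) :
    F.over U ≅ ((R U).sheafPushforwardContinuous AddCommGrpCat.{u + 1}
      (X.smallEtaleTopology.over U) U.left.smallEtaleTopology).obj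
        ((EtShriek.restrAlong U.hom).obj F) :=
  (fullyFaithfulSheafToPresheaf _ _).preimageIso
    (NatIso.ofComponents (fun Z => F.obj.mapIso ((ηR U).app Z.unop).op)
      (fun {Z₁ Z₂} f => by
        change F.obj.map _ ≫ F.obj.map _ = F.obj.map _ ≫ F.obj.map _
        rw [← F.obj.map_comp, ← F.obj.map_comp]
        exact congrArg (fun t => F.obj.map t)
          (congrArg Quiver.Hom.op ((ηR U).hom.naturality f.unop))))

/-- The restriction of `F` to the scheme `U.left` is the restriction along `L` of `F.over U`. -/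
noncomputable def restrIso (F : EtCoh.Ab X) :
    (EtShriek.restrAlong U.hom).obj F ≅
      ((L U).sheafPushforwardContinuous AddCommGrpCat.{u + 1}
        U.left.smallEtaleTopology (X.smallEtaleTopology.over U)).obj (F.over U) :=
  (fullyFaithfulSheafToPresheaf _ _).preimageIso
    (NatIso.ofComponents (fun V => F.obj.mapIso ((ηL U).app V.unop).op)
      (fun {V₁ V₂} f => by
        change F.obj.map _ ≫ F.obj.map _ = F.obj.map _ ≫ F.obj.map _
        rw [← F.obj.map_comp, ← F.obj.map_comp]
        exact congrArg (fun t => F.obj.map t)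
          (congrArg Quiver.Hom.op ((ηL U).hom.naturality f.unop))))

/-- If the restriction of `F` to the scheme `U.left` is constant, then `F.over U` is constant. -/
theorem nonempty_over_iso_of_restr_iso (F : EtCoh.Ab X) (M : AddCommGrpCat.{u + 1})
    (β : (EtShriek.restrAlong U.hom).obj F ≅
      (constantSheaf U.left.smallEtaleTopology AddCommGrpCat.{u + 1}).obj M) :
    Nonempty (F.over U ≅
      (constantSheaf (X.smallEtaleTopology.over U) AddCommGrpCat.{u + 1}).obj M) :=
  ⟨overIso U F ≪≫
    ((R U).sheafPushforwardContinuous AddCommGrpCat.{u + 1}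
      (X.smallEtaleTopology.over U) U.left.smallEtaleTopology).mapIso β ≪≫
    (constPullIso (R U) AddCommGrpCat.{u + 1} (X.smallEtaleTopology.over U)
      U.left.smallEtaleTopology).app M⟩

/-- If `F.over U` is constant, then the restriction of `F` to the scheme `U.left` is constant. -/
theorem nonempty_restr_iso_of_over_iso (F : EtCoh.Ab X) (M : AddCommGrpCat.{u + 1})
    (α : F.over U ≅
      (constantSheaf (X.smallEtaleTopology.over U) AddCommGrpCat.{u + 1}).obj M) :
    Nonempty ((EtShriek.restrAlong U.hom).obj F ≅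
      (constantSheaf U.left.smallEtaleTopology AddCommGrpCat.{u + 1}).obj M) :=
  ⟨restrIso U F ≪≫
    ((L U).sheafPushforwardContinuous AddCommGrpCat.{u + 1}
      U.left.smallEtaleTopology (X.smallEtaleTopology.over U)).mapIso α ≪≫
    (constPullIso (L U) AddCommGrpCat.{u + 1} U.left.smallEtaleTopology
      (X.smallEtaleTopology.over U)).app M⟩

end Sheaf

/-- **Bridge**: `F.over U` is constant with value `M` iff the restriction of `F` to the scheme
`U.left` is. -/
theorem over_iso_const_iff (F : EtCoh.Ab X) (M : AddCommGrpCat.{u + 1}) :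
    Nonempty (F.over U ≅
      (constantSheaf (X.smallEtaleTopology.over U) AddCommGrpCat.{u + 1}).obj M) ↔
    Nonempty ((EtCoh.pull U.hom).obj F ≅
      (constantSheaf U.left.smallEtaleTopology AddCommGrpCat.{u + 1}).obj M) := by
  have : EtShriek.JCont U.hom := Groth.Agent.Lib.Helper9.JContAll.jCont U.hom
  constructor
  · rintro ⟨α⟩
    obtain ⟨β⟩ := nonempty_restr_iso_of_over_iso U F M α
    exact ⟨(Groth.Agent.Lib.Helper9.EtPull.rho U.hom).app F ≪≫ β⟩
  · rintro ⟨β⟩
    exact nonempty_over_iso_of_restr_iso U F M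
      (((Groth.Agent.Lib.Helper9.EtPull.rho U.hom).app F).symm ≪≫ β)

end Groth.Agent.Lib.Seat29.EtOverBridge2
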