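import Mathlib
import Groth.Prelude.Def_PBC
import Groth.Prelude.Def_EtCore
import Groth.Agent.Lib.Seat29EtOverBridge2
import Groth.Agent.Lib.Seat29EtAbLC

/-!
# Finite local constancy is étale local (seat 29)
-/

set_option autoImplicit false
set_option linter.style.haveILetI false

universe u

open CategoryTheory CategoryTheory.Limits AlgebraicGeometry Opposite

namespace Groth.Agent.Lib.Seat29.EtFLCDescent

open Groth.Agent.Lib.Seat29.EtOverBridge2 Groth.Agent.Lib.Seat29.EtAbLC

variable {X : Scheme.{u}}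

/-- `F` is finite locally constant iff every point has an étale neighbourhood `W` such that the
inverse image of `F` on the scheme `W.left` is a constant sheaf with finite value. -/
lemma isFLC_iff_pull (F : EtCoh.Ab X) :
    EtCoh.IsFiniteLocallyConstant F ↔ ∀ x : X, ∃ (W : X.Etale) (w : W.left), W.hom.base w = x ∧
      ∃ (M : AddCommGrpCat.{u + 1}) (_ : Finite M),
        Nonempty ((EtCoh.pull W.hom).obj F ≅
          (constantSheaf W.left.smallEtaleTopology AddCommGrpCat.{u + 1}).obj M) := by
  rw [isFLC_iff]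
  constructor
  · intro h x
    obtain ⟨W, w, hw, M, hM, hα⟩ := h x
    exact ⟨W, w, hw, M, hM, (over_iso_const_iff W F M).1 hα⟩
  · intro h x
    obtain ⟨W, w, hw, M, hM, hβ⟩ := h x
    exact ⟨W, w, hw, M, hM, (over_iso_const_iff W F M).2 hβ⟩

/-- A sheaf whose inverse image on a scheme is constant with finite value is finite locally
constant there. -/
lemma isFLC_of_iso_const (F : EtCoh.Ab X) (M : AddCommGrpCat.{u + 1}) [Finite M]
    (β : F ≅ (constantSheaf X.smallEtaleTopology AddCommGrpCat.{u + 1}).obj M) :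
    EtCoh.IsFiniteLocallyConstant F := by
  rw [isFLC_iff_pull]
  intro x
  refine ⟨EtCoh.top X, x, rfl, M, inferInstance, ?_⟩
  rw [← over_iso_const_iff]
  exact ⟨(X.smallEtaleTopology.overPullback AddCommGrpCat.{u + 1} (EtCoh.top X)).mapIso β ≪≫
    (Groth.Agent.Lib.Seat29.ConstRes.constPullIso (Over.forget (EtCoh.top X))
      AddCommGrpCat.{u + 1} (X.smallEtaleTopology.over (EtCoh.top X)) X.smallEtaleTopology).app M⟩

/-- **Finite local constancy descends along étale surjective morphisms.** -/
theorem isFLC_of_etale_surjective {T : Scheme.{u}} (h : T ⟶ X) [Etale h]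
    (hsurj : Function.Surjective h) (F : EtCoh.Ab X)
    (hF : EtCoh.IsFiniteLocallyConstant ((EtCoh.pull h).obj F)) :
    EtCoh.IsFiniteLocallyConstant F := by
  rw [isFLC_iff_pull] at hF ⊢
  intro x
  obtain ⟨t, rfl⟩ := hsurj x
  obtain ⟨W', w', hw', M, hM, ⟨β⟩⟩ := hF t
  refine ⟨(EtShriek.compEtale h).obj W', w', ?_, M, hM, ?_⟩
  · change (W'.hom ≫ h) w' = h t
    rw [Scheme.Hom.comp_apply, hw']
  · exact ⟨(EtCore.pullComp W'.hom h).app F ≪≫ β⟩

end Groth.Agent.Lib.Seat29.EtFLCDescent
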