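import Mathlib
import Groth.Prelude.Def_PBC
import Groth.Prelude.Def_EtCore
import Groth.Agent.Lib.Seat29EtFLCDescent
import Groth.Agent.Lib.Seat29EtConstrPull

/-!
# Finite products of finite locally constant sheaves; pointwise étale descent (seat 29)
-/

set_option autoImplicit false
set_option linter.style.haveILetI false

universe u

open CategoryTheory CategoryTheory.Limits AlgebraicGeometry Opposite

namespace Groth.Agent.Lib.Seat29.EtFLCProd

open Groth.Agent.Lib.Seat29.EtFLCDescent Groth.Agent.Lib.Seat29.EtAbLC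
  Groth.Agent.Lib.Seat29.EtConstrPull Groth.Agent.Lib.Seat29.EtOverBridge2

variable {X : Scheme.{u}}

/-- a zero sheaf is finite locally constant -/
lemma isFLC_of_isZero (F : EtCoh.Ab X) (hF : IsZero F) : EtCoh.IsFiniteLocallyConstant F := by
  let M : AddCommGrpCat.{u + 1} := AddCommGrpCat.of PUnit.{u + 2}
  have hM : IsZero M := AddCommGrpCat.isZero_of_subsingleton M
  have h0 : IsZero ((constantSheaf X.smallEtaleTopology AddCommGrpCat.{u + 1}).obj M) :=
    Functor.map_isZero _ hM
  haveI : Finite M := inferInstanceAs (Finite PUnit.{u + 2})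
  exact isFLC_of_iso_const F M (hF.iso h0)

/-- a binary biproduct of finite locally constant sheaves is finite locally constant -/
lemma isFLC_biprod (A B : EtCoh.Ab X) (hA : EtCoh.IsFiniteLocallyConstant A)
    (hB : EtCoh.IsFiniteLocallyConstant B) : EtCoh.IsFiniteLocallyConstant (A ⊞ B) :=
  isFLC_ext (ShortComplex.mk (biprod.inl : A ⟶ A ⊞ B) (biprod.snd : A ⊞ B ⟶ B) (by simp))
    (ShortComplex.Splitting.ofHasBinaryBiproduct A B).shortExact hA hB

/-- the point of a limit fan of finitely many finite locally constant sheaves is finite locally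
constant -/
theorem isFLC_of_isLimit_fan : ∀ (m : ℕ) (G : Fin m → EtCoh.Ab X),
    (∀ i, EtCoh.IsFiniteLocallyConstant (G i)) → ∀ (c : Fan G), IsLimit c →
      EtCoh.IsFiniteLocallyConstant c.pt := by
  intro m
  induction m with
  | zero =>
    intro G _ c hc
    apply isFLC_of_isZero
    rw [IsZero.iff_id_eq_zero]
    exact hc.hom_ext (fun ⟨i⟩ => i.elim0)
  | succ m ih =>
    intro G hG c hc
    let c₁ : Fan (fun i : Fin m => G i.succ) := Fan.mk (∏ᶜ fun i : Fin m => G i.succ) (Pi.π _)
    have hc₁ : IsLimit c₁ := productIsProduct _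
    let c₂ : BinaryFan (G 0) c₁.pt := BinaryFan.mk prod.fst prod.snd
    have hc₂ : IsLimit c₂ := prodIsProd _ _
    have hc' := extendFanIsLimit G hc₁ hc₂
    have e : c.pt ≅ G 0 ⨯ c₁.pt := hc.conePointUniqueUpToIso hc'
    have h1 : EtCoh.IsFiniteLocallyConstant c₁.pt := ih _ (fun i => hG i.succ) c₁ hc₁
    have h2 : EtCoh.IsFiniteLocallyConstant (G 0 ⊞ c₁.pt) := isFLC_biprod _ _ (hG 0) h1
    exact isFLC_of_iso ((biprod.isoProd (G 0) c₁.pt) ≪≫ e.symm) h2

/-- **Pointwise étale descent of finite local constancy.** -/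
theorem isFLC_of_forall_etale (F : EtCoh.Ab X)
    (hF : ∀ x : X, ∃ (T : Scheme.{u}) (h : T ⟶ X) (_ : Etale h) (t : T), h.base t = x ∧
      EtCoh.IsFiniteLocallyConstant ((EtCoh.pull h).obj F)) :
    EtCoh.IsFiniteLocallyConstant F := by
  rw [isFLC_iff_pull]
  intro x
  obtain ⟨T, h, hh, t, rfl, hT⟩ := hF x
  rw [isFLC_iff_pull] at hT
  obtain ⟨W', w', hw', M, hM, ⟨β⟩⟩ := hT t
  refine ⟨(EtShriek.compEtale h).obj W', w', ?_, M, hM, ?_⟩
  · change (W'.hom ≫ h) w' = h t
    rw [Scheme.Hom.comp_apply, hw']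
  · exact ⟨(EtCore.pullComp W'.hom h).app F ≪≫ β⟩

end Groth.Agent.Lib.Seat29.EtFLCProd
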