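import Mathlib
import Groth.Prelude.Def_PBC
import Groth.Agent.Lib.Seat29ConstrTop
import Groth.Agent.Lib.Seat29EtACC
import Groth.Agent.Lib.Seat29EtAbLC
import Groth.Agent.Lib.Seat1LocConst

/-!
# Loci defined by the stalks of a constructible étale sheaf are locally constructible (seat 29)

* `isConstructible_of_clopen_in`: in a spectral-like space, a relatively clopen subset of a
  constructible set is constructible.
* `exists_open_stalk_iso`: the stalks of a finite locally constant sheaf are locally constant.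
* `stalkSet F P`: the set of points over which some geometric stalk satisfies `P`.
* `isLocallyConstructible_stalkSet`: for `F` constructible and `P` invariant under
  isomorphisms, `stalkSet F P` is locally constructible.
-/

set_option autoImplicit false

universe u

open CategoryTheory CategoryTheory.Limits AlgebraicGeometry Opposite TopologicalSpace Topology

namespace Groth.Agent.Lib.Seat29.EtStalkConstr

open Groth.Agent.Lib.Seat29.ConstrTop Groth.Agent.Lib.Seat29.EtACC
  Groth.Agent.Lib.Seat29.EtAbLC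

section Top

variable {U : Type*} [TopologicalSpace U] [CompactSpace U] [QuasiSeparatedSpace U]
  [PrespectralSpace U]

/-- A relatively clopen subset of a constructible set is constructible. -/
lemma isConstructible_of_clopen_in {R B G D : Set U} (hR : IsConstructible R) (hG : IsOpen G)
    (hD : IsClosed D) (hBG : B = R ∩ G) (hBD : B = R ∩ D) : IsConstructible B := by
  classical
  obtain ⟨𝒲, h𝒲, hsep⟩ := exists_finset_of_isConstructible hR
  have key : ∀ S ∈ 𝒲.powerset, atom 𝒲 S ⊆ R → IsConstructible (atom 𝒲 S ∩ B) := by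
    intro S hS hSR
    have hS' : S ⊆ 𝒲 := Finset.mem_powerset.1 hS
    obtain ⟨hOo, hOr⟩ := isOpen_isRetrocompact_biInter S (fun W hW => h𝒲 W (hS' hW))
    obtain ⟨hCo, hCr⟩ := isOpen_isRetrocompact_biUnion (𝒲 \ S)
      (fun W hW => h𝒲 W (Finset.mem_sdiff.1 hW).1)
    have hL : atom 𝒲 S = (⋂ W ∈ S, W) ∩ (⋃ W ∈ 𝒲 \ S, W)ᶜ := atom_eq 𝒲 S hS'
    have hLc : IsConstructible (atom 𝒲 S) := by
      rw [hL]
      exact (hOr.isConstructible hOo).inter (hCr.isConstructible hCo).compl
    have hK : IsCompact (atom 𝒲 S ∩ D) := by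
      rw [hL, Set.inter_assoc]
      exact hOr.isCompact.inter_right (hCo.isClosed_compl.inter hD)
    have hKG : atom 𝒲 S ∩ D ⊆ G := by
      rintro x ⟨hxL, hxD⟩
      have : x ∈ B := by rw [hBD]; exact ⟨hSR hxL, hxD⟩
      rw [hBG] at this
      exact this.2
    obtain ⟨V, hVc, hVo, hKV, hVG⟩ :=
      PrespectralSpace.exists_isCompact_and_isOpen_between hK hG hKG
    have hLB : atom 𝒲 S ∩ B = atom 𝒲 S ∩ V := by
      ext x
      constructor
      · rintro ⟨hxL, hxB⟩
        rw [hBD] at hxB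
        exact ⟨hxL, hKV ⟨hxL, hxB.2⟩⟩
      · rintro ⟨hxL, hxV⟩
        refine ⟨hxL, ?_⟩
        rw [hBG]
        exact ⟨hSR hxL, hVG hxV⟩
    rw [hLB]
    exact hLc.inter (hVc.isConstructible hVo)
  have hB : B = ⋃ S ∈ ((𝒲.powerset : Set (Finset (Set U))) ∩ {S | atom 𝒲 S ⊆ R}),
      atom 𝒲 S ∩ B := by
    ext x
    simp only [Set.mem_iUnion, Set.mem_inter_iff, exists_prop]
    constructor
    · intro hx
      have hxR : x ∈ R := by rw [hBG] at hx; exact hx.1
      obtain ⟨S, hS, hxS⟩ := exists_atom_mem 𝒲 x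
      exact ⟨S, ⟨hS, atom_subset_of_mem hsep hxS hxR⟩, hxS, hx⟩
    · rintro ⟨S, -, -, hx⟩
      exact hx
  rw [hB]
  exact IsConstructible.biUnion ((Finset.finite_toSet _).inter_of_left _)
    (fun S hS => key S hS.1 hS.2)

end Top

variable {X : Scheme.{u}}

/-- every point of a scheme is the image of a geometric point -/
lemma exists_geometric_point_over (x : X) :
    ∃ (Ω : Type u) (_ : Field Ω) (_ : IsSepClosed Ω) (ξ : Spec (CommRingCat.of Ω) ⟶ X),
      ξ (default : Spec (CommRingCat.of Ω)) = x := by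
  let Ω := SeparableClosure (X.residueField x)
  let l : Spec (CommRingCat.of Ω) ⟶ X :=
    Spec.map (CommRingCat.ofHom (algebraMap (X.residueField x) Ω)) ≫ X.fromSpecResidueField x
  refine ⟨Ω, inferInstance, inferInstance, l, ?_⟩
  dsimp only [l]
  rw [Scheme.Hom.comp_apply]
  exact Scheme.fromSpecResidueField_apply _ _

/-- **The stalks of a finite locally constant sheaf are locally constant.** -/
lemma exists_open_stalk_iso (G : EtCoh.Ab X) (hG : EtCoh.IsFiniteLocallyConstant G) (t : X) :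
    ∃ (O : X.Opens) (M : AddCommGrpCat.{u + 1}), t ∈ O ∧
      ∀ (Ω : Type u) [Field Ω] [IsSepClosed Ω] (ζ : Spec (CommRingCat.of Ω) ⟶ X),
        ζ (default : Spec (CommRingCat.of Ω)) ∈ O → Nonempty ((EtCoh.stalk ζ).obj G ≅ M) := by
  obtain ⟨W, w, hw, M, _, ⟨α⟩⟩ := (isFLC_iff G).1 hG t
  refine ⟨⟨Set.range W.hom, W.hom.isOpenMap.isOpen_range⟩, M, ⟨w, hw⟩, ?_⟩
  intro Ω _ _ ζ hζ
  obtain ⟨w', hw'⟩ := hζ
  obtain ⟨l, hl, -⟩ := Scheme.exists_fac_of_etale_of_isSepClosed W.hom ζ w' hw'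
  exact ⟨Groth.Agent.Lib.Seat1.LocConst.stalkIsoOfRestrIso ζ G W (Over.homMk l hl) M α⟩

/-- The set of points over which some geometric stalk of `F` satisfies `P`. -/
def stalkSet (F : EtCoh.Ab X) (P : AddCommGrpCat.{u + 1} → Prop) : Set X :=
  {x | ∃ (Ω : Type u) (_ : Field Ω) (_ : IsSepClosed Ω) (ξ : Spec (CommRingCat.of Ω) ⟶ X),
    Set.range ξ = {x} ∧ P ((EtCoh.stalk ξ).obj F)}

lemma range_eq_singleton_iff {Ω : Type u} [Field Ω] (ξ : Spec (CommRingCat.of Ω) ⟶ X) (x : X) :
    Set.range ξ = {x} ↔ ξ (default : Spec (CommRingCat.of Ω)) = x := by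
  rw [Groth.Agent.S0652.range_spec_field]
  exact Set.singleton_eq_singleton_iff

variable {P : AddCommGrpCat.{u + 1} → Prop}

/-- For a finite locally constant sheaf, `stalkSet` is open and closed. -/
lemma isClopen_stalkSet (hP : ∀ M N : AddCommGrpCat.{u + 1}, Nonempty (M ≅ N) → P M → P N)
    (G : EtCoh.Ab X) (hG : EtCoh.IsFiniteLocallyConstant G) : IsClopen (stalkSet G P) := by
  have key : ∀ t : X, ∃ O : X.Opens, t ∈ O ∧
      ((O : Set X) ⊆ stalkSet G P ∨ (O : Set X) ⊆ (stalkSet G P)ᶜ) := by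
    intro t
    obtain ⟨O, M, htO, hO⟩ := exists_open_stalk_iso G hG t
    refine ⟨O, htO, ?_⟩
    by_cases hM : P M
    · left
      intro t' ht'
      obtain ⟨Ω, _, _, ζ, hζ⟩ := exists_geometric_point_over t'
      refine ⟨Ω, inferInstance, inferInstance, ζ, (range_eq_singleton_iff ζ t').2 hζ, ?_⟩
      obtain ⟨e⟩ := hO Ω ζ (hζ ▸ ht')
      exact hP _ _ ⟨e.symm⟩ hM
    · right
      rintro t' ht' ⟨Ω, _, _, ζ, hζ, hPζ⟩
      rw [range_eq_singleton_iff] at hζ
      obtain ⟨e⟩ := hO Ω ζ (hζ ▸ ht')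
      exact hM (hP _ _ ⟨e⟩ hPζ)
  constructor
  · rw [← isOpen_compl_iff, isOpen_iff_forall_mem_open]
    intro t ht
    obtain ⟨O, htO, h | h⟩ := key t
    · exact (ht (h htO)).elim
    · exact ⟨O, h, O.isOpen, htO⟩
  · rw [isOpen_iff_forall_mem_open]
    intro t ht
    obtain ⟨O, htO, h | h⟩ := key t
    · exact ⟨O, h, O.isOpen, htO⟩
    · exact (h htO ht).elim

/-- `stalkSet` and pullback along an immersion. -/
lemma stalkSet_inter_range (hP : ∀ M N : AddCommGrpCat.{u + 1}, Nonempty (M ≅ N) → P M → P N)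
    (F : EtCoh.Ab X) {T : Scheme.{u}} (g : T ⟶ X) [IsImmersion g] :
    stalkSet F P ∩ Set.range g = g '' stalkSet ((EtCoh.pull g).obj F) P := by
  ext x
  constructor
  · rintro ⟨⟨Ω, _, _, ξ, hξ, hPξ⟩, ⟨t, rfl⟩⟩
    rw [range_eq_singleton_iff] at hξ
    obtain ⟨ζ, rfl⟩ := exists_fac_of_mem_range_immersion g ξ ⟨t, hξ.symm⟩
    have hζ : ζ (default : Spec (CommRingCat.of Ω)) = t := g.isEmbedding.injective hξ
    refine ⟨t, ⟨Ω, inferInstance, inferInstance, ζ, (range_eq_singleton_iff ζ t).2 hζ, ?_⟩, rfl⟩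
    exact hP _ _ ⟨(Groth.Agent.S0101.stalkPullIso g ζ).app F⟩ hPξ
  · rintro ⟨t, ⟨Ω, _, _, ζ, hζ, hPζ⟩, rfl⟩
    rw [range_eq_singleton_iff] at hζ
    refine ⟨⟨Ω, inferInstance, inferInstance, ζ ≫ g, ?_, ?_⟩, ⟨t, rfl⟩⟩
    · rw [range_eq_singleton_iff, Scheme.Hom.comp_apply, hζ]
    · exact hP _ _ ⟨((Groth.Agent.S0101.stalkPullIso g ζ).app F).symm⟩ hPζ

/-- **Loci defined by the stalks of a constructible sheaf are locally constructible.** -/
theorem isLocallyConstructible_stalkSet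
    (hP : ∀ M N : AddCommGrpCat.{u + 1}, Nonempty (M ≅ N) → P M → P N)
    (F : EtCoh.Ab X) (hF : EtPBC.IsConstructible F) :
    IsLocallyConstructible (stalkSet F P) := by
  intro x
  obtain ⟨U, hU, hxU, -⟩ := exists_isAffineOpen_mem_and_subset (X := X) (x := x)
    (U := ⊤) trivial
  refine ⟨(U : Set X), U.isOpen.mem_nhds hxU, U.isOpen, ?_⟩
  obtain ⟨n, T, g, h1, h2, h3, h4, h5⟩ := hF U hU
  have hAff : IsAffine U.toScheme := hU
  have i1 : CompactSpace ↥(U : Set X) := inferInstanceAs (CompactSpace ↥U.toScheme)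
  have i2 : QuasiSeparatedSpace ↥(U : Set X) :=
    inferInstanceAs (QuasiSeparatedSpace ↥U.toScheme)
  have i3 : PrespectralSpace ↥(U : Set X) := inferInstanceAs (PrespectralSpace ↥U.toScheme)
  have hdecomp : (Subtype.val : ↥(U : Set X) → X) ⁻¹' stalkSet F P =
      ⋃ i, (Subtype.val : ↥(U : Set X) → X) ⁻¹' (stalkSet F P ∩ Set.range (g i)) := by
    ext y
    simp only [Set.mem_preimage, Set.mem_iUnion, Set.mem_inter_iff]
    constructor
    · intro hy
      have : y.1 ∈ ⋃ i, Set.range (g i) := by rw [h4]; exact y.2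
      obtain ⟨i, hi⟩ := Set.mem_iUnion.1 this
      exact ⟨i, hy, hi⟩
    · rintro ⟨i, hy, -⟩
      exact hy
  change IsConstructible ((Subtype.val : ↥(U : Set X) → X) ⁻¹' stalkSet F P)
  rw [hdecomp]
  refine IsConstructible.iUnion (fun i => ?_)
  have := h1 i
  have hclopen := isClopen_stalkSet hP _ (h5 i)
  obtain ⟨Go, hGo, hGoA⟩ := (g i).isEmbedding.isInducing.isOpen_iff.1 hclopen.2
  obtain ⟨Dc, hDc, hDcA⟩ := (g i).isEmbedding.isInducing.isClosed_iff.1 hclopen.1
  rw [stalkSet_inter_range hP F (g i)]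
  refine isConstructible_of_clopen_in (h2 i)
    (hGo.preimage continuous_subtype_val) (hDc.preimage continuous_subtype_val) ?_ ?_
  · rw [← hGoA, Set.image_preimage_eq_range_inter, Set.preimage_inter]
  · rw [← hDcA, Set.image_preimage_eq_range_inter, Set.preimage_inter]

end Groth.Agent.Lib.Seat29.EtStalkConstr
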