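import Mathlib
import Groth.Prelude.Def_PBC
import Groth.Prelude.Def_EtCore
import Groth.Prelude.Def_EtShriek2
import Groth.Agent.Lib.Helper9JContAll
import Groth.Agent.Lib.Helper16SmallEtale
import Groth.Agent.Lib.Seat1StalkFin
import Groth.Agent.Lib.Seat29EtStalkConstr

/-!
# Direct image along an étale morphism split by sections (seat 29)

Let `f : X ⟶ Y` and `h : T ⟶ Y` be étale and let `σ i : T ⟶ X` (`i : Fin m`) be morphisms over `Y`
which, on every geometric point `t` of `T`, enumerate without repetition the geometric points of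
`X` over `t ≫ h`.  Then the restriction of `f_* F` to `T` is the product of the restrictions of `F`
along the `σ i`.
-/

set_option autoImplicit false
set_option linter.style.haveILetI false
set_option linter.unusedSectionVars false

universe u

open CategoryTheory CategoryTheory.Limits AlgebraicGeometry Opposite

namespace Groth.Agent.Lib.Seat29.EtFinPushSplit

open Groth.Agent.Lib.Helper16.SmallEtale Groth.Agent.Lib.Seat1.FinSplit
  Groth.Agent.Lib.Seat1.StalkFin Groth.Agent.Lib.Seat1.DisjCover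
  Groth.Agent.Lib.Seat29.EtStalkConstr

attribute [local instance] Groth.Agent.Lib.Helper9.JContAll.jCont

variable {X Y T : Scheme.{u}} (f : X ⟶ Y) [Etale f] (h : T ⟶ Y) [Etale h]

section One

include f h in
lemma etale_of_section (s : T ⟶ X) (hs : s ≫ f = h) : Etale s :=
  EtCoh.etaleMP.of_postcomp (W' := EtCoh.etaleMP) s f ‹Etale f› (by rw [hs]; exact ‹Etale h›)

variable (s : T ⟶ X) [Etale s] (hs : s ≫ f = h)

/-- the graph of `V ⟶ T ⟶ X` inside `V ×_Y X` -/
noncomputable def gamLeft (V : T.Etale) : V.left ⟶ pullback (V.hom ≫ h) f :=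
  pullback.lift (𝟙 V.left) (V.hom ≫ s) (by rw [Category.id_comp, Category.assoc, hs])

@[reassoc]
lemma gamLeft_fst (V : T.Etale) : gamLeft f h s hs V ≫ pullback.fst (V.hom ≫ h) f = 𝟙 V.left :=
  pullback.lift_fst _ _ _

@[reassoc]
lemma gamLeft_snd (V : T.Etale) : gamLeft f h s hs V ≫ pullback.snd (V.hom ≫ h) f = V.hom ≫ s :=
  pullback.lift_snd _ _ _

instance mono_gamLeft (V : T.Etale) : Mono (gamLeft f h s hs V) :=
  mono_of_mono_fac (gamLeft_fst f h s hs V)

lemma etale_gamLeft (V : T.Etale) : Etale (gamLeft f h s hs V) :=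
  EtCoh.etaleMP.of_postcomp (W' := EtCoh.etaleMP) (gamLeft f h s hs V)
    (pullback.fst (V.hom ≫ h) f) inferInstance (by
      rw [gamLeft_fst]
      exact (inferInstance : Etale (𝟙 V.left)))

instance isOpenImmersion_gamLeft (V : T.Etale) : IsOpenImmersion (gamLeft f h s hs V) := by
  haveI := etale_gamLeft f h s hs V
  exact IsOpenImmersion.of_flat_of_mono _

/-- the graph as a morphism of the small étale site of `X` -/
noncomputable def gam (V : T.Etale) :
    (EtShriek.compEtale s).obj V ⟶ (EtCoh.bc f).obj ((EtShriek.compEtale h).obj V) :=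
  MorphismProperty.Over.homMk (gamLeft f h s hs V) (gamLeft_snd f h s hs V)

lemma gam_left (V : T.Etale) : (gam f h s hs V).left = gamLeft f h s hs V := rfl

lemma gam_naturality {V V' : T.Etale} (g : V ⟶ V') :
    (EtShriek.compEtale s).map g ≫ gam f h s hs V' =
      gam f h s hs V ≫ (EtCoh.bc f).map ((EtShriek.compEtale h).map g) := by
  apply MorphismProperty.Over.Hom.ext
  change g.left ≫ gamLeft f h s hs V' =
    gamLeft f h s hs V ≫ ((EtCoh.bc f).map ((EtShriek.compEtale h).map g)).left
  have hg : g.left ≫ V'.hom = V.hom := MorphismProperty.Over.w g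
  have e1 : ((EtCoh.bc f).map ((EtShriek.compEtale h).map g)).left ≫
      pullback.fst (V'.hom ≫ h) f = pullback.fst (V.hom ≫ h) f ≫ g.left :=
    bc_map_left_fst f ((EtShriek.compEtale h).map g)
  have e2 : ((EtCoh.bc f).map ((EtShriek.compEtale h).map g)).left ≫
      pullback.snd (V'.hom ≫ h) f = pullback.snd (V.hom ≫ h) f :=
    bc_map_left_snd f ((EtShriek.compEtale h).map g)
  refine pullback.hom_ext (f := V'.hom ≫ h) (g := f) ?_ ?_
  · calc (g.left ≫ gamLeft f h s hs V') ≫ pullback.fst (V'.hom ≫ h) f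
        = g.left ≫ (gamLeft f h s hs V' ≫ pullback.fst (V'.hom ≫ h) f) := Category.assoc _ _ _
      _ = g.left ≫ 𝟙 V'.left := congrArg (fun m => g.left ≫ m) (gamLeft_fst f h s hs V')
      _ = g.left := Category.comp_id _
      _ = 𝟙 V.left ≫ g.left := (Category.id_comp _).symm
      _ = (gamLeft f h s hs V ≫ pullback.fst (V.hom ≫ h) f) ≫ g.left :=
          congrArg (fun m => m ≫ g.left) (gamLeft_fst f h s hs V).symm
      _ = gamLeft f h s hs V ≫ (pullback.fst (V.hom ≫ h) f ≫ g.left) := Category.assoc _ _ _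
      _ = gamLeft f h s hs V ≫ (((EtCoh.bc f).map ((EtShriek.compEtale h).map g)).left ≫
            pullback.fst (V'.hom ≫ h) f) := congrArg (fun m => gamLeft f h s hs V ≫ m) e1.symm
      _ = (gamLeft f h s hs V ≫ ((EtCoh.bc f).map ((EtShriek.compEtale h).map g)).left) ≫
            pullback.fst (V'.hom ≫ h) f := (Category.assoc _ _ _).symm
  · calc (g.left ≫ gamLeft f h s hs V') ≫ pullback.snd (V'.hom ≫ h) f
        = g.left ≫ (gamLeft f h s hs V' ≫ pullback.snd (V'.hom ≫ h) f) := Category.assoc _ _ _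
      _ = g.left ≫ (V'.hom ≫ s) := congrArg (fun m => g.left ≫ m) (gamLeft_snd f h s hs V')
      _ = (g.left ≫ V'.hom) ≫ s := (Category.assoc _ _ _).symm
      _ = V.hom ≫ s := congrArg (fun m => m ≫ s) hg
      _ = gamLeft f h s hs V ≫ pullback.snd (V.hom ≫ h) f := (gamLeft_snd f h s hs V).symm
      _ = gamLeft f h s hs V ≫ (((EtCoh.bc f).map ((EtShriek.compEtale h).map g)).left ≫
            pullback.snd (V'.hom ≫ h) f) := congrArg (fun m => gamLeft f h s hs V ≫ m) e2.symm
      _ = (gamLeft f h s hs V ≫ ((EtCoh.bc f).map ((EtShriek.compEtale h).map g)).left) ≫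
            pullback.snd (V'.hom ≫ h) f := (Category.assoc _ _ _).symm

/-- the comparison morphism of sheaves on `T` -/
noncomputable def Phi (F : EtCoh.Ab X) :
    (EtShriek.restrAlong h).obj ((EtCoh.push f).obj F) ⟶ (EtShriek.restrAlong s).obj F :=
  ⟨{ app := fun V => F.obj.map (gam f h s hs V.unop).op
     naturality := fun V V' g => by
      change F.obj.map ((EtCoh.bc f).map ((EtShriek.compEtale h).map g.unop)).op ≫
        F.obj.map (gam f h s hs V'.unop).op =
        F.obj.map (gam f h s hs V.unop).op ≫ F.obj.map ((EtShriek.compEtale s).map g.unop).op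
      rw [← Functor.map_comp, ← Functor.map_comp, ← op_comp, ← op_comp, gam_naturality] }⟩

lemma Phi_app (F : EtCoh.Ab X) (V : T.Etale) :
    (Phi f h s hs F).hom.app (op V) = F.obj.map (gam f h s hs V).op := rfl

end One

section Two

variable (s s' : T ⟶ X) [Etale s] [Etale s'] (hs : s ≫ f = h) (hs' : s' ≫ f = h)

/-- graphs of pointwise distinct sections are disjoint -/
lemma disjoint_opensRange_gamLeft
    (hne : ∀ (Ω : Type u) [Field Ω] [IsSepClosed Ω] (t : Spec (CommRingCat.of Ω) ⟶ T),
      t ≫ s ≠ t ≫ s') (V : T.Etale) :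
    Disjoint (gamLeft f h s hs V).opensRange (gamLeft f h s' hs' V).opensRange := by
  rw [← TopologicalSpace.Opens.coe_disjoint]
  change Disjoint (Set.range (gamLeft f h s hs V)) (Set.range (gamLeft f h s' hs' V))
  rw [← Scheme.isEmpty_pullback_iff]
  constructor
  intro z
  obtain ⟨Ω, _, _, q, -⟩ := exists_geometric_point_over z
  let a := q ≫ pullback.fst (gamLeft f h s hs V) (gamLeft f h s' hs' V)
  let b := q ≫ pullback.snd (gamLeft f h s hs V) (gamLeft f h s' hs' V)
  have hab : a ≫ gamLeft f h s hs V = b ≫ gamLeft f h s' hs' V := by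
    simp only [a, b, Category.assoc, pullback.condition]
  have h1 : a = b := by
    have := congrArg (fun k => k ≫ pullback.fst (V.hom ≫ h) f) hab
    exact ((Category.comp_id a).symm.trans
      ((congrArg (fun k => a ≫ k) (gamLeft_fst f h s hs V).symm).trans
      ((Category.assoc _ _ _).symm.trans (this.trans ((Category.assoc _ _ _).trans
      ((congrArg (fun k => b ≫ k) (gamLeft_fst f h s' hs' V)).trans (Category.comp_id b)))))))
  have h2 : a ≫ V.hom ≫ s = b ≫ V.hom ≫ s' := by
    have := congrArg (fun k => k ≫ pullback.snd (V.hom ≫ h) f) hab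
    exact ((congrArg (fun k => a ≫ k) (gamLeft_snd f h s hs V).symm).trans
      ((Category.assoc _ _ _).symm.trans (this.trans ((Category.assoc _ _ _).trans
      (congrArg (fun k => b ≫ k) (gamLeft_snd f h s' hs' V))))))
  refine hne Ω (a ≫ V.hom) ?_
  exact (Category.assoc _ _ _).trans (h2.trans ((Category.assoc _ _ _).symm.trans
    (congrArg (fun k => (k ≫ V.hom) ≫ s') h1.symm)))

end Two

section General

variable {C : Type (u + 1)} [Category.{u} C] (J : GrothendieckTopology C)
  [HasSheafify J AddCommGrpCat.{u + 1}]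

/-- in `AddCommGrpCat`, a family of maps which is jointly bijective exhibits a product -/
lemma isIso_piLift_ab {ι : Type} (E : AddCommGrpCat.{u + 1}) (M : ι → AddCommGrpCat.{u + 1})
    (φ : ∀ i, E ⟶ M i)
    (hb : Function.Bijective (fun (e : E) (i : ι) => (ConcreteCategory.hom (φ i)) e)) :
    IsIso (Pi.lift φ) := by
  let e : ∏ᶜ M ≅ AddCommGrpCat.of (∀ i, M i) :=
    IsLimit.conePointUniqueUpToIso (limit.isLimit _)
      (AddCommGrpCat.HasLimit.productLimitCone.{0, u + 1} M).isLimit
  have he : ∀ i, e.hom ≫ AddCommGrpCat.ofHom (Pi.evalAddMonoidHom (fun i => M i) i) = Pi.π M i :=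
    fun i => IsLimit.conePointUniqueUpToIso_hom_comp _ _ (Discrete.mk i)
  let β := Pi.lift φ ≫ e.hom
  have h1 : ∀ i, β ≫ AddCommGrpCat.ofHom (Pi.evalAddMonoidHom (fun i => M i) i) = φ i := by
    intro i
    simp only [β, Category.assoc]
    rw [he i, Pi.lift_π]
  have hβ : IsIso β := by
    rw [ConcreteCategory.isIso_iff_bijective]
    have hfun : ∀ s, β s = fun i => (ConcreteCategory.hom (φ i)) s :=
      fun s => funext (fun i => ConcreteCategory.congr_hom (h1 i) s)
    refine ⟨fun a b hab => hb.1 ((hfun a).symm.trans (hab.trans (hfun b))), fun t => ?_⟩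
    obtain ⟨s, hs⟩ := hb.2 t
    exact ⟨s, (hfun s).trans hs⟩
  exact IsIso.of_isIso_comp_right (Pi.lift φ) e.hom

/-- a family of morphisms of abelian sheaves which is jointly bijective on sections exhibits a
product -/
theorem isIso_piLift_sheaf {ι : Type} (E : Sheaf J AddCommGrpCat.{u + 1})
    (G : ι → Sheaf J AddCommGrpCat.{u + 1}) [HasProduct G] (Φ : ∀ i, E ⟶ G i)
    [∀ V : C, PreservesLimit (Discrete.functor G)
      (sheafToPresheaf J AddCommGrpCat.{u + 1} ⋙ (evaluation Cᵒᵖ AddCommGrpCat.{u + 1}).obj (op V))]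
    (hb : ∀ V : C, Function.Bijective (fun (e : E.obj.obj (op V)) (i : ι) =>
      (ConcreteCategory.hom ((Φ i).hom.app (op V))) e)) :
    IsIso (Pi.lift Φ) := by
  have key : ∀ V : Cᵒᵖ, IsIso ((Pi.lift Φ).hom.app V) := by
    intro V
    obtain ⟨V⟩ := V
    let S := sheafToPresheaf J AddCommGrpCat.{u + 1} ⋙
      (evaluation Cᵒᵖ AddCommGrpCat.{u + 1}).obj (op V)
    have h1 : S.map (Pi.lift Φ) ≫ piComparison S G = Pi.lift (fun i => S.map (Φ i)) :=
      map_lift_piComparison S G E Φ
    haveI : IsIso (Pi.lift (fun i => S.map (Φ i))) :=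
      isIso_piLift_ab (S.obj E) (fun i => S.obj (G i)) (fun i => S.map (Φ i)) (hb V)
    haveI : IsIso (S.map (Pi.lift Φ) ≫ piComparison S G) := by
      rw [h1]
      infer_instance
    exact IsIso.of_isIso_comp_right (S.map (Pi.lift Φ)) (piComparison S G)
  haveI : ∀ V : Cᵒᵖ, IsIso (((sheafToPresheaf J AddCommGrpCat.{u + 1}).map (Pi.lift Φ)).app V) :=
    key
  haveI : IsIso ((sheafToPresheaf J AddCommGrpCat.{u + 1}).map (Pi.lift Φ)) :=
    NatIso.isIso_of_isIso_app _
  exact isIso_of_reflects_iso (Pi.lift Φ) (sheafToPresheaf J AddCommGrpCat.{u + 1})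

end General

section Main

variable {m : ℕ} (σ : Fin m → (T ⟶ X)) [∀ i, Etale (σ i)] (hσ : ∀ i, σ i ≫ f = h)

/-- the graphs cover when the sections exhaust the geometric fibres -/
lemma exists_mem_opensRange_gamLeft
    (hsurj : ∀ (Ω : Type u) [Field Ω] [IsSepClosed Ω] (t : Spec (CommRingCat.of Ω) ⟶ T)
      (x : Spec (CommRingCat.of Ω) ⟶ X), x ≫ f = t ≫ h → ∃ i, x = t ≫ σ i)
    (V : T.Etale) (p : ↥(pullback (V.hom ≫ h) f)) :
    ∃ i, p ∈ (gamLeft f h (σ i) (hσ i) V).opensRange := by
  obtain ⟨Ω, _, _, ζ, hζ⟩ := exists_geometric_point_over p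
  let t := ζ ≫ pullback.fst (V.hom ≫ h) f
  let x := ζ ≫ pullback.snd (V.hom ≫ h) f
  have hx : x ≫ f = (t ≫ V.hom) ≫ h := by
    simp only [x, t, Category.assoc, pullback.condition]
  obtain ⟨i, hi⟩ := hsurj Ω (t ≫ V.hom) x hx
  refine ⟨i, ?_⟩
  have hfac : ζ = t ≫ gamLeft f h (σ i) (hσ i) V := by
    refine pullback.hom_ext (f := V.hom ≫ h) (g := f) ?_ ?_
    · exact ((Category.comp_id t).symm.trans
        (congrArg (fun k => t ≫ k) (gamLeft_fst f h (σ i) (hσ i) V).symm)).trans
        (Category.assoc _ _ _).symm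
    · exact (hi.trans ((Category.assoc _ _ _).trans
        (congrArg (fun k => t ≫ k) (gamLeft_snd f h (σ i) (hσ i) V).symm))).trans
        (Category.assoc _ _ _).symm
  change p ∈ Set.range (gamLeft f h (σ i) (hσ i) V)
  refine ⟨t default, ?_⟩
  rw [← hζ]
  exact (Scheme.Hom.comp_apply t (gamLeft f h (σ i) (hσ i) V) default).symm.trans
    (congrArg (fun k : Spec (CommRingCat.of Ω) ⟶ pullback (V.hom ≫ h) f => k default) hfac.symm)

/-- the source of the graph is isomorphic to its open image, as objects of the small étale site -/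
noncomputable def graphIso (i : Fin m) (V : T.Etale) :
    (EtShriek.compEtale (σ i)).obj V ≅
      opnOf ((EtCoh.bc f).obj ((EtShriek.compEtale h).obj V))
        (gamLeft f h (σ i) (hσ i) V).opensRange :=
  MorphismProperty.Over.isoMk (gamLeft f h (σ i) (hσ i) V).isoOpensRange
    (((Category.assoc _ _ _).symm.trans
      (congrArg (fun k => k ≫ pullback.snd (V.hom ≫ h) f)
        (Scheme.Hom.isoOpensRange_hom_ι (gamLeft f h (σ i) (hσ i) V)))).trans
      (gamLeft_snd f h (σ i) (hσ i) V))

lemma graphIso_hom_opnIn (i : Fin m) (V : T.Etale) :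
    (graphIso f h σ hσ i V).hom ≫
      opnIn ((EtCoh.bc f).obj ((EtShriek.compEtale h).obj V))
        (gamLeft f h (σ i) (hσ i) V).opensRange = gam f h (σ i) (hσ i) V := by
  apply MorphismProperty.Over.Hom.ext
  exact Scheme.Hom.isoOpensRange_hom_ι (gamLeft f h (σ i) (hσ i) V)

/-- **Sections of `f_* F` over `V ⟶ T` are families of sections of `F` over the `V ⟶ T ⟶ X`.** -/
theorem bijective_Phi
    (hinj : ∀ (Ω : Type u) [Field Ω] [IsSepClosed Ω] (t : Spec (CommRingCat.of Ω) ⟶ T),
      Function.Injective (fun i => t ≫ σ i))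
    (hsurj : ∀ (Ω : Type u) [Field Ω] [IsSepClosed Ω] (t : Spec (CommRingCat.of Ω) ⟶ T)
      (x : Spec (CommRingCat.of Ω) ⟶ X), x ≫ f = t ≫ h → ∃ i, x = t ≫ σ i)
    (F : EtCoh.Ab X) (V : T.Etale) :
    Function.Bijective
      (fun (e : ((EtShriek.restrAlong h).obj ((EtCoh.push f).obj F)).obj.obj (op V)) (i : Fin m) =>
        (ConcreteCategory.hom ((Phi f h (σ i) (hσ i) F).hom.app (op V))) e) := by
  let Z : X.Etale := (EtCoh.bc f).obj ((EtShriek.compEtale h).obj V)
  let W : Fin m → Z.left.Opens := fun i => (gamLeft f h (σ i) (hσ i) V).opensRange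
  have hdisj : ∀ i j, i ≠ j → Disjoint (W i) (W j) := fun i j hij =>
    disjoint_opensRange_gamLeft f h (σ i) (σ j) (hσ i) (hσ j)
      (fun Ω _ _ t hts => hij (hinj Ω t hts)) V
  have hcov : ∀ z : Z.left, ∃ i, z ∈ W i := fun z =>
    exists_mem_opensRange_gamLeft f h σ hσ hsurj V z
  have hb := bijective_restrict_opens (F.obj ⋙ forget _) (isSheaf_forget F) Z W hdisj hcov
  have hfac : ∀ (i : Fin m) (e : F.obj.obj (op Z)),
      (ConcreteCategory.hom (F.obj.map (gam f h (σ i) (hσ i) V).op)) e =
        (ConcreteCategory.hom (F.obj.map (graphIso f h σ hσ i V).hom.op))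
          ((ConcreteCategory.hom (F.obj.map (opnIn Z (W i)).op)) e) := by
    intro i e
    rw [← graphIso_hom_opnIn f h σ hσ i V, op_comp, Functor.map_comp]
    rfl
  have hinv : ∀ (i : Fin m) (y : F.obj.obj (op (opnOf Z (W i)))),
      (ConcreteCategory.hom (F.obj.map (graphIso f h σ hσ i V).inv.op))
        ((ConcreteCategory.hom (F.obj.map (graphIso f h σ hσ i V).hom.op)) y) = y := by
    intro i y
    have : F.obj.map (graphIso f h σ hσ i V).hom.op ≫ F.obj.map (graphIso f h σ hσ i V).inv.op =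
        𝟙 _ := by
      rw [← Functor.map_comp, ← op_comp, Iso.inv_hom_id, op_id, CategoryTheory.Functor.map_id]
    exact ConcreteCategory.congr_hom this y
  have hinv' : ∀ (i : Fin m) (y : F.obj.obj (op ((EtShriek.compEtale (σ i)).obj V))),
      (ConcreteCategory.hom (F.obj.map (graphIso f h σ hσ i V).hom.op))
        ((ConcreteCategory.hom (F.obj.map (graphIso f h σ hσ i V).inv.op)) y) = y := by
    intro i y
    have : F.obj.map (graphIso f h σ hσ i V).inv.op ≫ F.obj.map (graphIso f h σ hσ i V).hom.op =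
        𝟙 _ := by
      rw [← Functor.map_comp, ← op_comp, Iso.hom_inv_id, op_id, CategoryTheory.Functor.map_id]
    exact ConcreteCategory.congr_hom this y
  constructor
  · intro e e' hee'
    apply hb.1
    funext i
    have h1 : (ConcreteCategory.hom (F.obj.map (gam f h (σ i) (hσ i) V).op)) e =
        (ConcreteCategory.hom (F.obj.map (gam f h (σ i) (hσ i) V).op)) e' := congrFun hee' i
    rw [hfac i e, hfac i e'] at h1
    have h2 := congrArg
      (fun y => (ConcreteCategory.hom (F.obj.map (graphIso f h σ hσ i V).inv.op)) y) h1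
    simp only [hinv] at h2
    exact h2
  · intro y
    obtain ⟨e, he⟩ := hb.2
      (fun i => (ConcreteCategory.hom (F.obj.map (graphIso f h σ hσ i V).inv.op)) (y i))
    refine ⟨e, ?_⟩
    funext i
    have h1 : (ConcreteCategory.hom (F.obj.map (opnIn Z (W i)).op)) e =
        (ConcreteCategory.hom (F.obj.map (graphIso f h σ hσ i V).inv.op)) (y i) := congrFun he i
    change (ConcreteCategory.hom (F.obj.map (gam f h (σ i) (hσ i) V).op)) e = y i
    rw [hfac i e, h1, hinv']

/-- **The restriction of `f_* F` to `T` is the product of the restrictions of `F` along the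
sections.** -/
theorem isIso_piLift_Phi
    (hinj : ∀ (Ω : Type u) [Field Ω] [IsSepClosed Ω] (t : Spec (CommRingCat.of Ω) ⟶ T),
      Function.Injective (fun i => t ≫ σ i))
    (hsurj : ∀ (Ω : Type u) [Field Ω] [IsSepClosed Ω] (t : Spec (CommRingCat.of Ω) ⟶ T)
      (x : Spec (CommRingCat.of Ω) ⟶ X), x ≫ f = t ≫ h → ∃ i, x = t ≫ σ i)
    (F : EtCoh.Ab X) :
    IsIso (Pi.lift (fun i => Phi f h (σ i) (hσ i) F)) :=
  isIso_piLift_sheaf T.smallEtaleTopology _ _ _
    (fun V => bijective_Phi f h σ hσ hinj hsurj F V)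

end Main

end Groth.Agent.Lib.Seat29.EtFinPushSplit
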