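import Mathlib

/-!
# Affine morphisms over an affine base and algebras

For a scheme `U`, `Aff U` is the category of affine morphisms to `U`. The global sections functor
`gamma U : Aff U ⥤ (Under Γ(U, ⊤))ᵒᵖ` is an equivalence if `U` is affine.
-/

namespace Groth.Agent.Lib.Seat2.AffDict

open CategoryTheory Limits AlgebraicGeometry Opposite

universe u

/-- The morphism property "affine". -/
abbrev affProp : MorphismProperty Scheme.{u} := @IsAffineHom

/-- The category of affine morphisms to `X`. -/
abbrev Aff (X : Scheme.{u}) : Type (u + 1) := affProp.{u}.Over ⊤ X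

instance (U : Scheme.{u}) (Y : Aff U) : IsAffineHom Y.hom := Y.prop

lemma isAffine_left (U : Scheme.{u}) [IsAffine U] (Y : Aff U) : IsAffine Y.left :=
  isAffine_of_isAffineHom (Y := U) Y.hom

/-- global sections, as a functor to the opposite of algebras over `Γ(U, ⊤)`. -/
noncomputable def gamma (U : Scheme.{u}) : Aff U ⥤ (Under Γ(U, ⊤))ᵒᵖ where
  obj Y := op (Under.mk Y.hom.appTop)
  map {Y Z} φ := (Under.homMk (U := Under.mk Z.hom.appTop) (V := Under.mk Y.hom.appTop)
    φ.left.appTop (by
      dsimp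
      rw [← Scheme.Hom.comp_appTop, MorphismProperty.Over.w])).op
  map_id Y := by
    apply Quiver.Hom.unop_inj
    apply Under.UnderMorphism.ext
    simp
  map_comp f g := by
    apply Quiver.Hom.unop_inj
    apply Under.UnderMorphism.ext
    simp

@[simp] lemma gamma_obj (U : Scheme.{u}) (Y : Aff U) :
    (gamma U).obj Y = op (Under.mk Y.hom.appTop) := rfl

@[simp] lemma gamma_map_unop_right (U : Scheme.{u}) {Y Z : Aff U} (φ : Y ⟶ Z) :
    ((gamma U).map φ).unop.right = φ.left.appTop := rfl

instance faithful_gamma (U : Scheme.{u}) [IsAffine U] : (gamma U).Faithful where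
  map_injective {Y Z} φ ψ h := by
    have : IsAffine Z.left := isAffine_left U Z
    apply MorphismProperty.Over.Hom.ext
    apply ext_of_isAffine
    exact congrArg (fun t => t.unop.right) h

lemma appTop_toSpecΓ_comp (Y Z : Scheme.{u}) [IsAffine Z] (ψ : Γ(Z, ⊤) ⟶ Γ(Y, ⊤)) :
    (Y.toSpecΓ ≫ Spec.map ψ ≫ Z.isoSpec.inv).appTop = ψ := by
  have : IsIso Z.isoSpec.hom.appTop := by
    show IsIso (Scheme.Γ.map Z.isoSpec.hom.op); infer_instance
  rw [← cancel_epi Z.isoSpec.hom.appTop, ← Scheme.Hom.comp_appTop]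
  simp only [Category.assoc, Iso.inv_hom_id, Category.comp_id]
  rw [Scheme.Hom.comp_appTop, Scheme.toSpecΓ_appTop, Scheme.ΓSpecIso_naturality,
    Scheme.isoSpec_hom, Scheme.toSpecΓ_appTop]

instance full_gamma (U : Scheme.{u}) [IsAffine U] : (gamma U).Full where
  map_surjective {Y Z} ψ := by
    have : IsAffine Z.left := isAffine_left U Z
    have hψ : Z.hom.appTop ≫ ψ.unop.right = Y.hom.appTop := Under.w ψ.unop
    have key : (Y.left.toSpecΓ ≫ Spec.map ψ.unop.right ≫ Z.left.isoSpec.inv).appTop =
        ψ.unop.right := appTop_toSpecΓ_comp _ _ _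
    refine ⟨MorphismProperty.Over.homMk
      (Y.left.toSpecΓ ≫ Spec.map ψ.unop.right ≫ Z.left.isoSpec.inv) ?_ trivial, ?_⟩
    · apply ext_of_isAffine (Y := U)
      rw [Scheme.Hom.comp_appTop, key]
      exact hψ
    · apply Quiver.Hom.unop_inj
      apply Under.UnderMorphism.ext
      exact key

/-- The affine `U`-scheme attached to a `Γ(U, ⊤)`-algebra. -/
noncomputable def specObj (U : Scheme.{u}) [IsAffine U] (B : Under Γ(U, ⊤)) : Aff U :=
  MorphismProperty.Over.mk ⊤ (Spec.map B.hom ≫ U.isoSpec.inv) inferInstance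

lemma specMap_comp_isoSpec_inv_appTop (U : Scheme.{u}) [IsAffine U] {B : CommRingCat.{u}}
    (h : Γ(U, ⊤) ⟶ B) :
    (Spec.map h ≫ U.isoSpec.inv).appTop ≫ (Scheme.ΓSpecIso B).hom = h := by
  have : IsIso U.isoSpec.hom.appTop := by
    show IsIso (Scheme.Γ.map U.isoSpec.hom.op); infer_instance
  rw [← cancel_epi U.isoSpec.hom.appTop, ← Category.assoc, ← Scheme.Hom.comp_appTop]
  simp only [Category.assoc, Iso.inv_hom_id, Category.comp_id]
  rw [Scheme.ΓSpecIso_naturality, Scheme.isoSpec_hom, Scheme.toSpecΓ_appTop]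

lemma comp_ΓSpecIso_inv (U : Scheme.{u}) [IsAffine U] {B : CommRingCat.{u}}
    (h : Γ(U, ⊤) ⟶ B) :
    h ≫ (Scheme.ΓSpecIso B).inv = (Spec.map h ≫ U.isoSpec.inv).appTop := by
  conv_lhs => rw [← specMap_comp_isoSpec_inv_appTop U h]
  rw [Category.assoc, Iso.hom_inv_id, Category.comp_id]

lemma specObj_hom_appTop (U : Scheme.{u}) [IsAffine U] (B : Under Γ(U, ⊤)) :
    (specObj U B).hom.appTop ≫ (Scheme.ΓSpecIso B.right).hom = B.hom :=
  specMap_comp_isoSpec_inv_appTop U B.hom

/-- `gamma (specObj B) ≅ B`. -/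
noncomputable def gammaSpecObjIso (U : Scheme.{u}) [IsAffine U] (B : Under Γ(U, ⊤)) :
    (gamma U).obj (specObj U B) ≅ op B :=
  (Under.isoMk (Scheme.ΓSpecIso B.right).symm (comp_ΓSpecIso_inv U B.hom) :
      B ≅ Under.mk (specObj U B).hom.appTop).op

instance essSurj_gamma (U : Scheme.{u}) [IsAffine U] : (gamma U).EssSurj where
  mem_essImage B := ⟨specObj U B.unop, ⟨gammaSpecObjIso U B.unop⟩⟩

instance isEquivalence_gamma (U : Scheme.{u}) [IsAffine U] : (gamma U).IsEquivalence where

instance hasFiniteColimits_aff (U : Scheme.{u}) [IsAffine U] : HasFiniteColimits (Aff U) :=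
  ⟨fun _ _ _ => Adjunction.hasColimitsOfShape_of_equivalence (gamma U)⟩

variable {U V : Scheme.{u}} [IsAffine U] [IsAffine V] (ρ : V ⟶ U)

lemma isPushout_appTop (Y : Aff U) :
    IsPushout Y.hom.appTop ρ.appTop (pullback.fst Y.hom ρ).appTop (pullback.snd Y.hom ρ).appTop := by
  have : IsAffine Y.left := isAffine_left U Y
  exact isPushout_appTop_of_isPullback (X := Y.left) (Y := V) (Z := U)
    (IsPullback.of_hasPullback Y.hom ρ)

lemma pullbackGamma_naturality {Y Z : Aff U} (φ : Y ⟶ Z) :
    (isPushout_appTop ρ Z).isoPushout.inv ≫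
      (pullback.lift (pullback.fst Y.hom ρ ≫ φ.left) (pullback.snd Y.hom ρ)
        (by rw [Category.assoc, MorphismProperty.Over.w, pullback.condition]) :
          pullback Y.hom ρ ⟶ pullback Z.hom ρ).appTop =
    pushout.desc (φ.left.appTop ≫ pushout.inl Y.hom.appTop ρ.appTop)
      (pushout.inr Y.hom.appTop ρ.appTop)
      (by rw [← Category.assoc, ← Scheme.Hom.comp_appTop, MorphismProperty.Over.w,
        pushout.condition]) ≫
      (isPushout_appTop ρ Y).isoPushout.inv := by
  apply pushout.hom_ext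
  · rw [IsPushout.inl_isoPushout_inv_assoc, ← Scheme.Hom.comp_appTop, pullback.lift_fst,
      Scheme.Hom.comp_appTop, pushout.inl_desc_assoc, Category.assoc,
      IsPushout.inl_isoPushout_inv]
  · rw [IsPushout.inr_isoPushout_inv_assoc, ← Scheme.Hom.comp_appTop, pullback.lift_snd,
      pushout.inr_desc_assoc, IsPushout.inr_isoPushout_inv]

/-- component of the base change isomorphism -/
noncomputable def pullbackGammaIsoApp (Y : Aff U) :
    (MorphismProperty.Over.pullback affProp ⊤ ρ ⋙ gamma V).obj Y ≅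
      (gamma U ⋙ (Under.pushout ρ.appTop).op).obj Y :=
  (Under.isoMk (isPushout_appTop ρ Y).isoPushout.symm (by
    dsimp
    exact (isPushout_appTop ρ Y).inr_isoPushout_inv) :
    (Under.pushout ρ.appTop).obj (Under.mk Y.hom.appTop) ≅
      Under.mk (pullback.snd Y.hom ρ).appTop).op

/-- base change of affine schemes corresponds to pushout of algebras. -/
noncomputable def pullbackGammaIso :
    MorphismProperty.Over.pullback affProp ⊤ ρ ⋙ gamma V ≅
      gamma U ⋙ (Under.pushout ρ.appTop).op :=
  NatIso.ofComponents (pullbackGammaIsoApp ρ) (by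
    intro Y Z φ
    apply Quiver.Hom.unop_inj
    apply Under.UnderMorphism.ext
    exact pullbackGamma_naturality ρ φ)

lemma preservesFiniteColimits_pullback_of_flat [Flat ρ] :
    PreservesFiniteColimits (MorphismProperty.Over.pullback affProp ⊤ ρ) := by
  have hflat : ρ.appTop.hom.Flat :=
    (HasRingHomProperty.iff_of_isAffine (P := @Flat)).mp inferInstance
  have h1 : PreservesFiniteLimits (Under.pushout ρ.appTop) :=
    CommRingCat.Under.preservesFiniteLimits_of_flat _ hflat
  have h2 : PreservesFiniteColimits (Under.pushout ρ.appTop).op := preservesFiniteColimits_op _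
  have h3 : PreservesFiniteColimits (gamma U ⋙ (Under.pushout ρ.appTop).op) :=
    comp_preservesFiniteColimits _ _
  have h4 : PreservesFiniteColimits (MorphismProperty.Over.pullback affProp ⊤ ρ ⋙ gamma V) :=
    preservesFiniteColimits_of_natIso (pullbackGammaIso ρ).symm
  exact preservesFiniteColimits_of_reflects_of_preserves _ (gamma V)

end Groth.Agent.Lib.Seat2.AffDict
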