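import Mathlib

/-!
# Splitting finite etale algebras over a local ring by a local faithfully flat extension
-/

universe u

open TensorProduct

namespace Groth.Agent.Lib.Seat2.LocalSplit

/-- Transport of splitness along a tower of base changes. -/
theorem isFiniteSplit_tower (A A₁ A₂ S : Type u) [CommRing A] [CommRing A₁] [CommRing A₂] [CommRing S]
    [Algebra A A₁] [Algebra A A₂] [Algebra A₁ A₂] [IsScalarTower A A₁ A₂] [Algebra A S]
    [Algebra.IsFiniteSplit A₁ (A₁ ⊗[A] S)] : Algebra.IsFiniteSplit A₂ (A₂ ⊗[A] S) :=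
  Algebra.IsFiniteSplit.of_algEquiv (Algebra.TensorProduct.cancelBaseChange A A₁ A₂ A₂ S)

theorem rankAtStalk_const_of_isLocalRing (A : Type u) [CommRing A] [IsLocalRing A] (S : Type u)
    [AddCommGroup S] [Module A S] [Module.Finite A S] [Module.Flat A S] :
    Module.rankAtStalk (R := A) S = (Module.finrank A S : ℕ) := by
  have : Module.Free A S := Module.free_of_flat_of_isLocalRing
  exact Module.rankAtStalk_eq_finrank_of_free

theorem exists_split_pair (A : Type u) [CommRing A] [IsLocalRing A] (S T : Type u) [CommRing S]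
    [CommRing T] [Algebra A S] [Algebra A T] [Module.Finite A S] [Algebra.Etale A S]
    [Module.Finite A T] [Algebra.Etale A T] :
    ∃ (A₂ : Type u) (_ : CommRing A₂) (_ : Algebra A A₂) (_ : Module.FaithfullyFlat A A₂)
      (_ : Module.Finite A A₂), Algebra.IsFiniteSplit A₂ (A₂ ⊗[A] S) ∧
        Algebra.IsFiniteSplit A₂ (A₂ ⊗[A] T) := by
  obtain ⟨A₁, _, _, _, _, _, hS⟩ :=
    Algebra.IsFiniteSplit.exists_tensorProduct_of_etale (R := A) (S := S)
      (rankAtStalk_const_of_isLocalRing A S)
  have hrank : Module.rankAtStalk (R := A₁) (A₁ ⊗[A] T) = (Module.finrank A T : ℕ) := by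
    ext p
    rw [Module.rankAtStalk_baseChange, rankAtStalk_const_of_isLocalRing A T]
    rfl
  obtain ⟨A₂, _, _, _, _, _, hT⟩ :=
    Algebra.IsFiniteSplit.exists_tensorProduct_of_etale (R := A₁) (S := A₁ ⊗[A] T) hrank
  algebraize [(algebraMap A₁ A₂).comp (algebraMap A A₁)]
  refine ⟨A₂, inferInstance, inferInstance, Module.FaithfullyFlat.trans A A₁ A₂,
    Module.Finite.trans A₁ A₂, ?_, ?_⟩
  · exact isFiniteSplit_tower A A₁ A₂ S
  · exact Algebra.IsFiniteSplit.of_algEquiv (Algebra.TensorProduct.cancelBaseChange A A₁ A₂ A₂ T)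

/-- Over a local ring, two finite etale algebras are simultaneously split by a faithfully flat
local extension. -/
theorem exists_local_split (A : Type u) [CommRing A] [IsLocalRing A] (S T : Type u) [CommRing S]
    [CommRing T] [Algebra A S] [Algebra A T] [Module.Finite A S] [Algebra.Etale A S]
    [Module.Finite A T] [Algebra.Etale A T] :
    ∃ (R₂ : Type u) (_ : CommRing R₂) (_ : Algebra A R₂) (_ : IsLocalRing R₂)
      (_ : Module.FaithfullyFlat A R₂), Algebra.IsFiniteSplit R₂ (R₂ ⊗[A] S) ∧
        Algebra.IsFiniteSplit R₂ (R₂ ⊗[A] T) := by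
  obtain ⟨A₂, _, _, _, _, hS, hT⟩ := exists_split_pair A S T
  have : Nontrivial A₂ := by
    have : Function.Injective (algebraMap A A₂) := FaithfulSMul.algebraMap_injective A A₂
    exact this.nontrivial
  obtain ⟨m, hm⟩ := Ideal.exists_maximal A₂
  let R₂ := Localization.AtPrime m
  have : Algebra.IsIntegral A A₂ := inferInstance
  have hmax : (m.comap (algebraMap A A₂)).IsMaximal :=
    Ideal.isMaximal_comap_of_isIntegral_of_isMaximal m
  have hflat : Module.Flat A R₂ := Module.Flat.trans A A₂ R₂
  have hloc : IsLocalHom (algebraMap A R₂) := by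
    apply ((IsLocalRing.local_hom_TFAE (algebraMap A R₂)).out 0 4).mpr
    rw [IsScalarTower.algebraMap_eq A A₂ R₂, ← Ideal.comap_comap]
    have h1 : Ideal.comap (algebraMap A₂ R₂) (IsLocalRing.maximalIdeal R₂) = m :=
      Localization.AtPrime.under_maximalIdeal
    rw [h1]
    exact (IsLocalRing.eq_maximalIdeal hmax)
  have hff : Module.FaithfullyFlat A R₂ := Module.FaithfullyFlat.of_flat_of_isLocalHom
  refine ⟨R₂, inferInstance, inferInstance, inferInstance, hff, ?_, ?_⟩
  · exact isFiniteSplit_tower A A₂ R₂ S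
  · exact isFiniteSplit_tower A A₂ R₂ T

end Groth.Agent.Lib.Seat2.LocalSplit
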