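import Mathlib

/-!
# Von Neumann regular linear maps

A linear map `d : M → N` is *regular* if it has a generalized inverse `s : N → M` with
`d ∘ s ∘ d = d`.  For such a map kernel and image are direct summands and the formation of the
kernel commutes with arbitrary base change.
-/

universe u

open TensorProduct

namespace Groth.Agent.Lib.Seat2.Reg

variable {R : Type*} [CommRing R] {M N : Type*} [AddCommGroup M] [AddCommGroup N]
  [Module R M] [Module R N]

/-- `d` admits a generalized inverse. -/
def IsReg (d : M →ₗ[R] N) : Prop := ∃ s : N →ₗ[R] M, d ∘ₗ s ∘ₗ d = d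

theorem IsReg.projective_quotient [Module.Projective R N] {d : M →ₗ[R] N} (h : IsReg d) :
    Module.Projective R (N ⧸ LinearMap.range d) := by
  obtain ⟨s, hs⟩ := h
  -- the map `1 - d s` kills `range d`
  let p : N →ₗ[R] N := LinearMap.id - d ∘ₗ s
  have hp : LinearMap.range d ≤ LinearMap.ker p := by
    rintro _ ⟨m, rfl⟩
    have := LinearMap.congr_fun hs m
    simp only [LinearMap.coe_comp, Function.comp_apply] at this
    simp [p, this]
  let σ : (N ⧸ LinearMap.range d) →ₗ[R] N := (LinearMap.range d).liftQ p hp
  have hσ : (LinearMap.range d).mkQ ∘ₗ σ = LinearMap.id := by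
    apply Submodule.linearMap_qext
    ext n
    simp only [LinearMap.coe_comp, Function.comp_apply, Submodule.mkQ_apply, LinearMap.id_comp, σ,
      Submodule.liftQ_apply, p, LinearMap.sub_apply, LinearMap.id_coe, id_eq, Submodule.Quotient.mk_sub]
    rw [sub_eq_self, Submodule.Quotient.mk_eq_zero]
    exact ⟨s n, rfl⟩
  exact Module.Projective.of_split σ _ hσ

theorem IsReg.of_projective_quotient [Module.Projective R N] {d : M →ₗ[R] N}
    (h : Module.Projective R (N ⧸ LinearMap.range d)) : IsReg d := by
  -- section of the quotient map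
  obtain ⟨σ, hσ⟩ := Module.projective_lifting_property (LinearMap.range d).mkQ
    (LinearMap.id : (N ⧸ LinearMap.range d) →ₗ[R] _) (Submodule.mkQ_surjective _)
  -- projection onto the range
  let p : N →ₗ[R] N := LinearMap.id - σ ∘ₗ (LinearMap.range d).mkQ
  have hp : ∀ n, p n ∈ LinearMap.range d := by
    intro n
    rw [← Submodule.Quotient.mk_eq_zero]
    have := LinearMap.congr_fun hσ (Submodule.Quotient.mk n)
    simp only [LinearMap.coe_comp, Function.comp_apply, Submodule.mkQ_apply, LinearMap.id_coe,
      id_eq] at this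
    simp [p, Submodule.Quotient.mk_sub, this]
  let p' : N →ₗ[R] LinearMap.range d := p.codRestrict _ hp
  have hp' : ∀ x : LinearMap.range d, p' x = x := by
    intro x
    apply Subtype.ext
    have hx : (LinearMap.range d).mkQ x.1 = 0 := by
      rw [Submodule.mkQ_apply, Submodule.Quotient.mk_eq_zero]; exact x.2
    simp [p', p, hx]
  have : Module.Projective R (LinearMap.range d) :=
    Module.Projective.of_split (LinearMap.range d).subtype p' (LinearMap.ext hp')
  obtain ⟨s₀, hs₀⟩ := Module.projective_lifting_property d.rangeRestrict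
    (LinearMap.id : LinearMap.range d →ₗ[R] _) d.surjective_rangeRestrict
  refine ⟨s₀ ∘ₗ p', ?_⟩
  ext m
  have h1 : p' (d m) = d.rangeRestrict m := hp' (d.rangeRestrict m)
  have h2 := LinearMap.congr_fun hs₀ (d.rangeRestrict m)
  simp only [LinearMap.coe_comp, Function.comp_apply, LinearMap.id_coe, id_eq] at h2
  simp only [LinearMap.coe_comp, Function.comp_apply, h1]
  exact congrArg Subtype.val h2

/-- Regularity is invariant under composing with linear equivalences. -/
theorem IsReg.conj {M' N' : Type*} [AddCommGroup M'] [AddCommGroup N'] [Module R M'] [Module R N']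
    {d : M →ₗ[R] N} (h : IsReg d) (eM : M' ≃ₗ[R] M) (eN : N ≃ₗ[R] N') :
    IsReg (eN.toLinearMap ∘ₗ d ∘ₗ eM.toLinearMap) := by
  obtain ⟨s, hs⟩ := h
  refine ⟨eM.symm.toLinearMap ∘ₗ s ∘ₗ eN.symm.toLinearMap, ?_⟩
  ext m
  have := LinearMap.congr_fun hs (eM m)
  simp only [LinearMap.coe_comp, Function.comp_apply] at this
  simp [this]

section Ker

variable {d : M →ₗ[R] N}

/-- The kernel of a regular map is a direct summand. -/
theorem IsReg.exists_retraction (h : IsReg d) :
    ∃ r : M →ₗ[R] LinearMap.ker d, r ∘ₗ (LinearMap.ker d).subtype = LinearMap.id ∧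
      ∃ s : N →ₗ[R] M, (LinearMap.ker d).subtype ∘ₗ r + s ∘ₗ d = LinearMap.id := by
  obtain ⟨s, hs⟩ := h
  let r₀ : M →ₗ[R] M := LinearMap.id - s ∘ₗ d
  have hr₀ : ∀ m, r₀ m ∈ LinearMap.ker d := by
    intro m
    have := LinearMap.congr_fun hs m
    simp only [LinearMap.coe_comp, Function.comp_apply] at this
    simp [r₀, this]
  refine ⟨r₀.codRestrict _ hr₀, ?_, s, ?_⟩
  · ext x
    have hx : d x.1 = 0 := x.2
    simp [r₀, hx]
  · ext m
    simp [r₀]

theorem IsReg.finite_ker [Module.Finite R M] (h : IsReg d) : Module.Finite R (LinearMap.ker d) := by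
  obtain ⟨r, hr, -⟩ := h.exists_retraction
  refine Module.Finite.of_surjective r ?_
  intro x
  exact ⟨x.1, LinearMap.congr_fun hr x⟩

theorem IsReg.projective_ker [Module.Projective R M] (h : IsReg d) :
    Module.Projective R (LinearMap.ker d) := by
  obtain ⟨r, hr, -⟩ := h.exists_retraction
  exact Module.Projective.of_split _ r hr

/-- Base change of the kernel inclusion of a regular map is injective. -/
theorem IsReg.lTensor_subtype_injective (h : IsReg d) (P : Type*) [AddCommGroup P] [Module R P] :
    Function.Injective (LinearMap.lTensor P (LinearMap.ker d).subtype) := by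
  obtain ⟨r, hr, -⟩ := h.exists_retraction
  have : LinearMap.lTensor P r ∘ₗ LinearMap.lTensor P (LinearMap.ker d).subtype = LinearMap.id := by
    rw [← LinearMap.lTensor_comp, hr, LinearMap.lTensor_id]
  exact Function.LeftInverse.injective (g := LinearMap.lTensor P r) (LinearMap.congr_fun this)

/-- The kernel of a regular map commutes with base change. -/
theorem IsReg.ker_lTensor (h : IsReg d) (P : Type*) [AddCommGroup P] [Module R P] :
    LinearMap.ker (LinearMap.lTensor P d) =
      LinearMap.range (LinearMap.lTensor P (LinearMap.ker d).subtype) := by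
  obtain ⟨r, -, s, hs⟩ := h.exists_retraction
  apply le_antisymm
  · intro x hx
    have h1 : LinearMap.lTensor P ((LinearMap.ker d).subtype ∘ₗ r + s ∘ₗ d) x = x := by
      rw [hs, LinearMap.lTensor_id]; rfl
    rw [LinearMap.lTensor_add, LinearMap.lTensor_comp, LinearMap.lTensor_comp] at h1
    simp only [LinearMap.add_apply, LinearMap.coe_comp, Function.comp_apply] at h1
    rw [LinearMap.mem_ker.mp hx, map_zero, add_zero] at h1
    exact ⟨_, h1⟩
  · rintro _ ⟨y, rfl⟩
    rw [LinearMap.mem_ker, ← LinearMap.comp_apply, ← LinearMap.lTensor_comp]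
    have : d ∘ₗ (LinearMap.ker d).subtype = 0 := by
      ext x; exact x.2
    rw [this, LinearMap.lTensor_zero]; rfl

end Ker

section Inj

variable {d : M →ₗ[R] N} {K : Type*} [AddCommGroup K] [Module R K] (ι : K →ₗ[R] M)

/-- Version of `IsReg.exists_retraction` for an arbitrary model `ι : K → M` of the kernel. -/
theorem IsReg.exists_retraction' (h : IsReg d) (hι : Function.Injective ι)
    (hr : LinearMap.range ι = LinearMap.ker d) :
    ∃ r : M →ₗ[R] K, r ∘ₗ ι = LinearMap.id ∧ ∃ s : N →ₗ[R] M, ι ∘ₗ r + s ∘ₗ d = LinearMap.id := by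
  obtain ⟨r, hr1, s, hs⟩ := h.exists_retraction
  let e : K ≃ₗ[R] LinearMap.ker d :=
    (LinearEquiv.ofInjective ι hι).trans (LinearEquiv.ofEq _ _ hr)
  have he : ∀ k, ((e k : LinearMap.ker d) : M) = ι k := fun k => rfl
  refine ⟨e.symm.toLinearMap ∘ₗ r, ?_, s, ?_⟩
  · ext k
    have h1 : r (ι k) = e k := by
      have := LinearMap.congr_fun hr1 (e k)
      simpa [he] using this
    simp [h1]
  · rw [← hs]
    congr 1
    ext m
    have := he (e.symm (r m))
    rw [LinearEquiv.apply_symm_apply] at this
    simp only [LinearMap.coe_comp, LinearEquiv.coe_coe, Function.comp_apply, Submodule.coe_subtype]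
    exact this.symm

theorem IsReg.finite_of_range_eq_ker [Module.Finite R M] (h : IsReg d) (hι : Function.Injective ι)
    (hr : LinearMap.range ι = LinearMap.ker d) : Module.Finite R K := by
  obtain ⟨r, hr1, -⟩ := h.exists_retraction' ι hι hr
  exact Module.Finite.of_surjective r fun k => ⟨ι k, LinearMap.congr_fun hr1 k⟩

theorem IsReg.projective_of_range_eq_ker [Module.Projective R M] (h : IsReg d)
    (hι : Function.Injective ι) (hr : LinearMap.range ι = LinearMap.ker d) :
    Module.Projective R K := by
  obtain ⟨r, hr1, -⟩ := h.exists_retraction' ι hι hr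
  exact Module.Projective.of_split _ r hr1

theorem IsReg.lTensor_injective' (h : IsReg d) (hι : Function.Injective ι)
    (hr : LinearMap.range ι = LinearMap.ker d) (P : Type*) [AddCommGroup P] [Module R P] :
    Function.Injective (LinearMap.lTensor P ι) := by
  obtain ⟨r, hr1, -⟩ := h.exists_retraction' ι hι hr
  have : LinearMap.lTensor P r ∘ₗ LinearMap.lTensor P ι = LinearMap.id := by
    rw [← LinearMap.lTensor_comp, hr1, LinearMap.lTensor_id]
  exact Function.LeftInverse.injective (g := LinearMap.lTensor P r) (LinearMap.congr_fun this)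

theorem IsReg.ker_lTensor' (h : IsReg d) (hι : Function.Injective ι)
    (hr : LinearMap.range ι = LinearMap.ker d) (P : Type*) [AddCommGroup P] [Module R P] :
    LinearMap.ker (LinearMap.lTensor P d) = LinearMap.range (LinearMap.lTensor P ι) := by
  obtain ⟨r, -, s, hs⟩ := h.exists_retraction' ι hι hr
  apply le_antisymm
  · intro x hx
    have h1 : LinearMap.lTensor P (ι ∘ₗ r + s ∘ₗ d) x = x := by
      rw [hs, LinearMap.lTensor_id]; rfl
    rw [LinearMap.lTensor_add, LinearMap.lTensor_comp, LinearMap.lTensor_comp] at h1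
    simp only [LinearMap.add_apply, LinearMap.coe_comp, Function.comp_apply] at h1
    rw [LinearMap.mem_ker.mp hx, map_zero, add_zero] at h1
    exact ⟨_, h1⟩
  · rintro _ ⟨y, rfl⟩
    rw [LinearMap.mem_ker, ← LinearMap.comp_apply, ← LinearMap.lTensor_comp]
    have : d ∘ₗ ι = 0 := by
      ext x
      have : ι x ∈ LinearMap.ker d := hr ▸ LinearMap.mem_range_self ι x
      exact this
    rw [this, LinearMap.lTensor_zero]; rfl

end Inj

end Groth.Agent.Lib.Seat2.Reg
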