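import Mathlib
import Groth.Agent.Lib.Seat2Reg

/-!
# The coboundary map of a finite (multi)graph is regular

For maps `α β : J → I` the map `(I → R) → (J → R)`, `h ↦ h ∘ α - h ∘ β` admits a generalized
inverse.  We also identify its kernel with functions constant on the classes of the equivalence
relation generated by `α j ∼ β j`.
-/

universe u

open Groth.Agent.Lib.Seat2.Reg

namespace Groth.Agent.Lib.Seat2.Graph

variable (R : Type*) [CommRing R] {I J : Type*}

/-- The coboundary map. -/
noncomputable def cob (α β : J → I) : (I → R) →ₗ[R] (J → R) :=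
  LinearMap.funLeft R R α - LinearMap.funLeft R R β

@[simp] theorem cob_apply (α β : J → I) (h : I → R) (j : J) :
    cob R α β h j = h (α j) - h (β j) := rfl

/-- The relation `α j ∼ β j`. -/
def rel (α β : J → I) (i i' : I) : Prop := ∃ j, α j = i ∧ β j = i'

variable {R}

theorem eq_of_eqvGen {α β : J → I} {h : I → R} (hh : cob R α β h = 0) {a b : I}
    (hab : Relation.EqvGen (rel α β) a b) : h a = h b := by
  induction hab with
  | rel x y hxy =>
    obtain ⟨j, rfl, rfl⟩ := hxy
    have := congrFun hh j
    simpa [sub_eq_zero] using this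
  | refl x => rfl
  | symm x y _ ih => exact ih.symm
  | trans x y z _ _ ih1 ih2 => exact ih1.trans ih2

theorem mem_ker_cob_iff {α β : J → I} {h : I → R} :
    cob R α β h = 0 ↔ ∀ a b, Relation.EqvGen (rel α β) a b → h a = h b := by
  refine ⟨fun hh a b hab => eq_of_eqvGen hh hab, fun H => ?_⟩
  ext j
  simp only [cob_apply, Pi.zero_apply, sub_eq_zero]
  exact H _ _ (Relation.EqvGen.rel _ _ ⟨j, rfl, rfl⟩)

open Classical in
/-- The indicator function of the class of `a`. -/
noncomputable def ind (α β : J → I) (a : I) : I → R :=
  fun i => if Relation.EqvGen (rel α β) a i then 1 else 0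

theorem cob_ind (α β : J → I) (a : I) : cob R α β (ind (R := R) α β a) = 0 := by
  classical
  rw [mem_ker_cob_iff]
  intro x y hxy
  unfold ind
  have : Relation.EqvGen (rel α β) a x ↔ Relation.EqvGen (rel α β) a y :=
    ⟨fun h => h.trans _ _ _ hxy, fun h => h.trans _ _ _ (hxy.symm _ _)⟩
  simp only [this]

variable (R)

theorem isReg_cob_option (α β : Option J → I)
    (h : IsReg (cob R (α ∘ some) (β ∘ some))) : IsReg (cob R α β) := by
  classical
  obtain ⟨s, hs⟩ := h
  set δ := cob R (α ∘ some) (β ∘ some) with hδ
  set a := α none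
  set b := β none
  let ℓ : (I → R) →ₗ[R] R :=
    (LinearMap.proj a : (I → R) →ₗ[R] R) - (LinearMap.proj b : (I → R) →ₗ[R] R)
  have hsome : ∀ (h : I → R) (j : J), cob R α β h (some j) = δ h j := fun h j => rfl
  have hnone : ∀ h : I → R, cob R α β h none = ℓ h := fun h => rfl
  have hsδ : ∀ h : I → R, δ (s (δ h)) = δ h := fun h => LinearMap.congr_fun hs h
  by_cases hab : Relation.EqvGen (rel (α ∘ some) (β ∘ some)) a b
  · refine ⟨s ∘ₗ LinearMap.funLeft R R some, ?_⟩
    ext h j
    cases j with
    | some j =>
      simp only [LinearMap.coe_comp, Function.comp_apply, hsome]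
      have : LinearMap.funLeft R R some (cob R α β h) = δ h := by
        ext j; rfl
      rw [this, hsδ]
    | none =>
      simp only [LinearMap.coe_comp, Function.comp_apply, hnone]
      have h1 : LinearMap.funLeft R R some (cob R α β h) = δ h := by
        ext j; rfl
      rw [h1]
      have h2 : δ (h - s (δ h)) = 0 := by rw [map_sub, hsδ, sub_self]
      have h3 := eq_of_eqvGen h2 hab
      simp only [Pi.sub_apply] at h3
      simp only [ℓ, LinearMap.sub_apply, LinearMap.proj_apply]
      linear_combination -h3
  · let χ : I → R := ind (R := R) (α ∘ some) (β ∘ some) a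
    have hχ : δ χ = 0 := cob_ind _ _ _
    have hχℓ : ℓ χ = 1 := by
      simp only [ℓ, LinearMap.sub_apply, LinearMap.proj_apply, χ, ind]
      rw [if_pos (Relation.EqvGen.refl _), if_neg hab, sub_zero]
    let c : (Option J → R) →ₗ[R] R :=
      LinearMap.proj none - ℓ ∘ₗ s ∘ₗ LinearMap.funLeft R R some
    refine ⟨s ∘ₗ LinearMap.funLeft R R some + c.smulRight χ, ?_⟩
    have key : ∀ t : Option J → R,
        cob R α β ((s ∘ₗ LinearMap.funLeft R R some + c.smulRight χ) t) =
          fun j' => match j' with
            | some j => δ (s (LinearMap.funLeft R R some t)) j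
            | none => t none := by
      intro t
      ext j'
      cases j' with
      | some j =>
        simp only [hsome, LinearMap.add_apply, LinearMap.coe_comp, Function.comp_apply,
          LinearMap.smulRight_apply, map_add, map_smul, hχ, smul_zero, add_zero]
      | none =>
        simp only [hnone, LinearMap.add_apply, LinearMap.coe_comp, Function.comp_apply,
          LinearMap.smulRight_apply, map_add, map_smul, hχℓ, smul_eq_mul, mul_one, c,
          LinearMap.sub_apply, LinearMap.proj_apply]
        ring
    ext h j'
    simp only [LinearMap.coe_comp, Function.comp_apply]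
    rw [key]
    cases j' with
    | some j =>
      have h1 : LinearMap.funLeft R R some (cob R α β h) = δ h := by
        ext j; rfl
      simp only [h1, hsδ, hsome]
    | none => rfl

theorem isReg_cob_of_equiv {J' : Type*} (e : J' ≃ J) (α β : J → I)
    (h : IsReg (cob R (α ∘ e) (β ∘ e))) : IsReg (cob R α β) := by
  have := h.conj (LinearEquiv.refl R (I → R)) (LinearEquiv.funCongrLeft R R e.symm)
  convert this using 1
  ext h j
  simp [LinearEquiv.funCongrLeft, cob]

theorem isReg_cob [Finite J] (α β : J → I) : IsReg (cob R α β) := by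
  revert α β
  refine Finite.induction_empty_option (P := fun J => ∀ α β : J → I, IsReg (cob R α β))
    ?_ ?_ ?_ J
  · intro J₁ J₂ e h α β
    exact isReg_cob_of_equiv R e α β (h _ _)
  · intro α β
    refine ⟨0, ?_⟩
    ext h j
    exact j.elim
  · intro J₁ _ h α β
    exact isReg_cob_option R α β (h _ _)

end Groth.Agent.Lib.Seat2.Graph
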