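import Mathlib

/-!
# Algebra maps between function algebras over a local ring

Over a local ring `R` every `R`-algebra homomorphism `(I → R) → (J → R)` (`I` finite) is
precomposition with a map `J → I`.
-/

universe u

namespace Groth.Agent.Lib.Seat2.LocalSet

variable {R : Type*} [CommRing R] [IsLocalRing R]

theorem eq_zero_or_one_of_isIdempotentElem {e : R} (he : IsIdempotentElem e) : e = 0 ∨ e = 1 := by
  have h : e * (1 - e) = 0 := by
    rw [mul_sub, mul_one, he.eq, sub_self]
  rcases IsLocalRing.isUnit_or_isUnit_one_sub_self e with hu | hu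
  · right
    have := hu.mul_right_eq_zero.mp h
    exact (sub_eq_zero.mp this).symm
  · left
    rw [mul_comm] at h
    exact hu.mul_right_eq_zero.mp h

theorem exists_eval_eq {I : Type*} [Finite I] (χ : (I → R) →ₐ[R] R) :
    ∃ i : I, ∀ h : I → R, χ h = h i := by
  classical
  cases nonempty_fintype I
  let ε : I → R := fun i => χ (Pi.single i 1)
  have hsum : ∑ i, ε i = 1 := by
    simp only [ε, ← map_sum]
    have h1 : (∑ x : I, Pi.single x (1 : R)) = (1 : I → R) := by
      ext k
      simp [Finset.sum_apply, Pi.single_apply]
    rw [h1, map_one]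
  have hidem : ∀ i, IsIdempotentElem (ε i) := by
    intro i
    unfold IsIdempotentElem
    simp only [ε, ← map_mul, ← Pi.single_mul, mul_one]
  have horth : ∀ i i', i ≠ i' → ε i * ε i' = 0 := by
    intro i i' hne
    simp only [ε, ← map_mul]
    have h1 : (Pi.single i (1 : R) * Pi.single i' (1 : R) : I → R) = 0 := by
      ext k
      simp only [Pi.mul_apply, Pi.single_apply, Pi.zero_apply]
      split_ifs with h1 h2
      · exact absurd (h1.symm.trans h2) hne
      all_goals simp
    rw [h1, map_zero]
  have hex : ∃ i, ε i = 1 := by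
    by_contra hcon
    push Not at hcon
    have : ∀ i, ε i = 0 := fun i =>
      (eq_zero_or_one_of_isIdempotentElem (hidem i)).resolve_right (hcon i)
    simp only [this, Finset.sum_const_zero] at hsum
    exact zero_ne_one hsum
  obtain ⟨i, hi⟩ := hex
  have hothers : ∀ i', i' ≠ i → ε i' = 0 := by
    intro i' hne
    have := horth i' i hne
    rwa [hi, mul_one] at this
  refine ⟨i, fun h => ?_⟩
  have hh : h = ∑ i', h i' • Pi.single i' (1 : R) := by
    ext k
    simp [Finset.sum_apply, Pi.single_apply]
  conv_lhs => rw [hh]
  rw [map_sum]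
  simp only [map_smul, smul_eq_mul]
  rw [Finset.sum_eq_single i]
  · change h i * ε i = h i
    rw [hi, mul_one]
  · intro i' _ hne
    change h i' * ε i' = 0
    rw [hothers i' hne, mul_zero]
  · intro hni
    exact absurd (Finset.mem_univ i) hni

/-- Over a local ring, algebra maps between finite function algebras come from maps of sets. -/
theorem exists_funLeft {I J : Type*} [Finite I] (φ : (I → R) →ₐ[R] (J → R)) :
    ∃ α : J → I, ∀ (h : I → R) (j : J), φ h j = h (α j) := by
  have : ∀ j : J, ∃ i : I, ∀ h : I → R, ((Pi.evalAlgHom R (fun _ : J => R) j).comp φ) h = h i :=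
    fun j => exists_eval_eq _
  choose α hα using this
  exact ⟨α, fun h j => hα j h⟩

end Groth.Agent.Lib.Seat2.LocalSet
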