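import Mathlib
import Groth.Agent.Lib.Seat2Reg
import Groth.Agent.Lib.Seat2Graph
import Groth.Agent.Lib.Seat2LocalSet

/-!
# Equalizers of maps between split algebras over a local ring
-/

universe u

open Groth.Agent.Lib.Seat2.Reg Groth.Agent.Lib.Seat2.Graph Groth.Agent.Lib.Seat2.LocalSet

namespace Groth.Agent.Lib.Seat2.SplitCase

variable {R : Type*} [CommRing R] [IsLocalRing R] {S T : Type*} [CommRing S] [CommRing T]
  [Algebra R S] [Algebra R T]

/-- Data describing a pair of maps between split algebras by maps of finite sets. -/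
theorem exists_setModel [Algebra.IsFiniteSplit R S] [Algebra.IsFiniteSplit R T] (f g : S →ₐ[R] T) :
    ∃ (n m : ℕ) (eS : S ≃ₐ[R] (Fin n → R)) (eT : T ≃ₐ[R] (Fin m → R)) (α β : Fin m → Fin n),
      (∀ (x : S) (j : Fin m), eT (f x) j = eS x (α j)) ∧
      (∀ (x : S) (j : Fin m), eT (g x) j = eS x (β j)) := by
  obtain ⟨n, ⟨eS⟩⟩ := Algebra.IsFiniteSplit.nonempty_algEquiv_fun R S
  obtain ⟨m, ⟨eT⟩⟩ := Algebra.IsFiniteSplit.nonempty_algEquiv_fun R T
  obtain ⟨α, hα⟩ := exists_funLeft ((eT.toAlgHom.comp f).comp eS.symm.toAlgHom)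
  obtain ⟨β, hβ⟩ := exists_funLeft ((eT.toAlgHom.comp g).comp eS.symm.toAlgHom)
  refine ⟨n, m, eS, eT, α, β, fun x j => ?_, fun x j => ?_⟩
  · have := hα (eS x) j
    simpa using this
  · have := hβ (eS x) j
    simpa using this

theorem isReg_sub [Algebra.IsFiniteSplit R S] [Algebra.IsFiniteSplit R T] (f g : S →ₐ[R] T) :
    IsReg (f.toLinearMap - g.toLinearMap) := by
  obtain ⟨n, m, eS, eT, α, β, hα, hβ⟩ := exists_setModel f g
  have h := (isReg_cob R α β).conj eS.toLinearEquiv eT.symm.toLinearEquiv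
  convert h using 1
  ext x
  apply eT.injective
  ext j
  simp [hα, hβ, map_sub]

theorem isFiniteSplit_equalizer [Algebra.IsFiniteSplit R S] [Algebra.IsFiniteSplit R T]
    (f g : S →ₐ[R] T) : Algebra.IsFiniteSplit R (AlgHom.equalizer f g) := by
  obtain ⟨n, m, eS, eT, α, β, hα, hβ⟩ := exists_setModel f g
  let K := Quot (rel α β)
  -- precomposition with the quotient map
  let π : (K → R) →ₐ[R] (Fin n → R) :=
    AlgHom.pi (fun i => Pi.evalAlgHom R (fun _ : K => R) (Quot.mk _ i))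
  have hπ : ∀ (k : K → R) (i : Fin n), π k i = k (Quot.mk _ i) := fun k i => rfl
  let ψ₀ : (K → R) →ₐ[R] S := (eS.symm : (Fin n → R) →ₐ[R] S).comp π
  have hψ₀_eq : ∀ k, eS (ψ₀ k) = π k := fun k => eS.apply_symm_apply _
  have hψ₀ : ∀ k, ψ₀ k ∈ AlgHom.equalizer f g := by
    intro k
    rw [AlgHom.mem_equalizer]
    apply eT.injective
    ext j
    rw [hα, hβ, hψ₀_eq, hπ, hπ]
    congr 1
    exact Quot.sound (⟨j, rfl, rfl⟩ : rel α β (α j) (β j))
  let ψ : (K → R) →ₐ[R] AlgHom.equalizer f g := ψ₀.codRestrict _ hψ₀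
  have hinj : Function.Injective ψ := by
    intro k k' hkk'
    have h1 : ψ₀ k = ψ₀ k' := congrArg Subtype.val hkk'
    have h2 : π k = π k' := by rw [← hψ₀_eq, ← hψ₀_eq, h1]
    ext q
    obtain ⟨i, rfl⟩ := Quot.exists_rep q
    have := congrFun h2 i
    rwa [hπ, hπ] at this
  have hsurj : Function.Surjective ψ := by
    intro x
    have hx : f x.1 = g x.1 := x.2
    let h : Fin n → R := eS x.1
    have hh : ∀ a b, rel α β a b → h a = h b := by
      rintro _ _ ⟨j, rfl, rfl⟩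
      change eS x.1 (α j) = eS x.1 (β j)
      rw [← hα, ← hβ, hx]
    refine ⟨Quot.lift h hh, ?_⟩
    apply Subtype.ext
    change ψ₀ (Quot.lift h hh) = x.1
    apply eS.injective
    rw [hψ₀_eq]
    ext i
    rw [hπ]
  exact Algebra.IsFiniteSplit.of_algEquiv (AlgEquiv.ofBijective ψ ⟨hinj, hsurj⟩)

end Groth.Agent.Lib.Seat2.SplitCase
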