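import Mathlib
import Groth.Agent.Lib.Seat2Reg
import Groth.Agent.Lib.Seat2SplitCase
import Groth.Agent.Lib.Seat2LocalSplit

/-!
# Equalizers of finite etale algebras over a local ring
-/

universe u

open TensorProduct Groth.Agent.Lib.Seat2.Reg

namespace Groth.Agent.Lib.Seat2.EqLocal

section Module

variable {R : Type*} [CommRing R] (R' : Type*) [CommRing R'] [Algebra R R']
  {M N : Type*} [AddCommGroup M] [AddCommGroup N] [Module R M] [Module R N] (d : M →ₗ[R] N)

theorem ker_baseChange_mkQ :
    LinearMap.ker ((LinearMap.range d).mkQ.baseChange R') = LinearMap.range (d.baseChange R') := by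
  have hex : Function.Exact (LinearMap.lTensor R' d) (LinearMap.lTensor R' (LinearMap.range d).mkQ) :=
    lTensor_exact R' (LinearMap.exact_map_mkQ_range d) (Submodule.mkQ_surjective _)
  ext x
  rw [LinearMap.mem_ker, LinearMap.mem_range]
  have h1 : (LinearMap.range d).mkQ.baseChange R' x = LinearMap.lTensor R' (LinearMap.range d).mkQ x :=
    congrFun (LinearMap.baseChange_eq_ltensor (A := R') (f := (LinearMap.range d).mkQ)) x
  rw [h1, hex x]
  constructor
  · rintro ⟨y, hy⟩
    exact ⟨y, (congrFun (LinearMap.baseChange_eq_ltensor (A := R') (f := d)) y).trans hy⟩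
  · rintro ⟨y, hy⟩
    exact ⟨y, (congrFun (LinearMap.baseChange_eq_ltensor (A := R') (f := d)) y).symm.trans hy⟩

/-- The cokernel commutes with base change. -/
noncomputable def cokerBaseChange :
    ((R' ⊗[R] N) ⧸ LinearMap.range (d.baseChange R')) ≃ₗ[R'] R' ⊗[R] (N ⧸ LinearMap.range d) :=
  (Submodule.quotEquivOfEq _ _ (ker_baseChange_mkQ R' d).symm).trans
    (LinearMap.quotKerEquivOfSurjective ((LinearMap.range d).mkQ.baseChange R')
      (LinearMap.baseChange_surjective _ (Submodule.mkQ_surjective _)))

theorem flat_coker_of_isReg_baseChange [Module.FaithfullyFlat R R'] [Module.Projective R N]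
    (h : IsReg (d.baseChange R')) : Module.Flat R (N ⧸ LinearMap.range d) := by
  have h1 : Module.Projective R' ((R' ⊗[R] N) ⧸ LinearMap.range (d.baseChange R')) :=
    h.projective_quotient
  have h2 : Module.Flat R' (R' ⊗[R] (N ⧸ LinearMap.range d)) :=
    Module.Flat.of_linearEquiv (cokerBaseChange R' d).symm
  exact Module.Flat.of_flat_tensorProduct R _ R'

end Module

section Algebra

variable {R : Type*} [CommRing R] (R' : Type*) [CommRing R'] [Algebra R R']
  {S T : Type*} [CommRing S] [CommRing T] [Algebra R S] [Algebra R T] (f g : S →ₐ[R] T)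

theorem toLinearMap_map_id :
    (Algebra.TensorProduct.map (AlgHom.id R' R') f).toLinearMap = f.toLinearMap.baseChange R' := by
  ext x
  simp

theorem baseChange_sub :
    (f.toLinearMap - g.toLinearMap).baseChange R' =
      (Algebra.TensorProduct.map (AlgHom.id R' R') f).toLinearMap -
        (Algebra.TensorProduct.map (AlgHom.id R' R') g).toLinearMap := by
  rw [toLinearMap_map_id, toLinearMap_map_id]
  ext x
  simp

end Algebra

section Local

variable {A : Type u} [CommRing A] [IsLocalRing A] {S T : Type u} [CommRing S] [CommRing T]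
  [Algebra A S] [Algebra A T] [Module.Finite A S] [Algebra.Etale A S] [Module.Finite A T]
  [Algebra.Etale A T] (f g : S →ₐ[A] T)

theorem flat_coker_of_isLocalRing :
    Module.Flat A (T ⧸ LinearMap.range (f.toLinearMap - g.toLinearMap)) := by
  obtain ⟨R₂, _, _, _, _, hS, hT⟩ := Groth.Agent.Lib.Seat2.LocalSplit.exists_local_split A S T
  have : Module.FinitePresentation A T := Module.FinitePresentation.of_finite_of_finitePresentation A T
  have : Module.Projective A T := Module.Flat.projective_of_finitePresentation
  apply flat_coker_of_isReg_baseChange R₂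
  rw [baseChange_sub]
  exact Groth.Agent.Lib.Seat2.SplitCase.isReg_sub _ _

theorem formallyUnramified_equalizer_of_isLocalRing :
    Algebra.FormallyUnramified A (AlgHom.equalizer f g) := by
  obtain ⟨R₂, _, _, _, _, hS, hT⟩ := Groth.Agent.Lib.Seat2.LocalSplit.exists_local_split A S T
  have h1 : Algebra.IsFiniteSplit R₂ (AlgHom.equalizer
      (Algebra.TensorProduct.map (AlgHom.id R₂ R₂) f)
      (Algebra.TensorProduct.map (AlgHom.id R₂ R₂) g)) :=
    Groth.Agent.Lib.Seat2.SplitCase.isFiniteSplit_equalizer _ _
  have h2 : Algebra.FormallyUnramified R₂ (R₂ ⊗[A] AlgHom.equalizer f g) :=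
    Algebra.FormallyUnramified.of_equiv (AlgHom.tensorEqualizerEquiv R₂ R₂ f g).symm
  exact Algebra.FormallyUnramified.of_formallyUnramified_tensorProduct_of_faithfullyFlat R₂

end Local

end Groth.Agent.Lib.Seat2.EqLocal
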