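import Mathlib
import Groth.Agent.Lib.Seat2Reg
import Groth.Agent.Lib.Seat2EqLocal

/-!
# Equalizers of finite etale algebras: the general case

For finite etale `R`-algebras `S`, `T` and `f g : S →ₐ[R] T`:
* `f - g` is a regular linear map (`isReg_sub`);
* the equalizer is a finite etale `R`-algebra;
* the formation of the equalizer commutes with arbitrary base change.
-/

universe u

open TensorProduct Groth.Agent.Lib.Seat2.Reg Groth.Agent.Lib.Seat2.EqLocal

namespace Groth.Agent.Lib.Seat2.EqGlobal

variable {R : Type u} [CommRing R] {S T : Type u} [CommRing S] [CommRing T]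
  [Algebra R S] [Algebra R T] [Module.Finite R S] [Algebra.Etale R S] [Module.Finite R T]
  [Algebra.Etale R T] (f g : S →ₐ[R] T)

instance isLocalizedModule_mk (P : Ideal R) [P.IsPrime] (M : Type*) [AddCommGroup M] [Module R M] :
    IsLocalizedModule P.primeCompl (TensorProduct.mk R (Localization.AtPrime P) M 1) :=
  (isLocalizedModule_iff_isBaseChange P.primeCompl (Localization.AtPrime P) _).mpr
    (TensorProduct.isBaseChange R M _)

theorem flat_coker : Module.Flat R (T ⧸ LinearMap.range (f.toLinearMap - g.toLinearMap)) := by
  apply Module.flat_of_isLocalized_maximal R _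
    (fun P _ => Localization.AtPrime P ⊗[R] (T ⧸ LinearMap.range (f.toLinearMap - g.toLinearMap)))
    (fun P _ => TensorProduct.mk R (Localization.AtPrime P) _ 1)
  intro P _
  have h1 := flat_coker_of_isLocalRing (A := Localization.AtPrime P)
    (Algebra.TensorProduct.map (AlgHom.id (Localization.AtPrime P) (Localization.AtPrime P)) f)
    (Algebra.TensorProduct.map (AlgHom.id (Localization.AtPrime P) (Localization.AtPrime P)) g)
  rw [← baseChange_sub] at h1
  have h2 : Module.Flat (Localization.AtPrime P) (Localization.AtPrime P ⊗[R]
      (T ⧸ LinearMap.range (f.toLinearMap - g.toLinearMap))) :=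
    Module.Flat.of_linearEquiv (cokerBaseChange _ _).symm
  exact Module.Flat.trans R (Localization.AtPrime P) _

theorem isReg_sub : IsReg (f.toLinearMap - g.toLinearMap) := by
  have : Module.FinitePresentation R T := Module.FinitePresentation.of_finite_of_finitePresentation R T
  have : Module.Projective R T := Module.Flat.projective_of_finitePresentation
  have hfp : Module.FinitePresentation R (T ⧸ LinearMap.range (f.toLinearMap - g.toLinearMap)) := by
    refine Module.finitePresentation_of_surjective
      (LinearMap.range (f.toLinearMap - g.toLinearMap)).mkQ (Submodule.mkQ_surjective _) ?_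
    rw [Submodule.ker_mkQ, LinearMap.range_eq_map]
    exact Submodule.FG.map _ Module.Finite.fg_top
  have := flat_coker f g
  have : Module.Projective R (T ⧸ LinearMap.range (f.toLinearMap - g.toLinearMap)) :=
    Module.Flat.projective_of_finitePresentation
  exact IsReg.of_projective_quotient this

/-- The inclusion of the equalizer, as a linear map. -/
noncomputable abbrev eqι : AlgHom.equalizer f g →ₗ[R] S := (AlgHom.equalizer f g).val.toLinearMap

omit [Module.Finite R S] [Algebra.Etale R S] [Module.Finite R T] [Algebra.Etale R T] in
theorem eqι_injective : Function.Injective (eqι f g) := Subtype.val_injective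

omit [Module.Finite R S] [Algebra.Etale R S] [Module.Finite R T] [Algebra.Etale R T] in
theorem range_eqι : LinearMap.range (eqι f g) = LinearMap.ker (f.toLinearMap - g.toLinearMap) := by
  ext x
  simp only [LinearMap.mem_range, LinearMap.mem_ker, LinearMap.sub_apply, AlgHom.toLinearMap_apply,
    sub_eq_zero]
  constructor
  · rintro ⟨y, rfl⟩
    exact y.2
  · intro hx
    exact ⟨⟨x, hx⟩, rfl⟩

theorem finite_equalizer : Module.Finite R (AlgHom.equalizer f g) :=
  (isReg_sub f g).finite_of_range_eq_ker (eqι f g) (eqι_injective f g) (range_eqι f g)

theorem projective_equalizer : Module.Projective R (AlgHom.equalizer f g) := by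
  have : Module.FinitePresentation R S := Module.FinitePresentation.of_finite_of_finitePresentation R S
  have : Module.Projective R S := Module.Flat.projective_of_finitePresentation
  exact (isReg_sub f g).projective_of_range_eq_ker (eqι f g) (eqι_injective f g) (range_eqι f g)

theorem formallyUnramified_equalizer : Algebra.FormallyUnramified R (AlgHom.equalizer f g) := by
  constructor
  apply Module.subsingleton_of_localization_maximal
    (fun P _ => Localization.AtPrime P ⊗[R] Ω[AlgHom.equalizer f g⁄R])
    (fun P _ => TensorProduct.mk R (Localization.AtPrime P) _ 1)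
  intro P _
  have h1 := formallyUnramified_equalizer_of_isLocalRing (A := Localization.AtPrime P)
    (Algebra.TensorProduct.map (AlgHom.id (Localization.AtPrime P) (Localization.AtPrime P)) f)
    (Algebra.TensorProduct.map (AlgHom.id (Localization.AtPrime P) (Localization.AtPrime P)) g)
  have h2 : Algebra.FormallyUnramified (Localization.AtPrime P)
      (Localization.AtPrime P ⊗[R] AlgHom.equalizer f g) :=
    Algebra.FormallyUnramified.of_equiv
      (AlgHom.tensorEqualizerEquiv (Localization.AtPrime P) (Localization.AtPrime P) f g).symm
  let _ : Algebra (AlgHom.equalizer f g) (Localization.AtPrime P ⊗[R] AlgHom.equalizer f g) :=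
    Algebra.TensorProduct.rightAlgebra
  exact (KaehlerDifferential.tensorKaehlerEquivBase R (Localization.AtPrime P)
    (AlgHom.equalizer f g) (Localization.AtPrime P ⊗[R] AlgHom.equalizer f g)).subsingleton

theorem etale_equalizer : Algebra.Etale R (AlgHom.equalizer f g) := by
  have := finite_equalizer f g
  have := projective_equalizer f g
  have : Module.FinitePresentation R (AlgHom.equalizer f g) :=
    Module.finitePresentation_of_projective R _
  have := formallyUnramified_equalizer f g
  exact Algebra.Etale.of_formallyUnramified_of_flat

/-- The equalizer commutes with arbitrary base change. -/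
theorem tensorEqualizer_bijective (R' : Type u) [CommRing R'] [Algebra R R'] :
    Function.Bijective (AlgHom.tensorEqualizer R R' f g) := by
  have hreg := isReg_sub f g
  have hcoe : ∀ x : R' ⊗[R] AlgHom.equalizer f g,
      ((AlgHom.tensorEqualizer R R' f g x : R' ⊗[R] S)) = LinearMap.lTensor R' (eqι f g) x := by
    intro x
    rw [AlgHom.coe_tensorEqualizer]
    induction x with
    | zero => simp
    | tmul a b => rfl
    | add x y hx hy => rw [map_add, map_add, hx, hy]
  constructor
  · intro x y hxy
    apply hreg.lTensor_injective' (eqι f g) (eqι_injective f g) (range_eqι f g) R'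
    rw [← hcoe, ← hcoe, hxy]
  · intro y
    have hy : (Algebra.TensorProduct.map (AlgHom.id R R') f) y.1 =
        (Algebra.TensorProduct.map (AlgHom.id R R') g) y.1 := y.2
    have hmem : y.1 ∈ LinearMap.ker (LinearMap.lTensor R' (f.toLinearMap - g.toLinearMap)) := by
      rw [LinearMap.mem_ker, LinearMap.lTensor_sub, LinearMap.sub_apply, sub_eq_zero]
      have e1 : ∀ (h : S →ₐ[R] T) (z : R' ⊗[R] S),
          LinearMap.lTensor R' h.toLinearMap z = Algebra.TensorProduct.map (AlgHom.id R R') h z := by
        intro h z
        induction z with
        | zero => simp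
        | tmul a b => rfl
        | add x y hx hy => rw [map_add, map_add, hx, hy]
      rw [e1, e1, hy]
    rw [hreg.ker_lTensor' (eqι f g) (eqι_injective f g) (range_eqι f g) R'] at hmem
    obtain ⟨x, hx⟩ := hmem
    refine ⟨x, Subtype.ext ?_⟩
    rw [hcoe, hx]

end Groth.Agent.Lib.Seat2.EqGlobal
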