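import Mathlib
import Groth.Prelude.Def_FEt
import Groth.Agent.Lib.Seat2AffDict
import Groth.Agent.Lib.Seat2EqGlobal

/-!
# Finite étale objects among affine schemes over an affine base

* `fetObj U` : the finite étale objects of `Aff U`;
* for `U` affine, `fetObj U` is closed under coequalizers in `Aff U`;
* base change along any morphism of affine schemes preserves coequalizers of finite étale objects.
-/

namespace Groth.Agent.Lib.Seat2.AffFEt

open CategoryTheory Limits AlgebraicGeometry Opposite Groth.Agent.Lib.Seat2.AffDict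

universe u

/-- finite étale ring homomorphisms -/
def Qfet : ∀ {R S : Type u} [CommRing R] [CommRing S], (R →+* S) → Prop :=
  fun f => f.Finite ∧ f.Etale

lemma Qfet_respectsIso : RingHom.RespectsIso Qfet.{u} :=
  RingHom.finite_respectsIso.and RingHom.Etale.respectsIso

lemma Qfet_hasEqualizers : RingHom.HasEqualizers Qfet.{u} := by
  intro R S T _ _ _ _ _ f g hS hT
  have : Module.Finite R S := RingHom.finite_algebraMap.mp hS.1
  have : Module.Finite R T := RingHom.finite_algebraMap.mp hT.1
  have : Algebra.Etale R S := RingHom.etale_algebraMap.mp hS.2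
  have : Algebra.Etale R T := RingHom.etale_algebraMap.mp hT.2
  exact ⟨RingHom.finite_algebraMap.mpr (EqGlobal.finite_equalizer f g),
    RingHom.etale_algebraMap.mpr (EqGlobal.etale_equalizer f g)⟩

lemma Qfet_hasStableEqualizers : RingHom.HasStableEqualizers Qfet.{u} := by
  intro R S A B _ _ _ _ _ _ _ f g hA hB
  have : Module.Finite R A := RingHom.finite_algebraMap.mp hA.1
  have : Module.Finite R B := RingHom.finite_algebraMap.mp hB.1
  have : Algebra.Etale R A := RingHom.etale_algebraMap.mp hA.2
  have : Algebra.Etale R B := RingHom.etale_algebraMap.mp hB.2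
  exact EqGlobal.tensorEqualizer_bijective f g S

/-- finite étale objects of `Aff U`. -/
def fetObj (U : Scheme.{u}) : ObjectProperty (Aff U) := fun Y => FEt.prop Y.hom

lemma fet_iff_of_isAffine {X Y : Scheme.{u}} [IsAffine X] [IsAffine Y] (f : X ⟶ Y) :
    FEt.prop f ↔ Qfet f.appTop.hom := by
  change (IsFinite f ∧ Etale f) ↔ _
  rw [HasAffineProperty.iff_of_isAffine (P := @IsFinite),
    HasRingHomProperty.iff_of_isAffine (P := @Etale)]
  exact ⟨fun h => ⟨h.1.2, h.2⟩, fun h => ⟨⟨inferInstance, h.1⟩, h.2⟩⟩

lemma fetObj_iff (U : Scheme.{u}) [IsAffine U] (Y : Aff U) :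
    fetObj U Y ↔ Qfet Y.hom.appTop.hom := by
  have : IsAffine Y.left := isAffine_left U Y
  exact fet_iff_of_isAffine (X := Y.left) (Y := U) Y.hom

lemma fetObj_eq (U : Scheme.{u}) [IsAffine U] :
    fetObj U = ((RingHom.toMorphismProperty Qfet.{u}).underObj (X := Γ(U, ⊤))).op.inverseImage
      (gamma U) := by
  ext Y
  rw [fetObj_iff]
  rfl

instance isClosedUnderColimitsOfShape_fetObj (U : Scheme.{u}) [IsAffine U] :
    (fetObj U).IsClosedUnderColimitsOfShape WalkingParallelPair := by
  have h1 : ((RingHom.toMorphismProperty Qfet.{u}).underObj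
      (X := Γ(U, ⊤))).IsClosedUnderLimitsOfShape WalkingParallelPair :=
    Qfet_hasEqualizers.isClosedUnderLimitsOfShape Qfet_respectsIso _
  have h3 : ((RingHom.toMorphismProperty Qfet.{u}).underObj
      (X := Γ(U, ⊤))).op.IsClosedUnderColimitsOfShape WalkingParallelPair :=
    .of_equivalence walkingParallelPairOpEquiv.symm
  rw [fetObj_eq]
  infer_instance

lemma preservesLimit_of_shape_equivalence {J J' C D : Type*} [Category J] [Category J']
    [Category C] [Category D] (e : J ≌ J') (K : J' ⥤ C) (F : C ⥤ D)
    [PreservesLimit (e.functor ⋙ K) F] : PreservesLimit K F where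
  preserves {c} hc := by
    have h1 : IsLimit (c.whisker e.functor) := IsLimit.whiskerEquivalence hc e
    have h2 : IsLimit (F.mapCone (c.whisker e.functor)) := isLimitOfPreserves F h1
    exact ⟨IsLimit.ofWhiskerEquivalence e h2⟩

lemma preservesLimit_pushout_of_fet {R S : CommRingCat.{u}} (f : R ⟶ S)
    (K : WalkingParallelPair ⥤ Under R) (hK : ∀ j, Qfet (K.obj j).hom.hom) :
    PreservesLimit K (Under.pushout f) := by
  algebraize [f.hom]
  rw [← CommRingCat.ofHom_hom f,
    ← preservesLimit_iff_of_natIso _ (CommRingCat.tensorProdIsoPushout R S)]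
  have := Qfet_hasStableEqualizers.preservesLimit_parallelPair_tensorProd (S := S)
    (K.map .left) (K.map .right) (hK _) (hK _)
  exact preservesLimit_of_iso_diagram _ (diagramIsoParallelPair K).symm

lemma preservesLimit_pushout_of_fet' {R S : CommRingCat.{u}} (f : R ⟶ S)
    (K : WalkingParallelPairᵒᵖ ⥤ Under R) (hK : ∀ j, Qfet (K.obj j).hom.hom) :
    PreservesLimit K (Under.pushout f) := by
  have := preservesLimit_pushout_of_fet f (walkingParallelPairOpEquiv.functor ⋙ K)
    (fun j => hK _)
  exact preservesLimit_of_shape_equivalence walkingParallelPairOpEquiv K _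

/-- Base change along an arbitrary morphism of affine schemes preserves coequalizers of
finite étale objects (in the category of affine schemes over the base). -/
lemma preservesColimit_pullback_of_fet {U V : Scheme.{u}} [IsAffine U] [IsAffine V] (ρ : V ⟶ U)
    (E : WalkingParallelPair ⥤ Aff U) (hE : ∀ j, fetObj U (E.obj j)) :
    PreservesColimit E (MorphismProperty.Over.pullback affProp ⊤ ρ) := by
  have h1 : PreservesLimit (E ⋙ gamma U).leftOp (Under.pushout ρ.appTop) :=
    preservesLimit_pushout_of_fet' _ _ (fun j => (fetObj_iff U _).mp (hE _))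
  have h2 : PreservesColimit (E ⋙ gamma U) (Under.pushout ρ.appTop).op :=
    preservesColimit_op _ _
  have h3 : PreservesColimit E (gamma U ⋙ (Under.pushout ρ.appTop).op) :=
    inferInstance
  have h4 : PreservesColimit E (MorphismProperty.Over.pullback affProp ⊤ ρ ⋙ gamma V) :=
    preservesColimit_of_natIso _ (pullbackGammaIso ρ).symm
  exact preservesColimit_of_reflects_of_preserves _ (gamma V)

end Groth.Agent.Lib.Seat2.AffFEt
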