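import Mathlib
import Groth.Prelude.Def_FEt
import Groth.Agent.Lib.Seat2AffDict
import Groth.Agent.Lib.Seat2AffFEt

/-!
# Finite coproducts of affine schemes over an affine base

Base change along a morphism of affine schemes preserves finite coproducts in `Aff`, and finite
étale objects are closed under finite coproducts.
-/

namespace Groth.Agent.Lib.Seat2.AffCoprod

open CategoryTheory Limits AlgebraicGeometry Opposite Groth.Agent.Lib.Seat2.AffDict
  Groth.Agent.Lib.Seat2.AffFEt

universe u


lemma preservesColimitsOfShape_discrete_pullback {U V : Scheme.{u}} [IsAffine U] [IsAffine V]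
    (ρ : V ⟶ U) (ι : Type) [Finite ι] :
    PreservesColimitsOfShape (Discrete ι) (MorphismProperty.Over.pullback affProp ⊤ ρ) := by
  have h1 : PreservesLimitsOfShape (Discrete ι)ᵒᵖ (Under.pushout ρ.appTop) := by
    have : PreservesLimitsOfShape (Discrete ι) (Under.pushout ρ.appTop) := inferInstance
    exact preservesLimitsOfShape_of_equiv (Discrete.opposite ι).symm _
  have h2 : PreservesColimitsOfShape (Discrete ι) (Under.pushout ρ.appTop).op :=
    preservesColimitsOfShape_op _ _
  have h3 : PreservesColimitsOfShape (Discrete ι) (gamma U ⋙ (Under.pushout ρ.appTop).op) :=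
    inferInstance
  have h4 : PreservesColimitsOfShape (Discrete ι)
      (MorphismProperty.Over.pullback affProp ⊤ ρ ⋙ gamma V) :=
    preservesColimitsOfShape_of_natIso (pullbackGammaIso ρ).symm
  exact preservesColimitsOfShape_of_reflects_of_preserves _ (gamma V)

lemma Qfet_hasFiniteProducts : RingHom.HasFiniteProducts Qfet.{u} := by
  intro R _ ι _ S _ _ hS
  have : ∀ i, Module.Finite R (S i) := fun i => RingHom.finite_algebraMap.mp (hS i).1
  have : ∀ i, Algebra.Etale R (S i) := fun i => RingHom.etale_algebraMap.mp (hS i).2
  exact ⟨RingHom.finite_algebraMap.mpr inferInstance, RingHom.etale_algebraMap.mpr inferInstance⟩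

instance isClosedUnderColimitsOfShape_discrete_fetObj (U : Scheme.{u}) [IsAffine U]
    (ι : Type) [Finite ι] : (fetObj U).IsClosedUnderColimitsOfShape (Discrete ι) := by
  have h0 : ((RingHom.toMorphismProperty Qfet.{u}).underObj
      (X := Γ(U, ⊤))).IsClosedUnderFiniteProducts :=
    Qfet_hasFiniteProducts.isClosedUnderLimitsOfShape Qfet_respectsIso _
  have h1 : ((RingHom.toMorphismProperty Qfet.{u}).underObj
      (X := Γ(U, ⊤))).IsClosedUnderLimitsOfShape (Discrete ι) := inferInstance
  have h3 : ((RingHom.toMorphismProperty Qfet.{u}).underObj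
      (X := Γ(U, ⊤))).op.IsClosedUnderColimitsOfShape (Discrete ι) :=
    .of_equivalence (Discrete.opposite ι)
  rw [fetObj_eq]
  infer_instance

end Groth.Agent.Lib.Seat2.AffCoprod
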