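import Mathlib
import Groth.Prelude.Def_FEt
import Groth.Agent.Lib.Seat2AffDict
import Groth.Agent.Lib.Seat2AffFEt

/-!
# Gluing colimits of affine schemes over a base

* `Aff X` has finite colimits (glued from the affine opens of `X`);
* restriction to an affine open preserves them;
* finite étale objects are closed under a shape of colimits if this holds over affine bases;
* base change along an arbitrary morphism preserves colimits of finite étale objects if this holds
  for morphisms of affine schemes.
-/

namespace Groth.Agent.Lib.Seat2.AffGlue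

open CategoryTheory Limits AlgebraicGeometry Opposite Groth.Agent.Lib.Seat2.AffDict
  Groth.Agent.Lib.Seat2.AffFEt

universe u

variable (X : Scheme.{u})

/-- the directed cover of `X` by all its affine opens -/
noncomputable abbrev cov : X.OpenCover := Scheme.AffineZariskiSite.directedCover X

instance (i : (cov X).I₀) : IsAffine ((cov X).X i) := i.2

example : Quiver.IsThin (cov X).I₀ := inferInstance
example : Small.{u} (cov X).I₀ := inferInstance
example : IsZariskiLocalAtTarget affProp.{u} := inferInstance

lemma affProp_trans {i j : (cov X).I₀} (hij : i ⟶ j) : affProp ((cov X).trans hij) := by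
  change IsAffineHom _
  infer_instance

instance {i j : (cov X).I₀} (hij : i ⟶ j) : IsOpenImmersion ((cov X).trans hij) := by
  infer_instance

instance {i j : (cov X).I₀} (hij : i ⟶ j) :
    PreservesFiniteColimits (MorphismProperty.Over.pullback affProp ⊤ ((cov X).trans hij)) :=
  preservesFiniteColimits_pullback_of_flat _

instance hasFiniteColimits_aff' : HasFiniteColimits (Aff X) :=
  ⟨fun _ _ _ => ⟨fun D => Scheme.Cover.hasColimit_of_locallyDirected D (cov X) (affProp_trans X)⟩⟩

variable {X}

section

variable {J : Type} [SmallCategory J] [FinCategory J] (D : J ⥤ Aff X)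

/-- the colimit gluing datum of a finite diagram -/
noncomputable def gluingData : Scheme.Cover.ColimitGluingData D (cov X) where
  cocone _ := colimit.cocone _
  isColimit _ := colimit.isColimit _
  prop_trans := affProp_trans X

lemma pullback_map_gluedCocone_ι (i : (cov X).I₀) (a : J) :
    (MorphismProperty.Over.pullback affProp ⊤ ((cov X).f i)).map
      ((gluingData D).gluedCocone.ι.app a) ≫ ((gluingData D).pullbackGluedIso i).hom =
      ((gluingData D).cocone i).ι.app a := by
  rw [← Iso.eq_comp_inv]
  ext
  apply pullback.hom_ext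
  · refine (pullback.lift_fst _ _ _).trans ?_
    have h1 := (gluingData D).fst_gluedCocone_ι a i
    have h2 := (gluingData D).pullbackGluedIso_inv_fst i
    refine h1.trans ?_
    refine Eq.trans ?_ (Category.assoc _ _ _).symm
    exact congrArg (_ ≫ ·) h2.symm
  · refine (pullback.lift_snd _ _ _).trans ?_
    have h2 := (gluingData D).pullbackGluedIso_inv_snd i
    have h3 := MorphismProperty.Over.w (((gluingData D).cocone i).ι.app a)
    refine h3.symm.trans ?_
    refine Eq.trans ?_ (Category.assoc _ _ _).symm
    exact congrArg (_ ≫ ·) h2.symm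

/-- the pullback of the glued cocone to a member of the cover is the chosen local colimit. -/
noncomputable def pullbackGluedCoconeIso (i : (cov X).I₀) :
    (MorphismProperty.Over.pullback affProp ⊤ ((cov X).f i)).mapCocone (gluingData D).gluedCocone ≅
      (gluingData D).cocone i :=
  Cocone.ext ((gluingData D).pullbackGluedIso i) (fun a => pullback_map_gluedCocone_ι D i a)

instance preservesColimit_pullback_cov (i : (cov X).I₀) :
    PreservesColimit D (MorphismProperty.Over.pullback affProp ⊤ ((cov X).f i)) :=
  preservesColimit_of_preserves_colimit_cocone (gluingData D).isColimitGluedCocone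
    (IsColimit.ofIsoColimit ((gluingData D).isColimit i) (pullbackGluedCoconeIso D i).symm)

end

instance preservesFiniteColimits_pullback_cov (i : (cov X).I₀) :
    PreservesFiniteColimits (MorphismProperty.Over.pullback affProp ⊤ ((cov X).f i)) :=
  ⟨fun _ _ _ => ⟨fun {D} => preservesColimit_pullback_cov D i⟩⟩

lemma fetObj_pullback {X Y : Scheme.{u}} (f : Y ⟶ X) (A : Aff X) (hA : fetObj X A) :
    fetObj Y ((MorphismProperty.Over.pullback affProp ⊤ f).obj A) :=
  FEt.prop.pullback_snd _ _ hA

/-- if finite étale objects are closed under colimits of shape `J` over affine bases, then also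
over an arbitrary base. -/
lemma isClosedUnderColimitsOfShape_fetObj_of_affine (J : Type) [SmallCategory J] [FinCategory J]
    (H : ∀ (U : Scheme.{u}) [IsAffine U], (fetObj U).IsClosedUnderColimitsOfShape J)
    (X : Scheme.{u}) : (fetObj X).IsClosedUnderColimitsOfShape J where
  colimitsOfShape_le := by
    rintro Y ⟨h⟩
    change FEt.prop Y.hom
    rw [IsZariskiLocalAtTarget.iff_of_openCover (P := FEt.prop) (cov X)]
    intro i
    have := H ((cov X).X i)
    exact (fetObj ((cov X).X i)).prop_of_isColimit
      (isColimitOfPreserves (MorphismProperty.Over.pullback affProp ⊤ ((cov X).f i)) h.isColimit)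
      (fun j => fetObj_pullback _ _ (h.prop_diag_obj j))

lemma of_openCover_of_isPullback {P : MorphismProperty Scheme.{u}} [IsZariskiLocalAtTarget P]
    {X Y : Scheme.{u}} {f : X ⟶ Y} (𝒰 : Y.OpenCover) (X' : 𝒰.I₀ → Scheme.{u})
    (iX : ∀ i, X' i ⟶ X) (f' : ∀ i, X' i ⟶ 𝒰.X i)
    (h : ∀ i, IsPullback (iX i) (f' i) f (𝒰.f i)) (H : ∀ i, P (f' i)) : P f := by
  apply IsZariskiLocalAtTarget.of_openCover 𝒰
  intro i
  have h1 : (h i).isoPullback.hom ≫ 𝒰.pullbackHom f i = f' i := (h i).isoPullback_hom_snd
  have h2 : P ((h i).isoPullback.hom ≫ 𝒰.pullbackHom f i) := by rw [h1]; exact H i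
  exact (P.cancel_left_of_respectsIso (h i).isoPullback.hom (𝒰.pullbackHom f i)).mp h2

/-- a morphism of affine `X`-schemes is an isomorphism if it is so locally on `X`. -/
lemma isIso_of_openCover {X : Scheme.{u}} (𝒱 : X.OpenCover) {A B : Aff X} (φ : A ⟶ B)
    (h : ∀ i, IsIso ((MorphismProperty.Over.pullback affProp ⊤ (𝒱.f i)).map φ)) : IsIso φ := by
  suffices IsIso φ.left by
    have : IsIso ((MorphismProperty.Over.forget affProp ⊤ X ⋙ Over.forget X).map φ) := this
    exact isIso_of_reflects_iso φ (MorphismProperty.Over.forget affProp ⊤ X ⋙ Over.forget X)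
  change MorphismProperty.isomorphisms Scheme.{u} φ.left
  have h2 : φ.left ≫ B.hom = A.hom := MorphismProperty.Over.w φ
  let l : ∀ i : 𝒱.I₀, pullback A.hom (𝒱.f i) ⟶ pullback B.hom (𝒱.f i) := fun i =>
    pullback.lift (pullback.fst A.hom (𝒱.f i) ≫ φ.left) (pullback.snd A.hom (𝒱.f i))
      (by rw [Category.assoc, h2, pullback.condition])
  refine of_openCover_of_isPullback (𝒱.pullback₁ B.hom) (fun i => pullback A.hom (𝒱.f i))
    (fun i => pullback.fst A.hom (𝒱.f i)) l ?_ ?_
  · intro (i : 𝒱.I₀)
    have hs : IsPullback (pullback.fst A.hom (𝒱.f i))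
        (l i ≫ pullback.snd B.hom (𝒱.f i)) (φ.left ≫ B.hom) (𝒱.f i) := by
      rw [pullback.lift_snd, h2]
      exact IsPullback.of_hasPullback A.hom (𝒱.f i)
    exact IsPullback.of_bot hs (pullback.lift_fst _ _ _).symm
      (IsPullback.of_hasPullback B.hom (𝒱.f i))
  · intro (i : 𝒱.I₀)
    have := h i
    change IsIso ((MorphismProperty.Over.forget affProp ⊤ _ ⋙ Over.forget _).map
      ((MorphismProperty.Over.pullback affProp ⊤ (𝒱.f i)).map φ))
    infer_instance

/-- If a family of functors `G i` jointly reflects isomorphisms, every `G i` preserves the colimit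
of `E ⋙ F` and every `F ⋙ G i` preserves the colimit of `E`, then `F` preserves the colimit of `E`. -/
lemma preservesColimit_of_jointly {C D J ι : Type*} [Category C] [Category D] [Category J]
    {Di : ι → Type*} [∀ i, Category (Di i)]
    (F : C ⥤ D) (G : ∀ i, D ⥤ Di i)
    (hG : ∀ {A B : D} (φ : A ⟶ B), (∀ i, IsIso ((G i).map φ)) → IsIso φ)
    (E : J ⥤ C) [HasColimit E] [HasColimit (E ⋙ F)]
    [∀ i, PreservesColimit (E ⋙ F) (G i)] [∀ i, PreservesColimit E (F ⋙ G i)] :
    PreservesColimit E F := by
  apply preservesColimit_of_preserves_colimit_cocone (colimit.isColimit E)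
  have : IsIso ((colimit.isColimit (E ⋙ F)).desc (F.mapCocone (colimit.cocone E))) := by
    apply hG
    intro i
    let h1 : IsColimit ((G i).mapCocone (colimit.cocone (E ⋙ F))) :=
      isColimitOfPreserves _ (colimit.isColimit _)
    let h2 : IsColimit ((F ⋙ G i).mapCocone (colimit.cocone E)) :=
      isColimitOfPreserves _ (colimit.isColimit _)
    have : (G i).map ((colimit.isColimit (E ⋙ F)).desc (F.mapCocone (colimit.cocone E))) =
        (h1.coconePointUniqueUpToIso h2).hom := by
      apply h1.hom_ext
      intro j
      rw [IsColimit.comp_coconePointUniqueUpToIso_hom]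
      simp only [Functor.mapCocone_ι_app, ← Functor.map_comp, IsColimit.fac]
      rfl
    rw [this]
    infer_instance
  exact IsColimit.ofPointIso (colimit.isColimit (E ⋙ F))


section Claim

variable {X' X : Scheme.{u}} (f : X' ⟶ X)

/-- the cover of `X'` by affine opens mapping into affine opens of `X`. -/
noncomputable def cover : X'.OpenCover := X'.openCoverOfIsOpenCover _
  (TopologicalSpace.Opens.IsBasis.isOpenCover_mem_and_le X'.isBasis_affineOpens
    ((X.isBasis_affineOpens.isOpenCover).comap f.base.hom))

/-- index of the source affine open -/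
def srcIdx (i : (cover f).I₀) : (cov X').I₀ := ⟨i.1.1, i.2.1⟩

/-- index of the target affine open -/
def tgtIdx (i : (cover f).I₀) : (cov X).I₀ := ⟨i.1.2.1, i.1.2.2⟩

lemma cover_f (i : (cover f).I₀) : (cover f).f i = (cov X').f (srcIdx f i) := rfl

/-- the restriction of `f` -/
noncomputable def resHom (i : (cover f).I₀) : (cov X').X (srcIdx f i) ⟶ (cov X).X (tgtIdx f i) :=
  f.resLE i.1.2.1 i.1.1 i.2.2

lemma resHom_comp (i : (cover f).I₀) :
    (cov X').f (srcIdx f i) ≫ f = resHom f i ≫ (cov X).f (tgtIdx f i) :=
  (Scheme.Hom.resLE_comp_ι f i.2.2).symm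

/-- pseudo-functoriality -/
noncomputable def thetaIso (i : (cover f).I₀) :
    MorphismProperty.Over.pullback affProp ⊤ f ⋙
      MorphismProperty.Over.pullback affProp ⊤ ((cov X').f (srcIdx f i)) ≅
    MorphismProperty.Over.pullback affProp ⊤ ((cov X).f (tgtIdx f i)) ⋙
      MorphismProperty.Over.pullback affProp ⊤ (resHom f i) :=
  (MorphismProperty.Over.pullbackComp ((cov X').f (srcIdx f i)) f).symm ≪≫
    MorphismProperty.Over.pullbackComp (resHom f i) ((cov X).f (tgtIdx f i))
      ((cov X').f (srcIdx f i) ≫ f) (resHom_comp f i)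

/-- Reduction of the preservation of colimits of finite étale objects under base change to the
case of affine schemes. -/
theorem preservesColimit_pullback_of_affine {J : Type} [SmallCategory J] [FinCategory J]
    (H : ∀ {U V : Scheme.{u}} [IsAffine U] [IsAffine V] (ρ : V ⟶ U) (E' : J ⥤ Aff U),
      (∀ j, fetObj U (E'.obj j)) →
        PreservesColimit E' (MorphismProperty.Over.pullback affProp ⊤ ρ))
    (E : J ⥤ Aff X) (hE : ∀ j, fetObj X (E.obj j)) :
    PreservesColimit E (MorphismProperty.Over.pullback affProp ⊤ f) := by
  have h1 : ∀ i : (cover f).I₀,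
      PreservesColimit (E ⋙ MorphismProperty.Over.pullback affProp ⊤ f)
        (MorphismProperty.Over.pullback affProp ⊤ ((cover f).f i)) := fun i =>
    preservesColimit_pullback_cov _ (srcIdx f i)
  have h2 : ∀ i : (cover f).I₀,
      PreservesColimit E (MorphismProperty.Over.pullback affProp ⊤ f ⋙
        MorphismProperty.Over.pullback affProp ⊤ ((cover f).f i)) := fun i => by
    have h3 : PreservesColimit (E ⋙ MorphismProperty.Over.pullback affProp ⊤
        ((cov X).f (tgtIdx f i))) (MorphismProperty.Over.pullback affProp ⊤ (resHom f i)) :=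
      H _ _ (fun j => fetObj_pullback _ _ (hE j))
    have h5 : PreservesColimit E (MorphismProperty.Over.pullback affProp ⊤
        ((cov X).f (tgtIdx f i))) := preservesColimit_pullback_cov E (tgtIdx f i)
    have h4 : PreservesColimit E (MorphismProperty.Over.pullback affProp ⊤
        ((cov X).f (tgtIdx f i)) ⋙ MorphismProperty.Over.pullback affProp ⊤ (resHom f i)) :=
      comp_preservesColimit _ _
    exact @preservesColimit_of_natIso _ _ _ _ _ _ E _ _ (thetaIso f i).symm h4
  exact preservesColimit_of_jointly (MorphismProperty.Over.pullback affProp ⊤ f)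
    (fun i : (cover f).I₀ => MorphismProperty.Over.pullback affProp ⊤ ((cover f).f i))
    (fun φ h => isIso_of_openCover (cover f) φ h) E

end Claim

end Groth.Agent.Lib.Seat2.AffGlue
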