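import Mathlib
import Groth.Prelude.Def_FEt
import Groth.Agent.Lib.Seat2AffDict
import Groth.Agent.Lib.Seat2AffFEt
import Groth.Agent.Lib.Seat2AffGlue
import Groth.Agent.Lib.Seat2AffCoprod
import Groth.Agent.Lib.Seat2FEtLim

/-!
# Finite colimits of finite étale covers

`FEt.Cat X` has finite colimits and `FEt.restrict f` preserves them. The colimits are computed in the
category `Aff X` of affine `X`-schemes, where they are glued from the affine opens of `X`.
-/

namespace Groth.Agent.Lib.Seat2.FEtColim

open CategoryTheory Limits AlgebraicGeometry Opposite Groth.Agent.Lib.Seat2.AffDict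
  Groth.Agent.Lib.Seat2.AffFEt Groth.Agent.Lib.Seat2.AffGlue Groth.Agent.Lib.Seat2.AffCoprod

universe u

lemma fet_le_aff : FEt.prop.{u} ≤ affProp.{u} := by
  intro X Y f hf
  have : IsFinite f := hf.1
  change IsAffineHom f
  infer_instance

/-- the inclusion of finite étale covers into affine schemes over `X`. -/
noncomputable abbrev incl (X : Scheme.{u}) : FEt.Cat X ⥤ Aff X :=
  MorphismProperty.Over.changeProp X fet_le_aff le_rfl

example (X : Scheme.{u}) : (incl X).Full := inferInstance
example (X : Scheme.{u}) : (incl X).Faithful := inferInstance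

lemma fetObj_incl (X : Scheme.{u}) (Y : FEt.Cat X) : fetObj X ((incl X).obj Y) := Y.prop

section

variable {X : Scheme.{u}} {J : Type} [SmallCategory J] [FinCategory J]
  [(fetObj X).IsClosedUnderColimitsOfShape J] (D : J ⥤ FEt.Cat X)

/-- the inclusion creates colimits of shapes under which finite étale objects are closed -/
noncomputable def createsColimitIncl : CreatesColimit D (incl X) :=
  createsColimitOfFullyFaithfulOfIso
    (MorphismProperty.Over.mk ⊤ (colimit (D ⋙ incl X)).hom
      ((fetObj X).prop_colimit (D ⋙ incl X) (fun j => fetObj_incl X (D.obj j))))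
    (MorphismProperty.Over.isoMk (Iso.refl _))

lemma hasColimit_of_closed : HasColimit D :=
  have := createsColimitIncl D
  hasColimit_of_created D (incl X)

lemma preservesColimit_incl : PreservesColimit D (incl X) :=
  have := createsColimitIncl D
  inferInstance

end

/-- restriction of finite étale covers is compatible with base change of affine schemes -/
noncomputable def inclRestrictIso {X' X : Scheme.{u}} (f : X' ⟶ X) :
    FEt.restrict f ⋙ incl X' ≅ incl X ⋙ MorphismProperty.Over.pullback affProp ⊤ f :=
  NatIso.ofComponents (fun Y => Iso.refl _) (by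
    intro Y Z φ
    ext
    exact (Category.comp_id _).trans (Category.id_comp _).symm)

section

variable {X' X : Scheme.{u}} (f : X' ⟶ X) {J : Type} [SmallCategory J] [FinCategory J]
  [(fetObj X).IsClosedUnderColimitsOfShape J]

lemma preservesColimit_restrict
    (H : ∀ {U V : Scheme.{u}} [IsAffine U] [IsAffine V] (ρ : V ⟶ U) (E' : J ⥤ Aff U),
      (∀ j, fetObj U (E'.obj j)) →
        PreservesColimit E' (MorphismProperty.Over.pullback affProp ⊤ ρ))
    (D : J ⥤ FEt.Cat X) : PreservesColimit D (FEt.restrict f) := by
  have h1 : PreservesColimit D (incl X) := preservesColimit_incl D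
  have h2 : PreservesColimit (D ⋙ incl X) (MorphismProperty.Over.pullback affProp ⊤ f) :=
    preservesColimit_pullback_of_affine f H _ (fun j => fetObj_incl X (D.obj j))
  have h3 : PreservesColimit D (incl X ⋙ MorphismProperty.Over.pullback affProp ⊤ f) :=
    comp_preservesColimit _ _
  have h4 : PreservesColimit D (FEt.restrict f ⋙ incl X') :=
    @preservesColimit_of_natIso _ _ _ _ _ _ D _ _ (inclRestrictIso f).symm h3
  exact preservesColimit_of_reflects_of_preserves (FEt.restrict f) (incl X')

end

instance closed_parallelPair (X : Scheme.{u}) :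
    (fetObj X).IsClosedUnderColimitsOfShape WalkingParallelPair :=
  isClosedUnderColimitsOfShape_fetObj_of_affine _ (fun _ _ => inferInstance) X

instance closed_discrete (X : Scheme.{u}) (n : ℕ) :
    (fetObj X).IsClosedUnderColimitsOfShape (Discrete (Fin n)) :=
  isClosedUnderColimitsOfShape_fetObj_of_affine _ (fun _ _ => inferInstance) X

/-- The category of finite étale covers has finite colimits. -/
theorem hasFiniteColimits (X : Scheme.{u}) : HasFiniteColimits (FEt.Cat X) := by
  have : HasCoequalizers (FEt.Cat X) := ⟨fun D => hasColimit_of_closed D⟩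
  have : HasFiniteCoproducts (FEt.Cat X) := ⟨fun n => ⟨fun D => hasColimit_of_closed D⟩⟩
  exact hasFiniteColimits_of_hasCoequalizers_and_finite_coproducts

/-- Base change of finite étale covers preserves finite colimits. -/
theorem preservesFiniteColimits_restrict {X' X : Scheme.{u}} (f : X' ⟶ X) :
    PreservesFiniteColimits (FEt.restrict f) := by
  have : HasCoequalizers (FEt.Cat X) := ⟨fun D => hasColimit_of_closed D⟩
  have : HasFiniteCoproducts (FEt.Cat X) := ⟨fun n => ⟨fun D => hasColimit_of_closed D⟩⟩
  have : PreservesColimitsOfShape WalkingParallelPair (FEt.restrict f) :=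
    ⟨fun {D} => preservesColimit_restrict f
      (fun ρ E' hE' => preservesColimit_pullback_of_fet ρ E' hE') D⟩
  have : PreservesFiniteCoproducts (FEt.restrict f) :=
    ⟨fun n => ⟨fun {D} => preservesColimit_restrict f
      (fun ρ E' _ => (preservesColimitsOfShape_discrete_pullback ρ (Fin n)).preservesColimit) D⟩⟩
  exact preservesFiniteColimits_of_preservesCoequalizers_and_finiteCoproducts _

end Groth.Agent.Lib.Seat2.FEtColim
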