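import Mathlib
import Groth.Prelude.Def_FEt

namespace Groth.Agent.Lib.Seat2.FEtFiber

open CategoryTheory Limits AlgebraicGeometry Opposite

universe u

variable {X : Scheme.{u}} {Ω : Type u} [Field Ω] (ξ : Spec (CommRingCat.of Ω) ⟶ X)

lemma fst_comp_of_section {Y : Scheme.{u}} (p : Y ⟶ X)
    (t : Spec (CommRingCat.of Ω) ⟶ pullback p ξ) (h : t ≫ pullback.snd p ξ = 𝟙 _) :
    (t ≫ pullback.fst p ξ) ≫ p = ξ := by
  rw [Category.assoc, pullback.condition, ← Category.assoc, h, Category.id_comp]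

lemma section_ext {Y : Scheme.{u}} (p : Y ⟶ X)
    (t t' : Spec (CommRingCat.of Ω) ⟶ pullback p ξ) (h : t ≫ pullback.snd p ξ = 𝟙 _)
    (h' : t' ≫ pullback.snd p ξ = 𝟙 _) (hf : t ≫ pullback.fst p ξ = t' ≫ pullback.fst p ξ) :
    t = t' :=
  pullback.hom_ext hf (h.trans h'.symm)

/-- points of the fibre are sections of the base change -/
noncomputable def fiberEquiv (Y : FEt.Cat X) :
    FEt.fiberObj ξ Y ≃ FEt.fiberObj (𝟙 (Spec (CommRingCat.of Ω))) ((FEt.restrict ξ).obj Y) where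
  toFun s := ⟨pullback.lift s.1 (𝟙 _) (by rw [s.2, Category.id_comp]), pullback.lift_snd _ _ _⟩
  invFun t := ⟨t.1 ≫ pullback.fst Y.hom ξ, fst_comp_of_section ξ Y.hom t.1 t.2⟩
  left_inv s := Subtype.ext (pullback.lift_fst _ _ _)
  right_inv t := Subtype.ext (section_ext ξ Y.hom _ t.1 (pullback.lift_snd _ _ _) t.2
    (pullback.lift_fst _ _ _))

/-- the fibre functor factors through base change to the geometric point. -/
noncomputable def fiberRestrictIso :
    FEt.fiber ξ ≅ FEt.restrict ξ ⋙ FEt.fiber (𝟙 (Spec (CommRingCat.of Ω))) :=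
  NatIso.ofComponents (fun Y => Equiv.toIso (fiberEquiv ξ Y)) (by
    intro Y Z φ
    ext s
    apply Subtype.ext
    refine section_ext ξ Z.hom _ _ ?_ ?_ ?_
    · exact ((ConcreteCategory.hom ((FEt.fiber ξ).map φ ≫ (fiberEquiv ξ Z).toIso.hom)).toFun s).2
    · exact ((ConcreteCategory.hom ((fiberEquiv ξ Y).toIso.hom ≫
        (FEt.restrict ξ ⋙ FEt.fiber (𝟙 (Spec (CommRingCat.of Ω)))).map φ)).toFun s).2
    · change pullback.lift ((s : FEt.fiberObj ξ Y).1 ≫ φ.left) (𝟙 _) _ ≫ pullback.fst Z.hom ξ =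
        (pullback.lift (s : FEt.fiberObj ξ Y).1 (𝟙 _) _ ≫
          pullback.lift (pullback.fst Y.hom ξ ≫ φ.left) (pullback.snd Y.hom ξ) _) ≫
            pullback.fst Z.hom ξ
      rw [pullback.lift_fst, Category.assoc, pullback.lift_fst, pullback.lift_fst_assoc])

end Groth.Agent.Lib.Seat2.FEtFiber
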