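import Mathlib
import Groth.Prelude.Def_FEt
import Groth.Agent.Lib.Seat2FEtLim

namespace Groth.Agent.Lib.Seat2.FEtMono

open CategoryTheory Limits AlgebraicGeometry Opposite Groth.Agent.Lib.Seat2.FEtLim

universe u

variable {X : Scheme.{u}}

/-- the forgetful functor to schemes -/
abbrev toScheme (X : Scheme.{u}) : FEt.Cat X ⥤ Scheme.{u} :=
  MorphismProperty.Over.forget FEt.prop ⊤ X ⋙ Over.forget X

instance : PreservesLimitsOfShape WalkingCospan (toScheme X) := inferInstance

lemma mono_left {Y Z : FEt.Cat X} (i : Y ⟶ Z) [Mono i] : Mono i.left :=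
  inferInstanceAs (Mono ((toScheme X).map i))

lemma fet_left {Y Z : FEt.Cat X} (i : Y ⟶ Z) : FEt.prop i.left :=
  MorphismProperty.of_postcomp (W := FEt.prop) (W' := FEt.prop) i.left Z.hom Z.prop
    (by rw [MorphismProperty.Over.w]; exact Y.prop)

instance : ReflectsColimitsOfShape (Discrete WalkingPair) (toScheme X) := inferInstance

/-- a monomorphism of finite étale covers is the inclusion of a direct summand. -/
theorem exists_summand {Y Z : FEt.Cat X} (i : Y ⟶ Z) [Mono i] :
    ∃ (Z' : FEt.Cat X) (u : Z' ⟶ Z), Nonempty (IsColimit (BinaryCofan.mk i u)) := by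
  have hm : Mono i.left := mono_left i
  have hfet := fet_left i
  have hfin : IsFinite i.left := hfet.1
  have het : Etale i.left := hfet.2
  have hcl : IsClosedImmersion i.left := (IsClosedImmersion.iff_isFinite_and_mono i.left).mpr ⟨hfin, hm⟩
  have hop : IsOpenImmersion i.left := IsOpenImmersion.of_flat_of_mono i.left
  let V : Z.left.Opens := ⟨(Set.range i.left.base)ᶜ,
    (i.left.isClosedEmbedding.isClosed_range).isOpen_compl⟩
  have hVcl : IsClosedImmersion V.ι := by
    apply IsClosedImmersion.of_isPreimmersion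
    rw [Scheme.Opens.range_ι]
    change IsClosed ((Set.range i.left.base)ᶜ)
    exact i.left.isOpenEmbedding.isOpen_range.isClosed_compl
  have hZ : IsFinite Z.hom := Z.prop.1
  have hZ' : Etale Z.hom := Z.prop.2
  let Z' : FEt.Cat X := MorphismProperty.Over.mk ⊤ (V.ι ≫ Z.hom) ⟨inferInstance, inferInstance⟩
  let u : Z' ⟶ Z := MorphismProperty.Over.homMk V.ι rfl trivial
  refine ⟨Z', u, ?_⟩
  have hcompl : IsCompl i.left.opensRange V.ι.opensRange := by
    rw [Scheme.Opens.opensRange_ι]
    constructor
    · rw [disjoint_iff]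
      ext x
      simp [V]
    · rw [codisjoint_iff]
      ext x
      simp [V]
  obtain ⟨hc⟩ := nonempty_isColimit_binaryCofanMk_of_isCompl i.left V.ι hcompl
  have hc' : IsColimit ((toScheme X).mapCocone (BinaryCofan.mk i u)) :=
    (isColimitMapCoconeBinaryCofanEquiv (toScheme X) i u).symm hc
  exact ⟨isColimitOfReflects (toScheme X) hc'⟩

end Groth.Agent.Lib.Seat2.FEtMono
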