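import Mathlib
import Groth.Prelude.Def_FEt
import Groth.Agent.Lib.Seat2FEtLim
import Groth.Agent.Lib.Seat2FEtMono

namespace Groth.Agent.Lib.Seat2.FEtReflIso

open CategoryTheory Limits AlgebraicGeometry Opposite Groth.Agent.Lib.Seat2.FEtLim
  Groth.Agent.Lib.Seat2.FEtMono

universe u

example {X Y : Scheme.{u}} (f : X ⟶ Y) [Etale f] : IsOpenMap f := f.isOpenMap
example {X Y : Scheme.{u}} (f : X ⟶ Y) [IsFinite f] : IsClosedMap f := f.isClosedMap

lemma isPullback_lift {X' X Y Z : Scheme.{u}} (p : Y ⟶ X) (q : Z ⟶ X) (h : Y ⟶ Z) (w : h ≫ q = p)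
    (f : X' ⟶ X) :
    IsPullback (pullback.fst p f)
      (pullback.lift (pullback.fst p f ≫ h) (pullback.snd p f)
        (by rw [Category.assoc, w, pullback.condition])) h (pullback.fst q f) := by
  have hs : IsPullback (pullback.fst p f)
      (pullback.lift (pullback.fst p f ≫ h) (pullback.snd p f)
        (by rw [Category.assoc, w, pullback.condition]) ≫ pullback.snd q f) (h ≫ q) f := by
    rw [pullback.lift_snd, w]
    exact IsPullback.of_hasPullback p f
  exact IsPullback.of_bot hs (pullback.lift_fst _ _ _).symm (IsPullback.of_hasPullback q f)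

/-- Over a connected base, a morphism of finite étale covers which becomes an isomorphism after
base change to a point is an isomorphism. -/
theorem isIso_of_isIso_restrict {X : Scheme.{u}} [ConnectedSpace X] {Ω : Type u} [Field Ω]
    (ξ : Spec (CommRingCat.of Ω) ⟶ X) {Y Z : FEt.Cat X} (φ : Y ⟶ Z)
    [hiso : IsIso ((FEt.restrict ξ).map φ)] : IsIso φ := by
  have hfet := fet_left φ
  have hfin : IsFinite φ.left := hfet.1
  have het : Etale φ.left := hfet.2
  have hZfin : IsFinite Z.hom := Z.prop.1
  have hZet : Etale Z.hom := Z.prop.2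
  have hw : φ.left ≫ Z.hom = Y.hom := MorphismProperty.Over.w φ
  -- the base change of `φ.left`
  let l : pullback Y.hom ξ ⟶ pullback Z.hom ξ :=
    pullback.lift (pullback.fst Y.hom ξ ≫ φ.left) (pullback.snd Y.hom ξ)
      (by rw [Category.assoc, hw, pullback.condition])
  have hl : IsIso l := by
    change IsIso ((toScheme _).map ((FEt.restrict ξ).map φ))
    infer_instance
  have hpb : IsPullback (pullback.fst Y.hom ξ) l φ.left (pullback.fst Z.hom ξ) :=
    isPullback_lift Y.hom Z.hom φ.left hw ξ
  have hrank : ∀ z' : ↥(pullback Z.hom ξ), φ.left.finrank (pullback.fst Z.hom ξ z') = 1 := by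
    intro z'
    rw [← Scheme.Hom.finrank_of_isPullback _ _ _ _ hpb z', Scheme.Hom.finrank_eq_one_of_isIso]
    rfl
  -- the locus where the rank is not one
  have hlc : IsLocallyConstant φ.left.finrank := Scheme.Hom.isLocallyConstant_finrank φ.left
  let T : Set Z.left := φ.left.finrank ⁻¹' {1}ᶜ
  have hT : IsClopen T := (hlc.isClopen_fiber 1).compl
  have hT' : IsClopen ((Z.hom : Z.left ⟶ X) '' T) :=
    ⟨Z.hom.isClosedMap _ hT.1, Z.hom.isOpenMap _ hT.2⟩
  have hne : Z.hom '' T ≠ Set.univ := by
    intro h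
    let pt : ↥(Spec (CommRingCat.of Ω)) := default
    obtain ⟨z, hzT, hz⟩ : ξ pt ∈ Z.hom '' T := h ▸ Set.mem_univ _
    obtain ⟨z', hz'1, -⟩ := Scheme.Pullback.exists_preimage_pullback (f := Z.hom) (g := ξ) z pt hz
    apply hzT
    change φ.left.finrank z = 1
    rw [← hz'1]
    exact hrank z'
  have hempty : T = ∅ := by
    rcases (isClopen_iff (α := X)).mp hT' with h | h
    · exact Set.image_eq_empty.mp h
    · exact absurd h hne
  have hone : φ.left.finrank = 1 := by
    ext z
    by_contra hz
    have : z ∈ T := hz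
    rw [hempty] at this
    exact this
  have : IsIso φ.left := (Scheme.Hom.isIso_iff_finrank_eq φ.left).mpr hone
  have : IsIso ((toScheme X).map φ) := this
  exact isIso_of_reflects_iso φ (toScheme X)

end Groth.Agent.Lib.Seat2.FEtReflIso
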