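import Mathlib
import Groth.Prelude.Def_FEt
import Groth.Agent.Lib.Helper26FEtAffine

/-!
# Finite étale covers of the spectrum of a ring and finite étale algebras

`specFunctor A : (CommAlgCat.FiniteEtale A)ᵒᵖ ⥤ FEt.Cat (Spec A)` is an equivalence. Over a separably
closed field `Ω` this gives `toFintype Ω : FEt.Cat (Spec Ω) ⥤ FintypeCat`, an equivalence which is
isomorphic to the sections functor `FEt.fiber (𝟙 _)`.
-/

namespace Groth.Agent.Lib.Seat2.FEtSpec

open CategoryTheory Limits AlgebraicGeometry Opposite Groth.Agent.Lib.Helper26.FEtAffine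

universe u

variable (A : Type u) [CommRing A]

/-- The `Spec` functor from finite étale `A`-algebras to finite étale covers of `Spec A`. -/
noncomputable def specFunctor :
    (CommAlgCat.FiniteEtale.{u} A)ᵒᵖ ⥤ FEt.Cat (Spec (CommRingCat.of A)) where
  obj B := std A B.unop.obj
  map {B C} g := stdHom A g.unop.hom.hom
  map_id B := stdHom_id A
  map_comp {B C D} f g := (stdHom_comp A f.unop.hom.hom g.unop.hom.hom).symm

instance : (specFunctor A).Faithful where
  map_injective {B C} f g h := by
    apply Quiver.Hom.unop_inj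
    have h1 : Spec.map (CommRingCat.ofHom f.unop.hom.hom.toRingHom) =
        Spec.map (CommRingCat.ofHom g.unop.hom.hom.toRingHom) :=
      congrArg (fun t => t.left) h
    have h2 := Spec.map_injective h1
    ext x
    exact congrArg (fun t => t.hom x) h2

instance : (specFunctor A).Full where
  map_surjective {B C} ψ := by
    obtain ⟨g, hg⟩ := exists_stdHom A (B := B.unop.obj) (C := C.unop.obj) ψ
    exact ⟨(CommAlgCat.FiniteEtale.ofHom g : CommAlgCat.FiniteEtale.of A C.unop.obj ⟶
      CommAlgCat.FiniteEtale.of A B.unop.obj).op, hg.symm⟩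

instance : (specFunctor A).EssSurj where
  mem_essImage Y := by
    obtain ⟨B, _, _, _, _, ⟨e⟩⟩ := exists_iso_std A Y
    exact ⟨op (CommAlgCat.FiniteEtale.of A B), ⟨e.symm⟩⟩

instance : (specFunctor A).IsEquivalence where

section Sections

variable (Ω : Type u) [Field Ω]

/-- sections of `Spec B → Spec Ω` from algebra maps `B → Ω`. -/
noncomputable def sectionOfAlgHom (B : Type u) [CommRing B] [Algebra Ω B] [Module.Finite Ω B]
    [Algebra.Etale Ω B] (g : B →ₐ[Ω] Ω) :
    FEt.fiberObj (𝟙 (Spec (CommRingCat.of Ω))) (std Ω B) :=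
  ⟨Spec.map (CommRingCat.ofHom g.toRingHom), by
    change Spec.map (CommRingCat.ofHom g.toRingHom) ≫
      Spec.map (CommRingCat.ofHom (algebraMap Ω B)) = 𝟙 _
    rw [← Spec.map_comp, ← Spec.map_id]
    congr 1
    ext a
    exact g.commutes a⟩

lemma sectionOfAlgHom_bijective (B : Type u) [CommRing B] [Algebra Ω B] [Module.Finite Ω B]
    [Algebra.Etale Ω B] : Function.Bijective (sectionOfAlgHom Ω B) := by
  constructor
  · intro g h hgh
    have h1 : Spec.map (CommRingCat.ofHom g.toRingHom) = Spec.map (CommRingCat.ofHom h.toRingHom) :=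
      congrArg Subtype.val hgh
    have h2 := Spec.map_injective h1
    ext x
    exact congrArg (fun t => t.hom x) h2
  · rintro ⟨s, hs⟩
    let r : CommRingCat.of B ⟶ CommRingCat.of Ω := Spec.preimage s
    have hr : Spec.map r = s := Spec.map_preimage s
    have hcomm : CommRingCat.ofHom (algebraMap Ω B) ≫ r = 𝟙 _ := by
      apply Spec.map_injective
      rw [Spec.map_comp, hr, Spec.map_id]
      exact hs
    let g : B →ₐ[Ω] Ω :=
      { r.hom with
        commutes' := fun a => congrArg (fun t => t.hom a) hcomm }
    refine ⟨g, Subtype.ext ?_⟩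
    exact hr

/-- the sections functor on standard covers is the algebraic fibre functor. -/
noncomputable def sectionsIso :
    CommAlgCat.FiniteEtale.fiber.{u} Ω Ω ⋙ FintypeCat.incl ≅
      specFunctor Ω ⋙ FEt.fiber (𝟙 (Spec (CommRingCat.of Ω))) :=
  NatIso.ofComponents
    (fun B => Equiv.toIso (Equiv.ofBijective _ (sectionOfAlgHom_bijective Ω B.unop.obj)))
    (by
      intro B C g
      ext h
      apply Subtype.ext
      change Spec.map (CommRingCat.ofHom (h.comp g.unop.hom.hom).toRingHom) =
        Spec.map (CommRingCat.ofHom h.toRingHom) ≫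
          Spec.map (CommRingCat.ofHom g.unop.hom.hom.toRingHom)
      rw [← Spec.map_comp]
      rfl)

variable [IsSepClosed Ω]

/-- over a separably closed field, finite étale covers of `Spec Ω` are finite sets. -/
noncomputable def toFintype : FEt.Cat (Spec (CommRingCat.of Ω)) ⥤ FintypeCat.{u} :=
  (specFunctor Ω).inv ⋙ CommAlgCat.FiniteEtale.fiber.{u} Ω Ω

instance : (toFintype Ω).IsEquivalence := by
  unfold toFintype
  infer_instance

/-- the equivalence with finite sets is given by the sections functor. -/
noncomputable def toFintypeInclIso :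
    toFintype Ω ⋙ FintypeCat.incl ≅ FEt.fiber (𝟙 (Spec (CommRingCat.of Ω))) :=
  Functor.associator _ _ _ ≪≫ Functor.isoWhiskerLeft _ (sectionsIso Ω) ≪≫
    (Functor.associator _ _ _).symm ≪≫
    Functor.isoWhiskerRight (specFunctor Ω).asEquivalence.counitIso _ ≪≫ Functor.leftUnitor _

end Sections

end Groth.Agent.Lib.Seat2.FEtSpec
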