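import Mathlib
import Groth.Prelude.Def_FEt
import Groth.Agent.Lib.Seat2FEtLim
import Groth.Agent.Lib.Seat2FEtColim
import Groth.Agent.Lib.Seat2FEtMono
import Groth.Agent.Lib.Seat2FEtReflIso
import Groth.Agent.Lib.Seat2FEtSpec
import Groth.Agent.Lib.Seat2FEtFiber

namespace Groth.Agent.Lib.Seat2.FEtGalois

open CategoryTheory Limits AlgebraicGeometry Opposite PreGaloisCategory
  Groth.Agent.Lib.Seat2.FEtLim Groth.Agent.Lib.Seat2.FEtColim Groth.Agent.Lib.Seat2.FEtMono
  Groth.Agent.Lib.Seat2.FEtReflIso Groth.Agent.Lib.Seat2.FEtSpec Groth.Agent.Lib.Seat2.FEtFiber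

universe u

instance hasFiniteColimits' (X : Scheme.{u}) : HasFiniteColimits (FEt.Cat X) :=
  FEtColim.hasFiniteColimits X

lemma hasColimitsOfShape_singleObj (X : Scheme.{u}) (G : Type u) [Group G] [Finite G] :
    HasColimitsOfShape (SingleObj G) (FEt.Cat X) := by
  obtain ⟨G', hg, hf, ⟨e⟩⟩ := Finite.exists_type_univ_nonempty_mulEquiv.{u, 0} G
  have : Fintype G' := Fintype.ofFinite G'
  have : HasColimitsOfShape (SingleObj G') (FEt.Cat X) := inferInstance
  exact Limits.hasColimitsOfShape_of_equivalence e.toSingleObjEquiv.symm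

instance preGaloisCategory (X : Scheme.{u}) : PreGaloisCategory (FEt.Cat X) where
  hasQuotientsByFiniteGroups G _ _ := hasColimitsOfShape_singleObj X G
  monoInducesIsoOnDirectSummand i := exists_summand i

section Fiber

variable {X : Scheme.{u}} {Ω : Type u} [Field Ω] [IsSepClosed Ω]
  (ξ : Spec (CommRingCat.of Ω) ⟶ X)

/-- the fibre functor with values in finite sets -/
noncomputable def fiberFunctor : FEt.Cat X ⥤ FintypeCat.{u} := FEt.restrict ξ ⋙ toFintype Ω

/-- it lifts the fibre functor `FEt.fiber ξ`. -/
noncomputable def fiberFunctorInclIso : fiberFunctor ξ ⋙ FintypeCat.incl ≅ FEt.fiber ξ :=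
  Functor.associator _ _ _ ≪≫ Functor.isoWhiskerLeft _ (toFintypeInclIso Ω) ≪≫
    (fiberRestrictIso ξ).symm

instance : PreservesFiniteLimits (FEt.restrict ξ) := preservesFiniteLimits_restrict ξ

instance : PreservesFiniteColimits (FEt.restrict ξ) := preservesFiniteColimits_restrict ξ

instance : PreservesFiniteLimits (fiberFunctor ξ) := by
  unfold fiberFunctor
  infer_instance

instance : PreservesFiniteColimits (fiberFunctor ξ) := by
  unfold fiberFunctor
  infer_instance

lemma preservesColimitsOfShape_singleObj (G : Type u) [Group G] [Finite G] :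
    PreservesColimitsOfShape (SingleObj G) (fiberFunctor ξ) := by
  obtain ⟨G', hg, hf, ⟨e⟩⟩ := Finite.exists_type_univ_nonempty_mulEquiv.{u, 0} G
  have : Fintype G' := Fintype.ofFinite G'
  have : PreservesColimitsOfShape (SingleObj G') (fiberFunctor ξ) := inferInstance
  exact Limits.preservesColimitsOfShape_of_equiv e.toSingleObjEquiv.symm _

instance reflectsIsomorphisms_restrict [ConnectedSpace X] :
    (FEt.restrict ξ).ReflectsIsomorphisms where
  reflects φ _ := isIso_of_isIso_restrict ξ φ

noncomputable instance fiberFunctor_isFiber [ConnectedSpace X] : FiberFunctor (fiberFunctor ξ) where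
  preservesEpis := by
    have : PreservesColimitsOfShape WalkingSpan (fiberFunctor ξ) := inferInstance
    exact preservesEpimorphisms_of_preservesColimitsOfShape _
  preservesQuotientsByFiniteGroups G _ _ := preservesColimitsOfShape_singleObj ξ G
  reflectsIsos := by
    unfold fiberFunctor
    infer_instance

end Fiber

end Groth.Agent.Lib.Seat2.FEtGalois
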