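import Mathlib
import Groth.Prelude.Def_FEt
import Groth.Agent.Lib.Seat2FEtSpec
import Groth.Agent.Lib.Seat2FEtFiber

/-!
# The cardinality of a geometric fibre of a finite étale cover is its degree
-/

set_option autoImplicit false

namespace Groth.Agent.Lib.Seat2.FibreCard

open CategoryTheory Limits AlgebraicGeometry Groth.Agent.Lib.Seat2.FEtSpec
  Groth.Agent.Lib.Seat2.FEtFiber Groth.Agent.Lib.Helper26.FEtAffine

universe u

section Algebra

variable (k : Type u) [Field k] (B : Type u) [CommRing B] [Algebra k B]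

/-- a finite split algebra over a field has as many rational points as its dimension. -/
lemma card_algHom_eq_finrank [Algebra.IsFiniteSplit k B] :
    Nat.card (B →ₐ[k] k) = Module.finrank k B := by
  obtain ⟨m, ⟨e⟩⟩ := Algebra.IsFiniteSplit.nonempty_algEquiv_fun k B
  rw [Nat.card_congr (Algebra.IsFiniteSplit.algHomEquivPrimeSpectrum k B),
    e.toLinearEquiv.finrank_eq, Module.finrank_fin_fun,
    Nat.card_congr (PrimeSpectrum.comapEquiv e.toRingEquiv).toEquiv,
    ← Nat.card_congr (Equiv.ofBijective _ (PrimeSpectrum.sigmaToPi_bijective (fun _ : Fin m => k))),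
    Nat.card_sigma]
  simp

end Algebra

section Fibre

variable {X : Scheme.{u}} {Ω : Type u} [Field Ω] [IsSepClosed Ω]
  (ξ : Spec (CommRingCat.of Ω) ⟶ X)

/-- **The degree counts geometric points**: the fibre of a finite étale cover over a geometric point
has `finrank` many elements. -/
theorem card_fiberObj_eq_finrank (Y : FEt.Cat X) :
    Nat.card (FEt.fiberObj ξ Y) =
      Scheme.Hom.finrank Y.hom (ξ (IsLocalRing.closedPoint Ω)) := by
  have hYfin : IsFinite Y.hom := Y.prop.1
  have hYet : Etale Y.hom := Y.prop.2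
  let Z := (FEt.restrict ξ).obj Y
  obtain ⟨B, _, _, _, _, ⟨e⟩⟩ := exists_iso_std Ω Z
  have : Algebra.IsFiniteSplit Ω B := inferInstance
  -- the finrank side
  have h1 : Scheme.Hom.finrank Y.hom (ξ (IsLocalRing.closedPoint Ω)) =
      Scheme.Hom.finrank (pullback.snd Y.hom ξ) (IsLocalRing.closedPoint Ω) :=
    (Scheme.Hom.finrank_pullback_snd Y.hom ξ _).symm
  let l : pullback Y.hom ξ ⟶ Spec (CommRingCat.of B) := e.hom.left
  let q : Spec (CommRingCat.of B) ⟶ Spec (CommRingCat.of Ω) :=
    Spec.map (CommRingCat.ofHom (algebraMap Ω B))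
  have hw : l ≫ q = pullback.snd Y.hom ξ := MorphismProperty.Over.w e.hom
  have hiso : IsIso l :=
    inferInstanceAs (IsIso ((MorphismProperty.Over.forget FEt.prop ⊤ _ ⋙ Over.forget _).map e.hom))
  have hfl : Flat q := by
    rw [HasRingHomProperty.Spec_iff (P := @Flat)]
    exact RingHom.flat_algebraMap_iff.mpr inferInstance
  have hfi : IsFinite q := by
    rw [IsFinite.SpecMap_iff]
    exact RingHom.finite_algebraMap.mpr inferInstance
  have h2 : Scheme.Hom.finrank (pullback.snd Y.hom ξ) (IsLocalRing.closedPoint Ω) =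
      Module.finrank Ω B := by
    rw [← hw, Scheme.Hom.finrank_comp_left_of_isIso l q]
    change Scheme.Hom.finrank (Spec.map (CommRingCat.ofHom (algebraMap Ω B))) _ = _
    rw [Scheme.Hom.finrank_SpecMap_algebraMap, Module.rankAtStalk_eq_finrank_of_free]
    rfl
  have h3 : Nat.card (FEt.fiberObj ξ Y) = Nat.card (B →ₐ[Ω] Ω) :=
    (Nat.card_congr (fiberEquiv ξ Y)).trans
      ((Nat.card_congr ((FEt.fiber (𝟙 (Spec (CommRingCat.of Ω)))).mapIso e).toEquiv).trans
        (Nat.card_eq_of_bijective _ (sectionOfAlgHom_bijective Ω B)).symm)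
  rw [h1, h2, ← card_algHom_eq_finrank Ω B, h3]

end Fibre

end Groth.Agent.Lib.Seat2.FibreCard
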