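import Mathlib
import Groth.Prelude.Def_SGA1

/-!
# Finite coproducts of finite morphisms, and the cover of `Y ×_S X` by graphs of translates (helper62)
-/

set_option autoImplicit false
set_option linter.style.haveILetI false
set_option linter.unusedSectionVars false
universe u

namespace Groth.Agent.Lib.Seat62.GraphCover

open CategoryTheory CategoryTheory.Limits AlgebraicGeometry

section SigmaFinite

/-- `Sigma.desc` of finitely many finite morphisms is finite. -/
theorem isFinite_sigmaDesc (ι : Type u) [Finite ι] :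
    ∀ (Y : ι → Scheme.{u}) (Z : Scheme.{u}) (g : ∀ i, Y i ⟶ Z), (∀ i, IsFinite (g i)) →
      IsFinite (Sigma.desc g) := by
  refine Finite.induction_empty_option (P := fun ι : Type u => ∀ (Y : ι → Scheme.{u})
    (Z : Scheme.{u}) (g : ∀ i, Y i ⟶ Z), (∀ i, IsFinite (g i)) → IsFinite (Sigma.desc g))
    ?_ ?_ ?_ ι
  · -- equivalence
    intro α β e hα Y Z g hg
    have h1 := hα (fun a => Y (e a)) Z (fun a => g (e a)) (fun a => hg (e a))
    have h2 : Sigma.desc g = (Sigma.reindex e Y).inv ≫ Sigma.desc (fun a => g (e a)) := by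
      rw [Iso.eq_inv_comp]
      apply Sigma.hom_ext
      intro a
      rw [Sigma.ι_desc, ← Category.assoc]
      erw [Sigma.ι_reindex_hom]
      rw [Sigma.ι_desc]
    rw [h2]
    haveI : IsFinite (Sigma.reindex e Y).inv := inferInstance
    exact MorphismProperty.comp_mem _ _ _ inferInstance h1
  · -- empty
    intro Y Z g _
    haveI : IsEmpty ↥(∐ Y) := by
      exact ⟨fun x => ((sigmaMk Y).symm x).1.elim⟩
    infer_instance
  · -- option
    intro α _ hα Y Z g hg
    have h1 := hα (fun a => Y (some a)) Z (fun a => g (some a)) (fun a => hg (some a))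
    haveI := hg none
    let k : (∐ Y) ⟶ (∐ fun a => Y (some a)) ⨿ Y none :=
      Sigma.desc (fun o => match o with
        | none => coprod.inr
        | some a => Sigma.ι (fun a => Y (some a)) a ≫ coprod.inl)
    let k' : (∐ fun a => Y (some a)) ⨿ Y none ⟶ ∐ Y :=
      coprod.desc (Sigma.desc fun a => Sigma.ι Y (some a)) (Sigma.ι Y none)
    have hk1 : k ≫ k' = 𝟙 _ := by
      apply Sigma.hom_ext
      intro o
      cases o with
      | none =>
        simp only [k, k', Category.comp_id]
        rw [← Category.assoc, Sigma.ι_desc]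
        simp only [coprod.inr_desc]
      | some a =>
        simp only [k, k', Category.comp_id]
        rw [← Category.assoc, Sigma.ι_desc]
        simp only [Category.assoc, coprod.inl_desc, Sigma.ι_desc]
    have hk2 : k' ≫ k = 𝟙 _ := by
      apply coprod.hom_ext
      · apply Sigma.hom_ext
        intro a
        simp only [k, k', Category.comp_id]
        rw [coprod.inl_desc_assoc, Sigma.ι_desc_assoc, Sigma.ι_desc]
      · simp only [k, k', Category.comp_id]
        rw [coprod.inr_desc_assoc, Sigma.ι_desc]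
    haveI : IsIso k := ⟨k', hk1, hk2⟩
    have h2 : Sigma.desc g = k ≫ coprod.desc (Sigma.desc fun a => g (some a)) (g none) := by
      apply Sigma.hom_ext
      intro o
      cases o with
      | none =>
        simp only [k]
        rw [Sigma.ι_desc, ← Category.assoc, Sigma.ι_desc]
        simp only [coprod.inr_desc]
      | some a =>
        simp only [k]
        rw [Sigma.ι_desc, ← Category.assoc, Sigma.ι_desc]
        simp only [Category.assoc, coprod.inl_desc, Sigma.ι_desc]
    rw [h2]
    haveI : IsFinite (coprod.desc (Sigma.desc fun a => g (some a)) (g none)) := inferInstance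
    infer_instance

end SigmaFinite

section Submersive

theorem univSubmersive_of_universallyClosed_surjective {X Y : Scheme.{u}} (f : X ⟶ Y)
    [UniversallyClosed f] [Surjective f] : SGA1.UnivSubmersive f := by
  intro X' Y' i₁ i₂ f' h
  haveI : UniversallyClosed f' := MorphismProperty.of_isPullback h.flip inferInstance
  haveI : Surjective f' := MorphismProperty.of_isPullback h.flip inferInstance
  exact IsClosedMap.isQuotientMap f'.isClosedMap f'.continuous f'.surjective

/-- A finite family of finite morphisms that is jointly surjective is universally submersive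
after taking the coproduct. -/
theorem univSubmersive_sigmaDesc {ι : Type u} [Finite ι] (Y : ι → Scheme.{u}) (Z : Scheme.{u})
    (g : ∀ i, Y i ⟶ Z) (hg : ∀ i, IsFinite (g i)) (hsurj : ⋃ i, Set.range (g i) = Set.univ) :
    SGA1.UnivSubmersive (Sigma.desc g) := by
  haveI := isFinite_sigmaDesc ι Y Z g hg
  haveI : Surjective (Sigma.desc g) := Surjective.sigmaDesc_of_union_range_eq_univ hsurj
  exact univSubmersive_of_universallyClosed_surjective _

end Submersive

section Graphs

variable {X S Y W : Scheme.{u}} (q : X ⟶ S) {G : Type u} [Group G] (ρ : G →* Aut X)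
  (r : Y ⟶ X) (a : W ⟶ Y) (b : W ⟶ X) (υ : G → (Y ⟶ W))

/-- The graphs of the translates of `r` cover `W = Y ×_S X`. -/
theorem iUnion_range_eq_univ
    (htrans : ∀ (Ω : Type u) [Field Ω] [IsAlgClosed Ω] (τ₁ τ₂ : Spec (CommRingCat.of Ω) ⟶ X),
      τ₁ ≫ q = τ₂ ≫ q → ∃ g : G, τ₁ ≫ (ρ g).hom = τ₂)
    (hab : a ≫ r ≫ q = b ≫ q)
    (hmono : ∀ (T : Scheme.{u}) (g₁ g₂ : T ⟶ W), g₁ ≫ a = g₂ ≫ a → g₁ ≫ b = g₂ ≫ b → g₁ = g₂)
    (hυ₁ : ∀ σ, υ σ ≫ a = 𝟙 Y) (hυ₂ : ∀ σ, υ σ ≫ b = r ≫ (ρ σ).hom) :
    ⋃ σ, Set.range (υ σ) = Set.univ := by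
  rw [Set.eq_univ_iff_forall]
  intro z
  let Ω := AlgebraicClosure (W.residueField z)
  obtain ⟨zbar, hzbar⟩ : ∃ zbar : Spec (CommRingCat.of Ω) ⟶ W, zbar =
      Spec.map (CommRingCat.ofHom (algebraMap (W.residueField z) Ω)) ≫
        W.fromSpecResidueField z := ⟨_, rfl⟩
  obtain ⟨σ, hσ⟩ := htrans Ω (zbar ≫ a ≫ r) (zbar ≫ b) (by
    rw [Category.assoc, Category.assoc, Category.assoc, hab])
  have h1 : (zbar ≫ a) ≫ υ σ = zbar := by
    apply hmono
    · rw [Category.assoc, hυ₁, Category.comp_id]
    · rw [Category.assoc, hυ₂, ← hσ]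
      simp only [Category.assoc]
  let pt : ↥(Spec (CommRingCat.of Ω)) := (IsLocalRing.closedPoint Ω : PrimeSpectrum _)
  have h2 : zbar pt = z := by
    rw [hzbar, Scheme.Hom.comp_apply, Scheme.fromSpecResidueField_apply]
  rw [Set.mem_iUnion]
  refine ⟨σ, (zbar ≫ a) pt, ?_⟩
  rw [← Scheme.Hom.comp_apply, h1, h2]

omit [Group G] in
theorem isFinite_of_section [IsSeparated a] (σ : G) (hυ₁ : υ σ ≫ a = 𝟙 Y) : IsFinite (υ σ) := by
  haveI : IsFinite (υ σ ≫ a) := by rw [hυ₁]; infer_instance
  exact IsFinite.of_comp (υ σ) a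

end Graphs

end Groth.Agent.Lib.Seat62.GraphCover
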