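import Mathlib
import Groth.Prelude.Def_FEt
import Groth.Agent.Lib.Seat2FibreCard
import Groth.Agent.Lib.Seat2FEtGalois
import Groth.Agent.Lib.Seat62GraphCover

/-!
# Counting geometric points of finite étale covers over an arbitrary base

* `finite_fiberObj`: geometric fibres are finite;
* `isIso_left_of_bijective_fiber`: a morphism of finite étale covers which is bijective on all geometric
  fibres is an isomorphism (no connectedness assumption on the base);
* `fiber_cofan`, `card_fiber_cofan`: geometric fibres of a coproduct decomposition;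
* `HasDeg`, `exists_ordering`: a finite étale cover with all geometric fibres of cardinality `m` acquires
  `m` pointwise distinct sections after base change to a finite étale cover of degree `m!`.
-/

set_option autoImplicit false

namespace Groth.Agent.Lib.Seat2.SplitDeg

open CategoryTheory Limits AlgebraicGeometry Groth.Agent.Lib.Seat2.FibreCard
  Groth.Agent.Lib.Seat2.FEtGalois Groth.Agent.Lib.Seat2.FEtMono

universe u

section Points

/-- a point of a coproduct with values in a field factors through a component. -/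
lemma exists_factor_sigma {K : Type u} [Field K] {ι : Type u} (Y : ι → Scheme.{u})
    (s : Spec (CommRingCat.of K) ⟶ ∐ Y) :
    ∃ (i : ι) (a : Spec (CommRingCat.of K) ⟶ Y i), a ≫ Sigma.ι Y i = s := by
  obtain ⟨i, y, hy⟩ := (sigmaOpenCover Y).exists_eq (s (IsLocalRing.closedPoint K))
  change ι at i
  change Sigma.ι Y i y = _ at hy
  have hrange : Set.range s ⊆ Set.range (Sigma.ι Y i) := by
    rintro _ ⟨z, rfl⟩
    have hz : z = IsLocalRing.closedPoint K := Subsingleton.elim _ _
    rw [hz]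
    exact ⟨y, hy⟩
  exact ⟨i, IsOpenImmersion.lift (Sigma.ι Y i) s hrange,
    IsOpenImmersion.lift_fac (Sigma.ι Y i) s hrange⟩

end Points

section Fibre

variable {X : Scheme.{u}} {Ω : Type u} [Field Ω] [IsSepClosed Ω]
  (ξ : Spec (CommRingCat.of Ω) ⟶ X)

/-- the geometric fibres of a finite étale cover are finite. -/
lemma finite_fiberObj (Y : FEt.Cat X) : Finite (FEt.fiberObj ξ Y) := by
  let e : (fiberFunctor ξ).obj Y ≃ FEt.fiberObj ξ Y := ((fiberFunctorInclIso ξ).app Y).toEquiv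
  exact Finite.of_equiv _ e

instance (Y : FEt.Cat X) : Finite (FEt.fiberObj ξ Y) := finite_fiberObj ξ Y

instance : PreservesFiniteColimits (FEt.fiber ξ) :=
  preservesFiniteColimits_of_natIso (fiberFunctorInclIso ξ)

/-- the geometric fibre of a coproduct decomposition. -/
theorem fiber_cofan {A B Z : FEt.Cat X} (i : A ⟶ Z) (v : B ⟶ Z)
    (hc : IsColimit (BinaryCofan.mk i v)) :
    Function.Injective ((FEt.fiber ξ).map i) ∧ Function.Injective ((FEt.fiber ξ).map v) ∧
      IsCompl (Set.range ((FEt.fiber ξ).map i)) (Set.range ((FEt.fiber ξ).map v)) := by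
  have h := mapIsColimitOfPreservesOfIsColimit (FEt.fiber ξ) i v hc
  exact (Types.binaryCofan_isColimit_iff _).mp ⟨h⟩

theorem card_fiber_cofan {A B Z : FEt.Cat X} (i : A ⟶ Z) (v : B ⟶ Z)
    (hc : IsColimit (BinaryCofan.mk i v)) :
    Nat.card (FEt.fiberObj ξ Z) = Nat.card (FEt.fiberObj ξ A) + Nat.card (FEt.fiberObj ξ B) := by
  obtain ⟨h1, h2, h3⟩ := fiber_cofan ξ i v hc
  let f : FEt.fiberObj ξ A → FEt.fiberObj ξ Z := (FEt.fiber ξ).map i
  let g : FEt.fiberObj ξ B → FEt.fiberObj ξ Z := (FEt.fiber ξ).map v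
  have hbij : Function.Bijective (Sum.elim f g) := by
    constructor
    · refine Function.Injective.sumElim h1 h2 ?_
      intro a b hab
      have hd : Disjoint (Set.range f) (Set.range g) := h3.disjoint
      exact Set.disjoint_left.mp hd ⟨a, rfl⟩ ⟨b, hab.symm⟩
    · intro z
      have htop : Set.range f ∪ Set.range g = Set.univ := h3.sup_eq_top
      have : z ∈ Set.range f ∪ Set.range g := by
        rw [htop]
        trivial
      rcases this with ⟨a, rfl⟩ | ⟨b, rfl⟩
      · exact ⟨Sum.inl a, rfl⟩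
      · exact ⟨Sum.inr b, rfl⟩
  rw [← Nat.card_eq_of_bijective _ hbij, Nat.card_sum]

end Fibre

section IsoCriterion

variable {X : Scheme.{u}}

/-- **Isomorphism criterion over an arbitrary base**: a morphism of finite étale covers which is
bijective on all geometric fibres is an isomorphism. -/
theorem isIso_left_of_bijective_fiber {P Q : FEt.Cat X} (Ψ : P ⟶ Q)
    (h : ∀ (Ω : Type u) [Field Ω] [IsSepClosed Ω] (ξ : Spec (CommRingCat.of Ω) ⟶ X),
      Function.Bijective ((FEt.fiber ξ).map Ψ)) : IsIso Ψ.left := by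
  have hprop : FEt.prop Ψ.left := fet_left Ψ
  have hfin : IsFinite Ψ.left := hprop.1
  have het : Etale Ψ.left := hprop.2
  have hw : Ψ.left ≫ Q.hom = P.hom := MorphismProperty.Over.w Ψ
  let T : FEt.Cat Q.left := MorphismProperty.Over.mk ⊤ Ψ.left hprop
  rw [Scheme.Hom.isIso_iff_finrank_eq]
  ext q
  rw [Pi.one_apply]
  let Ω := AlgebraicClosure (Q.left.residueField q)
  obtain ⟨ζ, hζq⟩ : ∃ ζ : Spec (CommRingCat.of Ω) ⟶ Q.left,
      ζ (IsLocalRing.closedPoint Ω) = q :=
    ⟨Spec.map (CommRingCat.ofHom (algebraMap (Q.left.residueField q) Ω)) ≫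
      Q.left.fromSpecResidueField q, by
      rw [Scheme.Hom.comp_apply, Scheme.fromSpecResidueField_apply]⟩
  have hcard := card_fiberObj_eq_finrank ζ T
  rw [hζq] at hcard
  change _ = Scheme.Hom.finrank Ψ.left q at hcard
  rw [← hcard, Nat.card_eq_one_iff_unique]
  have hb := h Ω (ζ ≫ Q.hom)
  constructor
  · constructor
    rintro ⟨s, hs⟩ ⟨s', hs'⟩
    change Spec (CommRingCat.of Ω) ⟶ P.left at s
    change Spec (CommRingCat.of Ω) ⟶ P.left at s'
    change s ≫ Ψ.left = ζ at hs
    change s' ≫ Ψ.left = ζ at hs'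
    have hsP : s ≫ P.hom = ζ ≫ Q.hom := by
      rw [← hs, Category.assoc, hw]
    have hsP' : s' ≫ P.hom = ζ ≫ Q.hom := by
      rw [← hs', Category.assoc, hw]
    apply Subtype.ext
    have := hb.injective (a₁ := ⟨s, hsP⟩) (a₂ := ⟨s', hsP'⟩) (Subtype.ext (hs.trans hs'.symm))
    exact (congrArg Subtype.val this : s = s')
  · obtain ⟨⟨s, hsP⟩, hs⟩ := hb.surjective ⟨ζ, rfl⟩
    exact ⟨⟨s, congrArg Subtype.val hs⟩⟩

end IsoCriterion

section Ordering

/-- all geometric fibres of `Y` have cardinality `m`. -/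
def HasDeg {S : Scheme.{u}} (Y : FEt.Cat S) (m : ℕ) : Prop :=
  ∀ (Ω : Type u) [Field Ω] [IsSepClosed Ω] (ξ : Spec (CommRingCat.of Ω) ⟶ S),
    Nat.card (FEt.fiberObj ξ Y) = m

/-- the trivial cover. -/
noncomputable abbrev one (S : Scheme.{u}) : FEt.Cat S :=
  MorphismProperty.Over.mk ⊤ (𝟙 S) ⟨inferInstance, inferInstance⟩

lemma hasDeg_one (S : Scheme.{u}) : HasDeg (one S) 1 := by
  intro Ω _ _ ξ
  rw [Nat.card_eq_one_iff_unique]
  constructor
  · constructor
    rintro ⟨s, hs⟩ ⟨s', hs'⟩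
    change Spec (CommRingCat.of Ω) ⟶ S at s
    change Spec (CommRingCat.of Ω) ⟶ S at s'
    change s ≫ 𝟙 S = ξ at hs
    change s' ≫ 𝟙 S = ξ at hs'
    apply Subtype.ext
    exact ((Category.comp_id s).symm.trans hs).trans ((Category.comp_id s').symm.trans hs').symm
  · exact ⟨⟨ξ, Category.comp_id ξ⟩⟩

/-- the composite of two finite étale covers. -/
noncomputable abbrev comp {S : Scheme.{u}} (Y : FEt.Cat S) (T' : FEt.Cat Y.left) : FEt.Cat S :=
  MorphismProperty.Over.mk ⊤ (T'.hom ≫ Y.hom) (FEt.prop.comp_mem _ _ T'.prop Y.prop)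

/-- the geometric fibres of a composite. -/
noncomputable def fiberCompEquiv {S : Scheme.{u}} (Y : FEt.Cat S) (T' : FEt.Cat Y.left)
    {Ω : Type u} [Field Ω] (ξ : Spec (CommRingCat.of Ω) ⟶ S) :
    FEt.fiberObj ξ (comp Y T') ≃ Σ y : FEt.fiberObj ξ Y, FEt.fiberObj y.1 T' where
  toFun t := ⟨⟨(t.1 : _ ⟶ T'.left) ≫ T'.hom, (Category.assoc _ _ _).trans t.2⟩, ⟨t.1, rfl⟩⟩
  invFun p := ⟨p.2.1, by
    have h1 : (p.2.1 : _ ⟶ T'.left) ≫ T'.hom = p.1.1 := p.2.2
    have h2 : (p.1.1 : _ ⟶ Y.left) ≫ Y.hom = ξ := p.1.2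
    change (p.2.1 : _ ⟶ T'.left) ≫ T'.hom ≫ Y.hom = ξ
    rw [← Category.assoc, h1, h2]⟩
  left_inv t := rfl
  right_inv p := by
    rcases p with ⟨⟨y, hy⟩, ⟨t, ht⟩⟩
    change (t : _ ⟶ T'.left) ≫ T'.hom = y at ht
    subst ht
    rfl

section Aux

variable {B S W A T : Scheme.{u}} (p : B ⟶ S)

lemma aux_fst_comp (z : W ⟶ pullback p p) (y : W ⟶ B)
    (hz : z ≫ pullback.snd p p = y) : (z ≫ pullback.fst p p) ≫ p = y ≫ p := by
  rw [Category.assoc, pullback.condition, ← Category.assoc, hz]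

lemma aux_over (τ : T ⟶ A) (jl : A ⟶ pullback p p) (q : A ⟶ B) (r : T ⟶ B)
    (hj : jl ≫ pullback.snd p p = q) (hτ : τ ≫ q = r) :
    (τ ≫ jl ≫ pullback.fst p p) ≫ p = r ≫ p := by
  rw [Category.assoc, Category.assoc, pullback.condition, ← Category.assoc jl, hj,
    ← Category.assoc, hτ]

lemma aux_diag (y : W ⟶ B) (z : W ⟶ pullback p p)
    (h1 : z ≫ pullback.fst p p = y) (h2 : z ≫ pullback.snd p p = y) :
    y ≫ pullback.lift (𝟙 B) (𝟙 B) rfl = z := by
  apply pullback.hom_ext
  · rw [Category.assoc, pullback.lift_fst, Category.comp_id, h1]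
  · rw [Category.assoc, pullback.lift_snd, Category.comp_id, h2]

lemma aux_snd (t : W ⟶ T) (τ : T ⟶ A) (jl : A ⟶ pullback p p) (q : A ⟶ B) (y : W ⟶ B)
    (hj : jl ≫ pullback.snd p p = q) (hw : (t ≫ τ) ≫ q = y) :
    ((t ≫ τ) ≫ jl) ≫ pullback.snd p p = y := by
  rw [Category.assoc, hj, hw]

end Aux

/-- the geometric fibres of `Y ×_S Y → Y`. -/
noncomputable def fiberSelfEquiv {S : Scheme.{u}} (Y : FEt.Cat S)
    {Ω : Type u} [Field Ω] (y : Spec (CommRingCat.of Ω) ⟶ Y.left) :
    FEt.fiberObj y ((FEt.restrict Y.hom).obj Y) ≃ FEt.fiberObj (y ≫ Y.hom) Y where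
  toFun z := ⟨(z.1 : _ ⟶ pullback Y.hom Y.hom) ≫ pullback.fst Y.hom Y.hom,
    aux_fst_comp Y.hom z.1 y z.2⟩
  invFun w := ⟨pullback.lift w.1 y w.2, pullback.lift_snd _ _ _⟩
  left_inv z := by
    have hz : (z.1 : _ ⟶ pullback Y.hom Y.hom) ≫ pullback.snd Y.hom Y.hom = y := z.2
    apply Subtype.ext
    apply pullback.hom_ext
    · exact pullback.lift_fst _ _ _
    · exact (pullback.lift_snd _ _ _).trans hz.symm
  right_inv w := Subtype.ext (pullback.lift_fst _ _ _)

/-- **Ordering the fibres**: a finite étale cover all of whose geometric fibres have `m` elements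
acquires `m` pointwise distinct sections over a finite étale cover with all geometric fibres of
cardinality `m!`. -/
theorem exists_ordering (m : ℕ) : ∀ {S : Scheme.{u}} (Y : FEt.Cat S), HasDeg Y m →
    ∃ (T : FEt.Cat S) (σ : Fin m → (T.left ⟶ Y.left)), HasDeg T m.factorial ∧
      (∀ i, σ i ≫ Y.hom = T.hom) ∧
      ∀ (Ω : Type u) [Field Ω] [IsSepClosed Ω] (t : Spec (CommRingCat.of Ω) ⟶ T.left),
        Function.Injective (fun i : Fin m => t ≫ σ i) := by
  induction m with
  | zero =>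
    intro S Y _
    exact ⟨one S, fun i => i.elim0, hasDeg_one S, fun i => i.elim0, fun Ω _ _ t i => i.elim0⟩
  | succ m ih =>
    intro S Y hY
    let Z : FEt.Cat Y.left := (FEt.restrict Y.hom).obj Y
    let Δ : one Y.left ⟶ Z := MorphismProperty.Over.homMk
      (pullback.lift (𝟙 Y.left) (𝟙 Y.left) rfl) (pullback.lift_snd _ _ _) trivial
    haveI : Mono Δ := ⟨fun g h _ => by
      ext
      have hg : g.left ≫ 𝟙 Y.left = _ := MorphismProperty.Over.w g
      have hh : h.left ≫ 𝟙 Y.left = _ := MorphismProperty.Over.w h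
      exact ((Category.comp_id _).symm.trans hg).trans ((Category.comp_id _).symm.trans hh).symm⟩
    obtain ⟨Y', j, ⟨hc⟩⟩ := exists_summand Δ
    have hY' : HasDeg Y' m := by
      intro Ω _ _ y
      have h1 := card_fiber_cofan y Δ j hc
      rw [hasDeg_one Y.left Ω y, Nat.card_congr (fiberSelfEquiv Y y), hY Ω (y ≫ Y.hom)] at h1
      omega
    obtain ⟨T', τ, hT', hτ, hinj⟩ := ih Y' hY'
    have hj : j.left ≫ pullback.snd Y.hom Y.hom = Y'.hom := MorphismProperty.Over.w j
    refine ⟨comp Y T', Fin.cons (α := fun _ => (T'.left ⟶ Y.left)) T'.hom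
      (fun i => τ i ≫ j.left ≫ pullback.fst Y.hom Y.hom), ?_, ?_, ?_⟩
    · intro Ω _ _ ξ
      rw [Nat.card_congr (fiberCompEquiv Y T' ξ)]
      haveI : Fintype (FEt.fiberObj ξ Y) := Fintype.ofFinite _
      rw [Nat.card_sigma]
      simp only [hT' Ω _]
      rw [Finset.sum_const, Finset.card_univ, ← Nat.card_eq_fintype_card, hY Ω ξ, smul_eq_mul,
        Nat.factorial_succ]
    · intro i
      refine Fin.cases ?_ (fun i => ?_) i
      · rfl
      · rw [Fin.cons_succ]
        exact aux_over Y.hom (τ i) j.left Y'.hom T'.hom hj (hτ i)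
    · intro Ω _ _ t
      change Spec (CommRingCat.of Ω) ⟶ T'.left at t
      obtain ⟨y, hy⟩ : ∃ y : Spec (CommRingCat.of Ω) ⟶ Y.left, y = t ≫ T'.hom := ⟨_, rfl⟩
      obtain ⟨hΔinj, hjinj, hcompl⟩ := fiber_cofan y Δ j hc
      have hw : ∀ i, (t ≫ τ i) ≫ Y'.hom = y := fun i =>
        (Category.assoc _ _ _).trans ((congrArg (fun m => t ≫ m) (hτ i)).trans hy.symm)
      have hz2 : ∀ i, ((t ≫ τ i) ≫ j.left) ≫ pullback.snd Y.hom Y.hom = y := fun i =>
        aux_snd Y.hom t (τ i) j.left Y'.hom y hj (hw i)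
      have key1 : ∀ i, (t ≫ τ i) ≫ j.left ≫ pullback.fst Y.hom Y.hom ≠ y := by
        intro i hi
        have hz : y ≫ pullback.lift (𝟙 Y.left) (𝟙 Y.left) rfl = (t ≫ τ i) ≫ j.left :=
          aux_diag Y.hom y ((t ≫ τ i) ≫ j.left) ((Category.assoc _ _ _).trans hi) (hz2 i)
        have hd : Disjoint (Set.range ((FEt.fiber y).map Δ)) (Set.range ((FEt.fiber y).map j)) :=
          hcompl.disjoint
        have hmem1 : (⟨(t ≫ τ i) ≫ j.left, hz2 i⟩ : FEt.fiberObj y Z) ∈
            Set.range ((FEt.fiber y).map Δ) := ⟨⟨y, Category.comp_id y⟩, Subtype.ext hz⟩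
        have hmem2 : (⟨(t ≫ τ i) ≫ j.left, hz2 i⟩ : FEt.fiberObj y Z) ∈
            Set.range ((FEt.fiber y).map j) := ⟨⟨t ≫ τ i, hw i⟩, rfl⟩
        exact Set.disjoint_left.mp hd hmem1 hmem2
      have key2 : ∀ i i', (t ≫ τ i) ≫ j.left ≫ pullback.fst Y.hom Y.hom =
          (t ≫ τ i') ≫ j.left ≫ pullback.fst Y.hom Y.hom → i = i' := by
        intro i i' h
        apply hinj Ω t
        change t ≫ τ i = t ≫ τ i'
        have : (⟨t ≫ τ i, hw i⟩ : FEt.fiberObj y Y') = ⟨t ≫ τ i', hw i'⟩ := by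
          apply hjinj
          apply Subtype.ext
          change (t ≫ τ i) ≫ j.left = (t ≫ τ i') ≫ j.left
          refine pullback.hom_ext (f := Y.hom) (g := Y.hom) ?_ ?_
          · exact ((Category.assoc _ _ _).trans h).trans (Category.assoc _ _ _).symm
          · exact (hz2 i).trans (hz2 i').symm
        exact congrArg Subtype.val this
      intro a b
      refine Fin.cases ?_ (fun i => ?_) a <;> refine Fin.cases ?_ (fun i' => ?_) b
      · intro _
        rfl
      · intro h
        simp only [Fin.cons_zero, Fin.cons_succ] at h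
        exact absurd ((Category.assoc _ _ _).trans (h.symm.trans hy.symm)) (key1 i')
      · intro h
        simp only [Fin.cons_zero, Fin.cons_succ] at h
        exact absurd ((Category.assoc _ _ _).trans (h.trans hy.symm)) (key1 i)
      · intro h
        simp only [Fin.cons_succ] at h
        rw [key2 i i' ((Category.assoc _ _ _).trans (h.trans (Category.assoc _ _ _).symm))]

end Ordering

end Groth.Agent.Lib.Seat2.SplitDeg
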