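import Mathlib
import Groth.Prelude.Def_PBC
import Groth.Prelude.Def_EtCore
import Groth.Prelude.Def_EtShriek2
import Groth.Prelude.Def_FEt
import Groth.Agent.Lib.Seat2SplitDeg
import Groth.Agent.Lib.Helper9EtPull
import Groth.Agent.Lib.Seat29EtPull
import Groth.Agent.Lib.Seat29EtFinPushSplit
import Groth.Agent.Lib.Seat29EtFLCProd

/-!
# Finite étale direct images of finite locally constant sheaves (seat 29)
-/

set_option autoImplicit false
set_option linter.style.haveILetI false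
set_option linter.unusedSectionVars false

universe u

open CategoryTheory CategoryTheory.Limits AlgebraicGeometry Opposite

namespace Groth.Agent.Lib.Seat29.EtFinPushFLC

open Groth.Agent.Lib.Seat29.EtFinPushSplit Groth.Agent.Lib.Seat29.EtFLCProd
  Groth.Agent.Lib.Seat29.EtConstrPull Groth.Agent.Lib.Seat29.EtStalkConstr
  Groth.Agent.Lib.Seat2.SplitDeg Groth.Agent.Lib.Seat2.FibreCard

attribute [local instance] Groth.Agent.Lib.Helper9.JContAll.jCont

variable {X Y : Scheme.{u}} (f : X ⟶ Y) [IsFinite f] [Etale f]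

/-- **Local splitting**: around every point of `Y` there are an étale `h : T ⟶ Y` whose image
contains the point and sections `σ i : T ⟶ X` over `Y` enumerating the geometric fibres of `f`
without repetition. -/
theorem exists_splitting (y : Y) :
    ∃ (T : Scheme.{u}) (h : T ⟶ Y) (_ : Etale h) (t : T) (m : ℕ) (σ : Fin m → (T ⟶ X)),
      h.base t = y ∧ (∀ i, σ i ≫ f = h) ∧
      (∀ (Ω : Type u) [Field Ω] [IsSepClosed Ω] (t : Spec (CommRingCat.of Ω) ⟶ T),
        Function.Injective (fun i => t ≫ σ i)) ∧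
      (∀ (Ω : Type u) [Field Ω] [IsSepClosed Ω] (t : Spec (CommRingCat.of Ω) ⟶ T)
        (x : Spec (CommRingCat.of Ω) ⟶ X), x ≫ f = t ≫ h → ∃ i, x = t ≫ σ i) := by
  have hlc := Scheme.Hom.isLocallyConstant_finrank f
  obtain ⟨U, hU, hyU, hconst⟩ := (IsLocallyConstant.iff_exists_open _).1 hlc y
  let Y₀ : Y.Opens := ⟨U, hU⟩
  let m := Scheme.Hom.finrank f y
  let f₀ : pullback f Y₀.ι ⟶ Y₀ := pullback.snd f Y₀.ι
  let Yobj : FEt.Cat Y₀ := MorphismProperty.Over.mk ⊤ f₀ ⟨inferInstance, inferInstance⟩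
  have hdeg : HasDeg Yobj m := by
    intro Ω _ _ ξ
    rw [card_fiberObj_eq_finrank ξ Yobj]
    change Scheme.Hom.finrank (pullback.snd f Y₀.ι) _ = m
    rw [Scheme.Hom.finrank_pullback_snd]
    exact hconst _ (ξ (IsLocalRing.closedPoint Ω)).2
  obtain ⟨T, σ, hT, hσ, hinj⟩ := exists_ordering m Yobj hdeg
  have hTet : Etale T.hom := T.prop.2
  let h : T.left ⟶ Y := T.hom ≫ Y₀.ι
  let σ' : Fin m → (T.left ⟶ X) := fun i => σ i ≫ pullback.fst f Y₀.ι
  have hσ₀ : ∀ i, σ i ≫ pullback.snd f Y₀.ι = T.hom := hσ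
  have hσ' : ∀ i, σ' i ≫ f = h := by
    intro i
    change (σ i ≫ pullback.fst f Y₀.ι) ≫ f = T.hom ≫ Y₀.ι
    exact (Category.assoc _ _ _).trans
      ((congrArg (fun k => σ i ≫ k) (pullback.condition (f := f) (g := Y₀.ι))).trans
      ((Category.assoc _ _ _).symm.trans (congrArg (fun k => k ≫ Y₀.ι) (hσ₀ i))))
  -- a point of `T` over `y`
  obtain ⟨t, ht⟩ : ∃ t : T.left, h.base t = y := by
    obtain ⟨Ω, _, _, ξ, hξ⟩ := exists_geometric_point_over (X := Y₀.toScheme) ⟨y, hyU⟩
    have hc := hT Ω ξ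
    have hne : Nonempty (FEt.fiberObj ξ T) := by
      by_contra hne
      rw [not_nonempty_iff] at hne
      rw [Nat.card_of_isEmpty] at hc
      exact (Nat.factorial_pos m).ne hc
    obtain ⟨⟨s, hs⟩⟩ := hne
    refine ⟨s default, ?_⟩
    change (T.hom ≫ Y₀.ι) (s default) = y
    rw [Scheme.Hom.comp_apply, ← Scheme.Hom.comp_apply s T.hom, hs, hξ]
    rfl
  refine ⟨T.left, h, inferInstance, t, m, σ', ht, hσ', ?_, ?_⟩
  · intro Ω _ _ t i j hij
    apply hinj Ω t
    change t ≫ σ i = t ≫ σ j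
    refine pullback.hom_ext (f := f) (g := Y₀.ι) ?_ ?_
    · exact (Category.assoc _ _ _).trans (hij.trans (Category.assoc _ _ _).symm)
    · exact (Category.assoc _ _ _).trans ((congrArg (fun k => t ≫ k) ((hσ₀ i).trans (hσ₀ j).symm)).trans
        (Category.assoc _ _ _).symm)
  · intro Ω _ _ t x hx
    let ξ : Spec (CommRingCat.of Ω) ⟶ Y₀ := t ≫ T.hom
    have hx' : x ≫ f = ξ ≫ Y₀.ι := hx.trans (Category.assoc _ _ _).symm
    let x₀ : FEt.fiberObj ξ Yobj := ⟨pullback.lift x ξ hx', pullback.lift_snd _ _ _⟩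
    let φ : Fin m → FEt.fiberObj ξ Yobj := fun i =>
      ⟨t ≫ σ i, (Category.assoc _ _ _).trans (congrArg (fun k => t ≫ k) (hσ₀ i))⟩
    have hφ : Function.Injective φ := fun i j hij =>
      hinj Ω t (congrArg Subtype.val hij)
    have hbij : Function.Bijective φ := by
      apply hφ.bijective_of_nat_card_le
      rw [hdeg Ω ξ, Nat.card_eq_fintype_card, Fintype.card_fin]
    obtain ⟨i, hi⟩ := hbij.2 x₀
    refine ⟨i, ?_⟩
    have h1 : t ≫ σ i = pullback.lift x ξ hx' := congrArg Subtype.val hi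
    change x = t ≫ σ i ≫ pullback.fst f Y₀.ι
    exact ((pullback.lift_fst x ξ hx').symm.trans
      (congrArg (fun k => k ≫ pullback.fst f Y₀.ι) h1.symm)).trans (Category.assoc _ _ _)

/-- **The direct image of a finite locally constant sheaf along a finite étale morphism is finite
locally constant.** -/
theorem isFLC_push (F : EtCoh.Ab X) (hF : EtCoh.IsFiniteLocallyConstant F) :
    EtCoh.IsFiniteLocallyConstant ((EtCoh.push f).obj F) := by
  apply isFLC_of_forall_etale
  intro y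
  obtain ⟨T, h, hh, t, m, σ, ht, hσ, hinj, hsurj⟩ := exists_splitting f y
  refine ⟨T, h, hh, t, ht, ?_⟩
  haveI : ∀ i, Etale (σ i) := fun i => etale_of_section f h (σ i) (hσ i)
  haveI := isIso_piLift_Phi f h σ hσ hinj hsurj F
  have hG : ∀ i, EtCoh.IsFiniteLocallyConstant ((EtShriek.restrAlong (σ i)).obj F) := fun i =>
    isFLC_of_iso ((Groth.Agent.Lib.Helper9.EtPull.rho (σ i)).app F)
      (Groth.Agent.Lib.Seat29.EtPull.isFiniteLocallyConstant_pull (σ i) F hF)
  have hprod : EtCoh.IsFiniteLocallyConstant (∏ᶜ fun i => (EtShriek.restrAlong (σ i)).obj F) :=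
    isFLC_of_isLimit_fan m _ hG _ (productIsProduct _)
  have hE : EtCoh.IsFiniteLocallyConstant
      ((EtShriek.restrAlong h).obj ((EtCoh.push f).obj F)) :=
    isFLC_of_iso (asIso (Pi.lift (fun i => Phi f h (σ i) (hσ i) F))).symm hprod
  exact isFLC_of_iso ((Groth.Agent.Lib.Helper9.EtPull.rho h).app _).symm hE

end Groth.Agent.Lib.Seat29.EtFinPushFLC
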