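import Mathlib
import Groth.Prelude.Def_PBC
import Groth.Prelude.Def_EtShriek2
import Groth.Agent.Lib.Helper9JContAll
import Groth.Agent.Lib.Helper16SmallEtale
import Groth.Agent.Lib.Seat29ConstRes
import Groth.Agent.Lib.Helper9EtPull

/-!
# The over-site of an étale `X`-scheme versus its own small étale site (seat 29)

For an étale morphism `h : S ⟶ X`, let `W₀ h = (S ⟶ X)` as an object of `X.Etale`.  The functor
`R h : Over (W₀ h) ⥤ S.Etale`, `(Z ⟶ W₀) ↦ (Z ⟶ S)`, is continuous and cocontinuous, and
`R ⋙ compEtale h ≅ Over.forget (W₀ h)`.  Consequently, if the restriction of `F` to the scheme `S`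
is a constant sheaf, then `F.over (W₀ h)` is a constant sheaf.
-/

set_option autoImplicit false

universe u

open CategoryTheory CategoryTheory.Limits AlgebraicGeometry Opposite

namespace Groth.Agent.Lib.Seat29.EtOverBridge

open Groth.Agent.Lib.Helper16.SmallEtale Groth.Agent.Lib.Seat29.ConstRes

variable {S X : Scheme.{u}} (h : S ⟶ X) [hh : Etale h]

/-- `S ⟶ X` as an object of the small étale site of `X`. -/
noncomputable abbrev W₀ : X.Etale := (EtShriek.compEtale h).obj (EtCoh.top S)

lemma W₀_hom : (W₀ h).hom = 𝟙 S ≫ h := rfl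

lemma hom_left_comp (Z : Over (W₀ h)) : Z.hom.left ≫ h = Z.left.hom := by
  have := MorphismProperty.Over.w Z.hom
  rw [W₀_hom, Category.id_comp] at this
  exact this

lemma etale_hom_left (Z : Over (W₀ h)) : EtCoh.etaleMP (Z.hom.left : Z.left.left ⟶ S) := by
  have hW : EtCoh.etaleMP (Z.hom.left ≫ h) := by
    rw [hom_left_comp]; exact Z.left.prop
  exact EtCoh.etaleMP.of_postcomp (W' := EtCoh.etaleMP) Z.hom.left h hh hW

/-- The functor `(Z ⟶ W₀) ↦ (Z ⟶ S)`. -/
noncomputable def R : Over (W₀ h) ⥤ S.Etale where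
  obj Z := MorphismProperty.Over.mk ⊤ (Z.hom.left : Z.left.left ⟶ S) (etale_hom_left h Z)
  map {Z₁ Z₂} f := MorphismProperty.Over.homMk f.left.left
    (congrArg (fun m => m.left) (Over.w f))
  map_id Z := MorphismProperty.Over.Hom.ext rfl
  map_comp f g := MorphismProperty.Over.Hom.ext rfl

@[simp] lemma R_obj_left (Z : Over (W₀ h)) : ((R h).obj Z).left = Z.left.left := rfl
@[simp] lemma R_obj_hom (Z : Over (W₀ h)) : ((R h).obj Z).hom = Z.hom.left := rfl
@[simp] lemma R_map_left {Z₁ Z₂ : Over (W₀ h)} (f : Z₁ ⟶ Z₂) :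
    ((R h).map f).left = f.left.left := rfl

/-- The inverse construction on objects. -/
noncomputable def liftObj (V : S.Etale) : Over (W₀ h) :=
  Over.mk (MorphismProperty.Over.homMk V.hom (by
    exact congrArg (fun t => V.hom ≫ t) (Category.id_comp h)) :
    (EtShriek.compEtale h).obj V ⟶ W₀ h)

/-- `R (liftObj V) ≅ V`. -/
noncomputable def RLiftIso (V : S.Etale) : (R h).obj (liftObj h V) ≅ V :=
  MorphismProperty.Over.isoMk (Iso.refl _) (by
    exact Category.id_comp V.hom)

/-- `R ⋙ compEtale h ≅ Over.forget W₀`. -/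
noncomputable def η : R h ⋙ EtShriek.compEtale h ≅ Over.forget (W₀ h) :=
  NatIso.ofComponents (fun Z => MorphismProperty.Over.isoMk (Iso.refl _)
    (by
      exact (Category.id_comp Z.left.hom).trans (hom_left_comp h Z).symm)) (fun {Z₁ Z₂} f => by
      apply MorphismProperty.Over.Hom.ext
      exact (Category.comp_id f.left.left).trans (Category.id_comp f.left.left).symm)

instance : (R h).Faithful where
  map_injective {Z₁ Z₂} f g hfg := by
    apply Over.OverMorphism.ext
    apply MorphismProperty.Over.Hom.ext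
    exact congrArg (fun m => m.left) hfg

instance : (R h).Full where
  map_surjective {Z₁ Z₂} φ := by
    have hφ : φ.left ≫ Z₂.hom.left = Z₁.hom.left := MorphismProperty.Over.w φ
    have h1 : φ.left ≫ Z₂.left.hom = Z₁.left.hom :=
      (congrArg (fun t => φ.left ≫ t) (hom_left_comp h Z₂).symm).trans
        ((Category.assoc _ _ _).symm.trans
          ((congrArg (fun t => t ≫ h) hφ).trans (hom_left_comp h Z₁)))
    let f₀ : Z₁.left ⟶ Z₂.left := MorphismProperty.Over.homMk φ.left h1
    have h2 : f₀ ≫ Z₂.hom = Z₁.hom := MorphismProperty.Over.Hom.ext hφ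
    exact ⟨Over.homMk f₀ h2, MorphismProperty.Over.Hom.ext rfl⟩

lemma compatiblePreserving_R :
    CompatiblePreserving S.smallEtaleTopology (R h) :=
  compatiblePreservingOfDownwardsClosed _ (R h) (fun {_ d} _ => ⟨liftObj h d, RLiftIso h d⟩)

lemma coverPreserving_R :
    CoverPreserving (X.smallEtaleTopology.over (W₀ h)) S.smallEtaleTopology (R h) := by
  constructor
  intro Z 𝒮 h𝒮
  rw [GrothendieckTopology.mem_over_iff, mem_smallEtale_iff] at h𝒮
  rw [mem_smallEtale_iff]
  intro x
  obtain ⟨V, g, y, hg, hy⟩ := h𝒮 x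
  rw [Sieve.overEquiv_iff] at hg
  exact ⟨(R h).obj (Over.mk (g ≫ Z.hom)), (R h).map (Over.homMk g), y,
    Sieve.image_mem_functorPushforward _ _ hg, hy⟩

instance isContinuous_R :
    (R h).IsContinuous (X.smallEtaleTopology.over (W₀ h)) S.smallEtaleTopology :=
  Functor.isContinuous_of_coverPreserving (compatiblePreserving_R h) (coverPreserving_R h)

instance isCocontinuous_R :
    (R h).IsCocontinuous (X.smallEtaleTopology.over (W₀ h)) S.smallEtaleTopology where
  cover_lift {Z 𝒯} h𝒯 := by
    rw [mem_smallEtale_iff] at h𝒯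
    rw [GrothendieckTopology.mem_over_iff, mem_smallEtale_iff]
    intro x
    obtain ⟨V', g', y, hg', hy⟩ := h𝒯 x
    have hg'w : g'.left ≫ Z.hom.left = V'.hom := MorphismProperty.Over.w g'
    have h1 : g'.left ≫ Z.left.hom = V'.hom ≫ h :=
      (congrArg (fun t => g'.left ≫ t) (hom_left_comp h Z).symm).trans
        ((Category.assoc _ _ _).symm.trans (congrArg (fun t => t ≫ h) hg'w))
    let g : (EtShriek.compEtale h).obj V' ⟶ Z.left := MorphismProperty.Over.homMk g'.left h1
    refine ⟨(EtShriek.compEtale h).obj V', g, y, ?_, hy⟩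
    rw [Sieve.overEquiv_iff]
    change 𝒯 ((R h).map (Over.homMk g : Over.mk (g ≫ Z.hom) ⟶ Z))
    let e : (R h).obj (Over.mk (g ≫ Z.hom)) ≅ V' :=
      MorphismProperty.Over.isoMk (Iso.refl _) ((Category.id_comp _).trans hg'w.symm)
    have he : (R h).map (Over.homMk g : Over.mk (g ≫ Z.hom) ⟶ Z) = e.hom ≫ g' :=
      MorphismProperty.Over.Hom.ext (Category.id_comp _).symm
    rw [he]
    exact 𝒯.downward_closed hg' e.hom

section Sheaf

variable [EtShriek.JCont h]

/-- `F.over W₀` is the restriction along `R` of the restriction of `F` to `S`. -/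
noncomputable def overIso (F : EtCoh.Ab X) :
    F.over (W₀ h) ≅ ((R h).sheafPushforwardContinuous AddCommGrpCat.{u + 1}
      (X.smallEtaleTopology.over (W₀ h)) S.smallEtaleTopology).obj
        ((EtShriek.restrAlong h).obj F) :=
  (fullyFaithfulSheafToPresheaf _ _).preimageIso
    (NatIso.ofComponents (fun Z => F.obj.mapIso ((η h).app Z.unop).op)
      (fun {Z₁ Z₂} f => by
        change F.obj.map _ ≫ F.obj.map _ = F.obj.map _ ≫ F.obj.map _
        rw [← F.obj.map_comp, ← F.obj.map_comp]
        exact congrArg (fun t => F.obj.map t)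
          (congrArg Quiver.Hom.op ((η h).hom.naturality f.unop))))

/-- **Bridge**: if the inverse image of `F` on the scheme `S` (étale over `X` via `h`) is a
constant sheaf, then `F` restricted to the over-site of `(S ⟶ X)` is a constant sheaf. -/
theorem nonempty_over_iso_of_restr_iso (F : EtCoh.Ab X) (M : AddCommGrpCat.{u + 1})
    (β : (EtShriek.restrAlong h).obj F ≅
      (constantSheaf S.smallEtaleTopology AddCommGrpCat.{u + 1}).obj M) :
    Nonempty (F.over (W₀ h) ≅
      (constantSheaf (X.smallEtaleTopology.over (W₀ h)) AddCommGrpCat.{u + 1}).obj M) :=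
  ⟨overIso h F ≪≫
    ((R h).sheafPushforwardContinuous AddCommGrpCat.{u + 1}
      (X.smallEtaleTopology.over (W₀ h)) S.smallEtaleTopology).mapIso β ≪≫
    (constPullIso (R h) AddCommGrpCat.{u + 1} (X.smallEtaleTopology.over (W₀ h))
      S.smallEtaleTopology).app M⟩

end Sheaf

/-- **Bridge**, in terms of `EtCoh.pull`. -/
theorem nonempty_over_iso_of_pull_iso (F : EtCoh.Ab X) (M : AddCommGrpCat.{u + 1})
    (β : (EtCoh.pull h).obj F ≅
      (constantSheaf S.smallEtaleTopology AddCommGrpCat.{u + 1}).obj M) :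
    Nonempty (F.over (W₀ h) ≅
      (constantSheaf (X.smallEtaleTopology.over (W₀ h)) AddCommGrpCat.{u + 1}).obj M) := by
  have : EtShriek.JCont h := Groth.Agent.Lib.Helper9.JContAll.jCont h
  exact nonempty_over_iso_of_restr_iso h F M
    (((Groth.Agent.Lib.Helper9.EtPull.rho h).app F).symm ≪≫ β)

end Groth.Agent.Lib.Seat29.EtOverBridge
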