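import Mathlib
import Groth.Prelude.Def_PBC
import Groth.Agent.Lib.Helper16EtStalk

/-!
# Isomorphisms of étale sheaves can be tested on one geometric point per point (seat 29)

Variants of `Helper16EtStalk.isLocallyInjective_of_stalks` etc. where the stalk condition is only
required at one (chosen) geometric point over each point of the scheme.
-/

set_option autoImplicit false

universe u

open CategoryTheory CategoryTheory.Limits AlgebraicGeometry Opposite

namespace Groth.Agent.Lib.Seat29.EtStalkIso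

open Groth.Agent.Lib.Helper16.EtStalk Groth.Agent.Lib.Helper16.SmallEtale

variable {X : Scheme.{u}}

/-- Lift a geometric point over `U.hom p` to a point of the fibre of `U` through `p`. -/
lemma exists_fiber_point (U : X.Etale) (p : U.left) {Ω : Type u} [Field Ω] [IsSepClosed Ω]
    (ξ : Spec (CommRingCat.of Ω) ⟶ X)
    (hξ : ξ (default : Spec (CommRingCat.of Ω)) = U.hom p) :
    ∃ x : (Scheme.pointSmallEtale ξ).fiber.obj U,
      (x.left : Spec (CommRingCat.of Ω) ⟶ U.left) (default : Spec (CommRingCat.of Ω)) = p := by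
  obtain ⟨l, hl, hlp⟩ := Scheme.exists_fac_of_etale_of_isSepClosed U.hom ξ p hξ.symm
  exact ⟨Over.homMk l hl, hlp⟩

set_option backward.isDefEq.respectTransparency.types false in
lemma isLocallyInjective_of_stalks' {F G : EtCoh.Ab X} (a : F ⟶ G)
    (h : ∀ p : X, ∃ (Ω : Type u) (_ : Field Ω) (_ : IsSepClosed Ω)
      (ξ : Spec (CommRingCat.of Ω) ⟶ X), ξ (default : Spec (CommRingCat.of Ω)) = p ∧
      Function.Injective ((EtCoh.stalk ξ).map a)) :
    Sheaf.IsLocallyInjective a := by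
  constructor
  intro U x y hxy
  induction U using Opposite.rec with | _ U => ?_
  rw [mem_smallEtale_iff]
  intro p
  obtain ⟨Ω, _, _, ξ, hξ, hinj⟩ := h (U.hom p)
  obtain ⟨x₀, hx₀⟩ := exists_fiber_point U p ξ hξ
  let Φ := Scheme.pointSmallEtale ξ
  have e1 : (EtCoh.stalk ξ).map a (Φ.toPresheafFiber U x₀ F.obj x) =
      (EtCoh.stalk ξ).map a (Φ.toPresheafFiber U x₀ F.obj y) := by
    have n1 := Φ.toPresheafFiber_naturality_apply a.hom U x₀ x
    have n2 := Φ.toPresheafFiber_naturality_apply a.hom U x₀ y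
    exact n1.trans ((congrArg _ hxy).trans n2.symm)
  have e2 := hinj e1
  obtain ⟨W, g, w, hw, hg⟩ := (Φ.toPresheafFiber_eq_iff' U x₀ x y).mp e2
  refine ⟨W, g, (w.left : Spec (CommRingCat.of Ω) ⟶ W.left) (default : Spec (CommRingCat.of Ω)),
    hg, ?_⟩
  have e3 : w.left ≫ g.left = x₀.left := congrArg (fun m => m.left) hw
  rw [← hx₀]
  exact congrArg (fun m : Spec (CommRingCat.of Ω) ⟶ U.left => m default) e3

set_option backward.isDefEq.respectTransparency.types false in
lemma isLocallySurjective_of_stalks' {F G : EtCoh.Ab X} (a : F ⟶ G)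
    (h : ∀ p : X, ∃ (Ω : Type u) (_ : Field Ω) (_ : IsSepClosed Ω)
      (ξ : Spec (CommRingCat.of Ω) ⟶ X), ξ (default : Spec (CommRingCat.of Ω)) = p ∧
      Function.Surjective ((EtCoh.stalk ξ).map a)) :
    Sheaf.IsLocallySurjective a := by
  constructor
  intro U t
  rw [mem_smallEtale_iff]
  intro p
  obtain ⟨Ω, _, _, ξ, hξ, hsurj⟩ := h (U.hom p)
  obtain ⟨x₀, hx₀⟩ := exists_fiber_point U p ξ hξ
  let Φ := Scheme.pointSmallEtale ξ
  obtain ⟨σ, hσ⟩ := hsurj (Φ.toPresheafFiber U x₀ G.obj t)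
  obtain ⟨V, v, s, rfl⟩ := Φ.toPresheafFiber_jointly_surjective (P := F.obj) σ
  have n1 : (EtCoh.stalk ξ).map a (Φ.toPresheafFiber V v F.obj s) =
      Φ.toPresheafFiber V v G.obj (a.hom.app (op V) s) :=
    Φ.toPresheafFiber_naturality_apply a.hom V v s
  let m : Φ.fiber.Elements := IsCofiltered.min (⟨V, v⟩ : Φ.fiber.Elements) ⟨U, x₀⟩
  let gV : m ⟶ ⟨V, v⟩ := IsCofiltered.minToLeft _ _
  let gU : m ⟶ ⟨U, x₀⟩ := IsCofiltered.minToRight _ _
  have hgV : Φ.fiber.map gV.1 m.2 = v := gV.2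
  have hgU : Φ.fiber.map gU.1 m.2 = x₀ := gU.2
  have e1 : Φ.toPresheafFiber m.1 m.2 G.obj (G.obj.map gU.1.op t) =
      Φ.toPresheafFiber m.1 m.2 G.obj (G.obj.map gV.1.op (a.hom.app (op V) s)) := by
    rw [Φ.toPresheafFiber_w_apply, Φ.toPresheafFiber_w_apply, hgV, hgU, ← hσ, n1]
  obtain ⟨W', g, w', hw', hg⟩ := (Φ.toPresheafFiber_eq_iff' m.1 m.2 _ _).mp e1
  refine ⟨W', g ≫ gU.1, (w'.left : Spec (CommRingCat.of Ω) ⟶ W'.left)
    (default : Spec (CommRingCat.of Ω)), ⟨F.obj.map (g ≫ gV.1).op s, ?_⟩, ?_⟩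
  · have n2 := NatTrans.naturality_apply a.hom (g ≫ gV.1).op s
    rw [n2]
    rw [op_comp, Functor.map_comp, ConcreteCategory.comp_apply, ← hg,
      ← ConcreteCategory.comp_apply, ← Functor.map_comp, ← op_comp]
  · have e3 : w'.left ≫ (g ≫ gU.1).left = x₀.left := by
      have h1 : Φ.fiber.map (g ≫ gU.1) w' = x₀ := by
        rw [Functor.map_comp]
        change Φ.fiber.map gU.1 (Φ.fiber.map g w') = x₀
        rw [hw', hgU]
      exact congrArg (fun m => m.left) h1
    rw [← hx₀]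
    exact congrArg (fun m : Spec (CommRingCat.of Ω) ⟶ U.left => m default) e3

/-- **A map of abelian étale sheaves which is bijective on the stalk at one geometric point over
each point of the scheme is an isomorphism.** -/
theorem isIso_of_stalks' {F G : EtCoh.Ab X} (a : F ⟶ G)
    (h : ∀ p : X, ∃ (Ω : Type u) (_ : Field Ω) (_ : IsSepClosed Ω)
      (ξ : Spec (CommRingCat.of Ω) ⟶ X), ξ (default : Spec (CommRingCat.of Ω)) = p ∧
      Function.Bijective ((EtCoh.stalk ξ).map a)) : IsIso a := by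
  haveI := isLocallyInjective_of_stalks' a (fun p => by
    obtain ⟨Ω, i1, i2, ξ, hξ, hb⟩ := h p
    exact ⟨Ω, i1, i2, ξ, hξ, hb.1⟩)
  haveI := isLocallySurjective_of_stalks' a (fun p => by
    obtain ⟨Ω, i1, i2, ξ, hξ, hb⟩ := h p
    exact ⟨Ω, i1, i2, ξ, hξ, hb.2⟩)
  haveI : Mono a := Sheaf.mono_of_isLocallyInjective a
  haveI : Epi a := Sheaf.epi_of_isLocallySurjective a
  exact isIso_of_mono_of_epi a

end Groth.Agent.Lib.Seat29.EtStalkIso
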