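import Mathlib
import Groth.Agent.Lib.Seat1LocConst

/-!
# Lifting a finite fibre of a presheaf to sections (seat 29)

For a point `Φ` of a site and a presheaf of abelian groups `P` whose fibre at `Φ` is finite, there
is a neighbourhood `(W, y)` of the point and an additive map `s : P_Φ →+ P(W)` splitting the germ
map at `y`.
-/

set_option autoImplicit false

universe u

open CategoryTheory CategoryTheory.Limits Opposite GrothendieckTopology

namespace Groth.Agent.Lib.Seat29.PointLift

open Groth.Agent.Lib.Seat1.LocConst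

variable {C : Type (u + 1)} [Category.{u} C] {J : GrothendieckTopology C} (Φ : Point.{u} J)
  (P : Cᵒᵖ ⥤ AddCommGrpCat.{u + 1})

/-- Finitely many germs have representatives on a common neighbourhood. -/
lemma exists_common_lift (S : Finset ((Φ.presheafFiber (A := AddCommGrpCat.{u + 1})).obj P)) :
    ∃ (V : C) (v : Φ.fiber.obj V), ∀ m ∈ S, ∃ σ : P.obj (op V),
      Φ.toPresheafFiber V v P σ = m := by
  classical
  induction S using Finset.induction_on with
  | empty =>
    obtain ⟨V, v, _, _⟩ := Φ.toPresheafFiber_jointly_surjective (P := P) 0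
    exact ⟨V, v, fun m hm => absurd hm (Finset.notMem_empty m)⟩
  | insert m₀ S _ ih =>
    obtain ⟨V, v, hV⟩ := ih
    obtain ⟨V₀, v₀, σ₀, hσ₀⟩ := Φ.toPresheafFiber_jointly_surjective (P := P) m₀
    let e : Φ.fiber.Elements := IsCofiltered.min (⟨V, v⟩ : Φ.fiber.Elements) ⟨V₀, v₀⟩
    let g : e ⟶ ⟨V, v⟩ := IsCofiltered.minToLeft _ _
    let g₀ : e ⟶ ⟨V₀, v₀⟩ := IsCofiltered.minToRight _ _
    have hg : Φ.fiber.map g.1 e.2 = v := g.2
    have hg₀ : Φ.fiber.map g₀.1 e.2 = v₀ := g₀.2
    refine ⟨e.1, e.2, fun m hm => ?_⟩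
    rcases Finset.mem_insert.1 hm with rfl | hm
    · refine ⟨P.map g₀.1.op σ₀, ?_⟩
      rw [Φ.toPresheafFiber_w_apply, hg₀, hσ₀]
    · obtain ⟨σ, hσ⟩ := hV m hm
      refine ⟨P.map g.1.op σ, ?_⟩
      rw [Φ.toPresheafFiber_w_apply, hg, hσ]

/-- Finitely many pairs of sections with equal germs become equal on a common smaller
neighbourhood. -/
lemma exists_eq_on_finset {V : C} (v : Φ.fiber.obj V)
    (S : Finset (P.obj (op V) × P.obj (op V)))
    (hS : ∀ p ∈ S, Φ.toPresheafFiber V v P p.1 = Φ.toPresheafFiber V v P p.2) :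
    ∃ (W : C) (g : W ⟶ V) (w : Φ.fiber.obj W), Φ.fiber.map g w = v ∧
      ∀ p ∈ S, P.map g.op p.1 = P.map g.op p.2 := by
  classical
  induction S using Finset.induction_on with
  | empty => exact ⟨V, 𝟙 V, v, by simp, fun p hp => absurd hp (Finset.notMem_empty p)⟩
  | insert p₀ S _ ih =>
    obtain ⟨W, g, w, hw, hW⟩ := ih (fun p hp => hS p (Finset.mem_insert_of_mem hp))
    have h₀ : Φ.toPresheafFiber W w P (P.map g.op p₀.1) =
        Φ.toPresheafFiber W w P (P.map g.op p₀.2) := by
      rw [Φ.toPresheafFiber_w_apply, Φ.toPresheafFiber_w_apply, hw]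
      exact hS p₀ (Finset.mem_insert_self _ _)
    obtain ⟨W', g', w', hw', hg'⟩ := (Φ.toPresheafFiber_eq_iff' W w _ _).1 h₀
    refine ⟨W', g' ≫ g, w', ?_, fun p hp => ?_⟩
    · rw [Functor.map_comp]
      change Φ.fiber.map g (Φ.fiber.map g' w') = v
      rw [hw', hw]
    · have key : ∀ z : P.obj (op V), P.map (g' ≫ g).op z = P.map g'.op (P.map g.op z) := by
        intro z
        rw [op_comp, Functor.map_comp]
        rfl
      rw [key, key]
      rcases Finset.mem_insert.1 hp with rfl | hp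
      · exact hg'
      · rw [hW p hp]

/-- **A finite fibre lifts additively to sections on a neighbourhood.** -/
theorem exists_section_lift [Finite ((Φ.presheafFiber (A := AddCommGrpCat.{u + 1})).obj P)] :
    ∃ (W : C) (y : Φ.fiber.obj W) (s : (Φ.presheafFiber (A := AddCommGrpCat.{u + 1})).obj P →+ P.obj (op W)),
      ∀ m, Φ.toPresheafFiber W y P (s m) = m := by
  classical
  letI : Fintype ((Φ.presheafFiber (A := AddCommGrpCat.{u + 1})).obj P) := Fintype.ofFinite _
  obtain ⟨V, v, hV⟩ := exists_common_lift Φ P Finset.univ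
  choose σ hσ using fun m => hV m (Finset.mem_univ m)
  let S : Finset (P.obj (op V) × P.obj (op V)) :=
    Finset.univ.image (fun p : (Φ.presheafFiber (A := AddCommGrpCat.{u + 1})).obj P × (Φ.presheafFiber (A := AddCommGrpCat.{u + 1})).obj P =>
      (σ p.1 + σ p.2, σ (p.1 + p.2)))
  have hS : ∀ p ∈ S, Φ.toPresheafFiber V v P p.1 = Φ.toPresheafFiber V v P p.2 := by
    intro p hp
    obtain ⟨q, -, rfl⟩ := Finset.mem_image.1 hp
    change Φ.toPresheafFiber V v P (σ q.1 + σ q.2) = Φ.toPresheafFiber V v P (σ (q.1 + q.2))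
    rw [map_add, hσ, hσ, hσ]
  obtain ⟨W, g, w, hw, hW⟩ := exists_eq_on_finset Φ P v S hS
  refine ⟨W, w, AddMonoidHom.mk' (fun m => P.map g.op (σ m)) (fun a b => ?_), fun m => ?_⟩
  · have := hW (σ a + σ b, σ (a + b)) (Finset.mem_image.2 ⟨(a, b), Finset.mem_univ _, rfl⟩)
    change P.map g.op (σ a + σ b) = P.map g.op (σ (a + b)) at this
    rw [← this, map_add]
  · change Φ.toPresheafFiber W w P (P.map g.op (σ m)) = m
    rw [Φ.toPresheafFiber_w_apply, hw, hσ]

end Groth.Agent.Lib.Seat29.PointLift
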