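import Mathlib
import Groth.Agent.Lib.Seat29EtOverBridge
import Groth.Agent.Lib.Seat29EtStalkIso
import Groth.Agent.Lib.Seat29PointLift
import Groth.Agent.Lib.Seat29EtAbLC
import Groth.Agent.Lib.Seat29EtPull
import Groth.Agent.Lib.Seat1LocConst
import Groth.Agent.Lib.Helper9JContAll
import Groth.Agent.S0652

/-!
# A sheaf with finite stalks of constant cardinality is generically finite locally constant (seat 29)

Let `T` be a locally Noetherian scheme, `t₁` a point without proper generizations, and `G` an abelian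
étale sheaf with finite stalks such that over every point some geometric stalk has `n` elements.
Then `G` is finite locally constant on an open neighbourhood of `t₁`
(`exists_open_flc_of_card`).
-/

set_option autoImplicit false
set_option linter.style.haveILetI false

universe u

open CategoryTheory CategoryTheory.Limits AlgebraicGeometry Opposite TopologicalSpace Topology

namespace Groth.Agent.Lib.Seat29.EtGenConst

open Groth.Agent.Lib.Seat29.EtOverBridge Groth.Agent.Lib.Seat29.EtStalkIso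
  Groth.Agent.Lib.Seat1.LocConst Groth.Agent.Lib.Seat29.EtAbLC Groth.Agent.Lib.Seat29.EtPull

section Top

lemma exists_open_subset_closure {W : Type*} [TopologicalSpace W] [QuasiSober W] (w₁ : W)
    (A : Opens W) [NoetherianSpace A] (hw : w₁ ∈ A) (hgen : ∀ w' : W, w' ⤳ w₁ → w' = w₁) :
    ∃ U : Opens W, w₁ ∈ U ∧ (U : Set W) ⊆ closure {w₁} := by
  haveI : QuasiSober A := A.isOpenEmbedding'.quasiSober
  let a₁ : A := ⟨w₁, hw⟩
  have hfin : (irreducibleComponents A).Finite := NoetherianSpace.finite_irreducibleComponents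
  set S : Set (Set A) := {Z | Z ∈ irreducibleComponents A ∧ a₁ ∉ Z} with hS
  have hSfin : S.Finite := hfin.subset fun Z hZ => hZ.1
  have hC : IsClosed (⋃₀ S) := by
    rw [Set.sUnion_eq_biUnion]
    exact hSfin.isClosed_biUnion fun Z hZ => isClosed_of_mem_irreducibleComponents Z hZ.1
  have hUo : IsOpen (Subtype.val '' (⋃₀ S)ᶜ : Set W) :=
    A.isOpen.isOpenMap_subtype_val _ hC.isOpen_compl
  refine ⟨⟨_, hUo⟩, ⟨a₁, ?_, rfl⟩, ?_⟩
  · rintro ⟨Z, hZ, haZ⟩
    exact hZ.2 haZ
  · rintro _ ⟨x, hx, rfl⟩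
    have hax : a₁ ∈ irreducibleComponent x := by
      by_contra hcon
      exact hx ⟨irreducibleComponent x, ⟨irreducibleComponent_mem_irreducibleComponents x, hcon⟩,
        mem_irreducibleComponent⟩
    obtain ⟨η, hη⟩ := QuasiSober.sober (isIrreducible_irreducibleComponent (x := x))
      isClosed_irreducibleComponent
    have h1 : η ⤳ a₁ := by
      rw [specializes_iff_mem_closure, hη.def]
      exact hax
    have h2 : (η : W) = w₁ := hgen _ (h1.map continuous_subtype_val)
    have h3 : η = a₁ := Subtype.ext h2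
    have h4 : a₁ ⤳ x := by
      rw [specializes_iff_mem_closure, ← h3, hη.def]
      exact mem_irreducibleComponent
    exact (specializes_iff_mem_closure.1 (h4.map continuous_subtype_val))

end Top

section CoreD

variable {T S' : Scheme.{u}} (h' : S' ⟶ T) [Etale h'] [EtShriek.JCont h'] (G : EtCoh.Ab T)

/-- The morphism from an étale `S'`-scheme to the terminal one. -/
noncomputable def toTop (V : S'.Etale) : V ⟶ EtCoh.top S' :=
  MorphismProperty.Over.homMk V.hom (Category.comp_id _)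

lemma toTop_comp {V V' : S'.Etale} (f : V' ⟶ V) : f ≫ toTop V = toTop V' :=
  MorphismProperty.Over.Hom.ext (MorphismProperty.Over.w f)

variable {M : AddCommGrpCat.{u + 1}} (σ : M ⟶ G.obj.obj (op (W₀ h')))

/-- The presheaf map `M → G|_{S'}` given by restricting the sections `σ m`. -/
noncomputable def a₀ : (Functor.const S'.Etaleᵒᵖ).obj M ⟶ ((EtShriek.restrAlong h').obj G).obj where
  app V := σ ≫ G.obj.map ((EtShriek.compEtale h').map (toTop V.unop)).op
  naturality V V' f := by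
    change 𝟙 M ≫ σ ≫ G.obj.map ((EtShriek.compEtale h').map (toTop V'.unop)).op =
      (σ ≫ G.obj.map ((EtShriek.compEtale h').map (toTop V.unop)).op) ≫
        G.obj.map ((EtShriek.compEtale h').map f.unop).op
    rw [Category.id_comp, Category.assoc, ← G.obj.map_comp, ← op_comp, ← Functor.map_comp,
      toTop_comp]

/-- The sheaf map `const M → G|_{S'}`. -/
noncomputable def aSheaf :
    (constantSheaf S'.smallEtaleTopology AddCommGrpCat.{u + 1}).obj M ⟶
      (EtShriek.restrAlong h').obj G :=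
  ((sheafificationAdjunction S'.smallEtaleTopology AddCommGrpCat.{u + 1}).homEquiv _ _).symm
    (a₀ h' G σ)

lemma toSheafify_aSheaf :
    toSheafify S'.smallEtaleTopology ((Functor.const S'.Etaleᵒᵖ).obj M) ≫ (aSheaf h' G σ).hom =
      a₀ h' G σ := by
  have := (sheafificationAdjunction S'.smallEtaleTopology AddCommGrpCat.{u + 1}).homEquiv_unit
    (X := (Functor.const S'.Etaleᵒᵖ).obj M) (Y := (EtShriek.restrAlong h').obj G)
    (f := aSheaf h' G σ)
  rw [sheafificationAdjunction_unit_app] at this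
  exact this.symm.trans (Equiv.apply_symm_apply _ _)

variable {Ω₁ : Type u} [Field Ω₁] [IsSepClosed Ω₁] (ζ₁ : Spec (CommRingCat.of Ω₁) ⟶ T)
  (y₁ : Spec (CommRingCat.of Ω₁) ⟶ S') (hy₁ : y₁ ≫ h' = ζ₁)

/-- The point of the fibre of `(S' → T)` over `ζ₁` defined by the lift `y₁`. -/
noncomputable def x₁ : (Scheme.pointSmallEtale ζ₁).fiber.obj (W₀ h') :=
  Over.homMk y₁ (by
    change y₁ ≫ (𝟙 S' ≫ h') = ζ₁
    rw [Category.id_comp, hy₁])

include hy₁ in
/-- Key injectivity: if every non-empty open of `S'` contains the image of `y₁` and the germ of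
`σ m` at `y₁` determines `m`, then `a₀` is injective on all stalks. -/
lemma presheafFiber_map_a₀_injective
    (hgen : ∀ O : S'.Opens, (O : Set S').Nonempty → y₁ (default : Spec (CommRingCat.of Ω₁)) ∈ O)
    (hσ : Function.Injective (fun m : M =>
      (Scheme.pointSmallEtale ζ₁).toPresheafFiber (W₀ h') (x₁ h' ζ₁ y₁ hy₁) G.obj (σ m)))
    {Ω : Type u} [Field Ω] [IsSepClosed Ω] (y : Spec (CommRingCat.of Ω) ⟶ S') :
    Function.Injective ((Scheme.pointSmallEtale y).presheafFiber.map (a₀ h' G σ)) := by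
  intro p q hpq
  let Φ := Scheme.pointSmallEtale y
  obtain ⟨V, v, m, m', rfl, rfl⟩ := Φ.toPresheafFiber_jointly_surjective₂ p q
  have n1 := Φ.toPresheafFiber_naturality_apply (a₀ h' G σ) V v m
  have n2 := Φ.toPresheafFiber_naturality_apply (a₀ h' G σ) V v m'
  have e1 := n1.symm.trans (hpq.trans n2)
  obtain ⟨V', g, v', hv', hg⟩ := (Φ.toPresheafFiber_eq_iff' V v _ _).1 e1
  -- the sections agree on `V'`
  have e2 : (a₀ h' G σ).app (op V') m = (a₀ h' G σ).app (op V') m' := by
    have k1 := NatTrans.naturality_apply (a₀ h' G σ) g.op m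
    have k2 := NatTrans.naturality_apply (a₀ h' G σ) g.op m'
    exact k1.trans (hg.trans k2.symm)
  -- `V'` is non-empty, so its image contains the image of `y₁`
  let O : S'.Opens := ⟨Set.range V'.hom, V'.hom.isOpenMap.isOpen_range⟩
  have hO : (O : Set S').Nonempty :=
    ⟨V'.hom ((v'.left : Spec (CommRingCat.of Ω) ⟶ V'.left)
      (default : Spec (CommRingCat.of Ω))), _, rfl⟩
  obtain ⟨p', hp'⟩ := hgen O hO
  obtain ⟨l, hl, -⟩ := Scheme.exists_fac_of_etale_of_isSepClosed V'.hom y₁ p' hp'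
  let z : (Scheme.pointSmallEtale ζ₁).fiber.obj ((EtShriek.compEtale h').obj V') :=
    Over.homMk l (by
      change l ≫ V'.hom ≫ h' = ζ₁
      rw [← Category.assoc, hl, hy₁])
  have hz : (Scheme.pointSmallEtale ζ₁).fiber.map ((EtShriek.compEtale h').map (toTop V')) z =
      x₁ h' ζ₁ y₁ hy₁ := by
    apply Over.OverMorphism.ext
    exact hl
  have key : ∀ m₀ : M, (Scheme.pointSmallEtale ζ₁).toPresheafFiber
      ((EtShriek.compEtale h').obj V') z G.obj ((a₀ h' G σ).app (op V') m₀) =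
      (Scheme.pointSmallEtale ζ₁).toPresheafFiber (W₀ h') (x₁ h' ζ₁ y₁ hy₁) G.obj (σ m₀) := by
    intro m₀
    have := (Scheme.pointSmallEtale ζ₁).toPresheafFiber_w_apply
      ((EtShriek.compEtale h').map (toTop V')) z G.obj (σ m₀)
    rw [hz] at this
    exact this
  have e3 : m = m' := hσ ((key m).symm.trans ((congrArg _ e2).trans (key m')))
  rw [e3]

include hy₁ in
/-- **Core**: under the hypotheses of `presheafFiber_map_a₀_injective`, if moreover `M` is finite
and over every point of `S'` some geometric stalk of `G` has the cardinality of `M`, then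
`const M → G|_{S'}` is an isomorphism. -/
theorem isIso_aSheaf [Finite M]
    (hgen : ∀ O : S'.Opens, (O : Set S').Nonempty → y₁ (default : Spec (CommRingCat.of Ω₁)) ∈ O)
    (hσ : Function.Injective (fun m : M =>
      (Scheme.pointSmallEtale ζ₁).toPresheafFiber (W₀ h') (x₁ h' ζ₁ y₁ hy₁) G.obj (σ m)))
    (hcard : ∀ w : S', ∃ (Ω : Type u) (_ : Field Ω) (_ : IsSepClosed Ω)
      (y : Spec (CommRingCat.of Ω) ⟶ S'), y (default : Spec (CommRingCat.of Ω)) = w ∧
        Nat.card ((EtCoh.stalk (y ≫ h')).obj G) = Nat.card M) :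
    IsIso (aSheaf h' G σ) := by
  apply isIso_of_stalks'
  intro w
  obtain ⟨Ω, _, _, y, hy, hc⟩ := hcard w
  refine ⟨Ω, inferInstance, inferInstance, y, hy, ?_⟩
  let Φ := Scheme.pointSmallEtale y
  have hts : Function.Bijective (Φ.presheafFiber.map
      (toSheafify S'.smallEtaleTopology ((Functor.const S'.Etaleᵒᵖ).obj M))) :=
    Φ.toPresheafFiber_map_bijective _
  have hinj := presheafFiber_map_a₀_injective h' G σ ζ₁ y₁ hy₁ hgen hσ y
  have hcomp : Φ.presheafFiber.map (a₀ h' G σ) =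
      Φ.presheafFiber.map (toSheafify S'.smallEtaleTopology ((Functor.const S'.Etaleᵒᵖ).obj M)) ≫
        Φ.presheafFiber.map (aSheaf h' G σ).hom := by
    rw [← Functor.map_comp]
    exact congrArg _ (toSheafify_aSheaf h' G σ).symm
  let A₁ : AddCommGrpCat.{u + 1} := Φ.presheafFiber.obj ((Functor.const S'.Etaleᵒᵖ).obj M)
  let B₁ : AddCommGrpCat.{u + 1} := Φ.presheafFiber.obj ((EtShriek.restrAlong h').obj G).obj
  have c1 : Nat.card A₁ = Nat.card M :=
    Nat.card_congr (constPresheafFiberIso Φ M).addCommGroupIsoToAddEquiv.toEquiv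
  have c2 : Nat.card ((EtCoh.stalk (y ≫ h')).obj G) = Nat.card B₁ :=
    Nat.card_congr ((Groth.Agent.S0652.stalkRestrIso h' y).app G).addCommGroupIsoToAddEquiv.toEquiv
  have hMpos : Nat.card M ≠ 0 := Nat.card_pos.ne'
  have c3 : Nat.card B₁ = Nat.card M := c2.symm.trans hc
  haveI : Finite B₁ := Nat.finite_of_card_ne_zero (c3 ▸ hMpos)
  have hbij : Function.Bijective (Φ.presheafFiber.map (a₀ h' G σ) : A₁ ⟶ B₁) :=
    hinj.bijective_of_nat_card_le (by rw [c1, c3])
  rw [hcomp] at hbij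
  have : Function.Bijective ((Φ.presheafFiber.map (aSheaf h' G σ).hom) ∘
      (Φ.presheafFiber.map
        (toSheafify S'.smallEtaleTopology ((Functor.const S'.Etaleᵒᵖ).obj M)))) := by
    convert hbij using 1
    ext t
    rfl
  exact (Function.Bijective.of_comp_iff _ hts).1 this

end CoreD


section Main

/-- Étale morphisms are locally quasi-finite. -/
lemma locallyQuasiFinite_of_etale {X S : Scheme.{u}} (f : X ⟶ S) [Etale f] :
    LocallyQuasiFinite f := by
  constructor
  intro U hU V hV e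
  have h1 := f.etale_appLE hU hV e
  algebraize [(f.appLE U V e).hom]
  have : Algebra.Etale Γ(S, U) Γ(X, V) := h1
  exact RingHom.quasiFinite_algebraMap.mpr inferInstance

/-- A quasi-finite point has no proper specialization inside its fibre. -/
lemma eq_of_specializes_of_quasiFiniteAt {U V : Scheme.{u}} (h : U ⟶ V) [LocallyOfFiniteType h]
    {u₀ u : ↥U} (hu₀ : h.QuasiFiniteAt u₀) (hs : u₀ ⤳ u) (he : h u = h u₀) : u = u₀ := by
  have hcl := hu₀.isClopen_singleton_asFiber.1
  have hmem : u ∈ Set.range (h.fiberι (h u₀)) := by rw [h.range_fiberι]; exact he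
  obtain ⟨z, rfl⟩ := hmem
  have h1 : h.asFiber u₀ ⤳ z := by
    rw [← (h.fiberι (h u₀)).isEmbedding.toIsInducing.specializes_iff, h.fiberι_asFiber]
    exact hs
  have h2 : z ∈ ({h.asFiber u₀} : Set ↥(h.fiber (h u₀))) := h1.mem_closed hcl rfl
  rw [h2, h.fiberι_asFiber]

/-- Around a point of an étale `T`-scheme lying over a point without proper generizations, there is
an open neighbourhood all of whose non-empty opens contain the point. -/
lemma exists_open_generic {T S : Scheme.{u}} [IsLocallyNoetherian T] (h : S ⟶ T) [Etale h] (w₁ : S)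
    (hgen : ∀ t' : T, t' ⤳ h w₁ → t' = h w₁) :
    ∃ U : S.Opens, w₁ ∈ U ∧ ∀ O : S.Opens, O ≤ U → (O : Set S).Nonempty → w₁ ∈ O := by
  haveI : IsLocallyNoetherian S := LocallyOfFiniteType.isLocallyNoetherian h
  haveI := locallyQuasiFinite_of_etale h
  obtain ⟨A, hA, hwA, -⟩ := exists_isAffineOpen_mem_and_subset (x := w₁) (U := ⊤) trivial
  haveI : IsNoetherianRing Γ(S, A) := IsLocallyNoetherian.component_noetherian ⟨A, hA⟩
  have hNA := noetherianSpace_of_isAffineOpen A hA
  have hgen' : ∀ w' : S, w' ⤳ w₁ → w' = w₁ := by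
    intro w' hw'
    have h1 : h w' ⤳ h w₁ := hw'.map h.continuous
    have h2 := hgen _ h1
    exact (eq_of_specializes_of_quasiFiniteAt h (h.quasiFiniteAt w')
      hw' h2.symm).symm
  obtain ⟨U, hwU, hU⟩ := @exists_open_subset_closure _ _ _ w₁ A hNA hwA hgen'
  refine ⟨U, hwU, fun O hOU hne => ?_⟩
  obtain ⟨x, hx⟩ := hne
  have : w₁ ⤳ x := specializes_iff_mem_closure.2 (hU (hOU hx))
  exact this.mem_open O.isOpen hx

/-- **A sheaf with finite stalks of constant cardinality is finite locally constant near a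
point without proper generizations.** -/
theorem exists_open_flc_of_card {T : Scheme.{u}} [IsLocallyNoetherian T] (G : EtCoh.Ab T) (t₁ : T)
    (hgen : ∀ t' : T, t' ⤳ t₁ → t' = t₁) (n : ℕ)
    (hfin : ∀ (Ω : Type u) [Field Ω] [IsSepClosed Ω] (ξ : Spec (CommRingCat.of Ω) ⟶ T),
      Finite ((EtCoh.stalk ξ).obj G))
    (hcard : ∀ t : T, ∃ (Ω : Type u) (_ : Field Ω) (_ : IsSepClosed Ω)
      (ζ : Spec (CommRingCat.of Ω) ⟶ T), ζ (default : Spec (CommRingCat.of Ω)) = t ∧
        Nat.card ((EtCoh.stalk ζ).obj G) = n) :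
    ∃ O : T.Opens, t₁ ∈ O ∧ EtCoh.IsFiniteLocallyConstant ((EtCoh.pull O.ι).obj G) := by
  obtain ⟨Ω₁, _, _, ζ₁, hζ₁, hn⟩ := hcard t₁
  haveI := hfin Ω₁ ζ₁
  let Φ₁ := Scheme.pointSmallEtale ζ₁
  let M : AddCommGrpCat.{u + 1} := (EtCoh.stalk ζ₁).obj G
  haveI : Finite ((Φ₁.presheafFiber (A := AddCommGrpCat.{u + 1})).obj G.obj) := hfin Ω₁ ζ₁
  obtain ⟨W, y₀, s, hs⟩ := Groth.Agent.Lib.Seat29.PointLift.exists_section_lift Φ₁ G.obj
  haveI : Etale W.hom := W.prop
  let l₀ : Spec (CommRingCat.of Ω₁) ⟶ W.left := y₀.left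
  have hy₀ : l₀ ≫ W.hom = ζ₁ := Over.w y₀
  let w₁ : W.left := l₀ (default : Spec (CommRingCat.of Ω₁))
  have hw₁ : W.hom w₁ = t₁ :=
    (congrArg (fun (q : Spec (CommRingCat.of Ω₁) ⟶ T) =>
      q (default : Spec (CommRingCat.of Ω₁))) hy₀).trans hζ₁
  obtain ⟨U, hwU, hU⟩ := exists_open_generic (T := T) W.hom w₁ (by rw [hw₁]; exact hgen)
  let h' : U.toScheme ⟶ T := U.ι ≫ W.hom
  haveI : EtShriek.JCont h' := Groth.Agent.Lib.Helper9.JContAll.jCont h'
  have hrange : Set.range l₀ ⊆ Set.range U.ι := by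
    rintro _ ⟨a, rfl⟩
    have ha : a = default := Subsingleton.elim a default
    have hmem : l₀ a ∈ U := by rw [ha]; exact hwU
    exact (Scheme.Opens.range_ι U).ge hmem
  let y₁ : Spec (CommRingCat.of Ω₁) ⟶ U.toScheme := IsOpenImmersion.lift U.ι l₀ hrange
  have hy₁ι : y₁ ≫ U.ι = l₀ := IsOpenImmersion.lift_fac _ _ _
  have hy₁ : y₁ ≫ h' = ζ₁ :=
    (Category.assoc _ _ _).symm.trans ((congrArg (fun q => q ≫ W.hom) hy₁ι).trans hy₀)
  have hy₁d : U.ι (y₁ (default : Spec (CommRingCat.of Ω₁))) = w₁ :=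
    congrArg (fun (q : Spec (CommRingCat.of Ω₁) ⟶ W.left) =>
      q (default : Spec (CommRingCat.of Ω₁))) hy₁ι
  let ρ : W₀ h' ⟶ W := MorphismProperty.Over.homMk U.ι (by
    exact (Category.id_comp _).symm)
  let σ : M ⟶ G.obj.obj (op (W₀ h')) := AddCommGrpCat.ofHom s ≫ G.obj.map ρ.op
  have hρ : Φ₁.fiber.map ρ (x₁ h' ζ₁ y₁ hy₁) = y₀ := by
    apply Over.OverMorphism.ext
    exact hy₁ι
  have hσ : ∀ m : M, Φ₁.toPresheafFiber (W₀ h') (x₁ h' ζ₁ y₁ hy₁) G.obj (σ m) = m := by
    intro m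
    have := Φ₁.toPresheafFiber_w_apply ρ (x₁ h' ζ₁ y₁ hy₁) G.obj (s m)
    rw [hρ, hs] at this
    exact this
  have hgen' : ∀ O : U.toScheme.Opens, (O : Set U.toScheme).Nonempty →
      y₁ (default : Spec (CommRingCat.of Ω₁)) ∈ O := by
    intro O hO
    obtain ⟨x, hx⟩ := hO
    have h1 : w₁ ∈ U.ι ''ᵁ O := by
      refine hU (U.ι ''ᵁ O) ?_ ⟨U.ι x, ⟨x, hx, rfl⟩⟩
      rintro _ ⟨a, -, rfl⟩
      exact a.2
    obtain ⟨a, ha, haw⟩ := h1
    have : a = y₁ (default : Spec (CommRingCat.of Ω₁)) :=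
      U.ι.isOpenEmbedding.injective (haw.trans hy₁d.symm)
    rwa [← this]
  have hcard' : ∀ w : U.toScheme, ∃ (Ω : Type u) (_ : Field Ω) (_ : IsSepClosed Ω)
      (y : Spec (CommRingCat.of Ω) ⟶ U.toScheme), y (default : Spec (CommRingCat.of Ω)) = w ∧
        Nat.card ((EtCoh.stalk (y ≫ h')).obj G) = Nat.card M := by
    intro w
    obtain ⟨Ω, _, _, ζ, hζ, hc⟩ := hcard (h' w)
    obtain ⟨y, hy, hyw⟩ := Scheme.exists_fac_of_etale_of_isSepClosed h' ζ w hζ.symm
    refine ⟨Ω, inferInstance, inferInstance, y, hyw, ?_⟩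
    rw [hy, hc, hn]
  haveI : IsIso (aSheaf h' G σ) := isIso_aSheaf h' G σ ζ₁ y₁ hy₁ hgen'
    (fun a b hab => (hσ a).symm.trans (hab.trans (hσ b))) hcard'
  obtain ⟨e⟩ := nonempty_over_iso_of_restr_iso h' G M (asIso (aSheaf h' G σ)).symm
  let O : T.Opens := ⟨Set.range h', h'.isOpenMap.isOpen_range⟩
  refine ⟨O, ⟨y₁ (default : Spec (CommRingCat.of Ω₁)), ?_⟩, ?_⟩
  · rw [← hζ₁, ← hy₁]
    rfl
  · rw [isFLC_iff]
    intro x
    obtain ⟨w, hw⟩ := x.2
    obtain ⟨v, hv⟩ := exists_bc_point O.ι (W₀ h') w x (by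
      rw [W₀_hom, Category.id_comp]
      exact hw)
    exact ⟨(EtCoh.bc O.ι).obj (W₀ h'), v, hv, M, hfin Ω₁ ζ₁,
      nonempty_pull_over_iso_ab O.ι G (W₀ h') e⟩

end Main

end Groth.Agent.Lib.Seat29.EtGenConst
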