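import Mathlib
import Groth.Prelude.Def_PBC
import Groth.Agent.Lib.Seat29ConstrTop
import Groth.Agent.Lib.Seat29Strata
import Groth.Agent.Lib.Seat29EtConstrNoeth
import Groth.Agent.Lib.Seat29EtConstrPull
import Groth.Agent.Lib.Seat29EtACC
import Groth.Agent.Lib.Seat29EtStalkConstr
import Groth.Agent.Lib.Seat29EtGenConst
import Groth.Agent.S0101

/-!
# Constructibility from the stalk cardinalities (seat 29)

On a locally Noetherian scheme, an abelian étale sheaf with finite stalks whose stalk-cardinality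
loci are locally constructible is constructible (`isConstructible_of_card`).
-/

set_option autoImplicit false
set_option linter.style.haveILetI false

universe u

open CategoryTheory CategoryTheory.Limits AlgebraicGeometry Opposite TopologicalSpace Topology

namespace Groth.Agent.Lib.Seat29.EtStalkCard

open Groth.Agent.Lib.Seat29.ConstrTop Groth.Agent.Lib.Seat29.EtStalkConstr
  Groth.Agent.Lib.Seat29.EtConstrNoeth Groth.Agent.Lib.Seat29.EtConstrPull

/-- A locally constructible set containing `x` contains a relatively open neighbourhood of `x` in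
the closure of `x`. -/
lemma exists_open_inter_closure_subset {X : Type*} [TopologicalSpace X] {s : Set X}
    (hs : IsLocallyConstructible s) (x : X) (hx : x ∈ s) :
    ∃ V : Opens X, x ∈ V ∧ (V : Set X) ∩ closure {x} ⊆ s := by
  classical
  obtain ⟨U, hUx, hUo, hUc⟩ := hs x
  have hxU : x ∈ U := mem_of_mem_nhds hUx
  obtain ⟨𝒲, h𝒲, hsep⟩ := exists_finset_of_isConstructible hUc
  let x' : ↥U := ⟨x, hxU⟩
  let N : Set ↥U := ⋂ W ∈ 𝒲.filter (fun W => x' ∈ W), W
  have hNo : IsOpen N :=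
    (isOpen_isRetrocompact_biInter _ (fun W hW => h𝒲 W (Finset.mem_filter.1 hW).1)).1
  have hxN : x' ∈ N := by
    simp only [N, Set.mem_iInter]
    intro W hW
    exact (Finset.mem_filter.1 hW).2
  have hVo : IsOpen (Subtype.val '' N : Set X) := hUo.isOpenMap_subtype_val _ hNo
  refine ⟨⟨_, hVo⟩, ⟨x', hxN, rfl⟩, ?_⟩
  rintro _ ⟨⟨y', hy'N, rfl⟩, hy⟩
  have hsp : x' ⤳ y' := by
    rw [subtype_specializes_iff]
    exact specializes_iff_mem_closure.2 hy
  have key : ∀ W ∈ 𝒲, x' ∈ W ↔ y' ∈ W := by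
    intro W hW
    constructor
    · intro hxW
      simp only [N, Set.mem_iInter] at hy'N
      exact hy'N W (Finset.mem_filter.2 ⟨hW, hxW⟩)
    · intro hyW
      exact hsp.mem_open (h𝒲 W hW).1 hyW
  exact (hsep x' y' key).1 hx

variable {X : Scheme.{u}}

/-- **Constructibility from stalk cardinalities.** -/
theorem isConstructible_of_card [IsLocallyNoetherian X] (F : EtCoh.Ab X)
    (hfin : ∀ (Ω : Type u) [Field Ω] [IsSepClosed Ω] (ξ : Spec (CommRingCat.of Ω) ⟶ X),
      Finite ((EtCoh.stalk ξ).obj F))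
    (hlc : ∀ n : ℕ, IsLocallyConstructible
      (stalkSet F (fun M : AddCommGrpCat.{u + 1} => Nat.card M = n))) :
    EtPBC.IsConstructible F := by
  rw [isConstructible_iff_generic]
  intro x
  obtain ⟨Ω₀, _, _, ξ₀, hξ₀⟩ := exists_geometric_point_over x
  let n : ℕ := Nat.card ((EtCoh.stalk ξ₀).obj F)
  have hxn : x ∈ stalkSet F (fun M : AddCommGrpCat.{u + 1} => Nat.card M = n) :=
    ⟨Ω₀, inferInstance, inferInstance, ξ₀, (range_eq_singleton_iff ξ₀ x).2 hξ₀, rfl⟩
  obtain ⟨V₁, hxV₁, hV₁⟩ := exists_open_inter_closure_subset (hlc n) x hxn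
  obtain ⟨T₁, g₁, hg₁, hr₁'⟩ := Groth.Agent.Lib.Seat29.Strata.exists_immersion_range V₁
    ⟨closure {x}, isClosed_closure⟩
  have hr₁ : Set.range g₁ = (V₁ : Set X) ∩ closure {x} := hr₁'
  haveI : IsLocallyNoetherian T₁ := LocallyOfFiniteType.isLocallyNoetherian g₁
  have hxr : x ∈ Set.range g₁ := by
    rw [hr₁]; exact ⟨hxV₁, subset_closure rfl⟩
  obtain ⟨t₁, ht₁⟩ := hxr
  have hinj : Function.Injective g₁ := g₁.isEmbedding.injective
  have hgen : ∀ t' : T₁, t' ⤳ t₁ → t' = t₁ := by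
    intro t' ht'
    have h1 : g₁ t' ⤳ x := ht₁ ▸ ht'.map g₁.continuous
    have h2 : x ⤳ g₁ t' := by
      have : g₁ t' ∈ Set.range g₁ := ⟨t', rfl⟩
      rw [hr₁] at this
      exact specializes_iff_mem_closure.2 this.2
    have h3 : g₁ t' = x := (h1.antisymm h2).eq
    exact hinj (h3.trans ht₁.symm)
  let G : EtCoh.Ab T₁ := (EtCoh.pull g₁).obj F
  have hfinG : ∀ (Ω : Type u) [Field Ω] [IsSepClosed Ω] (ζ : Spec (CommRingCat.of Ω) ⟶ T₁),
      Finite ((EtCoh.stalk ζ).obj G) := by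
    intro Ω _ _ ζ
    haveI := hfin Ω (ζ ≫ g₁)
    exact Finite.of_equiv _
      ((Groth.Agent.S0101.stalkPullIso g₁ ζ).app F).addCommGroupIsoToAddEquiv.toEquiv
  have hcardG : ∀ t : T₁, ∃ (Ω : Type u) (_ : Field Ω) (_ : IsSepClosed Ω)
      (ζ : Spec (CommRingCat.of Ω) ⟶ T₁), ζ (default : Spec (CommRingCat.of Ω)) = t ∧
        Nat.card ((EtCoh.stalk ζ).obj G) = n := by
    intro t
    have htm : g₁ t ∈ stalkSet F (fun M : AddCommGrpCat.{u + 1} => Nat.card M = n) := by
      apply hV₁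
      rw [← hr₁]
      exact ⟨t, rfl⟩
    obtain ⟨Ω, _, _, ξ, hξ, hc⟩ := htm
    rw [range_eq_singleton_iff] at hξ
    obtain ⟨ζ, hζ⟩ := Groth.Agent.Lib.Seat29.EtACC.exists_fac_of_mem_range_immersion g₁ ξ
      (by rw [hξ]; exact ⟨t, rfl⟩)
    refine ⟨Ω, inferInstance, inferInstance, ζ, ?_, ?_⟩
    · apply hinj
      rw [← hξ, ← hζ]
      rfl
    · subst hζ
      rw [← hc]
      exact (Nat.card_congr
        ((Groth.Agent.S0101.stalkPullIso g₁ ζ).app F).addCommGroupIsoToAddEquiv.toEquiv).symm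
  obtain ⟨O, ht₁O, hO⟩ := Groth.Agent.Lib.Seat29.EtGenConst.exists_open_flc_of_card G t₁ hgen n
    hfinG hcardG
  obtain ⟨O', hO', hOO'⟩ := g₁.isEmbedding.isInducing.isOpen_iff.1 O.isOpen
  have hxO' : x ∈ O' := by
    have : t₁ ∈ g₁ ⁻¹' O' := by rw [hOO']; exact ht₁O
    rw [← ht₁]
    exact this
  refine ⟨V₁ ⊓ ⟨O', hO'⟩, O.toScheme, O.ι ≫ g₁, inferInstance, ⟨hxV₁, hxO'⟩, ?_, ?_⟩
  · rw [Scheme.Hom.comp_base, TopCat.coe_comp, Set.range_comp, Scheme.Opens.range_ι, ← hOO',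
      Set.image_preimage_eq_range_inter, hr₁]
    ext y
    simp only [Set.mem_inter_iff, SetLike.mem_coe, Opens.coe_inf, Opens.coe_mk]
    tauto
  · exact isFLC_of_iso ((EtCore.pullComp O.ι g₁).app F).symm hO

end Groth.Agent.Lib.Seat29.EtStalkCard
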