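import Mathlib
import Groth.Prelude.Def_PBC
import Groth.Agent.Lib.Seat1LocConst

/-!
# The geometric stalk functors on abelian étale sheaves are additive (seat 29)

and a morphism is surjective on a stalk iff the stalk of its cokernel vanishes.
-/

set_option autoImplicit false

universe u

open CategoryTheory CategoryTheory.Limits AlgebraicGeometry Opposite

namespace Groth.Agent.Lib.Seat29.EtStalkExact

open Groth.Agent.Lib.Seat1.LocConst

instance stalk_additive {X : Scheme.{u}} {Ω : Type u} [Field Ω] [IsSepClosed Ω]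
    (ξ : Spec (CommRingCat.of Ω) ⟶ X) : (EtCoh.stalk ξ).Additive :=
  Functor.additive_of_preserves_binary_products _

lemma surjective_iff_isZero_cokernel {X : Scheme.{u}} {F G : EtCoh.Ab X} (φ : F ⟶ G)
    {Ω : Type u} [Field Ω] [IsSepClosed Ω] (ξ : Spec (CommRingCat.of Ω) ⟶ X) :
    Function.Surjective ((EtCoh.stalk ξ).map φ) ↔ IsZero ((EtCoh.stalk ξ).obj (cokernel φ)) := by
  rw [← AddCommGrpCat.epi_iff_surjective]
  have e : (EtCoh.stalk ξ).obj (cokernel φ) ≅ cokernel ((EtCoh.stalk ξ).map φ) :=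
    PreservesCokernel.iso (EtCoh.stalk ξ) φ
  constructor
  · intro h
    exact IsZero.of_iso (isZero_cokernel_of_epi _) e
  · intro h
    have hz : IsZero (cokernel ((EtCoh.stalk ξ).map φ)) := IsZero.of_iso h e.symm
    exact Preadditive.epi_of_isZero_cokernel _ hz

lemma injective_iff_isZero_kernel {X : Scheme.{u}} {F G : EtCoh.Ab X} (φ : F ⟶ G)
    {Ω : Type u} [Field Ω] [IsSepClosed Ω] (ξ : Spec (CommRingCat.of Ω) ⟶ X) :
    Function.Injective ((EtCoh.stalk ξ).map φ) ↔ IsZero ((EtCoh.stalk ξ).obj (kernel φ)) := by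
  rw [← AddCommGrpCat.mono_iff_injective]
  have e : (EtCoh.stalk ξ).obj (kernel φ) ≅ kernel ((EtCoh.stalk ξ).map φ) :=
    PreservesKernel.iso (EtCoh.stalk ξ) φ
  constructor
  · intro h
    exact IsZero.of_iso (isZero_kernel_of_mono _) e
  · intro h
    have hz : IsZero (kernel ((EtCoh.stalk ξ).map φ)) := IsZero.of_iso h e.symm
    exact Preadditive.mono_of_isZero_kernel _ hz

end Groth.Agent.Lib.Seat29.EtStalkExact
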