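import Mathlib

/-!
# Extension of functors along a dense inclusion of finitely presentable objects (seat 29)

Abstract "Ind-extension" results:

* `preservesFilteredColimits_of_isPointwiseLeftKanExtension`: a pointwise left Kan extension along
  a functor `L₀ : C₀ ⥤ C` whose values are finitely presentable objects preserves filtered colimits.
* `isPointwiseLeftKanExtension_of_preservesFilteredColimits`: if `L₀` is dense with essentially small
  filtered costructured arrow categories, any functor `G : C ⥤ B` preserving filtered colimits is the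
  pointwise left Kan extension of its restriction `L₀ ⋙ G`.
* `hasPointwiseLeftKanExtension`, `exists_extension`, `iso_of_restriction_iso`.
-/

set_option autoImplicit false
set_option linter.unusedSectionVars false
set_option linter.unusedVariables false

universe w v₀ v v' u₀ u u'

open CategoryTheory CategoryTheory.Limits CategoryTheory.Functor

namespace Groth.Agent.Lib.Seat29.IndExt

variable {C₀ : Type u₀} [Category.{v₀} C₀] {C : Type u} [Category.{v} C]
  {B : Type u'} [Category.{v'} B]

section Preserves

variable {L₀ : C₀ ⥤ C} {F : C₀ ⥤ B} (E : L₀.LeftExtension F)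
  (hE : E.IsPointwiseLeftKanExtension)
  [hfp : ∀ X : C₀, IsFinitelyPresentable.{w} (L₀.obj X)]

variable {J : Type w} [SmallCategory J] [IsFiltered J] {D : J ⥤ C} {c : Cocone D}
  (hc : IsColimit c) (s : Cocone (D ⋙ E.right))

include hc in
/-- Independence of the chosen factorization. -/
lemma factor_indep (X : C₀) {j₁ j₂ : J} (p₁ : L₀.obj X ⟶ D.obj j₁) (p₂ : L₀.obj X ⟶ D.obj j₂)
    (h : p₁ ≫ c.ι.app j₁ = p₂ ≫ c.ι.app j₂) :
    E.right.map p₁ ≫ s.ι.app j₁ = E.right.map p₂ ≫ s.ι.app j₂ := by
  obtain ⟨k, a, b, hab⟩ := IsFinitelyPresentable.exists_eq_of_isColimit hc p₁ p₂ h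
  have h1 := s.w a
  have h2 := s.w b
  dsimp at h1 h2
  rw [← h1, ← h2, ← E.right.map_comp_assoc, ← E.right.map_comp_assoc, hab]

/-- The component of the candidate cocone. -/
noncomputable def tApp (g : CostructuredArrow L₀ c.pt) : F.obj g.left ⟶ s.pt :=
  E.hom.app g.left ≫
    E.right.map (IsFinitelyPresentable.exists_hom_of_isColimit hc g.hom).choose_spec.choose ≫
    s.ι.app (IsFinitelyPresentable.exists_hom_of_isColimit hc g.hom).choose

lemma tApp_eq (g : CostructuredArrow L₀ c.pt) (j : J) (p : L₀.obj g.left ⟶ D.obj j)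
    (hp : p ≫ c.ι.app j = g.hom) :
    tApp E hc s g = E.hom.app g.left ≫ E.right.map p ≫ s.ι.app j := by
  unfold tApp
  congr 1
  exact factor_indep E hc s g.left _ _
    ((IsFinitelyPresentable.exists_hom_of_isColimit hc g.hom).choose_spec.choose_spec.trans hp.symm)

/-- The candidate cocone. -/
noncomputable def tCocone : Cocone (CostructuredArrow.proj L₀ c.pt ⋙ F) where
  pt := s.pt
  ι :=
    { app := fun g => tApp E hc s g
      naturality := fun g₁ g₂ φ => by
        obtain ⟨j, p, hp⟩ := IsFinitelyPresentable.exists_hom_of_isColimit hc g₂.hom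
        have hp' : (L₀.map φ.left ≫ p) ≫ c.ι.app j = g₁.hom := by
          rw [Category.assoc, hp, CostructuredArrow.w]
        rw [tApp_eq E hc s g₂ j p hp, tApp_eq E hc s g₁ j _ hp']
        have hn := E.hom.naturality φ.left
        dsimp at hn ⊢
        rw [Category.comp_id, E.right.map_comp, Category.assoc, ← reassoc_of% hn]
        rfl }

lemma desc_fac (g : CostructuredArrow L₀ c.pt) (j : J) (p : L₀.obj g.left ⟶ D.obj j)
    (hp : p ≫ c.ι.app j = g.hom) :
    E.hom.app g.left ≫ E.right.map g.hom ≫ (hE c.pt).desc (tCocone E hc s) =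
      E.hom.app g.left ≫ E.right.map p ≫ s.ι.app j := by
  have h1 := (hE c.pt).fac (tCocone E hc s) g
  rw [← tApp_eq E hc s g j p hp]
  rw [← Category.assoc]
  exact h1

/-- A pointwise left Kan extension along a functor with finitely presentable values sends a
filtered colimit cocone to a colimit cocone. -/
noncomputable def isColimitMapCocone : IsColimit (E.right.mapCocone c) where
  desc s := (hE c.pt).desc (tCocone E hc s)
  fac s j := by
    apply (hE (D.obj j)).hom_ext
    intro g'
    have h1 := desc_fac E hE hc s (CostructuredArrow.mk (g'.hom ≫ c.ι.app j)) j g'.hom rfl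
    show (E.hom.app g'.left ≫ E.right.map g'.hom) ≫ E.right.map (c.ι.app j) ≫
      (hE c.pt).desc (tCocone E hc s) = (E.hom.app g'.left ≫ E.right.map g'.hom) ≫ s.ι.app j
    dsimp at h1
    rw [E.right.map_comp, Category.assoc] at h1
    rw [Category.assoc, Category.assoc]
    exact h1
  uniq s m hm := by
    apply (hE c.pt).hom_ext
    intro g
    obtain ⟨j, p, hp⟩ := IsFinitelyPresentable.exists_hom_of_isColimit hc g.hom
    have h1 := desc_fac E hE hc s g j p hp
    have h2 := hm j
    show (E.hom.app g.left ≫ E.right.map g.hom) ≫ m =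
      (E.hom.app g.left ≫ E.right.map g.hom) ≫ (hE c.pt).desc (tCocone E hc s)
    rw [Category.assoc, Category.assoc, h1, ← hp, E.right.map_comp, Category.assoc]
    congr 2

end Preserves

/-- A pointwise left Kan extension along a functor with finitely presentable values preserves
filtered colimits. -/
lemma preservesFilteredColimits_of_isPointwiseLeftKanExtension
    {L₀ : C₀ ⥤ C} {F : C₀ ⥤ B} (E : L₀.LeftExtension F)
    (hE : E.IsPointwiseLeftKanExtension)
    [hfp : ∀ X : C₀, IsFinitelyPresentable.{w} (L₀.obj X)] :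
    PreservesFilteredColimitsOfSize.{w, w} E.right where
  preserves_filtered_colimits J _ _ :=
    { preservesColimit := fun {D} =>
        { preserves := fun {c} hc => ⟨isColimitMapCocone E hE hc⟩ } }

section Dense

variable (L₀ : C₀ ⥤ C) [L₀.IsDense]
  [hfil : ∀ Y : C, IsFiltered (CostructuredArrow L₀ Y)]
  [hsm : ∀ Y : C, EssentiallySmall.{w} (CostructuredArrow L₀ Y)]

include hfil hsm in
/-- A functor preserving `w`-small filtered colimits preserves colimits indexed by the
(essentially small, filtered) costructured arrow categories. -/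
lemma preservesColimitsOfShape_costructuredArrow (G : C ⥤ B)
    [PreservesFilteredColimitsOfSize.{w, w} G] (Y : C) :
    PreservesColimitsOfShape (CostructuredArrow L₀ Y) G := by
  let e := equivSmallModel.{w} (CostructuredArrow L₀ Y)
  have : IsFiltered (SmallModel.{w} (CostructuredArrow L₀ Y)) := IsFiltered.of_equivalence e
  have : PreservesColimitsOfShape (SmallModel.{w} (CostructuredArrow L₀ Y)) G :=
    PreservesFilteredColimitsOfSize.preserves_filtered_colimits _
  exact preservesColimitsOfShape_of_equiv e.symm G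

include hfil hsm in
/-- If `L₀` is dense with essentially small filtered costructured arrow categories, any functor
preserving filtered colimits is the pointwise left Kan extension of its restriction. -/
noncomputable def isPointwiseLeftKanExtensionOfPreservesFilteredColimits (G : C ⥤ B)
    [PreservesFilteredColimitsOfSize.{w, w} G] :
    (LeftExtension.mk G (𝟙 (L₀ ⋙ G))).IsPointwiseLeftKanExtension := fun Y => by
  have := preservesColimitsOfShape_costructuredArrow.{w} L₀ G Y
  have h : IsColimit (G.mapCocone ((LeftExtension.mk (𝟭 C) L₀.rightUnitor.inv).coconeAt Y)) :=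
    isColimitOfPreserves G (L₀.denseAt Y)
  refine IsColimit.ofIsoColimit h (Cocone.ext (Iso.refl _) (fun g => ?_))
  change (G.map (𝟙 (L₀.obj g.left) ≫ g.hom)) ≫ 𝟙 (G.obj Y) = 𝟙 _ ≫ G.map g.hom
  simp

include hfil hsm in
/-- Uniqueness: functors preserving filtered colimits with isomorphic restrictions along a dense
functor are isomorphic. -/
lemma nonempty_iso_of_restriction_iso (F₁ F₂ : C ⥤ B)
    [PreservesFilteredColimitsOfSize.{w, w} F₁] [PreservesFilteredColimitsOfSize.{w, w} F₂]
    (e : L₀ ⋙ F₁ ≅ L₀ ⋙ F₂) : Nonempty (F₁ ≅ F₂) := by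
  have h₁ : F₁.IsLeftKanExtension (𝟙 (L₀ ⋙ F₁)) :=
    (isPointwiseLeftKanExtensionOfPreservesFilteredColimits.{w} L₀ F₁).isLeftKanExtension
  have h₂ : F₂.IsLeftKanExtension (𝟙 (L₀ ⋙ F₂)) :=
    (isPointwiseLeftKanExtensionOfPreservesFilteredColimits.{w} L₀ F₂).isLeftKanExtension
  exact ⟨Functor.leftKanExtensionUniqueOfIso F₁ (𝟙 (L₀ ⋙ F₁)) e F₂ (𝟙 (L₀ ⋙ F₂))⟩

include hfil hsm in
/-- The images of the canonical maps are jointly epimorphic. -/
lemma jointly_epi (G : C ⥤ B) [PreservesFilteredColimitsOfSize.{w, w} G] {Y : C} {T : B}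
    (a b : G.obj Y ⟶ T)
    (h : ∀ (X : C₀) (f : L₀.obj X ⟶ Y), G.map f ≫ a = G.map f ≫ b) : a = b := by
  apply (isPointwiseLeftKanExtensionOfPreservesFilteredColimits.{w} L₀ G Y).hom_ext
  intro g
  have := h g.left g.hom
  change (𝟙 _ ≫ G.map g.hom) ≫ a = (𝟙 _ ≫ G.map g.hom) ≫ b
  simpa using this

include hfil hsm in
/-- Existence of pointwise left Kan extensions along `L₀` into a category with filtered
colimits. -/
lemma hasPointwiseLeftKanExtension (F : C₀ ⥤ B) [HasFilteredColimitsOfSize.{w, w} B] :
    L₀.HasPointwiseLeftKanExtension F := fun Y => by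
  let e := equivSmallModel.{w} (CostructuredArrow L₀ Y)
  have : IsFiltered (SmallModel.{w} (CostructuredArrow L₀ Y)) := IsFiltered.of_equivalence e
  have : HasColimitsOfShape (SmallModel.{w} (CostructuredArrow L₀ Y)) B :=
    HasFilteredColimitsOfSize.HasColimitsOfShape _
  have : HasColimitsOfShape (CostructuredArrow L₀ Y) B :=
    hasColimitsOfShape_of_equivalence e.symm
  infer_instance

include hfil hsm in
/-- Existence of an extension preserving filtered colimits. -/
lemma exists_extension [L₀.Full] [L₀.Faithful]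
    [hfp : ∀ X : C₀, IsFinitelyPresentable.{w} (L₀.obj X)]
    (F : C₀ ⥤ B) [HasFilteredColimitsOfSize.{w, w} B] :
    ∃ F' : C ⥤ B, PreservesFilteredColimitsOfSize.{w, w} F' ∧ Nonempty (L₀ ⋙ F' ≅ F) := by
  have := hasPointwiseLeftKanExtension.{w} L₀ F
  have hE := L₀.pointwiseLeftKanExtensionIsPointwiseLeftKanExtension F
  refine ⟨L₀.pointwiseLeftKanExtension F,
    preservesFilteredColimits_of_isPointwiseLeftKanExtension.{w} _ hE, ?_⟩
  have := hE.isIso_hom
  exact ⟨(asIso (LeftExtension.mk _ (L₀.pointwiseLeftKanExtensionUnit F)).hom).symm⟩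

end Dense

end Groth.Agent.Lib.Seat29.IndExt
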