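import Mathlib
import Groth.Agent.Lib.Helper16FPMod
import Groth.Agent.Lib.Seat29IndExt

/-!
# Finitely presented modules inside all modules (seat 29)

For a commutative ring `A : Type u`, we show that the inclusion `(PFP A).ι : FP A ⥤ ModuleCat.{u} A`
of the full subcategory of finitely presented modules

* takes values in (categorically) finitely presentable objects,
* is dense, with filtered and essentially small costructured arrow categories.

Consequently (via `Seat29IndExt`): functors `ModuleCat A ⥤ B` preserving filtered colimits are
the pointwise left Kan extensions of their restrictions to `FP A`.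
-/

set_option autoImplicit false
set_option linter.unusedSectionVars false
set_option linter.unusedVariables false

universe u v' u'

open CategoryTheory CategoryTheory.Limits Opposite

namespace Groth.Agent.Lib.Seat29.ModFP

open Groth.Agent.Lib.Helper16.FPMod

variable (A : Type u) [CommRing A]

/-- `Hom(A, -)` is the forgetful functor. -/
noncomputable def coyonedaIso :
    coyoneda.obj (op (ModuleCat.of A A)) ≅ forget (ModuleCat.{u} A) :=
  NatIso.ofComponents (fun M => Equiv.toIso
    { toFun := fun f => f.hom (1 : A)
      invFun := fun m => ModuleCat.ofHom (LinearMap.toSpanSingleton A M m)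
      left_inv := fun f => by
        apply ModuleCat.hom_ext
        apply LinearMap.ext_ring
        simp
      right_inv := fun m => by simp })
    (fun f => by
      ext g
      simp)

attribute [local instance] Cardinal.fact_isRegular_aleph0

instance isFP_one : IsFinitelyPresentable.{u} (ModuleCat.of A A) := by
  have : (forget (ModuleCat.{u} A)).IsFinitelyAccessible :=
    Functor.isFinitelyAccessible_iff_preservesFilteredColimits.2 inferInstance
  exact Functor.isCardinalAccessible_of_natIso (coyonedaIso A).symm _

lemma isFP_free (n : ℕ) : IsFinitelyPresentable.{u} (ModuleCat.of A (Fin n → A)) := by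
  let f : Fin n → ModuleCat.{u} A := fun _ => ModuleCat.of A A
  have h1 : IsFinitelyPresentable.{u} (⨁ f) := by
    have hK : HasCardinalLT (Arrow (Discrete (Fin n))) Cardinal.aleph0.{u} := by
      simp only [hasCardinalLT_aleph0_iff]
      infer_instance
    have : ∀ k, IsCardinalPresentable ((Discrete.functor f).obj k) Cardinal.aleph0.{u} := by
      intro k
      dsimp [f]
      infer_instance
    exact isCardinalPresentable_of_isColimit' _ (biproduct.isColimit f) Cardinal.aleph0.{u} hK
  exact isCardinalPresentable_of_iso (ModuleCat.biproductIsoPi f) _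

/-- A finitely presented module is a finitely presentable object of the category of modules. -/
lemma isFP_of_finitePresentation (M : ModuleCat.{u} A) [Module.FinitePresentation A M] :
    IsFinitelyPresentable.{u} M := by
  obtain ⟨n, m, f, g, hf, hfg⟩ := Module.FinitePresentation.exists_fin' A M
  let S : ShortComplex (ModuleCat.{u} A) :=
    ShortComplex.mk (ModuleCat.ofHom g)
      (ModuleCat.ofHom (X := ModuleCat.of A (Fin n → A)) (Y := M) f) (by
      apply ModuleCat.hom_ext
      apply LinearMap.ext
      intro x
      exact hfg.apply_apply_eq_zero x)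
  have hS : S.Exact := (ShortComplex.ShortExact.moduleCat_exact_iff_function_exact S).2 hfg
  have : Epi S.g := (ModuleCat.epi_iff_surjective _).2 hf
  have hc : IsColimit (CokernelCofork.ofπ S.g S.zero) := hS.gIsCokernel
  have hK : HasCardinalLT (Arrow WalkingParallelPair) Cardinal.aleph0.{u} := by
    simp only [hasCardinalLT_aleph0_iff]
    infer_instance
  have : ∀ k, IsCardinalPresentable ((parallelPair S.f 0).obj k) Cardinal.aleph0.{u} := by
    rintro (_ | _)
    · exact isFP_free A m
    · exact isFP_free A n
  exact isCardinalPresentable_of_isColimit' _ hc Cardinal.aleph0.{u} hK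

instance isFP_ι_obj (X : FP A) : IsFinitelyPresentable.{u} ((PFP A).ι.obj X) := by
  have : Module.FinitePresentation A X.obj := X.property
  exact isFP_of_finitePresentation A X.obj

/-! ### Essential smallness -/

instance essentiallySmall_PFP : ObjectProperty.EssentiallySmall.{u} (PFP A) where
  exists_small_le' := by
    refine ⟨ObjectProperty.ofObj (fun (p : Σ n : ℕ, Submodule A (Fin n → A)) =>
      ModuleCat.of A ((Fin p.1 → A) ⧸ p.2)), inferInstance, ?_⟩
    intro M hM
    have : Module.FinitePresentation A M := hM
    obtain ⟨n, f, hf⟩ := Module.Finite.exists_fin' A M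
    refine ⟨_, ObjectProperty.ofObj_apply _ ⟨n, LinearMap.ker f⟩, ⟨?_⟩⟩
    exact (LinearEquiv.toModuleIso (f.quotKerEquivOfSurjective hf)).symm

instance essentiallySmall_FP : EssentiallySmall.{u} (FP A) := inferInstance

instance essentiallySmall_costructuredArrow (M : ModuleCat.{u} A) :
    EssentiallySmall.{u} (CostructuredArrow (PFP A).ι M) := inferInstance

/-! ### Filteredness of the costructured arrow categories -/

variable {A}

/-- Constructor for objects of `CostructuredArrow (PFP A).ι M`. -/
noncomputable abbrev mkCA {M : ModuleCat.{u} A} (P : Type u) [AddCommGroup P] [Module A P]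
    [Module.FinitePresentation A P] (a : P →ₗ[A] M) : CostructuredArrow (PFP A).ι M :=
  CostructuredArrow.mk (Y := (⟨ModuleCat.of A P, ‹_›⟩ : FP A)) (ModuleCat.ofHom a)

/-- Constructor for morphisms of `CostructuredArrow (PFP A).ι M`. -/
noncomputable abbrev homCA {M : ModuleCat.{u} A} {X Y : CostructuredArrow (PFP A).ι M}
    (f : X.left.obj →ₗ[A] Y.left.obj) (h : ∀ x, Y.hom.hom (f x) = X.hom.hom x) : X ⟶ Y :=
  CostructuredArrow.homMk (ObjectProperty.homMk (ModuleCat.ofHom f)) (by
    apply ModuleCat.hom_ext
    apply LinearMap.ext
    intro x
    exact h x)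

lemma homCA_w {M : ModuleCat.{u} A} {X Y : CostructuredArrow (PFP A).ι M} (f : X ⟶ Y)
    (x : X.left.obj) : Y.hom.hom (f.left.hom.hom x) = X.hom.hom x := by
  have := CostructuredArrow.w f
  exact congrArg (fun t => t.hom x) this

instance isFiltered_costructuredArrow (M : ModuleCat.{u} A) :
    IsFiltered (CostructuredArrow (PFP A).ι M) := by
  have hne : Nonempty (CostructuredArrow (PFP A).ι M) :=
    ⟨mkCA (M := M) PUnit.{u+1} 0⟩
  have : IsFilteredOrEmpty (CostructuredArrow (PFP A).ι M) := by
    refine ⟨fun X Y => ?_, fun X Y f g => ?_⟩
    · have : Module.FinitePresentation A X.left.obj := X.left.property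
      have : Module.FinitePresentation A Y.left.obj := Y.left.property
      refine ⟨mkCA (X.left.obj × Y.left.obj) (X.hom.hom.coprod Y.hom.hom),
        homCA (LinearMap.inl A _ _) (fun x => ?_), homCA (LinearMap.inr A _ _) (fun x => ?_), trivial⟩
      · change (X.hom.hom.coprod Y.hom.hom) (x, 0) = _
        simp
      · change (X.hom.hom.coprod Y.hom.hom) (0, x) = _
        simp
    · have : Module.FinitePresentation A Y.left.obj := Y.left.property
      have : Module.FinitePresentation A X.left.obj := X.left.property
      let d : X.left.obj →ₗ[A] Y.left.obj := f.left.hom.hom - g.left.hom.hom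
      let N : Submodule A Y.left.obj := LinearMap.range d
      have hN : N.FG := by
        have h1 : (⊤ : Submodule A X.left.obj).FG := Module.Finite.fg_top
        have h2 := h1.map d
        rwa [Submodule.map_top] at h2
      have hle : N ≤ LinearMap.ker Y.hom.hom := by
        rintro _ ⟨x, rfl⟩
        rw [LinearMap.mem_ker]
        change Y.hom.hom (f.left.hom.hom x - g.left.hom.hom x) = 0
        rw [map_sub, homCA_w f x, homCA_w g x, sub_self]
      have hfp : Module.FinitePresentation A (Y.left.obj ⧸ N) :=
        Module.finitePresentation_of_surjective N.mkQ N.mkQ_surjective (by rwa [Submodule.ker_mkQ])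
      refine ⟨mkCA (Y.left.obj ⧸ N) (N.liftQ Y.hom.hom hle),
        homCA N.mkQ (fun x => ?_), ?_⟩
      · change (N.liftQ Y.hom.hom hle) (N.mkQ x) = _
        simp
      · apply CostructuredArrow.hom_ext
        apply ObjectProperty.hom_ext
        apply ModuleCat.hom_ext
        apply LinearMap.ext
        intro x
        change N.mkQ (f.left.hom.hom x) = N.mkQ (g.left.hom.hom x)
        rw [← sub_eq_zero, ← map_sub]
        simp only [Submodule.mkQ_apply, Submodule.Quotient.mk_eq_zero]
        exact ⟨x, rfl⟩
  exact { nonempty := hne }

/-! ### Density -/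

section Density

variable {M : ModuleCat.{u} A}

/-- The object `(A, a ↦ a • m)` of the costructured arrow category. -/
noncomputable abbrev ptCA (m : M) : CostructuredArrow (PFP A).ι M :=
  mkCA A (LinearMap.toSpanSingleton A M m)

variable (s : Cocone (CostructuredArrow.proj (PFP A).ι M ⋙ (PFP A).ι))

lemma s_nat {g₁ g₂ : CostructuredArrow (PFP A).ι M} (φ : g₁ ⟶ g₂) (x : g₁.left.obj) :
    (s.ι.app g₂).hom (φ.left.hom.hom x) = (s.ι.app g₁).hom x := by
  have := s.w φ
  exact congrArg (fun t => t.hom x) this

/-- The underlying function of the descent map. -/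
noncomputable def descFun (m : M) : s.pt := (s.ι.app (ptCA m)).hom (1 : A)

lemma descFun_add (m m' : M) : descFun s (m + m') = descFun s m + descFun s m' := by
  let T : CostructuredArrow (PFP A).ι M :=
    mkCA (A × A) ((LinearMap.toSpanSingleton A M m).coprod (LinearMap.toSpanSingleton A M m'))
  let i₁ : ptCA m ⟶ T := homCA (LinearMap.inl A A A) (fun x => by
    change ((LinearMap.toSpanSingleton A M m).coprod (LinearMap.toSpanSingleton A M m')) (x, 0) = _
    simp)
  let i₂ : ptCA m' ⟶ T := homCA (LinearMap.inr A A A) (fun x => by
    change ((LinearMap.toSpanSingleton A M m).coprod (LinearMap.toSpanSingleton A M m')) (0, x) = _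
    simp)
  let δ : ptCA (m + m') ⟶ T := homCA (LinearMap.prod LinearMap.id LinearMap.id) (fun x => by
    change ((LinearMap.toSpanSingleton A M m).coprod (LinearMap.toSpanSingleton A M m')) (x, x) =
      (LinearMap.toSpanSingleton A M (m + m')) x
    simp)
  have h₁ := s_nat s i₁ (1 : A)
  have h₂ := s_nat s i₂ (1 : A)
  have h₃ := s_nat s δ (1 : A)
  unfold descFun
  rw [← h₁, ← h₂, ← h₃, ← map_add]
  congr 1
  change ((1 : A), (1 : A)) = ((1 : A), (0 : A)) + ((0 : A), (1 : A))
  simp

lemma descFun_smul (r : A) (m : M) : descFun s (r • m) = r • descFun s m := by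
  let μ : ptCA (r • m) ⟶ ptCA m := homCA (LinearMap.lsmul A A r) (fun x => by
    let y : A := x
    change (LinearMap.toSpanSingleton A M m) (r * y) = (LinearMap.toSpanSingleton A M (r • m)) y
    simp [mul_smul, smul_comm r y m])
  have h := s_nat s μ (1 : A)
  unfold descFun
  rw [← h, ← map_smul]
  congr 1

/-- The descent map as a linear map. -/
noncomputable def descLin : M →ₗ[A] s.pt where
  toFun := descFun s
  map_add' := descFun_add s
  map_smul' := descFun_smul s

lemma descLin_fac (g : CostructuredArrow (PFP A).ι M) (x : g.left.obj) :
    descLin s (g.hom.hom x) = (s.ι.app g).hom x := by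
  let ε : ptCA (g.hom.hom x) ⟶ g := homCA (LinearMap.toSpanSingleton A g.left.obj x) (fun y => by
    change g.hom.hom (y • x) = y • g.hom.hom x
    simp)
  have h := s_nat s ε (1 : A)
  change descFun s (g.hom.hom x) = _
  unfold descFun
  rw [← h]
  congr 1
  change (1 : A) • x = x
  simp

variable (A M) in
/-- The canonical cocone exhibiting `M` as the colimit of finitely presented modules over it is
a colimit. -/
noncomputable def denseAt : (PFP A).ι.DenseAt M where
  desc s := ModuleCat.ofHom (descLin s)
  fac s g := by
    apply ModuleCat.hom_ext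
    apply LinearMap.ext
    intro x
    exact descLin_fac s g x
  uniq s m hm := by
    apply ModuleCat.hom_ext
    apply LinearMap.ext
    intro x
    have h := congrArg (fun t => t.hom (1 : A)) (hm (ptCA x))
    change m.hom x = descFun s x
    unfold descFun
    rw [← h]
    change m.hom x = m.hom ((1 : A) • x)
    simp

instance isDense_ι : (PFP A).ι.IsDense where
  isDenseAt M := ⟨denseAt A M⟩

end Density

end Groth.Agent.Lib.Seat29.ModFP
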