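import Mathlib
import Groth.Agent.Lib.Helper16FPMod
import Groth.Agent.Lib.Helper9Coprod
import Groth.Agent.Lib.Seat29ModFP

/-!
# Functors on modules commuting with filtered colimits (seat 29)

Let `F' : ModuleCat A ⥤ B` commute with filtered colimits.
* `additive`: if the restriction of `F'` to finitely presented modules is additive, so is `F'`.
* `preservesCoproducts`: an additive such `F'` preserves all small coproducts.
-/

set_option autoImplicit false
set_option linter.unusedSectionVars false
set_option linter.unusedVariables false

universe u v' u'

open CategoryTheory CategoryTheory.Limits Opposite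

namespace Groth.Agent.Lib.Seat29.FunMor

open Groth.Agent.Lib.Helper16.FPMod Groth.Agent.Lib.Seat29.ModFP

variable (A : Type u) [CommRing A] {B : Type u'} [Category.{v'} B] [Preadditive B]
  (F' : ModuleCat.{u} A ⥤ B) [PreservesFilteredColimitsOfSize.{u, u} F']

/-- Joint epimorphicity of the images of maps from finitely presented modules. -/
lemma jointly_epi {M : ModuleCat.{u} A} {T : B} (a b : F'.obj M ⟶ T)
    (h : ∀ (X : FP A) (f : X.obj ⟶ M), F'.map f ≫ a = F'.map f ≫ b) : a = b :=
  Groth.Agent.Lib.Seat29.IndExt.jointly_epi.{u} (PFP A).ι F' a b h

lemma map_add_of_fp [((PFP A).ι ⋙ F').Additive] (X : FP A) {N : ModuleCat.{u} A}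
    (f g : X.obj ⟶ N) : F'.map (f + g) = F'.map f + F'.map g := by
  have h1 : f = (PFP A).ι.map (bicone X X).inl ≫ biprod.desc f g := by
    change f = biprod.inl ≫ biprod.desc f g
    simp
  have h2 : g = (PFP A).ι.map (bicone X X).inr ≫ biprod.desc f g := by
    change g = biprod.inr ≫ biprod.desc f g
    simp
  have h3 : f + g = (PFP A).ι.map ((bicone X X).inl + (bicone X X).inr) ≫ biprod.desc f g := by
    rw [Functor.map_add, Preadditive.add_comp, ← h1, ← h2]
  have h4 := Functor.map_add (F := (PFP A).ι ⋙ F') (f := (bicone X X).inl) (g := (bicone X X).inr)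
  dsimp only [Functor.comp_map] at h4
  rw [h3, F'.map_comp, h4, Preadditive.add_comp, ← F'.map_comp, ← F'.map_comp, ← h1, ← h2]

/-- If the restriction of `F'` to finitely presented modules is additive, then `F'` is additive. -/
lemma additive [((PFP A).ι ⋙ F').Additive] : F'.Additive where
  map_add {M N f g} := by
    apply jointly_epi A F'
    intro X p
    rw [← F'.map_comp, Preadditive.comp_add, Preadditive.comp_add, ← F'.map_comp, ← F'.map_comp,
      map_add_of_fp A F' X]

/-- An additive functor commuting with filtered colimits preserves small coproducts. -/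
lemma preservesCoproducts [F'.Additive] (J : Type u) :
    PreservesColimitsOfShape (Discrete J) F' := by
  have : PreservesColimitsOfShape (Finset (Discrete J)) F' :=
    PreservesFilteredColimitsOfSize.preserves_filtered_colimits _
  exact Groth.Agent.Lib.Helper9.Coprod.preservesColimitsOfShape_discrete F'

end Groth.Agent.Lib.Seat29.FunMor
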