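import Mathlib
import Groth.Agent.Lib.Helper16FPMod
import Groth.Agent.Lib.Seat29FunMor

/-!
# Right exactness of extensions of right exact functors on finitely presented modules (seat 29)

Let `F' : ModuleCat A ⥤ B` commute with filtered colimits and be right exact on finitely presented
modules. Then `F'` preserves cokernels (`isColimitCokernelCofork`), hence is right exact.

The main tool is the universal property `exists_of_linear`: morphisms `F'(M) ⟶ b` correspond to
"`A`-linear" families `M → (F'(A) ⟶ b)`.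
-/

set_option autoImplicit false
set_option linter.unusedSectionVars false
set_option linter.unusedVariables false

universe u v' u'

open CategoryTheory CategoryTheory.Limits Opposite

namespace Groth.Agent.Lib.Seat29.FunMorR

open Groth.Agent.Lib.Helper16.FPMod Groth.Agent.Lib.Seat29.ModFP

variable {A : Type u} [CommRing A] {B : Type u'} [Category.{v'} B] [Preadditive B]
  [HasFiniteBiproducts B]

section FPLevel

variable (F : FP A ⥤ B) [PreservesFiniteColimits F]

lemma elt_eq_mulA (a : A) : elt (M := one A) a = mulA a := by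
  apply hom_ext'
  intro b
  change b • a = a * b
  rw [smul_eq_mul, mul_comm]

lemma apply_eq_sum {M : FP A} {n : ℕ} (π : fr A n ⟶ M) (c : Fin n → A) :
    π.hom c = ∑ j : Fin n, c j • π.hom (Pi.single j 1) := by
  have h1 : c = ∑ j : Fin n, c j • (Pi.single j 1 : Fin n → A) := by
    conv_lhs => rw [← Finset.univ_sum_single c]
    refine Finset.sum_congr rfl (fun j _ => ?_)
    ext k
    by_cases h : k = j
    · subst h; simp
    · simp [Pi.single_eq_of_ne h]
  conv_lhs => rw [h1]
  rw [map_sum]
  refine Finset.sum_congr rfl (fun j _ => ?_)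
  exact map_smul π.hom.hom (c j) _

/-- Universal property of `F(M)` for a right exact functor `F` on finitely presented modules:
a linear family of maps `F(A) ⟶ b` indexed by `M` comes from a map `F(M) ⟶ b`. -/
lemma exists_of_linear_fp (M : FP A) {b : B} (v : M.obj → (F.obj (one A) ⟶ b))
    (hadd : ∀ x y, v (x + y) = v x + v y)
    (hsmul : ∀ (a : A) x, v (a • x) = F.map (mulA a) ≫ v x) :
    ∃ t : F.obj M ⟶ b, ∀ x : M.obj, F.map (elt x) ≫ t = v x := by
  have := additive_of_pfc F
  let vAdd : M.obj →+ (F.obj (one A) ⟶ b) :=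
    { toFun := v
      map_zero' := by
        have := hadd 0 0
        rw [add_zero] at this
        exact left_eq_add.mp this
      map_add' := hadd }
  have hvsum : ∀ {ι : Type} (s : Finset ι) (y : ι → M.obj), v (∑ j ∈ s, y j) = ∑ j ∈ s, v (y j) :=
    fun s y => map_sum vAdd y s
  have hv0 : v 0 = 0 := vAdd.map_zero
  obtain ⟨n, m, R, π, hπ, hex⟩ := exists_pres M
  let s : F.obj (fr A n) ⟶ b :=
    ∑ j : Fin n, F.map (proj j) ≫ v (π.hom (Pi.single j 1))
  have hs : ∀ c : Fin n → A, F.map (elt (M := fr A n) c) ≫ s = v (π.hom c) := by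
    intro c
    rw [Preadditive.comp_sum, apply_eq_sum π c, hvsum]
    refine Finset.sum_congr rfl (fun j _ => ?_)
    rw [← F.map_comp_assoc, elt_comp, proj_apply, elt_eq_mulA, hsmul]
  have hR : R ≫ π = 0 := comp_eq_zero_of_exact R π hex
  have hRs : F.map R ≫ s = 0 := by
    apply jointly_epi F (fr A m)
    intro d
    rw [comp_zero, ← F.map_comp_assoc, elt_comp, hs]
    have : π.hom (R.hom d) = 0 := hex.apply_apply_eq_zero d
    rw [this, hv0]
  have hc := isColimitOfExact R π hπ hex
  have hFc : IsColimit ((CokernelCofork.ofπ π hR).map F) := CokernelCofork.mapIsColimit _ hc F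
  obtain ⟨t, ht'⟩ : ∃ t : F.obj M ⟶ b, F.map π ≫ t = s :=
    ⟨(CokernelCofork.IsColimit.desc' hFc s hRs).1, (CokernelCofork.IsColimit.desc' hFc s hRs).2⟩
  refine ⟨t, fun x => ?_⟩
  obtain ⟨c, rfl⟩ := hπ x
  rw [← elt_comp, F.map_comp, Category.assoc, ht', hs]

end FPLevel

section Abstract

open CategoryTheory.Functor

variable {C₀ : Type*} [Category C₀] {C : Type*} [Category C] {B' : Type*} [Category B']

/-- Descent along the canonical colimit for a functor preserving filtered colimits. -/
lemma exists_desc (L₀ : C₀ ⥤ C) [L₀.IsDense]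
    [hfil : ∀ Y : C, IsFiltered (CostructuredArrow L₀ Y)]
    [hsm : ∀ Y : C, EssentiallySmall.{u} (CostructuredArrow L₀ Y)]
    (G : C ⥤ B') [PreservesFilteredColimitsOfSize.{u, u} G] (Y : C)
    (c : Cocone (CostructuredArrow.proj L₀ Y ⋙ L₀ ⋙ G)) :
    ∃ t : G.obj Y ⟶ c.pt, ∀ g : CostructuredArrow L₀ Y, G.map g.hom ≫ t = c.ι.app g := by
  have hE := Groth.Agent.Lib.Seat29.IndExt.isPointwiseLeftKanExtensionOfPreservesFilteredColimits.{u}
    L₀ G Y
  refine ⟨hE.desc c, fun g => ?_⟩
  have := hE.fac c g
  change (𝟙 _ ≫ G.map g.hom) ≫ _ = _ at this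
  rwa [Category.id_comp] at this

end Abstract

section General

/-- An element of a module as a morphism from `A`. -/
noncomputable abbrev eltM {M : ModuleCat.{u} A} (m : M) : ModuleCat.of A A ⟶ M :=
  ModuleCat.ofHom (LinearMap.toSpanSingleton A M m)

variable (A) in
/-- Multiplication by `r` on `A`. -/
noncomputable abbrev mulM (r : A) : ModuleCat.of A A ⟶ ModuleCat.of A A :=
  ModuleCat.ofHom (LinearMap.lsmul A A r)

lemma eltM_comp {M N : ModuleCat.{u} A} (m : M) (g : M ⟶ N) : eltM m ≫ g = eltM (g.hom m) := by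
  apply ModuleCat.hom_ext
  apply LinearMap.ext_ring
  simp

lemma eltM_add {M : ModuleCat.{u} A} (m m' : M) : eltM (m + m') = eltM m + eltM m' := by
  apply ModuleCat.hom_ext
  apply LinearMap.ext_ring
  simp

lemma eltM_sub {M : ModuleCat.{u} A} (m m' : M) : eltM (m - m') = eltM m - eltM m' := by
  apply ModuleCat.hom_ext
  apply LinearMap.ext_ring
  simp

lemma mulM_comp_eltM {M : ModuleCat.{u} A} (r : A) (m : M) :
    mulM A r ≫ eltM m = eltM (r • m) := by
  apply ModuleCat.hom_ext
  apply LinearMap.ext_ring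
  simp

variable [HasFilteredColimitsOfSize.{u, u} B]
  (F' : ModuleCat.{u} A ⥤ B) [PreservesFilteredColimitsOfSize.{u, u} F']
  [PreservesFiniteColimits ((PFP A).ι ⋙ F')]

/-- Universal property of `F'(M)`: a linear family of maps `F'(A) ⟶ b` indexed by `M` comes
from a map `F'(M) ⟶ b`. -/
lemma exists_of_linear (M : ModuleCat.{u} A) {b : B}
    (v : M → (F'.obj (ModuleCat.of A A) ⟶ b))
    (hadd : ∀ x y, v (x + y) = v x + v y)
    (hsmul : ∀ (a : A) x, v (a • x) = F'.map (mulM A a) ≫ v x) :
    ∃ t : F'.obj M ⟶ b, ∀ x : M, F'.map (eltM x) ≫ t = v x := by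
  let F := (PFP A).ι ⋙ F'
  have hg : ∀ g : CostructuredArrow (PFP A).ι M, ∃ t : F.obj g.left ⟶ b,
      ∀ x : g.left.obj, F.map (elt x) ≫ t = v (g.hom.hom x) := fun g =>
    exists_of_linear_fp F g.left (fun x => v (g.hom.hom x))
      (by intro x y; rw [map_add, hadd])
      (by intro a x; rw [map_smul, hsmul]; rfl)
  choose tg htg using hg
  let c : Cocone (CostructuredArrow.proj (PFP A).ι M ⋙ (PFP A).ι ⋙ F') :=
    { pt := b
      ι :=
        { app := tg
          naturality := fun g₁ g₂ φ => by
            apply jointly_epi F g₁.left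
            intro x
            dsimp only [Functor.const_obj_obj, Functor.const_obj_map]
            rw [Category.comp_id, htg]
            change F.map (elt x) ≫ F.map φ.left ≫ tg g₂ = _
            rw [← F.map_comp_assoc, elt_comp, htg, homCA_w] } }
  obtain ⟨t, ht⟩ := exists_desc (PFP A).ι F' M c
  refine ⟨t, fun x => ?_⟩
  have h1 := ht (ptCA x)
  have h2 := htg (ptCA x) (1 : A)
  change F'.map (eltM x) ≫ t = tg (ptCA x) at h1
  rw [h1]
  rw [elt_one] at h2
  change F'.map (𝟙 _) ≫ tg (ptCA x) = v ((1 : A) • x) at h2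
  rwa [F'.map_id, Category.id_comp, one_smul] at h2

end General

section Cokernel

variable [HasFilteredColimitsOfSize.{u, u} B]
  (F' : ModuleCat.{u} A ⥤ B) [PreservesFilteredColimitsOfSize.{u, u} F']
  [PreservesFiniteColimits ((PFP A).ι ⋙ F')]

/-- The maps `F'(A) ⟶ F'(M)` induced by the elements of `M` are jointly epimorphic. -/
lemma jointly_epi_elt (M : ModuleCat.{u} A) {b : B} (s s' : F'.obj M ⟶ b)
    (h : ∀ x : M, F'.map (eltM x) ≫ s = F'.map (eltM x) ≫ s') : s = s' := by
  apply Groth.Agent.Lib.Seat29.FunMor.jointly_epi A F'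
  intro X f
  apply jointly_epi ((PFP A).ι ⋙ F') X
  intro x
  change F'.map (eltM x) ≫ F'.map f ≫ s = F'.map (eltM x) ≫ F'.map f ≫ s'
  rw [← F'.map_comp_assoc, ← F'.map_comp_assoc, eltM_comp]
  exact h _

lemma additive : F'.Additive := by
  have : ((PFP A).ι ⋙ F').Additive := additive_of_pfc _
  exact Groth.Agent.Lib.Seat29.FunMor.additive A F'

variable {M N Q : ModuleCat.{u} A} (f : M ⟶ N) (π : N ⟶ Q)
  (hπ : Function.Surjective π.hom) (hex : Function.Exact f.hom π.hom)

include hπ in
lemma epi_map_of_surjective : Epi (F'.map π) := by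
  constructor
  intro b s s' h
  apply jointly_epi_elt F' Q
  intro q
  obtain ⟨n, rfl⟩ := hπ q
  rw [← eltM_comp, F'.map_comp, Category.assoc, Category.assoc, h]

include hπ hex in
lemma exists_desc_cokernel {b : B} (t : F'.obj N ⟶ b) (ht : F'.map f ≫ t = 0) :
    ∃ t' : F'.obj Q ⟶ b, F'.map π ≫ t' = t := by
  have := additive F'
  -- the family on `Q`
  have key : ∀ n n' : N, π.hom n = π.hom n' → F'.map (eltM n) ≫ t = F'.map (eltM n') ≫ t := by
    intro n n' hnn'
    have h0 : π.hom (n - n') = 0 := by rw [map_sub, hnn', sub_self]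
    obtain ⟨m, hm⟩ := (hex (n - n')).1 h0
    rw [← sub_eq_zero, ← Preadditive.sub_comp, ← F'.map_sub, ← eltM_sub, ← hm, ← eltM_comp,
      F'.map_comp, Category.assoc, ht, comp_zero]
  let σ : Q → N := Function.surjInv hπ
  have hσ : ∀ q, π.hom (σ q) = q := Function.surjInv_eq hπ
  let v : Q → (F'.obj (ModuleCat.of A A) ⟶ b) := fun q => F'.map (eltM (σ q)) ≫ t
  have hv : ∀ n : N, v (π.hom n) = F'.map (eltM n) ≫ t := fun n => key _ _ (hσ _)
  obtain ⟨t', ht'⟩ := exists_of_linear F' Q v
    (by
      intro x y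
      obtain ⟨n, rfl⟩ := hπ x
      obtain ⟨n', rfl⟩ := hπ y
      rw [← map_add, hv, hv, hv, eltM_add, F'.map_add, Preadditive.add_comp])
    (by
      intro a x
      obtain ⟨n, rfl⟩ := hπ x
      rw [← map_smul, hv, hv, ← mulM_comp_eltM, F'.map_comp, Category.assoc])
  refine ⟨t', ?_⟩
  apply jointly_epi_elt F' N
  intro n
  rw [← F'.map_comp_assoc, eltM_comp, ht', hv]

/-- `F'` sends right exact sequences of modules to cokernel diagrams. -/
noncomputable def isColimitCokernelCofork (w : F'.map f ≫ F'.map π = 0) :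
    IsColimit (CokernelCofork.ofπ (F'.map π) w) :=
  have := epi_map_of_surjective F' π hπ
  CokernelCofork.IsColimit.ofπ' _ _ (fun k hk =>
    ⟨(exists_desc_cokernel F' f π hπ hex k hk).choose,
      (exists_desc_cokernel F' f π hπ hex k hk).choose_spec⟩)

/-- `F'` preserves cokernels. -/
lemma preservesColimit_parallelPair : PreservesColimit (parallelPair f 0) F' := by
  let Q' : ModuleCat.{u} A := ModuleCat.of A (N ⧸ LinearMap.range f.hom)
  let π' : N ⟶ Q' := ModuleCat.ofHom (LinearMap.range f.hom).mkQ
  have hπ' : Function.Surjective π'.hom := (LinearMap.range f.hom).mkQ_surjective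
  have hex' : Function.Exact f.hom π'.hom := LinearMap.exact_map_mkQ_range f.hom
  have hzero : f ≫ π' = 0 := by
    apply ModuleCat.hom_ext
    apply LinearMap.ext
    intro x
    exact hex'.apply_apply_eq_zero x
  let S : ShortComplex (ModuleCat.{u} A) := ShortComplex.mk f π' hzero
  have hS : S.Exact := (ShortComplex.ShortExact.moduleCat_exact_iff_function_exact S).2 hex'
  have : Epi S.g := (ModuleCat.epi_iff_surjective _).2 hπ'
  have hc : IsColimit (CokernelCofork.ofπ S.g S.zero) := hS.gIsCokernel
  have := additive F'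
  have w : F'.map f ≫ F'.map π' = 0 := by rw [← F'.map_comp, hzero, F'.map_zero]
  exact preservesColimit_of_preserves_colimit_cocone hc
    ((CokernelCofork.isColimitMapCoconeEquiv _ F').symm
      (isColimitCokernelCofork F' f π' hπ' hex' w))

variable [HasCokernels B] in
/-- `F'` is right exact. -/
lemma preservesFiniteColimits : PreservesFiniteColimits F' := by
  have := additive F'
  have : HasZeroObject B := hasZeroObject_of_hasFiniteBiproducts B
  have : ∀ {X Y : ModuleCat.{u} A} (f : X ⟶ Y), PreservesColimit (parallelPair f 0) F' :=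
    fun f => preservesColimit_parallelPair F' f
  exact Functor.preservesFiniteColimits_of_preservesCokernels F'

end Cokernel

end Groth.Agent.Lib.Seat29.FunMorR
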