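import Mathlib

/-!
# Exact functors commute with cohomology of the derived category (seat 29)
-/

set_option autoImplicit false

universe v₁ v₂ u₁ u₂ w₁ w₂

open CategoryTheory CategoryTheory.Limits DerivedCategory

namespace Groth.Agent.Lib.Seat29.HDExact

variable {C₁ : Type u₁} {C₂ : Type u₂} [Category.{v₁} C₁] [Category.{v₂} C₂] [Abelian C₁]
  [Abelian C₂] [HasDerivedCategory.{w₁} C₁] [HasDerivedCategory.{w₂} C₂]
  (F : C₁ ⥤ C₂) [F.Additive] [PreservesFiniteLimits F] [PreservesFiniteColimits F]

/-- An exact functor commutes with cohomology of the derived category. -/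
noncomputable def homologyMapDerivedCategoryIso (L : DerivedCategory C₁) (i : ℤ) :
    (homologyFunctor C₂ i).obj (F.mapDerivedCategory.obj L) ≅
      F.obj ((homologyFunctor C₁ i).obj L) :=
  (homologyFunctor C₂ i).mapIso (F.mapDerivedCategory.mapIso (Q.objObjPreimageIso L).symm) ≪≫
  (homologyFunctor C₂ i).mapIso (F.mapDerivedCategoryFactors.app (Q.objPreimage L)) ≪≫
  (homologyFunctorFactors C₂ i).app _ ≪≫
  ((Q.objPreimage L).sc i).mapHomologyIso F ≪≫
  F.mapIso ((homologyFunctorFactors C₁ i).app (Q.objPreimage L)).symm ≪≫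
  F.mapIso ((homologyFunctor C₁ i).mapIso (Q.objObjPreimageIso L))

end Groth.Agent.Lib.Seat29.HDExact
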