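import Mathlib
import Groth.Agent.Lib.Seat29ModFP
import Groth.Agent.Lib.Seat29FunMor
import Groth.Agent.S6366

/-!
# Left exactness of extensions of left exact functors on finitely presented modules (helper29)

Let `A` be a coherent ring, `B` an additive category with filtered colimits in which filtered colimits
commute with equalizers, and `F' : ModuleCat A ⥤ B` a functor commuting with filtered colimits whose
restriction to finitely presented modules is left exact. Then `F'` is additive, left exact and preserves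
direct sums (`main`).

Reusable pieces: `isKernel_of_iso` (transport of kernels along isomorphisms), `isKernel_colim` (kernels are
stable under filtered colimits when `colim` preserves equalizers), `preservesKernel_of_stages(')`,
`nonempty_isColimit` (recognition of filtered colimits of modules over an arbitrary filtered index category),
`fp_ker` (kernels of maps of finitely presented modules over a coherent ring), `pbFunctor`/`pbCocone`
(a module `M` over `N` as the filtered colimit of the fibre products `M ×_N Y`, `Y` finitely presented).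
-/

set_option linter.unusedSectionVars false

set_option autoImplicit false
universe w v u v' u'
open CategoryTheory CategoryTheory.Limits

namespace Groth.Agent.Lib.Seat29.LeftExact

section Transport

variable {𝒟 : Type u} [Category.{v} 𝒟] [HasZeroMorphisms 𝒟]

/-- Transport of a kernel along isomorphisms of the three objects. -/
lemma isKernel_of_iso {X Y Z X' Y' Z' : 𝒟} (i : X ⟶ Y) (g : Y ⟶ Z) (w : i ≫ g = 0)
    (h : IsLimit (KernelFork.ofι i w)) (eX : X ≅ X') (eY : Y ≅ Y') (eZ : Z ≅ Z')
    (i' : X' ⟶ Y') (g' : Y' ⟶ Z') (hi : i ≫ eY.hom = eX.hom ≫ i')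
    (hg : g ≫ eZ.hom = eY.hom ≫ g') :
    ∃ w' : i' ≫ g' = 0, Nonempty (IsLimit (KernelFork.ofι i' w')) := by
  have w' : i' ≫ g' = 0 := by
    have : eX.hom ≫ i' ≫ g' = 0 := by
      rw [← Category.assoc, ← hi, Category.assoc, ← hg, ← Category.assoc, w, zero_comp]
    rw [← cancel_epi eX.hom, this, comp_zero]
  have hi' : i' = eX.inv ≫ i ≫ eY.hom := by rw [hi, Iso.inv_hom_id_assoc]
  have hg' : g = eY.hom ≫ g' ≫ eZ.inv := by
    rw [← Category.assoc, ← hg, Category.assoc, Iso.hom_inv_id, Category.comp_id]
  have hkey : ∀ {T : 𝒟} (t : T ⟶ Y') (_ : t ≫ g' = 0), (t ≫ eY.inv) ≫ g = 0 := by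
    intro T t ht
    rw [hg', Category.assoc, Iso.inv_hom_id_assoc, ← Category.assoc, ht, zero_comp]
  let L : ∀ {T : 𝒟} (t : T ⟶ Y') (_ : t ≫ g' = 0), T ⟶ X := fun t ht =>
    h.lift (KernelFork.ofι (t ≫ eY.inv) (hkey t ht))
  have hL : ∀ {T : 𝒟} (t : T ⟶ Y') (ht : t ≫ g' = 0), L t ht ≫ i = t ≫ eY.inv :=
    fun t ht => h.fac (KernelFork.ofι (t ≫ eY.inv) (hkey t ht)) WalkingParallelPair.zero
  refine ⟨w', ⟨KernelFork.IsLimit.ofι i' w' (fun {T} t ht => L t ht ≫ eX.hom) (fun {T} t ht => ?_)
    (fun {T} t ht m hm => ?_)⟩⟩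
  · rw [Category.assoc, ← hi, ← Category.assoc, hL t ht, Category.assoc, Iso.inv_hom_id,
      Category.comp_id]
  · rw [← cancel_mono eX.inv, Category.assoc, Iso.hom_inv_id, Category.comp_id]
    apply Fork.IsLimit.hom_ext h
    change (m ≫ eX.inv) ≫ i = L t ht ≫ i
    rw [hL t ht, ← hm, hi']
    simp

end Transport

section KerColim

variable {𝒟 : Type u} [Category.{v} 𝒟] [HasZeroMorphisms 𝒟]
  {J : Type w} [SmallCategory J] [HasColimitsOfShape J 𝒟]

instance colim_preservesZeroMorphisms : (colim : (J ⥤ 𝒟) ⥤ 𝒟).PreservesZeroMorphisms where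
  map_zero _ _ := by
    apply colimit.hom_ext
    intro j
    simp

instance evaluation_preservesZeroMorphisms (j : J) :
    ((evaluation J 𝒟).obj j).PreservesZeroMorphisms where
  map_zero _ _ := rfl

variable [PreservesLimitsOfShape WalkingParallelPair (colim : (J ⥤ 𝒟) ⥤ 𝒟)]

/-- Filtered-colimit stability of kernels (given that `colim` preserves equalizers). -/
lemma isKernel_colim {EK EM EN : J ⥤ 𝒟} (i : EK ⟶ EM) (γ : EM ⟶ EN) (w : i ≫ γ = 0)
    (hk : ∀ j, IsLimit (KernelFork.ofι (i.app j)
      (show i.app j ≫ γ.app j = 0 by rw [← NatTrans.comp_app, w]; rfl)))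
    {cK : Cocone EK} {cM : Cocone EM} {cN : Cocone EN}
    (hK : IsColimit cK) (hM : IsColimit cM) (hN : IsColimit cN)
    (i' : cK.pt ⟶ cM.pt) (g' : cM.pt ⟶ cN.pt)
    (hi : ∀ j, cK.ι.app j ≫ i' = i.app j ≫ cM.ι.app j)
    (hg : ∀ j, cM.ι.app j ≫ g' = γ.app j ≫ cN.ι.app j) :
    ∃ w' : i' ≫ g' = 0, Nonempty (IsLimit (KernelFork.ofι i' w')) := by
  have h1 : IsLimit (KernelFork.ofι i w) := evaluationJointlyReflectsLimits _ fun j =>
    (KernelFork.isLimitMapConeEquiv (KernelFork.ofι i w) ((evaluation J 𝒟).obj j)).symm (hk j)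
  have h2 := (KernelFork.ofι i w).mapIsLimit h1 (colim : (J ⥤ 𝒟) ⥤ 𝒟)
  have w2 : colim.map i ≫ colim.map γ = 0 := by
    rw [← Functor.map_comp, w, Functor.map_zero]
  refine isKernel_of_iso (colim.map i) (colim.map γ) w2 h2
    (colimit.isoColimitCocone ⟨cK, hK⟩) (colimit.isoColimitCocone ⟨cM, hM⟩)
    (colimit.isoColimitCocone ⟨cN, hN⟩) i' g' ?_ ?_
  · apply colimit.hom_ext
    intro j
    simp [hi]
  · apply colimit.hom_ext
    intro j
    simp [hg]

end KerColim

section LemmaT

variable {A : Type u} [CommRing A] {B : Type u'} [Category.{v'} B] [Preadditive B]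
  [HasFilteredColimitsOfSize.{u, u} B]
  (hcomm : ∀ (J : Type u) [SmallCategory J] [IsFiltered J],
    PreservesLimitsOfShape WalkingParallelPair (colim : (J ⥤ B) ⥤ B))
  (F' : ModuleCat.{u} A ⥤ B) [F'.Additive] [PreservesFilteredColimitsOfSize.{u, u} F']

instance (J : Type u) [SmallCategory J] [IsFiltered J] :
    PreservesLimitsOfShape WalkingParallelPair
      (colim : (J ⥤ ModuleCat.{u} A) ⥤ ModuleCat.{u} A) := by
  have : PreservesFiniteLimits (colim : (J ⥤ ModuleCat.{u} A) ⥤ ModuleCat.{u} A) :=
    HasExactColimitsOfShape.preservesFiniteLimits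
  infer_instance

include hcomm in
/-- If `F'` preserves the kernel at each stage of a filtered diagram of morphisms of modules, it preserves
the kernel of the colimit morphism. -/
lemma preservesKernel_of_stages {J : Type u} [SmallCategory J] [IsFiltered J]
    {DM DN : J ⥤ ModuleCat.{u} A} (γ : DM ⟶ DN)
    {cM : Cocone DM} {cN : Cocone DN} (hM : IsColimit cM) (hN : IsColimit cN)
    (g : cM.pt ⟶ cN.pt) (hg : ∀ j, cM.ι.app j ≫ g = γ.app j ≫ cN.ι.app j)
    (hγ : ∀ j, PreservesLimit (parallelPair (γ.app j) 0) F') :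
    PreservesLimit (parallelPair g 0) F' := by
  have := hcomm J
  -- the kernel in the functor category
  have hk : ∀ j, IsLimit (KernelFork.ofι ((kernel.ι γ).app j)
      (show (kernel.ι γ).app j ≫ γ.app j = 0 by
        rw [← NatTrans.comp_app, kernel.condition]; rfl)) := fun j =>
    (KernelFork.isLimitMapConeEquiv (KernelFork.ofι (kernel.ι γ) (kernel.condition γ))
      ((evaluation J (ModuleCat.{u} A)).obj j))
      (isLimitOfPreserves ((evaluation J (ModuleCat.{u} A)).obj j) (kernelIsKernel γ))
  let cK := colimit.cocone (kernel γ)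
  have hK : IsColimit cK := colimit.isColimit _
  let i' : cK.pt ⟶ cM.pt := hK.desc (Cocone.mk cM.pt (kernel.ι γ ≫ cM.ι))
  have hi : ∀ j, cK.ι.app j ≫ i' = (kernel.ι γ).app j ≫ cM.ι.app j := fun j =>
    hK.fac (Cocone.mk cM.pt (kernel.ι γ ≫ cM.ι)) j
  -- kernel in modules
  obtain ⟨w1, ⟨h1⟩⟩ := isKernel_colim (kernel.ι γ) γ (kernel.condition γ) hk hK hM hN i' g hi hg
  -- kernel in `B`
  have w2 : Functor.whiskerRight (kernel.ι γ) F' ≫ Functor.whiskerRight γ F' = 0 := by
    rw [← Functor.whiskerRight_comp, kernel.condition]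
    ext j
    simp
  have hk' : ∀ j, IsLimit (KernelFork.ofι ((Functor.whiskerRight (kernel.ι γ) F').app j)
      (show (Functor.whiskerRight (kernel.ι γ) F').app j ≫ (Functor.whiskerRight γ F').app j = 0 by
        rw [← NatTrans.comp_app, w2]; rfl)) := fun j => by
    have := hγ j
    exact (KernelFork.ofι ((kernel.ι γ).app j) _).mapIsLimit (hk j) F'
  obtain ⟨w3, ⟨h3⟩⟩ := isKernel_colim (Functor.whiskerRight (kernel.ι γ) F')
    (Functor.whiskerRight γ F') w2 hk'
    (isColimitOfPreserves F' hK) (isColimitOfPreserves F' hM) (isColimitOfPreserves F' hN)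
    (F'.map i') (F'.map g)
    (fun j => by
      change F'.map (cK.ι.app j) ≫ F'.map i' = F'.map ((kernel.ι γ).app j) ≫ F'.map (cM.ι.app j)
      rw [← F'.map_comp, hi, F'.map_comp])
    (fun j => by
      change F'.map (cM.ι.app j) ≫ F'.map g = F'.map (γ.app j) ≫ F'.map (cN.ι.app j)
      rw [← F'.map_comp, hg, F'.map_comp])
  exact preservesLimit_of_preserves_limit_cone h1
    ((KernelFork.isLimitMapConeEquiv (KernelFork.ofι i' w1) F').symm h3)

include hcomm in
/-- Version of `preservesKernel_of_stages` for an essentially small filtered index category. -/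
lemma preservesKernel_of_stages' {𝒦 : Type w} [Category.{v} 𝒦] [EssentiallySmall.{u} 𝒦]
    [IsFiltered 𝒦] {DM DN : 𝒦 ⥤ ModuleCat.{u} A} (γ : DM ⟶ DN)
    {cM : Cocone DM} {cN : Cocone DN} (hM : IsColimit cM) (hN : IsColimit cN)
    (g : cM.pt ⟶ cN.pt) (hg : ∀ j, cM.ι.app j ≫ g = γ.app j ≫ cN.ι.app j)
    (hγ : ∀ j, PreservesLimit (parallelPair (γ.app j) 0) F') :
    PreservesLimit (parallelPair g 0) F' := by
  let e := equivSmallModel.{u} 𝒦
  have : IsFiltered (SmallModel.{u} 𝒦) := IsFiltered.of_equivalence e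
  exact preservesKernel_of_stages hcomm F' (Functor.whiskerLeft e.inverse γ)
    (hM.whiskerEquivalence e.symm) (hN.whiskerEquivalence e.symm) g (fun j => hg _) (fun j => hγ _)

end LemmaT

section Criterion

variable {A : Type u} [CommRing A] {𝒦 : Type w} [Category.{v} 𝒦] [IsFiltered 𝒦]
  {D : 𝒦 ⥤ ModuleCat.{u} A} (t : Cocone D)
  (hsurj : ∀ x : t.pt, ∃ (k : 𝒦) (y : D.obj k), (t.ι.app k).hom y = x)
  (hinj : ∀ (k : 𝒦) (y : D.obj k), (t.ι.app k).hom y = 0 →
    ∃ (k' : 𝒦) (φ : k ⟶ k'), (D.map φ).hom y = 0)

lemma cocone_w_apply (s : Cocone D) {k k' : 𝒦} (φ : k ⟶ k') (y : D.obj k) :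
    (s.ι.app k').hom ((D.map φ).hom y) = (s.ι.app k).hom y := by
  have := s.w φ
  exact congrArg (fun f => f.hom y) this

include hinj in
lemma desc_wd (s : Cocone D) {k k' : 𝒦} (y : D.obj k) (y' : D.obj k')
    (h : (t.ι.app k).hom y = (t.ι.app k').hom y') :
    (s.ι.app k).hom y = (s.ι.app k').hom y' := by
  let k₂ := IsFiltered.max k k'
  let a : k ⟶ k₂ := IsFiltered.leftToMax k k'
  let b : k' ⟶ k₂ := IsFiltered.rightToMax k k'
  have hz : (t.ι.app k₂).hom ((D.map a).hom y - (D.map b).hom y') = 0 := by
    rw [map_sub, cocone_w_apply t a y, cocone_w_apply t b y', h, sub_self]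
  obtain ⟨k₃, φ, hφ⟩ := hinj k₂ _ hz
  rw [map_sub, sub_eq_zero] at hφ
  rw [← cocone_w_apply s a y, ← cocone_w_apply s b y', ← cocone_w_apply s φ, hφ,
    cocone_w_apply s φ]

include hsurj hinj in
/-- Recognition of filtered colimits of modules (no size restriction on the index category). -/
lemma nonempty_isColimit : Nonempty (IsColimit t) := by
  classical
  choose kk yy hyy using hsurj
  refine ⟨{ desc := fun s => ModuleCat.ofHom
              { toFun := fun x => (s.ι.app (kk x)).hom (yy x)
                map_add' := ?_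
                map_smul' := ?_ }
            fac := ?_
            uniq := ?_ }⟩
  · intro x x'
    let k₂ := IsFiltered.max (kk x) (kk x')
    let a : kk x ⟶ k₂ := IsFiltered.leftToMax _ _
    let b : kk x' ⟶ k₂ := IsFiltered.rightToMax _ _
    have h1 : (t.ι.app (kk (x + x'))).hom (yy (x + x')) =
        (t.ι.app k₂).hom ((D.map a).hom (yy x) + (D.map b).hom (yy x')) := by
      rw [map_add, cocone_w_apply t a, cocone_w_apply t b, hyy, hyy, hyy]
    rw [desc_wd t hinj s _ _ h1, map_add, cocone_w_apply s a, cocone_w_apply s b]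
  · intro r x
    have h1 : (t.ι.app (kk (r • x))).hom (yy (r • x)) = (t.ι.app (kk x)).hom (r • yy x) := by
      rw [map_smul, hyy, hyy]
    rw [desc_wd t hinj s _ _ h1, map_smul]
    rfl
  · intro s k
    apply ModuleCat.hom_ext
    apply LinearMap.ext
    intro y
    change (s.ι.app (kk ((t.ι.app k).hom y))).hom (yy ((t.ι.app k).hom y)) = (s.ι.app k).hom y
    exact desc_wd t hinj s _ _ (hyy _)
  · intro s m hm
    apply ModuleCat.hom_ext
    apply LinearMap.ext
    intro x
    change m.hom x = (s.ι.app (kk x)).hom (yy x)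
    rw [← hm (kk x)]
    change m.hom x = m.hom ((t.ι.app (kk x)).hom (yy x))
    rw [hyy]

end Criterion

section Step2

open Groth.Agent.Lib.Helper16.FPMod Groth.Agent.Lib.Seat29.ModFP

variable {A : Type u} [CommRing A] {M N : ModuleCat.{u} A} (g : M ⟶ N)

/-- The fibre product `M ×_N Y_k` as a submodule of `M × Y_k`. -/
def pbSub (k : CostructuredArrow (PFP A).ι N) : Submodule A (M × k.left.obj) :=
  LinearMap.eqLocus (g.hom ∘ₗ LinearMap.fst A M k.left.obj)
    (k.hom.hom ∘ₗ LinearMap.snd A M k.left.obj)

lemma mem_pbSub {k : CostructuredArrow (PFP A).ι N} (z : M × k.left.obj) :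
    z ∈ pbSub g k ↔ g.hom z.1 = k.hom.hom z.2 := Iff.rfl

/-- Transition maps of the fibre products. -/
def pbMap {k k' : CostructuredArrow (PFP A).ι N} (φ : k ⟶ k') : pbSub g k →ₗ[A] pbSub g k' :=
  LinearMap.restrict (LinearMap.prodMap LinearMap.id φ.left.hom.hom) (fun z hz => by
    rw [mem_pbSub] at hz ⊢
    change g.hom z.1 = k'.hom.hom (φ.left.hom.hom z.2)
    rw [hz, homCA_w φ])

lemma pbMap_apply {k k' : CostructuredArrow (PFP A).ι N} (φ : k ⟶ k') (z : pbSub g k) :
    ((pbMap g φ z : pbSub g k') : M × k'.left.obj) = (z.1.1, φ.left.hom.hom z.1.2) := rfl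

/-- The diagram of fibre products. -/
noncomputable def pbFunctor : CostructuredArrow (PFP A).ι N ⥤ ModuleCat.{u} A where
  obj k := ModuleCat.of A (pbSub g k)
  map φ := ModuleCat.ofHom (pbMap g φ)
  map_id k := by
    apply ModuleCat.hom_ext
    apply LinearMap.ext
    intro z
    apply Subtype.ext
    rfl
  map_comp φ ψ := by
    apply ModuleCat.hom_ext
    apply LinearMap.ext
    intro z
    apply Subtype.ext
    rfl

/-- The cocone of first projections. -/
noncomputable def pbCocone : Cocone (pbFunctor g) where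
  pt := M
  ι :=
    { app := fun k => ModuleCat.ofHom (LinearMap.fst A M _ ∘ₗ (pbSub g k).subtype)
      naturality := fun k k' φ => by
        apply ModuleCat.hom_ext
        apply LinearMap.ext
        intro z
        rfl }

/-- The second projections. -/
noncomputable def pbSnd : pbFunctor g ⟶ CostructuredArrow.proj (PFP A).ι N ⋙ (PFP A).ι where
  app k := ModuleCat.ofHom (LinearMap.snd A M _ ∘ₗ (pbSub g k).subtype)
  naturality k k' φ := by
    apply ModuleCat.hom_ext
    apply LinearMap.ext
    intro z
    rfl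

lemma pbCocone_isColimit : Nonempty (IsColimit (pbCocone g)) := by
  refine nonempty_isColimit (pbCocone g) (fun m => ?_) (fun k z hz => ?_)
  · refine ⟨ptCA (g.hom m), ⟨(m, (1 : A)), ?_⟩, rfl⟩
    rw [mem_pbSub]
    change g.hom m = (1 : A) • g.hom m
    rw [one_smul]
  · have : Module.FinitePresentation A k.left.obj := k.left.property
    obtain ⟨⟨m, y⟩, hmem⟩ := z
    have hm : m = 0 := hz
    subst hm
    rw [mem_pbSub] at hmem
    change g.hom 0 = k.hom.hom y at hmem
    rw [map_zero] at hmem
    let S : Submodule A k.left.obj := Submodule.span A {y}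
    have hle : S ≤ LinearMap.ker k.hom.hom := by
      rw [Submodule.span_le]
      rintro _ rfl
      exact hmem.symm
    have hfp : Module.FinitePresentation A (k.left.obj ⧸ S) :=
      Module.finitePresentation_of_surjective S.mkQ S.mkQ_surjective (by
        rw [Submodule.ker_mkQ]; exact Submodule.fg_span_singleton y)
    refine ⟨mkCA (k.left.obj ⧸ S) (S.liftQ k.hom.hom hle), homCA S.mkQ (fun x => ?_), ?_⟩
    · change (S.liftQ k.hom.hom hle) (S.mkQ x) = _
      simp
    · apply Subtype.ext
      change ((0 : M), S.mkQ y) = 0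
      have : S.mkQ y = 0 := by
        simp only [Submodule.mkQ_apply, Submodule.Quotient.mk_eq_zero]
        exact Submodule.mem_span_singleton_self y
      rw [this]
      rfl

end Step2

section Coherent

open Groth.Agent.Lib.Helper16.FPMod Groth.Agent.Lib.Seat29.ModFP

variable {A : Type u} [CommRing A] (hcoh : ∀ I : Ideal A, I.FG → Module.FinitePresentation A I)

include hcoh in
/-- Over a coherent ring, kernels of maps between finitely presented modules are finitely presented. -/
lemma fp_ker {X Y : Type u} [AddCommGroup X] [Module A X] [AddCommGroup Y] [Module A Y]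
    [Module.FinitePresentation A X] [Module.FinitePresentation A Y] (γ : X →ₗ[A] Y) :
    Module.FinitePresentation A (LinearMap.ker γ) := by
  obtain ⟨hYf, hY⟩ := (Groth.Agent.S6366.result A hcoh Y).2 inferInstance
  obtain ⟨hXf, hX⟩ := (Groth.Agent.S6366.result A hcoh X).2 inferInstance
  have hr : (LinearMap.range γ).FG := by
    rw [LinearMap.range_eq_map]
    exact Submodule.FG.map γ Module.Finite.fg_top
  have : Module.FinitePresentation A (LinearMap.range γ) := hY _ hr
  have hk : (LinearMap.ker γ.rangeRestrict).FG :=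
    Module.FinitePresentation.fg_ker γ.rangeRestrict γ.surjective_rangeRestrict
  rw [LinearMap.ker_rangeRestrict] at hk
  exact hX _ hk

variable {B : Type u'} [Category.{v'} B] [Preadditive B] [HasFiniteBiproducts B]

lemma additive_of_pfl (F : FP A ⥤ B) [PreservesFiniteLimits F] : F.Additive := by
  have : HasZeroObject B := hasZeroObject_of_hasFiniteBiproducts B
  have : F.PreservesZeroMorphisms := Functor.preservesZeroMorphisms_of_preserves_terminal_object
  have := preservesBinaryBiproducts_of_preservesBinaryProducts F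
  exact Functor.additive_of_preservesBinaryBiproducts F

variable (F' : ModuleCat.{u} A ⥤ B) [F'.Additive] [PreservesFiniteLimits ((PFP A).ι ⋙ F')]

include hcoh in
/-- Step 0: `F'` preserves kernels of maps between finitely presented modules. -/
lemma preservesKernel_fp {X Y : ModuleCat.{u} A} [Module.FinitePresentation A X]
    [Module.FinitePresentation A Y] (γ : X ⟶ Y) : PreservesLimit (parallelPair γ 0) F' := by
  have hK : Module.FinitePresentation A (LinearMap.ker γ.hom) := fp_ker hcoh γ.hom
  let Xf : FP A := ⟨X, inferInstance⟩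
  let Yf : FP A := ⟨Y, inferInstance⟩
  let Kf : FP A := ⟨ModuleCat.of A (LinearMap.ker γ.hom), hK⟩
  let γf : Xf ⟶ Yf := ObjectProperty.homMk γ
  let ιf : Kf ⟶ Xf := ObjectProperty.homMk (ModuleCat.ofHom (LinearMap.ker γ.hom).subtype)
  have w : ιf ≫ γf = 0 := by
    apply ObjectProperty.hom_ext
    exact (ModuleCat.kernelCone γ).condition
  let c : KernelFork γf := KernelFork.ofι ιf w
  have hc : IsLimit c := by
    apply isLimitOfReflects (PFP A).ι
    exact (KernelFork.isLimitMapConeEquiv c (PFP A).ι).symm (ModuleCat.kernelIsLimit γ)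
  have h2 : IsLimit (c.map ((PFP A).ι ⋙ F')) :=
    (KernelFork.isLimitMapConeEquiv c ((PFP A).ι ⋙ F')) (isLimitOfPreserves ((PFP A).ι ⋙ F') hc)
  exact preservesLimit_of_preserves_limit_cone (ModuleCat.kernelIsLimit γ)
    ((KernelFork.isLimitMapConeEquiv (ModuleCat.kernelCone γ) F').symm h2)

variable [HasFilteredColimitsOfSize.{u, u} B] [PreservesFilteredColimitsOfSize.{u, u} F']
  (hcomm : ∀ (J : Type u) [SmallCategory J] [IsFiltered J],
    PreservesLimitsOfShape WalkingParallelPair (colim : (J ⥤ B) ⥤ B))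

include hcoh hcomm in
/-- Step 1: `F'` preserves kernels of maps into finitely presented modules. -/
lemma preservesKernel_of_fp_target {M Y : ModuleCat.{u} A} [Module.FinitePresentation A Y]
    (g : M ⟶ Y) : PreservesLimit (parallelPair g 0) F' := by
  let DM : CostructuredArrow (PFP A).ι M ⥤ ModuleCat.{u} A :=
    CostructuredArrow.proj (PFP A).ι M ⋙ (PFP A).ι
  let γ : DM ⟶ (Functor.const (CostructuredArrow (PFP A).ι M)).obj Y :=
    { app := fun k => k.hom ≫ g
      naturality := fun k k' φ => by
        change ((PFP A).ι.map φ.left ≫ k'.hom) ≫ g = (k.hom ≫ g) ≫ 𝟙 Y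
        rw [Category.comp_id, CostructuredArrow.w] }
  have hM : IsColimit ((Functor.LeftExtension.mk (𝟭 _) (PFP A).ι.rightUnitor.inv).coconeAt M) :=
    denseAt A M
  have : IsConnected (CostructuredArrow (PFP A).ι M) := IsFiltered.isConnected _
  refine preservesKernel_of_stages' hcomm F' γ hM
    (isColimitConstCocone (CostructuredArrow (PFP A).ι M) Y) g (fun k => ?_) (fun k => ?_)
  · change (𝟙 _ ≫ k.hom) ≫ g = (k.hom ≫ g) ≫ 𝟙 Y
    simp
  · have : Module.FinitePresentation A (DM.obj k) := k.left.property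
    have : Module.FinitePresentation A
      (((Functor.const (CostructuredArrow (PFP A).ι M)).obj Y).obj k) :=
      ‹Module.FinitePresentation A Y›
    exact preservesKernel_fp hcoh F' (γ.app k)

include hcoh hcomm in
/-- Step 2: `F'` preserves all kernels. -/
lemma preservesKernel {M N : ModuleCat.{u} A} (g : M ⟶ N) :
    PreservesLimit (parallelPair g 0) F' := by
  obtain ⟨hM⟩ := pbCocone_isColimit g
  have hN : IsColimit ((Functor.LeftExtension.mk (𝟭 _) (PFP A).ι.rightUnitor.inv).coconeAt N) :=
    denseAt A N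
  refine preservesKernel_of_stages' hcomm F' (pbSnd g) hM hN g (fun k => ?_) (fun k => ?_)
  · apply ModuleCat.hom_ext
    apply LinearMap.ext
    intro z
    exact z.2
  · have : Module.FinitePresentation A
        ((CostructuredArrow.proj (PFP A).ι N ⋙ (PFP A).ι).obj k) := k.left.property
    exact preservesKernel_of_fp_target hcoh F' hcomm ((pbSnd g).app k)

end Coherent

section Main

open Groth.Agent.Lib.Helper16.FPMod Groth.Agent.Lib.Seat29.ModFP

/-- Left exact functors on finitely presented modules over a coherent ring extend to left exact functors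
commuting with filtered colimits. -/
theorem main (A : Type u) [CommRing A]
    (hcoh : ∀ I : Ideal A, I.FG → Module.FinitePresentation A I)
    {B : Type u'} [Category.{v'} B] [Preadditive B] [HasFiniteBiproducts B]
    [HasFilteredColimitsOfSize.{u, u} B]
    (hcomm : ∀ (J : Type u) [SmallCategory J] [IsFiltered J],
      PreservesLimitsOfShape WalkingParallelPair (colim : (J ⥤ B) ⥤ B))
    (F' : ModuleCat.{u} A ⥤ B) [PreservesFilteredColimitsOfSize.{u, u} F']
    [PreservesFiniteLimits ((PFP A).ι ⋙ F')] :
    F'.Additive ∧ PreservesFiniteLimits F' ∧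
      ∀ J : Type u, PreservesColimitsOfShape (Discrete J) F' := by
  have : ((PFP A).ι ⋙ F').Additive := additive_of_pfl _
  have hadd : F'.Additive := Groth.Agent.Lib.Seat29.FunMor.additive A F'
  have : HasZeroObject B := hasZeroObject_of_hasFiniteBiproducts B
  have : ∀ {X Y : ModuleCat.{u} A} (f : X ⟶ Y), PreservesLimit (parallelPair f 0) F' :=
    fun f => preservesKernel hcoh F' hcomm f
  exact ⟨hadd, Functor.preservesFiniteLimits_of_preservesKernels F',
    fun J => Groth.Agent.Lib.Seat29.FunMor.preservesCoproducts A F' J⟩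

end Main

end Groth.Agent.Lib.Seat29.LeftExact
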