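import Mathlib
import Groth.Prelude.Def_FEt
import Groth.Prelude.Def_PiSp
import Groth.Agent.Lib.Helper26FEtAffine
import Groth.Agent.Lib.Helper11RigidityC

/-!
# Torsion points of group schemes over an algebraically closed field

* `exists_algHom_factor`: an algebra map from an integral `k`-algebra (`k` algebraically closed) to a field
  factors through `k`;
* `exists_section_factor`: a field-valued point of a finite étale `k`-scheme comes from a `k`-rational point.
-/

set_option autoImplicit false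

namespace Groth.Agent.Lib.Seat2.AbVarTors

open CategoryTheory Limits AlgebraicGeometry

universe u v

section Ring

variable (k : Type u) [Field k] [IsAlgClosed k] (R : Type u) [CommRing R] [Algebra k R]
  [Algebra.IsIntegral k R] (Ω : Type u) [Field Ω] [Algebra k Ω]

lemma exists_algHom_factor (φ : R →ₐ[k] Ω) :
    ∃ b : R →ₐ[k] k, ∀ r, φ r = algebraMap k Ω (b r) := by
  let S : Subalgebra k Ω := φ.range
  haveI : Algebra.IsIntegral k S := by
    constructor
    rintro ⟨_, ⟨r, rfl⟩⟩
    have h1 : IsIntegral k (φ r) := (Algebra.IsIntegral.isIntegral r).map φ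
    exact (isIntegral_algHom_iff S.val Subtype.val_injective).mp h1
  have hbij : Function.Bijective (algebraMap k S) := IsAlgClosed.algebraMap_bijective_of_isIntegral
  let e : k ≃ₐ[k] S := AlgEquiv.ofBijective (Algebra.ofId k S) hbij
  refine ⟨(e.symm : S →ₐ[k] k).comp φ.rangeRestrict, fun r => ?_⟩
  have h2 : e (e.symm (φ.rangeRestrict r)) = φ.rangeRestrict r := e.apply_symm_apply _
  have h3 := congrArg Subtype.val h2
  exact h3.symm

end Ring

section Scheme

variable (k : Type u) [Field k] [IsAlgClosed k]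

/-- a field-valued point of a finite étale `k`-scheme comes from a rational point. -/
theorem exists_section_factor {Y : Scheme.{u}} (p : Y ⟶ Spec (CommRingCat.of k)) (hp : FEt.prop p)
    (Ω : Type u) [Field Ω] (y : Spec (CommRingCat.of Ω) ⟶ Y) :
    ∃ b : Spec (CommRingCat.of k) ⟶ Y, b ≫ p = 𝟙 _ ∧ (y ≫ p) ≫ b = y := by
  obtain ⟨R, _, _, _, _, e₀, he₀⟩ := Groth.Agent.Lib.Helper26.FEtAffine.exists_iso_specMap k p hp
  obtain ⟨φc, hφc⟩ : ∃ φc : CommRingCat.of R ⟶ CommRingCat.of Ω, Spec.map φc = y ≫ e₀.hom :=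
    ⟨Spec.preimage (y ≫ e₀.hom), Spec.map_preimage _⟩
  let φ : R →+* Ω := φc.hom
  let γ : k →+* Ω := φ.comp (algebraMap k R)
  letI : Algebra k Ω := γ.toAlgebra
  let φa : R →ₐ[k] Ω := { φ with commutes' := fun _ => rfl }
  haveI : Algebra.IsIntegral k R := Algebra.IsIntegral.of_finite k R
  obtain ⟨b, hb⟩ := exists_algHom_factor k R Ω φa
  have hyp : y ≫ p = Spec.map (CommRingCat.ofHom γ) := by
    rw [← he₀, ← Category.assoc, ← hφc, ← Spec.map_comp]
    rfl
  have hφγ : φc = CommRingCat.ofHom (b : R →+* k) ≫ CommRingCat.ofHom γ := by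
    ext r
    exact hb r
  refine ⟨Spec.map (CommRingCat.ofHom (b : R →+* k)) ≫ e₀.inv, ?_, ?_⟩
  · rw [Category.assoc, ← he₀, Iso.inv_hom_id_assoc, ← Spec.map_comp]
    have : CommRingCat.ofHom (algebraMap k R) ≫ CommRingCat.ofHom (b : R →+* k) = 𝟙 _ := by
      ext x
      exact b.commutes x
    rw [this, Spec.map_id]
  · rw [hyp, ← Category.assoc, ← Spec.map_comp, ← hφγ, hφc, Category.assoc, Iso.hom_inv_id,
      Category.comp_id]

end Scheme

section Transl

open MonoidalCategory CartesianMonoidalCategory MonObj GrpObj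



variable {C : Type u} [Category.{v} C] [CartesianMonoidalCategory C] {A : C} [GrpObj A]

/-- translation by a point. -/
noncomputable def transl (a : 𝟙_ C ⟶ A) : A ⟶ A := 𝟙 A * (toUnit A ≫ a)

lemma comp_transl {T : C} (x : T ⟶ A) (a : 𝟙_ C ⟶ A) : x ≫ transl a = x * (toUnit T ≫ a) := by
  unfold transl
  rw [MonObj.comp_mul, Category.comp_id, ← Category.assoc]
  congr 2
  exact toUnit_unique _ _

lemma transl_one : transl (1 : 𝟙_ C ⟶ A) = 𝟙 A := by
  unfold transl
  rw [MonObj.comp_one, _root_.mul_one]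

lemma transl_mul (a b : 𝟙_ C ⟶ A) : transl a ≫ transl b = transl (a * b) := by
  rw [comp_transl]
  unfold transl
  rw [MonObj.comp_mul, _root_.mul_assoc]

lemma pt_transl (a : 𝟙_ C ⟶ A) : (1 : 𝟙_ C ⟶ A) ≫ transl a = a := by
  rw [comp_transl, _root_.one_mul]
  have : toUnit (𝟙_ C) = 𝟙 _ := toUnit_unique _ _
  rw [this, Category.id_comp]

/-- translation as an isomorphism. -/
noncomputable def translIso (a : 𝟙_ C ⟶ A) : A ≅ A where
  hom := transl a
  inv := transl a⁻¹
  hom_inv_id := by rw [transl_mul, _root_.mul_inv_cancel, transl_one]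
  inv_hom_id := by rw [transl_mul, _root_.inv_mul_cancel, transl_one]

lemma transl_comp_zpow (hcomm : ∀ (x y : A ⟶ A), x * y = y * x) (a : 𝟙_ C ⟶ A) (n : ℤ)
    (ha : a ^ n = 1) : transl a ≫ (𝟙 A) ^ n = (𝟙 A) ^ n := by
  rw [GrpObj.comp_zpow, Category.comp_id]
  unfold transl
  have hc : Commute (𝟙 A) (toUnit A ≫ a) := hcomm _ _
  rw [hc.mul_zpow, ← GrpObj.comp_zpow, ha, MonObj.comp_one, _root_.mul_one]


end Transl

end Groth.Agent.Lib.Seat2.AbVarTors
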