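import Mathlib

/-!
# Shrinking an affine open neighbourhood of finitely many points (seat 2)

In an affine open `A₀` of a scheme, finitely many points lying in an open `O` have a common affine
open neighbourhood (a basic open of `A₀`) contained in `A₀ ⊓ O`; prime avoidance.
-/

set_option autoImplicit false
universe u

namespace Groth.Agent.Lib.Seat2.AffShrink

open CategoryTheory AlgebraicGeometry TopologicalSpace

/-- Prime avoidance: an ideal not contained in any of finitely many primes has an element outside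
all of them. -/
theorem exists_mem_notMem_of_finite {A : Type*} [CommRing A] (J : Ideal A)
    (T : Set (PrimeSpectrum A)) (hT : T.Finite) (hJ : ∀ p ∈ T, ¬ ((J : Set A) ⊆ p.asIdeal)) :
    ∃ h ∈ J, ∀ p ∈ T, h ∉ p.asIdeal := by
  classical
  rcases T.eq_empty_or_nonempty with hTe | ⟨p₀, hp₀⟩
  · exact ⟨0, J.zero_mem, fun p hp => by rw [hTe] at hp; exact hp.elim⟩
  have hnot : ¬ ((J : Set A) ⊆
      ⋃ p ∈ (↑hT.toFinset : Set (PrimeSpectrum A)), (p.asIdeal : Set A)) := by
    intro hsub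
    obtain ⟨p, hp, hle⟩ := (Ideal.subset_union_prime (f := fun p : PrimeSpectrum A => p.asIdeal)
      p₀ p₀ (fun p _ _ _ => p.isPrime)).mp hsub
    exact hJ p ((Set.Finite.mem_toFinset _).mp hp) hle
  obtain ⟨h, hhJ, hhT⟩ := Set.not_subset.mp hnot
  refine ⟨h, hhJ, fun p hp hmem => hhT ?_⟩
  simp only [Set.mem_iUnion]
  exact ⟨p, by rw [Finset.mem_coe, Set.Finite.mem_toFinset]; exact hp, hmem⟩

/-- finitely many points of an affine open lying in an open `O` have a common affine open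
neighbourhood inside `A₀ ⊓ O`. -/
theorem exists_isAffineOpen_le_of_finite {X : Scheme.{u}} {A₀ : X.Opens} (hA₀ : IsAffineOpen A₀)
    (O : X.Opens) (T : Set X) (hT : T.Finite) (hTA : T ⊆ A₀) (hTO : T ⊆ O) :
    ∃ A : X.Opens, IsAffineOpen A ∧ A ≤ A₀ ∧ A ≤ O ∧ T ⊆ A := by
  classical
  let O' : Set (PrimeSpectrum Γ(X, A₀)) := {p | hA₀.fromSpec p ∈ O}
  have hO' : IsOpen O' := (hA₀.fromSpec ⁻¹ᵁ O).isOpen
  let J : Ideal Γ(X, A₀) := PrimeSpectrum.vanishingIdeal O'ᶜ
  let T' : Set (PrimeSpectrum Γ(X, A₀)) :=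
    {p | hA₀.fromSpec p ∈ T}
  have hinj : Function.Injective hA₀.fromSpec := hA₀.fromSpec.isOpenEmbedding.injective
  have hT' : T'.Finite := hT.preimage (hinj.injOn)
  have hJ : ∀ p ∈ T', ¬ ((J : Set Γ(X, A₀)) ⊆ p.asIdeal) := by
    intro p hp hsub
    have hpO : p ∈ O' := hTO hp
    have hcl : p ∈ PrimeSpectrum.zeroLocus (J : Set Γ(X, A₀)) := hsub
    rw [PrimeSpectrum.zeroLocus_vanishingIdeal_eq_closure,
      (hO'.isClosed_compl).closure_eq] at hcl
    exact hcl hpO
  obtain ⟨h, hhJ, hhT⟩ := exists_mem_notMem_of_finite J T' hT' hJ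
  refine ⟨X.basicOpen h, hA₀.basicOpen h, X.basicOpen_le h, ?_, ?_⟩
  · intro y hy
    have hyA : y ∈ A₀ := X.basicOpen_le h hy
    have hq := hA₀.fromSpec_primeIdealOf ⟨y, hyA⟩
    set q := hA₀.primeIdealOf ⟨y, hyA⟩ with hqdef
    have hqb : q ∈ (hA₀.fromSpec ⁻¹ᵁ X.basicOpen h) := by
      show hA₀.fromSpec q ∈ X.basicOpen h
      rw [hq]; exact hy
    rw [hA₀.fromSpec_preimage_basicOpen] at hqb
    have hqh : h ∉ q.asIdeal := hqb
    by_contra hyO
    apply hqh
    have hqO : q ∈ O'ᶜ := by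
      intro hqO
      apply hyO
      have : hA₀.fromSpec q ∈ O := hqO
      rwa [hq] at this
    exact (PrimeSpectrum.mem_vanishingIdeal _ _).1 hhJ q hqO
  · intro x hx
    have hxA : x ∈ A₀ := hTA hx
    have hq := hA₀.fromSpec_primeIdealOf ⟨x, hxA⟩
    set q := hA₀.primeIdealOf ⟨x, hxA⟩ with hqdef
    have hqT : q ∈ T' := by
      show hA₀.fromSpec q ∈ T
      rw [hq]; exact hx
    have hqb : q ∈ (hA₀.fromSpec ⁻¹ᵁ X.basicOpen h) := by
      rw [hA₀.fromSpec_preimage_basicOpen]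
      exact hhT q hqT
    have : hA₀.fromSpec q ∈ X.basicOpen h := hqb
    rwa [hq] at this

end Groth.Agent.Lib.Seat2.AffShrink
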