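import Mathlib
import Groth.Prelude.Def_FEt
import Groth.Agent.Lib.Seat2SplitDeg

/-!
# Principal covers: the torsor isomorphism

* `isIso_left_of_bijective_fiber_algClosed`: a morphism of finite étale covers (arbitrary base) which is
  bijective on the fibres over all points with values in algebraically closed fields is an isomorphism;
* `isIso_torsorMap`: if a finite group acts simply transitively on all such fibres of a finite étale
  cover `Y → X`, then `∐_G Y → Y ×_X Y`, `(y, g) ↦ (y, g y)`, is an isomorphism.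
-/

set_option autoImplicit false

namespace Groth.Agent.Lib.Seat2.Torsor

open CategoryTheory Limits AlgebraicGeometry Groth.Agent.Lib.Seat2.FibreCard
  Groth.Agent.Lib.Seat2.FEtGalois Groth.Agent.Lib.Seat2.FEtMono Groth.Agent.Lib.Seat2.SplitDeg

universe u

section IsoCriterion

variable {X : Scheme.{u}}

/-- **Isomorphism criterion over an arbitrary base** (algebraically closed points). -/
theorem isIso_left_of_bijective_fiber_algClosed {P Q : FEt.Cat X} (Ψ : P ⟶ Q)
    (h : ∀ (Ω : Type u) [Field Ω] [IsAlgClosed Ω] (ξ : Spec (CommRingCat.of Ω) ⟶ X),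
      Function.Bijective ((FEt.fiber ξ).map Ψ)) : IsIso Ψ.left := by
  have hprop : FEt.prop Ψ.left := fet_left Ψ
  have hfin : IsFinite Ψ.left := hprop.1
  have het : Etale Ψ.left := hprop.2
  have hw : Ψ.left ≫ Q.hom = P.hom := MorphismProperty.Over.w Ψ
  let T : FEt.Cat Q.left := MorphismProperty.Over.mk ⊤ Ψ.left hprop
  rw [Scheme.Hom.isIso_iff_finrank_eq]
  ext q
  rw [Pi.one_apply]
  let Ω := AlgebraicClosure (Q.left.residueField q)
  obtain ⟨ζ, hζq⟩ : ∃ ζ : Spec (CommRingCat.of Ω) ⟶ Q.left,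
      ζ (IsLocalRing.closedPoint Ω) = q :=
    ⟨Spec.map (CommRingCat.ofHom (algebraMap (Q.left.residueField q) Ω)) ≫
      Q.left.fromSpecResidueField q, by
      rw [Scheme.Hom.comp_apply, Scheme.fromSpecResidueField_apply]⟩
  have hcard := card_fiberObj_eq_finrank ζ T
  rw [hζq] at hcard
  change _ = Scheme.Hom.finrank Ψ.left q at hcard
  rw [← hcard, Nat.card_eq_one_iff_unique]
  have hb := h Ω (ζ ≫ Q.hom)
  constructor
  · constructor
    rintro ⟨s, hs⟩ ⟨s', hs'⟩
    change Spec (CommRingCat.of Ω) ⟶ P.left at s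
    change Spec (CommRingCat.of Ω) ⟶ P.left at s'
    change s ≫ Ψ.left = ζ at hs
    change s' ≫ Ψ.left = ζ at hs'
    have hsP : s ≫ P.hom = ζ ≫ Q.hom := by
      rw [← hs, Category.assoc, hw]
    have hsP' : s' ≫ P.hom = ζ ≫ Q.hom := by
      rw [← hs', Category.assoc, hw]
    apply Subtype.ext
    have := hb.injective (a₁ := ⟨s, hsP⟩) (a₂ := ⟨s', hsP'⟩) (Subtype.ext (hs.trans hs'.symm))
    exact (congrArg Subtype.val this : s = s')
  · obtain ⟨⟨s, hsP⟩, hs⟩ := hb.surjective ⟨ζ, rfl⟩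
    exact ⟨⟨s, congrArg Subtype.val hs⟩⟩

end IsoCriterion

section TorsorMap

variable {X : Scheme.{u}} (Y : FEt.Cat X) (G : Type u) [Group G] [Finite G] (ρ : G →* Aut Y)

/-- the morphism `∐_G Y → Y ×_X Y`, `(y, g) ↦ (y, g y)`. -/
noncomputable def torsorMap : (∐ fun _ : G => Y.left) ⟶ pullback Y.hom Y.hom :=
  Sigma.desc fun g : G =>
    pullback.lift (𝟙 Y.left) (ρ g).hom.left
      ((Category.id_comp Y.hom).trans (Over.w (ρ g).hom.hom).symm)

lemma ι_torsorMap_fst (g : G) :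
    Sigma.ι (fun _ : G => Y.left) g ≫ torsorMap Y G ρ ≫ pullback.fst Y.hom Y.hom = 𝟙 _ := by
  unfold torsorMap
  rw [← Category.assoc, Sigma.ι_desc, pullback.lift_fst]

lemma ι_torsorMap_snd (g : G) :
    Sigma.ι (fun _ : G => Y.left) g ≫ torsorMap Y G ρ ≫ pullback.snd Y.hom Y.hom =
      (ρ g).hom.left := by
  unfold torsorMap
  rw [← Category.assoc, Sigma.ι_desc, pullback.lift_snd]

/-- **The torsor isomorphism**: a simply transitive action on geometric fibres makes
`∐_G Y → Y ×_X Y` an isomorphism. -/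
theorem isIso_torsorMap
    (hsimp : ∀ (Ω : Type u) [Field Ω] [IsAlgClosed Ω] (ξ : Spec (CommRingCat.of Ω) ⟶ X)
      (s t : FEt.fiberObj ξ Y), ∃! g : G, (FEt.fiber ξ).map (ρ g).hom s = t) :
    IsIso (torsorMap Y G ρ) := by
  classical
  have hYfin : IsFinite Y.hom := Y.prop.1
  have hYet : Etale Y.hom := Y.prop.2
  obtain ⟨a, ha⟩ : ∃ a : G → (Y.left ⟶ Y.left), ∀ g, a g = (ρ g).hom.left := ⟨_, fun _ => rfl⟩
  have ha_w : ∀ g, a g ≫ Y.hom = Y.hom := fun g => by
    rw [ha]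
    exact Over.w (ρ g).hom.hom
  obtain ⟨Ψ, hΨ⟩ : ∃ Ψ : (∐ fun _ : G => Y.left) ⟶ pullback Y.hom Y.hom,
      Ψ = torsorMap Y G ρ := ⟨_, rfl⟩
  rw [← hΨ]
  have hΨfst : ∀ g, Sigma.ι (fun _ : G => Y.left) g ≫ Ψ ≫ pullback.fst Y.hom Y.hom = 𝟙 _ := by
    intro g
    rw [hΨ]
    exact ι_torsorMap_fst Y G ρ g
  have hΨsnd : ∀ g, Sigma.ι (fun _ : G => Y.left) g ≫ Ψ ≫ pullback.snd Y.hom Y.hom = a g := by
    intro g
    rw [hΨ, ha]
    exact ι_torsorMap_snd Y G ρ g
  -- the two covers of `Y`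
  have hP : FEt.prop (Sigma.desc fun _ : G => 𝟙 Y.left) :=
    ⟨Groth.Agent.Lib.Seat62.GraphCover.isFinite_sigmaDesc G _ _ _ (fun _ => inferInstance),
      IsZariskiLocalAtSource.sigmaDesc (fun _ => inferInstance)⟩
  let P : FEt.Cat Y.left := MorphismProperty.Over.mk ⊤ (Sigma.desc fun _ : G => 𝟙 Y.left) hP
  let Q : FEt.Cat Y.left := MorphismProperty.Over.mk ⊤ (pullback.fst Y.hom Y.hom)
    ⟨inferInstance, inferInstance⟩
  have hΨw : Ψ ≫ pullback.fst Y.hom Y.hom = Sigma.desc fun _ : G => 𝟙 Y.left := by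
    apply Sigma.hom_ext
    intro g
    rw [hΨfst, Sigma.ι_desc]
  let Ψ' : P ⟶ Q := MorphismProperty.Over.homMk Ψ hΨw trivial
  change IsIso Ψ'.left
  apply isIso_left_of_bijective_fiber_algClosed
  intro Ω _ _ y
  -- the simply transitive action on the fibre through `y`
  have hw : ∀ g, (y ≫ a g) ≫ Y.hom = y ≫ Y.hom := fun g => by rw [Category.assoc, ha_w]
  have hact : ∀ g, ((FEt.fiber (y ≫ Y.hom)).map (ρ g).hom ⟨y, rfl⟩ : FEt.fiberObj (y ≫ Y.hom) Y) =
      ⟨y ≫ a g, hw g⟩ := by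
    intro g
    apply Subtype.ext
    change y ≫ (ρ g).hom.left = y ≫ a g
    rw [ha]
  constructor
  · rintro ⟨s, hs⟩ ⟨s', hs'⟩ h
    change Spec (CommRingCat.of Ω) ⟶ ∐ fun _ : G => Y.left at s
    change Spec (CommRingCat.of Ω) ⟶ ∐ fun _ : G => Y.left at s'
    change s ≫ Sigma.desc (fun _ : G => 𝟙 Y.left) = y at hs
    change s' ≫ Sigma.desc (fun _ : G => 𝟙 Y.left) = y at hs'
    have h' : s ≫ Ψ = s' ≫ Ψ := congrArg Subtype.val h
    apply Subtype.ext
    change s = s'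
    obtain ⟨g, b, rfl⟩ := exists_factor_sigma (fun _ : G => Y.left) s
    obtain ⟨g', b', rfl⟩ := exists_factor_sigma (fun _ : G => Y.left) s'
    have hb : y = b := by
      rw [Category.assoc, Sigma.ι_desc] at hs
      exact hs.symm.trans (Category.comp_id b)
    have hb' : y = b' := by
      rw [Category.assoc, Sigma.ι_desc] at hs'
      exact hs'.symm.trans (Category.comp_id b')
    subst hb
    subst hb'
    have h2 := congrArg (fun m => m ≫ pullback.snd Y.hom Y.hom) h'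
    simp only [Category.assoc, hΨsnd] at h2
    obtain ⟨g₀, -, huniq⟩ := hsimp Ω (y ≫ Y.hom) ⟨y, rfl⟩ ⟨y ≫ a g, hw g⟩
    have e1 : g = g₀ := huniq g (hact g)
    have e2 : g' = g₀ := huniq g' ((hact g').trans (Subtype.ext h2.symm))
    rw [e1, e2]
  · rintro ⟨w, hw'⟩
    change Spec (CommRingCat.of Ω) ⟶ pullback Y.hom Y.hom at w
    change w ≫ pullback.fst Y.hom Y.hom = y at hw'
    have hw1 : (w ≫ pullback.snd Y.hom Y.hom) ≫ Y.hom = y ≫ Y.hom := by
      rw [Category.assoc, ← pullback.condition, ← Category.assoc, hw']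
    obtain ⟨g, hg, -⟩ := hsimp Ω (y ≫ Y.hom) ⟨y, rfl⟩ ⟨w ≫ pullback.snd Y.hom Y.hom, hw1⟩
    have hg' : y ≫ a g = w ≫ pullback.snd Y.hom Y.hom :=
      congrArg Subtype.val ((hact g).symm.trans hg)
    refine ⟨⟨y ≫ Sigma.ι (fun _ : G => Y.left) g, ?_⟩, Subtype.ext ?_⟩
    · change (y ≫ Sigma.ι (fun _ : G => Y.left) g) ≫ Sigma.desc (fun _ : G => 𝟙 Y.left) = y
      rw [Category.assoc, Sigma.ι_desc]
      exact Category.comp_id y
    · change (y ≫ Sigma.ι (fun _ : G => Y.left) g) ≫ Ψ = w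
      apply pullback.hom_ext
      · rw [Category.assoc, Category.assoc, hΨfst, hw']
        exact Category.comp_id y
      · rw [Category.assoc, Category.assoc, hΨsnd, hg']

end TorsorMap

end Groth.Agent.Lib.Seat2.Torsor
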