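import Mathlib
import Groth.Prelude.Def_FEt
import Groth.Agent.Lib.Seat2Torsor
import Groth.Agent.Lib.Helper26FEtAffine

/-!
# Principal covers of an affine scheme, in terms of algebras

For a finite étale `A`-algebra `B` with an action `τ` of a finite group `G` by `A`-algebra maps such that
`G` acts simply transitively on the geometric fibres of `Spec B → Spec A`:

* `psi_bijective`: `B ⊗[A] B → ∏_G B`, `b ⊗ b' ↦ (b · τ_g b')_g`, is bijective;
* `mem_range_of_invariant`: the invariants of `B` are `A` (for `B` faithfully flat);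
* `exists_trace_eq_one`: some element has trace one.
-/

set_option autoImplicit false

namespace Groth.Agent.Lib.Seat2.TorsorAlg

open CategoryTheory Limits AlgebraicGeometry TensorProduct Groth.Agent.Lib.Helper26.FEtAffine
  Groth.Agent.Lib.Seat2.Torsor

universe u

section Alg

variable (A : Type u) [CommRing A] (B : Type u) [CommRing B] [Algebra A B]
  (G : Type*) (τ : G → (B →ₐ[A] B))

/-- the components of the torsor map. -/
noncomputable def psiComp (g : G) : B ⊗[A] B →ₐ[A] B :=
  Algebra.TensorProduct.lift (AlgHom.id A B) (τ g) (fun _ _ => Commute.all _ _)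

@[simp] lemma psiComp_tmul (g : G) (b b' : B) : psiComp A B G τ g (b ⊗ₜ b') = b * τ g b' := by
  simp [psiComp]

/-- the torsor map `b ⊗ b' ↦ (b · τ_g b')_g`. -/
noncomputable def psi : B ⊗[A] B →ₐ[A] (G → B) := Pi.algHom A (fun _ => B) (psiComp A B G τ)

@[simp] lemma psi_tmul (g : G) (b b' : B) : psi A B G τ (b ⊗ₜ b') g = b * τ g b' := by
  simp [psi]

lemma psi_apply (g : G) (z : B ⊗[A] B) : psi A B G τ z g = psiComp A B G τ g z := rfl

end Alg

section Bijective

variable (A : Type u) [CommRing A] (B : Type u) [CommRing B] [Algebra A B] [Module.Finite A B]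
  [Algebra.Etale A B] (G : Type u) [Group G] [Finite G] (τ : G → (B →ₐ[A] B))

/-- **The torsor isomorphism in algebra.** -/
theorem psi_bijective (ρ : G →* Aut (std A B)) (hρ : ∀ g, (ρ g).hom = stdHom A (τ g))
    (hsimp : ∀ (Ω : Type u) [Field Ω] [IsAlgClosed Ω]
      (ξ : Spec (CommRingCat.of Ω) ⟶ Spec (CommRingCat.of A)) (s t : FEt.fiberObj ξ (std A B)),
      ∃! g : G, (FEt.fiber ξ).map (ρ g).hom s = t) :
    Function.Bijective (psi A B G τ) := by
  have hiso := isIso_torsorMap (std A B) G ρ hsimp
  let R : G → CommRingCat.{u} := fun _ => CommRingCat.of B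
  let Ψ : (∐ fun g => Spec (R g)) ⟶ pullback (Spec.map (CommRingCat.ofHom (algebraMap A B)))
      (Spec.map (CommRingCat.ofHom (algebraMap A B))) := torsorMap (std A B) G ρ
  have hΨ : IsIso Ψ := hiso
  let ψ : CommRingCat.of (B ⊗[A] B) ⟶ CommRingCat.of (Π g, R g) :=
    CommRingCat.ofHom (psi A B G τ).toRingHom
  -- components
  have hcomp : ∀ g, Sigma.ι (fun g => Spec (R g)) g ≫ Ψ =
      Spec.map (CommRingCat.ofHom (psiComp A B G τ g).toRingHom) ≫ (pullbackSpecIso A B B).inv := by
    intro g
    apply pullback.hom_ext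
    · have h1 := ι_torsorMap_fst (std A B) G ρ g
      rw [Category.assoc, Category.assoc, pullbackSpecIso_inv_fst, ← Spec.map_comp]
      refine (Category.assoc _ _ _).symm.trans
        (h1.trans ((Spec.map_id (CommRingCat.of B)).symm.trans ?_))
      congr 1
      ext b
      change b = psiComp A B G τ g (b ⊗ₜ 1)
      simp
    · have h2 := ι_torsorMap_snd (std A B) G ρ g
      rw [Category.assoc, Category.assoc, pullbackSpecIso_inv_snd, ← Spec.map_comp]
      refine (Category.assoc _ _ _).symm.trans (h2.trans ?_)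
      rw [hρ, stdHom_left]
      congr 1
      ext b
      change τ g b = psiComp A B G τ g (1 ⊗ₜ b)
      simp
  have hsq : Ψ ≫ (pullbackSpecIso A B B).hom = sigmaSpec R ≫ Spec.map ψ := by
    apply Sigma.hom_ext
    intro g
    rw [← Category.assoc, hcomp, Category.assoc, Iso.inv_hom_id, Category.comp_id,
      ← Category.assoc, ι_sigmaSpec, ← Spec.map_comp]
    rfl
  have hSpec : IsIso (Spec.map ψ) := by
    have : Spec.map ψ = inv (sigmaSpec R) ≫ Ψ ≫ (pullbackSpecIso A B B).hom := by
      rw [hsq, IsIso.inv_hom_id_assoc]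
    rw [this]
    infer_instance
  have hψop : IsIso ψ.op := by
    haveI : IsIso (Scheme.Spec.map ψ.op) := hSpec
    exact Spec.fullyFaithful.isIso_of_isIso_map ψ.op
  have hψ : IsIso ψ := isIso_of_op ψ
  exact (ConcreteCategory.isIso_iff_bijective ψ).mp hψ

end Bijective

section Invariants

variable (A : Type u) [CommRing A] (B : Type u) [CommRing B] [Algebra A B]
  [Module.FaithfullyFlat A B] (G : Type*) (τ : G → (B →ₐ[A] B))
  (hψ : Function.Injective (psi A B G τ))

include hψ in
/-- the invariants are the base ring. -/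
theorem mem_range_of_invariant (b : B) (hb : ∀ g, τ g b = b) :
    b ∈ Set.range (algebraMap A B) := by
  have h1 : (1 : B) ⊗ₜ[A] b = b ⊗ₜ[A] (1 : B) := by
    apply hψ
    funext g
    rw [psi_tmul, psi_tmul, hb g, map_one, one_mul, mul_one]
  let N : Submodule A B := LinearMap.range (Algebra.linearMap A B)
  have h2 := congrArg (LinearMap.lTensor B N.mkQ) h1
  rw [LinearMap.lTensor_tmul, LinearMap.lTensor_tmul] at h2
  have h3 : N.mkQ (1 : B) = 0 := by
    rw [Submodule.mkQ_apply, Submodule.Quotient.mk_eq_zero]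
    exact ⟨1, by simp⟩
  rw [h3, tmul_zero] at h2
  have h4 : TensorProduct.mk A B (B ⧸ N) 1 (N.mkQ b) = TensorProduct.mk A B (B ⧸ N) 1 0 := by
    rw [TensorProduct.mk_apply, TensorProduct.mk_apply, h2, tmul_zero]
  have h5 := Module.FaithfullyFlat.tensorProduct_mk_injective (A := A) (B := B) (B ⧸ N) h4
  rw [Submodule.mkQ_apply, Submodule.Quotient.mk_eq_zero] at h5
  obtain ⟨a, ha⟩ := h5
  exact ⟨a, ha⟩

end Invariants

section Trace

variable (A : Type u) [CommRing A] (B : Type u) [CommRing B] [Algebra A B]
  [Module.FaithfullyFlat A B] (G : Type*) [Group G] [Fintype G] (τ : G → (B →ₐ[A] B))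
  (hψ : Function.Bijective (psi A B G τ))
  (hmul : ∀ g h, (τ g).comp (τ h) = τ (h * g))

/-- the trace of the action. -/
noncomputable def tr : B →ₗ[A] B := ∑ g, (τ g).toLinearMap

lemma tr_apply (b : B) : tr A B G τ b = ∑ g, τ g b := by
  simp [tr, LinearMap.sum_apply]

include hmul in
lemma tr_invariant (h : G) (b : B) : τ h (tr A B G τ b) = tr A B G τ b := by
  rw [tr_apply, map_sum]
  have : ∀ g, τ h (τ g b) = τ (g * h) b := fun g => by
    rw [← hmul h g]
    rfl
  simp only [this]
  exact Fintype.sum_equiv (Equiv.mulRight h) _ _ (fun g => rfl)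

include hψ hmul in
/-- **A trace-one element**: the trace `B → A` of a principal cover is surjective. -/
theorem exists_trace_eq_one : ∃ c : B, ∑ g, τ g c = 1 := by
  classical
  -- traces lie in `A`
  have htrA : ∀ b, ∃ a : A, algebraMap A B a = tr A B G τ b := fun b =>
    mem_range_of_invariant A B G τ hψ.injective _ (fun g => tr_invariant A B G τ hmul g b)
  -- the ideal of traces
  let I : Ideal A := (LinearMap.range (tr A B G τ)).comap (Algebra.linearMap A B)
  have hI : ∀ a : A, a ∈ I ↔ ∃ c, tr A B G τ c = algebraMap A B a := fun a => by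
    change Algebra.linearMap A B a ∈ LinearMap.range (tr A B G τ) ↔ _
    rw [LinearMap.mem_range]
    rfl
  -- the map `x ⊗ y ↦ x * tr y`
  let Φ : B ⊗[A] B →ₗ[A] B := (LinearMap.mul' A B).comp (LinearMap.lTensor B (tr A B G τ))
  have hΦ : ∀ z, Φ z ∈ I • (⊤ : Submodule A B) := by
    intro z
    induction z using TensorProduct.induction_on with
    | zero => simp
    | tmul x y =>
      obtain ⟨a, ha⟩ := htrA y
      have : Φ (x ⊗ₜ y) = a • x := by
        change LinearMap.mul' A B (LinearMap.lTensor B (tr A B G τ) (x ⊗ₜ y)) = _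
        rw [LinearMap.lTensor_tmul, LinearMap.mul'_apply, ← ha, Algebra.smul_def, mul_comm]
      rw [this]
      exact Submodule.smul_mem_smul ((hI a).mpr ⟨y, ha.symm⟩) trivial
    | add x y hx hy =>
      rw [map_add]
      exact Submodule.add_mem _ hx hy
  -- summing the coordinates
  let S : (G → B) →ₗ[A] (G → B) :=
    { toFun := fun f _ => ∑ k, f k
      map_add' := fun f f' => by
        funext _
        simp [Finset.sum_add_distrib]
      map_smul' := fun a f => by
        funext _
        simp [Finset.smul_sum] }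
  have hS : (psi A B G τ).toLinearMap.comp (LinearMap.lTensor B (tr A B G τ)) =
      S.comp (psi A B G τ).toLinearMap := by
    apply TensorProduct.ext'
    intro x y
    funext g
    change psi A B G τ (LinearMap.lTensor B (tr A B G τ) (x ⊗ₜ y)) g = ∑ k, psi A B G τ (x ⊗ₜ y) k
    rw [LinearMap.lTensor_tmul, psi_tmul, tr_apply, map_sum, Finset.mul_sum]
    have : ∀ k, x * τ g (τ k y) = psi A B G τ (x ⊗ₜ y) (k * g) := fun k => by
      rw [psi_tmul, ← hmul g k]
      rfl
    simp only [this]
    exact Fintype.sum_equiv (Equiv.mulRight g) _ _ (fun k => rfl)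
  obtain ⟨w, hw⟩ := hψ.surjective (Pi.single 1 1)
  have hw1 : LinearMap.lTensor B (tr A B G τ) w = 1 := by
    apply hψ.injective
    have := LinearMap.congr_fun hS w
    change psi A B G τ (LinearMap.lTensor B (tr A B G τ) w) = S (psi A B G τ w) at this
    rw [this, hw, map_one]
    funext g
    change ∑ k, (Pi.single (1 : G) (1 : B) : G → B) k = 1
    rw [Finset.sum_eq_single 1]
    · simp
    · intro k _ hk
      simp [hk]
    · intro h
      exact absurd (Finset.mem_univ _) h
  have h1 : (1 : B) ∈ I • (⊤ : Submodule A B) := by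
    have := hΦ w
    change LinearMap.mul' A B (LinearMap.lTensor B (tr A B G τ) w) ∈ _ at this
    rw [hw1] at this
    change LinearMap.mul' A B ((1 : B) ⊗ₜ[A] (1 : B)) ∈ _ at this
    rwa [LinearMap.mul'_apply, mul_one] at this
  -- the ideal of traces is the unit ideal
  have hItop : I = ⊤ := by
    by_contra hne
    obtain ⟨m, hm, hIm⟩ := Ideal.exists_le_maximal I hne
    have h2 : (1 : B) ∈ m • (⊤ : Submodule A B) := Submodule.smul_mono_left hIm h1
    have h3 : m • (⊤ : Submodule A B) = ⊤ := by
      rw [eq_top_iff]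
      intro b _
      have : b = b • (1 : B) := by simp
      rw [this]
      have hsub : m • (⊤ : Submodule A B) = (m.map (algebraMap A B)).restrictScalars A := by
        rw [Ideal.smul_top_eq_map]
      rw [hsub] at h2 ⊢
      exact Ideal.mul_mem_left _ b h2
    exact Module.FaithfullyFlat.submodule_ne_top hm h3
  obtain ⟨c, hc⟩ := (hI 1).mp (hItop ▸ Submodule.mem_top)
  refine ⟨c, ?_⟩
  rw [← tr_apply, hc, map_one]

end Trace

end Groth.Agent.Lib.Seat2.TorsorAlg
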