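import Mathlib
import Groth.Prelude.Def_SGA1t
import Groth.Agent.Lib.Seat2TorsorAlg

/-!
# Artin–Schreier theory for `ℤ/p`-torsor algebras in characteristic `p`

`B` a faithfully flat `A`-algebra (`A` of characteristic `p`) with an action `σ` of `ℤ/p` by `A`-algebra maps
such that `B ⊗[A] B → ∏_{ℤ/p} B` is bijective and some element has trace one. Then `B ≅ A[T]/(T^p - T - a)`
compatibly with `T ↦ T + j`.
-/

set_option autoImplicit false

namespace Groth.Agent.Lib.Seat2.ArtinSchreier

open TensorProduct Polynomial Groth.Agent.Lib.Seat2.TorsorAlg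

universe u

variable (A : Type u) [CommRing A] (p : ℕ) [Fact p.Prime] [CharP A p]
  (B : Type u) [CommRing B] [Algebra A B]

/-- the prime field inside `B`. -/
noncomputable def castB : ZMod p →+* B := (algebraMap A B).comp (ZMod.castHom (dvd_refl p) A)

lemma castB_pow (j : ZMod p) : castB A p B j ^ p = castB A p B j := by
  rw [← map_pow, ZMod.pow_card]

section Element

variable (σ : ZMod p → (B →ₐ[A] B)) (hσadd : ∀ j k, (σ j).comp (σ k) = σ (j + k))
  (c : B) (hc : ∑ j, σ j c = 1)

lemma sigma_castB (k j : ZMod p) : σ k (castB A p B j) = castB A p B j := by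
  unfold castB
  rw [RingHom.comp_apply]
  exact (σ k).commutes _

/-- the Artin–Schreier generator. -/
noncomputable def gen : B := - ∑ j, castB A p B j * σ j c

include hσadd hc in
lemma sigma_gen (k : ZMod p) : σ k (gen A p B σ c) = gen A p B σ c + castB A p B k := by
  unfold gen
  rw [map_neg, map_sum]
  have h1 : ∀ j, σ k (castB A p B j * σ j c) = castB A p B j * σ (k + j) c := fun j => by
    rw [map_mul, sigma_castB, ← hσadd k j]
    rfl
  simp only [h1]
  have h2 : ∑ j, castB A p B j * σ (k + j) c = ∑ m, castB A p B (m - k) * σ m c := by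
    refine Fintype.sum_equiv (Equiv.addLeft k) _ _ (fun j => ?_)
    change _ = castB A p B (k + j - k) * σ (k + j) c
    rw [add_sub_cancel_left]
  rw [h2]
  have h3 : ∀ m, castB A p B (m - k) * σ m c = castB A p B m * σ m c - castB A p B k * σ m c :=
    fun m => by rw [map_sub, sub_mul]
  simp only [h3]
  rw [Finset.sum_sub_distrib, ← Finset.mul_sum, hc, mul_one]
  ring

end Element

section Main

variable [Module.FaithfullyFlat A B]
  (σ : ZMod p → (B →ₐ[A] B)) (hσadd : ∀ j k, (σ j).comp (σ k) = σ (j + k))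
  (hψ : Function.Bijective (psi A B (ZMod p) σ))
  (c : B) (hc : ∑ j, σ j c = 1)

include hσadd hψ hc in
/-- the Artin–Schreier constant. -/
lemma exists_const : ∃ a : A, algebraMap A B a = gen A p B σ c ^ p - gen A p B σ c := by
  haveI : CharP B p := charP_of_injective_algebraMap (FaithfulSMul.algebraMap_injective A B) p
  obtain ⟨a, ha⟩ := mem_range_of_invariant A B (ZMod p) σ hψ.injective
    (gen A p B σ c ^ p - gen A p B σ c) (fun k => by
      rw [map_sub, map_pow, sigma_gen A p B σ hσadd c hc k, add_pow_char, castB_pow]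
      ring)
  exact ⟨a, ha⟩

/-- the Artin–Schreier polynomial. -/
noncomputable def asPoly (a : A) : A[X] := X ^ p - X - C a

lemma asPoly_eq (a : A) : asPoly A p a = X ^ p - (X + C a) := by
  unfold asPoly
  ring

lemma degree_lt (a : A) : (X + C a : A[X]).degree < (p : ℕ) := by
  have hp : 1 < p := (Fact.out : p.Prime).one_lt
  haveI : Nontrivial A := CharP.nontrivial_of_char_ne_one (R := A) (v := p) (by omega)
  calc (X + C a : A[X]).degree ≤ 1 := by
        refine (degree_add_le _ _).trans (max_le degree_X_le ?_)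
        exact degree_C_le.trans (by norm_num)
    _ < (p : ℕ) := by exact_mod_cast hp

lemma monic_asPoly (a : A) : (asPoly A p a).Monic := by
  rw [asPoly_eq]
  exact monic_X_pow_sub (degree_lt A p a)

lemma natDegree_asPoly (a : A) : (asPoly A p a).natDegree = p := by
  have hp : 1 < p := (Fact.out : p.Prime).one_lt
  haveI : Nontrivial A := CharP.nontrivial_of_char_ne_one (R := A) (v := p) (by omega)
  rw [asPoly_eq, natDegree_sub_eq_left_of_natDegree_lt, natDegree_X_pow]
  rw [natDegree_X_pow, natDegree_X_add_C]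
  exact hp

variable (a : A) (ha : algebraMap A B a = gen A p B σ c ^ p - gen A p B σ c)

include ha in
lemma eval_gen : (asPoly A p a).eval₂ (Algebra.ofId A B) (gen A p B σ c) = 0 := by
  unfold asPoly
  rw [eval₂_sub, eval₂_sub, eval₂_pow, eval₂_X, eval₂_C]
  change _ - _ - algebraMap A B a = 0
  rw [ha]
  ring

/-- the comparison map `A[T]/(T^p - T - a) → B`. -/
noncomputable def phi : AdjoinRoot (asPoly A p a) →ₐ[A] B :=
  AdjoinRoot.liftAlgHom (asPoly A p a) (Algebra.ofId A B) (gen A p B σ c) (eval_gen A p B σ c a ha)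

lemma phi_root : phi A p B σ c a ha (AdjoinRoot.root _) = gen A p B σ c :=
  AdjoinRoot.liftAlgHom_root _ _ _ _

/-- `psi` as a `B`-linear map. -/
noncomputable def psiB : B ⊗[A] B →ₗ[B] (ZMod p → B) where
  toFun := psi A B (ZMod p) σ
  map_add' := map_add _
  map_smul' := fun b z => by
    rw [RingHom.id_apply]
    have h1 : b • z = (b ⊗ₜ[A] (1 : B)) * z := by
      rw [Algebra.smul_def]
      rfl
    rw [h1, map_mul]
    funext j
    rw [Pi.mul_apply, psi_tmul, map_one, mul_one, Pi.smul_apply, smul_eq_mul]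

include hσadd hψ hc in
/-- the comparison map is bijective (Vandermonde). -/
theorem phi_bijective : Function.Bijective (phi A p B σ c a ha) := by
  classical
  have hp : 0 < p := (Fact.out : p.Prime).pos
  haveI : NeZero p := ⟨hp.ne'⟩
  let f := asPoly A p a
  let pb := AdjoinRoot.powerBasis' (monic_asPoly A p a)
  have hdim : pb.dim = p := natDegree_asPoly A p a
  let bA : Module.Basis (Fin p) A (AdjoinRoot f) := pb.basis.reindex (finCongr hdim)
  have hbA : ∀ i : Fin p, bA i = AdjoinRoot.root f ^ (i : ℕ) := by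
    intro i
    change pb.basis.reindex (finCongr hdim) i = _
    rw [Module.Basis.reindex_apply, pb.basis_eq_pow]
    rfl
  let bB : Module.Basis (Fin p) B (B ⊗[A] AdjoinRoot f) := Algebra.TensorProduct.basis B bA
  let e : ZMod p ≃ Fin p := (ZMod.finEquiv p).symm.toEquiv
  let bT : Module.Basis (Fin p) B (ZMod p → B) := (Pi.basisFun B (ZMod p)).reindex e
  let φ := phi A p B σ c a ha
  let L : B ⊗[A] AdjoinRoot f →ₗ[B] (ZMod p → B) :=
    (psiB A p B σ).comp (φ.toLinearMap.baseChange B)
  let v : Fin p → B := fun i => gen A p B σ c + castB A p B (e.symm i)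
  have hmat : LinearMap.toMatrix bB bT L = Matrix.vandermonde v := by
    ext i j
    rw [LinearMap.toMatrix_apply, Matrix.vandermonde_apply]
    change bT.repr (psi A B (ZMod p) σ (φ.toLinearMap.baseChange B (bB j))) i = _
    rw [Algebra.TensorProduct.basis_apply, LinearMap.baseChange_tmul, hbA]
    change ((Pi.basisFun B (ZMod p)).reindex e).repr _ i = _
    rw [Module.Basis.repr_reindex_apply, Pi.basisFun_repr, psi_tmul, one_mul]
    change σ (e.symm i) (φ (AdjoinRoot.root f ^ (j : ℕ))) = _
    rw [map_pow, map_pow, phi_root, sigma_gen A p B σ hσadd c hc]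
  have hdet : IsUnit (LinearMap.toMatrix bB bT L).det := by
    rw [hmat, Matrix.det_vandermonde]
    have : ∀ i j : Fin p, v j - v i = castB A p B (e.symm j - e.symm i) := fun i j => by
      change (gen A p B σ c + _) - (gen A p B σ c + _) = _
      rw [map_sub]
      ring
    simp only [this]
    simp only [← map_prod]
    apply IsUnit.map
    rw [isUnit_iff_ne_zero, Finset.prod_ne_zero_iff]
    intro i _
    rw [Finset.prod_ne_zero_iff]
    intro j hj
    rw [sub_ne_zero]
    intro h
    have := e.symm.injective h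
    rw [Finset.mem_Ioi] at hj
    exact (ne_of_gt hj) this
  let Leq := LinearEquiv.ofIsUnitDet hdet
  have hL : Function.Bijective L := by
    have : (Leq : B ⊗[A] AdjoinRoot f →ₗ[B] (ZMod p → B)) = L := LinearEquiv.coe_ofIsUnitDet hdet
    rw [← this]
    exact Leq.bijective
  -- peel off `psi`
  have hbc : Function.Bijective (φ.toLinearMap.baseChange B) := by
    have hcomp : (L : _ → _) = (psi A B (ZMod p) σ) ∘ (φ.toLinearMap.baseChange B) := rfl
    rw [hcomp] at hL
    exact (Function.Bijective.of_comp_iff' hψ _).mp hL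
  have hlt : Function.Bijective (φ.toLinearMap.lTensor B) := hbc
  exact (Module.FaithfullyFlat.lTensor_bijective_iff_bijective A B φ.toLinearMap).mp hlt

include hσadd hψ hc in
/-- **Artin–Schreier**: the torsor algebra is `A[T]/(T^p - T - a)` with `ℤ/p` acting by `T ↦ T + j`. -/
theorem exists_ringEquiv : ∃ (a : A) (Φ : SGA1t.artinSchreier A p a ≃+* B),
    (Φ : SGA1t.artinSchreier A p a →+* B).comp (algebraMap A (SGA1t.artinSchreier A p a)) =
      algebraMap A B ∧
    ∀ k : ZMod p, ((σ k : B →ₐ[A] B) : B →+* B).comp (Φ : SGA1t.artinSchreier A p a →+* B) =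
      (Φ : SGA1t.artinSchreier A p a →+* B).comp (SGA1t.artinSchreierShift A p a k) := by
  obtain ⟨a, ha⟩ := exists_const A p B σ hσadd hψ c hc
  have hbij := phi_bijective A p B σ hσadd hψ c hc a ha
  let Φ₀ : AdjoinRoot (asPoly A p a) ≃+* B :=
    RingEquiv.ofBijective (phi A p B σ c a ha : AdjoinRoot (asPoly A p a) →+* B) hbij
  let Φ : SGA1t.artinSchreier A p a ≃+* B := Φ₀
  have hΦmk : ∀ q : A[X], Φ (Ideal.Quotient.mk _ q) = q.eval₂ (algebraMap A B) (gen A p B σ c) :=
    fun q => rfl
  refine ⟨a, Φ, ?_, ?_⟩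
  · ext x
    change Φ (Ideal.Quotient.mk _ (C x)) = _
    rw [hΦmk, eval₂_C]
  · intro k
    apply Ideal.Quotient.ringHom_ext
    apply Polynomial.ringHom_ext
    · intro x
      change σ k (Φ (Ideal.Quotient.mk _ (C x))) =
        Φ (SGA1t.artinSchreierShift A p a k (Ideal.Quotient.mk _ (C x)))
      rw [hΦmk, eval₂_C]
      change _ = Φ (Ideal.Quotient.mk _ (Polynomial.aeval (R := A)
        (Polynomial.X + Polynomial.C ((ZMod.castHom (dvd_refl p) A) k)) (C x)))
      rw [aeval_C, hΦmk, Polynomial.algebraMap_eq, eval₂_C]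
      exact (σ k).commutes x
    · change σ k (Φ (Ideal.Quotient.mk _ X)) =
        Φ (SGA1t.artinSchreierShift A p a k (Ideal.Quotient.mk _ X))
      rw [hΦmk, eval₂_X]
      change _ = Φ (Ideal.Quotient.mk _ (Polynomial.aeval (R := A)
        (Polynomial.X + Polynomial.C ((ZMod.castHom (dvd_refl p) A) k)) X))
      rw [aeval_X, hΦmk, eval₂_add, eval₂_X, eval₂_C, sigma_gen A p B σ hσadd c hc]
      rfl

end Main

end Groth.Agent.Lib.Seat2.ArtinSchreier
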