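import Mathlib

set_option autoImplicit false

namespace Groth.Agent.Lib.Seat2.GalCompact

open IntermediateField Topology

variable (K L : Type*) [Field K] [Field L] [Algebra K L] [Normal K L]

/-- Restriction to the separable closure. -/
noncomputable def res : Gal(L/K) →* Gal(separableClosure K L / K) :=
  AlgEquiv.restrictNormalHom (separableClosure K L)

lemma res_apply (σ : Gal(L/K)) (x : separableClosure K L) :
    ((res K L σ x : separableClosure K L) : L) = σ x :=
  AlgEquiv.restrictNormalHom_apply _ σ x

lemma res_injective : Function.Injective (res K L) := by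
  intro σ τ h
  have hinj := IsPurelyInseparable.injective_comp_algebraMap (separableClosure K L) L L
  have : (σ : L →+* L) = (τ : L →+* L) := by
    apply hinj
    ext x
    have h1 := res_apply K L σ x
    have h2 := res_apply K L τ x
    rw [h] at h1
    exact h1.symm.trans h2
  ext x
  exact congrArg (fun f : L →+* L => f x) this

lemma res_surjective : Function.Surjective (res K L) :=
  AlgEquiv.restrictNormalHom_surjective L

lemma res_continuous : Continuous (res K L) :=
  InfiniteGalois.restrictNormalHom_continuous _

/-- For each `x : L`, there is `y` in the separable closure whose stabilizer pulls back to the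
stabilizer of `x`. -/
lemma exists_stabilizer_eq (x : L) : ∃ y : separableClosure K L,
    ∀ σ : Gal(L/K), σ x = x ↔ res K L σ y = y := by
  obtain ⟨n, y, hy⟩ := IsPurelyInseparable.pow_mem (separableClosure K L) (ringExpChar K) x
  have : ExpChar L (ringExpChar K) := expChar_of_injective_algebraMap (algebraMap K L).injective _
  refine ⟨y, fun σ => ?_⟩
  have key : ((res K L σ y : separableClosure K L) : L) = (σ x) ^ (ringExpChar K) ^ n := by
    rw [res_apply, ← map_pow, ← hy]; rfl
  constructor
  · intro h
    apply Subtype.ext
    rw [key, h, ← hy]; rfl
  · intro h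
    apply iterateFrobenius_inj L (ringExpChar K) n
    rw [iterateFrobenius_def, iterateFrobenius_def, ← key, h, ← hy]; rfl

lemma res_isInducing : IsInducing (res K L) := by
  rw [IsTopologicalGroup.isInducing_iff_nhds_one]
  apply le_antisymm
  · exact ((res_continuous K L).tendsto 1).le_comap.trans (by rw [map_one])
  · intro s hs
    rw [krullTopology_mem_nhds_one_iff] at hs
    obtain ⟨E, hE, hEs⟩ := hs
    have hfg : E.FG := by
      apply E.fg_of_fg_toSubalgebra
      apply Subalgebra.fg_of_fg_toSubmodule
      exact (Module.Finite.iff_fg (N := E.toSubalgebra.toSubmodule)).mp hE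
    obtain ⟨S, rfl⟩ := hfg
    choose y hy using exists_stabilizer_eq K L
    let E' : IntermediateField K (separableClosure K L) := adjoin K (y '' (S : Set L))
    have hE' : FiniteDimensional K E' := by
      apply IntermediateField.finiteDimensional_adjoin
      intro x _
      exact Algebra.IsIntegral.isIntegral x
    rw [Filter.mem_comap]
    refine ⟨E'.fixingSubgroup, (E'.fixingSubgroup_isOpen.mem_nhds (one_mem _)), ?_⟩
    intro σ hσ
    apply hEs
    rw [Set.mem_preimage, SetLike.mem_coe, IntermediateField.mem_fixingSubgroup_iff] at hσ
    rw [SetLike.mem_coe, IntermediateField.mem_fixingSubgroup_iff]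
    have := (forall_mem_adjoin_smul_eq_self_iff K (S := (S : Set L)) σ).mpr
    apply this
    intro x hx
    exact (hy x σ).mpr (hσ (y x) (subset_adjoin _ _ ⟨x, hx, rfl⟩))

instance compactSpace : CompactSpace Gal(L/K) := by
  rw [← isCompact_univ_iff, (res_isInducing K L).isCompact_iff, Set.image_univ,
    (res_surjective K L).range_eq]
  exact isCompact_univ

end Groth.Agent.Lib.Seat2.GalCompact
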