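import Mathlib
import Groth.Prelude.Def_FEt
import Groth.Agent.Lib.Seat2FEtGalois2
import Groth.Agent.Lib.Seat2GalCompact
import Groth.Agent.Lib.Helper10GaloisOrbit

set_option autoImplicit false

namespace Groth.Agent.Lib.Seat2.FEtField

open CategoryTheory Limits AlgebraicGeometry PreGaloisCategory
open Groth.Agent.Lib.Seat2.FEtGalois

universe u

section General

variable {C : Type*} [Category C] [PreGaloisCategory C]

/-- transfer of fibre functors along isomorphisms -/
lemma fiberFunctor_of_iso {F F' : C ⥤ FintypeCat.{u}} (e : F ≅ F') [FiberFunctor F] :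
    FiberFunctor F' where
  preservesTerminalObjects := preservesLimitsOfShape_of_natIso e
  preservesPullbacks := preservesLimitsOfShape_of_natIso e
  preservesFiniteCoproducts := ⟨fun _ => preservesColimitsOfShape_of_natIso e⟩
  preservesEpis := Functor.PreservesEpimorphisms.of_iso e
  preservesQuotientsByFiniteGroups _ _ _ := preservesColimitsOfShape_of_natIso e
  reflectsIsos := reflectsIsomorphisms_of_iso e

end General

variable (K : Type u) [Field K]

/-- the geometric point `Spec K̄ ⟶ Spec K`. -/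
noncomputable abbrev xi : Spec (CommRingCat.of (AlgebraicClosure K)) ⟶ Spec (CommRingCat.of K) :=
  Spec.map (CommRingCat.ofHom (algebraMap K (AlgebraicClosure K)))

variable {K}

/-- the action of the Galois group on `Spec K̄`. -/
noncomputable def act (σ : Gal(AlgebraicClosure K / K)) :
    Spec (CommRingCat.of (AlgebraicClosure K)) ⟶ Spec (CommRingCat.of (AlgebraicClosure K)) :=
  Spec.map (CommRingCat.ofHom σ.toRingHom)

@[reassoc (attr := simp)]
lemma act_xi (σ : Gal(AlgebraicClosure K / K)) : act σ ≫ xi K = xi K := by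
  rw [act, xi, ← Spec.map_comp]
  congr 1
  ext x
  exact σ.commutes x

@[simp]
lemma act_one : act (1 : Gal(AlgebraicClosure K / K)) = 𝟙 _ := by
  rw [act, ← Spec.map_id]
  rfl

lemma act_mul (σ τ : Gal(AlgebraicClosure K / K)) : act (σ * τ) = act σ ≫ act τ := by
  rw [act, act, act, ← Spec.map_comp]
  rfl

noncomputable instance mulActionFiberObj (Y : FEt.Cat (Spec (CommRingCat.of K))) :
    MulAction Gal(AlgebraicClosure K / K) (FEt.fiberObj (xi K) Y) where
  smul σ s := ⟨act σ ≫ s.1, by rw [Category.assoc, s.2, act_xi]⟩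
  one_smul s := Subtype.ext (by change act 1 ≫ s.1 = s.1; simp)
  mul_smul σ τ s := Subtype.ext (by
    change act (σ * τ) ≫ s.1 = act σ ≫ act τ ≫ s.1
    rw [act_mul, Category.assoc])

lemma smul_val {Y : FEt.Cat (Spec (CommRingCat.of K))} (σ : Gal(AlgebraicClosure K / K))
    (s : FEt.fiberObj (xi K) Y) : (σ • s).1 = act σ ≫ s.1 := rfl

lemma finite_fiberObj (Y : FEt.Cat (Spec (CommRingCat.of K))) :
    Finite (FEt.fiberObj (xi K) Y) :=
  Finite.of_equiv ((fiberFunctor (xi K)).obj Y) ((fiberFunctorInclIso (xi K)).app Y).toEquiv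

variable (K) in
/-- the fibre functor at `Spec K̄`, with values in finite sets, with underlying sets literally
`FEt.fiberObj`. -/
noncomputable def F₂ : FEt.Cat (Spec (CommRingCat.of K)) ⥤ FintypeCat.{u} :=
  ObjectProperty.lift _ (FEt.fiber (xi K)) finite_fiberObj

noncomputable instance mulActionF₂ (Y : FEt.Cat (Spec (CommRingCat.of K))) :
    MulAction Gal(AlgebraicClosure K / K) ((F₂ K).obj Y) :=
  mulActionFiberObj Y

instance : IsNaturalSMul (F₂ K) Gal(AlgebraicClosure K / K) where
  naturality σ Y Z f s := Subtype.ext (Category.assoc _ _ _)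


lemma stabilizer_isOpen_fiberObj (Y : FEt.Cat (Spec (CommRingCat.of K)))
    (s : FEt.fiberObj (xi K) Y) :
    IsOpen (MulAction.stabilizer Gal(AlgebraicClosure K / K) s : Set Gal(AlgebraicClosure K / K)) := by
  have : IsFinite Y.hom := Y.prop.1
  have : IsAffine ((Functor.fromPUnit (Spec (CommRingCat.of K))).obj Y.right) :=
    inferInstanceAs (IsAffine (Spec (CommRingCat.of K)))
  have : IsAffine Y.left := isAffine_of_isAffineHom Y.hom
  let φ : Γ(Y.left, ⊤) ⟶ CommRingCat.of (AlgebraicClosure K) :=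
    s.1.appTop ≫ (Scheme.ΓSpecIso _).hom
  let ψ : CommRingCat.of K ⟶ Γ(Y.left, ⊤) := (Scheme.ΓSpecIso (CommRingCat.of K)).inv ≫ Y.hom.appTop
  have hψφ : ψ ≫ φ = CommRingCat.ofHom (algebraMap K (AlgebraicClosure K)) := by
    have h1 : Y.hom.appTop ≫ s.1.appTop = (xi K).appTop := by
      rw [← Scheme.Hom.comp_appTop, s.2]
    simp only [ψ, φ, Category.assoc]
    rw [reassoc_of% h1, xi, Scheme.ΓSpecIso_naturality, Iso.inv_hom_id_assoc]
  have hfin : ψ.hom.Finite := by
    rw [CommRingCat.hom_comp]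
    refine RingHom.Finite.comp (Scheme.Hom.finite_appTop Y.hom) (RingHom.Finite.of_surjective _ ?_)
    exact (ConcreteCategory.bijective_of_isIso (Scheme.ΓSpecIso (CommRingCat.of K)).inv).2
  algebraize [ψ.hom]
  obtain ⟨S, hS⟩ := (inferInstance : Algebra.FiniteType K Γ(Y.left, ⊤)).out
  let φ' : Γ(Y.left, ⊤) →ₐ[K] AlgebraicClosure K :=
    { φ.hom with
      commutes' := fun a => congrArg (fun g : CommRingCat.of K ⟶ CommRingCat.of (AlgebraicClosure K) => g.hom a) hψφ }
  have key : ∀ σ : Gal(AlgebraicClosure K / K), (∀ a ∈ S, σ (φ a) = φ a) → σ • s = s := by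
    intro σ h
    have h2 : (σ : AlgebraicClosure K →ₐ[K] AlgebraicClosure K).comp φ' = φ' :=
      AlgHom.ext_of_adjoin_eq_top hS (fun a ha => h a ha)
    apply Subtype.ext
    change act σ ≫ s.1 = s.1
    apply ext_of_isAffine
    rw [Scheme.Hom.comp_appTop, ← cancel_mono (Scheme.ΓSpecIso _).hom, Category.assoc, act,
      Scheme.ΓSpecIso_naturality, ← Category.assoc]
    ext a
    exact congrArg (fun g : Γ(Y.left, ⊤) →ₐ[K] AlgebraicClosure K => g a) h2
  apply Subgroup.isOpen_of_mem_nhds (g := 1)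
  have hopen : IsOpen (⋂ a ∈ S, (MulAction.stabilizer Gal(AlgebraicClosure K / K) (φ a) :
      Set Gal(AlgebraicClosure K / K))) :=
    isOpen_biInter_finset (fun a _ => stabilizer_isOpen_of_isIntegral (φ a))
  refine Filter.mem_of_superset (hopen.mem_nhds ?_) ?_
  · simp
  · intro σ hσ
    simp only [Set.mem_iInter, SetLike.mem_coe, MulAction.mem_stabilizer_iff] at hσ
    exact key σ hσ


open IntermediateField in
lemma eq_one_of_forall_smul_eq (σ : Gal(AlgebraicClosure K / K))
    (h : ∀ (Y : FEt.Cat (Spec (CommRingCat.of K))) (s : FEt.fiberObj (xi K) Y), σ • s = s) :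
    σ = 1 := by
  apply GalCompact.res_injective K (AlgebraicClosure K)
  rw [map_one]
  ext ⟨x, hx⟩
  rw [AlgEquiv.one_apply, GalCompact.res_apply]
  change σ x = x
  have hx' : IsSeparable K x := hx
  have : FiniteDimensional K K⟮x⟯ := adjoin.finiteDimensional hx'.isIntegral
  have : Algebra.IsSeparable K K⟮x⟯ :=
    (isSeparable_adjoin_simple_iff_isSeparable K (AlgebraicClosure K)).mpr hx'
  have : Algebra.FormallyEtale K K⟮x⟯ := Algebra.FormallyEtale.of_isSeparable K _
  have : Algebra.FinitePresentation K K⟮x⟯ :=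
    Algebra.FinitePresentation.of_finiteType.mp inferInstance
  have het : Algebra.Etale K K⟮x⟯ := ⟨inferInstance, inferInstance⟩
  let f : CommRingCat.of K ⟶ CommRingCat.of K⟮x⟯ := CommRingCat.ofHom (algebraMap K K⟮x⟯)
  have hf1 : IsFinite (Spec.map f) := by
    rw [IsFinite.SpecMap_iff]
    exact RingHom.finite_algebraMap.mpr inferInstance
  have hf2 : Etale (Spec.map f) := by
    rw [HasRingHomProperty.Spec_iff (P := @Etale)]
    exact RingHom.etale_algebraMap.mpr het
  let Y : FEt.Cat (Spec (CommRingCat.of K)) := MorphismProperty.Over.mk ⊤ (Spec.map f) ⟨hf1, hf2⟩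
  let s : FEt.fiberObj (xi K) Y :=
    ⟨Spec.map (CommRingCat.ofHom (algebraMap K⟮x⟯ (AlgebraicClosure K))), by
      change Spec.map _ ≫ Spec.map f = _
      rw [← Spec.map_comp]
      rfl⟩
  have h1 : act σ ≫ s.1 = s.1 := congrArg Subtype.val (h Y s)
  change act σ ≫ Spec.map _ = Spec.map _ at h1
  rw [act, ← Spec.map_comp] at h1
  have h2 := Spec.map_injective h1
  exact congrArg (fun g : CommRingCat.of K⟮x⟯ ⟶ CommRingCat.of (AlgebraicClosure K) =>
    g.hom ⟨x, mem_adjoin_simple_self K x⟩) h2


/-- a scheme finite over a field is discrete. -/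
lemma discreteTopology_of_isFinite {Y : Scheme.{u}} (f : Y ⟶ Spec (CommRingCat.of K)) [IsFinite f] :
    DiscreteTopology Y := by
  have : IsAffine Y := isAffine_of_isAffineHom f
  have hfin : f.appTop.hom.Finite := Scheme.Hom.finite_appTop f
  have hfin' : ((Scheme.ΓSpecIso (CommRingCat.of K)).inv ≫ f.appTop).hom.Finite := by
    rw [CommRingCat.hom_comp]
    refine RingHom.Finite.comp hfin (RingHom.Finite.of_surjective _ ?_)
    exact (ConcreteCategory.bijective_of_isIso (Scheme.ΓSpecIso (CommRingCat.of K)).inv).2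
  algebraize [((Scheme.ΓSpecIso (CommRingCat.of K)).inv ≫ f.appTop).hom]
  have : IsArtinianRing Γ(Y, ⊤) := IsArtinianRing.of_finite K Γ(Y, ⊤)
  have : DiscreteTopology (Spec Γ(Y, ⊤)) :=
    inferInstanceAs (DiscreteTopology (PrimeSpectrum Γ(Y, ⊤)))
  exact (Scheme.homeoOfIso Y.isoSpec).isEmbedding.discreteTopology

instance : GaloisCategory (FEt.Cat (Spec (CommRingCat.of K))) := galoisCategory (xi K)

variable (K) in
/-- `F₂` lifts `FEt.fiber`. -/
noncomputable def F₂InclIso : F₂ K ⋙ FintypeCat.incl ≅ FEt.fiber (xi K) :=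
  ObjectProperty.liftCompιIso _ _ _

variable (K) in
/-- `F₂` is isomorphic to the fibre functor of `Seat2FEtGalois`. -/
noncomputable def F₂Iso : fiberFunctor (xi K) ≅ F₂ K :=
  ((Functor.FullyFaithful.ofFullyFaithful FintypeCat.incl).whiskeringRight _).preimageIso
    (fiberFunctorInclIso (xi K) ≪≫ (F₂InclIso K).symm)

noncomputable instance : FiberFunctor (F₂ K) := fiberFunctor_of_iso (F₂Iso K)

lemma exists_smul_eq_of_isConnected (Y : FEt.Cat (Spec (CommRingCat.of K))) [IsConnected Y]
    (s t : FEt.fiberObj (xi K) Y) : ∃ σ : Gal(AlgebraicClosure K / K), σ • s = t := by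
  have : IsFinite Y.hom := Y.prop.1
  have : Etale Y.hom := Y.prop.2
  have hdisc : DiscreteTopology Y.left := discreteTopology_of_isFinite Y.hom
  set y := s.1 (IsLocalRing.closedPoint (AlgebraicClosure K)) with hy
  let U : Y.left.Opens := ⟨{y}, isOpen_discrete _⟩
  have hU : IsClosedImmersion U.ι := by
    apply IsClosedImmersion.of_isPreimmersion
    exact isClosed_discrete _
  have hfet : FEt.prop (U.ι ≫ Y.hom) :=
    ⟨inferInstanceAs (IsFinite (U.ι ≫ Y.hom)), inferInstanceAs (Etale (U.ι ≫ Y.hom))⟩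
  let Z : FEt.Cat (Spec (CommRingCat.of K)) := MorphismProperty.Over.mk ⊤ (U.ι ≫ Y.hom) hfet
  let i : Z ⟶ Y := MorphismProperty.Over.homMk U.ι rfl trivial
  have hmono : Mono i := by
    apply (MorphismProperty.Over.forget FEt.prop ⊤ _ ⋙ Over.forget _).mono_of_mono_map
    change Mono U.ι
    infer_instance
  have hrange : Set.range s.1 ⊆ Set.range U.ι := by
    rw [Helper10.GaloisOrbit.range_eq_singleton, Scheme.Opens.range_ι]
    rfl
  have hne : IsInitial Z → False := by
    rw [not_initial_iff_fiber_nonempty (F₂ K) Z]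
    let s' : Spec (CommRingCat.of (AlgebraicClosure K)) ⟶ U.toScheme :=
      IsOpenImmersion.lift U.ι s.1 hrange
    have hs' : s' ≫ U.ι = s.1 := IsOpenImmersion.lift_fac U.ι s.1 hrange
    refine ⟨(⟨s', ?_⟩ : FEt.fiberObj (xi K) Z)⟩
    change s' ≫ U.ι ≫ Y.hom = _
    rw [reassoc_of% hs', s.2]
  have hiso : IsIso i := IsConnected.noTrivialComponent Z i hne
  have hiso' : IsIso U.ι :=
    inferInstanceAs (IsIso ((MorphismProperty.Over.forget FEt.prop ⊤ _ ⋙ Over.forget _).map i))
  have hall : ∀ y' : Y.left, y' = y := by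
    intro y'
    obtain ⟨u, rfl⟩ := U.ι.surjective y'
    exact u.2
  have hst : s.1 (IsLocalRing.closedPoint (AlgebraicClosure K)) =
      t.1 (IsLocalRing.closedPoint (AlgebraicClosure K)) := (hall _).trans (hall _).symm
  obtain ⟨σ, hσ⟩ := Helper10.GaloisOrbit.exists_algEquiv_of_eq K (AlgebraicClosure K) Y.hom s.1 t.1
    s.2 t.2 hst
  exact ⟨σ, Subtype.ext hσ.symm⟩


instance isFundamentalGroup : IsFundamentalGroup (F₂ K) Gal(AlgebraicClosure K / K) where
  transitive_of_isGalois Y _ := ⟨fun s t => exists_smul_eq_of_isConnected Y s t⟩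
  continuous_smul Y := by
    rw [continuousSMul_iff_stabilizer_isOpen]
    exact stabilizer_isOpen_fiberObj Y
  non_trivial' σ h := eq_one_of_forall_smul_eq σ h

variable (K)

/-- the absolute Galois group is the fundamental group of `Spec K`. -/
noncomputable def galMulEquivPiOne :
    Gal(AlgebraicClosure K / K) ≃* FEt.piOne (Spec (CommRingCat.of K)) (xi K) :=
  (toAutMulEquiv (F₂ K) Gal(AlgebraicClosure K / K)).trans <|
    (((Functor.FullyFaithful.ofFullyFaithful FintypeCat.incl).whiskeringRight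
      _).autMulEquivOfFullyFaithful (F₂ K)).trans (F₂InclIso K).conjAut

/-- the topological isomorphism with `Aut F₂`. -/
noncomputable def galContinuousMulEquiv : Gal(AlgebraicClosure K / K) ≃ₜ* Aut (F₂ K) where
  __ := toAutMulEquiv (F₂ K) Gal(AlgebraicClosure K / K)
  continuous_toFun := (toAutMulEquiv_isHomeomorph (F₂ K) Gal(AlgebraicClosure K / K)).continuous
  continuous_invFun :=
    ((toAutMulEquiv (F₂ K) Gal(AlgebraicClosure K / K)).toEquiv.continuous_symm_iff).mpr
      (toAutMulEquiv_isHomeomorph (F₂ K) Gal(AlgebraicClosure K / K)).isOpenMap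

open FintypeCatDiscrete in
/-- finite étale `K`-schemes are finite continuous Galois sets. -/
noncomputable def fetEquivContAction :
    FEt.Cat (Spec (CommRingCat.of K)) ≌ ContAction FintypeCat.{u} Gal(AlgebraicClosure K / K) :=
  (functorToContAction (F₂ K)).asEquivalence.trans
    (ContAction.resEquiv FintypeCat (galContinuousMulEquiv K))

end Groth.Agent.Lib.Seat2.FEtField
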