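import Mathlib
import Groth.Agent.Lib.Helper18FinFlat1

/-!
# A finite flat finitely presented morphism is finite free over small affine opens (seat 2)
-/

set_option autoImplicit false
universe u

namespace Groth.Agent.Lib.Seat2.FreeCover

open CategoryTheory AlgebraicGeometry TensorProduct

/-- the ring map makes the target a finite free module. -/
def QFF {R T : Type u} [CommRing R] [CommRing T] (φ : R →+* T) : Prop :=
  φ.Finite ∧ (letI := φ.toAlgebra; Module.Free R T)

theorem qff_respectsIso : RingHom.RespectsIso @QFF.{u} := by
  constructor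
  · intro R S T _ _ _ f e h
    refine ⟨RingHom.finite_respectsIso.1 f e h.1, ?_⟩
    letI := f.toAlgebra
    letI := (e.toRingHom.comp f).toAlgebra
    haveI : Module.Free R S := h.2
    let l : S ≃ₗ[R] T :=
      { e.toAddEquiv with
        map_smul' := fun r s => by
          show e (f r * s) = e (f r) * e s
          exact map_mul e _ _ }
    exact Module.Free.of_equiv l
  · intro R S T _ _ _ f e h
    refine ⟨RingHom.finite_respectsIso.2 f e h.1, ?_⟩
    letI := f.toAlgebra
    letI := (f.comp e.toRingHom).toAlgebra
    haveI : Module.Free S T := h.2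
    haveI : RingHomInvPair (e.symm : S →+* R) (e : R →+* S) := RingHomInvPair.of_ringEquiv e.symm
    haveI : RingHomInvPair (e : R →+* S) (e.symm : S →+* R) := RingHomInvPair.of_ringEquiv e
    let l : T ≃ₛₗ[(e.symm : S →+* R)] T :=
      { AddEquiv.refl T with
        map_smul' := fun s t => by
          show f s * t = f (e (e.symm s)) * t
          rw [e.apply_symm_apply] }
    exact Module.Free.of_equiv l

section Algebra

variable {R C : Type u} [CommRing R] [CommRing C] [Algebra R C] [Module.Finite R C] (r : R)
  (R' C' : Type u) [CommRing R'] [CommRing C'] [Algebra R R'] [Algebra C C']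
  [IsLocalization.Away r R'] [IsLocalization.Away (algebraMap R C r) C']

/-- freeness of the localized module does not depend on the models of the localizations. -/
theorem qff_away_map
    (hfree : Module.Free (Localization (Submonoid.powers r)) (LocalizedModule.Away r C)) :
    QFF (IsLocalization.Away.map R' C' (algebraMap R C) r) := by
  letI algR'C' : Algebra R' C' := (IsLocalization.Away.map R' C' (algebraMap R C) r).toAlgebra
  letI algRC' : Algebra R C' := ((algebraMap C C').comp (algebraMap R C)).toAlgebra
  haveI : IsScalarTower R C C' := IsScalarTower.of_algebraMap_eq' rfl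
  haveI : IsScalarTower R R' C' := IsScalarTower.of_algebraMap_eq' (by
    ext x
    show algebraMap C C' (algebraMap R C x) =
      IsLocalization.Away.map R' C' (algebraMap R C) r (algebraMap R R' x)
    rw [IsLocalization.Away.map, IsLocalization.map_eq])
  let ℓ : C →ₗ[R] C' := (IsScalarTower.toAlgHom R C C').toLinearMap
  haveI : IsLocalizedModule (Submonoid.powers r) ℓ := by
    rw [isLocalizedModule_iff_isLocalization, Algebra.algebraMapSubmonoid_powers]
    infer_instance
  have hb2 : IsBaseChange R' ℓ := IsLocalizedModule.isBaseChange (Submonoid.powers r) R' ℓ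
  have hb1 := LocalizedModule.isBaseChange (Submonoid.powers r) C
  haveI : Module.Free (Localization (Submonoid.powers r))
      (Localization (Submonoid.powers r) ⊗[R] C) := Module.Free.of_equiv hb1.equiv.symm
  letI : Algebra (Localization (Submonoid.powers r)) R' :=
    (IsLocalization.algEquiv (Submonoid.powers r) (Localization (Submonoid.powers r))
      R').toAlgHom.toRingHom.toAlgebra
  haveI : IsScalarTower R (Localization (Submonoid.powers r)) R' :=
    IsScalarTower.of_algebraMap_eq (fun x =>
      ((IsLocalization.algEquiv (Submonoid.powers r) (Localization (Submonoid.powers r))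
        R').commutes x).symm)
  have e3 := TensorProduct.AlgebraTensorModule.cancelBaseChange R
    (Localization (Submonoid.powers r)) R' R' C
  haveI : Module.Free R' (R' ⊗[R] C) := Module.Free.of_equiv e3
  refine ⟨?_, Module.Free.of_equiv hb2.equiv⟩
  show Module.Finite R' C'
  exact Module.Finite.equiv hb2.equiv

end Algebra

section Scheme

open Groth.Agent.Helper18FinFlat Groth.Agent.Lib.Helper23.QCohLocal Groth.Agent.Helper18FittSh

variable {Z S : Scheme.{u}} (g : Z ⟶ S)

/-- a finite locally free morphism is finite free over small affine opens of the base. -/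
theorem exists_free_nhd (hg : Mor2.IsFinLocFree g) (s : S) :
    ∃ U : S.Opens, IsAffineOpen U ∧ s ∈ U ∧ QFF ((g ∣_ U).appTop).hom := by
  haveI := hg.1
  haveI : ((Scheme.Modules.pushforward g).obj (Coh.structureModule Z)).IsQuasicoherent :=
    isQuasicoherent_pushforward g _
  obtain ⟨U, n, hsU, ⟨e⟩⟩ := pushforward_isFinLocFree g hg s
  obtain ⟨W, hW, hsW, ⟨b⟩⟩ := exists_affine_basis_of_restrict_iso_freeMod _ U.ι e ⟨s, hsU⟩
  refine ⟨W, hW, hsW, (appTop_restrict_iff g qff_respectsIso W).2 ?_⟩
  letI : Algebra Γ(S, W) Γ(Z, g ⁻¹ᵁ W) := (g.app W).hom.toAlgebra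
  let b' : Module.Basis (Fin n) Γ(S, W) Γ(Z, g ⁻¹ᵁ W) := b.map (pushEquiv g W)
  exact ⟨Module.Finite.of_basis b', Module.Free.of_basis b'⟩

end Scheme

end Groth.Agent.Lib.Seat2.FreeCover
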