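import Mathlib
import Groth.Prelude.Def_FEt
import Groth.Prelude.Def_Frob
import Groth.Agent.Lib.Helper11PerfEt
import Groth.Agent.Lib.Seat2FEtMono

/-!
# Frobenius descent of finite étale covers (seat 2)

* `frobIter X p n`: the `n`-fold absolute Frobenius of a scheme of characteristic `p`.
* `restrictFrobIterIso`: `(F^n)^* V ≅ V` for a finite étale cover `V`.
* `exists_restrict_iso_of_retract`: if `π ≫ ρ = F^n` then every finite étale cover of the source
  of `π` is a pullback along `π`.
* `exists_restrict_iso_of_pow`: the case of a pullback square over `Spec S ⟶ Spec R` where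
  `R → S` admits `ψ : S → R` with `ψ ∘ i = (·)^(p^n)`, `i ∘ ψ = (·)^(p^n)`.
* `exists_clopen_of_comp`: for `π_s : Y ⟶ X` finite étale and `W` finite étale over `Y`,
  `c^* W ⟶ (c ≫ π_s)^* (W → Y → X)` is an open and closed immersion.
-/

set_option autoImplicit false
universe u

namespace Groth.Agent.Lib.Seat2.FrobDescent

open CategoryTheory Limits AlgebraicGeometry FrobSch

section Iter

variable (p : ℕ) [Fact p.Prime]

/-- the `n`-fold absolute Frobenius. -/
noncomputable def frobIter (X : Scheme.{u}) [IsCharP X p] : ℕ → (X ⟶ X)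
  | 0 => 𝟙 X
  | n + 1 => frobIter X n ≫ frob X p

@[simp] lemma frobIter_zero (X : Scheme.{u}) [IsCharP X p] : frobIter p X 0 = 𝟙 X := rfl

lemma frobIter_succ (X : Scheme.{u}) [IsCharP X p] (n : ℕ) :
    frobIter p X (n + 1) = frobIter p X n ≫ frob X p := rfl

@[reassoc]
lemma frobIter_comp {X Y : Scheme.{u}} [IsCharP X p] [IsCharP Y p] (f : X ⟶ Y) (n : ℕ) :
    frobIter p X n ≫ f = f ≫ frobIter p Y n := by
  induction n with
  | zero => simp
  | succ n ih =>
    rw [frobIter_succ, frobIter_succ, Category.assoc, frob_comp, reassoc_of% ih]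

lemma frobIter_Spec (R : Type u) [CommRing R] [CharP R p] [ExpChar R p] (n : ℕ) :
    frobIter p (Spec (CommRingCat.of R)) n =
      Spec.map (CommRingCat.ofHom (iterateFrobenius R p n)) := by
  induction n with
  | zero =>
    rw [frobIter_zero]
    have : iterateFrobenius R p 0 = RingHom.id R := by
      ext x; simp [iterateFrobenius_def]
    rw [this]
    exact (Spec.map_id _).symm
  | succ n ih =>
    rw [frobIter_succ, ih,
      Groth.Agent.Lib.Helper20.Perfection.frob_Spec p (CommRingCat.of R) (CharP.cast_eq_zero R p),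
      ← Spec.map_comp, ← CommRingCat.ofHom_comp]
    congr 2
    ext x
    simp only [CommRingCat.hom_ofHom, RingHom.comp_apply, powHom_apply, iterateFrobenius_def]
    rw [← pow_mul, pow_succ, mul_comm]

end Iter

section Restrict

variable (p : ℕ) [Fact p.Prime]

/-- `F^* V ≅ V` for a finite étale cover `V` of a scheme of characteristic `p`. -/
noncomputable def restrictFrobIso {Y : Scheme.{u}} [IsCharP Y p] (V : FEt.Cat Y) :
    (FEt.restrict (frob Y p)).obj V ≅ V := by
  let g : V.left ⟶ Y := V.hom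
  have : Etale g := V.prop.2
  have := Groth.Agent.Lib.Helper11PerfEt.isIso_relFrob_of_etale p g
  let e : V.left ≅ pullback g (frob Y p) := asIso (relFrob g p)
  exact (MorphismProperty.Over.isoMk e (relFrob_snd g p)).symm

/-- `id^* V ≅ V`. -/
noncomputable def restrictIdIso {Y : Scheme.{u}} (V : FEt.Cat Y) :
    (FEt.restrict (𝟙 Y)).obj V ≅ V :=
  let g : V.left ⟶ Y := V.hom
  let e : pullback g (𝟙 Y) ≅ V.left := asIso (pullback.fst g (𝟙 Y))
  MorphismProperty.Over.isoMk e (by
    change pullback.fst g (𝟙 Y) ≫ g = pullback.snd g (𝟙 Y)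
    rw [pullback.condition, Category.comp_id])

/-- `(f ≫ g)^* V ≅ f^* g^* V`. -/
noncomputable def restrictCompIso {X Y Z : Scheme.{u}} (f : X ⟶ Y) (g : Y ⟶ Z) (fg : X ⟶ Z)
    (h : fg = f ≫ g) (V : FEt.Cat Z) :
    (FEt.restrict fg).obj V ≅ (FEt.restrict f).obj ((FEt.restrict g).obj V) :=
  (MorphismProperty.Over.pullbackComp (P := FEt.prop) (Q := ⊤) f g fg h).app V

/-- `(F^n)^* V ≅ V`. -/
noncomputable def restrictFrobIterIso {Y : Scheme.{u}} [IsCharP Y p] (V : FEt.Cat Y) :
    (n : ℕ) → ((FEt.restrict (frobIter p Y n)).obj V ≅ V)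
  | 0 => restrictIdIso V
  | n + 1 => restrictCompIso (frobIter p Y n) (frob Y p) _ rfl V ≪≫
      (FEt.restrict (frobIter p Y n)).mapIso (restrictFrobIso p V) ≪≫ restrictFrobIterIso V n

/-- if `π ≫ ρ` is a power of the absolute Frobenius, every finite étale cover of the source of
`π` is pulled back along `π`. -/
theorem exists_restrict_iso_of_retract {Y Y' : Scheme.{u}} [IsCharP Y' p] (π : Y' ⟶ Y)
    (ρ : Y ⟶ Y') (n : ℕ) (h : π ≫ ρ = frobIter p Y' n) (V : FEt.Cat Y') :
    ∃ W : FEt.Cat Y, Nonempty ((FEt.restrict π).obj W ≅ V) :=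
  ⟨(FEt.restrict ρ).obj V,
    ⟨(restrictCompIso π ρ _ h.symm V).symm ≪≫ restrictFrobIterIso p V n⟩⟩

/-- Frobenius descent along a base change of `Spec S ⟶ Spec R`, where `i : R → S` has a
"Frobenius inverse" `ψ : S → R`. -/
theorem exists_restrict_iso_of_pow {R S : Type u} [CommRing R] [CommRing S] [CharP R p]
    [CharP S p] (i : R →+* S) (ψ : S →+* R) (n : ℕ) (h1 : ∀ r, ψ (i r) = r ^ p ^ n)
    (h2 : ∀ s, i (ψ s) = s ^ p ^ n) {X X' : Scheme.{u}} (f : X ⟶ Spec (CommRingCat.of R))
    (π : X' ⟶ X) (g' : X' ⟶ Spec (CommRingCat.of S))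
    (hpb : IsPullback π g' f (Spec.map (CommRingCat.ofHom i))) (V : FEt.Cat X') :
    ∃ W : FEt.Cat X, Nonempty ((FEt.restrict π).obj W ≅ V) := by
  haveI : ExpChar R p := ExpChar.prime Fact.out
  haveI : ExpChar S p := ExpChar.prime Fact.out
  haveI : IsCharP X p := IsCharP.of_hom f p
  haveI : IsCharP X' p := IsCharP.of_hom g' p
  have e1 : CommRingCat.ofHom i ≫ CommRingCat.ofHom ψ =
      CommRingCat.ofHom (iterateFrobenius R p n) := by
    ext r
    simp [iterateFrobenius_def, h1]
  have e2 : CommRingCat.ofHom ψ ≫ CommRingCat.ofHom i =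
      CommRingCat.ofHom (iterateFrobenius S p n) := by
    ext s
    simp [iterateFrobenius_def, h2]
  let ρ : X ⟶ X' := hpb.lift (frobIter p X n) (f ≫ Spec.map (CommRingCat.ofHom ψ)) (by
    rw [frobIter_comp, frobIter_Spec, Category.assoc, ← Spec.map_comp, e1])
  refine exists_restrict_iso_of_retract p π ρ n ?_ V
  apply hpb.hom_ext
  · rw [Category.assoc, hpb.lift_fst, frobIter_comp]
  · rw [Category.assoc, hpb.lift_snd, frobIter_comp, frobIter_Spec, hpb.w_assoc, ← Spec.map_comp,
      e2]

end Restrict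

section Clopen

/-- For `πs : Y ⟶ X` finite étale, `W` finite étale over `Y` and `c : Z ⟶ Y`, the canonical map
`c^* W ⟶ (c ≫ πs)^* (W → Y → X)` is an open and closed immersion. -/
theorem exists_clopen_of_comp {X Y Z : Scheme.{u}} (πs : Y ⟶ X) (hπs : FEt.prop πs) (c : Z ⟶ Y)
    (q : Z ⟶ X) (hq : c ≫ πs = q) (W : FEt.Cat Y) :
    ∃ (U : FEt.Cat X) (ι : (FEt.restrict c).obj W ⟶ (FEt.restrict q).obj U),
      IsOpenImmersion ι.left ∧ IsClosedImmersion ι.left := by
  subst hq
  let U : FEt.Cat X := MorphismProperty.Over.mk ⊤ (W.hom ≫ πs)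
    (FEt.prop.comp_mem _ _ W.prop hπs)
  let ιl : pullback W.hom c ⟶ pullback (W.hom ≫ πs) (c ≫ πs) :=
    pullback.lift (pullback.fst _ _) (pullback.snd _ _) (by
      rw [← Category.assoc, pullback.condition, Category.assoc])
  let ι : (FEt.restrict c).obj W ⟶ (FEt.restrict (c ≫ πs)).obj U :=
    MorphismProperty.Over.homMk ιl (pullback.lift_snd _ _ _) trivial
  have hm : Mono ιl := by
    constructor
    intro T a b hab
    apply pullback.hom_ext
    · have := congr($hab ≫ pullback.fst _ _)
      simpa only [Category.assoc, ιl, pullback.lift_fst] using this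
    · have := congr($hab ≫ pullback.snd _ _)
      simpa only [Category.assoc, ιl, pullback.lift_snd] using this
  have hfet : FEt.prop ι.left := Groth.Agent.Lib.Seat2.FEtMono.fet_left ι
  have hfin : IsFinite ι.left := hfet.1
  have het : Etale ι.left := hfet.2
  have hm' : Mono ι.left := hm
  refine ⟨U, ι, IsOpenImmersion.of_flat_of_mono ι.left,
    (IsClosedImmersion.iff_isFinite_and_mono ι.left).mpr ⟨hfin, hm'⟩⟩

end Clopen

end Groth.Agent.Lib.Seat2.FrobDescent
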