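import Mathlib
import Groth.Prelude.Def_MoreMor
import Groth.Prelude.Def_FEt
import Groth.Agent.Lib.Seat2FibreCard
import Groth.Agent.Lib.Helper2GeomPts

/-!
# Counting the points of geometric fibres of étale morphisms (helper2)
-/

set_option autoImplicit false

namespace Groth.Agent.Lib.Seat2.GeomCount

open CategoryTheory Limits AlgebraicGeometry Groth.Agent.Lib.Seat2.FEtSpec
  Groth.Agent.Lib.Seat2.FEtFiber Groth.Agent.Lib.Helper26.FEtAffine

universe u

variable {X Y : Scheme.{u}}

/-- the geometric point over `y` with values in the separable closure of the residue field. -/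
noncomputable abbrev geomPt (Y : Scheme.{u}) (y : Y) :
    Spec (CommRingCat.of (SeparableClosure (Y.residueField y))) ⟶ Y :=
  Spec.map (CommRingCat.ofHom
    (algebraMap (Y.residueField y) (SeparableClosure (Y.residueField y)))) ≫
    Y.fromSpecResidueField y

theorem geomPt_apply (Y : Scheme.{u}) (y : Y)
    (t : ↥(Spec (CommRingCat.of (SeparableClosure (Y.residueField y))))) : geomPt Y y t = y := by
  rw [Scheme.Hom.comp_apply, Scheme.fromSpecResidueField_apply]

/-- the geometric fibre as the pullback along the geometric point. -/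
noncomputable def geomFiberIso (f : X ⟶ Y) (y : Y) :
    MoreMor.geomFiber f y ≅ pullback f (geomPt Y y) :=
  pullbackLeftPullbackSndIso f (Y.fromSpecResidueField y) _

/-- for a locally quasi-finite morphism, the geometric fibre is discrete, so its number of connected
components is its number of points. -/
theorem card_geomFiber_eq_nGeomConnComp (f : X ⟶ Y) [LocallyQuasiFinite f] (y : Y) :
    ENat.card ↥(MoreMor.geomFiber f y) = MoreMor.nGeomConnComp f y := by
  have hq1 : LocallyQuasiFinite (f.fiberToSpecResidueField y) := by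
    unfold Scheme.Hom.fiberToSpecResidueField
    exact MorphismProperty.pullback_snd (P := @LocallyQuasiFinite) f _ inferInstance
  let Ωs := SeparableClosure (Y.residueField y)
  let p : MoreMor.geomFiber f y ⟶ Spec (CommRingCat.of Ωs) := pullback.snd _ _
  have hq2 : LocallyQuasiFinite p :=
    MorphismProperty.pullback_snd (P := @LocallyQuasiFinite) _ _ hq1
  have hsub : Subsingleton ↥(Spec (CommRingCat.of Ωs)) :=
    inferInstanceAs (Subsingleton (PrimeSpectrum Ωs))
  have hne : Nonempty ↥(Spec (CommRingCat.of Ωs)) :=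
    inferInstanceAs (Nonempty (PrimeSpectrum Ωs))
  obtain ⟨pt⟩ := hne
  have hdisc := p.isDiscrete_preimage_singleton pt
  have hu : p ⁻¹' {pt} = Set.univ := by
    ext z
    simp only [Set.mem_preimage, Set.mem_singleton_iff, Set.mem_univ, iff_true]
    exact Subsingleton.elim _ _
  rw [hu, isDiscrete_univ_iff] at hdisc
  unfold MoreMor.nGeomConnComp
  rw [Groth.Agent.Lib.Helper2.Weight.card_cc_of_discrete']

/-- a finite étale scheme over a separably closed field has as many points as its degree. -/
theorem card_pullback_eq_finrank (g : X ⟶ Y) [IsFinite g] [Etale g] {Ω : Type u} [Field Ω]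
    [IsSepClosed Ω] (ξ : Spec (CommRingCat.of Ω) ⟶ Y) :
    ENat.card ↥(pullback g ξ) = (Scheme.Hom.finrank g (ξ (IsLocalRing.closedPoint Ω)) : ℕ∞) := by
  let Y' : FEt.Cat Y := MorphismProperty.Over.mk ⊤ g ⟨‹IsFinite g›, ‹Etale g›⟩
  let Z := (FEt.restrict ξ).obj Y'
  obtain ⟨B, _, _, _, _, ⟨e⟩⟩ := exists_iso_std Ω Z
  have : Algebra.IsFiniteSplit Ω B := inferInstance
  have h1 : Scheme.Hom.finrank g (ξ (IsLocalRing.closedPoint Ω)) =
      Scheme.Hom.finrank (pullback.snd g ξ) (IsLocalRing.closedPoint Ω) :=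
    (Scheme.Hom.finrank_pullback_snd g ξ _).symm
  let l : pullback g ξ ⟶ Spec (CommRingCat.of B) := e.hom.left
  let q : Spec (CommRingCat.of B) ⟶ Spec (CommRingCat.of Ω) :=
    Spec.map (CommRingCat.ofHom (algebraMap Ω B))
  have hw : l ≫ q = pullback.snd g ξ := MorphismProperty.Over.w e.hom
  have hiso : IsIso l :=
    inferInstanceAs (IsIso ((MorphismProperty.Over.forget FEt.prop ⊤ _ ⋙ Over.forget _).map e.hom))
  have hfl : Flat q := by
    rw [HasRingHomProperty.Spec_iff (P := @Flat)]
    exact RingHom.flat_algebraMap_iff.mpr inferInstance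
  have hfi : IsFinite q := by
    rw [IsFinite.SpecMap_iff]
    exact RingHom.finite_algebraMap.mpr inferInstance
  have h2 : Scheme.Hom.finrank (pullback.snd g ξ) (IsLocalRing.closedPoint Ω) =
      Module.finrank Ω B := by
    rw [← hw, Scheme.Hom.finrank_comp_left_of_isIso l q]
    change Scheme.Hom.finrank (Spec.map (CommRingCat.ofHom (algebraMap Ω B))) _ = _
    rw [Scheme.Hom.finrank_SpecMap_algebraMap, Module.rankAtStalk_eq_finrank_of_free]
    rfl
  -- the points
  obtain ⟨m, ⟨ε⟩⟩ := Algebra.IsFiniteSplit.nonempty_algEquiv_fun Ω B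
  have hfin : Finite (PrimeSpectrum B) := by
    have e1 := (PrimeSpectrum.comapEquiv ε.toRingEquiv).toEquiv
    have e2 := Equiv.ofBijective _ (PrimeSpectrum.sigmaToPi_bijective (fun _ : Fin m => Ω))
    haveI : Finite (PrimeSpectrum (Fin m → Ω)) := Finite.of_equiv _ e2
    exact Finite.of_equiv _ e1.symm
  have h3 : ENat.card ↥(pullback g ξ) = ENat.card (PrimeSpectrum B) :=
    ENat.card_congr (asIso l).hom.homeomorph.toEquiv
  rw [h3, ENat.card_eq_coe_natCard, h1, h2,
    ← Groth.Agent.Lib.Seat2.FibreCard.card_algHom_eq_finrank Ω B,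
    Nat.card_congr (Algebra.IsFiniteSplit.algHomEquivPrimeSpectrum Ω B)]

/-- restriction of a base change to an open containing the image. -/
noncomputable def pullbackRestrictIso (f : X ⟶ Y) (U : Y.Opens) {T : Scheme.{u}} (ξ : T ⟶ Y)
    (h : Set.range ξ ⊆ Set.range U.ι) :
    pullback (f ∣_ U) (IsOpenImmersion.lift U.ι ξ h) ≅ pullback f ξ := by
  have h1 : IsPullback (f ⁻¹ᵁ U).ι (f ∣_ U) f U.ι := (isPullback_morphismRestrict f U).flip
  have h2 := IsPullback.of_hasPullback (f ∣_ U) (IsOpenImmersion.lift U.ι ξ h)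
  have h3 := h2.paste_horiz h1
  rw [IsOpenImmersion.lift_fac] at h3
  exact h3.isoPullback

/-- the number of points of the geometric fibres over an open where `f` is finite étale is the
rank. -/
theorem card_geomFiber_eq_finrank (f : X ⟶ Y) (U : Y.Opens) [IsFinite (f ∣_ U)] [Etale (f ∣_ U)]
    (y : Y) (hy : y ∈ U) :
    ENat.card ↥(MoreMor.geomFiber f y) = (Scheme.Hom.finrank (f ∣_ U) ⟨y, hy⟩ : ℕ∞) := by
  have h : Set.range (geomPt Y y) ⊆ Set.range U.ι := by
    rintro _ ⟨t, rfl⟩
    rw [geomPt_apply, Scheme.Opens.range_ι]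
    exact hy
  rw [ENat.card_congr (geomFiberIso f y).hom.homeomorph.toEquiv,
    ← ENat.card_congr (pullbackRestrictIso f U (geomPt Y y) h).hom.homeomorph.toEquiv,
    card_pullback_eq_finrank]
  congr 2
  apply U.ι.isOpenEmbedding.injective
  rw [← Scheme.Hom.comp_apply, IsOpenImmersion.lift_fac, geomPt_apply]
  rfl

end Groth.Agent.Lib.Seat2.GeomCount
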