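import Mathlib

/-!
# The object of group homomorphisms as an equalizer of internal Hom objects (helper2)

In a cartesian monoidal category, let `(H, ev)` be an internal Hom object `Hom(G, G')` and
`(H2, ev2)` an internal Hom object `Hom(G ⊗ G, G')`.  There are two maps `α₁ α₂ : H ⟶ H2` such that
a point `v` of `H` gives a multiplicative family iff `v ≫ α₁ = v ≫ α₂`; hence an equalizer of
`α₁, α₂` represents the multiplicative families.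
-/

set_option autoImplicit false

namespace Groth.Agent.Lib.Seat2.HomGrpAbs

open CategoryTheory MonoidalCategory CartesianMonoidalCategory MonObj GrpObj

universe v u

variable {C : Type u} [Category.{v} C] [CartesianMonoidalCategory C] (G G' : C) [GrpObj G]
  [GrpObj G']

/-- `φ : G ⊗ T ⟶ G'` is multiplicative in the `G`-variable on points. -/
def IsMulFam {T : C} (φ : G ⊗ T ⟶ G') : Prop :=
  ∀ (X : C) (a b : X ⟶ G) (t : X ⟶ T), lift (a * b) t ≫ φ = (lift a t ≫ φ) * (lift b t ≫ φ)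

/-- `(H, ev)` is an internal Hom object `Hom(A, G')`. -/
def IsIHom (A : C) {H : C} (ev : A ⊗ H ⟶ G') : Prop :=
  ∀ (T : C) (φ : A ⊗ T ⟶ G'), ∃! v : T ⟶ H, (A ◁ v) ≫ ev = φ

variable {G G'}

section

variable (T : C)

/-- first projection of `(G ⊗ G) ⊗ T`. -/
abbrev p1 : (G ⊗ G) ⊗ T ⟶ G := fst (G ⊗ G) T ≫ fst G G
/-- second projection of `(G ⊗ G) ⊗ T`. -/
abbrev p2 : (G ⊗ G) ⊗ T ⟶ G := fst (G ⊗ G) T ≫ snd G G
/-- third projection of `(G ⊗ G) ⊗ T`. -/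
abbrev p3 : (G ⊗ G) ⊗ T ⟶ T := snd (G ⊗ G) T

variable {T}

/-- `(g₁, g₂, t) ↦ φ(g₁ g₂, t)`. -/
def m1 (φ : G ⊗ T ⟶ G') : (G ⊗ G) ⊗ T ⟶ G' := lift (p1 T * p2 T) (p3 T) ≫ φ
/-- `(g₁, g₂, t) ↦ φ(g₁, t) φ(g₂, t)`. -/
def m2 (φ : G ⊗ T ⟶ G') : (G ⊗ G) ⊗ T ⟶ G' := (lift (p1 T) (p3 T) ≫ φ) * (lift (p2 T) (p3 T) ≫ φ)

lemma isMulFam_iff (φ : G ⊗ T ⟶ G') : IsMulFam G G' φ ↔ m1 φ = m2 φ := by
  constructor
  · intro h
    exact h _ (p1 T) (p2 T) (p3 T)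
  · intro h X a b t
    have h1 := congrArg (fun m => lift (lift a b) t ≫ m) h
    simp only [m1, m2, MonObj.comp_mul, ← Category.assoc, comp_lift, lift_fst, lift_snd] at h1
    simpa [p1, p2, p3, ← Category.assoc, lift_fst, lift_snd] using h1

lemma whisker_m1 {T' : C} (v : T' ⟶ T) (φ : G ⊗ T ⟶ G') :
    ((G ⊗ G) ◁ v) ≫ m1 φ = m1 ((G ◁ v) ≫ φ) := by
  simp only [m1, ← Category.assoc, comp_lift, MonObj.comp_mul, whiskerLeft_fst, whiskerLeft_snd,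
    lift_whiskerLeft]

lemma whisker_m2 {T' : C} (v : T' ⟶ T) (φ : G ⊗ T ⟶ G') :
    ((G ⊗ G) ◁ v) ≫ m2 φ = m2 ((G ◁ v) ≫ φ) := by
  simp only [m2, ← Category.assoc, comp_lift, MonObj.comp_mul, whiskerLeft_fst, whiskerLeft_snd,
    lift_whiskerLeft]

end

variable {H H2 : C} {ev : G ⊗ H ⟶ G'} {ev2 : (G ⊗ G) ⊗ H2 ⟶ G'}

/-- the two maps `Hom(G, G') ⟶ Hom(G ⊗ G, G')` whose equalizer is the object of homomorphisms. -/
theorem exists_maps (h2 : IsIHom G' (G ⊗ G) ev2) :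
    ∃ α₁ α₂ : H ⟶ H2, ∀ (T : C) (v : T ⟶ H),
      IsMulFam G G' ((G ◁ v) ≫ ev) ↔ v ≫ α₁ = v ≫ α₂ := by
  obtain ⟨α₁, hα₁, -⟩ := h2 H (m1 ev)
  obtain ⟨α₂, hα₂, -⟩ := h2 H (m2 ev)
  refine ⟨α₁, α₂, fun T v => ?_⟩
  rw [isMulFam_iff, ← whisker_m1, ← whisker_m2, ← hα₁, ← hα₂]
  simp only [← Category.assoc, ← MonoidalCategory.whiskerLeft_comp]
  constructor
  · intro h
    obtain ⟨w, -, hw⟩ := h2 T (((G ⊗ G) ◁ (v ≫ α₁)) ≫ ev2)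
    exact (hw _ rfl).trans (hw _ h.symm).symm
  · intro h
    rw [h]

/-- an equalizer of the two maps represents the multiplicative families. -/
theorem isHomObject_of_fork (h1 : IsIHom G' G ev) (α₁ α₂ : H ⟶ H2)
    (hα : ∀ (T : C) (v : T ⟶ H), IsMulFam G G' ((G ◁ v) ≫ ev) ↔ v ≫ α₁ = v ≫ α₂)
    {M : C} (j : M ⟶ H) (hj : j ≫ α₁ = j ≫ α₂) [Mono j]
    (hlift : ∀ (T : C) (v : T ⟶ H), v ≫ α₁ = v ≫ α₂ → ∃ w : T ⟶ M, w ≫ j = v) :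
    IsMulFam G G' ((G ◁ j) ≫ ev) ∧ ∀ (T : C) (φ : G ⊗ T ⟶ G'), IsMulFam G G' φ →
      ∃! w : T ⟶ M, (G ◁ w) ≫ (G ◁ j) ≫ ev = φ := by
  refine ⟨(hα M j).2 hj, fun T φ hφ => ?_⟩
  obtain ⟨v, hv, hvu⟩ := h1 T φ
  simp only at hv hvu
  have hv' : v ≫ α₁ = v ≫ α₂ := (hα T v).1 (by rw [hv]; exact hφ)
  obtain ⟨w, hw⟩ := hlift T v hv'
  refine ⟨w, ?_, ?_⟩
  · change (G ◁ w) ≫ (G ◁ j) ≫ ev = φ
    rw [← Category.assoc, ← MonoidalCategory.whiskerLeft_comp, hw, hv]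
  · intro w' hw'
    change (G ◁ w') ≫ (G ◁ j) ≫ ev = φ at hw'
    rw [← Category.assoc, ← MonoidalCategory.whiskerLeft_comp] at hw'
    have := hvu _ hw'
    rw [← cancel_mono j, hw, this]

end Groth.Agent.Lib.Seat2.HomGrpAbs
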