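import Mathlib

/-!
# Weil restriction, ring level (helper2)

For a commutative ring `B`, a `B`-algebra `A` and a `B`-algebra `C` which is free with a finite basis
`e`, we construct a `B`-algebra `R` and a `B`-algebra map `u : A → R ⊗[B] C` such that for every
`B`-algebra `D` the map `Hom_B(R, D) → Hom_B(A, D ⊗[B] C)`, `ψ ↦ (ψ ⊗ id) ∘ u`, is bijective.
-/

set_option autoImplicit false

namespace Groth.Agent.Lib.Seat2.WeilRing

open TensorProduct

universe u v

section Coord

variable {B C : Type*} [CommRing B] [CommRing C] [Algebra B C]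
  {ι : Type*} [Fintype ι] (e : Module.Basis ι B C)

/-- coordinates in `D ⊗ C` with respect to `1 ⊗ e j` are natural in `D`. -/
theorem repr_map {D D' : Type*} [CommRing D] [CommRing D'] [Algebra B D] [Algebra B D']
    (ψ : D →ₐ[B] D') (x : D ⊗[B] C) (j : ι) :
    (Algebra.TensorProduct.basis D' e).repr
      (Algebra.TensorProduct.map ψ (AlgHom.id B C) x) j =
      ψ ((Algebra.TensorProduct.basis D e).repr x j) := by
  induction x using TensorProduct.induction_on with
  | zero => simp
  | tmul d c =>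
    simp only [Algebra.TensorProduct.map_tmul, AlgHom.coe_id, id_eq,
      Algebra.TensorProduct.basis_repr_tmul, Finsupp.smul_apply, Finsupp.mapRange_apply,
      smul_eq_mul, map_mul, AlgHom.commutes]
  | add x y hx hy => simp only [map_add, Finsupp.add_apply, hx, hy]

/-- expansion of an element of `D ⊗ C` in the basis `1 ⊗ e j`. -/
theorem sum_repr_tmul {D : Type*} [CommRing D] [Algebra B D] (x : D ⊗[B] C) :
    ∑ j, ((Algebra.TensorProduct.basis D e).repr x j) ⊗ₜ[B] e j = x := by
  conv_rhs => rw [← (Algebra.TensorProduct.basis D e).sum_repr x]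
  refine Finset.sum_congr rfl fun j _ => ?_
  rw [Algebra.TensorProduct.basis_repr_symm_apply']

/-- the `j`-th coordinate of `∑ d_i ⊗ e_i` is `d_j`. -/
theorem repr_sum_tmul {D : Type*} [CommRing D] [Algebra B D] [DecidableEq ι] (d : ι → D) (j : ι) :
    (Algebra.TensorProduct.basis D e).repr (∑ i, d i ⊗ₜ[B] e i) j = d j := by
  rw [map_sum, Finsupp.coe_finset_sum, Finset.sum_apply]
  simp only [Algebra.TensorProduct.basis_repr_tmul, Module.Basis.repr_self, Finsupp.smul_apply,
    Finsupp.mapRange_apply, smul_eq_mul]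
  rw [Finset.sum_eq_single j]
  · simp
  · intro i _ hij
    simp [Finsupp.single_apply, hij]
  · intro h; exact absurd (Finset.mem_univ j) h

end Coord

section Construction

variable {B : Type u} {A : Type u} {C : Type u} [CommRing B] [CommRing A] [CommRing C]
  [Algebra B A] [Algebra B C] {ι : Type u} [Fintype ι] [DecidableEq ι] (e : Module.Basis ι B C)

variable (A) in
/-- the polynomial ring on the coordinates of the images of the elements of `A`. -/
abbrev Pol (_e : Module.Basis ι B C) : Type u := MvPolynomial (A × ι) B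

/-- the generic map on the free algebra. -/
noncomputable def Phi0 : MvPolynomial A B →ₐ[B] (Pol A e ⊗[B] C) :=
  MvPolynomial.aeval (fun a => ∑ j, (MvPolynomial.X (a, j) : Pol A e) ⊗ₜ[B] e j)

variable (B A) in
/-- the presentation of `A`. -/
noncomputable def piA : MvPolynomial A B →ₐ[B] A := MvPolynomial.aeval id

theorem piA_surjective : Function.Surjective (piA B A) := fun a => ⟨MvPolynomial.X a, by simp [piA]⟩

/-- the ideal of relations. -/
noncomputable def relIdeal : Ideal (Pol A e) :=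
  Ideal.span {p | ∃ h ∈ RingHom.ker (piA B A), ∃ j : ι,
    p = (Algebra.TensorProduct.basis (Pol A e) e).repr (Phi0 e h) j}

/-- the representing algebra. -/
abbrev R : Type u := Pol A e ⧸ relIdeal (A := A) e

/-- the generic map on the free algebra, with values in `R ⊗ C`. -/
noncomputable def Psi0 : MvPolynomial A B →ₐ[B] (R (A := A) e ⊗[B] C) :=
  (Algebra.TensorProduct.map (Ideal.Quotient.mkₐ B (relIdeal (A := A) e)) (AlgHom.id B C)).comp
    (Phi0 e)

theorem ker_le : RingHom.ker (piA B A).toRingHom ≤ RingHom.ker (Psi0 (A := A) e).toRingHom := by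
  intro h hh
  rw [RingHom.mem_ker]
  change Psi0 e h = 0
  rw [Psi0, AlgHom.comp_apply, ← sum_repr_tmul e (Phi0 e h), map_sum]
  refine Finset.sum_eq_zero fun j _ => ?_
  rw [Algebra.TensorProduct.map_tmul]
  have : (Ideal.Quotient.mkₐ B (relIdeal (A := A) e))
      ((Algebra.TensorProduct.basis (Pol A e) e).repr (Phi0 e h) j) = 0 := by
    rw [Ideal.Quotient.mkₐ_eq_mk, Ideal.Quotient.eq_zero_iff_mem]
    exact Ideal.subset_span ⟨h, hh, j, rfl⟩
  rw [this, TensorProduct.zero_tmul]

/-- the universal map. -/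
noncomputable def uMap : A →ₐ[B] (R (A := A) e ⊗[B] C) :=
  AlgHom.liftOfSurjective (R := B) (A := MvPolynomial A B) (B := A) (C := R (A := A) e ⊗[B] C)
    (piA B A) piA_surjective (Psi0 e) (ker_le e)

theorem uMap_piA (h : MvPolynomial A B) : uMap e (piA B A h) = Psi0 e h :=
  AlgHom.liftOfSurjective_apply _ _ _ _ _

theorem uMap_apply (a : A) :
    uMap e a = ∑ j, (Ideal.Quotient.mk (relIdeal (A := A) e) (MvPolynomial.X (a, j))) ⊗ₜ[B] e j := by
  have h1 : piA B A (MvPolynomial.X a) = a := by simp [piA]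
  have h2 : uMap e a = Psi0 e (MvPolynomial.X a) := by
    rw [← uMap_piA, h1]
  rw [h2, Psi0, AlgHom.comp_apply, Phi0, MvPolynomial.aeval_X, map_sum]
  simp

variable {D : Type u} [CommRing D] [Algebra B D]

/-- the map `ψ ↦ (ψ ⊗ id) ∘ u`. -/
noncomputable def toHom (ψ : R (A := A) e →ₐ[B] D) : A →ₐ[B] (D ⊗[B] C) :=
  (Algebra.TensorProduct.map ψ (AlgHom.id B C)).comp (uMap e)

theorem toHom_apply (ψ : R (A := A) e →ₐ[B] D) (a : A) :
    toHom e ψ a = ∑ j, ψ (Ideal.Quotient.mk _ (MvPolynomial.X (a, j))) ⊗ₜ[B] e j := by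
  rw [toHom, AlgHom.comp_apply, uMap_apply, map_sum]
  simp

theorem toHom_injective : Function.Injective (toHom (A := A) (D := D) e) := by
  intro ψ₁ ψ₂ h
  apply Ideal.Quotient.algHom_ext
  apply MvPolynomial.algHom_ext
  rintro ⟨a, j⟩
  have h1 := congrArg (fun φ : A →ₐ[B] (D ⊗[B] C) =>
    (Algebra.TensorProduct.basis D e).repr (φ a) j) h
  simp only [toHom_apply, repr_sum_tmul] at h1
  simpa using h1

/-- the candidate preimage on the polynomial ring. -/
noncomputable def pre0 (θ : A →ₐ[B] (D ⊗[B] C)) : Pol A e →ₐ[B] D :=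
  MvPolynomial.aeval (fun p : A × ι => (Algebra.TensorProduct.basis D e).repr (θ p.1) p.2)

theorem map_pre0_Phi0 (θ : A →ₐ[B] (D ⊗[B] C)) :
    (Algebra.TensorProduct.map (pre0 e θ) (AlgHom.id B C)).comp (Phi0 e) = θ.comp (piA B A) := by
  apply MvPolynomial.algHom_ext
  intro a
  rw [AlgHom.comp_apply, AlgHom.comp_apply, Phi0, MvPolynomial.aeval_X, map_sum]
  simp only [Algebra.TensorProduct.map_tmul, AlgHom.coe_id, id_eq, pre0, MvPolynomial.aeval_X]
  rw [sum_repr_tmul]
  simp [piA]

theorem relIdeal_le_ker (θ : A →ₐ[B] (D ⊗[B] C)) :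
    relIdeal (A := A) e ≤ RingHom.ker (pre0 e θ).toRingHom := by
  rw [relIdeal, Ideal.span_le]
  rintro _ ⟨h, hh, j, rfl⟩
  change pre0 e θ _ = 0
  rw [← repr_map e (pre0 e θ) (Phi0 e h) j]
  have h1 := congrArg (fun φ : MvPolynomial A B →ₐ[B] (D ⊗[B] C) => φ h) (map_pre0_Phi0 e θ)
  simp only [AlgHom.comp_apply] at h1
  rw [h1]
  have h2 : piA B A h = 0 := hh
  rw [h2, map_zero, map_zero, Finsupp.zero_apply]

/-- the preimage. -/
noncomputable def pre (θ : A →ₐ[B] (D ⊗[B] C)) : R (A := A) e →ₐ[B] D :=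
  Ideal.Quotient.liftₐ _ (pre0 e θ) (fun x hx => relIdeal_le_ker e θ hx)

theorem toHom_pre (θ : A →ₐ[B] (D ⊗[B] C)) : toHom e (pre e θ) = θ := by
  ext a
  rw [toHom_apply]
  have : ∀ j, pre e θ (Ideal.Quotient.mk _ (MvPolynomial.X (a, j))) =
      (Algebra.TensorProduct.basis D e).repr (θ a) j := by
    intro j
    rw [pre, ← Ideal.Quotient.mkₐ_eq_mk B, Ideal.Quotient.liftₐ_apply, Ideal.Quotient.mkₐ_eq_mk,
      Ideal.Quotient.lift_mk]
    simp [pre0]
  simp only [this]
  exact sum_repr_tmul e (θ a)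

theorem toHom_bijective : Function.Bijective (toHom (A := A) (D := D) e) :=
  ⟨toHom_injective e, fun θ => ⟨pre e θ, toHom_pre e θ⟩⟩

end Construction

end Groth.Agent.Lib.Seat2.WeilRing
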