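import Mathlib
import Groth.Agent.Lib.Seat2WeilRing

/-!
# Weil restriction, ring level, in `CommRingCat` with pushouts (helper2)
-/

set_option autoImplicit false

namespace Groth.Agent.Lib.Seat2.WeilCat

open TensorProduct CategoryTheory CategoryTheory.Limits
open Groth.Agent.Lib.Seat2.WeilRing

universe u

/-- an algebra hom from a ring hom commuting with the structure maps. -/
def algHomOf {B A D : Type u} [CommRing B] [CommRing A] [CommRing D] [Algebra B A] [Algebra B D]
    (θ : A →+* D) (h : ∀ b, θ (algebraMap B A b) = algebraMap B D b) : A →ₐ[B] D :=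
  { θ with commutes' := h }

/-- `ψ ⊗ id` as a morphism of `CommRingCat`. -/
noncomputable def mapHom {B : Type u} [CommRing B] {R D C : Type u} [CommRing R] [CommRing D]
    [CommRing C] [Algebra B R] [Algebra B D] [Algebra B C] (ψ₀ : R →ₐ[B] D) :
    CommRingCat.of (R ⊗[B] C) ⟶ CommRingCat.of (D ⊗[B] C) :=
  CommRingCat.ofHom (R := R ⊗[B] C) (S := D ⊗[B] C)
    (Algebra.TensorProduct.map ψ₀ (AlgHom.id B C)).toRingHom

theorem exists_weil {B A C : CommRingCat.{u}} (φf : B ⟶ A) (φg : B ⟶ C)
    (hfin : letI := φg.hom.toAlgebra; Module.Finite B C)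
    (hfree : letI := φg.hom.toAlgebra; Module.Free B C) :
    ∃ (R : CommRingCat.{u}) (φR : B ⟶ R) (PR : CommRingCat.{u}) (inl : R ⟶ PR) (inr : C ⟶ PR)
      (u : A ⟶ PR), IsPushout φR φg inl inr ∧ φf ≫ u = φg ≫ inr ∧
      ∀ (D : CommRingCat.{u}) (φD : B ⟶ D) (P : CommRingCat.{u}) (inl' : D ⟶ P) (inr' : C ⟶ P),
        IsPushout φD φg inl' inr' → ∀ θ : A ⟶ P, φf ≫ θ = φg ≫ inr' →
        ∃! ψ : R ⟶ D, φR ≫ ψ = φD ∧
          ∀ k : PR ⟶ P, inl ≫ k = ψ ≫ inl' → inr ≫ k = inr' → u ≫ k = θ := by
  classical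
  letI : Algebra B A := φf.hom.toAlgebra
  letI : Algebra B C := φg.hom.toAlgebra
  haveI : Module.Finite B C := hfin
  haveI : Module.Free B C := hfree
  let e := Module.Free.chooseBasis B C
  have hφg : CommRingCat.ofHom (algebraMap B C) = φg := rfl
  have hφf : CommRingCat.ofHom (algebraMap B A) = φf := rfl
  have hstd := CommRingCat.isPushout_tensorProduct B (WeilRing.R (A := A) e) C
  rw [hφg] at hstd
  refine ⟨CommRingCat.of (WeilRing.R (A := A) e), CommRingCat.ofHom (algebraMap B _), _, _, _,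
    CommRingCat.ofHom (uMap e).toRingHom, hstd, ?_, ?_⟩
  · ext b
    change (uMap e) (algebraMap B A b) = Algebra.TensorProduct.includeRight (algebraMap B C b)
    rw [AlgHom.commutes, Algebra.TensorProduct.includeRight_apply,
      Algebra.TensorProduct.algebraMap_apply']
  · intro D φD P inl' inr' hP θ hθ
    letI : Algebra B D := φD.hom.toAlgebra
    have hφD : CommRingCat.ofHom (algebraMap B D) = φD := rfl
    have hD := CommRingCat.isPushout_tensorProduct B D C
    rw [hφg, hφD] at hD
    let ε := hD.isoIsPushout _ _ hP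
    have hεl : CommRingCat.ofHom (S := D ⊗[B] C) Algebra.TensorProduct.includeLeftRingHom ≫ ε.hom
        = inl' := hD.inl_isoIsPushout_hom _ _ hP
    have hεr : CommRingCat.ofHom (S := D ⊗[B] C) Algebra.TensorProduct.includeRight.toRingHom ≫
        ε.hom = inr' := hD.inr_isoIsPushout_hom _ _ hP
    have hεr' : inr' ≫ ε.inv =
        CommRingCat.ofHom (S := D ⊗[B] C) Algebra.TensorProduct.includeRight.toRingHom :=
      hD.inr_isoIsPushout_inv _ _ hP
    -- the algebra map θ'
    have hcomm : ∀ b : B, (θ ≫ ε.inv).hom (algebraMap B A b) = algebraMap B (D ⊗[B] C) b := by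
      intro b
      have h1 : (φf ≫ θ ≫ ε.inv).hom b = (φg ≫ inr' ≫ ε.inv).hom b := by
        rw [← Category.assoc, hθ, Category.assoc]
      rw [hεr'] at h1
      change (θ ≫ ε.inv).hom (φf.hom b) = _
      refine h1.trans ?_
      change (1 : D) ⊗ₜ[B] (algebraMap B C b) = _
      rw [Algebra.TensorProduct.algebraMap_apply']
    let θ' : A →ₐ[B] (D ⊗[B] C) := algHomOf (θ ≫ ε.inv).hom hcomm
    -- general facts about maps `k`
    have hk : ∀ (ψ₀ : WeilRing.R (A := A) e →ₐ[B] D) (k : CommRingCat.of (WeilRing.R (A := A) e ⊗[B] C) ⟶ P),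
        CommRingCat.ofHom (S := WeilRing.R (A := A) e ⊗[B] C) Algebra.TensorProduct.includeLeftRingHom ≫ k
          = CommRingCat.ofHom ψ₀.toRingHom ≫ inl' →
        CommRingCat.ofHom (S := WeilRing.R (A := A) e ⊗[B] C)
          Algebra.TensorProduct.includeRight.toRingHom ≫ k = inr' →
        k = mapHom (C := C) ψ₀ ≫ ε.hom := by
      intro ψ₀ k h1 h2
      apply hstd.hom_ext
      · rw [h1, ← hεl, ← Category.assoc, ← Category.assoc]
        congr 1
      · rw [h2, ← hεr, ← Category.assoc]
        congr 1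
        ext x
        change _ = Algebra.TensorProduct.map ψ₀ (AlgHom.id B C) (1 ⊗ₜ x)
        simp
    have hu : ∀ (ψ₀ : WeilRing.R (A := A) e →ₐ[B] D),
        CommRingCat.ofHom (uMap e).toRingHom ≫
          mapHom (C := C) ψ₀ =
        CommRingCat.ofHom (toHom e ψ₀).toRingHom := by
      intro ψ₀
      rfl
    refine ⟨CommRingCat.ofHom (pre e θ').toRingHom, ⟨?_, ?_⟩, ?_⟩
    · ext b
      change (pre e θ') (algebraMap B _ b) = φD.hom b
      rw [AlgHom.commutes]
      rfl
    · intro k h1 h2
      rw [hk (pre e θ') k h1 h2, ← Category.assoc, hu, toHom_pre]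
      change (θ ≫ ε.inv) ≫ ε.hom = θ
      rw [Category.assoc, Iso.inv_hom_id, Category.comp_id]
    · rintro ψ' ⟨hψ1, hψ2⟩
      have hc' : ∀ b : B, ψ'.hom (algebraMap B (WeilRing.R (A := A) e) b) = algebraMap B D b := by
        intro b
        have := congrArg (fun m => m.hom b) hψ1
        exact this
      let ψ'₀ : WeilRing.R (A := A) e →ₐ[B] D := algHomOf ψ'.hom hc'
      have hψ'₀ : CommRingCat.ofHom ψ'₀.toRingHom = ψ' := rfl
      have h3 := hψ2 (mapHom (C := C) ψ'₀
          ≫ ε.hom) ?_ ?_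
      · rw [← Category.assoc, hu] at h3
        have h4 : toHom e ψ'₀ = θ' := by
          ext a
          have h5 := congrArg (fun m => (m ≫ ε.inv).hom a) h3
          simp only [Category.assoc, Iso.hom_inv_id, Category.comp_id] at h5
          exact h5
        have h6 : ψ'₀ = pre e θ' := toHom_injective e (h4.trans (toHom_pre e θ').symm)
        rw [← hψ'₀, h6]
      · rw [← hεl, ← Category.assoc, ← Category.assoc]
        congr 1
      · rw [← hεr, ← Category.assoc]
        congr 1
        ext x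
        change Algebra.TensorProduct.map ψ'₀ (AlgHom.id B C) (1 ⊗ₜ x) = _
        simp

end Groth.Agent.Lib.Seat2.WeilCat
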