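import Mathlib

/-!
# Representability can be checked on affine test objects (helper2)

Let `F : (Over S)ᵒᵖ ⥤ Type u` be a presheaf which is separated for Zariski covers, `W : Over S` and
`ū ∈ F(W)`.  If `a ↦ F(a)(ū)` is a bijection `Hom(T, W) → F(T)` for every `T` with `T.left` affine,
then it is a bijection for every `T`, hence `W` represents `F`.
-/

set_option autoImplicit false

namespace Groth.Agent.Lib.Seat2.ZarRep

open CategoryTheory CategoryTheory.Limits AlgebraicGeometry Opposite

universe u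

variable {S : Scheme.{u}}

/-- restriction of an object of `Over S` along a morphism of schemes. -/
abbrev res (T : Over S) {U : Scheme.{u}} (j : U ⟶ T.left) : Over S := Over.mk (j ≫ T.hom)

/-- the structure morphism of the restriction. -/
abbrev resHom (T : Over S) {U : Scheme.{u}} (j : U ⟶ T.left) : res T j ⟶ T := Over.homMk j rfl

/-- Zariski separatedness of a presheaf on `Over S`. -/
def IsSep (F : (Over S)ᵒᵖ ⥤ Type u) : Prop :=
  ∀ (T : Over S) (𝒰 : Scheme.OpenCover.{u} T.left) (m m' : F.obj (op T)),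
    (∀ i, F.map (resHom T (𝒰.f i)).op m = F.map (resHom T (𝒰.f i)).op m') → m = m'

variable (F : (Over S)ᵒᵖ ⥤ Type u) (W : Over S) (ū : F.obj (op W))

/-- the map `Hom(T, W) → F(T)` given by `ū`. -/
def eta (T : Over S) (a : T ⟶ W) : F.obj (op T) := F.map a.op ū

theorem eta_comp {T T' : Over S} (b : T' ⟶ T) (a : T ⟶ W) :
    eta F W ū T' (b ≫ a) = F.map b.op (eta F W ū T a) := by
  simp only [eta, op_comp, F.map_comp]
  rfl

variable {F W ū}

theorem eta_bijective (hsep : IsSep F)
    (haff : ∀ T : Over S, IsAffine T.left → Function.Bijective (eta F W ū T)) (T : Over S) :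
    Function.Bijective (eta F W ū T) := by
  let 𝒰 := T.left.affineCover
  have hinj : Function.Injective (eta F W ū T) := by
    intro a b hab
    apply Over.OverMorphism.ext
    apply 𝒰.hom_ext
    intro i
    have h1 : resHom T (𝒰.f i) ≫ a = resHom T (𝒰.f i) ≫ b := by
      apply (haff (res T (𝒰.f i)) (by dsimp; infer_instance)).1
      rw [eta_comp, eta_comp, hab]
    exact congrArg (fun m => m.left) h1
  refine ⟨hinj, ?_⟩
  intro m
  -- local preimages
  have hloc : ∀ i, ∃ a : res T (𝒰.f i) ⟶ W,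
      eta F W ū _ a = F.map (resHom T (𝒰.f i)).op m := fun i =>
    (haff (res T (𝒰.f i)) (by dsimp; infer_instance)).2 _
  choose a ha using hloc
  -- compatibility on overlaps
  have hcompat : ∀ i j, pullback.fst (𝒰.f i) (𝒰.f j) ≫ (a i).left =
      pullback.snd (𝒰.f i) (𝒰.f j) ≫ (a j).left := by
    intro i j
    let 𝒱 := (pullback (𝒰.f i) (𝒰.f j)).affineCover
    apply 𝒱.hom_ext
    intro k
    let Vk : Over S := Over.mk (𝒱.f k ≫ pullback.fst (𝒰.f i) (𝒰.f j) ≫ 𝒰.f i ≫ T.hom)
    let α : Vk ⟶ res T (𝒰.f i) := Over.homMk (𝒱.f k ≫ pullback.fst (𝒰.f i) (𝒰.f j))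
      (by simp [Vk])
    let β : Vk ⟶ res T (𝒰.f j) := Over.homMk (𝒱.f k ≫ pullback.snd (𝒰.f i) (𝒰.f j))
      (by simp [Vk, pullback.condition_assoc])
    have hαβ : α ≫ resHom T (𝒰.f i) = β ≫ resHom T (𝒰.f j) := by
      apply Over.OverMorphism.ext
      simp [α, β, pullback.condition]
    have h1 : α ≫ a i = β ≫ a j := by
      apply (haff Vk (by dsimp [Vk]; infer_instance)).1
      rw [eta_comp, eta_comp, ha, ha]
      change (F.map (resHom T (𝒰.f i)).op ≫ F.map α.op) m =
        (F.map (resHom T (𝒰.f j)).op ≫ F.map β.op) m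
      rw [← F.map_comp, ← F.map_comp, ← op_comp, ← op_comp, hαβ]
    have h2 := congrArg (fun m => m.left) h1
    simpa [α, β] using h2
  let a₀ : T.left ⟶ W.left := 𝒰.glueMorphisms (fun i => (a i).left) hcompat
  have ha₀ : ∀ i, 𝒰.f i ≫ a₀ = (a i).left := fun i => 𝒰.ι_glueMorphisms _ _ i
  have hw : a₀ ≫ W.hom = T.hom := by
    apply 𝒰.hom_ext
    intro i
    rw [← Category.assoc, ha₀]
    exact Over.w (a i)
  let aa : T ⟶ W := Over.homMk a₀ hw
  refine ⟨aa, ?_⟩
  apply hsep T 𝒰
  intro i
  rw [← eta_comp, ← ha i]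
  congr 1
  apply Over.OverMorphism.ext
  exact ha₀ i

/-- the representing structure. -/
noncomputable def representableBy (hsep : IsSep F)
    (haff : ∀ T : Over S, IsAffine T.left → Function.Bijective (eta F W ū T)) :
    F.RepresentableBy W where
  homEquiv {T} := Equiv.ofBijective (eta F W ū T) (eta_bijective hsep haff T)
  homEquiv_comp {T T'} b a := eta_comp F W ū b a

end Groth.Agent.Lib.Seat2.ZarRep
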