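import Mathlib
import Groth.Prelude.Def_Flatn
import Groth.Agent.Lib.Seat2ZarRep
import Groth.Agent.Lib.Seat2WeilCat

/-!
# Weil restriction for affine schemes with finite free coordinate ring (helper2)
-/

set_option autoImplicit false

namespace Groth.Agent.Lib.Seat2.WeilSch

open CategoryTheory CategoryTheory.Limits AlgebraicGeometry Opposite
open Groth.Agent.Lib.Seat2.ZarRep

universe u

/-- cancellation for the unit of the adjunction. -/
theorem toSpecΓ_cancel {T : Scheme.{u}} {R : CommRingCat.{u}} (α β : R ⟶ Γ(T, ⊤))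
    (h : T.toSpecΓ ≫ Spec.map α = T.toSpecΓ ≫ Spec.map β) : α = β := by
  have h2 := congrArg (fun m => (Scheme.ΓSpecIso R).inv ≫ m.appTop) h
  simp only [Scheme.Hom.comp_appTop, Scheme.toSpecΓ_appTop] at h2
  rw [← Category.assoc, ← Category.assoc] at h2
  have h3 : ∀ c : R ⟶ Γ(T, ⊤), ((Scheme.ΓSpecIso R).inv ≫ (Spec.map c).appTop) ≫
      (Scheme.ΓSpecIso Γ(T, ⊤)).hom = c := by
    intro c
    rw [Category.assoc, Scheme.ΓSpecIso_naturality, Iso.inv_hom_id_assoc]
  rw [h3, h3] at h2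
  exact h2

/-- morphisms to an affine scheme with prescribed map on global sections. -/
theorem exists_hom_appTop {T Y : Scheme.{u}} [IsAffine Y] (ψ : Γ(Y, ⊤) ⟶ Γ(T, ⊤)) :
    ∃ h : T ⟶ Y, h.appTop = ψ := by
  refine ⟨T.toSpecΓ ≫ Spec.map ψ ≫ Y.isoSpec.inv, ?_⟩
  have h1 : (T.toSpecΓ ≫ Spec.map ψ ≫ Y.isoSpec.inv) ≫ Y.toSpecΓ = T.toSpecΓ ≫ Spec.map ψ := by
    rw [Category.assoc, Category.assoc, Scheme.isoSpec_inv_toSpecΓ, Category.comp_id]
  rw [Scheme.toSpecΓ_naturality] at h1
  exact toSpecΓ_cancel _ _ h1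

variable {Z X S : Scheme.{u}} (g : Z ⟶ S) (f : X ⟶ S)

/-- the base change map `T' ×_S Z ⟶ T ×_S Z`. -/
noncomputable abbrev bc {T T' : Over S} (φ : T' ⟶ T) : pullback T'.hom g ⟶ pullback T.hom g :=
  pullback.lift (pullback.fst T'.hom g ≫ φ.left) (pullback.snd T'.hom g)
    (by rw [Category.assoc, Over.w φ, pullback.condition])

theorem morS_map_left {T T' : Over S} (φ : T' ⟶ T)
    (b : (Over.map g).obj ((Over.pullback g).obj T) ⟶ Over.mk f) :
    (((Flatn.morS g f).map φ.op b : (Flatn.morS g f).obj (op T')) :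
      (Over.map g).obj ((Over.pullback g).obj T') ⟶ Over.mk f).left = bc g φ ≫ b.left := rfl

theorem isSep_morS : IsSep (Flatn.morS g f) := by
  intro T 𝒰 m m' h
  change (Over.map g).obj ((Over.pullback g).obj T) ⟶ Over.mk f at m m'
  apply Over.OverMorphism.ext
  apply (Scheme.Pullback.openCoverOfLeft 𝒰 T.hom g).hom_ext
  intro i
  have h1 := congrArg (fun (b : (Over.map g).obj ((Over.pullback g).obj (res T (𝒰.f i))) ⟶
    Over.mk f) => b.left) (h i)
  simp only [morS_map_left] at h1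
  have h2 : (Scheme.Pullback.openCoverOfLeft 𝒰 T.hom g).f i = bc g (resHom T (𝒰.f i)) := by
    apply pullback.hom_ext
    · simp only [Scheme.Pullback.openCoverOfLeft, bc, pullback.map, pullback.lift_fst]
      rfl
    · simp only [Scheme.Pullback.openCoverOfLeft, bc, pullback.map, pullback.lift_snd]
      simp
  rw [h2]
  exact h1

section Main

variable [IsAffine Z] [IsAffine X] [IsAffine S]

theorem exists_representableBy
    (hfin : letI := (g.appTop).hom.toAlgebra; Module.Finite Γ(S, ⊤) Γ(Z, ⊤))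
    (hfree : letI := (g.appTop).hom.toAlgebra; Module.Free Γ(S, ⊤) Γ(Z, ⊤)) :
    ∃ W : Over S, IsAffine W.left ∧ Nonempty ((Flatn.morS g f).RepresentableBy W) := by
  obtain ⟨R, φR, PR, inl, inr, u, hPR, hu, huniv⟩ :=
    WeilCat.exists_weil f.appTop g.appTop hfin hfree
  -- the representing object
  obtain ⟨wh, hwh⟩ := exists_hom_appTop (T := Spec R) (Y := S) (φR ≫ (Scheme.ΓSpecIso R).inv)
  let W : Over S := Over.mk wh
  have hPW : IsPushout wh.appTop g.appTop (pullback.fst wh g).appTop (pullback.snd wh g).appTop :=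
    isPushout_appTop_of_isPullback (IsPullback.of_hasPullback wh g)
  let d : PR ⟶ Γ(pullback wh g, ⊤) :=
    hPR.desc ((Scheme.ΓSpecIso R).inv ≫ (pullback.fst wh g).appTop) (pullback.snd wh g).appTop
      (by rw [← Category.assoc, ← hwh]; exact hPW.w)
  have hd1 : inl ≫ d = (Scheme.ΓSpecIso R).inv ≫ (pullback.fst wh g).appTop :=
    hPR.inl_desc _ _ _
  have hd2 : inr ≫ d = (pullback.snd wh g).appTop := hPR.inr_desc _ _ _
  -- the universal element
  obtain ⟨ul, hul⟩ := exists_hom_appTop (T := pullback wh g) (Y := X) (u ≫ d)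
  have hulw : ul ≫ f = pullback.snd wh g ≫ g := by
    apply ext_of_isAffine
    rw [Scheme.Hom.comp_appTop, Scheme.Hom.comp_appTop, hul, ← Category.assoc, hu,
      Category.assoc, hd2]
  let ū : (Over.map g).obj ((Over.pullback g).obj W) ⟶ Over.mk f := Over.homMk ul hulw
  refine ⟨W, inferInstanceAs (IsAffine (Spec R)),
    ⟨representableBy (F := Flatn.morS g f) (W := W) (ū := ū) (isSep_morS g f) ?_⟩⟩
  intro T hT
  have hP : IsPushout T.hom.appTop g.appTop (pullback.fst T.hom g).appTop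
      (pullback.snd T.hom g).appTop :=
    isPushout_appTop_of_isPullback (IsPullback.of_hasPullback T.hom g)
  -- facts about a morphism `a : T ⟶ W`
  have F1 : ∀ a : T ⟶ W, φR ≫ (Scheme.ΓSpecIso R).inv ≫ a.left.appTop = T.hom.appTop := by
    intro a
    rw [← Category.assoc, ← hwh, ← Scheme.Hom.comp_appTop]
    exact congrArg Scheme.Hom.appTop (Over.w a)
  have F2 : ∀ a : T ⟶ W, inl ≫ d ≫ (bc g a).appTop =
      ((Scheme.ΓSpecIso R).inv ≫ a.left.appTop) ≫ (pullback.fst T.hom g).appTop := by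
    intro a
    rw [← Category.assoc, hd1, Category.assoc, Category.assoc, ← Scheme.Hom.comp_appTop,
      ← Scheme.Hom.comp_appTop]
    congr 2
    exact pullback.lift_fst _ _ _
  have F3 : ∀ a : T ⟶ W, inr ≫ d ≫ (bc g a).appTop = (pullback.snd T.hom g).appTop := by
    intro a
    rw [← Category.assoc, hd2, ← Scheme.Hom.comp_appTop]
    congr 1
    exact pullback.lift_snd _ _ _
  have F4 : ∀ a : T ⟶ W,
      ((eta (Flatn.morS g f) W ū T a : (Flatn.morS g f).obj (op T)) :
        (Over.map g).obj ((Over.pullback g).obj T) ⟶ Over.mk f).left.appTop =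
      u ≫ d ≫ (bc g a).appTop := by
    intro a
    change (bc g a ≫ ul).appTop = _
    rw [Scheme.Hom.comp_appTop, hul, Category.assoc]
  have F5 : ∀ (a : T ⟶ W) (k : PR ⟶ Γ(pullback T.hom g, ⊤)),
      inl ≫ k = ((Scheme.ΓSpecIso R).inv ≫ a.left.appTop) ≫ (pullback.fst T.hom g).appTop →
      inr ≫ k = (pullback.snd T.hom g).appTop → k = d ≫ (bc g a).appTop := by
    intro a k h1 h2
    apply hPR.hom_ext
    · rw [h1, F2]
    · rw [h2, F3]
  constructor
  · -- injectivity
    intro a b hab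
    have hθ : f.appTop ≫ (u ≫ d ≫ (bc g a).appTop) = g.appTop ≫ (pullback.snd T.hom g).appTop := by
      rw [← Category.assoc, hu, Category.assoc, F3]
    obtain ⟨ψ, -, hψ⟩ := huniv _ T.hom.appTop _ _ _ hP (u ≫ d ≫ (bc g a).appTop) hθ
    have hab' : u ≫ d ≫ (bc g a).appTop = u ≫ d ≫ (bc g b).appTop := by
      rw [← F4 a, ← F4 b, hab]
    have ha := hψ ((Scheme.ΓSpecIso R).inv ≫ a.left.appTop)
      ⟨by rw [F1], fun k h1 h2 => by rw [F5 a k h1 h2]⟩
    have hb := hψ ((Scheme.ΓSpecIso R).inv ≫ b.left.appTop)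
      ⟨by rw [F1], fun k h1 h2 => by rw [F5 b k h1 h2, hab']⟩
    have h3 : a.left.appTop = b.left.appTop := by
      have := ha.trans hb.symm
      exact (cancel_epi _).mp this
    apply Over.OverMorphism.ext
    haveI : IsAffine W.left := inferInstanceAs (IsAffine (Spec R))
    exact ext_of_isAffine h3
  · -- surjectivity
    intro m
    change (Over.map g).obj ((Over.pullback g).obj T) ⟶ Over.mk f at m
    have hθ : f.appTop ≫ m.left.appTop = g.appTop ≫ (pullback.snd T.hom g).appTop := by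
      rw [← Scheme.Hom.comp_appTop, ← Scheme.Hom.comp_appTop]
      exact congrArg Scheme.Hom.appTop (Over.w m)
    obtain ⟨ψ, ⟨hψ1, hψ2⟩, -⟩ := huniv _ T.hom.appTop _ _ _ hP m.left.appTop hθ
    obtain ⟨al, hal⟩ := exists_hom_appTop (T := T.left) (Y := Spec R) ((Scheme.ΓSpecIso R).hom ≫ ψ)
    have halw : al ≫ wh = T.hom := by
      apply ext_of_isAffine
      rw [Scheme.Hom.comp_appTop, hwh, hal, Category.assoc, Iso.inv_hom_id_assoc, hψ1]
    let a : T ⟶ W := Over.homMk al halw
    have hψa : (Scheme.ΓSpecIso R).inv ≫ a.left.appTop = ψ := by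
      change (Scheme.ΓSpecIso R).inv ≫ al.appTop = ψ
      rw [hal, Iso.inv_hom_id_assoc]
    refine ⟨a, ?_⟩
    apply Over.OverMorphism.ext
    haveI : IsAffine (Over.mk f).left := inferInstanceAs (IsAffine X)
    apply ext_of_isAffine
    rw [F4 a]
    apply hψ2
    · rw [F2 a, hψa]
    · rw [F3 a]

end Main

end Groth.Agent.Lib.Seat2.WeilSch
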