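import Mathlib
import Groth.Prelude.Def_Flatn
import Groth.Agent.Lib.Seat2WeilSch

/-!
# `Flatn.morS` in terms of the cartesian monoidal structure of `Over S` (helper2)

`X ⊗ T ⟶ Y` in `Over S` is the same as a section of `morS X.hom Y.hom` over `T`; a representing
object of `morS X.hom Y.hom` is therefore an internal Hom object `Hom_S(X, Y)` with its evaluation.
-/

set_option autoImplicit false
universe u

namespace Groth.Agent.Lib.Seat2.TensMorS

open CategoryTheory CategoryTheory.Limits AlgebraicGeometry Opposite MonoidalCategory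
  CartesianMonoidalCategory
open Groth.Agent.Lib.Seat2.WeilSch

variable {S : Scheme.{u}} (X Y : Over S)

/-- the scheme morphism underlying the section attached to `φ : X ⊗ T ⟶ Y`. -/
noncomputable abbrev toSecLeft {T : Over S} (φ : X ⊗ T ⟶ Y) : pullback T.hom X.hom ⟶ Y.left :=
  (pullbackSymmetry T.hom X.hom).hom ≫ φ.left

lemma toSecLeft_w {T : Over S} (φ : X ⊗ T ⟶ Y) :
    toSecLeft X Y φ ≫ Y.hom = pullback.snd T.hom X.hom ≫ X.hom := by
  have h := Over.w φ
  rw [Over.tensorObj_hom] at h
  rw [toSecLeft, Category.assoc, h, pullbackSymmetry_hom_comp_fst_assoc]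

/-- the scheme morphism underlying the map `X ⊗ T ⟶ Y` attached to a section. -/
noncomputable abbrev ofSecLeft {T : Over S} (b : pullback T.hom X.hom ⟶ Y.left) :
    pullback X.hom T.hom ⟶ Y.left :=
  (pullbackSymmetry X.hom T.hom).hom ≫ b

/-- sections of `morS X.hom Y.hom` over `T` are the morphisms `X ⊗ T ⟶ Y`. -/
noncomputable def tensEquiv (T : Over S) :
    (X ⊗ T ⟶ Y) ≃ (Flatn.morS X.hom Y.hom).obj (op T) where
  toFun φ := Over.homMk (toSecLeft X Y φ) (toSecLeft_w X Y φ)
  invFun b := Over.homMk (ofSecLeft X Y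
      (b : (Over.map X.hom).obj ((Over.pullback X.hom).obj T) ⟶ Over.mk Y.hom).left) (by
    have h := Over.w (b : (Over.map X.hom).obj ((Over.pullback X.hom).obj T) ⟶ Over.mk Y.hom)
    change (b : (Over.map X.hom).obj ((Over.pullback X.hom).obj T) ⟶ Over.mk Y.hom).left ≫ Y.hom =
      pullback.snd T.hom X.hom ≫ X.hom at h
    rw [Over.tensorObj_hom, ofSecLeft, Category.assoc, h, pullbackSymmetry_hom_comp_snd_assoc])
  left_inv φ := by
    apply Over.OverMorphism.ext
    change (pullbackSymmetry X.hom T.hom).hom ≫ (pullbackSymmetry T.hom X.hom).hom ≫ φ.left = φ.left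
    rw [← Category.assoc]
    have : (pullbackSymmetry X.hom T.hom).hom ≫ (pullbackSymmetry T.hom X.hom).hom = 𝟙 _ := by
      apply pullback.hom_ext <;> simp
    rw [this, Category.id_comp]
  right_inv b := by
    apply Over.OverMorphism.ext
    change (pullbackSymmetry T.hom X.hom).hom ≫ (pullbackSymmetry X.hom T.hom).hom ≫ _ = _
    rw [← Category.assoc]
    have : (pullbackSymmetry T.hom X.hom).hom ≫ (pullbackSymmetry X.hom T.hom).hom = 𝟙 _ := by
      apply pullback.hom_ext <;> simp
    rw [this, Category.id_comp]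

lemma tensEquiv_left {T : Over S} (φ : X ⊗ T ⟶ Y) :
    (tensEquiv X Y T φ : (Over.map X.hom).obj ((Over.pullback X.hom).obj T) ⟶ Over.mk Y.hom).left =
      (pullbackSymmetry T.hom X.hom).hom ≫ φ.left := rfl

lemma symm_whisker {T T' : Over S} (v : T' ⟶ T) :
    (pullbackSymmetry T'.hom X.hom).hom ≫ (X ◁ v).left =
      bc X.hom v ≫ (pullbackSymmetry T.hom X.hom).hom := by
  apply pullback.hom_ext
  · rw [Category.assoc, Category.assoc, Over.whiskerLeft_left_fst, pullbackSymmetry_hom_comp_fst,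
      pullbackSymmetry_hom_comp_fst, pullback.lift_snd]
  · rw [Category.assoc, Category.assoc, Over.whiskerLeft_left_snd, pullbackSymmetry_hom_comp_snd,
      pullbackSymmetry_hom_comp_snd_assoc, pullback.lift_fst]

lemma tensEquiv_natural {T T' : Over S} (v : T' ⟶ T) (φ : X ⊗ T ⟶ Y) :
    tensEquiv X Y T' ((X ◁ v) ≫ φ) = (Flatn.morS X.hom Y.hom).map v.op (tensEquiv X Y T φ) := by
  apply Over.OverMorphism.ext
  rw [morS_map_left, tensEquiv_left, tensEquiv_left, Over.comp_left, ← Category.assoc,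
    symm_whisker, Category.assoc]

/-- a representing object of `morS X.hom Y.hom` is an internal Hom object with evaluation. -/
theorem exists_ev (W : Over S) (e : (Flatn.morS X.hom Y.hom).RepresentableBy W) :
    ∃ ev : X ⊗ W ⟶ Y, ∀ (T : Over S) (φ : X ⊗ T ⟶ Y), ∃! v : T ⟶ W, (X ◁ v) ≫ ev = φ := by
  refine ⟨(tensEquiv X Y W).symm (e.homEquiv (𝟙 W)), fun T φ => ?_⟩
  have key : ∀ v : T ⟶ W, (X ◁ v) ≫ (tensEquiv X Y W).symm (e.homEquiv (𝟙 W)) = φ ↔
      e.homEquiv v = tensEquiv X Y T φ := by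
    intro v
    rw [← (tensEquiv X Y T).apply_eq_iff_eq, tensEquiv_natural, Equiv.apply_symm_apply,
      ← e.homEquiv_eq]
  refine ⟨e.homEquiv.symm (tensEquiv X Y T φ), (key _).2 (Equiv.apply_symm_apply _ _), ?_⟩
  intro v hv
  rw [key] at hv
  rw [← hv, Equiv.symm_apply_apply]

end Groth.Agent.Lib.Seat2.TensMorS
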