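import Mathlib
import Groth.Agent.Lib.Seat2WeilRing

/-!
# Finite type / finite presentation of the Weil restriction algebra (helper2)

`IsWeil u`: the pair `(R, u : A → R ⊗[B] C)` has the universal property of the Weil restriction of
the `B`-algebra `A` along `B → C`.  Weil restrictions are unique, exist for polynomial rings
(polynomial rings in the coordinates) and pass to quotients (divide by the coordinates of the
relations).  Hence the Weil restriction algebra of a finitely generated (finitely presented)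
algebra is finitely generated (finitely presented).
-/

set_option autoImplicit false

namespace Groth.Agent.Lib.Seat2.WeilFP

open TensorProduct
open Groth.Agent.Lib.Seat2.WeilRing

universe u

section

variable {B : Type u} [CommRing B] {C : Type u} [CommRing C] [Algebra B C]

/-- `(R, u)` is a Weil restriction of `A` along `B → C`. -/
def IsWeil {A R : Type u} [CommRing A] [CommRing R] [Algebra B A] [Algebra B R]
    (u : A →ₐ[B] R ⊗[B] C) : Prop :=
  ∀ (D : Type u) [CommRing D] [Algebra B D], Function.Bijective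
    (fun ψ : R →ₐ[B] D => (Algebra.TensorProduct.map ψ (AlgHom.id B C)).comp u)

variable {A R : Type u} [CommRing A] [CommRing R] [Algebra B A] [Algebra B R]

theorem map_comp_map {R R' R'' : Type u} [CommRing R] [CommRing R'] [CommRing R'']
    [Algebra B R] [Algebra B R'] [Algebra B R''] (ψ : R →ₐ[B] R') (ψ' : R' →ₐ[B] R'') :
    (Algebra.TensorProduct.map (ψ'.comp ψ) (AlgHom.id B C)) =
      (Algebra.TensorProduct.map ψ' (AlgHom.id B C)).comp
        (Algebra.TensorProduct.map ψ (AlgHom.id B C)) := by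
  ext <;> simp

theorem map_id' : Algebra.TensorProduct.map (AlgHom.id B R) (AlgHom.id B C) =
    AlgHom.id B (R ⊗[B] C) := by
  ext <;> simp

/-- Weil restrictions are unique. -/
theorem IsWeil.nonempty_equiv {R' : Type u} [CommRing R'] [Algebra B R']
    {u : A →ₐ[B] R ⊗[B] C} {u' : A →ₐ[B] R' ⊗[B] C} (hu : IsWeil u) (hu' : IsWeil u') :
    Nonempty (R ≃ₐ[B] R') := by
  obtain ⟨ψ, hψ⟩ := (hu R').2 u'
  obtain ⟨ψ', hψ'⟩ := (hu' R).2 u
  simp only at hψ hψ'
  have h1 : ψ'.comp ψ = AlgHom.id B R := by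
    apply (hu R).1
    simp only
    rw [map_comp_map, AlgHom.comp_assoc, hψ, hψ', map_id', AlgHom.id_comp]
  have h2 : ψ.comp ψ' = AlgHom.id B R' := by
    apply (hu' R').1
    simp only
    rw [map_comp_map, AlgHom.comp_assoc, hψ', hψ, map_id', AlgHom.id_comp]
  exact ⟨AlgEquiv.ofAlgHom ψ ψ' h2 h1⟩

/-- transport along an isomorphism of the source. -/
theorem IsWeil.of_equiv {A' : Type u} [CommRing A'] [Algebra B A'] {u : A →ₐ[B] R ⊗[B] C}
    (hu : IsWeil u) (h : A' ≃ₐ[B] A) : IsWeil (u.comp h.toAlgHom) := by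
  intro D _ _
  constructor
  · intro ψ₁ ψ₂ h12
    apply (hu D).1
    simp only at h12 ⊢
    ext a
    have := congrArg (fun φ : A' →ₐ[B] D ⊗[B] C => φ (h.symm a)) h12
    simpa using this
  · intro θ
    obtain ⟨ψ, hψ⟩ := (hu D).2 (θ.comp h.symm.toAlgHom)
    refine ⟨ψ, ?_⟩
    simp only at hψ ⊢
    rw [← AlgHom.comp_assoc, hψ]
    ext a
    simp

end

section Poly

variable {B : Type u} [CommRing B] {C : Type u} [CommRing C] [Algebra B C]
  {ι : Type u} [Fintype ι] [DecidableEq ι] (e : Module.Basis ι B C) (σ : Type u)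

/-- the universal map for a polynomial ring. -/
noncomputable def polyU : MvPolynomial σ B →ₐ[B] (MvPolynomial (σ × ι) B) ⊗[B] C :=
  MvPolynomial.aeval (fun s => ∑ j, (MvPolynomial.X (s, j) : MvPolynomial (σ × ι) B) ⊗ₜ[B] e j)

theorem map_polyU_X {D : Type u} [CommRing D] [Algebra B D] (ψ : MvPolynomial (σ × ι) B →ₐ[B] D)
    (s : σ) : (Algebra.TensorProduct.map ψ (AlgHom.id B C)) (polyU e σ (MvPolynomial.X s)) =
      ∑ j, ψ (MvPolynomial.X (s, j)) ⊗ₜ[B] e j := by
  simp only [polyU, MvPolynomial.aeval_X, map_sum, Algebra.TensorProduct.map_tmul, AlgHom.coe_id,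
    id_eq]

theorem isWeil_polyU : IsWeil (polyU e σ) := by
  intro D _ _
  constructor
  · intro ψ₁ ψ₂ h
    apply MvPolynomial.algHom_ext
    rintro ⟨s, j⟩
    have h1 := congrArg (fun φ : MvPolynomial σ B →ₐ[B] (D ⊗[B] C) =>
      (Algebra.TensorProduct.basis D e).repr (φ (MvPolynomial.X s)) j) h
    simp only [AlgHom.comp_apply] at h1
    rw [map_polyU_X, map_polyU_X, repr_sum_tmul, repr_sum_tmul] at h1
    exact h1
  · intro θ
    refine ⟨MvPolynomial.aeval (fun p : σ × ι =>
      (Algebra.TensorProduct.basis D e).repr (θ (MvPolynomial.X p.1)) p.2), ?_⟩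
    apply MvPolynomial.algHom_ext
    intro s
    simp only [AlgHom.comp_apply]
    rw [map_polyU_X]
    simp only [MvPolynomial.aeval_X]
    exact sum_repr_tmul e (θ (MvPolynomial.X s))

end Poly

section Quot

variable {B : Type u} [CommRing B] {C : Type u} [CommRing C] [Algebra B C]
  {ι : Type u} [Fintype ι] [DecidableEq ι] (e : Module.Basis ι B C)
  {A R : Type u} [CommRing A] [CommRing R] [Algebra B A] [Algebra B R]
  (u : A →ₐ[B] R ⊗[B] C) (F : Set A)

/-- the ideal generated by the coordinates of the images of the relations. -/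
noncomputable def coordIdeal : Ideal R :=
  Ideal.span {p | ∃ f ∈ F, ∃ j : ι, p = (Algebra.TensorProduct.basis R e).repr (u f) j}

/-- the composite `A → R ⊗ C → (R ⧸ J) ⊗ C`. -/
noncomputable def quotU0 : A →ₐ[B] (R ⧸ coordIdeal e u F) ⊗[B] C :=
  (Algebra.TensorProduct.map (Ideal.Quotient.mkₐ B (coordIdeal e u F)) (AlgHom.id B C)).comp u

theorem span_le_ker_quotU0 : Ideal.span F ≤ RingHom.ker (quotU0 e u F).toRingHom := by
  rw [Ideal.span_le]
  intro f hf
  rw [SetLike.mem_coe, RingHom.mem_ker]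
  change quotU0 e u F f = 0
  rw [quotU0, AlgHom.comp_apply, ← sum_repr_tmul e (u f), map_sum]
  refine Finset.sum_eq_zero fun j _ => ?_
  rw [Algebra.TensorProduct.map_tmul]
  have : (Ideal.Quotient.mkₐ B (coordIdeal e u F))
      ((Algebra.TensorProduct.basis R e).repr (u f) j) = 0 := by
    rw [Ideal.Quotient.mkₐ_eq_mk, Ideal.Quotient.eq_zero_iff_mem]
    exact Ideal.subset_span ⟨f, hf, j, rfl⟩
  rw [this, TensorProduct.zero_tmul]

/-- the universal map of the quotient. -/
noncomputable def quotU : (A ⧸ Ideal.span F) →ₐ[B] (R ⧸ coordIdeal e u F) ⊗[B] C :=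
  Ideal.Quotient.liftₐ _ (quotU0 e u F) (fun x hx => span_le_ker_quotU0 e u F hx)

theorem quotU_mk (a : A) : quotU e u F (Ideal.Quotient.mk _ a) = quotU0 e u F a := by
  rw [quotU, ← Ideal.Quotient.mkₐ_eq_mk B, Ideal.Quotient.liftₐ_apply, Ideal.Quotient.mkₐ_eq_mk,
    Ideal.Quotient.lift_mk]
  rfl

theorem IsWeil.quotient (hu : IsWeil u) : IsWeil (quotU e u F) := by
  intro D _ _
  have key : ∀ ψ : (R ⧸ coordIdeal e u F) →ₐ[B] D,
      ((Algebra.TensorProduct.map ψ (AlgHom.id B C)).comp (quotU e u F)).comp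
        (Ideal.Quotient.mkₐ B (Ideal.span F)) =
      (Algebra.TensorProduct.map (ψ.comp (Ideal.Quotient.mkₐ B (coordIdeal e u F)))
        (AlgHom.id B C)).comp u := by
    intro ψ
    ext a
    simp only [AlgHom.comp_apply, Ideal.Quotient.mkₐ_eq_mk, quotU_mk, quotU0]
    rw [map_comp_map]
    rfl
  constructor
  · intro ψ₁ ψ₂ h
    simp only at h
    have h1 : ψ₁.comp (Ideal.Quotient.mkₐ B (coordIdeal e u F)) =
        ψ₂.comp (Ideal.Quotient.mkₐ B (coordIdeal e u F)) := by
      apply (hu D).1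
      simp only
      rw [← key, ← key, h]
    apply Ideal.Quotient.algHom_ext
    exact h1
  · intro θ
    obtain ⟨ψ₀, hψ₀⟩ := (hu D).2 (θ.comp (Ideal.Quotient.mkₐ B (Ideal.span F)))
    simp only at hψ₀
    have hker : coordIdeal e u F ≤ RingHom.ker ψ₀.toRingHom := by
      rw [coordIdeal, Ideal.span_le]
      rintro _ ⟨f, hf, j, rfl⟩
      change ψ₀ _ = 0
      rw [← repr_map e ψ₀ (u f) j]
      have h1 := congrArg (fun φ : A →ₐ[B] (D ⊗[B] C) => φ f) hψ₀
      simp only [AlgHom.comp_apply] at h1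
      rw [h1]
      have h2 : (Ideal.Quotient.mkₐ B (Ideal.span F)) f = 0 := by
        rw [Ideal.Quotient.mkₐ_eq_mk, Ideal.Quotient.eq_zero_iff_mem]
        exact Ideal.subset_span hf
      rw [h2, map_zero, map_zero, Finsupp.zero_apply]
    let ψ : (R ⧸ coordIdeal e u F) →ₐ[B] D :=
      Ideal.Quotient.liftₐ _ ψ₀ (fun x hx => hker hx)
    have hψ : ψ.comp (Ideal.Quotient.mkₐ B (coordIdeal e u F)) = ψ₀ := by
      ext r
      simp only [AlgHom.comp_apply, ψ]
      rw [Ideal.Quotient.liftₐ_apply, Ideal.Quotient.mkₐ_eq_mk, Ideal.Quotient.lift_mk]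
      rfl
    refine ⟨ψ, ?_⟩
    simp only
    apply AlgHom.cancel_right (Ideal.Quotient.mkₐ_surjective B (Ideal.span F)) |>.1
    rw [key, hψ, hψ₀]

end Quot

section Main

variable {B : Type u} [CommRing B] {C : Type u} [CommRing C] [Algebra B C]
  {ι : Type u} [Fintype ι] [DecidableEq ι] (e : Module.Basis ι B C)
  {A : Type u} [CommRing A] [Algebra B A]

theorem isWeil_uMap : IsWeil (uMap (A := A) e) := fun _ _ _ => toHom_bijective e

/-- a presentation of `A` gives a presentation of its Weil restriction. -/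
theorem exists_equiv_quotient {σ : Type u} (f : MvPolynomial σ B →ₐ[B] A)
    (hf : Function.Surjective f) (F : Set (MvPolynomial σ B))
    (hF : Ideal.span F = RingHom.ker f.toRingHom) :
    Nonempty (R (A := A) e ≃ₐ[B]
      (MvPolynomial (σ × ι) B ⧸ coordIdeal e (polyU e σ) F)) := by
  have h1 : IsWeil (quotU e (polyU e σ) F) := (isWeil_polyU e σ).quotient e _ F
  let eq0 : (MvPolynomial σ B ⧸ Ideal.span F) ≃ₐ[B] A :=
    (Ideal.quotientEquivAlgOfEq B hF).trans (Ideal.quotientKerAlgEquivOfSurjective hf)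
  have h2 := h1.of_equiv eq0.symm
  exact (isWeil_uMap e).nonempty_equiv h2

theorem coordIdeal_fg (σ : Type u) (F : Finset (MvPolynomial σ B)) :
    (coordIdeal e (polyU e σ) (F : Set (MvPolynomial σ B))).FG := by
  classical
  refine ⟨(F ×ˢ (Finset.univ : Finset ι)).image (fun p =>
    (Algebra.TensorProduct.basis (MvPolynomial (σ × ι) B) e).repr (polyU e σ p.1) p.2), ?_⟩
  rw [coordIdeal]
  congr 1
  ext p
  simp only [Finset.coe_image, Set.mem_image, Finset.coe_product, Set.mem_prod, Finset.mem_coe,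
    Finset.coe_univ, Set.mem_univ, and_true, Prod.exists, Set.mem_setOf_eq]
  constructor
  · rintro ⟨f, j, hf, rfl⟩
    exact ⟨f, hf, j, rfl⟩
  · rintro ⟨f, hf, j, rfl⟩
    exact ⟨f, j, hf, rfl⟩

/-- the Weil restriction of a finitely presented algebra is finitely presented. -/
theorem finitePresentation [Algebra.FinitePresentation B A] :
    Algebra.FinitePresentation B (R (A := A) e) := by
  obtain ⟨σ, _, f, hf, hk⟩ :=
    (Algebra.FinitePresentation.iff_quotient_mvPolynomial'.{u, u, u} (R := B) (A := A)).1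
      inferInstance
  obtain ⟨F, hF⟩ := hk
  obtain ⟨eq⟩ := exists_equiv_quotient e f hf (F : Set (MvPolynomial σ B)) hF
  haveI : Finite (σ × ι) := inferInstance
  haveI : Algebra.FinitePresentation B
      (MvPolynomial (σ × ι) B ⧸ coordIdeal e (polyU e σ) (F : Set (MvPolynomial σ B))) :=
    Algebra.FinitePresentation.quotient (coordIdeal_fg e σ F)
  exact Algebra.FinitePresentation.equiv eq.symm

/-- the Weil restriction of a finitely generated algebra is finitely generated. -/
theorem finiteType [Algebra.FiniteType B A] : Algebra.FiniteType B (R (A := A) e) := by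
  obtain ⟨σ, _, f, hf⟩ :=
    (Algebra.FiniteType.iff_quotient_mvPolynomial' (R := B) (S := A)).1 inferInstance
  obtain ⟨eq⟩ := exists_equiv_quotient e f hf (RingHom.ker f.toRingHom : Set (MvPolynomial σ B))
    (Ideal.span_eq _)
  haveI : Finite (σ × ι) := inferInstance
  haveI : Algebra.FiniteType B
      (MvPolynomial (σ × ι) B ⧸ coordIdeal e (polyU e σ)
        (RingHom.ker f.toRingHom : Set (MvPolynomial σ B))) := inferInstance
  exact Algebra.FiniteType.equiv inferInstance eq.symm

end Main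

end Groth.Agent.Lib.Seat2.WeilFP
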