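import Mathlib
import Groth.Prelude.Def_Flatn
import Groth.Agent.Lib.Seat2WeilSch
import Groth.Agent.Lib.Seat2WeilFP

/-!
# Weil restriction of affine schemes: finite type / finite presentation (helper2)

Copies of `Seat2WeilCat.exists_weil` and `Seat2WeilSch.exists_representableBy` which also record
that the representing object is of finite type (finite presentation) when the target is.
-/

set_option autoImplicit false

namespace Groth.Agent.Lib.Seat2.WeilFPSch

open TensorProduct CategoryTheory CategoryTheory.Limits AlgebraicGeometry Opposite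
open Groth.Agent.Lib.Seat2.WeilRing Groth.Agent.Lib.Seat2.WeilCat Groth.Agent.Lib.Seat2.ZarRep
open Groth.Agent.Lib.Seat2.WeilSch

universe u

theorem exists_weil' {B A C : CommRingCat.{u}} (φf : B ⟶ A) (φg : B ⟶ C)
    (hfin : letI := φg.hom.toAlgebra; Module.Finite B C)
    (hfree : letI := φg.hom.toAlgebra; Module.Free B C) :
    ∃ (R : CommRingCat.{u}) (φR : B ⟶ R) (PR : CommRingCat.{u}) (inl : R ⟶ PR) (inr : C ⟶ PR)
      (u : A ⟶ PR), IsPushout φR φg inl inr ∧ φf ≫ u = φg ≫ inr ∧
      (∀ (D : CommRingCat.{u}) (φD : B ⟶ D) (P : CommRingCat.{u}) (inl' : D ⟶ P) (inr' : C ⟶ P),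
        IsPushout φD φg inl' inr' → ∀ θ : A ⟶ P, φf ≫ θ = φg ≫ inr' →
        ∃! ψ : R ⟶ D, φR ≫ ψ = φD ∧
          ∀ k : PR ⟶ P, inl ≫ k = ψ ≫ inl' → inr ≫ k = inr' → u ≫ k = θ) ∧
      (φf.hom.FinitePresentation → φR.hom.FinitePresentation) ∧
      (φf.hom.FiniteType → φR.hom.FiniteType) := by
  classical
  letI : Algebra B A := φf.hom.toAlgebra
  letI : Algebra B C := φg.hom.toAlgebra
  haveI : Module.Finite B C := hfin
  haveI : Module.Free B C := hfree
  let e := Module.Free.chooseBasis B C
  have hφg : CommRingCat.ofHom (algebraMap B C) = φg := rfl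
  have hφf : CommRingCat.ofHom (algebraMap B A) = φf := rfl
  have hstd := CommRingCat.isPushout_tensorProduct B (WeilRing.R (A := A) e) C
  rw [hφg] at hstd
  refine ⟨CommRingCat.of (WeilRing.R (A := A) e), CommRingCat.ofHom (algebraMap B _), _, _, _,
    CommRingCat.ofHom (uMap e).toRingHom, hstd, ?_, ?_, ?_, ?_⟩
  · ext b
    change (uMap e) (algebraMap B A b) = Algebra.TensorProduct.includeRight (algebraMap B C b)
    rw [AlgHom.commutes, Algebra.TensorProduct.includeRight_apply,
      Algebra.TensorProduct.algebraMap_apply']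
  · intro D φD P inl' inr' hP θ hθ
    letI : Algebra B D := φD.hom.toAlgebra
    have hφD : CommRingCat.ofHom (algebraMap B D) = φD := rfl
    have hD := CommRingCat.isPushout_tensorProduct B D C
    rw [hφg, hφD] at hD
    let ε := hD.isoIsPushout _ _ hP
    have hεl : CommRingCat.ofHom (S := D ⊗[B] C) Algebra.TensorProduct.includeLeftRingHom ≫ ε.hom
        = inl' := hD.inl_isoIsPushout_hom _ _ hP
    have hεr : CommRingCat.ofHom (S := D ⊗[B] C) Algebra.TensorProduct.includeRight.toRingHom ≫
        ε.hom = inr' := hD.inr_isoIsPushout_hom _ _ hP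
    have hεr' : inr' ≫ ε.inv =
        CommRingCat.ofHom (S := D ⊗[B] C) Algebra.TensorProduct.includeRight.toRingHom :=
      hD.inr_isoIsPushout_inv _ _ hP
    -- the algebra map θ'
    have hcomm : ∀ b : B, (θ ≫ ε.inv).hom (algebraMap B A b) = algebraMap B (D ⊗[B] C) b := by
      intro b
      have h1 : (φf ≫ θ ≫ ε.inv).hom b = (φg ≫ inr' ≫ ε.inv).hom b := by
        rw [← Category.assoc, hθ, Category.assoc]
      rw [hεr'] at h1
      change (θ ≫ ε.inv).hom (φf.hom b) = _
      refine h1.trans ?_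
      change (1 : D) ⊗ₜ[B] (algebraMap B C b) = _
      rw [Algebra.TensorProduct.algebraMap_apply']
    let θ' : A →ₐ[B] (D ⊗[B] C) := algHomOf (θ ≫ ε.inv).hom hcomm
    -- general facts about maps `k`
    have hk : ∀ (ψ₀ : WeilRing.R (A := A) e →ₐ[B] D) (k : CommRingCat.of (WeilRing.R (A := A) e ⊗[B] C) ⟶ P),
        CommRingCat.ofHom (S := WeilRing.R (A := A) e ⊗[B] C) Algebra.TensorProduct.includeLeftRingHom ≫ k
          = CommRingCat.ofHom ψ₀.toRingHom ≫ inl' →
        CommRingCat.ofHom (S := WeilRing.R (A := A) e ⊗[B] C)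
          Algebra.TensorProduct.includeRight.toRingHom ≫ k = inr' →
        k = mapHom (C := C) ψ₀ ≫ ε.hom := by
      intro ψ₀ k h1 h2
      apply hstd.hom_ext
      · rw [h1, ← hεl, ← Category.assoc, ← Category.assoc]
        congr 1
      · rw [h2, ← hεr, ← Category.assoc]
        congr 1
        ext x
        change _ = Algebra.TensorProduct.map ψ₀ (AlgHom.id B C) (1 ⊗ₜ x)
        simp
    have hu : ∀ (ψ₀ : WeilRing.R (A := A) e →ₐ[B] D),
        CommRingCat.ofHom (uMap e).toRingHom ≫
          mapHom (C := C) ψ₀ =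
        CommRingCat.ofHom (toHom e ψ₀).toRingHom := by
      intro ψ₀
      rfl
    refine ⟨CommRingCat.ofHom (pre e θ').toRingHom, ⟨?_, ?_⟩, ?_⟩
    · ext b
      change (pre e θ') (algebraMap B _ b) = φD.hom b
      rw [AlgHom.commutes]
      rfl
    · intro k h1 h2
      rw [hk (pre e θ') k h1 h2, ← Category.assoc, hu, toHom_pre]
      change (θ ≫ ε.inv) ≫ ε.hom = θ
      rw [Category.assoc, Iso.inv_hom_id, Category.comp_id]
    · rintro ψ' ⟨hψ1, hψ2⟩
      have hc' : ∀ b : B, ψ'.hom (algebraMap B (WeilRing.R (A := A) e) b) = algebraMap B D b := by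
        intro b
        have := congrArg (fun m => m.hom b) hψ1
        exact this
      let ψ'₀ : WeilRing.R (A := A) e →ₐ[B] D := algHomOf ψ'.hom hc'
      have hψ'₀ : CommRingCat.ofHom ψ'₀.toRingHom = ψ' := rfl
      have h3 := hψ2 (mapHom (C := C) ψ'₀
          ≫ ε.hom) ?_ ?_
      · rw [← Category.assoc, hu] at h3
        have h4 : toHom e ψ'₀ = θ' := by
          ext a
          have h5 := congrArg (fun m => (m ≫ ε.inv).hom a) h3
          simp only [Category.assoc, Iso.hom_inv_id, Category.comp_id] at h5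
          exact h5
        have h6 : ψ'₀ = pre e θ' := toHom_injective e (h4.trans (toHom_pre e θ').symm)
        rw [← hψ'₀, h6]
      · rw [← hεl, ← Category.assoc, ← Category.assoc]
        congr 1
      · rw [← hεr, ← Category.assoc]
        congr 1
        ext x
        change Algebra.TensorProduct.map ψ'₀ (AlgHom.id B C) (1 ⊗ₜ x) = _
        simp
  · intro h
    have h' : Algebra.FinitePresentation B A := h
    exact RingHom.finitePresentation_algebraMap.2 (WeilFP.finitePresentation e)
  · intro h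
    have h' : Algebra.FiniteType B A := h
    exact RingHom.finiteType_algebraMap.2 (WeilFP.finiteType e)


variable {Z X S : Scheme.{u}} (g : Z ⟶ S) (f : X ⟶ S)

section Main

variable [IsAffine Z] [IsAffine X] [IsAffine S]

theorem exists_representableBy'
    (hfin : letI := (g.appTop).hom.toAlgebra; Module.Finite Γ(S, ⊤) Γ(Z, ⊤))
    (hfree : letI := (g.appTop).hom.toAlgebra; Module.Free Γ(S, ⊤) Γ(Z, ⊤)) :
    ∃ W : Over S, IsAffine W.left ∧ Nonempty ((Flatn.morS g f).RepresentableBy W) ∧
      (LocallyOfFinitePresentation f → LocallyOfFinitePresentation W.hom) ∧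
      (LocallyOfFiniteType f → LocallyOfFiniteType W.hom) := by
  obtain ⟨R, φR, PR, inl, inr, u, hPR, hu, huniv, hfp, hft⟩ :=
    exists_weil' f.appTop g.appTop hfin hfree
  -- the representing object
  obtain ⟨wh, hwh⟩ := exists_hom_appTop (T := Spec R) (Y := S) (φR ≫ (Scheme.ΓSpecIso R).inv)
  let W : Over S := Over.mk wh
  have hPW : IsPushout wh.appTop g.appTop (pullback.fst wh g).appTop (pullback.snd wh g).appTop :=
    isPushout_appTop_of_isPullback (IsPullback.of_hasPullback wh g)
  let d : PR ⟶ Γ(pullback wh g, ⊤) :=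
    hPR.desc ((Scheme.ΓSpecIso R).inv ≫ (pullback.fst wh g).appTop) (pullback.snd wh g).appTop
      (by rw [← Category.assoc, ← hwh]; exact hPW.w)
  have hd1 : inl ≫ d = (Scheme.ΓSpecIso R).inv ≫ (pullback.fst wh g).appTop :=
    hPR.inl_desc _ _ _
  have hd2 : inr ≫ d = (pullback.snd wh g).appTop := hPR.inr_desc _ _ _
  -- the universal element
  obtain ⟨ul, hul⟩ := exists_hom_appTop (T := pullback wh g) (Y := X) (u ≫ d)
  have hulw : ul ≫ f = pullback.snd wh g ≫ g := by
    apply ext_of_isAffine
    rw [Scheme.Hom.comp_appTop, Scheme.Hom.comp_appTop, hul, ← Category.assoc, hu,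
      Category.assoc, hd2]
  let ū : (Over.map g).obj ((Over.pullback g).obj W) ⟶ Over.mk f := Over.homMk ul hulw
  refine ⟨W, inferInstanceAs (IsAffine (Spec R)),
    ⟨representableBy (F := Flatn.morS g f) (W := W) (ū := ū) (isSep_morS g f) ?_⟩, ?_, ?_⟩
  rotate_left
  · intro h
    have h1 : f.appTop.hom.FinitePresentation :=
      (HasRingHomProperty.iff_of_isAffine (P := @LocallyOfFinitePresentation)).1 h
    have h2 := hfp h1
    show LocallyOfFinitePresentation wh
    haveI : IsAffine (Spec R) := inferInstance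
    rw [HasRingHomProperty.iff_of_isAffine (P := @LocallyOfFinitePresentation), hwh]
    exact RingHom.finitePresentation_respectsIso.1 φR.hom
      (Scheme.ΓSpecIso R).symm.commRingCatIsoToRingEquiv h2
  · intro h
    have h1 : f.appTop.hom.FiniteType :=
      (HasRingHomProperty.iff_of_isAffine (P := @LocallyOfFiniteType)).1 h
    have h2 := hft h1
    show LocallyOfFiniteType wh
    haveI : IsAffine (Spec R) := inferInstance
    rw [HasRingHomProperty.iff_of_isAffine (P := @LocallyOfFiniteType), hwh]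
    exact RingHom.finiteType_respectsIso.1 φR.hom
      (Scheme.ΓSpecIso R).symm.commRingCatIsoToRingEquiv h2
  intro T hT
  have hP : IsPushout T.hom.appTop g.appTop (pullback.fst T.hom g).appTop
      (pullback.snd T.hom g).appTop :=
    isPushout_appTop_of_isPullback (IsPullback.of_hasPullback T.hom g)
  -- facts about a morphism `a : T ⟶ W`
  have F1 : ∀ a : T ⟶ W, φR ≫ (Scheme.ΓSpecIso R).inv ≫ a.left.appTop = T.hom.appTop := by
    intro a
    rw [← Category.assoc, ← hwh, ← Scheme.Hom.comp_appTop]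
    exact congrArg Scheme.Hom.appTop (Over.w a)
  have F2 : ∀ a : T ⟶ W, inl ≫ d ≫ (bc g a).appTop =
      ((Scheme.ΓSpecIso R).inv ≫ a.left.appTop) ≫ (pullback.fst T.hom g).appTop := by
    intro a
    rw [← Category.assoc, hd1, Category.assoc, Category.assoc, ← Scheme.Hom.comp_appTop,
      ← Scheme.Hom.comp_appTop]
    congr 2
    exact pullback.lift_fst _ _ _
  have F3 : ∀ a : T ⟶ W, inr ≫ d ≫ (bc g a).appTop = (pullback.snd T.hom g).appTop := by
    intro a
    rw [← Category.assoc, hd2, ← Scheme.Hom.comp_appTop]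
    congr 1
    exact pullback.lift_snd _ _ _
  have F4 : ∀ a : T ⟶ W,
      ((eta (Flatn.morS g f) W ū T a : (Flatn.morS g f).obj (op T)) :
        (Over.map g).obj ((Over.pullback g).obj T) ⟶ Over.mk f).left.appTop =
      u ≫ d ≫ (bc g a).appTop := by
    intro a
    change (bc g a ≫ ul).appTop = _
    rw [Scheme.Hom.comp_appTop, hul, Category.assoc]
  have F5 : ∀ (a : T ⟶ W) (k : PR ⟶ Γ(pullback T.hom g, ⊤)),
      inl ≫ k = ((Scheme.ΓSpecIso R).inv ≫ a.left.appTop) ≫ (pullback.fst T.hom g).appTop →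
      inr ≫ k = (pullback.snd T.hom g).appTop → k = d ≫ (bc g a).appTop := by
    intro a k h1 h2
    apply hPR.hom_ext
    · rw [h1, F2]
    · rw [h2, F3]
  constructor
  · -- injectivity
    intro a b hab
    have hθ : f.appTop ≫ (u ≫ d ≫ (bc g a).appTop) = g.appTop ≫ (pullback.snd T.hom g).appTop := by
      rw [← Category.assoc, hu, Category.assoc, F3]
    obtain ⟨ψ, -, hψ⟩ := huniv _ T.hom.appTop _ _ _ hP (u ≫ d ≫ (bc g a).appTop) hθ
    have hab' : u ≫ d ≫ (bc g a).appTop = u ≫ d ≫ (bc g b).appTop := by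
      rw [← F4 a, ← F4 b, hab]
    have ha := hψ ((Scheme.ΓSpecIso R).inv ≫ a.left.appTop)
      ⟨by rw [F1], fun k h1 h2 => by rw [F5 a k h1 h2]⟩
    have hb := hψ ((Scheme.ΓSpecIso R).inv ≫ b.left.appTop)
      ⟨by rw [F1], fun k h1 h2 => by rw [F5 b k h1 h2, hab']⟩
    have h3 : a.left.appTop = b.left.appTop := by
      have := ha.trans hb.symm
      exact (cancel_epi _).mp this
    apply Over.OverMorphism.ext
    haveI : IsAffine W.left := inferInstanceAs (IsAffine (Spec R))
    exact ext_of_isAffine h3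
  · -- surjectivity
    intro m
    change (Over.map g).obj ((Over.pullback g).obj T) ⟶ Over.mk f at m
    have hθ : f.appTop ≫ m.left.appTop = g.appTop ≫ (pullback.snd T.hom g).appTop := by
      rw [← Scheme.Hom.comp_appTop, ← Scheme.Hom.comp_appTop]
      exact congrArg Scheme.Hom.appTop (Over.w m)
    obtain ⟨ψ, ⟨hψ1, hψ2⟩, -⟩ := huniv _ T.hom.appTop _ _ _ hP m.left.appTop hθ
    obtain ⟨al, hal⟩ := exists_hom_appTop (T := T.left) (Y := Spec R) ((Scheme.ΓSpecIso R).hom ≫ ψ)
    have halw : al ≫ wh = T.hom := by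
      apply ext_of_isAffine
      rw [Scheme.Hom.comp_appTop, hwh, hal, Category.assoc, Iso.inv_hom_id_assoc, hψ1]
    let a : T ⟶ W := Over.homMk al halw
    have hψa : (Scheme.ΓSpecIso R).inv ≫ a.left.appTop = ψ := by
      change (Scheme.ΓSpecIso R).inv ≫ al.appTop = ψ
      rw [hal, Iso.inv_hom_id_assoc]
    refine ⟨a, ?_⟩
    apply Over.OverMorphism.ext
    haveI : IsAffine (Over.mk f).left := inferInstanceAs (IsAffine X)
    apply ext_of_isAffine
    rw [F4 a]
    apply hψ2
    · rw [F2 a, hψa]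
    · rw [F3 a]

end Main

end Groth.Agent.Lib.Seat2.WeilFPSch
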