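import Mathlib
import Groth.Prelude.Def_AlgSp
import Groth.Agent.Lib.Helper12ZarGlue

/-!
# Zariski-local representability for presheaves on `Over S` (seat 2)

A wrapper around prior `Helper12ZarGlue.exists_iso`: a presheaf `F : (Over S)ᵒᵖ ⥤ Type u` whose
lift to `Type (u+1)` is an fppf sheaf and which is covered by open subfunctors represented by
`X i` (with universal elements `ξ i`) is representable.
-/

set_option autoImplicit false
universe u

namespace Groth.Agent.Lib.Seat2.LocRep

open CategoryTheory Limits AlgebraicGeometry Opposite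
open Groth.Agent.S13210 Groth.Agent.Lib.Helper12.OpenSub Groth.Agent.Lib.Helper12.ZarGlue

variable {S : Scheme.{u}}

section

variable (F : (Over S)ᵒᵖ ⥤ Type u)
  (hF : Presheaf.IsSheaf (AlgSp.J S) (F ⋙ uliftFunctor.{u + 1}))

/-- the fppf sheaf attached to `F`. -/
noncomputable def G : AlgSp.Sp S := ⟨F ⋙ uliftFunctor.{u + 1}, hF⟩

/-- the point of `G` attached to a section of `F`. -/
noncomputable def pt {T : Over S} (η : F.obj (op T)) : (AlgSp.yon S).obj T ⟶ G F hF :=
  (yEquiv T (G F hF)).symm ⟨η⟩

/-- the section of `F` attached to a point of `G`. -/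
noncomputable def sec {T : Over S} (g : (AlgSp.yon S).obj T ⟶ G F hF) : F.obj (op T) :=
  (yEquiv T (G F hF) g).down

@[simp] lemma sec_pt {T : Over S} (η : F.obj (op T)) : sec F hF (pt F hF η) = η := by
  unfold sec pt
  rw [Equiv.apply_symm_apply]

@[simp] lemma pt_sec {T : Over S} (g : (AlgSp.yon S).obj T ⟶ G F hF) :
    pt F hF (sec F hF g) = g := by
  unfold sec pt
  exact (yEquiv T (G F hF)).symm_apply_apply g

lemma map_pt {T T' : Over S} (c : T' ⟶ T) (η : F.obj (op T)) :
    (AlgSp.yon S).map c ≫ pt F hF η = pt F hF (F.map c.op η) :=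
  (yEquiv_symm_map (X := G F hF) c ⟨η⟩).symm

lemma sec_map {T T' : Over S} (c : T' ⟶ T) (g : (AlgSp.yon S).obj T ⟶ G F hF) :
    sec F hF ((AlgSp.yon S).map c ≫ g) = F.map c.op (sec F hF g) := by
  conv_lhs => rw [← pt_sec F hF g, map_pt, sec_pt]

lemma pt_injective {T : Over S} {η η' : F.obj (op T)} (h : pt F hF η = pt F hF η') : η = η' := by
  have := congrArg (sec F hF) h
  simpa using this

/-- an `Over S`-morphism from an open subscheme of `T`. -/
noncomputable def opensOver (T : Over S) (V : T.left.Opens) : Over S := Over.mk (V.ι ≫ T.hom)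

/-- the inclusion. -/
noncomputable def opensι (T : Over S) (V : T.left.Opens) : opensOver T V ⟶ T := Over.homMk V.ι rfl

lemma exists_lift_opens (T : Over S) (V : T.left.Opens) {T' : Over S} (c : T' ⟶ T)
    (hc : Set.range c.left ⊆ V) : ∃ d : T' ⟶ opensOver T V, d ≫ opensι T V = c := by
  have hrange : Set.range c.left ⊆ Set.range V.ι := by
    rw [V.range_ι]; exact hc
  let d₀ : T'.left ⟶ V.toScheme := IsOpenImmersion.lift V.ι c.left hrange
  have hd₀ : d₀ ≫ V.ι = c.left := IsOpenImmersion.lift_fac _ _ _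
  refine ⟨Over.homMk d₀ ?_, ?_⟩
  · show d₀ ≫ V.ι ≫ T.hom = T'.hom
    rw [← Category.assoc, hd₀]; exact Over.w c
  · ext1; exact hd₀

include hF in
/-- **Zariski-local representability** on `Over S`. -/
theorem exists_representableBy {ι : Type u} (X : ι → Over S) (ξ : ∀ i, F.obj (op (X i)))
    (V : ∀ (_ : ι) (T : Over S), F.obj (op T) → T.left.Opens)
    (hV : ∀ (i : ι) (T : Over S) (η : F.obj (op T)) (T' : Over S) (c : T' ⟶ T),
      (∃ b : T' ⟶ X i, F.map b.op (ξ i) = F.map c.op η) ↔ Set.range c.left ⊆ V i T η)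
    (huniq : ∀ (i : ι) (T' : Over S) (b b' : T' ⟶ X i),
      F.map b.op (ξ i) = F.map b'.op (ξ i) → b = b')
    (hcov : ∀ (T : Over S) (η : F.obj (op T)) (t : T.left), ∃ i, t ∈ V i T η) :
    ∃ (W : Over S) (e : F.RepresentableBy W) (k : ∀ i, X i ⟶ W),
      (∀ i, e.homEquiv (k i) = ξ i) ∧ ∀ i, IsOpenImmersion (k i).left := by
  let f : ∀ i, (AlgSp.yon S).obj (X i) ⟶ G F hF := fun i => pt F hF (ξ i)
  -- commutation criterion
  have hcomm : ∀ (i : ι) {T T' : Over S} (b : T' ⟶ X i) (c : T' ⟶ T)
      (g : (AlgSp.yon S).obj T ⟶ G F hF),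
      (AlgSp.yon S).map b ≫ f i = (AlgSp.yon S).map c ≫ g ↔
        F.map b.op (ξ i) = F.map c.op (sec F hF g) := by
    intro i T T' b c g
    constructor
    · intro h
      have := congrArg (sec F hF) h
      rwa [sec_map, sec_map, sec_pt] at this
    · intro h
      rw [map_pt, ← pt_sec F hF g, map_pt, h]
  have hf : ∀ i, AlgSp.RepWith @IsOpenImmersion (f i) := by
    intro i
    apply MorphismProperty.relative.of_exists
    intro T g
    let η := sec F hF g
    have hsub : Set.range (opensι T (V i T η)).left ⊆ V i T η := by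
      show Set.range (V i T η).ι ⊆ _
      rw [(V i T η).range_ι]
    obtain ⟨b, hb⟩ := (hV i T η _ (opensι T (V i T η))).2 hsub
    refine ⟨opensOver T (V i T η), (AlgSp.yon S).map b, opensι T (V i T η), ?_, ?_⟩
    · refine isPullback_of_yon ((hcomm i b _ g).2 hb) ?_
      intro T'' b'' c'' hbc
      obtain ⟨b₀, rfl⟩ := (AlgSp.yon S).map_surjective b''
      obtain ⟨c₀, rfl⟩ := (AlgSp.yon S).map_surjective c''
      have h1 := (hcomm i b₀ c₀ g).1 hbc
      have h2 : Set.range c₀.left ⊆ V i T η := (hV i T η _ c₀).1 ⟨b₀, h1⟩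
      obtain ⟨d, hd⟩ := exists_lift_opens T (V i T η) c₀ h2
      have hdb : d ≫ b = b₀ := by
        apply huniq
        rw [op_comp, F.map_comp, types_comp_apply, hb, ← types_comp_apply (F.map _) (F.map _),
          ← F.map_comp, ← op_comp, hd]
        exact h1.symm
      refine ⟨(AlgSp.yon S).map d, ⟨?_, ?_⟩, ?_⟩
      · rw [← Functor.map_comp, hdb]
      · rw [← Functor.map_comp, hd]
      · rintro a ⟨-, ha2⟩
        obtain ⟨a₀, rfl⟩ := (AlgSp.yon S).map_surjective a
        rw [← Functor.map_comp] at ha2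
        have h := (AlgSp.yon S).map_injective ha2
        congr 1
        haveI : Mono (opensι T (V i T η)) := by
          haveI : Mono (opensι T (V i T η)).left := inferInstanceAs (Mono (V i T η).ι)
          exact Over.mono_of_mono_left _
        rw [← cancel_mono (opensι T (V i T η)), h, hd]
    · show IsOpenImmersion (V i T η).ι
      infer_instance
  have hs : JointlySurjective hf := by
    intro T g t
    obtain ⟨i, hi⟩ := hcov T (sec F hF g) t
    refine ⟨i, ?_⟩
    let η := sec F hF g
    have hsub : Set.range (opensι T (V i T η)).left ⊆ V i T η := by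
      show Set.range (V i T η).ι ⊆ _
      rw [(V i T η).range_ι]
    obtain ⟨b, hb⟩ := (hV i T η _ (opensι T (V i T η))).2 hsub
    have hsq := (hf i).rep.isPullback g
    have hw : (AlgSp.yon S).map b ≫ f i = (AlgSp.yon S).map (opensι T (V i T η)) ≫ g :=
      (hcomm i b _ g).2 hb
    obtain ⟨d, hd⟩ := (AlgSp.yon S).map_surjective (hsq.lift _ _ hw)
    have hd2 : d ≫ (hf i).rep.snd g = opensι T (V i T η) := by
      apply (AlgSp.yon S).map_injective
      rw [Functor.map_comp, hd]
      exact hsq.lift_snd _ _ hw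
    have ht : t ∈ Set.range (V i T η).ι := by
      rw [(V i T η).range_ι]; exact hi
    obtain ⟨t', rfl⟩ := ht
    refine ⟨d.left t', ?_⟩
    rw [← Scheme.Hom.comp_apply, ← Over.comp_left, hd2]
    rfl
  obtain ⟨W, e', k, hk, hko⟩ := exists_iso hf hs
  have hnat : ∀ {T T' : Over S} (c : T' ⟶ T) (φ : T ⟶ W),
      sec F hF ((AlgSp.yon S).map (c ≫ φ) ≫ e'.hom) =
        F.map c.op (sec F hF ((AlgSp.yon S).map φ ≫ e'.hom)) := by
    intro T T' c φ
    rw [Functor.map_comp, Category.assoc, sec_map]
  refine ⟨W, ?_, k, ?_, hko⟩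
  · exact
    { homEquiv := fun {T} =>
        { toFun := fun φ => sec F hF ((AlgSp.yon S).map φ ≫ e'.hom)
          invFun := fun η => (AlgSp.yon S).preimage (pt F hF η ≫ e'.inv)
          left_inv := fun φ => by
            apply (AlgSp.yon S).map_injective
            rw [Functor.map_preimage, pt_sec, Category.assoc, e'.hom_inv_id, Category.comp_id]
          right_inv := fun η => by
            show sec F hF ((AlgSp.yon S).map ((AlgSp.yon S).preimage (pt F hF η ≫ e'.inv)) ≫
              e'.hom) = η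
            rw [Functor.map_preimage, Category.assoc, e'.inv_hom_id, Category.comp_id, sec_pt] }
      homEquiv_comp := fun {T T'} c φ => hnat c φ }
  · intro i
    show sec F hF ((AlgSp.yon S).map (k i) ≫ e'.hom) = ξ i
    rw [hk i]
    exact sec_pt F hF (ξ i)

end

end Groth.Agent.Lib.Seat2.LocRep
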