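import Mathlib
import Groth.Prelude.Def_Flatn
import Groth.Agent.Lib.Seat2WeilSch

/-!
# Localising `Flatn.morS` on the base (seat 2)

For an open `U ⊆ S`, the functor `morS (g ∣_ U) (f ∣_ U)` on `Over U` is identified with `morS g f`
on the objects of `Over S` lying over `U`; hence the affine finite free representability result
`Seat2WeilSch.exists_representableBy` yields local representing objects for `morS g f`.
-/

set_option autoImplicit false
universe u

namespace Groth.Agent.Lib.Seat2.WeilLoc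

open CategoryTheory CategoryTheory.Limits AlgebraicGeometry Opposite
open Groth.Agent.Lib.Seat2.WeilSch

variable {Z X S : Scheme.{u}} (g : Z ⟶ S) (f : X ⟶ S) (U : S.Opens)

lemma isPullback_g : IsPullback (g ⁻¹ᵁ U).ι (g ∣_ U) g U.ι :=
  (isPullback_morphismRestrict g U).flip

/-- the object of `Over S` attached to an object of `Over U`. -/
noncomputable abbrev ext (T : Over (U : Scheme.{u})) : Over S := (Over.map U.ι).obj T

/-- the comparison of fibre products. -/
lemma isPullback_θ (T : Over (U : Scheme.{u})) :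
    IsPullback (pullback.fst T.hom (g ∣_ U)) (pullback.snd T.hom (g ∣_ U) ≫ (g ⁻¹ᵁ U).ι)
      (ext U T).hom g :=
  ((IsPullback.of_hasPullback T.hom (g ∣_ U)).flip.paste_horiz (isPullback_g g U)).flip

/-- `T ×_U g⁻¹U ≅ T ×_S Z`. -/
noncomputable def θ (T : Over (U : Scheme.{u})) :
    pullback T.hom (g ∣_ U) ≅ pullback (ext U T).hom g :=
  (isPullback_θ g U T).isoPullback

@[reassoc (attr := simp)]
lemma θ_hom_fst (T : Over (U : Scheme.{u})) :
    (θ g U T).hom ≫ pullback.fst (ext U T).hom g = pullback.fst T.hom (g ∣_ U) :=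
  (isPullback_θ g U T).isoPullback_hom_fst

@[reassoc (attr := simp)]
lemma θ_hom_snd (T : Over (U : Scheme.{u})) :
    (θ g U T).hom ≫ pullback.snd (ext U T).hom g =
      pullback.snd T.hom (g ∣_ U) ≫ (g ⁻¹ᵁ U).ι :=
  (isPullback_θ g U T).isoPullback_hom_snd

@[reassoc (attr := simp)]
lemma θ_inv_fst (T : Over (U : Scheme.{u})) :
    (θ g U T).inv ≫ pullback.fst T.hom (g ∣_ U) = pullback.fst (ext U T).hom g :=
  (isPullback_θ g U T).isoPullback_inv_fst

@[reassoc (attr := simp)]
lemma θ_inv_snd (T : Over (U : Scheme.{u})) :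
    (θ g U T).inv ≫ pullback.snd T.hom (g ∣_ U) ≫ (g ⁻¹ᵁ U).ι =
      pullback.snd (ext U T).hom g :=
  (isPullback_θ g U T).isoPullback_inv_snd

/-- sections of `morS (g ∣_ U) (f ∣_ U)` as morphisms of schemes. -/
abbrev SecU (T : Over (U : Scheme.{u})) : Type u :=
  {β : pullback T.hom (g ∣_ U) ⟶ (f ⁻¹ᵁ U : Scheme.{u}) //
    β ≫ (f ∣_ U) = pullback.snd T.hom (g ∣_ U) ≫ (g ∣_ U)}

/-- sections of `morS g f` over `ext T` as morphisms of schemes. -/
abbrev SecS (T : Over (U : Scheme.{u})) : Type u :=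
  {b : pullback (ext U T).hom g ⟶ X // b ≫ f = pullback.snd (ext U T).hom g ≫ g}

/-- the identification on the level of morphisms of schemes. -/
noncomputable def Φ₀ (T : Over (U : Scheme.{u})) : SecU g f U T ≃ SecS g f U T where
  toFun β := ⟨(θ g U T).inv ≫ β.1 ≫ (f ⁻¹ᵁ U).ι, by
    rw [Category.assoc, Category.assoc, (isPullback_g f U).w, reassoc_of% β.2,
      ← (isPullback_g g U).w, θ_inv_snd_assoc]⟩
  invFun b := ⟨(isPullback_g f U).lift ((θ g U T).hom ≫ b.1)
      (pullback.fst T.hom (g ∣_ U) ≫ T.hom) (by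
        rw [Category.assoc, b.2, θ_hom_snd_assoc, (isPullback_g g U).w, Category.assoc,
          pullback.condition_assoc]),
    by rw [IsPullback.lift_snd, pullback.condition]⟩
  left_inv β := by
    apply Subtype.ext
    apply (isPullback_g f U).hom_ext
    · rw [IsPullback.lift_fst]
      simp
    · rw [IsPullback.lift_snd, β.2, pullback.condition]
  right_inv b := by
    apply Subtype.ext
    show (θ g U T).inv ≫ (isPullback_g f U).lift _ _ _ ≫ (f ⁻¹ᵁ U).ι = b.1
    rw [IsPullback.lift_fst, Iso.inv_hom_id_assoc]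

/-- sections of `morS (g ∣_ U) (f ∣_ U)` over `T`, unbundled. -/
noncomputable def secUEquiv (T : Over (U : Scheme.{u})) :
    (Flatn.morS (g ∣_ U) (f ∣_ U)).obj (op T) ≃ SecU g f U T where
  toFun β := ⟨β.left, Over.w β⟩
  invFun β := Over.homMk β.1 β.2
  left_inv _ := rfl
  right_inv _ := rfl

/-- sections of `morS g f` over `ext T`, unbundled. -/
noncomputable def secSEquiv (T : Over (U : Scheme.{u})) :
    (Flatn.morS g f).obj (op (ext U T)) ≃ SecS g f U T where
  toFun b := ⟨b.left, Over.w b⟩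
  invFun b := Over.homMk b.1 b.2
  left_inv _ := rfl
  right_inv _ := rfl

/-- the identification of sections. -/
noncomputable def Φ (T : Over (U : Scheme.{u})) :
    (Flatn.morS (g ∣_ U) (f ∣_ U)).obj (op T) ≃ (Flatn.morS g f).obj (op (ext U T)) :=
  ((secUEquiv g f U T).trans (Φ₀ g f U T)).trans (secSEquiv g f U T).symm

lemma Φ_left (T : Over (U : Scheme.{u})) (β : (Flatn.morS (g ∣_ U) (f ∣_ U)).obj (op T)) :
    (Φ g f U T β : (Over.map g).obj ((Over.pullback g).obj (ext U T)) ⟶ Over.mk f).left =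
      (θ g U T).inv ≫ (β : (Over.map (g ∣_ U)).obj ((Over.pullback (g ∣_ U)).obj T) ⟶
        Over.mk (f ∣_ U)).left ≫ (f ⁻¹ᵁ U).ι := rfl

lemma bc_θ {T T' : Over (U : Scheme.{u})} (φ : T' ⟶ T) :
    bc (g ∣_ U) φ ≫ (θ g U T).hom = (θ g U T').hom ≫ bc g ((Over.map U.ι).map φ) := by
  apply pullback.hom_ext
  · rw [Category.assoc, Category.assoc, θ_hom_fst]
    erw [pullback.lift_fst, pullback.lift_fst]
    rw [θ_hom_fst_assoc]
    rfl
  · rw [Category.assoc, Category.assoc, θ_hom_snd]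
    erw [pullback.lift_snd, pullback.lift_snd_assoc]
    rw [θ_hom_snd]

lemma Φ_natural {T T' : Over (U : Scheme.{u})} (φ : T' ⟶ T)
    (β : (Flatn.morS (g ∣_ U) (f ∣_ U)).obj (op T)) :
    Φ g f U T' ((Flatn.morS (g ∣_ U) (f ∣_ U)).map φ.op β) =
      (Flatn.morS g f).map ((Over.map U.ι).map φ).op (Φ g f U T β) := by
  apply Over.OverMorphism.ext
  rw [Φ_left, morS_map_left, morS_map_left, Φ_left]
  have h := bc_θ g U φ
  have h' : (θ g U T').inv ≫ bc (g ∣_ U) φ = bc g ((Over.map U.ι).map φ) ≫ (θ g U T).inv := by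
    rw [Iso.inv_comp_eq, ← Category.assoc, Iso.eq_comp_inv]
    exact h
  simp only [Category.assoc]
  rw [reassoc_of% h']

/-- **Local representing objects** for `morS g f` over an affine open `U` over which `Z` is finite
free and `X` is affine. -/
theorem exists_local_rep (hU : IsAffineOpen U) (hZ : IsAffineOpen (g ⁻¹ᵁ U))
    (hX : IsAffineOpen (f ⁻¹ᵁ U))
    (hfin : letI := ((g ∣_ U).appTop).hom.toAlgebra
      Module.Finite Γ((U : Scheme.{u}), ⊤) Γ((g ⁻¹ᵁ U : Scheme.{u}), ⊤))
    (hfree : letI := ((g ∣_ U).appTop).hom.toAlgebra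
      Module.Free Γ((U : Scheme.{u}), ⊤) Γ((g ⁻¹ᵁ U : Scheme.{u}), ⊤)) :
    ∃ (W : Over (U : Scheme.{u})) (ξ : (Flatn.morS g f).obj (op (ext U W))), IsAffine W.left ∧
      ∀ T : Over (U : Scheme.{u}), Function.Bijective
        (fun b : T ⟶ W => (Flatn.morS g f).map ((Over.map U.ι).map b).op ξ) := by
  haveI : IsAffine (U : Scheme.{u}) := hU
  haveI : IsAffine (g ⁻¹ᵁ U : Scheme.{u}) := hZ
  haveI : IsAffine (f ⁻¹ᵁ U : Scheme.{u}) := hX
  obtain ⟨W, hW, ⟨e⟩⟩ := exists_representableBy (g ∣_ U) (f ∣_ U) hfin hfree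
  refine ⟨W, Φ g f U W (e.homEquiv (𝟙 W)), hW, fun T => ?_⟩
  have key : (fun b : T ⟶ W => (Flatn.morS g f).map ((Over.map U.ι).map b).op
      (Φ g f U W (e.homEquiv (𝟙 W)))) = fun b => Φ g f U T (e.homEquiv b) := by
    funext b
    rw [← Φ_natural, e.homEquiv_eq b]
  rw [key]
  exact (Φ g f U T).bijective.comp e.homEquiv.bijective

end Groth.Agent.Lib.Seat2.WeilLoc
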