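import Mathlib
import Groth.Prelude.Def_AlgSp
import Groth.Prelude.Def_Flatn
import Groth.Prelude.Def_Mor2
import Groth.Agent.Lib.Seat2LocRep
import Groth.Agent.Lib.Seat2WeilLoc
import Groth.Agent.Lib.Seat2FreeCover

/-!
# Gluing local Weil restrictions (seat 2)

`Flatn.morS g f` is an fppf sheaf on `Over S`; local representing objects over an open cover of `S`
glue (through `Seat2LocRep.exists_representableBy`) to a representing object over `S`, whose
preimages of the members of the cover are the local representing objects.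
-/

set_option autoImplicit false
universe u

namespace Groth.Agent.Lib.Seat2.WeilGlue

open CategoryTheory CategoryTheory.Limits AlgebraicGeometry Opposite
open Groth.Agent.Lib.Seat2.WeilLoc Groth.Agent.Lib.Seat2.LocRep Groth.Agent.Lib.Seat2.FreeCover

variable {Z X S : Scheme.{u}} (g : Z ⟶ S) (f : X ⟶ S)

/-- `morS g f` is an fppf sheaf. -/
theorem isSheaf_morS :
    Presheaf.IsSheaf (AlgSp.J S) (Flatn.morS g f ⋙ uliftFunctor.{u + 1}) := by
  haveI : (Over.pullback g ⋙ Over.map g).IsContinuous (AlgSp.J S) (AlgSp.J S) :=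
    Functor.isContinuous_comp (Over.pullback g) (Over.map g) (AlgSp.J S) (AlgSp.J Z) (AlgSp.J S)
  exact Functor.op_comp_isSheaf (Over.pullback g ⋙ Over.map g) (AlgSp.J S) (AlgSp.J S)
    ((AlgSp.yon S).obj (Over.mk f))

section Local

variable (U : S.Opens)

/-- an `S`-scheme whose image lies in `U` comes from a `U`-scheme. -/
lemma exists_iso_ext (T' : Over S) (hT' : Set.range T'.hom ⊆ U) :
    ∃ (T'' : Over (U : Scheme.{u})), Nonempty (T' ≅ ext U T'') := by
  have hrange : Set.range T'.hom ⊆ Set.range U.ι := by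
    rw [U.range_ι]; exact hT'
  let t : T'.left ⟶ (U : Scheme.{u}) := IsOpenImmersion.lift U.ι T'.hom hrange
  have ht : t ≫ U.ι = T'.hom := IsOpenImmersion.lift_fac _ _ _
  refine ⟨Over.mk t, ⟨Over.isoMk (Iso.refl _) ?_⟩⟩
  show 𝟙 _ ≫ (t ≫ U.ι) = T'.hom
  rw [Category.id_comp, ht]

variable {U} in
/-- the local universal property transported to `Over S`. -/
lemma bijective_of_local {F : (Over S)ᵒᵖ ⥤ Type u} (W : Over (U : Scheme.{u}))
    (ξ : F.obj (op (ext U W)))
    (hbij : ∀ T : Over (U : Scheme.{u}), Function.Bijective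
      (fun b : T ⟶ W => F.map ((Over.map U.ι).map b).op ξ))
    (T' : Over S) (hT' : Set.range T'.hom ⊆ U) :
    Function.Bijective (fun b : T' ⟶ ext U W => F.map b.op ξ) := by
  obtain ⟨T'', ⟨j⟩⟩ := exists_iso_ext U T' hT'
  let α : (T'' ⟶ W) → (T' ⟶ ext U W) := fun b₀ => j.hom ≫ (Over.map U.ι).map b₀
  have hα : Function.Bijective α := by
    constructor
    · intro b₀ b₁ h
      have h' : (Over.map U.ι).map b₀ = (Over.map U.ι).map b₁ := (cancel_epi j.hom).1 h
      ext1
      have h'' := congrArg CommaMorphism.left h'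
      exact h''
    · intro b
      let b' : ext U T'' ⟶ ext U W := j.inv ≫ b
      have hw : b'.left ≫ W.hom = T''.hom := by
        rw [← cancel_mono U.ι, Category.assoc]
        exact Over.w b'
      refine ⟨Over.homMk b'.left hw, ?_⟩
      show j.hom ≫ (Over.map U.ι).map (Over.homMk b'.left hw) = b
      have : (Over.map U.ι).map (Over.homMk b'.left hw) = b' := by
        ext1; rfl
      rw [this, Iso.hom_inv_id_assoc]
  have hcomp : (fun b : T' ⟶ ext U W => F.map b.op ξ) ∘ α =
      (F.map j.hom.op) ∘ (fun b : T'' ⟶ W => F.map ((Over.map U.ι).map b).op ξ) := by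
    funext b₀
    show F.map (j.hom ≫ (Over.map U.ι).map b₀).op ξ = F.map j.hom.op (F.map _ ξ)
    rw [op_comp, F.map_comp]
    rfl
  have hiso : Function.Bijective (F.map j.hom.op) := by
    haveI : IsIso (F.map j.hom.op) := inferInstance
    exact (isIso_iff_bijective _).1 inferInstance
  rw [← Function.Bijective.of_comp_iff _ hα, hcomp]
  exact hiso.comp (hbij T'')

end Local

/-- **Gluing local representing objects of `morS`** along an open cover of the base. -/
theorem exists_representableBy_of_local {ι : Type u} (U : ι → S.Opens)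
    (hcov : ∀ s : S, ∃ i, s ∈ U i)
    (W : ∀ i, Over (U i : Scheme.{u})) (ξ : ∀ i, (Flatn.morS g f).obj (op (ext (U i) (W i))))
    (hbij : ∀ i (T : Over (U i : Scheme.{u})), Function.Bijective
      (fun b : T ⟶ W i => (Flatn.morS g f).map ((Over.map (U i).ι).map b).op (ξ i))) :
    ∃ (W' : Over S) (e : (Flatn.morS g f).RepresentableBy W') (k : ∀ i, ext (U i) (W i) ⟶ W'),
      (∀ i, e.homEquiv (k i) = ξ i) ∧ (∀ i, IsOpenImmersion (k i).left) ∧
        ∀ i, ((W'.hom ⁻¹ᵁ (U i) : W'.left.Opens) : Set W'.left) = Set.range (k i).left := by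
  have hXU : ∀ i (T' : Over S) (b : T' ⟶ ext (U i) (W i)), Set.range T'.hom ⊆ U i := by
    rintro i T' b _ ⟨t, rfl⟩
    have h : T'.hom = b.left ≫ (W i).hom ≫ (U i).ι := (Over.w b).symm
    rw [h, Scheme.Hom.comp_apply, Scheme.Hom.comp_apply]
    exact ((W i).hom (b.left t)).2
  have hV : ∀ (i : ι) (T : Over S) (η : (Flatn.morS g f).obj (op T)) (T' : Over S) (c : T' ⟶ T),
      (∃ b : T' ⟶ ext (U i) (W i), (Flatn.morS g f).map b.op (ξ i) =
        (Flatn.morS g f).map c.op η) ↔ Set.range c.left ⊆ (T.hom ⁻¹ᵁ (U i) : T.left.Opens) := by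
    intro i T η T' c
    constructor
    · rintro ⟨b, -⟩ _ ⟨t, rfl⟩
      show T.hom (c.left t) ∈ U i
      rw [← Scheme.Hom.comp_apply, Over.w c]
      exact hXU i T' b ⟨t, rfl⟩
    · intro hc
      have hT' : Set.range T'.hom ⊆ U i := by
        rintro _ ⟨t, rfl⟩
        rw [← Over.w c, Scheme.Hom.comp_apply]
        exact hc ⟨t, rfl⟩
      exact (bijective_of_local (W i) (ξ i) (hbij i) T' hT').2 _
  have huniq : ∀ (i : ι) (T' : Over S) (b b' : T' ⟶ ext (U i) (W i)),
      (Flatn.morS g f).map b.op (ξ i) = (Flatn.morS g f).map b'.op (ξ i) → b = b' := by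
    intro i T' b b' h
    exact (bijective_of_local (W i) (ξ i) (hbij i) T' (hXU i T' b)).1 h
  obtain ⟨W', e, k, hk, hko⟩ := LocRep.exists_representableBy (Flatn.morS g f) (isSheaf_morS g f)
    (fun i => ext (U i) (W i)) ξ (fun i T _ => T.hom ⁻¹ᵁ (U i)) hV huniq
    (fun T η t => hcov (T.hom t))
  refine ⟨W', e, k, hk, hko, fun i => ?_⟩
  apply Set.Subset.antisymm
  · -- `W'.hom ⁻¹ U ⊆ range k`
    let V : W'.left.Opens := W'.hom ⁻¹ᵁ (U i)
    have hsub : Set.range (opensι W' V).left ⊆ V := by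
      show Set.range V.ι ⊆ _
      rw [V.range_ι]
    obtain ⟨b, hb⟩ := (hV i W' (e.homEquiv (𝟙 W')) _ (opensι W' V)).2 hsub
    have hbk : b ≫ k i = opensι W' V := by
      apply e.homEquiv.injective
      rw [e.homEquiv_comp, hk i, hb, ← e.homEquiv_comp, Category.comp_id]
    intro x hx
    have hx' : x ∈ Set.range V.ι := by
      rw [V.range_ι]; exact hx
    obtain ⟨y, rfl⟩ := hx'
    refine ⟨b.left y, ?_⟩
    rw [← Scheme.Hom.comp_apply, ← Over.comp_left, hbk]
    rfl
  · rintro _ ⟨y, rfl⟩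
    show W'.hom ((k i).left y) ∈ U i
    rw [← Scheme.Hom.comp_apply, Over.w (k i)]
    exact hXU i _ (𝟙 _) ⟨y, rfl⟩

/-- **Weil restriction of an affine morphism along a finite locally free morphism**: `morS g f` is
representable by a scheme affine over `S`. -/
theorem exists_representableBy_affine (hg : Mor2.IsFinLocFree g) [IsAffineHom f] :
    ∃ W : Over S, IsAffineHom W.hom ∧ Nonempty ((Flatn.morS g f).RepresentableBy W) := by
  haveI : IsFinite g := hg.1
  let ι : Type u := {U : S.Opens // IsAffineOpen U ∧ QFF ((g ∣_ U).appTop).hom}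
  have hloc : ∀ i : ι, ∃ (W : Over ((i.1 : S.Opens) : Scheme.{u}))
      (ξ : (Flatn.morS g f).obj (op (ext i.1 W))), IsAffine W.left ∧
      ∀ T : Over ((i.1 : S.Opens) : Scheme.{u}), Function.Bijective
        (fun b : T ⟶ W => (Flatn.morS g f).map ((Over.map i.1.ι).map b).op ξ) := by
    rintro ⟨U, hU, hfin, hfree⟩
    exact exists_local_rep g f U hU (hU.preimage g) (hU.preimage f) hfin hfree
  choose W ξ hW hbij using hloc
  have hcov : ∀ s : S, ∃ i : ι, s ∈ i.1 := by
    intro s
    obtain ⟨U, hU, hsU, hq⟩ := exists_free_nhd g hg s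
    exact ⟨⟨U, hU, hq⟩, hsU⟩
  obtain ⟨W', e, k, -, hko, hpre⟩ :=
    exists_representableBy_of_local g f (fun i : ι => i.1) hcov W ξ hbij
  refine ⟨W', ?_, ⟨e⟩⟩
  apply isAffineHom_of_forall_exists_isAffineOpen
  intro s
  obtain ⟨i, hi⟩ := hcov s
  refine ⟨i.1, hi, i.2.1, ?_⟩
  haveI := hko i
  haveI : IsAffine (ext i.1 (W i)).left := hW i
  have h := isAffineOpen_opensRange (k i).left
  have heq : W'.hom ⁻¹ᵁ i.1 = (k i).left.opensRange := by
    apply TopologicalSpace.Opens.ext
    rw [hpre i]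
    rfl
  rw [heq]
  exact h

end Groth.Agent.Lib.Seat2.WeilGlue
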