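import Mathlib
import Groth.Prelude.Def_Flatn
import Groth.Prelude.Def_Mor2
import Groth.Agent.Lib.Seat2WeilGlue
import Groth.Agent.Lib.Seat2WeilFPSch

/-!
# Weil restriction of an affine morphism along a finite locally free morphism:
finite type / finite presentation of the representing object (helper2)
-/

set_option autoImplicit false
universe u

namespace Groth.Agent.Lib.Seat2.WeilFPGlue

open CategoryTheory CategoryTheory.Limits AlgebraicGeometry Opposite
open Groth.Agent.Lib.Seat2.WeilSch Groth.Agent.Lib.Seat2.WeilLoc Groth.Agent.Lib.Seat2.LocRep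
  Groth.Agent.Lib.Seat2.FreeCover Groth.Agent.Lib.Seat2.WeilGlue Groth.Agent.Lib.Seat2.WeilFPSch

variable {Z X S : Scheme.{u}} (g : Z ⟶ S) (f : X ⟶ S)

/-- local representing objects, with finiteness. -/
theorem exists_local_rep' (U : S.Opens) (hU : IsAffineOpen U) (hZ : IsAffineOpen (g ⁻¹ᵁ U))
    (hX : IsAffineOpen (f ⁻¹ᵁ U))
    (hfin : letI := ((g ∣_ U).appTop).hom.toAlgebra
      Module.Finite Γ((U : Scheme.{u}), ⊤) Γ((g ⁻¹ᵁ U : Scheme.{u}), ⊤))
    (hfree : letI := ((g ∣_ U).appTop).hom.toAlgebra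
      Module.Free Γ((U : Scheme.{u}), ⊤) Γ((g ⁻¹ᵁ U : Scheme.{u}), ⊤)) :
    ∃ (W : Over (U : Scheme.{u})) (ξ : (Flatn.morS g f).obj (op (ext U W))), IsAffine W.left ∧
      (∀ T : Over (U : Scheme.{u}), Function.Bijective
        (fun b : T ⟶ W => (Flatn.morS g f).map ((Over.map U.ι).map b).op ξ)) ∧
      (LocallyOfFinitePresentation f → LocallyOfFinitePresentation W.hom) ∧
      (LocallyOfFiniteType f → LocallyOfFiniteType W.hom) := by
  haveI : IsAffine (U : Scheme.{u}) := hU
  haveI : IsAffine (g ⁻¹ᵁ U : Scheme.{u}) := hZ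
  haveI : IsAffine (f ⁻¹ᵁ U : Scheme.{u}) := hX
  obtain ⟨W, hW, ⟨e⟩, hfp, hft⟩ := exists_representableBy' (g ∣_ U) (f ∣_ U) hfin hfree
  refine ⟨W, Φ g f U W (e.homEquiv (𝟙 W)), hW, fun T => ?_,
    fun h => hfp (IsZariskiLocalAtTarget.restrict h U),
    fun h => hft (IsZariskiLocalAtTarget.restrict h U)⟩
  have key : (fun b : T ⟶ W => (Flatn.morS g f).map ((Over.map U.ι).map b).op
      (Φ g f U W (e.homEquiv (𝟙 W)))) = fun b => Φ g f U T (e.homEquiv b) := by
    funext b
    rw [← Φ_natural, e.homEquiv_eq b]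
  rw [key]
  exact (Φ g f U T).bijective.comp e.homEquiv.bijective

/-- a property local at the source holds for `W'.hom` if it holds on the members of a jointly
surjective family of open immersions. -/
theorem prop_of_cover (P : MorphismProperty Scheme.{u}) [IsZariskiLocalAtSource P] {ι : Type u}
    {W' : Scheme.{u}} (w : W' ⟶ S) (V : ι → Scheme.{u}) (k : ∀ i, V i ⟶ W')
    [∀ i, IsOpenImmersion (k i)] (hcov : ∀ x : W', ∃ i, x ∈ Set.range (k i))
    (hP : ∀ i, P (k i ≫ w)) : P w := by
  have hsup : ⨆ i, (k i).opensRange = ⊤ := by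
    rw [eq_top_iff]
    intro x _
    obtain ⟨i, hi⟩ := hcov x
    exact TopologicalSpace.Opens.mem_iSup.2 ⟨i, hi⟩
  rw [IsZariskiLocalAtSource.iff_of_iSup_eq_top (P := P) _ hsup]
  intro i
  have h1 : (k i).opensRange.ι ≫ w = (k i).isoOpensRange.inv ≫ k i ≫ w := by
    have h2 := Scheme.Hom.isoOpensRange_hom_ι (k i)
    rw [← Category.assoc, (Iso.inv_comp_eq _).2 h2.symm]
  rw [h1]
  exact (P.cancel_left_of_respectsIso _ _).2 (hP i)

/-- **Weil restriction of an affine morphism along a finite locally free morphism**: `morS g f` is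
representable by a scheme affine over `S`, which is locally of finite type (presentation) if `f`
is. -/
theorem exists_representableBy_affine' (hg : Mor2.IsFinLocFree g) [IsAffineHom f] :
    ∃ W : Over S, IsAffineHom W.hom ∧ Nonempty ((Flatn.morS g f).RepresentableBy W) ∧
      (LocallyOfFinitePresentation f → LocallyOfFinitePresentation W.hom) ∧
      (LocallyOfFiniteType f → LocallyOfFiniteType W.hom) := by
  haveI : IsFinite g := hg.1
  let ι : Type u := {U : S.Opens // IsAffineOpen U ∧ QFF ((g ∣_ U).appTop).hom}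
  have hloc : ∀ i : ι, ∃ (W : Over ((i.1 : S.Opens) : Scheme.{u}))
      (ξ : (Flatn.morS g f).obj (op (ext i.1 W))), IsAffine W.left ∧
      (∀ T : Over ((i.1 : S.Opens) : Scheme.{u}), Function.Bijective
        (fun b : T ⟶ W => (Flatn.morS g f).map ((Over.map i.1.ι).map b).op ξ)) ∧
      (LocallyOfFinitePresentation f → LocallyOfFinitePresentation W.hom) ∧
      (LocallyOfFiniteType f → LocallyOfFiniteType W.hom) := by
    rintro ⟨U, hU, hfin, hfree⟩
    exact exists_local_rep' g f U hU (hU.preimage g) (hU.preimage f) hfin hfree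
  choose W ξ hW hbij hfp hft using hloc
  have hcov : ∀ s : S, ∃ i : ι, s ∈ i.1 := by
    intro s
    obtain ⟨U, hU, hsU, hq⟩ := exists_free_nhd g hg s
    exact ⟨⟨U, hU, hq⟩, hsU⟩
  obtain ⟨W', e, k, -, hko, hpre⟩ :=
    exists_representableBy_of_local g f (fun i : ι => i.1) hcov W ξ hbij
  have hcovW : ∀ x : W'.left, ∃ i, x ∈ Set.range (k i).left := by
    intro x
    obtain ⟨i, hi⟩ := hcov (W'.hom x)
    refine ⟨i, ?_⟩
    rw [← hpre i]
    exact hi
  have hkw : ∀ i, (k i).left ≫ W'.hom = (W i).hom ≫ (i.1).ι := fun i => Over.w (k i)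
  refine ⟨W', ?_, ⟨e⟩, ?_, ?_⟩
  · apply isAffineHom_of_forall_exists_isAffineOpen
    intro s
    obtain ⟨i, hi⟩ := hcov s
    refine ⟨i.1, hi, i.2.1, ?_⟩
    haveI := hko i
    haveI : IsAffine (ext i.1 (W i)).left := hW i
    have h := isAffineOpen_opensRange (k i).left
    have heq : W'.hom ⁻¹ᵁ i.1 = (k i).left.opensRange := by
      apply TopologicalSpace.Opens.ext
      rw [hpre i]
      rfl
    rw [heq]
    exact h
  · intro h
    refine prop_of_cover (P := @LocallyOfFinitePresentation) W'.hom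
      (fun i => (ext i.1 (W i)).left) (fun i => (k i).left) hcovW fun i => ?_
    rw [hkw i]
    haveI := hfp i h
    infer_instance
  · intro h
    refine prop_of_cover (P := @LocallyOfFiniteType) W'.hom
      (fun i => (ext i.1 (W i)).left) (fun i => (k i).left) hcovW fun i => ?_
    rw [hkw i]
    haveI := hft i h
    infer_instance

/-- any representing object of `morS g f` is affine over `S`, and locally of finite type
(presentation) if `f` is. -/
theorem props_of_representableBy (hg : Mor2.IsFinLocFree g) [IsAffineHom f] (W : Over S)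
    (e : (Flatn.morS g f).RepresentableBy W) :
    IsAffineHom W.hom ∧
      (LocallyOfFinitePresentation f → LocallyOfFinitePresentation W.hom) ∧
      (LocallyOfFiniteType f → LocallyOfFiniteType W.hom) := by
  obtain ⟨W', hW', ⟨e'⟩, hfp, hft⟩ := exists_representableBy_affine' g f hg
  let j : W ≅ W' := e.uniqueUpToIso e'
  have hj : W.hom = j.hom.left ≫ W'.hom := (Over.w j.hom).symm
  haveI : IsIso j.hom.left := inferInstance
  refine ⟨?_, fun h => ?_, fun h => ?_⟩
  · rw [hj]; infer_instance
  · rw [hj]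
    haveI := hfp h
    infer_instance
  · rw [hj]
    haveI := hft h
    infer_instance

end Groth.Agent.Lib.Seat2.WeilFPGlue
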