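import Mathlib
import Groth.Prelude.Def_Flatn
import Groth.Prelude.Def_Mor2
import Groth.Agent.Lib.Seat2HomGrpAbs
import Groth.Agent.Lib.Seat2TensMorS
import Groth.Agent.Lib.Seat2WeilFPGlue
import Groth.Agent.Lib.Helper6LfpComp

/-!
# The scheme of group homomorphisms from a finite locally free group scheme to an affine group
scheme (helper2)
-/

set_option autoImplicit false
universe u

namespace Groth.Agent.Lib.Seat2.HomGrp

open CategoryTheory CategoryTheory.Limits AlgebraicGeometry Opposite MonoidalCategory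
  CartesianMonoidalCategory MonObj GrpObj
open Groth.Agent.Lib.Seat2.HomGrpAbs

set_option backward.isDefEq.respectTransparency false in
/-- the equalizer of two maps into an `S`-scheme locally of finite type is locally of finite
presentation over the source. -/
theorem lofp_equalizer_ι_left {S : Scheme.{u}} {X Y : Over S} [LocallyOfFiniteType Y.hom]
    (f g : X ⟶ Y) : LocallyOfFinitePresentation (equalizer.ι f g).left := by
  refine MorphismProperty.of_isPullback
    ((Limits.isPullback_equalizer_prod f g).map (Over.forget _)).flip ?_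
  rw [← MorphismProperty.cancel_right_of_respectsIso @LocallyOfFinitePresentation _
    (Over.prodLeftIsoPullback Y Y).hom]
  convert! (Groth.Agent.Lib.Helper6.locallyOfFinitePresentation_diagonal Y.hom)
  ext1 <;> simp [← Over.comp_left]

variable {S : Scheme.{u}}

lemma isFinLocFree_tensor (G : Over S) (hG : Mor2.IsFinLocFree G.hom) :
    Mor2.IsFinLocFree (G ⊗ G).hom := by
  obtain ⟨h1, h2, h3⟩ := hG
  rw [Over.tensorObj_hom]
  exact ⟨inferInstance, inferInstance, inferInstance⟩

/-- internal Hom objects out of a finite locally free `S`-scheme into an `S`-affine scheme. -/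
theorem exists_iHom (X Y : Over S) (hX : Mor2.IsFinLocFree X.hom) [IsAffineHom Y.hom]
    [GrpObj Y] :
    ∃ (H : Over S) (ev : X ⊗ H ⟶ Y), IsIHom Y X ev ∧ IsAffineHom H.hom ∧
      (LocallyOfFinitePresentation Y.hom → LocallyOfFinitePresentation H.hom) ∧
      (LocallyOfFiniteType Y.hom → LocallyOfFiniteType H.hom) := by
  obtain ⟨W, hW, ⟨e⟩, hfp, hft⟩ :=
    Groth.Agent.Lib.Seat2.WeilFPGlue.exists_representableBy_affine' X.hom Y.hom hX
  obtain ⟨ev, hev⟩ := Groth.Agent.Lib.Seat2.TensMorS.exists_ev X Y W e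
  exact ⟨W, ev, hev, hW, hfp, hft⟩

/-- **The scheme of group homomorphisms** `Hom_{S-gr}(G, G')` for `G` finite locally free and `G'`
affine over `S`. -/
theorem exists_homGrp (G G' : Over S) [GrpObj G] [GrpObj G'] (hG : Mor2.IsFinLocFree G.hom)
    [IsAffineHom G'.hom] :
    ∃ (M : Over S) (ev : G ⊗ M ⟶ G'), IsAffineHom M.hom ∧
      (LocallyOfFinitePresentation G'.hom → LocallyOfFinitePresentation M.hom) ∧
      (LocallyOfFiniteType G'.hom → LocallyOfFiniteType M.hom) ∧
      IsMulFam G G' ev ∧ ∀ (T : Over S) (φ : G ⊗ T ⟶ G'), IsMulFam G G' φ →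
        ∃! v : T ⟶ M, (G ◁ v) ≫ ev = φ := by
  obtain ⟨H, ev, hev, hHa, hHfp, hHft⟩ := exists_iHom G G' hG
  obtain ⟨H2, ev2, hev2, hH2a, -, hH2ft⟩ := exists_iHom (G ⊗ G) G' (isFinLocFree_tensor G hG)
  obtain ⟨α₁, α₂, hα⟩ := exists_maps (H := H) (ev := ev) hev2
  let M : Over S := equalizer α₁ α₂
  let j : M ⟶ H := equalizer.ι α₁ α₂
  have hj : j ≫ α₁ = j ≫ α₂ := equalizer.condition α₁ α₂
  have hM : M.hom = j.left ≫ H.hom := (Over.w j).symm
  haveI : IsSeparated H2.hom := inferInstance
  haveI hci : IsClosedImmersion j.left := isClosedImmersion_equalizer_ι_left α₁ α₂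
  obtain ⟨h1, h2⟩ := isHomObject_of_fork hev α₁ α₂ hα j hj
    (fun T v hv => ⟨equalizer.lift v hv, equalizer.lift_ι v hv⟩)
  refine ⟨M, (G ◁ j) ≫ ev, ?_, ?_, ?_, h1, h2⟩
  · rw [hM]; infer_instance
  · intro h
    haveI := hHfp h
    haveI : LocallyOfFiniteType G'.hom := inferInstance
    haveI := hH2ft inferInstance
    haveI : LocallyOfFinitePresentation j.left := lofp_equalizer_ι_left α₁ α₂
    rw [hM]; infer_instance
  · intro h
    haveI := hHft h
    rw [hM]; infer_instance

end Groth.Agent.Lib.Seat2.HomGrp
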