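import Mathlib
import Groth.Prelude.Def_FEt
import Groth.Agent.S0283

set_option autoImplicit false

namespace Groth.Agent.Lib.Seat2.InsepDescent

open CategoryTheory Limits AlgebraicGeometry

universe u

/-- sections of finite étale covers descend along universal homeomorphisms (integral, universally
injective, surjective morphisms). -/
theorem exists_section_descent {X' Y' : Scheme.{u}} (p : X' ⟶ Y') [IsIntegralHom p]
    [UniversallyInjective p] [Surjective p] (U : FEt.Cat Y') (s : X' ⟶ pullback U.hom p)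
    (hs : s ≫ pullback.snd U.hom p = 𝟙 X') :
    ∃ s' : Y' ⟶ U.left, s' ≫ U.hom = 𝟙 Y' ∧ p ≫ s' = s ≫ pullback.fst U.hom p := by
  have hfull : (FEt.restrict p).Full := (Groth.Agent.S0283.result p).1
  let T : FEt.Cat Y' := MorphismProperty.Over.mk ⊤ (𝟙 Y') (FEt.prop.id_mem Y')
  let m : (FEt.restrict p).obj T ⟶ (FEt.restrict p).obj U :=
    MorphismProperty.Over.homMk (pullback.snd (𝟙 Y') p ≫ s) (by
      change (pullback.snd (𝟙 Y') p ≫ s) ≫ pullback.snd U.hom p = pullback.snd (𝟙 Y') p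
      rw [Category.assoc, hs, Category.comp_id]) trivial
  obtain ⟨m', hm'⟩ := (FEt.restrict p).map_surjective m
  refine ⟨m'.left, ?_, ?_⟩
  · have := MorphismProperty.Over.w m'
    exact this
  · have h1 : ((FEt.restrict p).map m').left ≫ pullback.fst U.hom p =
        pullback.fst (𝟙 Y') p ≫ m'.left := pullback.lift_fst _ _ _
    rw [hm'] at h1
    change (pullback.snd (𝟙 Y') p ≫ s) ≫ pullback.fst U.hom p = _ at h1
    have h2 := congrArg (fun g => pullback.lift p (𝟙 X') (by simp) ≫ g) h1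
    simp only [Category.assoc, pullback.lift_snd_assoc, pullback.lift_fst_assoc,
      Category.id_comp] at h2
    exact h2.symm

/-- the version for morphisms to a cover of a base. -/
theorem exists_hom_descent {X' Y' X : Scheme.{u}} (p : X' ⟶ Y') [IsIntegralHom p]
    [UniversallyInjective p] [Surjective p] (b : Y' ⟶ X) (U : FEt.Cat X) (t : X' ⟶ U.left)
    (ht : t ≫ U.hom = p ≫ b) :
    ∃ t' : Y' ⟶ U.left, t' ≫ U.hom = b ∧ p ≫ t' = t := by
  let uh : U.left ⟶ X := U.hom
  let Ub : FEt.Cat Y' := (FEt.restrict b).obj U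
  let s₀ : X' ⟶ pullback uh b := pullback.lift (f := uh) (g := b) t p ht
  have hs₀1 : s₀ ≫ pullback.fst uh b = t := pullback.lift_fst _ _ _
  have hs₀2 : s₀ ≫ pullback.snd uh b = p := pullback.lift_snd _ _ _
  let s : X' ⟶ pullback Ub.hom p := pullback.lift (f := Ub.hom) (g := p) s₀ (𝟙 X') (by
    change s₀ ≫ pullback.snd uh b = 𝟙 X' ≫ p
    rw [hs₀2, Category.id_comp])
  obtain ⟨s', hs'1, hs'2⟩ := exists_section_descent p Ub s (pullback.lift_snd _ _ _)
  have hs1 : s ≫ pullback.fst Ub.hom p = s₀ := pullback.lift_fst _ _ _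
  rw [hs1] at hs'2
  change s' ≫ pullback.snd uh b = 𝟙 Y' at hs'1
  let s'' : Y' ⟶ pullback uh b := s'
  have e1 : s'' ≫ pullback.snd uh b = 𝟙 Y' := hs'1
  have e2 : p ≫ s'' = s₀ := hs'2
  refine ⟨s'' ≫ pullback.fst uh b, ?_, ?_⟩
  · change (s'' ≫ pullback.fst uh b) ≫ uh = b
    rw [Category.assoc, pullback.condition, reassoc_of% e1]
  · rw [reassoc_of% e2, hs₀1]

end Groth.Agent.Lib.Seat2.InsepDescent
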