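import Mathlib
import Groth.Prelude.Def_FEt
import Groth.Prelude.Def_Pi1
import Groth.Agent.Lib.Seat2InsepDescent
import Groth.Agent.Lib.Helper22FieldLim
import Groth.Agent.Lib.Seat2FEtGalois

set_option autoImplicit false

namespace Groth.Agent.Lib.Seat2.HomotopyMid

open CategoryTheory Limits AlgebraicGeometry
open Groth.Agent.Lib.Helper22.FieldLim

universe u

section PurelyInsep

variable (E K : Type u) [Field E] [Field K] [Algebra E K]

lemma surjective_specMap_field :
    Surjective (Spec.map (CommRingCat.ofHom (algebraMap E K))) := by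
  refine ⟨fun y => ?_⟩
  haveI : Subsingleton (Spec (CommRingCat.of E)) :=
    inferInstanceAs (Subsingleton (PrimeSpectrum E))
  exact ⟨default, Subsingleton.elim _ _⟩

variable [IsPurelyInseparable E K]

lemma universallyInjective_specMap :
    UniversallyInjective (Spec.map (CommRingCat.ofHom (algebraMap E K))) := by
  apply ((tfae_universallyInjective _).out 1 0).mp
  intro F _ g₁ g₂ h
  obtain ⟨φ₁, rfl⟩ := Spec.map_surjective g₁
  obtain ⟨φ₂, rfl⟩ := Spec.map_surjective g₂
  congr 1
  dsimp only at h
  rw [← Spec.map_comp, ← Spec.map_comp] at h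
  have h' := Spec.map_injective h
  have h'' : φ₁.hom.comp (algebraMap E K) = φ₂.hom.comp (algebraMap E K) := by
    ext x
    exact congrArg (fun g : CommRingCat.of E ⟶ CommRingCat.of F => g.hom x) h'
  have := IsPurelyInseparable.injective_comp_algebraMap E K F h''
  ext x
  exact congrArg (fun g : K →+* F => g x) this

lemma isIntegralHom_specMap :
    IsIntegralHom (Spec.map (CommRingCat.ofHom (algebraMap E K))) := by
  rw [IsIntegralHom.SpecMap_iff]
  exact algebraMap_isIntegral_iff.mpr inferInstance

end PurelyInsep

section BaseChange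

variable {k : Type u} [Field k] (E K : Type u) [Field E] [Field K] [Algebra k E] [Algebra k K]
  [Algebra E K] [IsScalarTower k E K] {X : Scheme.{u}} (f : X ⟶ Spec (CommRingCat.of k))

/-- the projection `X_K ⟶ X_E`. -/
noncomputable def bc : pullback f (Spec.map (CommRingCat.ofHom (algebraMap k K))) ⟶
    pullback f (Spec.map (CommRingCat.ofHom (algebraMap k E))) :=
  pullback.lift (pullback.fst _ _)
    (pullback.snd _ _ ≫ Spec.map (CommRingCat.ofHom (algebraMap E K))) (by
      rw [Category.assoc, ← Spec.map_comp, ← CommRingCat.ofHom_comp,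
        ← IsScalarTower.algebraMap_eq, pullback.condition])

@[reassoc (attr := simp)]
lemma bc_fst : bc E K f ≫ pullback.fst _ _ = pullback.fst _ _ := pullback.lift_fst _ _ _

@[reassoc (attr := simp)]
lemma bc_snd : bc E K f ≫ pullback.snd _ _ =
    pullback.snd _ _ ≫ Spec.map (CommRingCat.ofHom (algebraMap E K)) := pullback.lift_snd _ _ _

lemma isPullback_bc : IsPullback (bc E K f)
    (pullback.snd f (Spec.map (CommRingCat.ofHom (algebraMap k K))))
    (pullback.snd f (Spec.map (CommRingCat.ofHom (algebraMap k E))))
    (Spec.map (CommRingCat.ofHom (algebraMap E K))) := by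
  refine IsPullback.of_right ?_ (bc_snd E K f) (IsPullback.of_hasPullback f _)
  rw [bc_fst, ← Spec.map_comp, ← CommRingCat.ofHom_comp, ← IsScalarTower.algebraMap_eq]
  exact IsPullback.of_hasPullback f _

variable [IsPurelyInseparable E K]

instance : IsIntegralHom (bc E K f) :=
  MorphismProperty.of_isPullback (P := @IsIntegralHom) (isPullback_bc E K f).flip
    (isIntegralHom_specMap E K)

instance : UniversallyInjective (bc E K f) :=
  MorphismProperty.of_isPullback (P := @UniversallyInjective) (isPullback_bc E K f).flip
    (universallyInjective_specMap E K)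

instance : Surjective (bc E K f) :=
  MorphismProperty.of_isPullback (P := @Surjective) (isPullback_bc E K f).flip
    (surjective_specMap_field E K)

end BaseChange


section Main

variable (k : Type u) [Field k] {X : Scheme.{u}} (f : X ⟶ Spec (CommRingCat.of k))

/-- the finite étale `k`-scheme `Spec L` for a finite separable extension `L`. -/
noncomputable def fieldObj (L : Type u) [Field L] [Algebra k L] [FiniteDimensional k L]
    [Algebra.IsSeparable k L] : FEt.Cat (Spec (CommRingCat.of k)) :=
  MorphismProperty.Over.mk ⊤ (Spec.map (CommRingCat.ofHom (algebraMap k L))) (by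
    have : Algebra.FormallyEtale k L := Algebra.FormallyEtale.of_isSeparable k _
    have : Algebra.FinitePresentation k L :=
      Algebra.FinitePresentation.of_finiteType.mp inferInstance
    have het : Algebra.Etale k L := ⟨inferInstance, inferInstance⟩
    refine ⟨?_, ?_⟩
    · rw [IsFinite.SpecMap_iff]
      exact RingHom.finite_algebraMap.mpr inferInstance
    · rw [HasRingHomProperty.Spec_iff (P := @Etale)]
      exact RingHom.etale_algebraMap.mpr het)

variable [CompactSpace X] [QuasiSeparatedSpace X]

/-- morphisms from `X_E`, `E/k` algebraic, to a scheme locally of finite presentation over `X`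
factor through a finite stage. -/
lemma exists_stage (E : Type u) [Field E] [Algebra k E] [Algebra.IsAlgebraic k E]
    {U : Scheme.{u}} (u : U ⟶ X) [LocallyOfFinitePresentation u]
    (t : pullback f (Spec.map (CommRingCat.ofHom (algebraMap k E))) ⟶ U)
    (ht : t ≫ u = pullback.fst _ _) :
    ∃ (L : FinSub k E) (g : pullback f (sL L) ⟶ U), mKL f L ≫ g = t ∧
      g ≫ u = pullback.fst f (sL L) := by
  let tn : D (K := E) f ⟶ (Functor.const _).obj X :=
    { app := fun L => pullback.fst f (sL L.unop)
      naturality := by
        intro L L' g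
        simp only [Functor.const_obj_obj, Functor.const_obj_map, Category.comp_id]
        exact mLL_fst f _ }
  obtain ⟨L, g, hg1, hg2⟩ := Scheme.exists_π_app_comp_eq_of_locallyOfFinitePresentation
    (D (K := E) f) tn u (cone (K := E) f) (coneIsLimit f) t (by
      ext L
      simp only [NatTrans.comp_app, Functor.const_obj_obj, Functor.const_map_app]
      rw [ht]
      exact mKL_fst f L.unop)
  exact ⟨L.unop, g, hg1, hg2⟩


open IntermediateField in
/-- **Exactness in the middle of the homotopy exact sequence** (functor form). -/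
theorem exists_dominating (U : FEt.Cat X)
    (hU : Pi1.IsSplit ((FEt.restrict (pullback.fst f
      (Spec.map (CommRingCat.ofHom (algebraMap k (AlgebraicClosure k)))))).obj U)) :
    ∃ (V : FEt.Cat (Spec (CommRingCat.of k))) (e : (FEt.restrict f).obj V ⟶ U),
      Surjective e.left := by
  classical
  let K := AlgebraicClosure k
  let Es : IntermediateField k K := separableClosure k K
  let q : pullback f (Spec.map (CommRingCat.ofHom (algebraMap k K))) ⟶ X := pullback.fst _ _
  let qE : pullback f (Spec.map (CommRingCat.ofHom (algebraMap k Es))) ⟶ X := pullback.fst _ _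
  let p := bc Es K f
  have hpq : p ≫ qE = q := bc_fst Es K f
  have : Etale U.hom := U.prop.2
  let uh : U.left ⟶ X := U.hom
  obtain ⟨ι, hfin, e₀, he₀⟩ := hU
  -- the sections
  let s : ι → (pullback f (Spec.map (CommRingCat.ofHom (algebraMap k K))) ⟶ pullback uh q) :=
    fun i => Sigma.ι (fun _ : ι => pullback f (Spec.map (CommRingCat.ofHom (algebraMap k K)))) i ≫
      e₀.inv
  have hs : ∀ i, s i ≫ pullback.snd uh q = 𝟙 _ := fun i => by
    rw [Category.assoc]
    exact he₀ i
  let t : ι → (pullback f (Spec.map (CommRingCat.ofHom (algebraMap k K))) ⟶ U.left) :=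
    fun i => s i ≫ pullback.fst uh q
  have ht : ∀ i, t i ≫ U.hom = p ≫ qE := fun i => by
    change (s i ≫ pullback.fst uh q) ≫ uh = p ≫ qE
    rw [Category.assoc, pullback.condition, reassoc_of% (hs i), hpq]
  -- descent to the separable closure
  choose t' ht'1 ht'2 using fun i =>
    InsepDescent.exists_hom_descent p qE U (t i) (ht i)
  -- descent to a finite stage
  choose L g hg1 hg2 using fun i => exists_stage k f Es uh (t' i) (ht'1 i)
  -- the finite étale `k`-schemes
  have hfd : ∀ i, FiniteDimensional k (L i).1 := fun i => (L i).2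
  let V : ι → FEt.Cat (Spec (CommRingCat.of k)) := fun i => fieldObj k (L i).1
  let γ : ∀ i, (FEt.restrict f).obj (V i) ⟶ U := fun i =>
    MorphismProperty.Over.homMk ((pullbackSymmetry _ _).hom ≫ g i) (by
      change ((pullbackSymmetry _ _).hom ≫ g i) ≫ uh = pullback.snd _ _
      rw [Category.assoc, hg2 i, pullbackSymmetry_hom_comp_fst]) trivial
  haveI := hfin
  have := FEtColim.preservesFiniteColimits_restrict f
  let W : FEt.Cat (Spec (CommRingCat.of k)) := ∐ V
  let e : (FEt.restrict f).obj W ⟶ U :=
    (PreservesCoproduct.iso (FEt.restrict f) V).hom ≫ Sigma.desc γ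
  have he : ∀ i, (FEt.restrict f).map (Sigma.ι V i) ≫ e = γ i := fun i => by
    simp only [e]
    rw [← Category.assoc]
    have : (FEt.restrict f).map (Sigma.ι V i) ≫ (PreservesCoproduct.iso (FEt.restrict f) V).hom =
        Sigma.ι (fun j => (FEt.restrict f).obj (V j)) i := by
      rw [← Iso.eq_comp_inv]
      exact (ι_comp_sigmaComparison (FEt.restrict f) V i).symm
    rw [this, Sigma.ι_desc]
  refine ⟨W, e, ⟨fun u => ?_⟩⟩
  -- surjectivity
  have hsK : Surjective (Spec.map (CommRingCat.ofHom (algebraMap k K))) :=
    surjective_specMap_field k K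
  have hq : Surjective q := inferInstanceAs (Surjective (pullback.fst f _))
  have hq' : Surjective (pullback.fst uh q) := inferInstance
  obtain ⟨w, rfl⟩ := hq'.surj u
  obtain ⟨⟨i, x⟩, hx⟩ := (sigmaMk _).surjective (e₀.hom w)
  rw [sigmaMk_mk] at hx
  have hw : w = s i x := by
    change w = (Sigma.ι (fun _ : ι => pullback f (Spec.map (CommRingCat.ofHom (algebraMap k K)))) i ≫
      e₀.inv) x
    rw [Scheme.Hom.comp_apply, hx, ← Scheme.Hom.comp_apply, e₀.hom_inv_id]
    rfl
  have key : t i = p ≫ mKL f (L i) ≫ g i := by rw [hg1, ht'2]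
  have h1 : pullback.fst uh q w = (g i) (mKL f (L i) (p x)) := by
    rw [hw]
    calc pullback.fst uh q (s i x) = (t i) x := rfl
      _ = (p ≫ mKL f (L i) ≫ g i) x := by rw [key]
      _ = g i (mKL f (L i) (p x)) := rfl
  let y := (pullbackSymmetry (sL (L i)) f).inv (mKL f (L i) (p x))
  refine ⟨((FEt.restrict f).map (Sigma.ι V i)).left y, ?_⟩
  rw [h1, ← Scheme.Hom.comp_apply]
  have h2 := congrArg (fun m => m.left) (he i)
  change ((FEt.restrict f).map (Sigma.ι V i)).left ≫ e.left =
    (pullbackSymmetry (sL (L i)) f).hom ≫ g i at h2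
  rw [h2]
  change g i (((pullbackSymmetry (sL (L i)) f).inv ≫ (pullbackSymmetry (sL (L i)) f).hom)
    (mKL f (L i) (p x))) = _
  rw [Iso.inv_hom_id]
  rfl

end Main

end Groth.Agent.Lib.Seat2.HomotopyMid
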