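import Mathlib
import Groth.Prelude.Def_AlgSp
import Groth.Prelude.Def_Flatn
import Groth.Prelude.Def_Mor2
import Groth.Agent.Lib.Seat2WeilGlue
import Groth.Agent.Lib.Seat2AffShrink

/-!
# Weil restriction along a finite locally free morphism under the AF condition (seat 2)

`g : Z ⟶ S` finite locally free, `f : X ⟶ S` such that finitely many points of a fibre of `f` lie in
a common affine open: `Flatn.morS g f` is representable.
-/

set_option autoImplicit false
universe u

namespace Groth.Agent.Lib.Seat2.WeilAF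

open CategoryTheory CategoryTheory.Limits AlgebraicGeometry Opposite
open Groth.Agent.Lib.Seat2.WeilLoc Groth.Agent.Lib.Seat2.LocRep Groth.Agent.Lib.Seat2.FreeCover
  Groth.Agent.Lib.Seat2.WeilGlue Groth.Agent.Lib.Seat2.AffShrink

variable {Z X S : Scheme.{u}} (g : Z ⟶ S) (f : X ⟶ S)

/-- `T ×_S Z` as an `S`-scheme. -/
noncomputable abbrev PT (T : Over S) : Over S := (Over.map g).obj ((Over.pullback g).obj T)

/-- the map `T' ×_S Z ⟶ T ×_S Z` induced by `φ`. -/
noncomputable abbrev Pmap {T T' : Over S} (φ : T' ⟶ T) : PT g T' ⟶ PT g T :=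
  (Over.map g).map ((Over.pullback g).map φ)

theorem Pmap_fst {T T' : Over S} (φ : T' ⟶ T) :
    (Pmap g φ).left ≫ pullback.fst T.hom g = pullback.fst T'.hom g ≫ φ.left :=
  pullback.lift_fst _ _ _

theorem Pmap_snd {T T' : Over S} (φ : T' ⟶ T) :
    (Pmap g φ).left ≫ pullback.snd T.hom g = pullback.snd T'.hom g :=
  pullback.lift_snd _ _ _

theorem isPullback_Pmap {T T' : Over S} (φ : T' ⟶ T) :
    IsPullback (Pmap g φ).left (pullback.fst T'.hom g) (pullback.fst T.hom g) φ.left := by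
  refine IsPullback.of_right (h₁₂ := pullback.snd T.hom g) (h₂₂ := T.hom) (v₁₃ := g) ?_
    (Pmap_fst g φ) (IsPullback.of_hasPullback T.hom g).flip
  rw [Pmap_snd, Over.w φ]
  exact (IsPullback.of_hasPullback T'.hom g).flip

/-- the inclusion of an open of `X`, over `S`. -/
noncomputable abbrev kO (A : X.Opens) : Over.mk (A.ι ≫ f) ⟶ Over.mk f := Over.homMk A.ι rfl

instance (A : X.Opens) : Mono (kO f A) :=
  (Over.forget S).mono_of_mono_map (inferInstanceAs (Mono A.ι))

/-- the points of `T` over which `η` does not land in `A`. -/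
def badSet (A : X.Opens) (T : Over S) (η : PT g T ⟶ Over.mk f) : Set T.left :=
  (pullback.fst T.hom g) '' (η.left ⁻¹' ((A : Set X)ᶜ))

theorem isClosed_badSet [IsFinite g] (A : X.Opens) (T : Over S) (η : PT g T ⟶ Over.mk f) :
    IsClosed (badSet g f A T η) := by
  haveI : IsFinite (pullback.fst T.hom g) := MorphismProperty.pullback_fst _ _ inferInstance
  apply (pullback.fst T.hom g).isClosedMap
  apply IsClosed.preimage η.left.continuous
  exact A.isOpen.isClosed_compl

/-- the open of `T` over which `η` lands in `A`. -/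
def goodOpen [IsFinite g] (A : X.Opens) (T : Over S) (η : PT g T ⟶ Over.mk f) : T.left.Opens :=
  ⟨(badSet g f A T η)ᶜ, (isClosed_badSet g f A T η).isOpen_compl⟩

theorem mem_goodOpen_iff [IsFinite g] (A : X.Opens) (T : Over S) (η : PT g T ⟶ Over.mk f)
    (t : T.left) : t ∈ goodOpen g f A T η ↔
      ∀ w : (pullback T.hom g : Scheme.{u}), pullback.fst T.hom g w = t → η.left w ∈ A := by
  constructor
  · intro h w hw
    by_contra hn
    exact h ⟨w, hn, hw⟩
  · rintro h ⟨w, hn, hw⟩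
    exact hn (h w hw)

/-- `f ∘ η = T.hom ∘ pr` on points. -/
theorem f_apply (T : Over S) (η : PT g T ⟶ Over.mk f) (w : (pullback T.hom g : Scheme.{u})) :
    f (η.left w) = T.hom (pullback.fst T.hom g w) := by
  have h : η.left ≫ f = pullback.snd T.hom g ≫ g := Over.w η
  rw [← Scheme.Hom.comp_apply, h, ← pullback.condition, Scheme.Hom.comp_apply]

/-- lifting a section through an open of `X` containing its range. -/
noncomputable def liftO (A : X.Opens) {P : Over S} (η : P ⟶ Over.mk f)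
    (h : Set.range η.left ⊆ (A : Set X)) : P ⟶ Over.mk (A.ι ≫ f) :=
  Over.homMk (IsOpenImmersion.lift A.ι η.left (by rw [A.range_ι]; exact h)) (by
    show IsOpenImmersion.lift A.ι η.left _ ≫ A.ι ≫ f = P.hom
    rw [← Category.assoc, IsOpenImmersion.lift_fac]
    exact Over.w η)

theorem liftO_comp (A : X.Opens) {P : Over S} (η : P ⟶ Over.mk f)
    (h : Set.range η.left ⊆ (A : Set X)) : liftO f A η h ≫ kO f A = η := by
  apply Over.OverMorphism.ext
  exact IsOpenImmersion.lift_fac _ _ _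

/-- **Representability of `Mor_S(Z, X)` under the AF condition.** -/
theorem isRepresentable_of_AF (hg : Mor2.IsFinLocFree g)
    (hAF : ∀ (s : S) (d : ℕ) (x : Fin d → ↥X), (∀ k, f (x k) = s) →
      ∃ U : X.Opens, IsAffineOpen U ∧ ∀ k, x k ∈ U) :
    (Flatn.morS g f).IsRepresentable := by
  haveI : IsFinite g := hg.1
  let ι : Type u := {p : S.Opens × X.Opens //
    IsAffineOpen p.1 ∧ QFF ((g ∣_ p.1).appTop).hom ∧ IsAffineOpen p.2 ∧ p.2 ≤ f ⁻¹ᵁ p.1}
  have hloc : ∀ i : ι, ∃ (W : Over ((i.1.1 : S.Opens) : Scheme.{u}))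
      (ξ : (Flatn.morS g (i.1.2.ι ≫ f)).obj (op (ext i.1.1 W))),
      ∀ T : Over ((i.1.1 : S.Opens) : Scheme.{u}), Function.Bijective
        (fun b : T ⟶ W =>
          (Flatn.morS g (i.1.2.ι ≫ f)).map ((Over.map i.1.1.ι).map b).op ξ) := by
    rintro ⟨⟨U, A⟩, hU, ⟨hfin, hfree⟩, hA, hAU⟩
    have hX : IsAffineOpen ((A.ι ≫ f) ⁻¹ᵁ U) := by
      have htop : (A.ι ≫ f) ⁻¹ᵁ U = ⊤ := by
        apply TopologicalSpace.Opens.ext
        ext x
        simp only [TopologicalSpace.Opens.coe_top, Set.mem_univ, iff_true]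
        show (A.ι ≫ f) x ∈ U
        rw [Scheme.Hom.comp_apply]
        exact hAU x.2
      rw [htop]
      haveI : IsAffine (A : Scheme.{u}) := hA
      exact isAffineOpen_top _
    obtain ⟨W, ξ, -, h⟩ := exists_local_rep g (A.ι ≫ f) U hU (hU.preimage g) hX hfin hfree
    exact ⟨W, ξ, h⟩
  choose W ξ' hbij using hloc
  -- the universal elements in `morS g f`
  let ξ : ∀ i : ι, (Flatn.morS g f).obj (op (ext i.1.1 (W i))) := fun i =>
    (ξ' i : PT g (ext i.1.1 (W i)) ⟶ Over.mk (i.1.2.ι ≫ f)) ≫ kO f i.1.2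
  have hξ : ∀ (i : ι) (T' : Over S) (b : T' ⟶ ext i.1.1 (W i)),
      (Flatn.morS g f).map b.op (ξ i) =
        ((Flatn.morS g (i.1.2.ι ≫ f)).map b.op (ξ' i) :
          PT g T' ⟶ Over.mk (i.1.2.ι ≫ f)) ≫ kO f i.1.2 := by
    intro i T' b
    exact (Category.assoc (Pmap g b) (ξ' i : PT g (ext i.1.1 (W i)) ⟶ Over.mk (i.1.2.ι ≫ f))
      (kO f i.1.2)).symm
  have hXU : ∀ (i : ι) (T' : Over S) (b : T' ⟶ ext i.1.1 (W i)), Set.range T'.hom ⊆ i.1.1 := by
    rintro i T' b _ ⟨t, rfl⟩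
    have h : T'.hom = b.left ≫ (W i).hom ≫ i.1.1.ι := (Over.w b).symm
    rw [h, Scheme.Hom.comp_apply, Scheme.Hom.comp_apply]
    exact ((W i).hom (b.left t)).2
  have hV : ∀ (i : ι) (T : Over S) (η : (Flatn.morS g f).obj (op T)) (T' : Over S) (c : T' ⟶ T),
      (∃ b : T' ⟶ ext i.1.1 (W i), (Flatn.morS g f).map b.op (ξ i) =
        (Flatn.morS g f).map c.op η) ↔
      Set.range c.left ⊆ ((T.hom ⁻¹ᵁ i.1.1) ⊓ goodOpen g f i.1.2 T η : T.left.Opens) := by
    intro i T η T' c
    constructor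
    · rintro ⟨b, hb⟩ _ ⟨t', rfl⟩
      refine ⟨?_, ?_⟩
      · show T.hom (c.left t') ∈ i.1.1
        rw [← Scheme.Hom.comp_apply, Over.w c]
        exact hXU i T' b ⟨t', rfl⟩
      · rw [SetLike.mem_coe, mem_goodOpen_iff]
        intro z hz
        obtain ⟨w, hw1, -⟩ :=
          Scheme.exists_preimage_of_isPullback (isPullback_Pmap g c) z t' hz
        have h1 : ((Flatn.morS g f).map c.op η : PT g T' ⟶ Over.mk f).left w =
            (η : PT g T ⟶ Over.mk f).left z := by
          rw [← hw1]; rfl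
        rw [← h1, ← hb, hξ i T' b]
        exact (((Flatn.morS g (i.1.2.ι ≫ f)).map b.op (ξ' i) :
          PT g T' ⟶ Over.mk (i.1.2.ι ≫ f)).left w).2
    · intro hc
      have hT' : Set.range T'.hom ⊆ i.1.1 := by
        rintro _ ⟨t, rfl⟩
        rw [← Over.w c, Scheme.Hom.comp_apply]
        exact (hc ⟨t, rfl⟩).1
      let η' : PT g T' ⟶ Over.mk f := (Flatn.morS g f).map c.op η
      have hη' : Set.range η'.left ⊆ (i.1.2 : Set X) := by
        rintro _ ⟨w, rfl⟩
        have hmem := (hc ⟨pullback.fst T'.hom g w, rfl⟩).2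
        rw [SetLike.mem_coe, mem_goodOpen_iff] at hmem
        have := hmem ((Pmap g c).left w) (by
          rw [← Scheme.Hom.comp_apply, Pmap_fst, Scheme.Hom.comp_apply])
        exact this
      obtain ⟨b, hb⟩ := (bijective_of_local (W i) (ξ' i) (hbij i) T' hT').2
        (liftO f i.1.2 η' hη')
      refine ⟨b, ?_⟩
      rw [hξ i T' b]
      have hb' : ((Flatn.morS g (i.1.2.ι ≫ f)).map b.op (ξ' i) :
          PT g T' ⟶ Over.mk (i.1.2.ι ≫ f)) = liftO f i.1.2 η' hη' := hb
      rw [hb', liftO_comp]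
  have huniq : ∀ (i : ι) (T' : Over S) (b b' : T' ⟶ ext i.1.1 (W i)),
      (Flatn.morS g f).map b.op (ξ i) = (Flatn.morS g f).map b'.op (ξ i) → b = b' := by
    intro i T' b b' h
    rw [hξ i T' b, hξ i T' b'] at h
    have h' := (cancel_mono (kO f i.1.2)).1 h
    exact (bijective_of_local (W i) (ξ' i) (hbij i) T' (hXU i T' b)).1 h'
  have hcov : ∀ (T : Over S) (η : (Flatn.morS g f).obj (op T)) (t : T.left),
      ∃ i : ι, t ∈ ((T.hom ⁻¹ᵁ i.1.1) ⊓ goodOpen g f i.1.2 T η : T.left.Opens) := by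
    intro T η t
    obtain ⟨U, hU, hsU, hq⟩ := exists_free_nhd g hg (T.hom t)
    haveI : IsFinite (pullback.fst T.hom g) := MorphismProperty.pullback_fst _ _ inferInstance
    have hfin : ((pullback.fst T.hom g) ⁻¹' {t}).Finite :=
      (pullback.fst T.hom g).finite_preimage_singleton t
    obtain ⟨d, z, hz⟩ := hfin.fin_embedding
    let x : Fin d → X := fun k => (η : PT g T ⟶ Over.mk f).left (z k)
    have hzk : ∀ k, pullback.fst T.hom g (z k) = t := by
      intro k
      have : z k ∈ (pullback.fst T.hom g) ⁻¹' {t} := by rw [← hz]; exact ⟨k, rfl⟩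
      exact this
    have hx : ∀ k, f (x k) = T.hom t := by
      intro k
      show f ((η : PT g T ⟶ Over.mk f).left (z k)) = _
      rw [f_apply, hzk k]
    obtain ⟨A₀, hA₀, hxA₀⟩ := hAF (T.hom t) d x hx
    obtain ⟨A, hA, -, hAO, hTA⟩ := exists_isAffineOpen_le_of_finite hA₀ (f ⁻¹ᵁ U) (Set.range x)
      (Set.finite_range x) (by rintro _ ⟨k, rfl⟩; exact hxA₀ k)
      (by rintro _ ⟨k, rfl⟩; show f (x k) ∈ U; rw [hx k]; exact hsU)
    refine ⟨⟨(U, A), hU, hq, hA, hAO⟩, hsU, ?_⟩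
    rw [SetLike.mem_coe, mem_goodOpen_iff]
    intro w hw
    have hw' : w ∈ Set.range z := by rw [hz]; exact hw
    obtain ⟨k, rfl⟩ := hw'
    exact hTA ⟨k, rfl⟩
  obtain ⟨W', e, -⟩ := LocRep.exists_representableBy (Flatn.morS g f) (isSheaf_morS g f)
    (fun i : ι => ext i.1.1 (W i)) ξ
    (fun i T η => (T.hom ⁻¹ᵁ i.1.1) ⊓ goodOpen g f i.1.2 T η) hV huniq hcov
  exact e.isRepresentable

end Groth.Agent.Lib.Seat2.WeilAF
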