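import Mathlib
import Groth.Prelude.Def_Flatn
import Groth.Agent.Lib.Seat2WeilAF

/-!
# `Flatn.morS g f` depends only on the isomorphism class of the source; empty source (seat 2)
-/

set_option autoImplicit false
universe u

namespace Groth.Agent.Lib.Seat2.MorSIso

open CategoryTheory CategoryTheory.Limits AlgebraicGeometry Opposite
open Groth.Agent.Lib.Seat2.WeilAF

section Iso

variable {Z Z' X S : Scheme.{u}} (g : Z ⟶ S) (g' : Z' ⟶ S) (f : X ⟶ S) (θ : Z' ≅ Z)
  (hθ : θ.hom ≫ g = g')

include hθ in
lemma hθ' : θ.inv ≫ g' = g := by rw [← hθ, Iso.inv_hom_id_assoc]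

/-- `T ×_S Z' ≅ T ×_S Z`. -/
noncomputable def κ (T : Over S) : pullback T.hom g' ≅ pullback T.hom g where
  hom := pullback.lift (pullback.fst T.hom g') (pullback.snd T.hom g' ≫ θ.hom) (by
    rw [Category.assoc, hθ, pullback.condition])
  inv := pullback.lift (pullback.fst T.hom g) (pullback.snd T.hom g ≫ θ.inv) (by
    rw [Category.assoc, hθ' g g' θ hθ, pullback.condition])
  hom_inv_id := by
    apply pullback.hom_ext
    · rw [Category.assoc, pullback.lift_fst, pullback.lift_fst, Category.id_comp]
    · rw [Category.assoc, pullback.lift_snd, pullback.lift_snd_assoc, Category.assoc,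
        Iso.hom_inv_id, Category.comp_id, Category.id_comp]
  inv_hom_id := by
    apply pullback.hom_ext
    · rw [Category.assoc, pullback.lift_fst, pullback.lift_fst, Category.id_comp]
    · rw [Category.assoc, pullback.lift_snd, pullback.lift_snd_assoc, Category.assoc,
        Iso.inv_hom_id, Category.comp_id, Category.id_comp]

@[reassoc (attr := simp)]
lemma κ_hom_fst (T : Over S) :
    (κ g g' θ hθ T).hom ≫ pullback.fst T.hom g = pullback.fst T.hom g' :=
  pullback.lift_fst _ _ _

@[reassoc (attr := simp)]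
lemma κ_hom_snd (T : Over S) :
    (κ g g' θ hθ T).hom ≫ pullback.snd T.hom g = pullback.snd T.hom g' ≫ θ.hom :=
  pullback.lift_snd _ _ _

/-- the same, over `S`. -/
noncomputable def κO (T : Over S) : PT g' T ≅ PT g T :=
  Over.isoMk (κ g g' θ hθ T) (by
    show (κ g g' θ hθ T).hom ≫ pullback.snd T.hom g ≫ g = pullback.snd T.hom g' ≫ g'
    rw [κ_hom_snd_assoc, hθ])

lemma κO_natural {T T' : Over S} (c : T' ⟶ T) :
    Pmap g' c ≫ (κO g g' θ hθ T).hom = (κO g g' θ hθ T').hom ≫ Pmap g c := by
  apply Over.OverMorphism.ext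
  show (Pmap g' c).left ≫ (κ g g' θ hθ T).hom = (κ g g' θ hθ T').hom ≫ (Pmap g c).left
  apply pullback.hom_ext
  · rw [Category.assoc, Category.assoc, κ_hom_fst, Pmap_fst, Pmap_fst, κ_hom_fst_assoc]
  · rw [Category.assoc, Category.assoc, κ_hom_snd, Pmap_snd, ← Category.assoc, Pmap_snd, κ_hom_snd]

/-- representability transfers along an isomorphism of the source. -/
noncomputable def representableBy {M : Over S} (e : (Flatn.morS g f).RepresentableBy M) :
    (Flatn.morS g' f).RepresentableBy M where
  homEquiv {T} := e.homEquiv.trans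
    { toFun := fun b => (κO g g' θ hθ T).hom ≫ (b : PT g T ⟶ Over.mk f)
      invFun := fun b => (κO g g' θ hθ T).inv ≫ (b : PT g' T ⟶ Over.mk f)
      left_inv := fun b => Iso.inv_hom_id_assoc _ _
      right_inv := fun b => Iso.hom_inv_id_assoc _ _ }
  homEquiv_comp {T T'} c φ := by
    show (κO g g' θ hθ T).hom ≫ (e.homEquiv (c ≫ φ) : PT g T ⟶ Over.mk f) =
      Pmap g' c ≫ (κO g g' θ hθ T').hom ≫ (e.homEquiv φ : PT g T' ⟶ Over.mk f)
    rw [← Category.assoc (Pmap g' c), κO_natural, Category.assoc]
    congr 1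
    exact e.homEquiv_comp c φ

end Iso

section Empty

variable {Z X S : Scheme.{u}} (g : Z ⟶ S) (f : X ⟶ S)

/-- over an empty source, `morS` has exactly one section over every `T`. -/
noncomputable def uniqueOfIsEmpty [IsEmpty Z] (T : Over S) :
    Unique ((Flatn.morS g f).obj (op T)) := by
  haveI : IsEmpty ↥(pullback T.hom g) := Function.isEmpty (pullback.snd T.hom g)
  let hI : IsInitial (pullback T.hom g) := isInitialOfIsEmpty
  refine
    { default := Over.homMk (hI.to X) (hI.hom_ext _ _)
      uniq := fun b => ?_ }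
  apply Over.OverMorphism.ext
  exact hI.hom_ext _ _

/-- the representing object of `morS` over an empty source is the base. -/
theorem isIso_hom_of_isEmpty [IsEmpty Z] {M : Over S} (e : (Flatn.morS g f).RepresentableBy M) :
    IsIso M.hom := by
  have huniq : ∀ T : Over S, Subsingleton (T ⟶ M) := fun T =>
    ⟨fun a b => e.homEquiv.injective ((uniqueOfIsEmpty g f T).uniq _ |>.trans
      ((uniqueOfIsEmpty g f T).uniq _).symm)⟩
  let s : Over.mk (𝟙 S) ⟶ M := e.homEquiv.symm (uniqueOfIsEmpty g f _).default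
  let t : M ⟶ Over.mk (𝟙 S) := Over.homMk M.hom (Category.comp_id _)
  have hts : t ≫ s = 𝟙 M := (huniq M).elim _ _
  refine ⟨s.left, ?_, ?_⟩
  · exact congrArg CommaMorphism.left hts
  · have := Over.w s
    exact this

end Empty

end Groth.Agent.Lib.Seat2.MorSIso
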