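import Mathlib
import Groth.Prelude.Def_Flatn
import Groth.Prelude.Def_FEt
import Groth.Agent.S17084
import Groth.Agent.Lib.Seat2WeilAF
import Groth.Agent.Lib.Seat2FEtLim

/-!
# `Mor_T(∐_ι T, Y)` is the `ι`-fold fibre power of `Y` (seat 2)

For a finite étale `Y → T`, any representing object of `Flatn.morS (∐_ι T → T) (Y → T)` is finite
étale over `T`.
-/

set_option autoImplicit false
universe u

namespace Groth.Agent.Lib.Seat2.MorSSplit

open CategoryTheory CategoryTheory.Limits AlgebraicGeometry Opposite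
open Groth.Agent.Lib.Seat2.WeilAF

variable (T : Scheme.{u}) (ι : Type u)

/-- the fold map `∐_ι T ⟶ T`. -/
noncomputable abbrev fold : (∐ fun _ : ι => T) ⟶ T := Sigma.desc fun _ => 𝟙 T

variable {T ι}

/-- the `i`-th section `T' ⟶ T' ×_T ∐_ι T`. -/
noncomputable def sec (i : ι) (T' : Over T) : T' ⟶ PT (fold T ι) T' :=
  Over.homMk (pullback.lift (𝟙 _) (T'.hom ≫ Sigma.ι (fun _ : ι => T) i) (by
    rw [Category.id_comp, Category.assoc, Sigma.ι_desc, Category.comp_id])) (by
    show pullback.lift _ _ _ ≫ pullback.snd _ _ ≫ fold T ι = T'.hom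
    rw [pullback.lift_snd_assoc, Category.assoc, Sigma.ι_desc, Category.comp_id])

lemma sec_left_fst (i : ι) (T' : Over T) :
    (sec i T').left ≫ pullback.fst T'.hom (fold T ι) = 𝟙 _ := pullback.lift_fst _ _ _

lemma sec_left_snd (i : ι) (T' : Over T) :
    (sec i T').left ≫ pullback.snd T'.hom (fold T ι) = T'.hom ≫ Sigma.ι (fun _ : ι => T) i :=
  pullback.lift_snd _ _ _

lemma sec_natural (i : ι) {T' T'' : Over T} (c : T'' ⟶ T') :
    sec i T'' ≫ Pmap (fold T ι) c = c ≫ sec i T' := by
  apply Over.OverMorphism.ext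
  show (sec i T'').left ≫ (Pmap (fold T ι) c).left = c.left ≫ (sec i T').left
  apply pullback.hom_ext
  · rw [Category.assoc, Category.assoc, Pmap_fst, ← Category.assoc, sec_left_fst, sec_left_fst,
      Category.id_comp, Category.comp_id]
  · rw [Category.assoc, Category.assoc, Pmap_snd, sec_left_snd, sec_left_snd, ← Category.assoc,
      Over.w c]

variable {Y : Scheme.{u}} (f : Y ⟶ T)

/-- restriction of a section to the sheets. -/
noncomputable def ρ (T' : Over T) (b : PT (fold T ι) T' ⟶ Over.mk f) : ι → (T' ⟶ Over.mk f) :=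
  fun i => sec i T' ≫ b

/-- the comparison map of `S17084`. -/
noncomputable abbrev r (i : ι) (T' : Over T) :
    pullback T'.hom (𝟙 T) ⟶ pullback T'.hom (fold T ι) :=
  pullback.map T'.hom (𝟙 T) T'.hom (fold T ι) (𝟙 T'.left) (Sigma.ι (fun _ : ι => T) i) (𝟙 T)
    ((Category.comp_id _).trans (Category.id_comp _).symm)
    ((Category.comp_id _).trans (Sigma.ι_desc (fun _ : ι => 𝟙 T) i).symm)

lemma r_eq (i : ι) (T' : Over T) :
    r i T' = pullback.fst T'.hom (𝟙 T) ≫ (sec i T').left := by
  apply pullback.hom_ext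
  · rw [Category.assoc, sec_left_fst, Category.comp_id]
    exact (pullback.lift_fst _ _ _).trans (Category.comp_id _)
  · rw [Category.assoc, sec_left_snd, pullback.condition_assoc, Category.id_comp]
    exact pullback.lift_snd _ _ _

/-- the section of `pullback.fst T'.hom (𝟙 T)`. -/
noncomputable abbrev d (T' : Over T) : T'.left ⟶ pullback T'.hom (𝟙 T) :=
  pullback.lift (𝟙 _) T'.hom (by rw [Category.id_comp, Category.comp_id])

lemma d_r (i : ι) (T' : Over T) : d T' ≫ r i T' = (sec i T').left := by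
  rw [r_eq, ← Category.assoc, pullback.lift_fst, Category.id_comp]

theorem ρ_bijective [Finite ι] (T' : Over T) : Function.Bijective (ρ (ι := ι) f T') := by
  constructor
  · intro b b' h
    let a : ∀ _ : ι, (Flatn.morS (𝟙 T) f).obj (op T') := fun i =>
      Over.homMk (r i T' ≫ b.left) (by
        show (r i T' ≫ b.left) ≫ f = pullback.snd T'.hom (𝟙 T) ≫ 𝟙 T
        have hb : b.left ≫ f = pullback.snd T'.hom (fold T ι) ≫ fold T ι := Over.w b
        rw [Category.assoc, hb, ← Category.assoc]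
        show (pullback.map _ _ _ _ _ _ _ _ _ ≫ pullback.snd _ _) ≫ _ = _
        rw [pullback.lift_snd, Category.assoc, Sigma.ι_desc])
    obtain ⟨b₀, -, huniq⟩ := Groth.Agent.S17084.result (fun _ : ι => T) (fun _ => 𝟙 T) f T' a
    have h1 : b = b₀ := huniq b (fun i => rfl)
    have h2 : b' = b₀ := huniq b' (fun i => by
      show r i T' ≫ b'.left = r i T' ≫ b.left
      rw [r_eq, Category.assoc, Category.assoc]
      congr 1
      exact (congrArg CommaMorphism.left (congrFun h i)).symm)
    rw [h1, h2]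
  · intro t
    let a : ∀ _ : ι, (Flatn.morS (𝟙 T) f).obj (op T') := fun i =>
      Over.homMk (pullback.fst T'.hom (𝟙 T) ≫ (t i).left) (by
        show (pullback.fst T'.hom (𝟙 T) ≫ (t i).left) ≫ f = pullback.snd T'.hom (𝟙 T) ≫ 𝟙 T
        have ht : (t i).left ≫ f = T'.hom := Over.w (t i)
        rw [Category.assoc, ht, pullback.condition])
    obtain ⟨b₀, hb₀, -⟩ := Groth.Agent.S17084.result (fun _ : ι => T) (fun _ => 𝟙 T) f T' a
    refine ⟨b₀, funext fun i => ?_⟩
    apply Over.OverMorphism.ext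
    show (sec i T').left ≫ b₀.left = (t i).left
    have h := hb₀ i
    change r i T' ≫ b₀.left = pullback.fst T'.hom (𝟙 T) ≫ (t i).left at h
    have h' : d T' ≫ r i T' ≫ (b₀ : PT (fold T ι) T' ⟶ Over.mk f).left =
        d T' ≫ pullback.fst T'.hom (𝟙 T) ≫ (t i).left := by rw [h]
    rw [← Category.assoc, d_r, ← Category.assoc, pullback.lift_fst, Category.id_comp] at h'
    exact h'

/-- finite products of a finite étale cover, computed in `Over T`. -/
theorem exists_fet_product [Finite ι] (Yf : FEt.Cat T) :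
    ∃ (P : Over T) (π : ι → (P ⟶ Over.mk Yf.hom)), FEt.prop P.hom ∧
      ∀ (T' : Over T) (t : ι → (T' ⟶ Over.mk Yf.hom)), ∃! φ : T' ⟶ P, ∀ i, φ ≫ π i = t i := by
  classical
  haveI : Fintype ι := Fintype.ofFinite ι
  haveI : HasFiniteLimits (FEt.Cat T) := Groth.Agent.Lib.Seat2.FEtLim.hasFiniteLimits T
  let F := MorphismProperty.Over.forget FEt.prop ⊤ T
  let D : Discrete ι ⥤ FEt.Cat T := Discrete.functor fun _ => Yf
  let c := limit.cone D
  have hc : IsLimit (F.mapCone c) := isLimitOfPreserves F (limit.isLimit D)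
  refine ⟨F.obj c.pt, fun i => (F.mapCone c).π.app ⟨i⟩, c.pt.prop, fun T' t => ?_⟩
  let s : Cone (D ⋙ F) := { pt := T', π := Discrete.natTrans fun i => t i.as }
  refine ⟨hc.lift s, fun i => hc.fac s ⟨i⟩, fun φ hφ => hc.uniq s φ (fun i => hφ i.as)⟩

/-- **the representing object of `Mor_T(∐_ι T, Y)` is finite étale** for `Y` finite étale. -/
theorem prop_hom_of_representableBy [Finite ι] (Yf : FEt.Cat T) {M : Over T}
    (e : (Flatn.morS (fold T ι) Yf.hom).RepresentableBy M) : FEt.prop M.hom := by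
  obtain ⟨P, π, hP, huniv⟩ := exists_fet_product (ι := ι) Yf
  let E1 : ∀ T' : Over T, (T' ⟶ P) ≃ (ι → (T' ⟶ Over.mk Yf.hom)) := fun T' =>
    Equiv.ofBijective (fun φ i => φ ≫ π i)
      ⟨fun φ φ' h => by
        obtain ⟨φ₀, -, hu⟩ := huniv T' (fun i => φ ≫ π i)
        rw [hu φ (fun i => rfl), hu φ' (fun i => (congrFun h i).symm)],
       fun t => by
        obtain ⟨φ₀, h₀, -⟩ := huniv T' t
        exact ⟨φ₀, funext h₀⟩⟩
  let E2 : ∀ T' : Over T, (Flatn.morS (fold T ι) Yf.hom).obj (op T') ≃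
      (ι → (T' ⟶ Over.mk Yf.hom)) := fun T' =>
    Equiv.ofBijective (ρ (ι := ι) Yf.hom T') (ρ_bijective Yf.hom T')
  let eP : (Flatn.morS (fold T ι) Yf.hom).RepresentableBy P :=
    { homEquiv := fun {T'} => (E1 T').trans (E2 T').symm
      homEquiv_comp := fun {T' T''} c φ => by
        apply (E2 T').injective
        show E2 T' ((E2 T').symm (E1 T' (c ≫ φ))) =
          ρ (ι := ι) Yf.hom T' (Pmap (fold T ι) c ≫
            ((E2 T'').symm (E1 T'' φ) : PT (fold T ι) T'' ⟶ Over.mk Yf.hom))
        rw [Equiv.apply_symm_apply]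
        funext i
        show (c ≫ φ) ≫ π i = sec i T' ≫ Pmap (fold T ι) c ≫ _
        rw [← Category.assoc (sec i T'), sec_natural, Category.assoc, Category.assoc]
        congr 1
        have h := congrFun ((E2 T'').apply_symm_apply (E1 T'' φ)) i
        exact h.symm }
  let j : M ≅ P := e.uniqueUpToIso eP
  have hw : j.hom.left ≫ P.hom = M.hom := Over.w j.hom
  haveI : IsIso j.hom.left := inferInstanceAs (IsIso ((Over.forget T).map j.hom))
  rw [← hw]
  exact (MorphismProperty.cancel_left_of_respectsIso FEt.prop j.hom.left P.hom).2 hP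

end Groth.Agent.Lib.Seat2.MorSSplit
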