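import Mathlib
import Groth.Prelude.Def_FEt
import Groth.Agent.Lib.Seat2SplitDeg
import Groth.Agent.Lib.Seat2FibreCard

/-!
# Splitting a finite étale cover of constant degree (seat 2)

The proof of `S7762`, restated with the degree given by `Scheme.Hom.finrank` and the splitting
isomorphism exposed.
-/

set_option autoImplicit false
universe u

namespace Groth.Agent.Lib.Seat2.SplitRank

open Groth.Agent.Lib.Seat2.SplitDeg Groth.Agent.Lib.Seat2.FibreCard
open AlgebraicGeometry CategoryTheory CategoryTheory.Limits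

/-- a finite étale cover of constant degree `n` is split by a finite étale surjective cover. -/
theorem exists_split_of_finrank {S : Scheme.{u}} (Y : FEt.Cat S) (n : ℕ)
    (hfr : ∀ s : S, Scheme.Hom.finrank Y.hom s = n) :
    ∃ T : FEt.Cat S, Surjective T.hom ∧ ∃ (ι : Type u) (_ : Finite ι)
      (Ψ₀ : (∐ fun _ : ι => T.left) ⟶ pullback Y.hom T.hom), IsIso Ψ₀ ∧
        Ψ₀ ≫ pullback.snd Y.hom T.hom = Sigma.desc fun _ : ι => 𝟙 T.left := by
  classical
  have hYfin : IsFinite Y.hom := Y.prop.1
  have hYet : Etale Y.hom := Y.prop.2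
  have hY : HasDeg Y n := by
    intro Ω _ _ ξ
    rw [card_fiberObj_eq_finrank ξ Y, hfr]
  obtain ⟨T, σ, hT, hσ, hinj⟩ := exists_ordering n Y hY
  have hTfin : IsFinite T.hom := T.prop.1
  have hTet : Etale T.hom := T.prop.2
  -- the degree of `T`
  have hfrT : ∀ s : S, Scheme.Hom.finrank T.hom s = n.factorial := by
    intro s
    let Ω := AlgebraicClosure (S.residueField s)
    obtain ⟨ζ, hζ⟩ : ∃ ζ : Spec (CommRingCat.of Ω) ⟶ S, ζ (IsLocalRing.closedPoint Ω) = s :=
      ⟨Spec.map (CommRingCat.ofHom (algebraMap (S.residueField s) Ω)) ≫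
        S.fromSpecResidueField s, by
        rw [Scheme.Hom.comp_apply, Scheme.fromSpecResidueField_apply]⟩
    rw [← hζ, ← card_fiberObj_eq_finrank ζ T, hT Ω ζ]
  refine ⟨T, ?_, ?_⟩
  · -- surjectivity
    rw [← Scheme.Hom.one_le_finrank_iff_surjective]
    intro s
    rw [hfrT s]
    exact Nat.factorial_pos n
  · -- the splitting
    let ι := ULift.{u} (Fin n)
    have hP : FEt.prop (Sigma.desc fun _ : ι => 𝟙 T.left) :=
      ⟨Groth.Agent.Lib.Seat62.GraphCover.isFinite_sigmaDesc ι _ _ _ (fun _ => inferInstance),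
        IsZariskiLocalAtSource.sigmaDesc (fun _ => inferInstance)⟩
    let P : FEt.Cat T.left := MorphismProperty.Over.mk ⊤ (Sigma.desc fun _ : ι => 𝟙 T.left) hP
    let W : FEt.Cat T.left := (FEt.restrict T.hom).obj Y
    let c : ι → (T.left ⟶ pullback Y.hom T.hom) := fun i =>
      pullback.lift (σ i.down) (𝟙 T.left) ((hσ i.down).trans (Category.id_comp _).symm)
    obtain ⟨Ψ₀, hΨ₀⟩ : ∃ Ψ₀ : (∐ fun _ : ι => T.left) ⟶ pullback Y.hom T.hom,
        Ψ₀ = Sigma.desc c := ⟨_, rfl⟩
    have hc1 : ∀ i, Sigma.ι (fun _ : ι => T.left) i ≫ Ψ₀ ≫ pullback.fst Y.hom T.hom = σ i.down := by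
      intro i
      rw [hΨ₀, ← Category.assoc, Sigma.ι_desc]
      exact pullback.lift_fst _ _ _
    have hc2 : ∀ i, Sigma.ι (fun _ : ι => T.left) i ≫ Ψ₀ ≫ pullback.snd Y.hom T.hom = 𝟙 T.left := by
      intro i
      rw [hΨ₀, ← Category.assoc, Sigma.ι_desc]
      exact pullback.lift_snd _ _ _
    have hΨw : Ψ₀ ≫ pullback.snd Y.hom T.hom = Sigma.desc fun _ : ι => 𝟙 T.left := by
      apply Sigma.hom_ext
      intro i
      rw [hc2, Sigma.ι_desc]
    let Ψ : P ⟶ W := MorphismProperty.Over.homMk Ψ₀ hΨw trivial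
    have hiso : IsIso Ψ₀ := by
      apply isIso_left_of_bijective_fiber Ψ
      intro Ω _ _ t
      -- the orbit map
      have hfinY : Finite (FEt.fiberObj (t ≫ T.hom) Y) := finite_fiberObj _ _
      let o : Fin n → FEt.fiberObj (t ≫ T.hom) Y := fun i => ⟨t ≫ σ i,
        (Category.assoc _ _ _).trans (congrArg (fun m => t ≫ m) (hσ i))⟩
      have ho : Function.Injective o := fun a b hab => hinj Ω t (congrArg Subtype.val hab)
      have hob : Function.Bijective o :=
        ho.bijective_of_nat_card_le (by rw [hY Ω _, Nat.card_fin])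
      constructor
      · rintro ⟨s, hs⟩ ⟨s', hs'⟩ h
        change Spec (CommRingCat.of Ω) ⟶ ∐ fun _ : ι => T.left at s
        change Spec (CommRingCat.of Ω) ⟶ ∐ fun _ : ι => T.left at s'
        change s ≫ Sigma.desc (fun _ : ι => 𝟙 T.left) = t at hs
        change s' ≫ Sigma.desc (fun _ : ι => 𝟙 T.left) = t at hs'
        have h' : s ≫ Ψ₀ = s' ≫ Ψ₀ := congrArg Subtype.val h
        apply Subtype.ext
        change s = s'
        obtain ⟨i, a, rfl⟩ := exists_factor_sigma (fun _ : ι => T.left) s
        obtain ⟨i', a', rfl⟩ := exists_factor_sigma (fun _ : ι => T.left) s'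
        have ha : t = a := by
          rw [Category.assoc, Sigma.ι_desc] at hs
          exact hs.symm.trans (Category.comp_id a)
        have ha' : t = a' := by
          rw [Category.assoc, Sigma.ι_desc] at hs'
          exact hs'.symm.trans (Category.comp_id a')
        subst ha
        subst ha'
        have h2 := congrArg (fun m => m ≫ pullback.fst Y.hom T.hom) h'
        simp only [Category.assoc, hc1] at h2
        have h3 : i.down = i'.down := hinj Ω t h2
        have h4 : i = i' := ULift.ext _ _ h3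
        subst h4
        rfl
      · rintro ⟨w, hw⟩
        change Spec (CommRingCat.of Ω) ⟶ pullback Y.hom T.hom at w
        change w ≫ pullback.snd Y.hom T.hom = t at hw
        have hw1 : (w ≫ pullback.fst Y.hom T.hom) ≫ Y.hom = t ≫ T.hom := by
          rw [Category.assoc, pullback.condition, ← Category.assoc, hw]
        obtain ⟨i, hi⟩ := hob.surjective ⟨w ≫ pullback.fst Y.hom T.hom, hw1⟩
        have hi' : t ≫ σ i = w ≫ pullback.fst Y.hom T.hom := congrArg Subtype.val hi
        refine ⟨⟨t ≫ Sigma.ι (fun _ : ι => T.left) ⟨i⟩, ?_⟩, Subtype.ext ?_⟩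
        · change (t ≫ Sigma.ι (fun _ : ι => T.left) ⟨i⟩) ≫ Sigma.desc (fun _ : ι => 𝟙 T.left) = t
          rw [Category.assoc, Sigma.ι_desc]
          exact Category.comp_id t
        · change (t ≫ Sigma.ι (fun _ : ι => T.left) ⟨i⟩) ≫ Ψ₀ = w
          apply pullback.hom_ext
          · rw [Category.assoc, Category.assoc, hc1]
            exact hi'
          · rw [Category.assoc, Category.assoc, hc2, hw]
            exact Category.comp_id t
    exact ⟨ι, inferInstance, Ψ₀, hiso, hΨw⟩


end Groth.Agent.Lib.Seat2.SplitRank
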