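import Mathlib
import Groth.Prelude.Def_Flatn
import Groth.Prelude.Def_FEt
import Groth.Agent.S17079
import Groth.Agent.Lib.Seat2WeilGlue
import Groth.Agent.Lib.Seat2MorSIso
import Groth.Agent.Lib.Seat2MorSSplit
import Groth.Agent.Lib.Seat2SplitRank

/-!
# Internal Hom of finite étale covers (seat 2)

For finite étale covers `U, V` of `X`, the scheme `Mor_X(U, V)` (Weil restriction of `V` along `U`)
is finite étale over `X`.
-/

set_option autoImplicit false
universe u

namespace Groth.Agent.Lib.Seat2.IntHom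

open CategoryTheory CategoryTheory.Limits AlgebraicGeometry Opposite MorphismProperty
open Groth.Agent.Lib.Seat2.WeilAF Groth.Agent.Lib.Seat2.MorSSplit

/-- finite étale descends along a surjective finite étale base change, for affine morphisms. -/
theorem prop_of_pullback_snd {W X T : Scheme.{u}} (w : W ⟶ X) [IsAffineHom w] (h : T ⟶ X)
    [Surjective h] [Flat h] [QuasiCompact h] (hp : FEt.prop (pullback.snd w h)) : FEt.prop w := by
  have hQ : (@Surjective ⊓ @Flat ⊓ @QuasiCompact : MorphismProperty Scheme.{u}) h :=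
    ⟨⟨inferInstance, inferInstance⟩, inferInstance⟩
  haveI : IsFinite (pullback.snd w h) := hp.1
  haveI : Etale (pullback.snd w h) := hp.2
  have h1 : Etale w := of_pullback_snd_of_descendsAlong (P := @Etale)
    (Q := @Surjective ⊓ @Flat ⊓ @QuasiCompact) hQ inferInstance
  have h2 : UniversallyClosed w := of_pullback_snd_of_descendsAlong (P := @UniversallyClosed)
    (Q := @Surjective ⊓ @Flat ⊓ @QuasiCompact) hQ inferInstance
  have h3 : LocallyOfFiniteType w := of_pullback_snd_of_descendsAlong (P := @LocallyOfFiniteType)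
    (Q := @Surjective ⊓ @Flat ⊓ @QuasiCompact) hQ inferInstance
  refine ⟨?_, h1⟩
  rw [IsFinite.iff_isIntegralHom_and_locallyOfFiniteType,
    IsIntegralHom.iff_universallyClosed_and_isAffineHom]
  exact ⟨⟨h2, inferInstance⟩, h3⟩

variable {X : Scheme.{u}} (U V : FEt.Cat X)

/-- the case of constant degree. -/
theorem prop_hom_of_finrank {W₀ : Over X} [IsAffineHom W₀.hom]
    (e : (Flatn.morS U.hom V.hom).RepresentableBy W₀) (n : ℕ)
    (hfr : ∀ s : X, Scheme.Hom.finrank U.hom s = n) : FEt.prop W₀.hom := by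
  obtain ⟨T, hTsurj, ι, hι, Ψ₀, hiso, hΨ⟩ :=
    Groth.Agent.Lib.Seat2.SplitRank.exists_split_of_finrank U n hfr
  let h : T.left ⟶ X := T.hom
  haveI : IsFinite h := T.prop.1
  haveI : Etale h := T.prop.2
  haveI : Surjective h := hTsurj
  obtain ⟨e₂⟩ := Groth.Agent.S17079.result U.hom V.hom h W₀ e
  let θ : (∐ fun _ : ι => T.left) ≅ pullback U.hom h := asIso Ψ₀
  have e₂' : (Flatn.morS (fold T.left ι) (pullback.snd V.hom h)).RepresentableBy
      (Over.mk (pullback.snd W₀.hom h)) :=
    Groth.Agent.Lib.Seat2.MorSIso.representableBy (pullback.snd U.hom h) (fold T.left ι)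
      (pullback.snd V.hom h) θ hΨ e₂
  have hp : FEt.prop (pullback.snd W₀.hom h) :=
    prop_hom_of_representableBy ((FEt.restrict h).obj V) e₂'
  exact prop_of_pullback_snd W₀.hom h hp

/-- **The Hom-scheme of finite étale covers is finite étale.** -/
theorem prop_hom_of_representableBy {W₀ : Over X} [IsAffineHom W₀.hom]
    (e : (Flatn.morS U.hom V.hom).RepresentableBy W₀) : FEt.prop W₀.hom := by
  haveI : IsFinite U.hom := U.prop.1
  haveI : Etale U.hom := U.prop.2
  have hlc := Scheme.Hom.isLocallyConstant_finrank U.hom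
  let Xn : ℕ → X.Opens := fun n => ⟨Scheme.Hom.finrank U.hom ⁻¹' {n}, hlc.isOpen_fiber n⟩
  have hcov : ⨆ n, Xn n = ⊤ := by
    rw [eq_top_iff]
    intro x _
    exact TopologicalSpace.Opens.mem_iSup.2 ⟨Scheme.Hom.finrank U.hom x, rfl⟩
  have key : ∀ n, FEt.prop (W₀.hom ∣_ Xn n) := by
    intro n
    let j : (Xn n : Scheme.{u}) ⟶ X := (Xn n).ι
    obtain ⟨e₁⟩ := Groth.Agent.S17079.result U.hom V.hom j W₀ e
    let Un : FEt.Cat (Xn n : Scheme.{u}) := (FEt.restrict j).obj U
    let Vn : FEt.Cat (Xn n : Scheme.{u}) := (FEt.restrict j).obj V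
    have hfr : ∀ s : (Xn n : Scheme.{u}), Scheme.Hom.finrank Un.hom s = n := by
      intro s
      have h1 : Scheme.Hom.finrank (pullback.snd U.hom j) s = Scheme.Hom.finrank U.hom (j s) :=
        Scheme.Hom.finrank_pullback_snd U.hom j s
      exact h1.trans s.2
    haveI : IsAffineHom (pullback.snd W₀.hom j) := MorphismProperty.pullback_snd _ _ inferInstance
    haveI : IsAffineHom (Over.mk (pullback.snd W₀.hom j)).hom :=
      inferInstanceAs (IsAffineHom (pullback.snd W₀.hom j))
    have hp : FEt.prop (pullback.snd W₀.hom j) :=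
      prop_hom_of_finrank Un Vn (W₀ := Over.mk (pullback.snd W₀.hom j)) e₁ n hfr
    have hsq := (isPullback_morphismRestrict W₀.hom (Xn n)).flip
    have hw : hsq.isoPullback.hom ≫ pullback.snd W₀.hom j = W₀.hom ∣_ Xn n :=
      hsq.isoPullback_hom_snd
    rw [← hw]
    exact (MorphismProperty.cancel_left_of_respectsIso FEt.prop _ _).2 hp
  constructor
  · rw [IsZariskiLocalAtTarget.iff_of_iSup_eq_top (P := @IsFinite) Xn hcov]
    exact fun n => (key n).1
  · rw [IsZariskiLocalAtTarget.iff_of_iSup_eq_top (P := @Etale) Xn hcov]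
    exact fun n => (key n).2

section Points

variable {T : Scheme.{u}} (g : T ⟶ X)

/-- the underlying morphism of schemes of a morphism of restricted covers. -/
noncomputable abbrev leftHom (φ : (FEt.restrict g).obj U ⟶ (FEt.restrict g).obj V) :
    pullback U.hom g ⟶ pullback V.hom g := φ.left

lemma leftHom_snd (φ : (FEt.restrict g).obj U ⟶ (FEt.restrict g).obj V) :
    leftHom U V g φ ≫ pullback.snd V.hom g = pullback.snd U.hom g :=
  MorphismProperty.Over.w φ

/-- the underlying morphism of schemes of a section of `morS`. -/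
noncomputable abbrev secHom (b : (Flatn.morS U.hom V.hom).obj (op (Over.mk g))) :
    pullback g U.hom ⟶ V.left := (b : PT U.hom (Over.mk g) ⟶ Over.mk V.hom).left

lemma secHom_w (b : (Flatn.morS U.hom V.hom).obj (op (Over.mk g))) :
    secHom U V g b ≫ V.hom = pullback.snd g U.hom ≫ U.hom :=
  Over.w (b : PT U.hom (Over.mk g) ⟶ Over.mk V.hom)

/-- scheme level: from a section to a morphism of fibre products. -/
noncomputable def toL (β : pullback g U.hom ⟶ V.left)
    (hβ : β ≫ V.hom = pullback.snd g U.hom ≫ U.hom) : pullback U.hom g ⟶ pullback V.hom g :=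
  pullback.lift ((pullbackSymmetry U.hom g).hom ≫ β) (pullback.snd U.hom g) (by
    rw [Category.assoc, hβ, pullbackSymmetry_hom_comp_snd_assoc, pullback.condition])

lemma toL_fst (β : pullback g U.hom ⟶ V.left)
    (hβ : β ≫ V.hom = pullback.snd g U.hom ≫ U.hom) :
    toL U V g β hβ ≫ pullback.fst V.hom g = (pullbackSymmetry U.hom g).hom ≫ β :=
  pullback.lift_fst _ _ _

lemma toL_snd (β : pullback g U.hom ⟶ V.left)
    (hβ : β ≫ V.hom = pullback.snd g U.hom ≫ U.hom) :
    toL U V g β hβ ≫ pullback.snd V.hom g = pullback.snd U.hom g :=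
  pullback.lift_snd _ _ _

/-- scheme level: from a morphism of fibre products to a section. -/
noncomputable def ofL (l : pullback U.hom g ⟶ pullback V.hom g) : pullback g U.hom ⟶ V.left :=
  (pullbackSymmetry U.hom g).inv ≫ l ≫ pullback.fst V.hom g

lemma ofL_w (l : pullback U.hom g ⟶ pullback V.hom g)
    (hl : l ≫ pullback.snd V.hom g = pullback.snd U.hom g) :
    ofL U V g l ≫ V.hom = pullback.snd g U.hom ≫ U.hom := by
  unfold ofL
  rw [Category.assoc, Category.assoc, pullback.condition, reassoc_of% hl,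
    pullbackSymmetry_inv_comp_snd_assoc, pullback.condition]

lemma ofL_toL (β : pullback g U.hom ⟶ V.left)
    (hβ : β ≫ V.hom = pullback.snd g U.hom ≫ U.hom) : ofL U V g (toL U V g β hβ) = β := by
  unfold ofL
  rw [toL_fst, Iso.inv_hom_id_assoc]

lemma toL_ofL (l : pullback U.hom g ⟶ pullback V.hom g)
    (hl : l ≫ pullback.snd V.hom g = pullback.snd U.hom g) :
    toL U V g (ofL U V g l) (ofL_w U V g l hl) = l := by
  apply pullback.hom_ext
  · rw [toL_fst]
    unfold ofL
    rw [Iso.hom_inv_id_assoc]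
  · rw [toL_snd, hl]

/-- sections of `morS` over `T` are the morphisms between the restricted covers. -/
noncomputable def secEquiv :
    (Flatn.morS U.hom V.hom).obj (op (Over.mk g)) ≃
      ((FEt.restrict g).obj U ⟶ (FEt.restrict g).obj V) where
  toFun b := MorphismProperty.Over.homMk (toL U V g (secHom U V g b) (secHom_w U V g b))
    (toL_snd U V g _ _) trivial
  invFun φ := Over.homMk (ofL U V g (leftHom U V g φ))
    (ofL_w U V g (leftHom U V g φ) (leftHom_snd U V g φ))
  left_inv b := by
    apply Over.OverMorphism.ext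
    exact ofL_toL U V g (secHom U V g b) (secHom_w U V g b)
  right_inv φ := by
    ext
    exact toL_ofL U V g (leftHom U V g φ) (leftHom_snd U V g φ)

/-- `T`-points of a scheme over `X`, as morphisms in `Over X`. -/
def ptEquiv (W₀ : Over X) : {s : T ⟶ W₀.left // s ≫ W₀.hom = g} ≃ (Over.mk g ⟶ W₀) where
  toFun s := Over.homMk s.1 s.2
  invFun φ := ⟨φ.left, Over.w φ⟩
  left_inv _ := rfl
  right_inv _ := rfl

end Points

/-- **Internal Hom of finite étale covers.** -/
theorem exists_internalHom :
    ∃ W : FEt.Cat X, ∀ (T : Scheme.{u}) (g : T ⟶ X),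
      Nonempty ({s : T ⟶ W.left // s ≫ W.hom = g} ≃
        ((FEt.restrict g).obj U ⟶ (FEt.restrict g).obj V)) := by
  haveI : IsFinite U.hom := U.prop.1
  haveI : Etale U.hom := U.prop.2
  haveI : IsFinite V.hom := V.prop.1
  have hg : Mor2.IsFinLocFree U.hom := ⟨inferInstance, inferInstance, inferInstance⟩
  obtain ⟨W₀, hW₀, ⟨e⟩⟩ :=
    Groth.Agent.Lib.Seat2.WeilGlue.exists_representableBy_affine U.hom V.hom hg
  have hprop : FEt.prop W₀.hom := prop_hom_of_representableBy U V e
  refine ⟨MorphismProperty.Over.mk ⊤ W₀.hom hprop, fun T g => ?_⟩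
  exact ⟨(ptEquiv g W₀).trans (e.homEquiv.trans (secEquiv U V g))⟩

end Groth.Agent.Lib.Seat2.IntHom
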