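import Mathlib
import Groth.Prelude.Def_SGA1t
import Groth.Agent.Lib.Seat2TorsorAlg

/-!
# Kummer theory for `μ_n`-torsor algebras over a local ring

`A` local with `n` invertible and a primitive `n`-th root of unity; `B` a finite faithfully flat `A`-algebra
with an action `τ` of `μ_n(A)` by `A`-algebra maps such that `B ⊗[A] B → ∏_{μ_n} B` is bijective. Then
`B ≅ A[T]/(T^n - a)` for a unit `a`, compatibly with `T ↦ ζ T`.
-/

set_option autoImplicit false

namespace Groth.Agent.Lib.Seat2.Kummer

open TensorProduct Polynomial Groth.Agent.Lib.Seat2.TorsorAlg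

universe u

section LocalRoots

variable (A : Type u) [CommRing A] [IsLocalRing A] (n : ℕ) (hn : IsUnit (n : A))

include hn in
/-- an `n`-th root of unity congruent to `1` is `1` (`n` invertible in the local ring `A`). -/
lemma eq_one_of_sub_one_mem (ζ : A) (hζ : ζ ^ n = 1)
    (h : ζ - 1 ∈ IsLocalRing.maximalIdeal A) : ζ = 1 := by
  have hS : IsUnit (∑ i ∈ Finset.range n, ζ ^ i) := by
    have h1 : (∑ i ∈ Finset.range n, ζ ^ i) - (n : A) ∈ IsLocalRing.maximalIdeal A := by
      have : (∑ i ∈ Finset.range n, ζ ^ i) - (n : A) = ∑ i ∈ Finset.range n, (ζ ^ i - 1) := by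
        simp [Finset.sum_sub_distrib]
      rw [this]
      apply Ideal.sum_mem
      intro i _
      rw [← mul_geom_sum]
      exact Ideal.mul_mem_right _ _ h
    by_contra hnu
    have h2 : (∑ i ∈ Finset.range n, ζ ^ i) ∈ IsLocalRing.maximalIdeal A :=
      (IsLocalRing.mem_maximalIdeal _).mpr hnu
    have h3 : (n : A) ∈ IsLocalRing.maximalIdeal A := by
      have := Ideal.sub_mem _ h2 h1
      simpa using this
    exact (IsLocalRing.mem_maximalIdeal _).mp h3 hn
  have h0 : (ζ - 1) * ∑ i ∈ Finset.range n, ζ ^ i = 0 := by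
    rw [mul_geom_sum, hζ, sub_self]
  have h4 : ζ - 1 = 0 := hS.mul_left_eq_zero.mp h0
  exact sub_eq_zero.mp h4

include hn in
/-- distinct roots of unity differ by a unit. -/
lemma isUnit_sub (g h : rootsOfUnity n A) (hne : g ≠ h) :
    IsUnit ((((g : Aˣ) : A)) - ((h : Aˣ) : A)) := by
  have hk : ((((h⁻¹ * g : rootsOfUnity n A) : Aˣ) : A)) ^ n = 1 := by
    have h2 := (mem_rootsOfUnity n ((h⁻¹ * g : rootsOfUnity n A) : Aˣ)).mp (h⁻¹ * g).2
    have h3 := congrArg Units.val h2
    simpa using h3
  have hne1 : ((((h⁻¹ * g : rootsOfUnity n A) : Aˣ) : A)) ≠ 1 := by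
    intro h1
    apply hne
    have h2 : ((h⁻¹ * g : rootsOfUnity n A) : Aˣ) = 1 := Units.ext h1
    have h3 : h⁻¹ * g = 1 := Subtype.ext h2
    exact (inv_mul_eq_one.mp h3).symm
  have hu : IsUnit (((((h⁻¹ * g : rootsOfUnity n A) : Aˣ) : A)) - 1) := by
    by_contra hnu
    exact hne1 (eq_one_of_sub_one_mem A n hn _ hk ((IsLocalRing.mem_maximalIdeal _).mpr hnu))
  have heq : (((g : Aˣ) : A)) - ((h : Aˣ) : A) =
      ((h : Aˣ) : A) * (((((h⁻¹ * g : rootsOfUnity n A) : Aˣ) : A)) - 1) := by
    have : ((((h⁻¹ * g : rootsOfUnity n A) : Aˣ) : A)) = (((h : Aˣ)⁻¹ : Aˣ) : A) * ((g : Aˣ) : A) := by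
      simp
    rw [this, mul_sub, ← mul_assoc, Units.mul_inv, one_mul, mul_one]
  rw [heq]
  exact (Units.isUnit _).mul hu

include hn in
lemma finite_rootsOfUnity (hn1 : 1 ≤ n) : Finite (rootsOfUnity n A) := by
  haveI : NeZero n := ⟨by omega⟩
  let red := restrictRootsOfUnity (IsLocalRing.residue A) n
  have hinj : Function.Injective red := by
    rw [injective_iff_map_eq_one]
    intro g hg
    have h1 : IsLocalRing.residue A ((g : Aˣ) : A) = 1 := by
      have := congrArg (fun x : rootsOfUnity n (IsLocalRing.ResidueField A) =>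
        ((x : (IsLocalRing.ResidueField A)ˣ) : IsLocalRing.ResidueField A)) hg
      simpa [red] using this
    have h2 : ((g : Aˣ) : A) - 1 ∈ IsLocalRing.maximalIdeal A := by
      rw [← Ideal.Quotient.eq_zero_iff_mem, map_sub, map_one]
      exact sub_eq_zero.mpr h1
    have hk : (((g : Aˣ) : A)) ^ n = 1 := by
      have h2 := (mem_rootsOfUnity n (g : Aˣ)).mp g.2
      have h3 := congrArg Units.val h2
      simpa using h3
    have h3 := eq_one_of_sub_one_mem A n hn _ hk h2
    exact Subtype.ext (Units.ext h3)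
  exact Finite.of_injective red hinj

include hn in
lemma card_rootsOfUnity (hn1 : 1 ≤ n) (ζ₀ : A) (hζ₀ : IsPrimitiveRoot ζ₀ n) :
    Nat.card (rootsOfUnity n A) = n := by
  haveI : NeZero n := ⟨by omega⟩
  haveI := finite_rootsOfUnity A n hn hn1
  apply le_antisymm
  · let red := restrictRootsOfUnity (IsLocalRing.residue A) n
    have hinj : Function.Injective red := by
      rw [injective_iff_map_eq_one]
      intro g hg
      have h1 : IsLocalRing.residue A ((g : Aˣ) : A) = 1 := by
        have := congrArg (fun x : rootsOfUnity n (IsLocalRing.ResidueField A) =>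
          ((x : (IsLocalRing.ResidueField A)ˣ) : IsLocalRing.ResidueField A)) hg
        simpa [red] using this
      have h2 : ((g : Aˣ) : A) - 1 ∈ IsLocalRing.maximalIdeal A := by
        rw [← Ideal.Quotient.eq_zero_iff_mem, map_sub, map_one]
        exact sub_eq_zero.mpr h1
      have hk : (((g : Aˣ) : A)) ^ n = 1 := by
        have h2 := (mem_rootsOfUnity n (g : Aˣ)).mp g.2
        have h3 := congrArg Units.val h2
        simpa using h3
      have h3 := eq_one_of_sub_one_mem A n hn _ hk h2
      exact Subtype.ext (Units.ext h3)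
    exact (Nat.card_le_card_of_injective red hinj).trans
      (_root_.card_rootsOfUnity (IsLocalRing.ResidueField A) n)
  · have h1 : orderOf hζ₀.toRootsOfUnity = n := by
      rw [← Subgroup.orderOf_coe, ← orderOf_units, hζ₀.val_toRootsOfUnity_coe]
      exact hζ₀.eq_orderOf.symm
    exact h1.symm.le.trans orderOf_le_card

end LocalRoots

section Resolvent

variable (A : Type u) [CommRing A] [IsLocalRing A] (n : ℕ)
  (B : Type u) [CommRing B] [Algebra A B]
  [Fintype (rootsOfUnity n A)]
  (τ : rootsOfUnity n A → (B →ₐ[A] B)) (hτmul : ∀ g h, (τ g).comp (τ h) = τ (h * g))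

/-- the tautological character, with values in `B`. -/
noncomputable def chi (g : rootsOfUnity n A) : B := algebraMap A B ((g : Aˣ) : A)

lemma chi_mul (g h : rootsOfUnity n A) : chi A n B (g * h) = chi A n B g * chi A n B h := by
  unfold chi
  rw [← map_mul]
  rfl

lemma chi_one : chi A n B 1 = 1 := by
  unfold chi
  simp

lemma chi_pow (g : rootsOfUnity n A) : chi A n B g ^ n = 1 := by
  unfold chi
  rw [← map_pow]
  have h2 := (mem_rootsOfUnity n (g : Aˣ)).mp g.2
  have h3 : (((g : Aˣ) : A)) ^ n = 1 := by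
    have := congrArg Units.val h2
    simpa using this
  rw [h3, map_one]

lemma tau_chi (h g : rootsOfUnity n A) : τ h (chi A n B g) = chi A n B g := (τ h).commutes _

/-- the Lagrange resolvent. -/
noncomputable def res : B →ₗ[A] B :=
  ∑ g : rootsOfUnity n A, (LinearMap.mulLeft A (chi A n B g⁻¹)).comp (τ g).toLinearMap

lemma res_apply (c : B) : res A n B τ c = ∑ g : rootsOfUnity n A, chi A n B g⁻¹ * τ g c := by
  simp [res, LinearMap.sum_apply]

include hτmul in
lemma tau_res (h : rootsOfUnity n A) (c : B) :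
    τ h (res A n B τ c) = chi A n B h * res A n B τ c := by
  rw [res_apply, map_sum, Finset.mul_sum]
  have h1 : ∀ g, τ h (chi A n B g⁻¹ * τ g c) =
      chi A n B h * (chi A n B (g * h)⁻¹ * τ (g * h) c) := fun g => by
    rw [map_mul, tau_chi, ← hτmul h g, ← mul_assoc, ← chi_mul]
    congr 2
    rw [mul_inv_rev, mul_inv_cancel_left]
  simp only [h1]
  exact Fintype.sum_equiv (Equiv.mulRight h) _ _ (fun g => rfl)

variable [Module.FaithfullyFlat A B] [Algebra.IsIntegral A B]
  (hψ : Function.Bijective (psi A B (rootsOfUnity n A) τ))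

include hτmul hψ in
/-- **Kummer generator**: a unit `t` of `B` with `τ_ζ t = ζ t` and `t^n` a unit of `A`. -/
theorem exists_kummer_gen (hn1 : 1 ≤ n) : ∃ (t : B) (a : Aˣ), IsUnit t ∧
    t ^ n = algebraMap A B a ∧ ∀ h, τ h t = chi A n B h * t := by
  classical
  -- `n`-th powers of resolvents lie in `A`
  have hpow : ∀ c, ∃ a : A, algebraMap A B a = res A n B τ c ^ n := fun c =>
    mem_range_of_invariant A B _ τ hψ.injective _ (fun g => by
      rw [map_pow, tau_res A n B τ hτmul, mul_pow, chi_pow, one_mul])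
  -- the resolvents generate the unit ideal
  let Λ : (rootsOfUnity n A → B) →ₗ[A] B :=
    ∑ g : rootsOfUnity n A, (LinearMap.mulLeft A (chi A n B g⁻¹)).comp (LinearMap.proj g)
  have hΛ : ∀ x, Λ x = ∑ g : rootsOfUnity n A, chi A n B g⁻¹ * x g := fun x => by
    simp [Λ, LinearMap.sum_apply]
  let Φ : B ⊗[A] B →ₗ[A] B := (LinearMap.mul' A B).comp (LinearMap.lTensor B (res A n B τ))
  have hΛΦ : Λ.comp (psi A B (rootsOfUnity n A) τ).toLinearMap = Φ := by
    apply TensorProduct.ext'
    intro b c
    change Λ (psi A B _ τ (b ⊗ₜ c)) = LinearMap.mul' A B (LinearMap.lTensor B (res A n B τ) (b ⊗ₜ c))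
    rw [hΛ, LinearMap.lTensor_tmul, LinearMap.mul'_apply, res_apply, Finset.mul_sum]
    refine Finset.sum_congr rfl (fun g _ => ?_)
    rw [psi_tmul]
    ring
  obtain ⟨w, hw⟩ := hψ.surjective (Pi.single 1 1)
  have hΦw : Φ w = 1 := by
    rw [← hΛΦ]
    change Λ (psi A B _ τ w) = 1
    rw [hw, hΛ, Finset.sum_eq_single 1]
    · simp [chi_one]
    · intro g _ hg
      simp [hg]
    · intro h
      exact absurd (Finset.mem_univ _) h
  let J : Ideal B := Ideal.span (Set.range (res A n B τ))
  have hΦJ : ∀ z, Φ z ∈ J := by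
    intro z
    induction z using TensorProduct.induction_on with
    | zero => simp
    | tmul x y =>
      change LinearMap.mul' A B (LinearMap.lTensor B (res A n B τ) (x ⊗ₜ y)) ∈ J
      rw [LinearMap.lTensor_tmul, LinearMap.mul'_apply]
      exact Ideal.mul_mem_left _ _ (Ideal.subset_span ⟨y, rfl⟩)
    | add x y hx hy =>
      rw [map_add]
      exact Ideal.add_mem _ hx hy
  have h1J : (1 : B) ∈ J := hΦw ▸ hΦJ w
  -- some resolvent is a unit
  have hex : ∃ c, IsUnit (res A n B τ c) := by
    by_contra hno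
    push_neg at hno
    haveI : Nontrivial B := by
      by_contra hB
      rw [not_nontrivial_iff_subsingleton] at hB
      exact hno 0 (isUnit_of_subsingleton _)
    obtain ⟨𝔫, h𝔫⟩ := Ideal.exists_maximal B
    have hcomap : 𝔫.comap (algebraMap A B) = IsLocalRing.maximalIdeal A :=
      IsLocalRing.eq_maximalIdeal (Ideal.isMaximal_comap_of_isIntegral_of_isMaximal 𝔫)
    have hmem : ∀ c, res A n B τ c ∈ 𝔫 := by
      intro c
      obtain ⟨a, ha⟩ := hpow c
      have ha_nu : ¬ IsUnit a := by
        intro hu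
        have h2 : IsUnit (res A n B τ c ^ n) := ha ▸ hu.map (algebraMap A B)
        exact hno c ((isUnit_pow_iff (by omega)).mp h2)
      have ha𝔪 : a ∈ IsLocalRing.maximalIdeal A := (IsLocalRing.mem_maximalIdeal _).mpr ha_nu
      rw [← hcomap, Ideal.mem_comap, ha] at ha𝔪
      exact h𝔫.isPrime.mem_of_pow_mem n ha𝔪
    have hJ𝔫 : J ≤ 𝔫 := by
      rw [Ideal.span_le]
      rintro _ ⟨c, rfl⟩
      exact hmem c
    exact h𝔫.ne_top ((Ideal.eq_top_iff_one _).mpr (hJ𝔫 h1J))
  obtain ⟨c, hc⟩ := hex
  obtain ⟨a, ha⟩ := hpow c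
  have hau : IsUnit a := by
    by_contra ha_nu
    have ha𝔪 : a ∈ IsLocalRing.maximalIdeal A := (IsLocalRing.mem_maximalIdeal _).mpr ha_nu
    have h2 : IsUnit (algebraMap A B a) := ha ▸ hc.pow n
    have h3 : (IsLocalRing.maximalIdeal A) • (⊤ : Submodule A B) = ⊤ := by
      rw [eq_top_iff]
      intro b _
      obtain ⟨u, hu⟩ := h2
      have : b = a • ((↑u⁻¹ : B) * b) := by
        rw [Algebra.smul_def, ← hu, ← mul_assoc, Units.mul_inv, one_mul]
      rw [this]
      exact Submodule.smul_mem_smul ha𝔪 trivial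
    exact Module.FaithfullyFlat.submodule_ne_top (IsLocalRing.maximalIdeal.isMaximal A) h3
  exact ⟨res A n B τ c, hau.unit, hc, ha.symm, fun h => tau_res A n B τ hτmul h c⟩

end Resolvent

section Main

variable (A : Type u) [CommRing A] [IsLocalRing A] (n : ℕ) (hn : IsUnit (n : A))
  (B : Type u) [CommRing B] [Algebra A B]
  [Fintype (rootsOfUnity n A)]
  (τ : rootsOfUnity n A → (B →ₐ[A] B))
  (hn1 : 1 ≤ n)
  (t : B) (a : A) (ht : IsUnit t) (hta : t ^ n = algebraMap A B a)
  (hτt : ∀ h, τ h t = chi A n B h * t)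

/-- the Kummer polynomial. -/
noncomputable def kPoly : A[X] := X ^ n - C a

include hn1 in
lemma monic_kPoly : (kPoly A n a).Monic := monic_X_pow_sub_C a (by omega)

lemma natDegree_kPoly : (kPoly A n a).natDegree = n := natDegree_X_pow_sub_C

include hta in
lemma eval_t : (kPoly A n a).eval₂ (Algebra.ofId A B) t = 0 := by
  unfold kPoly
  rw [eval₂_sub, eval₂_pow, eval₂_X, eval₂_C]
  change _ - algebraMap A B a = 0
  rw [hta, sub_self]

/-- the comparison map `A[T]/(T^n - a) → B`. -/
noncomputable def phi : AdjoinRoot (kPoly A n a) →ₐ[A] B :=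
  AdjoinRoot.liftAlgHom (kPoly A n a) (Algebra.ofId A B) t (eval_t A n B t a hta)

lemma phi_root : phi A n B t a hta (AdjoinRoot.root _) = t :=
  AdjoinRoot.liftAlgHom_root _ _ _ _

/-- `psi` as a `B`-linear map. -/
noncomputable def psiB : B ⊗[A] B →ₗ[B] (rootsOfUnity n A → B) where
  toFun := psi A B (rootsOfUnity n A) τ
  map_add' := map_add _
  map_smul' := fun b z => by
    rw [RingHom.id_apply]
    have h1 : b • z = (b ⊗ₜ[A] (1 : B)) * z := by
      rw [Algebra.smul_def]
      rfl
    rw [h1, map_mul]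
    funext j
    rw [Pi.mul_apply, psi_tmul, map_one, mul_one, Pi.smul_apply, smul_eq_mul]

variable [Module.FaithfullyFlat A B]
  (hψ : Function.Bijective (psi A B (rootsOfUnity n A) τ))
  (hcard : Fintype.card (rootsOfUnity n A) = n)

include hn hn1 ht hτt hψ hcard in
/-- the comparison map is bijective (Vandermonde). -/
theorem phi_bijective : Function.Bijective (phi A n B t a hta) := by
  classical
  let G := rootsOfUnity n A
  let f := kPoly A n a
  let pb := AdjoinRoot.powerBasis' (monic_kPoly A n hn1 a)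
  have hdim : pb.dim = n := natDegree_kPoly A n a
  let bA : Module.Basis (Fin n) A (AdjoinRoot f) := pb.basis.reindex (finCongr hdim)
  have hbA : ∀ i : Fin n, bA i = AdjoinRoot.root f ^ (i : ℕ) := by
    intro i
    change pb.basis.reindex (finCongr hdim) i = _
    rw [Module.Basis.reindex_apply, pb.basis_eq_pow]
    rfl
  let bB : Module.Basis (Fin n) B (B ⊗[A] AdjoinRoot f) := Algebra.TensorProduct.basis B bA
  let e : G ≃ Fin n := Fintype.equivFinOfCardEq hcard
  let bT : Module.Basis (Fin n) B (G → B) := (Pi.basisFun B G).reindex e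
  let φ := phi A n B t a hta
  let L : B ⊗[A] AdjoinRoot f →ₗ[B] (G → B) :=
    (psiB A n B τ).comp (φ.toLinearMap.baseChange B)
  let v : Fin n → B := fun i => chi A n B (e.symm i) * t
  have hmat : LinearMap.toMatrix bB bT L = Matrix.vandermonde v := by
    ext i j
    rw [LinearMap.toMatrix_apply, Matrix.vandermonde_apply]
    change bT.repr (psi A B G τ (φ.toLinearMap.baseChange B (bB j))) i = _
    rw [Algebra.TensorProduct.basis_apply, LinearMap.baseChange_tmul, hbA]
    change ((Pi.basisFun B G).reindex e).repr _ i = _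
    rw [Module.Basis.repr_reindex_apply, Pi.basisFun_repr, psi_tmul, one_mul]
    change τ (e.symm i) (φ (AdjoinRoot.root f ^ (j : ℕ))) = _
    rw [map_pow, map_pow, phi_root, hτt]
  have hdet : IsUnit (LinearMap.toMatrix bB bT L).det := by
    rw [hmat, Matrix.det_vandermonde]
    have : ∀ i j : Fin n, v j - v i =
        algebraMap A B ((((e.symm j : G) : Aˣ) : A) - (((e.symm i : G) : Aˣ) : A)) * t := fun i j => by
      change chi A n B _ * t - chi A n B _ * t = _
      unfold chi
      rw [map_sub, sub_mul]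
    simp only [this]
    rw [IsUnit.prod_iff]
    intro i _
    rw [IsUnit.prod_iff]
    intro j hj
    refine IsUnit.mul (IsUnit.map (algebraMap A B) ?_) ht
    apply isUnit_sub A n hn
    intro h
    have := e.symm.injective h
    rw [Finset.mem_Ioi] at hj
    exact (ne_of_gt hj) this
  let Leq := LinearEquiv.ofIsUnitDet hdet
  have hL : Function.Bijective L := by
    have : (Leq : B ⊗[A] AdjoinRoot f →ₗ[B] (G → B)) = L := LinearEquiv.coe_ofIsUnitDet hdet
    rw [← this]
    exact Leq.bijective
  -- peel off `psi`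
  have hbc : Function.Bijective (φ.toLinearMap.baseChange B) := by
    have hcomp : (L : _ → _) = (psi A B G τ) ∘ (φ.toLinearMap.baseChange B) := rfl
    rw [hcomp] at hL
    exact (Function.Bijective.of_comp_iff' hψ _).mp hL
  have hlt : Function.Bijective (φ.toLinearMap.lTensor B) := hbc
  exact (Module.FaithfullyFlat.lTensor_bijective_iff_bijective A B φ.toLinearMap).mp hlt

end Main

section KummerAlg

variable (A : Type u) [CommRing A] [IsLocalRing A] (n : ℕ) (hn : IsUnit (n : A))
  (B : Type u) [CommRing B] [Algebra A B]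
  [Fintype (rootsOfUnity n A)]
  (τ : rootsOfUnity n A → (B →ₐ[A] B))
  (hn1 : 1 ≤ n)
  (t : B) (a : A) (ht : IsUnit t) (hta : t ^ n = algebraMap A B a)
  (hτt : ∀ h, τ h t = chi A n B h * t)

/-- the Kummer algebra of the prelude, on one variable. -/
noncomputable abbrev K : Type u := SGA1t.kummer A (fun _ : Unit => a) (fun _ => n)

/-- the defining ideal. -/
noncomputable abbrev I : Ideal (MvPolynomial Unit A) :=
  Ideal.span (Set.range fun _ : Unit => (MvPolynomial.X () : MvPolynomial Unit A) ^ n - MvPolynomial.C a)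

include hta in
lemma aeval_mem (q : MvPolynomial Unit A) (hq : q ∈ I A n a) :
    MvPolynomial.aeval (R := A) (fun _ : Unit => t) q = 0 := by
  have hle : I A n a ≤ RingHom.ker (MvPolynomial.aeval (R := A) (fun _ : Unit => t)).toRingHom := by
    rw [Ideal.span_le]
    rintro _ ⟨i, rfl⟩
    rw [SetLike.mem_coe, RingHom.mem_ker]
    change MvPolynomial.aeval (R := A) (fun _ : Unit => t) _ = 0
    rw [map_sub, map_pow, MvPolynomial.aeval_X, MvPolynomial.aeval_C, hta, sub_self]
  exact hle hq

/-- the comparison map from the prelude's Kummer algebra. -/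
noncomputable def phiK : K A n a →ₐ[A] B :=
  Ideal.Quotient.liftₐ (I A n a) (MvPolynomial.aeval (R := A) (fun _ : Unit => t))
    (aeval_mem A n B t a hta)

lemma phiK_mk (q : MvPolynomial Unit A) :
    phiK A n B t a hta (Ideal.Quotient.mk _ q) = MvPolynomial.aeval (R := A) (fun _ : Unit => t) q := rfl

lemma eval_X : (kPoly A n a).eval₂ (Algebra.ofId A (K A n a))
    (Ideal.Quotient.mk (I A n a) (MvPolynomial.X ())) = 0 := by
  unfold kPoly
  rw [eval₂_sub, eval₂_pow, eval₂_X, eval₂_C]
  change _ - Ideal.Quotient.mk (I A n a) (MvPolynomial.C a) = 0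
  rw [← map_pow, ← map_sub]
  exact Ideal.Quotient.eq_zero_iff_mem.mpr (Ideal.subset_span ⟨(), rfl⟩)

/-- `A[T]/(T^n - a) → K`. -/
noncomputable def alpha : AdjoinRoot (kPoly A n a) →ₐ[A] K A n a :=
  AdjoinRoot.liftAlgHom (kPoly A n a) (Algebra.ofId A (K A n a))
    (Ideal.Quotient.mk (I A n a) (MvPolynomial.X ())) (eval_X A n a)

lemma alpha_root : alpha A n a (AdjoinRoot.root _) = Ideal.Quotient.mk (I A n a) (MvPolynomial.X ()) :=
  AdjoinRoot.liftAlgHom_root _ _ _ _

lemma alpha_surjective : Function.Surjective (alpha A n a) := by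
  intro y
  obtain ⟨q, rfl⟩ := Ideal.Quotient.mk_surjective y
  induction q using MvPolynomial.induction_on with
  | C r =>
    refine ⟨algebraMap A _ r, ?_⟩
    rw [AlgHom.commutes]
    rfl
  | add p q hp hq =>
    obtain ⟨x, hx⟩ := hp
    obtain ⟨y, hy⟩ := hq
    exact ⟨x + y, by rw [map_add, hx, hy, map_add]⟩
  | mul_X p i hp =>
    obtain ⟨x, hx⟩ := hp
    exact ⟨x * AdjoinRoot.root _, by rw [map_mul, hx, alpha_root, map_mul]⟩

lemma phiK_comp_alpha : (phiK A n B t a hta).comp (alpha A n a) = phi A n B t a hta := by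
  apply AdjoinRoot.algHom_ext
  rw [AlgHom.comp_apply, alpha_root, phiK_mk, MvPolynomial.aeval_X, phi_root]

variable [Module.FaithfullyFlat A B]
  (hψ : Function.Bijective (psi A B (rootsOfUnity n A) τ))
  (hcard : Fintype.card (rootsOfUnity n A) = n)

include hn hn1 ht hτt hψ hcard in
theorem phiK_bijective : Function.Bijective (phiK A n B t a hta) := by
  have hbij := phi_bijective A n hn B τ hn1 t a ht hta hτt hψ hcard
  rw [← phiK_comp_alpha A n B t a hta] at hbij
  have hcomp : ⇑((phiK A n B t a hta).comp (alpha A n a)) = ⇑(phiK A n B t a hta) ∘ ⇑(alpha A n a) := rfl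
  rw [hcomp] at hbij
  constructor
  · intro x y hxy
    obtain ⟨x', rfl⟩ := alpha_surjective A n a x
    obtain ⟨y', rfl⟩ := alpha_surjective A n a y
    exact congrArg _ (hbij.injective hxy)
  · exact Function.Surjective.of_comp hbij.surjective

end KummerAlg

section Final

variable (A : Type u) [CommRing A] [IsLocalRing A] (n : ℕ) (hn : IsUnit (n : A))
  (B : Type u) [CommRing B] [Algebra A B]
  [Fintype (rootsOfUnity n A)]
  (τ : rootsOfUnity n A → (B →ₐ[A] B)) (hτmul : ∀ g h, (τ g).comp (τ h) = τ (h * g))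
  [Module.FaithfullyFlat A B] [Algebra.IsIntegral A B]
  (hψ : Function.Bijective (psi A B (rootsOfUnity n A) τ))
  (hn1 : 1 ≤ n) (hcard : Fintype.card (rootsOfUnity n A) = n)

include hn hτmul hψ hn1 hcard in
/-- **Kummer**: the torsor algebra is `A[T]/(T^n - a)`, `a` a unit, with `μ_n(A)` acting by `T ↦ ζ T`. -/
theorem exists_ringEquiv : ∃ (a : Aˣ)
    (Φ : SGA1t.kummer A (fun _ : Unit => (a : A)) (fun _ => n) ≃+* B),
    (Φ : SGA1t.kummer A (fun _ : Unit => (a : A)) (fun _ => n) →+* B).comp
        (algebraMap A (SGA1t.kummer A (fun _ : Unit => (a : A)) (fun _ => n))) = algebraMap A B ∧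
    ∀ ζ : rootsOfUnity n A, ((τ ζ : B →ₐ[A] B) : B →+* B).comp
        (Φ : SGA1t.kummer A (fun _ : Unit => (a : A)) (fun _ => n) →+* B) =
      (Φ : SGA1t.kummer A (fun _ : Unit => (a : A)) (fun _ => n) →+* B).comp
        (SGA1t.kummerTwist A (fun _ : Unit => (a : A)) (fun _ => n) (fun _ => ζ)) := by
  obtain ⟨t, a, ht, hta, hτt⟩ := exists_kummer_gen A n B τ hτmul hψ hn1
  have hbij := phiK_bijective A n hn B τ hn1 t (a : A) ht hta hτt hψ hcard
  let Φ : SGA1t.kummer A (fun _ : Unit => (a : A)) (fun _ => n) ≃+* B :=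
    RingEquiv.ofBijective (phiK A n B t (a : A) hta : K A n (a : A) →+* B) hbij
  have hΦmk : ∀ q : MvPolynomial Unit A,
      Φ (Ideal.Quotient.mk _ q) = MvPolynomial.aeval (R := A) (fun _ : Unit => t) q := fun q => rfl
  refine ⟨a, Φ, ?_, ?_⟩
  · ext x
    change Φ (Ideal.Quotient.mk _ (MvPolynomial.C x)) = _
    rw [hΦmk, MvPolynomial.aeval_C]
  · intro ζ
    apply Ideal.Quotient.ringHom_ext
    apply MvPolynomial.ringHom_ext
    · intro x
      change τ ζ (Φ (Ideal.Quotient.mk _ (MvPolynomial.C x))) =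
        Φ (SGA1t.kummerTwist A (fun _ : Unit => (a : A)) (fun _ => n) (fun _ => ζ)
          (Ideal.Quotient.mk _ (MvPolynomial.C x)))
      rw [hΦmk, MvPolynomial.aeval_C]
      change _ = Φ (Ideal.Quotient.mk _ (MvPolynomial.aeval (R := A)
        (fun i : Unit => MvPolynomial.C (((ζ : Aˣ) : A)) * MvPolynomial.X i) (MvPolynomial.C x)))
      rw [MvPolynomial.aeval_C, hΦmk, MvPolynomial.algebraMap_eq, MvPolynomial.aeval_C]
      exact (τ ζ).commutes x
    · intro i
      change τ ζ (Φ (Ideal.Quotient.mk _ (MvPolynomial.X i))) =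
        Φ (SGA1t.kummerTwist A (fun _ : Unit => (a : A)) (fun _ => n) (fun _ => ζ)
          (Ideal.Quotient.mk _ (MvPolynomial.X i)))
      rw [hΦmk, MvPolynomial.aeval_X]
      change _ = Φ (Ideal.Quotient.mk _ (MvPolynomial.aeval (R := A)
        (fun i : Unit => MvPolynomial.C (((ζ : Aˣ) : A)) * MvPolynomial.X i) (MvPolynomial.X i)))
      rw [MvPolynomial.aeval_X, hΦmk, map_mul, MvPolynomial.aeval_X, MvPolynomial.aeval_C, hτt]
      rfl

end Final

end Groth.Agent.Lib.Seat2.Kummer
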