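import Mathlib
import Groth.Prelude.Def_SGA3x
import Groth.Agent.Lib.Seat27TorusLfp

/-!
# A group of multiplicative type (finite type) is flat and locally of finite presentation (helper2)

Same argument as helper27's `Seat27TorusLfp.isTorus_of`, for `SGA3x.IsMultTypeFT`.
-/

set_option autoImplicit false
universe u

open CategoryTheory CategoryTheory.Limits MonoidalCategory CartesianMonoidalCategory MonObj GrpObj
  AlgebraicGeometry MorphismProperty

namespace Groth.Agent.Lib.Seat2.MultTypeFlat

open Groth.Agent.Lib.Seat27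

/-- a property stable under isomorphisms, Zariski local on the target and descending along
quasi-compact faithfully flat morphisms, which holds for all `D_S(M)` (`M` finitely generated),
holds for every group of multiplicative type. -/
theorem isMultTypeFT_of (P : MorphismProperty Scheme.{u}) [IsZariskiLocalAtTarget P]
    [P.DescendsAlong (@Surjective ⊓ @Flat ⊓ @QuasiCompact)]
    (hDS : ∀ (S : Scheme.{u}) (M : Type) [AddCommGroup M], AddGroup.FG M → P (Red.DS S M).hom)
    {S : Scheme.{u}} (T : Over S) [GrpObj T] (hT : SGA3x.IsMultTypeFT T) : P T.hom := by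
  have hiso : P.RespectsIso := inferInstance
  obtain ⟨S', f, hflat, -, hqc, hloc⟩ := hT
  refine FpqcLocal.of_fpqc_cover P T.hom f hqc ?_
  apply IsZariskiLocalAtTarget.of_forall_exists_morphismRestrict
  intro s'
  obtain ⟨U, hs'U, M, _, hM, ⟨e⟩⟩ := hloc s'
  refine ⟨U, hs'U, ?_⟩
  let e' : Red.bc (U.ι ≫ f) T ≅ Red.DS (U : Scheme.{u}) M := (Grp.forget _).mapIso e
  have h1 : P (Red.bc (U.ι ≫ f) T).hom := by
    have : (Red.bc (U.ι ≫ f) T).hom = e'.hom.left ≫ (Red.DS (U : Scheme.{u}) M).hom :=
      (Over.w e'.hom).symm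
    rw [this]
    have : IsIso e'.hom.left := inferInstanceAs (IsIso ((CategoryTheory.Over.forget _).map e'.hom))
    exact (P.cancel_left_of_respectsIso _ _).mpr (hDS _ M hM)
  change P (pullback.snd T.hom (U.ι ≫ f)) at h1
  have hbig : IsPullback (pullback.fst T.hom (U.ι ≫ f)) (pullback.snd T.hom (U.ι ≫ f)) T.hom (U.ι ≫ f) :=
    IsPullback.of_hasPullback _ _
  have hcomm : pullback.fst T.hom (U.ι ≫ f) ≫ T.hom = (pullback.snd T.hom (U.ι ≫ f) ≫ U.ι) ≫ f := by
    rw [Category.assoc]; exact hbig.w
  have hleft : IsPullback (pullback.lift _ _ hcomm) (pullback.snd T.hom (U.ι ≫ f))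
      (pullback.snd T.hom f) U.ι := by
    refine IsPullback.of_right ?_ (pullback.lift_snd _ _ _) (IsPullback.of_hasPullback T.hom f)
    rw [pullback.lift_fst]
    exact hbig
  have hres := (isPullback_morphismRestrict (pullback.snd T.hom f) U).flip
  have : pullback.snd T.hom f ∣_ U =
      (hres.isoIsPullback _ _ hleft).hom ≫ pullback.snd T.hom (U.ι ≫ f) := by
    rw [IsPullback.isoIsPullback_hom_snd]
  rw [this]
  exact (P.cancel_left_of_respectsIso _ _).mpr h1

theorem flat_of_isMultTypeFT {S : Scheme.{u}} (T : Over S) [GrpObj T]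
    (hT : SGA3x.IsMultTypeFT T) : Flat T.hom :=
  isMultTypeFT_of (P := @Flat) (fun S M _ _ => TorusLfp.flat_DS S M) T hT

theorem lfp_of_isMultTypeFT {S : Scheme.{u}} (T : Over S) [GrpObj T]
    (hT : SGA3x.IsMultTypeFT T) : LocallyOfFinitePresentation T.hom := by
  refine isMultTypeFT_of (P := @LocallyOfFinitePresentation) (fun S M _ hM => ?_) T hT
  haveI : AddGroup.FG M := hM
  haveI : Monoid.FG (Multiplicative M) := inferInstance
  exact TorusLfp.lfp_DS S M

end Groth.Agent.Lib.Seat2.MultTypeFlat
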