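import Mathlib
import Groth.Prelude.Def_FEt
import Groth.Agent.S12073
import Groth.Agent.Lib.Helper22FieldLim
import Groth.Agent.Lib.Seat2FrobDescent

/-!
# Descent of finite étale covers along a purely inseparable base field extension (qcqs case)

For `K/k` purely inseparable (algebraic) of characteristic `p` and `Y` quasi-compact quasi-separated
over `k`, every finite étale cover of `Y_K` descends to `Y`: limit descent to a finite subextension
(prior S12073) + Frobenius descent (`Seat2FrobDescent`).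
-/

set_option autoImplicit false
universe u

namespace Groth.Agent.Lib.Seat2.PInsepLim

open CategoryTheory Limits AlgebraicGeometry
open Groth.Agent.Lib.Helper22.FieldLim Groth.Agent.Lib.Seat2.FrobDescent

variable (p : ℕ) [hp : Fact p.Prime] (k K : Type u) [Field k] [Field K] [Algebra k K]
  [hk : CharP k p] [IsPurelyInseparable k K]

include hp hk

/-- chosen-pullback form -/
theorem exists_restrict_iso {Y : Scheme.{u}} [CompactSpace Y] [QuasiSeparatedSpace Y]
    (g : Y ⟶ Spec (CommRingCat.of k))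
    (V : FEt.Cat (pullback g (Spec.map (CommRingCat.ofHom (algebraMap k K))))) :
    ∃ W : FEt.Cat Y, Nonempty ((FEt.restrict (pullback.fst g
      (Spec.map (CommRingCat.ofHom (algebraMap k K))))).obj W ≅ V) := by
  obtain ⟨i, Vi, ⟨φ⟩⟩ := (Groth.Agent.S12073.result (D (K := K) g)
    (cone (K := K) g) (coneIsLimit g)).1 V
  let L : FinSub k K := i.unop
  haveI : FiniteDimensional k L.1 := L.2
  haveI : IsPurelyInseparable k L.1 := IsPurelyInseparable.tower_bot k L.1 K
  haveI : CharP L.1 p := charP_of_injective_algebraMap (algebraMap k L.1).injective p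
  haveI : ExpChar k p := ExpChar.prime Fact.out
  let ψ : L.1 →+* k := IsPurelyInseparable.iterateFrobenius k L.1 p
    (le_refl (IsPurelyInseparable.exponent k L.1))
  obtain ⟨W, ⟨eW⟩⟩ := exists_restrict_iso_of_pow p (algebraMap k L.1) ψ
    (IsPurelyInseparable.exponent k L.1)
    (fun r => IsPurelyInseparable.iterateFrobenius_algebraMap L.1 p _ r)
    (fun s => IsPurelyInseparable.algebraMap_iterateFrobenius k p _ s)
    g (pullback.fst g (sL L)) (pullback.snd g (sL L)) (IsPullback.of_hasPullback g (sL L)) Vi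
  refine ⟨W, ⟨?_⟩⟩
  exact restrictCompIso (mKL g L) (pullback.fst g (sL L)) _ (mKL_fst g L).symm W ≪≫
    (FEt.restrict (mKL g L)).mapIso eW ≪≫ φ

/-- pullback-square form -/
theorem exists_descent {Y Y' : Scheme.{u}} [CompactSpace Y] [QuasiSeparatedSpace Y]
    (g : Y ⟶ Spec (CommRingCat.of k)) (π' : Y' ⟶ Y) (g' : Y' ⟶ Spec (CommRingCat.of K))
    (hpb : IsPullback π' g' g (Spec.map (CommRingCat.ofHom (algebraMap k K))))
    {V' : Scheme.{u}} (v' : V' ⟶ Y') (hfin : IsFinite v') (het : Etale v') :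
    ∃ (W : Scheme.{u}) (w : W ⟶ Y) (a : V' ⟶ W), IsFinite w ∧ Etale w ∧ IsPullback a v' w π' := by
  let e := hpb.isoPullback
  let V : FEt.Cat (pullback g (Spec.map (CommRingCat.ofHom (algebraMap k K)))) :=
    MorphismProperty.Over.mk ⊤ (v' ≫ e.hom) ⟨inferInstance, inferInstance⟩
  obtain ⟨W, ⟨θ⟩⟩ := exists_restrict_iso p k K g V
  let wh : W.left ⟶ Y := W.hom
  let fK := pullback.fst g (Spec.map (CommRingCat.ofHom (algebraMap k K)))
  let e₁ : pullback wh fK ≅ V' :=
    (MorphismProperty.Over.forget _ _ _ ⋙ Over.forget _).mapIso θ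
  have he₁ : e₁.hom ≫ v' ≫ e.hom = pullback.snd wh fK := MorphismProperty.Over.w θ.hom
  refine ⟨W.left, wh, e₁.inv ≫ pullback.fst wh fK, W.prop.1, W.prop.2, ?_⟩
  refine IsPullback.of_iso (IsPullback.of_hasPullback wh fK) e₁ (Iso.refl _) e.symm (Iso.refl _)
    ?_ ?_ ?_ ?_
  · simp
  · rw [Iso.symm_hom, ← he₁]
    simp
  · simp
  · rw [Iso.symm_hom, Iso.refl_hom, Category.comp_id, Iso.eq_inv_comp]
    exact hpb.isoPullback_hom_fst

end Groth.Agent.Lib.Seat2.PInsepLim
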