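import Mathlib
import Groth.Agent.Lib.Seat2AffShrink

/-!
# Finite subsets of fibres of separated locally quasi-finite morphisms lie in affine opens (seat 2)

Via Mathlib's Zariski main theorem: a quasi-compact open `X₁` of `X` over an affine open of the
base is an open subscheme of the (affine) relative normalization.
-/

set_option autoImplicit false
universe u

namespace Groth.Agent.Lib.Seat2.QFinAF

open CategoryTheory CategoryTheory.Limits AlgebraicGeometry TopologicalSpace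
open Groth.Agent.Lib.Seat2.AffShrink

/-- a quasi-affine situation: finitely many points of a scheme which is quasi-compact, separated,
locally quasi-finite and locally of finite type over an affine scheme lie in an affine open. -/
theorem exists_isAffineOpen_of_finite_of_affine_base {X₁ S₀ : Scheme.{u}} (f₁ : X₁ ⟶ S₀)
    [IsAffine S₀] [IsSeparated f₁] [LocallyQuasiFinite f₁] [LocallyOfFiniteType f₁]
    [QuasiCompact f₁] (F : Set X₁) (hF : F.Finite) :
    ∃ A : X₁.Opens, IsAffineOpen A ∧ F ⊆ A := by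
  let j : X₁ ⟶ f₁.normalization := f₁.toNormalization
  haveI : IsOpenImmersion j := inferInstanceAs (IsOpenImmersion f₁.toNormalization)
  haveI : IsAffine f₁.normalization := isAffine_of_isAffineHom f₁.fromNormalization
  obtain ⟨A', hA', -, hA'r, hFA'⟩ := exists_isAffineOpen_le_of_finite
    (isAffineOpen_top f₁.normalization) j.opensRange (j '' F) (hF.image _)
    (fun _ _ => trivial) (by rintro _ ⟨x, -, rfl⟩; exact ⟨x, rfl⟩)
  refine ⟨j ⁻¹ᵁ A', hA'.preimage_of_isOpenImmersion j hA'r, fun x hx => ?_⟩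
  exact hFA' ⟨x, hx, rfl⟩

/-- **AF for separated locally quasi-finite morphisms**: finitely many points of one fibre lie in
a common affine open. -/
theorem exists_isAffineOpen_of_finite {X S : Scheme.{u}} (f : X ⟶ S) [IsSeparated f]
    [LocallyQuasiFinite f] [LocallyOfFiniteType f] (s : S) (F : Set X) (hF : F.Finite)
    (hFs : ∀ x ∈ F, f x = s) : ∃ A : X.Opens, IsAffineOpen A ∧ F ⊆ A := by
  classical
  obtain ⟨S₀, hS₀, hsS₀, -⟩ := exists_isAffineOpen_mem_and_subset (x := s) (U := ⊤) trivial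
  have hex : ∀ x : F, ∃ A : X.Opens, IsAffineOpen A ∧ x.1 ∈ A ∧ A ≤ f ⁻¹ᵁ S₀ := by
    intro x
    have hx : x.1 ∈ f ⁻¹ᵁ S₀ := by
      show f x.1 ∈ S₀
      rw [hFs x.1 x.2]; exact hsS₀
    obtain ⟨A, hA, hxA, hle⟩ := exists_isAffineOpen_mem_and_subset (x := x.1) (U := f ⁻¹ᵁ S₀) hx
    exact ⟨A, hA, hxA, hle⟩
  choose A hA hxA hle using hex
  haveI : Finite F := hF
  let X₁ : X.Opens := ⨆ x : F, A x
  have hX₁c : IsCompact (X₁ : Set X) := by
    have : (X₁ : Set X) = ⋃ x : F, (A x : Set X) := by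
      simp [X₁]
    rw [this]
    exact isCompact_iUnion (fun x => (hA x).isCompact)
  have hX₁le : X₁ ≤ f ⁻¹ᵁ S₀ := iSup_le hle
  haveI : CompactSpace (X₁ : Scheme.{u}) := isCompact_iff_compactSpace.1 hX₁c
  haveI : IsAffine (S₀ : Scheme.{u}) := hS₀
  have hrange : Set.range (X₁.ι ≫ f) ⊆ Set.range S₀.ι := by
    rw [S₀.range_ι]
    rintro _ ⟨x, rfl⟩
    rw [Scheme.Hom.comp_apply]
    exact hX₁le x.2
  let f₁ : (X₁ : Scheme.{u}) ⟶ (S₀ : Scheme.{u}) := IsOpenImmersion.lift S₀.ι (X₁.ι ≫ f) hrange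
  have hf₁ : f₁ ≫ S₀.ι = X₁.ι ≫ f := IsOpenImmersion.lift_fac _ _ _
  haveI : IsSeparated (f₁ ≫ S₀.ι) := by rw [hf₁]; infer_instance
  haveI : LocallyQuasiFinite (f₁ ≫ S₀.ι) := by rw [hf₁]; infer_instance
  haveI : LocallyOfFiniteType (f₁ ≫ S₀.ι) := by rw [hf₁]; infer_instance
  haveI : IsSeparated f₁ := IsSeparated.of_comp f₁ S₀.ι
  haveI : LocallyQuasiFinite f₁ := LocallyQuasiFinite.of_comp f₁ S₀.ι
  haveI : LocallyOfFiniteType f₁ := locallyOfFiniteType_of_comp f₁ S₀.ι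
  haveI : QuasiCompact f₁ := (HasAffineProperty.iff_of_isAffine (P := @QuasiCompact)).2
    inferInstance
  have hFX₁ : ∀ x ∈ F, x ∈ X₁ := fun x hx =>
    Opens.mem_iSup.2 ⟨⟨x, hx⟩, hxA ⟨x, hx⟩⟩
  obtain ⟨A₁, hA₁, hFA₁⟩ := exists_isAffineOpen_of_finite_of_affine_base f₁
    {x₁ : X₁ | x₁.1 ∈ F} (hF.preimage Subtype.val_injective.injOn)
  refine ⟨X₁.ι ''ᵁ A₁, hA₁.image_of_isOpenImmersion X₁.ι, fun x hx => ?_⟩
  exact ⟨⟨x, hFX₁ x hx⟩, hFA₁ hx, rfl⟩

end Groth.Agent.Lib.Seat2.QFinAF
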