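import Mathlib
import Groth.Prelude.Def_FEt
import Groth.Agent.Lib.Helper20EtHom

/-!
# Essential surjectivity of `FEt.restrict` along a universal homeomorphism is local on the base

For `π : X' ⟶ X` integral, universally injective and surjective: if finite étale covers of
`π⁻¹(U)` descend to `U` for every affine open `U ⊆ X`, then every finite étale cover of `X'`
descends to `X`.  The local pieces are glued with Mathlib's relative gluing over the directed cover
by all affine opens; the transition maps come from the unique lifting of morphisms into étale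
schemes along universal homeomorphisms.
-/

set_option autoImplicit false
universe u

namespace Groth.Agent.Lib.Seat2.UHGlue

open CategoryTheory Limits AlgebraicGeometry

/-- uniqueness of lifts into an étale scheme along a surjective morphism -/
lemma hom_ext_of_surjective {S A B Y' : Scheme.{u}} (b : B ⟶ S) [Etale b] (φ₁ φ₂ : A ⟶ B)
    (h : Y' ⟶ A) [Surjective h] (h1 : φ₁ ≫ b = φ₂ ≫ b) (hh : h ≫ φ₁ = h ≫ φ₂) : φ₁ = φ₂ := by
  let X : Over S := Over.mk b
  let Y : Over S := Over.mk (φ₁ ≫ b)
  let f₁ : Y ⟶ X := Over.homMk φ₁ rfl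
  let f₂ : Y ⟶ X := Over.homMk φ₂ h1.symm
  have : Etale X.hom := ‹Etale b›
  have := Groth.Agent.Lib.Helper20.EtHom.over_hom_ext_of_surjective f₁ f₂ h hh
  exact congrArg (·.left) this

section

variable {X' X : Scheme.{u}} (π : X' ⟶ X) {V : Scheme.{u}} (v : V ⟶ X')

/-- the cover of `X` by all affine opens -/
abbrev cov (X : Scheme.{u}) : X.OpenCover := X.directedAffineCover

/-- the induced cover of `V` -/
noncomputable abbrev covV : V.OpenCover := (cov X).pullback₁ (v ≫ π)

/-- the projection `V_U ⟶ U` -/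
noncomputable abbrev sU (U : (cov X).I₀) : (covV π v).X U ⟶ (cov X).X U :=
  (cov X).pullbackHom (v ≫ π) U

lemma isPullback_cov (U : (cov X).I₀) :
    IsPullback ((covV π v).f U) (sU π v U) (v ≫ π) ((cov X).f U) :=
  IsPullback.of_hasPullback _ _

/-- local descent datum over an affine open `U` -/
structure LocalDescent (U : (cov X).I₀) where
  /-- the descended cover -/
  W : Scheme.{u}
  /-- its structure map -/
  w : W ⟶ (cov X).X U
  /-- the comparison map -/
  a : (covV π v).X U ⟶ W
  fin : IsFinite w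
  et : Etale w
  pb : IsPullback a ((covV π v).f U ≫ v) (w ≫ (cov X).f U) π

end

section Glue

variable {X' X : Scheme.{u}} (π : X' ⟶ X) [IsIntegralHom π] [UniversallyInjective π] [Surjective π]
  {V : Scheme.{u}} (v : V ⟶ X') (ld : ∀ U : (cov X).I₀, LocalDescent π v U)

omit [IsIntegralHom π] [UniversallyInjective π] [Surjective π] in
@[reassoc]
lemma a_w (U : (cov X).I₀) : (ld U).a ≫ (ld U).w = sU π v U := by
  rw [← cancel_mono ((cov X).f U), Category.assoc, (ld U).pb.w, Category.assoc]
  exact (isPullback_cov π v U).w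

instance (U : (cov X).I₀) : IsIntegralHom (ld U).a :=
  MorphismProperty.of_isPullback (P := @IsIntegralHom) (ld U).pb.flip ‹_›

instance (U : (cov X).I₀) : UniversallyInjective (ld U).a :=
  MorphismProperty.of_isPullback (P := @UniversallyInjective) (ld U).pb.flip ‹_›

instance (U : (cov X).I₀) : Surjective (ld U).a :=
  MorphismProperty.of_isPullback (P := @Surjective) (ld U).pb.flip ‹_›

instance (U : (cov X).I₀) : Etale (ld U).w := (ld U).et

instance (U : (cov X).I₀) : IsFinite (ld U).w := (ld U).fin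

omit [IsIntegralHom π] [UniversallyInjective π] [Surjective π] in
@[reassoc]
lemma trans_sU {U U' : (cov X).I₀} (h : U ⟶ U') :
    (covV π v).trans h ≫ sU π v U' = sU π v U ≫ (cov X).trans h :=
  pullback.lift_snd _ _ _

omit [IsIntegralHom π] [UniversallyInjective π] [Surjective π] in
lemma transV_id (U : (cov X).I₀) : (covV π v).trans (𝟙 U) = 𝟙 _ := (covV π v).trans_id U

omit [IsIntegralHom π] [UniversallyInjective π] [Surjective π] in
lemma transV_comp {U U' U'' : (cov X).I₀} (h : U ⟶ U') (h' : U' ⟶ U'') :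
    (covV π v).trans (h ≫ h') = (covV π v).trans h ≫ (covV π v).trans h' :=
  (covV π v).trans_comp h h'

omit [IsIntegralHom π] [UniversallyInjective π] [Surjective π] in
@[reassoc]
lemma transV_f {U U' : (cov X).I₀} (h : U ⟶ U') :
    (covV π v).trans h ≫ (covV π v).f U' = (covV π v).f U := (covV π v).trans_map h

lemma exists_trans {U U' : (cov X).I₀} (h : U ⟶ U') :
    ∃ t : (ld U).W ⟶ (ld U').W, t ≫ (ld U').w = (ld U).w ≫ (cov X).trans h ∧
      (ld U).a ≫ t = (covV π v).trans h ≫ (ld U').a := by
  refine Groth.Agent.Lib.Helper20.EtHom.exists_lift (ld U).a (ld U').w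
    ((ld U).w ≫ (cov X).trans h) ((covV π v).trans h ≫ (ld U').a) ?_
  rw [Category.assoc, a_w, trans_sU, a_w_assoc]

/-- the transition maps -/
noncomputable def t {U U' : (cov X).I₀} (h : U ⟶ U') : (ld U).W ⟶ (ld U').W :=
  (exists_trans π v ld h).choose

@[reassoc]
lemma t_w {U U' : (cov X).I₀} (h : U ⟶ U') :
    t π v ld h ≫ (ld U').w = (ld U).w ≫ (cov X).trans h :=
  (exists_trans π v ld h).choose_spec.1

@[reassoc]
lemma a_t {U U' : (cov X).I₀} (h : U ⟶ U') :
    (ld U).a ≫ t π v ld h = (covV π v).trans h ≫ (ld U').a :=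
  (exists_trans π v ld h).choose_spec.2

lemma t_unique {U U' : (cov X).I₀} (h : U ⟶ U') (t' : (ld U).W ⟶ (ld U').W)
    (h1 : t' ≫ (ld U').w = (ld U).w ≫ (cov X).trans h)
    (h2 : (ld U).a ≫ t' = (covV π v).trans h ≫ (ld U').a) : t' = t π v ld h :=
  hom_ext_of_surjective (ld U').w t' (t π v ld h) (ld U).a (h1.trans (t_w π v ld h).symm)
    (h2.trans (a_t π v ld h).symm)

/-- the functor of the relative gluing datum -/
noncomputable def F : (cov X).I₀ ⥤ Scheme.{u} where
  obj U := (ld U).W
  map h := t π v ld h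
  map_id U := (t_unique π v ld _ (𝟙 _)
    (by rw [Scheme.Cover.trans_id, Category.id_comp, Category.comp_id])
    (by rw [transV_id, Category.id_comp, Category.comp_id])).symm
  map_comp h h' := (t_unique π v ld _ (t π v ld h ≫ t π v ld h')
    (by rw [Category.assoc, t_w, t_w_assoc, Scheme.Cover.trans_comp])
    (by
      rw [a_t_assoc, a_t]
      exact (Category.assoc _ _ _).symm.trans
        (congrArg (· ≫ (ld _).a) (transV_comp π v h h').symm))).symm

/-- the natural transformation of the relative gluing datum -/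
noncomputable def α : F π v ld ⟶ (cov X).functorOfLocallyDirected where
  app U := (ld U).w
  naturality U U' h := t_w π v ld h

lemma isPullback_t {U U' : (cov X).I₀} (h : U ⟶ U') :
    IsPullback (t π v ld h) (ld U).w (ld U').w ((cov X).trans h) := by
  let j := (cov X).trans h
  let pr₁ : pullback (ld U').w j ⟶ (ld U').W := pullback.fst _ _
  let pr₂ : pullback (ld U').w j ⟶ (cov X).X U := pullback.snd _ _
  let jV := (covV π v).trans h
  let h₂ : (covV π v).X U ⟶ pullback (ld U').w j :=
    pullback.lift (jV ≫ (ld U').a) ((ld U).a ≫ (ld U).w)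
      (by rw [Category.assoc, a_w, trans_sU, a_w])
  have hh₂1 : h₂ ≫ pr₁ = jV ≫ (ld U').a := pullback.lift_fst _ _ _
  have hh₂2 : h₂ ≫ pr₂ = sU π v U := by
    rw [pullback.lift_snd, a_w]
  have hjι : j ≫ (cov X).f U' = (cov X).f U := (cov X).trans_map h
  have hleft : IsPullback jV (sU π v U) (sU π v U') j := by
    refine IsPullback.of_right ?_ (trans_sU π v h) (isPullback_cov π v U')
    rw [transV_f, hjι]
    exact isPullback_cov π v U
  have hpb₂ : IsPullback jV h₂ (ld U').a pr₁ := by
    refine IsPullback.of_bot ?_ hh₂1.symm (IsPullback.of_hasPullback (ld U').w j)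
    rw [a_w, hh₂2]
    exact hleft
  haveI : IsIntegralHom h₂ :=
    MorphismProperty.of_isPullback (P := @IsIntegralHom) hpb₂ inferInstance
  haveI : UniversallyInjective h₂ :=
    MorphismProperty.of_isPullback (P := @UniversallyInjective) hpb₂ inferInstance
  haveI : Surjective h₂ :=
    MorphismProperty.of_isPullback (P := @Surjective) hpb₂ inferInstance
  obtain ⟨n, hn1, hn2⟩ := Groth.Agent.Lib.Helper20.EtHom.exists_lift h₂ (ld U).w pr₂ (ld U).a
    (by rw [hh₂2, a_w])
  let m : (ld U).W ⟶ pullback (ld U').w j := pullback.lift (t π v ld h) (ld U).w (t_w π v ld h)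
  have hm1 : m ≫ pr₁ = t π v ld h := pullback.lift_fst _ _ _
  have hm2 : m ≫ pr₂ = (ld U).w := pullback.lift_snd _ _ _
  have hm : (ld U).a ≫ m = h₂ := by
    apply pullback.hom_ext
    · rw [Category.assoc]
      exact (congrArg (_ ≫ ·) hm1).trans ((a_t π v ld h).trans hh₂1.symm)
    · rw [Category.assoc]
      exact (congrArg (_ ≫ ·) hm2).trans ((a_w π v ld U).trans hh₂2.symm)
  have h1 : m ≫ n = 𝟙 _ := hom_ext_of_surjective (ld U).w _ _ (ld U).a
    (by rw [Category.assoc, hn1, hm2, Category.id_comp])
    (by rw [← Category.assoc, hm, hn2, Category.comp_id])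
  have h2 : n ≫ m = 𝟙 _ := hom_ext_of_surjective pr₂ _ _ h₂
    (by rw [Category.assoc, hm2, hn1, Category.id_comp])
    (by rw [← Category.assoc, hn2, hm, Category.comp_id])
  exact IsPullback.of_iso_pullback ⟨t_w π v ld h⟩ ⟨m, n, h1, h2⟩ hm1 hm2

/-- the relative gluing datum -/
noncomputable def rgd : Scheme.Cover.RelativeGluingData (cov X) where
  functor := F π v ld
  natTrans := α π v ld
  equifibered := fun _ _ h => isPullback_t π v ld h

/-- the glued cover -/
noncomputable def W : Scheme.{u} := (rgd π v ld).glued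

/-- its structure map -/
noncomputable def w : W π v ld ⟶ X := (rgd π v ld).toBase

/-- the charts -/
noncomputable def ιW (U : (cov X).I₀) : (ld U).W ⟶ W π v ld :=
  colimit.ι (rgd π v ld).functor U

@[reassoc]
lemma ιW_w (U : (cov X).I₀) : ιW π v ld U ≫ w π v ld = (ld U).w ≫ (cov X).f U :=
  (rgd π v ld).ι_toBase U

lemma isPullback_ιW (U : (cov X).I₀) :
    IsPullback (ld U).w (ιW π v ld U) ((cov X).f U) (w π v ld) :=
  (rgd π v ld).isPullback_natTrans_ι_toBase U

lemma t_ιW {U U' : (cov X).I₀} (h : U ⟶ U') : t π v ld h ≫ ιW π v ld U' = ιW π v ld U :=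
  colimit.w (rgd π v ld).functor h

lemma pullbackHom_w (U : (cov X).I₀) :
    (cov X).pullbackHom (w π v ld) U =
      (isPullback_ιW π v ld U).flip.isoPullback.inv ≫ (ld U).w := by
  exact (Iso.eq_inv_comp _).mpr (isPullback_ιW π v ld U).flip.isoPullback_hom_snd

instance : IsFinite (w π v ld) := by
  rw [IsZariskiLocalAtTarget.iff_of_openCover (P := @IsFinite) (cov X)]
  intro U
  rw [pullbackHom_w]
  exact (MorphismProperty.cancel_left_of_respectsIso @IsFinite _ _).mpr (ld U).fin

instance : Etale (w π v ld) := by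
  rw [IsZariskiLocalAtTarget.iff_of_openCover (P := @Etale) (cov X)]
  intro U
  rw [pullbackHom_w]
  exact (MorphismProperty.cancel_left_of_respectsIso @Etale _ _).mpr (ld U).et

lemma a_compat {U U' : (cov X).I₀} (h : U ⟶ U') :
    (covV π v).trans h ≫ (ld U').a ≫ ιW π v ld U' = (ld U).a ≫ ιW π v ld U := by
  have := a_t_assoc π v ld (U := U) (U' := U') h (ιW π v ld U')
  rw [t_ιW] at this
  exact this.symm

/-- the glued comparison map -/
noncomputable def a : V ⟶ W π v ld :=
  (covV π v).glueMorphismsOfLocallyDirected (fun U => (ld U).a ≫ ιW π v ld U)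
    (fun {_ _} h => a_compat π v ld h)

@[reassoc]
lemma f_a (U : (cov X).I₀) : (covV π v).f U ≫ a π v ld = (ld U).a ≫ ιW π v ld U :=
  (covV π v).map_glueMorphismsOfLocallyDirected (fun U => (ld U).a ≫ ιW π v ld U)
    (fun {_ _} h => a_compat π v ld h) U

lemma a_comp_w : a π v ld ≫ w π v ld = v ≫ π := by
  apply (covV π v).hom_ext
  intro U
  rw [f_a_assoc, ιW_w, a_w_assoc]
  exact (isPullback_cov π v U).w.symm

lemma isPullback_f_a (U : (cov X).I₀) :
    IsPullback (ld U).a ((covV π v).f U) (ιW π v ld U) (a π v ld) := by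
  refine IsPullback.of_right ?_ (f_a π v ld U).symm (isPullback_ιW π v ld U)
  rw [a_w, a_comp_w]
  exact (isPullback_cov π v U).flip

theorem isPullback_a : IsPullback (a π v ld) v (w π v ld) π := by
  refine Scheme.isPullback_of_openCover (a π v ld) v (w π v ld) π (rgd π v ld).cover ?_
  intro (U : (cov X).I₀)
  change IsPullback (pullback.snd (a π v ld) (ιW π v ld U))
    (pullback.fst (a π v ld) (ιW π v ld U) ≫ v) (ιW π v ld U ≫ w π v ld) π
  have hsq := (isPullback_f_a π v ld U).flip
  refine IsPullback.of_iso (ld U).pb hsq.isoPullback (Iso.refl _) (Iso.refl _) (Iso.refl _)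
    ?_ ?_ ?_ ?_
  · exact (Category.comp_id _).trans hsq.isoPullback_hom_snd.symm
  · exact (Category.comp_id _).trans (hsq.isoPullback_hom_fst_assoc _).symm
  · exact (Category.comp_id _).trans ((ιW_w π v ld U).symm.trans (Category.id_comp _).symm)
  · exact (Category.comp_id _).trans (Category.id_comp _).symm

end Glue

section Main

variable {X' X : Scheme.{u}} (π : X' ⟶ X) [IsIntegralHom π] [UniversallyInjective π] [Surjective π]

/-- **Descent of finite étale covers along a universal homeomorphism is local on the base.** -/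
theorem exists_descent_of_affine
    (H : ∀ (U : (cov X).I₀) (V' : Scheme.{u}) (v' : V' ⟶ pullback π ((cov X).f U)),
      IsFinite v' → Etale v' → ∃ (W : Scheme.{u}) (w : W ⟶ (cov X).X U) (a : V' ⟶ W),
        IsFinite w ∧ Etale w ∧ IsPullback a v' w (pullback.snd π ((cov X).f U)))
    {V : Scheme.{u}} (v : V ⟶ X') [IsFinite v] [Etale v] :
    ∃ (W : Scheme.{u}) (w : W ⟶ X) (a : V ⟶ W), IsFinite w ∧ Etale w ∧ IsPullback a v w π := by
  have key : ∀ U : (cov X).I₀, Nonempty (LocalDescent π v U) := by
    intro U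
    let vU : (covV π v).X U ⟶ pullback π ((cov X).f U) :=
      pullback.lift ((covV π v).f U ≫ v) (sU π v U) (by
        rw [Category.assoc]
        exact (isPullback_cov π v U).w)
    have hvU1 : vU ≫ pullback.fst π ((cov X).f U) = (covV π v).f U ≫ v := pullback.lift_fst _ _ _
    have hvU2 : vU ≫ pullback.snd π ((cov X).f U) = sU π v U := pullback.lift_snd _ _ _
    have hsq : IsPullback ((covV π v).f U) vU v (pullback.fst π ((cov X).f U)) := by
      refine IsPullback.of_bot ?_ hvU1.symm (IsPullback.of_hasPullback π ((cov X).f U))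
      rw [hvU2]
      exact isPullback_cov π v U
    have h1 : IsFinite vU := MorphismProperty.of_isPullback (P := @IsFinite) hsq inferInstance
    have h2 : Etale vU := MorphismProperty.of_isPullback (P := @Etale) hsq inferInstance
    obtain ⟨W, w, a, hfin, het, hpb⟩ := H U _ vU h1 h2
    refine ⟨⟨W, w, a, hfin, het, ?_⟩⟩
    have := hpb.paste_vert (IsPullback.of_hasPullback π ((cov X).f U)).flip
    rwa [hvU1] at this
  let ld : ∀ U : (cov X).I₀, LocalDescent π v U := fun U => (key U).some
  exact ⟨W π v ld, w π v ld, a π v ld, inferInstance, inferInstance, isPullback_a π v ld⟩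

/-- `FEt.Cat` form. -/
theorem exists_restrict_iso_of_affine
    (H : ∀ (U : (cov X).I₀) (V' : Scheme.{u}) (v' : V' ⟶ pullback π ((cov X).f U)),
      IsFinite v' → Etale v' → ∃ (W : Scheme.{u}) (w : W ⟶ (cov X).X U) (a : V' ⟶ W),
        IsFinite w ∧ Etale w ∧ IsPullback a v' w (pullback.snd π ((cov X).f U)))
    (V : FEt.Cat X') : ∃ W : FEt.Cat X, Nonempty ((FEt.restrict π).obj W ≅ V) := by
  let v : V.left ⟶ X' := V.hom
  haveI : IsFinite v := V.prop.1
  haveI : Etale v := V.prop.2
  obtain ⟨W, w, a, hfin, het, hpb⟩ := exists_descent_of_affine π H v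
  refine ⟨MorphismProperty.Over.mk ⊤ w ⟨hfin, het⟩, ⟨?_⟩⟩
  exact MorphismProperty.Over.isoMk hpb.isoPullback.symm hpb.isoPullback_inv_snd

end Main

end Groth.Agent.Lib.Seat2.UHGlue
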