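import Mathlib
import Groth.Prelude.Def_AlgSp
import Groth.Prelude.Def_Flatn
import Groth.Prelude.Def_Mor2
import Groth.Agent.Lib.Seat2WeilAF

/-!
# Weil restriction along a finite locally free morphism: pointwise affine criterion (seat 2)

Generalisation of `Seat2WeilAF.isRepresentable_of_AF`: it suffices that for every section
`η : T ×_S Z ⟶ X` and every point `t` of `T`, the image under `η` of the fibre over `t` lies in an
affine open of `X`.
-/

set_option autoImplicit false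
universe u

namespace Groth.Agent.Lib.Seat2.WeilAF

open CategoryTheory CategoryTheory.Limits AlgebraicGeometry Opposite
open Groth.Agent.Lib.Seat2.WeilLoc Groth.Agent.Lib.Seat2.LocRep Groth.Agent.Lib.Seat2.FreeCover
  Groth.Agent.Lib.Seat2.WeilGlue Groth.Agent.Lib.Seat2.AffShrink

variable {Z X S : Scheme.{u}} (g : Z ⟶ S) (f : X ⟶ S)

/-- **Representability of `Mor_S(Z, X)`** when sections map fibres into affine opens. -/
theorem isRepresentable_of_pointwise (hg : Mor2.IsFinLocFree g)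
    (hpt : ∀ (T : Over S) (η : PT g T ⟶ Over.mk f) (t : T.left),
      ∃ A₀ : X.Opens, IsAffineOpen A₀ ∧
        ∀ w : (pullback T.hom g : Scheme.{u}), pullback.fst T.hom g w = t → η.left w ∈ A₀) :
    (Flatn.morS g f).IsRepresentable := by
  haveI : IsFinite g := hg.1
  let ι : Type u := {p : S.Opens × X.Opens //
    IsAffineOpen p.1 ∧ QFF ((g ∣_ p.1).appTop).hom ∧ IsAffineOpen p.2 ∧ p.2 ≤ f ⁻¹ᵁ p.1}
  have hloc : ∀ i : ι, ∃ (W : Over ((i.1.1 : S.Opens) : Scheme.{u}))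
      (ξ : (Flatn.morS g (i.1.2.ι ≫ f)).obj (op (ext i.1.1 W))),
      ∀ T : Over ((i.1.1 : S.Opens) : Scheme.{u}), Function.Bijective
        (fun b : T ⟶ W =>
          (Flatn.morS g (i.1.2.ι ≫ f)).map ((Over.map i.1.1.ι).map b).op ξ) := by
    rintro ⟨⟨U, A⟩, hU, ⟨hfin, hfree⟩, hA, hAU⟩
    have hX : IsAffineOpen ((A.ι ≫ f) ⁻¹ᵁ U) := by
      have htop : (A.ι ≫ f) ⁻¹ᵁ U = ⊤ := by
        apply TopologicalSpace.Opens.ext
        ext x
        simp only [TopologicalSpace.Opens.coe_top, Set.mem_univ, iff_true]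
        show (A.ι ≫ f) x ∈ U
        rw [Scheme.Hom.comp_apply]
        exact hAU x.2
      rw [htop]
      haveI : IsAffine (A : Scheme.{u}) := hA
      exact isAffineOpen_top _
    obtain ⟨W, ξ, -, h⟩ := exists_local_rep g (A.ι ≫ f) U hU (hU.preimage g) hX hfin hfree
    exact ⟨W, ξ, h⟩
  choose W ξ' hbij using hloc
  -- the universal elements in `morS g f`
  let ξ : ∀ i : ι, (Flatn.morS g f).obj (op (ext i.1.1 (W i))) := fun i =>
    (ξ' i : PT g (ext i.1.1 (W i)) ⟶ Over.mk (i.1.2.ι ≫ f)) ≫ kO f i.1.2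
  have hξ : ∀ (i : ι) (T' : Over S) (b : T' ⟶ ext i.1.1 (W i)),
      (Flatn.morS g f).map b.op (ξ i) =
        ((Flatn.morS g (i.1.2.ι ≫ f)).map b.op (ξ' i) :
          PT g T' ⟶ Over.mk (i.1.2.ι ≫ f)) ≫ kO f i.1.2 := by
    intro i T' b
    exact (Category.assoc (Pmap g b) (ξ' i : PT g (ext i.1.1 (W i)) ⟶ Over.mk (i.1.2.ι ≫ f))
      (kO f i.1.2)).symm
  have hXU : ∀ (i : ι) (T' : Over S) (b : T' ⟶ ext i.1.1 (W i)), Set.range T'.hom ⊆ i.1.1 := by
    rintro i T' b _ ⟨t, rfl⟩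
    have h : T'.hom = b.left ≫ (W i).hom ≫ i.1.1.ι := (Over.w b).symm
    rw [h, Scheme.Hom.comp_apply, Scheme.Hom.comp_apply]
    exact ((W i).hom (b.left t)).2
  have hV : ∀ (i : ι) (T : Over S) (η : (Flatn.morS g f).obj (op T)) (T' : Over S) (c : T' ⟶ T),
      (∃ b : T' ⟶ ext i.1.1 (W i), (Flatn.morS g f).map b.op (ξ i) =
        (Flatn.morS g f).map c.op η) ↔
      Set.range c.left ⊆ ((T.hom ⁻¹ᵁ i.1.1) ⊓ goodOpen g f i.1.2 T η : T.left.Opens) := by
    intro i T η T' c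
    constructor
    · rintro ⟨b, hb⟩ _ ⟨t', rfl⟩
      refine ⟨?_, ?_⟩
      · show T.hom (c.left t') ∈ i.1.1
        rw [← Scheme.Hom.comp_apply, Over.w c]
        exact hXU i T' b ⟨t', rfl⟩
      · rw [SetLike.mem_coe, mem_goodOpen_iff]
        intro z hz
        obtain ⟨w, hw1, -⟩ :=
          Scheme.exists_preimage_of_isPullback (isPullback_Pmap g c) z t' hz
        have h1 : ((Flatn.morS g f).map c.op η : PT g T' ⟶ Over.mk f).left w =
            (η : PT g T ⟶ Over.mk f).left z := by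
          rw [← hw1]; rfl
        rw [← h1, ← hb, hξ i T' b]
        exact (((Flatn.morS g (i.1.2.ι ≫ f)).map b.op (ξ' i) :
          PT g T' ⟶ Over.mk (i.1.2.ι ≫ f)).left w).2
    · intro hc
      have hT' : Set.range T'.hom ⊆ i.1.1 := by
        rintro _ ⟨t, rfl⟩
        rw [← Over.w c, Scheme.Hom.comp_apply]
        exact (hc ⟨t, rfl⟩).1
      let η' : PT g T' ⟶ Over.mk f := (Flatn.morS g f).map c.op η
      have hη' : Set.range η'.left ⊆ (i.1.2 : Set X) := by
        rintro _ ⟨w, rfl⟩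
        have hmem := (hc ⟨pullback.fst T'.hom g w, rfl⟩).2
        rw [SetLike.mem_coe, mem_goodOpen_iff] at hmem
        have := hmem ((Pmap g c).left w) (by
          rw [← Scheme.Hom.comp_apply, Pmap_fst, Scheme.Hom.comp_apply])
        exact this
      obtain ⟨b, hb⟩ := (bijective_of_local (W i) (ξ' i) (hbij i) T' hT').2
        (liftO f i.1.2 η' hη')
      refine ⟨b, ?_⟩
      rw [hξ i T' b]
      have hb' : ((Flatn.morS g (i.1.2.ι ≫ f)).map b.op (ξ' i) :
          PT g T' ⟶ Over.mk (i.1.2.ι ≫ f)) = liftO f i.1.2 η' hη' := hb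
      rw [hb', liftO_comp]
  have huniq : ∀ (i : ι) (T' : Over S) (b b' : T' ⟶ ext i.1.1 (W i)),
      (Flatn.morS g f).map b.op (ξ i) = (Flatn.morS g f).map b'.op (ξ i) → b = b' := by
    intro i T' b b' h
    rw [hξ i T' b, hξ i T' b'] at h
    have h' := (cancel_mono (kO f i.1.2)).1 h
    exact (bijective_of_local (W i) (ξ' i) (hbij i) T' (hXU i T' b)).1 h'
  have hcov : ∀ (T : Over S) (η : (Flatn.morS g f).obj (op T)) (t : T.left),
      ∃ i : ι, t ∈ ((T.hom ⁻¹ᵁ i.1.1) ⊓ goodOpen g f i.1.2 T η : T.left.Opens) := by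
    intro T η t
    obtain ⟨U, hU, hsU, hq⟩ := exists_free_nhd g hg (T.hom t)
    haveI : IsFinite (pullback.fst T.hom g) := MorphismProperty.pullback_fst _ _ inferInstance
    have hfin : ((pullback.fst T.hom g) ⁻¹' {t}).Finite :=
      (pullback.fst T.hom g).finite_preimage_singleton t
    obtain ⟨d, z, hz⟩ := hfin.fin_embedding
    let x : Fin d → X := fun k => (η : PT g T ⟶ Over.mk f).left (z k)
    have hzk : ∀ k, pullback.fst T.hom g (z k) = t := by
      intro k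
      have : z k ∈ (pullback.fst T.hom g) ⁻¹' {t} := by rw [← hz]; exact ⟨k, rfl⟩
      exact this
    have hx : ∀ k, f (x k) = T.hom t := by
      intro k
      show f ((η : PT g T ⟶ Over.mk f).left (z k)) = _
      rw [f_apply, hzk k]
    obtain ⟨A₀, hA₀, hwA₀⟩ := hpt T η t
    have hxA₀ : ∀ k, x k ∈ A₀ := fun k => hwA₀ (z k) (hzk k)
    obtain ⟨A, hA, -, hAO, hTA⟩ := exists_isAffineOpen_le_of_finite hA₀ (f ⁻¹ᵁ U) (Set.range x)
      (Set.finite_range x) (by rintro _ ⟨k, rfl⟩; exact hxA₀ k)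
      (by rintro _ ⟨k, rfl⟩; show f (x k) ∈ U; rw [hx k]; exact hsU)
    refine ⟨⟨(U, A), hU, hq, hA, hAO⟩, hsU, ?_⟩
    rw [SetLike.mem_coe, mem_goodOpen_iff]
    intro w hw
    have hw' : w ∈ Set.range z := by rw [hz]; exact hw
    obtain ⟨k, rfl⟩ := hw'
    exact hTA ⟨k, rfl⟩
  obtain ⟨W', e, -⟩ := LocRep.exists_representableBy (Flatn.morS g f) (isSheaf_morS g f)
    (fun i : ι => ext i.1.1 (W i)) ξ
    (fun i T η => (T.hom ⁻¹ᵁ i.1.1) ⊓ goodOpen g f i.1.2 T η) hV huniq hcov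
  exact e.isRepresentable

end Groth.Agent.Lib.Seat2.WeilAF
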