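import Mathlib
import Groth.Prelude.Def_Flatn
import Groth.Prelude.Def_WeilRes
import Groth.Agent.Lib.Seat2WeilAF

/-!
# The Weil restriction functor as an equaliser of `morS` functors (seat 2)

For `f : S' ⟶ S` and `X' : Over S'`, the Weil restriction functor `WeilRes.functor f X'`
(`S'`-morphisms `T ×_S S' ⟶ X'`) is the subfunctor of `Flatn.morS f (X'.hom ≫ f)`
(`S`-morphisms) cut out by the condition that the composite to `S'` is the projection; if
`morS f (X'.hom ≫ f)` and `morS f f` are representable, so is `WeilRes.functor f X'`.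
-/

set_option autoImplicit false
universe u

namespace Groth.Agent.Lib.Seat2.WeilResFib

open CategoryTheory CategoryTheory.Limits AlgebraicGeometry Opposite
open Groth.Agent.Lib.Seat2.WeilAF

variable {S S' : Scheme.{u}} (f : S' ⟶ S) (X' : Over S')

/-- `X'` over `S`, mapping to `S'` over `S`. -/
noncomputable abbrev kX : Over.mk (X'.hom ≫ f) ⟶ Over.mk f := Over.homMk X'.hom rfl

/-- the tautological section `T ×_S S' ⟶ S'`. -/
noncomputable abbrev σ (T : Over S) : PT f T ⟶ Over.mk f := Over.homMk (pullback.snd T.hom f) rfl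

lemma Pmap_σ {T T' : Over S} (φ : T' ⟶ T) : Pmap f φ ≫ σ f T = σ f T' := by
  apply Over.OverMorphism.ext
  exact Pmap_snd f φ

variable {f X'}

section

variable {M₁ M₂ : Over S} (e₁ : (Flatn.morS f (X'.hom ≫ f)).RepresentableBy M₁)
  (e₂ : (Flatn.morS f f).RepresentableBy M₂)

/-- the universal section of `morS f (X'.hom ≫ f)`. -/
noncomputable abbrev c₁ : PT f M₁ ⟶ Over.mk (X'.hom ≫ f) := e₁.homEquiv (𝟙 M₁)

lemma e₁_eq {T : Over S} (φ : T ⟶ M₁) :
    (e₁.homEquiv φ : PT f T ⟶ Over.mk (X'.hom ≫ f)) = Pmap f φ ≫ c₁ e₁ := by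
  have := e₁.homEquiv_comp φ (𝟙 M₁)
  rw [Category.comp_id] at this
  exact this

lemma e₂_comp {T T' : Over S} (φ : T' ⟶ T) (ψ : T ⟶ M₂) :
    (e₂.homEquiv (φ ≫ ψ) : PT f T' ⟶ Over.mk f) =
      Pmap f φ ≫ (e₂.homEquiv ψ : PT f T ⟶ Over.mk f) :=
  e₂.homEquiv_comp φ ψ

/-- the two maps `M₁ ⇉ M₂`. -/
noncomputable def a : M₁ ⟶ M₂ := e₂.homEquiv.symm (c₁ e₁ ≫ kX f X')

noncomputable def s' : M₁ ⟶ M₂ := e₂.homEquiv.symm (σ f M₁)

lemma e₂_a {T : Over S} (φ : T ⟶ M₁) :
    (e₂.homEquiv (φ ≫ a e₁ e₂) : PT f T ⟶ Over.mk f) =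
      (e₁.homEquiv φ : PT f T ⟶ Over.mk (X'.hom ≫ f)) ≫ kX f X' := by
  rw [e₂_comp, a, Equiv.apply_symm_apply, e₁_eq, Category.assoc]

lemma e₂_s' {T : Over S} (φ : T ⟶ M₁) :
    (e₂.homEquiv (φ ≫ s' e₂) : PT f T ⟶ Over.mk f) = σ f T := by
  rw [e₂_comp, s', Equiv.apply_symm_apply, Pmap_σ]

/-- equalising `a` and `s'` means the section is an `S'`-morphism. -/
lemma comp_eq_iff {T : Over S} (φ : T ⟶ M₁) :
    φ ≫ a e₁ e₂ = φ ≫ s' e₂ ↔
      (e₁.homEquiv φ : PT f T ⟶ Over.mk (X'.hom ≫ f)) ≫ kX f X' = σ f T := by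
  rw [← e₂_a e₁ e₂ φ, ← e₂_s' e₂ φ]
  exact ⟨fun h => congrArg _ h, fun h => e₂.homEquiv.injective h⟩

/-- the representing object: the equaliser of `a` and `s'`. -/
noncomputable abbrev R : Over S := equalizer (a e₁ e₂) (s' e₂)

/-- a section of `morS` lying in the equaliser locus, as an `S'`-morphism. -/
noncomputable def toB {T : Over S} (c : PT f T ⟶ Over.mk (X'.hom ≫ f))
    (hc : c ≫ kX f X' = σ f T) : (Over.pullback f).obj T ⟶ X' :=
  Over.homMk c.left (congrArg CommaMorphism.left hc)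

lemma map_toB {T : Over S} (c : PT f T ⟶ Over.mk (X'.hom ≫ f))
    (hc : c ≫ kX f X' = σ f T) : (Over.map f).map (toB c hc) = c := by
  apply Over.OverMorphism.ext
  rfl

lemma map_comp_kX {T : Over S} (b : (Over.pullback f).obj T ⟶ X') :
    ((Over.map f).map b : PT f T ⟶ Over.mk (X'.hom ≫ f)) ≫ kX f X' = σ f T := by
  apply Over.OverMorphism.ext
  exact Over.w b

lemma map_injective {T : Over S} {b b' : (Over.pullback f).obj T ⟶ X'}
    (h : (Over.map f).map b = (Over.map f).map b') : b = b' := by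
  apply Over.OverMorphism.ext
  have h' := congrArg CommaMorphism.left h
  exact h'

/-- the `S'`-morphism attached to a point of the equaliser. -/
noncomputable def toHom {T : Over S} (ψ : T ⟶ R e₁ e₂) : (Over.pullback f).obj T ⟶ X' :=
  toB (e₁.homEquiv (ψ ≫ equalizer.ι (a e₁ e₂) (s' e₂)))
    ((comp_eq_iff e₁ e₂ _).1 (by
      rw [Category.assoc, Category.assoc, equalizer.condition]))

lemma map_toHom {T : Over S} (ψ : T ⟶ R e₁ e₂) :
    (Over.map f).map (toHom e₁ e₂ ψ) = e₁.homEquiv (ψ ≫ equalizer.ι (a e₁ e₂) (s' e₂)) :=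
  map_toB _ _

/-- **Representability of the Weil restriction functor** from that of the two `morS` functors. -/
noncomputable def representableBy : (WeilRes.functor f X').RepresentableBy (R e₁ e₂) where
  homEquiv {T} :=
    { toFun := fun ψ => toHom e₁ e₂ ψ
      invFun := fun b => equalizer.lift (e₁.homEquiv.symm ((Over.map f).map b))
        ((comp_eq_iff e₁ e₂ _).2 (by
          rw [Equiv.apply_symm_apply]
          exact map_comp_kX b))
      left_inv := fun ψ => by
        apply equalizer.hom_ext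
        rw [equalizer.lift_ι]
        apply e₁.homEquiv.injective
        rw [Equiv.apply_symm_apply, map_toHom]
      right_inv := fun b => by
        apply map_injective
        rw [map_toHom, equalizer.lift_ι, Equiv.apply_symm_apply] }
  homEquiv_comp {T T'} φ ψ := by
    apply map_injective
    show (Over.map f).map (toHom e₁ e₂ (φ ≫ ψ)) =
      (Over.map f).map ((Over.pullback f).map φ ≫ toHom e₁ e₂ ψ)
    rw [Functor.map_comp, map_toHom, map_toHom, Category.assoc]
    exact e₁.homEquiv_comp φ _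

end

/-- existence form. -/
theorem exists_isWeilRes (h₁ : (Flatn.morS f (X'.hom ≫ f)).IsRepresentable)
    (h₂ : (Flatn.morS f f).IsRepresentable) :
    ∃ (R : Over S) (q : Red.bc f R ⟶ X'), WeilRes.IsWeilRes f X' R q := by
  obtain ⟨M₁, ⟨e₁⟩⟩ := h₁.has_representation
  obtain ⟨M₂, ⟨e₂⟩⟩ := h₂.has_representation
  exact ⟨R e₁ e₂, _, WeilRes.IsWeilRes.of_representableBy (representableBy e₁ e₂)⟩

end Groth.Agent.Lib.Seat2.WeilResFib
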