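import Mathlib

/-!
# The projection of a mapping cone onto the shifted source, and its termwise split kernels
-/

set_option autoImplicit false
open CategoryTheory CategoryTheory.Limits CochainComplex HomComplex

namespace Groth.Agent.Lib.Seat30.ConeKernel

variable {𝒜 : Type*} [Category 𝒜] [Preadditive 𝒜] [HasBinaryBiproducts 𝒜]
  {F G : CochainComplex 𝒜 ℤ} (ε : F ⟶ G)

/-- the projection of the cone onto `F[1]` -/
noncomputable def coneProj : mappingCone ε ⟶ F⟦(1 : ℤ)⟧ where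
  f p := (mappingCone.fst ε).1.v p (p + 1) rfl
  comm' p q hpq := by
    obtain rfl : p + 1 = q := hpq
    dsimp
    rw [mappingCone.d_fst_v ε p (p + 1) (p + 1 + 1) rfl rfl]
    simp

@[simp]
lemma coneProj_f (p : ℤ) : (coneProj ε).f p = (mappingCone.fst ε).1.v p (p + 1) rfl := rfl

/-- a termwise split kernel of the projection of a cone is the target of the map -/
theorem nonempty_iso_of_kernel_coneProj (W X : CochainComplex 𝒜 ℤ) (ι : W ⟶ X)
    (φ : X ≅ mappingCone ε) (r : ∀ p, X.X p ⟶ W.X p) (σ : ∀ p, F.X (p + 1) ⟶ X.X p)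
    (h1 : ∀ p, ι.f p ≫ r p = 𝟙 _)
    (h2 : ∀ p, r p ≫ ι.f p =
      𝟙 _ - (φ.hom.f p ≫ (mappingCone.fst ε).1.v p (p + 1) rfl) ≫ σ p)
    (h3 : ∀ p, ι.f p ≫ φ.hom.f p ≫ (mappingCone.fst ε).1.v p (p + 1) rfl = 0) :
    Nonempty (W ≅ G) := by
  have hΦ : ∀ p, φ.hom.f p ≫ φ.inv.f p = 𝟙 _ := fun p => by
    rw [← HomologicalComplex.comp_f, φ.hom_inv_id, HomologicalComplex.id_f]
  have hΦ' : ∀ p, φ.inv.f p ≫ φ.hom.f p = 𝟙 _ := fun p => by
    rw [← HomologicalComplex.comp_f, φ.inv_hom_id, HomologicalComplex.id_f]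
  have hsn : ∀ p, (mappingCone.snd ε).v p p (add_zero p) ≫ (mappingCone.inr ε).f p =
      𝟙 _ - (mappingCone.fst ε).1.v p (p + 1) rfl ≫ (mappingCone.inl ε).v (p + 1) p (by lia) :=
    fun p => by
      rw [eq_sub_iff_add_eq', mappingCone.id_X]
  refine ⟨HomologicalComplex.Hom.isoOfComponents (fun p =>
    { hom := ι.f p ≫ φ.hom.f p ≫ (mappingCone.snd ε).v p p (add_zero p)
      inv := (mappingCone.inr ε).f p ≫ φ.inv.f p ≫ r p
      hom_inv_id := ?_
      inv_hom_id := ?_ }) ?_⟩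
  · calc (ι.f p ≫ φ.hom.f p ≫ (mappingCone.snd ε).v p p (add_zero p)) ≫
          (mappingCone.inr ε).f p ≫ φ.inv.f p ≫ r p
        = ι.f p ≫ φ.hom.f p ≫ ((mappingCone.snd ε).v p p (add_zero p) ≫
          (mappingCone.inr ε).f p) ≫ φ.inv.f p ≫ r p := by simp only [Category.assoc]
      _ = ι.f p ≫ (φ.hom.f p ≫ φ.inv.f p) ≫ r p -
          (ι.f p ≫ φ.hom.f p ≫ (mappingCone.fst ε).1.v p (p + 1) rfl) ≫
            (mappingCone.inl ε).v (p + 1) p (by lia) ≫ φ.inv.f p ≫ r p := by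
        rw [hsn]
        simp only [Preadditive.sub_comp, Preadditive.comp_sub, Category.assoc, Category.id_comp]
      _ = 𝟙 _ := by
        rw [h3, hΦ, zero_comp, sub_zero, Category.id_comp, h1]
  · calc ((mappingCone.inr ε).f p ≫ φ.inv.f p ≫ r p) ≫
          ι.f p ≫ φ.hom.f p ≫ (mappingCone.snd ε).v p p (add_zero p)
        = (mappingCone.inr ε).f p ≫ φ.inv.f p ≫ (r p ≫ ι.f p) ≫ φ.hom.f p ≫
          (mappingCone.snd ε).v p p (add_zero p) := by simp only [Category.assoc]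
      _ = (mappingCone.inr ε).f p ≫ (φ.inv.f p ≫ φ.hom.f p) ≫
            (mappingCone.snd ε).v p p (add_zero p) -
          ((mappingCone.inr ε).f p ≫ (φ.inv.f p ≫ φ.hom.f p) ≫
            (mappingCone.fst ε).1.v p (p + 1) rfl) ≫ σ p ≫ φ.hom.f p ≫
            (mappingCone.snd ε).v p p (add_zero p) := by
        rw [h2]
        simp only [Preadditive.sub_comp, Preadditive.comp_sub, Category.assoc, Category.id_comp]
      _ = 𝟙 _ := by
        rw [hΦ', Category.id_comp, Category.id_comp, mappingCone.inr_f_fst_v, zero_comp,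
          sub_zero, mappingCone.inr_f_snd_v]
  · rintro p q (rfl : p + 1 = q)
    dsimp only
    have e1 := mappingCone.d_snd_v ε p (p + 1) rfl
    have e2 := φ.hom.comm p (p + 1)
    have e3 := ι.comm p (p + 1)
    have h3' : ∀ {Z : 𝒜} (k : F.X (p + 1) ⟶ Z),
        ι.f p ≫ φ.hom.f p ≫ (mappingCone.fst ε).1.v p (p + 1) rfl ≫ k = 0 := fun k => by
      have := congrArg (· ≫ k) (h3 p)
      simpa only [Category.assoc, zero_comp] using this
    calc (ι.f p ≫ φ.hom.f p ≫ (mappingCone.snd ε).v p p (add_zero p)) ≫ G.d p (p + 1)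
        = ι.f p ≫ φ.hom.f p ≫ ((mappingCone.fst ε).1.v p (p + 1) rfl ≫ ε.f (p + 1) +
            (mappingCone.snd ε).v p p (add_zero p) ≫ G.d p (p + 1)) := by
          simp only [Preadditive.comp_add, Category.assoc, h3', zero_add]
      _ = ι.f p ≫ φ.hom.f p ≫ (mappingCone ε).d p (p + 1) ≫
            (mappingCone.snd ε).v (p + 1) (p + 1) (add_zero _) := by rw [e1]
      _ = W.d p (p + 1) ≫ ι.f (p + 1) ≫ φ.hom.f (p + 1) ≫
            (mappingCone.snd ε).v (p + 1) (p + 1) (add_zero (p + 1)) := by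
          rw [← Category.assoc (φ.hom.f p), e2, Category.assoc, ← Category.assoc (ι.f p), e3,
            Category.assoc]

end Groth.Agent.Lib.Seat30.ConeKernel
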