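import Mathlib

/-!
# Coreflective subcategories from an idempotent copointed endofunctor (seat 30)

Let `R : D ⥤ D` with `ε : R ⟶ 𝟭`, and `P` a property of objects such that `R` takes values in `P`,
`ε_L` is an isomorphism for `L` in `P`, and `R(ε_K)` is an isomorphism for all `K`.  Then the
lift of `R` to the full subcategory of `P` is right adjoint to the inclusion.
-/

set_option autoImplicit false
universe v u
open CategoryTheory

namespace Groth.Agent.Lib.Seat30.Coreflect

variable {D : Type u} [Category.{v} D] (P : ObjectProperty D) (R : D ⥤ D) (ε : R ⟶ 𝟭 D)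
  (hR : ∀ K, P (R.obj K)) (hP : ∀ L, P L → IsIso (ε.app L))
  (hε : ∀ K, IsIso (R.map (ε.app K)))

include hP hε in
lemma cancel {L K : D} (hL : P L) (g₁ g₂ : L ⟶ R.obj K)
    (h : g₁ ≫ ε.app K = g₂ ≫ ε.app K) : g₁ = g₂ := by
  have := hP L hL
  have := hε K
  have h1 : R.map g₁ = R.map g₂ := by
    rw [← cancel_mono (R.map (ε.app K)), ← R.map_comp, ← R.map_comp, h]
  have n1 := ε.naturality g₁
  have n2 := ε.naturality g₂
  rw [h1] at n1
  rw [← cancel_epi (ε.app L)]
  exact n1.symm.trans n2

/-- the adjunction `inclusion ⊣ R` -/
noncomputable def adj : P.ι ⊣ P.lift R hR :=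
  Adjunction.mkOfHomEquiv
    { homEquiv := fun L K =>
        { toFun := fun f => ObjectProperty.homMk
            (haveI := hP L.obj L.property; inv (ε.app L.obj) ≫ R.map f)
          invFun := fun g => g.hom ≫ ε.app K
          left_inv := fun f => by
            have := hP L.obj L.property
            have n : R.map f ≫ ε.app K = ε.app L.obj ≫ f := ε.naturality f
            simp only [ObjectProperty.homMk_hom, Category.assoc]
            rw [n, IsIso.inv_hom_id_assoc]
          right_inv := fun g => by
            have := hP L.obj L.property
            apply ObjectProperty.hom_ext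
            apply cancel P R ε hP hε L.property
            have n : R.map (g.hom ≫ ε.app K) ≫ ε.app K = ε.app L.obj ≫ g.hom ≫ ε.app K :=
              ε.naturality (g.hom ≫ ε.app K)
            simp only [ObjectProperty.homMk_hom, Category.assoc]
            rw [n, IsIso.inv_hom_id_assoc] }
      homEquiv_naturality_left_symm := fun f g => by
        simp
      homEquiv_naturality_right := fun f g => by
        apply ObjectProperty.hom_ext
        simp }

end Groth.Agent.Lib.Seat30.Coreflect
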