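import Mathlib
import Groth.Prelude.Def_DDual2
import Groth.Agent.Lib.Helper1KF8
set_option backward.isDefEq.respectTransparency.types false

/-!
# Existence of total left derived functors on `D(A)` (seat 30)

Every functor `F : K(A) ⥤ H` out of the homotopy category of complexes of `A`-modules has a
(pointwise) total left derived functor with respect to quasi-isomorphisms, because every complex
has a K-projective resolution (`Groth.Agent.Lib.Helper1.KF.exists_kprojective_resolution`) and
`Qh` is fully faithful out of K-projective complexes.

In particular the hypotheses `DRing.HasLBaseChange φ` and `DRing.HasLTensor A M` always hold.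
-/

set_option autoImplicit false
universe u v w

open CategoryTheory CategoryTheory.Limits

attribute [local instance] HasDerivedCategory.standard

namespace Groth.Agent.Lib.Seat30.HasLDer

variable {A : Type u} [CommRing A]

/-- For a K-projective complex `P`, the identity of `Qh.obj P` is an initial object of the category
of structured arrows `Qh.obj P ⟶ Qh.obj -`. -/
noncomputable def isInitialMkId (P : CochainComplex (ModuleCat.{u} A) ℤ) [P.IsKProjective] :
    IsInitial (StructuredArrow.mk (Y := (HomotopyCategory.quotient _ _).obj P)
      (S := DerivedCategory.Qh.obj ((HomotopyCategory.quotient (ModuleCat.{u} A)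
        (ComplexShape.up ℤ)).obj P)) (T := DerivedCategory.Qh) (𝟙 _)) := by
  have hbij := fun L => CochainComplex.IsKProjective.Qh_map_bijective (C := ModuleCat.{u} A) P L
  refine IsInitial.ofUniqueHom (fun Y => ?_) (fun Y m => ?_)
  · exact StructuredArrow.homMk ((hbij Y.right).surjective Y.hom).choose (by
      have := ((hbij Y.right).surjective Y.hom).choose_spec
      simpa using this)
  · ext
    apply (hbij Y.right).injective
    have h1 := ((hbij Y.right).surjective Y.hom).choose_spec
    have h2 := StructuredArrow.w m
    simp only [StructuredArrow.homMk_right]
    rw [h1]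
    simpa using h2

variable {H : Type v} [Category.{w} H]

/-- Every functor out of `K(A)` has a pointwise total left derived functor with respect to
quasi-isomorphisms. -/
theorem hasPointwiseLeftDerivedFunctor
    (F : HomotopyCategory (ModuleCat.{u} A) (ComplexShape.up ℤ) ⥤ H) :
    F.HasPointwiseLeftDerivedFunctor
      (HomotopyCategory.quasiIso (ModuleCat.{u} A) (ComplexShape.up ℤ)) := by
  intro X
  obtain ⟨M, rfl⟩ := HomotopyCategory.quotient_obj_surjective X
  obtain ⟨P, π, hP, -, hπ, -⟩ := Groth.Agent.Lib.Helper1.KF.exists_kprojective_resolution M
  have hw : HomotopyCategory.quasiIso (ModuleCat.{u} A) (ComplexShape.up ℤ)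
      ((HomotopyCategory.quotient _ _).map π) := by
    rw [HomotopyCategory.quotient_map_mem_quasiIso_iff]
    exact hπ
  rw [← F.hasPointwiseLeftDerivedFunctorAt_iff_of_mem _ _ hw,
    F.hasPointwiseLeftDerivedFunctorAt_iff DerivedCategory.Qh]
  have hinit := isInitialMkId P
  have : HasInitial (StructuredArrow (DerivedCategory.Qh.obj
      ((HomotopyCategory.quotient (ModuleCat.{u} A) (ComplexShape.up ℤ)).obj P))
      DerivedCategory.Qh) := hinit.hasInitial
  show HasLimit _
  infer_instance

/-- Every functor out of `K(A)` has a total left derived functor with respect to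
quasi-isomorphisms. -/
theorem hasLeftDerivedFunctor
    (F : HomotopyCategory (ModuleCat.{u} A) (ComplexShape.up ℤ) ⥤ H) :
    F.HasLeftDerivedFunctor
      (HomotopyCategory.quasiIso (ModuleCat.{u} A) (ComplexShape.up ℤ)) :=
  have := hasPointwiseLeftDerivedFunctor F
  inferInstance

/-- Derived base change exists along every ring homomorphism. -/
theorem hasLBaseChange {A B : Type u} [CommRing A] [CommRing B] (φ : A →+* B) :
    DRing.HasLBaseChange φ :=
  hasLeftDerivedFunctor _

/-- The derived tensor product with a module always exists. -/
theorem hasLTensor (A : Type u) [CommRing A] (M : ModuleCat.{u} A) : DRing.HasLTensor A M :=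
  hasLeftDerivedFunctor _

end Groth.Agent.Lib.Seat30.HasLDer
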