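import Mathlib
import Groth.Agent.Lib.Helper1TorO
import Groth.Agent.Lib.Helper1TorD
import Groth.Agent.Lib.Helper1LT
import Groth.Agent.Lib.Helper1LocalCx
import Groth.Agent.Lib.Helper10DerComplete4
import Groth.Agent.Lib.Helper10DerComplete6
import Groth.Agent.Lib.Seat30HasLDer
set_option backward.isDefEq.respectTransparency.types false

/-!
# Derived Nakayama (seat 30)

Let `s` be a finite set of elements of `A`, `I = (s)`, and `F` a termwise flat complex which is
derived complete with respect to every element of `s`.  If `N ⊗ F` is exact in all degrees `> c`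
for every module `N` killed by a power of `I`, then `F` is exact in all degrees `> c`
(`exactAt_of_powTors`).  The proof is by induction on `s`, replacing `F` by the cone of
multiplication by an element of `s`.

Consequences for `K ∈ D(A)` derived complete with respect to a finitely generated ideal `I`:
* `exactAbove_of_LTensor` : if `H^i(K ⊗^L A/I) = 0` for `i > c` then `H^i(K) = 0` for `i > c`;
* `isZero_of_LTensor` : if `K ⊗^L A/I = 0` then `K = 0`.
-/

set_option autoImplicit false
set_option maxHeartbeats 400000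
universe u
open CategoryTheory CategoryTheory.Limits MonoidalCategory HomologicalComplex TensorProduct
attribute [local instance] HasDerivedCategory.standard

namespace Groth.Agent.Lib.Seat30.DerNak

open DerivedCategory Pretriangulated Groth.Agent.Lib.Helper1.KF Groth.Agent.Lib.Helper1.Tor
  Groth.Agent.Lib.Helper1.TorM Groth.Agent.Lib.Helper1.TorN Groth.Agent.Lib.Helper1.TorO
  Groth.Agent.Lib.Helper10.DerComplete Groth.Agent.Lib.Helper1.DT Groth.Agent.Lib.Helper1.LDer
  Groth.Agent.Lib.Helper1.LocalCx

section General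

variable {C : Type*} [Category C] [Abelian C]

lemma epi_homologyMap_g (S : ShortComplex (CochainComplex C ℤ)) (hS : S.ShortExact) (i : ℤ)
    (h : S.X₁.ExactAt (i + 1)) : Epi (HomologicalComplex.homologyMap S.g i) := by
  have hex := hS.homology_exact₃ i (i + 1) (by simp)
  rw [exactAt_iff_isZero_homology] at h
  exact hex.epi_f (h.eq_of_tgt _ _)

lemma mono_homologyMap_g (S : ShortComplex (CochainComplex C ℤ)) (hS : S.ShortExact) (i : ℤ)
    (h : S.X₁.ExactAt i) : Mono (HomologicalComplex.homologyMap S.g i) := by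
  have hex := hS.homology_exact₂ i
  rw [exactAt_iff_isZero_homology] at h
  exact hex.mono_g (h.eq_of_src _ _)

lemma epi_homologyMap_f (S : ShortComplex (CochainComplex C ℤ)) (hS : S.ShortExact) (i : ℤ)
    (h : S.X₃.ExactAt i) : Epi (HomologicalComplex.homologyMap S.f i) := by
  have hex := hS.homology_exact₂ i
  rw [exactAt_iff_isZero_homology] at h
  exact hex.epi_f (h.eq_of_tgt _ _)

lemma mono_homologyMap_f (S : ShortComplex (CochainComplex C ℤ)) (hS : S.ShortExact) (i : ℤ)
    (h : S.X₃.ExactAt (i - 1)) : Mono (HomologicalComplex.homologyMap S.f i) := by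
  have hex := hS.homology_exact₁ (i - 1) i (by simp)
  rw [exactAt_iff_isZero_homology] at h
  exact hex.mono_g (h.eq_of_src _ _)

end General

variable {A : Type u} [CommRing A]

section M

variable (N : Type u) [AddCommGroup N] [Module A N] (a : A)

/-- multiplication by `a` on `N` -/
abbrev mulBy : N →ₗ[A] N := a • (LinearMap.id : N →ₗ[A] N)

lemma TCmap_comp {N₁ N₂ N₃ : ModuleCat.{u} A} (f : N₁ ⟶ N₂) (g : N₂ ⟶ N₃) :
    TCmap (f ≫ g) = TCmap f ≫ TCmap g := by
  apply NatTrans.ext
  funext F
  apply HomologicalComplex.hom_ext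
  intro n
  exact comp_whiskerRight f g _

/-- the first short exact sequence `0 → N[a] → N → aN → 0` -/
noncomputable abbrev S₁ : ShortComplex (ModuleCat.{u} A) :=
  ShortComplex.mk (ModuleCat.ofHom (LinearMap.ker (mulBy N a)).subtype)
    (ModuleCat.ofHom (mulBy N a).rangeRestrict) (by
      ext x
      exact x.2)

lemma S₁_shortExact : (S₁ N a).ShortExact :=
  { exact := by
      rw [ShortComplex.ShortExact.moduleCat_exact_iff_function_exact]
      intro x
      constructor
      · intro hx
        exact ⟨⟨x, congrArg Subtype.val hx⟩, rfl⟩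
      · rintro ⟨y, rfl⟩
        apply Subtype.ext
        exact y.2
    mono_f := (ModuleCat.mono_iff_injective _).2 (Submodule.subtype_injective _)
    epi_g := (ModuleCat.epi_iff_surjective _).2 (LinearMap.surjective_rangeRestrict _) }

/-- the second short exact sequence `0 → aN → N → N/aN → 0` -/
noncomputable abbrev S₂ : ShortComplex (ModuleCat.{u} A) :=
  ShortComplex.mk (ModuleCat.ofHom (LinearMap.range (mulBy N a)).subtype)
    (ModuleCat.ofHom (LinearMap.range (mulBy N a)).mkQ) (by
      ext x
      simp)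

lemma S₂_shortExact : (S₂ N a).ShortExact :=
  { exact := by
      rw [ShortComplex.ShortExact.moduleCat_exact_iff_function_exact]
      exact LinearMap.exact_subtype_mkQ _
    mono_f := (ModuleCat.mono_iff_injective _).2 (Submodule.subtype_injective _)
    epi_g := (ModuleCat.epi_iff_surjective _).2 (Submodule.mkQ_surjective _) }

lemma S₁_g_comp_S₂_f : (S₁ N a).g ≫ (S₂ N a).f = ModuleCat.ofHom (mulBy N a) := rfl

variable {N a} (F : Cx A) (hFf : DRing.TermwiseFlat F) (c : ℤ)

include hFf in
lemma epi_homologyMap_TCmap_mulBy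
    (h1 : ∀ i, c < i → ((TC (ModuleCat.of A (LinearMap.ker (mulBy N a)))).obj F).ExactAt i)
    (h3 : ∀ i, c < i →
      ((TC (ModuleCat.of A (N ⧸ LinearMap.range (mulBy N a)))).obj F).ExactAt i)
    (i : ℤ) (hi : c < i) :
    Epi (HomologicalComplex.homologyMap ((TCmap (ModuleCat.ofHom (mulBy N a))).app F) i) := by
  have e1 : Epi (HomologicalComplex.homologyMap ((TCmap (S₁ N a).g).app F) i) :=
    epi_homologyMap_g (TCshort (S₁ N a) F) (TCshort_shortExact _ (S₁_shortExact N a) F hFf) i
      (h1 (i + 1) (by lia))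
  have e2 : Epi (HomologicalComplex.homologyMap ((TCmap (S₂ N a).f).app F) i) :=
    epi_homologyMap_f (TCshort (S₂ N a) F) (TCshort_shortExact _ (S₂_shortExact N a) F hFf) i
      (h3 i hi)
  rw [← S₁_g_comp_S₂_f, TCmap_comp, NatTrans.comp_app, HomologicalComplex.homologyMap_comp]
  exact epi_comp _ _

include hFf in
lemma mono_homologyMap_TCmap_mulBy
    (h1 : ∀ i, c < i → ((TC (ModuleCat.of A (LinearMap.ker (mulBy N a)))).obj F).ExactAt i)
    (h3 : ∀ i, c < i →
      ((TC (ModuleCat.of A (N ⧸ LinearMap.range (mulBy N a)))).obj F).ExactAt i)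
    (i : ℤ) (hi : c + 1 < i) :
    Mono (HomologicalComplex.homologyMap ((TCmap (ModuleCat.ofHom (mulBy N a))).app F) i) := by
  have e1 : Mono (HomologicalComplex.homologyMap ((TCmap (S₁ N a).g).app F) i) :=
    mono_homologyMap_g (TCshort (S₁ N a) F) (TCshort_shortExact _ (S₁_shortExact N a) F hFf) i
      (h1 i (by lia))
  have e2 : Mono (HomologicalComplex.homologyMap ((TCmap (S₂ N a).f).app F) i) :=
    mono_homologyMap_f (TCshort (S₂ N a) F) (TCshort_shortExact _ (S₂_shortExact N a) F hFf) i
      (h3 (i - 1) (by lia))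
  rw [← S₁_g_comp_S₂_f, TCmap_comp, NatTrans.comp_app, HomologicalComplex.homologyMap_comp]
  exact mono_comp _ _

end M

section Cone

/-- the distinguished triangle of a mapping cone in `D(A)` -/
lemma coneTriangle_distinguished {F G : Cx A} (φ : F ⟶ G) :
    Q.mapTriangle.obj (CochainComplex.mappingCone.triangle φ) ∈ distTriang (Dual.D A) :=
  (DerivedCategory.mem_distTriang_iff _).2 ⟨_, _, φ, ⟨Iso.refl _⟩⟩

/-- the comparison of `H^i(Q φ)` and `H^i(φ)` as an isomorphism of arrows -/
noncomputable def homologyArrowIso {F G : Cx A} (φ : F ⟶ G) (i : ℤ) :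
    Arrow.mk ((homologyFunctor (ModuleCat.{u} A) i).map (Q.map φ)) ≅
      Arrow.mk (HomologicalComplex.homologyMap φ i) :=
  Arrow.isoMk ((homologyFunctorFactors (ModuleCat.{u} A) i).app F)
    ((homologyFunctorFactors (ModuleCat.{u} A) i).app G)
    ((homologyFunctorFactors (ModuleCat.{u} A) i).hom.naturality φ).symm

lemma epi_homologyFunctor_Q_map_iff {F G : Cx A} (φ : F ⟶ G) (i : ℤ) :
    Epi ((homologyFunctor (ModuleCat.{u} A) i).map (Q.map φ)) ↔
      Epi (HomologicalComplex.homologyMap φ i) :=
  (MorphismProperty.epimorphisms (ModuleCat.{u} A)).arrow_mk_iso_iff (homologyArrowIso φ i)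

lemma mono_homologyFunctor_Q_map_iff {F G : Cx A} (φ : F ⟶ G) (i : ℤ) :
    Mono ((homologyFunctor (ModuleCat.{u} A) i).map (Q.map φ)) ↔
      Mono (HomologicalComplex.homologyMap φ i) :=
  (MorphismProperty.monomorphisms (ModuleCat.{u} A)).arrow_mk_iso_iff (homologyArrowIso φ i)

lemma exactAt_iff_isZero_homologyFunctor_Q (G : Cx A) (i : ℤ) :
    G.ExactAt i ↔ IsZero ((homologyFunctor (ModuleCat.{u} A) i).obj (Q.obj G)) := by
  rw [exactAt_iff_isZero_homology]
  exact ((homologyFunctorFactors (ModuleCat.{u} A) i).app G).symm.isZero_iff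

/-- a cone is exact in degree `i` if the map is onto on `H^i` and injective on `H^{i+1}` -/
lemma exactAt_mappingCone {F G : Cx A} (φ : F ⟶ G) (i : ℤ)
    (h1 : Epi (HomologicalComplex.homologyMap φ i))
    (h2 : Mono (HomologicalComplex.homologyMap φ (i + 1))) :
    (CochainComplex.mappingCone φ).ExactAt i := by
  have hT := coneTriangle_distinguished φ
  rw [exactAt_iff_isZero_homologyFunctor_Q]
  have e1 := (HomologySequence.epi_homologyMap_mor₁_iff _ hT i).1
    ((epi_homologyFunctor_Q_map_iff φ i).2 h1)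
  have e2 := (HomologySequence.mono_homologyMap_mor₁_iff _ hT i (i + 1) rfl).1
    ((mono_homologyFunctor_Q_map_iff φ (i + 1)).2 h2)
  exact (HomologySequence.exact₃ _ hT i (i + 1) rfl).isZero_X₂ e1 e2

/-- if the cone is exact in degree `i`, the map is onto on `H^i` -/
lemma epi_homologyMap_of_exactAt_mappingCone {F G : Cx A} (φ : F ⟶ G) (i : ℤ)
    (h : (CochainComplex.mappingCone φ).ExactAt i) :
    Epi (HomologicalComplex.homologyMap φ i) := by
  have hT := coneTriangle_distinguished φ
  rw [exactAt_iff_isZero_homologyFunctor_Q] at h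
  rw [← epi_homologyFunctor_Q_map_iff]
  exact (HomologySequence.epi_homologyMap_mor₁_iff _ hT i).2 (h.eq_of_tgt _ _)

end Cone

lemma sup_pow_le (X J : Ideal A) (m : ℕ) : (X ⊔ J) ^ m ≤ X ⊔ J ^ m := by
  induction m with
  | zero => simp
  | succ m ih =>
    rw [pow_succ, pow_succ]
    calc (X ⊔ J) ^ m * (X ⊔ J) ≤ (X ⊔ J ^ m) * (X ⊔ J) := Ideal.mul_mono_left ih
      _ = (X ⊔ J ^ m) * X ⊔ (X ⊔ J ^ m) * J := Ideal.mul_sup _ _ _
      _ ≤ X ⊔ J ^ m * J := by
        refine sup_le (le_sup_of_le_left Ideal.mul_le_right) ?_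
        rw [Ideal.sup_mul]
        exact sup_le (le_sup_of_le_left Ideal.mul_le_left) le_sup_right

/-- `N` is killed by a power of `J` -/
def PowTors (J : Ideal A) (N : Type u) [AddCommGroup N] [Module A N] : Prop :=
  ∃ k : ℕ, ∀ r ∈ J ^ k, ∀ x : N, r • x = 0

section PowTors

variable {N : Type u} [AddCommGroup N] [Module A N]

lemma powTors_ker (J : Ideal A) (a : A) (h : PowTors J N) :
    PowTors (Ideal.span {a} ⊔ J) (LinearMap.ker (a • (LinearMap.id : N →ₗ[A] N))) := by
  obtain ⟨k, hk⟩ := h
  refine ⟨k, fun r hr x => ?_⟩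
  have hr' := sup_pow_le _ _ _ hr
  obtain ⟨y, hy, j, hj, rfl⟩ := Submodule.mem_sup.1 hr'
  obtain ⟨t, rfl⟩ := Ideal.mem_span_singleton'.1 hy
  apply Subtype.ext
  have hx : a • (x : N) = 0 := by
    have := x.2
    simpa using this
  show (t * a + j) • (x : N) = 0
  rw [add_smul, mul_smul, hx, smul_zero, hk j hj, add_zero]

lemma powTors_quot (J : Ideal A) (a : A) (h : PowTors J N) :
    PowTors (Ideal.span {a} ⊔ J) (N ⧸ LinearMap.range (a • (LinearMap.id : N →ₗ[A] N))) := by
  obtain ⟨k, hk⟩ := h
  refine ⟨k, fun r hr x => ?_⟩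
  have hr' := sup_pow_le _ _ _ hr
  obtain ⟨y, hy, j, hj, rfl⟩ := Submodule.mem_sup.1 hr'
  obtain ⟨t, rfl⟩ := Ideal.mem_span_singleton'.1 hy
  induction x using Submodule.Quotient.induction_on with
  | _ x =>
    rw [← Submodule.Quotient.mk_smul, Submodule.Quotient.mk_eq_zero]
    refine ⟨t • x, ?_⟩
    simp only [LinearMap.smul_apply, LinearMap.id_coe, id_eq]
    rw [add_smul, hk j hj, add_zero, mul_smul, smul_comm]

end PowTors

section Lin

/-- `H^i(a • φ) = a • H^i(φ)` -/
lemma homologyMap_smul' {F G : Cx A} (a : A) (φ : F ⟶ G) (i : ℤ) :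
    HomologicalComplex.homologyMap (a • φ) i = a • HomologicalComplex.homologyMap φ i := by
  have : (HomologicalComplex.shortComplexFunctor (ModuleCat.{u} A) (ComplexShape.up ℤ) i).map
      (a • φ) = a • (HomologicalComplex.shortComplexFunctor (ModuleCat.{u} A)
        (ComplexShape.up ℤ) i).map φ := by
    ext <;> rfl
  show ShortComplex.homologyMap _ = a • ShortComplex.homologyMap _
  rw [this, ShortComplex.homologyMap_smul]
  rfl

/-- if `a • 𝟙` is an epimorphism of modules then multiplication by `a` is onto -/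
lemma surjective_smul_of_epi (M : ModuleCat.{u} A) (a : A) (h : Epi (a • 𝟙 M)) :
    Function.Surjective fun x : M => a • x := by
  have := (ModuleCat.epi_iff_surjective _).1 h
  intro y
  obtain ⟨x, hx⟩ := this y
  exact ⟨x, hx⟩

/-- `TC N` is a linear functor -/
lemma TC_map_smul_id (N : ModuleCat.{u} A) (F : Cx A) (a : A) :
    (TC N).map (a • 𝟙 F) = a • 𝟙 ((TC N).obj F) := by
  rw [Functor.map_smul, CategoryTheory.Functor.map_id]

lemma TCmap_smul_app (N : Type u) [AddCommGroup N] [Module A N] (F : Cx A) (a : A) :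
    (TCmap (ModuleCat.ofHom (a • (LinearMap.id : N →ₗ[A] N)))).app F =
      a • 𝟙 ((TC (ModuleCat.of A N)).obj F) := by
  apply HomologicalComplex.hom_ext
  intro n
  rw [TCmap_app_f]
  have : ModuleCat.ofHom (a • (LinearMap.id : N →ₗ[A] N)) = a • 𝟙 (ModuleCat.of A N) := rfl
  rw [this, MonoidalLinear.smul_whiskerRight, id_whiskerRight]
  rfl

/-- closure of `V` under cones -/
lemma V_shift_mappingCone (f : A) {F G : Cx A} (φ : F ⟶ G)
    (hF : ∀ n : ℤ, V f ((Q.obj F)⟦n⟧)) (hG : ∀ n : ℤ, V f ((Q.obj G)⟦n⟧)) (n : ℤ) :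
    V f ((Q.obj (CochainComplex.mappingCone φ))⟦n⟧) := by
  have hT := DerivedCategory.mappingCone_triangle_distinguished φ
  have hT' := Triangle.shift_distinguished _ (rot_of_distTriang _ hT) n
  refine V_of_triangle f _ hT' (hG n) ?_
  exact (hF (1 + n)).of_iso ((shiftFunctorAdd' (Dual.D A) 1 n (1 + n) rfl).app _)

end Lin

section Main

/-- `A ⊗ F` exact in degree `i` implies `F` exact in degree `i` -/
lemma exactAt_of_exactAt_TC_self (F : Cx A) (i : ℤ)
    (h1 : ((TC (ModuleCat.of A A)).obj F).ExactAt i) : F.ExactAt i := by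
  rw [exactAt_TC_iff _ F (i - 1) i (i + 1) (by lia) rfl] at h1
  rw [exactAt_iff_fexact F (i - 1) i (i + 1) (by lia) rfl]
  refine Function.Exact.of_ladder_linearEquiv_of_exact (e₁ := TensorProduct.lid A _)
    (e₂ := TensorProduct.lid A _) (e₃ := TensorProduct.lid A _) ?_ ?_ h1
  · ext x
    simp
  · ext x
    simp

/-- **Derived Nakayama, complex form.**  For a finite set `s`, a termwise flat complex `F` which is
derived complete with respect to the elements of `s`, and a degree bound `c`: if `N ⊗ F` is exact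
above `c` for all modules `N` killed by a power of `(s)`, then `F` is exact above `c`. -/
theorem exactAt_of_powTors (c : ℤ) (s : Finset A) :
    ∀ (F : Cx A), DRing.TermwiseFlat F →
      (∀ f ∈ s, ∀ n : ℤ, V f ((Q.obj F)⟦n⟧)) →
      (∀ (N : Type u) [AddCommGroup N] [Module A N], PowTors (Ideal.span (s : Set A)) N →
        ∀ i, c < i → ((TC (ModuleCat.of A N)).obj F).ExactAt i) →
      ∀ i, c < i → F.ExactAt i := by
  classical
  induction s using Finset.induction_on with
  | empty =>
    intro F _ _ hN i hi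
    apply exactAt_of_exactAt_TC_self
    apply hN A _ i hi
    refine ⟨1, fun r hr x => ?_⟩
    rw [Finset.coe_empty, Ideal.span_empty, pow_one] at hr
    rw [(Submodule.mem_bot A).1 hr, zero_smul]
  | insert a s' ha ih =>
    intro F hFf hV hN i hi
    -- the cone of multiplication by `a`
    have hcone : ∀ j, c < j → (CochainComplex.mappingCone (a • 𝟙 F)).ExactAt j := by
      apply ih _ (termwiseFlat_mappingCone _ hFf hFf)
      · intro f hf n
        exact V_shift_mappingCone f _ (hV f (Finset.mem_insert_of_mem hf))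
          (hV f (Finset.mem_insert_of_mem hf)) n
      · intro N _ _ hNt j hj
        have hspan : Ideal.span ((insert a s' : Finset A) : Set A) =
            Ideal.span {a} ⊔ Ideal.span (s' : Set A) := by
          rw [Finset.coe_insert, Ideal.span_insert]
        have h1 : ∀ k, c < k →
            ((TC (ModuleCat.of A (LinearMap.ker (mulBy N a)))).obj F).ExactAt k :=
          hN _ (hspan ▸ powTors_ker _ a hNt)
        have h3 : ∀ k, c < k →
            ((TC (ModuleCat.of A (N ⧸ LinearMap.range (mulBy N a)))).obj F).ExactAt k :=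
          hN _ (hspan ▸ powTors_quot _ a hNt)
        have hepi := epi_homologyMap_TCmap_mulBy F hFf c h1 h3 j hj
        have hmono := mono_homologyMap_TCmap_mulBy F hFf c h1 h3 (j + 1) (by lia)
        rw [TCmap_smul_app, ← TC_map_smul_id] at hepi hmono
        exact (exactAt_mappingCone _ j hepi hmono).of_iso
          (CochainComplex.mappingCone.mapHomologicalComplexIso (a • 𝟙 F)
            (T (ModuleCat.of A N))).symm
    have hepi := epi_homologyMap_of_exactAt_mappingCone _ i (hcone i hi)
    rw [homologyMap_smul', HomologicalComplex.homologyMap_id] at hepi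
    have hsurj := surjective_smul_of_epi _ a hepi
    have hcrit : Crit a (F.homology i) :=
      Crit.of_linearEquiv ((homologyFunctorFactors (ModuleCat.{u} A) i).app F).toLinearEquiv
        ((V_shift_iff_crit a (Q.obj F)).1 (hV a (Finset.mem_insert_self _ _)) i)
    rw [exactAt_iff_isZero_homology]
    have : Subsingleton (F.homology i) :=
      ⟨fun x y => by rw [hcrit.eq_zero_of_surjective hsurj x, hcrit.eq_zero_of_surjective hsurj y]⟩
    exact ModuleCat.isZero_of_subsingleton _

end Main

section DLevel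

variable (I : Ideal A)

/-- `A ⧸ I` with its quotient module structure is the restriction of scalars of `A ⧸ I` -/
noncomputable def quotIso :
    (ModuleCat.restrictScalars.{u} (Ideal.Quotient.mk I)).obj (ModuleCat.of (A ⧸ I) (A ⧸ I)) ≅
      ModuleCat.of A (A ⧸ I) :=
  LinearEquiv.toModuleIso
    { AddEquiv.refl (A ⧸ I) with
      map_smul' := fun r x => by
        show Ideal.Quotient.mk I r * x = r • x
        rw [Algebra.smul_def]
        rfl }

/-- if `F` is K-projective with projective terms and `A/I ⊗ F` is exact above `c`, then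
`N ⊗ F` is exact above `c` for all `N` killed by a power of `I` -/
theorem exactAt_TC_of_powTors (F : Cx A) [F.IsKProjective] (hFf : DRing.TermwiseFlat F) (c : ℤ)
    (h : ∀ i, c < i → ((TC (ModuleCat.of A (A ⧸ I))).obj F).ExactAt i)
    (N : Type u) [AddCommGroup N] [Module A N] (hN : PowTors I N) (i : ℤ) (hi : c < i) :
    ((TC (ModuleCat.of A N)).obj F).ExactAt i := by
  have hle : ∀ j : ℤ, c < j → ((DTen.extCx (Ideal.Quotient.mk I)).obj F).ExactAt j := by
    intro j hj
    have h1 := (exactAt_TC_congr (quotIso I) F j).2 (h j hj)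
    exact (exactAt_bc_iff_TC (Ideal.Quotient.mk I) F j).2 h1
  have hGK : KFlat ((DTen.extCx (Ideal.Quotient.mk I)).obj F) := kflat_of_isKProjective _
  have hbase : ∀ (N : Type u) [AddCommGroup N] [Module A N], (∀ r ∈ I, ∀ x : N, r • x = 0) →
      ((TC (ModuleCat.of A N)).obj F).ExactAt i := by
    intro N _ _ hN
    obtain ⟨Nb, ⟨eN⟩⟩ := exists_iso_restrictScalars_of_ker_smul_eq_zero (Ideal.Quotient.mk I)
      Ideal.Quotient.mk_surjective N (by rwa [Ideal.mk_ker])
    exact exactAt_TC_of_iso eN F i (exactAt_TC_restrict_of_exactAt_TC_ext _ Nb F i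
      (exactAt_TC_of_exactAt_above _ hGK c hle Nb i hi))
  obtain ⟨k, hk⟩ := hN
  exact exactAt_TC_of_pow_smul_eq_zero' I F hFf i hbase k N hk

variable [DRing.HasLTensor A (ModuleCat.of A (A ⧸ I))]

/-- homology of `Q F ⊗^L M` for K-projective `F` -/
lemma exactAt_TC_iff_isZero_LTensor (M : ModuleCat.{u} A) [DRing.HasLTensor A M]
    (F : Cx A) [F.IsKProjective] {K : Dual.D A} (e : Q.obj F ≅ K) (i : ℤ) :
    ((TC M).obj F).ExactAt i ↔
      IsZero ((homologyFunctor (ModuleCat.{u} A) i).obj ((DRing.LTensor A M).obj K)) := by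
  rw [← exactAt_tCx_iff, exactAt_iff_isZero_homologyFunctor_Q]
  exact ((homologyFunctor (ModuleCat.{u} A) i).mapIso
    ((ltIso M F).symm ≪≫ (DRing.LTensor A M).mapIso e)).isZero_iff

/-- **Derived Nakayama**: for `K` derived complete with respect to a finitely generated ideal
`I`, if `H^i(K ⊗^L A/I) = 0` for all `i > c` then `H^i(K) = 0` for all `i > c`. -/
theorem isZero_homology_of_LTensor (hI : I.FG) (K : Dual.D A) (hc : DRing.IsDerivedComplete I K)
    (c : ℤ)
    (h : ∀ i : ℤ, c < i → IsZero ((homologyFunctor (ModuleCat.{u} A) i).obj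
      ((DRing.LTensor A (ModuleCat.of A (A ⧸ I))).obj K)))
    (i : ℤ) (hi : c < i) : IsZero ((homologyFunctor (ModuleCat.{u} A) i).obj K) := by
  obtain ⟨F, hF, hproj, ⟨e⟩⟩ := exists_kproj_iso K
  have hFf : DRing.TermwiseFlat F := fun i =>
    have := hproj i
    have : Module.Projective A (F.X i) := ModuleCat.projective_of_module_projective _
    inferInstance
  obtain ⟨s, rfl⟩ := hI
  have hV : ∀ f ∈ s, ∀ n : ℤ, V f ((Q.obj F)⟦n⟧) := by
    intro f hf n
    exact ((isDerivedComplete_iff_V _ K).1 hc f (Ideal.subset_span hf) n).of_iso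
      ((shiftFunctor (Dual.D A) n).mapIso e.symm)
  have h0 : ∀ j, c < j → ((TC (ModuleCat.of A (A ⧸ Ideal.span (s : Set A)))).obj F).ExactAt j :=
    fun j hj => (exactAt_TC_iff_isZero_LTensor _ F e j).2 (h j hj)
  have := exactAt_of_powTors c s F hFf hV
    (fun N _ _ hN j hj => exactAt_TC_of_powTors _ F hFf c h0 N hN j hj) i hi
  rw [exactAt_iff_isZero_homologyFunctor_Q] at this
  exact this.of_iso ((homologyFunctor (ModuleCat.{u} A) i).mapIso e.symm)

/-- right t-exactness of `- ⊗^L M` -/
theorem isZero_homology_LTensor_of_isZero_homology (M : ModuleCat.{u} A) [DRing.HasLTensor A M]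
    (K : Dual.D A) (c : ℤ)
    (h : ∀ i : ℤ, c < i → IsZero ((homologyFunctor (ModuleCat.{u} A) i).obj K))
    (i : ℤ) (hi : c < i) :
    IsZero ((homologyFunctor (ModuleCat.{u} A) i).obj ((DRing.LTensor A M).obj K)) := by
  obtain ⟨F, hF, hproj, ⟨e⟩⟩ := exists_kproj_iso K
  rw [← exactAt_TC_iff_isZero_LTensor M F e i]
  refine exactAt_TC_of_exactAt_above F (kflat_of_isKProjective F) c (fun j hj => ?_) M i hi
  rw [exactAt_iff_isZero_homologyFunctor_Q]
  exact (h j hj).of_iso ((homologyFunctor (ModuleCat.{u} A) j).mapIso e)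

/-- an object of `D(A)` all of whose cohomology vanishes is zero -/
lemma isZero_of_forall_isZero_homology (K : Dual.D A)
    (h : ∀ i : ℤ, IsZero ((homologyFunctor (ModuleCat.{u} A) i).obj K)) : IsZero K := by
  have h1 : K.IsLE 0 := (DerivedCategory.isLE_iff K 0).2 (fun i _ => h i)
  have h2 : K.IsGE 1 := (DerivedCategory.isGE_iff K 1).2 (fun i _ => h i)
  exact DerivedCategory.TStructure.t.isZero K 0 1 (by simp)

/-- **Derived Nakayama**: a derived complete object with `K ⊗^L A/I = 0` is zero. -/
theorem isZero_of_LTensor (hI : I.FG) (K : Dual.D A) (hc : DRing.IsDerivedComplete I K)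
    (h0 : IsZero ((DRing.LTensor A (ModuleCat.of A (A ⧸ I))).obj K)) : IsZero K := by
  apply isZero_of_forall_isZero_homology
  intro i
  exact isZero_homology_of_LTensor I hI K hc (i - 1)
    (fun j _ => (homologyFunctor (ModuleCat.{u} A) j).map_isZero h0) i (by lia)

end DLevel

end Groth.Agent.Lib.Seat30.DerNak
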