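import Mathlib.RingTheory.Flat.Localization
import Mathlib.RingTheory.IsTensorProduct
import Mathlib.Algebra.Module.LocalizedModule.Submodule

/-!
# Seat30: flatness of localizations over a base ring, and base change (helper30)
-/

set_option autoImplicit false

open TensorProduct

namespace Groth.Agent.Lib.Seat30.FlatAt

section LocMap

variable {R : Type*} [CommRing R] (S : Submonoid R)
  {M M' N N' : Type*} [AddCommGroup M] [AddCommGroup M'] [AddCommGroup N] [AddCommGroup N']
  [Module R M] [Module R M'] [Module R N] [Module R N']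
  (f : M →ₗ[R] M') (g : N →ₗ[R] N') [IsLocalizedModule S f] [IsLocalizedModule S g]

/-- Injectivity of a localized map in terms of the original map. -/
theorem map_injective_iff (h : M →ₗ[R] N) :
    Function.Injective (IsLocalizedModule.map S f g h) ↔
      ∀ m : M, (∃ s : S, s • h m = 0) → ∃ s : S, s • m = 0 := by
  constructor
  · intro hinj m ⟨s, hs⟩
    have h1 : g (h m) = 0 := (IsLocalizedModule.eq_zero_iff S g).mpr ⟨s, hs⟩
    have h2 : IsLocalizedModule.map S f g h (f m) = 0 := by
      rw [IsLocalizedModule.map_apply, h1]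
    have h3 : f m = 0 := hinj (by rw [h2, map_zero])
    exact (IsLocalizedModule.eq_zero_iff S f).mp h3
  · intro H
    rw [injective_iff_map_eq_zero]
    intro x hx
    obtain ⟨⟨m, s⟩, rfl⟩ := IsLocalizedModule.mk'_surjective S f x
    simp only [Function.uncurry_apply_pair, IsLocalizedModule.map_mk',
      IsLocalizedModule.mk'_eq_zero] at hx ⊢
    exact (IsLocalizedModule.eq_zero_iff S f).mpr (H m ((IsLocalizedModule.eq_zero_iff S g).mp hx))

end LocMap

section KerKilled

variable {R S : Type*} [CommRing R] [CommRing S] [Algebra R S] (W : Submonoid S)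
  {M : Type*} [AddCommGroup M] [Module S M] [Module R M] [IsScalarTower R S M]
  {N P : Type*} [AddCommGroup N] [AddCommGroup P] [Module R N] [Module R P]

/-- If `M_W` is `R`-flat, the kernel of `M ⊗ N → M ⊗ P` (for `N → P` injective) is `W`-torsion. -/
theorem exists_smul_eq_zero_of_lTensor_eq_zero [Module.Flat R (LocalizedModule W M)]
    (ι : N →ₗ[R] P) (hι : Function.Injective ι) (k : M ⊗[R] N) (hk : ι.lTensor M k = 0) :
    ∃ s : W, (s : S) • k = 0 := by
  let g := LocalizedModule.mkLinearMap W M
  have h1 := IsLocalizedModule.map_lTensor (R := R) S W ι g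
  have h2 : Function.Injective (AlgebraTensorModule.lTensor S (LocalizedModule W M) ι) :=
    Module.Flat.lTensor_preserves_injective_linearMap ι hι
  rw [← h1] at h2
  have h3 := (map_injective_iff W _ _ _).mp h2 k ⟨1, by
    rw [one_smul]; exact hk⟩
  obtain ⟨s, hs⟩ := h3
  exact ⟨s, hs⟩

end KerKilled

section Compare

universe uR'

variable {R S S' : Type*} {R' : Type uR'} [CommRing R] [CommRing R'] [CommRing S] [CommRing S']
  [Algebra R R'] [Algebra R S] [Algebra S S'] [Algebra R' S'] [Algebra R S']
  [IsScalarTower R S S'] [IsScalarTower R R' S'] [Algebra.IsPushout R S R' S']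
  {M M' : Type*} [AddCommGroup M] [Module S M] [Module R M] [IsScalarTower R S M]
  [AddCommGroup M'] [Module S' M'] [Module R' M'] [IsScalarTower R' S' M']
  [Module S M'] [IsScalarTower S S' M'] [Module R M'] [IsScalarTower R R' M'] [IsScalarTower R S M']
  (f : M →ₗ[S] M') (hf : IsBaseChange S' f)

include hf in
/-- In a pushout square of rings, a base change along `S → S'` is a base change along `R → R'`. -/
theorem isBaseChange_restrictScalars : IsBaseChange R' (f.restrictScalars R) := by
  have : Algebra.IsPushout R R' S S' := Algebra.IsPushout.symm inferInstance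
  let e : S' ⊗[S] M ≃ₗ[R'] R' ⊗[R] M := Algebra.IsPushout.cancelBaseChange R R' S S' M
  refine IsBaseChange.of_equiv (e.symm ≪≫ₗ hf.equiv.restrictScalars R') ?_
  intro m
  simp [e, hf.equiv_tmul]

variable (N : Type*) [AddCommGroup N] [Module R' N] [Module R N] [IsScalarTower R R' N]

variable (R') in
/-- The comparison isomorphism `M ⊗[R] N ≃ M' ⊗[R'] N` for an `R'`-module `N`. -/
noncomputable def cmp : M ⊗[R] N ≃ₗ[R] M' ⊗[R'] N :=
  TensorProduct.comm R M N ≪≫ₗ
    (((isBaseChange_restrictScalars f hf).tensorEquiv N).symm.restrictScalars R) ≪≫ₗ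
    (TensorProduct.comm R' N M').restrictScalars R

@[simp]
theorem cmp_tmul (m : M) (n : N) : cmp R' f hf N (m ⊗ₜ[R] n) = f m ⊗ₜ[R'] n := by
  simp [cmp, IsBaseChange.tensorEquiv, IsBaseChange.equiv_tmul]

theorem cmp_smul (s : S) (x : M ⊗[R] N) :
    cmp R' f hf N (s • x) = (algebraMap S S' s) • cmp R' f hf N x := by
  induction x with
  | zero => simp
  | add x y hx hy => simp only [smul_add, map_add, hx, hy]
  | tmul m n =>
    rw [TensorProduct.smul_tmul', cmp_tmul, cmp_tmul, TensorProduct.smul_tmul', map_smul,
      algebraMap_smul]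

theorem cmp_naturality {N P : Type*} [AddCommGroup N] [Module R' N] [Module R N]
    [IsScalarTower R R' N] [AddCommGroup P] [Module R' P] [Module R P] [IsScalarTower R R' P]
    (ι : N →ₗ[R'] P) (x : M ⊗[R] N) :
    cmp R' f hf P ((ι.restrictScalars R).lTensor M x) = ι.lTensor M' (cmp R' f hf N x) := by
  induction x with
  | zero => simp
  | add x y hx hy => simp only [map_add, hx, hy]
  | tmul m n => simp

include hf in
/-- Main lemma: in a pushout square, if `M_W` is `R`-flat and `W` maps into `V`, then the
localization `M'_V` of the base change `M'` is `R'`-flat. -/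
theorem flat_localizedModule_of_isBaseChange
    (W : Submonoid S) (V : Submonoid S') (hWV : ∀ s ∈ W, algebraMap S S' s ∈ V)
    [Module.Flat R (LocalizedModule W M)] : Module.Flat R' (LocalizedModule V M') := by
  rw [Module.Flat.iff_lTensor_preserves_injective_linearMap'.{uR'}]
  intro N P _ _ _ _ ι hι
  let _ : Module R P := Module.compHom P (algebraMap R R')
  have : IsScalarTower R R' P := IsScalarTower.of_algebraMap_smul fun r x => rfl
  let _ : Module R N := Module.compHom N (algebraMap R R')
  have : IsScalarTower R R' N := IsScalarTower.of_algebraMap_smul fun r x => rfl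
  let g := LocalizedModule.mkLinearMap V M'
  have h1 := IsLocalizedModule.map_lTensor (R := R') S' V ι g
  rw [← AlgebraTensorModule.coe_lTensor (A := S'), ← h1, map_injective_iff]
  rintro k ⟨v, hv⟩
  have hk : ι.lTensor M' ((v : S') • k) = 0 := by
    have := map_smul (AlgebraTensorModule.lTensor S' M' ι) (v : S') k
    rw [AlgebraTensorModule.coe_lTensor] at this
    rw [this]
    exact hv
  obtain ⟨k₀, hk₀⟩ := (cmp (R := R) R' f hf N).surjective ((v : S') • k)
  have hk₀' : ((ι.restrictScalars R).lTensor M) k₀ = 0 := by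
    apply (cmp (R := R) R' f hf P).injective
    rw [map_zero, cmp_naturality, hk₀, hk]
  obtain ⟨s, hs⟩ := exists_smul_eq_zero_of_lTensor_eq_zero W (ι.restrictScalars R) hι k₀ hk₀'
  refine ⟨⟨algebraMap S S' s * v, V.mul_mem (hWV s s.2) v.2⟩, ?_⟩
  change (algebraMap S S' s * (v : S')) • k = 0
  rw [mul_smul, ← hk₀, ← cmp_smul, hs, map_zero]

end Compare

end Groth.Agent.Lib.Seat30.FlatAt
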