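import Mathlib
import Groth.Agent.Lib.Helper29XTorsion
import Groth.Prelude.Def_DRing3

/-!
# Modules on which `Γ_I` behaves well (seat 30)

`Good M`: for every ideal `I'` and every `g`, multiplication by `g` is surjective on `Γ_{I'}(M)`
modulo `g`-power torsion.  Injective modules over a Noetherian ring are good.
Also elementary facts on `DRing.torsionSub`.
-/

set_option autoImplicit false
universe u

namespace Groth.Agent.Lib.Seat30.GamGood

variable {A : Type u} [CommRing A]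

section Tors

variable (M : Type u) [AddCommGroup M] [Module A M]

lemma torsionSub_anti {I J : Ideal A} (h : I ≤ J) : DRing.torsionSub J M ≤ DRing.torsionSub I M := by
  rintro x ⟨n, hn⟩
  exact ⟨n, fun a ha => hn a (Ideal.pow_right_mono h n ha)⟩

lemma torsionSub_bot : DRing.torsionSub (⊥ : Ideal A) M = ⊤ := by
  rw [eq_top_iff]
  intro x _
  refine ⟨1, fun a ha => ?_⟩
  rw [pow_one, Ideal.mem_bot] at ha
  rw [ha, zero_smul]

lemma torsionSub_sup (I J : Ideal A) :
    DRing.torsionSub (I ⊔ J) M = DRing.torsionSub I M ⊓ DRing.torsionSub J M := by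
  apply le_antisymm
  · exact le_inf (torsionSub_anti M le_sup_left) (torsionSub_anti M le_sup_right)
  · rintro x ⟨⟨n, hn⟩, ⟨m, hm⟩⟩
    refine ⟨n + m, fun a ha => ?_⟩
    have h1 : a ∈ I ^ n ⊔ J ^ m := Ideal.sup_pow_add_le_pow_sup_pow ha
    obtain ⟨b, hb, c, hc, rfl⟩ := Submodule.mem_sup.1 h1
    rw [add_smul, hn b hb, hm c hc, add_zero]

variable {M}

lemma mem_torsionSub_span_singleton (g : A) (x : M) :
    x ∈ DRing.torsionSub (Ideal.span {g}) M ↔ ∃ k : ℕ, g ^ k • x = 0 := by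
  constructor
  · rintro ⟨n, hn⟩
    exact ⟨n, hn _ (Ideal.pow_mem_pow (Ideal.mem_span_singleton_self g) n)⟩
  · rintro ⟨k, hk⟩
    refine ⟨k, fun a ha => ?_⟩
    rw [Ideal.span_singleton_pow, Ideal.mem_span_singleton'] at ha
    obtain ⟨c, rfl⟩ := ha
    rw [mul_smul, hk, smul_zero]

end Tors

variable (A) in
/-- `g` is surjective on `Γ_{I'}(M)` modulo `g`-power torsion, for all `I'` and `g`. -/
def Good (M : Type u) [AddCommGroup M] [Module A M] : Prop :=
  ∀ (I' : Ideal A) (g : A) (x : M), x ∈ DRing.torsionSub I' M →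
    ∃ y ∈ DRing.torsionSub I' M, ∃ k : ℕ, g ^ k • (x - g • y) = 0

theorem good_of_injective [IsNoetherianRing A] (E : Type u) [AddCommGroup E] [Module A E]
    [Module.Injective A E] : Good A E := by
  intro I' g x hx
  obtain ⟨y, L, hL, hann⟩ := Groth.Agent.Lib.Helper29XTorsion.exists_div_mod_torsion E x g 1
  obtain ⟨n, hn⟩ := hx
  refine ⟨y, ⟨n, fun a ha => hann a (hn a ha)⟩, L, ?_⟩
  rw [pow_one] at hL
  exact hL

theorem good_of_equiv {M N : Type u} [AddCommGroup M] [Module A M] [AddCommGroup N] [Module A N]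
    (e : M ≃ₗ[A] N) (h : Good A M) : Good A N := by
  intro I' g x hx
  obtain ⟨y, hy, k, hk⟩ := h I' g (e.symm x) (DRing.map_mem_torsionSub I' e.symm.toLinearMap hx)
  refine ⟨e y, DRing.map_mem_torsionSub I' e.toLinearMap hy, k, ?_⟩
  have h1 := congrArg e hk
  rw [map_zero, map_smul, map_sub, map_smul, LinearEquiv.apply_symm_apply] at h1
  exact h1

theorem good_prod {M N : Type u} [AddCommGroup M] [Module A M] [AddCommGroup N] [Module A N]
    (hM : Good A M) (hN : Good A N) : Good A (M × N) := by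
  intro I' g x hx
  obtain ⟨y₁, hy₁, k₁, hk₁⟩ := hM I' g x.1
    (DRing.map_mem_torsionSub I' (LinearMap.fst A M N) hx)
  obtain ⟨y₂, hy₂, k₂, hk₂⟩ := hN I' g x.2
    (DRing.map_mem_torsionSub I' (LinearMap.snd A M N) hx)
  obtain ⟨n₁, hn₁⟩ := hy₁
  obtain ⟨n₂, hn₂⟩ := hy₂
  refine ⟨(y₁, y₂), ⟨n₁ + n₂, fun a ha => ?_⟩, k₁ + k₂, ?_⟩
  · rw [Prod.smul_mk, hn₁ a (Ideal.pow_le_pow_right (Nat.le_add_right n₁ n₂) ha),
      hn₂ a (Ideal.pow_le_pow_right (Nat.le_add_left n₂ n₁) ha)]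
    rfl
  · apply Prod.ext
    · show g ^ (k₁ + k₂) • (x.1 - g • y₁) = 0
      rw [pow_add, mul_comm, mul_smul, hk₁, smul_zero]
    · show g ^ (k₁ + k₂) • (x.2 - g • y₂) = 0
      rw [pow_add, mul_smul, hk₂, smul_zero]

/-- iterating divisibility -/
lemma exists_pow_div {M : Type u} [AddCommGroup M] [Module A M] (g : A)
    (hdiv : ∀ y : M, ∃ (y' : M) (k : ℕ), g ^ k • (y - g • y') = 0) (m : ℕ) (w : M) :
    ∃ (w' s : M) (e : ℕ), w = g ^ m • w' + s ∧ g ^ e • s = 0 := by
  induction m with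
  | zero => exact ⟨w, 0, 0, by rw [pow_zero, one_smul, add_zero], smul_zero _⟩
  | succ m ih =>
    obtain ⟨w', s, e, hw, hs⟩ := ih
    obtain ⟨w'', k, hk⟩ := hdiv w'
    refine ⟨w'', g ^ m • (w' - g • w'') + s, k + e, ?_, ?_⟩
    · rw [hw, pow_succ, mul_smul, smul_sub, ← add_assoc, add_sub_cancel]
    · have h1 : g ^ (k + e) • s = 0 := by rw [pow_add, mul_smul, hs, smul_zero]
      have h2 : g ^ (k + e) • g ^ m • (w' - g • w'') = 0 := by
        rw [smul_comm, pow_add, mul_comm, mul_smul, hk, smul_zero, smul_zero]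
      rw [smul_add, h1, h2, add_zero]

end Groth.Agent.Lib.Seat30.GamGood
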