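import Mathlib
import Groth.Agent.Lib.Seat30GamGood

/-!
# `I`-power torsion and flat tensor products (seat 30)

For a flat `A`-module `F` over a Noetherian ring `A`: `Γ_I(F ⊗ M) = F ⊗ Γ_I(M)` (as the image of
`F ⊗ Γ_I M → F ⊗ M`), and `F ⊗ M` is `Good` when `M` is.
-/

set_option autoImplicit false
universe u
open TensorProduct

namespace Groth.Agent.Lib.Seat30.FlatTors

open Groth.Agent.Lib.Seat30.GamGood

variable {A : Type u} [CommRing A] (F : Type u) [AddCommGroup F] [Module A F]
  (M : Type u) [AddCommGroup M] [Module A M]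

/-- `m ↦ (a • m)_{a ∈ s}` -/
noncomputable def mulMap (s : Finset A) : M →ₗ[A] (s → M) :=
  LinearMap.pi (fun a => (a : A) • LinearMap.id)

lemma mem_ker_mulMap (s : Finset A) (m : M) :
    m ∈ LinearMap.ker (mulMap M s) ↔ ∀ a ∈ s, a • m = 0 := by
  rw [LinearMap.mem_ker]
  constructor
  · intro h a ha
    exact congrFun h ⟨a, ha⟩
  · intro h
    funext a
    exact h a.1 a.2

/-- an element of `F ⊗ M` killed by a finite set `s` comes from `F ⊗ M[s]` -/
theorem mem_range_of_smul_eq_zero [Module.Flat A F] (s : Finset A) (x : F ⊗[A] M) (hx : ∀ a ∈ s, a • x = 0) :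
    x ∈ LinearMap.range ((LinearMap.ker (mulMap M s)).subtype.lTensor F) := by
  classical
  have hex : Function.Exact (LinearMap.ker (mulMap M s)).subtype (mulMap M s) :=
    LinearMap.exact_subtype_ker_map _
  have hex' := Module.Flat.lTensor_exact F hex
  rw [LinearMap.mem_range]
  refine (hex' x).1 ?_
  apply (TensorProduct.piRight A A F (fun _ : s => M)).injective
  rw [map_zero]
  have key : (TensorProduct.piRight A A F (fun _ : s => M)).toLinearMap ∘ₗ (mulMap M s).lTensor F =
      LinearMap.pi (fun a : s => (a : A) • (LinearMap.id : F ⊗[A] M →ₗ[A] F ⊗[A] M)) := by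
    apply TensorProduct.ext'
    intro f m
    funext a
    simp [mulMap, TensorProduct.tmul_smul]
  have := LinearMap.congr_fun key x
  simp only [LinearMap.coe_comp, LinearEquiv.coe_coe, Function.comp_apply] at this
  rw [this]
  funext a
  exact hx a.1 a.2

variable {F M}

lemma smul_lTensor_subtype (N : Submodule A M) (a : A) (y : F ⊗[A] N) :
    a • (N.subtype.lTensor F y) = N.subtype.lTensor F (a • y) := (map_smul _ _ _).symm

variable (F M)

/-- `F ⊗ Γ_I(M) → F ⊗ M` has image in `Γ_I(F ⊗ M)` -/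
lemma lTensor_mem_torsionSub (I : Ideal A) (y : F ⊗[A] (DRing.torsionSub I M)) :
    (DRing.torsionSub I M).subtype.lTensor F y ∈ DRing.torsionSub I (F ⊗[A] M) := by
  induction y using TensorProduct.induction_on with
  | zero => rw [map_zero]; exact Submodule.zero_mem _
  | tmul f e =>
    obtain ⟨n, hn⟩ := e.2
    refine ⟨n, fun a ha => ?_⟩
    rw [LinearMap.lTensor_tmul, ← TensorProduct.tmul_smul]
    show f ⊗ₜ[A] (a • (e : M)) = 0
    rw [hn a ha, TensorProduct.tmul_zero]
  | add y z hy hz => rw [map_add]; exact Submodule.add_mem _ hy hz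

/-- `Γ_I(F ⊗ M) = F ⊗ Γ_I(M)` for flat `F` and `I` with finitely generated powers -/
theorem mem_torsionSub_tensor_iff [Module.Flat A F] [IsNoetherianRing A] (I : Ideal A) (x : F ⊗[A] M) :
    x ∈ DRing.torsionSub I (F ⊗[A] M) ↔
      x ∈ LinearMap.range ((DRing.torsionSub I M).subtype.lTensor F) := by
  constructor
  · rintro ⟨n, hn⟩
    obtain ⟨s, hs⟩ : (I ^ n).FG := IsNoetherian.noetherian _
    have h1 := mem_range_of_smul_eq_zero F M s x (fun a ha => hn a (by
      rw [← hs]; exact Ideal.subset_span ha))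
    obtain ⟨y, rfl⟩ := h1
    -- `M[s] ⊆ Γ_I M`
    have hle : LinearMap.ker (mulMap M s) ≤ DRing.torsionSub I M := by
      intro m hm
      rw [mem_ker_mulMap] at hm
      refine ⟨n, fun a ha => ?_⟩
      rw [← hs] at ha
      refine Submodule.span_induction (p := fun a _ => a • m = 0) ?_ ?_ ?_ ?_ ha
      · intro a ha; exact hm a ha
      · exact zero_smul _ _
      · intro a b _ _ ha hb; rw [add_smul, ha, hb, add_zero]
      · intro c a _ ha; rw [smul_eq_mul, mul_smul, ha, smul_zero]
    refine ⟨(Submodule.inclusion hle).lTensor F y, ?_⟩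
    rw [← LinearMap.comp_apply, ← LinearMap.lTensor_comp]
    rfl
  · rintro ⟨y, rfl⟩
    exact lTensor_mem_torsionSub F M I y

/-- `F ⊗ M` is good when `M` is and `F` is flat -/
theorem good_tensor [Module.Flat A F] [IsNoetherianRing A] (hM : Good A M) : Good A (F ⊗[A] M) := by
  intro I' g x hx
  rw [mem_torsionSub_tensor_iff] at hx
  obtain ⟨y, rfl⟩ := hx
  induction y using TensorProduct.induction_on with
  | zero =>
    exact ⟨0, Submodule.zero_mem _, 0, by simp⟩
  | tmul f e =>
    obtain ⟨e', he', k, hk⟩ := hM I' g e.1 e.2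
    refine ⟨f ⊗ₜ[A] e', ?_, k, ?_⟩
    · have := lTensor_mem_torsionSub F M I' (f ⊗ₜ[A] (⟨e', he'⟩ : DRing.torsionSub I' M))
      simpa using this
    · rw [LinearMap.lTensor_tmul]
      show g ^ k • (f ⊗ₜ[A] (e : M) - g • f ⊗ₜ[A] e') = 0
      rw [← TensorProduct.tmul_smul, ← TensorProduct.tmul_sub, ← TensorProduct.tmul_smul, hk,
        TensorProduct.tmul_zero]
  | add y z hy hz =>
    obtain ⟨y', hy', k₁, hk₁⟩ := hy
    obtain ⟨z', hz', k₂, hk₂⟩ := hz
    refine ⟨y' + z', Submodule.add_mem _ hy' hz', k₁ + k₂, ?_⟩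
    rw [map_add]
    have e1 : (DRing.torsionSub I' M).subtype.lTensor F y + (DRing.torsionSub I' M).subtype.lTensor F z -
        g • (y' + z') = ((DRing.torsionSub I' M).subtype.lTensor F y - g • y') +
          ((DRing.torsionSub I' M).subtype.lTensor F z - g • z') := by
      rw [smul_add]; abel
    have h1 : g ^ (k₁ + k₂) • ((DRing.torsionSub I' M).subtype.lTensor F y - g • y') = 0 := by
      rw [pow_add, mul_comm, mul_smul, hk₁, smul_zero]
    have h2 : g ^ (k₁ + k₂) • ((DRing.torsionSub I' M).subtype.lTensor F z - g • z') = 0 := by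
      rw [pow_add, mul_smul, hk₂, smul_zero]
    rw [e1, smul_add, h1, h2, add_zero]

end Groth.Agent.Lib.Seat30.FlatTors
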