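import Groth.Agent.Lib.Helper17KInjD5
import Groth.Agent.Lib.Helper1TorD
import Groth.Prelude.Def_DRing3

/-!
# Seat31: computing `RΓ_I` on K-injective complexes

`DRing.RgammaI I` is defined as an abstract total right derived functor.  Using helper17's
K-injective machinery we show that on a K-injective complex `J` it is computed by the termwise
`I`-power torsion complex: `Q(Γ_I J) ≅ RΓ_I (Q J)`.
-/

set_option autoImplicit false

universe u

open CategoryTheory CategoryTheory.Limits

attribute [local instance] HasDerivedCategory.standard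

namespace Groth.Agent.Lib.Seat31.RGamma

open DerivedCategory Groth.Agent.Lib.Helper17.KInj

variable {A : Type u} [CommRing A] (I : Ideal A)

/-- termwise `Γ_I` on complexes. -/
noncomputable abbrev gammaCx : CochainComplex (ModuleCat.{u} A) ℤ ⥤ CochainComplex (ModuleCat.{u} A) ℤ :=
  (DRing.gammaI I).mapHomologicalComplex (ComplexShape.up ℤ)

variable [DRing.HasRgammaI I]

/-- the canonical map `Q(Γ_I K) ⟶ RΓ_I(Q K)` on the level of complexes. -/
noncomputable def unit : gammaCx I ⋙ Q ⟶ Q ⋙ DRing.RgammaI I :=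
  unitOfK (DRing.gammaI I) (DRing.RgammaI I)
    ((DRing.gammaIKh I).totalRightDerivedUnit DerivedCategory.Qh
      (HomotopyCategory.quasiIso (ModuleCat.{u} A) (ComplexShape.up ℤ)))

instance isRightDerivedFunctor_unit :
    (DRing.RgammaI I).IsRightDerivedFunctor (unit I)
      (HomologicalComplex.quasiIso (ModuleCat.{u} A) (ComplexShape.up ℤ)) :=
  isRightDerivedFunctor_unitOfK _ _ _

/-- on a K-injective complex, `RΓ_I` is computed termwise. -/
theorem isIso_unit_app (J : CochainComplex (ModuleCat.{u} A) ℤ) [J.IsKInjective] :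
    IsIso ((unit I).app J) :=
  isIso_app_of_isKInjective (DRing.gammaI I) (DRing.RgammaI I) (unit I) J

/-- on a K-injective complex, `RΓ_I` is computed termwise. -/
noncomputable def isoOfIsKInjective (J : CochainComplex (ModuleCat.{u} A) ℤ) [J.IsKInjective] :
    Q.obj ((gammaCx I).obj J) ≅ (DRing.RgammaI I).obj (Q.obj J) :=
  haveI := isIso_unit_app I J
  asIso ((unit I).app J)

/-- `RΓ_I` of any complex is computed by a K-injective resolution. -/
theorem exists_iso (K : CochainComplex (ModuleCat.{u} A) ℤ) :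
    ∃ (J : CochainComplex (ModuleCat.{u} A) ℤ) (φ : K ⟶ J), J.IsKInjective ∧ QuasiIso φ ∧
      (∀ n, Injective (J.X n)) ∧
      Nonempty ((DRing.RgammaI I).obj (Q.obj K) ≅ Q.obj ((gammaCx I).obj J)) := by
  obtain ⟨J, φ, hJ, hφ, -, hinj⟩ := exists_kInjective_resolution (ModuleCat.{u} A) K
  have : IsIso (Q.map φ) := by
    rw [DerivedCategory.isIso_Q_map_iff_quasiIso]; exact hφ
  exact ⟨J, φ, hJ, hφ, hinj,
    ⟨(DRing.RgammaI I).mapIso (asIso (Q.map φ)) ≪≫ (isoOfIsKInjective I J).symm⟩⟩

end Groth.Agent.Lib.Seat31.RGamma
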