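import Mathlib
import Groth.Agent.Lib.Seat30GamGood
import Groth.Agent.Lib.Seat31RGamma

/-!
# `Γ_I X → X` is a quasi-isomorphism for termwise good complexes with torsion cohomology (seat 30)
-/

set_option autoImplicit false
universe u
open CategoryTheory CategoryTheory.Limits HomologicalComplex

namespace Groth.Agent.Lib.Seat30.GamStep

open Groth.Agent.Lib.Seat31.RGamma Groth.Agent.Lib.Seat30.GamGood

variable {A : Type u} [CommRing A]

section General

variable {C : Type*} [Category C] [Abelian C]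

lemma epi_homologyMap_f (S : ShortComplex (CochainComplex C ℤ)) (hS : S.ShortExact) (i : ℤ)
    (h : S.X₃.ExactAt i) : Epi (HomologicalComplex.homologyMap S.f i) := by
  have hex := hS.homology_exact₂ i
  rw [exactAt_iff_isZero_homology] at h
  exact hex.epi_f (h.eq_of_tgt _ _)

lemma mono_homologyMap_f (S : ShortComplex (CochainComplex C ℤ)) (hS : S.ShortExact) (i : ℤ)
    (h : S.X₃.ExactAt (i - 1)) : Mono (HomologicalComplex.homologyMap S.f i) := by
  have hex := hS.homology_exact₁ (i - 1) i (by simp)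
  rw [exactAt_iff_isZero_homology] at h
  exact hex.mono_g (h.eq_of_src _ _)

end General

/-- the inclusion `Γ_I X ⟶ X` -/
noncomputable def ιCx (I : Ideal A) (X : CochainComplex (ModuleCat.{u} A) ℤ) :
    (gammaCx I).obj X ⟶ X where
  f n := (DRing.gammaIι I).app (X.X n)
  comm' i j _ := ((DRing.gammaIι I).naturality (X.d i j)).symm

lemma ιCx_f_apply (I : Ideal A) (X : CochainComplex (ModuleCat.{u} A) ℤ) (n : ℤ)
    (t : ((gammaCx I).obj X).X n) : ((ιCx I X).f n).hom t = (t : DRing.torsionSub I (X.X n)).1 := rfl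

lemma ιCx_naturality (I : Ideal A) {X Y : CochainComplex (ModuleCat.{u} A) ℤ} (φ : X ⟶ Y) :
    (gammaCx I).map φ ≫ ιCx I Y = ιCx I X ≫ φ := by
  ext n : 1
  exact (DRing.gammaIι I).naturality (φ.f n)

instance mono_ιCx (I : Ideal A) (X : CochainComplex (ModuleCat.{u} A) ℤ) : Mono (ιCx I X) := by
  have : ∀ n, Mono ((ιCx I X).f n) := fun n =>
    (ModuleCat.mono_iff_injective _).2 Subtype.val_injective
  exact HomologicalComplex.mono_of_mono_f (ιCx I X) this

/-- homology of a complex of modules as a concrete quotient -/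
noncomputable def homologyEquiv (Y : CochainComplex (ModuleCat.{u} A) ℤ) (n : ℤ) :
    Y.homology n ≃ₗ[A] (LinearMap.ker (Y.sc' (n - 1) n (n + 1)).g.hom ⧸
      LinearMap.range (Y.sc' (n - 1) n (n + 1)).moduleCatToCycles) :=
  (ShortComplex.homologyMapIso (Y.isoSc' (n - 1) n (n + 1) (by simp) (by simp)) ≪≫
    (Y.sc' (n - 1) n (n + 1)).moduleCatHomologyIso).toLinearEquiv

/-- the homology class of a cycle -/
noncomputable def cls (Y : CochainComplex (ModuleCat.{u} A) ℤ) (n : ℤ) (z : Y.X n)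
    (hz : (Y.d n (n + 1)).hom z = 0) : Y.homology n :=
  (homologyEquiv Y n).symm (Submodule.Quotient.mk ⟨z, hz⟩)

/-- element-level form of "the class of `z` is killed by `a`" -/
lemma exists_boundary_of_smul_cls_eq_zero (Y : CochainComplex (ModuleCat.{u} A) ℤ) (n : ℤ) (a : A)
    (z : Y.X n) (hz : (Y.d n (n + 1)).hom z = 0) (h : a • cls Y n z hz = 0) :
    ∃ w : Y.X (n - 1), a • z = (Y.d (n - 1) n).hom w := by
  let zc : LinearMap.ker (Y.sc' (n - 1) n (n + 1)).g.hom := ⟨z, hz⟩
  have h1 : a • (Submodule.Quotient.mk zc : LinearMap.ker (Y.sc' (n - 1) n (n + 1)).g.hom ⧸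
      LinearMap.range (Y.sc' (n - 1) n (n + 1)).moduleCatToCycles) = 0 := by
    unfold cls at h
    rw [← map_smul] at h
    exact (homologyEquiv Y n).symm.injective (h.trans (map_zero _).symm)
  rw [← Submodule.Quotient.mk_smul, Submodule.Quotient.mk_eq_zero] at h1
  obtain ⟨w, hw⟩ := h1
  refine ⟨w, ?_⟩
  have h3 := congrArg Subtype.val hw
  exact h3.symm

/-- **one generator**: if `g` is surjective modulo `g`-torsion on the terms of `Y` and the
cohomology of `Y` is `g`-power torsion, then `Γ_{(g)} Y ⟶ Y` is a quasi-isomorphism. -/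
theorem quasiIso_ιCx_singleton (g : A) (Y : CochainComplex (ModuleCat.{u} A) ℤ)
    (hdiv : ∀ (n : ℤ) (y : Y.X n), ∃ (y' : Y.X n) (k : ℕ), g ^ k • (y - g • y') = 0)
    (htors : ∀ (n : ℤ) (z : Y.X n), (Y.d n (n + 1)).hom z = 0 →
      ∃ (k : ℕ) (w : Y.X (n - 1)), g ^ k • z = (Y.d (n - 1) n).hom w) :
    QuasiIso (ιCx (Ideal.span {g}) Y) := by
  let ι := ιCx (Ideal.span {g}) Y
  let π := cokernel.π ι
  let S : ShortComplex (CochainComplex (ModuleCat.{u} A) ℤ) :=
    ShortComplex.mk ι π (cokernel.condition ι)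
  have hS : S.ShortExact :=
    { exact := ShortComplex.exact_cokernel ι
      mono_f := inferInstanceAs (Mono ι)
      epi_g := inferInstanceAs (Epi (cokernel.π ι)) }
  have hSn : ∀ n : ℤ, (S.map (HomologicalComplex.eval _ _ n)).ShortExact := fun n =>
    hS.map_of_exact _
  have hπsurj : ∀ n : ℤ, Function.Surjective (π.f n).hom := fun n =>
    (ModuleCat.epi_iff_surjective _).1 (hSn n).epi_g
  have hπker : ∀ (n : ℤ) (v : Y.X n), (∃ k : ℕ, g ^ k • v = 0) → (π.f n).hom v = 0 := by
    intro n v hv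
    have hv' : v ∈ DRing.torsionSub (Ideal.span {g}) (Y.X n) :=
      (mem_torsionSub_span_singleton g v).2 hv
    have h1 : (ι.f n ≫ π.f n) = 0 := by
      rw [← HomologicalComplex.comp_f, cokernel.condition, HomologicalComplex.zero_f]
    have h2 : (π.f n).hom ((ι.f n).hom ⟨v, hv'⟩) = 0 := by
      rw [← LinearMap.comp_apply, ← ModuleCat.hom_comp, h1]
      rfl
    exact h2
  have hπex : ∀ (n : ℤ) (v : Y.X n), (π.f n).hom v = 0 → ∃ k : ℕ, g ^ k • v = 0 := by
    intro n v hv
    obtain ⟨t, ht⟩ := (ShortComplex.moduleCat_exact_iff _).1 (hSn n).exact v hv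
    have ht' : (t : DRing.torsionSub (Ideal.span {g}) (Y.X n)).1 = v := ht
    rw [← ht']
    exact (mem_torsionSub_span_singleton g _).1 t.2
  have hC : ∀ n : ℤ, (cokernel ι).ExactAt n := by
    intro n
    rw [HomologicalComplex.exactAt_iff' _ (n - 1) n (n + 1) (by simp) (by simp),
      ShortComplex.moduleCat_exact_iff]
    intro c hc
    obtain ⟨y, rfl⟩ := hπsurj n c
    have hc' : ((cokernel ι).d n (n + 1)).hom ((π.f n).hom y) = 0 := hc
    have h1 : (π.f (n + 1)).hom ((Y.d n (n + 1)).hom y) = 0 := by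
      rw [← LinearMap.comp_apply, ← ModuleCat.hom_comp, ← π.comm n (n + 1), ModuleCat.hom_comp,
        LinearMap.comp_apply]
      exact hc'
    obtain ⟨a, ha⟩ := hπex (n + 1) _ h1
    have hz : (Y.d n (n + 1)).hom (g ^ a • y) = 0 := by rw [map_smul, ha]
    obtain ⟨b, w, hw⟩ := htors n _ hz
    obtain ⟨w', s, e, hws, hs⟩ := exists_pow_div g (hdiv (n - 1)) (a + b) w
    have hv : g ^ (a + b + e) • (y - (Y.d (n - 1) n).hom w') = 0 := by
      have h2 : g ^ (a + b) • y = g ^ (a + b) • (Y.d (n - 1) n).hom w' + (Y.d (n - 1) n).hom s := by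
        have hab : g ^ (a + b) = g ^ b * g ^ a := by rw [add_comm, pow_add]
        rw [hab, mul_smul, hw, hws, map_add, map_smul, hab]
      have h3 : g ^ (a + b) • (y - (Y.d (n - 1) n).hom w') = (Y.d (n - 1) n).hom s := by
        rw [smul_sub, h2, add_sub_cancel_left]
      rw [pow_add, mul_comm, mul_smul, h3, ← map_smul, hs, map_zero]
    have h4 := hπker n _ ⟨_, hv⟩
    rw [map_sub, sub_eq_zero] at h4
    refine ⟨(π.f (n - 1)).hom w', ?_⟩
    show ((cokernel ι).d (n - 1) n).hom ((π.f (n - 1)).hom w') = (π.f n).hom y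
    rw [h4, ← LinearMap.comp_apply, ← ModuleCat.hom_comp, π.comm (n - 1) n, ModuleCat.hom_comp,
      LinearMap.comp_apply]
  rw [quasiIso_iff]
  intro n
  rw [quasiIsoAt_iff_isIso_homologyMap]
  have hm : Mono (HomologicalComplex.homologyMap ι n) := mono_homologyMap_f S hS n (hC (n - 1))
  have he : Epi (HomologicalComplex.homologyMap ι n) := epi_homologyMap_f S hS n (hC n)
  exact isIso_of_mono_of_epi _

section Sup

variable (I' J : Ideal A)

/-- `Γ_{I' ⊔ J} M = Γ_J (Γ_{I'} M)` -/
noncomputable def supEquiv (M : Type u) [AddCommGroup M] [Module A M] :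
    DRing.torsionSub (I' ⊔ J) M ≃ₗ[A] DRing.torsionSub J (DRing.torsionSub I' M) where
  toFun x := ⟨⟨x.1, torsionSub_anti M le_sup_left x.2⟩, by
    obtain ⟨n, hn⟩ := torsionSub_anti M (le_sup_right : J ≤ I' ⊔ J) x.2
    exact ⟨n, fun a ha => Subtype.ext (hn a ha)⟩⟩
  invFun y := ⟨y.1.1, by
    rw [torsionSub_sup]
    refine ⟨y.1.2, ?_⟩
    obtain ⟨n, hn⟩ := y.2
    exact ⟨n, fun a ha => congrArg Subtype.val (hn a ha)⟩⟩
  left_inv x := rfl
  right_inv y := rfl
  map_add' x y := rfl
  map_smul' a x := rfl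

/-- `Γ_{I' ⊔ J} X ≅ Γ_J (Γ_{I'} X)` -/
noncomputable def supIso (X : CochainComplex (ModuleCat.{u} A) ℤ) :
    (gammaCx (I' ⊔ J)).obj X ≅ (gammaCx J).obj ((gammaCx I').obj X) :=
  HomologicalComplex.Hom.isoOfComponents (fun n => (supEquiv I' J (X.X n)).toModuleIso)
    (fun _ _ _ => rfl)

lemma supIso_hom_ι (X : CochainComplex (ModuleCat.{u} A) ℤ) :
    (supIso I' J X).hom ≫ ιCx J ((gammaCx I').obj X) ≫ ιCx I' X = ιCx (I' ⊔ J) X := rfl

end Sup

/-- `I`-power torsion of all cohomology modules -/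
def HTors (I : Ideal A) (X : CochainComplex (ModuleCat.{u} A) ℤ) : Prop :=
  ∀ (n : ℤ) (c : X.homology n), ∃ k : ℕ, ∀ a ∈ I ^ k, a • c = 0

lemma HTors.anti {I J : Ideal A} (h : I ≤ J) {X : CochainComplex (ModuleCat.{u} A) ℤ}
    (hX : HTors J X) : HTors I X := fun n c => by
  obtain ⟨k, hk⟩ := hX n c
  exact ⟨k, fun a ha => hk a (Ideal.pow_right_mono h k ha)⟩

lemma HTors.of_quasiIso (I : Ideal A) {X Y : CochainComplex (ModuleCat.{u} A) ℤ} (φ : Y ⟶ X)
    [QuasiIso φ] (hX : HTors I X) : HTors I Y := fun n c => by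
  obtain ⟨k, hk⟩ := hX n ((HomologicalComplex.homologyMap φ n).hom c)
  refine ⟨k, fun a ha => ?_⟩
  have h1 := hk a ha
  rw [← map_smul] at h1
  have hinj : Function.Injective (HomologicalComplex.homologyMap φ n).hom :=
    (ModuleCat.mono_iff_injective _).1 inferInstance
  exact hinj (h1.trans (map_zero _).symm)

lemma isIso_ιCx_bot (X : CochainComplex (ModuleCat.{u} A) ℤ) : IsIso (ιCx (⊥ : Ideal A) X) := by
  have : ∀ n, IsIso ((ιCx (⊥ : Ideal A) X).f n) := fun n => by
    rw [ConcreteCategory.isIso_iff_bijective]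
    refine ⟨Subtype.val_injective, fun x => ⟨⟨x, ?_⟩, rfl⟩⟩
    rw [torsionSub_bot]
    exact Submodule.mem_top
  exact HomologicalComplex.Hom.isIso_of_components _

theorem quasiIso_ιCx_span (s : Finset A) :
    ∀ (X : CochainComplex (ModuleCat.{u} A) ℤ), (∀ n, Good A (X.X n)) →
      HTors (Ideal.span (s : Set A)) X → QuasiIso (ιCx (Ideal.span (s : Set A)) X) := by
  classical
  induction s using Finset.induction_on with
  | empty =>
    intro X _ _
    have h0 : Ideal.span ((∅ : Finset A) : Set A) = ⊥ := by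
      rw [Finset.coe_empty, Ideal.span_empty]
    rw [h0]
    have := isIso_ιCx_bot X
    infer_instance
  | insert g s _ ih =>
    intro X hX hH
    have h0 : Ideal.span ((insert g s : Finset A) : Set A) =
        Ideal.span (s : Set A) ⊔ Ideal.span {g} := by
      rw [Finset.coe_insert, Ideal.span_insert, sup_comm]
    rw [h0] at hH ⊢
    have h1 : QuasiIso (ιCx (Ideal.span (s : Set A)) X) := ih X hX (hH.anti le_sup_left)
    have hY : HTors (Ideal.span {g}) ((gammaCx (Ideal.span (s : Set A))).obj X) :=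
      HTors.of_quasiIso _ (ιCx (Ideal.span (s : Set A)) X) (hH.anti le_sup_right)
    have h2 : QuasiIso (ιCx (Ideal.span {g}) ((gammaCx (Ideal.span (s : Set A))).obj X)) := by
      apply quasiIso_ιCx_singleton
      · intro n y
        obtain ⟨y', hy', k, hk⟩ := hX n (Ideal.span (s : Set A)) g y.1 y.2
        exact ⟨⟨y', hy'⟩, k, Subtype.ext hk⟩
      · intro n z hz
        obtain ⟨k, hk⟩ := hY n (cls _ n z hz)
        exact ⟨k, exists_boundary_of_smul_cls_eq_zero _ n _ z hz
          (hk _ (Ideal.pow_mem_pow (Ideal.mem_span_singleton_self g) k))⟩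
    rw [← supIso_hom_ι]
    infer_instance

/-- **Main**: for a finitely generated ideal `I` and a complex `X` of good modules with
`I`-power torsion cohomology, `Γ_I X ⟶ X` is a quasi-isomorphism. -/
theorem quasiIso_ιCx (I : Ideal A) (hI : I.FG) (X : CochainComplex (ModuleCat.{u} A) ℤ)
    (hX : ∀ n, Good A (X.X n)) (hH : HTors I X) : QuasiIso (ιCx I X) := by
  obtain ⟨s, rfl⟩ := hI
  exact quasiIso_ιCx_span s X hX hH

end Groth.Agent.Lib.Seat30.GamStep
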