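import Mathlib
import Groth.Prelude.Def_DRing2

/-!
# Complexes with zero differentials, and complexes over a field

* `homCx C`: the complex with zero differentials on the homology of `C`; over a field there is
  a quasi-isomorphism `homCxMap C : homCx C ⟶ C`.
* `isIso_f_of_quasiIso_zeroD`: a quasi-isomorphism between complexes with zero differentials is
  a termwise isomorphism.
* `zeroD_of_finrank_eq`: a complex of finite dimensional vector spaces with
  `dim H^i = dim C^i` for all `i` has zero differentials.
-/

set_option autoImplicit false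
universe u
open CategoryTheory CategoryTheory.Limits HomologicalComplex
attribute [local instance] HasDerivedCategory.standard

namespace Groth.Agent.Lib.Seat30.Minimal

section Ring

variable {A : Type u} [CommRing A]

/-- all differentials vanish -/
def ZeroD (C : DRing.Cx A) : Prop := ∀ i j, C.d i j = 0

lemma isIso_iCycles_of_zeroD {C : DRing.Cx A} (h : ZeroD C) (i : ℤ) : IsIso (C.iCycles i) :=
  C.isIso_iCycles i _ rfl (h _ _)

lemma isIso_homologyπ_of_zeroD {C : DRing.Cx A} (h : ZeroD C) (i : ℤ) :
    IsIso (C.homologyπ i) :=
  C.isIso_homologyπ _ i rfl (h _ _)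

/-- a quasi-isomorphism between complexes with zero differentials is a termwise isomorphism -/
lemma isIso_f_of_quasiIso_zeroD {C C' : DRing.Cx A} (g : C ⟶ C') (hC : ZeroD C) (hC' : ZeroD C')
    [QuasiIso g] (i : ℤ) : IsIso (g.f i) := by
  have h1 := isIso_iCycles_of_zeroD hC i
  have h2 := isIso_iCycles_of_zeroD hC' i
  have h3 := isIso_homologyπ_of_zeroD hC i
  have h4 := isIso_homologyπ_of_zeroD hC' i
  have h5 : IsIso (homologyMap g i) := (quasiIsoAt_iff_isIso_homologyMap g i).1 inferInstance
  have h6 : IsIso (cyclesMap g i) := by
    have e1 : cyclesMap g i ≫ C'.homologyπ i = C.homologyπ i ≫ homologyMap g i :=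
      (homologyπ_naturality g i).symm
    have e2 : cyclesMap g i = (C.homologyπ i ≫ homologyMap g i) ≫ inv (C'.homologyπ i) := by
      rw [← e1, Category.assoc, IsIso.hom_inv_id, Category.comp_id]
    rw [e2]
    infer_instance
  have e3 : C.iCycles i ≫ g.f i = cyclesMap g i ≫ C'.iCycles i := (cyclesMap_i g i).symm
  have e4 : g.f i = inv (C.iCycles i) ≫ cyclesMap g i ≫ C'.iCycles i := by
    rw [← e3, IsIso.inv_hom_id_assoc]
  rw [e4]
  infer_instance

/-- cohomology of an object of `D(A)` represented by a complex -/
noncomputable def hdEquiv {L : Dual.D A} {C : DRing.Cx A} (e : L ≅ DerivedCategory.Q.obj C)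
    (i : ℤ) : Dual.HD A L i ≃ₗ[A] C.homology i :=
  ((DerivedCategory.homologyFunctor _ i).mapIso e ≪≫
    (DerivedCategory.homologyFunctorFactors _ i).app C).toLinearEquiv

end Ring

section Field

variable {κ : Type u} [Field κ]

instance projective_of_field (M : ModuleCat.{u} κ) : Projective M :=
  have : Module.Projective κ M := Module.Projective.of_free
  ModuleCat.projective_of_categoryTheory_projective M

/-- the complex with zero differentials on the homology of `C` -/
noncomputable abbrev homCx (C : DRing.Cx κ) : DRing.Cx κ where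
  X i := C.homology i
  d _ _ := 0
  shape _ _ _ := rfl
  d_comp_d' _ _ _ _ _ := comp_zero

lemma zeroD_homCx (C : DRing.Cx κ) : ZeroD (homCx C) := fun _ _ => rfl

/-- a section of the projection from cycles to homology -/
noncomputable def homSec (C : DRing.Cx κ) (i : ℤ) : C.homology i ⟶ C.cycles i :=
  Projective.factorThru (𝟙 _) (C.homologyπ i)

@[reassoc (attr := simp)]
lemma homSec_π (C : DRing.Cx κ) (i : ℤ) : homSec C i ≫ C.homologyπ i = 𝟙 _ :=
  Projective.factorThru_comp _ _

/-- the quasi-isomorphism from the homology (with zero differentials) to the complex -/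
noncomputable def homCxMap (C : DRing.Cx κ) : homCx C ⟶ C where
  f i := homSec C i ≫ C.iCycles i
  comm' i j _ := by
    show (homSec C i ≫ C.iCycles i) ≫ C.d i j = 0 ≫ _
    rw [Category.assoc, C.iCycles_d, comp_zero, zero_comp]

instance quasiIso_homCxMap (C : DRing.Cx κ) : QuasiIso (homCxMap C) := by
  rw [quasiIso_iff]
  intro i
  rw [quasiIsoAt_iff_isIso_homologyMap]
  have h1 := isIso_iCycles_of_zeroD (zeroD_homCx C) i
  have h3 := isIso_homologyπ_of_zeroD (zeroD_homCx C) i
  have hc : cyclesMap (homCxMap C) i = (homCx C).iCycles i ≫ homSec C i := by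
    rw [← cancel_mono (C.iCycles i), cyclesMap_i, Category.assoc]
    rfl
  have hh : (homCx C).homologyπ i ≫ homologyMap (homCxMap C) i = (homCx C).iCycles i := by
    rw [homologyπ_naturality, hc, Category.assoc, homSec_π, Category.comp_id]
  have e : homologyMap (homCxMap C) i = inv ((homCx C).homologyπ i) ≫ (homCx C).iCycles i := by
    rw [← hh, IsIso.inv_hom_id_assoc]
  rw [e]
  infer_instance

lemma finite_cycles (C : DRing.Cx κ) (i : ℤ) [Module.Finite κ (C.X i)] :
    Module.Finite κ (C.cycles i) :=
  Module.Finite.of_injective (C.iCycles i).hom ((ModuleCat.mono_iff_injective _).1 inferInstance)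

lemma finite_homology (C : DRing.Cx κ) (i : ℤ) [Module.Finite κ (C.X i)] :
    Module.Finite κ (C.homology i) :=
  have := finite_cycles C i
  Module.Finite.of_surjective (C.homologyπ i).hom
    ((ModuleCat.epi_iff_surjective _).1 inferInstance)

/-- a complex of finite dimensional vector spaces with `dim H^i = dim C^i` has zero differentials -/
lemma zeroD_of_finrank_eq (C : DRing.Cx κ) (hfin : ∀ i, Module.Finite κ (C.X i))
    (hrank : ∀ i, Module.finrank κ (C.homology i) = Module.finrank κ (C.X i)) : ZeroD C := by
  intro i j
  by_cases hij : (ComplexShape.up ℤ).Rel i j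
  swap
  · exact C.shape i j hij
  have := hfin i
  have hinj : Function.Injective (C.iCycles i).hom :=
    (ModuleCat.mono_iff_injective _).1 inferInstance
  have hsurj : Function.Surjective (C.homologyπ i).hom :=
    (ModuleCat.epi_iff_surjective _).1 inferInstance
  have hcfin : Module.Finite κ (C.cycles i) := finite_cycles C i
  have h1 : Module.finrank κ (C.cycles i) ≤ Module.finrank κ (C.X i) :=
    LinearMap.finrank_le_finrank_of_injective hinj
  have h2 : Module.finrank κ (C.homology i) ≤ Module.finrank κ (C.cycles i) :=
    LinearMap.finrank_le_finrank_of_surjective hsurj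
  have h3 : Module.finrank κ (C.cycles i) = Module.finrank κ (C.X i) :=
    le_antisymm h1 (by rw [← hrank i]; exact h2)
  have hs : Function.Surjective (C.iCycles i).hom :=
    (LinearMap.injective_iff_surjective_of_finrank_eq_finrank h3).1 hinj
  have : Epi (C.iCycles i) := (ModuleCat.epi_iff_surjective _).2 hs
  rw [← cancel_epi (C.iCycles i), C.iCycles_d, comp_zero]

end Field

end Groth.Agent.Lib.Seat30.Minimal
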