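import Mathlib
import Groth.Agent.Lib.Seat30GamStep
import Groth.Agent.Lib.Seat30DerNak
import Groth.Agent.Lib.Seat30Minimal

/-!
# `RΓ_I` over a Noetherian ring via termwise good complexes (seat 30)

* `unit_ε`: compatibility of `Seat31.RGamma.unit` with `DRing.RgammaIε`.
* `quasiIso_gammaCx_map`: `Γ_I` preserves quasi-isomorphisms between termwise good complexes.
* `isIso_unit_app_of_good`: `RΓ_I` is computed termwise on termwise good complexes.
-/

set_option autoImplicit false
universe u
open CategoryTheory CategoryTheory.Limits HomologicalComplex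
attribute [local instance] HasDerivedCategory.standard

namespace Groth.Agent.Lib.Seat30.GamDer

open Groth.Agent.Lib.Seat31.RGamma Groth.Agent.Lib.Seat30.GamGood Groth.Agent.Lib.Seat30.GamStep
  DerivedCategory Groth.Agent.Lib.Helper17.KInj Groth.Agent.Lib.Seat30.DerNak Pretriangulated

variable {A : Type u} [CommRing A]

section Cone

lemma quasiIso_iff_exactAt_mappingCone {X Y : CochainComplex (ModuleCat.{u} A) ℤ} (φ : X ⟶ Y) :
    QuasiIso φ ↔ ∀ i, (CochainComplex.mappingCone φ).ExactAt i := by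
  constructor
  · intro h i
    exact exactAt_mappingCone φ i inferInstance inferInstance
  · intro h
    have hT := coneTriangle_distinguished φ
    have hz : IsZero (Q.obj (CochainComplex.mappingCone φ)) := by
      apply isZero_of_forall_isZero_homology
      intro i
      exact (exactAt_iff_isZero_homologyFunctor_Q _ i).1 (h i)
    have : IsIso (Q.map φ) := (Triangle.isZero₃_iff_isIso₁ _ hT).1 hz
    exact (DerivedCategory.isIso_Q_map_iff_quasiIso _ φ).1 this

lemma good_mappingCone {X Y : CochainComplex (ModuleCat.{u} A) ℤ} (φ : X ⟶ Y)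
    (hX : ∀ n, Good A (X.X n)) (hY : ∀ n, Good A (Y.X n)) (n : ℤ) :
    Good A ((CochainComplex.mappingCone φ).X n) := by
  have e : (CochainComplex.mappingCone φ).X n ≅ ModuleCat.of A (X.X (n + 1) × Y.X n) :=
    HomologicalComplex.homotopyCofiber.XIsoBiprod φ n (n + 1) rfl ≪≫ ModuleCat.biprodIsoProd _ _
  exact good_of_equiv e.toLinearEquiv.symm (good_prod (hX _) (hY _))

end Cone

section Pres

variable (I : Ideal A)

lemma exactAt_of_iso {X Y : CochainComplex (ModuleCat.{u} A) ℤ} (e : X ≅ Y) (i : ℤ)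
    (h : X.ExactAt i) : Y.ExactAt i := by
  rw [exactAt_iff_isZero_homology] at h ⊢
  exact IsZero.of_iso h ((HomologicalComplex.homologyFunctor _ _ i).mapIso e.symm)

/-- `Γ_I` preserves quasi-isomorphisms between termwise good complexes. -/
theorem quasiIso_gammaCx_map (hI : I.FG) {X Y : CochainComplex (ModuleCat.{u} A) ℤ} (φ : X ⟶ Y)
    [QuasiIso φ] (hX : ∀ n, Good A (X.X n)) (hY : ∀ n, Good A (Y.X n)) :
    QuasiIso ((gammaCx I).map φ) := by
  rw [quasiIso_iff_exactAt_mappingCone]
  have hZ := (quasiIso_iff_exactAt_mappingCone φ).1 inferInstance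
  have hH : HTors I (CochainComplex.mappingCone φ) := fun n c => ⟨0, fun a _ => by
    have hz : IsZero ((CochainComplex.mappingCone φ).homology n) :=
      (exactAt_iff_isZero_homology _ _).1 (hZ n)
    have := ModuleCat.isZero_iff_subsingleton.1 hz
    exact Subsingleton.elim _ _⟩
  have hq := quasiIso_ιCx I hI _ (good_mappingCone φ hX hY) hH
  intro i
  have h1 : ((gammaCx I).obj (CochainComplex.mappingCone φ)).ExactAt i := by
    rw [exactAt_iff_isZero_homology]
    exact IsZero.of_iso ((exactAt_iff_isZero_homology _ _).1 (hZ i))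
      (asIso (homologyMap (ιCx I (CochainComplex.mappingCone φ)) i))
  exact exactAt_of_iso (CochainComplex.mappingCone.mapHomologicalComplexIso φ (DRing.gammaI I)) i h1

end Pres

section Unit

variable (I : Ideal A)

lemma gammaIτ_app_quotient (X : CochainComplex (ModuleCat.{u} A) ℤ) :
    (DRing.gammaIτ I).app ((HomotopyCategory.quotient _ _).obj X) = (DRing.gammaIτ0 I).app X :=
  rfl

lemma good_torsionSub (M : Type u) [AddCommGroup M] [Module A M] (h : Good A M) :
    Good A (DRing.torsionSub I M) := by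
  intro I' g x hx
  have hx' : (x : M) ∈ DRing.torsionSub (I ⊔ I') M := by
    rw [torsionSub_sup]
    exact ⟨x.2, DRing.map_mem_torsionSub I' (DRing.torsionSub I M).subtype hx⟩
  obtain ⟨y, hy, k, hk⟩ := h (I ⊔ I') g x hx'
  rw [torsionSub_sup] at hy
  obtain ⟨n, hn⟩ := hy.2
  refine ⟨⟨y, hy.1⟩, ⟨n, fun a ha => Subtype.ext (hn a ha)⟩, k, Subtype.ext hk⟩

lemma good_gammaCx (X : CochainComplex (ModuleCat.{u} A) ℤ) (hX : ∀ n, Good A (X.X n)) (n : ℤ) :
    Good A (((gammaCx I).obj X).X n) :=
  good_torsionSub I _ (hX n)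

lemma good_of_injective_obj [IsNoetherianRing A] (M : ModuleCat.{u} A) [Injective M] :
    Good A M := by
  have : Injective (ModuleCat.of A M) := ‹_›
  have := Module.injective_module_of_injective_object A M
  exact good_of_injective M

variable [DRing.HasRgammaI I]

/-- `unit` followed by `ε` is the inclusion `Γ_I X ⊆ X`. -/
lemma unit_ε (X : CochainComplex (ModuleCat.{u} A) ℤ) :
    (unit I).app X ≫ (DRing.RgammaIε I).app (Q.obj X) = Q.map (ιCx I X) := by
  have h1 : ((DRing.gammaIKh I).totalRightDerivedUnit DerivedCategory.Qh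
      (HomotopyCategory.quasiIso (ModuleCat.{u} A) (ComplexShape.up ℤ))).app
        ((HomotopyCategory.quotient _ _).obj X) ≫
      (DRing.RgammaIε I).app (Qh.obj ((HomotopyCategory.quotient _ _).obj X)) =
      (DRing.gammaIτ I).app ((HomotopyCategory.quotient _ _).obj X) := by
    simp [DRing.RgammaIε]
  unfold unit unitOfK γOfK isoF₀
  simp
  rw [reassoc_of% h1, gammaIτ_app_quotient]
  unfold DRing.gammaIτ0
  simp
  rw [← Functor.map_comp]
  congr 1

/-- Over a Noetherian ring, `RΓ_I` is computed termwise on termwise good complexes. -/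
theorem isIso_unit_app_of_good [IsNoetherianRing A] (X : CochainComplex (ModuleCat.{u} A) ℤ)
    (hX : ∀ n, Good A (X.X n)) : IsIso ((unit I).app X) := by
  obtain ⟨J, φ, hJ, hφ, -, hinj⟩ := exists_kInjective_resolution (ModuleCat.{u} A) X
  have hJg : ∀ n, Good A (J.X n) := fun n => good_of_injective_obj (J.X n)
  have h1 : IsIso (Q.map φ) := (DerivedCategory.isIso_Q_map_iff_quasiIso _ φ).2 hφ
  have h2 : IsIso ((unit I).app J) := isIso_unit_app I J
  have h3 : IsIso (Q.map ((gammaCx I).map φ)) :=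
    (DerivedCategory.isIso_Q_map_iff_quasiIso _ _).2
      (quasiIso_gammaCx_map I (IsNoetherian.noetherian I) φ hX hJg)
  have nat := (unit I).naturality φ
  have h4 : IsIso ((unit I).app X ≫ (Q ⋙ DRing.RgammaI I).map φ) := by
    rw [← nat]
    dsimp
    infer_instance
  have h5 : IsIso ((Q ⋙ DRing.RgammaI I).map φ) := by
    dsimp
    infer_instance
  exact IsIso.of_isIso_comp_right _ ((Q ⋙ DRing.RgammaI I).map φ)

/-- `RΓ_I` is computed termwise on termwise good complexes. -/
noncomputable def isoOfGood [IsNoetherianRing A] (X : CochainComplex (ModuleCat.{u} A) ℤ)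
    (hX : ∀ n, Good A (X.X n)) :
    Q.obj ((gammaCx I).obj X) ≅ (DRing.RgammaI I).obj (Q.obj X) :=
  haveI := isIso_unit_app_of_good I X hX
  asIso ((unit I).app X)

end Unit

section Main

open Groth.Agent.Lib.Seat30.Minimal

variable (I : Ideal A)

/-- a K-injective, termwise injective model of an object of `D(A)` -/
lemma exists_model (K : Dual.D A) : ∃ (J : CochainComplex (ModuleCat.{u} A) ℤ),
    J.IsKInjective ∧ (∀ n, Injective (J.X n)) ∧ Nonempty (K ≅ Q.obj J) := by
  obtain ⟨J, φ, hJ, hφ, -, hinj⟩ :=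
    exists_kInjective_resolution (ModuleCat.{u} A) (Q.objPreimage K)
  have h1 : IsIso (Q.map φ) := (DerivedCategory.isIso_Q_map_iff_quasiIso _ φ).2 hφ
  exact ⟨J, hJ, hinj, ⟨(Q.objObjPreimageIso K).symm ≪≫ asIso (Q.map φ)⟩⟩

lemma hTors_of_iso {K : Dual.D A} {X : CochainComplex (ModuleCat.{u} A) ℤ} (e : K ≅ Q.obj X)
    (hK : ∀ i : ℤ, LocCoh.IsPowerTorsion I (Dual.HD A K i)) : HTors I X := fun n c => by
  obtain ⟨k, hk⟩ := hK n ((hdEquiv e n).symm c)
  refine ⟨k, fun a ha => ?_⟩
  have := congrArg (hdEquiv e n) (hk a ha)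
  rwa [map_smul, LinearEquiv.apply_symm_apply, map_zero] at this

lemma isPowerTorsion_of_iso {K : Dual.D A} {X : CochainComplex (ModuleCat.{u} A) ℤ}
    (e : K ≅ Q.obj X) (hX : HTors I X) (i : ℤ) : LocCoh.IsPowerTorsion I (Dual.HD A K i) :=
  fun m => by
    obtain ⟨k, hk⟩ := hX i (hdEquiv e i m)
    refine ⟨k, fun a ha => ?_⟩
    apply (hdEquiv e i).injective
    rw [map_smul, hk a ha, map_zero]

variable [DRing.HasRgammaI I] [IsNoetherianRing A]

theorem isIso_ε_Q (X : CochainComplex (ModuleCat.{u} A) ℤ) (hX : ∀ n, Good A (X.X n))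
    (hH : HTors I X) : IsIso ((DRing.RgammaIε I).app (Q.obj X)) := by
  have h1 := isIso_unit_app_of_good I X hX
  have h2 : IsIso (Q.map (ιCx I X)) := (DerivedCategory.isIso_Q_map_iff_quasiIso _ _).2
    (quasiIso_ιCx I (IsNoetherian.noetherian I) X hX hH)
  rw [← unit_ε I X] at h2
  exact IsIso.of_isIso_comp_left ((unit I).app X) _

/-- `RΓ_I K ⟶ K` is an isomorphism when `K` has `I`-power torsion cohomology. -/
theorem isIso_ε_of_torsion (K : Dual.D A)
    (hK : ∀ i : ℤ, LocCoh.IsPowerTorsion I (Dual.HD A K i)) :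
    IsIso ((DRing.RgammaIε I).app K) := by
  obtain ⟨J, hJ, hinj, ⟨e⟩⟩ := exists_model K
  have h1 := isIso_ε_Q I J (fun n => good_of_injective_obj (J.X n)) (hTors_of_iso I e hK)
  have nat := (DRing.RgammaIε I).naturality e.hom
  have h2 : IsIso ((DRing.RgammaIε I).app K ≫ (𝟭 (Dual.D A)).map e.hom) := by
    rw [← nat]
    infer_instance
  have h3 : IsIso ((𝟭 (Dual.D A)).map e.hom) := by
    dsimp
    infer_instance
  exact IsIso.of_isIso_comp_right _ ((𝟭 (Dual.D A)).map e.hom)

end Main

end Groth.Agent.Lib.Seat30.GamDer
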