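import Mathlib
import Groth.Agent.Lib.Seat30GamDer
import Groth.Agent.Lib.Seat30Coreflect

/-!
# `RΓ_I` is right adjoint to the inclusion of objects with torsion cohomology (seat 30)
-/

set_option autoImplicit false
universe u
open CategoryTheory CategoryTheory.Limits HomologicalComplex
attribute [local instance] HasDerivedCategory.standard

namespace Groth.Agent.Lib.Seat30.GamDer

open Groth.Agent.Lib.Seat31.RGamma Groth.Agent.Lib.Seat30.GamGood Groth.Agent.Lib.Seat30.GamStep
  DerivedCategory Groth.Agent.Lib.Helper17.KInj Groth.Agent.Lib.Seat30.DerNak Pretriangulated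
  Groth.Agent.Lib.Seat30.Minimal

variable {A : Type u} [CommRing A] (I : Ideal A)

/-- the cohomology of `Γ_I X` is `I`-power torsion -/
lemma hTors_gammaCx (X : CochainComplex (ModuleCat.{u} A) ℤ) : HTors I ((gammaCx I).obj X) := by
  intro n c
  obtain ⟨⟨z, hz⟩, hq⟩ := Submodule.Quotient.mk_surjective _ (homologyEquiv ((gammaCx I).obj X) n c)
  obtain ⟨k, hk⟩ := (z : DRing.torsionSub I (X.X n)).2
  refine ⟨k, fun a ha => ?_⟩
  apply (homologyEquiv ((gammaCx I).obj X) n).injective
  rw [map_smul, ← hq, map_zero, ← Submodule.Quotient.mk_smul]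
  have : a • (⟨z, hz⟩ : LinearMap.ker (((gammaCx I).obj X).sc' (n - 1) n (n + 1)).g.hom) = 0 := by
    apply Subtype.ext
    apply Subtype.ext
    exact hk a ha
  rw [this, Submodule.Quotient.mk_zero]

lemma isIso_gammaCx_map_ιCx (X : CochainComplex (ModuleCat.{u} A) ℤ) :
    IsIso ((gammaCx I).map (ιCx I X)) := by
  have : ∀ n, IsIso (((gammaCx I).map (ιCx I X)).f n) := fun n => by
    rw [ConcreteCategory.isIso_iff_bijective]
    constructor
    · intro x y hxy
      apply Subtype.ext
      apply Subtype.ext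
      exact congrArg (fun t : DRing.torsionSub I (X.X n) => (t : X.X n)) hxy
    · intro x
      obtain ⟨k, hk⟩ := x.2
      exact ⟨⟨x, ⟨k, fun a ha => Subtype.ext (hk a ha)⟩⟩, Subtype.ext rfl⟩
  exact HomologicalComplex.Hom.isIso_of_components _

variable [DRing.HasRgammaI I] [IsNoetherianRing A]

/-- the cohomology of `RΓ_I K` is `I`-power torsion -/
theorem isPowerTorsion_RgammaI (K : Dual.D A) (i : ℤ) :
    LocCoh.IsPowerTorsion I (Dual.HD A ((DRing.RgammaI I).obj K) i) := by
  obtain ⟨X, hX, hinj, ⟨e⟩⟩ := exists_model K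
  have hg : ∀ n, Good A (X.X n) := fun n => good_of_injective_obj (X.X n)
  exact isPowerTorsion_of_iso I ((DRing.RgammaI I).mapIso e ≪≫ (isoOfGood I X hg).symm)
    (hTors_gammaCx I X) i

lemma isIso_map_ε_Q (X : CochainComplex (ModuleCat.{u} A) ℤ) (hX : ∀ n, Good A (X.X n)) :
    IsIso ((DRing.RgammaI I).map ((DRing.RgammaIε I).app (Q.obj X))) := by
  have h1 := isIso_unit_app_of_good I X hX
  have h2 := isIso_unit_app_of_good I _ (good_gammaCx I X hX)
  have h3 : IsIso (Q.map ((gammaCx I).map (ιCx I X))) := by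
    have := isIso_gammaCx_map_ιCx I X
    infer_instance
  have nat : (gammaCx I ⋙ Q).map (ιCx I X) ≫ (unit I).app X =
      (unit I).app ((gammaCx I).obj X) ≫ (Q ⋙ DRing.RgammaI I).map (ιCx I X) :=
    (unit I).naturality (ιCx I X)
  have h4 : IsIso ((DRing.RgammaI I).map (Q.map (ιCx I X))) := by
    have h5 : IsIso ((unit I).app ((gammaCx I).obj X) ≫
        (DRing.RgammaI I).map (Q.map (ιCx I X))) := by
      show IsIso ((unit I).app ((gammaCx I).obj X) ≫ (Q ⋙ DRing.RgammaI I).map (ιCx I X))
      rw [← nat]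
      dsimp
      infer_instance
    exact IsIso.of_isIso_comp_left ((unit I).app ((gammaCx I).obj X)) _
  rw [← unit_ε I X, Functor.map_comp] at h4
  exact IsIso.of_isIso_comp_left ((DRing.RgammaI I).map ((unit I).app X)) _

theorem isIso_map_ε (K : Dual.D A) :
    IsIso ((DRing.RgammaI I).map ((DRing.RgammaIε I).app K)) := by
  obtain ⟨X, hX, hinj, ⟨e⟩⟩ := exists_model K
  have h1 := isIso_map_ε_Q I X (fun n => good_of_injective_obj (X.X n))
  have nat : (DRing.RgammaI I).map e.hom ≫ (DRing.RgammaIε I).app (Q.obj X) =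
      (DRing.RgammaIε I).app K ≫ e.hom := (DRing.RgammaIε I).naturality e.hom
  have h2 : (DRing.RgammaIε I).app K =
      (DRing.RgammaI I).map e.hom ≫ (DRing.RgammaIε I).app (Q.obj X) ≫ e.inv := by
    rw [← Category.assoc, nat, Category.assoc, e.hom_inv_id]
    exact (Category.comp_id _).symm
  rw [h2, Functor.map_comp, Functor.map_comp]
  infer_instance

/-- `RΓ_I` is right adjoint to the inclusion of the objects with `I`-power torsion cohomology -/
noncomputable def adjunction :
    ObjectProperty.ι (fun L : Dual.D A => ∀ i : ℤ, LocCoh.IsPowerTorsion I (Dual.HD A L i)) ⊣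
      ObjectProperty.lift (fun L : Dual.D A => ∀ i : ℤ, LocCoh.IsPowerTorsion I (Dual.HD A L i))
        (DRing.RgammaI I) (isPowerTorsion_RgammaI I) :=
  Groth.Agent.Lib.Seat30.Coreflect.adj _ (DRing.RgammaI I) (DRing.RgammaIε I)
    (isPowerTorsion_RgammaI I) (fun L hL => isIso_ε_of_torsion I L hL) (isIso_map_ε I)

end Groth.Agent.Lib.Seat30.GamDer
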