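import Mathlib
import Groth.Agent.Lib.Seat31RGamma
import Groth.Agent.Lib.Helper17KInjD1

/-!
# `H^0(Γ_I L)` for a K-injective complex `L` and maps from `A/I^n` (seat 30)

Chain-level part: to a chain map `g : (A/I^n)[0] ⟶ L` we attach the class of `g(1)` in
`H^0(Γ_I L)`, described concretely as `ker d / im d`.
-/

set_option autoImplicit false
universe u
open CategoryTheory CategoryTheory.Limits
attribute [local instance] HasDerivedCategory.standard

namespace Groth.Agent.Lib.Seat30.RGammaColim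

open Groth.Agent.Lib.Seat31.RGamma

variable {A : Type u} [CommRing A] (I : Ideal A)

/-- `A/I^n` as an object of `ModuleCat A` -/
abbrev Nn (n : ℕ) : ModuleCat.{u} A := ModuleCat.of A (A ⧸ I ^ n)

/-- `A/I^n` placed in degree `0` -/
noncomputable abbrev sN (n : ℕ) : CochainComplex (ModuleCat.{u} A) ℤ :=
  (HomologicalComplex.single (ModuleCat.{u} A) (ComplexShape.up ℤ) 0).obj (Nn I n)

/-- the generator of `(A/I^n)[0]` in degree `0` -/
noncomputable def one (n : ℕ) : (sN I n).X 0 :=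
  (HomologicalComplex.singleObjXSelf (ComplexShape.up ℤ) 0 (Nn I n)).inv.hom (1 : A ⧸ I ^ n)

lemma smul_one_eq_zero (n : ℕ) (a : A) (ha : a ∈ I ^ n) : a • one I n = 0 := by
  unfold one
  rw [← map_smul]
  have h : a • (1 : A ⧸ I ^ n) = 0 := by
    rw [Algebra.smul_def, mul_one, Ideal.Quotient.algebraMap_eq]
    exact Ideal.Quotient.eq_zero_iff_mem.2 ha
  rw [h, map_zero]

variable (L : CochainComplex (ModuleCat.{u} A) ℤ)

variable {I L} in
/-- the image of the generator under a chain map -/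
noncomputable def zOf {n : ℕ} (g : sN I n ⟶ L) : L.X 0 := (g.f 0).hom (one I n)

variable {I L} in
lemma zOf_mem {n : ℕ} (g : sN I n ⟶ L) : zOf g ∈ DRing.torsionSub I (L.X 0) :=
  ⟨n, fun a ha => by
    unfold zOf
    rw [← map_smul, smul_one_eq_zero I n a ha, map_zero]⟩

variable {I L} in
lemma d_zOf {n : ℕ} (g : sN I n ⟶ L) : (L.d 0 1).hom (zOf g) = 0 := by
  unfold zOf
  have h := g.comm 0 1
  rw [HomologicalComplex.single_obj_d, zero_comp] at h
  rw [← LinearMap.comp_apply, ← ModuleCat.hom_comp, h]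
  rfl

/-- the short complex computing `H^0(Γ_I L)` -/
noncomputable abbrev SC : ShortComplex (ModuleCat.{u} A) := ((gammaCx I).obj L).sc' (-1) 0 1

/-- `H^0(Γ_I L)` as a concrete quotient -/
abbrev Hm : Type u :=
  LinearMap.ker (SC I L).g.hom ⧸ LinearMap.range (SC I L).moduleCatToCycles

variable {I L} in
/-- the cycle attached to a chain map -/
noncomputable def zCyc {n : ℕ} (g : sN I n ⟶ L) : LinearMap.ker (SC I L).g.hom :=
  ⟨⟨zOf g, zOf_mem g⟩, by
    rw [LinearMap.mem_ker]
    apply Subtype.ext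
    exact d_zOf g⟩

variable {I L} in
/-- the class attached to a chain map -/
noncomputable def cls {n : ℕ} (g : sN I n ⟶ L) : Hm I L := Submodule.Quotient.mk (zCyc g)

variable {I L} in
lemma zOf_add {n : ℕ} (g g' : sN I n ⟶ L) : zOf (g + g') = zOf g + zOf g' := by
  unfold zOf
  simp

variable {I L} in
lemma zOf_smul {n : ℕ} (a : A) (g : sN I n ⟶ L) : zOf (a • g) = a • zOf g := by
  unfold zOf
  simp

variable {I L} in
lemma cls_add {n : ℕ} (g g' : sN I n ⟶ L) : cls (g + g') = cls g + cls g' := by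
  unfold cls
  rw [← Submodule.Quotient.mk_add]
  congr 1

variable {I L} in
lemma cls_smul {n : ℕ} (a : A) (g : sN I n ⟶ L) : cls (a • g) = a • cls g := by
  unfold cls
  rw [← Submodule.Quotient.mk_smul]
  congr 1

variable {I L} in
lemma cls_eq_of_homotopy {n : ℕ} {g g' : sN I n ⟶ L} (h : Homotopy g g') : cls g = cls g' := by
  unfold cls
  rw [Submodule.Quotient.eq]
  have hy : (h.hom 0 (-1)).hom (one I n) ∈ DRing.torsionSub I (L.X (-1)) :=
    ⟨n, fun a ha => by rw [← map_smul, smul_one_eq_zero I n a ha, map_zero]⟩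
  refine ⟨⟨(h.hom 0 (-1)).hom (one I n), hy⟩, ?_⟩
  apply Subtype.ext
  apply Subtype.ext
  have hc := h.comm 0
  rw [dNext_eq h.hom (show (ComplexShape.up ℤ).Rel 0 1 from rfl),
    prevD_eq h.hom (show (ComplexShape.up ℤ).Rel (-1) 0 by simp),
    HomologicalComplex.single_obj_d, zero_comp, zero_add] at hc
  have hc2 : zOf g = (L.d (-1) 0).hom ((h.hom 0 (-1)).hom (one I n)) + zOf g' := by
    unfold zOf
    rw [hc]
    rfl
  show (L.d (-1) 0).hom ((h.hom 0 (-1)).hom (one I n)) = zOf g - zOf g'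
  rw [hc2, add_sub_cancel_right]

/-- the transition map `A/I^m → A/I^n` for `n ≤ m` -/
noncomputable def trans {n m : ℕ} (h : n ≤ m) : Nn I m ⟶ Nn I n :=
  ModuleCat.ofHom (Submodule.mapQ _ _ LinearMap.id (Ideal.pow_le_pow_right h))

/-- the transition map on single complexes -/
noncomputable abbrev sTrans {n m : ℕ} (h : n ≤ m) : sN I m ⟶ sN I n :=
  (HomologicalComplex.single (ModuleCat.{u} A) (ComplexShape.up ℤ) 0).map (trans I h)

lemma sTrans_one {n m : ℕ} (h : n ≤ m) : ((sTrans I h).f 0).hom (one I m) = one I n := by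
  unfold one
  have h1 : (HomologicalComplex.singleObjXSelf (ComplexShape.up ℤ) 0 (Nn I m)).hom.hom
      ((HomologicalComplex.singleObjXSelf (ComplexShape.up ℤ) 0 (Nn I m)).inv.hom
        (1 : A ⧸ I ^ m)) = 1 := by
    rw [← LinearMap.comp_apply, ← ModuleCat.hom_comp, Iso.inv_hom_id]
    rfl
  rw [HomologicalComplex.single_map_f_self]
  change ((HomologicalComplex.singleObjXSelf (ComplexShape.up ℤ) 0 (Nn I n)).inv).hom
    ((trans I h).hom ((HomologicalComplex.singleObjXSelf (ComplexShape.up ℤ) 0 (Nn I m)).hom.hom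
      ((HomologicalComplex.singleObjXSelf (ComplexShape.up ℤ) 0 (Nn I m)).inv.hom
        (1 : A ⧸ I ^ m)))) = _
  rw [h1]
  rfl

variable {I L} in
lemma zOf_sTrans_comp {n m : ℕ} (h : n ≤ m) (g : sN I n ⟶ L) : zOf (sTrans I h ≫ g) = zOf g := by
  unfold zOf
  rw [HomologicalComplex.comp_f, ModuleCat.hom_comp, LinearMap.comp_apply, sTrans_one]

variable {I L} in
lemma cls_sTrans_comp {n m : ℕ} (h : n ≤ m) (g : sN I n ⟶ L) : cls (sTrans I h ≫ g) = cls g := by
  unfold cls
  have h1 : zCyc (sTrans I h ≫ g) = zCyc g := by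
    apply Subtype.ext
    apply Subtype.ext
    exact zOf_sTrans_comp h g
  rw [h1]

lemma self_one (n : ℕ) :
    (HomologicalComplex.singleObjXSelf (ComplexShape.up ℤ) 0 (Nn I n)).hom.hom (one I n) = 1 := by
  unfold one
  rw [← LinearMap.comp_apply, ← ModuleCat.hom_comp, Iso.inv_hom_id]
  rfl

/-- the map `A/I^n → M`, `1 ↦ y`, for `y` killed by `I^n` -/
noncomputable def toElt {M : ModuleCat.{u} A} (n : ℕ) (y : M) (hy : ∀ a ∈ I ^ n, a • y = 0) :
    Nn I n ⟶ M :=
  ModuleCat.ofHom (Submodule.liftQ (I ^ n) (LinearMap.toSpanSingleton A M y) (fun a ha => by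
    rw [LinearMap.mem_ker, LinearMap.toSpanSingleton_apply]
    exact hy a ha))

lemma toElt_one {M : ModuleCat.{u} A} (n : ℕ) (y : M) (hy : ∀ a ∈ I ^ n, a • y = 0) :
    (toElt I n y hy).hom (1 : A ⧸ I ^ n) = y := by
  have h : (toElt I n y hy).hom (Submodule.Quotient.mk (1 : A)) = y := by
    unfold toElt
    rw [ModuleCat.hom_ofHom, Submodule.liftQ_apply, LinearMap.toSpanSingleton_apply, one_smul]
  exact h

variable {I} in
lemma hom_ext_one {M : ModuleCat.{u} A} {n : ℕ} {f f' : Nn I n ⟶ M}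
    (h : f.hom (1 : A ⧸ I ^ n) = f'.hom 1) : f = f' := by
  apply ModuleCat.hom_ext
  apply LinearMap.ext
  intro x
  obtain ⟨a, rfl⟩ := Ideal.Quotient.mk_surjective x
  have ha : Ideal.Quotient.mk (I ^ n) a = a • (1 : A ⧸ I ^ n) := by
    rw [Algebra.smul_def, mul_one, Ideal.Quotient.algebraMap_eq]
  rw [ha, map_smul, map_smul, h]

lemma exists_cls_eq (c : Hm I L) : ∃ (n : ℕ) (g : sN I n ⟶ L), cls g = c := by
  obtain ⟨⟨⟨z, hz⟩, hd⟩, rfl⟩ := Submodule.Quotient.mk_surjective _ c
  obtain ⟨n, hn⟩ := id hz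
  have hdz : (L.d 0 1).hom z = 0 := by
    have h0 := LinearMap.mem_ker.1 hd
    exact Subtype.ext_iff.1 h0
  refine ⟨n, HomologicalComplex.mkHomFromSingle (toElt I n z hn) (fun k hk => ?_), ?_⟩
  · obtain rfl : k = 1 := by
      have : (0 : ℤ) + 1 = k := hk
      omega
    apply hom_ext_one
    rw [ModuleCat.hom_comp, LinearMap.comp_apply, toElt_one, hdz]
    simp
  · unfold cls
    congr 1
    apply Subtype.ext
    apply Subtype.ext
    show zOf _ = z
    unfold zOf
    rw [HomologicalComplex.mkHomFromSingle_f, ModuleCat.hom_comp, LinearMap.comp_apply, self_one,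
      toElt_one]

open CochainComplex.HomComplex in
variable {L} in
/-- a null-homotopy of a map from a single complex, from a degree `-1` lift -/
noncomputable def homotopyZeroOf {M : ModuleCat.{u} A}
    (f : (CochainComplex.singleFunctor (ModuleCat.{u} A) 0).obj M ⟶ L) (η : M ⟶ L.X (-1))
    (h : η ≫ L.d (-1) 0 =
      (HomologicalComplex.singleObjXSelf (ComplexShape.up ℤ) 0 M).inv ≫ f.f 0) :
    Homotopy f 0 :=
  (Cochain.equivHomotopy _ _).symm
    ⟨Cochain.fromSingleMk η (show (0 : ℤ) + (-1) = -1 by simp), by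
      rw [Cochain.δ_fromSingleMk _ _ 0 0 (by simp), Cochain.ofHom_zero, add_zero]
      apply (Cochain.fromSingleEquiv (show (0 : ℤ) + 0 = 0 by simp)).injective
      rw [Cochain.fromSingleEquiv_fromSingleMk, h]
      simp [Cochain.fromSingleEquiv]⟩

variable {I L} in
lemma exists_homotopy_of_cls_eq_zero {n : ℕ} (g : sN I n ⟶ L) (h : cls g = 0) :
    ∃ (m : ℕ) (hnm : n ≤ m), Nonempty (Homotopy (sTrans I hnm ≫ g) 0) := by
  unfold cls at h
  rw [Submodule.Quotient.mk_eq_zero] at h
  obtain ⟨⟨y, hy⟩, hyz⟩ := h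
  have hd : (L.d (-1) 0).hom y = zOf g := by
    have h1 := congrArg (fun t => t.1.1) hyz
    exact h1
  obtain ⟨k, hk⟩ := id hy
  have hm : ∀ a ∈ I ^ (max n k), a • y = 0 := fun a ha =>
    hk a (Ideal.pow_le_pow_right (le_max_right n k) ha)
  refine ⟨max n k, le_max_left n k, ⟨?_⟩⟩
  have key : toElt I (max n k) y hm ≫ L.d (-1) 0 =
      (HomologicalComplex.singleObjXSelf (ComplexShape.up ℤ) 0 (Nn I (max n k))).inv ≫
        (sTrans I (le_max_left n k) ≫ g).f 0 := by
    apply hom_ext_one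
    rw [ModuleCat.hom_comp, LinearMap.comp_apply, toElt_one, hd, ← zOf_sTrans_comp (le_max_left n k) g]
    rfl
  exact homotopyZeroOf (M := Nn I (max n k)) (sTrans I (le_max_left n k) ≫ g) _ key

end Groth.Agent.Lib.Seat30.RGammaColim
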