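import Mathlib
import Groth.Agent.Lib.Seat30RGammaColim
import Groth.Prelude.Def_DualLC

/-!
# `H^0(Γ_I L)` as a colimit of `Hom_{D(A)}(A/I^n, L)` for K-injective `L` (seat 30)
-/

set_option autoImplicit false
universe u v₁ v₂ v₃ t
open CategoryTheory CategoryTheory.Limits Opposite
attribute [local instance] HasDerivedCategory.standard

namespace Groth.Agent.Lib.Seat30.RGammaColim

open Groth.Agent.Lib.Seat31.RGamma DerivedCategory Groth.Agent.Lib.Helper17.KInj

variable {A : Type u} [CommRing A] (I : Ideal A)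

/-- the diagram `n ↦ Hom_{D(A)}(A/I^n, K)` -/
noncomputable abbrev Fdiag (K : Dual.D A) : (ℕᵒᵖ)ᵒᵖ ⥤ ModuleCat.{u + 1} A :=
  (localCohomology.ringModIdeals (localCohomology.idealPowersDiagram I) ⋙
      DerivedCategory.singleFunctor (ModuleCat.{u} A) 0).op ⋙ (linearYoneda A (Dual.D A)).obj K

/-- `(A/I^n)[0]` in `D(A)` is the image of the single complex -/
noncomputable def eS (n : ℕ) :
    (DerivedCategory.singleFunctor (ModuleCat.{u} A) 0).obj (Nn I n) ≅ Q.obj (sN I n) :=
  (DerivedCategory.singleFunctorIsoCompQ (ModuleCat.{u} A) 0).app (Nn I n)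

lemma eS_naturality {n m : ℕ} (h : n ≤ m) :
    (DerivedCategory.singleFunctor (ModuleCat.{u} A) 0).map (trans I h) ≫ (eS I n).hom =
      (eS I m).hom ≫ Q.map (sTrans I h) :=
  (DerivedCategory.singleFunctorIsoCompQ (ModuleCat.{u} A) 0).hom.naturality (trans I h)

variable (L : CochainComplex (ModuleCat.{u} A) ℤ) [L.IsKInjective]

/-- a chain-level representative of a map `A/I^n → L` in `D(A)` -/
noncomputable def rep {n : ℕ}
    (x : (DerivedCategory.singleFunctor (ModuleCat.{u} A) 0).obj (Nn I n) ⟶ Q.obj L) :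
    sN I n ⟶ L :=
  (exists_Q_map_eq ((eS I n).inv ≫ x)).choose

lemma Q_map_rep {n : ℕ}
    (x : (DerivedCategory.singleFunctor (ModuleCat.{u} A) 0).obj (Nn I n) ⟶ Q.obj L) :
    Q.map (rep I L x) = (eS I n).inv ≫ x :=
  (exists_Q_map_eq ((eS I n).inv ≫ x)).choose_spec

/-- the class attached to a map `A/I^n → L` in `D(A)` -/
noncomputable def psiFun {n : ℕ}
    (x : (DerivedCategory.singleFunctor (ModuleCat.{u} A) 0).obj (Nn I n) ⟶ Q.obj L) :
    Hm I L := cls (rep I L x)

lemma psiFun_eq {n : ℕ}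
    (x : (DerivedCategory.singleFunctor (ModuleCat.{u} A) 0).obj (Nn I n) ⟶ Q.obj L)
    (g : sN I n ⟶ L) (hg : Q.map g = (eS I n).inv ≫ x) : psiFun I L x = cls g :=
  cls_eq_of_homotopy (homotopy_of_Q_map_eq (by rw [Q_map_rep, hg])).some

/-- `psiFun` as a linear map -/
noncomputable def psi (n : ℕ) :
    ((DerivedCategory.singleFunctor (ModuleCat.{u} A) 0).obj (Nn I n) ⟶ Q.obj L) →ₗ[A] Hm I L where
  toFun := psiFun I L
  map_add' x y := by
    rw [psiFun_eq I L (x + y) (rep I L x + rep I L y)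
      (by rw [Functor.map_add, Q_map_rep, Q_map_rep, Preadditive.comp_add])]
    exact cls_add _ _
  map_smul' a x := by
    rw [psiFun_eq I L (a • x) (a • rep I L x)
      (by rw [Functor.map_smul, Q_map_rep, Linear.comp_smul])]
    exact cls_smul _ _

lemma psi_apply {n : ℕ}
    (x : (DerivedCategory.singleFunctor (ModuleCat.{u} A) 0).obj (Nn I n) ⟶ Q.obj L) :
    psi I L n x = psiFun I L x := rfl

lemma psi_trans {n m : ℕ} (h : n ≤ m)
    (x : (DerivedCategory.singleFunctor (ModuleCat.{u} A) 0).obj (Nn I n) ⟶ Q.obj L) :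
    psi I L m ((DerivedCategory.singleFunctor (ModuleCat.{u} A) 0).map (trans I h) ≫ x) =
      psi I L n x := by
  rw [psi_apply, psi_apply, psiFun_eq I L _ (sTrans I h ≫ rep I L x)]
  · exact cls_sTrans_comp h _
  · rw [Functor.map_comp, Q_map_rep, ← Category.assoc, ← Category.assoc]
    congr 1

/-- the cocone with vertex `H^0(Γ_I L)` -/
noncomputable def cocone : Cocone (Fdiag I (Q.obj L)) where
  pt := ModuleCat.of A (ULift.{u + 1} (Hm I L))
  ι :=
    { app := fun j => ModuleCat.ofHom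
        ((ULift.moduleEquiv (R := A) (M := Hm I L)).symm.toLinearMap ∘ₗ psi I L j.unop.unop)
      naturality := fun j j' f => by
        apply ModuleCat.hom_ext
        apply LinearMap.ext
        intro x
        exact congrArg ULift.up (psi_trans I L (leOfHom f.unop.unop) x) }

lemma cocone_ι_apply (j : (ℕᵒᵖ)ᵒᵖ) (x : (Fdiag I (Q.obj L)).obj j) :
    ((cocone I L).ι.app j).hom x = ULift.up (psi I L j.unop.unop x) := rfl

lemma desc_ι (j : (ℕᵒᵖ)ᵒᵖ) (x : (Fdiag I (Q.obj L)).obj j) :
    (colimit.desc (Fdiag I (Q.obj L)) (cocone I L)).hom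
      ((colimit.ι (Fdiag I (Q.obj L)) j).hom x) = ULift.up (psi I L j.unop.unop x) := by
  rw [← cocone_ι_apply, ← colimit.ι_desc (cocone I L) j]
  rfl

omit [L.IsKInjective] in
/-- elements of a filtered colimit of modules come from some stage -/
lemma exists_rep_of_filtered {J : Type v₁} [Category.{v₂} J] [IsFiltered J] {R : Type v₃} [Ring R]
    (F : J ⥤ ModuleCat.{t} R) [HasColimit F] (y : (colimit F : ModuleCat.{t} R)) :
    ∃ (j : J) (x : F.obj j), (colimit.ι F j).hom x = y := by
  classical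
  let W : Submodule R (colimit F : ModuleCat.{t} R) := ⨆ j, LinearMap.range (colimit.ι F j).hom
  have hW : W = ⊤ := by
    have h0 : ModuleCat.ofHom W.mkQ = 0 := by
      apply colimit.hom_ext
      intro j
      rw [comp_zero]
      apply ModuleCat.hom_ext
      apply LinearMap.ext
      intro x
      show W.mkQ ((colimit.ι F j).hom x) = 0
      rw [Submodule.mkQ_apply, Submodule.Quotient.mk_eq_zero]
      exact Submodule.mem_iSup_of_mem j ⟨x, rfl⟩
    have h1 : W.mkQ = 0 := by
      have h2 := congrArg ModuleCat.Hom.hom h0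
      exact h2
    rw [← Submodule.ker_mkQ W, h1, LinearMap.ker_zero]
  have hy : y ∈ W := hW ▸ Submodule.mem_top
  have hdir : Directed (· ≤ ·) (fun j => LinearMap.range (colimit.ι F j).hom) := by
    intro j j'
    refine ⟨IsFiltered.max j j', ?_, ?_⟩
    · rintro _ ⟨x, rfl⟩
      refine ⟨(F.map (IsFiltered.leftToMax j j')).hom x, ?_⟩
      rw [← LinearMap.comp_apply, ← ModuleCat.hom_comp, colimit.w]
    · rintro _ ⟨x, rfl⟩
      refine ⟨(F.map (IsFiltered.rightToMax j j')).hom x, ?_⟩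
      rw [← LinearMap.comp_apply, ← ModuleCat.hom_comp, colimit.w]
  haveI : Nonempty J := IsFiltered.nonempty
  obtain ⟨j, x, hx⟩ := (Submodule.mem_iSup_of_directed _ hdir).1 hy
  exact ⟨j, x, hx⟩

lemma desc_injective :
    Function.Injective (colimit.desc (Fdiag I (Q.obj L)) (cocone I L)).hom := by
  rw [← LinearMap.ker_eq_bot, LinearMap.ker_eq_bot']
  intro y hy
  obtain ⟨j, x, rfl⟩ := exists_rep_of_filtered _ y
  rw [desc_ι] at hy
  have h0 : psi I L j.unop.unop x = 0 := congrArg ULift.down hy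
  rw [psi_apply] at h0
  unfold psiFun at h0
  obtain ⟨m, hnm, ⟨H⟩⟩ := exists_homotopy_of_cls_eq_zero _ h0
  have h1 : Q.map (sTrans I hnm ≫ rep I L x) = 0 := by
    rw [DerivedCategory.Q_map_eq_of_homotopy (ModuleCat.{u} A) H, Functor.map_zero]
  have h2 : (DerivedCategory.singleFunctor (ModuleCat.{u} A) 0).map (trans I hnm) ≫ x = 0 := by
    rw [Functor.map_comp, Q_map_rep, ← Category.assoc] at h1
    have h3 : (DerivedCategory.singleFunctor (ModuleCat.{u} A) 0).map (trans I hnm) =
        (eS I m).hom ≫ Q.map (sTrans I hnm) ≫ (eS I j.unop.unop).inv := by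
      rw [← Category.assoc, ← eS_naturality, Category.assoc, Iso.hom_inv_id, Category.comp_id]
    rw [h3, Category.assoc, Category.assoc, ← Category.assoc (Q.map _), h1, comp_zero]
  let f : j ⟶ op (op m) := (homOfLE hnm).op.op
  have h4 : (colimit.ι (Fdiag I (Q.obj L)) j).hom x =
      (colimit.ι (Fdiag I (Q.obj L)) (op (op m))).hom (((Fdiag I (Q.obj L)).map f).hom x) := by
    rw [← LinearMap.comp_apply, ← ModuleCat.hom_comp, colimit.w]
  rw [h4]
  have h5 : ((Fdiag I (Q.obj L)).map f).hom x = 0 := h2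
  rw [h5, map_zero]

lemma desc_surjective :
    Function.Surjective (colimit.desc (Fdiag I (Q.obj L)) (cocone I L)).hom := by
  intro c
  obtain ⟨n, g, hg⟩ := exists_cls_eq I L c.down
  let x0 : (DerivedCategory.singleFunctor (ModuleCat.{u} A) 0).obj (Nn I n) ⟶ Q.obj L :=
    (eS I n).hom ≫ Q.map g
  have hx0 : Q.map g = (eS I n).inv ≫ x0 := by
    rw [Iso.inv_hom_id_assoc]
  refine ⟨(colimit.ι (Fdiag I (Q.obj L)) (op (op n))).hom x0, ?_⟩
  rw [desc_ι, psi_apply]
  have h1 : psiFun I L x0 = cls g := psiFun_eq I L x0 g hx0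
  exact congrArg ULift.up (h1.trans hg)

/-- **Core equivalence**: for K-injective `L`, `colim_n Hom_{D(A)}(A/I^n, L) ≃ H^0(Γ_I L)`. -/
noncomputable def colimEquiv :
    (colimit (Fdiag I (Q.obj L)) : ModuleCat.{u + 1} A) ≃ₗ[A] Hm I L :=
  (LinearEquiv.ofBijective (colimit.desc (Fdiag I (Q.obj L)) (cocone I L)).hom
    ⟨desc_injective I L, desc_surjective I L⟩).trans ULift.moduleEquiv

end Groth.Agent.Lib.Seat30.RGammaColim
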