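import Mathlib
import Groth.Agent.Lib.Seat30RGammaColim2
import Groth.Agent.Lib.Seat30Minimal

/-!
# `H^q(RΓ_I K) ≃ colim_n Hom_{D(A)}(A/I^n, K[q])` (seat 30)
-/

set_option autoImplicit false
universe u
open CategoryTheory CategoryTheory.Limits Opposite
attribute [local instance] HasDerivedCategory.standard

namespace Groth.Agent.Lib.Seat30.RGammaColim

open Groth.Agent.Lib.Seat31.RGamma DerivedCategory Groth.Agent.Lib.Helper17.KInj

variable {A : Type u} [CommRing A] (I : Ideal A)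

/-- `H^0` of `Γ_I L` as the concrete quotient `Hm` -/
noncomputable def homologyZeroEquiv (L : CochainComplex (ModuleCat.{u} A) ℤ) :
    ((gammaCx I).obj L).homology 0 ≃ₗ[A] Hm I L :=
  (ShortComplex.homologyMapIso (((gammaCx I).obj L).isoSc' (-1) 0 1 (by simp) (by simp)) ≪≫
    (SC I L).moduleCatHomologyIso).toLinearEquiv

/-- `H^q(Γ_I J) ≃ H^0(Γ_I (J[q]))` -/
noncomputable def homologyShiftEquiv (J : CochainComplex (ModuleCat.{u} A) ℤ) (q : ℤ) :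
    ((gammaCx I).obj J).homology q ≃ₗ[A] ((gammaCx I).obj (J⟦q⟧)).homology 0 :=
  (((CochainComplex.ShiftSequence.shiftIso (ModuleCat.{u} A) q 0 q (add_zero q)).app
      ((gammaCx I).obj J)).symm ≪≫
    (HomologicalComplex.homologyFunctor (ModuleCat.{u} A) (ComplexShape.up ℤ) 0).mapIso
      (((DRing.gammaI I).mapCochainComplexShiftIso q).app J).symm).toLinearEquiv

theorem main [DRing.HasRgammaI I] (K : Dual.D A) (q : ℤ) :
    Nonempty (Dual.HD A ((DRing.RgammaI I).obj K) q ≃ₗ[A] Dual2.HDI A I K q) := by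
  let K' := (Q : _ ⥤ Dual.D A).objPreimage K
  let eK : Q.obj K' ≅ K := Q.objObjPreimageIso K
  obtain ⟨J, φ, hJ, hφ, -, ⟨eR⟩⟩ := exists_iso I K'
  have := hJ
  have : IsIso (Q.map φ) := (DerivedCategory.isIso_Q_map_iff_quasiIso (C := ModuleCat.{u} A) φ).2 hφ
  let eKJ : K ≅ Q.obj J := eK.symm ≪≫ asIso (Q.map φ)
  let e1 : (DRing.RgammaI I).obj K ≅ Q.obj ((gammaCx I).obj J) :=
    (DRing.RgammaI I).mapIso eK.symm ≪≫ eR
  let l1 : Dual.HD A ((DRing.RgammaI I).obj K) q ≃ₗ[A] ((gammaCx I).obj J).homology q :=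
    Groth.Agent.Lib.Seat30.Minimal.hdEquiv e1 q
  let e2 : K⟦q⟧ ≅ Q.obj (J⟦q⟧) :=
    (shiftFunctor (Dual.D A) q).mapIso eKJ ≪≫ ((Q.commShiftIso q).app J).symm
  let l4 : Dual2.HDI A I K q ≃ₗ[A] (colimit (Fdiag I (Q.obj (J⟦q⟧))) : ModuleCat.{u + 1} A) :=
    (HasColimit.isoOfNatIso (Functor.isoWhiskerLeft _
      ((linearYoneda A (Dual.D A)).mapIso e2))).toLinearEquiv
  exact ⟨l1 ≪≫ₗ homologyShiftEquiv I J q ≪≫ₗ homologyZeroEquiv I (J⟦q⟧) ≪≫ₗ
    (colimEquiv I (J⟦q⟧)).symm ≪≫ₗ l4.symm⟩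

end Groth.Agent.Lib.Seat30.RGammaColim
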