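import Mathlib
import Groth.Agent.Lib.Seat30GamDer2
import Groth.Agent.Lib.Seat28RDExist
import Groth.Agent.Lib.Seat30RGammaColimMain

/-!
# Local cohomology and restriction of scalars (seat 30)

For `A → B` Noetherian, `I ⊆ A` and `K ∈ D(B)`: `H^i_I(K|_A) ≃ H^i_{IB}(K)|_A`.
Also: `DRing.HasRgammaI I` holds unconditionally.
-/

set_option autoImplicit false
universe u v₁ v₂
open CategoryTheory CategoryTheory.Limits HomologicalComplex
attribute [local instance] HasDerivedCategory.standard

namespace Groth.Agent.Lib.Seat30.GamRes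

open Groth.Agent.Lib.Seat31.RGamma Groth.Agent.Lib.Seat30.GamGood Groth.Agent.Lib.Seat30.GamStep
  DerivedCategory Groth.Agent.Lib.Seat30.GamDer Groth.Agent.Lib.Seat30.Minimal

/-- the total right derived functor `RΓ_I` exists -/
theorem hasRgammaI {A : Type u} [CommRing A] (I : Ideal A) : DRing.HasRgammaI I :=
  Groth.Agent.Lib.Seat28.RDExist.hasRightDerivedFunctor_Kh.{u} (DRing.gammaI I)

variable {A B : Type u} [CommRing A] [CommRing B] [Algebra A B]

section Mod

variable (I : Ideal A) (M : ModuleCat.{u} B)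

lemma mem_torsionSub_res_iff (x : M) :
    x ∈ DRing.torsionSub I ((ModuleCat.restrictScalars.{u} (algebraMap A B)).obj M) ↔
      x ∈ DRing.torsionSub (I.map (algebraMap A B)) M := by
  constructor
  · rintro ⟨n, hn⟩
    refine ⟨n, fun b hb => ?_⟩
    rw [← Ideal.map_pow] at hb
    refine Submodule.span_induction (p := fun b _ => b • x = 0) ?_ ?_ ?_ ?_ hb
    · rintro _ ⟨a, ha, rfl⟩
      exact hn a ha
    · exact zero_smul _ _
    · intro b c _ _ hb hc
      rw [add_smul, hb, hc, add_zero]
    · intro c b _ hb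
      rw [smul_eq_mul, mul_smul, hb, smul_zero]
  · rintro ⟨n, hn⟩
    refine ⟨n, fun a ha => ?_⟩
    show algebraMap A B a • x = 0
    apply hn
    rw [← Ideal.map_pow]
    exact Ideal.mem_map_of_mem _ ha

lemma good_res (h : Good B M) :
    Good A ((ModuleCat.restrictScalars.{u} (algebraMap A B)).obj M) := by
  intro I' g x hx
  obtain ⟨y, hy, k, hk⟩ := h (I'.map (algebraMap A B)) (algebraMap A B g) x
    ((mem_torsionSub_res_iff I' M x).1 hx)
  refine ⟨y, (mem_torsionSub_res_iff I' M y).2 hy, k, ?_⟩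
  rw [← map_pow] at hk
  exact hk

/-- `Γ_I(M|_A) ≃ Γ_{IB}(M)|_A` -/
noncomputable def torsionResEquiv :
    DRing.torsionSub I ((ModuleCat.restrictScalars.{u} (algebraMap A B)).obj M) ≃ₗ[A]
      (ModuleCat.restrictScalars.{u} (algebraMap A B)).obj
        (ModuleCat.of B (DRing.torsionSub (I.map (algebraMap A B)) M)) where
  toFun x := (⟨x.1, (mem_torsionSub_res_iff I M x.1).1 x.2⟩ :
    DRing.torsionSub (I.map (algebraMap A B)) M)
  map_add' _ _ := rfl
  map_smul' _ _ := rfl
  invFun y := ⟨(y : DRing.torsionSub (I.map (algebraMap A B)) M).1,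
    (mem_torsionSub_res_iff I M _).2 (y : DRing.torsionSub (I.map (algebraMap A B)) M).2⟩
  left_inv _ := rfl
  right_inv _ := rfl

end Mod

/-- restriction of scalars of a linear equivalence (universe polymorphic) -/
def resEquiv {M : ModuleCat.{v₁} B} {N : ModuleCat.{v₂} B} (e : M ≃ₗ[B] N) :
    (ModuleCat.restrictScalars.{v₁} (algebraMap A B)).obj M ≃ₗ[A]
      (ModuleCat.restrictScalars.{v₂} (algebraMap A B)).obj N where
  toFun x := e x
  map_add' x y := e.map_add x y
  map_smul' a x := e.map_smul (algebraMap A B a) x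
  invFun y := e.symm y
  left_inv x := e.left_inv x
  right_inv y := e.right_inv y

section Cx

variable (I : Ideal A) (X : CochainComplex (ModuleCat.{u} B) ℤ)

/-- `Γ_I(X|_A) ≅ Γ_{IB}(X)|_A` -/
noncomputable def gammaResIso :
    (gammaCx I).obj ((DRing.restrictCx (algebraMap A B)).obj X) ≅
      (DRing.restrictCx (algebraMap A B)).obj ((gammaCx (I.map (algebraMap A B))).obj X) :=
  HomologicalComplex.Hom.isoOfComponents (fun n => (torsionResEquiv I (X.X n)).toModuleIso)
    (fun _ _ _ => rfl)

/-- homology commutes with restriction of scalars -/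
noncomputable def homologyResIso (i : ℤ) :
    ((DRing.restrictCx (algebraMap A B)).obj X).homology i ≅
      (ModuleCat.restrictScalars.{u} (algebraMap A B)).obj (X.homology i) :=
  (X.sc i).mapHomologyIso (ModuleCat.restrictScalars.{u} (algebraMap A B))

end Cx

section Main

variable [IsNoetherianRing A] [IsNoetherianRing B] (I : Ideal A)

theorem main (K : Dual.D B) (i : ℤ) :
    Nonempty (Dual2.HDI A I ((DRing.restrictD (algebraMap A B)).obj K) i ≃ₗ[A]
      (ModuleCat.restrictScalars.{u + 1} (algebraMap A B)).obj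
        (Dual2.HDI B (I.map (algebraMap A B)) K i)) := by
  have := hasRgammaI I
  have := hasRgammaI (I.map (algebraMap A B))
  obtain ⟨X, hX, hinj, ⟨e⟩⟩ := exists_model K
  have hgB : ∀ n, Good B (X.X n) := fun n => good_of_injective_obj (X.X n)
  -- the `B`-side
  let eB : (DRing.RgammaI (I.map (algebraMap A B))).obj K ≅
      Q.obj ((gammaCx (I.map (algebraMap A B))).obj X) :=
    (DRing.RgammaI (I.map (algebraMap A B))).mapIso e ≪≫
      (isoOfGood (I.map (algebraMap A B)) X hgB).symm
  let lB := hdEquiv eB i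
  obtain ⟨mB⟩ := Groth.Agent.Lib.Seat30.RGammaColim.main (I.map (algebraMap A B)) K i
  -- the `A`-side
  have hgA : ∀ n, Good A (((DRing.restrictCx (algebraMap A B)).obj X).X n) := fun n =>
    good_res (X.X n) (hgB n)
  let eQ : (DRing.restrictD (algebraMap A B)).obj K ≅
      Q.obj ((DRing.restrictCx (algebraMap A B)).obj X) :=
    (DRing.restrictD (algebraMap A B)).mapIso e ≪≫
      (Functor.mapDerivedCategoryFactors (ModuleCat.restrictScalars.{u} (algebraMap A B))).app X
  let eA : (DRing.RgammaI I).obj ((DRing.restrictD (algebraMap A B)).obj K) ≅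
      Q.obj ((gammaCx I).obj ((DRing.restrictCx (algebraMap A B)).obj X)) :=
    (DRing.RgammaI I).mapIso eQ ≪≫ (isoOfGood I _ hgA).symm
  let lA := hdEquiv eA i
  obtain ⟨mA⟩ := Groth.Agent.Lib.Seat30.RGammaColim.main I
    ((DRing.restrictD (algebraMap A B)).obj K) i
  let mid : ((gammaCx I).obj ((DRing.restrictCx (algebraMap A B)).obj X)).homology i ≃ₗ[A]
      (ModuleCat.restrictScalars.{u} (algebraMap A B)).obj
        (((gammaCx (I.map (algebraMap A B))).obj X).homology i) :=
    ((HomologicalComplex.homologyFunctor _ _ i).mapIso (gammaResIso I X) ≪≫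
      homologyResIso _ i).toLinearEquiv
  exact ⟨mA.symm ≪≫ₗ lA ≪≫ₗ mid ≪≫ₗ resEquiv (lB.symm ≪≫ₗ mB)⟩

end Main

end Groth.Agent.Lib.Seat30.GamRes
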