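import Mathlib
import Groth.Agent.Lib.Seat30GamRes
import Groth.Agent.Lib.Seat30FlatTors
import Groth.Agent.Lib.Helper1Extend

/-!
# Local cohomology and flat base change (seat 30)

For `A → B` flat, both Noetherian, `I ⊆ A` and `K ∈ D(A)`:
`H^i_{IB}(K ⊗^L_A B) ≅ B ⊗_A H^i_I(K)`.
-/

set_option autoImplicit false
universe u v₁ v₂
open CategoryTheory CategoryTheory.Limits HomologicalComplex TensorProduct
attribute [local instance] HasDerivedCategory.standard

namespace Groth.Agent.Lib.Seat30.GamFlat

open Groth.Agent.Lib.Seat31.RGamma Groth.Agent.Lib.Seat30.GamGood Groth.Agent.Lib.Seat30.GamStep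
  DerivedCategory Groth.Agent.Lib.Seat30.GamDer Groth.Agent.Lib.Seat30.Minimal
  Groth.Agent.Lib.Seat30.GamRes Groth.Agent.Lib.Seat30.FlatTors Groth.Agent.Lib.Helper1.Extend
  Groth.Agent.Lib.Helper17.KInj

variable {A B : Type u} [CommRing A] [CommRing B] [Algebra A B]

/-- `B` as an `A`-module, in the form used by `ModuleCat.extendScalars` -/
noncomputable abbrev B' (A B : Type u) [CommRing A] [CommRing B] [Algebra A B] : ModuleCat.{u} A :=
  (ModuleCat.restrictScalars.{u} (algebraMap A B)).obj (ModuleCat.of B B)

instance flat_B' [Module.Flat A B] : Module.Flat A (B' A B) :=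
  Module.Flat.of_linearEquiv (e₀ (A := A) B)

section Mod

variable (M : ModuleCat.{u} A)

/-- the `B`-action and the `A`-action on `B ⊗ M` are compatible -/
lemma algebraMap_smul_ext (a : A) (x : (ext A B).obj M) :
    algebraMap A B a • x = (a • (show B' A B ⊗[A] M from x) : B' A B ⊗[A] M) := by
  refine TensorProduct.induction_on (motive := fun x : B' A B ⊗[A] M =>
    (algebraMap A B a • (show (ext A B).obj M from x) : (ext A B).obj M) =
      (a • x : B' A B ⊗[A] M)) x ?_ ?_ ?_
  · have h1 : algebraMap A B a • (0 : (ext A B).obj M) = 0 := smul_zero _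
    have h2 : a • (0 : B' A B ⊗[A] M) = 0 := smul_zero _
    exact h1.trans h2.symm
  · intro b m
    rfl
  · intro x y hx hy
    have h1 : algebraMap A B a • ((show (ext A B).obj M from x) + (show (ext A B).obj M from y)) =
        algebraMap A B a • (show (ext A B).obj M from x) +
          algebraMap A B a • (show (ext A B).obj M from y) := smul_add _ _ _
    have h2 : a • (x + y) = a • x + a • y := smul_add _ _ _
    exact h1.trans ((congrArg₂ (· + ·) hx hy).trans h2.symm)

/-- `B ⊗ M` restricted to `A` is the tensor product `A`-module -/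
noncomputable def tEquiv :
    (ModuleCat.restrictScalars.{u} (algebraMap A B)).obj ((ext A B).obj M) ≃ₗ[A]
      (B' A B ⊗[A] M) where
  toFun x := x
  invFun x := x
  left_inv _ := rfl
  right_inv _ := rfl
  map_add' _ _ := rfl
  map_smul' a x := algebraMap_smul_ext M a x

variable [IsNoetherianRing A] [Module.Flat A B]

lemma good_res_ext (hM : Good A M) :
    Good A ((ModuleCat.restrictScalars.{u} (algebraMap A B)).obj ((ext A B).obj M)) :=
  good_of_equiv (tEquiv M).symm (good_tensor (B' A B) M hM)

variable (I : Ideal A)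

lemma mem_torsionSub_ext_iff (x : (ext A B).obj M) :
    x ∈ DRing.torsionSub (I.map (algebraMap A B)) ((ext A B).obj M) ↔
      (show B' A B ⊗[A] M from x) ∈
        LinearMap.range ((DRing.torsionSub I M).subtype.lTensor (B' A B)) := by
  rw [← mem_torsionSub_res_iff, ← mem_torsionSub_tensor_iff]
  constructor
  · intro h
    exact DRing.map_mem_torsionSub I (tEquiv M).toLinearMap h
  · intro h
    exact DRing.map_mem_torsionSub I (tEquiv M).symm.toLinearMap h

/-- `B ⊗ Γ_I M → B ⊗ M` -/
noncomputable def extι : (ext A B).obj ((DRing.gammaI I).obj M) ⟶ (ext A B).obj M :=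
  (ext A B).map ((DRing.gammaIι I).app M)

omit [IsNoetherianRing A] [Module.Flat A B] in
lemma extι_apply (y : (ext A B).obj ((DRing.gammaI I).obj M)) :
    (show B' A B ⊗[A] M from (extι M I).hom y) =
      (DRing.torsionSub I M).subtype.lTensor (B' A B)
        (show B' A B ⊗[A] (DRing.torsionSub I M) from y) := by
  refine TensorProduct.induction_on (motive := fun y : B' A B ⊗[A] (DRing.torsionSub I M) =>
    (show B' A B ⊗[A] M from (extι M I).hom (show (ext A B).obj ((DRing.gammaI I).obj M) from y)) =
      (DRing.torsionSub I M).subtype.lTensor (B' A B) y) y ?_ ?_ ?_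
  · have h1 : (extι M I).hom (0 : (ext A B).obj ((DRing.gammaI I).obj M)) = 0 := map_zero _
    have h2 : (DRing.torsionSub I M).subtype.lTensor (B' A B) 0 = 0 := map_zero _
    exact (congrArg (fun t : (ext A B).obj M => (show B' A B ⊗[A] M from t)) h1).trans h2.symm
  · intro b m
    rfl
  · intro y z hy hz
    have h1 : (extι M I).hom ((show (ext A B).obj ((DRing.gammaI I).obj M) from y) +
        (show (ext A B).obj ((DRing.gammaI I).obj M) from z)) =
        (extι M I).hom (show (ext A B).obj ((DRing.gammaI I).obj M) from y) +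
          (extι M I).hom (show (ext A B).obj ((DRing.gammaI I).obj M) from z) := map_add _ _ _
    have h2 : (DRing.torsionSub I M).subtype.lTensor (B' A B) (y + z) =
        (DRing.torsionSub I M).subtype.lTensor (B' A B) y +
          (DRing.torsionSub I M).subtype.lTensor (B' A B) z := map_add _ _ _
    exact (congrArg (fun t : (ext A B).obj M => (show B' A B ⊗[A] M from t)) h1).trans
      ((congrArg₂ (· + ·) hy hz).trans h2.symm)

lemma extι_mem (y : (ext A B).obj ((DRing.gammaI I).obj M)) :
    (extι M I).hom y ∈ DRing.torsionSub (I.map (algebraMap A B)) ((ext A B).obj M) := by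
  rw [mem_torsionSub_ext_iff]
  exact ⟨_, (extι_apply M I y).symm⟩

/-- `B ⊗ Γ_I M ⟶ Γ_{IB}(B ⊗ M)` -/
noncomputable def θ : (ext A B).obj ((DRing.gammaI I).obj M) ⟶
    (DRing.gammaI (I.map (algebraMap A B))).obj ((ext A B).obj M) :=
  ModuleCat.ofHom (X := ((ext A B).obj ((DRing.gammaI I).obj M) : Type u))
    (Y := (DRing.torsionSub (I.map (algebraMap A B)) ((ext A B).obj M) : Type u))
    (LinearMap.codRestrict
      (DRing.torsionSub (I.map (algebraMap A B)) ((ext A B).obj M)) (extι M I).hom (extι_mem M I))

lemma θ_apply_coe (y : (ext A B).obj ((DRing.gammaI I).obj M)) :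
    Subtype.val (show DRing.torsionSub (I.map (algebraMap A B)) ((ext A B).obj M) from
      (θ M I).hom y) = (extι M I).hom y := rfl

lemma isIso_θ : IsIso (θ (B := B) M I) := by
  rw [ConcreteCategory.isIso_iff_bijective]
  constructor
  · intro y z hyz
    have h1 : (extι M I).hom y = (extι M I).hom z :=
      congrArg (fun t : DRing.torsionSub (I.map (algebraMap A B)) ((ext A B).obj M) => t.1) hyz
    have h2 := extι_apply M I y
    have h3 := extι_apply M I z
    have hinj : Function.Injective ((DRing.torsionSub I M).subtype.lTensor (B' A B)) :=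
      Module.Flat.lTensor_preserves_injective_linearMap _ (Submodule.injective_subtype _)
    exact hinj (h2.symm.trans
      ((congrArg (fun t : (ext A B).obj M => (show B' A B ⊗[A] M from t)) h1).trans h3))
  · intro z
    obtain ⟨y, hy⟩ := (mem_torsionSub_ext_iff M I
      (z : DRing.torsionSub (I.map (algebraMap A B)) ((ext A B).obj M)).1).1
      (z : DRing.torsionSub (I.map (algebraMap A B)) ((ext A B).obj M)).2
    refine ⟨(show (ext A B).obj ((DRing.gammaI I).obj M) from y), Subtype.ext ?_⟩
    exact (extι_apply M I _).trans hy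

lemma θ_naturality {M N : ModuleCat.{u} A} (g : M ⟶ N) :
    (ext A B).map ((DRing.gammaI I).map g) ≫ θ (B := B) N I =
      θ M I ≫ (DRing.gammaI (I.map (algebraMap A B))).map ((ext A B).map g) := by
  apply ModuleCat.ExtendScalars.hom_ext
  intro m
  apply Subtype.ext
  rfl

end Mod

section Cx

/-- `RΓ_I` is computed termwise on `Y` as soon as `Γ_I` preserves one K-injective resolution -/
theorem isIso_unit_app_of_quasiIso (I : Ideal B) [DRing.HasRgammaI I]
    {Y J : CochainComplex (ModuleCat.{u} B) ℤ} (φ : Y ⟶ J) [J.IsKInjective] (hφ : QuasiIso φ)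
    (h : QuasiIso ((gammaCx I).map φ)) : IsIso ((unit I).app Y) := by
  have h1 : IsIso (Q.map φ) := (DerivedCategory.isIso_Q_map_iff_quasiIso _ φ).2 hφ
  have h2 : IsIso ((unit I).app J) := isIso_unit_app I J
  have h3 : IsIso (Q.map ((gammaCx I).map φ)) :=
    (DerivedCategory.isIso_Q_map_iff_quasiIso _ _).2 h
  have nat := (unit I).naturality φ
  have h4 : IsIso ((unit I).app Y ≫ (Q ⋙ DRing.RgammaI I).map φ) := by
    rw [← nat]
    dsimp
    infer_instance
  have h5 : IsIso ((Q ⋙ DRing.RgammaI I).map φ) := by
    dsimp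
    infer_instance
  exact IsIso.of_isIso_comp_right _ ((Q ⋙ DRing.RgammaI I).map φ)

variable [IsNoetherianRing A] [Module.Flat A B] (I : Ideal A)
  (X : CochainComplex (ModuleCat.{u} A) ℤ)

/-- `B ⊗ Γ_I X ≅ Γ_{IB}(B ⊗ X)` -/
noncomputable def extGammaIso :
    (extCx A B).obj ((gammaCx I).obj X) ≅
      (gammaCx (I.map (algebraMap A B))).obj ((extCx A B).obj X) :=
  HomologicalComplex.Hom.isoOfComponents
    (fun n => @asIso _ _ _ _ (θ (B := B) (X.X n) I) (isIso_θ (B := B) (X.X n) I))
    (fun i j _ => (θ_naturality I (X.d i j)).symm)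

theorem isIso_unit_app_ext [IsNoetherianRing B] [DRing.HasRgammaI (I.map (algebraMap A B))]
    (hX : ∀ n, Good A (X.X n)) :
    IsIso ((unit (I.map (algebraMap A B))).app ((extCx A B).obj X)) := by
  obtain ⟨J, φ, hJ, hφ, -, hinj⟩ :=
    exists_kInjective_resolution (ModuleCat.{u} B) ((extCx A B).obj X)
  have hJg : ∀ n, Good B (J.X n) := fun n => good_of_injective_obj (J.X n)
  have h0 : QuasiIso ((DRing.restrictCx (algebraMap A B)).map φ) := by
    unfold DRing.restrictCx
    infer_instance
  have h1 : QuasiIso ((gammaCx I).map ((DRing.restrictCx (algebraMap A B)).map φ)) :=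
    quasiIso_gammaCx_map I (IsNoetherian.noetherian I) _
      (fun n => good_res_ext (X.X n) (hX n)) (fun n => good_res (J.X n) (hJg n))
  have nat : (gammaCx I).map ((DRing.restrictCx (algebraMap A B)).map φ) ≫
      (gammaResIso I J).hom = (gammaResIso I _).hom ≫
        (DRing.restrictCx (algebraMap A B)).map ((gammaCx (I.map (algebraMap A B))).map φ) := by
    ext n x
    rfl
  have h2 : QuasiIso ((DRing.restrictCx (algebraMap A B)).map
      ((gammaCx (I.map (algebraMap A B))).map φ)) := by
    have e : (DRing.restrictCx (algebraMap A B)).map ((gammaCx (I.map (algebraMap A B))).map φ) =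
        (gammaResIso I _).inv ≫ (gammaCx I).map ((DRing.restrictCx (algebraMap A B)).map φ) ≫
          (gammaResIso I J).hom := by
      rw [nat, Iso.inv_hom_id_assoc]
    rw [e]
    infer_instance
  have h3 : QuasiIso ((gammaCx (I.map (algebraMap A B))).map φ) := by
    unfold DRing.restrictCx at h2
    exact (HomologicalComplex.quasiIso_map_iff_of_preservesHomology _
      (ModuleCat.restrictScalars.{u} (algebraMap A B))).1 h2
  exact isIso_unit_app_of_quasiIso _ φ hφ h3

end Cx

section Main

/-- extension of scalars of an `A`-linear equivalence (universe polymorphic) -/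
noncomputable def extEquivOfEquiv {M : ModuleCat.{v₁} A} {N : ModuleCat.{v₂} A} (w : M ≃ₗ[A] N) :
    (ModuleCat.extendScalars.{u, u, v₁} (algebraMap A B)).obj M ≃ₗ[B]
      (ModuleCat.extendScalars.{u, u, v₂} (algebraMap A B)).obj N where
  toFun x := TensorProduct.congr (LinearEquiv.refl A (B' A B)) w x
  invFun y := (TensorProduct.congr (LinearEquiv.refl A (B' A B)) w).symm y
  left_inv x := (TensorProduct.congr (LinearEquiv.refl A (B' A B)) w).symm_apply_apply x
  right_inv y := (TensorProduct.congr (LinearEquiv.refl A (B' A B)) w).apply_symm_apply y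
  map_add' x y := (TensorProduct.congr (LinearEquiv.refl A (B' A B)) w).map_add x y
  map_smul' b x := by
    refine TensorProduct.induction_on (motive := fun x : B' A B ⊗[A] M =>
      TensorProduct.congr (LinearEquiv.refl A (B' A B)) w
        (show B' A B ⊗[A] M from
          (b • (show (ModuleCat.extendScalars.{u, u, v₁} (algebraMap A B)).obj M from x))) =
        (show B' A B ⊗[A] N from
          (b • (show (ModuleCat.extendScalars.{u, u, v₂} (algebraMap A B)).obj N from
            TensorProduct.congr (LinearEquiv.refl A (B' A B)) w x)))) x ?_ ?_ ?_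
    · have h1 : b • (0 : (ModuleCat.extendScalars.{u, u, v₁} (algebraMap A B)).obj M) = 0 :=
        smul_zero _
      have h2 : b • (0 : (ModuleCat.extendScalars.{u, u, v₂} (algebraMap A B)).obj N) = 0 :=
        smul_zero _
      have h3 : TensorProduct.congr (LinearEquiv.refl A (B' A B)) w 0 = 0 := map_zero _
      exact ((congrArg (fun t => TensorProduct.congr (LinearEquiv.refl A (B' A B)) w t) h1).trans
        h3).trans ((congrArg (fun t : B' A B ⊗[A] N => (show B' A B ⊗[A] N from
          (b • (show (ModuleCat.extendScalars.{u, u, v₂} (algebraMap A B)).obj N from t)))) h3).trans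
            h2).symm
    · intro b' m
      rfl
    · intro x y hx hy
      have h1 : b • ((show (ModuleCat.extendScalars.{u, u, v₁} (algebraMap A B)).obj M from x) +
          (show (ModuleCat.extendScalars.{u, u, v₁} (algebraMap A B)).obj M from y)) =
          b • (show (ModuleCat.extendScalars.{u, u, v₁} (algebraMap A B)).obj M from x) +
          b • (show (ModuleCat.extendScalars.{u, u, v₁} (algebraMap A B)).obj M from y) :=
        smul_add _ _ _
      have h2 : ∀ s t : B' A B ⊗[A] N,
          b • ((show (ModuleCat.extendScalars.{u, u, v₂} (algebraMap A B)).obj N from s) +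
          (show (ModuleCat.extendScalars.{u, u, v₂} (algebraMap A B)).obj N from t)) =
          b • (show (ModuleCat.extendScalars.{u, u, v₂} (algebraMap A B)).obj N from s) +
          b • (show (ModuleCat.extendScalars.{u, u, v₂} (algebraMap A B)).obj N from t) :=
        fun _ _ => smul_add _ _ _
      have h3 := (TensorProduct.congr (LinearEquiv.refl A (B' A B)) w).map_add x y
      refine (congrArg (fun t => TensorProduct.congr (LinearEquiv.refl A (B' A B)) w t) h1).trans ?_
      refine ((TensorProduct.congr (LinearEquiv.refl A (B' A B)) w).map_add _ _).trans ?_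
      refine (congrArg₂ (· + ·) hx hy).trans ?_
      exact ((congrArg (fun t : B' A B ⊗[A] N => (show B' A B ⊗[A] N from
          (b • (show (ModuleCat.extendScalars.{u, u, v₂} (algebraMap A B)).obj N from t)))) h3).trans
            (h2 _ _)).symm

/-- for flat `B`, derived base change is the exact functor `- ⊗_A B`
(same construction as helper8's `Seat8.DualBC.lbcFlatIso`, repeated here to keep imports light) -/
noncomputable def lbcFlatIso [Module.Flat A B] [DRing.HasLBaseChange (algebraMap A B)] :
    DRing.LBaseChange (algebraMap A B) ≅ extD A B :=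
  haveI : (extD A B).IsLeftDerivedFunctor (ext A B).mapDerivedCategoryFactorsh.hom
      (HomotopyCategory.quasiIso (ModuleCat.{u} A) (ComplexShape.up ℤ)) :=
    Functor.isLeftDerivedFunctor_of_inverts
      (HomotopyCategory.quasiIso (ModuleCat.{u} A) (ComplexShape.up ℤ)) (extD A B)
      (ext A B).mapDerivedCategoryFactorsh
  Functor.leftDerivedUnique (extD A B) (DRing.LBaseChange (algebraMap A B))
    ((DRing.baseChangeKh (algebraMap A B)).totalLeftDerivedCounit DerivedCategory.Qh
      (HomotopyCategory.quasiIso (ModuleCat.{u} A) (ComplexShape.up ℤ)))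
    (ext A B).mapDerivedCategoryFactorsh.hom
    (HomotopyCategory.quasiIso (ModuleCat.{u} A) (ComplexShape.up ℤ))

theorem main [IsNoetherianRing A] [IsNoetherianRing B] [Module.Flat A B]
    [DRing.HasLBaseChange (algebraMap A B)] (I : Ideal A) (K : Dual.D A) (i : ℤ) :
    Nonempty (Dual2.HDI B (I.map (algebraMap A B))
        ((DRing.LBaseChange (algebraMap A B)).obj K) i ≃ₗ[B]
      (ModuleCat.extendScalars.{u, u, u + 1} (algebraMap A B)).obj (Dual2.HDI A I K i)) := by
  have := hasRgammaI I
  have := hasRgammaI (I.map (algebraMap A B))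
  obtain ⟨X, hX, hinj, ⟨e⟩⟩ := exists_model K
  have hg : ∀ n, Good A (X.X n) := fun n => good_of_injective_obj (X.X n)
  -- the `A`-side
  let eA : (DRing.RgammaI I).obj K ≅ Q.obj ((gammaCx I).obj X) :=
    (DRing.RgammaI I).mapIso e ≪≫ (isoOfGood I X hg).symm
  let lA := hdEquiv eA i
  obtain ⟨mA⟩ := Groth.Agent.Lib.Seat30.RGammaColim.main I K i
  let w := lA.symm ≪≫ₗ mA
  -- the `B`-side
  let eL : (DRing.LBaseChange (algebraMap A B)).obj K ≅ Q.obj ((extCx A B).obj X) :=
    lbcFlatIso.app K ≪≫ (extD A B).mapIso e ≪≫ mapQIso (ext A B) X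
  have hu := isIso_unit_app_ext (B := B) I X hg
  let eB : (DRing.RgammaI (I.map (algebraMap A B))).obj
        ((DRing.LBaseChange (algebraMap A B)).obj K) ≅
      Q.obj ((gammaCx (I.map (algebraMap A B))).obj ((extCx A B).obj X)) :=
    (DRing.RgammaI (I.map (algebraMap A B))).mapIso eL ≪≫
      (asIso ((unit (I.map (algebraMap A B))).app ((extCx A B).obj X))).symm
  let lB := hdEquiv eB i
  obtain ⟨mB⟩ := Groth.Agent.Lib.Seat30.RGammaColim.main (I.map (algebraMap A B))
    ((DRing.LBaseChange (algebraMap A B)).obj K) i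
  let mid : ((gammaCx (I.map (algebraMap A B))).obj ((extCx A B).obj X)).homology i ≃ₗ[B]
      (ext A B).obj (((gammaCx I).obj X).homology i) :=
    ((HomologicalComplex.homologyFunctor _ _ i).mapIso (extGammaIso (B := B) I X).symm ≪≫
      homologyMapCxIso (ext A B) _ i).toLinearEquiv
  exact ⟨mB.symm ≪≫ₗ lB ≪≫ₗ mid ≪≫ₗ extEquivOfEquiv w⟩

end Main

end Groth.Agent.Lib.Seat30.GamFlat
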