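import Mathlib

/-!
# The elementary step in lifting acyclic complexes along `R → R/I` (module level)

`step_lemma`: given the cycles `Z ⊆ X` of the already constructed part and a projective module
`X'` lifting the next term, there is a surjection `g : X' → Z` lifting the differential, whose
kernel again has all the properties needed to continue.
-/

set_option autoImplicit false
universe u

namespace Groth.Agent.Lib.Seat30.LiftStep

variable {R : Type u} [CommRing R] (I : Ideal R)

/-- `I • Z`, for a submodule `Z ⊆ X`, is the image of `I • ⊤ ⊆ Z` -/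
lemma smul_eq_map_subtype {X : Type*} [AddCommGroup X] [Module R X] (Z : Submodule R X) :
    I • Z = Submodule.map Z.subtype (I • (⊤ : Submodule R Z)) := by
  rw [Submodule.map_smul'', Submodule.map_subtype_top]

/-- a split surjection `g : X' → Z` with section `s` decomposes `X'` -/
noncomputable def splitEquiv {X' Z : Type*} [AddCommGroup X'] [Module R X'] [AddCommGroup Z]
    [Module R Z] (g : X' →ₗ[R] Z) (s : Z →ₗ[R] X') (hs : ∀ z, g (s z) = z) :
    X' ≃ₗ[R] Z × LinearMap.ker g :=
  LinearEquiv.ofLinearMap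
    (g.prod ((LinearMap.id - s ∘ₗ g).codRestrict (LinearMap.ker g) (fun x => by
      rw [LinearMap.mem_ker]; simp [hs])))
    (s.coprod (LinearMap.ker g).subtype)
    (by
      apply LinearMap.ext
      rintro ⟨z, k⟩
      have hk : g k = 0 := k.2
      apply Prod.ext
      · simp [hs, hk]
      · apply Subtype.ext
        simp [hs, hk])
    (by
      apply LinearMap.ext
      intro x
      simp)

/-- the projection onto the kernel of a split surjection fixes the kernel -/
lemma splitEquiv_snd_of_mem {X' Z : Type*} [AddCommGroup X'] [Module R X'] [AddCommGroup Z]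
    [Module R Z] (g : X' →ₗ[R] Z) (s : Z →ₗ[R] X') (hs : ∀ z, g (s z) = z)
    (k : LinearMap.ker g) : (splitEquiv g s hs (k : X')).2 = k := by
  apply Subtype.ext
  have hk : g k = 0 := k.2
  simp [splitEquiv, hk]

theorem step_lemma
    {X X' T T' : Type u} [AddCommGroup X] [Module R X] [AddCommGroup X'] [Module R X']
    [AddCommGroup T] [Module R T] [AddCommGroup T'] [Module R T']
    [Module.Projective R X']
    (ρ : X →ₗ[R] T) (ρ' : X' →ₗ[R] T') (δ' : T' →ₗ[R] T)
    (hρ' : Function.Surjective ρ') (hkρ' : LinearMap.ker ρ' = I • ⊤)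
    (Z : Submodule R X) [Module.Projective R Z]
    (hZδ : ∀ y : T', ∃ z ∈ Z, ρ z = δ' y)
    (hZδ' : ∀ z ∈ Z, ∃ y : T', δ' y = ρ z)
    (hZI : ∀ z ∈ Z, ρ z = 0 → z ∈ I • Z)
    (hsurj : ∀ g : X' →ₗ[R] Z, LinearMap.range g ⊔ I • ⊤ = ⊤ → Function.Surjective g) :
    ∃ g : X' →ₗ[R] Z, Function.Surjective g ∧ (∀ x, ρ (g x) = δ' (ρ' x)) ∧
      (∀ y : T', δ' y = 0 → ∃ z ∈ LinearMap.ker g, ρ' z = y) ∧
      (∀ z ∈ LinearMap.ker g, ρ' z = 0 → z ∈ I • LinearMap.ker g) ∧
      Nonempty (X' ≃ₗ[R] Z × LinearMap.ker g) := by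
  classical
  -- step 1: the lift
  let ρZ : Z →ₗ[R] T := ρ ∘ₗ Z.subtype
  let W : Submodule R T := LinearMap.range ρZ
  have hW : ∀ x : X', (δ' ∘ₗ ρ') x ∈ W := fun x => by
    obtain ⟨z, hz, hzy⟩ := hZδ (ρ' x)
    exact ⟨⟨z, hz⟩, hzy⟩
  obtain ⟨g, hg⟩ := Module.projective_lifting_property ρZ.rangeRestrict
    ((δ' ∘ₗ ρ').codRestrict W hW) ρZ.surjective_rangeRestrict
  have hcomm : ∀ x, ρ (g x) = δ' (ρ' x) := fun x => by
    have := congrArg (fun t : X' →ₗ[R] W => ((t x : W) : T)) hg
    exact this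
  -- step 2: surjectivity
  have hgs : Function.Surjective g := by
    apply hsurj
    rw [eq_top_iff]
    rintro z -
    obtain ⟨y, hy⟩ := hZδ' z z.2
    obtain ⟨x, rfl⟩ := hρ' y
    have h1 : ((z - g x : Z) : X) ∈ I • Z := by
      apply hZI _ (z - g x).2
      rw [Submodule.coe_sub, map_sub, hcomm, hy, sub_self]
    rw [smul_eq_map_subtype] at h1
    obtain ⟨w, hw, hwz⟩ := h1
    have hw' : w = z - g x := Subtype.ext hwz
    have : z = g x + w := by rw [hw']; abel
    rw [this]
    exact Submodule.add_mem_sup ⟨x, rfl⟩ hw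
  -- a section
  obtain ⟨s, hs⟩ := Module.projective_lifting_property g LinearMap.id hgs
  have hs' : ∀ z, g (s z) = z := fun z => LinearMap.congr_fun hs z
  refine ⟨g, hgs, hcomm, ?_, ?_, ⟨splitEquiv g s hs'⟩⟩
  · intro y hy
    obtain ⟨x, rfl⟩ := hρ' y
    have h1 : ((g x : Z) : X) ∈ I • Z := hZI _ (g x).2 (by rw [hcomm, hy])
    rw [smul_eq_map_subtype] at h1
    obtain ⟨w, hw, hwz⟩ := h1
    have hw' : w = g x := Subtype.ext hwz
    have h2 : (I • (⊤ : Submodule R Z)) = Submodule.map g (I • ⊤) := by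
      rw [Submodule.map_smul'', Submodule.map_top, LinearMap.range_eq_top.2 hgs]
    rw [h2] at hw
    obtain ⟨x', hx', hx'w⟩ := hw
    refine ⟨x - x', ?_, ?_⟩
    · rw [LinearMap.mem_ker, map_sub, hx'w, hw', sub_self]
    · have : ρ' x' = 0 := by
        rw [← LinearMap.mem_ker, hkρ']; exact hx'
      rw [map_sub, this, sub_zero]
  · intro z hz hρz
    have h1 : z ∈ I • (⊤ : Submodule R X') := by rw [← hkρ']; exact hρz
    let p : X' →ₗ[R] LinearMap.ker g :=
      (LinearMap.snd R Z (LinearMap.ker g)) ∘ₗ (splitEquiv g s hs').toLinearMap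
    have h2 : p z ∈ I • (⊤ : Submodule R (LinearMap.ker g)) := by
      have : p z ∈ Submodule.map p (I • ⊤) := ⟨z, h1, rfl⟩
      rw [Submodule.map_smul''] at this
      exact Submodule.smul_mono le_rfl le_top this
    rw [smul_eq_map_subtype]
    refine ⟨p z, h2, ?_⟩
    have := splitEquiv_snd_of_mem g s hs' ⟨z, hz⟩
    exact congrArg Subtype.val this

end Groth.Agent.Lib.Seat30.LiftStep
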