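import Mathlib
import Groth.Prelude.Def_DRing2
import Groth.Agent.Lib.Seat30LiftStep

/-!
# Lifting bounded above acyclic complexes along `R → R/I`

Let `Pc` be a class of projective `R`-modules, closed under isomorphisms and under complements,
such that maps between members which are surjective modulo `I` are surjective.  Every bounded above
acyclic complex of `R/I`-modules with terms of the form `P/IP`, `P ∈ Pc`, lifts to a bounded above
acyclic complex with terms in `Pc` (`exists_acyclic_lift`).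
-/

set_option autoImplicit false
universe u
open CategoryTheory CategoryTheory.Limits TensorProduct

namespace Groth.Agent.Lib.Seat30.LiftAcyclic

open Groth.Agent.Lib.Seat30.LiftStep

section Red

variable {R : Type u} [CommRing R] (I : Ideal R)

/-- reduction modulo `I` -/
noncomputable abbrev Fr : ModuleCat.{u} R ⥤ ModuleCat.{u} (R ⧸ I) :=
  ModuleCat.extendScalars.{u, u, u} (Ideal.Quotient.mk I)

/-- restriction of scalars along `R → R/I` -/
noncomputable abbrev Gr : ModuleCat.{u} (R ⧸ I) ⥤ ModuleCat.{u} R :=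
  ModuleCat.restrictScalars.{u, u, u} (Ideal.Quotient.mk I)

/-- the adjunction -/
noncomputable abbrev adj : Fr I ⊣ Gr I :=
  ModuleCat.extendRestrictScalarsAdj.{u, u, u} (Ideal.Quotient.mk I)

variable {I}

/-- the `R`-linear map `X → T` associated with an `R/I`-linear map `X/IX → T` -/
noncomputable def red {X : ModuleCat.{u} R} {T : ModuleCat.{u} (R ⧸ I)} (θ : (Fr I).obj X ⟶ T) :
    X ⟶ (Gr I).obj T := (adj I).homEquiv X T θ

lemma red_apply {X : ModuleCat.{u} R} {T : ModuleCat.{u} (R ⧸ I)} (θ : (Fr I).obj X ⟶ T) (x : X) :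
    (red θ).hom x = θ.hom ((1 : R ⧸ I) ⊗ₜ[R] x) :=
  ModuleCat.extendRestrictScalarsAdj_homEquiv_apply θ x

lemma red_naturality_left {X' X : ModuleCat.{u} R} {T : ModuleCat.{u} (R ⧸ I)} (f : X' ⟶ X)
    (θ : (Fr I).obj X ⟶ T) : red ((Fr I).map f ≫ θ) = f ≫ red θ :=
  (adj I).homEquiv_naturality_left f θ

lemma red_naturality_right {X : ModuleCat.{u} R} {T T' : ModuleCat.{u} (R ⧸ I)}
    (θ : (Fr I).obj X ⟶ T) (g : T ⟶ T') : red (θ ≫ g) = red θ ≫ (Gr I).map g :=
  (adj I).homEquiv_naturality_right θ g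

lemma red_injective {X : ModuleCat.{u} R} {T : ModuleCat.{u} (R ⧸ I)} :
    Function.Injective (red : ((Fr I).obj X ⟶ T) → (X ⟶ (Gr I).obj T)) :=
  ((adj I).homEquiv X T).injective

lemma exists_one_tmul (X : Type u) [AddCommGroup X] [Module R X] (t : (R ⧸ I) ⊗[R] X) :
    ∃ x : X, (1 : R ⧸ I) ⊗ₜ[R] x = t := by
  obtain ⟨x, hx⟩ := Submodule.Quotient.mk_surjective _ (quotTensorEquivQuotSMul X I t)
  refine ⟨x, ?_⟩
  rw [← quotTensorEquivQuotSMul_symm_mk, hx, LinearEquiv.symm_apply_apply]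

lemma one_tmul_eq_zero_iff (X : Type u) [AddCommGroup X] [Module R X] (x : X) :
    ((1 : R ⧸ I) ⊗ₜ[R] x = 0) ↔ x ∈ I • (⊤ : Submodule R X) := by
  rw [← Submodule.Quotient.mk_eq_zero, ← quotTensorEquivQuotSMul_mk_one_tmul,
    LinearEquiv.map_eq_zero_iff]

lemma red_surjective {X : ModuleCat.{u} R} {T : ModuleCat.{u} (R ⧸ I)} (θ : (Fr I).obj X ≅ T) :
    Function.Surjective (red θ.hom).hom := by
  intro y
  obtain ⟨x, hx⟩ := exists_one_tmul (I := I) X (θ.inv.hom y)
  refine ⟨x, ?_⟩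
  rw [red_apply]
  erw [hx]
  exact congrArg (fun f => f.hom y) θ.inv_hom_id

lemma ker_red {X : ModuleCat.{u} R} {T : ModuleCat.{u} (R ⧸ I)} (θ : (Fr I).obj X ≅ T) :
    LinearMap.ker (red θ.hom).hom = I • (⊤ : Submodule R X) := by
  ext x
  rw [LinearMap.mem_ker, red_apply, ← one_tmul_eq_zero_iff]
  constructor
  · intro h
    have h2 := congrArg (fun f => f.hom ((1 : R ⧸ I) ⊗ₜ[R] x)) θ.hom_inv_id
    have h3 : θ.inv.hom (θ.hom.hom ((1 : R ⧸ I) ⊗ₜ[R] x)) = (1 : R ⧸ I) ⊗ₜ[R] x := h2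
    rw [← h3]
    erw [h]
    exact map_zero θ.inv.hom
  · intro h
    erw [h]
    exact map_zero _

end Red

section Main

variable {R : Type u} [CommRing R] {I : Ideal R}
  (Pc : ObjectProperty (ModuleCat.{u} R)) (E : DRing.Cx (R ⧸ I)) (b : ℤ)

/-- degree of the `k`-th stage -/
def dg (k : ℕ) : ℤ := b + 1 - k

lemma dg_succ (k : ℕ) : dg b (k + 1) + 1 = dg b k := by
  unfold dg; push_cast; ring

/-- the hypotheses of the lifting problem -/
structure Hyp : Prop where
  iso : Pc.IsClosedUnderIsomorphisms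
  h1 : ∀ X : ModuleCat.{u} R, Pc X → Module.Projective R X
  h2 : ∀ X Y : ModuleCat.{u} R, Pc X → Pc (ModuleCat.of R (X × Y)) → Pc Y
  h3 : ∀ (X Y : ModuleCat.{u} R) (f : X ⟶ Y), Pc X → Pc Y →
      LinearMap.range f.hom ⊔ I • (⊤ : Submodule R Y) = ⊤ → Function.Surjective f.hom
  hEb : DRing.VanishesAbove E b
  hEa : E.Acyclic
  hEt : ∀ i : ℤ, ∃ X : ModuleCat.{u} R, Pc X ∧
    Nonempty (TensorProduct R (R ⧸ I) X ≃ₗ[R ⧸ I] E.X i)

/-- the data constructed in degree `dg b k` -/
structure Stage (k : ℕ) where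
  /-- the term -/
  X : ModuleCat.{u} R
  hX : Pc X
  /-- the identification of its reduction -/
  θ : (Fr I).obj X ≅ E.X (dg b k)
  /-- the cycles -/
  Z : Submodule R X
  hZ : Pc (ModuleCat.of R Z)
  hZker : ∀ z ∈ Z, ((Gr I).map (E.d (dg b k) (dg b k + 1))).hom ((red θ.hom).hom z) = 0
  hZsurj : ∀ y : (Gr I).obj (E.X (dg b k)),
    ((Gr I).map (E.d (dg b k) (dg b k + 1))).hom y = 0 → ∃ z ∈ Z, (red θ.hom).hom z = y
  hZI : ∀ z ∈ Z, (red θ.hom).hom z = 0 → z ∈ I • Z

/-- the differential between two consecutive stages -/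
structure Link {k : ℕ} (s : Stage Pc E b k) (s' : Stage Pc E b (k + 1)) where
  /-- the differential -/
  d : s'.X ⟶ s.X
  hdZ : ∀ x, d.hom x ∈ s.Z
  hdsurj : ∀ z ∈ s.Z, ∃ x, d.hom x = z
  hker : ∀ x, x ∈ s'.Z ↔ d.hom x = 0
  comm : d ≫ red s.θ.hom = red s'.θ.hom ≫ (Gr I).map (E.d (dg b (k + 1)) (dg b k))

lemma exactAt_iff_fexact (K : DRing.Cx (R ⧸ I)) (i j k : ℤ) (hij : i + 1 = j) (hjk : j + 1 = k) :
    K.ExactAt j ↔ Function.Exact (K.d i j).hom (K.d j k).hom := by
  rw [HomologicalComplex.exactAt_iff' K i j k (by simp; lia) (by simp [hjk]),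
    ShortComplex.ShortExact.moduleCat_exact_iff_function_exact]
  rfl

variable {Pc E b} (H : Hyp Pc E b)
include H

lemma pc_punit : Pc (ModuleCat.of R PUnit.{u + 1}) := by
  obtain ⟨X, hX, -⟩ := H.hEt 0
  have := H.iso
  refine H.h2 X (ModuleCat.of R PUnit.{u + 1}) hX ?_
  refine Pc.prop_of_iso ?_ hX
  exact (LinearEquiv.toModuleIso (LinearEquiv.prodUnique (R := R) (M := X) (M₂ := PUnit.{u + 1})).symm)

lemma pc_of_isZero (X : ModuleCat.{u} R) (hX : IsZero X) : Pc X := by
  have := H.iso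
  refine Pc.prop_of_iso (IsZero.iso ?_ hX) (pc_punit H)
  exact ModuleCat.isZero_of_subsingleton _

theorem exists_step {k : ℕ} (s : Stage Pc E b k) :
    ∃ s' : Stage Pc E b (k + 1), Nonempty (Link Pc E b s s') := by
  classical
  have := H.iso
  obtain ⟨X', hX', ⟨e'⟩⟩ := H.hEt (dg b (k + 1))
  let θ' : (Fr I).obj X' ≅ E.X (dg b (k + 1)) := e'.toModuleIso
  have : Module.Projective R X' := H.h1 X' hX'
  have : Module.Projective R s.Z := H.h1 (ModuleCat.of R s.Z) s.hZ
  have hdg : dg b (k + 1) + 1 = dg b k := dg_succ b k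
  have hex : Function.Exact (E.d (dg b (k + 1)) (dg b k)).hom (E.d (dg b k) (dg b k + 1)).hom :=
    (exactAt_iff_fexact E _ _ _ hdg rfl).1 (H.hEa _)
  have hdd : ∀ y : E.X (dg b (k + 1)),
      (E.d (dg b k) (dg b k + 1)).hom ((E.d (dg b (k + 1)) (dg b k)).hom y) = 0 := fun y => by
    rw [← ModuleCat.comp_apply, E.d_comp_d]
    rfl
  obtain ⟨g, hgs, hcomm, hker1, hker2, ⟨eq⟩⟩ := step_lemma I
    (ρ := (red s.θ.hom).hom) (ρ' := (red θ'.hom).hom)
    (δ' := ((Gr I).map (E.d (dg b (k + 1)) (dg b k))).hom)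
    (red_surjective θ') (ker_red θ') s.Z
    (fun y => s.hZsurj _ (hdd y))
    (fun z hz => by
      obtain ⟨y, hy⟩ := (hex _).1 (s.hZker z hz)
      exact ⟨y, hy⟩)
    s.hZI
    (fun g hg => H.h3 X' (ModuleCat.of R s.Z) (ModuleCat.ofHom g) hX' s.hZ hg)
  have hd' : ∀ y : (Gr I).obj (E.X (dg b (k + 1))),
      ((Gr I).map (E.d (dg b (k + 1)) (dg b (k + 1) + 1))).hom y = 0 ↔
        ((Gr I).map (E.d (dg b (k + 1)) (dg b k))).hom y = 0 := by
    rw [hdg]
    exact fun _ => Iff.rfl
  refine ⟨{ X := X', hX := hX', θ := θ', Z := LinearMap.ker g, hZ := ?_, hZker := ?_,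
            hZsurj := ?_, hZI := hker2 },
          ⟨{ d := ModuleCat.ofHom (s.Z.subtype ∘ₗ g), hdZ := ?_, hdsurj := ?_, hker := ?_,
             comm := ?_ }⟩⟩
  · exact H.h2 (ModuleCat.of R s.Z) (ModuleCat.of R (LinearMap.ker g)) s.hZ
      (Pc.prop_of_iso eq.toModuleIso hX')
  · intro z hz
    refine (hd' _).2 ?_
    have h1 := hcomm z
    rw [LinearMap.mem_ker.1 hz] at h1
    rw [← h1]
    simp
  · intro y hy
    exact hker1 y ((hd' y).1 hy)
  · intro x
    exact (g x).2
  · intro z hz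
    obtain ⟨x, hx⟩ := hgs ⟨z, hz⟩
    exact ⟨x, congrArg Subtype.val hx⟩
  · intro x
    rw [LinearMap.mem_ker]
    constructor
    · intro h
      show ((g x : s.Z) : s.X) = 0
      rw [h]; rfl
    · intro h
      exact Subtype.ext h
  · ext x
    exact hcomm x

/-- the initial stage (degree `b + 1`, the zero module) -/
noncomputable def stage0 : Stage Pc E b 0 :=
  have hz : IsZero (E.X (dg b 0)) := H.hEb _ (by unfold dg; simp)
  have : Subsingleton ((Gr I).obj (E.X (dg b 0))) :=
    ModuleCat.subsingleton_of_isZero ((Gr I).map_isZero hz)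
  have hz' : IsZero (E.X (dg b 0 + 1)) := H.hEb _ (by unfold dg; simp)
  have : Subsingleton ((Gr I).obj (E.X (dg b 0 + 1))) :=
    ModuleCat.subsingleton_of_isZero ((Gr I).map_isZero hz')
  have := H.iso
  { X := ModuleCat.of R PUnit.{u + 1}
    hX := pc_punit H
    θ := IsZero.iso ((Fr I).map_isZero (ModuleCat.isZero_of_subsingleton _)) hz
    Z := ⊤
    hZ := Pc.prop_of_iso (Submodule.topEquiv (R := R) (M := PUnit.{u + 1})).toModuleIso.symm
      (pc_punit H)
    hZker := fun z _ => Subsingleton.elim _ _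
    hZsurj := fun y _ => ⟨0, trivial, Subsingleton.elim _ _⟩
    hZI := fun z _ _ => by
      rw [Subsingleton.elim z 0]
      exact zero_mem _ }

/-- the sequence of stages -/
noncomputable def seq : ∀ k, Stage Pc E b k
  | 0 => stage0 H
  | k + 1 => (exists_step H (seq k)).choose

/-- the differentials -/
noncomputable def lnk (k : ℕ) : Link Pc E b (seq H k) (seq H (k + 1)) :=
  (exists_step H (seq H k)).choose_spec.some

/-- the lifted chain complex (indexed by `ℕ`) -/
noncomputable def chainCx : ChainComplex (ModuleCat.{u} R) ℕ :=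
  ChainComplex.of (fun k => (seq H k).X) (fun k => (lnk H k).d) (fun k => by
    ext x
    exact ((lnk H k).hker _).1 ((lnk H (k + 1)).hdZ x))

lemma chainCx_d (k : ℕ) : (chainCx H).d (k + 1) k = (lnk H k).d :=
  ChainComplex.of_d (fun k => (seq H k).X) (fun k => (lnk H k).d) k

/-- the identification of the reduction of the terms -/
noncomputable def thetaC (k : ℕ) :
    (Fr I).obj ((chainCx H).X k) ≅ E.X ((ComplexShape.embeddingUpIntLE (b + 1)).f k) := (seq H k).θ

lemma map_d_comp_thetaC (k : ℕ) :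
    (Fr I).map ((chainCx H).d (k + 1) k) ≫ (thetaC H k).hom =
      (thetaC H (k + 1)).hom ≫ E.d ((ComplexShape.embeddingUpIntLE (b + 1)).f (k + 1))
        ((ComplexShape.embeddingUpIntLE (b + 1)).f k) := by
  apply red_injective
  rw [red_naturality_left, red_naturality_right, chainCx_d]
  exact (lnk H k).comm

lemma chainCx_exactAt (k : ℕ) : (chainCx H).ExactAt k := by
  cases k with
  | zero =>
    refine ShortComplex.exact_of_isZero_X₂ _ ?_
    exact ModuleCat.isZero_of_subsingleton (ModuleCat.of R PUnit.{u + 1})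
  | succ k =>
    rw [HomologicalComplex.exactAt_iff' _ (k + 2) (k + 1) k (by simp) (by simp),
      ShortComplex.moduleCat_exact_iff]
    intro x hx
    have hx' : (lnk H k).d.hom x = 0 := by
      rw [← chainCx_d]; exact hx
    obtain ⟨x', hx'⟩ := (lnk H (k + 1)).hdsurj x (((lnk H k).hker x).2 hx')
    refine ⟨x', ?_⟩
    have := chainCx_d H (k + 1)
    show ((chainCx H).d (k + 2) (k + 1)).hom x' = x
    rw [this]
    exact hx'

/-- the lifted cochain complex -/
noncomputable abbrev liftCx : DRing.Cx R :=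
  (chainCx H).extend (ComplexShape.embeddingUpIntLE (b + 1))

lemma liftCx_vanishesAbove : DRing.VanishesAbove (liftCx H) (b + 1) := fun i hi =>
  (chainCx H).isZero_extend_X _ i ((ComplexShape.notMem_range_embeddingUpIntLE_iff _ _).2 hi)

lemma liftCx_acyclic : (liftCx H).Acyclic := by
  intro i
  by_cases hi : b + 1 < i
  · exact (chainCx H).extend_exactAt _ i
      ((ComplexShape.notMem_range_embeddingUpIntLE_iff _ _).2 hi)
  · obtain ⟨k, hk⟩ : ∃ k : ℕ, (ComplexShape.embeddingUpIntLE (b + 1)).f k = i :=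
      ⟨(b + 1 - i).toNat, by simp; lia⟩
    exact ((chainCx H).extend_exactAt_iff _ hk).2 (chainCx_exactAt H k)

lemma liftCx_pc (i : ℤ) : Pc ((liftCx H).X i) := by
  have := H.iso
  by_cases hi : b + 1 < i
  · exact pc_of_isZero H _ (liftCx_vanishesAbove H i hi)
  · obtain ⟨k, hk⟩ : ∃ k : ℕ, (ComplexShape.embeddingUpIntLE (b + 1)).f k = i :=
      ⟨(b + 1 - i).toNat, by simp; lia⟩
    exact Pc.prop_of_iso ((chainCx H).extendXIso _ hk).symm (seq H k).hX

/-- the components of the comparison with `E` -/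
noncomputable def compAt (k : ℕ) (i : ℤ) (hk : (ComplexShape.embeddingUpIntLE (b + 1)).f k = i) :
    (Fr I).obj ((liftCx H).X i) ≅ E.X i :=
  (Fr I).mapIso ((chainCx H).extendXIso _ hk) ≪≫ thetaC H k ≪≫ HomologicalComplex.XIsoOfEq E hk

lemma compAt_eq (k k' : ℕ) (i : ℤ) (hk : (ComplexShape.embeddingUpIntLE (b + 1)).f k = i)
    (hk' : (ComplexShape.embeddingUpIntLE (b + 1)).f k' = i) :
    compAt H k i hk = compAt H k' i hk' := by
  obtain rfl : k = k' := (ComplexShape.embeddingUpIntLE (b + 1)).injective_f (hk.trans hk'.symm)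
  rfl

open Classical in
/-- the components of the comparison with `E` -/
noncomputable def comp (i : ℤ) : (Fr I).obj ((liftCx H).X i) ≅ E.X i :=
  if h : ∃ k : ℕ, (ComplexShape.embeddingUpIntLE (b + 1)).f k = i then
    compAt H h.choose i h.choose_spec
  else IsZero.iso ((Fr I).map_isZero ((chainCx H).isZero_extend_X _ i (by
      push Not at h; exact h)))
    (H.hEb i (by
      have := (ComplexShape.notMem_range_embeddingUpIntLE_iff (b + 1) i).1 (by
        push Not at h; exact h)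
      lia))

lemma comp_eq (k : ℕ) (i : ℤ) (hk : (ComplexShape.embeddingUpIntLE (b + 1)).f k = i) :
    comp H i = compAt H k i hk := by
  unfold comp
  rw [dif_pos ⟨k, hk⟩]
  exact compAt_eq H _ _ _ _ _

/-- the lifted complex reduces to `E` -/
noncomputable def liftCxIso :
    ((ModuleCat.extendScalars (Ideal.Quotient.mk I)).mapHomologicalComplex
      (ComplexShape.up ℤ)).obj (liftCx H) ≅ E :=
  HomologicalComplex.Hom.isoOfComponents (fun i => comp H i) (by
    rintro i j (rfl : i + 1 = j)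
    by_cases hi : b + 1 < i + 1
    · exact (H.hEb _ (by lia)).eq_of_tgt _ _
    · obtain ⟨k, hk⟩ : ∃ k : ℕ, (ComplexShape.embeddingUpIntLE (b + 1)).f k = i + 1 :=
        ⟨(b + 1 - (i + 1)).toNat, by simp; lia⟩
      have hk' : (ComplexShape.embeddingUpIntLE (b + 1)).f (k + 1) = i := by
        simp at hk ⊢; lia
      rw [comp_eq H k (i + 1) hk, comp_eq H (k + 1) i hk']
      have key : (Fr I).map ((liftCx H).d i (i + 1)) ≫ (compAt H k (i + 1) hk).hom =
          (compAt H (k + 1) i hk').hom ≫ E.d i (i + 1) := by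
        subst hk'
        have h1 : (liftCx H).d ((ComplexShape.embeddingUpIntLE (b + 1)).f (k + 1))
            ((ComplexShape.embeddingUpIntLE (b + 1)).f (k + 1) + 1) = _ :=
          (chainCx H).extend_d_eq (ComplexShape.embeddingUpIntLE (b + 1)) rfl hk
        rw [h1]
        dsimp only [compAt, Iso.trans_hom, Functor.mapIso_hom]
        simp only [Functor.map_comp, Category.assoc, Iso.map_inv_hom_id_assoc]
        rw [← Category.assoc ((Fr I).map ((chainCx H).d (k + 1) k)), map_d_comp_thetaC]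
        simp only [Category.assoc]
        congr 2
        rw [HomologicalComplex.d_comp_XIsoOfEq_hom, HomologicalComplex.XIsoOfEq_hom_comp_d]
      exact key.symm)

/-- **Lifting bounded above acyclic complexes.** -/
theorem exists_acyclic_lift :
    ∃ (P : DRing.Cx R) (b' : ℤ), DRing.VanishesAbove P b' ∧ P.Acyclic ∧ (∀ i : ℤ, Pc (P.X i)) ∧
      Nonempty ((((ModuleCat.extendScalars (Ideal.Quotient.mk I)).mapHomologicalComplex
        (ComplexShape.up ℤ)).obj P) ≅ E) :=
  ⟨liftCx H, b + 1, liftCx_vanishesAbove H, liftCx_acyclic H, liftCx_pc H, ⟨liftCxIso H⟩⟩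

end Main

end Groth.Agent.Lib.Seat30.LiftAcyclic
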