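import Mathlib
import Groth.Agent.Lib.Seat30LiftAcyclic

/-!
# Auxiliary module-theoretic facts for applications of the lifting lemmas
(ideals contained in the Jacobson radical)
-/

set_option autoImplicit false
universe u
open CategoryTheory TensorProduct

namespace Groth.Agent.Lib.Seat30.LiftApps

open Groth.Agent.Lib.Seat30.LiftAcyclic Groth.Agent.Lib.Seat30.LiftStep

variable {R : Type u} [CommRing R] {I : Ideal R}

/-- Nakayama: surjective modulo `I ⊆ rad R` implies surjective (finite target) -/
lemma surjective_of_le_jacobson (hI : I ≤ Ideal.jacobson ⊥) {X Y : Type*} [AddCommGroup X]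
    [Module R X] [AddCommGroup Y] [Module R Y] [Module.Finite R Y] (f : X →ₗ[R] Y)
    (h : LinearMap.range f ⊔ I • (⊤ : Submodule R Y) = ⊤) : Function.Surjective f := by
  rw [← LinearMap.range_eq_top, eq_top_iff]
  exact Submodule.le_of_le_smul_of_le_jacobson_bot Module.Finite.fg_top hI (by rw [h])

lemma mk_smul_tmul (P : Type u) [AddCommGroup P] [Module R P] (r : R) (t : (R ⧸ I) ⊗[R] P) :
    (Ideal.Quotient.mk I r) • t = r • t :=
  algebraMap_smul (R ⧸ I) r t

/-- a finite projective module with free reduction modulo `I ⊆ rad R` is free -/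
theorem free_of_free_tensor (hI : I ≤ Ideal.jacobson ⊥) (P : Type u) [AddCommGroup P]
    [Module R P] [Module.Finite R P] [Module.Projective R P]
    [Module.Free (R ⧸ I) ((R ⧸ I) ⊗[R] P)] : Module.Free R P := by
  classical
  let ι := Module.Free.ChooseBasisIndex (R ⧸ I) ((R ⧸ I) ⊗[R] P)
  let bS : Module.Basis ι (R ⧸ I) ((R ⧸ I) ⊗[R] P) := Module.Free.chooseBasis _ _
  choose x hx using fun i => exists_one_tmul (I := I) P (bS i)
  let u : (ι → R) →ₗ[R] P := Fintype.linearCombination R x
  have hu : ∀ f : ι → R, (1 : R ⧸ I) ⊗ₜ[R] u f = ∑ i, (Ideal.Quotient.mk I (f i)) • bS i := by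
    intro f
    simp only [u, Fintype.linearCombination_apply, TensorProduct.tmul_sum]
    refine Finset.sum_congr rfl fun i _ => ?_
    rw [TensorProduct.tmul_smul, hx i, mk_smul_tmul]
  -- surjectivity
  have hsurj : Function.Surjective u := by
    apply surjective_of_le_jacobson hI
    rw [eq_top_iff]
    rintro y -
    choose r hr using fun i => Ideal.Quotient.mk_surjective (bS.repr ((1 : R ⧸ I) ⊗ₜ[R] y) i)
    have h1 : (1 : R ⧸ I) ⊗ₜ[R] u r = (1 : R ⧸ I) ⊗ₜ[R] y := by
      rw [hu]
      conv_rhs => rw [← bS.sum_repr ((1 : R ⧸ I) ⊗ₜ[R] y)]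
      exact Finset.sum_congr rfl fun i _ => by rw [hr i]
    have h2 : (1 : R ⧸ I) ⊗ₜ[R] (y - u r) = 0 := by
      rw [TensorProduct.tmul_sub, h1, sub_self]
    have h3 := (one_tmul_eq_zero_iff (I := I) P (y - u r)).1 h2
    have : y = u r + (y - u r) := by abel
    rw [this]
    exact Submodule.add_mem_sup ⟨r, rfl⟩ h3
  -- injectivity
  obtain ⟨s, hs⟩ := Module.projective_lifting_property u LinearMap.id hsurj
  have hs' : ∀ z, u (s z) = z := fun z => LinearMap.congr_fun hs z
  have hK : LinearMap.ker u = ⊥ := by
    apply Submodule.eq_bot_of_le_smul_of_le_jacobson_bot I _ _ _ hI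
    · -- finitely generated: image of the projection
      have : LinearMap.ker u = LinearMap.range (LinearMap.id - s ∘ₗ u) := by
        ext k
        constructor
        · intro hk
          refine ⟨k, ?_⟩
          simp [LinearMap.mem_ker.1 hk]
        · rintro ⟨k', rfl⟩
          rw [LinearMap.mem_ker]
          simp [hs']
      rw [this, LinearMap.range_eq_map]
      exact Submodule.FG.map _ Module.Finite.fg_top
    · intro k hk
      have hk0 : u k = 0 := hk
      -- all coordinates of `k` lie in `I`
      have h1 : ∑ i, (Ideal.Quotient.mk I (k i)) • bS i = 0 := by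
        rw [← hu, hk0, TensorProduct.tmul_zero]
      have h2 : ∀ i, Ideal.Quotient.mk I (k i) = 0 := fun i =>
        Fintype.linearIndependent_iff.1 bS.linearIndependent _ h1 i
      have h3 : k ∈ I • (⊤ : Submodule R (ι → R)) := by
        have : k = ∑ i, (k i) • (Pi.single i (1 : R) : ι → R) := by
          ext j
          simp [Finset.sum_apply, Pi.single_apply]
        rw [this]
        refine Submodule.sum_mem _ fun i _ => ?_
        exact Submodule.smul_mem_smul (Ideal.Quotient.eq_zero_iff_mem.1 (h2 i)) Submodule.mem_top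
      -- project to the kernel
      let p : (ι → R) →ₗ[R] LinearMap.ker u :=
        (LinearMap.snd R P (LinearMap.ker u)) ∘ₗ (splitEquiv u s hs').toLinearMap
      have h4 : p k ∈ I • (⊤ : Submodule R (LinearMap.ker u)) := by
        have : p k ∈ Submodule.map p (I • ⊤) := ⟨k, h3, rfl⟩
        rw [Submodule.map_smul''] at this
        exact Submodule.smul_mono le_rfl le_top this
      rw [smul_eq_map_subtype]
      refine ⟨p k, h4, ?_⟩
      exact congrArg Subtype.val (splitEquiv_snd_of_mem u s hs' ⟨k, hk⟩)
  have hinj : Function.Injective u := LinearMap.ker_eq_bot.1 hK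
  exact Module.Free.of_equiv (LinearEquiv.ofBijective u ⟨hinj, hsurj⟩)

end Groth.Agent.Lib.Seat30.LiftApps
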