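import Mathlib
import Groth.Prelude.Def_DRing2
import Groth.Agent.Lib.Seat30LiftAcyclic

/-!
# Lifting chain maps out of contractible complexes of projectives along `R → R/I`,
and kernels of termwise surjective chain maps
-/

set_option autoImplicit false
universe u
open CategoryTheory CategoryTheory.Limits TensorProduct
attribute [local instance] HasDerivedCategory.standard

namespace Groth.Agent.Lib.Seat30.LiftMaps

open Groth.Agent.Lib.Seat30.LiftAcyclic DerivedCategory

variable {R : Type u} [CommRing R] {I : Ideal R}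

instance additive_Fr : (Fr I).Additive := (adj I).left_adjoint_additive

variable (I) in
/-- termwise reduction of complexes -/
noncomputable abbrev Fc : DRing.Cx R ⥤ DRing.Cx (R ⧸ I) :=
  (Fr I).mapHomologicalComplex (ComplexShape.up ℤ)

/-- maps between reductions lift when the source is projective -/
lemma exists_lift_f {X Y : ModuleCat.{u} R} [Module.Projective R X]
    (g : (Fr I).obj X ⟶ (Fr I).obj Y) : ∃ c : X ⟶ Y, (Fr I).map c = g := by
  obtain ⟨c, hc⟩ := Module.projective_lifting_property (red (𝟙 ((Fr I).obj Y))).hom (red g).hom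
    (red_surjective (Iso.refl _))
  refine ⟨ModuleCat.ofHom c, ?_⟩
  apply red_injective
  rw [← Category.comp_id ((Fr I).map (ModuleCat.ofHom c)), red_naturality_left]
  ext x
  exact LinearMap.congr_fun hc x

/-- `F(f)` surjective implies `f` surjective modulo `I` -/
lemma range_sup_smul_eq_top {X Y : ModuleCat.{u} R} (f : X ⟶ Y)
    (h : Function.Surjective ((Fr I).map f).hom) :
    LinearMap.range f.hom ⊔ I • (⊤ : Submodule R Y) = ⊤ := by
  rw [eq_top_iff]
  rintro y -
  obtain ⟨t, ht⟩ := h ((1 : R ⧸ I) ⊗ₜ[R] y)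
  obtain ⟨x, rfl⟩ := exists_one_tmul (I := I) X t
  have h1 : ((Fr I).map f).hom ((1 : R ⧸ I) ⊗ₜ[R] x) = (1 : R ⧸ I) ⊗ₜ[R] (f.hom x) :=
    ModuleCat.ExtendScalars.map_tmul _ _ _ _
  have ht' : (1 : R ⧸ I) ⊗ₜ[R] y = (1 : R ⧸ I) ⊗ₜ[R] (f.hom x) := ht.symm.trans h1
  have h2 : (1 : R ⧸ I) ⊗ₜ[R] (y - f.hom x) = 0 := by
    rw [TensorProduct.tmul_sub, ht', sub_self]
  have h3 := (one_tmul_eq_zero_iff (I := I) Y (y - f.hom x)).1 h2
  have : y = f.hom x + (y - f.hom x) := by abel
  rw [this]
  exact Submodule.add_mem_sup ⟨x, rfl⟩ h3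

section LiftChainMap

variable (C L : DRing.Cx R) (hC : ∀ p, Module.Projective R (C.X p)) (h : Homotopy (𝟙 C) 0)
  (πb : (Fc I).obj C ⟶ (Fc I).obj L)

include hC h in
/-- chain maps out of the reduction of a contractible complex of projectives lift -/
theorem exists_lift_chainMap : ∃ π : C ⟶ L, (Fc I).map π = πb := by
  classical
  have hc : ∀ p, ∃ c : C.X p ⟶ L.X p, (Fr I).map c = πb.f p := fun p =>
    have := hC p
    exists_lift_f (πb.f p)
  choose c hc using hc
  -- the defect
  let z : ∀ p q, C.X p ⟶ L.X q := fun p q => c p ≫ L.d p q - C.d p q ≫ c q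
  have hz : ∀ p q, (Fr I).map (z p q) = 0 := fun p q => by
    have h1 := πb.comm p q
    simp only [Functor.mapHomologicalComplex_obj_d] at h1
    simp only [z, Functor.map_sub, Functor.map_comp, hc]
    exact sub_eq_zero.2 h1
  -- homotopy identity
  have hh : ∀ (p : ℤ) {W : ModuleCat.{u} R} (f : C.X p ⟶ W),
      C.d p (p + 1) ≫ h.hom (p + 1) p ≫ f = f - h.hom p (p - 1) ≫ C.d (p - 1) p ≫ f := by
    intro p W f
    have h1 := h.comm p
    rw [dNext_eq _ (show (ComplexShape.up ℤ).Rel p (p + 1) from rfl),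
      prevD_eq _ (show (ComplexShape.up ℤ).Rel (p - 1) p by simp),
      HomologicalComplex.zero_f, add_zero, HomologicalComplex.id_f] at h1
    have h2 : C.d p (p + 1) ≫ h.hom (p + 1) p = 𝟙 _ - h.hom p (p - 1) ≫ C.d (p - 1) p := by
      rw [h1]; abel
    rw [← Category.assoc, h2, Preadditive.sub_comp, Category.id_comp, Category.assoc]
  refine ⟨{ f := fun p => c p + h.hom p (p - 1) ≫ z (p - 1) p, comm' := ?_ }, ?_⟩
  · rintro p q (rfl : p + 1 = q)
    have e1 : (p + 1) - 1 = p := by ring
    simp only [z, Preadditive.add_comp, Preadditive.comp_add, Preadditive.sub_comp,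
      Preadditive.comp_sub, Category.assoc, HomologicalComplex.d_comp_d, comp_zero,
      zero_sub]
    rw [e1, hh p, hh p]
    simp only [HomologicalComplex.d_comp_d_assoc, zero_comp, comp_zero, sub_zero]
    abel
  · apply HomologicalComplex.hom_ext
    intro p
    show (Fr I).map (c p + h.hom p (p - 1) ≫ z (p - 1) p) = πb.f p
    rw [Functor.map_add, Functor.map_comp, hz, comp_zero, add_zero, hc]

end LiftChainMap

section Kernel

variable {C L : DRing.Cx R} (π : C ⟶ L)

lemma d_mem_ker (p q : ℤ) (x : C.X p) (hx : x ∈ LinearMap.ker (π.f p).hom) :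
    (C.d p q).hom x ∈ LinearMap.ker (π.f q).hom := by
  rw [LinearMap.mem_ker] at hx ⊢
  have h1 := congrArg (fun f => f.hom x) (π.comm p q)
  simp only [ModuleCat.hom_comp, LinearMap.comp_apply] at h1
  rw [← h1, hx, map_zero]

/-- the kernel of a chain map, as an explicit subcomplex -/
noncomputable def kerCx : DRing.Cx R where
  X p := ModuleCat.of R (LinearMap.ker (π.f p).hom)
  d p q := ModuleCat.ofHom ((C.d p q).hom.restrict (d_mem_ker π p q))
  shape p q hpq := by
    ext x
    show (C.d p q).hom x = 0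
    rw [C.shape p q hpq]
    rfl
  d_comp_d' p q r _ _ := by
    ext x
    show (C.d q r).hom ((C.d p q).hom x) = 0
    rw [← LinearMap.comp_apply, ← ModuleCat.hom_comp, C.d_comp_d]
    rfl

/-- the inclusion of the kernel -/
noncomputable def kerι : kerCx π ⟶ C where
  f p := ModuleCat.ofHom (LinearMap.ker (π.f p).hom).subtype
  comm' p q _ := by
    ext x
    rfl

lemma kerι_comp : kerι π ≫ π = 0 := by
  apply HomologicalComplex.hom_ext
  intro p
  ext x
  exact x.2

/-- the short complex `ker π → C → L` -/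
noncomputable def kerSC : ShortComplex (DRing.Cx R) := ShortComplex.mk (kerι π) π (kerι_comp π)

lemma kerSC_shortExact (hπ : ∀ p, Function.Surjective (π.f p).hom) : (kerSC π).ShortExact := by
  apply HomologicalComplex.shortExact_of_degreewise_shortExact
  intro p
  refine { exact := ?_, mono_f := ?_, epi_g := ?_ }
  · rw [ShortComplex.moduleCat_exact_iff]
    intro x hx
    exact ⟨⟨x, hx⟩, rfl⟩
  · exact (ModuleCat.mono_iff_injective _).2 Subtype.val_injective
  · exact (ModuleCat.epi_iff_surjective _).2 (hπ p)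

lemma isZero_Q_obj_of_acyclic (K : DRing.Cx R) (hK : K.Acyclic) : IsZero (Q.obj K) := by
  have h : ∀ i : ℤ, IsZero ((homologyFunctor (ModuleCat.{u} R) i).obj (Q.obj K)) := fun i =>
    ((homologyFunctorFactors (ModuleCat.{u} R) i).app K).symm.isZero_iff.1
      ((HomologicalComplex.exactAt_iff_isZero_homology _ _).1 (hK i))
  have h1 : (Q.obj K).IsLE 0 := (DerivedCategory.isLE_iff _ 0).2 (fun i _ => h i)
  have h2 : (Q.obj K).IsGE 1 := (DerivedCategory.isGE_iff _ 1).2 (fun i _ => h i)
  exact DerivedCategory.TStructure.t.isZero _ 0 1 (by simp)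

/-- if the middle term is acyclic, the connecting map is an isomorphism -/
theorem nonempty_iso_shift (hπ : ∀ p, Function.Surjective (π.f p).hom) (hC : C.Acyclic) :
    Nonempty (Q.obj L ≅ (Q.obj (kerCx π))⟦(1 : ℤ)⟧) := by
  have hS := kerSC_shortExact π hπ
  have hT := triangleOfSES_distinguished hS
  have hz : IsZero (triangleOfSES hS).obj₂ := isZero_Q_obj_of_acyclic C hC
  have hiso : IsIso (triangleOfSES hS).mor₃ := ((triangleOfSES hS).isZero₂_iff_isIso₃ hT).1 hz
  exact ⟨@asIso _ _ _ _ (triangleOfSES hS).mor₃ hiso⟩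

end Kernel

end Groth.Agent.Lib.Seat30.LiftMaps
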