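import Mathlib
import Groth.Prelude.Def_DRing2
import Groth.Agent.Lib.Seat30LiftMaps
import Groth.Agent.Lib.Seat30ConeKernel
import Groth.Agent.Lib.Seat30DerNak
import Groth.Agent.Lib.Helper1LBC
import Groth.Agent.Lib.Helper1Cone

/-!
# Lifting representatives along `R → R/I` (Stacks 15.75.3)
-/

set_option autoImplicit false
universe u
open CategoryTheory CategoryTheory.Limits TensorProduct
attribute [local instance] HasDerivedCategory.standard

namespace Groth.Agent.Lib.Seat30.LiftRep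

open Groth.Agent.Lib.Seat30.LiftAcyclic Groth.Agent.Lib.Seat30.LiftMaps
  Groth.Agent.Lib.Seat30.LiftStep Groth.Agent.Lib.Seat30.ConeKernel
  DerivedCategory CochainComplex HomComplex

variable {R : Type u} [CommRing R] {I : Ideal R}

section ConeTerms

variable {Qb E : DRing.Cx (R ⧸ I)} (ε : Qb ⟶ E)

/-- the terms of a cone are products -/
noncomputable def coneXEquiv (i : ℤ) :
    (Qb.X (i + 1) × E.X i) ≃ₗ[R ⧸ I] (mappingCone ε).X i :=
  have := HomologicalComplex.HasHomotopyCofiber.hasBinaryBiproduct ε i (i + 1) rfl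
  (ModuleCat.biprodIsoProd (Qb.X (i + 1)) (E.X i)).symm.toLinearEquiv ≪≫ₗ
    (HomologicalComplex.homotopyCofiber.XIsoBiprod ε i (i + 1) rfl).symm.toLinearEquiv

end ConeTerms

/-- reduction commutes with products -/
noncomputable def tensorProdEquiv (A B : Type u) [AddCommGroup A] [Module R A] [AddCommGroup B]
    [Module R B] : ((R ⧸ I) ⊗[R] (A × B)) ≃ₗ[R ⧸ I] ((R ⧸ I) ⊗[R] A) × ((R ⧸ I) ⊗[R] B) :=
  TensorProduct.prodRight R (R ⧸ I) (R ⧸ I) A B

section Main

open Groth.Agent.Lib.Helper1.LDer Groth.Agent.Lib.Helper1.Cone Groth.Agent.Lib.Seat30.DerNak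

variable [DRing.HasLBaseChange (Ideal.Quotient.mk I)]
  (Pc : ObjectProperty (ModuleCat.{u} R)) [Pc.IsClosedUnderIsomorphisms]
  (h1 : ∀ X : ModuleCat.{u} R, Pc X → Module.Projective R X)
  (h2 : ∀ X Y : ModuleCat.{u} R, Pc X → (Pc (ModuleCat.of R (X × Y)) ↔ Pc Y))
  (h3 : ∀ (X Y : ModuleCat.{u} R) (f : X ⟶ Y), Pc X → Pc Y →
      LinearMap.range f.hom ⊔ I • (⊤ : Submodule R Y) = ⊤ → Function.Surjective f.hom)
  (Qc : DRing.Cx R) (c : ℤ) (hQc : DRing.VanishesAbove Qc c) (hQ : ∀ i : ℤ, Pc (Qc.X i))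
  (E : DRing.Cx (R ⧸ I)) (b : ℤ) (hEb : DRing.VanishesAbove E b)
  (hEt : ∀ i : ℤ, ∃ X : ModuleCat.{u} R, Pc X ∧
    Nonempty (TensorProduct R (R ⧸ I) X ≃ₗ[R ⧸ I] E.X i))
  (hE : Nonempty (DRing.toD E ≅ (DRing.LBaseChange (Ideal.Quotient.mk I)).obj (DRing.toD Qc)))

include h1 h2 h3 hQc hQ hEb hEt hE in
theorem exists_lift_rep :
    ∃ (P : DRing.Cx R) (b' : ℤ), DRing.VanishesAbove P b' ∧ (∀ i : ℤ, Pc (P.X i)) ∧
      Nonempty (DRing.toD P ≅ DRing.toD Qc) ∧ Nonempty ((Fc I).obj P ≅ E) := by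
  classical
  -- step 1: a quasi-isomorphism `ε : Q/IQ → E`
  have hQp : ∀ i, Module.Projective R (Qc.X i) := fun i => h1 _ (hQ i)
  have : Qc.IsKProjective := isKProjective_of_vanishesAbove Qc c hQc hQp
  have : ((Fc I).obj Qc).IsKProjective :=
    isKProjective_of_vanishesAbove ((Fc I).obj Qc) c (vanishesAbove_bc _ Qc c hQc)
      (fun i => have := hQp i; projective_bc (Ideal.Quotient.mk I) (Qc.X i))
  obtain ⟨eE⟩ := hE
  let iso0 : Q.obj ((Fc I).obj Qc) ≅ Q.obj E := (lbcIso (Ideal.Quotient.mk I) Qc).symm ≪≫ eE.symm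
  obtain ⟨ε, hε⟩ := exists_chain_map ((Fc I).obj Qc) E iso0.hom
  have hεiso : IsIso (Q.map ε) := by rw [hε]; infer_instance
  have hεq : QuasiIso ε := (_root_.DerivedCategory.isIso_Q_map_iff_quasiIso _ ε).1 hεiso
  -- step 2: the cone is acyclic, bounded above, with terms of the right form
  have hcone_a : (mappingCone ε).Acyclic := fun i => by
    have h1 : IsIso (HomologicalComplex.homologyMap ε i) :=
      (quasiIsoAt_iff_isIso_homologyMap ε i).1 inferInstance
    have h2 : IsIso (HomologicalComplex.homologyMap ε (i + 1)) :=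
      (quasiIsoAt_iff_isIso_homologyMap ε (i + 1)).1 inferInstance
    exact exactAt_mappingCone ε i inferInstance inferInstance
  have hcone_b : DRing.VanishesAbove (mappingCone ε) (max b c) := fun i hi => by
    rw [mappingCone.isZero_X_iff]
    exact ⟨(Fr I).map_isZero (hQc _ (by have := le_max_right b c; lia)),
      hEb _ (by have := le_max_left b c; lia)⟩
  have hcone_t : ∀ i : ℤ, ∃ X : ModuleCat.{u} R, Pc X ∧
      Nonempty (TensorProduct R (R ⧸ I) X ≃ₗ[R ⧸ I] (mappingCone ε).X i) := fun i => by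
    obtain ⟨Xi, hXi, ⟨ei⟩⟩ := hEt i
    refine ⟨ModuleCat.of R (Qc.X (i + 1) × Xi), (h2 _ _ (hQ (i + 1))).2 hXi, ⟨?_⟩⟩
    exact (tensorProdEquiv (Qc.X (i + 1)) Xi) ≪≫ₗ
      (LinearEquiv.prodCongr (LinearEquiv.refl (R ⧸ I) ((R ⧸ I) ⊗[R] (Qc.X (i + 1)))) ei) ≪≫ₗ
      coneXEquiv ε i
  -- step 3: lift the cone
  obtain ⟨C, bC, hCb, hCa, hCpc, ⟨φ⟩⟩ := exists_acyclic_lift (Pc := Pc) (E := mappingCone ε)
    (b := max b c)
    { iso := inferInstance, h1 := h1, h2 := fun X Y hX hXY => (h2 X Y hX).1 hXY, h3 := h3,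
      hEb := hcone_b, hEa := hcone_a, hEt := hcone_t }
  have hCp : ∀ p, Module.Projective R (C.X p) := fun p => h1 _ (hCpc p)
  have : C.IsKProjective := isKProjective_of_vanishesAbove C bC hCb hCp
  obtain ⟨hC⟩ := IsKProjective.nonempty_homotopy_zero (𝟙 C) hCa
  -- step 4: the projection of the cone onto `Q/IQ[1]`, and its lift
  let πb : (Fc I).obj C ⟶ (Fc I).obj (Qc⟦(1 : ℤ)⟧) :=
    φ.hom ≫ coneProj ε ≫ ((Fr I).mapCochainComplexShiftIso 1).inv.app Qc
  obtain ⟨π, hπ⟩ := exists_lift_chainMap C (Qc⟦(1 : ℤ)⟧) hCp hC πb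
  have hπf : ∀ p, (Fr I).map (π.f p) = φ.hom.f p ≫ (mappingCone.fst ε).1.v p (p + 1) rfl :=
    fun p => by
      have h := congrArg (fun t => t.f p) hπ
      have h' : (πb.f p : (Fr I).obj (C.X p) ⟶ (Fr I).obj (Qc.X (p + 1))) =
          φ.hom.f p ≫ (mappingCone.fst ε).1.v p (p + 1) rfl := by
        show φ.hom.f p ≫ (coneProj ε).f p ≫ 𝟙 _ = _
        rw [Category.comp_id, coneProj_f]
        rfl
      exact h.trans h'
  -- step 5: `π` is termwise surjective
  have hs : ∀ p, Function.Surjective (π.f p).hom := fun p => by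
    refine h3 _ _ (π.f p) (hCpc p) (hQ (p + 1)) (range_sup_smul_eq_top (I := I) (π.f p) ?_)
    rw [hπf p]
    have hepi2 : Epi ((mappingCone.fst ε).1.v p (p + 1) rfl) :=
      (SplitEpi.mk _ (mappingCone.inl_v_fst_v ε (p + 1) p rfl)).epi
    have hiso1 : IsIso (φ.hom.f p) :=
      ⟨φ.inv.f p, by rw [← HomologicalComplex.comp_f, φ.hom_inv_id, HomologicalComplex.id_f],
        by rw [← HomologicalComplex.comp_f, φ.inv_hom_id, HomologicalComplex.id_f]⟩
    have hepi1 : Epi (φ.hom.f p) := @IsIso.epi_of_iso _ _ _ _ _ hiso1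
    exact (ModuleCat.epi_iff_surjective _).1 (@epi_comp _ _ _ _ _ _ hepi1 _ hepi2)
  -- step 6: sections and retractions
  have hσ : ∀ p, ∃ σ : Qc.X (p + 1) →ₗ[R] C.X p, ∀ y, (π.f p).hom (σ y) = y := fun p => by
    have := hQp (p + 1)
    obtain ⟨σ, hσ⟩ := Module.projective_lifting_property (π.f p).hom
      (LinearMap.id : Qc.X (p + 1) →ₗ[R] Qc.X (p + 1)) (hs p)
    exact ⟨σ, fun y => LinearMap.congr_fun hσ y⟩
  choose σ hσ using hσ
  refine ⟨kerCx π, bC, ?_, ?_, ?_, ?_⟩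
  · intro p hp
    have := ModuleCat.subsingleton_of_isZero (hCb p hp)
    show IsZero (ModuleCat.of R (LinearMap.ker (π.f p).hom))
    exact ModuleCat.isZero_of_subsingleton _
  · intro p
    refine (h2 (Qc.X (p + 1)) (ModuleCat.of R (LinearMap.ker (π.f p).hom)) (hQ (p + 1))).1 ?_
    exact Pc.prop_of_iso (splitEquiv (π.f p).hom (σ p) (hσ p)).toModuleIso (hCpc p)
  · obtain ⟨e⟩ := nonempty_iso_shift π hs hCa
    let e1 : Q.obj (Qc⟦(1 : ℤ)⟧) ≅ (Q.obj Qc)⟦(1 : ℤ)⟧ := (Q.commShiftIso (1 : ℤ)).app Qc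
    exact ⟨((CategoryTheory.shiftFunctor (DerivedCategory (ModuleCat.{u} R)) (1 : ℤ)).preimageIso
      (e1.symm ≪≫ e)).symm⟩
  · -- the reduction of the kernel
    let r : ∀ p, C.X p ⟶ (kerCx π).X p := fun p =>
      ModuleCat.ofHom ((LinearMap.id - (σ p) ∘ₗ (π.f p).hom).codRestrict
        (LinearMap.ker (π.f p).hom) (fun x => by
          rw [LinearMap.mem_ker]
          show (π.f p).hom (x - (σ p) ((π.f p).hom x)) = 0
          rw [map_sub, hσ p, sub_self]))
    have hr1 : ∀ p, (kerι π).f p ≫ r p = 𝟙 _ := fun p => by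
      ext x
      have hx : (π.f p).hom x.1 = 0 := x.2
      apply Subtype.ext
      show x.1 - σ p ((π.f p).hom x.1) = x.1
      rw [hx]
      have : σ p (0 : Qc.X (p + 1)) = 0 := map_zero _
      exact (congrArg (fun t => x.1 - t) this).trans (sub_zero _)
    have hr2 : ∀ p, r p ≫ (kerι π).f p = 𝟙 _ - π.f p ≫ ModuleCat.ofHom (σ p) := fun p => by
      ext x
      rfl
    refine nonempty_iso_of_kernel_coneProj ε ((Fc I).obj (kerCx π)) ((Fc I).obj C)
      ((Fc I).map (kerι π)) φ (fun p => (Fr I).map (r p))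
      (fun p => (Fr I).map (ModuleCat.ofHom (σ p))) ?_ ?_ ?_
    · intro p
      show (Fr I).map ((kerι π).f p) ≫ (Fr I).map (r p) = 𝟙 _
      rw [← Functor.map_comp, hr1, CategoryTheory.Functor.map_id]
    · intro p
      show (Fr I).map (r p) ≫ (Fr I).map ((kerι π).f p) = _
      rw [← Functor.map_comp, hr2, Functor.map_sub, CategoryTheory.Functor.map_id,
        Functor.map_comp, hπf p]
      rfl
    · intro p
      have h0 : (kerι π).f p ≫ π.f p = 0 := by
        rw [← HomologicalComplex.comp_f, kerι_comp]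
        rfl
      have h0' : (Fr I).map ((kerι π).f p) ≫ (Fr I).map (π.f p) = 0 := by
        rw [← Functor.map_comp, h0, Functor.map_zero]
      show (Fr I).map ((kerι π).f p) ≫ _ = 0
      rw [← hπf p]
      exact h0'

end Main

end Groth.Agent.Lib.Seat30.LiftRep
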