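import Mathlib
import Groth.Prelude.Def_DRing2

/-!
# A matrix model for bounded complexes of finite projective modules

`Dat A N`: a `ℤ`-indexed family of idempotent `N × N` matrices `e i` and matrices `D i` with
`D i * e i = D i = e (i+1) * D i` and `D (i+1) * D i = 0`.  It defines a complex `cx d` whose
`i`-th term is the image of `e i` and whose differential is induced by `D i`.  Ring maps act on
such data by acting on the entries.
-/

set_option autoImplicit false
universe u
open CategoryTheory CategoryTheory.Limits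

namespace Groth.Agent.Lib.Seat30.MatCx

/-- matrix data of a complex of direct summands of `A^N` -/
@[ext]
structure Dat (A : Type u) [CommRing A] (N : ℕ) where
  /-- the idempotents -/
  e : ℤ → Matrix (Fin N) (Fin N) A
  /-- the differentials -/
  D : ℤ → Matrix (Fin N) (Fin N) A
  ee : ∀ i, e i * e i = e i
  De : ∀ i, D i * e i = D i
  eD : ∀ i, e (i + 1) * D i = D i
  DD : ∀ i, D (i + 1) * D i = 0

namespace Dat

variable {A : Type u} [CommRing A] {N : ℕ} (d : Dat A N)

/-- transport of data along a ring map -/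
def map {B : Type u} [CommRing B] (φ : A →+* B) : Dat B N where
  e i := (d.e i).map φ
  D i := (d.D i).map φ
  ee i := by rw [← Matrix.map_mul, d.ee]
  De i := by rw [← Matrix.map_mul, d.De]
  eD i := by rw [← Matrix.map_mul, d.eD]
  DD i := by rw [← Matrix.map_mul, d.DD, Matrix.map_zero _ (map_zero φ)]

/-- the `i`-th term: the fixed points of `e i` -/
def M (i : ℤ) : Submodule A (Fin N → A) :=
  LinearMap.eqLocus (Matrix.toLin' (d.e i)) LinearMap.id

lemma mem_M (i : ℤ) (v : Fin N → A) : v ∈ d.M i ↔ (d.e i).mulVec v = v := by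
  simp [M, LinearMap.mem_eqLocus]

/-- the projection onto the `i`-th term -/
def proj (i : ℤ) : (Fin N → A) →ₗ[A] d.M i :=
  (Matrix.toLin' (d.e i)).codRestrict (d.M i) (fun v => by
    rw [mem_M, Matrix.toLin'_apply, Matrix.mulVec_mulVec, d.ee])

lemma proj_coe (i : ℤ) (v : Fin N → A) : ((d.proj i v : d.M i) : Fin N → A) = (d.e i).mulVec v :=
  rfl

lemma proj_of_mem (i : ℤ) (v : d.M i) : d.proj i v.1 = v :=
  Subtype.ext ((d.mem_M i v.1).1 v.2)

instance (i : ℤ) : Module.Finite A (d.M i) :=
  Module.Finite.of_surjective (d.proj i) (fun v => ⟨v.1, d.proj_of_mem i v⟩)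

instance (i : ℤ) : Module.Projective A (d.M i) :=
  Module.Projective.of_split (d.M i).subtype (d.proj i) (LinearMap.ext (d.proj_of_mem i))

/-- the differential -/
def δ (i : ℤ) : d.M i →ₗ[A] d.M (i + 1) :=
  ((Matrix.toLin' (d.D i)).comp (d.M i).subtype).codRestrict (d.M (i + 1)) (fun v => by
    rw [mem_M]
    simp only [LinearMap.coe_comp, Function.comp_apply, Matrix.toLin'_apply,
      Matrix.mulVec_mulVec, d.eD])

lemma δ_coe (i : ℤ) (v : d.M i) : ((d.δ i v : d.M (i + 1)) : Fin N → A) = (d.D i).mulVec v.1 :=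
  rfl

lemma δ_δ (i : ℤ) (v : d.M i) : d.δ (i + 1) (d.δ i v) = 0 := by
  apply Subtype.ext
  rw [δ_coe, δ_coe, Matrix.mulVec_mulVec, d.DD, Matrix.zero_mulVec]
  rfl

/-- the complex defined by the data -/
noncomputable def cx : DRing.Cx A :=
  CochainComplex.of (fun i => ModuleCat.of A (d.M i)) (fun i => ModuleCat.ofHom (d.δ i))
    (fun i => by
      apply ModuleCat.hom_ext
      apply LinearMap.ext
      intro v
      exact d.δ_δ i v)

lemma cx_d (i : ℤ) : d.cx.d i (i + 1) = ModuleCat.ofHom (d.δ i) := by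
  unfold cx
  exact CochainComplex.of_d (V := ModuleCat.{u} A) (fun i => ModuleCat.of A (d.M i))
    (fun i => ModuleCat.ofHom (d.δ i)) i

lemma subsingleton_M (i : ℤ) (h : d.e i = 0) : Subsingleton (d.M i) := by
  refine ⟨fun v w => ?_⟩
  apply Subtype.ext
  rw [← (d.mem_M i v.1).1 v.2, ← (d.mem_M i w.1).1 w.2, h, Matrix.zero_mulVec,
    Matrix.zero_mulVec]

lemma isZero_cx_X (i : ℤ) (h : d.e i = 0) : IsZero (d.cx.X i) :=
  have : Subsingleton (d.cx.X i) := d.subsingleton_M i h
  ModuleCat.isZero_of_subsingleton _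

lemma finite_cx_X (i : ℤ) : Module.Finite A (d.cx.X i) :=
  inferInstanceAs (Module.Finite A (d.M i))

lemma projective_cx_X (i : ℤ) : Module.Projective A (d.cx.X i) :=
  inferInstanceAs (Module.Projective A (d.M i))

end Dat

section Present

variable {A : Type u} [CommRing A]

/-- a finite projective module is a retract of a finite free module -/
lemma exists_split (P : Type u) [AddCommGroup P] [Module A P] [Module.Finite A P]
    [Module.Projective A P] :
    ∃ (n : ℕ) (f : (Fin n → A) →ₗ[A] P) (g : P →ₗ[A] (Fin n → A)), f ∘ₗ g = LinearMap.id := by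
  obtain ⟨n, f, hf⟩ := Module.Finite.exists_fin' A P
  obtain ⟨g, hg⟩ := Module.projective_lifting_property f LinearMap.id hf
  exact ⟨n, f, g, hg⟩

/-- padding a retraction to a bigger free module -/
lemma exists_split_of_le (P : Type u) [AddCommGroup P] [Module A P] {n N : ℕ} (h : n ≤ N)
    (f : (Fin n → A) →ₗ[A] P) (g : P →ₗ[A] (Fin n → A)) (hfg : f ∘ₗ g = LinearMap.id) :
    ∃ (f' : (Fin N → A) →ₗ[A] P) (g' : P →ₗ[A] (Fin N → A)), f' ∘ₗ g' = LinearMap.id := by
  refine ⟨f ∘ₗ LinearMap.funLeft A A (Fin.castLE h),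
    Function.ExtendByZero.linearMap A (Fin.castLE h) ∘ₗ g, ?_⟩
  apply LinearMap.ext
  intro x
  have h1 : LinearMap.funLeft A A (Fin.castLE h)
      (Function.ExtendByZero.linearMap A (Fin.castLE h) (g x)) = g x := by
    ext k
    simp only [LinearMap.funLeft_apply, Function.ExtendByZero.linearMap_apply]
    exact (Fin.castLE_injective h).extend_apply _ _ k
  simp only [LinearMap.coe_comp, Function.comp_apply, LinearMap.id_coe, id_eq]
  rw [h1]
  exact LinearMap.congr_fun hfg x

variable (E : DRing.Cx A) (a b : ℤ) (hE : DRing.VanishesOutside E a b)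
  (hEp : DRing.TermwiseFiniteProjective E)

include hE hEp in
/-- uniform retractions for the terms of a bounded complex of finite projective modules -/
lemma exists_uniform_split : ∃ (N : ℕ), ∀ i : ℤ, ∃ (f : (Fin N → A) →ₗ[A] E.X i)
    (g : E.X i →ₗ[A] (Fin N → A)), f ∘ₗ g = LinearMap.id := by
  classical
  have h0 : ∀ i : ℤ, ∃ (n : ℕ) (f : (Fin n → A) →ₗ[A] E.X i) (g : E.X i →ₗ[A] (Fin n → A)),
      f ∘ₗ g = LinearMap.id := fun i => by
    have := (hEp i).1
    have := (hEp i).2
    exact exists_split (E.X i)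
  choose n f g hfg using h0
  refine ⟨(Finset.Icc a b).sup n, fun i => ?_⟩
  by_cases hi : a ≤ i ∧ i ≤ b
  · exact exists_split_of_le (E.X i)
      (Finset.le_sup (f := n) (Finset.mem_Icc.2 hi)) (f i) (g i) (hfg i)
  · have hz : IsZero (E.X i) := hE i (by
      by_contra hc
      push Not at hc
      exact hi ⟨hc.1, hc.2⟩)
    have : Subsingleton (E.X i) := ModuleCat.subsingleton_of_isZero hz
    exact ⟨0, 0, LinearMap.ext fun x => Subsingleton.elim _ _⟩

include hE hEp in
/-- every bounded complex of finite projective modules is given by matrix data -/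
theorem exists_dat : ∃ (N : ℕ) (d : Dat A N), (∀ i, (i < a ∨ b < i) → d.e i = 0) ∧
    Nonempty (E ≅ d.cx) := by
  classical
  obtain ⟨N, hN⟩ := exists_uniform_split E a b hE hEp
  choose F G hFG using hN
  have hFG' : ∀ i x, F i (G i x) = x := fun i x => LinearMap.congr_fun (hFG i) x
  let ε : ∀ i, (Fin N → A) →ₗ[A] (Fin N → A) := fun i => G i ∘ₗ F i
  let Δ : ∀ i, (Fin N → A) →ₗ[A] (Fin N → A) :=
    fun i => G (i + 1) ∘ₗ (E.d i (i + 1)).hom ∘ₗ F i
  have hε : ∀ i v, ε i v = G i (F i v) := fun i v => rfl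
  have hΔ : ∀ i v, Δ i v = G (i + 1) ((E.d i (i + 1)).hom (F i v)) := fun i v => rfl
  have hεε : ∀ i, ε i ∘ₗ ε i = ε i := fun i => LinearMap.ext fun v => by
    simp only [LinearMap.coe_comp, Function.comp_apply, hε, hFG']
  have hΔε : ∀ i, Δ i ∘ₗ ε i = Δ i := fun i => LinearMap.ext fun v => by
    simp only [LinearMap.coe_comp, Function.comp_apply, hε, hΔ, hFG']
  have hεΔ : ∀ i, ε (i + 1) ∘ₗ Δ i = Δ i := fun i => LinearMap.ext fun v => by
    simp only [LinearMap.coe_comp, Function.comp_apply, hε, hΔ, hFG']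
  have hdd : ∀ i (x : E.X i), (E.d (i + 1) (i + 1 + 1)).hom ((E.d i (i + 1)).hom x) = 0 :=
    fun i x => by
      have := E.d_comp_d i (i + 1) (i + 1 + 1)
      exact congrArg (fun t => t.hom x) this
  have hΔΔ : ∀ i, Δ (i + 1) ∘ₗ Δ i = 0 := fun i => LinearMap.ext fun v => by
    simp only [LinearMap.coe_comp, Function.comp_apply, hΔ, hFG', hdd, map_zero,
      LinearMap.zero_apply]
  let d : Dat A N :=
    { e := fun i => LinearMap.toMatrix' (ε i)
      D := fun i => LinearMap.toMatrix' (Δ i)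
      ee := fun i => by rw [← LinearMap.toMatrix'_comp, hεε]
      De := fun i => by rw [← LinearMap.toMatrix'_comp, hΔε]
      eD := fun i => by rw [← LinearMap.toMatrix'_comp, hεΔ]
      DD := fun i => by rw [← LinearMap.toMatrix'_comp, hΔΔ, map_zero] }
  have hmul : ∀ i v, (d.e i).mulVec v = G i (F i v) :=
    fun i v => LinearMap.toMatrix'_mulVec (ε i) v
  have hmulD : ∀ i v, (d.D i).mulVec v = G (i + 1) ((E.d i (i + 1)).hom (F i v)) :=
    fun i v => LinearMap.toMatrix'_mulVec (Δ i) v
  refine ⟨N, d, ?_, ⟨?_⟩⟩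
  · intro i hi
    have hz : IsZero (E.X i) := hE i hi
    have : Subsingleton (E.X i) := ModuleCat.subsingleton_of_isZero hz
    have h0 : ε i = 0 := LinearMap.ext fun v => by
      rw [hε, Subsingleton.elim (F i v) 0, map_zero]
      rfl
    show LinearMap.toMatrix' (ε i) = 0
    rw [h0, map_zero]
  · let eq : ∀ i, E.X i ≃ₗ[A] d.M i := fun i =>
      { toFun := fun x => ⟨G i x, by rw [Dat.mem_M, hmul, hFG']⟩
        map_add' := fun x y => Subtype.ext (map_add (G i) x y)
        map_smul' := fun r x => Subtype.ext (map_smul (G i) r x)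
        invFun := fun v => F i v.1
        left_inv := fun x => hFG' i x
        right_inv := fun v => Subtype.ext (by
          show G i (F i v.1) = v.1
          rw [← hmul]
          exact (d.mem_M i v.1).1 v.2) }
    refine HomologicalComplex.Hom.isoOfComponents (fun i => (eq i).toModuleIso) ?_
    rintro i j rfl
    rw [Dat.cx_d]
    apply ModuleCat.hom_ext
    apply LinearMap.ext
    intro x
    apply Subtype.ext
    show (d.D i).mulVec (G i x) = G (i + 1) ((E.d i (i + 1)).hom x)
    rw [hmulD, hFG']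

end Present

section BaseChange

open ChangeOfRings

variable {A B : Type u} [CommRing A] [CommRing B] (φ : A →+* B) {N : ℕ} (d : Dat A N)

/-- entrywise application of `φ` on the `i`-th term, as a function -/
def redFun (i : ℤ) (v : d.M i) : (d.map φ).M i :=
  ⟨φ ∘ v.1, by
    rw [Dat.mem_M]
    funext k
    show ((d.e i).map φ).mulVec (φ ∘ v.1) k = φ (v.1 k)
    rw [← RingHom.map_mulVec, (d.mem_M i v.1).1 v.2]⟩

lemma redFun_coe (i : ℤ) (v : d.M i) : (redFun φ d i v : Fin N → B) = φ ∘ v.1 := rfl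

/-- entrywise application of `φ` on the `i`-th term -/
noncomputable def redMap (i : ℤ) : ModuleCat.of A (d.M i) ⟶
    (ModuleCat.restrictScalars.{u, u, u} φ).obj (ModuleCat.of B ((d.map φ).M i)) :=
  ModuleCat.ofHom (Y := (ModuleCat.restrictScalars.{u, u, u} φ).obj
      (ModuleCat.of B ((d.map φ).M i)))
    { toFun := fun v => redFun φ d i v
      map_add' := fun v w => Subtype.ext (by
        funext k
        exact map_add φ (v.1 k) (w.1 k))
      map_smul' := fun r v => Subtype.ext (by
        funext k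
        exact map_mul φ r (v.1 k)) }

lemma redMap_apply (i : ℤ) (v : d.M i) :
    @Eq ((d.map φ).M i) ((redMap φ d i).hom v) (redFun φ d i v) := rfl

/-- the comparison map `B ⊗ M_i ⟶ M'_i` -/
noncomputable def θ (i : ℤ) : (ModuleCat.extendScalars.{u, u, u} φ).obj (ModuleCat.of A (d.M i)) ⟶
    ModuleCat.of B ((d.map φ).M i) :=
  ((ModuleCat.extendRestrictScalarsAdj.{u, u, u} φ).homEquiv _ _).symm (redMap φ d i)

lemma θ_one_tmul (i : ℤ) (v : d.M i) :
    (θ φ d i).hom ((1 : B) ⊗ₜ[A,φ] v) = redFun φ d i v := by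
  have h := ModuleCat.extendRestrictScalarsAdj_homEquiv_apply (f := φ) (θ φ d i) v
  have h2 : ((ModuleCat.extendRestrictScalarsAdj.{u, u, u} φ).homEquiv _ _) (θ φ d i) =
      redMap φ d i := Equiv.apply_symm_apply _ _
  rw [h2] at h
  exact h.symm


/-- pure tensors in the extension of scalars -/
noncomputable def tm (M : ModuleCat.{u} A) (s : B) (m : M) :
    ((ModuleCat.extendScalars.{u, u, u} φ).obj M : ModuleCat.{u} B) := s ⊗ₜ[A,φ] m

lemma tm_add (M : ModuleCat.{u} A) (s : B) (m m' : M) :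
    tm φ M s (m + m') = tm φ M s m + tm φ M s m' := TensorProduct.tmul_add _ _ _

lemma tm_sum (M : ModuleCat.{u} A) (s : B) {ι : Type*} (t : Finset ι) (m : ι → M) :
    tm φ M s (∑ k ∈ t, m k) = ∑ k ∈ t, tm φ M s (m k) := TensorProduct.tmul_sum _ _ _

lemma smul_tm (M : ModuleCat.{u} A) (s s' : B) (m : M) :
    s • tm φ M s' m = tm φ M (s * s') m := ModuleCat.ExtendScalars.smul_tmul φ s s' m

/-- moving scalars across the tensor product -/
lemma tm_smul (M : ModuleCat.{u} A) (a : A) (s : B) (m : M) :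
    tm φ M s (a • m) = tm φ M (φ a * s) m :=
  (TensorProduct.smul_tmul (R := A) (R' := A)
    (M := (ModuleCat.restrictScalars.{u, u, u} φ).obj (ModuleCat.of B B)) (N := M) a s m).symm

/-- the `k`-th column of `e i`, as an element of the `i`-th term -/
def col (i : ℤ) (k : Fin N) : d.M i := d.proj i (Pi.single k 1)

lemma col_coe (i : ℤ) (k l : Fin N) : (col d i k).1 l = d.e i l k := by
  show ((d.e i).mulVec (Pi.single k 1)) l = _
  simp

lemma eq_sum_col (i : ℤ) (v : d.M i) : v = ∑ k, v.1 k • col d i k := by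
  apply Subtype.ext
  funext l
  rw [Submodule.coe_sum, Finset.sum_apply]
  conv_lhs => rw [← (d.mem_M i v.1).1 v.2]
  simp only [Matrix.mulVec, dotProduct, Submodule.coe_smul, Pi.smul_apply, col_coe, smul_eq_mul]
  exact Finset.sum_congr rfl fun k _ => mul_comm _ _

set_option backward.isDefEq.respectTransparency false in
/-- the inverse of the comparison map -/
noncomputable def Inv (i : ℤ) : ModuleCat.of B ((d.map φ).M i) ⟶
    (ModuleCat.extendScalars.{u, u, u} φ).obj (ModuleCat.of A (d.M i)) :=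
  ModuleCat.ofHom ((Fintype.linearCombination B
    (fun k => tm φ (ModuleCat.of A (d.M i)) 1 (col d i k))) ∘ₗ ((d.map φ).M i).subtype)

set_option backward.isDefEq.respectTransparency false in
lemma Inv_apply (i : ℤ) (w : (d.map φ).M i) :
    (Inv φ d i).hom w = ∑ k, w.1 k • tm φ (ModuleCat.of A (d.M i)) 1 (col d i k) := rfl

lemma θ_tm_one (i : ℤ) (v : d.M i) :
    (θ φ d i).hom (tm φ (ModuleCat.of A (d.M i)) 1 v) = redFun φ d i v :=
  θ_one_tmul φ d i v

set_option backward.isDefEq.respectTransparency false in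
lemma θ_Inv (i : ℤ) : θ φ d i ≫ Inv φ d i = 𝟙 _ := by
  apply ModuleCat.ExtendScalars.hom_ext
  intro v
  show (Inv φ d i).hom ((θ φ d i).hom (tm φ (ModuleCat.of A (d.M i)) 1 v)) =
    tm φ (ModuleCat.of A (d.M i)) 1 v
  rw [θ_tm_one, Inv_apply]
  conv_rhs => rw [eq_sum_col d i v, tm_sum]
  refine Finset.sum_congr rfl fun k _ => ?_
  rw [smul_tm, tm_smul, redFun_coe]
  rfl

set_option backward.isDefEq.respectTransparency false in
lemma Inv_θ (i : ℤ) : Inv φ d i ≫ θ φ d i = 𝟙 _ := by
  apply ModuleCat.hom_ext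
  apply LinearMap.ext
  intro w
  show (θ φ d i).hom ((Inv φ d i).hom w) = w
  have h1 : (θ φ d i).hom ((Inv φ d i).hom w) = ∑ k, w.1 k • redFun φ d i (col d i k) := by
    rw [Inv_apply, map_sum]
    refine Finset.sum_congr rfl fun k _ => ?_
    rw [map_smul, θ_tm_one]
  rw [h1]
  apply Subtype.ext
  funext l
  rw [Submodule.coe_sum, Finset.sum_apply]
  conv_rhs => rw [← ((d.map φ).mem_M i w.1).1 w.2]
  simp only [Submodule.coe_smul, Pi.smul_apply, redFun_coe, Function.comp_apply, col_coe,
    smul_eq_mul, Matrix.mulVec, dotProduct]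
  exact Finset.sum_congr rfl fun k _ => mul_comm _ _

/-- the comparison isomorphism in degree `i` -/
noncomputable def θIso (i : ℤ) : (ModuleCat.extendScalars.{u, u, u} φ).obj
    (ModuleCat.of A (d.M i)) ≅ ModuleCat.of B ((d.map φ).M i) where
  hom := θ φ d i
  inv := Inv φ d i
  hom_inv_id := θ_Inv φ d i
  inv_hom_id := Inv_θ φ d i

set_option backward.isDefEq.respectTransparency false in
lemma θ_comm (i : ℤ) : θ φ d i ≫ ModuleCat.ofHom ((d.map φ).δ i) =
    (ModuleCat.extendScalars.{u, u, u} φ).map (ModuleCat.ofHom (d.δ i)) ≫ θ φ d (i + 1) := by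
  apply ModuleCat.ExtendScalars.hom_ext
  intro v
  show ((d.map φ).δ i) ((θ φ d i).hom (tm φ (ModuleCat.of A (d.M i)) 1 v)) =
    (θ φ d (i + 1)).hom (((ModuleCat.extendScalars.{u, u, u} φ).map
      (ModuleCat.ofHom (d.δ i))).hom (tm φ (ModuleCat.of A (d.M i)) 1 v))
  have h1 : ((ModuleCat.extendScalars.{u, u, u} φ).map (ModuleCat.ofHom (d.δ i))).hom
      (tm φ (ModuleCat.of A (d.M i)) 1 v) = tm φ (ModuleCat.of A (d.M (i + 1))) 1 (d.δ i v) := rfl
  rw [h1, θ_tm_one, θ_tm_one]
  apply Subtype.ext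
  funext l
  show ((d.D i).map φ).mulVec (φ ∘ v.1) l = φ ((d.D i).mulVec v.1 l)
  rw [RingHom.map_mulVec]

/-- base change of the complex of the data is the complex of the base-changed data -/
noncomputable def bcIso :
    ((ModuleCat.extendScalars.{u, u, u} φ).mapHomologicalComplex (ComplexShape.up ℤ)).obj d.cx ≅
      (d.map φ).cx :=
  HomologicalComplex.Hom.isoOfComponents (fun i => θIso φ d i) (by
    rintro i j rfl
    rw [Dat.cx_d]
    show θ φ d i ≫ ModuleCat.ofHom ((d.map φ).δ i) =
      (ModuleCat.extendScalars.{u, u, u} φ).map (d.cx.d i (i + 1)) ≫ θ φ d (i + 1)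
    rw [Dat.cx_d]
    exact θ_comm φ d i)

end BaseChange

end Groth.Agent.Lib.Seat30.MatCx
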