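import Mathlib
import Groth.Prelude.Def_DRing2
import Groth.Agent.Lib.Seat30MatCx

/-!
# Finite data descends to a stage of a filtered colimit of commutative rings
-/

set_option autoImplicit false
universe u
open CategoryTheory CategoryTheory.Limits

namespace Groth.Agent.Lib.Seat30.MatCxColim

open Groth.Agent.Lib.Seat30.MatCx

variable {J : Type u} [SmallCategory J] [IsFiltered J] (F : J ⥤ CommRingCat.{u}) (c : Cocone F)
  (hc : IsColimit c)

include hc in
/-- every element of the colimit comes from a stage -/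
lemma exists_lift (x : c.pt) : ∃ (j : J) (y : F.obj j), (c.ι.app j).hom y = x := by
  have hc' := isColimitOfPreserves (forget CommRingCat) hc
  obtain ⟨j, y, hy⟩ := Types.jointly_surjective_of_isColimit hc' x
  exact ⟨j, y, hy⟩

include hc in
/-- two elements of a stage with the same image in the colimit become equal at a later stage -/
lemma exists_eq (j : J) (y z : F.obj j) (h : (c.ι.app j).hom y = (c.ι.app j).hom z) :
    ∃ (k : J) (u : j ⟶ k), (F.map u).hom y = (F.map u).hom z := by
  have hc' := isColimitOfPreserves (forget CommRingCat) hc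
  obtain ⟨k, f, g, hfg⟩ := (Types.FilteredColimit.isColimit_eq_iff _ hc').mp h
  refine ⟨IsFiltered.coeq f g, f ≫ IsFiltered.coeqHom f g, ?_⟩
  have h1 : (F.map (f ≫ IsFiltered.coeqHom f g)).hom y =
      (F.map (IsFiltered.coeqHom f g)).hom ((F.map f).hom y) := by
    rw [F.map_comp]; rfl
  have h2 : (F.map (f ≫ IsFiltered.coeqHom f g)).hom z =
      (F.map (IsFiltered.coeqHom f g)).hom ((F.map g).hom z) := by
    rw [IsFiltered.coeq_condition, F.map_comp]; rfl
  rw [h1, h2]
  exact congrArg _ hfg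

omit [IsFiltered J] in
lemma ι_map {j k : J} (u : j ⟶ k) (y : F.obj j) :
    (c.ι.app k).hom ((F.map u).hom y) = (c.ι.app j).hom y := by
  have := c.w u
  exact congrArg (fun t => t.hom y) this

include hc in
/-- finite families lift to a stage -/
lemma exists_lift_family {α : Type} [Finite α] (x : α → c.pt) :
    ∃ (j : J) (y : α → F.obj j), ∀ a, (c.ι.app j).hom (y a) = x a := by
  classical
  have := Fintype.ofFinite α
  suffices H : ∀ s : Finset α, ∃ (j : J) (y : α → F.obj j), ∀ a ∈ s, (c.ι.app j).hom (y a) = x a by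
    obtain ⟨j, y, hy⟩ := H Finset.univ
    exact ⟨j, y, fun a => hy a (Finset.mem_univ a)⟩
  intro s
  induction s using Finset.induction_on with
  | empty =>
    obtain ⟨j⟩ := IsFiltered.nonempty (C := J)
    exact ⟨j, fun _ => 0, fun a ha => absurd ha (Finset.notMem_empty a)⟩
  | insert a0 s ha0 ih =>
    obtain ⟨j, y, hy⟩ := ih
    obtain ⟨j0, y0, hy0⟩ := exists_lift F c hc (x a0)
    refine ⟨IsFiltered.max j j0, fun a => if a = a0 then (F.map (IsFiltered.rightToMax j j0)).hom y0
      else (F.map (IsFiltered.leftToMax j j0)).hom (y a), fun a ha => ?_⟩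
    by_cases h : a = a0
    · subst h
      dsimp only
      rw [if_pos rfl, ι_map, hy0]
    · dsimp only
      rw [if_neg h, ι_map]
      exact hy a ((Finset.mem_insert.1 ha).resolve_left h)

include hc in
/-- finitely many equalities in the colimit hold at a later stage -/
lemma exists_eq_family {α : Type} [Finite α] (j : J) (y z : α → F.obj j)
    (h : ∀ a, (c.ι.app j).hom (y a) = (c.ι.app j).hom (z a)) :
    ∃ (k : J) (u : j ⟶ k), ∀ a, (F.map u).hom (y a) = (F.map u).hom (z a) := by
  classical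
  have := Fintype.ofFinite α
  suffices H : ∀ s : Finset α, ∃ (k : J) (u : j ⟶ k), ∀ a ∈ s,
      (F.map u).hom (y a) = (F.map u).hom (z a) by
    obtain ⟨k, u, hu⟩ := H Finset.univ
    exact ⟨k, u, fun a => hu a (Finset.mem_univ a)⟩
  intro s
  induction s using Finset.induction_on with
  | empty => exact ⟨j, 𝟙 j, fun a ha => absurd ha (Finset.notMem_empty a)⟩
  | insert a0 s ha0 ih =>
    obtain ⟨k, u, hu⟩ := ih
    obtain ⟨k', v, hv⟩ := exists_eq F c hc k ((F.map u).hom (y a0)) ((F.map u).hom (z a0)) (by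
      rw [ι_map, ι_map]
      exact h a0)
    refine ⟨k', u ≫ v, fun a ha => ?_⟩
    have hcomp : ∀ t : F.obj j, (F.map (u ≫ v)).hom t = (F.map v).hom ((F.map u).hom t) := by
      intro t
      rw [F.map_comp]; rfl
    rw [hcomp, hcomp]
    by_cases h' : a = a0
    · subst h'
      exact hv
    · rw [hu a ((Finset.mem_insert.1 ha).resolve_left h')]

/-! ### Pre-data -/

/-- matrices without the equations -/
@[ext]
structure Pre (X : Type u) [CommRing X] (N : ℕ) where
  /-- the would-be idempotents -/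
  e : ℤ → Matrix (Fin N) (Fin N) X
  /-- the would-be differentials -/
  D : ℤ → Matrix (Fin N) (Fin N) X

namespace Pre

variable {X Y Z : Type u} [CommRing X] [CommRing Y] [CommRing Z] {N : ℕ}

/-- transport along a ring map -/
def map (p : Pre X N) (f : X →+* Y) : Pre Y N := ⟨fun i => (p.e i).map f, fun i => (p.D i).map f⟩

lemma map_map (p : Pre X N) (f : X →+* Y) (g : Y →+* Z) :
    (p.map f).map g = p.map (g.comp f) := by
  unfold map
  simp only [Matrix.map_map]
  rfl

/-- left hand sides of the four equations -/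
def lhs (p : Pre X N) (t : Fin 4) (i : ℤ) : Matrix (Fin N) (Fin N) X :=
  ![p.e i * p.e i, p.D i * p.e i, p.e (i + 1) * p.D i, p.D (i + 1) * p.D i] t

/-- right hand sides of the four equations -/
def rhs (p : Pre X N) (t : Fin 4) (i : ℤ) : Matrix (Fin N) (Fin N) X :=
  ![p.e i, p.D i, p.D i, 0] t

lemma lhs_map (p : Pre X N) (f : X →+* Y) (t : Fin 4) (i : ℤ) :
    (p.map f).lhs t i = (p.lhs t i).map f := by
  fin_cases t <;> simp [lhs, map, Matrix.map_mul]

lemma rhs_map (p : Pre X N) (f : X →+* Y) (t : Fin 4) (i : ℤ) :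
    (p.map f).rhs t i = (p.rhs t i).map f := by
  fin_cases t <;> simp [rhs, map]

/-- support in `[a, b]` -/
def SuppIn (p : Pre X N) (a b : ℤ) : Prop := ∀ i, (i < a ∨ b < i) → p.e i = 0 ∧ p.D i = 0

lemma SuppIn.map {p : Pre X N} {a b : ℤ} (h : p.SuppIn a b) (f : X →+* Y) :
    (p.map f).SuppIn a b := fun i hi => by
  obtain ⟨h1, h2⟩ := h i hi
  exact ⟨by simp [Pre.map, h1], by simp [Pre.map, h2]⟩

lemma SuppIn.lhs_eq_rhs {p : Pre X N} {a b : ℤ} (h : p.SuppIn a b) (t : Fin 4) (i : ℤ)
    (hi : i < a ∨ b < i) : p.lhs t i = p.rhs t i := by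
  obtain ⟨h1, h2⟩ := h i hi
  fin_cases t <;> simp [lhs, rhs, h1, h2]

/-- the equations hold -/
def IsDat (p : Pre X N) : Prop := ∀ t i, p.lhs t i = p.rhs t i

/-- data from pre-data satisfying the equations -/
def toDat (p : Pre X N) (h : p.IsDat) : Dat X N where
  e := p.e
  D := p.D
  ee i := h 0 i
  De i := h 1 i
  eD i := h 2 i
  DD i := h 3 i

end Pre

/-- the pre-data underlying data -/
def _root_.Groth.Agent.Lib.Seat30.MatCx.Dat.toPre {X : Type u} [CommRing X] {N : ℕ}
    (d : Dat X N) : Pre X N := ⟨d.e, d.D⟩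

lemma isDat_toPre {X : Type u} [CommRing X] {N : ℕ} (d : Dat X N) : d.toPre.IsDat := by
  intro t i
  fin_cases t
  · exact d.ee i
  · exact d.De i
  · exact d.eD i
  · exact d.DD i

include hc in
/-- pre-data with bounded support lifts to a stage -/
lemma exists_lift_pre {N : ℕ} (p : Pre c.pt N) (a b : ℤ) (hp : p.SuppIn a b) :
    ∃ (j : J) (p' : Pre (F.obj j) N), p'.SuppIn a b ∧ p'.map (c.ι.app j).hom = p := by
  classical
  let α := Bool × ↥(Finset.Icc a b) × Fin N × Fin N
  let x : α → c.pt := fun q => if q.1 then p.e q.2.1.1 q.2.2.1 q.2.2.2 else p.D q.2.1.1 q.2.2.1 q.2.2.2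
  obtain ⟨j, y, hy⟩ := exists_lift_family F c hc x
  let p' : Pre (F.obj j) N :=
    ⟨fun i => if h : i ∈ Finset.Icc a b then Matrix.of (fun k l => y (true, ⟨i, h⟩, k, l)) else 0,
      fun i => if h : i ∈ Finset.Icc a b then Matrix.of (fun k l => y (false, ⟨i, h⟩, k, l)) else 0⟩
  have hout : ∀ i, (i < a ∨ b < i) → i ∉ Finset.Icc a b := fun i hi hmem => by
    rw [Finset.mem_Icc] at hmem
    rcases hi with hi | hi
    · exact absurd hmem.1 (not_le.2 hi)
    · exact absurd hmem.2 (not_le.2 hi)
  refine ⟨j, p', fun i hi => ⟨dif_neg (hout i hi), dif_neg (hout i hi)⟩, ?_⟩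
  apply Pre.ext
  · funext i
    show (p'.e i).map (c.ι.app j).hom = p.e i
    by_cases h : i ∈ Finset.Icc a b
    · ext k l
      show (c.ι.app j).hom (p'.e i k l) = p.e i k l
      have h1 : p'.e i k l = y (true, ⟨i, h⟩, k, l) := by
        show (if h : i ∈ Finset.Icc a b then Matrix.of (fun k l => y (true, ⟨i, h⟩, k, l))
          else 0) k l = _
        rw [dif_pos h]
        rfl
      rw [h1, hy]
      rfl
    · have h1 : p'.e i = 0 := dif_neg h
      have h2 : p.e i = 0 := (hp i (by
        rw [Finset.mem_Icc] at h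
        by_contra hc
        push Not at hc
        exact h ⟨hc.1, hc.2⟩)).1
      rw [h1, h2, Matrix.map_zero _ (map_zero _)]
  · funext i
    show (p'.D i).map (c.ι.app j).hom = p.D i
    by_cases h : i ∈ Finset.Icc a b
    · ext k l
      show (c.ι.app j).hom (p'.D i k l) = p.D i k l
      have h1 : p'.D i k l = y (false, ⟨i, h⟩, k, l) := by
        show (if h : i ∈ Finset.Icc a b then Matrix.of (fun k l => y (false, ⟨i, h⟩, k, l))
          else 0) k l = _
        rw [dif_pos h]
        rfl
      rw [h1, hy]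
      rfl
    · have h1 : p'.D i = 0 := dif_neg h
      have h2 : p.D i = 0 := (hp i (by
        rw [Finset.mem_Icc] at h
        by_contra hc
        push Not at hc
        exact h ⟨hc.1, hc.2⟩)).2
      rw [h1, h2, Matrix.map_zero _ (map_zero _)]

include hc in
/-- the equations hold at a later stage -/
lemma exists_isDat {N : ℕ} (j : J) (p' : Pre (F.obj j) N) (a b : ℤ) (hp' : p'.SuppIn a b)
    (h : (p'.map (c.ι.app j).hom).IsDat) :
    ∃ (k : J) (u : j ⟶ k), (p'.map (F.map u).hom).IsDat := by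
  classical
  let β := Fin 4 × ↥(Finset.Icc a b) × Fin N × Fin N
  obtain ⟨k, u, hu⟩ := exists_eq_family F c hc j
    (fun q : β => p'.lhs q.1 q.2.1.1 q.2.2.1 q.2.2.2)
    (fun q : β => p'.rhs q.1 q.2.1.1 q.2.2.1 q.2.2.2) (by
      intro q
      have h1 := h q.1 q.2.1.1
      rw [Pre.lhs_map, Pre.rhs_map] at h1
      exact congrFun (congrFun h1 q.2.2.1) q.2.2.2)
  refine ⟨k, u, fun t i => ?_⟩
  by_cases hi : i ∈ Finset.Icc a b
  · rw [Pre.lhs_map, Pre.rhs_map]
    ext r l
    exact hu (t, ⟨i, hi⟩, r, l)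
  · refine (hp'.map _).lhs_eq_rhs t i ?_
    rw [Finset.mem_Icc] at hi
    by_contra hc
    push Not at hc
    exact hi ⟨hc.1, hc.2⟩

include hc in
/-- matrix data with bounded support descends to a stage -/
theorem exists_dat_lift {N : ℕ} (d : Dat c.pt N) (a b : ℤ)
    (hd : ∀ i, (i < a ∨ b < i) → d.e i = 0) :
    ∃ (k : J) (d' : Dat (F.obj k) N), (∀ i, (i < a ∨ b < i) → d'.e i = 0) ∧
      d'.map (c.ι.app k).hom = d := by
  have hsupp : d.toPre.SuppIn a b := fun i hi => ⟨hd i hi, by
    show d.D i = 0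
    rw [← d.De i, hd i hi, Matrix.mul_zero]⟩
  obtain ⟨j, p', hp', hmap⟩ := exists_lift_pre F c hc d.toPre a b hsupp
  obtain ⟨k, u, hk⟩ := exists_isDat F c hc j p' a b hp' (by rw [hmap]; exact isDat_toPre d)
  refine ⟨k, (p'.map (F.map u).hom).toDat hk, fun i hi => ((hp'.map _) i hi).1, ?_⟩
  have h1 : (p'.map (F.map u).hom).map (c.ι.app k).hom = d.toPre := by
    rw [Pre.map_map, ← hmap]
    congr 1
    have := c.w u
    rw [← this]
    rfl
  apply Dat.ext
  · exact congrArg Pre.e h1
  · exact congrArg Pre.D h1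

end Groth.Agent.Lib.Seat30.MatCxColim
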