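import Mathlib
import Groth.Prelude.Def_DRing2
import Groth.Agent.Lib.Seat30Minimal
import Groth.Agent.Lib.Seat30LiftRep
import Groth.Agent.Lib.Seat30LiftApps
import Groth.Agent.Lib.Helper1LBC
import Groth.Agent.Lib.Helper1Cone

/-!
# Minimal complexes over a local ring (Stacks 15.75.5)
-/

set_option autoImplicit false
universe u
open CategoryTheory CategoryTheory.Limits TensorProduct
attribute [local instance] HasDerivedCategory.standard

namespace Groth.Agent.Lib.Seat30.MinimalLocal

open Groth.Agent.Lib.Seat30.LiftAcyclic Groth.Agent.Lib.Seat30.LiftMaps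
  Groth.Agent.Lib.Seat30.LiftStep Groth.Agent.Lib.Seat30.LiftApps
  Groth.Agent.Lib.Seat30.Minimal Groth.Agent.Lib.Helper1.LDer Groth.Agent.Lib.Helper1.Cone
  DerivedCategory

section FreeLift

variable {R : Type u} [CommRing R] {I : Ideal R}

/-- finite free modules lift along `R → R/I` -/
lemma exists_free_lift (T : Type u) [AddCommGroup T] [Module (R ⧸ I) T]
    [Module.Finite (R ⧸ I) T] [Module.Free (R ⧸ I) T] :
    ∃ X : ModuleCat.{u} R, (Module.Finite R X ∧ Module.Free R X) ∧
      Nonempty (TensorProduct R (R ⧸ I) X ≃ₗ[R ⧸ I] T) := by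
  classical
  let ι := Module.Free.ChooseBasisIndex (R ⧸ I) T
  refine ⟨ModuleCat.of R (ι → R), ⟨inferInstance, inferInstance⟩, ⟨?_⟩⟩
  exact (TensorProduct.piScalarRight R (R ⧸ I) (R ⧸ I) ι) ≪≫ₗ
    (Module.Free.chooseBasis (R ⧸ I) T).equivFun.symm

end FreeLift

section Local

variable {R : Type u} [CommRing R] [IsLocalRing R]

local notation "𝔪" => IsLocalRing.maximalIdeal R

noncomputable local instance : Field (R ⧸ 𝔪) := Ideal.Quotient.field 𝔪

lemma max_le_jacobson : 𝔪 ≤ Ideal.jacobson (⊥ : Ideal R) :=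
  IsLocalRing.maximalIdeal_le_jacobson ⊥

/-- a map of finite free modules of the same rank which is surjective mod `𝔪` is bijective -/
lemma bijective_of_surjective_reduction {X Y : ModuleCat.{u} R} [Module.Finite R X]
    [Module.Finite R Y] [Module.Free R X] [Module.Free R Y] (hrank : Module.finrank R X = Module.finrank R Y) (f : X ⟶ Y)
    (h : Function.Surjective ((Fr 𝔪).map f).hom) : Function.Bijective f.hom := by
  have hs : Function.Surjective f.hom :=
    surjective_of_le_jacobson max_le_jacobson f.hom (range_sup_smul_eq_top f h)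
  exact OrzechProperty.bijective_of_surjective_of_finrank_le f.hom hs hrank.le

variable [DRing.HasLBaseChange (Ideal.Quotient.mk (IsLocalRing.maximalIdeal R))]

/-- the reduction of a complex modulo the maximal ideal -/
noncomputable abbrev redCx (P : DRing.Cx R) : DRing.Cx (R ⧸ 𝔪) := (Fc 𝔪).obj P

/-- the derived reduction of `K` is computed by the reduction of a K-projective representative -/
noncomputable def redIso (P : DRing.Cx R) [P.IsKProjective] {K : Dual.D R}
    (e : DRing.toD P ≅ K) :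
    (DRing.LBaseChange (Ideal.Quotient.mk 𝔪)).obj K ≅ Q.obj (redCx P) :=
  (DRing.LBaseChange (Ideal.Quotient.mk 𝔪)).mapIso e.symm ≪≫ lbcIso (Ideal.Quotient.mk 𝔪) P

lemma finrank_red (X : ModuleCat.{u} R) [Module.Free R X] [Module.Finite R X] :
    Module.finrank (R ⧸ 𝔪) ((Fr 𝔪).obj X) = Module.finrank R X :=
  Module.finrank_baseChange (R := R ⧸ 𝔪) (S := R) (M' := X)

lemma isKProjective_of_free (P : DRing.Cx R) (b : ℤ) (hb : DRing.VanishesAbove P b)
    (hfree : ∀ i, Module.Free R (P.X i)) : P.IsKProjective :=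
  isKProjective_of_vanishesAbove P b hb (fun i => by
    have := hfree i
    infer_instance)

/-- the reduction of a minimal complex has zero differentials -/
lemma zeroD_red (K : Dual.D R) (P : DRing.Cx R) (b : ℤ) (hb : DRing.VanishesAbove P b)
    (hfree : ∀ i, Module.Free R (P.X i)) (hfin : ∀ i, Module.Finite R (P.X i))
    (hrank : ∀ i, Module.finrank R (P.X i) = Module.finrank (R ⧸ 𝔪)
      (Dual.HD (R ⧸ 𝔪) ((DRing.LBaseChange (Ideal.Quotient.mk 𝔪)).obj K) i))
    (e : DRing.toD P ≅ K) : ZeroD (redCx P) := by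
  have := isKProjective_of_free P b hb hfree
  apply zeroD_of_finrank_eq (redCx P) (fun i => by
    have := hfin i
    exact finite_bc _ (P.X i))
  intro i
  have := hfree i
  have := hfin i
  rw [← (hdEquiv (redIso P e) i).finrank_eq, ← hrank i]
  exact (finrank_red (P.X i)).symm

/-- two minimal complexes representing `K` are isomorphic -/
theorem nonempty_iso_of_minimal (K : Dual.D R) (P P' : DRing.Cx R)
    (b : ℤ) (hb : DRing.VanishesAbove P b)
    (hfree : ∀ i, Module.Free R (P.X i)) (hfin : ∀ i, Module.Finite R (P.X i))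
    (hrank : ∀ i, Module.finrank R (P.X i) = Module.finrank (R ⧸ 𝔪)
      (Dual.HD (R ⧸ 𝔪) ((DRing.LBaseChange (Ideal.Quotient.mk 𝔪)).obj K) i))
    (e : DRing.toD P ≅ K)
    (b' : ℤ) (hb' : DRing.VanishesAbove P' b')
    (hfree' : ∀ i, Module.Free R (P'.X i)) (hfin' : ∀ i, Module.Finite R (P'.X i))
    (hrank' : ∀ i, Module.finrank R (P'.X i) = Module.finrank (R ⧸ 𝔪)
      (Dual.HD (R ⧸ 𝔪) ((DRing.LBaseChange (Ideal.Quotient.mk 𝔪)).obj K) i))
    (e' : DRing.toD P' ≅ K) : Nonempty (P ≅ P') := by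
  have hP := isKProjective_of_free P b hb hfree
  have hP' := isKProjective_of_free P' b' hb' hfree'
  obtain ⟨f, hf⟩ := exists_chain_map P P' (e ≪≫ e'.symm).hom
  have hfiso : IsIso (Q.map f) := by rw [hf]; infer_instance
  have hred : IsIso (Q.map ((Fc 𝔪).map f)) := by
    have h1 := lbcIso_hom_naturality (Ideal.Quotient.mk 𝔪) f
    have h2 : Q.map ((Fc 𝔪).map f) = (lbcIso (Ideal.Quotient.mk 𝔪) P).inv ≫
        (DRing.LBaseChange (Ideal.Quotient.mk 𝔪)).map (Q.map f) ≫
          (lbcIso (Ideal.Quotient.mk 𝔪) P').hom := by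
      rw [h1, Iso.inv_hom_id_assoc]
    rw [h2]
    infer_instance
  have hq : QuasiIso ((Fc 𝔪).map f) := (_root_.DerivedCategory.isIso_Q_map_iff_quasiIso _ _).1 hred
  have hz := zeroD_red K P b hb hfree hfin hrank e
  have hz' := zeroD_red K P' b' hb' hfree' hfin' hrank' e'
  have hbij : ∀ i, Function.Bijective (f.f i).hom := fun i => by
    have := hfree i
    have := hfin i
    have := hfree' i
    have := hfin' i
    have hiso : IsIso (((Fc 𝔪).map f).f i) := isIso_f_of_quasiIso_zeroD _ hz hz' i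
    have hiso' : IsIso ((Fr 𝔪).map (f.f i)) := hiso
    apply bijective_of_surjective_reduction ((hrank i).trans (hrank' i).symm) (f.f i)
    exact ((ConcreteCategory.isIso_iff_bijective _).1 hiso').2
  have : ∀ i, IsIso (f.f i) := fun i => (ConcreteCategory.isIso_iff_bijective _).2 (hbij i)
  have : IsIso f := HomologicalComplex.Hom.isIso_of_components f
  exact ⟨asIso f⟩

/-- existence of a minimal complex representing a pseudo-coherent object, together with the
finiteness of the cohomology of its derived reduction -/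
theorem exists_minimal (K : Dual.D R) (hK : DRing.IsPseudoCoherent' R K) :
    (∀ i : ℤ, Module.Finite (R ⧸ 𝔪)
      (Dual.HD (R ⧸ 𝔪) ((DRing.LBaseChange (Ideal.Quotient.mk 𝔪)).obj K) i)) ∧
    (∃ b : ℤ, ∀ i : ℤ, b < i → Subsingleton
      (Dual.HD (R ⧸ 𝔪) ((DRing.LBaseChange (Ideal.Quotient.mk 𝔪)).obj K) i)) ∧
    ∃ (P : DRing.Cx R) (b : ℤ), DRing.VanishesAbove P b ∧ (∀ i, Module.Free R (P.X i)) ∧
      (∀ i, Module.Finite R (P.X i)) ∧
      (∀ i, Module.finrank R (P.X i) = Module.finrank (R ⧸ 𝔪)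
        (Dual.HD (R ⧸ 𝔪) ((DRing.LBaseChange (Ideal.Quotient.mk 𝔪)).obj K) i)) ∧
      Nonempty (DRing.toD P ≅ K) := by
  classical
  obtain ⟨Qc, c, hQc, hQff, ⟨eK⟩⟩ := hK
  have hQfree : ∀ i, Module.Free R (Qc.X i) := fun i => (hQff i).2
  have hQfin : ∀ i, Module.Finite R (Qc.X i) := fun i => (hQff i).1
  have := isKProjective_of_free Qc c hQc hQfree
  let C : DRing.Cx (R ⧸ 𝔪) := redCx Qc
  let eC := redIso Qc eK
  have hCfin : ∀ i, Module.Finite (R ⧸ 𝔪) (C.X i) := fun i => by
    have := hQfin i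
    exact finite_bc _ (Qc.X i)
  have hCb : DRing.VanishesAbove C c := vanishesAbove_bc _ Qc c hQc
  have hHfin : ∀ i, Module.Finite (R ⧸ 𝔪) (C.homology i) := fun i => by
    have := hCfin i
    exact finite_homology C i
  have hHzero : ∀ i, c < i → IsZero (C.homology i) := fun i hi =>
    ShortComplex.isZero_homology_of_isZero_X₂ _ (hCb i hi)
  refine ⟨fun i => by
    have := hHfin i
    exact Module.Finite.equiv (hdEquiv eC i).symm, ⟨c, fun i hi => ?_⟩, ?_⟩
  · have : Subsingleton (C.homology i) := ModuleCat.subsingleton_of_isZero (hHzero i hi)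
    exact (hdEquiv eC i).toEquiv.subsingleton
  let Pc : ObjectProperty (ModuleCat.{u} R) := fun X => Module.Finite R X ∧ Module.Free R X
  have hPciso : Pc.IsClosedUnderIsomorphisms := ⟨fun {X Y} e ⟨h1, h2⟩ =>
    ⟨Module.Finite.equiv e.toLinearEquiv, Module.Free.of_equiv e.toLinearEquiv⟩⟩
  obtain ⟨P, b', hPb, hP, ⟨e1⟩, ⟨e2⟩⟩ := Groth.Agent.Lib.Seat30.LiftRep.exists_lift_rep
    (I := 𝔪) Pc
    (fun X hX => by
      have := hX.2
      infer_instance)
    (fun X Y hX => ⟨fun ⟨h1, h2⟩ => by
        have := hX.1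
        have := hX.2
        have hYfin : Module.Finite R Y :=
          Module.Finite.of_surjective (LinearMap.snd R X Y) LinearMap.snd_surjective
        have : Module.Free R (X × Y) := h2
        have hXYproj : Module.Projective R (X × Y) := Module.Projective.of_free
        have hYproj : Module.Projective R Y :=
          Module.Projective.of_split (LinearMap.inr R X Y) (LinearMap.snd R X Y) (by ext; simp)
        exact ⟨hYfin, Module.free_of_flat_of_isLocalRing⟩,
      fun ⟨h1, h2⟩ => by
        have := hX.1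
        have := hX.2
        exact ⟨inferInstance, inferInstance⟩⟩)
    (fun X Y f hX hY h => by
      have := hY.1
      exact surjective_of_le_jacobson max_le_jacobson f.hom h)
    Qc c hQc (fun i => ⟨hQfin i, hQfree i⟩) (homCx C) c
    (fun i hi => hHzero i hi)
    (fun i => by
      have := hHfin i
      have : Module.Free (R ⧸ 𝔪) (C.homology i) := Module.Free.of_divisionRing _ _
      exact exists_free_lift (C.homology i))
    ⟨asIso (Q.map (homCxMap C)) ≪≫ (lbcIso (Ideal.Quotient.mk 𝔪) Qc).symm⟩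
  refine ⟨P, b', hPb, fun i => (hP i).2, fun i => (hP i).1, fun i => ?_, ⟨e1 ≪≫ eK⟩⟩
  have := (hP i).1
  have := (hP i).2
  have eX : TensorProduct R (R ⧸ 𝔪) (P.X i) ≃ₗ[R ⧸ 𝔪] C.homology i :=
    ((HomologicalComplex.eval _ _ i).mapIso e2).toLinearEquiv
  rw [← finrank_red (P.X i), (hdEquiv eC i).finrank_eq]
  exact eX.finrank_eq

end Local

end Groth.Agent.Lib.Seat30.MinimalLocal
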