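import Mathlib
import Groth.Agent.Lib.Seat30LiftMaps
import Groth.Agent.Lib.Seat30LiftApps

/-!
# Finitely generated stably free modules: closure properties and lifting along `R → R/I`
for `I` contained in the Jacobson radical
-/

set_option autoImplicit false
universe u
open CategoryTheory TensorProduct

namespace Groth.Agent.Lib.Seat30.StablyFree

open Groth.Agent.Lib.Seat30.LiftAcyclic Groth.Agent.Lib.Seat30.LiftStep
  Groth.Agent.Lib.Seat30.LiftMaps Groth.Agent.Lib.Seat30.LiftApps

section Closure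

variable {R : Type u} [CommRing R]

lemma isStablyFree_prod (X Y : Type u) [AddCommGroup X] [Module R X] [AddCommGroup Y] [Module R Y]
    [Module.IsStablyFree R X] [Module.IsStablyFree R Y] : Module.IsStablyFree R (X × Y) := by
  obtain ⟨N₁, _, _, _, _, _⟩ := Module.IsStablyFree.exist_free_prod R X
  obtain ⟨N₂, _, _, _, _, _⟩ := Module.IsStablyFree.exist_free_prod R Y
  have : Module.Free R ((X × Y) × (N₁ × N₂)) :=
    Module.Free.of_equiv (LinearEquiv.prodProdProdComm R X N₁ Y N₂)
  exact Module.IsStablyFree.of_free_prod R (X × Y) (N₁ × N₂)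

/-- rearranging a four-fold product -/
def shuffle (X Y N N₁ : Type u) [AddCommGroup X] [Module R X] [AddCommGroup Y] [Module R Y]
    [AddCommGroup N] [Module R N] [AddCommGroup N₁] [Module R N₁] :
    (((X × Y) × N) × N₁) ≃ₗ[R] (Y × (N × (X × N₁))) where
  toFun p := (p.1.1.2, (p.1.2, (p.1.1.1, p.2)))
  invFun q := (((q.2.2.1, q.1), q.2.1), q.2.2.2)
  map_add' _ _ := rfl
  map_smul' _ _ := rfl
  left_inv _ := rfl
  right_inv _ := rfl

lemma isStablyFree_of_prod (X Y : Type u) [AddCommGroup X] [Module R X] [AddCommGroup Y]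
    [Module R Y] [Module.Finite R X] [Module.IsStablyFree R X]
    [Module.IsStablyFree R (X × Y)] : Module.IsStablyFree R Y := by
  obtain ⟨N₁, _, _, _, _, _⟩ := Module.IsStablyFree.exist_free_prod R X
  obtain ⟨N, _, _, _, _, _⟩ := Module.IsStablyFree.exist_free_prod R (X × Y)
  have : Module.Free R (Y × (N × (X × N₁))) := Module.Free.of_equiv (shuffle X Y N N₁)
  exact Module.IsStablyFree.of_free_prod R Y (N × (X × N₁))

end Closure

section Lift

variable {R : Type u} [CommRing R] {I : Ideal R}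

/-- a surjective `R`-linear map `X → T` onto an `R/I`-module with kernel `IX` identifies `T`
with `X/IX` -/
lemma nonempty_tensor_equiv {X : Type u} [AddCommGroup X] [Module R X] {T : Type u}
    [AddCommGroup T] [Module (R ⧸ I) T] [Module R T] [IsScalarTower R (R ⧸ I) T]
    (φ : X →ₗ[R] T) (hs : Function.Surjective φ) (hk : LinearMap.ker φ = I • ⊤) :
    Nonempty (TensorProduct R (R ⧸ I) X ≃ₗ[R ⧸ I] T) := by
  let Φ : TensorProduct R (R ⧸ I) X →ₗ[R ⧸ I] T := LinearMap.liftBaseChange (R ⧸ I) φ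
  have hΦ : ∀ x, Φ ((1 : R ⧸ I) ⊗ₜ[R] x) = φ x := fun x => by simp [Φ]
  refine ⟨LinearEquiv.ofBijective Φ ⟨?_, ?_⟩⟩
  · rw [← LinearMap.ker_eq_bot, eq_bot_iff]
    intro t ht
    obtain ⟨x, rfl⟩ := exists_one_tmul (I := I) X t
    rw [LinearMap.mem_ker, hΦ] at ht
    have hx : x ∈ LinearMap.ker φ := ht
    rw [hk] at hx
    exact (one_tmul_eq_zero_iff (I := I) X x).2 hx
  · intro t
    obtain ⟨x, rfl⟩ := hs t
    exact ⟨(1 : R ⧸ I) ⊗ₜ[R] x, hΦ x⟩

/-- componentwise reduction modulo `I` -/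
def piRed (I : Ideal R) (ι : Type u) : (ι → R) →ₗ[R] (ι → R ⧸ I) :=
  (Algebra.linearMap R (R ⧸ I)).compLeft ι

lemma piRed_apply (ι : Type u) (x : ι → R) (i : ι) :
    piRed I ι x i = Ideal.Quotient.mk I (x i) := rfl

lemma piRed_surjective (ι : Type u) : Function.Surjective (piRed I ι) := fun y =>
  ⟨fun i => (Ideal.Quotient.mk_surjective (y i)).choose,
    funext fun i => (Ideal.Quotient.mk_surjective (y i)).choose_spec⟩

lemma ker_piRed (ι : Type u) [Fintype ι] [DecidableEq ι] :
    LinearMap.ker (piRed I ι) = I • ⊤ := by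
  apply le_antisymm
  · intro k hk
    have h2 : ∀ i, Ideal.Quotient.mk I (k i) = 0 := fun i => congrFun hk i
    have : k = ∑ i, (k i) • (Pi.single i (1 : R) : ι → R) := by
      ext j
      simp [Finset.sum_apply, Pi.single_apply]
    rw [this]
    refine Submodule.sum_mem _ fun i _ => ?_
    exact Submodule.smul_mem_smul (Ideal.Quotient.eq_zero_iff_mem.1 (h2 i)) Submodule.mem_top
  · rw [Submodule.smul_le]
    intro r hr n _
    rw [LinearMap.mem_ker]
    ext i
    simp [piRed_apply, Ideal.Quotient.eq_zero_iff_mem.2 hr]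

/-- finitely generated stably free modules lift along `R → R/I` when `I ⊆ rad R` -/
theorem exists_stablyFree_lift (hI : I ≤ Ideal.jacobson ⊥) (T : Type u) [AddCommGroup T]
    [Module (R ⧸ I) T] [Module.Finite (R ⧸ I) T] [Module.IsStablyFree (R ⧸ I) T] :
    ∃ X : ModuleCat.{u} R, (Module.Finite R X ∧ Module.IsStablyFree R X) ∧
      Nonempty (TensorProduct R (R ⧸ I) X ≃ₗ[R ⧸ I] T) := by
  classical
  let _ : Module R T := Module.compHom T (Ideal.Quotient.mk I)
  have : IsScalarTower R (R ⧸ I) T := IsScalarTower.of_algebraMap_smul fun r x => rfl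
  obtain ⟨N, _, _, _, _, _⟩ := Module.IsStablyFree.exist_free_prod (R ⧸ I) T
  let ι₁ := Module.Free.ChooseBasisIndex (R ⧸ I) (T × N)
  let ι₂ := Module.Free.ChooseBasisIndex (R ⧸ I) N
  let α : (T × N) ≃ₗ[R ⧸ I] (ι₁ → R ⧸ I) := (Module.Free.chooseBasis (R ⧸ I) (T × N)).equivFun
  let β : N ≃ₗ[R ⧸ I] (ι₂ → R ⧸ I) := (Module.Free.chooseBasis (R ⧸ I) N).equivFun
  let gbar : (ι₁ → R ⧸ I) →ₗ[R ⧸ I] (ι₂ → R ⧸ I) :=
    β.toLinearMap ∘ₗ (LinearMap.snd (R ⧸ I) T N) ∘ₗ α.symm.toLinearMap
  have hgbar : ∀ y, gbar y = β (α.symm y).2 := fun y => rfl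
  have hgbar_surj : Function.Surjective gbar := fun z =>
    ⟨α (0, β.symm z), by rw [hgbar]; simp⟩
  have hproj : Module.Projective R (⊤ : Submodule R (ι₂ → R)) :=
    Module.Projective.of_equiv (Submodule.topEquiv (R := R) (M := ι₂ → R)).symm
  have hfin : Module.Finite R (⊤ : Submodule R (ι₂ → R)) :=
    Module.Finite.equiv (Submodule.topEquiv (R := R) (M := ι₂ → R)).symm
  obtain ⟨g, hgs, hcomm, hk1, hk2, ⟨e⟩⟩ := step_lemma I (piRed I ι₂) (piRed I ι₁)
    (gbar.restrictScalars R) (piRed_surjective ι₁) (ker_piRed ι₁) (⊤ : Submodule R (ι₂ → R))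
    (fun y => by
      obtain ⟨z, hz⟩ := piRed_surjective (I := I) ι₂ (gbar y)
      exact ⟨z, Submodule.mem_top, hz⟩)
    (fun z _ => by
      obtain ⟨y, hy⟩ := hgbar_surj (piRed I ι₂ z)
      exact ⟨y, hy⟩)
    (fun z _ hz => by
      have : z ∈ LinearMap.ker (piRed I ι₂) := hz
      rw [ker_piRed] at this
      exact this)
    (fun g h => surjective_of_le_jacobson hI g h)
  let X := LinearMap.ker g
  have hfreeTop : Module.Free R (⊤ : Submodule R (ι₂ → R)) :=
    Module.Free.of_equiv (Submodule.topEquiv (R := R) (M := ι₂ → R)).symm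
  have hfree : Module.Free R ((⊤ : Submodule R (ι₂ → R)) × X) := Module.Free.of_equiv e
  have hst : Module.IsStablyFree R X :=
    Module.IsStablyFree.of_free_prod' R X (⊤ : Submodule R (ι₂ → R))
  have hXfin : Module.Finite R X :=
    Module.Finite.of_surjective
      ((LinearMap.snd R (⊤ : Submodule R (ι₂ → R)) X) ∘ₗ e.toLinearMap)
      (fun y => by
        obtain ⟨x, hx⟩ := e.surjective (0, y)
        exact ⟨x, by simp [hx]⟩)
  let φ : X →ₗ[R] T :=
    { toFun := fun x => (α.symm (piRed I ι₁ x.1)).1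
      map_add' := fun x y => by simp
      map_smul' := fun r x => by
        have h1 : piRed I ι₁ ((r • x : X) : ι₁ → R) =
            (Ideal.Quotient.mk I r) • piRed I ι₁ (x : ι₁ → R) := by
          ext i; simp [piRed_apply]
        rw [h1, map_smul]
        rfl }
  have hφs : Function.Surjective φ := fun t => by
    obtain ⟨z, hz, hzy⟩ := hk1 (α (t, 0)) (by
      show gbar (α (t, 0)) = 0
      rw [hgbar]; simp)
    refine ⟨⟨z, hz⟩, ?_⟩
    show (α.symm (piRed I ι₁ z)).1 = t
    rw [hzy]; simp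
  have hφk : LinearMap.ker φ = I • ⊤ := by
    apply le_antisymm
    · intro x hx
      have h1 : (α.symm (piRed I ι₁ x.1)).1 = 0 := hx
      have h2 : (α.symm (piRed I ι₁ x.1)).2 = 0 := by
        have h3 : gbar (piRed I ι₁ x.1) = 0 := by
          have h4 : piRed I ι₂ (g x.1) = gbar (piRed I ι₁ x.1) := hcomm x.1
          rw [← h4]
          have hg0 : g x.1 = 0 := x.2
          rw [hg0]; simp
        rw [hgbar] at h3
        exact β.map_eq_zero_iff.1 h3
      have h4 : piRed I ι₁ x.1 = 0 := by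
        have : α.symm (piRed I ι₁ x.1) = 0 := Prod.ext h1 h2
        exact α.symm.map_eq_zero_iff.1 this
      have h5 := hk2 x.1 x.2 h4
      rw [smul_eq_map_subtype] at h5
      obtain ⟨x', hx', hxx⟩ := h5
      have : x' = x := Subtype.ext hxx
      rw [← this]; exact hx'
    · rw [Submodule.smul_le]
      intro r hr n _
      rw [LinearMap.mem_ker, map_smul]
      show (Ideal.Quotient.mk I r) • φ n = 0
      rw [Ideal.Quotient.eq_zero_iff_mem.2 hr, zero_smul]
  exact ⟨ModuleCat.of R X, ⟨hXfin, hst⟩, nonempty_tensor_equiv φ hφs hφk⟩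

end Lift

end Groth.Agent.Lib.Seat30.StablyFree
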