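import Mathlib
import Groth.Agent.Lib.Seat30LiftAcyclic
import Groth.Agent.Lib.Seat30StablyFree

/-!
# Projective modules lift along `R → R/I` for a nilpotent ideal `I`
(no finiteness assumption; idempotent lifting in the endomorphism ring of a free module)
-/

set_option autoImplicit false
universe u
open CategoryTheory TensorProduct

namespace Groth.Agent.Lib.Seat30.NilLift

open Groth.Agent.Lib.Seat30.LiftAcyclic Groth.Agent.Lib.Seat30.LiftStep
  Groth.Agent.Lib.Seat30.StablyFree

variable {R : Type u} [CommRing R] {I : Ideal R}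

/-- linear maps preserve `J • ⊤` -/
lemma map_mem_smul_top (J : Ideal R) {M M' : Type*} [AddCommMonoid M] [Module R M]
    [AddCommMonoid M'] [Module R M'] (f : M →ₗ[R] M') {x : M}
    (hx : x ∈ J • (⊤ : Submodule R M)) : f x ∈ J • (⊤ : Submodule R M') := by
  have h1 : f x ∈ Submodule.map f (J • (⊤ : Submodule R M)) := Submodule.mem_map_of_mem hx
  rw [Submodule.map_smul''] at h1
  exact Submodule.smul_mono le_rfl le_top h1

/-- an endomorphism with image in `I • ⊤` has `k`-th power with image in `I ^ k • ⊤` -/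
lemma pow_apply_mem {M : Type*} [AddCommGroup M] [Module R M] (a : Module.End R M)
    (ha : ∀ x, a x ∈ I • (⊤ : Submodule R M)) (k : ℕ) (x : M) :
    (a ^ k) x ∈ I ^ k • (⊤ : Submodule R M) := by
  induction k generalizing x with
  | zero => simp
  | succ k ih =>
    rw [show a ^ (k + 1) = a * a ^ k from pow_succ' a k, Module.End.mul_apply]
    have h1 : a ((a ^ k) x) ∈ Submodule.map a (I ^ k • (⊤ : Submodule R M)) :=
      Submodule.mem_map_of_mem (ih x)
    rw [Submodule.map_smul''] at h1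
    have h2 : Submodule.map a ⊤ ≤ I • (⊤ : Submodule R M) := by
      rintro _ ⟨y, -, rfl⟩
      exact ha y
    have h3 := Submodule.smul_mono (le_refl (I ^ k)) h2 h1
    rw [← Submodule.mul_smul, ← pow_succ] at h3
    exact h3

/-- projective modules lift along `R → R/I` for nilpotent `I` -/
theorem exists_projective_lift (hI : IsNilpotent I) (T : Type u) [AddCommGroup T]
    [Module (R ⧸ I) T] [Module.Projective (R ⧸ I) T] :
    ∃ X : ModuleCat.{u} R, Module.Projective R X ∧
      Nonempty (TensorProduct R (R ⧸ I) X ≃ₗ[R ⧸ I] T) := by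
  classical
  obtain ⟨k, hk⟩ := hI
  let _ : Module R T := Module.compHom T (Ideal.Quotient.mk I)
  have : IsScalarTower R (R ⧸ I) T := IsScalarTower.of_algebraMap_smul fun r x => rfl
  let F := T →₀ R
  let q0 : F →ₗ[R] T := Finsupp.linearCombination R id
  have hq0 : Function.Surjective q0 := fun t => ⟨Finsupp.single t 1, by
    show Finsupp.linearCombination R id (Finsupp.single t (1 : R)) = t
    rw [Finsupp.linearCombination_single, one_smul]; rfl⟩
  let q : (R ⧸ I) ⊗[R] F →ₗ[R ⧸ I] T := LinearMap.liftBaseChange (R ⧸ I) q0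
  have hq1 : ∀ x, q ((1 : R ⧸ I) ⊗ₜ[R] x) = q0 x := fun x => by simp [q]
  have hq : Function.Surjective q := fun t => by
    obtain ⟨x, rfl⟩ := hq0 t
    exact ⟨(1 : R ⧸ I) ⊗ₜ[R] x, hq1 x⟩
  obtain ⟨j, hj⟩ := Module.projective_lifting_property q LinearMap.id hq
  have hj' : ∀ t, q (j t) = t := fun t => LinearMap.congr_fun hj t
  let ebar : Module.End (R ⧸ I) ((R ⧸ I) ⊗[R] F) := j ∘ₗ q
  have hebar_apply : ∀ z, ebar z = j (q z) := fun z => rfl
  have hebar : IsIdempotentElem ebar := by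
    apply LinearMap.ext
    intro z
    rw [Module.End.mul_apply, hebar_apply, hebar_apply, hj']
  let ρ : Module.End R F →+* Module.End (R ⧸ I) ((R ⧸ I) ⊗[R] F) :=
    (Module.End.baseChangeHom R (R ⧸ I) F).toRingHom
  have hρ : ∀ a : Module.End R F, ∀ x : F,
      ρ a ((1 : R ⧸ I) ⊗ₜ[R] x) = (1 : R ⧸ I) ⊗ₜ[R] a x := fun a x => rfl
  -- surjectivity of `ρ`
  have hρs : ∀ h : Module.End (R ⧸ I) ((R ⧸ I) ⊗[R] F), ∃ a, ρ a = h := by
    intro h
    have hmk : Function.Surjective (TensorProduct.mk R (R ⧸ I) F 1) := fun t =>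
      exists_one_tmul (I := I) F t
    obtain ⟨a, ha⟩ := Module.projective_lifting_property (TensorProduct.mk R (R ⧸ I) F 1)
      ((h.restrictScalars R) ∘ₗ (TensorProduct.mk R (R ⧸ I) F 1)) hmk
    have ha' : ∀ x, (1 : R ⧸ I) ⊗ₜ[R] a x = h ((1 : R ⧸ I) ⊗ₜ[R] x) := fun x =>
      LinearMap.congr_fun ha x
    refine ⟨a, ?_⟩
    apply TensorProduct.AlgebraTensorModule.ext
    intro s x
    have hs : s ⊗ₜ[R] x = s • ((1 : R ⧸ I) ⊗ₜ[R] x) := by
      rw [TensorProduct.smul_tmul', smul_eq_mul, mul_one]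
    rw [hs, map_smul, map_smul, hρ, ha']
  -- the kernel of `ρ` is nil
  have hρk : ∀ a ∈ RingHom.ker ρ, IsNilpotent a := by
    intro a ha
    have ha0 : ρ a = 0 := ha
    have h1 : ∀ x, a x ∈ I • (⊤ : Submodule R F) := fun x => by
      rw [← one_tmul_eq_zero_iff (I := I), ← hρ, ha0]
      rfl
    refine ⟨k, ?_⟩
    apply LinearMap.ext
    intro x
    have h2 := pow_apply_mem a h1 k x
    rw [hk, Ideal.zero_eq_bot, Submodule.bot_smul] at h2
    exact (Submodule.mem_bot R).1 h2
  obtain ⟨e', he', hρe⟩ := @exists_isIdempotentElem_eq_of_ker_isNilpotent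
    (Module.End R F) (Module.End (R ⧸ I) ((R ⧸ I) ⊗[R] F)) _ _ ρ hρk ebar
    (by obtain ⟨a, ha⟩ := hρs ebar; exact ⟨a, ha⟩) hebar
  have he'2 : ∀ x, e' (e' x) = e' x := fun x => by
    rw [← Module.End.mul_apply, he'.eq]
  let P : Submodule R F := LinearMap.range e'
  have hPfix : ∀ x : P, e' x.1 = x.1 := by
    rintro ⟨_, y, rfl⟩
    exact he'2 y
  let s : F →ₗ[R] P := e'.rangeRestrict
  have hsP : ∀ x : P, s x.1 = x := fun x => Subtype.ext (hPfix x)
  have hPproj : Module.Projective R P :=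
    Module.Projective.of_split P.subtype s (LinearMap.ext hsP)
  let φ : P →ₗ[R] T := q0.domRestrict P
  have hφ_apply : ∀ x : P, φ x = q0 x.1 := fun x => rfl
  have hone : ∀ y : F, (1 : R ⧸ I) ⊗ₜ[R] e' y = j (q ((1 : R ⧸ I) ⊗ₜ[R] y)) := fun y => by
    rw [← hρ, hρe]
    exact hebar_apply _
  have hφs : Function.Surjective φ := fun t => by
    obtain ⟨y, hy⟩ := exists_one_tmul (I := I) F (j t)
    refine ⟨⟨e' y, y, rfl⟩, ?_⟩
    rw [hφ_apply]
    show q0 (e' y) = t
    rw [← hq1, hone, hy, hj', hj']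
  have hφk : LinearMap.ker φ = I • ⊤ := by
    apply le_antisymm
    · intro x hx
      have h1 : q0 x.1 = 0 := hx
      have h2 : (1 : R ⧸ I) ⊗ₜ[R] x.1 = 0 := by
        rw [← hPfix x, hone, hq1, h1, map_zero]
      have h3 : x.1 ∈ I • (⊤ : Submodule R F) := (one_tmul_eq_zero_iff (I := I) F x.1).1 h2
      have h4 := map_mem_smul_top I s h3
      rw [hsP] at h4
      exact h4
    · rw [Submodule.smul_le]
      intro r hr n _
      rw [LinearMap.mem_ker, map_smul]
      show (Ideal.Quotient.mk I r) • φ n = 0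
      rw [Ideal.Quotient.eq_zero_iff_mem.2 hr, zero_smul]
  exact ⟨ModuleCat.of R P, hPproj, nonempty_tensor_equiv φ hφs hφk⟩

end Groth.Agent.Lib.Seat30.NilLift
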