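import Mathlib
import Groth.Agent.Lib.Seat30DerNak
set_option backward.isDefEq.respectTransparency.types false

/-!
# Tor bounds from projective dimension (seat 30)

If `G` is a termwise flat complex, exact outside `[a, b]`, and `N` is a module of projective
dimension `≤ n`, then `N ⊗ G` is exact outside `[a - n, b]`.
-/

set_option autoImplicit false
set_option maxHeartbeats 400000
universe u
open CategoryTheory CategoryTheory.Limits MonoidalCategory HomologicalComplex TensorProduct
attribute [local instance] HasDerivedCategory.standard

namespace Groth.Agent.Lib.Seat30.PdTor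

open DerivedCategory Groth.Agent.Lib.Helper1.KF Groth.Agent.Lib.Helper1.Tor
  Groth.Agent.Lib.Helper1.TorM Groth.Agent.Lib.Helper1.TorN Groth.Agent.Lib.Helper1.TorO

variable {C : Type u} [CommRing C]

/-- tensoring with a flat module preserves exactness -/
lemma exactAt_TC_of_flat (N : ModuleCat.{u} C) [Module.Flat C N] (G : Cx C) (i : ℤ)
    (h : G.ExactAt i) : ((TC N).obj G).ExactAt i := by
  rw [exactAt_TC_iff N G (i - 1) i (i + 1) (by lia) rfl]
  rw [exactAt_iff_fexact G (i - 1) i (i + 1) (by lia) rfl] at h
  exact Module.Flat.lTensor_exact N h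

/-- for a short exact sequence of modules `0 → N' → P → N → 0` and a termwise flat complex `G`:
exactness of `P ⊗ G` in degree `i` and of `N' ⊗ G` in degree `i + 1` give exactness of `N ⊗ G` in
degree `i` -/
lemma exactAt_TC_X₃ (S : ShortComplex (ModuleCat.{u} C)) (hS : S.ShortExact) (G : Cx C)
    (hG : DRing.TermwiseFlat G) (i : ℤ) (h2 : ((TC S.X₂).obj G).ExactAt i)
    (h1 : ((TC S.X₁).obj G).ExactAt (i + 1)) : ((TC S.X₃).obj G).ExactAt i := by
  have hT := TCshort_shortExact S hS G hG
  have hex := hT.homology_exact₃ i (i + 1) (by simp)
  rw [HomologicalComplex.exactAt_iff_isZero_homology] at h1 h2 ⊢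
  exact hex.isZero_X₂ (h2.eq_of_src _ _) (h1.eq_of_tgt _ _)

/-- **Tor dimension bound from projective dimension**: if `G` is termwise flat and exact outside
`[a, b]` and `N` has projective dimension `≤ n`, then `N ⊗ G` is exact outside `[a - n, b]`. -/
theorem exactAt_TC_of_hasProjectiveDimensionLT (G : Cx C) (hG : DRing.TermwiseFlat G) (a b : ℤ)
    (hex : ∀ i : ℤ, (i < a ∨ b < i) → G.ExactAt i) :
    ∀ (n : ℕ) (N : ModuleCat.{u} C), HasProjectiveDimensionLT N (n + 1) →
      ∀ i : ℤ, (i < a - n ∨ b < i) → ((TC N).obj G).ExactAt i := by
  intro n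
  induction n with
  | zero =>
    intro N hN i hi
    have hN1 : HasProjectiveDimensionLT N 1 := hN
    have : Projective N := projective_iff_hasProjectiveDimensionLT_one.2 hN1
    have : Module.Projective C N := ModuleCat.projective_of_module_projective _
    exact exactAt_TC_of_flat N G i (hex i (by simpa using hi))
  | succ n ih =>
    intro N hN i hi
    let S : ShortComplex (ModuleCat.{u} C) :=
      ShortComplex.mk (kernel.ι (Projective.π N)) (Projective.π N) (kernel.condition _)
    have hS : S.ShortExact :=
      { exact := ShortComplex.exact_of_f_is_kernel _ (kernelIsKernel _)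
        mono_f := inferInstance
        epi_g := inferInstance }
    have hP : Projective S.X₂ := Projective.projective_over N
    have hN' : HasProjectiveDimensionLT S.X₁ (n + 1) :=
      (hS.hasProjectiveDimensionLT_X₃_iff n hP).1 hN
    have hPm : Module.Projective C S.X₂ := ModuleCat.projective_of_module_projective _
    have h2 : ((TC S.X₂).obj G).ExactAt i := by
      refine exactAt_TC_of_flat S.X₂ G i (hex i ?_)
      rcases hi with hi | hi
      · left; push_cast at hi; lia
      · right; exact hi
    have h1 : ((TC S.X₁).obj G).ExactAt (i + 1) := by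
      refine ih S.X₁ hN' (i + 1) ?_
      rcases hi with hi | hi
      · left; push_cast at hi; lia
      · right; lia
    exact exactAt_TC_X₃ S hS G hG i h2 h1

end Groth.Agent.Lib.Seat30.PdTor
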