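import Mathlib

/-!
# Tensoring a complex of flat modules with quotients by regular sequences (seat 30)

For a cochain complex `E` of modules over a commutative ring `B` and a `B`-module `N`,
`TEx E N j` says that `N ⊗_B E` is exact in degree `j`.  If the terms of `E` are flat and
`rs` is a weakly regular sequence on `N` of length `n`, exactness of `N ⊗ E` outside `[a, b]`
implies exactness of `(N / rs N) ⊗ E` outside `[a - n, b]`.
-/

set_option autoImplicit false
universe u v
open CategoryTheory TensorProduct Pointwise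

namespace Groth.Agent.Lib.Seat30.RegFibre

variable {B : Type u} [CommRing B] (E : CochainComplex (ModuleCat.{u} B) ℤ)

/-- `N ⊗_B E` is exact in degree `j` -/
def TEx (N : Type v) [AddCommGroup N] [Module B N] (j : ℤ) : Prop :=
  Function.Exact ((E.d (j - 1) j).hom.lTensor N) ((E.d j (j + 1)).hom.lTensor N)

lemma tex_iff (N : Type v) [AddCommGroup N] [Module B N] (i j k : ℤ) (hij : i + 1 = j)
    (hjk : j + 1 = k) :
    TEx E N j ↔ Function.Exact ((E.d i j).hom.lTensor N) ((E.d j k).hom.lTensor N) := by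
  obtain rfl : i = j - 1 := by omega
  obtain rfl : k = j + 1 := by omega
  rfl

lemma tex_congr {N N' : Type v} [AddCommGroup N] [Module B N] [AddCommGroup N'] [Module B N']
    (e : N ≃ₗ[B] N') (j : ℤ) : TEx E N j ↔ TEx E N' j := by
  unfold TEx
  symm
  refine Function.Exact.iff_of_ladder_linearEquiv (e₁ := e.rTensor (E.X (j - 1)))
    (e₂ := e.rTensor (E.X j)) (e₃ := e.rTensor (E.X (j + 1))) ?_ ?_
  · ext x y
    simp
  · ext x y
    simp

lemma lTensor_d_comp_d (N : Type v) [AddCommGroup N] [Module B N] (i j k : ℤ)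
    (z : N ⊗[B] E.X i) :
    (E.d j k).hom.lTensor N ((E.d i j).hom.lTensor N z) = 0 := by
  have h : (E.d j k).hom ∘ₗ (E.d i j).hom = 0 := by
    rw [← ModuleCat.hom_comp, E.d_comp_d]
    rfl
  rw [← LinearMap.comp_apply, ← LinearMap.lTensor_comp, h, LinearMap.lTensor_zero,
    LinearMap.zero_apply]

lemma rTensor_lTensor_comm {N N' : Type v} [AddCommGroup N] [Module B N] [AddCommGroup N']
    [Module B N'] (f : N →ₗ[B] N') (i j : ℤ) (z : N ⊗[B] E.X i) :
    (E.d i j).hom.lTensor N' (f.rTensor (E.X i) z) =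
      f.rTensor (E.X j) ((E.d i j).hom.lTensor N z) := by
  rw [← LinearMap.comp_apply, ← LinearMap.comp_apply, LinearMap.lTensor_comp_rTensor,
    LinearMap.rTensor_comp_lTensor]

/-- the middle part of the long exact sequence for `0 → N' → N → N'' → 0` -/
lemma tex_of_ses [∀ i, Module.Flat B (E.X i)] {N' N N'' : Type v} [AddCommGroup N'] [Module B N']
    [AddCommGroup N] [Module B N] [AddCommGroup N''] [Module B N'']
    (ι : N' →ₗ[B] N) (π : N →ₗ[B] N'') (hι : Function.Injective ι) (hπ : Function.Surjective π)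
    (hex : Function.Exact ι π) (j : ℤ) (h1 : TEx E N j) (h2 : TEx E N' (j + 1)) :
    TEx E N'' j := by
  rw [tex_iff E N' j (j + 1) (j + 1 + 1) rfl rfl] at h2
  unfold TEx at h1 ⊢
  have hιinj : ∀ i, Function.Injective (ι.rTensor (E.X i)) := fun i =>
    Module.Flat.rTensor_preserves_injective_linearMap ι hι
  have hπsurj : ∀ i, Function.Surjective (π.rTensor (E.X i)) := fun i =>
    LinearMap.rTensor_surjective (E.X i) hπ
  have hexi : ∀ i, Function.Exact (ι.rTensor (E.X i)) (π.rTensor (E.X i)) := fun i =>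
    rTensor_exact (E.X i) hex hπ
  intro z''
  constructor
  · intro hz''
    obtain ⟨z, rfl⟩ := hπsurj j z''
    rw [rTensor_lTensor_comm] at hz''
    obtain ⟨y', hy'⟩ := (hexi (j + 1) _).1 hz''
    have hdy' : (E.d (j + 1) (j + 1 + 1)).hom.lTensor N' y' = 0 := by
      apply hιinj (j + 1 + 1)
      rw [← rTensor_lTensor_comm, hy', lTensor_d_comp_d, map_zero]
    obtain ⟨x', rfl⟩ := (h2 y').1 hdy'
    have hzx : (E.d j (j + 1)).hom.lTensor N (z - ι.rTensor (E.X j) x') = 0 := by
      rw [map_sub, rTensor_lTensor_comm, hy', sub_self]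
    obtain ⟨w, hw⟩ := (h1 _).1 hzx
    refine ⟨π.rTensor (E.X (j - 1)) w, ?_⟩
    rw [rTensor_lTensor_comm, hw, map_sub, (hexi j _).2 ⟨x', rfl⟩, sub_zero]
  · rintro ⟨w, rfl⟩
    exact lTensor_d_comp_d E N'' _ _ _ w

/-- quotient by one regular element -/
lemma tex_quotSMulTop [∀ i, Module.Flat B (E.X i)] {N : Type v} [AddCommGroup N] [Module B N]
    (r : B) (hr : IsSMulRegular N r) (a b : ℤ) (h : ∀ j : ℤ, (j < a ∨ b < j) → TEx E N j)
    (j : ℤ) (hj : j < a - 1 ∨ b < j) : TEx E (QuotSMulTop r N) j :=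
  tex_of_ses E (LinearMap.lsmul B N r) (r • (⊤ : Submodule B N)).mkQ hr
    (Submodule.mkQ_surjective _) (LinearMap.exact_lsmul_mkQ_smul_top N r) j
    (h j (by omega)) (h (j + 1) (by omega))

/-- quotient by a weakly regular sequence -/
theorem tex_quot_ofList [∀ i, Module.Flat B (E.X i)] (rs : List B) :
    ∀ (N : Type v) [AddCommGroup N] [Module B N] (_ : RingTheory.Sequence.IsWeaklyRegular N rs)
      (a b : ℤ) (_ : ∀ j : ℤ, (j < a ∨ b < j) → TEx E N j) (j : ℤ)
      (_ : j < a - rs.length ∨ b < j),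
      TEx E (N ⧸ (Ideal.ofList rs • ⊤ : Submodule B N)) j := by
  induction rs with
  | nil =>
    intro N _ _ _ a b h j hj
    have h0 : (Ideal.ofList ([] : List B) • ⊤ : Submodule B N) = ⊥ := by
      rw [Ideal.ofList_nil, Submodule.bot_smul]
    rw [tex_congr E (Submodule.quotEquivOfEqBot _ h0)]
    exact h j (by simpa using hj)
  | cons r rs ih =>
    intro N _ _ hreg a b h j hj
    rw [RingTheory.Sequence.isWeaklyRegular_cons_iff] at hreg
    rw [tex_congr E (Submodule.quotOfListConsSMulTopEquivQuotSMulTopInner N r rs)]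
    refine ih (QuotSMulTop r N) hreg.2 (a - 1) b (tex_quotSMulTop E r hreg.1 a b h) j ?_
    rw [List.length_cons] at hj
    push_cast at hj
    omega

end Groth.Agent.Lib.Seat30.RegFibre
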