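import Mathlib
import Groth.Agent.Lib.Seat30RegFibre
import Groth.Agent.Lib.Helper1LBC
import Groth.Agent.Lib.Helper1Tor

/-!
# Exactness of termwise base changes in terms of `TEx` (seat 30)
-/

set_option autoImplicit false
universe u
open CategoryTheory CategoryTheory.Limits TensorProduct
attribute [local instance] HasDerivedCategory.standard

namespace Groth.Agent.Lib.Seat30.RegFibreBC

open Groth.Agent.Lib.Seat30.RegFibre Groth.Agent.Lib.Helper1.LDer Groth.Agent.Lib.Helper1.Tor

section BC

variable {A S : Type u} [CommRing A] [CommRing S]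

/-- exactness of the termwise base change along a ring map -/
lemma exactAt_bc_iff (φ : A →+* S) (K : DRing.Cx A) (j : ℤ) :
    ((bcCx φ).obj K).ExactAt j ↔
      TEx K ((ModuleCat.restrictScalars.{u} φ).obj (ModuleCat.of S S)) j := by
  rw [exactAt_iff_fexact (R := S) _ (j - 1) j (j + 1) (by omega) rfl]
  rfl

variable [Algebra A S]

/-- `S` with its restricted module structure -/
def resEquiv : ((ModuleCat.restrictScalars.{u} (algebraMap A S)).obj (ModuleCat.of S S)) ≃ₗ[A] S where
  toFun x := x
  invFun x := x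
  left_inv _ := rfl
  right_inv _ := rfl
  map_add' _ _ := rfl
  map_smul' a x := by
    have h : ∀ y : S, (algebraMap A S a) * y = a • y := fun y => (Algebra.smul_def a y).symm
    exact h x

lemma exactAt_bc_iff' (K : DRing.Cx A) (j : ℤ) :
    ((bcCx (algebraMap A S)).obj K).ExactAt j ↔ TEx K S j := by
  rw [exactAt_bc_iff, tex_congr K (resEquiv (A := A) (S := S))]

end BC

section Theta

variable {A B : Type u} [CommRing A] [CommRing B] [Algebra A B]
variable (κ : Type u) [AddCommGroup κ] [Module A κ]

section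
variable (M : Type u) [AddCommGroup M] [Module A M] [Module B M] [IsScalarTower A B M]

/-- `κ ⊗_A M ≃ (B ⊗_A κ) ⊗_B M` -/
noncomputable def theta : κ ⊗[A] M ≃+ (B ⊗[A] κ) ⊗[B] M :=
  ((TensorProduct.comm A κ M).toAddEquiv.trans
    (TensorProduct.AlgebraTensorModule.cancelBaseChange A B B M κ).symm.toAddEquiv).trans
    (TensorProduct.comm B M (B ⊗[A] κ)).toAddEquiv

lemma theta_tmul (c : κ) (m : M) : theta κ M (c ⊗ₜ[A] m) = ((1 : B) ⊗ₜ[A] c) ⊗ₜ[B] m := by
  simp [theta]
end

variable {M M' : Type u} [AddCommGroup M] [Module A M] [Module B M] [IsScalarTower A B M]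
  [AddCommGroup M'] [Module A M'] [Module B M'] [IsScalarTower A B M']

lemma theta_naturality (f : M →ₗ[B] M') (z : κ ⊗[A] M) :
    theta κ M' ((f.restrictScalars A).lTensor κ z) = f.lTensor (B ⊗[A] κ) (theta κ M z) := by
  induction z using TensorProduct.induction_on with
  | zero => simp
  | tmul c m => simp [theta_tmul]
  | add x y hx hy => simp only [map_add, hx, hy]

lemma exact_iff_theta {M'' : Type u} [AddCommGroup M''] [Module A M''] [Module B M'']
    [IsScalarTower A B M''] (f : M →ₗ[B] M') (g : M' →ₗ[B] M'') :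
    Function.Exact ((f.restrictScalars A).lTensor κ) ((g.restrictScalars A).lTensor κ) ↔
      Function.Exact (f.lTensor (B ⊗[A] κ)) (g.lTensor (B ⊗[A] κ)) := by
  symm
  refine Function.Exact.iff_of_ladder_addEquiv (theta κ M) (theta κ M') (theta κ M'')
    (f₁₂ := ((f.restrictScalars A).lTensor κ).toAddMonoidHom)
    (f₂₃ := ((g.restrictScalars A).lTensor κ).toAddMonoidHom)
    (g₁₂ := (f.lTensor (B ⊗[A] κ)).toAddMonoidHom)
    (g₂₃ := (g.lTensor (B ⊗[A] κ)).toAddMonoidHom) ?_ ?_
  · ext z
    exact (theta_naturality κ f z).symm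
  · ext z
    exact (theta_naturality κ g z).symm

end Theta

end Groth.Agent.Lib.Seat30.RegFibreBC
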