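import Mathlib
import Groth.Agent.Lib.Helper5RLR

/-!
# Lifting a regular system of parameters of a regular quotient (seat 30)

If `B` is local and `B/I` is a regular local ring of dimension `d`, there are `d` elements of
`B` forming a weakly regular sequence on the `B`-module `B/I`, with quotient `B/𝔪_B`.
-/

set_option autoImplicit false
universe u
open CategoryTheory CategoryTheory.Limits TensorProduct

namespace Groth.Agent.Lib.Seat30.RegFibreSeq

open IsLocalRing Groth.Agent.Lib.Helper5

variable {B : Type u} [CommRing B] [IsLocalRing B]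

theorem exists_regular_lift (I : Ideal B) [IsRegularLocalRing (B ⧸ I)] (d : ℕ)
    (hd : ringKrullDim (B ⧸ I) = d) :
    ∃ ys : List B, ys.length = d ∧ RingTheory.Sequence.IsWeaklyRegular (B ⧸ I) ys ∧
      Nonempty (((B ⧸ I) ⧸ (Ideal.ofList ys • ⊤ : Submodule B (B ⧸ I))) ≃ₗ[B]
        (B ⧸ maximalIdeal B)) := by
  classical
  have hfin : (maximalIdeal (B ⧸ I)).spanFinrank = d := by
    have h := IsRegularLocalRing.spanFinrank_maximalIdeal (R := B ⧸ I)
    rw [hd] at h
    exact_mod_cast h
  obtain ⟨s, hs1, hs2⟩ := Submodule.FG.exists_span_finset_card_eq_spanFinrank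
    (IsNoetherian.noetherian (maximalIdeal (B ⧸ I)))
  have hsd : s.card = d := hs1.trans hfin
  let x : Fin d → B ⧸ I := fun i => (s.equivFin.symm (Fin.cast hsd.symm i)).1
  have hrange : Set.range x = (s : Set (B ⧸ I)) := by
    ext a
    constructor
    · rintro ⟨i, rfl⟩
      exact (s.equivFin.symm (Fin.cast hsd.symm i)).2
    · intro ha
      refine ⟨Fin.cast hsd (s.equivFin ⟨a, ha⟩), ?_⟩
      simp [x]
  have hx : Ideal.span (Set.range x) = maximalIdeal (B ⧸ I) := by
    rw [hrange]
    exact hs2
  have hreg := isRegular_ofFn_of_span_eq_maximalIdeal hd x hx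
  choose y hy using fun i => Ideal.Quotient.mk_surjective (x i)
  have hmap : (List.ofFn y).map (algebraMap B (B ⧸ I)) = List.ofFn x := by
    rw [List.map_ofFn]
    congr 1
    funext i
    exact hy i
  refine ⟨List.ofFn y, List.length_ofFn, ?_, ?_⟩
  · rw [← RingTheory.Sequence.isWeaklyRegular_map_algebraMap_iff (B ⧸ I) (B ⧸ I), hmap]
    exact hreg.toIsWeaklyRegular
  · have hsub : (Ideal.ofList (List.ofFn y) • ⊤ : Submodule B (B ⧸ I)) =
        (maximalIdeal (B ⧸ I)).restrictScalars B := by
      rw [Ideal.smul_top_eq_map, Ideal.map_ofList, hmap]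
      congr 1
      rw [← hx, Ideal.ofList]
      congr 1
      ext a
      exact List.mem_ofFn' x a
    let π : B →ₗ[B] ((B ⧸ I) ⧸ (Ideal.ofList (List.ofFn y) • ⊤ : Submodule B (B ⧸ I))) :=
      (Submodule.mkQ _) ∘ₗ (Submodule.mkQ I)
    have hπ : Function.Surjective π :=
      (Submodule.mkQ_surjective _).comp (Submodule.mkQ_surjective I)
    have hker : LinearMap.ker π = maximalIdeal B := by
      ext b
      rw [LinearMap.mem_ker]
      change Submodule.mkQ _ (Submodule.mkQ I b) = 0 ↔ _
      rw [Submodule.mkQ_apply, Submodule.Quotient.mk_eq_zero, hsub, Submodule.restrictScalars_mem]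
      exact mk_mem_maximalIdeal_quotient_iff I b
    exact ⟨(π.quotKerEquivOfSurjective hπ).symm ≪≫ₗ Submodule.quotEquivOfEq _ _ hker⟩

end Groth.Agent.Lib.Seat30.RegFibreSeq
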