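import Mathlib
import Groth.Agent.Lib.Helper1LBC
import Groth.Agent.Lib.Helper1TorD
import Groth.Agent.Lib.Helper1Extend
import Groth.Agent.Lib.Helper1TorDim

/-!
# Seat31: derived base change computed on bounded above complexes of flat modules

* `isIso_Q_map_bcCx`: a quasi-isomorphism between bounded above termwise flat complexes stays a
  quasi-isomorphism after termwise extension of scalars.
* `lbcIsoOfFlat`: `K ⊗^L_A B ≅ K ⊗_A B` for a bounded above termwise flat complex `K`.
* `flat_of_hasTorAmp_zero_one`: a module `M` with `M[0]` of tor amplitude in `[0, 1]` is flat.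
-/

set_option autoImplicit false

universe u

open CategoryTheory CategoryTheory.Limits

attribute [local instance] HasDerivedCategory.standard

namespace Groth.Agent.Lib.Seat31.LBCFlat

open DerivedCategory Pretriangulated TensorProduct
open Groth.Agent.Lib.Helper1.Tor Groth.Agent.Lib.Helper1.Extend Groth.Agent.Lib.Helper1.LDer
open Groth.Agent.Lib.Helper1.ProjRes

section

variable {A B : Type u} [CommRing A] [CommRing B] [Algebra A B]

/-- naturality of `extEquiv`. -/
lemma extEquiv_naturality {M N : Type u} [AddCommGroup M] [Module A M] [AddCommGroup N]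
    [Module A N] (f : M →ₗ[A] N) (x : (ext A B).obj (ModuleCat.of A M)) :
    extEquiv (A := A) (B := B) N (((ext A B).map (ModuleCat.ofHom f)).hom x) =
      f.lTensor B (extEquiv (A := A) (B := B) M x) := by
  induction x using TensorProduct.induction_on with
  | zero =>
    have h1 : ((ext A B).map (ModuleCat.ofHom f)).hom (0 : (ext A B).obj (ModuleCat.of A M)) = 0 :=
      map_zero _
    have h2 : extEquiv (A := A) (B := B) M 0 = 0 := map_zero _
    have h3 : extEquiv (A := A) (B := B) N 0 = 0 := map_zero _
    exact ((congrArg (extEquiv (A := A) (B := B) N) h1).trans h3).trans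
      ((congrArg (f.lTensor B) h2).trans (map_zero _)).symm
  | tmul b m => rfl
  | add x y hx hy =>
    have h1 : ((ext A B).map (ModuleCat.ofHom f)).hom
        ((show (ext A B).obj (ModuleCat.of A M) from x) +
          (show (ext A B).obj (ModuleCat.of A M) from y)) = _ + _ := map_add _ _ _
    have h2 : extEquiv (A := A) (B := B) M
        ((show (ext A B).obj (ModuleCat.of A M) from x) +
          (show (ext A B).obj (ModuleCat.of A M) from y)) = _ + _ := map_add _ _ _
    refine ((congrArg (extEquiv (A := A) (B := B) N) h1).trans (map_add _ _ _)).trans ?_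
    refine (congrArg₂ (· + ·) hx hy).trans ?_
    exact ((congrArg (f.lTensor B) h2).trans (map_add _ _ _)).symm

open Groth.Agent.Lib.Helper1.TorDim in
/-- termwise extension of scalars preserves exactness of bounded above flat complexes above the
bound. -/
lemma exactAt_bcCx_of_flat (K : DRing.Cx A) (b : ℤ) (hb : DRing.VanishesAbove K b)
    (hflat : DRing.TermwiseFlat K) (n : ℤ) (hex : ∀ j : ℤ, n < j → K.ExactAt j) (j : ℤ)
    (hj : n < j) : ((bcCx (algebraMap A B)).obj K).ExactAt j := by
  have h1 := exactAt_TC_of_flat K b hb hflat n hex (ModuleCat.of A B) j hj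
  rw [exactAt_TC_iff (ModuleCat.of A B) K (j - 1) j (j + 1) (by lia) rfl] at h1
  rw [exactAt_iff_fexact _ (j - 1) j (j + 1) (by lia) rfl]
  refine exact_of_ladder _ _ _ _
    (extEquiv (A := A) (B := B) (K.X (j - 1))).symm.toEquiv
    (extEquiv (A := A) (B := B) (K.X j)).symm.toEquiv
    (extEquiv (A := A) (B := B) (K.X (j + 1))).symm.toEquiv
    (map_zero (extEquiv (A := A) (B := B) (K.X (j + 1))).symm) ?_ ?_ h1
  · intro x
    apply (extEquiv (A := A) (B := B) (K.X j)).injective
    refine (extEquiv_naturality (K.d (j - 1) j).hom _).trans ?_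
    exact (congrArg _ ((extEquiv (A := A) (B := B) (K.X (j - 1))).apply_symm_apply x)).trans
      ((extEquiv (A := A) (B := B) (K.X j)).apply_symm_apply _).symm
  · intro x
    apply (extEquiv (A := A) (B := B) (K.X (j + 1))).injective
    refine (extEquiv_naturality (K.d j (j + 1)).hom _).trans ?_
    exact (congrArg _ ((extEquiv (A := A) (B := B) (K.X j)).apply_symm_apply x)).trans
      ((extEquiv (A := A) (B := B) (K.X (j + 1))).apply_symm_apply _).symm

/-- a quasi-isomorphism between bounded above termwise flat complexes stays a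
quasi-isomorphism after termwise extension of scalars. -/
theorem isIso_Q_map_bcCx {P E : DRing.Cx A} (f : P ⟶ E) (b b' : ℤ)
    (hPb : DRing.VanishesAbove P b) (hEb : DRing.VanishesAbove E b') (hP : DRing.TermwiseFlat P)
    (hE : DRing.TermwiseFlat E) (hf : IsIso (Q.map f)) :
    IsIso (Q.map ((bcCx (algebraMap A B)).map f)) := by
  have hT := DerivedCategory.mappingCone_triangle_distinguished f
  have hz : IsZero (Q.obj (CochainComplex.mappingCone f)) :=
    (Triangle.isZero₃_iff_isIso₁ _ hT).2 hf
  have hex : ∀ j : ℤ, (CochainComplex.mappingCone f).ExactAt j := exactAt_of_isZero_Q _ hz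
  have hex' : ∀ j : ℤ,
      ((bcCx (algebraMap A B)).obj (CochainComplex.mappingCone f)).ExactAt j := fun j =>
    exactAt_bcCx_of_flat _ _ (vanishesAbove_mappingCone f b b' hPb hEb)
      (termwiseFlat_mappingCone f hP hE) (j - 1) (fun k _ => hex k) j (by lia)
  have hz' : IsZero (Q.obj ((bcCx (algebraMap A B)).obj (CochainComplex.mappingCone f))) :=
    isZero_Q_of_exactAt _ hex'
  have e := CochainComplex.mappingCone.mapHomologicalComplexIso f (ext A B)
  have hz'' : IsZero (Q.obj (CochainComplex.mappingCone ((bcCx (algebraMap A B)).map f))) :=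
    hz'.of_iso (Q.mapIso e).symm
  have hT' := DerivedCategory.mappingCone_triangle_distinguished ((bcCx (algebraMap A B)).map f)
  exact (Triangle.isZero₃_iff_isIso₁ _ hT').1 hz''

/-- `K ⊗^L_A B ≅ K ⊗_A B` for a bounded above termwise flat complex `K`. -/
theorem nonempty_lbcIso_of_flat [DRing.HasLBaseChange (algebraMap A B)] (E : DRing.Cx A) (b : ℤ)
    (hEb : DRing.VanishesAbove E b) (hE : DRing.TermwiseFlat E) :
    Nonempty ((DRing.LBaseChange (algebraMap A B)).obj (Q.obj E) ≅
      Q.obj ((bcCx (algebraMap A B)).obj E)) := by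
  have hEle : E.IsStrictlyLE b := by
    rw [CochainComplex.isStrictlyLE_iff]
    exact hEb
  obtain ⟨P, p, hp, hPproj, hPle⟩ := exists_proj_res E b
  have hKP : P.IsKProjective := CochainComplex.isKProjective_of_projective P b
  have hpi : IsIso (Q.map p) := (DerivedCategory.isIso_Q_map_iff_quasiIso (φ := p)).2 hp
  have hPb : DRing.VanishesAbove P b := fun i hi => P.isZero_of_isStrictlyLE b i hi
  have hPf : DRing.TermwiseFlat P := fun i =>
    have := hPproj i
    have : Module.Projective A (P.X i) := ModuleCat.projective_of_module_projective _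
    inferInstance
  have hbi : IsIso (Q.map ((bcCx (algebraMap A B)).map p)) :=
    isIso_Q_map_bcCx p b b hPb hEb hPf hE hpi
  exact ⟨((DRing.LBaseChange (algebraMap A B)).mapIso (asIso (Q.map p))).symm ≪≫
    lbcIso (algebraMap A B) P ≪≫ asIso (Q.map ((bcCx (algebraMap A B)).map p))⟩

end

section

open Groth.Agent.Lib.Helper1.TorDim

variable {R : Type u} [CommRing R]

/-- a module `M` such that `M[0]` has tor amplitude in `[0, 1]` is flat. -/
theorem flat_of_hasTorAmp_zero_one (M : Type u) [AddCommGroup M] [Module R M]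
    (h : DRing.HasTorAmplitudeIn R 0 1 (Dual.inD R M)) : Module.Flat R M := by
  rw [← hasTorDimLE_zero_iff_flat]
  obtain ⟨E, hE, hEf, ⟨e'⟩⟩ := h
  intro N _ _ p hp
  let P := ProjectiveResolution.of (ModuleCat.of R M)
  have e : Q.obj P.cochainComplex ≅ Dual.inD R M := resIso M P
  have hGb : DRing.VanishesAbove P.cochainComplex 0 :=
    fun i hi => P.cochainComplex.isZero_of_isStrictlyLE 0 i hi
  have hGf : DRing.TermwiseFlat P.cochainComplex :=
    termwiseFlat_of_projective P.cochainComplex (fun k => inferInstance)
  have htv : TorVan P.cochainComplex 0 1 :=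
    torVan_of_iso P.cochainComplex E 0 hGb hGf 0 1 hE hEf (e' ≪≫ e.symm)
  obtain ⟨q, rfl⟩ : ∃ q, p = q + 1 := ⟨p - 1, by omega⟩
  exact (exactAt_TC_iff_subsingleton_tor M N P q).1
    (htv (ModuleCat.of R N) _ (Or.inl (by push_cast; omega)))

end

end Groth.Agent.Lib.Seat31.LBCFlat
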