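import Mathlib
import Groth.Agent.Lib.Seat30RegFibreBC
import Groth.Agent.Lib.Seat30RegFibreSeq
import Groth.Agent.Lib.Seat30MinimalLocal
import Groth.Agent.Lib.Seat30HasLDer
import Groth.Agent.Lib.Seat31LBCFlat

/-!
# Perfectness from a flat local homomorphism with regular closed fibre (seat 30)
-/

set_option autoImplicit false
universe u
open CategoryTheory CategoryTheory.Limits TensorProduct
attribute [local instance] HasDerivedCategory.standard

namespace Groth.Agent.Lib.Seat30.RegFibreMain

open Groth.Agent.Lib.Seat30.RegFibre Groth.Agent.Lib.Seat30.RegFibreBC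
  Groth.Agent.Lib.Seat30.RegFibreSeq Groth.Agent.Lib.Seat30.MinimalLocal
  Groth.Agent.Lib.Seat30.Minimal Groth.Agent.Lib.Seat30.LiftMaps
  Groth.Agent.Lib.Helper1.LDer Groth.Agent.Lib.Helper1.Tor DerivedCategory IsLocalRing

variable {A B : Type u} [CommRing A] [CommRing B] [Algebra A B]

/-- restriction of scalars of a complex -/
noncomputable abbrev resCx : DRing.Cx B ⥤ DRing.Cx A :=
  (ModuleCat.restrictScalars.{u} (algebraMap A B)).mapHomologicalComplex (ComplexShape.up ℤ)

lemma tex_restrict_iff (E : DRing.Cx B) (κ : Type u) [AddCommGroup κ] [Module A κ] (j : ℤ) :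
    TEx ((resCx (A := A)).obj E) κ j ↔ TEx E (B ⊗[A] κ) j := by
  let i1 : Module A (E.X (j - 1)) := Module.compHom (E.X (j - 1)) (algebraMap A B)
  let i2 : Module A (E.X j) := Module.compHom (E.X j) (algebraMap A B)
  let i3 : Module A (E.X (j + 1)) := Module.compHom (E.X (j + 1)) (algebraMap A B)
  have t1 : IsScalarTower A B (E.X (j - 1)) := IsScalarTower.of_algebraMap_smul fun _ _ => rfl
  have t2 : IsScalarTower A B (E.X j) := IsScalarTower.of_algebraMap_smul fun _ _ => rfl
  have t3 : IsScalarTower A B (E.X (j + 1)) := IsScalarTower.of_algebraMap_smul fun _ _ => rfl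
  have h := exact_iff_theta (A := A) κ (E.d (j - 1) j).hom (E.d j (j + 1)).hom
  exact h

lemma flat_restrict [Module.Flat A B] (M : ModuleCat.{u} B) [Module.Flat B M] :
    Module.Flat A ((ModuleCat.restrictScalars.{u} (algebraMap A B)).obj M) := by
  let i1 : Module A M := Module.compHom M (algebraMap A B)
  have t1 : IsScalarTower A B M := IsScalarTower.of_algebraMap_smul fun _ _ => rfl
  have h : Module.Flat A M := Module.Flat.trans A B M
  exact h

/-- the cohomology of `E ⊗_B B/𝔪_B` from that of `E ⊗_A A/𝔪_A` -/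
theorem exactAt_red [IsLocalRing A] [IsLocalRing B] [Module.Flat A B] (d : ℕ)
    [IsRegularLocalRing (B ⧸ (maximalIdeal A).map (algebraMap A B))]
    (hd : ringKrullDim (B ⧸ (maximalIdeal A).map (algebraMap A B)) = d) (a b : ℤ)
    (E : DRing.Cx B) (hflat : ∀ i, Module.Flat B (E.X i))
    (h : ∀ i : ℤ, (i < a ∨ b < i) →
      ((bcCx (algebraMap A (A ⧸ maximalIdeal A))).obj ((resCx (A := A)).obj E)).ExactAt i)
    (j : ℤ) (hj : j < a - d ∨ b < j) :
    ((bcCx (algebraMap B (B ⧸ maximalIdeal B))).obj E).ExactAt j := by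
  have h1 : ∀ i : ℤ, (i < a ∨ b < i) →
      TEx E (B ⧸ (maximalIdeal A).map (algebraMap A B)) i := fun i hi => by
    have h2 := (exactAt_bc_iff' _ i).1 (h i hi)
    rw [tex_restrict_iff] at h2
    exact (tex_congr E (Algebra.TensorProduct.quotIdealMapEquivTensorQuot B
      (maximalIdeal A)).symm.toLinearEquiv i).1 h2
  obtain ⟨ys, hlen, hreg, ⟨eq⟩⟩ := exists_regular_lift ((maximalIdeal A).map (algebraMap A B)) d hd
  have h3 := tex_quot_ofList E ys _ hreg a b h1 j (by rw [hlen]; exact hj)
  rw [tex_congr E eq] at h3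
  exact (exactAt_bc_iff' _ j).2 h3

theorem main [IsLocalRing A] [IsLocalRing B] [Module.Flat A B] (d : ℕ)
    [IsRegularLocalRing (B ⧸ (maximalIdeal A).map (algebraMap A B))]
    (hd : ringKrullDim (B ⧸ (maximalIdeal A).map (algebraMap A B)) = d)
    [instA : DRing.HasLBaseChange (algebraMap A (A ⧸ maximalIdeal A))] (a b : ℤ) (K : Dual.D B)
    (hK : DRing.IsPseudoCoherent' B K)
    (h : ∀ i : ℤ, (i < a ∨ b < i) → Subsingleton (Dual.HD (A ⧸ maximalIdeal A)
      ((DRing.LBaseChange (algebraMap A (A ⧸ maximalIdeal A))).obj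
        ((DRing.restrictD (algebraMap A B)).obj K)) i)) :
    DRing.IsPerfect B K ∧ DRing.HasTorAmplitudeIn B (a - d) b K := by
  have instB : DRing.HasLBaseChange (Ideal.Quotient.mk (maximalIdeal B)) :=
    Groth.Agent.Lib.Seat30.HasLDer.hasLBaseChange _
  obtain ⟨E, c, hEb, hEff, ⟨eK⟩⟩ := id hK
  have hEfree : ∀ i, Module.Free B (E.X i) := fun i => (hEff i).2
  have hEfin : ∀ i, Module.Finite B (E.X i) := fun i => (hEff i).1
  have hEflat : ∀ i, Module.Flat B (E.X i) := fun i => by
    have := hEfree i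
    infer_instance
  -- the restriction of `E` to `A`
  have hRb : DRing.VanishesAbove ((resCx (A := A)).obj E) c := fun i hi =>
    (ModuleCat.restrictScalars.{u} (algebraMap A B)).map_isZero (hEb i hi)
  have hRflat : DRing.TermwiseFlat ((resCx (A := A)).obj E) := fun i => by
    have := hEflat i
    exact flat_restrict (E.X i)
  let e1 : (DRing.restrictD (algebraMap A B)).obj K ≅ Q.obj ((resCx (A := A)).obj E) :=
    (DRing.restrictD (algebraMap A B)).mapIso eK.symm ≪≫
      (ModuleCat.restrictScalars.{u} (algebraMap A B)).mapDerivedCategoryFactors.app E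
  obtain ⟨e2⟩ := Groth.Agent.Lib.Seat31.LBCFlat.nonempty_lbcIso_of_flat (A := A)
    (B := A ⧸ maximalIdeal A) ((resCx (A := A)).obj E) c hRb hRflat
  let e3 := (DRing.LBaseChange (algebraMap A (A ⧸ maximalIdeal A))).mapIso e1 ≪≫ e2
  have hex : ∀ i : ℤ, (i < a ∨ b < i) →
      ((bcCx (algebraMap A (A ⧸ maximalIdeal A))).obj ((resCx (A := A)).obj E)).ExactAt i := by
    intro i hi
    have := h i hi
    have hs : Subsingleton (((bcCx (algebraMap A (A ⧸ maximalIdeal A))).obj
        ((resCx (A := A)).obj E)).homology i) := (hdEquiv e3 i).symm.toEquiv.subsingleton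
    rw [HomologicalComplex.exactAt_iff_isZero_homology]
    exact ModuleCat.isZero_of_subsingleton _
  have hred := exactAt_red d hd a b E hEflat hex
  -- the minimal complex
  obtain ⟨-, -, P, b', hPb, hPfree, hPfin, hPrank, ⟨eP⟩⟩ :=
    @exists_minimal B _ _ instB K hK
  have := isKProjective_of_free E c hEb hEfree
  have hzero : ∀ i : ℤ, (i < a - d ∨ b < i) → IsZero (P.X i) := by
    intro i hi
    have hex' : (redCx E).ExactAt i := hred i hi
    rw [HomologicalComplex.exactAt_iff_isZero_homology] at hex'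
    have hs : Subsingleton ((redCx E).homology i) := ModuleCat.subsingleton_of_isZero hex'
    have hs' : Subsingleton (Dual.HD (B ⧸ maximalIdeal B)
        ((DRing.LBaseChange (Ideal.Quotient.mk (maximalIdeal B))).obj K) i) :=
      (hdEquiv (redIso E eK) i).toEquiv.subsingleton
    have hr := hPrank i
    have h0 : Module.finrank (B ⧸ maximalIdeal B) (Dual.HD (B ⧸ maximalIdeal B)
        ((DRing.LBaseChange (Ideal.Quotient.mk (maximalIdeal B))).obj K) i) = 0 :=
      Module.finrank_zero_of_subsingleton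
    rw [h0] at hr
    have := hPfree i
    have := hPfin i
    have : Subsingleton (P.X i) := (Module.finrank_eq_zero_iff_of_free B (P.X i)).1 hr
    exact ModuleCat.isZero_of_subsingleton _
  refine ⟨⟨P, a - d, b, hzero, fun i => ⟨hPfin i, ?_⟩, ⟨eP⟩⟩, ⟨P, hzero, fun i => ?_, ⟨eP⟩⟩⟩
  · have := hPfree i
    infer_instance
  · have := hPfree i
    infer_instance

end Groth.Agent.Lib.Seat30.RegFibreMain
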