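import Mathlib

/-!
# A Schanuel type lemma for complexes (helper30)

* `nonempty_iso_biprod_of_split`: a short exact sequence of complexes `A → B → C` which is
  termwise split and such that `π : B → C` has a section (as a chain map) is split.
* `section_of_homotopy`: if `C` is contractible, any termwise section of `π : B ⟶ C` can be
  corrected into a section which is a chain map.
* `nonempty_biprod_cone_iso`: if `α : M ⟶ N` has a contractible mapping cone, then
  `N ⊞ cone(𝟙 M) ≅ M ⊞ cone(α)`.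
-/
set_option autoImplicit false
universe v u
open CategoryTheory CategoryTheory.Limits

namespace Groth.Agent.Lib.Seat30.Schanuel

section Split

variable {V : Type u} [Category.{v} V] [Preadditive V] {ι : Type*} {c : ComplexShape ι}
variable {A B C : HomologicalComplex V c}

/-- the corrected section -/
noncomputable def sec (_π : B ⟶ C) (s : ∀ n, C.X n ⟶ B.X n) (h : Homotopy (𝟙 C) 0) : C ⟶ B :=
  Homotopy.nullHomotopicMap fun i j => h.hom i j ≫ s j

lemma sec_comp (π : B ⟶ C) (s : ∀ n, C.X n ⟶ B.X n) (hs : ∀ n, s n ≫ π.f n = 𝟙 _)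
    (h : Homotopy (𝟙 C) 0) : sec π s h ≫ π = 𝟙 C := by
  rw [sec, Homotopy.nullHomotopicMap_comp]
  ext n
  have := h.comm n
  simp only [HomologicalComplex.zero_f, add_zero] at this
  rw [this]
  simp only [Homotopy.nullHomotopicMap, Category.assoc, hs, Category.comp_id]

variable (i : A ⟶ B) (π : B ⟶ C) (σ : C ⟶ B) (r : ∀ n, B.X n ⟶ A.X n)

/-- the retraction as a chain map -/
noncomputable def retr (hr : ∀ n, i.f n ≫ r n = 𝟙 _)
    (hker : ∀ n, (𝟙 B - π ≫ σ).f n ≫ r n ≫ i.f n = (𝟙 B - π ≫ σ).f n) : B ⟶ A where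
  f n := (𝟙 B - π ≫ σ).f n ≫ r n
  comm' n m _ := by
    have : Mono (i.f m) := (SplitMono.mk (r m) (hr m)).mono
    rw [← cancel_mono (i.f m)]
    simp only [Category.assoc]
    rw [← i.comm n m, hker m, ← (𝟙 B - π ≫ σ).comm n m, reassoc_of% (hker n)]

theorem nonempty_iso_biprod_of_split [HasBinaryBiproduct A C]
    (hσ : σ ≫ π = 𝟙 C) (hι : i ≫ π = 0) (hr : ∀ n, i.f n ≫ r n = 𝟙 _)
    (hker : ∀ n, (𝟙 B - π ≫ σ).f n ≫ r n ≫ i.f n = (𝟙 B - π ≫ σ).f n) :
    Nonempty (B ≅ A ⊞ C) := by
  have hιn : ∀ n, i.f n ≫ π.f n = 0 := fun n => by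
    rw [← HomologicalComplex.comp_f, hι, HomologicalComplex.zero_f]
  have hσn : ∀ n, σ.f n ≫ π.f n = 𝟙 _ := fun n => by
    rw [← HomologicalComplex.comp_f, hσ, HomologicalComplex.id_f]
  let b : BinaryBicone A C :=
    { pt := B
      fst := retr i π σ r hr hker
      snd := π
      inl := i
      inr := σ
      inl_fst := by
        ext n
        simp [retr, reassoc_of% (hιn n), hr]
      inl_snd := hι
      inr_fst := by
        ext n
        simp [retr, reassoc_of% (hσn n)]
      inr_snd := hσ }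
  have hb : b.IsBilimit := isBinaryBilimitOfTotal b (by
    ext n
    have := hker n
    simp only [HomologicalComplex.sub_f_apply, HomologicalComplex.id_f,
      HomologicalComplex.comp_f] at this
    simp only [b, retr, HomologicalComplex.add_f_apply, HomologicalComplex.comp_f,
      HomologicalComplex.sub_f_apply, HomologicalComplex.id_f, Category.assoc, this]
    abel)
  exact ⟨biprod.uniqueUpToIso A C hb⟩

/-- variant with a termwise splitting and a contractible quotient -/
theorem nonempty_iso_biprod_of_contractible [HasBinaryBiproduct A C]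
    (s : ∀ n, C.X n ⟶ B.X n) (hι : i ≫ π = 0) (hr : ∀ n, i.f n ≫ r n = 𝟙 _)
    (hs : ∀ n, s n ≫ π.f n = 𝟙 _)
    (hid : ∀ n, r n ≫ i.f n + π.f n ≫ s n = 𝟙 _)
    (h : Homotopy (𝟙 C) 0) : Nonempty (B ≅ A ⊞ C) := by
  have hσ := sec_comp π s hs h
  have hσn : ∀ n, (sec π s h).f n ≫ π.f n = 𝟙 _ := fun n => by
    rw [← HomologicalComplex.comp_f, hσ, HomologicalComplex.id_f]
  refine nonempty_iso_biprod_of_split i π (sec π s h) r hσ hι hr (fun n => ?_)
  have h1 : r n ≫ i.f n = 𝟙 _ - π.f n ≫ s n := by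
    rw [← hid n]; abel
  simp only [HomologicalComplex.sub_f_apply, HomologicalComplex.id_f,
    HomologicalComplex.comp_f]
  rw [h1]
  simp only [Preadditive.sub_comp, Preadditive.comp_sub, Category.id_comp, Category.comp_id,
    Category.assoc, reassoc_of% (hσn n)]
  abel

end Split

section Cone

open CochainComplex HomComplex mappingCone

variable {V : Type u} [Category.{v} V] [Preadditive V] [HasBinaryBiproducts V]
variable {M N : CochainComplex V ℤ} (α : M ⟶ N)

/-- the map `cone(𝟙 M) ⟶ cone(α)` -/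
noncomputable def μ : mappingCone (𝟙 M) ⟶ mappingCone α :=
  mappingCone.desc (𝟙 M) (inl α) (α ≫ inr α) (by simp)

lemma μ_snd (n : ℤ) : (μ α).f n ≫ (snd α).v n n (add_zero n) =
    (snd (𝟙 M)).v n n (add_zero n) ≫ α.f n := by
  apply mappingCone.ext_from (𝟙 M) (n + 1) n rfl
  · simp [μ]
  · simp [μ]

lemma μ_fst (n m : ℤ) (h : n + 1 = m) : (μ α).f n ≫ (fst α).1.v n m h =
    (fst (𝟙 M)).1.v n m h := by
  apply mappingCone.ext_from (𝟙 M) (n + 1) n rfl
  · subst h; simp [μ]
  · simp [μ]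

/-- the inclusion of the kernel -/
noncomputable def ii : M ⟶ N ⊞ mappingCone (𝟙 M) := biprod.lift (-α) (inr (𝟙 M))

/-- the projection -/
noncomputable def pp : N ⊞ mappingCone (𝟙 M) ⟶ mappingCone α := biprod.desc (inr α) (μ α)

/-- the termwise retraction -/
noncomputable def rr (N M : CochainComplex V ℤ) (n : ℤ) :
    (N ⊞ mappingCone (𝟙 M)).X n ⟶ M.X n :=
  (biprod.snd : N ⊞ mappingCone (𝟙 M) ⟶ _).f n ≫ (snd (𝟙 M)).v n n (add_zero n)

/-- the termwise section -/
noncomputable def ss (n : ℤ) : (mappingCone α).X n ⟶ (N ⊞ mappingCone (𝟙 M)).X n :=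
  (snd α).v n n (add_zero n) ≫ (biprod.inl : N ⟶ N ⊞ mappingCone (𝟙 M)).f n +
    (fst α).1.v n (n + 1) rfl ≫ (inl (𝟙 M)).v (n + 1) n (by lia) ≫
      (biprod.inr : _ ⟶ N ⊞ mappingCone (𝟙 M)).f n

lemma ii_pp : ii α ≫ pp α = 0 := by
  simp [ii, pp, biprod.lift_desc, μ]

lemma ii_rr (n : ℤ) : (ii α).f n ≫ rr N M n = 𝟙 _ := by
  simp [ii, rr]

lemma ss_pp (n : ℤ) : ss α n ≫ (pp α).f n = 𝟙 _ := by
  simp only [ss, pp, Preadditive.add_comp, Category.assoc,
    HomologicalComplex.biprod_inl_desc_f, HomologicalComplex.biprod_inr_desc_f]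
  rw [μ, inl_v_desc_f, add_comm]
  exact mappingCone.id_X α n (n + 1) rfl

lemma rr_ii_add (n : ℤ) : rr N M n ≫ (ii α).f n + (pp α).f n ≫ ss α n = 𝟙 _ := by
  apply HomologicalComplex.biprodX_ext_from
  · apply HomologicalComplex.biprodX_ext_to
    · simp [rr, ii, pp, ss]
    · simp [rr, ii, pp, ss]
  · apply HomologicalComplex.biprodX_ext_to
    · simp [rr, ii, pp, ss, reassoc_of% (μ_snd α n)]
    · simp only [rr, ii, pp, ss, Preadditive.comp_add, Preadditive.add_comp, Category.assoc,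
        HomologicalComplex.biprod_inr_snd_f_assoc, HomologicalComplex.biprod_lift_snd_f,
        HomologicalComplex.biprod_inr_desc_f_assoc, HomologicalComplex.biprod_inl_snd_f,
        HomologicalComplex.biprod_inr_snd_f, Category.comp_id, comp_zero, zero_add,
        Category.id_comp, reassoc_of% (μ_fst α n (n + 1) rfl)]
      rw [add_comm]
      exact mappingCone.id_X (𝟙 M) n (n + 1) rfl

/-- if `α` has a contractible cone, `N ⊞ cone(𝟙 M) ≅ M ⊞ cone(α)` -/
theorem nonempty_biprod_cone_iso (H : Homotopy (𝟙 (mappingCone α)) 0) :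
    Nonempty (N ⊞ mappingCone (𝟙 M) ≅ M ⊞ mappingCone α) :=
  nonempty_iso_biprod_of_contractible (ii α) (pp α) (rr N M) (ss α) (ii_pp α) (ii_rr α)
    (ss_pp α) (rr_ii_add α) H

end Cone

end Groth.Agent.Lib.Seat30.Schanuel
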