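import Mathlib
import Groth.Prelude.Def_DRing2
import Groth.Agent.Lib.Helper1Extend
import Groth.Agent.Lib.Helper1Cone
import Groth.Agent.Lib.Seat30DerNak
import Groth.Agent.Lib.Seat30Schanuel

/-!
# Stable isomorphism of quasi-isomorphic bounded complexes of projectives (helper30)

Main result `exists_away_iso`: if `M`, `N` are bounded complexes of finite projective `R`-modules
which are isomorphic in `D(R)` and `p` is a prime, then for some `f ∉ p` the complexes `M_f ⊞ P`
and `N_f ⊞ Q` are isomorphic, where `P`, `Q` are contractible bounded complexes of finite free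
`R_f`-modules with free boundaries.
-/
set_option autoImplicit false
universe u
open TensorProduct CategoryTheory CategoryTheory.Limits
open Groth.Agent.Lib.Helper1.Extend
attribute [local instance] HasDerivedCategory.standard

namespace Groth.Agent.Lib.Seat30.SchanuelMod

variable {R : Type u} [CommRing R]

section Loc

lemma free_away_of_dvd (X : Type u) [AddCommGroup X] [Module R X] (g f : R) (h : g ∣ f)
    [Module.Free (Localization.Away g) (Localization.Away g ⊗[R] X)] :
    Module.Free (Localization.Away f) (Localization.Away f ⊗[R] X) := by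
  have hu : IsUnit (algebraMap R (Localization.Away f) g) :=
    isUnit_of_dvd_unit (map_dvd _ h) (IsLocalization.Away.algebraMap_isUnit f)
  let _ : Algebra (Localization.Away g) (Localization.Away f) :=
    (IsLocalization.Away.lift g hu).toAlgebra
  have : IsScalarTower R (Localization.Away g) (Localization.Away f) :=
    IsScalarTower.of_algebraMap_eq (fun x => (IsLocalization.Away.lift_eq g hu x).symm)
  exact Module.Free.of_equiv (TensorProduct.AlgebraTensorModule.cancelBaseChange R
    (Localization.Away g) (Localization.Away f) (Localization.Away f) X)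

lemma exists_free_away (p : Ideal R) [p.IsPrime] (X : Type u) [AddCommGroup X] [Module R X]
    [Module.Finite R X] [Module.Projective R X] :
    ∃ g, g ∉ p ∧ Module.Free (Localization.Away g) (Localization.Away g ⊗[R] X) := by
  have : Module.FinitePresentation R X := Module.finitePresentation_of_projective R X
  have : Module.Free (Localization.AtPrime p) (LocalizedModule p.primeCompl X) :=
    Module.free_of_flat_of_isLocalRing
  obtain ⟨r, hr, hfree, -⟩ := Module.FinitePresentation.exists_free_localizedModule_powers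
    p.primeCompl (LocalizedModule.mkLinearMap p.primeCompl X) (Localization.AtPrime p)
  exact ⟨r, hr, Module.Free.of_equiv (LocalizedModule.equivTensorProduct (Submonoid.powers r) X)⟩

lemma exists_free_away_finset (p : Ideal R) [p.IsPrime] {ι : Type*} (s : Finset ι)
    (X : ι → Type u) [∀ i, AddCommGroup (X i)] [∀ i, Module R (X i)]
    (hX : ∀ i ∈ s, Module.Finite R (X i) ∧ Module.Projective R (X i)) (g : R) (hg : g ∉ p) :
    ∃ f, f ∉ p ∧ g ∣ f ∧
      ∀ i ∈ s, Module.Free (Localization.Away f) (Localization.Away f ⊗[R] X i) := by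
  classical
  induction s using Finset.induction_on with
  | empty => exact ⟨g, hg, dvd_rfl, by simp⟩
  | insert a s ha ih =>
    obtain ⟨f, hf, hgf, hfree⟩ := ih (fun i hi => hX i (Finset.mem_insert_of_mem hi))
    have := (hX a (Finset.mem_insert_self a s)).1
    have := (hX a (Finset.mem_insert_self a s)).2
    obtain ⟨g', hg', hfree'⟩ := exists_free_away p (X a)
    refine ⟨f * g', ?_, hgf.mul_right g', fun i hi => ?_⟩
    · exact fun h => (Ideal.IsPrime.mem_or_mem inferInstance h).elim hf hg'
    · rcases Finset.mem_insert.1 hi with rfl | hi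
      · exact free_away_of_dvd (X i) g' (f * g') (dvd_mul_left g' f)
      · have := hfree i hi
        exact free_away_of_dvd (X i) f (f * g') (dvd_mul_right f g')

end Loc

section Contractible

/-- boundaries of a contractible complex are direct summands -/
lemma range_d_split (C : DRing.Cx R) (H : Homotopy (𝟙 C) 0) (i : ℤ) :
    ∃ s : C.X (i + 1) →ₗ[R] LinearMap.range (C.d i (i + 1)).hom,
      s.comp (LinearMap.range (C.d i (i + 1)).hom).subtype = LinearMap.id := by
  let E : C.X (i + 1) →ₗ[R] C.X (i + 1) := (H.hom (i + 1) i ≫ C.d i (i + 1)).hom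
  have hE : ∀ x, E x ∈ LinearMap.range (C.d i (i + 1)).hom :=
    fun x => ⟨(H.hom (i + 1) i).hom x, rfl⟩
  refine ⟨E.codRestrict _ hE, ?_⟩
  ext ⟨y, z, rfl⟩
  have h1 := H.comm (i + 1)
  rw [dNext_eq H.hom (show (ComplexShape.up ℤ).Rel (i + 1) (i + 1 + 1) from rfl),
    prevD_eq H.hom (show (ComplexShape.up ℤ).Rel i (i + 1) from rfl)] at h1
  have h2 := congrArg (fun t => (C.d i (i + 1) ≫ t).hom z) h1
  simp only [HomologicalComplex.id_f, HomologicalComplex.zero_f, add_zero, Category.comp_id,
    Preadditive.comp_add, HomologicalComplex.d_comp_d_assoc, zero_comp, zero_add] at h2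
  simp only [LinearMap.coe_comp, Function.comp_apply, Submodule.coe_subtype,
    LinearMap.codRestrict_apply, LinearMap.id_coe, id_eq]
  exact h2.symm

lemma projective_range_d (C : DRing.Cx R) (H : Homotopy (𝟙 C) 0) (i : ℤ)
    [Module.Projective R (C.X (i + 1))] :
    Module.Projective R (LinearMap.range (C.d i (i + 1)).hom) := by
  obtain ⟨s, hs⟩ := range_d_split C H i
  exact Module.Projective.of_split _ s hs

/-- simultaneous freeness of the terms and boundaries of a bounded contractible complex of
finite projective modules after inverting one element outside `p`. -/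
lemma exists_away_free (p : Ideal R) [p.IsPrime] (C : DRing.Cx R) (a b : ℤ)
    (hC : DRing.VanishesOutside C a b) (hCp : DRing.TermwiseFiniteProjective C)
    (H : Homotopy (𝟙 C) 0) (g : R) (hg : g ∉ p) :
    ∃ f, f ∉ p ∧ g ∣ f ∧ ∀ i : ℤ,
      Module.Free (Localization.Away f) (Localization.Away f ⊗[R] C.X i) ∧
      Module.Free (Localization.Away f)
        (Localization.Away f ⊗[R] LinearMap.range (C.d i (i + 1)).hom) := by
  obtain ⟨f₁, hf₁, hg₁, h₁⟩ := exists_free_away_finset p (Finset.Icc a b) (fun i => C.X i)
    (fun i _ => hCp i) g hg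
  obtain ⟨f₂, hf₂, hg₂, h₂⟩ := exists_free_away_finset p (Finset.Icc a b)
    (fun i => LinearMap.range (C.d i (i + 1)).hom) (fun i _ => by
      have := (hCp i).1
      have := (hCp (i + 1)).2
      exact ⟨inferInstance, projective_range_d C H i⟩) f₁ hf₁
  refine ⟨f₂, hf₂, hg₁.trans hg₂, fun i => ?_⟩
  by_cases hi : i ∈ Finset.Icc a b
  · have := h₁ i hi
    exact ⟨free_away_of_dvd (C.X i) f₁ f₂ hg₂, h₂ i hi⟩
  · have hz : IsZero (C.X i) := hC i (by
      rw [Finset.mem_Icc] at hi
      lia)
    have : Subsingleton (C.X i) := ModuleCat.subsingleton_of_isZero hz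
    have : Subsingleton (LinearMap.range (C.d i (i + 1)).hom) :=
      ⟨fun x y => by
        obtain ⟨_, x', rfl⟩ := x
        obtain ⟨_, y', rfl⟩ := y
        rw [Subsingleton.elim x' y']⟩
    exact ⟨Module.Free.of_subsingleton _ _, Module.Free.of_subsingleton _ _⟩

end Contractible

section BaseChange

variable (S : Type u) [CommRing S] [Algebra R S]

instance additive_ext : (ext R S).Additive :=
  (ModuleCat.extendRestrictScalarsAdj (algebraMap R S)).left_adjoint_additive

/-- termwise base change of complexes -/
noncomputable abbrev FF : DRing.Cx R ⥤ DRing.Cx S :=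
  (ext R S).mapHomologicalComplex (ComplexShape.up ℤ)

/-- base change of complexes commutes with biproducts -/
noncomputable def mapBiprodIso (X Y : DRing.Cx R) :
    (FF S).obj (X ⊞ Y) ≅ (FF S).obj X ⊞ (FF S).obj Y :=
  have := preservesBinaryBiproducts_of_preservesBiproducts (FF (R := R) S)
  Functor.mapBiprod _ X Y

/-- base change of complexes preserves contractibility -/
noncomputable def mapHtpy (C : DRing.Cx R) (H : Homotopy (𝟙 C) 0) :
    Homotopy (𝟙 ((FF S).obj C)) 0 :=
  (Homotopy.ofEq (by simp)).trans
    (((ext R S).mapHomotopy H).trans (Homotopy.ofEq (by simp)))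

/-- base change of the range of a map -/
lemma free_range_ext {X Y : ModuleCat.{u} R} (d : X ⟶ Y) [Module.Flat R S]
    [Module.Free S (S ⊗[R] LinearMap.range d.hom)] :
    Module.Free S (LinearMap.range ((ext R S).map d).hom) := by
  let B : ModuleCat.{u} R := ModuleCat.of R (LinearMap.range d.hom)
  let e : X ⟶ B := ModuleCat.ofHom d.hom.rangeRestrict
  let m : B ⟶ Y := ModuleCat.ofHom (LinearMap.range d.hom).subtype
  have hd : d = e ≫ m := rfl
  have he : Epi e := (ModuleCat.epi_iff_surjective e).2 d.hom.surjective_rangeRestrict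
  have hm : Mono m := (ModuleCat.mono_iff_injective m).2 (LinearMap.range d.hom).injective_subtype
  have : (ext R S).IsLeftAdjoint :=
    (ModuleCat.extendRestrictScalarsAdj (algebraMap R S)).isLeftAdjoint
  have he' : Function.Surjective ((ext R S).map e).hom :=
    (ModuleCat.epi_iff_surjective _).1 inferInstance
  have hm' : Function.Injective ((ext R S).map m).hom :=
    (ModuleCat.mono_iff_injective _).1 inferInstance
  have hr : LinearMap.range ((ext R S).map d).hom = LinearMap.range ((ext R S).map m).hom := by
    rw [hd, Functor.map_comp, ModuleCat.hom_comp,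
      LinearMap.range_comp_of_range_eq_top _ (LinearMap.range_eq_top.2 he')]
  rw [hr]
  have : Module.Free S ((ext R S).obj B) :=
    Module.Free.of_equiv (extEquiv (A := R) (B := S) (LinearMap.range d.hom)).symm
  exact Module.Free.of_equiv (LinearEquiv.ofInjective _ hm')

/-- the properties of the base change of a contractible complex whose terms and boundaries
become free -/
lemma props (C : DRing.Cx R) (a b : ℤ) (hC : DRing.VanishesOutside C a b)
    (hCp : DRing.TermwiseFiniteProjective C) (H : Homotopy (𝟙 C) 0) [Module.Flat R S]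
    (hfree : ∀ i : ℤ, Module.Free S (S ⊗[R] C.X i) ∧
      Module.Free S (S ⊗[R] LinearMap.range (C.d i (i + 1)).hom)) :
    (∃ a' b' : ℤ, DRing.VanishesOutside ((FF S).obj C) a' b') ∧
      DRing.TermwiseFiniteFree ((FF S).obj C) ∧
      (∀ i : ℤ, Module.Free S (LinearMap.range (((FF S).obj C).d i (i + 1)).hom)) ∧
      Nonempty (Homotopy (𝟙 ((FF S).obj C)) 0) := by
  refine ⟨⟨a, b, fun i hi => (ext R S).map_isZero (hC i hi)⟩, fun i => ?_, fun i => ?_,
    ⟨mapHtpy S C H⟩⟩
  · have := (hCp i).1
    have := (hfree i).1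
    exact ⟨Module.Finite.equiv (extEquiv (A := R) (B := S) (C.X i)).symm,
      Module.Free.of_equiv (extEquiv (A := R) (B := S) (C.X i)).symm⟩
  · have := (hfree i).2
    exact free_range_ext S (C.d i (i + 1))

end BaseChange

section Main

open CochainComplex

/-- the terms of a cone are products -/
noncomputable def coneXEquiv {M N : DRing.Cx R} (α : M ⟶ N) (i : ℤ) :
    (M.X (i + 1) × N.X i) ≃ₗ[R] (mappingCone α).X i :=
  have := HomologicalComplex.HasHomotopyCofiber.hasBinaryBiproduct α i (i + 1) rfl
  (ModuleCat.biprodIsoProd (M.X (i + 1)) (N.X i)).symm.toLinearEquiv ≪≫ₗ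
    (HomologicalComplex.homotopyCofiber.XIsoBiprod α i (i + 1) rfl).symm.toLinearEquiv

lemma cone_props {M N : DRing.Cx R} (α : M ⟶ N) (a b : ℤ) (hM : DRing.VanishesOutside M a b)
    (hN : DRing.VanishesOutside N a b) (hMp : DRing.TermwiseFiniteProjective M)
    (hNp : DRing.TermwiseFiniteProjective N) :
    DRing.VanishesOutside (mappingCone α) (a - 1) b ∧
      DRing.TermwiseFiniteProjective (mappingCone α) := by
  refine ⟨fun i hi => ?_, fun i => ?_⟩
  · rw [mappingCone.isZero_X_iff]
    exact ⟨hM _ (by lia), hN _ (by lia)⟩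
  · have := (hMp (i + 1)).1
    have := (hMp (i + 1)).2
    have := (hNp i).1
    have := (hNp i).2
    exact ⟨Module.Finite.equiv (coneXEquiv α i), Module.Projective.of_equiv (coneXEquiv α i)⟩

theorem exists_away_iso (p : Ideal R) [p.IsPrime]
    (M N : DRing.Cx R) (a b : ℤ) (hM : DRing.VanishesOutside M a b)
    (hN : DRing.VanishesOutside N a b)
    (hMp : DRing.TermwiseFiniteProjective M) (hNp : DRing.TermwiseFiniteProjective N)
    (h : Nonempty (DRing.toD M ≅ DRing.toD N)) :
    ∃ f : R, f ∉ p ∧ ∃ P Q : DRing.Cx (Localization.Away f),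
      ((∃ a' b' : ℤ, DRing.VanishesOutside P a' b') ∧ DRing.TermwiseFiniteFree P ∧
          (∀ i : ℤ, Module.Free (Localization.Away f) (LinearMap.range (P.d i (i + 1)).hom)) ∧
          Nonempty (Homotopy (𝟙 P) 0)) ∧
      ((∃ a' b' : ℤ, DRing.VanishesOutside Q a' b') ∧ DRing.TermwiseFiniteFree Q ∧
          (∀ i : ℤ, Module.Free (Localization.Away f) (LinearMap.range (Q.d i (i + 1)).hom)) ∧
          Nonempty (Homotopy (𝟙 Q) 0)) ∧
      Nonempty ((FF (Localization.Away f)).obj M ⊞ P ≅ (FF (Localization.Away f)).obj N ⊞ Q) := by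
  obtain ⟨e⟩ := h
  -- a quasi-isomorphism `α : M ⟶ N`
  have hMle : M.IsStrictlyLE b := by
    rw [CochainComplex.isStrictlyLE_iff]
    exact fun i hi => hM i (Or.inr hi)
  have : ∀ i : ℤ, Projective (M.X i) := fun i =>
    have := (hMp i).2
    ModuleCat.projective_of_categoryTheory_projective _
  have : M.IsKProjective := CochainComplex.isKProjective_of_projective M b
  obtain ⟨α, hα⟩ := Groth.Agent.Lib.Helper1.Cone.exists_chain_map M N e.hom
  have hαiso : IsIso (DerivedCategory.Q.map α) := by rw [hα]; infer_instance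
  have hαq : QuasiIso α := (DerivedCategory.isIso_Q_map_iff_quasiIso _ α).1 hαiso
  -- the cone of `α` is contractible
  have hcone_a : (mappingCone α).Acyclic := fun i => by
    have h1 : IsIso (HomologicalComplex.homologyMap α i) :=
      (quasiIsoAt_iff_isIso_homologyMap α i).1 inferInstance
    have h2 : IsIso (HomologicalComplex.homologyMap α (i + 1)) :=
      (quasiIsoAt_iff_isIso_homologyMap α (i + 1)).1 inferInstance
    exact Groth.Agent.Lib.Seat30.DerNak.exactAt_mappingCone α i inferInstance inferInstance
  obtain ⟨hc1, hc2⟩ := cone_props α a b hM hN hMp hNp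
  obtain ⟨hi1, hi2⟩ := cone_props (𝟙 M) a b hM hM hMp hMp
  have hCle : (mappingCone α).IsStrictlyLE b := by
    rw [CochainComplex.isStrictlyLE_iff]
    exact fun i hi => hc1 i (Or.inr hi)
  have : ∀ i : ℤ, Projective ((mappingCone α).X i) := fun i =>
    have := (hc2 i).2
    ModuleCat.projective_of_categoryTheory_projective _
  have : (mappingCone α).IsKProjective := CochainComplex.isKProjective_of_projective _ b
  obtain ⟨H⟩ := IsKProjective.nonempty_homotopy_zero (𝟙 (mappingCone α)) hcone_a
  have H' := mappingCone.homotopyToZeroOfId M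
  -- Schanuel
  obtain ⟨Φ⟩ := Groth.Agent.Lib.Seat30.Schanuel.nonempty_biprod_cone_iso α H
  -- localize
  obtain ⟨f₁, hf₁, -, hfree₁⟩ := exists_away_free p (mappingCone α) (a - 1) b hc1 hc2 H 1
    (fun h1 => (Ideal.IsPrime.ne_top inferInstance) ((Ideal.eq_top_iff_one p).2 h1))
  obtain ⟨f, hf, hdvd, hfree₂⟩ := exists_away_free p (mappingCone (𝟙 M)) (a - 1) b hi1 hi2 H' f₁ hf₁
  have hfree₁' : ∀ i : ℤ,
      Module.Free (Localization.Away f) (Localization.Away f ⊗[R] (mappingCone α).X i) ∧
      Module.Free (Localization.Away f)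
        (Localization.Away f ⊗[R] LinearMap.range ((mappingCone α).d i (i + 1)).hom) := fun i => by
    have := (hfree₁ i).1
    have := (hfree₁ i).2
    exact ⟨free_away_of_dvd _ f₁ f hdvd, free_away_of_dvd _ f₁ f hdvd⟩
  refine ⟨f, hf, (FF (Localization.Away f)).obj (mappingCone α),
    (FF (Localization.Away f)).obj (mappingCone (𝟙 M)),
    props _ _ (a - 1) b hc1 hc2 H hfree₁', props _ _ (a - 1) b hi1 hi2 H' hfree₂, ⟨?_⟩⟩
  exact (mapBiprodIso _ M (mappingCone α)).symm ≪≫ (FF (Localization.Away f)).mapIso Φ.symm ≪≫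
    mapBiprodIso _ N (mappingCone (𝟙 M))

end Main

end Groth.Agent.Lib.Seat30.SchanuelMod
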