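import Mathlib
import Groth.Prelude.Def_DRing2
import Groth.Agent.Lib.Helper1Extend
import Groth.Agent.Lib.Helper1Tor

/-!
# Spreading out split injectivity from a fibre (helper30)

* `exists_away_leftInverse`: `ψ : D → N` linear, `D` finite, `N` finite free, `ψ ⊗ κ(p)` injective
  ⟹ `ψ ⊗ R_g` has a left inverse for some `g ∉ p`.
* `exists_away_splitMono`: the same in terms of `ModuleCat.extendScalars`.
* `exactAt_and_projective_of_split`: if the base change of `E.fromOpcycles i (i+1)` along a flat
  map is a split mono, the base changed complex is exact at `i` and `opcycles (i+1)` is projective.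
-/
set_option autoImplicit false
universe u
open TensorProduct CategoryTheory CategoryTheory.Limits
open Groth.Agent.Lib.Helper1.Extend

namespace Groth.Agent.Lib.Seat30.SpreadSplit

section Spread

variable {R : Type u} [CommRing R] (p : Ideal R) [p.IsPrime]

local notation "κ" => p.ResidueField

/-- elements of the residue field are fractions -/
lemma exists_smul_eq_algebraMap (c : κ) : ∃ s, s ∉ p ∧ ∃ a : R,
    algebraMap R κ s * c = algebraMap R κ a := by
  obtain ⟨⟨a', s'⟩, h⟩ := IsLocalization.surj (nonZeroDivisors (R ⧸ p)) c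
  obtain ⟨a, rfl⟩ := Ideal.Quotient.mk_surjective a'
  obtain ⟨s, hs⟩ := Ideal.Quotient.mk_surjective s'.1
  refine ⟨s, fun hsp => ?_, a, ?_⟩
  · have h0 : (s'.1 : R ⧸ p) = 0 := by rw [← hs]; exact Ideal.Quotient.eq_zero_iff_mem.2 hsp
    exact (nonZeroDivisors.ne_zero s'.2) h0
  · have h' : c * algebraMap (R ⧸ p) κ s'.1 = algebraMap (R ⧸ p) κ (Ideal.Quotient.mk p a) := h
    rw [← hs] at h'
    rw [mul_comm]
    exact h'

variable (D : Type u) [AddCommGroup D] [Module R D]

lemma one_tmul_smul (r : R) (w : D) :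
    algebraMap R κ r • ((1 : κ) ⊗ₜ[R] w) = (1 : κ) ⊗ₜ[R] (r • w) := by
  rw [TensorProduct.smul_tmul', smul_eq_mul, mul_one, Algebra.algebraMap_eq_smul_one,
    TensorProduct.smul_tmul]

/-- every element of `κ ⊗ D` becomes a pure tensor `1 ⊗ y` after multiplying by some `s ∉ p` -/
lemma exists_smul_eq_one_tmul (z : κ ⊗[R] D) : ∃ s, s ∉ p ∧ ∃ y : D,
    algebraMap R κ s • z = (1 : κ) ⊗ₜ[R] y := by
  induction z using TensorProduct.induction_on with
  | zero => exact ⟨1, fun h => (Ideal.IsPrime.ne_top inferInstance) ((Ideal.eq_top_iff_one p).2 h),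
      0, by simp⟩
  | tmul c x =>
    obtain ⟨s, hs, a, ha⟩ := exists_smul_eq_algebraMap p c
    refine ⟨s, hs, a • x, ?_⟩
    rw [TensorProduct.smul_tmul', smul_eq_mul, ha, Algebra.algebraMap_eq_smul_one,
      TensorProduct.smul_tmul]
  | add z₁ z₂ h₁ h₂ =>
    obtain ⟨s₁, hs₁, y₁, h₁⟩ := h₁
    obtain ⟨s₂, hs₂, y₂, h₂⟩ := h₂
    refine ⟨s₁ * s₂, fun h => (Ideal.IsPrime.mem_or_mem inferInstance h).elim hs₁ hs₂,
      s₂ • y₁ + s₁ • y₂, ?_⟩
    have e₁ : algebraMap R κ (s₁ * s₂) • z₁ = (1 : κ) ⊗ₜ[R] (s₂ • y₁) := by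
      rw [map_mul, mul_comm, mul_smul, h₁, one_tmul_smul]
    have e₂ : algebraMap R κ (s₁ * s₂) • z₂ = (1 : κ) ⊗ₜ[R] (s₁ • y₂) := by
      rw [map_mul, mul_smul, h₂, one_tmul_smul]
    rw [smul_add, e₁, e₂, tmul_add]

/-- simultaneous version -/
lemma exists_smul_eq_one_tmul_family {ι : Type*} [Finite ι] (z : ι → κ ⊗[R] D) :
    ∃ s, s ∉ p ∧ ∃ y : ι → D, ∀ k, algebraMap R κ s • z k = (1 : κ) ⊗ₜ[R] y k := by
  classical
  cases nonempty_fintype ι
  suffices h : ∀ t : Finset ι, ∃ s, s ∉ p ∧ ∃ y : ι → D,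
      ∀ k ∈ t, algebraMap R κ s • z k = (1 : κ) ⊗ₜ[R] y k by
    obtain ⟨s, hs, y, hy⟩ := h Finset.univ
    exact ⟨s, hs, y, fun k => hy k (Finset.mem_univ k)⟩
  intro t
  induction t using Finset.induction_on with
  | empty => exact ⟨1, fun h => (Ideal.IsPrime.ne_top inferInstance) ((Ideal.eq_top_iff_one p).2 h),
      fun _ => 0, by simp⟩
  | insert a t ha ih =>
    obtain ⟨s, hs, y, hy⟩ := ih
    obtain ⟨s', hs', y', hy'⟩ := exists_smul_eq_one_tmul p D (z a)
    refine ⟨s * s', fun h => (Ideal.IsPrime.mem_or_mem inferInstance h).elim hs hs',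
      fun k => if k = a then s • y' else s' • y k, fun k hk => ?_⟩
    dsimp only
    by_cases hka : k = a
    · subst hka
      rw [if_pos rfl, map_mul, mul_smul, hy', one_tmul_smul]
    · rw [if_neg hka, map_mul, mul_comm, mul_smul,
        hy k ((Finset.mem_insert.1 hk).resolve_left hka), one_tmul_smul]


variable {D}
variable {N : Type u} [AddCommGroup N] [Module R N]

/-- lifting a `κ`-linear map `κ ⊗ N → κ ⊗ D` from a finite free module, up to a unit -/
lemma exists_lift_baseChange [Module.Finite R N] [Module.Free R N]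
    (ρ' : κ ⊗[R] N →ₗ[κ] κ ⊗[R] D) : ∃ s, s ∉ p ∧ ∃ ρ : N →ₗ[R] D,
      ρ.baseChange κ = algebraMap R κ s • ρ' := by
  let b := Module.Free.chooseBasis R N
  obtain ⟨s, hs, y, hy⟩ := exists_smul_eq_one_tmul_family p D (fun k => ρ' ((1 : κ) ⊗ₜ[R] b k))
  refine ⟨s, hs, b.constr R y, ?_⟩
  apply (Algebra.TensorProduct.basis κ b).ext
  intro k
  rw [Algebra.TensorProduct.basis_apply, LinearMap.baseChange_tmul, Module.Basis.constr_basis,
    LinearMap.smul_apply, hy k]

/-- the key spreading out lemma: a map from a finite module to a finite free module which is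
injective on the fibre at `p` is split injective after inverting some `g ∉ p`. -/
theorem exists_away_leftInverse [Module.Finite R D] [Module.Finite R N] [Module.Free R N]
    (ψ : D →ₗ[R] N) (hψ : Function.Injective (ψ.baseChange κ)) :
    ∃ g, g ∉ p ∧ ∃ r : Localization.Away g ⊗[R] N →ₗ[Localization.Away g] Localization.Away g ⊗[R] D,
      r ∘ₗ ψ.baseChange (Localization.Away g) = LinearMap.id := by
  -- step 1: a retraction on the fibre
  obtain ⟨ρ', hρ'⟩ := (ψ.baseChange κ).exists_leftInverse_of_injective (LinearMap.ker_eq_bot.2 hψ)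
  -- step 2: lift it up to `s`
  obtain ⟨s, hs, ρ, hρ⟩ := exists_lift_baseChange p ρ'
  have hs0 : algebraMap R κ s ≠ 0 := fun h => hs (Ideal.algebraMap_residueField_eq_zero.1 h)
  let θ : D →ₗ[R] D := ρ ∘ₗ ψ
  have hθ : θ.baseChange κ = algebraMap R κ s • LinearMap.id := by
    rw [LinearMap.baseChange_comp, hρ, LinearMap.smul_comp, hρ']
  -- step 3: the cokernel of `θ` vanishes at `p`
  let Q := D ⧸ LinearMap.range θ
  have hQ : Subsingleton (κ ⊗[R] Q) := by
    have h0 : ∀ x : D, (1 : κ) ⊗ₜ[R] (Submodule.Quotient.mk x : Q) = 0 := fun x => by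
      have h1 := LinearMap.congr_fun hθ ((1 : κ) ⊗ₜ[R] x)
      rw [LinearMap.baseChange_tmul, LinearMap.smul_apply, LinearMap.id_apply] at h1
      have h2 := congrArg ((LinearMap.range θ).mkQ.baseChange κ) h1
      rw [LinearMap.baseChange_tmul, map_smul, LinearMap.baseChange_tmul] at h2
      have h3 : (LinearMap.range θ).mkQ (θ x) = 0 :=
        (Submodule.Quotient.mk_eq_zero _).2 ⟨x, rfl⟩
      rw [h3, tmul_zero] at h2
      exact (smul_eq_zero.1 h2.symm).resolve_left hs0
    refine ⟨fun z w => ?_⟩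
    suffices h : ∀ z : κ ⊗[R] Q, z = 0 by rw [h z, h w]
    intro z
    induction z using TensorProduct.induction_on with
    | zero => rfl
    | tmul c q =>
      obtain ⟨x, rfl⟩ := Submodule.Quotient.mk_surjective _ q
      have : c ⊗ₜ[R] (Submodule.Quotient.mk x : Q) = c • ((1 : κ) ⊗ₜ[R] (Submodule.Quotient.mk x : Q)) := by
        rw [TensorProduct.smul_tmul', smul_eq_mul, mul_one]
      rw [this, h0, smul_zero]
    | add z w hz hw => rw [hz, hw, add_zero]
  have hsupp : (⟨p, inferInstance⟩ : PrimeSpectrum R) ∉ Module.support R Q := by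
    rw [Module.mem_support_iff_nontrivial_residueField_tensorProduct]
    exact not_nontrivial_iff_subsingleton.2 hQ
  rw [Module.support_eq_zeroLocus, PrimeSpectrum.mem_zeroLocus, Set.not_subset] at hsupp
  obtain ⟨g, hgann, hgp⟩ := hsupp
  have hg : ∀ x : D, g • x ∈ LinearMap.range θ := fun x => by
    have := Module.mem_annihilator.1 hgann (Submodule.Quotient.mk x : Q)
    rwa [← Submodule.Quotient.mk_smul, Submodule.Quotient.mk_eq_zero] at this
  refine ⟨g, hgp, ?_⟩
  -- step 4: `θ` becomes bijective over `R_g`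
  let S := Localization.Away g
  have hsurj : Function.Surjective (θ.baseChange S) := by
    intro z
    induction z using TensorProduct.induction_on with
    | zero => exact ⟨0, map_zero _⟩
    | tmul c x =>
      obtain ⟨x', hx'⟩ := hg x
      refine ⟨(c * IsLocalization.Away.invSelf g) ⊗ₜ[R] x', ?_⟩
      rw [LinearMap.baseChange_tmul, hx', ← TensorProduct.smul_tmul, Algebra.smul_def,
        mul_comm _ (c * _), mul_assoc, mul_comm _ (algebraMap R S g),
        IsLocalization.Away.mul_invSelf, mul_one]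
    | add z w hz hw =>
      obtain ⟨z', hz'⟩ := hz
      obtain ⟨w', hw'⟩ := hw
      exact ⟨z' + w', by rw [map_add, hz', hw']⟩
  have hinj : Function.Injective (θ.baseChange S) :=
    OrzechProperty.injective_of_surjective_endomorphism _ hsurj
  let e : S ⊗[R] D ≃ₗ[S] S ⊗[R] D := LinearEquiv.ofBijective (θ.baseChange S) ⟨hinj, hsurj⟩
  refine ⟨e.symm.toLinearMap ∘ₗ ρ.baseChange S, ?_⟩
  rw [LinearMap.comp_assoc, ← LinearMap.baseChange_comp]
  exact LinearMap.ext fun z => e.symm_apply_apply z


end Spread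

section Cat

variable {R : Type u} [CommRing R] (S : Type u) [CommRing S] [Algebra R S]

lemma extIso_naturality {X Y : ModuleCat.{u} R} (g : X ⟶ Y) :
    (ext R S).map g ≫ (extIso (A := R) (B := S) Y).hom =
      (extIso (A := R) (B := S) X).hom ≫ ModuleCat.ofHom (g.hom.baseChange S) := by
  apply ModuleCat.ExtendScalars.hom_ext
  intro m
  rfl

lemma extEquiv_naturality {X Y : ModuleCat.{u} R} (g : X ⟶ Y) (z : (ext R S).obj X) :
    extEquiv (A := R) (B := S) Y (((ext R S).map g).hom z) =
      (g.hom.baseChange S) (extEquiv (A := R) (B := S) X z) :=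
  congrArg (fun t => t.hom z) (extIso_naturality S g)

end Cat

section CatSpread

variable {R : Type u} [CommRing R] (p : Ideal R) [p.IsPrime]

/-- categorical form of `exists_away_leftInverse` -/
theorem exists_away_splitMono {D N : ModuleCat.{u} R} [Module.Finite R D] [Module.Finite R N]
    [Module.Free R N] (ψ : D ⟶ N)
    (hψ : Function.Injective ((ext R p.ResidueField).map ψ).hom) :
    ∃ g, g ∉ p ∧ ∃ r : (ext R (Localization.Away g)).obj N ⟶ (ext R (Localization.Away g)).obj D,
      (ext R (Localization.Away g)).map ψ ≫ r = 𝟙 _ := by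
  have hψ' : Function.Injective (ψ.hom.baseChange p.ResidueField) := by
    intro w w' hww
    have h1 : ∀ w, (ψ.hom.baseChange p.ResidueField) w =
        extEquiv (A := R) (B := p.ResidueField) N (((ext R p.ResidueField).map ψ).hom
          ((extEquiv (A := R) (B := p.ResidueField) D).symm w)) := fun w => by
      rw [extEquiv_naturality, LinearEquiv.apply_symm_apply]
    rw [h1 w, h1 w'] at hww
    exact (extEquiv (A := R) (B := p.ResidueField) D).symm.injective
      (hψ ((extEquiv (A := R) (B := p.ResidueField) N).injective hww))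
  obtain ⟨g, hg, r₀, hr₀⟩ := exists_away_leftInverse p ψ.hom hψ'
  refine ⟨g, hg, (extIso (A := R) (B := Localization.Away g) N).hom ≫ ModuleCat.ofHom r₀ ≫
    (extIso (A := R) (B := Localization.Away g) D).inv, ?_⟩
  rw [← Category.assoc, extIso_naturality, Category.assoc, ← Category.assoc (ModuleCat.ofHom _),
    ← ModuleCat.ofHom_comp, hr₀, ModuleCat.ofHom_id, Category.id_comp, Iso.hom_inv_id]

end CatSpread

section Split

variable {R : Type u} [CommRing R] (S : Type u) [CommRing S] [Algebra R S]

instance additive_ext : (ext R S).Additive :=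
  (ModuleCat.extendRestrictScalarsAdj (algebraMap R S)).left_adjoint_additive

/-- termwise base change of complexes -/
noncomputable abbrev FF : DRing.Cx R ⥤ DRing.Cx S :=
  (ext R S).mapHomologicalComplex (ComplexShape.up ℤ)

lemma epi_ext_map {X Y : ModuleCat.{u} R} (g : X ⟶ Y) [Epi g] : Epi ((ext R S).map g) := by
  have : (ext R S).IsLeftAdjoint :=
    (ModuleCat.extendRestrictScalarsAdj (algebraMap R S)).isLeftAdjoint
  infer_instance

/-- if the base change of `fromOpcycles i (i+1)` is a split monomorphism, the base changed complex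
is exact in degree `i` and its `opcycles` in degree `i + 1` are projective. -/
lemma exactAt_and_projective_of_split (E : DRing.Cx R) (i : ℤ) [Module.Flat R S]
    (r : (ext R S).obj (E.X (i + 1)) ⟶ (ext R S).obj (E.opcycles i))
    (hr : (ext R S).map (E.fromOpcycles i (i + 1)) ≫ r = 𝟙 _)
    [Module.Projective S ((ext R S).obj (E.X (i + 1)))] :
    ((FF S).obj E).ExactAt i ∧ Module.Projective S (((FF S).obj E).opcycles (i + 1)) := by
  have hepi := epi_ext_map S (E.pOpcycles i)
  let P := (ext R S).map (E.pOpcycles i)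
  let Ψ := (ext R S).map (E.fromOpcycles i (i + 1))
  let dd : (ext R S).obj (E.X i) ⟶ (ext R S).obj (E.X (i + 1)) := ((FF S).obj E).d i (i + 1)
  have hd : dd = P ≫ Ψ := by
    dsimp only [P, Ψ]
    rw [← Functor.map_comp, E.p_fromOpcycles]
    rfl
  constructor
  · rw [Groth.Agent.Lib.Helper1.Tor.exactAt_iff_fexact _ (i - 1) i (i + 1) (by lia) rfl]
    intro w
    constructor
    · intro hw
      have hw' : Ψ.hom (P.hom w) = 0 := (congrArg (fun t => t.hom w) hd).symm.trans hw
      -- `w` dies in the base change of `opcycles`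
      have h1 : P.hom w = 0 := by
        have h2 := congrArg (fun t => t.hom (P.hom w)) hr
        exact h2.symm.trans (by
          show r.hom (Ψ.hom (P.hom w)) = 0
          rw [hw', map_zero])
      -- exactness of the base change of `E^{i-1} → E^i → opcycles`
      let S₀ : ShortComplex (ModuleCat.{u} R) :=
        ShortComplex.mk (E.d (i - 1) i) (E.pOpcycles i) (by simp)
      have hS₀ : S₀.Exact :=
        ShortComplex.exact_of_g_is_cokernel S₀ (E.opcyclesIsCokernel (i - 1) i (by simp))
      have hS₁ : (S₀.map (ext R S)).Exact := hS₀.map (ext R S)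
      rw [ShortComplex.ShortExact.moduleCat_exact_iff_function_exact] at hS₁
      exact (hS₁ w).1 h1
    · rintro ⟨v, rfl⟩
      have := ((FF S).obj E).d_comp_d (i - 1) i (i + 1)
      exact congrArg (fun t => t.hom v) this
  · -- the idempotent
    let ε : (ext R S).obj (E.X (i + 1)) ⟶ (ext R S).obj (E.X (i + 1)) := r ≫ Ψ
    have h1 : dd ≫ (𝟙 _ - ε) = 0 := by
      rw [hd, Preadditive.comp_sub, Category.comp_id, Category.assoc]
      dsimp only [ε]
      rw [reassoc_of% hr, sub_self]
    let σ : ((FF S).obj E).opcycles (i + 1) ⟶ (ext R S).obj (E.X (i + 1)) :=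
      ((FF S).obj E).descOpcycles (𝟙 _ - ε) i (by simp) h1
    let pp : (ext R S).obj (E.X (i + 1)) ⟶ ((FF S).obj E).opcycles (i + 1) :=
      ((FF S).obj E).pOpcycles (i + 1)
    have hpσ : pp ≫ σ = 𝟙 _ - ε := ((FF S).obj E).p_descOpcycles (𝟙 _ - ε) i (by simp) h1
    have h2 : Ψ ≫ pp = 0 := by
      rw [← cancel_epi P, ← Category.assoc, ← hd, comp_zero]
      exact ((FF S).obj E).d_pOpcycles i (i + 1)
    have h3 : σ ≫ pp = 𝟙 _ := by
      have : Epi pp := inferInstanceAs (Epi (((FF S).obj E).pOpcycles (i + 1)))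
      rw [← cancel_epi pp, ← Category.assoc, hpσ, Preadditive.sub_comp, Category.id_comp,
        Category.comp_id]
      dsimp only [ε]
      rw [Category.assoc, h2, comp_zero, sub_zero]
    exact Module.Projective.of_split σ.hom pp.hom
      (by rw [← ModuleCat.hom_comp, h3]; rfl)


end Split

end Groth.Agent.Lib.Seat30.SpreadSplit
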