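import Mathlib
import Groth.Prelude.Def_DRing2
import Groth.Agent.Lib.Helper1Cone

/-!
# Splitting an object of `D(R)` into its truncations (helper30)

* `exists_trunc_triangle`: the distinguished triangle `Q(τ≤n K) → X → Q(τ≥n+1 K) →` for `X ≅ Q K`.
* `exists_iso_biprod_trunc`: a distinguished triangle `A → X → B → A[1]` with `A ≤ i-1`, `B ≥ i+1`
  and zero connecting map gives `X ≅ τ≥i+1 X ⊞ τ<i X` compatibly with the truncation maps.
* `core`: for a bounded above complex `E` of finite projective modules, exact in degree `i` and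
  with projective `opcycles (i+1)`, the object `X ≅ Q E` splits, `τ≥i+1 X` is perfect of tor
  amplitude in `[i+1, b']`.
-/
set_option autoImplicit false
universe u
open CategoryTheory CategoryTheory.Limits Category Pretriangulated Triangulated
attribute [local instance] HasDerivedCategory.standard

namespace Groth.Agent.Lib.Seat30.TruncSplit
open DerivedCategory

section General
variable {C : Type (u+1)} [Category.{u} C] [Abelian C] [HasDerivedCategory.{u+1} C]

set_option backward.defeqAttrib.useBackward true in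
set_option backward.isDefEq.respectTransparency false in
/-- the truncation triangle at the level of complexes -/
lemma exists_trunc_triangle (K : CochainComplex C ℤ) (n₀ n₁ : ℤ) (h : n₀ + 1 = n₁)
    {X : DerivedCategory C} (e : X ≅ Q.obj K) :
    ∃ δ : Q.obj (K.truncGE n₁) ⟶ (Q.obj (K.truncLE n₀))⟦(1 : ℤ)⟧,
      Triangle.mk (Q.map (K.ιTruncLE n₀) ≫ e.inv) (e.hom ≫ Q.map (K.πTruncGE n₁)) δ ∈
        distTriang (DerivedCategory C) := by
  have : QuasiIso (K.shortComplexTruncLEX₃ToTruncGE n₀ n₁ h) := by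
    dsimp only [CochainComplex.shortComplexTruncLEX₃ToTruncGE]; infer_instance
  have hS := K.shortComplexTruncLE_shortExact n₀
  refine ⟨inv (Q.map (K.shortComplexTruncLEX₃ToTruncGE n₀ n₁ h)) ≫ (triangleOfSES hS).mor₃,
    isomorphic_distinguished _ (triangleOfSES_distinguished hS) _ (Iso.symm ?_)⟩
  refine Triangle.isoMk _ _ (Iso.refl _) e.symm
    (asIso (Q.map (K.shortComplexTruncLEX₃ToTruncGE n₀ n₁ h))) ?_ ?_ (by simp)
  · dsimp
    rw [id_comp]
    rfl
  · dsimp
    rw [Iso.inv_hom_id_assoc, ← Q.map_comp,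
      CochainComplex.g_shortComplexTruncLEX₃ToTruncGE ..]

/-- abstract splitting: a distinguished triangle `A → X → B → A[1]` with `A ≤ i-1`, `B ≥ i+1`
and zero connecting map splits `X` into its truncations. -/
lemma exists_iso_biprod_trunc (i : ℤ) (T : Triangle (DerivedCategory C))
    (hT : T ∈ distTriang (DerivedCategory C)) (hA : T.obj₁.IsLE (i - 1)) (hB : T.obj₃.IsGE (i + 1))
    (h0 : T.mor₃ = 0) :
    let t := (TStructure.t : TStructure (DerivedCategory C))
    ∃ (_ : T.obj₃ ≅ (t.truncGE (i + 1)).obj T.obj₂),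
      ∀ [HasBinaryBiproduct ((t.truncGE (i + 1)).obj T.obj₂) ((t.truncLT i).obj T.obj₂)],
        ∃ e : T.obj₂ ≅ (t.truncGE (i + 1)).obj T.obj₂ ⊞ (t.truncLT i).obj T.obj₂,
          e.hom ≫ biprod.fst = (t.truncGEπ (i + 1)).app T.obj₂ ∧
            (t.truncLTι i).app T.obj₂ ≫ e.hom = biprod.inr := by
  intro t
  have hA' : t.IsLE T.obj₁ (i - 1) := hA
  have hB' : t.IsGE T.obj₃ (i + 1) := hB
  have hA'' : t.IsLE T.obj₁ i := t.isLE_of_le _ (i - 1) i (by lia)
  have hB'' : t.IsGE T.obj₃ i := t.isGE_of_ge _ i (i + 1) (by lia)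
  have h1 : t.IsLE ((t.triangleLTGE (i + 1)).obj T.obj₂).obj₁ i :=
    t.isLE_of_le _ (i + 1 - 1) i (by lia)
  obtain ⟨e₁, he₁⟩ := t.triangle_iso_exists hT (t.triangleLTGE_distinguished i T.obj₂)
    (Iso.refl T.obj₂) (i - 1) i hA' hB'' inferInstance inferInstance (by lia)
  obtain ⟨e₂, he₂⟩ := t.triangle_iso_exists hT (t.triangleLTGE_distinguished (i + 1) T.obj₂)
    (Iso.refl T.obj₂) i (i + 1) hA'' hB' h1 inferInstance (by lia)
  let a : T.obj₁ ≅ (t.truncLT i).obj T.obj₂ := Triangle.π₁.mapIso e₁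
  let c : T.obj₃ ≅ (t.truncGE (i + 1)).obj T.obj₂ := Triangle.π₃.mapIso e₂
  have ha : T.mor₁ = a.hom ≫ (t.truncLTι i).app T.obj₂ := by
    have h := e₁.hom.comm₁
    rw [he₁] at h
    exact (comp_id T.mor₁).symm.trans h
  have hc : T.mor₂ ≫ c.hom = (t.truncGEπ (i + 1)).app T.obj₂ := by
    have h := e₂.hom.comm₂
    rw [he₂] at h
    exact h.trans (id_comp _)
  refine ⟨c, ?_⟩
  intro _
  obtain ⟨e₀, he₀, he₀'⟩ := exists_iso_binaryBiproduct_of_distTriang T hT h0
  refine ⟨e₀ ≪≫ biprod.braiding T.obj₁ T.obj₃ ≪≫ biprod.mapIso c a, ?_, ?_⟩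
  · simp only [Iso.trans_hom, biprod.braiding_hom, biprod.mapIso_hom, assoc, biprod.map_fst,
      biprod.lift_fst_assoc]
    rw [← hc, he₀', assoc]
  · have ha' : (t.truncLTι i).app T.obj₂ = a.inv ≫ T.mor₁ := by rw [ha, Iso.inv_hom_id_assoc]
    rw [ha']
    simp only [Iso.trans_hom, biprod.braiding_hom, biprod.mapIso_hom, assoc, reassoc_of% he₀]
    apply biprod.hom_ext <;> simp

end General

section Mod

open CochainComplex

variable {R : Type u} [CommRing R]

/-- a K-projective complex in degrees `≥ n` has no nonzero maps to an object `≤ m`, `m < n` -/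
lemma hom_eq_zero_of_isKProjective (G : DRing.Cx R) [G.IsKProjective] (n m : ℤ) (hnm : m < n)
    [G.IsStrictlyGE n] (Y : Dual.D R) [Y.IsLE m] (φ : Q.obj G ⟶ Y) : φ = 0 := by
  obtain ⟨Z, hZ, ⟨eZ⟩⟩ := Y.exists_iso_Q_obj_of_isLE m
  obtain ⟨f, hf⟩ := Groth.Agent.Lib.Helper1.Cone.exists_chain_map G Z (φ ≫ eZ.hom)
  have hf0 : f = 0 := by
    ext j : 1
    by_cases hj : j < n
    · exact (G.isZero_of_isStrictlyGE n j hj).eq_of_src _ _
    · exact (Z.isZero_of_isStrictlyLE m j (by lia)).eq_of_tgt _ _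
  rw [hf0, Functor.map_zero] at hf
  rw [← cancel_mono eZ.hom, zero_comp, ← hf]

/-- the terms of the canonical truncation -/
lemma truncGE_terms (E : DRing.Cx R) (b i : ℤ) (hEb : DRing.VanishesAbove E b)
    (hEp : DRing.TermwiseFiniteProjective E)
    (hproj : Module.Projective R (E.opcycles (i + 1))) :
    DRing.VanishesOutside (E.truncGE (i + 1)) (i + 1) (max b (i + 1)) ∧
      DRing.TermwiseFiniteProjective (E.truncGE (i + 1)) := by
  have hz : ∀ j, j < i + 1 → IsZero ((E.truncGE (i + 1)).X j) := fun j hj =>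
    (E.truncGE (i + 1)).isZero_of_isStrictlyGE (i + 1) j hj
  refine ⟨fun j hj => ?_, fun j => ?_⟩
  · rcases hj with hj | hj
    · exact hz j hj
    · have h1 : i + 1 < j := lt_of_le_of_lt (le_max_right b (i + 1)) hj
      exact (hEb j (lt_of_le_of_lt (le_max_left b (i + 1)) hj)).of_iso (E.truncGEXIso (i + 1) j h1)
  · rcases lt_trichotomy j (i + 1) with hj | hj | hj
    · have : Subsingleton ((E.truncGE (i + 1)).X j) := ModuleCat.subsingleton_of_isZero (hz j hj)
      exact ⟨inferInstance, inferInstance⟩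
    · subst hj
      have e := (E.truncGEXIsoOpcycles (i + 1)).toLinearEquiv
      have := (hEp (i + 1)).1
      have hfin : Module.Finite R (E.opcycles (i + 1)) :=
        Module.Finite.of_surjective (E.pOpcycles (i + 1)).hom
          ((ModuleCat.epi_iff_surjective _).1 inferInstance)
      exact ⟨Module.Finite.equiv e.symm, Module.Projective.of_equiv e.symm⟩
    · have e := (E.truncGEXIso (i + 1) j hj).toLinearEquiv
      have := (hEp j).1
      have := (hEp j).2
      exact ⟨Module.Finite.equiv e.symm, Module.Projective.of_equiv e.symm⟩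

theorem core (E : DRing.Cx R) (b i : ℤ) (hEb : DRing.VanishesAbove E b)
    (hEp : DRing.TermwiseFiniteProjective E) (hex : E.ExactAt i)
    (hproj : Module.Projective R (E.opcycles (i + 1)))
    (X : Dual.D R) (ε : X ≅ DRing.toD E) :
    let t := (DerivedCategory.TStructure.t : Triangulated.TStructure (Dual.D R))
    let Xge := (t.truncGE (i + 1)).obj X
    let Xlt := (t.truncLT i).obj X
    DRing.IsPerfect R Xge ∧ (∃ b' : ℤ, DRing.HasTorAmplitudeIn R (i + 1) b' Xge) ∧
      ∀ [HasBinaryBiproduct Xge Xlt], ∃ e : X ≅ Xge ⊞ Xlt,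
        e.hom ≫ biprod.fst = (t.truncGEπ (i + 1)).app X ∧
          (t.truncLTι i).app X ≫ e.hom = biprod.inr := by
  intro t Xge Xlt
  obtain ⟨hGv, hGp⟩ := truncGE_terms E b i hEb hEp hproj
  obtain ⟨δ, hT⟩ := exists_trunc_triangle E i (i + 1) rfl ε
  -- the left part is `≤ i - 1`
  have hA : (Q.obj (E.truncLE i)).IsLE (i - 1) := by
    rw [isLE_Q_obj_iff, CochainComplex.isLE_iff]
    intro j hj
    by_cases hji : j = i
    · subst hji
      exact (quasiIsoAt_iff_exactAt' (E.ιTruncLE j) j hex).1 inferInstance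
    · exact (E.truncLE i).exactAt_of_isLE i j (by lia)
  have hB : (Q.obj (E.truncGE (i + 1))).IsGE (i + 1) := inferInstance
  -- the connecting map vanishes
  have hGle : (E.truncGE (i + 1)).IsStrictlyLE (max b (i + 1)) := by
    rw [CochainComplex.isStrictlyLE_iff]
    exact fun j hj => hGv j (Or.inr hj)
  have : ∀ j : ℤ, Projective ((E.truncGE (i + 1)).X j) := fun j =>
    have := (hGp j).2
    ModuleCat.projective_of_categoryTheory_projective _
  have : (E.truncGE (i + 1)).IsKProjective :=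
    CochainComplex.isKProjective_of_projective _ (max b (i + 1))
  have hA1 : ((Q.obj (E.truncLE i))⟦(1 : ℤ)⟧).IsLE (i - 2) :=
    t.isLE_shift (Q.obj (E.truncLE i)) (i - 1) 1 (i - 2) (by lia)
  have h0 : δ = 0 := hom_eq_zero_of_isKProjective (E.truncGE (i + 1)) (i + 1) (i - 2) (by lia) _ δ
  obtain ⟨c, hc⟩ := exists_iso_biprod_trunc i _ hT hA hB h0
  refine ⟨⟨E.truncGE (i + 1), i + 1, max b (i + 1), hGv, hGp, ⟨c⟩⟩,
    ⟨max b (i + 1), E.truncGE (i + 1), hGv, fun j => ?_, ⟨c⟩⟩, ?_⟩
  · have := (hGp j).2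
    infer_instance
  · intro _
    exact hc

end Mod


end Groth.Agent.Lib.Seat30.TruncSplit
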