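import Mathlib
import Groth.Prelude.Def_DRing2
import Groth.Agent.Lib.Helper1Extend
import Groth.Agent.Lib.Helper1LBC
import Groth.Agent.Lib.Helper1Tor
import Groth.Agent.Lib.Seat30Minimal
import Groth.Agent.Lib.Seat30SpreadSplit
import Groth.Agent.Lib.Seat30TruncSplit

/-!
# Splitting of truncations after localization (helper30), Stacks 0BCD-like
-/
set_option autoImplicit false
universe u
open CategoryTheory CategoryTheory.Limits
open Groth.Agent.Lib.Helper1.Extend Groth.Agent.Lib.Helper1.LDer
open Groth.Agent.Lib.Seat30.SpreadSplit Groth.Agent.Lib.Seat30.TruncSplit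
attribute [local instance] HasDerivedCategory.standard

namespace Groth.Agent.Lib.Seat30.TruncSplitMain

variable {R : Type u} [CommRing R]

/-- injectivity of the base change of `fromOpcycles` from exactness of the base change -/
lemma injective_ext_map_fromOpcycles (S : Type u) [CommRing S] [Algebra R S] (E : DRing.Cx R) (i : ℤ)
    (hex : ((FF S).obj E).ExactAt i) :
    Function.Injective ((ext R S).map (E.fromOpcycles i (i + 1))).hom := by
  have hepi := epi_ext_map S (E.pOpcycles i)
  let P := (ext R S).map (E.pOpcycles i)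
  let Ψ := (ext R S).map (E.fromOpcycles i (i + 1))
  let dd : (ext R S).obj (E.X i) ⟶ (ext R S).obj (E.X (i + 1)) := ((FF S).obj E).d i (i + 1)
  let dd' : (ext R S).obj (E.X (i - 1)) ⟶ (ext R S).obj (E.X i) := ((FF S).obj E).d (i - 1) i
  have hd : dd = P ≫ Ψ := by
    dsimp only [P, Ψ]
    rw [← Functor.map_comp, E.p_fromOpcycles]
    rfl
  have hd' : dd' ≫ P = 0 := by
    have : dd' = (ext R S).map (E.d (i - 1) i) := rfl
    dsimp only [P]
    rw [this, ← Functor.map_comp, E.d_pOpcycles, Functor.map_zero]
  rw [Groth.Agent.Lib.Helper1.Tor.exactAt_iff_fexact _ (i - 1) i (i + 1) (by lia) rfl] at hex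
  rw [injective_iff_map_eq_zero]
  intro z hz
  obtain ⟨w, rfl⟩ := (ModuleCat.epi_iff_surjective P).1 hepi z
  have h1 : dd.hom w = 0 := (congrArg (fun t => t.hom w) hd).trans hz
  obtain ⟨v, rfl⟩ := (hex w).1 h1
  exact congrArg (fun t => t.hom v) hd'

theorem main (p : Ideal R) [p.IsPrime] [DRing.HasLBaseChange (algebraMap R p.ResidueField)]
    (i : ℤ) (K : DRing.Cx R) (hK : DRing.IsPseudoCoherent' R (DRing.toD K))
    (hi : Subsingleton (Dual.HD p.ResidueField
      ((DRing.LBaseChange (algebraMap R p.ResidueField)).obj (DRing.toD K)) i)) :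
    ∃ f : R, f ∉ p ∧
      let Kf := DRing.toD ((FF (Localization.Away f)).obj K)
      let t := (DerivedCategory.TStructure.t : Triangulated.TStructure (Dual.D (Localization.Away f)))
      let Kge := (t.truncGE (i + 1)).obj Kf
      let Klt := (t.truncLT i).obj Kf
      DRing.IsPerfect (Localization.Away f) Kge ∧
        (∃ b : ℤ, DRing.HasTorAmplitudeIn (Localization.Away f) (i + 1) b Kge) ∧
        ∀ [HasBinaryBiproduct Kge Klt], ∃ e : Kf ≅ Kge ⊞ Klt,
          e.hom ≫ biprod.fst = (t.truncGEπ (i + 1)).app Kf ∧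
            (t.truncLTι i).app Kf ≫ e.hom = biprod.inr := by
  obtain ⟨E, b, hEb, hEf, ⟨e⟩⟩ := hK
  have hEp : DRing.TermwiseFiniteProjective E := fun j =>
    have := (hEf j).2
    ⟨(hEf j).1, Module.Projective.of_free⟩
  have : E.IsKProjective := isKProjective_of_vanishesAbove E b hEb (fun j => (hEp j).2)
  -- the fibre is exact in degree `i`
  let κ := p.ResidueField
  let e₁ : (DRing.LBaseChange (algebraMap R κ)).obj (DRing.toD K) ≅
      DerivedCategory.Q.obj ((FF κ).obj E) :=
    (DRing.LBaseChange (algebraMap R κ)).mapIso e.symm ≪≫ lbcIso (algebraMap R κ) E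
  have hsub : Subsingleton (((FF κ).obj E).homology i) :=
    (Groth.Agent.Lib.Seat30.Minimal.hdEquiv e₁ i).symm.injective.subsingleton
  have hex : ((FF κ).obj E).ExactAt i := by
    rw [HomologicalComplex.exactAt_iff_isZero_homology]
    exact ModuleCat.isZero_of_subsingleton _
  have hinj := injective_ext_map_fromOpcycles κ E i hex
  -- spreading out
  have : Module.Finite R (E.opcycles i) :=
    have := (hEf i).1
    Module.Finite.of_surjective (E.pOpcycles i).hom
      ((ModuleCat.epi_iff_surjective _).1 inferInstance)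
  have := (hEf (i + 1)).1
  have := (hEf (i + 1)).2
  obtain ⟨g, hg, r, hr⟩ := exists_away_splitMono p (E.fromOpcycles i (i + 1)) hinj
  refine ⟨g, hg, ?_⟩
  let S := Localization.Away g
  have : Module.Projective S ((ext R S).obj (E.X (i + 1))) :=
    projective_bc (algebraMap R S) (E.X (i + 1))
  obtain ⟨hex', hproj'⟩ := exactAt_and_projective_of_split S E i r hr
  let ε : DRing.toD ((FF S).obj K) ≅ DRing.toD ((FF S).obj E) :=
    (mapQIso (ext R S) K).symm ≪≫ (ext R S).mapDerivedCategory.mapIso e.symm ≪≫
      mapQIso (ext R S) E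
  exact core ((FF S).obj E) b i (vanishesAbove_bc (algebraMap R S) E b hEb)
    (termwiseFiniteProjective_bc (algebraMap R S) E hEp) hex' hproj' _ ε

end Groth.Agent.Lib.Seat30.TruncSplitMain
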