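import Mathlib
import Groth.Agent.Lib.Helper1PCNil2
import Groth.Agent.Lib.Helper1Fibres
import Groth.Agent.Lib.Seat30HasLDer
import Groth.Agent.S6954
set_option backward.isDefEq.respectTransparency.types false

/-!
# Perfectness modulo two ideals with zero product (seat 30)

Let `α : T → A` and `β : T → B` be surjective ring maps with `ker α * ker β = 0`, and `X ∈ D(T)`.
* if `X ⊗^L A` and `X ⊗^L B` have tor amplitude in `[a, b]`, so has `X`;
* if `X ⊗^L A` and `X ⊗^L B` are pseudo-coherent, so is `X`;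
* if `X ⊗^L A` and `X ⊗^L B` are perfect, so is `X`.

Also: derived base change is compatible with composition of ring maps (`lbcCompIso`).
The proofs follow `Helper1PCNil2` / `Helper1TorO` (one nilpotent ideal) closely.
-/

set_option autoImplicit false
set_option maxHeartbeats 400000
universe u
open CategoryTheory CategoryTheory.Limits MonoidalCategory HomologicalComplex TensorProduct
attribute [local instance] HasDerivedCategory.standard

namespace Groth.Agent.Lib.Seat30.TwoIdeals

open DerivedCategory Pretriangulated Groth.Agent.Lib.Helper1.KF Groth.Agent.Lib.Helper1.Tor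
  Groth.Agent.Lib.Helper1.DT Groth.Agent.Lib.Helper1.LDer Groth.Agent.Lib.Helper1.TorM
  Groth.Agent.Lib.Helper1.TorN Groth.Agent.Lib.Helper1.TorO Groth.Agent.Lib.Helper1.PC
  Groth.Agent.Lib.Helper1.PCTower Groth.Agent.S14388 Groth.Agent.Lib.Helper1.PCNil

section Nak

variable {R : Type*} [CommRing R] {M : Type*} [AddCommGroup M] [Module R M]

/-- if `M ⧸ I M` is finite there is a finitely generated `N ≤ M` with `N + I M = M` -/
lemma exists_fg_sup_smul_eq_top (I : Ideal R)
    (h : Module.Finite R (M ⧸ (I • (⊤ : Submodule R M)))) :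
    ∃ N : Submodule R M, N.FG ∧ N ⊔ I • (⊤ : Submodule R M) = ⊤ := by
  classical
  set P : Submodule R M := I • (⊤ : Submodule R M) with hP
  obtain ⟨s, hs⟩ := h.fg_top
  have hsurj := P.mkQ_surjective
  let t : Finset M := s.image (Function.surjInv hsurj)
  let N : Submodule R M := Submodule.span R (t : Set M)
  refine ⟨N, ⟨t, rfl⟩, ?_⟩
  rw [eq_top_iff]
  intro m _
  have hm : P.mkQ m ∈ Submodule.span R (s : Set (M ⧸ P)) := by rw [hs]; trivial
  have hmap : Submodule.span R (s : Set (M ⧸ P)) ≤ N.map P.mkQ := by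
    rw [Submodule.span_le]
    intro x hx
    refine ⟨Function.surjInv hsurj x, Submodule.subset_span ?_, Function.surjInv_eq hsurj x⟩
    exact Finset.mem_coe.2 (Finset.mem_image_of_mem _ hx)
  obtain ⟨n, hn, hnm⟩ := hmap hm
  have : m - n ∈ P := by
    rw [← Submodule.ker_mkQ P, LinearMap.mem_ker, map_sub, hnm, sub_self]
  have h2 : m = n + (m - n) := by abel
  rw [h2]
  exact Submodule.add_mem_sup hn this

/-- Nakayama for two ideals with zero product -/
lemma finite_of_finite_quotients (I J : Ideal R) (hIJ : I * J = ⊥)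
    (hI : Module.Finite R (M ⧸ (I • (⊤ : Submodule R M))))
    (hJ : Module.Finite R (M ⧸ (J • (⊤ : Submodule R M)))) : Module.Finite R M := by
  obtain ⟨N₁, hN₁, h₁⟩ := exists_fg_sup_smul_eq_top I hI
  obtain ⟨N₂, hN₂, h₂⟩ := exists_fg_sup_smul_eq_top J hJ
  have h₁' : (⊤ : Submodule R M) ≤ (N₁ ⊔ N₂) ⊔ I • (⊤ : Submodule R M) :=
    h₁.ge.trans (sup_le_sup_right le_sup_left _)
  have h₂' : (⊤ : Submodule R M) ≤ (N₁ ⊔ N₂) ⊔ J • (⊤ : Submodule R M) :=
    h₂.ge.trans (sup_le_sup_right le_sup_right _)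
  have h3 : I • (⊤ : Submodule R M) ≤ N₁ ⊔ N₂ := by
    have : I • (⊤ : Submodule R M) ≤ I • ((N₁ ⊔ N₂) ⊔ J • (⊤ : Submodule R M)) :=
      Submodule.smul_mono le_rfl h₂'
    refine this.trans ?_
    rw [Submodule.smul_sup, ← Submodule.mul_smul, hIJ, Submodule.bot_smul, sup_bot_eq]
    exact Submodule.smul_le_right
  have key : (⊤ : Submodule R M) ≤ N₁ ⊔ N₂ := h₁'.trans (sup_le le_rfl h3)
  have htop : N₁ ⊔ N₂ = ⊤ := eq_top_iff.2 key
  have hfg : (⊤ : Submodule R M).FG := by
    rw [← htop]
    exact hN₁.sup hN₂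
  exact ⟨hfg⟩

end Nak

section Ext

variable {R' R : Type u} [CommRing R'] [CommRing R] (φ : R' →+* R)

/-- finiteness of `R ⊗ M` gives finiteness of `M ⧸ (ker φ) M` for surjective `φ` -/
theorem finite_quotient_of_finite_extendScalars (hφ : Function.Surjective φ)
    (M : ModuleCat.{u} R')
    (h : Module.Finite R ((ModuleCat.extendScalars φ).obj M)) :
    Module.Finite R' (M ⧸ (RingHom.ker φ • (⊤ : Submodule R' M))) := by
  letI : Algebra R' R := φ.toAlgebra
  have h0 : Module.Finite R (R ⊗[R'] M) := h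
  have hRfin : Module.Finite R' R := Module.Finite.of_surjective (Algebra.linearMap R' R) hφ
  have h1 : Module.Finite R' (R ⊗[R'] M) := Module.Finite.trans R _
  let f : R' →ₐ[R'] R := Algebra.ofId R' R
  have hf : Function.Surjective f := hφ
  let ψ : (R' ⧸ RingHom.ker f) ≃ₐ[R'] R := Ideal.quotientKerAlgEquivOfSurjective hf
  let e1 : R ⊗[R'] M ≃ₗ[R'] (R' ⧸ RingHom.ker f) ⊗[R'] M :=
    TensorProduct.congr ψ.symm.toLinearEquiv (LinearEquiv.refl R' M)
  let e2 := TensorProduct.quotTensorEquivQuotSMul M (RingHom.ker f)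
  exact Module.Finite.equiv (e1.trans e2)

end Ext

variable {T A B : Type u} [CommRing T] [CommRing A] [CommRing B] (α : T →+* A) (β : T →+* B)

section Devissage

/-- dévissage for two ideals with zero product, in a fixed degree -/
theorem exactAt_TC_of_two (hαβ : RingHom.ker α * RingHom.ker β = ⊥)
    (F : Cx T) (hFf : DRing.TermwiseFlat F) (i : ℤ)
    (hA : ∀ (N : Type u) [AddCommGroup N] [Module T N], (∀ r ∈ RingHom.ker α, ∀ x : N, r • x = 0) →
      ((TC (ModuleCat.of T N)).obj F).ExactAt i)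
    (hB : ∀ (N : Type u) [AddCommGroup N] [Module T N], (∀ r ∈ RingHom.ker β, ∀ x : N, r • x = 0) →
      ((TC (ModuleCat.of T N)).obj F).ExactAt i)
    (N : Type u) [AddCommGroup N] [Module T N] : ((TC (ModuleCat.of T N)).obj F).ExactAt i := by
  let N' : Submodule T N := RingHom.ker β • (⊤ : Submodule T N)
  have h1 : ((TC (ModuleCat.of T N')).obj F).ExactAt i := by
    apply hA N'
    intro r hr x
    apply Subtype.ext
    show r • (x : N) = 0
    refine Submodule.smul_induction_on x.2 ?_ ?_
    · intro s hs y _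
      rw [smul_smul]
      have : r * s ∈ RingHom.ker α * RingHom.ker β := Ideal.mul_mem_mul hr hs
      rw [hαβ] at this
      rw [(Submodule.mem_bot T).1 this, zero_smul]
    · intro a b ha hb
      rw [smul_add, ha, hb, add_zero]
  have h3 : ((TC (ModuleCat.of T (N ⧸ N'))).obj F).ExactAt i := by
    apply hB (N ⧸ N')
    intro r hr x
    induction x using Submodule.Quotient.induction_on with
    | _ y =>
      rw [← Submodule.Quotient.mk_smul, Submodule.Quotient.mk_eq_zero]
      exact Submodule.smul_mem_smul hr Submodule.mem_top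
  let S : ShortComplex (ModuleCat.{u} T) :=
    ShortComplex.mk (ModuleCat.ofHom N'.subtype) (ModuleCat.ofHom N'.mkQ) (by
      ext x
      simp)
  have hS : S.ShortExact :=
    { exact := by
        rw [ShortComplex.ShortExact.moduleCat_exact_iff_function_exact]
        exact LinearMap.exact_subtype_mkQ N'
      mono_f := (ModuleCat.mono_iff_injective _).2 N'.subtype_injective
      epi_g := (ModuleCat.epi_iff_surjective _).2 N'.mkQ_surjective }
  exact exactAt_TC_of_shortExact S hS F hFf i h1 h3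

/-- tensor-vanishing descends from the two quotients -/
theorem torVan_of_torVan_extCx_two (hα : Function.Surjective α) (hβ : Function.Surjective β)
    (hαβ : RingHom.ker α * RingHom.ker β = ⊥)
    (F : Cx T) (hFf : DRing.TermwiseFlat F) (a b : ℤ)
    (hA : TorVan ((DTen.extCx α).obj F) a b) (hB : TorVan ((DTen.extCx β).obj F) a b) :
    TorVan F a b := by
  intro M i hi
  have hbaseA : ∀ (N : Type u) [AddCommGroup N] [Module T N],
      (∀ r ∈ RingHom.ker α, ∀ x : N, r • x = 0) → ((TC (ModuleCat.of T N)).obj F).ExactAt i := by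
    intro N _ _ hN
    obtain ⟨Nb, ⟨e⟩⟩ := exists_iso_restrictScalars_of_ker_smul_eq_zero α hα N hN
    exact exactAt_TC_of_iso e F i (exactAt_TC_restrict_of_exactAt_TC_ext α Nb F i (hA Nb i hi))
  have hbaseB : ∀ (N : Type u) [AddCommGroup N] [Module T N],
      (∀ r ∈ RingHom.ker β, ∀ x : N, r • x = 0) → ((TC (ModuleCat.of T N)).obj F).ExactAt i := by
    intro N _ _ hN
    obtain ⟨Nb, ⟨e⟩⟩ := exists_iso_restrictScalars_of_ker_smul_eq_zero β hβ N hN
    exact exactAt_TC_of_iso e F i (exactAt_TC_restrict_of_exactAt_TC_ext β Nb F i (hB Nb i hi))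
  exact exactAt_TC_of_two α β hαβ F hFf i hbaseA hbaseB M

end Devissage

section Main

variable [DRing.HasLBaseChange α] [DRing.HasLBaseChange β]

/-- **tor amplitude descends from the two quotients** -/
theorem hasTorAmplitudeIn_of_two (hα : Function.Surjective α) (hβ : Function.Surjective β)
    (hαβ : RingHom.ker α * RingHom.ker β = ⊥) (X : Dual.D T) (a b : ℤ)
    (hA : DRing.HasTorAmplitudeIn A a b ((DRing.LBaseChange α).obj X))
    (hB : DRing.HasTorAmplitudeIn B a b ((DRing.LBaseChange β).obj X)) :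
    DRing.HasTorAmplitudeIn T a b X := by
  obtain ⟨F, hF, hproj, ⟨e⟩⟩ := exists_kproj_iso X
  have hFf : DRing.TermwiseFlat F := fun i =>
    have := hproj i
    have : Module.Projective T (F.X i) := ModuleCat.projective_of_module_projective _
    inferInstance
  have hvA : TorVan ((DTen.extCx α).obj F) a b := by
    obtain ⟨E, hE, hEf, ⟨eE⟩⟩ := hA
    have e2 : Q.obj E ≅ Q.obj ((DTen.extCx α).obj F) :=
      eE ≪≫ (DRing.LBaseChange α).mapIso e.symm ≪≫ lbcIso α F
    exact torVan_of_iso_kflat _ E (kflat_of_isKProjective _) a b hE hEf e2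
  have hvB : TorVan ((DTen.extCx β).obj F) a b := by
    obtain ⟨E, hE, hEf, ⟨eE⟩⟩ := hB
    have e2 : Q.obj E ≅ Q.obj ((DTen.extCx β).obj F) :=
      eE ≪≫ (DRing.LBaseChange β).mapIso e.symm ≪≫ lbcIso β F
    exact torVan_of_iso_kflat _ E (kflat_of_isKProjective _) a b hE hEf e2
  have hv' : TorVan F a b := torVan_of_torVan_extCx_two α β hα hβ hαβ F hFf a b hvA hvB
  exact hasTorAmp_of_iso e (hasTorAmp_of_torVan_kflat F (kflat_of_isKProjective F) a b hv')

omit [DRing.HasLBaseChange β] in
/-- for `F₁` bounded above with projective terms: if `Q F₁ ⊗^L A` is pseudo-coherent then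
`A ⊗ H^b(F₁)` is a finite module -/
theorem finite_ext_homology_top (F₁ : Cx T) (b : ℤ) [F₁.IsStrictlyLE b]
    (hproj : ∀ n, Projective (F₁.X n))
    (hpc : DRing.IsPseudoCoherent' A ((DRing.LBaseChange α).obj (Q.obj F₁))) :
    Module.Finite A ((ModuleCat.extendScalars α).obj (F₁.homology b)) := by
  have hF₁b : DRing.VanishesAbove F₁ b := fun j hj => F₁.isZero_of_isStrictlyLE b j hj
  haveI hF₁K : F₁.IsKProjective := by
    apply isKProjective_of_vanishesAbove F₁ b hF₁b
    intro j
    have := hproj j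
    exact ModuleCat.projective_of_module_projective _
  have iso1 : (DRing.LBaseChange α).obj (Q.obj F₁) ≅ Q.obj ((DTen.extCx α).obj F₁) := lbcIso α F₁
  obtain ⟨E, c, hEc, hEff, ⟨eE⟩⟩ := hpc
  have hex : ∀ i : ℤ, b < i → E.ExactAt i := by
    intro i hi
    have h1 : ((DTen.extCx α).obj F₁).ExactAt i :=
      ShortComplex.exact_of_isZero_X₂ _
        ((ModuleCat.extendScalars α).map_isZero (F₁.isZero_of_isStrictlyLE b i hi))
    exact exactAt_of_Q_iso (iso1.symm ≪≫ eE.symm) i h1
  have hker := (ker_d_finite_projective E b c hEc (fun i _ => by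
    have := (hEff i).1
    have := (hEff i).2
    exact ⟨inferInstance, inferInstance⟩) hex b le_rfl).1
  have hfinE : Module.Finite A (E.homology b) := finite_homology_of_ker E b hker
  have isoH : E.homology b ≅ ((DTen.extCx α).obj F₁).homology b :=
    ((homologyFunctorFactors (ModuleCat.{u} A) b).app E).symm ≪≫
      (homologyFunctor (ModuleCat.{u} A) b).mapIso (eE ≪≫ iso1) ≪≫
      (homologyFunctorFactors (ModuleCat.{u} A) b).app _
  exact Module.Finite.equiv (isoH ≪≫ homologyExtIso α F₁ b).toLinearEquiv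

/-- if `X ∈ D^{≤ b}(T)` and `X ⊗^L A`, `X ⊗^L B` are pseudo-coherent then `H^b(X)` is finite -/
theorem finite_HD_top_two (hα : Function.Surjective α) (hβ : Function.Surjective β)
    (hαβ : RingHom.ker α * RingHom.ker β = ⊥)
    (X : Dual.D T) (b : ℤ) [X.IsLE b]
    (hpcA : DRing.IsPseudoCoherent' A ((DRing.LBaseChange α).obj X))
    (hpcB : DRing.IsPseudoCoherent' B ((DRing.LBaseChange β).obj X)) :
    Module.Finite T ((homologyFunctor (ModuleCat.{u} T) b).obj X) := by
  obtain ⟨F₁, hle, hproj, ⟨e⟩⟩ := Groth.Agent.Lib.Helper1.ProjRes.exists_iso_Q_proj X b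
  have hA : DRing.IsPseudoCoherent' A ((DRing.LBaseChange α).obj (Q.obj F₁)) := by
    obtain ⟨E, c, hEc, hEff, ⟨eE⟩⟩ := hpcA
    exact ⟨E, c, hEc, hEff, ⟨eE ≪≫ (DRing.LBaseChange α).mapIso e.symm⟩⟩
  have hB : DRing.IsPseudoCoherent' B ((DRing.LBaseChange β).obj (Q.obj F₁)) := by
    obtain ⟨E, c, hEc, hEff, ⟨eE⟩⟩ := hpcB
    exact ⟨E, c, hEc, hEff, ⟨eE ≪≫ (DRing.LBaseChange β).mapIso e.symm⟩⟩
  have h1 := finite_quotient_of_finite_extendScalars α hα _
    (finite_ext_homology_top α F₁ b hproj hA)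
  have h2 := finite_quotient_of_finite_extendScalars β hβ _
    (finite_ext_homology_top β F₁ b hproj hB)
  have hfin3 : Module.Finite T (F₁.homology b) :=
    finite_of_finite_quotients _ _ hαβ h1 h2
  have hfin4 : Module.Finite T ((HomologicalComplex.homologyFunctor (ModuleCat.{u} T)
      (ComplexShape.up ℤ) b).obj F₁) := hfin3
  exact Module.Finite.equiv (((homologyFunctorFactors (ModuleCat.{u} T) b).app F₁).symm ≪≫
    (homologyFunctor (ModuleCat.{u} T) b).mapIso e).toLinearEquiv

/-- boundedness above descends from the two quotients -/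
theorem isLE_of_isLE_LBC_two (hα : Function.Surjective α) (hβ : Function.Surjective β)
    (hαβ : RingHom.ker α * RingHom.ker β = ⊥)
    (X : Dual.D T) (c : ℤ) (hA : ((DRing.LBaseChange α).obj X).IsLE c)
    (hB : ((DRing.LBaseChange β).obj X).IsLE c) : X.IsLE c := by
  obtain ⟨F, hF, hproj, ⟨e⟩⟩ := exists_kproj_iso X
  have hFf : DRing.TermwiseFlat F := fun i =>
    have := hproj i
    have : Module.Projective T (F.X i) := ModuleCat.projective_of_module_projective _
    inferInstance
  have iso1 : (DRing.LBaseChange α).obj X ≅ Q.obj ((DTen.extCx α).obj F) :=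
    (DRing.LBaseChange α).mapIso e.symm ≪≫ lbcIso α F
  have iso2 : (DRing.LBaseChange β).obj X ≅ Q.obj ((DTen.extCx β).obj F) :=
    (DRing.LBaseChange β).mapIso e.symm ≪≫ lbcIso β F
  have hleA : (Q.obj ((DTen.extCx α).obj F)).IsLE c := tt.isLE_of_iso iso1 c
  have hleB : (Q.obj ((DTen.extCx β).obj F)).IsLE c := tt.isLE_of_iso iso2 c
  rw [DerivedCategory.isLE_Q_obj_iff, CochainComplex.isLE_iff] at hleA hleB
  have hGKA : KFlat ((DTen.extCx α).obj F) := kflat_of_isKProjective _
  have hGKB : KFlat ((DTen.extCx β).obj F) := kflat_of_isKProjective _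
  have hFle : (Q.obj F).IsLE c := by
    rw [DerivedCategory.isLE_Q_obj_iff, CochainComplex.isLE_iff]
    intro i hi
    have hbaseA : ∀ (N : Type u) [AddCommGroup N] [Module T N],
        (∀ r ∈ RingHom.ker α, ∀ x : N, r • x = 0) →
          ((TC (ModuleCat.of T N)).obj F).ExactAt i := by
      intro N _ _ hN
      obtain ⟨Nb, ⟨eN⟩⟩ := exists_iso_restrictScalars_of_ker_smul_eq_zero α hα N hN
      exact exactAt_TC_of_iso eN F i (exactAt_TC_restrict_of_exactAt_TC_ext α Nb F i
        (exactAt_TC_of_exactAt_above _ hGKA c hleA Nb i hi))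
    have hbaseB : ∀ (N : Type u) [AddCommGroup N] [Module T N],
        (∀ r ∈ RingHom.ker β, ∀ x : N, r • x = 0) →
          ((TC (ModuleCat.of T N)).obj F).ExactAt i := by
      intro N _ _ hN
      obtain ⟨Nb, ⟨eN⟩⟩ := exists_iso_restrictScalars_of_ker_smul_eq_zero β hβ N hN
      exact exactAt_TC_of_iso eN F i (exactAt_TC_restrict_of_exactAt_TC_ext β Nb F i
        (exactAt_TC_of_exactAt_above _ hGKB c hleB Nb i hi))
    have h1 := exactAt_TC_of_two α β hαβ F hFf i hbaseA hbaseB T
    rw [exactAt_TC_iff _ F (i - 1) i (i + 1) (by lia) rfl] at h1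
    rw [exactAt_iff_fexact F (i - 1) i (i + 1) (by lia) rfl]
    refine Function.Exact.of_ladder_linearEquiv_of_exact (e₁ := TensorProduct.lid T _)
      (e₂ := TensorProduct.lid T _) (e₃ := TensorProduct.lid T _) ?_ ?_ h1
    · ext x
      simp
    · ext x
      simp
  exact tt.isLE_of_iso e c

/-- the inductive step -/
theorem isPC_aux_two (hα : Function.Surjective α) (hβ : Function.Surjective β)
    (hαβ : RingHom.ker α * RingHom.ker β = ⊥) :
    ∀ (n : ℕ) (X : Dual.D T) (b : ℤ), X.IsLE b →
      DRing.IsPseudoCoherent' A ((DRing.LBaseChange α).obj X) →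
      DRing.IsPseudoCoherent' B ((DRing.LBaseChange β).obj X) →
      DRing.IsPseudoCoherent T (b + 1 - n) X := by
  obtain ⟨adjA⟩ := Groth.Agent.S12898.result α
  letI : (DRing.LBaseChange α).CommShift ℤ := adjA.leftAdjointCommShift ℤ
  haveI : adjA.CommShift ℤ := adjA.commShift_of_rightAdjoint ℤ
  haveI : (DRing.LBaseChange α).IsTriangulated := adjA.isTriangulated_leftAdjoint
  obtain ⟨adjB⟩ := Groth.Agent.S12898.result β
  letI : (DRing.LBaseChange β).CommShift ℤ := adjB.leftAdjointCommShift ℤ
  haveI : adjB.CommShift ℤ := adjB.commShift_of_rightAdjoint ℤ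
  haveI : (DRing.LBaseChange β).IsTriangulated := adjB.isTriangulated_leftAdjoint
  intro n
  induction n with
  | zero =>
    intro X b hX _ _
    have : X.IsLE (b + 1 - ((0 : ℕ) : ℤ) - 1) := by
      have e : b + 1 - ((0 : ℕ) : ℤ) - 1 = b := by simp
      rw [e]
      exact hX
    exact isPC_of_isLE _ X
  | succ n ih =>
    intro X b hX hpcA hpcB
    have hfin := finite_HD_top_two α β hα hβ hαβ X b hpcA hpcB
    obtain ⟨F, ψ, hF, hψ⟩ := exists_single_conn X b hfin
    obtain ⟨C, v, w, hC⟩ := distinguished_cocone_triangle ψ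
    have hCle : C.IsLE (b - 1) := (conn_iff_of_distTriang _ hC b).1 hψ
    have hs : ∀ m : ℤ, DRing.IsPseudoCoherent T m ((singleFunctor (ModuleCat.{u} T) b).obj F) :=
      fun m => isPC_of_rep m (rep_single F hF b)
    have hLsA : DRing.IsPseudoCoherent' A
        ((DRing.LBaseChange α).obj ((singleFunctor (ModuleCat.{u} T) b).obj F)) :=
      isPseudoCoherent'_of_forall _ (fun m => Groth.Agent.S2137.result α _ m (hs m))
    have hLsB : DRing.IsPseudoCoherent' B
        ((DRing.LBaseChange β).obj ((singleFunctor (ModuleCat.{u} T) b).obj F)) :=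
      isPseudoCoherent'_of_forall _ (fun m => Groth.Agent.S2137.result β _ m (hs m))
    have hLTA := (DRing.LBaseChange α).map_distinguished _ hC
    have hLTB := (DRing.LBaseChange β).map_distinguished _ hC
    have hLCA : DRing.IsPseudoCoherent' A ((DRing.LBaseChange α).obj C) :=
      (Groth.Agent.S7017.result A _ hLTA).1 hLsA hpcA
    have hLCB : DRing.IsPseudoCoherent' B ((DRing.LBaseChange β).obj C) :=
      (Groth.Agent.S7017.result B _ hLTB).1 hLsB hpcB
    have ihC := ih C (b - 1) hCle hLCA hLCB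
    have e : b - 1 + 1 - (n : ℤ) = b + 1 - ((n + 1 : ℕ) : ℤ) := by push_cast; ring
    rw [e] at ihC
    exact isPC_obj₂ _ hC _ (hs _) ihC

/-- **pseudo-coherence descends from the two quotients** -/
theorem isPseudoCoherent'_of_two (hα : Function.Surjective α) (hβ : Function.Surjective β)
    (hαβ : RingHom.ker α * RingHom.ker β = ⊥) (X : Dual.D T)
    (hpcA : DRing.IsPseudoCoherent' A ((DRing.LBaseChange α).obj X))
    (hpcB : DRing.IsPseudoCoherent' B ((DRing.LBaseChange β).obj X)) :
    DRing.IsPseudoCoherent' T X := by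
  obtain ⟨E, c, hEc, hEff, ⟨eE⟩⟩ := id hpcA
  obtain ⟨E', c', hEc', hEff', ⟨eE'⟩⟩ := id hpcB
  have hEle : E.IsStrictlyLE (max c c') := by
    rw [CochainComplex.isStrictlyLE_iff]
    exact fun i hi => hEc i (lt_of_le_of_lt (le_max_left _ _) hi)
  have hEle' : E'.IsStrictlyLE (max c c') := by
    rw [CochainComplex.isStrictlyLE_iff]
    exact fun i hi => hEc' i (lt_of_le_of_lt (le_max_right _ _) hi)
  have hLleA : ((DRing.LBaseChange α).obj X).IsLE (max c c') := tt.isLE_of_iso eE _
  have hLleB : ((DRing.LBaseChange β).obj X).IsLE (max c c') := tt.isLE_of_iso eE' _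
  have hX : X.IsLE (max c c') := isLE_of_isLE_LBC_two α β hα hβ hαβ X _ hLleA hLleB
  apply isPseudoCoherent'_of_forall
  intro m
  have h1 := isPC_aux_two α β hα hβ hαβ (max c c' + 1 - m).toNat X _ hX hpcA hpcB
  exact isPC_mono (by lia) h1

/-- **perfectness descends from the two quotients** -/
theorem isPerfect_of_two (hα : Function.Surjective α) (hβ : Function.Surjective β)
    (hαβ : RingHom.ker α * RingHom.ker β = ⊥) (X : Dual.D T)
    (hA : DRing.IsPerfect A ((DRing.LBaseChange α).obj X))
    (hB : DRing.IsPerfect B ((DRing.LBaseChange β).obj X)) : DRing.IsPerfect T X := by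
  obtain ⟨hpcA, a, b, hab⟩ := (Groth.Agent.S6954.result A _).1 hA
  obtain ⟨hpcB, a', b', hab'⟩ := (Groth.Agent.S6954.result B _).1 hB
  rw [Groth.Agent.S6954.result]
  refine ⟨isPseudoCoherent'_of_two α β hα hβ hαβ X hpcA hpcB, min a a', max b b', ?_⟩
  apply hasTorAmplitudeIn_of_two α β hα hβ hαβ
  · obtain ⟨E, h1, h2, h3⟩ := hab
    exact ⟨E, fun i hi => h1 i (by rcases hi with hi | hi
                                   · exact Or.inl (lt_of_lt_of_le hi (min_le_left _ _))
                                   · exact Or.inr (lt_of_le_of_lt (le_max_left _ _) hi)), h2, h3⟩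
  · obtain ⟨E, h1, h2, h3⟩ := hab'
    exact ⟨E, fun i hi => h1 i (by rcases hi with hi | hi
                                   · exact Or.inl (lt_of_lt_of_le hi (min_le_right _ _))
                                   · exact Or.inr (lt_of_le_of_lt (le_max_right _ _) hi)), h2, h3⟩

end Main

section Comp

variable {R : Type u} [CommRing R] (φ : R →+* T) [DRing.HasLBaseChange φ] [DRing.HasLBaseChange α]
  [DRing.HasLBaseChange (α.comp φ)]

/-- derived base change is compatible with composition (objectwise) -/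
theorem nonempty_lbc_comp_iso (K : Dual.D R) :
    Nonempty ((DRing.LBaseChange α).obj ((DRing.LBaseChange φ).obj K) ≅
      (DRing.LBaseChange (α.comp φ)).obj K) := by
  obtain ⟨F, hF, hproj, ⟨e⟩⟩ := exists_kproj_iso K
  have hK : ((bcCx φ).obj F).IsKProjective :=
    (inferInstance : ((DTen.extCx φ).obj F).IsKProjective)
  exact ⟨(DRing.LBaseChange α).mapIso ((DRing.LBaseChange φ).mapIso e.symm ≪≫ lbcIso φ F) ≪≫
    lbcIso α ((bcCx φ).obj F) ≪≫
    Q.mapIso (Groth.Agent.Lib.Helper1.LocalCx.bcCxCompIso φ α F).symm ≪≫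
    (lbcIso (α.comp φ) F).symm ≪≫ (DRing.LBaseChange (α.comp φ)).mapIso e⟩

end Comp

end Groth.Agent.Lib.Seat30.TwoIdeals
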