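import Mathlib

/-!
# Seat31: the conormal module of an extension is a retract of that of any other extension
plus the cotangent space

For two extensions `P`, `P'` of `S` over `R` with morphisms in both directions, `P.Cotangent`
is a retract of `P'.Cotangent × P.CotangentSpace`.  In particular finite projectivity of the
conormal module passes between presentations with finite projective cotangent space.
-/

set_option autoImplicit false

universe u

open Algebra Algebra.Extension

namespace Groth.Agent.Lib.Seat31.CotRetract

variable {R S : Type u} [CommRing R] [CommRing S] [Algebra R S] {P P' : Extension.{u} R S}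

/-- the inclusion `I/I² → I'/I'² × (S ⊗ Ω)`. -/
noncomputable def incl (f : P.Hom P') : P.Cotangent →ₗ[S] P'.Cotangent × P.CotangentSpace :=
  (Cotangent.map f).prod P.cotangentComplex

/-- the retraction `I'/I'² × (S ⊗ Ω) → I/I²`. -/
noncomputable def retr (f : P.Hom P') (g : P'.Hom P) :
    P'.Cotangent × P.CotangentSpace →ₗ[S] P.Cotangent :=
  (Cotangent.map g).coprod (-((g.comp f).sub (Hom.id P)))

lemma retr_comp_incl (f : P.Hom P') (g : P'.Hom P) :
    retr f g ∘ₗ incl f = LinearMap.id := by
  have h1 := Cotangent.map_sub_map (g.comp f) (Hom.id P)
  rw [Cotangent.map_comp, Cotangent.map_id] at h1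
  apply LinearMap.ext
  intro x
  have h2 := congr($h1 x)
  simp only [LinearMap.sub_apply, LinearMap.coe_comp, Function.comp_apply,
    LinearMap.coe_restrictScalars, LinearMap.id_coe, id_eq] at h2
  change (Cotangent.map g) ((Cotangent.map f) x) +
    -((g.comp f).sub (Hom.id P)) (P.cotangentComplex x) = x
  rw [← h2]
  abel

theorem finite_projective_cotangent_of_homs (f : P.Hom P') (g : P'.Hom P)
    [Module.Finite S P'.Cotangent] [Module.Projective S P'.Cotangent]
    [Module.Finite S P.CotangentSpace] [Module.Projective S P.CotangentSpace] :
    Module.Finite S P.Cotangent ∧ Module.Projective S P.Cotangent := by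
  have hsurj : Function.Surjective (retr f g) := by
    intro x
    exact ⟨incl f x, congr($(retr_comp_incl f g) x)⟩
  exact ⟨Module.Finite.of_surjective (retr f g) hsurj,
    Module.Projective.of_split (incl f) (retr f g) (retr_comp_incl f g)⟩

end Groth.Agent.Lib.Seat31.CotRetract
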