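import Groth.Agent.Lib.Seat31NLHtpy
import Mathlib.Algebra.Homology.Additive

/-!
# Seat31: additive functors applied to two-term complexes `HomologicalComplex.double`
-/

set_option autoImplicit false

universe u v

open CategoryTheory CategoryTheory.Limits

namespace Groth.Agent.Lib.Seat31.DoubleMap

open Groth.Agent.Lib.Seat31.NLHtpy (rel)

variable {C D : Type*} [Category C] [Category D] [Preadditive C] [Preadditive D]
  [HasZeroObject C] [HasZeroObject D] (G : C ⥤ D) [G.Additive]
  {X₀ X₁ : C} (f : X₀ ⟶ X₁) {Y₀ Y₁ : D} (g : Y₀ ⟶ Y₁)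
  (e₀ : Y₀ ≅ G.obj X₀) (e₁ : Y₁ ≅ G.obj X₁) (comm : g ≫ e₁.hom = e₀.hom ≫ G.map f)

omit [Preadditive D] [HasZeroObject D] [G.Additive] in
include comm in
lemma comm_aux :
    (e₀.hom ≫ G.map (HomologicalComplex.doubleXIso₀ f rel).inv) ≫
        G.map ((HomologicalComplex.double f rel).d (-1) 0) =
      g ≫ (e₁.hom ≫ G.map (HomologicalComplex.doubleXIso₁ f rel (by decide)).inv) := by
  rw [HomologicalComplex.double_d f rel (by decide), Category.assoc, ← G.map_comp,
    Iso.inv_hom_id_assoc, G.map_comp, ← Category.assoc, ← comm, Category.assoc]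

omit [HasZeroObject D] in
lemma zero_aux (k : ℤ) :
    (e₁.hom ≫ G.map (HomologicalComplex.doubleXIso₁ f rel (by decide)).inv) ≫
        G.map ((HomologicalComplex.double f rel).d 0 k) = 0 := by
  rw [HomologicalComplex.double_d_eq_zero₀ f rel 0 k (by decide), G.map_zero, comp_zero]

/-- the comparison map from the two-term complex of `g` to the image under `G` of the two-term
complex of `f`. -/
noncomputable def doubleMapHom :
    HomologicalComplex.double g rel ⟶
      (G.mapHomologicalComplex (ComplexShape.up ℤ)).obj (HomologicalComplex.double f rel) :=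
  HomologicalComplex.mkHomFromDouble rel (by decide)
    (K := (G.mapHomologicalComplex (ComplexShape.up ℤ)).obj (HomologicalComplex.double f rel))
    (e₀.hom ≫ G.map (HomologicalComplex.doubleXIso₀ f rel).inv)
    (e₁.hom ≫ G.map (HomologicalComplex.doubleXIso₁ f rel (by decide)).inv)
    (comm_aux G f g e₀ e₁ comm)
    (fun k _ => zero_aux G f e₁ k)

include comm in
lemma isIso_doubleMapHom : IsIso (doubleMapHom G f g e₀ e₁ comm) := by
  have hc : ∀ n : ℤ, IsIso ((doubleMapHom G f g e₀ e₁ comm).f n) := by
    intro n
    by_cases hn0 : n = -1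
    · subst hn0
      have e : (doubleMapHom G f g e₀ e₁ comm).f (-1) =
          (HomologicalComplex.doubleXIso₀ g rel).hom ≫
            (e₀.hom ≫ G.map (HomologicalComplex.doubleXIso₀ f rel).inv) :=
        HomologicalComplex.mkHomFromDouble_f₀ _ _ _ _ _ _
      rw [e]
      exact IsIso.comp_isIso' (Iso.isIso_hom _) (IsIso.comp_isIso' (Iso.isIso_hom _)
        (Functor.map_isIso G _))
    · by_cases hn1 : n = 0
      · subst hn1
        have e : (doubleMapHom G f g e₀ e₁ comm).f 0 =
            (HomologicalComplex.doubleXIso₁ g rel (by decide)).hom ≫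
              (e₁.hom ≫ G.map (HomologicalComplex.doubleXIso₁ f rel (by decide)).inv) :=
          HomologicalComplex.mkHomFromDouble_f₁ _ _ _ _ _ _
        rw [e]
        exact IsIso.comp_isIso' (Iso.isIso_hom _) (IsIso.comp_isIso' (Iso.isIso_hom _)
          (Functor.map_isIso G _))
      · exact NLIso.isIso_of_isZero _ (HomologicalComplex.isZero_double_X _ _ n hn0 hn1)
          (G.map_isZero (HomologicalComplex.isZero_double_X _ _ n hn0 hn1))
  exact HomologicalComplex.Hom.isIso_of_components _

include comm in
/-- an additive functor applied to a two-term complex is the two-term complex of the image of the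
differential. -/
theorem nonempty_iso_map_double :
    Nonempty (HomologicalComplex.double g rel ≅
      (G.mapHomologicalComplex (ComplexShape.up ℤ)).obj (HomologicalComplex.double f rel)) :=
  have := isIso_doubleMapHom G f g e₀ e₁ comm
  ⟨asIso (doubleMapHom G f g e₀ e₁ comm)⟩

end Groth.Agent.Lib.Seat31.DoubleMap
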