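import Mathlib

/-!
# Seat31: auxiliary lemmas for the fibrewise study of a flat quotient of a polynomial ring
-/

set_option autoImplicit false

universe u

open TensorProduct

namespace Groth.Agent.Lib.Seat31.FlatLciAux

section FL

variable {A : Type u} [CommRing A] {M : Type u} [AddCommGroup M] [Module A M]

/-- If `M / N` is flat then `𝔞 M ∩ N = 𝔞 N`. -/
theorem mem_smul_top_of_flat_quotient {P : Type u} [AddCommGroup P] [Module A P]
    [Module.Flat A P] (N : Submodule A M) (g : M →ₗ[A] P) (hg : Function.Surjective g)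
    (hex : Function.Exact N.subtype g) (𝔞 : Ideal A) (z : N)
    (hz : (z : M) ∈ 𝔞 • (⊤ : Submodule A M)) : z ∈ 𝔞 • (⊤ : Submodule A N) := by
  have hinj := LinearMap.lTensor_injective_of_exact_of_flat g hg N.subtype N.subtype_injective hex
    (A ⧸ 𝔞)
  have h0 : (N.subtype.lTensor (A ⧸ 𝔞)) ((1 : A ⧸ 𝔞) ⊗ₜ[A] z) = 0 := by
    rw [LinearMap.lTensor_tmul]
    change (1 : A ⧸ 𝔞) ⊗ₜ[A] (z : M) = 0
    have gen : ∀ m : M, m ∈ 𝔞 • (⊤ : Submodule A M) → (1 : A ⧸ 𝔞) ⊗ₜ[A] m = 0 := by
      intro m hm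
      induction hm using Submodule.smul_induction_on' with
      | smul a ha m _ =>
        have : a • (1 : A ⧸ 𝔞) = 0 := by
          rw [Algebra.smul_def, mul_one]
          exact Ideal.Quotient.eq_zero_iff_mem.2 ha
        rw [← TensorProduct.smul_tmul, this, TensorProduct.zero_tmul]
      | add x _ y _ hx hy => rw [TensorProduct.tmul_add, hx, hy, add_zero]
    exact gen _ hz
  have h1 : (1 : A ⧸ 𝔞) ⊗ₜ[A] z = 0 := hinj (by rw [h0, map_zero])
  have h2 := congrArg (TensorProduct.quotTensorEquivQuotSMul N 𝔞) h1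
  rw [map_zero, ← map_one (Ideal.Quotient.mk 𝔞), TensorProduct.quotTensorEquivQuotSMul_mk_tmul,
    one_smul] at h2
  exact (Submodule.Quotient.mk_eq_zero _).1 h2

end FL

section Poly

variable {A : Type u} [CommRing A] {n : ℕ}

/-- `𝔞 A[x] ∩ I = 𝔞 I` when `A[x] / I` is flat over `A`. -/
theorem inf_le_mul_of_flat {B : Type u} [CommRing B] [Algebra A B] [Module.Flat A B]
    (f : MvPolynomial (Fin n) A →ₐ[A] B) (hf : Function.Surjective f) (𝔞 : Ideal A)
    (z : MvPolynomial (Fin n) A) (hzI : z ∈ RingHom.ker f.toRingHom)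
    (hz : z ∈ 𝔞.map (MvPolynomial.C : A →+* MvPolynomial (Fin n) A)) :
    z ∈ 𝔞.map (MvPolynomial.C : A →+* MvPolynomial (Fin n) A) * RingHom.ker f.toRingHom := by
  set I := RingHom.ker f.toRingHom with hI
  let N : Submodule A (MvPolynomial (Fin n) A) := I.restrictScalars A
  have hex : Function.Exact N.subtype f.toLinearMap := by
    intro x
    constructor
    · intro hx
      exact ⟨⟨x, hx⟩, rfl⟩
    · rintro ⟨y, rfl⟩
      exact y.2
  have hz' : z ∈ 𝔞 • (⊤ : Submodule A (MvPolynomial (Fin n) A)) := by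
    rw [MvPolynomial.mem_map_C_iff] at hz
    rw [← MvPolynomial.support_sum_monomial_coeff z]
    refine Submodule.sum_mem _ fun m _ => ?_
    have : MvPolynomial.monomial m (MvPolynomial.coeff m z) =
        MvPolynomial.coeff m z • MvPolynomial.monomial m (1 : A) := by
      rw [MvPolynomial.smul_monomial, smul_eq_mul, mul_one]
    rw [this]
    exact Submodule.smul_mem_smul (hz m) Submodule.mem_top
  have key := mem_smul_top_of_flat_quotient N f.toLinearMap hf hex 𝔞 ⟨z, hzI⟩ hz'
  have hle : 𝔞 • (⊤ : Submodule A N) ≤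
      Submodule.comap N.subtype ((𝔞.map (MvPolynomial.C : A →+* MvPolynomial (Fin n) A) *
        I).restrictScalars A) := by
    rw [Submodule.smul_le]
    intro a ha i _
    rw [Submodule.mem_comap, map_smul]
    change a • (i : MvPolynomial (Fin n) A) ∈ _
    rw [MvPolynomial.smul_eq_C_mul]
    exact Ideal.mul_mem_mul (Ideal.mem_map_of_mem _ ha) i.2
  exact hle key

end Poly

end Groth.Agent.Lib.Seat31.FlatLciAux
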