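import Mathlib

/-!
# Seat31: ideals locally generated by a sequence with only "trivial mod `J`" relations

Let `I` be an ideal of `P`, `g ∈ P`, `S = P_g` and suppose `J = I S` is generated by a list `l`
whose relations all have coefficients in `J`.  We produce elements `x i ∈ I` which, up to powers
of `g`, generate `I` and are linearly independent modulo `I²` over `P/I`.
-/

set_option autoImplicit false

universe u

namespace Groth.Agent.Lib.Seat31.KoszulLocal

variable {P : Type u} [CommRing P] (I : Ideal P) (g : P)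
  (S : Type u) [CommRing S] [Algebra P S] [IsLocalization.Away g S]

/-- common denominators for a finite family. -/
lemma exists_common_denom {r : ℕ} (b : Fin r → S) :
    ∃ (n : ℕ) (p : Fin r → P), ∀ i, b i * algebraMap P S g ^ n = algebraMap P S (p i) := by
  choose n a h using fun i => IsLocalization.Away.surj g (b i)
  refine ⟨∑ i, n i, fun i => a i * g ^ ((∑ j, n j) - n i), fun i => ?_⟩
  have hle : n i ≤ ∑ j, n j := Finset.single_le_sum (fun _ _ => Nat.zero_le _) (Finset.mem_univ i)
  rw [map_mul, ← h i, map_pow, mul_assoc, ← pow_add, Nat.add_sub_cancel' hle]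

/-- elements of `I S` become elements of `I` after multiplying by a power of `g`. -/
lemma exists_of_mem_map {z : S} (hz : z ∈ I.map (algebraMap P S)) :
    ∃ (n : ℕ) (y : P), y ∈ I ∧ z * algebraMap P S g ^ n = algebraMap P S y := by
  obtain ⟨⟨⟨y, hy⟩, ⟨_, n, rfl⟩⟩, h⟩ :=
    (IsLocalization.mem_map_algebraMap_iff (Submonoid.powers g) S).mp hz
  exact ⟨n, y, hy, by simpa using h⟩

/-- common version of `exists_of_mem_map`. -/
lemma exists_common_of_mem_map {r : ℕ} (b : Fin r → S) (hb : ∀ i, b i ∈ I.map (algebraMap P S)) :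
    ∃ (n : ℕ) (x : Fin r → P), (∀ i, x i ∈ I) ∧
      ∀ i, b i * algebraMap P S g ^ n = algebraMap P S (x i) := by
  choose n y hy h using fun i => exists_of_mem_map I g S (hb i)
  refine ⟨∑ i, n i, fun i => y i * g ^ ((∑ j, n j) - n i),
    fun i => Ideal.mul_mem_right _ _ (hy i), fun i => ?_⟩
  have hle : n i ≤ ∑ j, n j := Finset.single_le_sum (fun _ _ => Nat.zero_le _) (Finset.mem_univ i)
  rw [map_mul, ← h i, map_pow, mul_assoc, ← pow_add, Nat.add_sub_cancel' hle]

variable {r : ℕ} (l : Fin r → S) (hspan : I.map (algebraMap P S) = Ideal.span (Set.range l))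
  (n : ℕ) (x : Fin r → P) (hx : ∀ i, l i * algebraMap P S g ^ n = algebraMap P S (x i))

include hspan hx in
/-- generation up to powers of `g`. -/
lemma generate {z : P} (hz : z ∈ I) :
    ∃ (k : ℕ) (q : Fin r → P), g ^ k * z = ∑ i, q i * x i := by
  have h1 : algebraMap P S z ∈ Ideal.span (Set.range l) := by
    rw [← hspan]
    exact Ideal.mem_map_of_mem _ hz
  obtain ⟨b, hb⟩ := Ideal.mem_span_range_iff_exists_fun.mp h1
  obtain ⟨e, p, hp⟩ := exists_common_denom g S b
  have h2 : algebraMap P S (g ^ (n + e) * z) = algebraMap P S (∑ i, p i * x i) := by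
    rw [map_mul, ← hb, map_sum, map_pow, Finset.mul_sum]
    refine Finset.sum_congr rfl fun i _ => ?_
    rw [map_mul, ← hp i, ← hx i, pow_add]
    ring
  obtain ⟨k, hk⟩ := IsLocalization.Away.exists_of_eq g h2
  refine ⟨k + (n + e), fun i => g ^ k * p i, ?_⟩
  rw [pow_add, mul_assoc, hk, Finset.mul_sum]
  refine Finset.sum_congr rfl fun i _ => ?_
  ring

include hspan hx in
/-- independence modulo `I²` up to powers of `g`. -/
lemma independent
    (hSP : ∀ a : Fin r → S, ∑ i, a i * l i = 0 → ∀ i, a i ∈ Ideal.span (Set.range l))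
    (p : Fin r → P) (k : ℕ) (hp : g ^ k * ∑ i, p i * x i ∈ I ^ 2) (i : Fin r) :
    ∃ k' : ℕ, g ^ k' * p i ∈ I := by
  have hu : IsUnit (algebraMap P S g) := IsLocalization.Away.algebraMap_isUnit g
  -- pass to `S`
  have h1 : algebraMap P S (g ^ k * ∑ i, p i * x i) ∈ (I.map (algebraMap P S)) ^ 2 := by
    rw [← Ideal.map_pow]
    exact Ideal.mem_map_of_mem _ hp
  rw [map_mul, map_pow, Ideal.unit_mul_mem_iff_mem _ (hu.pow k), map_sum] at h1
  have h2 : (I.map (algebraMap P S)) ^ 2 =
      (I.map (algebraMap P S)) • Submodule.span S (Set.range l) := by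
    rw [pow_two, hspan]
    rfl
  rw [h2] at h1
  obtain ⟨a, ha, hsum⟩ := (Submodule.mem_ideal_smul_span_iff_exists_sum _ l _).mp h1
  have hsum' : ∑ j, a j * l j = ∑ j, algebraMap P S (p j * x j) := by
    rw [← hsum, Finsupp.sum_fintype _ _ (fun i => zero_smul S (l i))]
    rfl
  have h3 : ∑ j, (algebraMap P S (p j) * algebraMap P S g ^ n - a j) * l j = 0 := by
    have : ∀ j, (algebraMap P S (p j) * algebraMap P S g ^ n - a j) * l j =
        algebraMap P S (p j * x j) - a j * l j := by
      intro j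
      rw [map_mul, ← hx j]
      ring
    simp only [this, Finset.sum_sub_distrib, hsum', sub_self]
  have h4 := hSP _ h3 i
  rw [← hspan] at h4
  have h5 : algebraMap P S (p i) * algebraMap P S g ^ n ∈ I.map (algebraMap P S) := by
    have := Ideal.add_mem _ h4 (ha i)
    simpa using this
  rw [Ideal.mul_unit_mem_iff_mem _ (hu.pow n)] at h5
  obtain ⟨m, y, hy, hm⟩ := exists_of_mem_map I g S h5
  rw [← map_pow, ← map_mul] at hm
  obtain ⟨k', hk'⟩ := IsLocalization.Away.exists_of_eq g hm
  refine ⟨k' + m, ?_⟩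
  have : g ^ (k' + m) * p i = g ^ k' * y := by
    rw [← hk', pow_add]
    ring
  rw [this]
  exact Ideal.mul_mem_left _ _ hy

end Groth.Agent.Lib.Seat31.KoszulLocal
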