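import Mathlib
import Groth.Prelude.Def_Koszul

/-!
# Seat31: syzygies of a sequence whose Koszul complex is exact in degree `-1`

For a list `l` of elements of `A` all lying in an ideal `J`, if `H^{-1}` of the (mapping-cone
model of the) Koszul complex vanishes, then every relation `∑ aᵢ lᵢ = 0` has all its
coefficients in `J`.
-/

set_option autoImplicit false

universe u

open CategoryTheory CategoryTheory.Limits CochainComplex HomComplex

namespace Groth.Agent.Lib.Seat31.KoszulSyz

variable {A : Type u} [CommRing A]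

lemma map_mem_smul_top {M N : Type*} [AddCommGroup M] [Module A M] [AddCommGroup N] [Module A N]
    (J : Ideal A) (g : M →ₗ[A] N) {y : M} (hy : y ∈ J • (⊤ : Submodule A M)) :
    g y ∈ J • (⊤ : Submodule A N) := by
  have h1 : g y ∈ (J • (⊤ : Submodule A M)).map g := Submodule.mem_map_of_mem hy
  rw [Submodule.map_smul''] at h1
  exact Submodule.smul_mono le_rfl le_top h1

section Cone

variable {K L : CochainComplex (ModuleCat.{u} A) ℤ} (φ : K ⟶ L)

/-- first component -/
noncomputable def cfst (n m : ℤ) (h : n + 1 = m) : (mappingCone φ).X n →ₗ[A] K.X m :=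
  ((mappingCone.fst φ).1.v n m h).hom

/-- second component -/
noncomputable def csnd (n : ℤ) : (mappingCone φ).X n →ₗ[A] L.X n :=
  ((mappingCone.snd φ).v n n (add_zero n)).hom

/-- first inclusion -/
noncomputable def cinl (n m : ℤ) (h : n + 1 = m) : K.X m →ₗ[A] (mappingCone φ).X n :=
  ((mappingCone.inl φ).v m n (by omega)).hom

/-- second inclusion -/
noncomputable def cinr (n : ℤ) : L.X n →ₗ[A] (mappingCone φ).X n :=
  ((mappingCone.inr φ).f n).hom

lemma cfst_cinl (n m : ℤ) (h : n + 1 = m) (u : K.X m) : cfst φ n m h (cinl φ n m h u) = u := by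
  have := mappingCone.inl_v_fst_v φ m n h
  exact congr($(this).hom u)

lemma cfst_cinr (n m : ℤ) (h : n + 1 = m) (v : L.X n) : cfst φ n m h (cinr φ n v) = 0 := by
  have := mappingCone.inr_f_fst_v φ n m h
  exact congr($(this).hom v)

lemma csnd_cinl (n m : ℤ) (h : n + 1 = m) (u : K.X m) : csnd φ n (cinl φ n m h u) = 0 := by
  have := mappingCone.inl_v_snd_v φ m n (by omega)
  exact congr($(this).hom u)

lemma csnd_cinr (n : ℤ) (v : L.X n) : csnd φ n (cinr φ n v) = v := by
  have := mappingCone.inr_f_snd_v φ n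
  exact congr($(this).hom v)

lemma cone_decomp (n m : ℤ) (h : n + 1 = m) (x : (mappingCone φ).X n) :
    x = cinl φ n m h (cfst φ n m h x) + cinr φ n (csnd φ n x) := by
  have := mappingCone.id_X φ n m h
  exact congr($(this).hom x).symm

lemma cone_ext (n m : ℤ) (h : n + 1 = m) {x y : (mappingCone φ).X n}
    (h1 : cfst φ n m h x = cfst φ n m h y) (h2 : csnd φ n x = csnd φ n y) : x = y := by
  rw [cone_decomp φ n m h x, cone_decomp φ n m h y, h1, h2]

lemma cfst_d (n m k : ℤ) (h : n + 1 = m) (h' : m + 1 = k) (x : (mappingCone φ).X n) :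
    cfst φ m k h' (((mappingCone φ).d n m).hom x) = -(K.d m k).hom (cfst φ n m h x) := by
  have := mappingCone.d_fst_v φ n m k h h'
  exact congr($(this).hom x)

lemma csnd_d (n m : ℤ) (h : n + 1 = m) (x : (mappingCone φ).X n) :
    csnd φ m (((mappingCone φ).d n m).hom x) =
      (φ.f m).hom (cfst φ n m h x) + (L.d n m).hom (csnd φ n x) := by
  have := mappingCone.d_snd_v φ n m h
  exact congr($(this).hom x)

end Cone

/-- all differentials of `K` have image in `J • ⊤`. -/
def DInJ (K : CochainComplex (ModuleCat.{u} A) ℤ) (J : Ideal A) : Prop :=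
  ∀ (n m : ℤ) (x : K.X n), (K.d n m).hom x ∈ J • (⊤ : Submodule A (K.X m))

lemma dInJ_cone (K : CochainComplex (ModuleCat.{u} A) ℤ) (J : Ideal A) (hK : DInJ K J)
    (f : A) (hf : f ∈ J) : DInJ (mappingCone (f • 𝟙 K)) J := by
  intro n m x
  by_cases h : n + 1 = m
  · rw [cone_decomp (f • 𝟙 K) m (m + 1) rfl (((mappingCone (f • 𝟙 K)).d n m).hom x),
      cfst_d _ n m (m + 1) h rfl, csnd_d _ n m h]
    refine Submodule.add_mem _ ?_ ?_
    · apply map_mem_smul_top
      exact Submodule.neg_mem _ (hK _ _ _)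
    · apply map_mem_smul_top
      refine Submodule.add_mem _ ?_ (hK _ _ _)
      have : ((f • 𝟙 K : K ⟶ K).f m).hom (cfst (f • 𝟙 K) n m h x) =
          f • (cfst (f • 𝟙 K) n m h x) := rfl
      rw [this]
      exact Submodule.smul_mem_smul hf Submodule.mem_top
  · rw [(mappingCone (f • 𝟙 K)).shape n m h]
    simp


lemma dInJ_koszul (J : Ideal A) : ∀ l : List A, (∀ x ∈ l, x ∈ J) → DInJ (Koszul.koszul A l) J
  | [], _ => by
    intro n m x
    have : ((Koszul.koszul A []).d n m) = 0 := by
      change (((CochainComplex.singleFunctor (ModuleCat.{u} A) 0).obj (ModuleCat.of A A)).d n m) = 0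
      exact HomologicalComplex.single_obj_d _ _ _ _ _
    rw [this]
    simp
  | f :: l, hl => by
    change DInJ (mappingCone (f • 𝟙 (Koszul.koszul A l))) J
    exact dInJ_cone _ J (dInJ_koszul J l (fun x hx => hl x (List.mem_cons_of_mem _ hx))) f
      (hl f List.mem_cons_self)

lemma subsingleton_X_pos : ∀ (l : List A) (n : ℤ), 0 < n → Subsingleton ((Koszul.koszul A l).X n)
  | [], n, hn => by
    have : IsZero ((Koszul.koszul A []).X n) := by
      change IsZero (((CochainComplex.singleFunctor (ModuleCat.{u} A) 0).obj (ModuleCat.of A A)).X n)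
      exact HomologicalComplex.isZero_single_obj_X _ _ _ _ (by omega)
    exact ModuleCat.subsingleton_of_isZero this
  | f :: l, n, hn => by
    change Subsingleton ((mappingCone (f • 𝟙 (Koszul.koszul A l))).X n)
    have h1 := subsingleton_X_pos l (n + 1) (by omega)
    have h2 := subsingleton_X_pos l n hn
    refine ⟨fun x y => ?_⟩
    rw [cone_decomp (f • 𝟙 (Koszul.koszul A l)) n (n + 1) rfl x,
      cone_decomp (f • 𝟙 (Koszul.koszul A l)) n (n + 1) rfl y]
    congr 2
    · exact Subsingleton.elim _ _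
    · exact Subsingleton.elim _ _


/-- explicit description of the Koszul complex in degrees `-1` and `0`. -/
theorem exists_structure : ∀ l : List A,
    ∃ (ι₀ : A →ₗ[A] (Koszul.koszul A l).X 0) (π₀ : (Koszul.koszul A l).X 0 →ₗ[A] A)
      (σ : (Fin l.length → A) →ₗ[A] (Koszul.koszul A l).X (-1))
      (ρ : (Koszul.koszul A l).X (-1) →ₗ[A] (Fin l.length → A)),
      (∀ a, π₀ (ι₀ a) = a) ∧ (∀ a, ρ (σ a) = a) ∧
      (∀ a, ((Koszul.koszul A l).d (-1) 0).hom (σ a) = ι₀ (∑ i, a i * l.get i))
  | [] => by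
    refine ⟨(HomologicalComplex.singleObjXSelf (ComplexShape.up ℤ) 0 (ModuleCat.of A A)).inv.hom,
      (HomologicalComplex.singleObjXSelf (ComplexShape.up ℤ) 0 (ModuleCat.of A A)).hom.hom,
      0, 0, ?_, ?_, ?_⟩
    · intro a
      exact congr($((HomologicalComplex.singleObjXSelf (ComplexShape.up ℤ) 0
        (ModuleCat.of A A)).inv_hom_id).hom a)
    · intro a
      funext i
      exact i.elim0
    · intro a
      have hs : (∑ i : Fin ([] : List A).length, a i * ([] : List A).get i) = 0 :=
        Finset.sum_eq_zero (fun i _ => i.elim0)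
      rw [hs]
      exact (map_zero _).trans (map_zero _).symm
  | f :: l => by
    obtain ⟨ι₀, π₀, σ, ρ, h0, h1, h2⟩ := exists_structure l
    have hsub : Subsingleton ((Koszul.koszul A l).X 1) := subsingleton_X_pos l 1 (by omega)
    change ∃ (ι₀ : A →ₗ[A] (mappingCone (f • 𝟙 (Koszul.koszul A l))).X 0)
      (π₀ : (mappingCone (f • 𝟙 (Koszul.koszul A l))).X 0 →ₗ[A] A)
      (σ : (Fin (l.length + 1) → A) →ₗ[A] (mappingCone (f • 𝟙 (Koszul.koszul A l))).X (-1))
      (ρ : (mappingCone (f • 𝟙 (Koszul.koszul A l))).X (-1) →ₗ[A] (Fin (l.length + 1) → A)),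
      (∀ a, π₀ (ι₀ a) = a) ∧ (∀ a, ρ (σ a) = a) ∧
      (∀ a, ((mappingCone (f • 𝟙 (Koszul.koszul A l))).d (-1) 0).hom (σ a) =
        ι₀ (∑ i, a i * (f :: l).get i))
    set φ := f • 𝟙 (Koszul.koszul A l) with hφ
    let tl : (Fin (l.length + 1) → A) →ₗ[A] (Fin l.length → A) :=
      LinearMap.pi (fun j => LinearMap.proj j.succ)
    refine ⟨cinr φ 0 ∘ₗ ι₀, π₀ ∘ₗ csnd φ 0,
      cinl φ (-1) 0 rfl ∘ₗ ι₀ ∘ₗ LinearMap.proj 0 + cinr φ (-1) ∘ₗ σ ∘ₗ tl,
      LinearMap.pi (Fin.cons (π₀ ∘ₗ cfst φ (-1) 0 rfl)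
        (fun j => LinearMap.proj j ∘ₗ ρ ∘ₗ csnd φ (-1))), ?_, ?_, ?_⟩
    · intro a
      simp only [LinearMap.comp_apply, csnd_cinr, h0]
    · intro a
      funext i
      refine Fin.cases ?_ (fun j => ?_) i
      · simp only [LinearMap.pi_apply, Fin.cons_zero, LinearMap.comp_apply, LinearMap.add_apply,
          map_add, cfst_cinl, cfst_cinr, h0, LinearMap.proj_apply, map_zero, add_zero]
      · simp only [LinearMap.pi_apply, Fin.cons_succ, LinearMap.comp_apply, LinearMap.add_apply,
          map_add, csnd_cinl, csnd_cinr, h1, LinearMap.proj_apply, map_zero, zero_add]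
        rfl
    · intro a
      apply cone_ext φ 0 1 rfl
      · exact Subsingleton.elim _ _
      · rw [csnd_d φ (-1) 0 rfl]
        simp only [LinearMap.comp_apply, LinearMap.add_apply, map_add, cfst_cinl, cfst_cinr,
          csnd_cinl, csnd_cinr, add_zero, zero_add, LinearMap.proj_apply, h2]
        have e1 : (φ.f 0).hom (ι₀ (a 0)) = f • ι₀ (a 0) := rfl
        rw [e1, ← map_smul, ← map_add, Fin.sum_univ_succ]
        congr 1
        simp only [smul_eq_mul, List.get_cons_zero, mul_comm f]
        rfl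


/-- **Syzygies of an `H₁`-regular sequence.** If all elements of `l` lie in `J` and the Koszul
complex of `l` is exact in degree `-1`, every relation `∑ aᵢ lᵢ = 0` has coefficients in `J`. -/
theorem coeff_mem_of_relation (l : List A) (J : Ideal A) (hl : ∀ x ∈ l, x ∈ J)
    (hH : IsZero ((Koszul.koszul A l).homology (-1))) (a : Fin l.length → A)
    (ha : ∑ i, a i * l.get i = 0) (i : Fin l.length) : a i ∈ J := by
  obtain ⟨ι₀, π₀, σ, ρ, -, h1, h2⟩ := exists_structure l
  have hd : ((Koszul.koszul A l).d (-1) 0).hom (σ a) = 0 := by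
    rw [h2, ha, map_zero]
  have hex : (Koszul.koszul A l).ExactAt (-1) :=
    (HomologicalComplex.exactAt_iff_isZero_homology _ _).2 hH
  rw [HomologicalComplex.exactAt_iff' _ (-2) (-1) 0 (by simp) (by simp),
    ShortComplex.moduleCat_exact_iff] at hex
  obtain ⟨y, hy⟩ := hex (σ a) hd
  have hy' : σ a = ((Koszul.koszul A l).d (-2) (-1)).hom y := hy.symm
  have hmem : σ a ∈ J • (⊤ : Submodule A ((Koszul.koszul A l).X (-1))) := by
    rw [hy']
    exact dInJ_koszul J l hl _ _ _
  have h3 : (LinearMap.proj i ∘ₗ ρ) (σ a) ∈ J • (⊤ : Submodule A A) :=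
    map_mem_smul_top J (LinearMap.proj i ∘ₗ ρ) hmem
  rw [LinearMap.comp_apply, h1, LinearMap.proj_apply] at h3
  simpa using h3

end Groth.Agent.Lib.Seat31.KoszulSyz
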