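import Mathlib
import Groth.Prelude.Def_LCI2
import Groth.Agent.S7017
import Groth.Agent.S11917
import Groth.Agent.Lib.Seat31KoszulSyz

/-!
# Seat31: the Koszul complex of a Koszul-regular sequence is a finite free resolution

For a Koszul-regular list `l` in `A`, `Koszul.koszul A l` is a bounded complex of finite free
modules isomorphic in `D(A)` to `A ⧸ (l)` placed in degree `0`.
-/

set_option autoImplicit false

universe u

open CategoryTheory CategoryTheory.Limits CochainComplex

attribute [local instance] HasDerivedCategory.standard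

namespace Groth.Agent.Lib.Seat31.KoszulRes

open Groth.Agent.S7017 DerivedCategory

variable {A : Type u} [CommRing A]

/-- the terms of the Koszul complex are finite free. -/
lemma ff_X : ∀ (l : List A) (n : ℤ), FF ((Koszul.koszul A l).X n)
  | [], n => by
    by_cases hn : n = 0
    · subst hn
      exact FF_iso _ _ (HomologicalComplex.singleObjXSelf (ComplexShape.up ℤ) 0
        (ModuleCat.of A A)).symm ⟨inferInstanceAs (Module.Finite A A),
          inferInstanceAs (Module.Free A A)⟩
    · have : IsZero ((Koszul.koszul A []).X n) := by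
        change IsZero (((CochainComplex.singleFunctor (ModuleCat.{u} A) 0).obj
          (ModuleCat.of A A)).X n)
        exact HomologicalComplex.isZero_single_obj_X _ _ _ _ hn
      have := ModuleCat.subsingleton_of_isZero this
      exact ⟨inferInstance, inferInstance⟩
  | f :: l, n => by
    change FF ((mappingCone (f • 𝟙 (Koszul.koszul A l))).X n)
    exact FF_iso _ _ (HomologicalComplex.homotopyCofiber.XIsoBiprod (f • 𝟙 (Koszul.koszul A l)) n (n + 1) rfl).symm
      (FF_sum _ _ (ff_X l (n + 1)) (ff_X l n))

/-- the terms of the Koszul complex vanish below `-length`. -/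
lemma isZero_X_neg : ∀ (l : List A) (n : ℤ), n < -(l.length : ℤ) →
    IsZero ((Koszul.koszul A l).X n)
  | [], n, hn => by
    change IsZero (((CochainComplex.singleFunctor (ModuleCat.{u} A) 0).obj
      (ModuleCat.of A A)).X n)
    exact HomologicalComplex.isZero_single_obj_X _ _ _ _ (by simp at hn; omega)
  | f :: l, n, hn => by
    change IsZero ((mappingCone (f • 𝟙 (Koszul.koszul A l))).X n)
    rw [mappingCone.isZero_X_iff]
    simp only [List.length_cons, Nat.cast_add, Nat.cast_one] at hn
    exact ⟨isZero_X_neg l (n + 1) (by omega), isZero_X_neg l n (by omega)⟩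

lemma isZero_X_pos (l : List A) (n : ℤ) (hn : 0 < n) : IsZero ((Koszul.koszul A l).X n) := by
  have := KoszulSyz.subsingleton_X_pos l n hn
  exact ModuleCat.isZero_of_subsingleton _

lemma koszul_eq : ∀ l : List A, Koszul.koszul A l = CohIII.koszulCx (ModuleCat.of A A) l
  | [] => rfl
  | f :: l => by
    change CochainComplex.mappingCone (f • 𝟙 (Koszul.koszul A l)) =
      CochainComplex.mappingCone (f • 𝟙 (CohIII.koszulCx (ModuleCat.of A A) l))
    rw [koszul_eq l]

/-- `H^0` of the Koszul complex is `A ⧸ (l)`. -/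
theorem nonempty_homology_zero_iso (l : List A) :
    Nonempty ((Koszul.koszul A l).homology 0 ≅ ModuleCat.of A (A ⧸ Ideal.ofList l)) := by
  rw [koszul_eq]
  obtain ⟨e⟩ := Groth.Agent.S11917.main A l
  have h : Ideal.ofList l • (⊤ : Submodule A A) = Ideal.ofList l := by
    rw [Ideal.smul_eq_mul, Ideal.mul_top]
  exact ⟨(e.trans (Submodule.quotEquivOfEq _ _ h)).toModuleIso⟩

/-- a complex concentrated in degrees `≤ 0` and exact in negative degrees is isomorphic in the
derived category to its `H^0` placed in degree `0`. -/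
theorem nonempty_iso_single (K : CochainComplex (ModuleCat.{u} A) ℤ)
    (hpos : ∀ i : ℤ, 0 < i → IsZero (K.X i)) (hneg : ∀ i : ℤ, i < 0 → IsZero (K.homology i)) :
    Nonempty (Q.obj K ≅ (DerivedCategory.singleFunctor (ModuleCat.{u} A) 0).obj (K.homology 0)) := by
  have hle : (Q.obj K).IsLE 0 := by
    rw [DerivedCategory.isLE_Q_obj_iff, CochainComplex.isLE_iff]
    intro i hi
    exact HomologicalComplex.ExactAt.of_isZero (hpos i hi)
  have hge : (Q.obj K).IsGE 0 := by
    rw [DerivedCategory.isGE_Q_obj_iff, CochainComplex.isGE_iff]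
    intro i hi
    rw [HomologicalComplex.exactAt_iff_isZero_homology]
    exact hneg i hi
  obtain ⟨M, ⟨e⟩⟩ := DerivedCategory.exists_iso_singleFunctor_obj_of_isGE_of_isLE (Q.obj K) 0
  let e₁ : K.homology 0 ≅ M :=
    ((DerivedCategory.homologyFunctorFactors (ModuleCat.{u} A) 0).app K).symm ≪≫
      (DerivedCategory.homologyFunctor (ModuleCat.{u} A) 0).mapIso e ≪≫
      (DerivedCategory.singleFunctorCompHomologyFunctorIso (ModuleCat.{u} A) 0).app M
  exact ⟨e ≪≫ (DerivedCategory.singleFunctor (ModuleCat.{u} A) 0).mapIso e₁.symm⟩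

/-- the Koszul complex of a Koszul-regular sequence resolves `A ⧸ (l)`. -/
theorem nonempty_koszul_iso (l : List A) (hl : LCI.IsKoszulRegularSeq A l) :
    Nonempty (DRing.toD (Koszul.koszul A l) ≅ Dual.inD A (A ⧸ Ideal.ofList l)) := by
  obtain ⟨e⟩ := nonempty_iso_single (Koszul.koszul A l) (isZero_X_pos l)
    (fun i hi => hl i (by omega))
  obtain ⟨e'⟩ := nonempty_homology_zero_iso l
  exact ⟨e ≪≫ (DerivedCategory.singleFunctor (ModuleCat.{u} A) 0).mapIso e'⟩


/-- the same, for a quotient given as an algebra. -/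
theorem nonempty_koszul_iso_of_surjective {C : Type u} [CommRing C] [Algebra A C]
    (hsurj : Function.Surjective (algebraMap A C)) (l : List A)
    (hker : RingHom.ker (algebraMap A C) = Ideal.ofList l) (hl : LCI.IsKoszulRegularSeq A l) :
    Nonempty (DRing.toD (Koszul.koszul A l) ≅ Dual.inD A C) := by
  obtain ⟨e⟩ := nonempty_koszul_iso l hl
  have hsurj' : Function.Surjective (Algebra.ofId A C) := hsurj
  let e₁ : (A ⧸ RingHom.ker (Algebra.ofId A C)) ≃ₗ[A] C :=
    (Ideal.quotientKerAlgEquivOfSurjective hsurj').toLinearEquiv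
  have hk : Ideal.ofList l = RingHom.ker (Algebra.ofId A C) := hker.symm
  let e₂ : (A ⧸ Ideal.ofList l) ≃ₗ[A] C := (Submodule.quotEquivOfEq _ _ hk).trans e₁
  exact ⟨e ≪≫ (DerivedCategory.singleFunctor (ModuleCat.{u} A) 0).mapIso e₂.toModuleIso⟩

end Groth.Agent.Lib.Seat31.KoszulRes
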