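import Mathlib
import Groth.Prelude.Def_LCI2
import Groth.Prelude.Def_MoreMor
import Groth.Agent.Lib.Seat31KoszulRes
import Groth.Agent.Lib.Seat0PerfHom
import Groth.Agent.Lib.Seat0PCFinite

/-!
# Seat31: local complete intersection ring maps are perfect
-/

set_option autoImplicit false

universe u

open CategoryTheory CategoryTheory.Limits

attribute [local instance] HasDerivedCategory.standard

namespace Groth.Agent.Lib.Seat31.LciPerf

open Groth.Agent.Lib.Seat0.PerfHom Groth.Agent.Lib.Seat0.PCHom Groth.Agent.Lib.Seat0.PCFinite
open Groth.Agent.Lib.Helper1.Restrict Groth.Agent.Lib.Helper1.TorDim Groth.Agent.Lib.Helper1.RelPC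

/-- the quotient by a Koszul-regular sequence is a perfect ring map. -/
theorem perfH_of_koszulRegular {Q C : Type u} [CommRing Q] [CommRing C] [Algebra Q C]
    (hsurj : Function.Surjective (algebraMap Q C)) (l : List Q)
    (hker : RingHom.ker (algebraMap Q C) = Ideal.ofList l) (hl : LCI.IsKoszulRegularSeq Q l) :
    PerfH (algebraMap Q C) := by
  obtain ⟨e⟩ := KoszulRes.nonempty_koszul_iso_of_surjective hsurj l hker hl
  constructor
  · rw [pch_iff_bpc_of_finite _ (RingHom.Finite.of_surjective _ hsurj)]
    exact bpc_of_algebra ⟨Koszul.koszul Q l, 0, KoszulRes.isZero_X_pos l, KoszulRes.ff_X l, ⟨e⟩⟩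
  · rw [ftd_algebraMap_iff]
    refine ⟨l.length, (hasTorDimLE_iff_hasTorAmp C l.length).2
      ⟨Koszul.koszul Q l, ?_, ?_, ⟨e⟩⟩⟩
    · rintro i (hi | hi)
      · exact KoszulRes.isZero_X_neg l i hi
      · exact KoszulRes.isZero_X_pos l i hi
    · intro i
      have := (KoszulRes.ff_X l i).2
      infer_instance


section Localize

variable {P B : Type u} [CommRing P] [CommRing B] (φ : P →+* B) (hφ : Function.Surjective φ)
  (g : P)

include hφ in
lemma awayMap_surjective : Function.Surjective (Localization.awayMap φ g) := by
  rw [Localization.awayMap_surjective_iff]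
  intro a
  obtain ⟨b, rfl⟩ := hφ a
  exact ⟨b, 0, by simp⟩

lemma ker_awayMap :
    RingHom.ker (Localization.awayMap φ g) =
      (RingHom.ker φ).map (algebraMap P (Localization.Away g)) := by
  have hcomp : (Localization.awayMap φ g).comp (algebraMap P (Localization.Away g)) =
      (algebraMap B (Localization.Away (φ g))).comp φ := IsLocalization.map_comp _
  have hu : IsUnit (algebraMap P (Localization.Away g) g) :=
    IsLocalization.Away.algebraMap_isUnit g
  apply le_antisymm
  · intro z hz
    rw [RingHom.mem_ker] at hz
    obtain ⟨n, p, hp⟩ := IsLocalization.Away.surj g z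
    have h1 : algebraMap B (Localization.Away (φ g)) (φ p) = 0 := by
      have := congr($hcomp p)
      simp only [RingHom.comp_apply] at this
      rw [← this, ← hp, map_mul, hz, zero_mul]
    rw [← map_zero (algebraMap B (Localization.Away (φ g)))] at h1
    obtain ⟨m, hm⟩ := IsLocalization.Away.exists_of_eq (φ g) h1
    rw [mul_zero, ← map_pow, ← map_mul] at hm
    have h2 : algebraMap P (Localization.Away g) (g ^ m * p) ∈
        (RingHom.ker φ).map (algebraMap P (Localization.Away g)) :=
      Ideal.mem_map_of_mem _ hm
    rw [map_mul, ← hp, map_pow, ← mul_assoc, mul_comm _ z, mul_assoc,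
      Ideal.mul_unit_mem_iff_mem _ ((hu.pow m).mul (hu.pow n))] at h2
    exact h2
  · rw [Ideal.map_le_iff_le_comap]
    intro p hp
    rw [Ideal.mem_comap, RingHom.mem_ker]
    have := congr($hcomp p)
    simp only [RingHom.comp_apply] at this
    rw [this, (RingHom.mem_ker).1 hp, map_zero]

end Localize

/-- **A local complete intersection ring map is perfect.** -/
theorem perfH_of_isLCI {A B : Type u} [CommRing A] [CommRing B] [Algebra A B]
    (h : LCI.IsLCI A B) : PerfH (algebraMap A B) := by
  obtain ⟨-, n, f, hf, hK⟩ := h
  let s : Set B := {b | ∃ g : MvPolynomial (Fin n) A, f g = b ∧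
    ∃ l : List (Localization.Away g), LCI.IsKoszulRegularSeq (Localization.Away g) l ∧
      (RingHom.ker f.toRingHom).map (algebraMap _ (Localization.Away g)) = Ideal.span {x | x ∈ l}}
  have hs : Ideal.span s = ⊤ := by
    by_contra hne
    obtain ⟨𝔪, h𝔪, hle⟩ := Ideal.exists_le_maximal _ hne
    have hp : (𝔪.comap f.toRingHom).IsPrime := Ideal.comap_isPrime _ _
    have hker : RingHom.ker f.toRingHom ≤ 𝔪.comap f.toRingHom := by
      intro z hz
      rw [Ideal.mem_comap, (RingHom.mem_ker).1 hz]
      exact Ideal.zero_mem _
    obtain ⟨g, hg, l, hl, hspan⟩ := hK ⟨_, hp⟩ hker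
    apply hg
    rw [Ideal.mem_comap]
    exact hle (Ideal.subset_span ⟨g, rfl, l, hl, hspan⟩)
  refine perfH_isLocal.ofLocalizationSpanTarget (algebraMap A B) s hs ?_
  rintro ⟨b, g, rfl, l, hl, hspan⟩
  -- factor `A → B → B_{f g}` as `A → P → P_g → B_{f g}`
  have hcomp : (algebraMap B (Localization.Away (f g))).comp (algebraMap A B) =
      (Localization.awayMap f.toRingHom g).comp
        ((algebraMap (MvPolynomial (Fin n) A) (Localization.Away g)).comp
          (algebraMap A (MvPolynomial (Fin n) A))) := by
    have h1 : (Localization.awayMap f.toRingHom g).comp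
        (algebraMap (MvPolynomial (Fin n) A) (Localization.Away g)) =
        (algebraMap B (Localization.Away (f g))).comp f.toRingHom := IsLocalization.map_comp _
    rw [← RingHom.comp_assoc, h1, RingHom.comp_assoc]
    congr 1
    ext a
    exact (f.commutes a).symm
  change PerfH ((algebraMap B (Localization.Away (f g))).comp (algebraMap A B))
  rw [hcomp]
  refine perfH_comp (perfH_comp ?_ (perfH_holdsForLocalizationAway _ g)) ?_
  · -- polynomial ring
    refine ⟨⟨n, RingHom.id _, ?_, Function.surjective_id, bpc_of_bijective _ Function.bijective_id⟩,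
      ftd_of_flat ?_⟩
    · rw [RingHom.id_comp]; rfl
    · rw [RingHom.flat_algebraMap_iff]
      infer_instance
  · -- quotient by a Koszul-regular sequence
    let _ : Algebra (Localization.Away g) (Localization.Away (f g)) :=
      (Localization.awayMap f.toRingHom g).toAlgebra
    have hsurj : Function.Surjective (algebraMap (Localization.Away g) (Localization.Away (f g))) :=
      awayMap_surjective f.toRingHom hf g
    have hker : RingHom.ker (algebraMap (Localization.Away g) (Localization.Away (f g))) =
        Ideal.ofList l := by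
      change RingHom.ker (Localization.awayMap f.toRingHom g) = _
      rw [ker_awayMap, hspan]
    exact perfH_of_koszulRegular hsurj l hker hl

end Groth.Agent.Lib.Seat31.LciPerf
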