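import Groth.Agent.Lib.Seat31KR
import Groth.Agent.Lib.Seat31LciPerf
import Groth.Agent.Lib.Seat31KoszulLocal

/-!
# Seat31: Koszul-regular ideals, local form; preimages under surjections

* `KRLoc I g`: `I` is generated on `D(g)` by a Koszul-regular sequence; stable under shrinking
  (`KRLoc.mul_right`, `KRLoc.mul_left`);
* `isKoszulRegularIdeal_comap`: if `φ : S → R'` is surjective with Koszul-regular kernel and `J` is
  a Koszul-regular ideal of `R'` then `φ⁻¹ J` is Koszul-regular.
-/

set_option autoImplicit false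
universe u
open CategoryTheory CategoryTheory.Limits

namespace Groth.Agent.Lib.Seat31.KR

variable {A : Type u} [CommRing A]

/-- `I` is generated on `D(g)` by a Koszul-regular sequence. -/
def KRLoc (I : Ideal A) (g : A) : Prop :=
  ∃ l : List (Localization.Away g), LCI.IsKoszulRegularSeq (Localization.Away g) l ∧
    I.map (algebraMap A (Localization.Away g)) = Ideal.span {x | x ∈ l}

lemma isKoszulRegularIdeal_iff (I : Ideal A) :
    LCI.IsKoszulRegularIdeal I ↔
      ∀ 𝔭 : PrimeSpectrum A, I ≤ 𝔭.asIdeal → ∃ g : A, g ∉ 𝔭.asIdeal ∧ KRLoc I g :=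
  Iff.rfl

lemma span_map_list {S T : Type u} [CommRing S] [CommRing T] (ρ : S →+* T) (l : List S) :
    (Ideal.span {x | x ∈ l}).map ρ = Ideal.span {y | y ∈ l.map ρ} := by
  rw [Ideal.map_span]
  congr 1
  ext y
  simp [List.mem_map]

lemma flat_awayToAwayRight (g g' : A) :
    (IsLocalization.Away.awayToAwayRight (S := Localization.Away g)
      (P := Localization.Away (g * g')) g g').Flat := by
  let ρ := IsLocalization.Away.awayToAwayRight (S := Localization.Away g)
      (P := Localization.Away (g * g')) g g'
  let _ : Algebra (Localization.Away g) (Localization.Away (g * g')) := ρ.toAlgebra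
  have : IsScalarTower A (Localization.Away g) (Localization.Away (g * g')) :=
    IsScalarTower.of_algebraMap_eq (fun a =>
      (IsLocalization.Away.awayToAwayRight_eq (S := Localization.Away g)
        (P := Localization.Away (g * g')) g g' a).symm)
  have hflat : Module.Flat A (Localization.Away (g * g')) :=
    IsLocalization.flat _ (Submonoid.powers (g * g'))
  exact (Module.flat_iff_of_isLocalization (Localization.Away g) (Submonoid.powers g)
    (Localization.Away (g * g'))).2 hflat

theorem KRLoc.mul_right {I : Ideal A} {g : A} (h : KRLoc I g) (g' : A) : KRLoc I (g * g') := by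
  obtain ⟨l, hl, hspan⟩ := h
  let ρ := IsLocalization.Away.awayToAwayRight (S := Localization.Away g)
      (P := Localization.Away (g * g')) g g'
  have hρ : ρ.comp (algebraMap A (Localization.Away g)) =
      algebraMap A (Localization.Away (g * g')) := by
    ext a
    exact IsLocalization.Away.awayToAwayRight_eq (S := Localization.Away g)
        (P := Localization.Away (g * g')) g g' a
  refine ⟨l.map ρ, Groth.Agent.Lib.Seat40.RegSeqFlat.koszul_of_flat ρ
    (flat_awayToAwayRight g g') l hl, ?_⟩
  rw [← hρ, ← Ideal.map_map, hspan, span_map_list]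

theorem KRLoc.mul_left {I : Ideal A} {g : A} (h : KRLoc I g) (g' : A) : KRLoc I (g' * g) := by
  rw [mul_comm]
  exact h.mul_right g'


section Up

variable {S R' : Type u} [CommRing S] [CommRing R'] (φ : S →+* R')

/-- an element of `S` whose image in `S_h` lies in `I S_h` is, up to a power of `h`, in `I`. -/
lemma exists_pow_mul_mem {P : Type u} [CommRing P] (I : Ideal P) (g : P) (s : P)
    (hs : algebraMap P (Localization.Away g) s ∈ I.map (algebraMap P (Localization.Away g))) :
    ∃ k : ℕ, g ^ k * s ∈ I := by
  obtain ⟨n, y, hy, h⟩ := Groth.Agent.Lib.Seat31.KoszulLocal.exists_of_mem_map I g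
    (Localization.Away g) hs
  rw [← map_pow, ← map_mul] at h
  obtain ⟨m, hm⟩ := IsLocalization.Away.exists_of_eq g h
  refine ⟨m + n, ?_⟩
  have : g ^ (m + n) * s = g ^ m * y := by
    rw [← hm, pow_add]
    ring
  rw [this]
  exact Ideal.mul_mem_left _ _ hy

/-- localization commutes with taking preimages of ideals. -/
lemma map_comap_away (J : Ideal R') (h : S) :
    (J.comap φ).map (algebraMap S (Localization.Away h)) =
      (J.map (algebraMap R' (Localization.Away (φ h)))).comap (Localization.awayMap φ h) := by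
  have hcomp : (Localization.awayMap φ h).comp (algebraMap S (Localization.Away h)) =
      (algebraMap R' (Localization.Away (φ h))).comp φ := IsLocalization.map_comp _
  have hu : IsUnit (algebraMap S (Localization.Away h) h) :=
    IsLocalization.Away.algebraMap_isUnit h
  apply le_antisymm
  · rw [Ideal.map_le_iff_le_comap]
    intro s hs
    rw [Ideal.mem_comap, Ideal.mem_comap]
    have := congr($hcomp s)
    simp only [RingHom.comp_apply] at this
    rw [this]
    exact Ideal.mem_map_of_mem _ hs
  · intro z hz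
    rw [Ideal.mem_comap] at hz
    obtain ⟨n, s, hs⟩ := IsLocalization.Away.surj h z
    have h1 : algebraMap R' (Localization.Away (φ h)) (φ s) ∈
        J.map (algebraMap R' (Localization.Away (φ h))) := by
      have := congr($hcomp s)
      simp only [RingHom.comp_apply] at this
      rw [← this, ← hs, map_mul]
      exact Ideal.mul_mem_right _ _ hz
    obtain ⟨k, hk⟩ := exists_pow_mul_mem J (φ h) (φ s) h1
    have h2 : h ^ k * s ∈ J.comap φ := by
      rw [Ideal.mem_comap, map_mul, map_pow]
      exact hk
    have h3 := Ideal.mem_map_of_mem (algebraMap S (Localization.Away h)) h2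
    rw [map_mul, ← hs, map_pow, ← mul_assoc, mul_comm _ z, mul_assoc,
      Ideal.mul_unit_mem_iff_mem _ ((hu.pow k).mul (hu.pow n))] at h3
    exact h3

variable (hφ : Function.Surjective φ)

include hφ in
/-- local form of: the preimage of a Koszul-regular ideal under a surjection with
Koszul-regular kernel is Koszul-regular. -/
theorem KRLoc.comap (J : Ideal R') (h : S) (hk : KRLoc (RingHom.ker φ) h)
    (hJ : KRLoc J (φ h)) : KRLoc (J.comap φ) h := by
  obtain ⟨m, hm, hmspan⟩ := hk
  obtain ⟨l, hl, hlspan⟩ := hJ
  have hsurj := Groth.Agent.Lib.Seat31.LciPerf.awayMap_surjective φ hφ h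
  have hker : RingHom.ker (Localization.awayMap φ h) = Ideal.ofList m := by
    rw [Groth.Agent.Lib.Seat31.LciPerf.ker_awayMap, hmspan]
  obtain ⟨q, rfl⟩ := List.map_surjective_iff.2 hsurj l
  refine ⟨q ++ m, Groth.Agent.Lib.Seat40.KoszulComp.koszul_append _ hsurj m q hker hm hl, ?_⟩
  rw [map_comap_away, hlspan, ← span_map_list, Ideal.comap_map_of_surjective _ hsurj,
    ← RingHom.ker_eq_comap_bot, hker, ← Ideal.span_union]
  congr 1
  ext x
  simp [List.mem_append]

include hφ in
/-- the preimage of a Koszul-regular ideal under a surjection with Koszul-regular kernel is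
Koszul-regular. -/
theorem isKoszulRegularIdeal_comap (hker : LCI.IsKoszulRegularIdeal (RingHom.ker φ))
    (J : Ideal R') (hJ : LCI.IsKoszulRegularIdeal J) :
    LCI.IsKoszulRegularIdeal (J.comap φ) := by
  intro 𝔮 h𝔮
  have hkerle : RingHom.ker φ ≤ 𝔮.asIdeal := by
    rw [RingHom.ker_eq_comap_bot]
    exact (Ideal.comap_mono bot_le).trans h𝔮
  obtain ⟨h₁, hh₁, hk⟩ := hker 𝔮 hkerle
  have hprime : (𝔮.asIdeal.map φ).IsPrime := Ideal.map_isPrime_of_surjective hφ hkerle
  have hJle : J ≤ 𝔮.asIdeal.map φ := by
    rw [← Ideal.map_comap_of_surjective φ hφ J]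
    exact Ideal.map_mono h𝔮
  obtain ⟨g, hg, hJg⟩ := hJ ⟨𝔮.asIdeal.map φ, hprime⟩ hJle
  obtain ⟨h₂, rfl⟩ := hφ g
  have hh₂ : h₂ ∉ 𝔮.asIdeal := fun hmem => hg (Ideal.mem_map_of_mem φ hmem)
  refine ⟨h₁ * h₂, fun hmem => (𝔮.isPrime.mem_or_mem hmem).elim hh₁ hh₂,
    KRLoc.comap φ hφ J (h₁ * h₂) (KRLoc.mul_right hk h₂) ?_⟩
  rw [map_mul]
  exact KRLoc.mul_left hJg (φ h₁)

end Up

end Groth.Agent.Lib.Seat31.KR
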