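import Mathlib

/-!
# Relations among a regular sequence have coefficients in the ideal (helper56)

For a weakly regular sequence `f_1, …, f_c` in a commutative ring `A` with `J = (f_1, …, f_c)`:

* `mem_of_sum_mul_eq_zero`: `∑ s_i f_i = 0` implies all `s_i ∈ J`;
* `mem_of_sum_mul_mem_sq`: `∑ s_i f_i ∈ J²` implies all `s_i ∈ J` (the degree one part of
  quasi-regularity), so the classes of the `f_i` are a basis of `J/J²` over `A/J`.
-/

set_option autoImplicit false

namespace Groth.Agent.Lib.Seat56.RegSyz

open RingTheory.Sequence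

variable {A : Type*} [CommRing A]

theorem ofList_ofFn {c : ℕ} (f : Fin c → A) :
    Ideal.ofList (List.ofFn f) = Ideal.span (Set.range f) := by
  unfold Ideal.ofList
  congr 1
  ext x
  simp [List.mem_ofFn]

/-- Syzygies of a weakly regular sequence have coefficients in the ideal of the sequence. -/
theorem mem_of_sum_mul_eq_zero : ∀ {c : ℕ} (f : Fin c → A),
    IsWeaklyRegular A (List.ofFn f) → ∀ s : Fin c → A, ∑ i, s i * f i = 0 →
      ∀ i, s i ∈ Ideal.span (Set.range f) := by
  intro c
  induction c with
  | zero => intro f _ s _ i; exact i.elim0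
  | succ c ih =>
    intro f hreg s hs
    set f' : Fin c → A := fun i => f (Fin.castSucc i) with hf'
    set l := Fin.last c with hl
    rw [List.ofFn_succ', List.concat_eq_append, isWeaklyRegular_append_iff,
      isWeaklyRegular_singleton_iff] at hreg
    obtain ⟨hreg', hlast⟩ := hreg
    have hJ' : Ideal.span (Set.range f') ≤ Ideal.span (Set.range f) :=
      Ideal.span_mono (by rintro _ ⟨i, rfl⟩; exact ⟨Fin.castSucc i, rfl⟩)
    have hfl : f l ∈ Ideal.span (Set.range f) := Ideal.subset_span ⟨l, rfl⟩
    rw [Fin.sum_univ_castSucc] at hs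
    -- the last coefficient
    have hsl : s l ∈ Ideal.span (Set.range f') := by
      have h1 : f l • s l ∈ (Ideal.ofList (List.ofFn f') • ⊤ : Submodule A A) := by
        rw [smul_eq_mul, Ideal.mul_top, ofList_ofFn, smul_eq_mul]
        have h2 : f l * s l = -∑ i : Fin c, s (Fin.castSucc i) * f' i := by
          rw [eq_neg_iff_add_eq_zero, add_comm, mul_comm]
          exact hs
        rw [h2]
        refine (Ideal.span (Set.range f')).neg_mem (Ideal.sum_mem _ fun i _ => ?_)
        exact Ideal.mul_mem_left _ _ (Ideal.subset_span ⟨i, rfl⟩)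
      have h3 := mem_of_isSMulRegular_quotient_of_smul_mem hlast h1
      rwa [smul_eq_mul, Ideal.mul_top, ofList_ofFn] at h3
    obtain ⟨u, hu⟩ := (Ideal.mem_span_range_iff_exists_fun).mp hsl
    -- the modified relation
    have hs' : ∑ i : Fin c, (s (Fin.castSucc i) + u i * f l) * f' i = 0 := by
      have : ∑ i : Fin c, (s (Fin.castSucc i) + u i * f l) * f' i =
          ∑ i : Fin c, s (Fin.castSucc i) * f' i + (∑ i : Fin c, u i * f' i) * f l := by
        rw [Finset.sum_mul, ← Finset.sum_add_distrib]
        exact Finset.sum_congr rfl fun i _ => by ring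
      rw [this, hu]
      exact hs
    have hih := ih f' hreg' _ hs'
    intro i
    refine Fin.lastCases ?_ (fun j => ?_) i
    · exact hJ' hsl
    · have h4 : s (Fin.castSucc j) = (s (Fin.castSucc j) + u j * f l) - u j * f l := by ring
      rw [h4]
      exact (Ideal.span (Set.range f)).sub_mem (hJ' (hih j)) (Ideal.mul_mem_left _ _ hfl)

/-- Elements of `J²` are combinations of the generators with coefficients in `J`. -/
theorem exists_of_mem_sq {c : ℕ} (f : Fin c → A) (x : A)
    (hx : x ∈ Ideal.span (Set.range f) ^ 2) :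
    ∃ t : Fin c → A, (∀ i, t i ∈ Ideal.span (Set.range f)) ∧ ∑ i, t i * f i = x := by
  rw [pow_two] at hx
  induction hx using Submodule.mul_induction_on' with
  | mem_mul_mem m hm n hn =>
    obtain ⟨v, hv⟩ := (Ideal.mem_span_range_iff_exists_fun).mp hn
    refine ⟨fun i => m * v i, fun i => Ideal.mul_mem_right _ _ hm, ?_⟩
    rw [← hv, Finset.mul_sum]
    exact Finset.sum_congr rfl fun i _ => by ring
  | add x _ y _ hx hy =>
    obtain ⟨t, ht, htx⟩ := hx
    obtain ⟨t', ht', hty⟩ := hy
    refine ⟨fun i => t i + t' i, fun i => Ideal.add_mem _ (ht i) (ht' i), ?_⟩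
    rw [← htx, ← hty, ← Finset.sum_add_distrib]
    exact Finset.sum_congr rfl fun i _ => by ring

/-- Degree one quasi-regularity of a weakly regular sequence. -/
theorem mem_of_sum_mul_mem_sq {c : ℕ} (f : Fin c → A) (hreg : IsWeaklyRegular A (List.ofFn f))
    (s : Fin c → A) (hs : ∑ i, s i * f i ∈ Ideal.span (Set.range f) ^ 2) (i : Fin c) :
    s i ∈ Ideal.span (Set.range f) := by
  obtain ⟨t, ht, hts⟩ := exists_of_mem_sq f _ hs
  have h0 : ∑ i, (s i - t i) * f i = 0 := by
    have : ∑ i, (s i - t i) * f i = ∑ i, s i * f i - ∑ i, t i * f i := by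
      rw [← Finset.sum_sub_distrib]
      exact Finset.sum_congr rfl fun i _ => by ring
    rw [this, hts, sub_self]
  have h1 := mem_of_sum_mul_eq_zero f hreg _ h0 i
  have h2 : s i = (s i - t i) + t i := by ring
  rw [h2]
  exact Ideal.add_mem _ h1 (ht i)

end Groth.Agent.Lib.Seat56.RegSyz
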