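import Mathlib
import Groth.Agent.Lib.Helper28DepthFlat
import Groth.Agent.Lib.Helper3FlatLocA

/-!
# Regularity on the fibre implies universal injectivity (Noetherian case) (helper56)

`rTensor_lsmul_injective_of_isSMulRegular_fibre`: `R₀ → S₀` Noetherian rings, `M₀` a finite
`S₀`-module flat over `R₀`, `q₀` a prime of `S₀` over `p₀`, `a₀ ∈ S₀` regular on the fibre module
`M₀ ⊗ κ(p₀)`.  Then multiplication by `a₀` on `(M₀)_{q₀}` is universally injective over `R₀`
(i.e. `a₀` is `(M₀)_{q₀}`-regular with `R₀`-flat cokernel).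
-/

set_option autoImplicit false
set_option linter.style.haveILetI false

universe u

namespace Groth.Agent.Lib.Seat56.FibReg

open TensorProduct Groth.Agent.Lib.Helper28

section Loc

/-- Regular elements stay regular on localizations. -/
theorem isSMulRegular_of_isLocalizedModule {S : Type*} [CommRing S] (T : Submonoid S)
    {X X' : Type*} [AddCommGroup X] [Module S X] [AddCommGroup X'] [Module S X']
    (f : X →ₗ[S] X') [IsLocalizedModule T f] (a : S) (ha : IsSMulRegular X a) :
    IsSMulRegular X' a := by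
  have h1 : IsLocalizedModule.map T f f (LinearMap.lsmul S X a) = LinearMap.lsmul S X' a := by
    apply IsLocalizedModule.linearMap_ext T f f
    ext x
    simp [IsLocalizedModule.map_apply]
  have h2 := (Groth.Agent.Lib.Helper3.FlatLoc.isLocalizedModule_map_injective_iff T f f
    (LinearMap.lsmul S X a)).mpr (fun x hx => ⟨1, T.one_mem, by
      rw [one_smul]
      exact ha (by simpa using hx)⟩)
  rw [h1] at h2
  exact h2

end Loc

section Main

variable {R₀ S₀ M₀ : Type u} [CommRing R₀] [CommRing S₀] [Algebra R₀ S₀] [IsNoetherianRing R₀]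
  [IsNoetherianRing S₀] [AddCommGroup M₀] [Module S₀ M₀] [Module R₀ M₀] [IsScalarTower R₀ S₀ M₀]
  [Module.Finite S₀ M₀] [Module.Flat R₀ M₀]

/-- **Regularity on the fibre implies universal injectivity** (Noetherian case). -/
theorem rTensor_ymap_injective_of_isSMulRegular_fibre (q₀ : Ideal S₀) [q₀.IsPrime] (p₀ : Ideal R₀)
    [p₀.IsPrime] [q₀.LiesOver p₀] (a₀ : S₀)
    (hfib : IsSMulRegular (M₀ ⊗[R₀] p₀.ResidueField) a₀)
    (X : Type u) [AddCommGroup X] [Module R₀ X] :
    Function.Injective ((ymap R₀ (LocalizedModule q₀.primeCompl M₀) a₀).rTensor X) := by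
  set N' := LocalizedModule q₀.primeCompl M₀ with hN'
  set R' := Localization.AtPrime p₀ with hR'
  set S' := Localization.AtPrime q₀ with hS'
  set κ := p₀.ResidueField with hκ
  letI : Algebra R' S' := Localization.AtPrime.algebraOfLiesOver p₀ q₀
  haveI : IsLocalHom (algebraMap R' S') :=
    Localization.isLocalHom_localRingHom p₀ q₀ (algebraMap R₀ S₀) Ideal.LiesOver.over
  letI : Module R' N' := Module.compHom N' (algebraMap R' S')
  have hsmul : ∀ (r : R') (n : N'), r • n = algebraMap R' S' r • n := fun _ _ => rfl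
  haveI : IsScalarTower R' S' N' := ⟨fun r s n => by
    rw [hsmul, Algebra.smul_def, mul_smul]⟩
  haveI : IsScalarTower R₀ R' N' := ⟨fun r₀ r n => by
    rw [hsmul, hsmul, Algebra.smul_def, map_mul, mul_smul,
      ← IsScalarTower.algebraMap_apply R₀ R' S', algebraMap_smul]⟩
  haveI : Module.Flat R₀ N' :=
    Groth.Agent.Lib.Helper3.FlatLoc.flat_localizedModule_of_flat q₀.primeCompl
  haveI : Module.Flat R' N' :=
    (Module.flat_iff_of_isLocalization R' p₀.primeCompl N').mpr inferInstance
  set y : S' := algebraMap S₀ S' a₀ with hy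
  have hya : ∀ n : N', y • n = a₀ • n := fun n => algebraMap_smul S' a₀ n
  -- regularity on the localized fibre
  have hα : Function.Injective ((ymap R₀ N' a₀).rTensor κ) := by
    rw [← isSMulRegular_tensor_iff]
    exact isSMulRegular_of_isLocalizedModule q₀.primeCompl
      (AlgebraTensorModule.rTensor R₀ κ (LocalizedModule.mkLinearMap q₀.primeCompl M₀)) a₀ hfib
  -- pass to the tensor product over `R'`
  haveI : CompatibleSMul R₀ R' N' κ :=
    IsLocalization.tensorProduct_compatibleSMul p₀.primeCompl R' N' κ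
  let e : N' ⊗[R'] κ ≃ₗ[R'] N' ⊗[R₀] κ := equivOfCompatibleSMul R₀ R' R' N' κ
  have he : ∀ (n : N') (c : κ), e (n ⊗ₜ c) = n ⊗ₜ c := fun n c => rfl
  have h0' : Function.Injective ((ymap R' N' y).rTensor κ) := by
    have hcomm : ∀ z : N' ⊗[R'] κ,
        e ((ymap R' N' y).rTensor κ z) = (ymap R₀ N' a₀).rTensor κ (e z) := by
      intro z
      induction z with
      | zero => simp
      | add a b ha hb => simp only [map_add, ha, hb]
      | tmul n c =>
        rw [LinearMap.rTensor_tmul, he, he, LinearMap.rTensor_tmul, ymap_apply, ymap_apply, hya]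
    intro z w hzw
    apply e.injective
    apply hα
    rw [← hcomm, ← hcomm, hzw]
  have h0 : Function.Injective
      ((ymap R' N' y).rTensor (R' ⧸ IsLocalRing.maximalIdeal R')) := h0'
  -- flatness of the cokernel and injectivity over `R'`
  have hflatQ : Module.Flat R' (QuotSMulTop y N') :=
    flat_of_exact_of_rTensor_injective (ymap R' N' y) (quotSMulTopMkR y)
      (quotSMulTopMkR_surjective y) (exact_ymap_quotSMulTopMkR y)
      (fun X _ _ _ => rTensor_ymap_injective_of_finite y h0 X)
  have hinj : Function.Injective (ymap R' N' y) := by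
    have h1 := rTensor_ymap_injective_of_finite y h0 R'
    intro n₁ n₂ h
    have h2 : (ymap R' N' y).rTensor R' (n₁ ⊗ₜ 1) = (ymap R' N' y).rTensor R' (n₂ ⊗ₜ 1) := by
      rw [LinearMap.rTensor_tmul, LinearMap.rTensor_tmul, h]
    have h3 := congrArg (TensorProduct.rid R' N') (h1 h2)
    simpa using h3
  have huniv : ∀ (Z : Type u) [AddCommGroup Z] [Module R' Z],
      Function.Injective ((ymap R' N' y).rTensor Z) := by
    intro Z _ _
    rw [← LinearMap.lTensor_inj_iff_rTensor_inj]
    exact LinearMap.lTensor_injective_of_exact_of_flat (M := N') (N := N') (P := QuotSMulTop y N')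
      (quotSMulTopMkR y) (quotSMulTopMkR_surjective y) (ymap R' N' y) hinj
      (exact_ymap_quotSMulTopMkR y) Z
  -- descend to `R₀`-modules
  let c : N' ⊗[R'] (R' ⊗[R₀] X) ≃ₗ[R'] N' ⊗[R₀] X :=
    AlgebraTensorModule.cancelBaseChange R₀ R' R' N' X
  have hc : ∀ (n : N') (r : R') (x : X), c (n ⊗ₜ (r ⊗ₜ x)) = (r • n) ⊗ₜ x := fun n r x => by
    simp [c]
  have hcomm : ∀ z : N' ⊗[R'] (R' ⊗[R₀] X),
      c ((ymap R' N' y).rTensor (R' ⊗[R₀] X) z) = (ymap R₀ N' a₀).rTensor X (c z) := by
    intro z
    induction z with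
    | zero => simp
    | add a b ha hb => simp only [map_add, ha, hb]
    | tmul n w =>
      induction w with
      | zero => simp
      | add a b ha hb => simp only [tmul_add, map_add, ha, hb]
      | tmul r x =>
        rw [LinearMap.rTensor_tmul, hc, hc, LinearMap.rTensor_tmul, ymap_apply, ymap_apply, hya]
        congr 1
        rw [hsmul r (a₀ • n), hsmul r n, ← hya, ← hya, smul_smul, smul_smul, mul_comm]
  intro z w hzw
  obtain ⟨z', rfl⟩ := c.surjective z
  obtain ⟨w', rfl⟩ := c.surjective w
  rw [← hcomm, ← hcomm] at hzw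
  rw [huniv (R' ⊗[R₀] X) (c.injective hzw)]

end Main

end Groth.Agent.Lib.Seat56.FibReg
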