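import Mathlib
import Groth.Agent.Lib.Seat56FibReg
import Groth.Agent.Lib.Seat56ModelPlus
import Groth.Agent.Lib.Helper3FlatBC

/-!
# Fibrewise regular elements on flat finitely presented modules (helper56)

`isSMulRegular_localizedModule_of_isSMulRegular_fibre`: `A → B` of finite presentation, `M` a finitely
presented `B`-module flat over `A`, `q` a prime of `B` over `p`, `a ∈ B` regular on the fibre module
`M ⊗ κ(p)`.  Then `a` is regular on `M_q` (EGA IV 11.3.7 / Stacks 00ME, non-Noetherian version).
-/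

set_option autoImplicit false
set_option linter.style.haveILetI false

universe u

namespace Groth.Agent.Lib.Seat56.FibReg

open TensorProduct Groth.Agent.Lib.Helper28 Groth.Agent.Lib.Helper3.FlatLoc

/-- Regularity on a localization, in terms of torsion. -/
theorem isSMulRegular_isLocalizedModule_iff {S : Type*} [CommRing S] (T : Submonoid S)
    {X X' : Type*} [AddCommGroup X] [Module S X] [AddCommGroup X'] [Module S X']
    (f : X →ₗ[S] X') [IsLocalizedModule T f] (a : S) :
    IsSMulRegular X' a ↔ ∀ x : X, a • x = 0 → ∃ s ∈ T, s • x = 0 := by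
  have h1 : IsLocalizedModule.map T f f (LinearMap.lsmul S X a) = LinearMap.lsmul S X' a := by
    apply IsLocalizedModule.linearMap_ext T f f
    ext x
    simp [IsLocalizedModule.map_apply]
  have h2 := isLocalizedModule_map_injective_iff T f f (LinearMap.lsmul S X a)
  rw [h1] at h2
  exact h2

section Main

variable {A B : Type u} [CommRing A] [CommRing B] [Algebra A B] [Algebra.FinitePresentation A B]
  (M : Type u) [AddCommGroup M] [Module B M] [Module A M] [IsScalarTower A B M]
  [Module.FinitePresentation B M] [Module.Flat A M]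

/-- **Fibrewise regular elements are regular** (local form). -/
theorem isSMulRegular_localizedModule_of_isSMulRegular_fibre (q : Ideal B) [q.IsPrime]
    (p : Ideal A) [p.IsPrime] (hqp : q.comap (algebraMap A B) = p) (a : B)
    (hfib : IsSMulRegular (M ⊗[A] p.ResidueField) a) :
    IsSMulRegular (LocalizedModule q.primeCompl M) a := by
  obtain ⟨R₀, _, _, S₀, _, _, _, _, _, _, M₀, _, _, _, _, _, _, f, hR₀, hS₀, hM₀fin, hM₀flat,
    hpush, hbc, hb⟩ := Groth.Agent.Lib.Seat56.ModelPlus.exists_flat_module_model_of_elements A B M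
      (fun _ : Fin 1 => a)
  obtain ⟨a₀, ha₀⟩ := hb 0
  -- the `R₀`-module structure on `M`
  letI : Module R₀ M := Module.compHom M (algebraMap R₀ A)
  have hsmul : ∀ (r : R₀) (m : M), r • m = algebraMap R₀ A r • m := fun _ _ => rfl
  haveI : IsScalarTower R₀ A M := ⟨fun r a m => by
    rw [hsmul, Algebra.smul_def, mul_smul]⟩
  haveI : IsScalarTower R₀ S₀ M := ⟨fun r s₀ m => by
    rw [hsmul, ← algebraMap_smul B (r • s₀) m, ← algebraMap_smul B s₀ m,
      ← algebraMap_smul B (algebraMap R₀ A r), Algebra.smul_def, map_mul, mul_smul,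
      ← IsScalarTower.algebraMap_apply R₀ S₀ B, ← IsScalarTower.algebraMap_apply R₀ A B]⟩
  have hbcA : IsBaseChange A (f.restrictScalars R₀) :=
    isBaseChange_restrictScalars_of_isPushout f hbc
  haveI : IsNoetherianRing R₀ := Algebra.FiniteType.isNoetherianRing ℤ R₀
  haveI : IsNoetherianRing S₀ := Algebra.FiniteType.isNoetherianRing R₀ S₀
  have haM : ∀ m : M, a₀ • m = a • m := fun m => by
    rw [← ha₀, algebraMap_smul]
  -- the primes
  set q₀ : Ideal S₀ := q.comap (algebraMap S₀ B) with hq₀
  set p₀ : Ideal R₀ := p.comap (algebraMap R₀ A) with hp₀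
  haveI : q₀.IsPrime := Ideal.comap_isPrime _ _
  haveI : p₀.IsPrime := Ideal.comap_isPrime _ _
  haveI : q₀.LiesOver p₀ := ⟨by
    rw [Ideal.under, hq₀, hp₀, ← hqp, Ideal.comap_comap, Ideal.comap_comap,
      ← IsScalarTower.algebraMap_eq, ← IsScalarTower.algebraMap_eq]⟩
  -- regularity on the fibre of the model
  have hfib₀ : IsSMulRegular (M₀ ⊗[R₀] p₀.ResidueField) a₀ := by
    let ι : p₀.ResidueField →ₐ[R₀] p.ResidueField :=
      Ideal.ResidueField.mapₐ p₀ p (Algebra.ofId R₀ A) rfl
    have hι : Function.Injective ι.toLinearMap := ι.toRingHom.injective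
    have hlT : Function.Injective (ι.toLinearMap.lTensor M₀) :=
      Module.Flat.lTensor_preserves_injective_linearMap _ hι
    have hE := bcMap_bijective (R := A) (f.restrictScalars R₀) hbcA p.ResidueField
    have hθ : ∀ z : M₀ ⊗[R₀] p₀.ResidueField,
        bcMap (R := A) (f.restrictScalars R₀) p.ResidueField (ι.toLinearMap.lTensor M₀ (a₀ • z)) =
          a • bcMap (R := A) (f.restrictScalars R₀) p.ResidueField
            (ι.toLinearMap.lTensor M₀ z) := by
      intro z
      induction z with
      | zero => simp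
      | add x y hx hy => simp only [smul_add, map_add, hx, hy]
      | tmul m c =>
        rw [smul_tmul', LinearMap.lTensor_tmul, LinearMap.lTensor_tmul, bcMap_tmul, bcMap_tmul,
          smul_tmul', LinearMap.coe_restrictScalars, map_smul, haM]
    intro z w hzw
    have hzw' : a₀ • z = a₀ • w := hzw
    apply hlT
    apply hE.1
    apply hfib
    change a • _ = a • _
    rw [← hθ, ← hθ, hzw']
  -- universal injectivity on the model
  have hinj := rTensor_ymap_injective_of_isSMulRegular_fibre q₀ p₀ a₀ hfib₀ A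
  -- torsion statement on `M₀ ⊗ A`
  have htors : ∀ z : M₀ ⊗[R₀] A, a₀ • z = 0 → ∃ s ∈ q₀.primeCompl, s • z = 0 := by
    have hreg : IsSMulRegular (LocalizedModule q₀.primeCompl M₀ ⊗[R₀] A) a₀ :=
      (isSMulRegular_tensor_iff (R := R₀) a₀).mpr hinj
    exact (isSMulRegular_isLocalizedModule_iff q₀.primeCompl
      (AlgebraTensorModule.rTensor R₀ A (LocalizedModule.mkLinearMap q₀.primeCompl M₀)) a₀).mp hreg
  -- transport to `M`
  let Ψ : M₀ ⊗[R₀] A ≃ₗ[R₀] M :=
    (TensorProduct.comm R₀ M₀ A) ≪≫ₗ (hbcA.equiv.restrictScalars R₀)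
  have hΨ : ∀ (m₀ : M₀) (r : A), Ψ (m₀ ⊗ₜ r) = r • f m₀ := fun m₀ r => by
    simp [Ψ, IsBaseChange.equiv_tmul]
  have hcomm : ∀ (r : A) (s : S₀) (m : M), r • s • m = s • r • m := by
    intro r s m
    rw [← algebraMap_smul B r, ← algebraMap_smul B s, ← algebraMap_smul B r,
      ← algebraMap_smul B s (algebraMap A B r • m), smul_smul, smul_smul, mul_comm]
  have hΨs : ∀ (s : S₀) (z : M₀ ⊗[R₀] A), Ψ (s • z) = s • Ψ z := by
    intro s z
    induction z with
    | zero => simp
    | add x y hx hy => simp only [smul_add, map_add, hx, hy]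
    | tmul m r => rw [smul_tmul', hΨ, hΨ, map_smul, hcomm]
  rw [isSMulRegular_isLocalizedModule_iff q.primeCompl (LocalizedModule.mkLinearMap q.primeCompl M) a]
  intro m hm
  obtain ⟨z, rfl⟩ := Ψ.surjective m
  have hz : a₀ • z = 0 := by
    apply Ψ.injective
    rw [hΨs, haM, hm, map_zero]
  obtain ⟨s, hs, hsz⟩ := htors z hz
  refine ⟨algebraMap S₀ B s, hs, ?_⟩
  rw [algebraMap_smul, ← hΨs, hsz, map_zero]

end Main

end Groth.Agent.Lib.Seat56.FibReg
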