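import Mathlib
import Groth.Agent.Lib.Seat56FibReg3
import Groth.Agent.Lib.Helper3FlatOpenFP

/-!
# Fibrewise regular elements: local form (helper56)

* `exists_forall_smul_eq_zero_of_fibre`: on the fibre `M ⊗[A] κ` (`κ` a field, `B` of finite type over
  `A`, `M` finite over `B`), if the kernel of `a ∈ B` is `T`-torsion then it is killed by a single
  element of `T` (the fibre is a Noetherian module over `B ⊗[A] κ`).
* `exists_smul_eq_zero_of_isSMulRegular_fibre_local`: `A → B` of finite presentation, `M` a finitely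
  presented `B`-module, `q` a prime of `B` over `p` with `M_q` flat over `A`, and `a ∈ B` regular on
  `(M ⊗ κ(p))_q`.  Then for every `A`-module `X` the kernel of `a` on `M ⊗[A] X` is `q`-torsion.
-/

set_option autoImplicit false
set_option linter.style.haveILetI false

universe u

namespace Groth.Agent.Lib.Seat56.FibReg

open TensorProduct Groth.Agent.Lib.Helper28 Groth.Agent.Lib.Helper3.FlatLoc
  Groth.Agent.Lib.Helper3.FlatOpen

section Kill

variable {A B : Type u} [CommRing A] [CommRing B] [Algebra A B] [Algebra.FiniteType A B]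
  (M : Type u) [AddCommGroup M] [Module B M] [Module A M] [IsScalarTower A B M]
  [Module.Finite B M]

/-- The kernel of `a` on a fibre module is killed by a single element as soon as it is torsion. -/
theorem exists_forall_smul_eq_zero_of_fibre (κ : Type u) [Field κ] [Algebra A κ] (T : Submonoid B)
    (a : B) (h : ∀ x : M ⊗[A] κ, a • x = 0 → ∃ s ∈ T, s • x = 0) :
    ∃ s ∈ T, ∀ x : M ⊗[A] κ, a • x = 0 → s • x = 0 := by
  classical
  set C := B ⊗[A] κ with hC
  haveI : IsNoetherianRing (κ ⊗[A] B) := Algebra.FiniteType.isNoetherianRing κ _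
  haveI : IsNoetherianRing C :=
    isNoetherianRing_of_ringEquiv _ (Algebra.TensorProduct.comm A κ B).toRingEquiv
  let e : C ⊗[B] M ≃ₗ[B] M ⊗[A] κ :=
    TensorProduct.comm B C M ≪≫ₗ AlgebraTensorModule.cancelBaseChange A B B M κ
  let K : Submodule C (C ⊗[B] M) :=
    LinearMap.ker (LinearMap.lsmul C (C ⊗[B] M) (algebraMap B C a))
  have hKmem : ∀ y : C ⊗[B] M, y ∈ K ↔ a • y = 0 := by
    intro y
    rw [LinearMap.mem_ker, LinearMap.lsmul_apply, algebraMap_smul]
  obtain ⟨gens, hgens⟩ : K.FG := IsNoetherian.noetherian K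
  have hgen : ∀ k ∈ gens, ∃ s ∈ T, s • k = 0 := by
    intro k hk
    have hkK : k ∈ K := hgens ▸ Submodule.subset_span hk
    have h1 : a • e k = 0 := by rw [← map_smul, (hKmem k).mp hkK, map_zero]
    obtain ⟨s, hs, hsk⟩ := h (e k) h1
    refine ⟨s, hs, e.injective ?_⟩
    rw [map_smul, hsk, map_zero]
  choose! σ hσT hσ using hgen
  refine ⟨∏ k ∈ gens, σ k, T.prod_mem fun k hk => hσT k hk, ?_⟩
  have hkill : ∀ y ∈ K, (∏ k ∈ gens, σ k) • y = 0 := by
    intro y hy
    rw [← hgens] at hy
    induction hy using Submodule.span_induction with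
    | mem k hk =>
      rw [← Finset.mul_prod_erase gens σ hk, mul_comm, mul_smul, hσ k hk, smul_zero]
    | zero => rw [smul_zero]
    | add x y _ _ hx hy => rw [smul_add, hx, hy, add_zero]
    | smul c x _ hx => rw [smul_comm, hx, smul_zero]
  intro x hx
  have h1 : e.symm x ∈ K := by
    rw [hKmem, ← map_smul, hx, map_zero]
  have h2 := hkill _ h1
  rw [← map_smul] at h2
  simpa using congrArg e h2

end Kill

section Local

variable {A B : Type u} [CommRing A] [CommRing B] [Algebra A B] [Algebra.FinitePresentation A B]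
  (M : Type u) [AddCommGroup M] [Module B M] [Module A M] [IsScalarTower A B M]
  [Module.FinitePresentation B M]

/-- **Fibrewise regular elements are universally injective at `q`** (local hypotheses). -/
theorem exists_smul_eq_zero_of_isSMulRegular_fibre_local (q : Ideal B) [q.IsPrime]
    (hflat : Module.Flat A (LocalizedModule q.primeCompl M)) (a : B)
    (hfib : IsSMulRegular
      (LocalizedModule q.primeCompl (M ⊗[A] (q.comap (algebraMap A B)).ResidueField)) a)
    (X : Type u) [AddCommGroup X] [Module A X] (z : M ⊗[A] X) (hz : a • z = 0) :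
    ∃ s ∈ q.primeCompl, s • z = 0 := by
  classical
  set p := q.comap (algebraMap A B) with hp
  set κ := p.ResidueField with hκ
  have hfib' := (isSMulRegular_isLocalizedModule_iff q.primeCompl
    (LocalizedModule.mkLinearMap q.primeCompl (M ⊗[A] κ)) a).mp hfib
  obtain ⟨h₂, hh₂, hker⟩ := exists_forall_smul_eq_zero_of_fibre M κ q.primeCompl a hfib'
  have hopen := isOpen_flatLocus_of_finitePresentation (R := A) (S := B) (M := M)
  obtain ⟨h₁, hh₁, hUt⟩ : ∃ h₁ : B, h₁ ∉ q ∧ ∀ (q' : Ideal B) [q'.IsPrime], h₁ ∉ q' →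
      Module.Flat A (LocalizedModule q'.primeCompl M) := by
    obtain ⟨U, ⟨r, rfl⟩, hqU, hUsub⟩ :=
      PrimeSpectrum.isTopologicalBasis_basic_opens.exists_subset_of_mem_open
        (a := (⟨q, inferInstance⟩ : PrimeSpectrum B)) hflat hopen
    exact ⟨r, hqU, fun q' hq' hr => hUsub (show (⟨q', hq'⟩ : PrimeSpectrum B) ∈ _ from hr)⟩
  set h := h₁ * h₂ with hh
  have hhq : h ∉ q := fun hm => (‹q.IsPrime›.mem_or_mem hm).elim hh₁ hh₂
  set T := Submonoid.powers h with hT
  have hTq : T ≤ q.primeCompl := Submonoid.powers_le.mpr hhq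
  set B' := Localization.Away h with hB'
  set M' := LocalizedModule T M with hM'
  haveI : Algebra.FinitePresentation B B' := IsLocalization.Away.finitePresentation h
  haveI : Algebra.FinitePresentation A B' := Algebra.FinitePresentation.trans A B B'
  -- flatness of `M'`
  haveI : Module.Flat A M' := by
    rw [flat_localizedModule_iff' (R := A) (S := B)]
    intro I w hw
    by_contra hcon
    push Not at hcon
    have hdisj : Disjoint ((Ideal.torsionOf B (M ⊗[A] I) w : Ideal B) : Set B) (T : Set B) := by
      rw [Set.disjoint_left]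
      intro x hx hxT
      exact hcon x hxT ((Ideal.mem_torsionOf_iff _ _).mp hx)
    obtain ⟨q', hq'prime, hle, hq'disj⟩ := Ideal.exists_le_prime_disjoint _ _ hdisj
    have hhq' : h₁ ∉ q' := fun hm =>
      Set.disjoint_left.mp hq'disj (q'.mul_mem_right h₂ hm) (Submonoid.mem_powers _)
    have hfl := hUt q' hhq'
    rw [flat_localizedModule_iff' (R := A) (S := B)] at hfl
    obtain ⟨s, hs, hsz⟩ := hfl I w hw
    exact hs (hle ((Ideal.mem_torsionOf_iff _ _).mpr hsz))
  -- the prime `q'`
  set q' : Ideal B' := q.map (algebraMap B B') with hq'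
  have hdisj : Disjoint (T : Set B) (q : Set B) := by
    rw [Set.disjoint_left]
    intro x hxT hxq
    exact hTq hxT hxq
  haveI : q'.IsPrime := IsLocalization.isPrime_of_isPrime_disjoint T B' q inferInstance hdisj
  have hq'comap : q'.comap (algebraMap B B') = q :=
    IsLocalization.under_map_of_isPrime_disjoint T B' inferInstance hdisj
  have hq'p : q'.comap (algebraMap A B') = p := by
    rw [IsScalarTower.algebraMap_eq A B B', ← Ideal.comap_comap, hq'comap]
  -- the fibre
  set a' : B' := algebraMap B B' a with ha'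
  have hfibM' : IsSMulRegular (M' ⊗[A] κ) a' := by
    have hreg : IsSMulRegular (M' ⊗[A] κ) a := by
      rw [isSMulRegular_isLocalizedModule_iff T
        (AlgebraTensorModule.rTensor A κ (LocalizedModule.mkLinearMap T M)) a]
      intro x hx
      exact ⟨h, Submonoid.mem_powers _, by rw [hh, mul_smul, hker x hx, smul_zero]⟩
    intro x y hxy
    apply hreg
    simpa [ha', algebraMap_smul] using hxy
  -- apply the global statement
  set z' : M' ⊗[A] X :=
    AlgebraTensorModule.rTensor A X (LocalizedModule.mkLinearMap T M) z with hz'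
  have hz'0 : a' • z' = 0 := by
    rw [ha', algebraMap_smul, hz', ← map_smul, hz, map_zero]
  obtain ⟨s', hs', hs'z⟩ :=
    exists_smul_eq_zero_of_isSMulRegular_fibre M' q' p hq'p a' hfibM' X z' hz'0
  obtain ⟨⟨b, t⟩, hbt⟩ := IsLocalization.surj T s'
  have hbq : b ∉ q := by
    intro hb
    apply hs'
    have h1 : s' * algebraMap B B' t ∈ q' := by
      rw [hbt]
      exact Ideal.mem_map_of_mem _ hb
    refine (‹q'.IsPrime›.mem_or_mem h1).resolve_right fun h2 => ?_
    have h3 : (t : B) ∈ q'.comap (algebraMap B B') := h2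
    rw [hq'comap] at h3
    exact hTq t.2 h3
  have hbz' : b • z' = 0 := by
    rw [← algebraMap_smul B' b z', ← hbt, mul_comm, mul_smul, hs'z, smul_zero]
  rw [hz', ← map_smul] at hbz'
  obtain ⟨t', ht'⟩ := (IsLocalizedModule.eq_zero_iff T
    (AlgebraTensorModule.rTensor A X (LocalizedModule.mkLinearMap T M))).mp hbz'
  refine ⟨t' * b, q.primeCompl.mul_mem (hTq t'.2) hbq, ?_⟩
  rw [mul_smul]
  exact ht'

end Local

end Groth.Agent.Lib.Seat56.FibReg
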