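import Mathlib
import Groth.Agent.Lib.Seat56FibReg4

/-!
# Fibrewise regular sequences on flat finitely presented modules (helper56)

* `quotSMulTopLocalizedEquiv`: `(N_T) / a (N_T) ≃ (N / a N)_T`.
* `isSMulRegular_and_flat_quotSMulTop_of_fibre`: one step of EGA IV 11.3.8: if `M_q` is `A`-flat and `a`
  is regular on `(M ⊗ κ(p))_q` then `a` is regular on `M_q` and `(M / a M)_q` is `A`-flat.
-/

set_option autoImplicit false
set_option linter.style.haveILetI false

universe u

namespace Groth.Agent.Lib.Seat56.FibReg

open TensorProduct Groth.Agent.Lib.Helper28 Groth.Agent.Lib.Helper3.FlatLoc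
open scoped Pointwise

section QuotLoc

variable {B : Type*} [CommRing B] (T : Submonoid B) (a : B) (N : Type*) [AddCommGroup N] [Module B N]

/-- `(N_T) / a (N_T) ≃ (N / a N)_T`. -/
noncomputable def quotSMulTopLocalizedEquiv :
    QuotSMulTop a (LocalizedModule T N) ≃ₗ[B] LocalizedModule T (QuotSMulTop a N) :=
  let G : LocalizedModule T N →ₗ[B] LocalizedModule T (QuotSMulTop a N) :=
    IsLocalizedModule.map T (LocalizedModule.mkLinearMap T N)
      (LocalizedModule.mkLinearMap T (QuotSMulTop a N)) (Submodule.mkQ (a • (⊤ : Submodule B N)))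
  have hsurj : Function.Surjective G :=
    IsLocalizedModule.map_surjective T _ _ _ (Submodule.mkQ_surjective _)
  have hex0 : Function.Exact (LinearMap.lsmul B N a) (Submodule.mkQ (a • (⊤ : Submodule B N))) := by
    intro m
    rw [Submodule.mkQ_apply, Submodule.Quotient.mk_eq_zero,
      Submodule.mem_smul_pointwise_iff_exists]
    constructor
    · rintro ⟨m₀, -, h⟩
      exact ⟨m₀, h⟩
    · rintro ⟨m₀, h⟩
      exact ⟨m₀, Submodule.mem_top, h⟩
  have h1 : IsLocalizedModule.map T (LocalizedModule.mkLinearMap T N)
      (LocalizedModule.mkLinearMap T N) (LinearMap.lsmul B N a) =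
        LinearMap.lsmul B (LocalizedModule T N) a := by
    apply IsLocalizedModule.linearMap_ext T (LocalizedModule.mkLinearMap T N)
      (LocalizedModule.mkLinearMap T N)
    ext x
    rw [LinearMap.comp_apply, LinearMap.comp_apply, IsLocalizedModule.map_apply,
      LinearMap.lsmul_apply, LinearMap.lsmul_apply, map_smul]
  have hker : a • (⊤ : Submodule B (LocalizedModule T N)) = LinearMap.ker G := by
    ext z
    rw [LinearMap.mem_ker, Submodule.mem_smul_pointwise_iff_exists]
    have hex := IsLocalizedModule.map_exact T (LocalizedModule.mkLinearMap T N)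
      (LocalizedModule.mkLinearMap T N) (LocalizedModule.mkLinearMap T (QuotSMulTop a N))
      (LinearMap.lsmul B N a) (Submodule.mkQ (a • (⊤ : Submodule B N))) hex0 z
    change G z = 0 ↔ _ at hex
    rw [hex, h1]
    constructor
    · rintro ⟨z₀, -, h⟩
      exact ⟨z₀, h⟩
    · rintro ⟨z₀, h⟩
      exact ⟨z₀, Submodule.mem_top, h⟩
  (Submodule.quotEquivOfEq _ _ hker).trans (G.quotKerEquivOfSurjective hsurj)

variable {N} in
/-- Localization is functorial for linear equivalences (`B`-linear form). -/
noncomputable def localizedModuleCongr {N₂ : Type*} [AddCommGroup N₂] [Module B N₂]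
    (e : N ≃ₗ[B] N₂) : LocalizedModule T N ≃ₗ[B] LocalizedModule T N₂ :=
  (IsLocalizedModule.mapEquiv T (LocalizedModule.mkLinearMap T N)
    (LocalizedModule.mkLinearMap T N₂) (Localization T) e).restrictScalars B

end QuotLoc

section Step

variable {A B : Type u} [CommRing A] [CommRing B] [Algebra A B] [Algebra.FinitePresentation A B]
  (M : Type u) [AddCommGroup M] [Module B M] [Module A M] [IsScalarTower A B M]
  [Module.FinitePresentation B M]

/-- One step of EGA IV 11.3.8. -/
theorem isSMulRegular_and_flat_quotSMulTop_of_fibre (q : Ideal B) [q.IsPrime]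
    (hflat : Module.Flat A (LocalizedModule q.primeCompl M)) (a : B)
    (hfib : IsSMulRegular
      (LocalizedModule q.primeCompl (M ⊗[A] (q.comap (algebraMap A B)).ResidueField)) a) :
    IsSMulRegular (LocalizedModule q.primeCompl M) a ∧
      Module.Flat A (LocalizedModule q.primeCompl (QuotSMulTop a M)) := by
  set T := q.primeCompl with hT
  set N' := LocalizedModule T M with hN'
  have hUI : ∀ (X : Type u) [AddCommGroup X] [Module A X], IsSMulRegular (N' ⊗[A] X) a := by
    intro X _ _
    rw [isSMulRegular_isLocalizedModule_iff T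
      (AlgebraTensorModule.rTensor A X (LocalizedModule.mkLinearMap T M)) a]
    intro z hz
    exact exists_smul_eq_zero_of_isSMulRegular_fibre_local M q hflat a hfib X z hz
  have hinjX : ∀ (X : Type u) [AddCommGroup X] [Module A X],
      Function.Injective ((ymap A N' a).rTensor X) := by
    intro X _ _
    rw [← isSMulRegular_tensor_iff]
    exact hUI X
  constructor
  · have h1 := hinjX A
    intro n₁ n₂ h
    have h' : a • n₁ = a • n₂ := h
    have h2 : (ymap A N' a).rTensor A (n₁ ⊗ₜ 1) = (ymap A N' a).rTensor A (n₂ ⊗ₜ 1) := by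
      rw [LinearMap.rTensor_tmul, LinearMap.rTensor_tmul, ymap_apply, ymap_apply, h']
    have h3 := congrArg (TensorProduct.rid A N') (h1 h2)
    simpa using h3
  · haveI : Module.Flat A N' := hflat
    have hflatQ : Module.Flat A (QuotSMulTop a N') :=
      flat_of_exact_of_rTensor_injective (ymap A N' a) (quotSMulTopMkR a)
        (quotSMulTopMkR_surjective a) (exact_ymap_quotSMulTopMkR a)
        (fun X _ _ _ => hinjX X)
    exact Module.Flat.of_linearEquiv ((quotSMulTopLocalizedEquiv T a M).symm.restrictScalars A)

end Step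

end Groth.Agent.Lib.Seat56.FibReg
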