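import Mathlib
import Groth.Agent.Lib.Seat56FibReg5

/-!
# Fibrewise regular sequences on flat finitely presented modules (helper56)

`isRegular_and_flat_quotients_of_isRegular_fibre` (EGA IV 11.3.8): `A → B` of finite presentation,
`M` a finitely presented `B`-module, `q` a prime of `B` over `p`, `M_q` flat over `A`, `g` a sequence in
`B` regular on `(M ⊗ κ(p))_q`.  Then `g` is regular on `M_q` and all `(M / (g₁, …, gᵢ) M)_q` are
`A`-flat.
-/

set_option autoImplicit false
set_option linter.style.haveILetI false

universe u

namespace Groth.Agent.Lib.Seat56.FibReg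

open TensorProduct Groth.Agent.Lib.Helper28 Groth.Agent.Lib.Helper3.FlatLoc
open scoped Pointwise

section Top

variable {A B : Type*} [CommRing A] [CommRing B] [Algebra A B]

/-- `I N = N` implies `I (N ⊗ X) = N ⊗ X`. -/
theorem top_eq_smul_top_tensor {N : Type*} [AddCommGroup N] [Module B N] [Module A N]
    [IsScalarTower A B N] (X : Type*) [AddCommGroup X] [Module A X] (I : Ideal B)
    (h : (⊤ : Submodule B N) = I • ⊤) : (⊤ : Submodule B (N ⊗[A] X)) = I • ⊤ := by
  refine le_antisymm ?_ le_top
  intro z hz
  clear hz
  induction z with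
  | zero => exact Submodule.zero_mem _
  | add x y hx hy => exact Submodule.add_mem _ hx hy
  | tmul n x =>
    have hn : n ∈ I • (⊤ : Submodule B N) := h ▸ Submodule.mem_top
    induction hn using Submodule.smul_induction_on' with
    | smul r hr n' _ =>
      rw [← smul_tmul']
      exact Submodule.smul_mem_smul hr Submodule.mem_top
    | add n₁ _ n₂ _ h₁ h₂ =>
      rw [add_tmul]
      exact Submodule.add_mem _ h₁ h₂

/-- `I N_T = N_T` implies `I (N ⊗ X)_T = (N ⊗ X)_T`. -/
theorem top_eq_smul_top_localizedModule_tensor (T : Submonoid B) (M : Type*) [AddCommGroup M]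
    [Module B M] [Module A M] [IsScalarTower A B M] (X : Type*) [AddCommGroup X] [Module A X]
    (I : Ideal B) (h : (⊤ : Submodule B (LocalizedModule T M)) = I • ⊤) :
    (⊤ : Submodule B (LocalizedModule T (M ⊗[A] X))) = I • ⊤ := by
  have h1 := top_eq_smul_top_tensor (A := A) X I h
  let e : LocalizedModule T (M ⊗[A] X) ≃ₗ[B] LocalizedModule T M ⊗[A] X :=
    IsLocalizedModule.iso T (AlgebraTensorModule.rTensor A X (LocalizedModule.mkLinearMap T M))
  have h2 : (⊤ : Submodule B (LocalizedModule T M ⊗[A] X)).map e.symm.toLinearMap = ⊤ := by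
    rw [Submodule.map_top, LinearMap.range_eq_top]
    exact e.symm.surjective
  rw [← h2]
  conv_lhs => rw [h1]
  rw [Submodule.map_smul'']

end Top

section Seq

variable {A B : Type u} [CommRing A] [CommRing B] [Algebra A B] [Algebra.FinitePresentation A B]
  (q : Ideal B) [q.IsPrime]

omit [Algebra.FinitePresentation A B] in
/-- Flatness of the `0`-th quotient. -/
theorem flat_localizedModule_quot_take_zero (T : Submonoid B) (M : Type u) [AddCommGroup M]
    [Module B M] [Module A M] [IsScalarTower A B M] (l : List B)
    (hflat : Module.Flat A (LocalizedModule T M)) :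
    Module.Flat A (LocalizedModule T
      (M ⧸ (Ideal.ofList (l.take 0) • (⊤ : Submodule B M)))) := by
  have h0 : Ideal.ofList (l.take 0) • (⊤ : Submodule B M) = ⊥ := by
    rw [List.take_zero, Ideal.ofList_nil, Submodule.bot_smul]
  exact Module.Flat.of_linearEquiv
    ((localizedModuleCongr T (Submodule.quotEquivOfEqBot _ h0)).restrictScalars A)

/-- `M / a M` is finitely presented. -/
theorem finitePresentation_quotSMulTop (a : B) (M : Type u) [AddCommGroup M] [Module B M]
    [Module.FinitePresentation B M] : Module.FinitePresentation B (QuotSMulTop a M) := by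
  refine Module.finitePresentation_of_surjective (Submodule.mkQ (a • (⊤ : Submodule B M)))
    (Submodule.mkQ_surjective _) ?_
  rw [Submodule.ker_mkQ, ← Submodule.ideal_span_singleton_smul]
  exact Submodule.FG.smul (Submodule.fg_span_singleton a) Module.Finite.fg_top

/-- **EGA IV 11.3.8**: regular sequences on the fibre lift, with flat quotients. -/
theorem isRegular_and_flat_quotients_of_isRegular_fibre (g : List B) :
    ∀ (M : Type u) [AddCommGroup M] [Module B M] [Module A M] [IsScalarTower A B M]
      [Module.FinitePresentation B M],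
      Module.Flat A (LocalizedModule q.primeCompl M) →
      RingTheory.Sequence.IsRegular
        (LocalizedModule q.primeCompl (M ⊗[A] (q.comap (algebraMap A B)).ResidueField)) g →
      RingTheory.Sequence.IsRegular (LocalizedModule q.primeCompl M) g ∧
        ∀ i ≤ g.length, Module.Flat A
          (LocalizedModule q.primeCompl
            (M ⧸ (Ideal.ofList (g.take i) • (⊤ : Submodule B M)))) := by
  induction g with
  | nil =>
    intro M _ _ _ _ _ hflat hreg
    refine ⟨⟨RingTheory.Sequence.IsWeaklyRegular.nil B _, fun htop => hreg.top_ne_smul ?_⟩, ?_⟩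
    · exact top_eq_smul_top_localizedModule_tensor (A := A) q.primeCompl M _ _ htop
    · intro i hi
      obtain rfl : i = 0 := by simpa using hi
      exact flat_localizedModule_quot_take_zero q.primeCompl M [] hflat
  | cons a g' ih =>
    intro M _ _ _ _ _ hflat hreg
    set T := q.primeCompl with hT
    set κ := (q.comap (algebraMap A B)).ResidueField with hκ
    rw [RingTheory.Sequence.isRegular_cons_iff] at hreg
    obtain ⟨hareg_fib, hreg'⟩ := hreg
    obtain ⟨hareg, hflat₁⟩ := isSMulRegular_and_flat_quotSMulTop_of_fibre M q hflat a hareg_fib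
    haveI : Module.FinitePresentation B (QuotSMulTop a M) := finitePresentation_quotSMulTop a M
    let e₁ : LocalizedModule T (QuotSMulTop a M ⊗[A] κ) ≃ₗ[B]
        QuotSMulTop a (LocalizedModule T (M ⊗[A] κ)) :=
      localizedModuleCongr T (quotSMulTopTensorEquiv (R := A) a κ).symm ≪≫ₗ
        (quotSMulTopLocalizedEquiv T a (M ⊗[A] κ)).symm
    have hreg₁ : RingTheory.Sequence.IsRegular (LocalizedModule T (QuotSMulTop a M ⊗[A] κ)) g' :=
      (e₁.isRegular_congr g').mpr hreg'
    obtain ⟨hR, hF⟩ := ih (QuotSMulTop a M) hflat₁ hreg₁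
    constructor
    · rw [RingTheory.Sequence.isRegular_cons_iff]
      exact ⟨hareg, ((quotSMulTopLocalizedEquiv T a M).isRegular_congr g').mpr hR⟩
    · intro i hi
      rcases i with _ | j
      · exact flat_localizedModule_quot_take_zero T M (a :: g') hflat
      · have hj : j ≤ g'.length := by simpa using hi
        have hFj := hF j hj
        let e₂ : (M ⧸ (Ideal.ofList (a :: g'.take j) • (⊤ : Submodule B M))) ≃ₗ[B]
            QuotSMulTop a M ⧸ (Ideal.ofList (g'.take j) • (⊤ : Submodule B (QuotSMulTop a M))) :=
          Submodule.quotOfListConsSMulTopEquivQuotSMulTopInner M a (g'.take j)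
        rw [List.take_succ_cons]
        exact Module.Flat.of_linearEquiv ((localizedModuleCongr T e₂).restrictScalars A)

end Seq

end Groth.Agent.Lib.Seat56.FibReg
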