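import Mathlib
import Groth.Prelude.Def_RegImm
import Groth.Agent.Lib.Helper28FGDim

/-!
# Relative global complete intersections: the fibre (helper56)

For a prime `q'` of `P = R[x_1, …, x_n]` over `p ⊂ R` we compare `P` with `Pκ = κ(p)[x_1, …, x_n]`:

* `exists_prime_over`: a prime `Q` of `Pκ` contracting to `q'`;
* `exists_smul_eq_map`: clearing denominators in `Pκ`;
* `isLocalization_atPrime_over`: `(Pκ)_Q` is the localization of `Pκ` at the image of `P ∖ q'`.
-/

set_option autoImplicit false
set_option linter.style.haveILetI false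

universe u

namespace Groth.Agent.Lib.Seat56.RelGCI

open TensorProduct RingTheory.Sequence Groth.Agent.Lib.Helper28

attribute [local instance] MvPolynomial.algebraMvPolynomial

section Over

variable {R : Type u} [CommRing R] {n : ℕ} (q' : Ideal (MvPolynomial (Fin n) R)) [q'.IsPrime]

/-- A prime of `κ(p)[x]` over the prime `q'` of `R[x]`, `p = q' ∩ R`. -/
theorem exists_prime_over :
    ∃ Q : Ideal (MvPolynomial (Fin n)
        (q'.comap (algebraMap R (MvPolynomial (Fin n) R))).ResidueField), Q.IsPrime ∧
      Q.comap (MvPolynomial.map (algebraMap R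
        (q'.comap (algebraMap R (MvPolynomial (Fin n) R))).ResidueField)) = q' := by
  set P := MvPolynomial (Fin n) R with hP
  set p := q'.comap (algebraMap R P) with hp
  set κ := p.ResidueField with hκ
  set L := q'.ResidueField with hL
  let ι : κ →+* L := Ideal.ResidueField.map p q' (algebraMap R P) rfl
  let ev : MvPolynomial (Fin n) κ →+* L :=
    MvPolynomial.eval₂Hom ι (fun i => algebraMap P L (MvPolynomial.X i))
  refine ⟨RingHom.ker ev, RingHom.ker_isPrime ev, ?_⟩
  have hcomp : ev.comp (MvPolynomial.map (algebraMap R κ)) = algebraMap P L := by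
    apply MvPolynomial.ringHom_ext
    · intro r
      simp only [RingHom.comp_apply, MvPolynomial.map_C, ev, MvPolynomial.coe_eval₂Hom,
        MvPolynomial.eval₂_C, ι]
      exact Ideal.ResidueField.map_algebraMap p q' (algebraMap R P) rfl r
    · intro i
      simp only [RingHom.comp_apply, MvPolynomial.map_X, ev, MvPolynomial.coe_eval₂Hom,
        MvPolynomial.eval₂_X]
  rw [RingHom.comap_ker, hcomp, Ideal.ker_algebraMap_residueField]

end Over

section Denominators

variable {R : Type u} [CommRing R] (n : ℕ) (p : Ideal R) [p.IsPrime]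

/-- Clearing denominators in `κ(p)[x]`. -/
theorem exists_smul_eq_map (x : MvPolynomial (Fin n) p.ResidueField) :
    ∃ r ∉ p, ∃ s : MvPolynomial (Fin n) R,
      r • x = MvPolynomial.map (algebraMap R p.ResidueField) s := by
  let e := Algebra.IsPushout.equiv R (MvPolynomial (Fin n) R) p.ResidueField
    (MvPolynomial (Fin n) p.ResidueField)
  obtain ⟨r, hr, s, hrs⟩ := Ideal.ResidueField.exists_smul_eq_tmul_one p (e.symm x)
  refine ⟨r, hr, s, ?_⟩
  have h1 := congrArg e hrs
  rw [← algebraMap_smul (MvPolynomial (Fin n) R) r (e.symm x), map_smul, e.apply_symm_apply,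
    algebraMap_smul, Algebra.IsPushout.equiv_tmul, map_one, mul_one] at h1
  exact h1

end Denominators

section Loc

variable {R : Type u} [CommRing R] {n : ℕ} (q' : Ideal (MvPolynomial (Fin n) R)) [q'.IsPrime]

/-- `(κ(p)[x])_Q` is the localization of `κ(p)[x]` at the image of `R[x] ∖ q'`. -/
theorem isLocalization_atPrime_over
    (Q : Ideal (MvPolynomial (Fin n)
      (q'.comap (algebraMap R (MvPolynomial (Fin n) R))).ResidueField)) [Q.IsPrime]
    (hQ : Q.comap (MvPolynomial.map (algebraMap R
      (q'.comap (algebraMap R (MvPolynomial (Fin n) R))).ResidueField)) = q') :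
    IsLocalization (Algebra.algebraMapSubmonoid (MvPolynomial (Fin n)
      (q'.comap (algebraMap R (MvPolynomial (Fin n) R))).ResidueField) q'.primeCompl)
      (Localization.AtPrime Q) := by
  set P := MvPolynomial (Fin n) R with hP
  set p := q'.comap (algebraMap R P) with hp
  set κ := p.ResidueField with hκ
  set φ := MvPolynomial.map (σ := Fin n) (algebraMap R κ) with hφ
  have hmem : ∀ s : P, φ s ∈ Q ↔ s ∈ q' := fun s => Ideal.ext_iff.mp hQ s
  refine (IsLocalization.iff_of_le_of_exists_dvd
    (Algebra.algebraMapSubmonoid (MvPolynomial (Fin n) κ) q'.primeCompl) Q.primeCompl ?_ ?_).mpr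
    inferInstance
  · rintro _ ⟨s, hs, rfl⟩
    exact fun h => hs ((hmem s).mp h)
  · intro x hx
    obtain ⟨r, hr, s, hrs⟩ := exists_smul_eq_map n p x
    have hrx : r • x = φ (MvPolynomial.C r) * x := by
      rw [hφ, MvPolynomial.map_C, MvPolynomial.C_mul', algebraMap_smul]
    refine ⟨φ s, ⟨s, ?_, rfl⟩, ?_⟩
    · intro hs
      have h1 : φ (MvPolynomial.C r) * x ∈ Q := by
        rw [← hrx, hrs]
        exact (hmem s).mpr hs
      rcases ‹Q.IsPrime›.mem_or_mem h1 with h2 | h2
      · exact hr ((hmem _).mp h2)
      · exact hx h2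
    · rw [← hrs, hrx]
      exact Dvd.intro_left _ rfl

end Loc

end Groth.Agent.Lib.Seat56.RelGCI
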