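import Mathlib
import Groth.Agent.Lib.Seat56RelGCI1

/-!
# Relative global complete intersections: regularity on the fibre (helper56)

* `fibre_dim_and_nontrivial`: `κ(p) ⊗ R[x]/(F) ≃ κ(p)[x]/(F̄)` (dimension, nontriviality).
* `natCast_le_height_of_isRelGCI`: for a relative global complete intersection, `c ≤ ht (F̄)` in
  `κ(p)[x]` whenever the fibre is nonempty.
* `isRegular_localization_fibre`: `F̄` is a regular sequence in `κ(p)[x]_Q` for primes `Q ⊇ (F̄)`.
-/

set_option autoImplicit false
set_option linter.style.haveILetI false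

universe u

namespace Groth.Agent.Lib.Seat56.RelGCI

open TensorProduct RingTheory.Sequence Groth.Agent.Lib.Helper28

attribute [local instance] MvPolynomial.algebraMvPolynomial

section Height

variable (R : Type u) [CommRing R] (n c : ℕ) (F : Fin c → MvPolynomial (Fin n) R)

/-- The fibre of `R[x]/(F)` over `p` is `κ(p)[x]/(F̄)`: dimension and nontriviality. -/
theorem fibre_dim_and_nontrivial (p : Ideal R) [p.IsPrime] :
    ringKrullDim (p.Fiber (Synt.RelGCIRing R n c F)) =
      ringKrullDim (MvPolynomial (Fin n) p.ResidueField ⧸ (Ideal.span (Set.range F)).map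
        (MvPolynomial.map (σ := Fin n) (algebraMap R p.ResidueField))) ∧
    (Nontrivial (MvPolynomial (Fin n) p.ResidueField ⧸ (Ideal.span (Set.range F)).map
        (MvPolynomial.map (σ := Fin n) (algebraMap R p.ResidueField))) →
      Nontrivial (p.Fiber (Synt.RelGCIRing R n c F))) := by
  have hmap : (Ideal.span (Set.range F)).map
      (MvPolynomial.map (σ := Fin n) (algebraMap R p.ResidueField)) =
      ((Ideal.span (Set.range F)).map
        (Algebra.TensorProduct.includeRight :
          MvPolynomial (Fin n) R →ₐ[R] p.ResidueField ⊗[R] MvPolynomial (Fin n) R).toRingHom).map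
        ((MvPolynomial.algebraTensorAlgEquiv (σ := Fin n) R p.ResidueField).toRingEquiv :
          p.ResidueField ⊗[R] MvPolynomial (Fin n) R →+* MvPolynomial (Fin n) p.ResidueField) := by
    rw [Ideal.map_map]
    congr 1
    apply RingHom.ext
    intro x
    change _ = MvPolynomial.algebraTensorAlgEquiv R p.ResidueField (1 ⊗ₜ[R] x)
    rw [MvPolynomial.algebraTensorAlgEquiv_tmul, one_smul]
  let e : p.Fiber (Synt.RelGCIRing R n c F) ≃+*
      MvPolynomial (Fin n) p.ResidueField ⧸ (Ideal.span (Set.range F)).map
        (MvPolynomial.map (σ := Fin n) (algebraMap R p.ResidueField)) :=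
    (Algebra.TensorProduct.tensorQuotientEquiv (R := R) p.ResidueField (MvPolynomial (Fin n) R)
      p.ResidueField (Ideal.span (Set.range F))).toRingEquiv.trans
      (Ideal.quotientEquiv _ _ (MvPolynomial.algebraTensorAlgEquiv R p.ResidueField).toRingEquiv
        hmap)
  exact ⟨ringKrullDim_eq_of_ringEquiv e, fun h => e.toEquiv.nontrivial⟩

variable {R n c F}

theorem natCast_le_height_of_isRelGCI (h : Synt.IsRelGCI R n c F) (p : Ideal R) [p.IsPrime]
    (hne : (Ideal.span (Set.range F)).map
      (MvPolynomial.map (σ := Fin n) (algebraMap R p.ResidueField)) ≠ ⊤) :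
    (c : ℕ∞) ≤ ((Ideal.span (Set.range F)).map
      (MvPolynomial.map (σ := Fin n) (algebraMap R p.ResidueField))).height := by
  set κ := p.ResidueField with hκ
  set K := (Ideal.span (Set.range F)).map (MvPolynomial.map (σ := Fin n) (algebraMap R κ)) with hK
  have hk : LocCoh.IsCohenMacaulayRing κ := isCohenMacaulayRing_of_field κ
  have hS : LocCoh.IsCohenMacaulayRing (MvPolynomial (Fin n) κ) :=
    isCohenMacaulayRing_mvPolynomial_fin n
  haveI : Nontrivial (MvPolynomial (Fin n) κ ⧸ K) := Ideal.Quotient.nontrivial_iff.mpr hne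
  haveI : Nontrivial (p.Fiber (Synt.RelGCIRing R n c F)) :=
    (fibre_dim_and_nontrivial R n c F p).2 inferInstance
  obtain ⟨hcn, hdim⟩ := h ⟨p, inferInstance⟩ inferInstance
  have hdim' : ringKrullDim (MvPolynomial (Fin n) κ ⧸ K) = ((n - c : ℕ) : WithBot ℕ∞) := by
    rw [← (fibre_dim_and_nontrivial R n c F p).1]
    exact hdim
  have h1 := height_add_ringKrullDim_quotient_eq_of_forall_isMaximal_height_eq' n
    (height_eq_of_isMaximal_mvPolynomial_fin κ n) K hne
  rw [hdim'] at h1
  have h2 : K.height + ((n - c : ℕ) : ℕ∞) = (n : ℕ∞) := by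
    have : ((K.height + ((n - c : ℕ) : ℕ∞) : ℕ∞) : WithBot ℕ∞) = ((n : ℕ∞) : WithBot ℕ∞) := by
      rw [WithBot.coe_add]; exact h1
    exact WithBot.coe_injective this
  have h4 : ((c : ℕ∞) + ((n - c : ℕ) : ℕ∞)) = (n : ℕ∞) := by
    have : c + (n - c) = n := by omega
    exact_mod_cast this
  rw [← h4] at h2
  exact le_of_eq ((ENat.add_left_injective_of_ne_top (ENat.natCast_ne_top (n - c))) h2).symm

end Height

section MapAlg

/-- `IsRegular` is insensitive to mapping the sequence along `algebraMap`. -/
theorem isRegular_map_algebraMap_iff {R S M : Type*} [CommRing R] [CommRing S] [Algebra R S]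
    [AddCommGroup M] [Module R M] [Module S M] [IsScalarTower R S M] (rs : List R) :
    IsRegular M (rs.map (algebraMap R S)) ↔ IsRegular M rs := by
  rw [isRegular_iff, isRegular_iff, isWeaklyRegular_map_algebraMap_iff, ne_eq, ne_eq,
    ← Submodule.restrictScalars_inj R S, ← Ideal.map_ofList, Ideal.smul_restrictScalars,
    Submodule.restrictScalars_top]

end MapAlg

section Fibre

variable {R : Type u} [CommRing R] {n c : ℕ} {F : Fin c → MvPolynomial (Fin n) R}

/-- `F̄` is a regular sequence in `κ(p)[x]_Q`. -/
theorem isRegular_localization_fibre (h : Synt.IsRelGCI R n c F)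
    (q' : Ideal (MvPolynomial (Fin n) R)) [q'.IsPrime] (hq' : Ideal.span (Set.range F) ≤ q')
    (Q : Ideal (MvPolynomial (Fin n)
      (q'.comap (algebraMap R (MvPolynomial (Fin n) R))).ResidueField)) [Q.IsPrime]
    (hQ : Q.comap (MvPolynomial.map (algebraMap R
      (q'.comap (algebraMap R (MvPolynomial (Fin n) R))).ResidueField)) = q') :
    IsRegular (Localization.AtPrime Q)
      ((List.ofFn fun i => MvPolynomial.map (algebraMap R
        (q'.comap (algebraMap R (MvPolynomial (Fin n) R))).ResidueField) (F i)).map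
        (algebraMap _ (Localization.AtPrime Q))) := by
  set p := q'.comap (algebraMap R (MvPolynomial (Fin n) R)) with hp
  set κ := p.ResidueField with hκ
  set φ := MvPolynomial.map (σ := Fin n) (algebraMap R κ) with hφ
  have hk : LocCoh.IsCohenMacaulayRing κ := isCohenMacaulayRing_of_field κ
  have hS : LocCoh.IsCohenMacaulayRing (MvPolynomial (Fin n) κ) :=
    isCohenMacaulayRing_mvPolynomial_fin n
  set xs : List (MvPolynomial (Fin n) κ) := List.ofFn fun i => φ (F i) with hxs
  have hof : Ideal.ofList xs = (Ideal.span (Set.range F)).map φ := by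
    rw [Ideal.map_span]
    unfold Ideal.ofList
    congr 1
    ext x
    simp [hxs, List.mem_ofFn]
  have hleQ : Ideal.ofList xs ≤ Q := by
    rw [hof, Ideal.map_le_iff_le_comap]
    exact fun x hx => (Ideal.ext_iff.mp hQ x).mpr (hq' hx)
  have hne : (Ideal.span (Set.range F)).map φ ≠ ⊤ := by
    intro htop
    rw [hof, htop] at hleQ
    exact ‹Q.IsPrime›.ne_top (top_le_iff.mp hleQ)
  have hht := natCast_le_height_of_isRelGCI h p hne
  have hlen : xs.length = c := by simp [hxs]
  exact isRegular_map_localization_of_length_le_height xs (by rw [hof, hlen]; exact hht) Q hleQ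

/-- **The fibre hypothesis of EGA IV 11.3.8 for a relative global complete intersection.** -/
theorem isRegular_localizedModule_fibre (h : Synt.IsRelGCI R n c F)
    (q' : Ideal (MvPolynomial (Fin n) R)) [q'.IsPrime] (hq' : Ideal.span (Set.range F) ≤ q') :
    IsRegular (LocalizedModule q'.primeCompl (MvPolynomial (Fin n) R ⊗[R]
      (q'.comap (algebraMap R (MvPolynomial (Fin n) R))).ResidueField)) (List.ofFn F) := by
  set p := q'.comap (algebraMap R (MvPolynomial (Fin n) R)) with hp
  set κ := p.ResidueField with hκ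
  set φ := MvPolynomial.map (σ := Fin n) (algebraMap R κ) with hφ
  obtain ⟨Q, hQprime, hQ⟩ := exists_prime_over q'
  have hreg := isRegular_localization_fibre h q' hq' Q hQ
  haveI := isLocalization_atPrime_over q' Q hQ
  let ψ : MvPolynomial (Fin n) κ →ₗ[MvPolynomial (Fin n) R] Localization.AtPrime Q :=
    (IsScalarTower.toAlgHom (MvPolynomial (Fin n) R) (MvPolynomial (Fin n) κ)
      (Localization.AtPrime Q)).toLinearMap
  haveI : IsLocalizedModule q'.primeCompl ψ :=
    (isLocalizedModule_iff_isLocalization (S := q'.primeCompl)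
      (A := MvPolynomial (Fin n) κ) (Aₛ := Localization.AtPrime Q)).mpr inferInstance
  let e : MvPolynomial (Fin n) R ⊗[R] κ ≃ₗ[MvPolynomial (Fin n) R] MvPolynomial (Fin n) κ :=
    (Algebra.IsPushout.equiv R (MvPolynomial (Fin n) R) κ (MvPolynomial (Fin n) κ)).toLinearEquiv
  haveI : IsLocalizedModule q'.primeCompl (ψ ∘ₗ e.toLinearMap) :=
    IsLocalizedModule.of_linearEquiv_right q'.primeCompl ψ e
  let iso : LocalizedModule q'.primeCompl (MvPolynomial (Fin n) R ⊗[R] κ)
      ≃ₗ[MvPolynomial (Fin n) R] Localization.AtPrime Q :=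
    IsLocalizedModule.iso q'.primeCompl (ψ ∘ₗ e.toLinearMap)
  have hlist : (List.ofFn F).map (algebraMap (MvPolynomial (Fin n) R) (Localization.AtPrime Q)) =
      (List.ofFn fun i => φ (F i)).map
        (algebraMap (MvPolynomial (Fin n) κ) (Localization.AtPrime Q)) := by
    rw [List.map_ofFn, List.map_ofFn]
    congr 1
  rw [iso.isRegular_congr, ← isRegular_map_algebraMap_iff (S := Localization.AtPrime Q), hlist]
  exact hreg

end Fibre

end Groth.Agent.Lib.Seat56.RelGCI
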