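import Mathlib
import Groth.Agent.Lib.Seat56RelGCI2
import Groth.Agent.Lib.Seat56FibReg6

/-!
# Relative global complete intersections: regular sequence and flat quotients (helper56)

`isRegular_and_flat_of_isRelGCI` (Stacks 00SV (1), (2)): for a relative global complete intersection
`R[x]/(F_1, …, F_c)` and a prime `q' ⊇ (F)` of `R[x]`, the `F_i` form a regular sequence in `R[x]_{q'}`
and all quotients `R[x]_{q'}/(F_1, …, F_i)` are flat over `R`.
-/

set_option autoImplicit false
set_option linter.style.haveILetI false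

universe u

namespace Groth.Agent.Lib.Seat56.RelGCI

open TensorProduct RingTheory.Sequence Groth.Agent.Lib.Helper28

section Main

variable {R : Type u} [CommRing R] {n c : ℕ} {F : Fin c → MvPolynomial (Fin n) R}

/-- Localizing a quotient `P / I` of a ring at a prime `q'`: `(P / I • ⊤)_{q'} ≃ P_{q'} / I P_{q'}`. -/
noncomputable def localizedQuotEquiv {P : Type u} [CommRing P] (q' : Ideal P) [q'.IsPrime]
    (I : Ideal P) :
    LocalizedModule q'.primeCompl (P ⧸ (I • (⊤ : Submodule P P))) ≃ₗ[P]
      Localization.AtPrime q' ⧸ I.map (algebraMap P (Localization.AtPrime q')) :=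
  let e₀ : (P ⧸ (I • (⊤ : Submodule P P))) ≃ₗ[P] P ⧸ I :=
    Submodule.quotEquivOfEq _ _ (by rw [smul_eq_mul, Ideal.mul_top])
  let ψ : P ⧸ I →ₗ[P] Localization.AtPrime q' ⧸ I.map (algebraMap P (Localization.AtPrime q')) :=
    (IsScalarTower.toAlgHom P (P ⧸ I)
      (Localization.AtPrime q' ⧸ I.map (algebraMap P (Localization.AtPrime q')))).toLinearMap
  haveI : IsLocalizedModule q'.primeCompl ψ :=
    (isLocalizedModule_iff_isLocalization (S := q'.primeCompl) (A := P ⧸ I)
      (Aₛ := Localization.AtPrime q' ⧸ I.map (algebraMap P (Localization.AtPrime q')))).mpr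
        inferInstance
  haveI : IsLocalizedModule q'.primeCompl (ψ ∘ₗ e₀.toLinearMap) :=
    IsLocalizedModule.of_linearEquiv_right q'.primeCompl ψ e₀
  IsLocalizedModule.iso q'.primeCompl (ψ ∘ₗ e₀.toLinearMap)

/-- **Stacks 00SV (1), (2)**. -/
theorem isRegular_and_flat_of_isRelGCI (h : Synt.IsRelGCI R n c F)
    (q' : Ideal (MvPolynomial (Fin n) R)) [q'.IsPrime] (hq' : Ideal.span (Set.range F) ≤ q') :
    IsRegular (Localization.AtPrime q')
        ((List.ofFn F).map (algebraMap (MvPolynomial (Fin n) R) (Localization.AtPrime q'))) ∧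
      ∀ i ≤ c, Module.Flat R (Localization.AtPrime q' ⧸ Ideal.ofList
        (((List.ofFn F).take i).map
          (algebraMap (MvPolynomial (Fin n) R) (Localization.AtPrime q')))) := by
  have hfib := isRegular_localizedModule_fibre h q' hq'
  have hflat : Module.Flat R (LocalizedModule q'.primeCompl (MvPolynomial (Fin n) R)) :=
    Groth.Agent.Lib.Helper3.FlatLoc.flat_localizedModule_of_flat q'.primeCompl
  obtain ⟨h1, h2⟩ := Groth.Agent.Lib.Seat56.FibReg.isRegular_and_flat_quotients_of_isRegular_fibre
    q' (List.ofFn F) (MvPolynomial (Fin n) R) hflat hfib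
  constructor
  · let iso₀ : LocalizedModule q'.primeCompl (MvPolynomial (Fin n) R) ≃ₗ[MvPolynomial (Fin n) R]
        Localization.AtPrime q' :=
      IsLocalizedModule.iso q'.primeCompl
        (Algebra.linearMap (MvPolynomial (Fin n) R) (Localization.AtPrime q'))
    rw [isRegular_map_algebraMap_iff]
    exact (iso₀.isRegular_congr _).mp h1
  · intro i hi
    have h3 := h2 i (by simpa using hi)
    rw [← Ideal.map_ofList]
    exact Module.Flat.of_linearEquiv
      ((localizedQuotEquiv q' (Ideal.ofList ((List.ofFn F).take i))).symm.restrictScalars R)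

end Main

end Groth.Agent.Lib.Seat56.RelGCI
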