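import Mathlib
import Groth.Agent.Lib.Seat56RelGCI3
import Groth.Agent.Lib.Seat56RegSyz

/-!
# Relative global complete intersections: the conormal module (helper56)

`cotangent_basis_of_isRelGCI` (Stacks 00SV (3)): for a relative global complete intersection
`S = R[x]/(F_1, …, F_c)`, the classes of the `F_i` form a basis of `(F)/(F)²` over `S`.
-/

set_option autoImplicit false
set_option linter.style.haveILetI false

universe u

namespace Groth.Agent.Lib.Seat56.RelGCI

open TensorProduct RingTheory.Sequence Groth.Agent.Lib.Helper28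

section Conormal

variable {R : Type u} [CommRing R] {n c : ℕ} {F : Fin c → MvPolynomial (Fin n) R}

/-- For a relative global complete intersection, `∑ s_i F_i ∈ (F)²` forces `s_i ∈ (F)`. -/
theorem mem_span_of_sum_mul_mem_sq (h : Synt.IsRelGCI R n c F)
    (s : Fin c → MvPolynomial (Fin n) R)
    (hs : ∑ i, s i * F i ∈ Ideal.span (Set.range F) ^ 2) (i : Fin c) :
    s i ∈ Ideal.span (Set.range F) := by
  set I := Ideal.span (Set.range F) with hI
  apply Ideal.mem_of_localization_maximal
  intro m hm
  haveI : m.IsPrime := hm.isPrime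
  by_cases hle : I ≤ m
  · obtain ⟨hreg, -⟩ := isRegular_and_flat_of_isRelGCI h m hle
    set alg := algebraMap (MvPolynomial (Fin n) R) (Localization.AtPrime m) with halg
    rw [List.map_ofFn] at hreg
    have hspan : Ideal.span (Set.range (alg ∘ F)) = I.map alg := by
      rw [hI, Ideal.map_span, Set.range_comp]
    have hsum : ∑ j, (alg ∘ s) j * (alg ∘ F) j ∈ Ideal.span (Set.range (alg ∘ F)) ^ 2 := by
      rw [hspan, ← Ideal.map_pow]
      have : ∑ j, (alg ∘ s) j * (alg ∘ F) j = alg (∑ j, s j * F j) := by
        rw [map_sum]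
        exact Finset.sum_congr rfl fun j _ => by rw [map_mul]; rfl
      rw [this]
      exact Ideal.mem_map_of_mem _ hs
    have := Groth.Agent.Lib.Seat56.RegSyz.mem_of_sum_mul_mem_sq (alg ∘ F) hreg.toIsWeaklyRegular
      (alg ∘ s) hsum i
    rw [hspan] at this
    exact this
  · obtain ⟨x, hxI, hxm⟩ := SetLike.not_le_iff_exists.mp hle
    have hu : IsUnit (algebraMap (MvPolynomial (Fin n) R) (Localization.AtPrime m) x) :=
      IsLocalization.map_units (Localization.AtPrime m) (⟨x, hxm⟩ : m.primeCompl)
    rw [Ideal.eq_top_of_isUnit_mem _ (Ideal.mem_map_of_mem _ hxI) hu]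
    exact Submodule.mem_top

/-- **Stacks 00SV (3)**: the conormal module of a relative global complete intersection is free
on the classes of the equations. -/
theorem cotangent_basis_of_isRelGCI (h : Synt.IsRelGCI R n c F) :
    LinearIndependent (Synt.RelGCIRing R n c F)
        (fun i : Fin c => (Ideal.span (Set.range F)).toCotangent
          ⟨F i, Ideal.subset_span (Set.mem_range_self i)⟩) ∧
      Submodule.span (Synt.RelGCIRing R n c F) (Set.range
        (fun i : Fin c => (Ideal.span (Set.range F)).toCotangent
          ⟨F i, Ideal.subset_span (Set.mem_range_self i)⟩)) = ⊤ := by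
  set I := Ideal.span (Set.range F) with hI
  have hsmul : ∀ (a : MvPolynomial (Fin n) R) (x : I.Cotangent),
      (Ideal.Quotient.mk I a : Synt.RelGCIRing R n c F) • x = a • x := fun a x =>
    algebraMap_smul (MvPolynomial (Fin n) R ⧸ I) a x
  constructor
  · rw [Fintype.linearIndependent_iff]
    intro g hg i
    choose s hs using fun i => Ideal.Quotient.mk_surjective (g i)
    have h1 : ∑ j, g j • I.toCotangent ⟨F j, Ideal.subset_span (Set.mem_range_self j)⟩ =
        I.toCotangent (∑ j, s j • (⟨F j, Ideal.subset_span (Set.mem_range_self j)⟩ : I)) := by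
      rw [map_sum]
      exact Finset.sum_congr rfl fun j _ => by rw [map_smul, ← hs j, hsmul]
    rw [h1, Ideal.toCotangent_eq_zero] at hg
    have h2 : ((∑ j, s j • (⟨F j, Ideal.subset_span (Set.mem_range_self j)⟩ : I) : I) :
        MvPolynomial (Fin n) R) = ∑ j, s j * F j := by
      rw [AddSubmonoidClass.coe_finsetSum]
      rfl
    rw [h2] at hg
    have h3 := mem_span_of_sum_mul_mem_sq h s hg i
    rw [← hs i]
    exact Ideal.Quotient.eq_zero_iff_mem.mpr h3
  · rw [eq_top_iff]
    intro x _
    obtain ⟨y, rfl⟩ := I.toCotangent_surjective x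
    obtain ⟨a, ha⟩ := (Ideal.mem_span_range_iff_exists_fun).mp y.2
    have hy : y = ∑ j, a j • (⟨F j, Ideal.subset_span (Set.mem_range_self j)⟩ : I) := by
      apply Subtype.ext
      rw [AddSubmonoidClass.coe_finsetSum, ← ha]
      rfl
    rw [hy, map_sum]
    refine Submodule.sum_mem _ fun j _ => ?_
    rw [map_smul, ← hsmul]
    exact Submodule.smul_mem _ _ (Submodule.subset_span ⟨j, rfl⟩)

end Conormal

end Groth.Agent.Lib.Seat56.RelGCI
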