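import Mathlib.Algebra.Homology.HomotopyCategory.MappingCone
import Mathlib.Algebra.Category.ModuleCat.Abelian
import Mathlib.Algebra.Homology.Linear

/-!
# Element-level description of the mapping cone of a morphism of complexes of modules (Seat 40)

`xEquiv φ p q h : cone(φ)^p ≃ₗ F^q × G^p` (for `p + 1 = q`) and the formula for the differential.
-/

set_option autoImplicit false
universe u

namespace Groth.Agent.Lib.Seat40.ConeElem

open CategoryTheory CochainComplex HomComplex

variable {A : Type u} [CommRing A] {F G : CochainComplex (ModuleCat.{u} A) ℤ} (φ : F ⟶ G)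

/-- first component `cone(φ)^p → F^q` -/
noncomputable def fstL (p q : ℤ) (hpq : p + 1 = q) : (mappingCone φ).X p →ₗ[A] F.X q :=
  ((mappingCone.fst φ).1.v p q hpq).hom

/-- second component `cone(φ)^p → G^p` -/
noncomputable def sndL (p : ℤ) : (mappingCone φ).X p →ₗ[A] G.X p :=
  ((mappingCone.snd φ).v p p (add_zero p)).hom

/-- `F^q → cone(φ)^p` -/
noncomputable def inlL (p q : ℤ) (hpq : p + 1 = q) : F.X q →ₗ[A] (mappingCone φ).X p :=
  ((mappingCone.inl φ).v q p (by omega)).hom

/-- `G^p → cone(φ)^p` -/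
noncomputable def inrL (p : ℤ) : G.X p →ₗ[A] (mappingCone φ).X p :=
  ((mappingCone.inr φ).f p).hom

lemma fstL_inlL (p q : ℤ) (hpq : p + 1 = q) (a : F.X q) :
    fstL φ p q hpq (inlL φ p q hpq a) = a := by
  have := congrArg (fun g => g.hom a) (mappingCone.inl_v_fst_v φ q p hpq)
  simp only [ModuleCat.hom_comp, LinearMap.comp_apply, ModuleCat.hom_id, LinearMap.id_apply] at this
  exact this

lemma sndL_inlL (p q : ℤ) (hpq : p + 1 = q) (a : F.X q) :
    sndL φ p (inlL φ p q hpq a) = 0 := by
  have := congrArg (fun g => g.hom a) (mappingCone.inl_v_snd_v φ q p (by omega))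
  simp only [ModuleCat.hom_comp, LinearMap.comp_apply, ModuleCat.hom_zero, LinearMap.zero_apply] at this
  exact this

lemma fstL_inrL (p q : ℤ) (hpq : p + 1 = q) (b : G.X p) :
    fstL φ p q hpq (inrL φ p b) = 0 := by
  have := congrArg (fun g => g.hom b) (mappingCone.inr_f_fst_v φ p q hpq)
  simp only [ModuleCat.hom_comp, LinearMap.comp_apply, ModuleCat.hom_zero, LinearMap.zero_apply] at this
  exact this

lemma sndL_inrL (p : ℤ) (b : G.X p) :
    sndL φ p (inrL φ p b) = b := by
  have := congrArg (fun g => g.hom b) (mappingCone.inr_f_snd_v φ p)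
  simp only [ModuleCat.hom_comp, LinearMap.comp_apply, ModuleCat.hom_id, LinearMap.id_apply] at this
  exact this

lemma inlL_fstL_add_inrL_sndL (p q : ℤ) (hpq : p + 1 = q) (z : (mappingCone φ).X p) :
    inlL φ p q hpq (fstL φ p q hpq z) + inrL φ p (sndL φ p z) = z := by
  have := congrArg (fun g => g.hom z) (mappingCone.id_X φ p q hpq)
  simp only [ModuleCat.hom_comp, ModuleCat.hom_add, LinearMap.add_apply, LinearMap.comp_apply,
    ModuleCat.hom_id, LinearMap.id_apply] at this
  exact this

/-- `cone(φ)^p ≃ F^q × G^p` -/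
noncomputable def xEquiv (p q : ℤ) (hpq : p + 1 = q) :
    (mappingCone φ).X p ≃ₗ[A] (F.X q × G.X p) where
  toFun z := (fstL φ p q hpq z, sndL φ p z)
  map_add' x y := by simp
  map_smul' c x := by simp
  invFun ab := inlL φ p q hpq ab.1 + inrL φ p ab.2
  left_inv z := inlL_fstL_add_inrL_sndL φ p q hpq z
  right_inv ab := by
    ext
    · simp [fstL_inlL, fstL_inrL]
    · simp [sndL_inlL, sndL_inrL]

@[simp] lemma xEquiv_apply (p q : ℤ) (hpq : p + 1 = q) (z : (mappingCone φ).X p) :
    xEquiv φ p q hpq z = (fstL φ p q hpq z, sndL φ p z) := rfl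

lemma xEquiv_symm_apply (p q : ℤ) (hpq : p + 1 = q) (ab : F.X q × G.X p) :
    (xEquiv φ p q hpq).symm ab = inlL φ p q hpq ab.1 + inrL φ p ab.2 := rfl

/-- first component of the differential -/
lemma fstL_d (p q r : ℤ) (hpq : p + 1 = q) (hqr : q + 1 = r) (z : (mappingCone φ).X p) :
    fstL φ q r hqr (((mappingCone φ).d p q).hom z) = -((F.d q r).hom (fstL φ p q hpq z)) := by
  have := congrArg (fun g => g.hom z) (mappingCone.d_fst_v φ p q r hpq hqr)
  simp only [ModuleCat.hom_comp, ModuleCat.hom_neg, LinearMap.neg_apply, LinearMap.comp_apply] at this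
  exact this

/-- second component of the differential -/
lemma sndL_d (p q : ℤ) (hpq : p + 1 = q) (z : (mappingCone φ).X p) :
    sndL φ q (((mappingCone φ).d p q).hom z) =
      (φ.f q).hom (fstL φ p q hpq z) + (G.d p q).hom (sndL φ p z) := by
  have := congrArg (fun g => g.hom z) (mappingCone.d_snd_v φ p q hpq)
  simp only [ModuleCat.hom_comp, ModuleCat.hom_add, LinearMap.add_apply, LinearMap.comp_apply] at this
  exact this

end Groth.Agent.Lib.Seat40.ConeElem
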