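import Mathlib
import Groth.Prelude.Def_RegImm
import Groth.Agent.Lib.Seat40ConeElem
import Groth.Agent.Lib.Helper13KzLiftB

/-!
# Permutation invariance of the mapping-cone Koszul complex (Seat 40)
-/

set_option autoImplicit false
set_option linter.style.haveILetI false
universe u

namespace Groth.Agent.Lib.Seat40.KoszulPerm

open CategoryTheory CochainComplex CohIII
open Groth.Agent.Lib.Seat40.ConeElem

variable {A : Type u} [CommRing A] (K : CochainComplex (ModuleCat.{u} A) ℤ) (x y : A)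

/-- the cone of `y` on `K` -/
noncomputable abbrev C1 : CochainComplex (ModuleCat.{u} A) ℤ := mappingCone (y • 𝟙 K)

/-- the iterated cone: `x` on the cone of `y` on `K` -/
noncomputable abbrev C2 : CochainComplex (ModuleCat.{u} A) ℤ := mappingCone (x • 𝟙 (C1 K y))

lemma smul_id_f_apply' (L : CochainComplex (ModuleCat.{u} A) ℤ) (x : A) (p : ℤ) (a : L.X p) :
    ((x • 𝟙 L : L ⟶ L).f p).hom a = x • a := by
  simp

/-- the four components of an element of the iterated cone -/
noncomputable def quad (p q r : ℤ) (hpq : p + 1 = q) (hqr : q + 1 = r) :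
    (C2 K x y).X p ≃ₗ[A] ((K.X r × K.X q) × (K.X q × K.X p)) :=
  (xEquiv (x • 𝟙 (C1 K y)) p q hpq).trans
    (LinearEquiv.prodCongr (xEquiv (y • 𝟙 K) q r hqr) (xEquiv (y • 𝟙 K) p q hpq))

lemma quad_apply (p q r : ℤ) (hpq : p + 1 = q) (hqr : q + 1 = r) (z : (C2 K x y).X p) :
    quad K x y p q r hpq hqr z =
      ((fstL (y • 𝟙 K) q r hqr (fstL (x • 𝟙 (C1 K y)) p q hpq z),
        sndL (y • 𝟙 K) q (fstL (x • 𝟙 (C1 K y)) p q hpq z)),
       (fstL (y • 𝟙 K) p q hpq (sndL (x • 𝟙 (C1 K y)) p z),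
        sndL (y • 𝟙 K) p (sndL (x • 𝟙 (C1 K y)) p z))) := rfl

/-- the differential in terms of the four components -/
lemma quad_d (p q r s : ℤ) (hpq : p + 1 = q) (hqr : q + 1 = r) (hrs : r + 1 = s)
    (z : (C2 K x y).X p) :
    quad K x y q r s hqr hrs (((C2 K x y).d p q).hom z) =
      (((K.d r s).hom (quad K x y p q r hpq hqr z).1.1,
        - (y • (quad K x y p q r hpq hqr z).1.1) - (K.d q r).hom (quad K x y p q r hpq hqr z).1.2),
       (x • (quad K x y p q r hpq hqr z).1.1 - (K.d q r).hom (quad K x y p q r hpq hqr z).2.1,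
        x • (quad K x y p q r hpq hqr z).1.2 + y • (quad K x y p q r hpq hqr z).2.1 +
          (K.d p q).hom (quad K x y p q r hpq hqr z).2.2)) := by
  simp only [quad_apply]
  rw [fstL_d (x • 𝟙 (C1 K y)) p q r hpq hqr, sndL_d (x • 𝟙 (C1 K y)) p q hpq]
  simp only [map_neg, map_add, smul_id_f_apply']
  rw [fstL_d (y • 𝟙 K) q r s hqr hrs, sndL_d (y • 𝟙 K) q r hqr, fstL_d (y • 𝟙 K) p q r hpq hqr,
    sndL_d (y • 𝟙 K) p q hpq]
  simp only [smul_id_f_apply', map_smul, neg_neg]
  refine Prod.ext (Prod.ext rfl ?_) (Prod.ext ?_ ?_)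
  · simp only; abel
  · simp only; abel
  · simp only; abel

/-- the swap on quadruples -/
def tau (M₁ M₂ M₃ : Type u) [AddCommGroup M₁] [AddCommGroup M₂] [AddCommGroup M₃] [Module A M₁]
    [Module A M₂] [Module A M₃] : ((M₁ × M₂) × (M₂ × M₃)) →ₗ[A] ((M₁ × M₂) × (M₂ × M₃)) where
  toFun w := ((-w.1.1, w.2.1), (w.1.2, w.2.2))
  map_add' _ _ := Prod.ext (Prod.ext (neg_add _ _) rfl) rfl
  map_smul' _ _ := Prod.ext (Prod.ext (smul_neg _ _).symm rfl) rfl

lemma tau_tau (M₁ M₂ M₃ : Type u) [AddCommGroup M₁] [AddCommGroup M₂] [AddCommGroup M₃]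
    [Module A M₁] [Module A M₂] [Module A M₃] (w : (M₁ × M₂) × (M₂ × M₃)) :
    tau (A := A) M₁ M₂ M₃ (tau (A := A) M₁ M₂ M₃ w) = w := by
  refine Prod.ext (Prod.ext ?_ rfl) rfl
  simp [tau]

/-- the degreewise swap map -/
noncomputable def swapX (p : ℤ) : (C2 K x y).X p →ₗ[A] (C2 K y x).X p :=
  ((quad K y x p (p + 1) (p + 1 + 1) rfl rfl).symm.toLinearMap ∘ₗ
    tau (A := A) (K.X (p + 1 + 1)) (K.X (p + 1)) (K.X p)) ∘ₗ
      (quad K x y p (p + 1) (p + 1 + 1) rfl rfl).toLinearMap

lemma quad_swapX (p : ℤ) (z : (C2 K x y).X p) :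
    quad K y x p (p + 1) (p + 1 + 1) rfl rfl (swapX K x y p z) =
      tau (A := A) (K.X (p + 1 + 1)) (K.X (p + 1)) (K.X p)
        (quad K x y p (p + 1) (p + 1 + 1) rfl rfl z) := by
  simp [swapX]

lemma swapX_swapX (p : ℤ) (z : (C2 K x y).X p) : swapX K y x p (swapX K x y p z) = z := by
  apply (quad K x y p (p + 1) (p + 1 + 1) rfl rfl).injective
  rw [quad_swapX, quad_swapX, tau_tau]

/-- the swap morphism of complexes -/
noncomputable def swapHom : C2 K x y ⟶ C2 K y x where
  f p := ModuleCat.ofHom (swapX K x y p)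
  comm' p q hpq := by
    have hpq' : p + 1 = q := hpq
    subst hpq'
    ext z
    change ((C2 K y x).d p (p + 1)).hom (swapX K x y p z) =
      swapX K x y (p + 1) (((C2 K x y).d p (p + 1)).hom z)
    apply (quad K y x (p + 1) (p + 1 + 1) (p + 1 + 1 + 1) rfl rfl).injective
    rw [quad_swapX, quad_d K x y p (p + 1) (p + 1 + 1) (p + 1 + 1 + 1) rfl rfl rfl,
      quad_d K y x p (p + 1) (p + 1 + 1) (p + 1 + 1 + 1) rfl rfl rfl, quad_swapX]
    simp only [tau, LinearMap.coe_mk, AddHom.coe_mk, map_neg, smul_neg]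
    refine Prod.ext (Prod.ext rfl ?_) (Prod.ext ?_ ?_)
    · simp only; abel
    · simp only [sub_eq_add_neg]
    · simp only; abel

/-- the swap isomorphism `K(x, y, l) ≅ K(y, x, l)` -/
noncomputable def swapIso : C2 K x y ≅ C2 K y x where
  hom := swapHom K x y
  inv := swapHom K y x
  hom_inv_id := by
    ext p z
    simp only [HomologicalComplex.comp_f, ModuleCat.hom_comp, LinearMap.comp_apply,
      HomologicalComplex.id_f, ModuleCat.hom_id, LinearMap.id_apply]
    exact swapX_swapX K x y p z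
  inv_hom_id := by
    ext p z
    simp only [HomologicalComplex.comp_f, ModuleCat.hom_comp, LinearMap.comp_apply,
      HomologicalComplex.id_f, ModuleCat.hom_id, LinearMap.id_apply]
    exact swapX_swapX K y x p z

/-- the Koszul complex does not depend on the order of the sequence -/
theorem nonempty_iso_of_perm (M : ModuleCat.{u} A) {l l' : List A} (h : l.Perm l') :
    Nonempty (koszulCx M l ≅ koszulCx M l') := by
  induction h with
  | nil => exact ⟨Iso.refl _⟩
  | cons x _ ih =>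
    obtain ⟨e⟩ := ih
    exact ⟨Groth.Agent.Helper13Kz.coneIso e x⟩
  | swap x y l => exact ⟨swapIso (koszulCx M l) y x⟩
  | trans _ _ ih1 ih2 =>
    obtain ⟨e1⟩ := ih1
    obtain ⟨e2⟩ := ih2
    exact ⟨e1 ≪≫ e2⟩

/-- vanishing of Koszul cohomology does not depend on the order of the sequence -/
theorem isZero_homology_of_perm (M : ModuleCat.{u} A) {l l' : List A} (h : l.Perm l') (i : ℤ)
    (hz : Limits.IsZero ((koszulCx M l).homology i)) :
    Limits.IsZero ((koszulCx M l').homology i) := by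
  obtain ⟨e⟩ := nonempty_iso_of_perm M h
  exact Limits.IsZero.of_iso hz
    ((HomologicalComplex.homologyFunctor _ _ i).mapIso e.symm)

end Groth.Agent.Lib.Seat40.KoszulPerm
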