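import Groth.Prelude.Def_Koszul
import Groth.Agent.Lib.Seat40ConeElem
import Mathlib.LinearAlgebra.Span.Basic
import Mathlib.Algebra.BigOperators.Fin
import Mathlib.LinearAlgebra.Pi
import Mathlib.Algebra.Module.Submodule.Range
import Mathlib.Algebra.Homology.ShortComplex.ModuleCat
import Mathlib.Algebra.Homology.Single

/-!
# The mapping-cone Koszul complex in degrees `0, -1, -2` (Seat 40)

`lowData_koszul`: for every list `l`, `K(l)^0 ≃ A`, `K(l)^{-1} ≃ A^n`, the differential `d^{-1}` is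
`a ↦ Σ a_i l_i` and the image of `d^{-2}` is the module of trivial relations.
`h1_of_homology_zero`: `H^{-1}(K(l)) = 0` implies every relation is trivial.
-/

set_option autoImplicit false
universe u
open scoped BigOperators

namespace Groth.Agent.Lib.Seat40.KoszulLow


variable {A : Type u} [CommRing A]

/-- the module of trivial relations of a finite sequence -/
def triv {n : ℕ} (f : Fin n → A) : Submodule A (Fin n → A) :=
  Submodule.span A {v : Fin n → A | ∃ i j : Fin n, v = Pi.single i (f j) - Pi.single j (f i)}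

/-- `t ↦ (0, t)` -/
def consZero (n : ℕ) : (Fin n → A) →ₗ[A] (Fin (n + 1) → A) where
  toFun t := Fin.cons 0 t
  map_add' s t := by
    ext i
    refine Fin.cases ?_ (fun j => ?_) i <;> simp
  map_smul' c t := by
    ext i
    refine Fin.cases ?_ (fun j => ?_) i <;> simp

lemma consZero_single {n : ℕ} (i : Fin n) (a : A) :
    consZero n (Pi.single i a) = Pi.single i.succ a := by
  ext k
  refine Fin.cases ?_ (fun j => ?_) k
  · simp [consZero, Pi.single_apply, Fin.succ_ne_zero, eq_comm]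
  · simp [consZero, Pi.single_apply]

lemma consZero_mem_triv {n : ℕ} (x : A) (f : Fin n → A) {t : Fin n → A} (ht : t ∈ triv f) :
    consZero n t ∈ triv (Fin.cons x f : Fin (n + 1) → A) := by
  refine Submodule.span_induction (p := fun t _ => consZero n t ∈ triv (Fin.cons x f : Fin (n + 1) → A))
    ?_ ?_ ?_ ?_ ht
  · rintro _ ⟨i, j, rfl⟩
    rw [map_sub, consZero_single, consZero_single]
    exact Submodule.subset_span ⟨i.succ, j.succ, by simp⟩
  · simp
  · intro s t _ _ hs ht
    rw [map_add]; exact add_mem hs ht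
  · intro c t _ ht
    rw [map_smul]; exact Submodule.smul_mem _ _ ht

/-- the map `(a, t) ↦ (-(Σ a_i f_i), x a + t)` -/
def Lam {n : ℕ} (x : A) (f : Fin n → A) : (Fin n → A) × (Fin n → A) →ₗ[A] (Fin (n + 1) → A) where
  toFun at' := Fin.cons (-(∑ i, at'.1 i * f i)) (x • at'.1 + at'.2)
  map_add' s t := by
    ext i
    refine Fin.cases ?_ (fun j => ?_) i
    · simp [add_mul, Finset.sum_add_distrib]; ring
    · simp [mul_add]; ring
  map_smul' c t := by
    ext i
    refine Fin.cases ?_ (fun j => ?_) i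
    · simp [mul_assoc, Finset.mul_sum]
    · simp [mul_add]; ring

lemma Lam_apply {n : ℕ} (x : A) (f : Fin n → A) (a t : Fin n → A) :
    Lam x f (a, t) = Fin.cons (-(∑ i, a i * f i)) (x • a + t) := rfl

/-- key identity: trivial relations of `x :: f` -/
theorem triv_cons {n : ℕ} (x : A) (f : Fin n → A) :
    triv (Fin.cons x f : Fin (n + 1) → A) =
      Submodule.map (Lam x f) (Submodule.prod ⊤ (triv f)) := by
  apply le_antisymm
  · apply Submodule.span_le.mpr
    rintro _ ⟨i, j, rfl⟩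
    refine Fin.cases ?_ (fun i' => ?_) i <;> refine Fin.cases ?_ (fun j' => ?_) j
    · refine ⟨0, by simp, ?_⟩
      simp
    · -- (0, succ j')
      refine ⟨(-(Pi.single j' 1), 0), ⟨Submodule.mem_top, Submodule.zero_mem _⟩, ?_⟩
      rw [Lam_apply]
      ext k
      refine Fin.cases ?_ (fun k' => ?_) k
      · simp [Pi.single_apply, Fin.succ_ne_zero]
      · simp [Pi.single_apply, Fin.succ_ne_zero, eq_comm]
    · -- (succ i', 0)
      refine ⟨((Pi.single i' 1), 0), ⟨Submodule.mem_top, Submodule.zero_mem _⟩, ?_⟩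
      rw [Lam_apply]
      ext k
      refine Fin.cases ?_ (fun k' => ?_) k
      · simp [Pi.single_apply, Fin.succ_ne_zero]
      · simp [Pi.single_apply, Fin.succ_ne_zero, eq_comm]
    · -- (succ i', succ j')
      refine ⟨(0, Pi.single i' (f j') - Pi.single j' (f i')),
        ⟨Submodule.mem_top, Submodule.subset_span ⟨i', j', rfl⟩⟩, ?_⟩
      rw [Lam_apply]
      ext k
      refine Fin.cases ?_ (fun k' => ?_) k
      · simp [Pi.single_apply, Fin.succ_ne_zero, eq_comm]
      · simp [Pi.single_apply]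
  · rintro _ ⟨⟨a, t⟩, ⟨-, ht⟩, rfl⟩
    have ht' : t ∈ triv f := ht
    -- decompose
    have hdecomp : Lam x f (a, t) =
        (∑ j, a j • (Pi.single j.succ ((Fin.cons x f : Fin (n + 1) → A) 0) -
          Pi.single 0 ((Fin.cons x f : Fin (n + 1) → A) j.succ))) + consZero n t := by
      rw [Lam_apply]
      ext k
      refine Fin.cases ?_ (fun k' => ?_) k
      · simp [consZero, Pi.single_apply, Fin.succ_ne_zero, Finset.sum_apply]
      · simp [consZero, Pi.single_apply, Finset.sum_apply, eq_comm, mul_comm]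
    rw [hdecomp]
    refine add_mem (Submodule.sum_mem _ fun j _ => Submodule.smul_mem _ _ ?_)
      (consZero_mem_triv x f ht')
    exact Submodule.subset_span ⟨j.succ, 0, rfl⟩


section Low

open CategoryTheory CochainComplex HomComplex Groth.Agent.Lib.Seat40.ConeElem

/-- low-degree data of a complex -/
structure LowData (K : CochainComplex (ModuleCat.{u} A) ℤ) (n : ℕ) (f : Fin n → A) : Prop where
  pos : ∀ i : ℤ, 0 < i → Subsingleton (K.X i)
  ex : ∃ (ε : K.X 0 ≃ₗ[A] A) (ρ : K.X (-1) ≃ₗ[A] (Fin n → A)),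
    (∀ a : K.X (-1), ε ((K.d (-1) 0).hom a) = ∑ i, ρ a i * f i) ∧
    Submodule.map (ρ : K.X (-1) →ₗ[A] (Fin n → A)) (LinearMap.range (K.d (-2) (-1)).hom) = triv f

lemma lowData_nil :
    LowData ((CochainComplex.singleFunctor (ModuleCat.{u} A) 0).obj (ModuleCat.of A A)) 0
      (fun i : Fin 0 => i.elim0) := by
  have hz : ∀ i : ℤ, i ≠ 0 → Subsingleton
      (((CochainComplex.singleFunctor (ModuleCat.{u} A) 0).obj (ModuleCat.of A A)).X i) := by
    intro i hi
    exact ModuleCat.subsingleton_of_isZero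
      (HomologicalComplex.isZero_single_obj_X (ComplexShape.up ℤ) 0 (ModuleCat.of A A) i hi)
  refine ⟨fun i hi => hz i hi.ne', ?_⟩
  have := hz (-1) (by norm_num)
  refine ⟨(HomologicalComplex.singleObjXSelf (ComplexShape.up ℤ) 0
    (ModuleCat.of A A)).toLinearEquiv, LinearEquiv.ofSubsingleton _ _, ?_, ?_⟩
  · intro a
    rw [Subsingleton.elim a 0]
    simp
  · exact Subsingleton.elim _ _

variable {K : CochainComplex (ModuleCat.{u} A) ℤ} {n : ℕ} {f : Fin n → A}

lemma smul_id_f_apply (x : A) (p : ℤ) (a : K.X p) :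
    ((x • 𝟙 K : K ⟶ K).f p).hom a = x • a := by
  simp

lemma lowData_cone (h : LowData K n f) (x : A) :
    LowData (mappingCone (x • 𝟙 K)) (n + 1) (Fin.cons x f) := by
  obtain ⟨hpos, ε, ρ, hd1, hd2⟩ := h
  set φ : K ⟶ K := x • 𝟙 K with hφ
  refine ⟨fun i hi => ?_, ?_⟩
  · have := hpos i hi
    have := hpos (i + 1) (by omega)
    exact (xEquiv φ i (i + 1) rfl).toEquiv.subsingleton
  have : Subsingleton (K.X 1) := hpos 1 one_pos
  let _ : Unique (K.X 1) := uniqueOfSubsingleton 0
  let ε' : (mappingCone φ).X 0 ≃ₗ[A] A :=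
    (xEquiv φ 0 1 rfl).trans ((LinearEquiv.uniqueProd (R := A) (M := K.X 0) (M₂ := K.X 1)).trans ε)
  let ρ' : (mappingCone φ).X (-1) ≃ₗ[A] (Fin (n + 1) → A) :=
    (xEquiv φ (-1) 0 rfl).trans ((LinearEquiv.prodCongr ε ρ).trans
      (Fin.consLinearEquiv A (fun _ : Fin (n + 1) => A)))
  have hε' : ∀ z, ε' z = ε (sndL φ 0 z) := fun z => rfl
  have hρ' : ∀ z, ρ' z = Fin.cons (ε (fstL φ (-1) 0 rfl z)) (ρ (sndL φ (-1) z)) := fun z => rfl
  have hρd : ∀ w : (mappingCone φ).X (-2),
      ρ' (((mappingCone φ).d (-2) (-1)).hom w) =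
        Lam x f (ρ (fstL φ (-2) (-1) rfl w), ρ ((K.d (-2) (-1)).hom (sndL φ (-2) w))) := by
    intro w
    rw [hρ', fstL_d φ (-2) (-1) 0 rfl rfl, sndL_d φ (-2) (-1) rfl, Lam_apply, map_neg, hd1,
      map_add, smul_id_f_apply, map_smul]
  refine ⟨ε', ρ', ?_, ?_⟩
  · intro z
    rw [hε', sndL_d φ (-1) 0 rfl, map_add, smul_id_f_apply, map_smul, hd1, Fin.sum_univ_succ, hρ']
    simp only [Fin.cons_zero, Fin.cons_succ, smul_eq_mul]
    ring
  · rw [triv_cons]
    apply le_antisymm
    · rintro _ ⟨_, ⟨w, rfl⟩, rfl⟩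
      refine ⟨_, ⟨Submodule.mem_top, ?_⟩, (hρd w).symm⟩
      rw [← hd2]
      exact ⟨_, ⟨_, rfl⟩, rfl⟩
    · rintro _ ⟨⟨a, t⟩, ⟨-, ht⟩, rfl⟩
      have ht' : t ∈ triv f := ht
      rw [← hd2] at ht'
      obtain ⟨_, ⟨w₂, rfl⟩, rfl⟩ := ht'
      refine ⟨_, ⟨(xEquiv φ (-2) (-1) rfl).symm (ρ.symm a, w₂), rfl⟩, ?_⟩
      have h1 : fstL φ (-2) (-1) rfl ((xEquiv φ (-2) (-1) rfl).symm (ρ.symm a, w₂)) = ρ.symm a := by
        have := (xEquiv φ (-2) (-1) rfl).apply_symm_apply (ρ.symm a, w₂)
        exact congrArg Prod.fst this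
      have h2 : sndL φ (-2) ((xEquiv φ (-2) (-1) rfl).symm (ρ.symm a, w₂)) = w₂ := by
        have := (xEquiv φ (-2) (-1) rfl).apply_symm_apply (ρ.symm a, w₂)
        exact congrArg Prod.snd this
      show ρ' _ = _
      rw [hρd, h1, h2, LinearEquiv.apply_symm_apply]
      rfl

theorem lowData_koszul : ∀ l : List A, LowData (Koszul.koszul A l) l.length l.get
  | [] => by
    have h := lowData_nil (A := A)
    have e : (fun i : Fin 0 => i.elim0) = ([] : List A).get := by
      funext i; exact i.elim0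
    rw [e] at h
    exact h
  | x :: l => by
    have h := lowData_cone (lowData_koszul l) x
    have e : (Fin.cons x l.get : Fin (l.length + 1) → A) = (x :: l).get := by
      funext i
      refine Fin.cases ?_ (fun j => ?_) i
      · rfl
      · rfl
    rw [e] at h
    exact h

/-- vanishing of `H^{-1}` of the Koszul complex forces all relations to be trivial -/
theorem h1_of_homology_zero (l : List A) (h : CategoryTheory.Limits.IsZero ((Koszul.koszul A l).homology (-1)))
    (a : Fin l.length → A) (ha : ∑ i, a i * l.get i = 0) : a ∈ triv l.get := by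
  obtain ⟨-, ε, ρ, hd1, hd2⟩ := lowData_koszul l
  rw [← HomologicalComplex.exactAt_iff_isZero_homology,
    HomologicalComplex.exactAt_iff' _ (-2) (-1) 0 (by simp) (by simp),
    ShortComplex.moduleCat_exact_iff] at h
  have hz : ((Koszul.koszul A l).d (-1) 0).hom (ρ.symm a) = 0 := by
    apply ε.injective
    rw [hd1, map_zero, LinearEquiv.apply_symm_apply]
    exact ha
  obtain ⟨w, hw⟩ := h (ρ.symm a) hz
  rw [← hd2]
  exact ⟨ρ.symm a, ⟨w, hw⟩, LinearEquiv.apply_symm_apply ρ a⟩

end Low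

end Groth.Agent.Lib.Seat40.KoszulLow
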