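import Mathlib
import Groth.Prelude.Def_RegImm
import Groth.Agent.Lib.Seat40KoszulPerm
import Groth.Agent.Lib.Helper21KoszulDepth
import Groth.Agent.S18939

/-!
# Koszul-regular generating sequences are exactly the minimal ones (Seat 40)
-/

set_option autoImplicit false
set_option linter.style.haveILetI false
universe u

namespace Groth.Agent.Lib.Seat40.KoszulMin

open CategoryTheory CochainComplex CohIII
open Groth.Agent.Helper13Kz Groth.Agent.Helper13KzLift

variable {A : Type u} [CommRing A]

/-- peeling off an element of the ideal of the remaining ones -/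
theorem peel (M : Type u) [AddCommGroup M] [Module A M] (x : A) (l : List A)
    (hx : x ∈ Ideal.ofList l) (i : ℤ) (h : Subsingleton (KH (x :: l) M i)) :
    Subsingleton (KH l M (i + 1)) := by
  obtain ⟨g, δ, -, -, h3⟩ := cone_les (koszulCx (ModuleCat.of A M) l) x i
  have hsurj : Function.Surjective δ := by
    intro z
    apply (h3 z).1
    rw [LinearMap.smul_apply, LinearMap.id_apply]
    exact smul_KH_eq_zero_of_mem M l x hx (i + 1) z
  refine ⟨fun a b => ?_⟩
  obtain ⟨a', rfl⟩ := hsurj a
  obtain ⟨b', rfl⟩ := hsurj b
  have h' : Subsingleton ((mappingCone (x • 𝟙 (koszulCx (ModuleCat.of A M) l))).homology i) := h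
  rw [Subsingleton.elim a' b']

theorem peel_append (M : Type u) [AddCommGroup M] [Module A M] (f : List A) :
    ∀ (g : List A), (∀ x ∈ g, x ∈ Ideal.ofList f) → ∀ i : ℤ,
      Subsingleton (KH (g ++ f) M i) → Subsingleton (KH f M (i + g.length))
  | [], _, i, h => by simpa using h
  | x :: g, hg, i, h => by
    have hx : x ∈ Ideal.ofList (g ++ f) := by
      rw [Ideal.ofList_append]
      exact Ideal.mem_sup_right (hg x List.mem_cons_self)
    have h1 := peel M x (g ++ f) hx i h
    have h2 := peel_append M f g (fun y hy => hg y (List.mem_cons_of_mem _ hy)) (i + 1) h1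
    have : i + 1 + (g.length : ℤ) = i + ((x :: g).length : ℤ) := by
      simp only [List.length_cons, Nat.cast_add, Nat.cast_one]; ring
    rw [this] at h2
    exact h2

theorem vanish_cons (M : Type u) [AddCommGroup M] [Module A M] (x : A) (l : List A) (i : ℤ)
    (h0 : Subsingleton (KH l M i)) (h1 : Subsingleton (KH l M (i + 1))) :
    Subsingleton (KH (x :: l) M i) := by
  obtain ⟨g, δ, -, h2, -⟩ := cone_les (koszulCx (ModuleCat.of A M) l) x i
  refine ⟨fun a b => ?_⟩
  have key : ∀ c : (mappingCone (x • 𝟙 (koszulCx (ModuleCat.of A M) l))).homology i, c = 0 := by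
    intro c
    have hc : δ c = 0 := Subsingleton.elim _ _
    obtain ⟨c', rfl⟩ := (h2 c).1 hc
    rw [Subsingleton.elim c' 0, map_zero]
  exact (key a).trans (key b).symm

theorem vanish_append (M : Type u) [AddCommGroup M] [Module A M] (g : List A)
    (hg : ∀ j : ℤ, j < 0 → Subsingleton (KH g M j)) :
    ∀ (f : List A) (i : ℤ), i < -(f.length : ℤ) → Subsingleton (KH (f ++ g) M i)
  | [], i, hi => hg i (by simpa using hi)
  | x :: f, i, hi => by
    simp only [List.length_cons, Nat.cast_add, Nat.cast_one] at hi
    exact vanish_cons M x (f ++ g) i (vanish_append M g hg f i (by omega))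
      (vanish_append M g hg f (i + 1) (by omega))

theorem range_get_eq {α : Type u} (rs : List α) : Set.range rs.get = {x | x ∈ rs} := by
  ext x
  simp only [Set.mem_range, Set.mem_ofPred_eq]
  constructor
  · rintro ⟨i, rfl⟩; exact List.get_mem rs i
  · intro h
    obtain ⟨i, hi⟩ := List.get_of_mem h
    exact ⟨i, hi⟩

/-- a Koszul-regular generating sequence of a proper ideal has minimal length -/
theorem length_le_of_koszul {R : Type u} [CommRing R] {I : Ideal R} (hI : I ≠ ⊤) (f : List R)
    (hf : LCI.IsKoszulRegularSeq R f) (hfI : Ideal.ofList f = I) (h : List R)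
    (hhI : Ideal.ofList h = I) : f.length ≤ h.length := by
  have hmemf : ∀ i : Fin f.length, f.get i ∈ I := fun i =>
    hfI ▸ Ideal.subset_span (List.get_mem f i)
  obtain ⟨b, -⟩ := Groth.Agent.S18939.result hI f.length (fun i => ⟨f.get i, hmemf i⟩)
    (by simpa [List.ofFn_get] using hf) (by
      change Ideal.span (Set.range f.get) = I
      rw [range_get_eq]; exact hfI)
  haveI : Nontrivial (R ⧸ I) := Ideal.Quotient.nontrivial_iff.2 hI
  have hmemh : ∀ j : Fin h.length, h.get j ∈ I := fun j =>
    hhI ▸ Ideal.subset_span (List.get_mem h j)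
  let v : Fin h.length → I.Cotangent := fun j => I.toCotangent ⟨h.get j, hmemh j⟩
  have hvR : Submodule.span R (Set.range v) = ⊤ := by
    rw [eq_top_iff]
    intro m _
    obtain ⟨y, rfl⟩ := Ideal.toCotangent_surjective I m
    have hy : (y : R) ∈ Ideal.span (Set.range h.get) := by
      rw [range_get_eq]
      change (y : R) ∈ Ideal.ofList h
      rw [hhI]; exact y.2
    obtain ⟨a, ha⟩ := (Ideal.mem_span_range_iff_exists_fun).1 hy
    have hy' : y = ∑ j, a j • (⟨h.get j, hmemh j⟩ : I) := by
      apply Subtype.ext
      rw [← ha, Submodule.coe_sum]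
      rfl
    rw [hy', map_sum]
    refine Submodule.sum_mem _ fun j _ => ?_
    rw [map_smul]
    exact Submodule.smul_mem _ _ (Submodule.subset_span ⟨j, rfl⟩)
  have hv : Submodule.span (R ⧸ I) (Set.range v) = ⊤ := by
    rw [eq_top_iff]
    intro m _
    have : m ∈ Submodule.span R (Set.range v) := by rw [hvR]; trivial
    exact Submodule.span_le_restrictScalars R (R ⧸ I) _ this
  haveI : Module.Finite (R ⧸ I) I.Cotangent := Module.Finite.of_basis b
  have h1 := finrank_le_of_span_eq_top hv
  rw [Module.finrank_eq_card_basis b] at h1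
  simpa using h1

/-- a generating sequence of the same length as a Koszul-regular one is Koszul-regular -/
theorem koszul_of_length_eq {R : Type u} [CommRing R] {I : Ideal R} (g f : List R)
    (hg : LCI.IsKoszulRegularSeq R g) (hgI : Ideal.ofList g = I) (hfI : Ideal.ofList f = I)
    (hlen : f.length = g.length) : LCI.IsKoszulRegularSeq R f := by
  rw [isKoszulRegularSeq_iff] at hg ⊢
  intro j hj
  rcases lt_or_gt_of_ne hj with hneg | hpos
  · have h1 : Subsingleton (KH (f ++ g) R (j - g.length)) :=
      vanish_append R g (fun j hj => hg j hj.ne) f _ (by rw [hlen]; omega)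
    have h2 : Subsingleton (KH (g ++ f) R (j - g.length)) :=
      ModuleCat.subsingleton_of_isZero
        (KoszulPerm.isZero_homology_of_perm (ModuleCat.of R R) List.perm_append_comm _
          (@ModuleCat.isZero_of_subsingleton _ _ _ h1))
    have h3 := peel_append R f g (fun x hx => by
      rw [hfI, ← hgI]; exact Ideal.subset_span hx) _ h2
    have : j - (g.length : ℤ) + (g.length : ℤ) = j := by ring
    rw [this] at h3
    exact h3
  · exact subsingleton_KH_of_pos R f j hpos

end Groth.Agent.Lib.Seat40.KoszulMin
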