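import Groth.Agent.Lib.Seat31KR
import Groth.Agent.Lib.Seat40KoszulMin
import Groth.Agent.Lib.Seat0FTD

/-!
# Seat7: Koszul-regular sequences — units, faithfully flat descent, Zariski-local nature, counting

* `kr_of_span_eq_top`: a list generating the unit ideal is Koszul-regular;
* `kr_of_faithfullyFlat`: Koszul-regularity of a list descends along faithfully flat ring maps;
* `kr_of_span`: Koszul-regularity of a list can be checked on a standard open cover;
* `kr_of_indep`: generators of a proper Koszul-regular ideal that are independent modulo the square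
  of the ideal form a Koszul-regular sequence.
-/

set_option autoImplicit false
universe u

namespace Groth.Agent.Lib.Seat7.KRDescentA

open CategoryTheory CochainComplex MonoidalCategory CohIII
open Groth.Agent.Lib.Helper21 Groth.Agent.Helper13Kz Groth.Agent.Helper13KzLift
open scoped TensorProduct

section Unit

variable {R : Type u} [CommRing R]

/-- a list generating the unit ideal is Koszul-regular (all Koszul homology vanishes). -/
theorem kr_of_span_eq_top (l : List R) (h : Ideal.span {x | x ∈ l} = ⊤) :
    LCI.IsKoszulRegularSeq R l := by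
  rw [isKoszulRegularSeq_iff]
  intro i _
  refine ⟨fun a b => ?_⟩
  have h1 : (1 : R) ∈ Ideal.span {x | x ∈ l} := by rw [h]; trivial
  have ha := smul_KH_eq_zero_of_mem R l 1 h1 i a
  have hb := smul_KH_eq_zero_of_mem R l 1 h1 i b
  rw [one_smul] at ha hb
  rw [ha, hb]

end Unit

section Tensor

variable {B : Type u} [CommRing B] (F : ModuleCat.{u} B)

/-- vanishing of Koszul homology with coefficients in `M ⊗ F` is exactness of the tensored short
complex. -/
theorem isZero_homology_tensor_iff (M : ModuleCat.{u} B) (l : List B) (i : ℤ) :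
    Limits.IsZero ((koszulCx (M ⊗ F) l).homology i) ↔
      (((koszulCx M l).sc i).map (tensorRight F)).Exact := by
  have e := (HomologicalComplex.homologyFunctor _ _ i).mapIso (tensIso F M l)
  constructor
  · intro h
    have h1 : Limits.IsZero ((((tensorRight F).mapHomologicalComplex (ComplexShape.up ℤ)).obj
        (koszulCx M l)).homology i) := Limits.IsZero.of_iso h e
    rw [← HomologicalComplex.exactAt_iff_isZero_homology] at h1
    exact h1
  · intro h
    have h1 : (((tensorRight F).mapHomologicalComplex (ComplexShape.up ℤ)).obj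
        (koszulCx M l)).ExactAt i := h
    rw [HomologicalComplex.exactAt_iff_isZero_homology] at h1
    exact Limits.IsZero.of_iso h1 e.symm

/-- faithfully flat coefficient change reflects vanishing of Koszul homology. -/
theorem isZero_homology_of_tensor_faithfullyFlat [Module.FaithfullyFlat B F] (M : ModuleCat.{u} B)
    (l : List B) (i : ℤ) (h : Limits.IsZero ((koszulCx (M ⊗ F) l).homology i)) :
    Limits.IsZero ((koszulCx M l).homology i) := by
  rw [isZero_homology_tensor_iff] at h
  rw [← HomologicalComplex.exactAt_iff_isZero_homology]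
  change ((koszulCx M l).sc i).Exact
  rw [ShortComplex.ShortExact.moduleCat_exact_iff_function_exact] at h ⊢
  exact Module.FaithfullyFlat.rTensor_reflects_exact B F _ _ h

theorem subsingleton_KH_of_tensor_faithfullyFlat (M N : Type u) [AddCommGroup M] [Module B M]
    [AddCommGroup N] [Module B N] [Module.FaithfullyFlat B N] (l : List B) (i : ℤ)
    (h : Subsingleton (KH l (M ⊗[B] N) i)) : Subsingleton (KH l M i) := by
  have h1 := isZero_homology_of_tensor_faithfullyFlat (ModuleCat.of B N) (ModuleCat.of B M) l i
    (ModuleCat.isZero_of_subsingleton _)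
  exact ModuleCat.subsingleton_of_isZero h1

end Tensor

section Descent

variable {S T : Type u} [CommRing S] [CommRing T] (φ : S →+* T)

/-- Koszul homology of `T` over `S` from Koszul-regularity of the image list. -/
theorem subsingleton_KH_restrict (l : List S) (h : LCI.IsKoszulRegularSeq T (l.map φ)) (i : ℤ)
    (hi : i ≠ 0) :
    letI : Algebra S T := φ.toAlgebra
    Subsingleton (KH l T i) := by
  letI : Algebra S T := φ.toAlgebra
  rw [isKoszulRegularSeq_iff] at h
  have h1 : Limits.IsZero ((koszulCx (ModuleCat.of T T) (l.map φ)).homology i) :=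
    @ModuleCat.isZero_of_subsingleton _ _ _ (h i hi)
  have h2 := isZero_homology_restrict φ (ModuleCat.of T T) l i h1
  exact ModuleCat.subsingleton_of_isZero h2

/-- **Koszul-regularity of a list descends along faithfully flat ring maps.** -/
theorem kr_of_faithfullyFlat (hφ : φ.FaithfullyFlat) (l : List S)
    (h : LCI.IsKoszulRegularSeq T (l.map φ)) : LCI.IsKoszulRegularSeq S l := by
  letI : Algebra S T := φ.toAlgebra
  haveI : Module.FaithfullyFlat S T := hφ
  rw [isKoszulRegularSeq_iff]
  intro i hi
  have h1 : Subsingleton (KH l T i) := subsingleton_KH_restrict φ l h i hi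
  have h2 : Subsingleton (KH l (S ⊗[S] T) i) :=
    subsingleton_KH_of_equiv l (TensorProduct.lid S T).symm i h1
  exact subsingleton_KH_of_tensor_faithfullyFlat S T l i h2

/-- the same with an `Algebra` instance. -/
theorem subsingleton_KH_algebra [Algebra S T] (l : List S)
    (h : LCI.IsKoszulRegularSeq T (l.map (algebraMap S T))) (i : ℤ) (hi : i ≠ 0) :
    Subsingleton (KH l T i) := by
  rw [isKoszulRegularSeq_iff] at h
  have h1 : Limits.IsZero ((koszulCx (ModuleCat.of T T) (l.map (algebraMap S T))).homology i) :=
    @ModuleCat.isZero_of_subsingleton _ _ _ (h i hi)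
  have h2 := isZero_homology_restrict (algebraMap S T) (ModuleCat.of T T) l i h1
  let e : ((ModuleCat.restrictScalars (algebraMap S T)).obj (ModuleCat.of T T)) ≃ₗ[S] T :=
    { toFun := fun x => x
      invFun := fun x => x
      left_inv := fun _ => rfl
      right_inv := fun _ => rfl
      map_add' := fun _ _ => rfl
      map_smul' := fun a x => (Algebra.smul_def (A := T) a x).symm }
  have h3 : Subsingleton (KH l ((ModuleCat.restrictScalars (algebraMap S T)).obj
      (ModuleCat.of T T)) i) := ModuleCat.subsingleton_of_isZero h2
  exact subsingleton_KH_of_equiv l e i h3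

end Descent

section Local

variable {C : Type u} [CommRing C]

/-- **Koszul-regularity of a list can be checked on a standard open cover.** -/
theorem kr_of_span (l : List C) (s : Set C) (hs : Ideal.span s = ⊤)
    (H : ∀ h ∈ s, LCI.IsKoszulRegularSeq (Localization.Away h)
      (l.map (algebraMap C (Localization.Away h)))) :
    LCI.IsKoszulRegularSeq C l := by
  rw [isKoszulRegularSeq_iff]
  intro i hi
  apply ModuleCat.subsingleton_of_isZero
  rw [← HomologicalComplex.exactAt_iff_isZero_homology]
  change ((koszulCx (ModuleCat.of C C) l).sc i).Exact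
  rw [ShortComplex.ShortExact.moduleCat_exact_iff_function_exact]
  apply Module.FaithfullyFlat.lTensor_reflects_exact C C
  refine Groth.Agent.Lib.Seat0.FTD.exact_lTensor_of_span _ _ s hs (fun r => ?_)
  rw [← LinearMap.rTensor_exact_iff_lTensor_exact]
  have h1 : Subsingleton (KH l (Localization.Away (r : C)) i) :=
    subsingleton_KH_algebra l (H r r.2) i hi
  have h2 : Subsingleton (KH l (C ⊗[C] Localization.Away (r : C)) i) :=
    subsingleton_KH_of_equiv l (TensorProduct.lid C _).symm i h1
  have h3 : Limits.IsZero ((koszulCx (ModuleCat.of C C ⊗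
      ModuleCat.of C (Localization.Away (r : C))) l).homology i) :=
    @ModuleCat.isZero_of_subsingleton _ _ _ h2
  rw [isZero_homology_tensor_iff, ShortComplex.ShortExact.moduleCat_exact_iff_function_exact] at h3
  exact h3

/-- prime version: around every prime there is a basic open on which the list is
Koszul-regular. -/
theorem kr_of_forall_prime (l : List C)
    (H : ∀ Q : Ideal C, Q.IsPrime → ∃ h : C, h ∉ Q ∧
      LCI.IsKoszulRegularSeq (Localization.Away h) (l.map (algebraMap C (Localization.Away h)))) :
    LCI.IsKoszulRegularSeq C l := by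
  let s : Set C := {h | LCI.IsKoszulRegularSeq (Localization.Away h)
      (l.map (algebraMap C (Localization.Away h)))}
  refine kr_of_span l s ?_ (fun h hh => hh)
  by_contra hne
  obtain ⟨Q, hQ, hle⟩ := Ideal.exists_le_maximal _ hne
  obtain ⟨h, hhQ, hh⟩ := H Q hQ.isPrime
  exact hhQ (hle (Ideal.subset_span hh))

end Local

section Count

variable {R : Type u} [CommRing R]

theorem span_mem_ofFn {r : ℕ} (x : Fin r → R) :
    Ideal.span {a | a ∈ List.ofFn x} = Ideal.span (Set.range x) := by
  congr 1
  ext y
  simp [List.mem_ofFn]

/-- **Counting**: if a proper ideal `J` is generated by a Koszul-regular sequence, then any system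
of generators of `J` which is independent modulo `J²` is a Koszul-regular sequence. -/
theorem kr_of_indep {J : Ideal R} (hJ : J ≠ ⊤) (l : List R) (hl : LCI.IsKoszulRegularSeq R l)
    (hlJ : Ideal.span {a | a ∈ l} = J) {r : ℕ} (x : Fin r → R)
    (hx : Ideal.span (Set.range x) = J)
    (hind : ∀ c : Fin r → R, ∑ i, c i * x i ∈ J ^ 2 → ∀ i, c i ∈ J) :
    LCI.IsKoszulRegularSeq R (List.ofFn x) := by
  classical
  have hofFn : Ideal.ofList (List.ofFn x) = J := by
    rw [← hx]
    exact span_mem_ofFn x
  have h1 : l.length ≤ r := by
    have := Groth.Agent.Lib.Seat40.KoszulMin.length_le_of_koszul hJ l hl hlJ (List.ofFn x) hofFn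
    simpa using this
  have hmeml : ∀ i : Fin l.length, l.get i ∈ J := fun i =>
    hlJ ▸ Ideal.subset_span (List.get_mem l i)
  obtain ⟨b, -⟩ := Groth.Agent.S18939.result hJ l.length (fun i => ⟨l.get i, hmeml i⟩)
    (by simpa [List.ofFn_get] using hl) (by
      change Ideal.span (Set.range l.get) = J
      rw [Groth.Agent.Lib.Seat40.KoszulMin.range_get_eq]; exact hlJ)
  have hmemx : ∀ i, x i ∈ J := fun i => hx ▸ Ideal.subset_span ⟨i, rfl⟩
  let v : Fin r → J.Cotangent := fun i => J.toCotangent ⟨x i, hmemx i⟩
  have hli : LinearIndependent (R ⧸ J) v := by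
    rw [Fintype.linearIndependent_iff]
    intro c hc i
    choose c' hc' using fun i => Ideal.Quotient.mk_surjective (c i)
    have h0 : J.toCotangent (∑ i, c' i • (⟨x i, hmemx i⟩ : J)) = 0 := by
      rw [map_sum, ← hc]
      refine Finset.sum_congr rfl fun i _ => ?_
      rw [map_smul, ← hc' i, ← Ideal.Quotient.algebraMap_eq, algebraMap_smul]
    rw [Ideal.toCotangent_eq_zero] at h0
    have h2 := hind c' (by
      convert h0 using 1
      rw [Submodule.coe_sum]
      rfl) i
    rw [← hc' i]
    exact Ideal.Quotient.eq_zero_iff_mem.2 h2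
  have h2 : r ≤ l.length := by
    haveI : Nontrivial (R ⧸ J) := Ideal.Quotient.nontrivial_iff.2 hJ
    have := linearIndependent_le_basis b v hli
    simpa using this
  refine Groth.Agent.Lib.Seat31.KR.kr_of_span_eq l (List.ofFn x) hl (by simp; omega) ?_ ?_
  · intro y hy
    rw [hlJ, ← hofFn]
    exact Ideal.subset_span hy
  · intro y hy
    change y ∈ Ideal.ofList (List.ofFn x)
    rw [hofFn, ← hlJ]
    exact Ideal.subset_span hy

end Count

end Groth.Agent.Lib.Seat7.KRDescentA
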