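import Mathlib
import Groth.Agent.Lib.Seat56RelGCI4
import Groth.Agent.Lib.Seat7KRDescentA
import Groth.Agent.Lib.Helper13KzTor

/-!
# Relative global complete intersections: Koszul regularity (helper56)

* `exact_of_lTensor_atPrime_maximal`: exactness can be tested after tensoring with the local rings at
  maximal ideals.
* `kr_of_isWeaklyRegular`: weakly regular sequences are Koszul-regular.
* `kr_of_forall_maximal`: Koszul-regularity of a list can be tested in the local rings at maximal ideals.
* `isKoszulRegularSeq_of_isRelGCI`.
-/

set_option autoImplicit false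
set_option linter.style.haveILetI false

universe u

namespace Groth.Agent.Lib.Seat56.RelGCI

open CategoryTheory CochainComplex MonoidalCategory CohIII
open Groth.Agent.Lib.Helper21 Groth.Agent.Helper13Kz Groth.Agent.Helper13KzLift
open Groth.Agent.Lib.Seat7.KRDescentA
open scoped TensorProduct

section Exact

variable {C : Type u} [CommRing C]

/-- Exactness can be tested after tensoring with the local rings at maximal ideals. -/
theorem exact_of_lTensor_atPrime_maximal {P2 P1 P0 : Type u} [AddCommGroup P2] [Module C P2]
    [AddCommGroup P1] [Module C P1] [AddCommGroup P0] [Module C P0]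
    (f : P2 →ₗ[C] P1) (g : P1 →ₗ[C] P0)
    (H : ∀ (m : Ideal C) [m.IsMaximal], Function.Exact (f.lTensor (Localization.AtPrime m))
      (g.lTensor (Localization.AtPrime m))) :
    Function.Exact f g := by
  refine exact_of_isLocalized_maximal
    (fun m _ => Localization.AtPrime m ⊗[C] P2)
    (fun m _ => TensorProduct.mk C (Localization.AtPrime m) P2 1)
    (fun m _ => Localization.AtPrime m ⊗[C] P1)
    (fun m _ => TensorProduct.mk C (Localization.AtPrime m) P1 1)
    (fun m _ => Localization.AtPrime m ⊗[C] P0)
    (fun m _ => TensorProduct.mk C (Localization.AtPrime m) P0 1) f g (fun m hm => ?_)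
  have e1 : IsLocalizedModule.map m.primeCompl (TensorProduct.mk C (Localization.AtPrime m) P2 1)
      (TensorProduct.mk C (Localization.AtPrime m) P1 1) f =
        f.lTensor (Localization.AtPrime m) := by
    refine IsLocalizedModule.linearMap_ext m.primeCompl
      (TensorProduct.mk C (Localization.AtPrime m) P2 1)
      (TensorProduct.mk C (Localization.AtPrime m) P1 1) ?_
    rw [IsLocalizedModule.map_comp]
    ext p
    simp
  have e2 : IsLocalizedModule.map m.primeCompl (TensorProduct.mk C (Localization.AtPrime m) P1 1)
      (TensorProduct.mk C (Localization.AtPrime m) P0 1) g =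
        g.lTensor (Localization.AtPrime m) := by
    refine IsLocalizedModule.linearMap_ext m.primeCompl
      (TensorProduct.mk C (Localization.AtPrime m) P1 1)
      (TensorProduct.mk C (Localization.AtPrime m) P0 1) ?_
    rw [IsLocalizedModule.map_comp]
    ext p
    simp
  rw [e1, e2]
  exact H m

end Exact

section KR

/-- Weakly regular sequences are Koszul-regular. -/
theorem kr_of_isWeaklyRegular (A : Type u) [CommRing A] (l : List A)
    (hl : RingTheory.Sequence.IsWeaklyRegular A l) : LCI.IsKoszulRegularSeq A l := by
  rw [isKoszulRegularSeq_iff]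
  intro i hi
  rcases lt_or_gt_of_ne hi with h | h
  · obtain ⟨k, rfl⟩ : ∃ k : ℕ, i = -((k + 1 : ℕ) : ℤ) := ⟨(-i - 1).toNat, by omega⟩
    obtain ⟨e⟩ := nonempty_tor_iso_KH l hl (ModuleCat.of A A) (k + 1)
    have hz : Limits.IsZero (((Tor (ModuleCat.{u} A) (k + 1)).obj
        (ModuleCat.of A (A ⧸ Ideal.ofList l))).obj (ModuleCat.of A A)) :=
      isZero_Tor_succ_of_projective _ _ _ k
    exact ModuleCat.subsingleton_of_isZero (hz.of_iso e.symm)
  · exact subsingleton_KH_of_pos A l i h

variable {C : Type u} [CommRing C]

/-- Koszul-regularity of a list can be tested in the local rings at maximal ideals. -/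
theorem kr_of_forall_maximal (l : List C)
    (H : ∀ (m : Ideal C) [m.IsMaximal], LCI.IsKoszulRegularSeq (Localization.AtPrime m)
      (l.map (algebraMap C (Localization.AtPrime m)))) :
    LCI.IsKoszulRegularSeq C l := by
  rw [isKoszulRegularSeq_iff]
  intro i hi
  apply ModuleCat.subsingleton_of_isZero
  rw [← HomologicalComplex.exactAt_iff_isZero_homology]
  change ((koszulCx (ModuleCat.of C C) l).sc i).Exact
  rw [ShortComplex.ShortExact.moduleCat_exact_iff_function_exact]
  refine exact_of_lTensor_atPrime_maximal _ _ (fun m hm => ?_)
  rw [← LinearMap.rTensor_exact_iff_lTensor_exact]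
  have h1 : Subsingleton (KH l (Localization.AtPrime m) i) :=
    subsingleton_KH_algebra l (H m) i hi
  have h2 : Subsingleton (KH l (C ⊗[C] Localization.AtPrime m) i) :=
    subsingleton_KH_of_equiv l (TensorProduct.lid C _).symm i h1
  have h3 : Limits.IsZero ((koszulCx (ModuleCat.of C C ⊗
      ModuleCat.of C (Localization.AtPrime m)) l).homology i) :=
    @ModuleCat.isZero_of_subsingleton _ _ _ h2
  rw [isZero_homology_tensor_iff, ShortComplex.ShortExact.moduleCat_exact_iff_function_exact] at h3
  exact h3

end KR

section Main

variable {R : Type u} [CommRing R] {n c : ℕ} {F : Fin c → MvPolynomial (Fin n) R}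

/-- The equations of a relative global complete intersection form a Koszul-regular sequence. -/
theorem isKoszulRegularSeq_of_isRelGCI (h : Synt.IsRelGCI R n c F) :
    LCI.IsKoszulRegularSeq (MvPolynomial (Fin n) R) (List.ofFn F) := by
  apply kr_of_forall_maximal
  intro m hm
  haveI : m.IsPrime := hm.isPrime
  by_cases hle : Ideal.span (Set.range F) ≤ m
  · obtain ⟨hreg, -⟩ := isRegular_and_flat_of_isRelGCI h m hle
    exact kr_of_isWeaklyRegular _ _ hreg.toIsWeaklyRegular
  · obtain ⟨x, hxI, hxm⟩ := SetLike.not_le_iff_exists.mp hle
    apply kr_of_span_eq_top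
    have hu : IsUnit (algebraMap (MvPolynomial (Fin n) R) (Localization.AtPrime m) x) :=
      IsLocalization.map_units (Localization.AtPrime m) (⟨x, hxm⟩ : m.primeCompl)
    have hmem : algebraMap (MvPolynomial (Fin n) R) (Localization.AtPrime m) x ∈
        Ideal.span {y | y ∈ (List.ofFn F).map
          (algebraMap (MvPolynomial (Fin n) R) (Localization.AtPrime m))} := by
      have h1 : Ideal.span {y | y ∈ (List.ofFn F).map
          (algebraMap (MvPolynomial (Fin n) R) (Localization.AtPrime m))} =
          (Ideal.span (Set.range F)).map
            (algebraMap (MvPolynomial (Fin n) R) (Localization.AtPrime m)) := by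
        rw [Ideal.map_span]
        congr 1
        ext y
        simp [List.mem_ofFn]
      rw [h1]
      exact Ideal.mem_map_of_mem _ hxI
    exact Ideal.eq_top_of_isUnit_mem _ hmem hu

end Main

end Groth.Agent.Lib.Seat56.RelGCI
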