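import Mathlib
import Groth.Agent.S5803
import Groth.Agent.Lib.Seat40RegSeqFlat

/-!
# Fibre dictionary (Seat 7)

Translating regularity on the local ring of the fibre ring `B ⊗[A] κ(p)` at a prime `Q` over `q`
into regularity on the `B`-module `LocalizedModule q.primeCompl (B ⊗[A] κ(p))`
(the form used by helper56's `Seat56FibReg` / `S2586`).
-/

set_option autoImplicit false

universe u

namespace Groth.Agent.Lib.Seat7.FibDict

open TensorProduct RingTheory.Sequence

section Abstract

variable {B T : Type*} [CommRing B] [CommRing T] [Algebra B T]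

/-- If every element of `T` is, up to a unit, in the image of `B`, then the local ring of `T`
at a prime `Q` is the localization of `T` at the image of the complement of `Q ∩ B`. -/
theorem isLocalization_atPrime_of_exists_unit_mul
    (H : ∀ t : T, ∃ u : T, IsUnit u ∧ ∃ b : B, u * t = algebraMap B T b)
    (Q : Ideal T) [Q.IsPrime] (q : Ideal B) [q.IsPrime] (hQ : Q.comap (algebraMap B T) = q) :
    IsLocalization (Algebra.algebraMapSubmonoid T q.primeCompl) (Localization.AtPrime Q) := by
  set M := Algebra.algebraMapSubmonoid T q.primeCompl with hM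
  have h₁ : M ≤ Q.primeCompl := by
    rintro _ ⟨b, hb, rfl⟩
    intro hbQ
    apply hb
    rw [← hQ]
    exact hbQ
  have h₂ : ∀ n ∈ Q.primeCompl, ∃ m ∈ M, n ∣ m := by
    intro n hn
    obtain ⟨u, hu, b, hb⟩ := H n
    refine ⟨algebraMap B T b, ⟨b, ?_, rfl⟩, ⟨u, by rw [← hb, mul_comm]⟩⟩
    intro hbq
    rw [← hQ] at hbq
    have h1 : u * n ∈ Q := by rw [hb]; exact hbq
    rcases (Ideal.IsPrime.mem_or_mem inferInstance h1) with h | h
    · exact (Ideal.IsPrime.ne_top inferInstance) (Ideal.eq_top_of_isUnit_mem _ h hu)
    · exact hn h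
  haveI : IsLocalization Q.primeCompl (Localization M) :=
    IsLocalization.of_le_of_exists_dvd M Q.primeCompl h₁ h₂
  let e : Localization M ≃ₐ[T] Localization.AtPrime Q :=
    IsLocalization.algEquiv Q.primeCompl (Localization M) (Localization.AtPrime Q)
  exact IsLocalization.isLocalization_of_algEquiv M e

end Abstract

section Fibre

variable {A B : Type u} [CommRing A] [CommRing B] [Algebra A B]

/-- every element of the fibre ring is, up to a unit, in the image of `B`. -/
theorem exists_unit_mul_eq (p : Ideal A) [p.IsPrime] (t : B ⊗[A] p.ResidueField) :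
    ∃ u : B ⊗[A] p.ResidueField, IsUnit u ∧
      ∃ b : B, u * t = algebraMap B (B ⊗[A] p.ResidueField) b := by
  obtain ⟨r, hr, s, e⟩ := Ideal.ResidueField.exists_smul_eq_tmul_one p t
  refine ⟨algebraMap A _ r, ?_, s, ?_⟩
  · have h1 : algebraMap A (B ⊗[A] p.ResidueField) r
        = Algebra.TensorProduct.includeRight (algebraMap A p.ResidueField r) := by
      rw [Algebra.TensorProduct.includeRight.commutes]
    rw [h1]
    apply IsUnit.map
    rw [isUnit_iff_ne_zero, Ne, Ideal.algebraMap_residueField_eq_zero]
    exact hr
  · rw [← Algebra.smul_def, e]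
    rfl

/-- the prime of the fibre ring `B ⊗[A] κ(p)` corresponding to a prime `q` over `p`. -/
theorem exists_fibre_prime (q : Ideal B) [q.IsPrime] :
    ∃ Q : Ideal (B ⊗[A] (q.comap (algebraMap A B)).ResidueField), Q.IsPrime ∧
      Q.comap (algebraMap B (B ⊗[A] (q.comap (algebraMap A B)).ResidueField)) = q := by
  set p := q.comap (algebraMap A B) with hp
  let ψ : B ⊗[A] p.ResidueField →ₐ[A] q.ResidueField :=
    Algebra.TensorProduct.lift (IsScalarTower.toAlgHom A B q.ResidueField)
      (Ideal.ResidueField.mapₐ p q (Algebra.ofId A B) rfl) (fun _ _ => Commute.all _ _)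
  refine ⟨RingHom.ker ψ.toRingHom, RingHom.ker_isPrime _, ?_⟩
  ext b
  rw [Ideal.mem_comap, RingHom.mem_ker]
  have : ψ.toRingHom (algebraMap B (B ⊗[A] p.ResidueField) b) = algebraMap B q.ResidueField b := by
    change ψ (b ⊗ₜ 1) = _
    simp [ψ]
  rw [this, Ideal.algebraMap_residueField_eq_zero]

/-- **Fibre dictionary**: weak regularity of the images of `g` in the local ring of the fibre
ring at `Q` gives regularity on the localized fibre module (as a `B`-module). -/
theorem isRegular_localizedModule_fibre (q : Ideal B) [q.IsPrime] (g : List B)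
    (hg : ∀ b ∈ g, b ∈ q)
    (Q : Ideal (B ⊗[A] (q.comap (algebraMap A B)).ResidueField)) [Q.IsPrime]
    (hQ : Q.comap (algebraMap B (B ⊗[A] (q.comap (algebraMap A B)).ResidueField)) = q)
    (h : IsWeaklyRegular (Localization.AtPrime Q)
      (g.map (algebraMap B (Localization.AtPrime Q)))) :
    IsRegular (LocalizedModule q.primeCompl (B ⊗[A] (q.comap (algebraMap A B)).ResidueField)) g := by
  set p := q.comap (algebraMap A B) with hp
  set T := B ⊗[A] p.ResidueField with hT
  haveI : IsLocalization (Algebra.algebraMapSubmonoid T q.primeCompl) (Localization.AtPrime Q) :=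
    isLocalization_atPrime_of_exists_unit_mul (exists_unit_mul_eq p) Q q hQ
  haveI : IsLocalizedModule q.primeCompl
      (IsScalarTower.toAlgHom B T (Localization.AtPrime Q)).toLinearMap :=
    isLocalizedModule_iff_isLocalization.mpr inferInstance
  let e : LocalizedModule q.primeCompl T ≃ₗ[B] Localization.AtPrime Q :=
    IsLocalizedModule.iso q.primeCompl
      (IsScalarTower.toAlgHom B T (Localization.AtPrime Q)).toLinearMap
  rw [e.isRegular_congr]
  refine ⟨(isWeaklyRegular_map_algebraMap_iff (Localization.AtPrime Q)
    (Localization.AtPrime Q) g).mp h, ?_⟩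
  intro htop
  have h1 : (1 : Localization.AtPrime Q) ∈
      (Ideal.ofList g • (⊤ : Submodule B (Localization.AtPrime Q))) := by
    rw [← htop]; trivial
  have h2 : ∀ x ∈ (Ideal.ofList g • (⊤ : Submodule B (Localization.AtPrime Q))),
      x ∈ IsLocalRing.maximalIdeal (Localization.AtPrime Q) := by
    intro x hx
    refine Submodule.smul_induction_on hx ?_ ?_
    · intro r hr n _
      rw [← algebraMap_smul (Localization.AtPrime Q) r n, smul_eq_mul]
      apply Ideal.mul_mem_right
      have hrq : r ∈ q := by
        have : Ideal.ofList g ≤ q := Ideal.span_le.mpr (fun b hb => hg b hb)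
        exact this hr
      rw [IsScalarTower.algebraMap_apply B T (Localization.AtPrime Q),
        IsLocalization.AtPrime.to_map_mem_maximal_iff (Localization.AtPrime Q) Q]
      rw [← hQ] at hrq
      exact hrq
    · intro x y hx hy
      exact Ideal.add_mem _ hx hy
  exact (IsLocalRing.maximalIdeal.isMaximal _).ne_top
    ((Ideal.eq_top_iff_one _).mpr (h2 1 h1))

/-- the fibre ring of a finite type algebra is Noetherian. -/
theorem isNoetherianRing_fibre [Algebra.FiniteType A B] (p : Ideal A) [p.IsPrime] :
    IsNoetherianRing (B ⊗[A] p.ResidueField) := by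
  haveI : Algebra.FiniteType p.ResidueField (p.ResidueField ⊗[A] B) := inferInstance
  haveI : IsNoetherianRing (p.ResidueField ⊗[A] B) :=
    Algebra.FiniteType.isNoetherianRing p.ResidueField _
  exact isNoetherianRing_of_ringEquiv _
    (Algebra.TensorProduct.comm A p.ResidueField B).toRingEquiv

/-- **Quasi-regular on the fibre ring ⇒ regular on the localized fibre module.** -/
theorem isRegular_fibre_of_isQuasiRegular [Algebra.FiniteType A B] (q : Ideal B) [q.IsPrime]
    {r : ℕ} (f : Fin r → B) (hf : ∀ i, f i ∈ q)
    (hq : CAlgX.IsQuasiRegular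
      (fun i => (f i ⊗ₜ[A] (1 : (q.comap (algebraMap A B)).ResidueField)))) :
    IsRegular (LocalizedModule q.primeCompl (B ⊗[A] (q.comap (algebraMap A B)).ResidueField))
      (List.ofFn f) := by
  set p := q.comap (algebraMap A B) with hp
  set T := B ⊗[A] p.ResidueField with hT
  obtain ⟨Q, hQp, hQ⟩ := exists_fibre_prime (A := A) q
  haveI := hQp
  haveI : IsNoetherianRing T := isNoetherianRing_fibre p
  haveI : IsNoetherianRing (Localization.AtPrime Q) :=
    IsLocalization.isNoetherianRing Q.primeCompl _ inferInstance
  refine isRegular_localizedModule_fibre q (List.ofFn f) ?_ Q hQ ?_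
  · intro b hb
    obtain ⟨i, rfl⟩ := (List.mem_ofFn' f b).mp hb
    exact hf i
  · have hflat : (algebraMap T (Localization.AtPrime Q)).Flat :=
      (RingHom.flat_algebraMap_iff).mpr (IsLocalization.flat _ Q.primeCompl)
    have h1 := Groth.Agent.Lib.Seat40.RegSeqFlat.quasi_of_flat_fun
      (algebraMap T (Localization.AtPrime Q)) hflat _ hq
    have h2 := Groth.Agent.S5803.result (Localization.AtPrime Q) r _ ?_ h1
    · rw [List.map_ofFn]
      exact h2
    · intro i
      rw [IsLocalRing.ringJacobson_eq_maximalIdeal,
        IsLocalization.AtPrime.to_map_mem_maximal_iff (Localization.AtPrime Q) Q]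
      have : f i ∈ Q.comap (algebraMap B T) := by rw [hQ]; exact hf i
      exact this

end Fibre

end Groth.Agent.Lib.Seat7.FibDict
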