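import Mathlib
import Groth.Agent.Lib.Seat56FibReg6
import Groth.Agent.Lib.Seat22KerFP

/-!
# Uniform spreading out of fibrewise regular sequences (Seat 7)

`A → B` of finite presentation, `M` a finitely presented `B`-module, `q` a prime of `B` with `M_q`
flat over `A`, `g` a sequence in `B` weakly regular on the localized fibre `(M ⊗ κ(p))_q`.
Then there is `h ∉ q` such that `g` is weakly regular on `M_T` with `A`-flat partial quotients for
every submonoid `T` inverting `h` (e.g. `T = powers h`).
-/

set_option autoImplicit false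
set_option linter.style.haveILetI false

universe u

namespace Groth.Agent.Lib.Seat7.Spread

open TensorProduct Groth.Agent.Lib.Helper3.FlatLoc Groth.Agent.Lib.Helper3.FlatOpen
  Groth.Agent.Lib.Seat56.FibReg Groth.Agent.Lib.Helper28
open scoped Pointwise

section Mono

variable {A B : Type*} [CommRing A] [CommRing B] [Algebra A B]
  (M : Type*) [AddCommGroup M] [Module B M] [Module A M] [IsScalarTower A B M]

/-- `T` inverts `h`. -/
def Inverts (h : B) (T : Submonoid B) : Prop := ∃ t ∈ T, h ∣ t

theorem inverts_powers (h : B) : Inverts h (Submonoid.powers h) :=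
  ⟨h, Submonoid.mem_powers h, dvd_rfl⟩

theorem inverts_primeCompl {h : B} (q : Ideal B) [q.IsPrime] (hq : h ∉ q) :
    Inverts h q.primeCompl := ⟨h, hq, dvd_rfl⟩

theorem Inverts.of_dvd {h h' : B} {T : Submonoid B} (hT : Inverts h' T) (hd : h ∣ h') :
    Inverts h T := by
  obtain ⟨t, ht, hdt⟩ := hT
  exact ⟨t, ht, hd.trans hdt⟩

theorem Inverts.exists_pow {h : B} {T : Submonoid B} (hT : Inverts h T) (n : ℕ) :
    ∃ t ∈ T, h ^ n ∣ t := by
  obtain ⟨t, ht, hdt⟩ := hT
  exact ⟨t ^ n, T.pow_mem ht n, pow_dvd_pow_of_dvd hdt n⟩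

variable {M}

/-- torsion with respect to `powers h` is torsion with respect to any `T` inverting `h`. -/
theorem Inverts.exists_smul_eq_zero {h : B} {T : Submonoid B} (hT : Inverts h T)
    {X : Type*} [AddCommGroup X] [Module B X] {x : X}
    (hx : ∃ s ∈ Submonoid.powers h, s • x = 0) : ∃ s ∈ T, s • x = 0 := by
  obtain ⟨s, ⟨n, rfl⟩, hs⟩ := hx
  obtain ⟨t, ht, c, rfl⟩ := hT.exists_pow n
  exact ⟨h ^ n * c, ht, by rw [mul_comm, mul_smul, hs, smul_zero]⟩

variable (M)

theorem flat_of_inverts {h : B} {T : Submonoid B} (hT : Inverts h T)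
    (hfl : Module.Flat A (LocalizedModule (Submonoid.powers h) M)) :
    Module.Flat A (LocalizedModule T M) := by
  rw [flat_localizedModule_iff' (R := A) (S := B)] at hfl ⊢
  intro I z hz
  exact hT.exists_smul_eq_zero (hfl I z hz)

theorem isSMulRegular_of_inverts {h : B} {T : Submonoid B} (hT : Inverts h T) (a : B)
    (hreg : ∀ x : M, a • x = 0 → ∃ s ∈ Submonoid.powers h, s • x = 0) :
    IsSMulRegular (LocalizedModule T M) a := by
  rw [isSMulRegular_isLocalizedModule_iff T (LocalizedModule.mkLinearMap T M) a]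
  intro x hx
  exact hT.exists_smul_eq_zero (hreg x hx)

end Mono

section FlatAway

variable {A B : Type u} [CommRing A] [CommRing B] [Algebra A B] [Algebra.FinitePresentation A B]
  (M : Type u) [AddCommGroup M] [Module B M] [Module A M] [IsScalarTower A B M]
  [Module.FinitePresentation B M]

/-- flatness at `q` spreads to a basic open neighbourhood. -/
theorem exists_flat_away (q : Ideal B) [q.IsPrime]
    (hflat : Module.Flat A (LocalizedModule q.primeCompl M)) :
    ∃ h ∉ q, Module.Flat A (LocalizedModule (Submonoid.powers h) M) := by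
  classical
  have hopen := isOpen_flatLocus_of_finitePresentation (R := A) (S := B) (M := M)
  obtain ⟨h₁, hh₁, hUt⟩ : ∃ h₁ : B, h₁ ∉ q ∧ ∀ (q' : Ideal B) [q'.IsPrime], h₁ ∉ q' →
      Module.Flat A (LocalizedModule q'.primeCompl M) := by
    obtain ⟨U, ⟨r, rfl⟩, hqU, hUsub⟩ :=
      PrimeSpectrum.isTopologicalBasis_basic_opens.exists_subset_of_mem_open
        (a := (⟨q, inferInstance⟩ : PrimeSpectrum B)) hflat hopen
    exact ⟨r, hqU, fun q' hq' hr => hUsub (show (⟨q', hq'⟩ : PrimeSpectrum B) ∈ _ from hr)⟩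
  refine ⟨h₁, hh₁, ?_⟩
  set T := Submonoid.powers h₁ with hT
  rw [flat_localizedModule_iff' (R := A) (S := B)]
  intro I w hw
  by_contra hcon
  push Not at hcon
  have hdisj : Disjoint ((Ideal.torsionOf B (M ⊗[A] I) w : Ideal B) : Set B) (T : Set B) := by
    rw [Set.disjoint_left]
    intro x hx hxT
    exact hcon x hxT ((Ideal.mem_torsionOf_iff _ _).mp hx)
  obtain ⟨q', hq'prime, hle, hq'disj⟩ := Ideal.exists_le_prime_disjoint _ _ hdisj
  have hhq' : h₁ ∉ q' := fun hm =>
    Set.disjoint_left.mp hq'disj hm (Submonoid.mem_powers _)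
  have hfl := hUt q' hhq'
  rw [flat_localizedModule_iff' (R := A) (S := B)] at hfl
  obtain ⟨s, hs, hsz⟩ := hfl I w hw
  exact hs (hle ((Ideal.mem_torsionOf_iff _ _).mpr hsz))

end FlatAway



section
variable {A B : Type u} [CommRing A] [CommRing B] [Algebra A B] [Algebra.FinitePresentation A B]
  (M : Type u) [AddCommGroup M] [Module B M] [Module A M] [IsScalarTower A B M]
  [Module.FinitePresentation B M]

/-- the localized multiplication map -/
theorem map_lsmul_apply (S : Submonoid B) (a : B) (x : LocalizedModule S M) :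
    LocalizedModule.map S (LinearMap.lsmul B M a) x = a • x := by
  induction x using LocalizedModule.induction_on with
  | h m s =>
    rw [LocalizedModule.map_mk, LinearMap.lsmul_apply, LocalizedModule.smul'_mk]

/-- **Kernel of `a` on `M_h` is finitely generated** when `(M/aM)_h` is `A`-flat. -/
theorem fg_ker_map_lsmul (a h₀ : B)
    (hfl : Module.Flat A (LocalizedModule (Submonoid.powers h₀) (QuotSMulTop a M))) :
    (LinearMap.ker (LocalizedModule.map (Submonoid.powers h₀) (LinearMap.lsmul B M a))).FG := by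
  set S := Submonoid.powers h₀ with hS
  set B₀ := Localization S with hB₀
  set G := LocalizedModule S M with hG
  set H := LocalizedModule S (QuotSMulTop a M) with hH
  haveI : Module.FinitePresentation B (QuotSMulTop a M) := finitePresentation_quotSMulTop a M
  let φ : G →ₗ[B₀] G := LocalizedModule.map S (LinearMap.lsmul B M a)
  let p : G →ₗ[B₀] H := LocalizedModule.map S (Submodule.mkQ (a • (⊤ : Submodule B M)))
  have hp : Function.Surjective p :=
    LocalizedModule.map_surjective S _ (Submodule.mkQ_surjective _)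
  have hex0 : Function.Exact (LinearMap.lsmul B M a) (Submodule.mkQ (a • (⊤ : Submodule B M))) := by
    intro m
    rw [Submodule.mkQ_apply, Submodule.Quotient.mk_eq_zero,
      Submodule.mem_smul_pointwise_iff_exists]
    constructor
    · rintro ⟨m₀, -, h⟩
      exact ⟨m₀, h⟩
    · rintro ⟨m₀, h⟩
      exact ⟨m₀, Submodule.mem_top, h⟩
  have hex : Function.Exact φ p := LocalizedModule.map_exact S _ _ hex0
  haveI : Module.FinitePresentation B₀ (LinearMap.ker p) :=
    Groth.Agent.Lib.Seat22.KerFP.finitePresentation_ker A B₀ H p hp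
  have hrange : LinearMap.range φ = LinearMap.ker p := hex.linearMap_ker_eq.symm
  let e : LinearMap.range φ ≃ₗ[B₀] LinearMap.ker p := LinearEquiv.ofEq _ _ hrange
  haveI : Module.FinitePresentation B₀ (LinearMap.range φ) :=
    Module.finitePresentation_of_surjective e.symm.toLinearMap e.symm.surjective (by
      rw [LinearEquiv.ker]; exact Submodule.fg_bot)
  have := Module.FinitePresentation.fg_ker φ.rangeRestrict φ.surjective_rangeRestrict
  rwa [LinearMap.ker_rangeRestrict] at this

end



theorem exists_forall_smul_eq_zero_of_fg {B B₀ G : Type*} [CommRing B] [CommRing B₀]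
    [AddCommGroup G] [Module B G] [Module B₀ G] [SMulCommClass B B₀ G]
    (N : Submodule B₀ G) (hN : N.FG) (T : Submonoid B)
    (h : ∀ x ∈ N, ∃ s ∈ T, s • x = 0) : ∃ s ∈ T, ∀ x ∈ N, s • x = 0 := by
  classical
  obtain ⟨gens, hgens⟩ := hN
  have hgen : ∀ k ∈ gens, ∃ s ∈ T, s • k = 0 := fun k hk =>
    h k (hgens ▸ Submodule.subset_span hk)
  choose! σ hσT hσ using hgen
  refine ⟨∏ k ∈ gens, σ k, T.prod_mem fun k hk => hσT k hk, ?_⟩
  intro y hy
  rw [← hgens] at hy
  induction hy using Submodule.span_induction with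
  | mem k hk =>
    rw [← Finset.mul_prod_erase gens σ hk, mul_comm, mul_smul, hσ k hk, smul_zero]
  | zero => rw [smul_zero]
  | add x y _ _ hx hy => rw [smul_add, hx, hy, add_zero]
  | smul c x _ hx => rw [smul_comm, hx, smul_zero]

section
variable {A B : Type u} [CommRing A] [CommRing B] [Algebra A B] [Algebra.FinitePresentation A B]
  (M : Type u) [AddCommGroup M] [Module B M] [Module A M] [IsScalarTower A B M]
  [Module.FinitePresentation B M]

/-- **Uniform one-step lemma**: regularity of `a` on the fibre at `q` spreads to regularity of `a`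
on `M_h` for some `h ∉ q` (torsion form). -/
theorem exists_isSMulRegular_away (q : Ideal B) [q.IsPrime]
    (hflat : Module.Flat A (LocalizedModule q.primeCompl M)) (a : B)
    (hfib : IsSMulRegular
      (LocalizedModule q.primeCompl (M ⊗[A] (q.comap (algebraMap A B)).ResidueField)) a) :
    ∃ h ∉ q, ∀ x : M, a • x = 0 → ∃ s ∈ Submonoid.powers h, s • x = 0 := by
  obtain ⟨hareg, hflat₁⟩ := isSMulRegular_and_flat_quotSMulTop_of_fibre M q hflat a hfib
  haveI : Module.FinitePresentation B (QuotSMulTop a M) := finitePresentation_quotSMulTop a M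
  obtain ⟨h₀, hh₀, hfl₀⟩ := exists_flat_away (QuotSMulTop a M) q hflat₁
  have hfg := fg_ker_map_lsmul M a h₀ hfl₀
  have hareg' := (isSMulRegular_isLocalizedModule_iff q.primeCompl
    (LocalizedModule.mkLinearMap q.primeCompl M) a).mp hareg
  set S := Submonoid.powers h₀ with hS
  have hSq : S ≤ q.primeCompl := Submonoid.powers_le.mpr hh₀
  have hkill1 : ∀ x ∈ LinearMap.ker (LocalizedModule.map S (LinearMap.lsmul B M a)),
      ∃ s ∈ q.primeCompl, s • x = 0 := by
    intro x hx
    rw [LinearMap.mem_ker, map_lsmul_apply] at hx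
    induction x using LocalizedModule.induction_on with
    | h m t =>
      rw [LocalizedModule.smul'_mk, IsLocalizedModule.mk_eq_mk',
        IsLocalizedModule.mk'_eq_zero'] at hx
      obtain ⟨u, hu⟩ := hx
      have h1 : a • ((u : B) • m) = 0 := by
        rw [smul_comm]; exact hu
      obtain ⟨s, hs, hsm⟩ := hareg' _ h1
      refine ⟨s * u, q.primeCompl.mul_mem hs (hSq u.2), ?_⟩
      rw [LocalizedModule.smul'_mk, mul_smul, hsm, LocalizedModule.zero_mk]
  obtain ⟨s, hs, hsk⟩ := exists_forall_smul_eq_zero_of_fg _ hfg q.primeCompl hkill1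
  refine ⟨h₀ * s, fun hm => (‹q.IsPrime›.mem_or_mem hm).elim hh₀ hs, fun x hx => ?_⟩
  have h1 : s • LocalizedModule.mk x (1 : S) = 0 := by
    apply hsk
    rw [LinearMap.mem_ker, map_lsmul_apply, LocalizedModule.smul'_mk, hx, LocalizedModule.zero_mk]
  rw [LocalizedModule.smul'_mk, IsLocalizedModule.mk_eq_mk', IsLocalizedModule.mk'_eq_zero'] at h1
  obtain ⟨⟨_, n, rfl⟩, hu⟩ := h1
  refine ⟨(h₀ * s) ^ (n + 1), ⟨n + 1, rfl⟩, ?_⟩
  have h2 : (h₀ * s) ^ (n + 1) = (h₀ * s ^ n) * (h₀ ^ n * s) := by ring
  rw [h2, mul_smul, mul_smul (h₀ ^ n) s x]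
  have hu' : h₀ ^ n • s • x = 0 := hu
  rw [hu', smul_zero]

end



section
variable {A B : Type u} [CommRing A] [CommRing B] [Algebra A B] [Algebra.FinitePresentation A B]
  (q : Ideal B) [q.IsPrime]

/-- **Uniform EGA IV 11.3.8**: a sequence weakly regular on the localized fibre at `q` is weakly
regular with `A`-flat partial quotients on a basic open neighbourhood of `q`. -/
theorem exists_isWeaklyRegular_and_flat_quotients (g : List B) :
    ∀ (M : Type u) [AddCommGroup M] [Module B M] [Module A M] [IsScalarTower A B M]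
      [Module.FinitePresentation B M],
      Module.Flat A (LocalizedModule q.primeCompl M) →
      RingTheory.Sequence.IsWeaklyRegular
        (LocalizedModule q.primeCompl (M ⊗[A] (q.comap (algebraMap A B)).ResidueField)) g →
      ∃ h ∉ q, ∀ T : Submonoid B, Inverts h T →
        RingTheory.Sequence.IsWeaklyRegular (LocalizedModule T M) g ∧
        ∀ i ≤ g.length, Module.Flat A
          (LocalizedModule T (M ⧸ (Ideal.ofList (g.take i) • (⊤ : Submodule B M)))) := by
  induction g with
  | nil =>
    intro M _ _ _ _ _ hflat _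
    obtain ⟨h, hh, hfl⟩ := exists_flat_away M q hflat
    refine ⟨h, hh, fun T hT => ⟨RingTheory.Sequence.IsWeaklyRegular.nil B _, ?_⟩⟩
    intro i hi
    obtain rfl : i = 0 := by simpa using hi
    exact flat_localizedModule_quot_take_zero T M [] (flat_of_inverts M hT hfl)
  | cons a g' ih =>
    intro M _ _ _ _ _ hflat hreg
    set κ := (q.comap (algebraMap A B)).ResidueField with hκ
    rw [RingTheory.Sequence.isWeaklyRegular_cons_iff] at hreg
    obtain ⟨hareg_fib, hreg'⟩ := hreg
    obtain ⟨hareg, hflat₁⟩ := isSMulRegular_and_flat_quotSMulTop_of_fibre M q hflat a hareg_fib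
    obtain ⟨h₁, hh₁, hreg₁⟩ := exists_isSMulRegular_away M q hflat a hareg_fib
    obtain ⟨h₀, hh₀, hfl₀⟩ := exists_flat_away M q hflat
    haveI : Module.FinitePresentation B (QuotSMulTop a M) := finitePresentation_quotSMulTop a M
    let e₁ : LocalizedModule q.primeCompl (QuotSMulTop a M ⊗[A] κ) ≃ₗ[B]
        QuotSMulTop a (LocalizedModule q.primeCompl (M ⊗[A] κ)) :=
      localizedModuleCongr q.primeCompl (quotSMulTopTensorEquiv (R := A) a κ).symm ≪≫ₗ
        (quotSMulTopLocalizedEquiv q.primeCompl a (M ⊗[A] κ)).symm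
    have hreg₁' : RingTheory.Sequence.IsWeaklyRegular
        (LocalizedModule q.primeCompl (QuotSMulTop a M ⊗[A] κ)) g' :=
      (e₁.isWeaklyRegular_congr g').mpr hreg'
    obtain ⟨h₂, hh₂, H₂⟩ := ih (QuotSMulTop a M) hflat₁ hreg₁'
    refine ⟨h₀ * h₁ * h₂, fun hm => ?_, fun T hT => ?_⟩
    · rcases ‹q.IsPrime›.mem_or_mem hm with hm' | hm'
      · rcases ‹q.IsPrime›.mem_or_mem hm' with hm'' | hm''
        · exact hh₀ hm''
        · exact hh₁ hm''
      · exact hh₂ hm'
    · have hT₀ : Inverts h₀ T := hT.of_dvd ⟨h₁ * h₂, by ring⟩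
      have hT₁ : Inverts h₁ T := hT.of_dvd ⟨h₀ * h₂, by ring⟩
      have hT₂ : Inverts h₂ T := hT.of_dvd ⟨h₀ * h₁, by ring⟩
      obtain ⟨hR, hF⟩ := H₂ T hT₂
      constructor
      · rw [RingTheory.Sequence.isWeaklyRegular_cons_iff]
        exact ⟨isSMulRegular_of_inverts M hT₁ a hreg₁,
          ((quotSMulTopLocalizedEquiv T a M).isWeaklyRegular_congr g').mpr hR⟩
      · intro i hi
        rcases i with _ | j
        · exact flat_localizedModule_quot_take_zero T M (a :: g') (flat_of_inverts M hT₀ hfl₀)
        · have hj : j ≤ g'.length := by simpa using hi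
          have hFj := hF j hj
          let e₂ : (M ⧸ (Ideal.ofList (a :: g'.take j) • (⊤ : Submodule B M))) ≃ₗ[B]
              QuotSMulTop a M ⧸ (Ideal.ofList (g'.take j) • (⊤ : Submodule B (QuotSMulTop a M))) :=
            Submodule.quotOfListConsSMulTopEquivQuotSMulTopInner M a (g'.take j)
          rw [List.take_succ_cons]
          exact Module.Flat.of_linearEquiv ((localizedModuleCongr T e₂).restrictScalars A)

end

end Groth.Agent.Lib.Seat7.Spread
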