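import Mathlib
import Groth.Agent.Lib.Seat7Spread

/-!
# Uniform spreading of fibrewise regular sequences: ring form (Seat 7)

`exists_isWeaklyRegular_isLocalization`: `A → B` of finite presentation, `q` a prime of `B` with
`B_q` flat over `A`, `g` a sequence in `B` weakly regular on `((B ⊗ κ(p))_q`.  Then there is `h ∉ q`
such that for every localization `B'` of `B` at a submonoid inverting `h` (e.g.
`Localization.Away (h * h')`, `Localization.AtPrime q'` with `h ∉ q'`), the image of `g` is a weakly
regular sequence in `B'` and all `B' ⧸ (g₁, …, gᵢ)` are flat over `A`.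
-/

set_option autoImplicit false
set_option linter.style.haveILetI false

universe u

namespace Groth.Agent.Lib.Seat7.SpreadRing

open TensorProduct Groth.Agent.Lib.Seat7.Spread Groth.Agent.Lib.Seat56.FibReg
open scoped Pointwise

section Transfer

variable {A B : Type u} [CommRing A] [CommRing B] [Algebra A B]
  (T : Submonoid B) (B' : Type u) [CommRing B'] [Algebra B B'] [IsLocalization T B']
  [Algebra A B'] [IsScalarTower A B B']

/-- weak regularity on `LocalizedModule T B` is weak regularity in the ring `B'`. -/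
theorem isWeaklyRegular_ring_iff (g : List B) :
    RingTheory.Sequence.IsWeaklyRegular B' (g.map (algebraMap B B')) ↔
      RingTheory.Sequence.IsWeaklyRegular (LocalizedModule T B) g := by
  haveI : IsLocalizedModule T (Algebra.linearMap B B') :=
    (isLocalizedModule_iff_isLocalization' T B').mpr inferInstance
  let e : LocalizedModule T B ≃ₗ[B] B' := IsLocalizedModule.iso T (Algebra.linearMap B B')
  rw [RingTheory.Sequence.isWeaklyRegular_map_algebraMap_iff B' B' g]
  exact (e.isWeaklyRegular_congr g).symm

/-- `(B/I)_T ≃ B'/IB'`, `A`-linearly. -/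
theorem nonempty_localizedModule_quotient_equiv (I : Ideal B) :
    Nonempty (LocalizedModule T (B ⧸ (I • (⊤ : Submodule B B))) ≃ₗ[A]
      (B' ⧸ I.map (algebraMap B B'))) := by
  have hI : I • (⊤ : Submodule B B) = I := by rw [smul_eq_mul, Ideal.mul_top]
  let e₀ : (B ⧸ (I • (⊤ : Submodule B B))) ≃ₗ[B] (B ⧸ I) := Submodule.quotEquivOfEq _ _ hI
  haveI : IsLocalizedModule T ((TensorProduct.mk B B' (B ⧸ I)) 1) :=
    (isLocalizedModule_iff_isBaseChange T B' _).mpr (TensorProduct.isBaseChange B (B ⧸ I) B')
  let e₁ : LocalizedModule T (B ⧸ I) ≃ₗ[B] B' ⊗[B] (B ⧸ I) :=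
    IsLocalizedModule.iso T ((TensorProduct.mk B B' (B ⧸ I)) 1)
  let e₂ : (B' ⧸ I.map (algebraMap B B')) ≃ₐ[B'] B' ⊗[B] (B ⧸ I) :=
    Algebra.TensorProduct.quotIdealMapEquivTensorQuot B' I
  exact ⟨((localizedModuleCongr T e₀).restrictScalars A).trans
    ((e₁.restrictScalars A).trans (e₂.symm.toLinearEquiv.restrictScalars A))⟩

end Transfer

section Main

variable {A B : Type u} [CommRing A] [CommRing B] [Algebra A B] [Algebra.FinitePresentation A B]

/-- **Uniform EGA IV 11.3.8, ring form.** -/
theorem exists_isWeaklyRegular_isLocalization (q : Ideal B) [q.IsPrime] (g : List B)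
    (hflat : Module.Flat A (LocalizedModule q.primeCompl B))
    (hreg : RingTheory.Sequence.IsWeaklyRegular
      (LocalizedModule q.primeCompl (B ⊗[A] (q.comap (algebraMap A B)).ResidueField)) g) :
    ∃ h ∉ q, ∀ (T : Submonoid B) (B' : Type u) [CommRing B'] [Algebra B B'] [IsLocalization T B']
      [Algebra A B'] [IsScalarTower A B B'], Inverts h T →
        RingTheory.Sequence.IsWeaklyRegular B' (g.map (algebraMap B B')) ∧
        ∀ i ≤ g.length, Module.Flat A
          (B' ⧸ Ideal.ofList ((g.take i).map (algebraMap B B'))) := by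
  obtain ⟨h, hh, H⟩ := exists_isWeaklyRegular_and_flat_quotients q g B hflat hreg
  refine ⟨h, hh, fun T B' _ _ _ _ _ hT => ?_⟩
  obtain ⟨hR, hF⟩ := H T hT
  refine ⟨(isWeaklyRegular_ring_iff T B' g).mpr hR, fun i hi => ?_⟩
  obtain ⟨e⟩ := nonempty_localizedModule_quotient_equiv (A := A) T B' (Ideal.ofList (g.take i))
  have := hF i hi
  rw [← Ideal.map_ofList]
  exact Module.Flat.of_linearEquiv e.symm

/-- the flat case, with `Localization.Away`. -/
theorem exists_away_isWeaklyRegular [Module.Flat A B] (q : Ideal B) [q.IsPrime] (g : List B)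
    (hreg : RingTheory.Sequence.IsWeaklyRegular
      (LocalizedModule q.primeCompl (B ⊗[A] (q.comap (algebraMap A B)).ResidueField)) g) :
    ∃ h ∉ q, ∀ h' : B,
      RingTheory.Sequence.IsWeaklyRegular (Localization.Away (h * h'))
        (g.map (algebraMap B (Localization.Away (h * h')))) ∧
      ∀ i ≤ g.length, Module.Flat A
        (Localization.Away (h * h') ⧸
          Ideal.ofList ((g.take i).map (algebraMap B (Localization.Away (h * h'))))) := by
  obtain ⟨h, hh, H⟩ := exists_isWeaklyRegular_isLocalization q g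
    (Groth.Agent.Lib.Helper3.FlatLoc.flat_localizedModule_of_flat q.primeCompl) hreg
  exact ⟨h, hh, fun h' => H (Submonoid.powers (h * h')) (Localization.Away (h * h'))
    ⟨h * h', Submonoid.mem_powers _, Dvd.intro _ rfl⟩⟩

end Main

end Groth.Agent.Lib.Seat7.SpreadRing
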