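import Mathlib
import Groth.Prelude.Def_LCI2
import Groth.Agent.Lib.Seat31FlatLciAux
import Groth.Agent.Lib.Seat31KRLoc
import Groth.Agent.Lib.Seat7SpreadRing
import Groth.Agent.Lib.Seat7FibDict
import Groth.Agent.Lib.Helper13Vasc4
import Groth.Agent.Lib.Seat56RelGCI6

/-!
# Seat31: lifting regular generators of a fibre ideal (general ambient ring)

`R → P` flat of finite presentation, `I ⊆ P` a finitely generated ideal with `P ⧸ I` flat over `R`,
`q ⊇ I` a prime of `P` over `p ⊂ R`, `Q` the prime of the fibre ring `P ⊗[R] κ(p)` over `q`.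
If the fibre ideal `I · (P ⊗[R] κ(p))_Q` is generated by a weakly regular sequence, then there are
`g ∉ q` and `ys ⊆ I` such that `ys` is a weakly regular sequence in `P_g` generating `I P_g`, with
`R`-flat partial quotients (`exists_away_regular_generators`); in particular `KRLoc I g`
(`exists_krLoc`).

Ingredients: clearing denominators in the fibre ring (`exists_smul_eq_map_of_mem`,
`exists_list_lift`), the kernel of `P → P ⊗[R] κ(p)` (`ker_fibre`), Nakayama with flatness
(`ofList_map_eq`), and helper7's uniform spreading (`Seat7SpreadRing`).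
-/

set_option autoImplicit false
set_option linter.style.haveILetI false

universe u

open TensorProduct RingTheory.Sequence

namespace Groth.Agent.Lib.Seat31.FibreLift

open Groth.Agent.Lib.Seat31.FlatLciAux

section Denominators

variable {R P : Type u} [CommRing R] [CommRing P] [Algebra R P] (p : Ideal R) [p.IsPrime]

lemma algebraMap_smul' (r : R) (y : P) :
    algebraMap P (P ⊗[R] p.ResidueField) (r • y) =
      r • algebraMap P (P ⊗[R] p.ResidueField) y := by
  rw [Algebra.smul_def, map_mul, ← IsScalarTower.algebraMap_apply, ← Algebra.smul_def]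

lemma isUnit_algebraMap_of_notMem {r : R} (hr : r ∉ p) :
    IsUnit (algebraMap R (P ⊗[R] p.ResidueField) r) := by
  have h1 : algebraMap R (P ⊗[R] p.ResidueField) r
      = Algebra.TensorProduct.includeRight (algebraMap R p.ResidueField r) := by
    rw [Algebra.TensorProduct.includeRight.commutes]
  rw [h1]
  apply IsUnit.map
  rw [isUnit_iff_ne_zero, Ne, Ideal.algebraMap_residueField_eq_zero]
  exact hr

lemma one_notMem : (1 : R) ∉ p := fun h => ‹p.IsPrime›.ne_top ((Ideal.eq_top_iff_one p).2 h)

/-- clearing denominators in the extension of an ideal to the fibre ring. -/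
theorem exists_smul_eq_map_of_mem (I : Ideal P) (z : P ⊗[R] p.ResidueField)
    (hz : z ∈ I.map (algebraMap P (P ⊗[R] p.ResidueField))) :
    ∃ r ∉ p, ∃ y ∈ I, r • z = algebraMap P (P ⊗[R] p.ResidueField) y := by
  unfold Ideal.map at hz
  induction hz using Submodule.span_induction with
  | mem z hz =>
    obtain ⟨x, hx, rfl⟩ := hz
    exact ⟨1, one_notMem p, x, hx, one_smul _ _⟩
  | zero =>
    exact ⟨1, one_notMem p, 0, I.zero_mem, by rw [smul_zero, map_zero]⟩
  | add z₁ z₂ _ _ h₁ h₂ =>
    obtain ⟨r₁, hr₁, y₁, hy₁, e₁⟩ := h₁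
    obtain ⟨r₂, hr₂, y₂, hy₂, e₂⟩ := h₂
    refine ⟨r₁ * r₂, fun h => (‹p.IsPrime›.mem_or_mem h).elim hr₁ hr₂, r₂ • y₁ + r₁ • y₂,
      I.add_mem (Submodule.smul_of_tower_mem I r₂ hy₁) (Submodule.smul_of_tower_mem I r₁ hy₂), ?_⟩
    rw [map_add, algebraMap_smul', algebraMap_smul', ← e₁, ← e₂, smul_add, mul_smul, mul_smul,
      smul_comm r₁ r₂ z₁]
  | smul t z _ h =>
    obtain ⟨r, hr, y, hy, e⟩ := h
    obtain ⟨r', hr', s, es⟩ := Ideal.ResidueField.exists_smul_eq_tmul_one p t
    refine ⟨r' * r, fun h => (‹p.IsPrime›.mem_or_mem h).elim hr' hr, s * y,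
      I.mul_mem_left s hy, ?_⟩
    have hs : algebraMap P (P ⊗[R] p.ResidueField) s = s ⊗ₜ[R] (1 : p.ResidueField) := rfl
    rw [map_mul, ← e, hs, ← es, smul_mul_smul_comm, smul_eq_mul]

variable (Q : Ideal (P ⊗[R] p.ResidueField)) [Q.IsPrime]

/-- an element of the localised extended ideal is, up to a unit, the image of an element of the
ideal. -/
theorem exists_lift_unit (I : Ideal P) (a : Localization.AtPrime Q)
    (ha : a ∈ (I.map (algebraMap P (P ⊗[R] p.ResidueField))).map
        (algebraMap _ (Localization.AtPrime Q))) :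
    ∃ y ∈ I, ∃ u : (Localization.AtPrime Q)ˣ,
      algebraMap P (Localization.AtPrime Q) y = a * u := by
  obtain ⟨⟨⟨z, hz⟩, σ⟩, hσ⟩ :=
    (IsLocalization.mem_map_algebraMap_iff Q.primeCompl (Localization.AtPrime Q)).1 ha
  obtain ⟨r, hr, y, hy, e⟩ := exists_smul_eq_map_of_mem p I z hz
  have hu1 : IsUnit (algebraMap (P ⊗[R] p.ResidueField) (Localization.AtPrime Q) σ) :=
    IsLocalization.map_units _ σ
  have hu2 : IsUnit (algebraMap (P ⊗[R] p.ResidueField) (Localization.AtPrime Q)
      (algebraMap R (P ⊗[R] p.ResidueField) r)) := (isUnit_algebraMap_of_notMem p hr).map _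
  refine ⟨y, hy, hu1.unit * hu2.unit, ?_⟩
  rw [IsScalarTower.algebraMap_apply P (P ⊗[R] p.ResidueField) (Localization.AtPrime Q), ← e,
    Algebra.smul_def, map_mul]
  simp only [Units.val_mul, IsUnit.unit_spec]
  have hσ' : a * algebraMap (P ⊗[R] p.ResidueField) (Localization.AtPrime Q)
      (σ : P ⊗[R] p.ResidueField) = algebraMap _ (Localization.AtPrime Q) z := hσ
  rw [← hσ']
  ring

/-- lifting a list of generators. -/
theorem exists_list_lift (I : Ideal P) (as : List (Localization.AtPrime Q))
    (has : ∀ a ∈ as, a ∈ (I.map (algebraMap P (P ⊗[R] p.ResidueField))).map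
        (algebraMap _ (Localization.AtPrime Q))) :
    ∃ ys : List P, (∀ y ∈ ys, y ∈ I) ∧
      List.Forall₂ (fun (t t' : Localization.AtPrime Q) =>
          ∃ u : (Localization.AtPrime Q)ˣ, t' = t * (u : Localization.AtPrime Q))
        as (ys.map (algebraMap P (Localization.AtPrime Q))) := by
  induction as with
  | nil => exact ⟨[], by simp, List.Forall₂.nil⟩
  | cons a as ih =>
    obtain ⟨ys, hys, hall⟩ := ih (fun b hb => has b (List.mem_cons_of_mem _ hb))
    obtain ⟨y, hy, u, hu⟩ := exists_lift_unit p Q I a (has a List.mem_cons_self)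
    refine ⟨y :: ys, ?_, ?_⟩
    · intro t ht
      rcases List.mem_cons.1 ht with rfl | ht
      · exact hy
      · exact hys t ht
    · simp only [List.map_cons]
      exact List.Forall₂.cons ⟨u, hu⟩ hall

end Denominators

section Kernel

variable {R P : Type u} [CommRing R] [CommRing P] [Algebra R P] (p : Ideal R) [p.IsPrime]

attribute [local instance] Algebra.TensorProduct.rightAlgebra in
theorem ker_fibre' (e : P) (he : (1 : p.ResidueField) ⊗ₜ[R] e = 0) :
    ∃ r ∉ p, r • e ∈ p.map (algebraMap R P) := by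
  have h1 := congrArg (Ideal.Fiber.algEquivAux₁ (S := P) p) he
  rw [map_zero] at h1
  have h2 : (Ideal.Fiber.algEquivAux₁ (S := P) p) ((1 : p.ResidueField) ⊗ₜ[R] e) =
      algebraMap P _ e := by
    have : (1 : p.ResidueField) ⊗ₜ[R] e = algebraMap P (p.Fiber P) e := rfl
    rw [this, AlgEquiv.commutes]
  rw [h2, IsScalarTower.algebraMap_apply P
    (Localization (Algebra.algebraMapSubmonoid P p.primeCompl)), Ideal.Quotient.algebraMap_eq,
    Ideal.Quotient.eq_zero_iff_mem,
    IsLocalization.algebraMap_mem_map_algebraMap_iff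
      (Algebra.algebraMapSubmonoid P p.primeCompl)] at h1
  obtain ⟨m, ⟨r, hr, rfl⟩, hm⟩ := h1
  exact ⟨r, hr, by rwa [Algebra.smul_def]⟩

/-- **the kernel of `P → P ⊗[R] κ(p)`**: elements killed into `p P` by some `r ∉ p`. -/
theorem ker_fibre (e : P) (he : algebraMap P (P ⊗[R] p.ResidueField) e = 0) :
    ∃ r ∉ p, r • e ∈ p.map (algebraMap R P) := by
  apply ker_fibre' p e
  have he' : e ⊗ₜ[R] (1 : p.ResidueField) = 0 := he
  have := congrArg (TensorProduct.comm R P p.ResidueField) he'
  simpa using this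

end Kernel

section Generation

variable {R P : Type u} [CommRing R] [CommRing P] [Algebra R P]
  (I : Ideal P) (q : Ideal P) [q.IsPrime]
  (Q : Ideal (P ⊗[R] (q.comap (algebraMap R P)).ResidueField)) [Q.IsPrime]
  (hQ : Q.comap (algebraMap P (P ⊗[R] (q.comap (algebraMap R P)).ResidueField)) = q)

include hQ in
/-- a relation in the local ring of the fibre ring, with denominators cleared. -/
theorem exists_mul_mem_sup (ys : List P)
    (hgen : Ideal.ofList (ys.map (algebraMap P (Localization.AtPrime Q))) =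
      (I.map (algebraMap P (P ⊗[R] (q.comap (algebraMap R P)).ResidueField))).map
        (algebraMap _ (Localization.AtPrime Q)))
    (z : P) (hz : z ∈ I) :
    ∃ s ∉ q, s * z ∈ Ideal.ofList ys ⊔ (q.comap (algebraMap R P)).map (algebraMap R P) := by
  have hp : ∀ r : R, r ∉ q.comap (algebraMap R P) → algebraMap R P r ∉ q := fun r hr h => hr h
  have h1 : algebraMap (P ⊗[R] (q.comap (algebraMap R P)).ResidueField) (Localization.AtPrime Q)
      (algebraMap P _ z) ∈ ((Ideal.ofList ys).map
        (algebraMap P (P ⊗[R] (q.comap (algebraMap R P)).ResidueField))).map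
        (algebraMap _ (Localization.AtPrime Q)) := by
    rw [Ideal.map_map, ← IsScalarTower.algebraMap_eq, Ideal.map_ofList, hgen]
    exact Ideal.mem_map_of_mem _ (Ideal.mem_map_of_mem _ hz)
  obtain ⟨m, hm, hmz⟩ := (IsLocalization.algebraMap_mem_map_algebraMap_iff Q.primeCompl
    (Localization.AtPrime Q) _ _).1 h1
  obtain ⟨r₁, hr₁, s₁, e₁⟩ := Ideal.ResidueField.exists_smul_eq_tmul_one
    (q.comap (algebraMap R P)) m
  have hs₁ : algebraMap P (P ⊗[R] (q.comap (algebraMap R P)).ResidueField) s₁ = r₁ • m := e₁.symm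
  have hs₁q : s₁ ∉ q := by
    intro h
    rw [← hQ, Ideal.mem_comap, hs₁, Algebra.smul_def] at h
    rcases Ideal.IsPrime.mem_or_mem inferInstance h with h | h
    · exact (Ideal.IsPrime.ne_top inferInstance)
        (Ideal.eq_top_of_isUnit_mem _ h (isUnit_algebraMap_of_notMem _ hr₁))
    · exact hm h
  obtain ⟨r₂, hr₂, y', hy', e₂⟩ := exists_smul_eq_map_of_mem (q.comap (algebraMap R P))
    (Ideal.ofList ys) _ hmz
  have hker : algebraMap P (P ⊗[R] (q.comap (algebraMap R P)).ResidueField)
      (r₂ • (s₁ * z) - r₁ • y') = 0 := by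
    rw [map_sub, algebraMap_smul', algebraMap_smul', map_mul, hs₁, ← e₂, smul_mul_assoc,
      smul_comm r₂ r₁, sub_self]
  obtain ⟨r₃, hr₃, hr₃mem⟩ := ker_fibre _ _ hker
  refine ⟨algebraMap R P (r₃ * r₂) * s₁, ?_, ?_⟩
  · intro h
    rcases Ideal.IsPrime.mem_or_mem inferInstance h with h | h
    · exact hp _ (fun h' => (Ideal.IsPrime.mem_or_mem inferInstance h').elim hr₃ hr₂) h
    · exact hs₁q h
  · have e : algebraMap R P (r₃ * r₂) * s₁ * z =
        r₃ • (r₁ • y') + r₃ • (r₂ • (s₁ * z) - r₁ • y') := by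
      simp only [Algebra.smul_def, map_mul]
      ring
    rw [e]
    exact Submodule.add_mem_sup
      (Submodule.smul_of_tower_mem _ r₃ (Submodule.smul_of_tower_mem _ r₁ hy')) hr₃mem

include hQ in
/-- with flatness of `P ⧸ I`, the error term lies in `p I`. -/
theorem exists_mul_mem_sup_mul [Module.Flat R (P ⧸ I)] (ys : List P) (hys : ∀ y ∈ ys, y ∈ I)
    (hgen : Ideal.ofList (ys.map (algebraMap P (Localization.AtPrime Q))) =
      (I.map (algebraMap P (P ⊗[R] (q.comap (algebraMap R P)).ResidueField))).map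
        (algebraMap _ (Localization.AtPrime Q)))
    (z : P) (hz : z ∈ I) :
    ∃ s ∉ q, s * z ∈ Ideal.ofList ys ⊔ (q.comap (algebraMap R P)).map (algebraMap R P) * I := by
  obtain ⟨s, hs, hmem⟩ := exists_mul_mem_sup I q Q hQ ys hgen z hz
  refine ⟨s, hs, ?_⟩
  obtain ⟨j, hj, w, hw, hjw⟩ := Submodule.mem_sup.1 hmem
  have hysI : Ideal.ofList ys ≤ I := by
    unfold Ideal.ofList
    rw [Ideal.span_le]
    exact fun y hy => hys y hy
  have hwI : w ∈ I := by
    have : w = s * z - j := by rw [← hjw]; ring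
    rw [this]
    exact I.sub_mem (I.mul_mem_left s hz) (hysI hj)
  let N : Submodule R P := I.restrictScalars R
  have hex : Function.Exact N.subtype (Ideal.Quotient.mkₐ R I).toLinearMap := by
    intro x
    constructor
    · intro hx
      exact ⟨⟨x, Ideal.Quotient.eq_zero_iff_mem.1 hx⟩, rfl⟩
    · rintro ⟨y, rfl⟩
      exact Ideal.Quotient.eq_zero_iff_mem.2 y.2
  have hw' : w ∈ (q.comap (algebraMap R P)) • (⊤ : Submodule R P) := by
    rw [Ideal.smul_top_eq_map]
    exact hw
  have key := mem_smul_top_of_flat_quotient N (Ideal.Quotient.mkₐ R I).toLinearMap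
    (Ideal.Quotient.mkₐ_surjective R I) hex (q.comap (algebraMap R P)) ⟨w, hwI⟩ hw'
  have hle : (q.comap (algebraMap R P)) • (⊤ : Submodule R N) ≤
      Submodule.comap N.subtype (((q.comap (algebraMap R P)).map (algebraMap R P) *
        I).restrictScalars R) := by
    rw [Submodule.smul_le]
    intro a ha i _
    rw [Submodule.mem_comap, map_smul]
    change a • (i : P) ∈ _
    rw [Algebra.smul_def]
    exact Ideal.mul_mem_mul (Ideal.mem_map_of_mem _ ha) i.2
  rw [← hjw]
  exact Submodule.add_mem_sup hj (hle key)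

include hQ in
/-- **Nakayama with flatness**: lifts to `I` of generators of the fibre ideal at `Q` generate
`I P_q`. -/
theorem ofList_map_eq (hfg : I.FG) [Module.Flat R (P ⧸ I)] (ys : List P)
    (hys : ∀ y ∈ ys, y ∈ I)
    (hgen : Ideal.ofList (ys.map (algebraMap P (Localization.AtPrime Q))) =
      (I.map (algebraMap P (P ⊗[R] (q.comap (algebraMap R P)).ResidueField))).map
        (algebraMap _ (Localization.AtPrime Q))) :
    Ideal.ofList (ys.map (algebraMap P (Localization.AtPrime q))) =
      I.map (algebraMap P (Localization.AtPrime q)) := by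
  have hysI : Ideal.ofList ys ≤ I := by
    unfold Ideal.ofList
    rw [Ideal.span_le]
    exact fun y hy => hys y hy
  apply le_antisymm
  · rw [← Ideal.map_ofList]
    exact Ideal.map_mono hysI
  set 𝔭 : Ideal (Localization.AtPrime q) := ((q.comap (algebraMap R P)).map
    (algebraMap R P)).map (algebraMap P (Localization.AtPrime q)) with h𝔭
  have hpq : (q.comap (algebraMap R P)).map (algebraMap R P) ≤ q := Ideal.map_comap_le
  have h𝔭J : 𝔭 ≤ Ideal.jacobson ⊥ := by
    rw [IsLocalRing.jacobson_eq_maximalIdeal ⊥ bot_ne_top,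
      ← Localization.AtPrime.map_eq_maximalIdeal]
    exact Ideal.map_mono hpq
  have hJfg : (I.map (algebraMap P (Localization.AtPrime q))).FG := Ideal.FG.map hfg _
  refine Submodule.le_of_le_smul_of_le_jacobson_bot (I := 𝔭) hJfg h𝔭J ?_
  rw [Ideal.map_le_iff_le_comap]
  intro x hx
  rw [Ideal.mem_comap]
  obtain ⟨s, hs, hmem⟩ := exists_mul_mem_sup_mul I q Q hQ ys hys hgen x hx
  have hu : IsUnit (algebraMap P (Localization.AtPrime q) s) :=
    IsLocalization.map_units (Localization.AtPrime q) (⟨s, hs⟩ : q.primeCompl)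
  have h2 := Ideal.mem_map_of_mem (algebraMap P (Localization.AtPrime q)) hmem
  rw [Ideal.map_sup, Ideal.map_mul, Ideal.map_ofList, map_mul] at h2
  rw [smul_eq_mul]
  exact (Ideal.unit_mul_mem_iff_mem _ hu).1 h2

end Generation

section Main

variable {R P : Type u} [CommRing R] [CommRing P] [Algebra R P] [Algebra.FinitePresentation R P]
  [Module.Flat R P]

/-- **Lifting regular generators of a fibre ideal.**  `R → P` flat of finite presentation,
`I ⊆ P` finitely generated with `P ⧸ I` flat over `R`, `q ⊇ I` a prime, `Q` the prime of the fibre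
ring over `q`.  If `I (P ⊗[R] κ(p))_Q` is generated by a weakly regular sequence, then there are
`g ∉ q` and a list `ys` of elements of `I` whose image in `P_g` is a weakly regular sequence
generating `I P_g`, all partial quotients being flat over `R`. -/
theorem exists_away_regular_generators (I : Ideal P) (hfg : I.FG) [Module.Flat R (P ⧸ I)]
    (q : Ideal P) [q.IsPrime] (hIq : I ≤ q)
    (Q : Ideal (P ⊗[R] (q.comap (algebraMap R P)).ResidueField)) [Q.IsPrime]
    (hQ : Q.comap (algebraMap P (P ⊗[R] (q.comap (algebraMap R P)).ResidueField)) = q)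
    (as : List (Localization.AtPrime Q)) (hreg : IsWeaklyRegular (Localization.AtPrime Q) as)
    (hgen : Ideal.ofList as =
      (I.map (algebraMap P (P ⊗[R] (q.comap (algebraMap R P)).ResidueField))).map
        (algebraMap _ (Localization.AtPrime Q))) :
    ∃ g ∉ q, ∃ ys : List P, (∀ y ∈ ys, y ∈ I) ∧
      IsWeaklyRegular (Localization.Away g) (ys.map (algebraMap P (Localization.Away g))) ∧
      Ideal.ofList (ys.map (algebraMap P (Localization.Away g))) =
        I.map (algebraMap P (Localization.Away g)) ∧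
      ∀ i ≤ ys.length, Module.Flat R (Localization.Away g ⧸
        Ideal.ofList ((ys.take i).map (algebraMap P (Localization.Away g)))) := by
  have has : ∀ a ∈ as, a ∈ (I.map (algebraMap P
      (P ⊗[R] (q.comap (algebraMap R P)).ResidueField))).map
        (algebraMap _ (Localization.AtPrime Q)) := by
    intro a ha
    rw [← hgen]
    exact Ideal.subset_span ha
  obtain ⟨ys, hys, hall⟩ := exists_list_lift (q.comap (algebraMap R P)) Q I as has
  have hreg' := Groth.Agent.Helper13Vasc.isWeaklyRegular_of_forall₂_units hall hreg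
  have hgen' := (Groth.Agent.Helper13Vasc.ofList_eq_of_forall₂_units hall).trans hgen
  have hysq : ∀ b ∈ ys, b ∈ q := fun b hb => hIq (hys b hb)
  have hfib := Groth.Agent.Lib.Seat7.FibDict.isRegular_localizedModule_fibre q ys hysq Q hQ hreg'
  obtain ⟨h, hh, H⟩ := Groth.Agent.Lib.Seat7.SpreadRing.exists_away_isWeaklyRegular q ys
    hfib.toIsWeaklyRegular
  have hgenT := ofList_map_eq I q Q hQ hfg ys hys hgen'
  obtain ⟨g₁, hg₁, hg₁I⟩ := Groth.Agent.Helper13Vasc.exists_mul_mem_of_map_le q.primeCompl
    (Localization.AtPrime q) I (Ideal.ofList ys) hfg (fun z hz => by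
      rw [Ideal.map_ofList, hgenT]
      exact Ideal.mem_map_of_mem _ hz)
  have hysI : Ideal.ofList ys ≤ I := by
    unfold Ideal.ofList
    rw [Ideal.span_le]
    exact fun y hy => hys y hy
  refine ⟨h * g₁, fun hmem => (Ideal.IsPrime.mem_or_mem inferInstance hmem).elim hh hg₁, ys, hys,
    (H g₁).1, ?_, (H g₁).2⟩
  apply le_antisymm
  · rw [← Ideal.map_ofList]
    exact Ideal.map_mono hysI
  · rw [Ideal.map_le_iff_le_comap]
    intro z hz
    rw [Ideal.mem_comap, ← Ideal.map_ofList]
    have h1 := Ideal.mem_map_of_mem (algebraMap P (Localization.Away (h * g₁))) (hg₁I z hz)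
    rw [map_mul] at h1
    have hu : IsUnit (algebraMap P (Localization.Away (h * g₁)) g₁) :=
      isUnit_of_dvd_unit (map_dvd _ (Dvd.intro_left h rfl))
        (IsLocalization.Away.algebraMap_isUnit (h * g₁))
    exact (Ideal.unit_mul_mem_iff_mem _ hu).1 h1

/-- Koszul-regular form of `exists_away_regular_generators`. -/
theorem exists_krLoc (I : Ideal P) (hfg : I.FG) [Module.Flat R (P ⧸ I)]
    (q : Ideal P) [q.IsPrime] (hIq : I ≤ q)
    (Q : Ideal (P ⊗[R] (q.comap (algebraMap R P)).ResidueField)) [Q.IsPrime]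
    (hQ : Q.comap (algebraMap P (P ⊗[R] (q.comap (algebraMap R P)).ResidueField)) = q)
    (as : List (Localization.AtPrime Q)) (hreg : IsWeaklyRegular (Localization.AtPrime Q) as)
    (hgen : Ideal.ofList as =
      (I.map (algebraMap P (P ⊗[R] (q.comap (algebraMap R P)).ResidueField))).map
        (algebraMap _ (Localization.AtPrime Q))) :
    ∃ g ∉ q, Groth.Agent.Lib.Seat31.KR.KRLoc I g := by
  obtain ⟨g, hg, ys, -, hwr, hgenA, -⟩ :=
    exists_away_regular_generators I hfg q hIq Q hQ as hreg hgen
  exact ⟨g, hg, ys.map (algebraMap P (Localization.Away g)),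
    Groth.Agent.Lib.Seat56.RelGCI.kr_of_isWeaklyRegular _ _ hwr, hgenA.symm⟩

end Main

end Groth.Agent.Lib.Seat31.FibreLift
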