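import Mathlib

/-!
# Seat31: base change of a polynomial presentation

For a presentation `f : A[x_1, …, x_n] → B` and an `A`-algebra `κ`, the presentation
`κ[x_1, …, x_n] → κ ⊗[A] B`; its kernel is the extension of the kernel of `f`.
-/

set_option autoImplicit false

universe u

open TensorProduct

namespace Groth.Agent.Lib.Seat31.FibrePres

variable {A B : Type u} [CommRing A] [CommRing B] [Algebra A B] (κ : Type u) [CommRing κ]
  [Algebra A κ] {n : ℕ} (f : MvPolynomial (Fin n) A →ₐ[A] B)

/-- the base-changed presentation. -/
noncomputable def fibPres : MvPolynomial (Fin n) κ →ₐ[κ] κ ⊗[A] B :=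
  MvPolynomial.aeval (fun i => (1 : κ) ⊗ₜ[A] f (MvPolynomial.X i))

lemma fibPres_map (x : MvPolynomial (Fin n) A) :
    fibPres κ f (MvPolynomial.map (algebraMap A κ) x) = 1 ⊗ₜ f x := by
  unfold fibPres
  rw [MvPolynomial.aeval_map_algebraMap, MvPolynomial.aeval_one_tmul]
  congr 1
  exact (DFunLike.congr_fun (MvPolynomial.aeval_unique f) x).symm

lemma fibPres_equiv (w : κ ⊗[A] MvPolynomial (Fin n) A) :
    fibPres κ f (MvPolynomial.algebraTensorAlgEquiv A κ w) =
      Algebra.TensorProduct.map (AlgHom.id A κ) f w := by
  induction w using TensorProduct.induction_on with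
  | zero => simp
  | tmul a p =>
    rw [MvPolynomial.algebraTensorAlgEquiv_tmul, map_smul, fibPres_map,
      Algebra.TensorProduct.map_tmul, TensorProduct.smul_tmul', smul_eq_mul, mul_one]
    rfl
  | add x y hx hy => rw [map_add, map_add, map_add, hx, hy]

lemma fibPres_surjective (hf : Function.Surjective f) : Function.Surjective (fibPres κ f) := by
  intro y
  induction y using TensorProduct.induction_on with
  | zero => exact ⟨0, map_zero _⟩
  | tmul a b =>
    obtain ⟨p, rfl⟩ := hf b
    refine ⟨a • MvPolynomial.map (algebraMap A κ) p, ?_⟩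
    rw [map_smul, fibPres_map, TensorProduct.smul_tmul', smul_eq_mul, mul_one]
  | add x y hx hy =>
    obtain ⟨a, rfl⟩ := hx
    obtain ⟨b, rfl⟩ := hy
    exact ⟨a + b, map_add _ _ _⟩

/-- the kernel of the base-changed presentation is the extended ideal. -/
theorem ker_fibPres (hf : Function.Surjective f) :
    RingHom.ker (fibPres κ f).toRingHom =
      (RingHom.ker f.toRingHom).map (MvPolynomial.map (algebraMap A κ)) := by
  apply le_antisymm
  · intro z hz
    set e := MvPolynomial.algebraTensorAlgEquiv (σ := Fin n) A κ with he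
    have hz' : fibPres κ f z = 0 := hz
    have hw : e.symm z ∈ RingHom.ker (Algebra.TensorProduct.map (AlgHom.id A κ) f) := by
      rw [RingHom.mem_ker, ← fibPres_equiv, AlgEquiv.apply_symm_apply, hz']
    rw [Algebra.TensorProduct.lTensor_ker f hf] at hw
    have key : (RingHom.ker f).map
        (Algebra.TensorProduct.includeRight : MvPolynomial (Fin n) A →ₐ[A] κ ⊗[A] _) ≤
        ((RingHom.ker f.toRingHom).map (MvPolynomial.map (algebraMap A κ))).comap
          (e : κ ⊗[A] MvPolynomial (Fin n) A →+* MvPolynomial (Fin n) κ) := by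
      rw [Ideal.map_le_iff_le_comap]
      intro x hx
      rw [Ideal.mem_comap, Ideal.mem_comap]
      have : e (Algebra.TensorProduct.includeRight x) = MvPolynomial.map (algebraMap A κ) x := by
        rw [Algebra.TensorProduct.includeRight_apply, he,
          MvPolynomial.algebraTensorAlgEquiv_tmul, one_smul]
      change e (Algebra.TensorProduct.includeRight x) ∈ _
      rw [this]
      exact Ideal.mem_map_of_mem _ hx
    have := key hw
    rw [Ideal.mem_comap] at this
    change e (e.symm z) ∈ _ at this
    rwa [AlgEquiv.apply_symm_apply] at this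
  · rw [Ideal.map_le_iff_le_comap]
    intro x hx
    rw [Ideal.mem_comap, RingHom.mem_ker]
    change fibPres κ f (MvPolynomial.map (algebraMap A κ) x) = 0
    have hx' : f x = 0 := hx
    rw [fibPres_map, hx', TensorProduct.tmul_zero]

end Groth.Agent.Lib.Seat31.FibrePres
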