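import Groth.Agent.Lib.Seat31KRDown

/-!
# Seat31: Koszul-regular ideals and polynomial rings

* `isKoszulRegularIdeal_span`: the ideal generated by a Koszul-regular sequence;
* `isKoszulRegularIdeal_comap_equiv`: transport along ring isomorphisms;
* `isKoszulRegularIdeal_comap_evalRingHom`, `isKoszulRegularIdeal_comap_eval`: `J ⊆ R` is
  Koszul-regular iff `(J, X_i - g_i) ⊆ R[X_1, …, X_n]` is.
-/

set_option autoImplicit false
universe u
open CategoryTheory CategoryTheory.Limits

namespace Groth.Agent.Lib.Seat31.KR

section Basic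

variable {S S' : Type u} [CommRing S] [CommRing S']

/-- the ideal generated by a Koszul-regular sequence is a Koszul-regular ideal. -/
theorem isKoszulRegularIdeal_span (l : List S) (hl : LCI.IsKoszulRegularSeq S l) :
    LCI.IsKoszulRegularIdeal (Ideal.span {x | x ∈ l}) := by
  intro 𝔭 _
  refine ⟨1, fun h => 𝔭.isPrime.ne_top ((Ideal.eq_top_iff_one _).2 h),
    l.map (algebraMap S (Localization.Away (1 : S))), ?_, (span_map_list _ l)⟩
  refine Groth.Agent.Lib.Seat40.RegSeqFlat.koszul_of_flat _ ?_ l hl
  rw [RingHom.flat_algebraMap_iff]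
  exact IsLocalization.flat _ (Submonoid.powers (1 : S))

theorem isKoszulRegularIdeal_bot : LCI.IsKoszulRegularIdeal (⊥ : Ideal S) := by
  have := isKoszulRegularIdeal_span ([] : List S) kr_nil
  simpa using this

theorem isKoszulRegularIdeal_span_singleton (t : S) (ht : t ∈ nonZeroDivisors S) :
    LCI.IsKoszulRegularIdeal (Ideal.span {t}) := by
  have := isKoszulRegularIdeal_span [t] (kr_singleton t ht)
  simpa using this

/-- transport along ring isomorphisms. -/
theorem isKoszulRegularIdeal_comap_equiv (e : S ≃+* S') (J : Ideal S') :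
    LCI.IsKoszulRegularIdeal (J.comap (e : S →+* S')) ↔ LCI.IsKoszulRegularIdeal J := by
  have key : ∀ {T T' : Type u} [CommRing T] [CommRing T'] (e : T ≃+* T') (J : Ideal T'),
      LCI.IsKoszulRegularIdeal J → LCI.IsKoszulRegularIdeal (J.comap (e : T →+* T')) := by
    intro T T' _ _ e J hJ
    refine isKoszulRegularIdeal_comap (e : T →+* T') e.surjective ?_ J hJ
    have : RingHom.ker (e : T →+* T') = ⊥ := (RingHom.injective_iff_ker_eq_bot _).1 e.injective
    rw [this]
    exact isKoszulRegularIdeal_bot
  refine ⟨fun h => ?_, key e J⟩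
  have := key e.symm _ h
  rwa [Ideal.comap_comap, RingEquiv.comp_symm, Ideal.comap_id] at this

end Basic

section Poly

open Polynomial

variable {R : Type u} [CommRing R]

/-- Koszul-regularity of an ideal `J ⊆ R` is equivalent to that of `(J, X - g) ⊆ R[X]`. -/
theorem isKoszulRegularIdeal_comap_evalRingHom (g : R) (J : Ideal R) :
    LCI.IsKoszulRegularIdeal (J.comap (Polynomial.evalRingHom g)) ↔
      LCI.IsKoszulRegularIdeal J := by
  have hsurj : Function.Surjective (Polynomial.evalRingHom g) := fun r => ⟨C r, by simp⟩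
  have ht : (X - C g : R[X]) ∈ nonZeroDivisors R[X] := (monic_X_sub_C g).mem_nonZeroDivisors
  constructor
  · intro h
    refine isKoszulRegularIdeal_of_comap (Polynomial.evalRingHom g) hsurj (X - C g)
      (Polynomial.ker_evalRingHom g) ht (fun p => derivative p) (fun a b => map_add _ a b)
      (fun a b => by simp [derivative_mul]) ?_ J h
    intro 𝔮 h𝔮 _
    simp only [derivative_sub, derivative_X, derivative_C, sub_zero]
    exact fun h1 => h𝔮.ne_top ((Ideal.eq_top_iff_one _).2 h1)
  · intro h
    refine isKoszulRegularIdeal_comap _ hsurj ?_ J h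
    rw [Polynomial.ker_evalRingHom]
    exact isKoszulRegularIdeal_span_singleton _ ht

end Poly


section MvPoly

variable {R : Type u} [CommRing R]

/-- evaluation factors through `finSuccEquiv`. -/
lemma eval_eq_comp_finSuccEquiv {n : ℕ} (g : Fin (n + 1) → R) :
    MvPolynomial.eval g =
      ((MvPolynomial.eval (fun i : Fin n => g i.succ)).comp
        (Polynomial.evalRingHom (MvPolynomial.C (g 0)))).comp
        ((MvPolynomial.finSuccEquiv R n : MvPolynomial (Fin (n + 1)) R ≃+*
          Polynomial (MvPolynomial (Fin n) R)) : MvPolynomial (Fin (n + 1)) R →+* _) := by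
  apply MvPolynomial.ringHom_ext
  · intro r
    simp [MvPolynomial.finSuccEquiv_apply]
  · intro i
    refine Fin.cases ?_ (fun j => ?_) i
    · simp [MvPolynomial.finSuccEquiv_X_zero]
    · simp [MvPolynomial.finSuccEquiv_X_succ]

/-- Koszul-regularity of an ideal `J ⊆ R` is equivalent to that of
`(J, X_i - g_i) ⊆ R[X_1, …, X_n]`. -/
theorem isKoszulRegularIdeal_comap_eval : ∀ (n : ℕ) (R : Type u) [CommRing R] (g : Fin n → R)
    (J : Ideal R),
    LCI.IsKoszulRegularIdeal (J.comap (MvPolynomial.eval g)) ↔ LCI.IsKoszulRegularIdeal J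
  | 0, R, _, g, J => by
    have h : MvPolynomial.eval g =
        ((MvPolynomial.isEmptyRingEquiv R (Fin 0) : MvPolynomial (Fin 0) R ≃+* R) :
          MvPolynomial (Fin 0) R →+* R) := by
      apply MvPolynomial.ringHom_ext
      · intro r
        have hC : (MvPolynomial.C r : MvPolynomial (Fin 0) R) =
            (MvPolynomial.isEmptyRingEquiv R (Fin 0)).symm r :=
          (MvPolynomial.isEmptyRingEquiv_symm_apply (R := R) (Fin 0) r).symm
        rw [MvPolynomial.eval_C, RingHom.coe_coe, hC, RingEquiv.apply_symm_apply]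
      · intro i
        exact i.elim0
    rw [h]
    exact isKoszulRegularIdeal_comap_equiv _ J
  | n + 1, R, _, g, J => by
    rw [eval_eq_comp_finSuccEquiv g, ← Ideal.comap_comap, ← Ideal.comap_comap,
      isKoszulRegularIdeal_comap_equiv, isKoszulRegularIdeal_comap_evalRingHom,
      isKoszulRegularIdeal_comap_eval n R]

end MvPoly

end Groth.Agent.Lib.Seat31.KR
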