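import Groth.Agent.Lib.Seat31LciLocal

/-!
# Seat31: permanence of local complete intersection ring maps

* `isKoszulRegularIdeal_map_of_flat`: flat base change of Koszul-regular ideals;
* `isLCI_of_presentation`, `isLCI_of_algEquiv`, `isLCI_self`;
* `isLCI_comp`: lci ring maps compose;
* `exists_presentation_away`, `isLCI_away`: localizations away from an element of the target.
-/

set_option autoImplicit false
universe u
open CategoryTheory CategoryTheory.Limits

namespace Groth.Agent.Lib.Seat31.LciHom

open Groth.Agent.Lib.Seat31.KR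

section Flat

variable {R R' : Type u} [CommRing R] [CommRing R']

/-- flat base change of Koszul-regular ideals. -/
theorem isKoszulRegularIdeal_map_of_flat (ψ : R →+* R') (hψ : ψ.Flat) (I : Ideal R)
    (hI : LCI.IsKoszulRegularIdeal I) : LCI.IsKoszulRegularIdeal (I.map ψ) := by
  intro 𝔮' h𝔮'
  have hprime : (𝔮'.asIdeal.comap ψ).IsPrime := inferInstance
  obtain ⟨g, hg, l, hl, hspan⟩ := hI ⟨_, hprime⟩ (Ideal.map_le_iff_le_comap.1 h𝔮')
  refine ⟨ψ g, hg, l.map (Localization.awayMap ψ g), ?_, ?_⟩
  · refine Groth.Agent.Lib.Seat40.RegSeqFlat.koszul_of_flat _ ?_ l hl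
    exact RingHom.Flat.propertyIsLocal.localizationAwayPreserves ψ g _ _ hψ
  · have hcomp : (Localization.awayMap ψ g).comp (algebraMap R (Localization.Away g)) =
        (algebraMap R' (Localization.Away (ψ g))).comp ψ := IsLocalization.map_comp _
    rw [Ideal.map_map, ← hcomp, ← Ideal.map_map, hspan, span_map_list]

end Flat


section Pres

variable {A C C' P : Type u} [CommRing A] [CommRing C] [CommRing C'] [CommRing P]
  [Algebra A C] [Algebra A C'] [Algebra A P]

/-- lci from a presentation by any algebra isomorphic to a polynomial algebra. -/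
theorem isLCI_of_presentation (N : ℕ) (e : MvPolynomial (Fin N) A ≃ₐ[A] P) (γ : P →ₐ[A] C)
    (hγ : Function.Surjective γ) (hK : LCI.IsKoszulRegularIdeal (RingHom.ker γ.toRingHom)) :
    LCI.IsLCI A C := by
  have hsurj : Function.Surjective (γ.comp e.toAlgHom) := hγ.comp e.surjective
  refine ⟨Algebra.FiniteType.of_surjective (γ.comp e.toAlgHom) hsurj, N,
    γ.comp e.toAlgHom, hsurj, ?_⟩
  have : RingHom.ker (γ.comp e.toAlgHom).toRingHom =
      (RingHom.ker γ.toRingHom).comap (e.toRingEquiv : MvPolynomial (Fin N) A →+* P) := by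
    rw [RingHom.comap_ker]
    rfl
  rw [this]
  exact (isKoszulRegularIdeal_comap_equiv e.toRingEquiv _).2 hK

/-- lci is invariant under algebra isomorphisms. -/
theorem isLCI_of_algEquiv (e : C ≃ₐ[A] C') (h : LCI.IsLCI A C) : LCI.IsLCI A C' := by
  obtain ⟨hft, n, f, hf, hK⟩ := h
  have hsurj : Function.Surjective (e.toAlgHom.comp f) := e.surjective.comp hf
  refine ⟨Algebra.FiniteType.of_surjective (e.toAlgHom.comp f) hsurj, n, e.toAlgHom.comp f, hsurj, ?_⟩
  have : RingHom.ker (e.toAlgHom.comp f).toRingHom = RingHom.ker f.toRingHom := by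
    ext x
    simp only [RingHom.mem_ker]
    show e (f x) = 0 ↔ f x = 0
    exact EmbeddingLike.map_eq_zero_iff
  rw [this]
  exact hK

/-- the identity is lci. -/
theorem isLCI_self : LCI.IsLCI A A := by
  refine isLCI_of_presentation 0 (AlgEquiv.refl) (MvPolynomial.isEmptyAlgEquiv A (Fin 0)).toAlgHom
    (MvPolynomial.isEmptyAlgEquiv A (Fin 0)).surjective ?_
  have : RingHom.ker (MvPolynomial.isEmptyAlgEquiv A (Fin 0)).toAlgHom.toRingHom = ⊥ :=
    (RingHom.injective_iff_ker_eq_bot _).1 (MvPolynomial.isEmptyAlgEquiv A (Fin 0)).injective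
  rw [this]
  exact isKoszulRegularIdeal_bot

end Pres


section Comp

variable {A B C : Type u} [CommRing A] [CommRing B] [CommRing C]
  [Algebra A B] [Algebra B C] [Algebra A C] [IsScalarTower A B C]

/-- local complete intersection homomorphisms compose. -/
theorem isLCI_comp (h1 : LCI.IsLCI A B) (h2 : LCI.IsLCI B C) : LCI.IsLCI A C := by
  obtain ⟨-, n, α, hα, hI⟩ := h1
  obtain ⟨-, m, β, hβ, hJ⟩ := h2
  let μ : MvPolynomial (Fin m) (MvPolynomial (Fin n) A) →+* MvPolynomial (Fin m) B :=
    MvPolynomial.map α.toRingHom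
  have hμ : Function.Surjective μ := MvPolynomial.map_surjective _ hα
  have hkerμ : LCI.IsKoszulRegularIdeal (RingHom.ker μ) := by
    rw [MvPolynomial.ker_map]
    refine isKoszulRegularIdeal_map_of_flat _ ?_ _ hI
    rw [← MvPolynomial.algebraMap_eq, RingHom.flat_algebraMap_iff]
    infer_instance
  have hK := isKoszulRegularIdeal_comap μ hμ hkerμ _ hJ
  have hcomm : ∀ a : A, (β.toRingHom.comp μ) (algebraMap A _ a) = algebraMap A C a := by
    intro a
    have h1 : algebraMap A (MvPolynomial (Fin m) (MvPolynomial (Fin n) A)) a =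
        MvPolynomial.C (MvPolynomial.C a) := rfl
    have h2 : α.toRingHom (MvPolynomial.C a) = algebraMap A B a := α.commutes a
    have h3 : β.toRingHom (MvPolynomial.C (algebraMap A B a)) =
        algebraMap B C (algebraMap A B a) := β.commutes _
    rw [RingHom.comp_apply, h1]
    show β.toRingHom (MvPolynomial.map α.toRingHom (MvPolynomial.C (MvPolynomial.C a))) = _
    rw [MvPolynomial.map_C, h2, h3, ← IsScalarTower.algebraMap_apply]
  let γ : MvPolynomial (Fin m) (MvPolynomial (Fin n) A) →ₐ[A] C :=
    { β.toRingHom.comp μ with commutes' := hcomm }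
  have hγ : Function.Surjective γ := hβ.comp hμ
  have hkerγ : RingHom.ker γ.toRingHom = (RingHom.ker β.toRingHom).comap μ := by
    rw [RingHom.comap_ker]
  let e : MvPolynomial (Fin (m + n)) A ≃ₐ[A] MvPolynomial (Fin m) (MvPolynomial (Fin n) A) :=
    (MvPolynomial.renameEquiv A finSumFinEquiv.symm).trans
      (MvPolynomial.sumAlgEquiv A (Fin m) (Fin n))
  exact isLCI_of_presentation (m + n) e γ hγ (hkerγ ▸ hK)

end Comp

section Away

variable {R S : Type u} [CommRing R] [CommRing S] [Algebra R S]

/-- a presentation of `S_{α s}` from a presentation `α` of `S`. -/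
theorem exists_presentation_away {n : ℕ} (α : MvPolynomial (Fin n) R →ₐ[R] S)
    (hα : Function.Surjective α) (s : MvPolynomial (Fin n) R) :
    ∃ β : MvPolynomial (Fin (n + 1)) R →ₐ[R] Localization.Away (α.toRingHom s),
      Function.Surjective β ∧ RingHom.ker β.toRingHom =
        (((RingHom.ker α.toRingHom).map (algebraMap (MvPolynomial (Fin n) R)
          (Localization.Away s))).comap (awayPoly s)).comap
            ((MvPolynomial.finSuccEquiv R n).toRingEquiv : _ →+* _) := by
  let fse : MvPolynomial (Fin (n + 1)) R ≃+* Polynomial (MvPolynomial (Fin n) R) :=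
    (MvPolynomial.finSuccEquiv R n).toRingEquiv
  let βr : MvPolynomial (Fin (n + 1)) R →+* Localization.Away (α.toRingHom s) :=
    (Localization.awayMap α.toRingHom s).comp ((awayPoly s).comp (fse : _ →+* _))
  have hcomm : ∀ r : R, βr (algebraMap R _ r) = algebraMap R (Localization.Away (α.toRingHom s)) r := by
    intro r
    have h1 : fse (algebraMap R (MvPolynomial (Fin (n + 1)) R) r) =
        Polynomial.C (MvPolynomial.C r) := by
      have := (MvPolynomial.finSuccEquiv R n).commutes r
      rw [Polynomial.algebraMap_apply, MvPolynomial.algebraMap_eq] at this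
      exact this
    have h2 : Localization.awayMap α.toRingHom s
        (algebraMap (MvPolynomial (Fin n) R) (Localization.Away s) (MvPolynomial.C r)) =
        algebraMap S (Localization.Away (α.toRingHom s)) (α.toRingHom (MvPolynomial.C r)) :=
      IsLocalization.map_eq _ _
    simp only [βr, RingHom.comp_apply, RingHom.coe_coe, h1, awayPoly_C, h2]
    have h3 : α.toRingHom (MvPolynomial.C r) = algebraMap R S r := α.commutes r
    rw [h3, ← IsScalarTower.algebraMap_apply]
  refine ⟨{ βr with commutes' := hcomm }, ?_, ?_⟩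
  · show Function.Surjective βr
    exact (Groth.Agent.Lib.Seat31.LciPerf.awayMap_surjective α.toRingHom hα s).comp
      ((awayPoly_surjective s).comp fse.surjective)
  · show RingHom.ker βr = _
    rw [Ideal.comap_comap, ← Groth.Agent.Lib.Seat31.LciPerf.ker_awayMap, RingHom.comap_ker]

/-- a localization (away from an element) of an lci algebra is lci. -/
theorem isLCI_away (h : LCI.IsLCI R S) (s : S) : LCI.IsLCI R (Localization.Away s) := by
  obtain ⟨-, n, α, hα, hI⟩ := h
  obtain ⟨s', rfl⟩ := hα s
  obtain ⟨β, hβ, hker⟩ := exists_presentation_away α hα s'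
  refine isLCI_of_presentation (n + 1) AlgEquiv.refl β hβ ?_
  rw [hker]
  refine (isKoszulRegularIdeal_comap_equiv _ _).2 ?_
  refine isKoszulRegularIdeal_comap (awayPoly s') (awayPoly_surjective s') ?_ _ ?_
  · rw [ker_awayPoly]
    exact isKoszulRegularIdeal_span_singleton _ (sub_one_mem_nonZeroDivisors s')
  · refine isKoszulRegularIdeal_map_of_flat _ ?_ _ hI
    rw [RingHom.flat_algebraMap_iff]
    exact IsLocalization.flat _ (Submonoid.powers s')

end Away

end Groth.Agent.Lib.Seat31.LciHom
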