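import Groth.Agent.S9269

/-!
# Seat31: being a local complete intersection is local on the source

* `exists_krLoc_of_map`: Koszul-regularity of `I P_s` gives Koszul-regular generators of `I` near
  every prime of `D(s)`;
* `awayPoly s : P[X] → P_s` and `isKoszulRegularIdeal_of_comap_awayPoly` (descent along it);
* `isKoszulRegularIdeal_map_of_isLCI_away`, `isLCI_of_localizations` (S9253).
-/

set_option autoImplicit false
universe u
open CategoryTheory CategoryTheory.Limits

namespace Groth.Agent.Lib.Seat31.KR

variable {P : Type u} [CommRing P]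

/-- transport of `KRLoc`-type data along an isomorphism of `P`-algebras. -/
lemma exists_list_of_algEquiv {T T' : Type u} [CommRing T] [CommRing T'] [Algebra P T]
    [Algebra P T'] (e : T ≃ₐ[P] T') (I : Ideal P) (l : List T)
    (hl : LCI.IsKoszulRegularSeq T l)
    (hspan : I.map (algebraMap P T) = Ideal.span {x | x ∈ l}) :
    ∃ l' : List T', LCI.IsKoszulRegularSeq T' l' ∧
      I.map (algebraMap P T') = Ideal.span {x | x ∈ l'} := by
  refine ⟨l.map (e : T →+* T'), ?_, ?_⟩
  · refine Groth.Agent.Lib.Seat40.RegSeqFlat.koszul_of_flat _ ?_ l hl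
    exact RingHom.Flat.of_bijective e.bijective
  · have : (e : T →+* T').comp (algebraMap P T) = algebraMap P T' := by
      ext a
      exact e.commutes a
    rw [← this, ← Ideal.map_map, hspan, span_map_list]

/-- Koszul-regularity of `I P_s` gives local Koszul-regular generators of `I` on `D(s)`. -/
theorem exists_krLoc_of_map (I : Ideal P) (s : P)
    (hK : LCI.IsKoszulRegularIdeal (I.map (algebraMap P (Localization.Away s))))
    (𝔭 : PrimeSpectrum P) (hI : I ≤ 𝔭.asIdeal) (hs : s ∉ 𝔭.asIdeal) :
    ∃ g' : P, g' ∉ 𝔭.asIdeal ∧ KRLoc I g' := by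
  have hdisj : Disjoint (Submonoid.powers s : Set P) (𝔭.asIdeal : Set P) := by
    rw [Set.disjoint_left]
    rintro x ⟨k, rfl⟩ hx
    exact hs (𝔭.isPrime.mem_of_pow_mem k hx)
  have hprime : (𝔭.asIdeal.map (algebraMap P (Localization.Away s))).IsPrime :=
    IsLocalization.isPrime_of_isPrime_disjoint (Submonoid.powers s) _ _ 𝔭.isPrime hdisj
  obtain ⟨h, hh, hloc⟩ := hK ⟨_, hprime⟩ (Ideal.map_mono hI)
  obtain ⟨k, h', hk⟩ := IsLocalization.Away.surj s h
  have hu : IsUnit (algebraMap P (Localization.Away s) s) :=
    IsLocalization.Away.algebraMap_isUnit s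
  have hloc' : KRLoc (I.map (algebraMap P (Localization.Away s)))
      (algebraMap P (Localization.Away s) h') := by
    rw [← hk]
    exact KRLoc.mul_right hloc _
  have hh' : h' ∉ 𝔭.asIdeal := by
    intro hmem
    apply hh
    have := Ideal.mem_map_of_mem (algebraMap P (Localization.Away s)) hmem
    rw [← hk, Ideal.mul_unit_mem_iff_mem _ (hu.pow k)] at this
    exact this
  obtain ⟨l, hl, hspan⟩ := hloc'
  rw [Ideal.map_map, ← IsScalarTower.algebraMap_eq] at hspan
  obtain ⟨l', hl', hspan'⟩ := exists_list_of_algEquiv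
    (IsLocalization.algEquiv (Submonoid.powers (s * h'))
      (Localization.Away (algebraMap P (Localization.Away s) h'))
      (Localization.Away (s * h'))) I l hl hspan
  exact ⟨s * h', fun hmem => (𝔭.isPrime.mem_or_mem hmem).elim hs hh', l', hl', hspan'⟩


section Away

open Polynomial

variable (s : P)

/-- the surjection `P[X] → P_s`, `X ↦ 1/s`. -/
noncomputable def awayPoly : P[X] →+* Localization.Away s :=
  ((Localization.awayEquivAdjoin s).symm : AdjoinRoot (C s * X - 1) →+* Localization.Away s).comp
    (AdjoinRoot.mk (C s * X - 1))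

lemma awayPoly_surjective : Function.Surjective (awayPoly s) :=
  (Localization.awayEquivAdjoin s).symm.surjective.comp AdjoinRoot.mk_surjective

lemma ker_awayPoly : RingHom.ker (awayPoly s) = Ideal.span {C s * X - 1} := by
  unfold awayPoly
  rw [← RingHom.comap_ker]
  have : RingHom.ker ((Localization.awayEquivAdjoin s).symm :
      AdjoinRoot (C s * X - 1) →+* Localization.Away s) = ⊥ :=
    (RingHom.injective_iff_ker_eq_bot _).1 (Localization.awayEquivAdjoin s).symm.injective
  rw [this, ← RingHom.ker_eq_comap_bot]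
  exact Ideal.mk_ker

lemma awayPoly_C (p : P) : awayPoly s (C p) = algebraMap P (Localization.Away s) p := by
  unfold awayPoly
  rw [RingHom.comp_apply, AdjoinRoot.mk_C, ← AdjoinRoot.algebraMap_eq]
  exact (Localization.awayEquivAdjoin s).symm.commutes p

lemma sub_one_mem_nonZeroDivisors : (C s * X - 1 : P[X]) ∈ nonZeroDivisors P[X] := by
  rw [mem_nonZeroDivisors_iff]
  have key : ∀ p : P[X], p * (C s * X - 1) = 0 → p = 0 := by
    intro p hp
    have h1 : p = p * C s * X := by
      have : p * (C s * X - 1) = p * C s * X - p := by ring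
      rw [this, sub_eq_zero] at hp
      exact hp.symm
    ext k
    induction k with
    | zero =>
      rw [h1, coeff_mul_X_zero, coeff_zero]
    | succ k ih =>
      rw [h1, coeff_mul_X, coeff_mul_C, ih, coeff_zero, zero_mul, coeff_zero]
  refine ⟨fun p hp => key p (by rw [mul_comm]; exact hp), fun p hp => key p hp⟩

/-- descent of Koszul-regularity along `P[X] → P_s`. -/
theorem isKoszulRegularIdeal_of_comap_awayPoly (J : Ideal (Localization.Away s))
    (h : LCI.IsKoszulRegularIdeal (J.comap (awayPoly s))) : LCI.IsKoszulRegularIdeal J := by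
  refine isKoszulRegularIdeal_of_comap (awayPoly s) (awayPoly_surjective s) (C s * X - 1)
    (ker_awayPoly s) (sub_one_mem_nonZeroDivisors s) (fun p => derivative p)
    (fun a b => map_add _ a b) (fun a b => by simp [derivative_mul]) ?_ J h
  intro 𝔮 h𝔮 ht
  have hD : derivative (C s * X - 1 : P[X]) = C s := by
    simp [derivative_mul]
  rw [hD]
  intro hs
  apply h𝔮.ne_top
  rw [Ideal.eq_top_iff_one]
  have : (1 : P[X]) = C s * X - (C s * X - 1) := by ring
  rw [this]
  exact Ideal.sub_mem _ (Ideal.mul_mem_right _ _ hs) ht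

end Away


section Main

variable {R S : Type u} [CommRing R] [CommRing S] [Algebra R S]

/-- if `S_{α s}` is lci over `R` then the kernel of any presentation `α` of `S` is Koszul-regular
on `D(s)`. -/
theorem isKoszulRegularIdeal_map_of_isLCI_away {n : ℕ} (α : MvPolynomial (Fin n) R →ₐ[R] S)
    (hα : Function.Surjective α) (s : MvPolynomial (Fin n) R)
    (hlci : LCI.IsLCI R (Localization.Away (α.toRingHom s))) :
    LCI.IsKoszulRegularIdeal ((RingHom.ker α.toRingHom).map
      (algebraMap (MvPolynomial (Fin n) R) (Localization.Away s))) := by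
  let fse : MvPolynomial (Fin (n + 1)) R ≃+* Polynomial (MvPolynomial (Fin n) R) :=
    (MvPolynomial.finSuccEquiv R n).toRingEquiv
  let βr : MvPolynomial (Fin (n + 1)) R →+* Localization.Away (α.toRingHom s) :=
    (Localization.awayMap α.toRingHom s).comp ((awayPoly s).comp (fse : _ →+* _))
  have hcomm : ∀ r : R, βr (algebraMap R _ r) = algebraMap R (Localization.Away (α.toRingHom s)) r := by
    intro r
    have h1 : fse (algebraMap R (MvPolynomial (Fin (n + 1)) R) r) =
        Polynomial.C (MvPolynomial.C r) := by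
      have := (MvPolynomial.finSuccEquiv R n).commutes r
      rw [Polynomial.algebraMap_apply, MvPolynomial.algebraMap_eq] at this
      exact this
    have h2 : Localization.awayMap α.toRingHom s
        (algebraMap (MvPolynomial (Fin n) R) (Localization.Away s) (MvPolynomial.C r)) =
        algebraMap S (Localization.Away (α.toRingHom s)) (α.toRingHom (MvPolynomial.C r)) :=
      IsLocalization.map_eq _ _
    simp only [βr, RingHom.comp_apply, RingHom.coe_coe, h1, awayPoly_C, h2]
    have h3 : α.toRingHom (MvPolynomial.C r) = algebraMap R S r := α.commutes r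
    rw [h3, ← IsScalarTower.algebraMap_apply]
  let β : MvPolynomial (Fin (n + 1)) R →ₐ[R] Localization.Away (α.toRingHom s) :=
    { βr with commutes' := hcomm }
  have hβ : Function.Surjective β := by
    show Function.Surjective βr
    exact (Groth.Agent.Lib.Seat31.LciPerf.awayMap_surjective α.toRingHom hα s).comp
      ((awayPoly_surjective s).comp fse.surjective)
  obtain ⟨n', f', hf', hK'⟩ := hlci.2
  have hKβ := Groth.Agent.S9269.ker_of_other_presentation R _ n' (n + 1) f' hf' β hβ hK'
  have hker : RingHom.ker β.toRingHom =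
      (((RingHom.ker α.toRingHom).map (algebraMap (MvPolynomial (Fin n) R)
        (Localization.Away s))).comap (awayPoly s)).comap (fse : _ →+* _) := by
    show RingHom.ker βr = _
    rw [Ideal.comap_comap, ← Groth.Agent.Lib.Seat31.LciPerf.ker_awayMap, RingHom.comap_ker]
  rw [hker] at hKβ
  exact isKoszulRegularIdeal_of_comap_awayPoly s _
    ((isKoszulRegularIdeal_comap_equiv fse _).1 hKβ)

/-- being lci is local on the source. -/
theorem isLCI_of_localizations (m : ℕ) (g : Fin m → S) (hg : Ideal.span (Set.range g) = ⊤)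
    (h : ∀ j, LCI.IsLCI R (Localization.Away (g j))) : LCI.IsLCI R S := by
  have hft : Algebra.FiniteType R S := by
    rw [← RingHom.finiteType_algebraMap]
    refine RingHom.finiteType_ofLocalizationSpanTarget (algebraMap R S) (Set.range g) hg ?_
    rintro ⟨_, j, rfl⟩
    rw [← IsScalarTower.algebraMap_eq, RingHom.finiteType_algebraMap]
    exact (h j).1
  obtain ⟨n, α, hα⟩ := Algebra.FiniteType.iff_quotient_mvPolynomial''.1 hft
  refine ⟨hft, n, α, hα, ?_⟩
  intro 𝔭 h𝔭
  choose sj hsj using fun j => hα (g j)
  obtain ⟨j, hj⟩ : ∃ j, sj j ∉ 𝔭.asIdeal := by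
    by_contra hall
    push Not at hall
    have h1 : (1 : S) ∈ Ideal.span (Set.range g) := by rw [hg]; trivial
    obtain ⟨a, ha⟩ := Ideal.mem_span_range_iff_exists_fun.1 h1
    choose b hb using fun j => hα (a j)
    have h2 : (1 - ∑ j, b j * sj j) ∈ RingHom.ker α.toRingHom := by
      rw [RingHom.mem_ker]
      show α (1 - ∑ j, b j * sj j) = 0
      rw [map_sub, map_one, map_sum, ← ha, sub_eq_zero]
      refine Finset.sum_congr rfl fun j _ => ?_
      rw [map_mul, hb, hsj]
    have h3 : (∑ j, b j * sj j) ∈ 𝔭.asIdeal :=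
      Ideal.sum_mem _ fun j _ => Ideal.mul_mem_left _ _ (hall j)
    have h4 := Ideal.add_mem _ (h𝔭 h2) h3
    rw [sub_add_cancel] at h4
    exact 𝔭.isPrime.ne_top ((Ideal.eq_top_iff_one _).2 h4)
  have hlci : LCI.IsLCI R (Localization.Away (α.toRingHom (sj j))) := by
    have h5 : α.toRingHom (sj j) = g j := hsj j
    rw [h5]
    exact h j
  exact exists_krLoc_of_map _ (sj j)
    (isKoszulRegularIdeal_map_of_isLCI_away α hα (sj j) hlci) 𝔭 h𝔭 hj

end Main

end Groth.Agent.Lib.Seat31.KR
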