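import Mathlib
import Groth.Prelude.Def_RegImm
import Groth.Agent.Lib.Helper28FGDim
import Groth.Agent.Lib.Seat56RelGCI6
import Groth.Agent.Lib.Seat7KRDescentA
import Groth.Agent.Lib.Seat31KRPoly
import Groth.Agent.Lib.Seat31LciHom
import Groth.Agent.S9253

/-!
# Seat31: complete intersections over a field are lci algebras (`LCI.IsLCI`)

* `isKoszulRegularSeq_of_gci`: the relations of a global complete intersection presentation
  `k[x_1..x_n]/(r_1..r_c)`, `dim = n - c`, form a Koszul-regular sequence;
* `isLCI_of_isGlobalCI`: `Synt.IsGlobalCI k G → LCI.IsLCI k G`;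
* `isLCI_of_isLCIOver`: `Synt.IsLCIOver k F → LCI.IsLCI k F`.
-/

set_option autoImplicit false
set_option linter.style.haveILetI false

universe u

open MvPolynomial

namespace Groth.Agent.Lib.Seat31.FieldCI

open Groth.Agent.Lib.Helper28 Groth.Agent.Lib.Seat56.RelGCI Groth.Agent.Lib.Seat7.KRDescentA

variable (k : Type u) [Field k] {G : Type u} [CommRing G] [Algebra k G]

/-- the height count: for a complete intersection presentation the number of relations is at most
the height of the kernel. -/
theorem natCast_le_height_ker {n c : ℕ} (hcn : c ≤ n)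
    (φ : MvPolynomial (Fin n) k →ₐ[k] G) (hφ : Function.Surjective φ) [Nontrivial G]
    (hdim : ringKrullDim G = ((n - c : ℕ) : WithBot ℕ∞)) :
    (c : ℕ∞) ≤ (RingHom.ker φ.toRingHom).height := by
  have hk : LocCoh.IsCohenMacaulayRing k := isCohenMacaulayRing_of_field k
  have hS : LocCoh.IsCohenMacaulayRing (MvPolynomial (Fin n) k) :=
    isCohenMacaulayRing_mvPolynomial_fin n
  have hKtop : RingHom.ker φ.toRingHom ≠ ⊤ := RingHom.ker_ne_top _
  let e : (MvPolynomial (Fin n) k ⧸ RingHom.ker φ.toRingHom) ≃+* G :=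
    RingHom.quotientKerEquivOfSurjective (f := φ.toRingHom) hφ
  have h1 := height_add_ringKrullDim_quotient_eq_of_forall_isMaximal_height_eq' n
    (height_eq_of_isMaximal_mvPolynomial_fin k n) _ hKtop
  rw [ringKrullDim_eq_of_ringEquiv e, hdim] at h1
  have h2 : (RingHom.ker φ.toRingHom).height + ((n - c : ℕ) : ℕ∞) = (n : ℕ∞) := by
    have : (((RingHom.ker φ.toRingHom).height + ((n - c : ℕ) : ℕ∞) : ℕ∞) : WithBot ℕ∞) =
        ((n : ℕ∞) : WithBot ℕ∞) := by
      rw [WithBot.coe_add]; exact h1
    exact WithBot.coe_injective this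
  have h4 : ((c : ℕ∞) + ((n - c : ℕ) : ℕ∞)) = (n : ℕ∞) := by
    have : c + (n - c) = n := by omega
    exact_mod_cast this
  rw [← h4] at h2
  exact le_of_eq ((ENat.add_left_injective_of_ne_top (ENat.natCast_ne_top (n - c))) h2).symm

/-- the relations of a global complete intersection form a Koszul-regular sequence. -/
theorem isKoszulRegularSeq_of_gci {n c : ℕ} (hcn : c ≤ n)
    (φ : MvPolynomial (Fin n) k →ₐ[k] G) (r : Fin c → MvPolynomial (Fin n) k)
    (hφ : Function.Surjective φ)
    (hker : RingHom.ker φ.toRingHom = Ideal.span (Set.range r))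
    (hdim : ringKrullDim G = ((n - c : ℕ) : WithBot ℕ∞)) :
    LCI.IsKoszulRegularSeq (MvPolynomial (Fin n) k) (List.ofFn r) := by
  have hk : LocCoh.IsCohenMacaulayRing k := isCohenMacaulayRing_of_field k
  have hS : LocCoh.IsCohenMacaulayRing (MvPolynomial (Fin n) k) :=
    isCohenMacaulayRing_mvPolynomial_fin n
  have hnt : Nontrivial G := by
    by_contra hnot
    rw [not_nontrivial_iff_subsingleton] at hnot
    rw [ringKrullDim_eq_bot_of_subsingleton] at hdim
    exact absurd hdim (by simp)
  set xs : List (MvPolynomial (Fin n) k) := List.ofFn r with hxs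
  have hof : RingHom.ker φ.toRingHom = Ideal.ofList xs := by
    rw [hker]
    unfold Ideal.ofList
    congr 1
    ext x
    simp [hxs, List.mem_ofFn]
  have hlen : xs.length = c := by simp [hxs]
  have h3 : (xs.length : ℕ∞) ≤ (Ideal.ofList xs).height := by
    rw [hlen, ← hof]
    exact natCast_le_height_ker k hcn φ hφ hdim
  apply kr_of_forall_maximal
  intro m hm
  haveI : m.IsPrime := hm.isPrime
  by_cases hle : Ideal.ofList xs ≤ m
  · have hreg := isRegular_map_localization_of_length_le_height xs h3 m hle
    exact kr_of_isWeaklyRegular _ _ hreg.toIsWeaklyRegular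
  · obtain ⟨x, hxI, hxm⟩ := SetLike.not_le_iff_exists.mp hle
    apply kr_of_span_eq_top
    have hu : IsUnit (algebraMap (MvPolynomial (Fin n) k) (Localization.AtPrime m) x) :=
      IsLocalization.map_units (Localization.AtPrime m) (⟨x, hxm⟩ : m.primeCompl)
    have hmem : algebraMap (MvPolynomial (Fin n) k) (Localization.AtPrime m) x ∈
        Ideal.span {y | y ∈ xs.map
          (algebraMap (MvPolynomial (Fin n) k) (Localization.AtPrime m))} := by
      have h1 : Ideal.span {y | y ∈ xs.map
          (algebraMap (MvPolynomial (Fin n) k) (Localization.AtPrime m))} =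
          (Ideal.ofList xs).map
            (algebraMap (MvPolynomial (Fin n) k) (Localization.AtPrime m)) := by
        rw [Ideal.map_ofList]
      rw [h1]
      exact Ideal.mem_map_of_mem _ hxI
    exact Ideal.eq_top_of_isUnit_mem _ hmem hu

/-- **a global complete intersection over a field is an lci algebra.** -/
theorem isLCI_of_isGlobalCI (h : Synt.IsGlobalCI k G) : LCI.IsLCI k G := by
  rcases h with hs | ⟨n, c, hcn, φ, r, hφ, hker, hdim⟩
  · -- the zero ring
    have hsurj : Function.Surjective
        (MvPolynomial.aeval (R := k) (fun _ : Fin 0 => (0 : G))) := fun y =>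
      ⟨0, Subsingleton.elim _ _⟩
    refine ⟨Algebra.FiniteType.of_surjective _ hsurj, 0, _, hsurj, ?_⟩
    intro 𝔭 h𝔭
    exfalso
    have h1 : (1 : MvPolynomial (Fin 0) k) ∈ 𝔭.asIdeal := by
      have : (1 : MvPolynomial (Fin 0) k) ∈
          RingHom.ker (MvPolynomial.aeval (R := k) (fun _ : Fin 0 => (0 : G))).toRingHom := by
        rw [RingHom.mem_ker]
        exact Subsingleton.elim _ _
      exact h𝔭 this
    exact 𝔭.isPrime.ne_top ((Ideal.eq_top_iff_one _).2 h1)
  · have hkr := isKoszulRegularSeq_of_gci k hcn φ r hφ hker hdim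
    refine ⟨Algebra.FiniteType.of_surjective φ hφ, n, φ, hφ, ?_⟩
    have hspan : RingHom.ker φ.toRingHom = Ideal.span {x | x ∈ List.ofFn r} := by
      rw [hker]
      congr 1
      ext x
      simp [List.mem_ofFn]
    rw [hspan]
    exact Groth.Agent.Lib.Seat31.KR.isKoszulRegularIdeal_span _ hkr

/-- **a local complete intersection over a field is an lci algebra.** -/
theorem isLCI_of_isLCIOver {F : Type u} [CommRing F] [Algebra k F] (h : Synt.IsLCIOver k F) :
    LCI.IsLCI k F := by
  obtain ⟨hft, hloc⟩ := h
  set s : Set F := {g | LCI.IsLCI k (Localization.Away g)} with hs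
  have hspan : Ideal.span s = ⊤ := by
    by_contra hne
    obtain ⟨m, hm, hle⟩ := Ideal.exists_le_maximal _ hne
    obtain ⟨g, hg, hG⟩ := hloc ⟨m, hm.isPrime⟩
    exact hg (hle (Ideal.subset_span (isLCI_of_isGlobalCI k hG)))
  obtain ⟨t, hts, ht⟩ := (Ideal.span_eq_top_iff_finite s).1 hspan
  classical
  let e := t.equivFin
  refine Groth.Agent.S9253.result k F t.card (fun j => ((e.symm j : t) : F)) ?_ ?_
  · have : Set.range (fun j => ((e.symm j : t) : F)) = (t : Set F) := by
      ext x
      constructor
      · rintro ⟨j, rfl⟩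
        exact (e.symm j).2
      · intro hx
        exact ⟨e ⟨x, hx⟩, by simp⟩
    rw [this]
    exact ht
  · intro j
    exact hts (e.symm j).2

end Groth.Agent.Lib.Seat31.FieldCI
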