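import Mathlib
import Groth.Prelude.Def_RegImm
import Groth.Agent.Lib.Helper28FGDim
import Groth.Agent.Lib.Helper28ProjNormal
import Groth.Agent.Lib.Helper5TensorFieldsCM
import Groth.Agent.Lib.Helper19LciH1B
import Groth.Agent.Lib.Seat40RegSeqFlat
import Groth.Agent.Lib.Seat31KRLoc
import Groth.Agent.Lib.Seat31LciHom
import Groth.Agent.Lib.Seat31LciPerf

/-!
# Seat31: lci algebras over a field are local complete intersections (`Synt.IsLCIOver`)

* `natCast_length_le_height_of_kr`: a Koszul-regular sequence of length `c` in a Noetherian ring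
  generates an ideal all of whose primes have height `≥ c`;
* `ringKrullDim_quotient_of_kr`: in a Cohen–Macaulay ring all of whose maximal ideals have height
  `N`, the quotient by a Koszul-regular sequence of length `c` has dimension `N - c`;
* `isGlobalCI_away_of_krLoc`: if the kernel of `α : k[x_1..x_n] → F` is generated on `D(g₀)` by a
  Koszul-regular sequence, `F_{α g₀}` is a global complete intersection;
* `isLCIOver_of_isLCI`: `LCI.IsLCI k F → Synt.IsLCIOver k F`.
-/

set_option autoImplicit false
set_option linter.style.haveILetI false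

universe u

open MvPolynomial

namespace Groth.Agent.Lib.Seat31.FieldCI

open Groth.Agent.Lib.Helper28 Groth.Agent.Lib.Seat31.KR Groth.Agent.Lib.Seat31.LciHom
open Groth.Agent.Helper13Kz Groth.Agent.Helper13KzLift

section Height

variable {B : Type u} [CommRing B]

/-- a Koszul-regular sequence in a Noetherian ring, localized at a prime containing it, is (read
backwards) a regular sequence. -/
theorem isRegular_reverse_atPrime_of_kr [IsNoetherianRing B] (l : List B)
    (hl : LCI.IsKoszulRegularSeq B l) (Q : Ideal B) [Q.IsPrime]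
    (hle : Ideal.ofList l ≤ Q) :
    RingTheory.Sequence.IsRegular (Localization.AtPrime Q)
      (l.map (algebraMap B (Localization.AtPrime Q))).reverse := by
  have hflat : (algebraMap B (Localization.AtPrime Q)).Flat := by
    rw [RingHom.flat_algebraMap_iff]
    exact IsLocalization.flat (Localization.AtPrime Q) Q.primeCompl
  have hkr := Groth.Agent.Lib.Seat40.RegSeqFlat.koszul_of_flat _ hflat l hl
  have hmem : ∀ y ∈ l.map (algebraMap B (Localization.AtPrime Q)),
      y ∈ IsLocalRing.maximalIdeal (Localization.AtPrime Q) := by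
    intro y hy
    obtain ⟨a, ha, rfl⟩ := List.mem_map.mp hy
    rw [← Localization.AtPrime.map_eq_maximalIdeal]
    exact Ideal.mem_map_of_mem _ (hle (Ideal.subset_span ha))
  have hreg := Groth.Agent.Lib.Helper19.LciH1.isWeaklyRegular_reverse_of_koszul
    (Localization.AtPrime Q) _ hmem ((isKoszulRegularSeq_iff _ _).mp hkr)
  refine ⟨hreg, ?_⟩
  rw [smul_eq_mul, Ideal.mul_top, Groth.Agent.Lib.Helper19.LciH1.ofList_reverse]
  intro htop
  have hle' : Ideal.ofList (l.map (algebraMap B (Localization.AtPrime Q))) ≤
      IsLocalRing.maximalIdeal (Localization.AtPrime Q) := Ideal.span_le.2 hmem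
  rw [← htop] at hle'
  exact (IsLocalRing.maximalIdeal.isMaximal _).ne_top (top_le_iff.mp hle')

/-- primes containing a Koszul-regular sequence of length `c` have height at least `c`. -/
theorem natCast_length_le_height_of_kr [IsNoetherianRing B] (l : List B)
    (hl : LCI.IsKoszulRegularSeq B l) (Q : Ideal B) [Q.IsPrime]
    (hle : Ideal.ofList l ≤ Q) : (l.length : ℕ∞) ≤ Q.height := by
  have hreg := isRegular_reverse_atPrime_of_kr l hl Q hle
  haveI : IsNoetherianRing (Localization.AtPrime Q) :=
    IsLocalization.isNoetherianRing Q.primeCompl _ inferInstance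
  have h1 := ringKrullDim_add_length_eq_ringKrullDim_of_isRegular _ hreg
  rw [IsLocalization.AtPrime.ringKrullDim_eq_height Q (Localization.AtPrime Q),
    List.length_reverse, List.length_map] at h1
  have hnt : Nontrivial (Localization.AtPrime Q ⧸
      Ideal.ofList (l.map (algebraMap B (Localization.AtPrime Q))).reverse) := by
    apply Ideal.Quotient.nontrivial_iff.2
    have := hreg.2
    rw [smul_eq_mul, Ideal.mul_top] at this
    exact fun h => this h.symm
  have h2 : (0 : WithBot ℕ∞) ≤ ringKrullDim (Localization.AtPrime Q ⧸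
      Ideal.ofList (l.map (algebraMap B (Localization.AtPrime Q))).reverse) :=
    ringKrullDim_nonneg_of_nontrivial
  have h3 : ((l.length : ℕ∞) : WithBot ℕ∞) ≤ ((Q.height : ℕ∞) : WithBot ℕ∞) := by
    rw [← h1]
    calc ((l.length : ℕ∞) : WithBot ℕ∞) = 0 + ((l.length : ℕ) : WithBot ℕ∞) := by
          rw [zero_add]; rfl
      _ ≤ _ := add_le_add h2 le_rfl
  exact WithBot.coe_le_coe.mp h3

theorem natCast_length_le_height_ofList_of_kr [IsNoetherianRing B] (l : List B)
    (hl : LCI.IsKoszulRegularSeq B l) : (l.length : ℕ∞) ≤ (Ideal.ofList l).height := by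
  rw [Ideal.height_eq_inf_minimalPrimes]
  refine le_iInf₂ (fun J hJ => ?_)
  haveI : J.IsPrime := hJ.1.1
  exact natCast_length_le_height_of_kr l hl J hJ.1.2

/-- in a Cohen–Macaulay ring with all maximal ideals of height `N`, the quotient by a
Koszul-regular sequence of length `c` generating a proper ideal has dimension `N - c`. -/
theorem ringKrullDim_quotient_of_kr [hB : LocCoh.IsCohenMacaulayRing B] (N : ℕ)
    (hN : ∀ m : Ideal B, m.IsMaximal → m.height = N) (l : List B)
    (hl : LCI.IsKoszulRegularSeq B l) (hne : Ideal.ofList l ≠ ⊤) :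
    l.length ≤ N ∧
      ringKrullDim (B ⧸ Ideal.ofList l) = ((N - l.length : ℕ) : WithBot ℕ∞) := by
  haveI : IsNoetherianRing B := inferInstance
  have h := natCast_length_le_height_ofList_of_kr l hl
  obtain ⟨-, hQ⟩ := isCohenMacaulayRing_quotient_of_eq_ofList l (Ideal.ofList l) rfl h
  haveI hnt : Nontrivial (B ⧸ Ideal.ofList l) := Ideal.Quotient.nontrivial_iff.2 hne
  have hmax : ∀ m' : Ideal (B ⧸ Ideal.ofList l), m'.IsMaximal →
      (m'.height + l.length : ℕ∞) = N := by
    intro m' hm'
    haveI := hm'.isPrime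
    rw [hQ m']
    exact hN _ (Ideal.comap_isMaximal_of_surjective _ Ideal.Quotient.mk_surjective)
  obtain ⟨m₀, hm₀⟩ := Ideal.exists_maximal (B ⧸ Ideal.ofList l)
  have hcN : l.length ≤ N := by
    have h1 := hmax m₀ hm₀
    have h2 : ((l.length : ℕ) : ℕ∞) ≤ (N : ℕ∞) := by
      rw [← h1]
      exact le_add_self
    exact_mod_cast h2
  refine ⟨hcN, ?_⟩
  refine ringKrullDim_eq_of_forall_isMaximal_height_eq (A := B ⧸ Ideal.ofList l)
    (N - l.length) (fun m' hm' => ?_)
  have h1 := hmax m' hm'
  have h4 : (((N - l.length : ℕ) : ℕ∞) + ((l.length : ℕ) : ℕ∞)) = (N : ℕ∞) := by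
    have : (N - l.length) + l.length = N := by omega
    exact_mod_cast this
  rw [← h4] at h1
  exact (ENat.add_left_injective_of_ne_top (ENat.natCast_ne_top l.length)) h1

end Height

section Main

variable (k : Type u) [Field k] {F : Type u} [CommRing F] [Algebra k F]

/-- every maximal ideal of `k[x_1..x_n]_{g₀}` has height `n`. -/
theorem height_eq_of_isMaximal_away (n : ℕ) (g₀ : MvPolynomial (Fin n) k)
    (m : Ideal (Localization.Away g₀)) (hm : m.IsMaximal) : m.height = n := by
  haveI := hm.isPrime
  have h1 := (IsLocalization.isMaximal_iff_isMaximal_disjoint (Localization.Away g₀) g₀ m).1 hm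
  rw [← IsLocalization.height_under (Submonoid.powers g₀) m]
  exact height_eq_of_isMaximal_mvPolynomial_fin k n _ h1.1

open Polynomial in
/-- if the kernel of a presentation `α : k[x_1..x_n] → F` is generated on `D(g₀)` by a
Koszul-regular sequence then `F_{α g₀}` is a global complete intersection over `k`. -/
theorem isGlobalCI_away_of_krLoc {n : ℕ} (α : MvPolynomial (Fin n) k →ₐ[k] F)
    (hα : Function.Surjective α) (g₀ : MvPolynomial (Fin n) k)
    (h : KRLoc (RingHom.ker α.toRingHom) g₀) :
    Synt.IsGlobalCI k (Localization.Away (α.toRingHom g₀)) := by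
  by_cases htriv : Subsingleton (Localization.Away (α.toRingHom g₀))
  · exact Or.inl htriv
  rw [not_subsingleton_iff_nontrivial] at htriv
  right
  obtain ⟨l, hl, hspan⟩ := h
  have hk : LocCoh.IsCohenMacaulayRing k := isCohenMacaulayRing_of_field k
  have hS : LocCoh.IsCohenMacaulayRing (MvPolynomial (Fin n) k) :=
    isCohenMacaulayRing_mvPolynomial_fin n
  have hB : LocCoh.IsCohenMacaulayRing (Localization.Away g₀) :=
    Groth.Agent.Lib.Helper5.TensorFieldsCM.isCohenMacaulayRing_of_isLocalization
      (Submonoid.powers g₀) _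
  -- the dimension
  have hsurj := Groth.Agent.Lib.Seat31.LciPerf.awayMap_surjective α.toRingHom hα g₀
  have hker : RingHom.ker (Localization.awayMap α.toRingHom g₀) = Ideal.ofList l := by
    rw [Groth.Agent.Lib.Seat31.LciPerf.ker_awayMap, hspan]
  have hne : Ideal.ofList l ≠ ⊤ := by
    rw [← hker]
    exact RingHom.ker_ne_top _
  obtain ⟨hcn, hdim⟩ := ringKrullDim_quotient_of_kr n (height_eq_of_isMaximal_away k n g₀) l hl hne
  have hdim' : ringKrullDim (Localization.Away (α.toRingHom g₀)) =
      ((n - l.length : ℕ) : WithBot ℕ∞) := by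
    rw [← hdim]
    have e : (Localization.Away g₀ ⧸ Ideal.ofList l) ≃+* Localization.Away (α.toRingHom g₀) :=
      (Ideal.quotientEquivAlgOfEq (Localization.Away g₀) hker.symm).toRingEquiv.trans
        (RingHom.quotientKerEquivOfSurjective hsurj)
    exact (ringKrullDim_eq_of_ringEquiv e).symm
  -- the presentation
  obtain ⟨β, hβ, hkerβ⟩ := exists_presentation_away α hα g₀
  obtain ⟨l', hl'⟩ := (List.map_surjective_iff.2 (awayPoly_surjective g₀)) l
  set fse : MvPolynomial (Fin (n + 1)) k ≃+* Polynomial (MvPolynomial (Fin n) k) :=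
    (MvPolynomial.finSuccEquiv k n).toRingEquiv with hfse
  set L : List (MvPolynomial (Fin (n + 1)) k) :=
    fse.symm (Polynomial.C g₀ * Polynomial.X - 1) :: l'.map fse.symm with hL
  have hLlen : L.length = l.length + 1 := by
    rw [hL, List.length_cons, List.length_map, ← hl', List.length_map]
  refine ⟨n + 1, L.length, by omega, β, L.get, hβ, ?_, ?_⟩
  · rw [hkerβ, Set.range_list_get, hspan]
    have h1 : Ideal.span {x | x ∈ l} = (Ideal.span {x | x ∈ l'}).map (awayPoly g₀) := by
      rw [span_map_list, hl']
    rw [h1, Ideal.comap_map_of_surjective _ (awayPoly_surjective g₀), ← RingHom.ker_eq_comap_bot,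
      ker_awayPoly]
    have h2 : ∀ J : Ideal (Polynomial (MvPolynomial (Fin n) k)),
        J.comap (fse : MvPolynomial (Fin (n + 1)) k →+* _) =
          J.map (fse.symm : Polynomial (MvPolynomial (Fin n) k) →+* _) := fun J =>
      (Ideal.map_symm fse).symm
    rw [h2, Ideal.map_sup, span_map_list, Ideal.map_span, Set.image_singleton, sup_comm,
      ← Ideal.span_union]
    congr 1
    ext x
    simp [hL]
  · rw [hdim', hLlen, Nat.add_sub_add_right]

/-- **an lci algebra over a field is a local complete intersection.** -/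
theorem isLCIOver_of_isLCI (h : LCI.IsLCI k F) : Synt.IsLCIOver k F := by
  obtain ⟨hft, n, α, hα, hK⟩ := h
  refine ⟨hft, fun p => ?_⟩
  have hle : RingHom.ker α.toRingHom ≤ p.asIdeal.comap α.toRingHom := by
    intro x hx
    rw [Ideal.mem_comap, (RingHom.mem_ker).1 hx]
    exact p.asIdeal.zero_mem
  obtain ⟨g₀, hg₀, hkr⟩ := hK ⟨p.asIdeal.comap α.toRingHom, inferInstance⟩ hle
  exact ⟨α.toRingHom g₀, hg₀, isGlobalCI_away_of_krLoc k α hα g₀ hkr⟩

end Main

end Groth.Agent.Lib.Seat31.FieldCI
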