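import Mathlib

/-!
# Seat31: a criterion for the localization `M_s` to be finite free over `R_s`
-/

set_option autoImplicit false

universe u v

namespace Groth.Agent.Lib.Seat31.LocFree

variable {R : Type u} [CommRing R] (s : R) {M : Type v} [AddCommGroup M] [Module R M]

/-- if, up to powers of `s`, the family `m` generates `M` and is linearly independent, then
`M_s` is finite free over `R_s`. -/
theorem free_finite_localizedModule_away {r : ℕ} (m : Fin r → M)
    (hG : ∀ x : M, ∃ (k : ℕ) (c : Fin r → R), s ^ k • x = ∑ i, c i • m i)
    (hI : ∀ (c : Fin r → R) (k : ℕ), s ^ k • ∑ i, c i • m i = 0 → ∀ i, ∃ k' : ℕ, s ^ k' * c i = 0) :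
    Module.Free (Localization.Away s) (LocalizedModule.Away s M) ∧
      Module.Finite (Localization.Away s) (LocalizedModule.Away s M) := by
  classical
  let φ : (Fin r → R) →ₗ[R] M := Fintype.linearCombination R m
  have hφ : ∀ c, φ c = ∑ i, c i • m i := fun c => Fintype.linearCombination_apply R m c
  let Φ := LocalizedModule.map (Submonoid.powers s) φ
  have hinj : Function.Injective Φ := by
    rw [injective_iff_map_eq_zero]
    intro x hx
    induction x using LocalizedModule.induction_on with
    | h c t =>
      rw [LocalizedModule.map_mk] at hx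
      rw [← LocalizedModule.zero_mk t, LocalizedModule.mk_eq] at hx
      obtain ⟨⟨_, k, rfl⟩, hu⟩ := hx
      simp only [smul_zero] at hu
      have hu' : s ^ k • t • φ c = 0 := hu
      obtain ⟨_, k₂, rfl⟩ := t
      have h2 : s ^ (k + k₂) • ∑ i, c i • m i = 0 := by
        rw [← hφ, pow_add, mul_smul]
        exact hu'
      have h3 := hI c (k + k₂) h2
      choose k' hk' using h3
      rw [← LocalizedModule.zero_mk (⟨s ^ k₂, k₂, rfl⟩ : Submonoid.powers s), LocalizedModule.mk_eq]
      refine ⟨⟨s ^ (∑ i, k' i), _, rfl⟩, ?_⟩
      simp only [smul_zero]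
      change s ^ (∑ i, k' i) • s ^ k₂ • c = 0
      rw [smul_comm]
      have : s ^ (∑ i, k' i) • c = 0 := by
        funext i
        rw [Pi.smul_apply, Pi.zero_apply, smul_eq_mul,
          ← Finset.add_sum_erase Finset.univ k' (Finset.mem_univ i), pow_add, mul_right_comm,
          hk' i, zero_mul]
      rw [this, smul_zero]
  have hsurj : Function.Surjective Φ := by
    intro y
    induction y using LocalizedModule.induction_on with
    | h x t =>
      obtain ⟨k, c, hc⟩ := hG x
      refine ⟨LocalizedModule.mk c (⟨s ^ k, k, rfl⟩ * t), ?_⟩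
      rw [LocalizedModule.map_mk, hφ, ← hc, LocalizedModule.mk_eq]
      refine ⟨1, ?_⟩
      simp only [one_smul]
      change t • s ^ k • x = (s ^ k * (t : R)) • x
      rw [mul_smul, smul_comm]
      rfl
  let e : LocalizedModule (Submonoid.powers s) (Fin r → R) ≃ₗ[Localization.Away s]
      LocalizedModule.Away s M := LinearEquiv.ofBijective Φ ⟨hinj, hsurj⟩
  have hfree : Module.Free (Localization.Away s)
      (LocalizedModule (Submonoid.powers s) (Fin r → R)) :=
    Module.free_of_isLocalizedModule (Submonoid.powers s)
      (LocalizedModule.mkLinearMap (Submonoid.powers s) (Fin r → R))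
  have hfin : Module.Finite (Localization.Away s)
      (LocalizedModule (Submonoid.powers s) (Fin r → R)) :=
    Module.Finite.of_isLocalizedModule (Submonoid.powers s)
      (LocalizedModule.mkLinearMap (Submonoid.powers s) (Fin r → R))
  exact ⟨Module.Free.of_equiv e, Module.Finite.equiv e⟩

end Groth.Agent.Lib.Seat31.LocFree
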