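import Mathlib
import Groth.Prelude.Def_LCI2
import Groth.Agent.Lib.Seat31KoszulSyz
import Groth.Agent.Lib.Seat31KoszulLocal
import Groth.Agent.Lib.Seat31LocFree

/-!
# Seat31: the conormal module of a Koszul-regular ideal is finite projective

For an extension `E` of `B` (a surjection `E.Ring → B`) whose kernel is a Koszul-regular ideal,
`E.Cotangent = I/I²` is a finite projective `B`-module.
-/

set_option autoImplicit false

universe u

open Algebra

namespace Groth.Agent.Lib.Seat31.KoszulCot

variable {A B : Type u} [CommRing A] [CommRing B] [Algebra A B] (E : Extension.{u} A B)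

/-- local freeness of `I/I²` on `D(g)` when `I_g` is generated by a sequence whose Koszul complex
is exact in degree `-1`. -/
theorem free_finite_away (g : E.Ring) (l : List (Localization.Away g))
    (hH : CategoryTheory.Limits.IsZero ((Koszul.koszul (Localization.Away g) l).homology (-1)))
    (hspan : E.ker.map (algebraMap E.Ring (Localization.Away g)) = Ideal.span {x | x ∈ l}) :
    Module.Free (Localization.Away (algebraMap E.Ring B g))
        (LocalizedModule.Away (algebraMap E.Ring B g) E.Cotangent) ∧
      Module.Finite (Localization.Away (algebraMap E.Ring B g))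
        (LocalizedModule.Away (algebraMap E.Ring B g) E.Cotangent) := by
  have hspan' : E.ker.map (algebraMap E.Ring (Localization.Away g)) =
      Ideal.span (Set.range l.get) := by rw [Set.range_list_get]; exact hspan
  have hSP : ∀ a : Fin l.length → Localization.Away g, ∑ i, a i * l.get i = 0 →
      ∀ i, a i ∈ Ideal.span (Set.range l.get) := by
    intro a ha i
    rw [Set.range_list_get]
    exact KoszulSyz.coeff_mem_of_relation l _ (fun x hx => Ideal.subset_span hx) hH a ha i
  have hmem : ∀ i, l.get i ∈ E.ker.map (algebraMap E.Ring (Localization.Away g)) := by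
    intro i
    rw [hspan']
    exact Ideal.subset_span ⟨i, rfl⟩
  obtain ⟨n, x, hxI, hx⟩ :=
    KoszulLocal.exists_common_of_mem_map E.ker g (Localization.Away g) l.get hmem
  refine LocFree.free_finite_localizedModule_away (algebraMap E.Ring B g)
    (fun i => Extension.Cotangent.mk ⟨x i, hxI i⟩) ?_ ?_
  · -- generation
    intro y
    obtain ⟨⟨z, hz⟩, rfl⟩ := Extension.Cotangent.mk_surjective y
    obtain ⟨k, q, hq⟩ := KoszulLocal.generate E.ker g (Localization.Away g) l.get hspan' n x hx hz
    refine ⟨k, fun i => algebraMap E.Ring B (q i), ?_⟩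
    rw [← map_pow, algebraMap_smul, ← map_smul]
    simp only [algebraMap_smul, ← map_smul, ← map_sum]
    congr 1
    ext
    simp only [SetLike.mk_smul_mk, smul_eq_mul, hq, Submodule.coe_sum]
  · -- independence
    intro c k hc i
    choose p hp using fun i => E.algebraMap_surjective (c i)
    have hc' : (Extension.Cotangent.mk (⟨g ^ k * ∑ i, p i * x i,
        Ideal.mul_mem_left _ _ (Ideal.sum_mem _ fun i _ => Ideal.mul_mem_left _ _ (hxI i))⟩ :
          E.ker) : E.Cotangent) = 0 := by
      rw [← hc, ← map_pow, algebraMap_smul]
      have hsm : ∀ i, c i • (Extension.Cotangent.mk ⟨x i, hxI i⟩ : E.Cotangent) =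
          Extension.Cotangent.mk (p i • (⟨x i, hxI i⟩ : E.ker)) := fun i => by
        rw [← hp i, algebraMap_smul, map_smul]
      simp only [hsm, ← map_sum, ← map_smul]
      congr 1
      ext
      simp only [SetLike.mk_smul_mk, smul_eq_mul, Submodule.coe_smul, Submodule.coe_sum]
    rw [Extension.Cotangent.mk_eq_zero_iff] at hc'
    obtain ⟨k', hk'⟩ := KoszulLocal.independent E.ker g (Localization.Away g) l.get hspan' n x hx
      hSP p k hc' i
    refine ⟨k', ?_⟩
    rw [← hp i, ← map_pow, ← map_mul]
    exact hk'


/-- **The conormal module of a Koszul-regular ideal is finite projective.** -/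
theorem finite_projective_cotangent (h : LCI.IsKoszulRegularIdeal E.ker) :
    Module.Finite B E.Cotangent ∧ Module.Projective B E.Cotangent := by
  let s : Set B := {b | ∃ g : E.Ring, algebraMap E.Ring B g = b ∧
    ∃ l : List (Localization.Away g),
      CategoryTheory.Limits.IsZero ((Koszul.koszul (Localization.Away g) l).homology (-1)) ∧
      E.ker.map (algebraMap E.Ring (Localization.Away g)) = Ideal.span {x | x ∈ l}}
  have hs : Ideal.span s = ⊤ := by
    by_contra hne
    obtain ⟨𝔪, h𝔪, hle⟩ := Ideal.exists_le_maximal _ hne
    have hp : (𝔪.comap (algebraMap E.Ring B)).IsPrime := Ideal.comap_isPrime _ _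
    have hker : E.ker ≤ 𝔪.comap (algebraMap E.Ring B) := by
      intro z hz
      rw [Ideal.mem_comap]
      have : algebraMap E.Ring B z = 0 := hz
      rw [this]
      exact Ideal.zero_mem _
    obtain ⟨g, hg, l, hl, hspan⟩ := h ⟨_, hp⟩ hker
    apply hg
    rw [Ideal.mem_comap]
    exact hle (Ideal.subset_span ⟨g, rfl, l, hl (-1) (by decide), hspan⟩)
  have hloc : ∀ b : s, Module.Free (Localization.Away b.1) (LocalizedModule.Away b.1 E.Cotangent) ∧
      Module.Finite (Localization.Away b.1) (LocalizedModule.Away b.1 E.Cotangent) := by
    rintro ⟨b, g, rfl, l, hl, hspan⟩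
    exact free_finite_away E g l hl hspan
  have hfp : Module.FinitePresentation B E.Cotangent :=
    Module.FinitePresentation.of_localizationSpan s hs (fun b => by
      have := (hloc b).1
      have := (hloc b).2
      exact Module.finitePresentation_of_projective _ _)
  have hflat : Module.Flat B E.Cotangent :=
    Module.flat_of_localized_span B E.Cotangent s hs (fun b => by
      have := (hloc b).1
      have : Module.Flat (Localization.Away b.1) (LocalizedModule.Away b.1 E.Cotangent) :=
        inferInstance
      exact Module.Flat.trans B (Localization.Away b.1) _)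
  exact ⟨inferInstance,
    Module.Flat.projective_of_finitePresentation⟩

end Groth.Agent.Lib.Seat31.KoszulCot
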