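import Groth.Prelude.Def_SheafNL

/-!
# Seat31: isomorphism criteria for the chain maps `NLCx.map` and `NLCx.bcMap`

A chain map out of a `HomologicalComplex.double` into a `double` is an isomorphism as soon as its
two nontrivial components are bijective.
-/

set_option autoImplicit false

universe u

open CategoryTheory CategoryTheory.Limits TensorProduct

namespace Groth.Agent.Lib.Seat31.NLIso

section General

variable {S : Type u} [CommRing S]

/-- an `S`-linear bijection gives an isomorphism in `ModuleCat`. -/
lemma isIso_ofHom_of_bijective {M N : Type u} [AddCommGroup M] [AddCommGroup N] [Module S M]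
    [Module S N] (f : M →ₗ[S] N) (hf : Function.Bijective f) : IsIso (ModuleCat.ofHom f) := by
  have : (ModuleCat.ofHom f) = (LinearEquiv.toModuleIso (LinearEquiv.ofBijective f hf)).hom := rfl
  rw [this]
  infer_instance

/-- a morphism between zero objects is an isomorphism. -/
lemma isIso_of_isZero {C : Type*} [Category C] [HasZeroMorphisms C] {X Y : C} (f : X ⟶ Y)
    (hX : IsZero X) (hY : IsZero Y) : IsIso f :=
  ⟨⟨0, hX.eq_of_src _ _, hY.eq_of_src _ _⟩⟩

end General

section SameTop

variable {R S : Type u} [CommRing R] [CommRing S] [Algebra R S]
variable {R' : Type u} [CommRing R'] [Algebra R' S] [Algebra R R'] [IsScalarTower R R' S]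

/-- `NLCx.map f` is an isomorphism of complexes when both of its components are bijective. -/
theorem isIso_map {P : Algebra.Extension.{u} R S} {P' : Algebra.Extension.{u} R' S} (f : P.Hom P')
    (h₀ : Function.Bijective (Algebra.Extension.Cotangent.map f))
    (h₁ : Function.Bijective (Algebra.Extension.CotangentSpace.map f)) :
    IsIso (NLCx.map f) := by
  have hc : ∀ n : ℤ, IsIso ((NLCx.map f).f n) := by
    intro n
    by_cases hn0 : n = -1
    · subst hn0
      have := isIso_ofHom_of_bijective _ h₀
      have e : (NLCx.map f).f (-1) =
          (HomologicalComplex.doubleXIso₀ (ModuleCat.ofHom P.cotangentComplex) _).hom ≫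
            (ModuleCat.ofHom (Algebra.Extension.Cotangent.map f) ≫
              (HomologicalComplex.doubleXIso₀ (ModuleCat.ofHom P'.cotangentComplex) _).inv) :=
        HomologicalComplex.mkHomFromDouble_f₀ _ _ _ _ _ _
      rw [e]
      exact IsIso.comp_isIso' (Iso.isIso_hom _) (IsIso.comp_isIso' this (Iso.isIso_inv _))
    · by_cases hn1 : n = 0
      · subst hn1
        have := isIso_ofHom_of_bijective _ h₁
        have e : (NLCx.map f).f 0 =
            (HomologicalComplex.doubleXIso₁ (ModuleCat.ofHom P.cotangentComplex) _ (by decide)).hom ≫
              (ModuleCat.ofHom (Algebra.Extension.CotangentSpace.map f) ≫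
                (HomologicalComplex.doubleXIso₁ (ModuleCat.ofHom P'.cotangentComplex) _
                  (by decide)).inv) :=
          HomologicalComplex.mkHomFromDouble_f₁ _ _ _ _ _ _
        rw [e]
        exact IsIso.comp_isIso' (Iso.isIso_hom _) (IsIso.comp_isIso' this (Iso.isIso_inv _))
      · exact isIso_of_isZero _ (HomologicalComplex.isZero_double_X _ _ n hn0 hn1)
          (HomologicalComplex.isZero_double_X _ _ n hn0 hn1)
  exact HomologicalComplex.Hom.isIso_of_components _

end SameTop

section BaseChange

variable {R S : Type u} [CommRing R] [CommRing S] [Algebra R S]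
variable {R' S' : Type u} [CommRing R'] [CommRing S'] [Algebra R' S'] [Algebra R R'] [Algebra S S']
  [Algebra R S'] [IsScalarTower R R' S'] [IsScalarTower R S S']

/-- `NLCx.bcMap f` is an isomorphism of complexes when both of its components are bijective. -/
theorem isIso_bcMap {P : Algebra.Extension.{u} R S} {P' : Algebra.Extension.{u} R' S'} (f : P.Hom P')
    (h₀ : Function.Bijective (LinearMap.liftBaseChange S' (Algebra.Extension.Cotangent.map f)))
    (h₁ : Function.Bijective (LinearMap.liftBaseChange S' (Algebra.Extension.CotangentSpace.map f))) :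
    IsIso (NLCx.bcMap (S' := S') f) := by
  have hc : ∀ n : ℤ, IsIso ((NLCx.bcMap (S' := S') f).f n) := by
    intro n
    by_cases hn0 : n = -1
    · subst hn0
      have := isIso_ofHom_of_bijective _ h₀
      have e : (NLCx.bcMap (S' := S') f).f (-1) =
          (HomologicalComplex.doubleXIso₀
              (ModuleCat.ofHom (P.cotangentComplex.baseChange S')) _).hom ≫
            (ModuleCat.ofHom (LinearMap.liftBaseChange S' (Algebra.Extension.Cotangent.map f)) ≫
              (HomologicalComplex.doubleXIso₀ (ModuleCat.ofHom P'.cotangentComplex) _).inv) :=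
        HomologicalComplex.mkHomFromDouble_f₀ _ _ _ _ _ _
      rw [e]
      exact IsIso.comp_isIso' (Iso.isIso_hom _) (IsIso.comp_isIso' this (Iso.isIso_inv _))
    · by_cases hn1 : n = 0
      · subst hn1
        have := isIso_ofHom_of_bijective _ h₁
        have e : (NLCx.bcMap (S' := S') f).f 0 =
            (HomologicalComplex.doubleXIso₁
                (ModuleCat.ofHom (P.cotangentComplex.baseChange S')) _ (by decide)).hom ≫
              (ModuleCat.ofHom
                  (LinearMap.liftBaseChange S' (Algebra.Extension.CotangentSpace.map f)) ≫
                (HomologicalComplex.doubleXIso₁ (ModuleCat.ofHom P'.cotangentComplex) _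
                  (by decide)).inv) :=
          HomologicalComplex.mkHomFromDouble_f₁ _ _ _ _ _ _
        rw [e]
        exact IsIso.comp_isIso' (Iso.isIso_hom _) (IsIso.comp_isIso' this (Iso.isIso_inv _))
      · exact isIso_of_isZero _ (HomologicalComplex.isZero_double_X _ _ n hn0 hn1)
          (HomologicalComplex.isZero_double_X _ _ n hn0 hn1)
  exact HomologicalComplex.Hom.isIso_of_components _

end BaseChange

end Groth.Agent.Lib.Seat31.NLIso
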