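import Groth.Agent.Lib.Seat31NLBC
import Groth.Agent.Lib.Seat31NLIso
import Mathlib.Algebra.Homology.Homotopy

/-!
# Seat31: homotopies between the chain maps `NLCx.map` and `NLCx.bcMap`
-/

set_option autoImplicit false

universe u v

open CategoryTheory CategoryTheory.Limits TensorProduct

namespace Groth.Agent.Lib.Seat31.NLHtpy

section General

variable {C : Type*} [Category C] [Preadditive C] [HasZeroObject C]
  {X₀ X₁ Y₀ Y₁ : C} (dX : X₀ ⟶ X₁) (dY : Y₀ ⟶ Y₁)

/-- The relation `-1 → 0` in `ComplexShape.up ℤ`. -/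
lemma rel : (ComplexShape.up ℤ).Rel (-1) 0 := by simp

/-- the diagonal data of a homotopy between maps of two-term complexes. -/
noncomputable def diag (s : X₁ ⟶ Y₀) : ∀ i j, (ComplexShape.up ℤ).Rel j i →
    ((HomologicalComplex.double dX rel).X i ⟶ (HomologicalComplex.double dY rel).X j) :=
  fun i j r => if hi : i = 0 then
      eqToHom (by rw [hi]) ≫ (HomologicalComplex.doubleXIso₁ dX rel (by decide)).hom ≫ s ≫
        (HomologicalComplex.doubleXIso₀ dY rel).inv ≫
        eqToHom (by
          have : j = -1 := by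
            simp only [ComplexShape.up_Rel] at r
            omega
          rw [this])
    else 0

lemma diag_zero (s : X₁ ⟶ Y₀) (r : (ComplexShape.up ℤ).Rel (-1) 0) :
    diag dX dY s 0 (-1) r =
      (HomologicalComplex.doubleXIso₁ dX rel (by decide)).hom ≫ s ≫
        (HomologicalComplex.doubleXIso₀ dY rel).inv := by
  simp [diag]

lemma diag_ne (s : X₁ ⟶ Y₀) (i j : ℤ) (r : (ComplexShape.up ℤ).Rel j i) (hi : i ≠ 0) :
    diag dX dY s i j r = 0 := by
  simp [diag, hi]

/-- A homotopy between two maps of two-term complexes (in degrees `-1`, `0`). -/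
noncomputable def homotopyOfDouble
    (φ ψ : HomologicalComplex.double dX rel ⟶ HomologicalComplex.double dY rel) (s : X₁ ⟶ Y₀)
    (h₀ : φ.f (-1) = (HomologicalComplex.doubleXIso₀ dX rel).hom ≫ dX ≫ s ≫
        (HomologicalComplex.doubleXIso₀ dY rel).inv + ψ.f (-1))
    (h₁ : φ.f 0 = (HomologicalComplex.doubleXIso₁ dX rel (by decide)).hom ≫ s ≫ dY ≫
        (HomologicalComplex.doubleXIso₁ dY rel (by decide)).inv + ψ.f 0) :
    Homotopy φ ψ := by
  refine Homotopy.equivSubZero.symm ?_
  have e : φ - ψ = Homotopy.nullHomotopicMap' (diag dX dY s) := by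
    apply HomologicalComplex.from_double_hom_ext
    · rw [Homotopy.nullHomotopicMap'_f (k₂ := -2) (k₁ := -1) (k₀ := 0) (by simp) (by simp),
        diag_zero, diag_ne _ _ _ _ _ _ (by decide), zero_comp, add_zero,
        HomologicalComplex.double_d _ _ (by decide), HomologicalComplex.sub_f_apply, h₀]
      simp
    · rw [Homotopy.nullHomotopicMap'_f (k₂ := -1) (k₁ := 0) (k₀ := 1) (by simp) (by simp),
        diag_zero, diag_ne _ _ _ _ _ _ (by decide), comp_zero, zero_add,
        HomologicalComplex.double_d _ _ (by decide), HomologicalComplex.sub_f_apply, h₁]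
      simp
  rw [e]
  exact Homotopy.nullHomotopy' _

/-- A homotopy between two maps of two-term complexes (in degrees `-1`, `0`) given by their
components. -/
noncomputable def homotopyOfDouble'
    (φ ψ : HomologicalComplex.double dX rel ⟶ HomologicalComplex.double dY rel)
    (a a' : X₀ ⟶ Y₀) (b b' : X₁ ⟶ Y₁) (s : X₁ ⟶ Y₀)
    (hφ₀ : φ.f (-1) = (HomologicalComplex.doubleXIso₀ dX rel).hom ≫ a ≫
        (HomologicalComplex.doubleXIso₀ dY rel).inv)
    (hφ₁ : φ.f 0 = (HomologicalComplex.doubleXIso₁ dX rel (by decide)).hom ≫ b ≫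
        (HomologicalComplex.doubleXIso₁ dY rel (by decide)).inv)
    (hψ₀ : ψ.f (-1) = (HomologicalComplex.doubleXIso₀ dX rel).hom ≫ a' ≫
        (HomologicalComplex.doubleXIso₀ dY rel).inv)
    (hψ₁ : ψ.f 0 = (HomologicalComplex.doubleXIso₁ dX rel (by decide)).hom ≫ b' ≫
        (HomologicalComplex.doubleXIso₁ dY rel (by decide)).inv)
    (ha : a = dX ≫ s + a') (hb : b = s ≫ dY + b') :
    Homotopy φ ψ := by
  refine homotopyOfDouble dX dY φ ψ s ?_ ?_
  · rw [hφ₀, hψ₀, ha]
    simp only [Preadditive.add_comp, Preadditive.comp_add, Category.assoc]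
  · rw [hφ₁, hψ₁, hb]
    simp only [Preadditive.add_comp, Preadditive.comp_add, Category.assoc]

/-- equality of a map of two-term complexes with a composite, checked on components. -/
lemma double_eq_comp {Z₀ Z₁ : C} (dZ : Z₀ ⟶ Z₁)
    (φ : HomologicalComplex.double dX rel ⟶ HomologicalComplex.double dY rel)
    (ψ : HomologicalComplex.double dY rel ⟶ HomologicalComplex.double dZ rel)
    (χ : HomologicalComplex.double dX rel ⟶ HomologicalComplex.double dZ rel)
    (a : X₀ ⟶ Y₀) (b : X₁ ⟶ Y₁) (a' : Y₀ ⟶ Z₀) (b' : Y₁ ⟶ Z₁) (a'' : X₀ ⟶ Z₀) (b'' : X₁ ⟶ Z₁)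
    (hφ₀ : φ.f (-1) = (HomologicalComplex.doubleXIso₀ dX rel).hom ≫ a ≫
        (HomologicalComplex.doubleXIso₀ dY rel).inv)
    (hφ₁ : φ.f 0 = (HomologicalComplex.doubleXIso₁ dX rel (by decide)).hom ≫ b ≫
        (HomologicalComplex.doubleXIso₁ dY rel (by decide)).inv)
    (hψ₀ : ψ.f (-1) = (HomologicalComplex.doubleXIso₀ dY rel).hom ≫ a' ≫
        (HomologicalComplex.doubleXIso₀ dZ rel).inv)
    (hψ₁ : ψ.f 0 = (HomologicalComplex.doubleXIso₁ dY rel (by decide)).hom ≫ b' ≫
        (HomologicalComplex.doubleXIso₁ dZ rel (by decide)).inv)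
    (hχ₀ : χ.f (-1) = (HomologicalComplex.doubleXIso₀ dX rel).hom ≫ a'' ≫
        (HomologicalComplex.doubleXIso₀ dZ rel).inv)
    (hχ₁ : χ.f 0 = (HomologicalComplex.doubleXIso₁ dX rel (by decide)).hom ≫ b'' ≫
        (HomologicalComplex.doubleXIso₁ dZ rel (by decide)).inv)
    (ha : a'' = a ≫ a') (hb : b'' = b ≫ b') : χ = φ ≫ ψ := by
  apply HomologicalComplex.from_double_hom_ext
  · rw [HomologicalComplex.comp_f, hφ₀, hψ₀, hχ₀, ha]
    simp only [Category.assoc, Iso.inv_hom_id_assoc]
  · rw [HomologicalComplex.comp_f, hφ₁, hψ₁, hχ₁, hb]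
    simp only [Category.assoc, Iso.inv_hom_id_assoc]

/-- a map of two-term complexes with identity components is the identity. -/
lemma double_eq_id
    (φ : HomologicalComplex.double dX rel ⟶ HomologicalComplex.double dX rel)
    (a : X₀ ⟶ X₀) (b : X₁ ⟶ X₁)
    (hφ₀ : φ.f (-1) = (HomologicalComplex.doubleXIso₀ dX rel).hom ≫ a ≫
        (HomologicalComplex.doubleXIso₀ dX rel).inv)
    (hφ₁ : φ.f 0 = (HomologicalComplex.doubleXIso₁ dX rel (by decide)).hom ≫ b ≫
        (HomologicalComplex.doubleXIso₁ dX rel (by decide)).inv)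
    (ha : a = 𝟙 _) (hb : b = 𝟙 _) : φ = 𝟙 _ := by
  apply HomologicalComplex.from_double_hom_ext
  · rw [hφ₀, ha]
    simp
  · rw [hφ₁, hb]
    simp

end General

section BaseChange

open Algebra Algebra.Extension

variable {R S : Type u} [CommRing R] [CommRing S] [Algebra R S]
variable {R' S' : Type u} [CommRing R'] [CommRing S'] [Algebra R' S'] [Algebra R R'] [Algebra S S']
  [Algebra R S'] [IsScalarTower R R' S'] [IsScalarTower R S S']
variable {P : Extension.{u} R S} {P' : Extension.{u} R' S'}

lemma liftBaseChange_cotangent_sub (f g : P.Hom P') :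
    LinearMap.liftBaseChange S' (Cotangent.map f) =
      LinearMap.liftBaseChange S' (f.sub g) ∘ₗ P.cotangentComplex.baseChange S' +
        LinearMap.liftBaseChange S' (Cotangent.map g) := by
  apply LinearMap.ext
  intro y
  induction y using TensorProduct.induction_on with
  | zero => simp
  | add a b ha hb => rw [map_add, map_add, ha, hb]
  | tmul s c =>
    have := congr($(Cotangent.map_sub_map f g) c)
    simp only [LinearMap.sub_apply, LinearMap.coe_comp, Function.comp_apply] at this
    rw [sub_eq_iff_eq_add] at this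
    simp only [LinearMap.add_apply, LinearMap.liftBaseChange_tmul, LinearMap.coe_comp,
      Function.comp_apply, LinearMap.baseChange_tmul, ← smul_add, this]

lemma liftBaseChange_cotangentSpace_sub (f g : P.Hom P') :
    LinearMap.liftBaseChange S' (CotangentSpace.map f) =
      P'.cotangentComplex ∘ₗ LinearMap.liftBaseChange S' (f.sub g) +
        LinearMap.liftBaseChange S' (CotangentSpace.map g) := by
  apply LinearMap.ext
  intro y
  induction y using TensorProduct.induction_on with
  | zero => simp
  | add a b ha hb => rw [map_add, map_add, ha, hb]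
  | tmul s c =>
    have := congr($(CotangentSpace.map_sub_map f g) c)
    simp only [LinearMap.sub_apply, LinearMap.coe_comp, Function.comp_apply,
      LinearMap.coe_restrictScalars] at this
    rw [sub_eq_iff_eq_add] at this
    simp only [LinearMap.add_apply, LinearMap.liftBaseChange_tmul, LinearMap.coe_comp,
      Function.comp_apply, map_smul, ← smul_add, this]

/-- Two morphisms of extensions over the same square induce homotopic maps
`NL(P) ⊗_S S' → NL(P')`. -/
noncomputable def bcMapHomotopy (f g : P.Hom P') :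
    Homotopy (NLCx.bcMap (S' := S') f) (NLCx.bcMap (S' := S') g) := by
  refine homotopyOfDouble' (ModuleCat.ofHom (P.cotangentComplex.baseChange S'))
    (ModuleCat.ofHom P'.cotangentComplex) _ _
    (ModuleCat.ofHom (LinearMap.liftBaseChange S' (Cotangent.map f)))
    (ModuleCat.ofHom (LinearMap.liftBaseChange S' (Cotangent.map g)))
    (ModuleCat.ofHom (LinearMap.liftBaseChange S' (CotangentSpace.map f)))
    (ModuleCat.ofHom (LinearMap.liftBaseChange S' (CotangentSpace.map g)))
    (ModuleCat.ofHom (LinearMap.liftBaseChange S' (f.sub g)))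
    (HomologicalComplex.mkHomFromDouble_f₀ _ _ _ _ _ _)
    (HomologicalComplex.mkHomFromDouble_f₁ _ _ _ _ _ _)
    (HomologicalComplex.mkHomFromDouble_f₀ _ _ _ _ _ _)
    (HomologicalComplex.mkHomFromDouble_f₁ _ _ _ _ _ _) ?_ ?_
  · rw [liftBaseChange_cotangent_sub f g, ModuleCat.ofHom_add, ModuleCat.ofHom_comp]
  · rw [liftBaseChange_cotangentSpace_sub f g, ModuleCat.ofHom_add, ModuleCat.ofHom_comp]

end BaseChange

section SameTop

open Algebra Algebra.Extension

variable {R S : Type u} [CommRing R] [CommRing S] [Algebra R S]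
variable {R' : Type u} [CommRing R'] [Algebra R' S] [Algebra R R'] [IsScalarTower R R' S]
variable {P : Extension.{u} R S} {P' : Extension.{u} R' S}

/-- Two morphisms of extensions of the same ring induce homotopic maps `NL(P) → NL(P')`. -/
noncomputable def mapHomotopy (f g : P.Hom P') :
    Homotopy (NLCx.map f) (NLCx.map g) := by
  refine homotopyOfDouble' (ModuleCat.ofHom P.cotangentComplex)
    (ModuleCat.ofHom P'.cotangentComplex) _ _
    (ModuleCat.ofHom (Cotangent.map f))
    (ModuleCat.ofHom (Cotangent.map g))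
    (ModuleCat.ofHom (CotangentSpace.map f))
    (ModuleCat.ofHom (CotangentSpace.map g))
    (ModuleCat.ofHom (f.sub g))
    (HomologicalComplex.mkHomFromDouble_f₀ _ _ _ _ _ _)
    (HomologicalComplex.mkHomFromDouble_f₁ _ _ _ _ _ _)
    (HomologicalComplex.mkHomFromDouble_f₀ _ _ _ _ _ _)
    (HomologicalComplex.mkHomFromDouble_f₁ _ _ _ _ _ _) ?_ ?_
  · rw [← ModuleCat.ofHom_comp, ← ModuleCat.ofHom_add, ← Cotangent.map_sub_map f g,
      sub_add_cancel]
  · rw [← ModuleCat.ofHom_comp, ← ModuleCat.ofHom_add]
    congr 1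
    have := CotangentSpace.map_sub_map f g
    exact (sub_eq_iff_eq_add (G := P.CotangentSpace →ₗ[S] P'.CotangentSpace)).mp this

end SameTop

section Functoriality

open Algebra Algebra.Extension

variable {R S : Type u} [CommRing R] [CommRing S] [Algebra R S]
variable {P P' P'' : Extension.{u} R S}

/-- `NLCx.map` of the identity. -/
lemma map_id : NLCx.map (Extension.Hom.id P) = 𝟙 (NLCx.cx P) := by
  refine double_eq_id (ModuleCat.ofHom P.cotangentComplex) _
    (ModuleCat.ofHom (Cotangent.map (Extension.Hom.id P)))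
    (ModuleCat.ofHom (CotangentSpace.map (Extension.Hom.id P)))
    (HomologicalComplex.mkHomFromDouble_f₀ _ _ _ _ _ _)
    (HomologicalComplex.mkHomFromDouble_f₁ _ _ _ _ _ _) ?_ ?_
  · rw [Cotangent.map_id]; rfl
  · rw [CotangentSpace.map_id]; rfl

/-- `NLCx.map` of a composite (extensions of the same algebra). -/
lemma map_comp (f : P.Hom P') (g : P'.Hom P'') :
    NLCx.map (g.comp f) = NLCx.map f ≫ NLCx.map g := by
  refine double_eq_comp (ModuleCat.ofHom P.cotangentComplex)
    (ModuleCat.ofHom P'.cotangentComplex) (ModuleCat.ofHom P''.cotangentComplex) _ _ _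
    (ModuleCat.ofHom (Cotangent.map f)) (ModuleCat.ofHom (CotangentSpace.map f))
    (ModuleCat.ofHom (Cotangent.map g)) (ModuleCat.ofHom (CotangentSpace.map g))
    (ModuleCat.ofHom (Cotangent.map (g.comp f))) (ModuleCat.ofHom (CotangentSpace.map (g.comp f)))
    (HomologicalComplex.mkHomFromDouble_f₀ _ _ _ _ _ _)
    (HomologicalComplex.mkHomFromDouble_f₁ _ _ _ _ _ _)
    (HomologicalComplex.mkHomFromDouble_f₀ _ _ _ _ _ _)
    (HomologicalComplex.mkHomFromDouble_f₁ _ _ _ _ _ _)
    (HomologicalComplex.mkHomFromDouble_f₀ _ _ _ _ _ _)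
    (HomologicalComplex.mkHomFromDouble_f₁ _ _ _ _ _ _) ?_ ?_
  · rw [Cotangent.map_comp]; rfl
  · rw [CotangentSpace.map_comp]; rfl

/-- Two extensions of `S` over `R` with morphisms in both directions have homotopy equivalent
naive cotangent complexes. -/
noncomputable def homotopyEquivOfHoms (f : P.Hom P') (g : P'.Hom P) :
    HomotopyEquiv (NLCx.cx P) (NLCx.cx P') where
  hom := NLCx.map f
  inv := NLCx.map g
  homotopyHomInvId := by
    rw [← map_comp, ← map_id]
    exact mapHomotopy _ _
  homotopyInvHomId := by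
    rw [← map_comp, ← map_id]
    exact mapHomotopy _ _

end Functoriality

section BaseChangeComp

open Algebra Algebra.Extension

variable {R S : Type u} [CommRing R] [CommRing S] [Algebra R S]
variable {R' S' : Type u} [CommRing R'] [CommRing S'] [Algebra R' S'] [Algebra R R'] [Algebra S S']
  [Algebra R S'] [IsScalarTower R R' S'] [IsScalarTower R S S']
variable {P : Extension.{u} R S} {P' P'' : Extension.{u} R' S'}

omit [IsScalarTower R S S'] in
lemma liftBaseChange_cotangent_comp (f : P.Hom P') (g : P'.Hom P'') :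
    LinearMap.liftBaseChange S' (Cotangent.map (g.comp f)) =
      Cotangent.map g ∘ₗ LinearMap.liftBaseChange S' (Cotangent.map f) := by
  apply LinearMap.ext
  intro y
  induction y using TensorProduct.induction_on with
  | zero => simp
  | add a b ha hb => simp only [map_add, ha, hb]
  | tmul s c =>
    simp only [LinearMap.liftBaseChange_tmul, map_smul, LinearMap.comp_apply]
    congr 1
    exact congr($(Cotangent.map_comp (f := f) (g := g)) c)

omit [IsScalarTower R S S'] in
lemma liftBaseChange_cotangentSpace_comp (f : P.Hom P') (g : P'.Hom P'') :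
    LinearMap.liftBaseChange S' (CotangentSpace.map (g.comp f)) =
      CotangentSpace.map g ∘ₗ LinearMap.liftBaseChange S' (CotangentSpace.map f) := by
  apply LinearMap.ext
  intro y
  induction y using TensorProduct.induction_on with
  | zero => simp
  | add a b ha hb => simp only [map_add, ha, hb]
  | tmul s c =>
    simp only [LinearMap.liftBaseChange_tmul, map_smul, LinearMap.comp_apply]
    congr 1
    exact congr($(CotangentSpace.map_comp (f := f) (g := g)) c)

/-- `NLCx.bcMap` of a composite with a morphism of extensions of the target. -/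
lemma bcMap_comp (f : P.Hom P') (g : P'.Hom P'') :
    NLCx.bcMap (S' := S') (g.comp f) = NLCx.bcMap (S' := S') f ≫ NLCx.map g := by
  refine double_eq_comp (ModuleCat.ofHom (P.cotangentComplex.baseChange S'))
    (ModuleCat.ofHom P'.cotangentComplex) (ModuleCat.ofHom P''.cotangentComplex) _ _ _
    (ModuleCat.ofHom (LinearMap.liftBaseChange S' (Cotangent.map f)))
    (ModuleCat.ofHom (LinearMap.liftBaseChange S' (CotangentSpace.map f)))
    (ModuleCat.ofHom (Cotangent.map g)) (ModuleCat.ofHom (CotangentSpace.map g))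
    (ModuleCat.ofHom (LinearMap.liftBaseChange S' (Cotangent.map (g.comp f))))
    (ModuleCat.ofHom (LinearMap.liftBaseChange S' (CotangentSpace.map (g.comp f))))
    (HomologicalComplex.mkHomFromDouble_f₀ _ _ _ _ _ _)
    (HomologicalComplex.mkHomFromDouble_f₁ _ _ _ _ _ _)
    (HomologicalComplex.mkHomFromDouble_f₀ _ _ _ _ _ _)
    (HomologicalComplex.mkHomFromDouble_f₁ _ _ _ _ _ _)
    (HomologicalComplex.mkHomFromDouble_f₀ _ _ _ _ _ _)
    (HomologicalComplex.mkHomFromDouble_f₁ _ _ _ _ _ _) ?_ ?_
  · rw [liftBaseChange_cotangent_comp]; rfl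
  · rw [liftBaseChange_cotangentSpace_comp]; rfl

end BaseChangeComp

end Groth.Agent.Lib.Seat31.NLHtpy
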