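import Mathlib
import Groth.Prelude.Def_LCI2
import Groth.Prelude.Def_SheafNL
import Groth.Agent.Lib.Seat31KoszulCot
import Groth.Agent.Lib.Seat31NLHtpy

/-!
# Seat31: the naive cotangent complex of a local complete intersection ring map
-/

set_option autoImplicit false

universe u

open CategoryTheory CategoryTheory.Limits Algebra

attribute [local instance] HasDerivedCategory.standard

namespace Groth.Agent.Lib.Seat31.LciNL

open DerivedCategory

variable {A B : Type u} [CommRing A] [CommRing B] [Algebra A B]

/-- the presentation attached to a surjection from a polynomial ring. -/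
noncomputable def gensOf {n : ℕ} (f : MvPolynomial (Fin n) A →ₐ[A] B)
    (hf : Function.Surjective f) : Generators A B (Fin n) :=
  Generators.ofSurjective (fun i => f (MvPolynomial.X i)) (by
    rw [← show f = MvPolynomial.aeval (fun i => f (MvPolynomial.X i)) from
      MvPolynomial.aeval_unique f]
    exact hf)

set_option backward.isDefEq.respectTransparency false in
lemma gensOf_ker {n : ℕ} (f : MvPolynomial (Fin n) A →ₐ[A] B) (hf : Function.Surjective f) :
    (gensOf f hf).toExtension.ker = RingHom.ker f.toRingHom := by
  ext x
  have h1 : algebraMap (gensOf f hf).Ring B x = f x := by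
    rw [Generators.algebraMap_apply]
    have : MvPolynomial.aeval (gensOf f hf).val = f := (MvPolynomial.aeval_unique f).symm
    rw [this]
  change algebraMap (gensOf f hf).Ring B x = 0 ↔ f x = 0
  rw [h1]


section TwoTerm

variable {ι : Type} [Finite ι] (G : Generators A B ι)

lemma rel : (ComplexShape.up ℤ).Rel (-1) 0 := by simp

/-- the terms of the naive cotangent complex of a finite presentation with finite projective
conormal module are finite projective. -/
theorem termwiseFiniteProjective_cx
    (h : Module.Finite B G.toExtension.Cotangent ∧ Module.Projective B G.toExtension.Cotangent) :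
    DRing.TermwiseFiniteProjective (NLCx.cx G.toExtension) := by
  have hE : ∀ i : ℤ, i ≠ -1 → i ≠ 0 → IsZero ((NLCx.cx G.toExtension).X i) :=
    fun i h0 h1 => HomologicalComplex.isZero_double_X _ _ i h0 h1
  have hfree : Module.Free B G.toExtension.CotangentSpace :=
    Module.Free.of_basis G.cotangentSpaceBasis
  have hfin : Module.Finite B G.toExtension.CotangentSpace :=
    Module.Finite.of_basis G.cotangentSpaceBasis
  obtain ⟨h1, h2⟩ := h
  intro i
  by_cases hi0 : i = -1
  · subst hi0
    let e := (HomologicalComplex.doubleXIso₀ (ModuleCat.ofHom G.toExtension.cotangentComplex)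
      rel).toLinearEquiv
    exact ⟨Module.Finite.equiv e.symm, Module.Projective.of_equiv e.symm⟩
  · by_cases hi1 : i = 0
    · subst hi1
      let e := (HomologicalComplex.doubleXIso₁ (ModuleCat.ofHom G.toExtension.cotangentComplex)
        rel (by decide)).toLinearEquiv
      exact ⟨Module.Finite.equiv e.symm, Module.Projective.of_equiv e.symm⟩
    · have := ModuleCat.subsingleton_of_isZero (hE i hi0 hi1)
      exact ⟨inferInstance, inferInstance⟩

omit [Finite ι] in
theorem vanishesOutside_cx : DRing.VanishesOutside (NLCx.cx G.toExtension) (-1) 0 := by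
  intro i hi
  exact HomologicalComplex.isZero_double_X _ _ i (by omega) (by omega)

end TwoTerm

/-- the naive cotangent complexes of any two presentations are isomorphic in `D(B)`. -/
noncomputable def isoOfGenerators {ι : Type} {ι' : Type u} (G : Generators A B ι)
    (G' : Generators A B ι') :
    DRing.toD (NLCx.cx G.toExtension) ≅ DRing.toD (NLCx.cx G'.toExtension) :=
  let e := NLHtpy.homotopyEquivOfHoms (G.defaultHom G').toExtensionHom
    (G'.defaultHom G).toExtensionHom
  have : IsIso (Q.map e.hom) := by
    rw [DerivedCategory.isIso_Q_map_iff_quasiIso]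
    infer_instance
  asIso (Q.map e.hom)


/-- **`NL_{B/A}` of a local complete intersection ring map is perfect of tor amplitude in
`[-1, 0]`.** -/
theorem isPerfect_and_torAmplitude_of_isLCI (h : LCI.IsLCI A B) :
    DRing.IsPerfect B (LCI.NL A B) ∧ DRing.HasTorAmplitudeIn B (-1) 0 (LCI.NL A B) := by
  obtain ⟨-, n, f, hf, hK⟩ := h
  have hK' : LCI.IsKoszulRegularIdeal (gensOf f hf).toExtension.ker := by
    rw [gensOf_ker]
    exact hK
  have hfp := KoszulCot.finite_projective_cotangent (gensOf f hf).toExtension hK'
  have hT := termwiseFiniteProjective_cx (gensOf f hf) hfp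
  let e : DRing.toD (NLCx.cx (gensOf f hf).toExtension) ≅ LCI.NL A B :=
    isoOfGenerators (gensOf f hf) (Generators.self A B)
  refine ⟨⟨_, -1, 0, vanishesOutside_cx _, hT, ⟨e⟩⟩, ⟨_, vanishesOutside_cx _, ?_, ⟨e⟩⟩⟩
  intro i
  have := (hT i).2
  infer_instance

end Groth.Agent.Lib.Seat31.LciNL
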