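import Groth.Agent.Lib.Seat31NLFlat
import Groth.Agent.Lib.Seat31NLHtpy
import Mathlib.Algebra.Homology.QuasiIso

/-!
# Seat31: for a cocartesian square with vanishing `Tor_1`, the base change map of naive cotangent
complexes (any polynomial presentations, any morphism between them) is a homotopy equivalence
-/

set_option autoImplicit false

universe u

open CategoryTheory CategoryTheory.Limits TensorProduct

namespace Groth.Agent.Lib.Seat31.NLSelf

open Algebra Algebra.Extension

variable {R S : Type u} [CommRing R] [CommRing S] [Algebra R S]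
variable {R' S' : Type u} [CommRing R'] [CommRing S'] [Algebra R' S'] [Algebra R R'] [Algebra S S']
  [Algebra R S'] [IsScalarTower R R' S'] [IsScalarTower R S S'] [Algebra.IsPushout R R' S S']
  {ι ι' : Type u} (G : Algebra.Generators R S ι) (G' : Algebra.Generators R' S' ι')

/-- For a cocartesian square with `R' ⊗[R] I → R' ⊗[R] P` injective, any polynomial
presentations of `S/R` and `S'/R'` and any morphism `f` between them, `NLCx.bcMap f` is (the
`hom` of) a homotopy equivalence. -/
theorem exists_homotopyEquiv_bcMap (f : G.toExtension.Hom G'.toExtension)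
    (hinj : Function.Injective
      (LinearMap.lTensor R' (G.toExtension.ker.subtype.restrictScalars R))) :
    ∃ e : HomotopyEquiv (NLCx.bcCx G.toExtension S') (NLCx.cx G'.toExtension),
      e.hom = NLCx.bcMap (S' := S') f := by
  let G₁ : Algebra.Generators R' S' ι := NLPush.bcGenerators G
  have h₁ : ∀ i, G₁.val i = algebraMap S S' (G.val i) := NLPush.bcGenerators_val G
  let f₀ := (NLCx.sameVarsHom G G₁ h₁).toExtensionHom
  let a : G₁.toExtension.Hom G'.toExtension := (G₁.defaultHom G').toExtensionHom
  let b : G'.toExtension.Hom G₁.toExtension := (G'.defaultHom G₁).toExtensionHom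
  have hiso : IsIso (NLCx.bcMap (S' := S') f₀) := NLFlat.isIso_bcMap_sameVars G G₁ h₁ hinj
  let e₁ : HomotopyEquiv (NLCx.bcCx G.toExtension S') (NLCx.cx G₁.toExtension) :=
    HomotopyEquiv.ofIso (asIso (NLCx.bcMap (S' := S') f₀))
  let e₂ : HomotopyEquiv (NLCx.cx G₁.toExtension) (NLCx.cx G'.toExtension) :=
    NLHtpy.homotopyEquivOfHoms a b
  let e₀ := e₁.trans e₂
  have he₀ : e₀.hom = NLCx.bcMap (S' := S') (a.comp f₀) := by
    rw [NLHtpy.bcMap_comp]
    rfl
  have H : Homotopy e₀.hom (NLCx.bcMap (S' := S') f) := by
    rw [he₀]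
    exact NLHtpy.bcMapHomotopy _ _
  exact ⟨e₀.copy H, rfl⟩

/-- quasi-isomorphism version. -/
theorem quasiIso_bcMap (f : G.toExtension.Hom G'.toExtension)
    (hinj : Function.Injective
      (LinearMap.lTensor R' (G.toExtension.ker.subtype.restrictScalars R))) :
    QuasiIso (NLCx.bcMap (S' := S') f) := by
  obtain ⟨e, he⟩ := exists_homotopyEquiv_bcMap G G' f hinj
  rw [← he]
  infer_instance

end Groth.Agent.Lib.Seat31.NLSelf
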