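import Mathlib
import Groth.Agent.Lib.Seat31LBCFlat
import Groth.Agent.Lib.Helper1TwoTerm
import Groth.Agent.Lib.Helper1TorE
import Groth.Agent.Lib.Helper1TorH

/-!
# Seat31: a two-term complex `E⁻¹ → E⁰` with `E⁰` flat and tor amplitude in `[-1, 0]` has `E⁻¹` flat
-/

set_option autoImplicit false

universe u

open CategoryTheory CategoryTheory.Limits

attribute [local instance] HasDerivedCategory.standard

namespace Groth.Agent.Lib.Seat31.TwoTermFlat

open DerivedCategory Pretriangulated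
open Groth.Agent.Lib.Helper1.Tor Groth.Agent.Lib.Helper1.TorDim

variable {R : Type u} [CommRing R]

/-- a flat module placed in degree `0` has tor amplitude in `[0, 1]`. -/
lemma hasTorAmp_zero_one_of_flat (M : ModuleCat.{u} R) [Module.Flat R M] :
    DRing.HasTorAmplitudeIn R 0 1
      ((DerivedCategory.singleFunctor (ModuleCat.{u} R) 0).obj M) := by
  have h0 : DRing.HasTorDimLE R 0 M := (hasTorDimLE_zero_iff_flat M).2 inferInstance
  have h1 := (hasTorDimLE_iff_hasTorAmp M 0).1 h0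
  exact hasTorAmp_mono (by simp) (by simp) h1

/-- a two-term complex `E⁻¹ → E⁰` with `E⁰` flat and tor amplitude in `[-1, 0]` has `E⁻¹`
flat. -/
theorem flat_of_twoTerm (E : DRing.Cx R) (hE : ∀ i : ℤ, i ≠ -1 → i ≠ 0 → IsZero (E.X i))
    [Module.Flat R (E.X 0)] (h : DRing.HasTorAmplitudeIn R (-1) 0 (DRing.toD E)) :
    Module.Flat R (E.X (-1)) := by
  obtain ⟨i, p, hT, -⟩ := Groth.Agent.Lib.Helper1.TwoTerm.exists_triangle E hE
  have h₁ : DRing.HasTorAmplitudeIn R (-1 + 1) (0 + 1)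
      ((DerivedCategory.singleFunctor (ModuleCat.{u} R) 0).obj (E.X 0)) := by
    have := hasTorAmp_zero_one_of_flat (E.X 0)
    simpa using this
  have h₃ := (hasTorAmp_two_out_of_three (-1) 0 _ hT).1 h₁ h
  have h₄ := hasTorAmp_shift h₃ (-1) 0 1 (by norm_num) (by norm_num)
  have h₅ : DRing.HasTorAmplitudeIn R 0 1
      ((DerivedCategory.singleFunctor (ModuleCat.{u} R) 0).obj (E.X (-1))) :=
    hasTorAmp_of_iso ((shiftEquiv _ (1 : ℤ)).unitIso.symm.app _) h₄
  exact Groth.Agent.Lib.Seat31.LBCFlat.flat_of_hasTorAmp_zero_one (E.X (-1)) h₅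

end Groth.Agent.Lib.Seat31.TwoTermFlat
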