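import Mathlib
import Groth.Agent.Lib.Seat31NLSelf
import Groth.Agent.Lib.Seat31LBCFlat
import Groth.Agent.Lib.Seat31TwoTermFlat
import Groth.Agent.Lib.Seat31DoubleMap

/-!
# Seat31: derived base change of the naive cotangent complex
-/

set_option autoImplicit false

universe u

open CategoryTheory CategoryTheory.Limits TensorProduct

attribute [local instance] HasDerivedCategory.standard

namespace Groth.Agent.Lib.Seat31.NLDer

open Algebra Algebra.Extension DerivedCategory
open Groth.Agent.Lib.Helper1.Extend Groth.Agent.Lib.Helper1.LDer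
open Groth.Agent.Lib.Seat31.NLHtpy (rel)

section

variable {S S' : Type u} [CommRing S] [CommRing S'] [Algebra S S']

/-- naturality of `extIso`. -/
lemma extIso_naturality {M N : Type u} [AddCommGroup M] [Module S M] [AddCommGroup N]
    [Module S N] (d : M →ₗ[S] N) :
    ModuleCat.ofHom (d.baseChange S') ≫ (extIso (A := S) (B := S') N).inv =
      (extIso (A := S) (B := S') M).inv ≫ (ext S S').map (ModuleCat.ofHom d) := by
  rw [Iso.comp_inv_eq, Category.assoc, Iso.eq_inv_comp]
  apply ModuleCat.hom_ext
  apply LinearMap.ext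
  intro x
  exact (LBCFlat.extEquiv_naturality d x).symm

/-- the termwise base change of a two-term complex. -/
theorem nonempty_iso_bcCx_double {M N : Type u} [AddCommGroup M] [Module S M] [AddCommGroup N]
    [Module S N] (d : M →ₗ[S] N) :
    Nonempty (HomologicalComplex.double (ModuleCat.ofHom (d.baseChange S')) rel ≅
      (bcCx (algebraMap S S')).obj (HomologicalComplex.double (ModuleCat.ofHom d) rel)) :=
  DoubleMap.nonempty_iso_map_double (ext S S') (ModuleCat.ofHom d)
    (ModuleCat.ofHom (d.baseChange S')) (extIso (A := S) (B := S') M).symm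
    (extIso (A := S) (B := S') N).symm (extIso_naturality d)

end

section

variable {R S : Type u} [CommRing R] [CommRing S] [Algebra R S]
  {ι : Type u} (G : Algebra.Generators R S ι)

/-- the naive cotangent complex of a polynomial presentation is termwise flat as soon as it has
tor amplitude in `[-1, 0]`. -/
theorem termwiseFlat_cx (h : DRing.HasTorAmplitudeIn S (-1) 0 (DRing.toD (NLCx.cx G.toExtension))) :
    DRing.TermwiseFlat (NLCx.cx G.toExtension) := by
  have hE : ∀ i : ℤ, i ≠ -1 → i ≠ 0 → IsZero ((NLCx.cx G.toExtension).X i) :=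
    fun i h0 h1 => HomologicalComplex.isZero_double_X _ _ i h0 h1
  have hfree : Module.Free S G.toExtension.CotangentSpace :=
    Module.Free.of_basis G.cotangentSpaceBasis
  have h0 : Module.Flat S ((NLCx.cx G.toExtension).X 0) :=
    Module.Flat.of_linearEquiv
      (HomologicalComplex.doubleXIso₁ (ModuleCat.ofHom G.toExtension.cotangentComplex) rel
        (by decide)).toLinearEquiv
  have h1 : Module.Flat S ((NLCx.cx G.toExtension).X (-1)) :=
    TwoTermFlat.flat_of_twoTerm _ hE h
  intro i
  by_cases hi0 : i = -1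
  · subst hi0; exact h1
  · by_cases hi1 : i = 0
    · subst hi1; exact h0
    · have := ModuleCat.subsingleton_of_isZero (hE i hi0 hi1)
      infer_instance

end

section

variable (A B A' B' : Type u) [CommRing A] [CommRing B]
  [CommRing A'] [CommRing B'] [Algebra A B] [Algebra A' B'] [Algebra A A'] [Algebra B B']
  [Algebra A B'] [IsScalarTower A A' B'] [IsScalarTower A B B'] [Algebra.IsPushout A A' B B']

/-- If the square is cocartesian, `Tor_1^A(A', B) = 0` (in the form of injectivity of
`A' ⊗ I → A' ⊗ P`) and `NL_{B/A}` has tor amplitude in `[-1, 0]`, then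
`NL_{B/A} ⊗^L_B B' ≅ NL_{B'/A'}`. -/
theorem nonempty_LBaseChange_NL_iso
    (hinj : Function.Injective (LinearMap.lTensor A'
      ((Algebra.Generators.self A B).toExtension.ker.subtype.restrictScalars A)))
    (h : DRing.HasTorAmplitudeIn B (-1) 0 (LCI.NL A B))
    [DRing.HasLBaseChange (algebraMap B B')] :
    Nonempty ((DRing.LBaseChange (algebraMap B B')).obj (LCI.NL A B) ≅ LCI.NL A' B') := by
  have hEf : DRing.TermwiseFlat (NLCx.cx (Algebra.Generators.self A B).toExtension) :=
    termwiseFlat_cx _ h
  have hEb : DRing.VanishesAbove (NLCx.cx (Algebra.Generators.self A B).toExtension) 0 :=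
    fun i hi => HomologicalComplex.isZero_double_X _ _ i (by lia) (by lia)
  obtain ⟨e₁⟩ := LBCFlat.nonempty_lbcIso_of_flat (B := B') _ 0 hEb hEf
  obtain ⟨e₂⟩ := nonempty_iso_bcCx_double (S' := B')
    (Algebra.Generators.self A B).toExtension.cotangentComplex
  have hq : QuasiIso (NLCx.bcMapSelf A B A' B') :=
    NLSelf.quasiIso_bcMap _ _ _ hinj
  have hqi : IsIso (Q.map (NLCx.bcMapSelf A B A' B')) :=
    (DerivedCategory.isIso_Q_map_iff_quasiIso (φ := NLCx.bcMapSelf A B A' B')).2 hq
  let e₃ : Q.obj (NLCx.bcCx (Algebra.Generators.self A B).toExtension B') ≅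
      Q.obj (NLCx.cx (Algebra.Generators.self A' B').toExtension) :=
    @asIso _ _ _ _ (Q.map (NLCx.bcMapSelf A B A' B')) hqi
  exact ⟨e₁ ≪≫ (Q.mapIso e₂).symm ≪≫ e₃⟩

end

end Groth.Agent.Lib.Seat31.NLDer
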