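import Mathlib
import Groth.Prelude.Def_LCI2
import Groth.Prelude.Def_SheafNL
import Groth.Agent.Lib.Seat31LciNL
import Groth.Agent.Lib.Seat31NLDer

/-!
# Seat31: from tor amplitude of the naive cotangent complex to a projective conormal module
-/

set_option autoImplicit false

universe u

open CategoryTheory CategoryTheory.Limits Algebra

attribute [local instance] HasDerivedCategory.standard

namespace Groth.Agent.Lib.Seat31.LciVasc

variable {A B : Type u} [CommRing A] [CommRing B] [Algebra A B]

section Transfer

variable (E : Extension.{u} A B)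

/-- `E.Ring / E.ker ≃ B`. -/
noncomputable def quotEquiv : (E.Ring ⧸ E.ker) ≃+* B :=
  RingHom.quotientKerEquivOfSurjective E.algebraMap_surjective

lemma quotEquiv_mk (r : E.Ring) : quotEquiv E (Ideal.Quotient.mk _ r) = algebraMap E.Ring B r :=
  rfl

lemma quotEquiv_symm_algebraMap (r : E.Ring) :
    (quotEquiv E).symm (algebraMap E.Ring B r) = Ideal.Quotient.mk _ r := by
  rw [← quotEquiv_mk, RingEquiv.symm_apply_apply]

/-- the conormal module `I/I²` of `I = E.ker` as a module over `E.Ring / I` is projective when
`E.Cotangent` is projective over `B`. -/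
theorem projective_ker_cotangent [Module.Projective B E.Cotangent] :
    Module.Projective (E.Ring ⧸ E.ker) E.ker.Cotangent := by
  let _ : RingHomInvPair ((quotEquiv E).symm : B →+* E.Ring ⧸ E.ker)
      ((quotEquiv E : (E.Ring ⧸ E.ker) →+* B)) := RingHomInvPair.of_ringEquiv (quotEquiv E).symm
  let _ : RingHomInvPair ((quotEquiv E : (E.Ring ⧸ E.ker) →+* B))
      ((quotEquiv E).symm : B →+* E.Ring ⧸ E.ker) := RingHomInvPair.of_ringEquiv (quotEquiv E)
  let e₂ : E.Cotangent ≃ₛₗ[((quotEquiv E).symm : B →+* E.Ring ⧸ E.ker)] E.ker.Cotangent :=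
    { toFun := Extension.Cotangent.val
      invFun := Extension.Cotangent.of
      left_inv := fun _ => rfl
      right_inv := fun _ => rfl
      map_add' := fun _ _ => rfl
      map_smul' := fun b x => by
        obtain ⟨r, rfl⟩ := E.algebraMap_surjective b
        rw [algebraMap_smul, Extension.Cotangent.val_smul']
        show r • x.val = (quotEquiv E).symm (algebraMap E.Ring B r) • x.val
        rw [quotEquiv_symm_algebraMap]
        rfl }
  exact Module.Projective.of_equiv e₂

end Transfer

section Flat

/-- the conormal module of a presentation is flat as soon as the naive cotangent complex of the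
presentation has tor amplitude in `[-1, 0]`. -/
theorem flat_cotangent_of_torAmp {ι : Type} (G : Generators A B ι)
    (h : DRing.HasTorAmplitudeIn B (-1) 0 (DRing.toD (NLCx.cx G.toExtension))) :
    Module.Flat B G.toExtension.Cotangent := by
  have hE : ∀ i : ℤ, i ≠ -1 → i ≠ 0 → IsZero ((NLCx.cx G.toExtension).X i) :=
    fun i h0 h1 => HomologicalComplex.isZero_double_X _ _ i h0 h1
  have hfree : Module.Free B G.toExtension.CotangentSpace :=
    Module.Free.of_basis G.cotangentSpaceBasis
  have h0 : Module.Flat B ((NLCx.cx G.toExtension).X 0) :=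
    Module.Flat.of_linearEquiv
      (HomologicalComplex.doubleXIso₁ (ModuleCat.ofHom G.toExtension.cotangentComplex) LciNL.rel
        (by decide)).toLinearEquiv
  have h1 : Module.Flat B ((NLCx.cx G.toExtension).X (-1)) :=
    TwoTermFlat.flat_of_twoTerm _ hE h
  exact @Module.Flat.of_linearEquiv B _ _ _ _ _ _ _ h1
      (HomologicalComplex.doubleXIso₀ (ModuleCat.ofHom G.toExtension.cotangentComplex)
        LciNL.rel).toLinearEquiv.symm

end Flat

end Groth.Agent.Lib.Seat31.LciVasc
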