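import Mathlib
import Groth.Prelude.Def_DRing2
import Groth.Agent.Lib.Seat26TorDim

/-!
# Seat31: finite tor dimension gives finite projective dimension for finite modules over a
Noetherian ring
-/

set_option autoImplicit false

universe u

open CategoryTheory CategoryTheory.Limits

namespace Groth.Agent.Lib.Seat31.LciVascPD

open Groth.Agent.Lib.Seat26.FFRes Groth.Agent.Lib.Seat26.TorDim

variable {P : Type u} [CommRing P] [IsNoetherianRing P]

/-- one step of a finite free resolution of a finite module over a Noetherian ring. -/
theorem nonempty_stepData (N : ModuleCat.{u} P) (hN : Module.Finite P N) :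
    Nonempty (StepData (fun N : ModuleCat.{u} P => Module.Finite P N) N) := by
  obtain ⟨k, f, hf⟩ := Module.Finite.exists_fin' P N
  refine ⟨⟨k, ModuleCat.ofHom f, (ModuleCat.epi_iff_surjective _).2 hf, ?_⟩⟩
  have : Module.Finite P (LinearMap.ker f) := inferInstance
  exact Module.Finite.equiv (ModuleCat.kernelIsoKer (ModuleCat.ofHom f)).toLinearEquiv.symm

/-- a choice of step. -/
noncomputable def stepData (N : ModuleCat.{u} P) (hN : Module.Finite P N) :
    StepData (fun N : ModuleCat.{u} P => Module.Finite P N) N :=
  (nonempty_stepData N hN).some

/-- over a Noetherian ring, a finite module of tor dimension `≤ n` has projective dimension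
`≤ n`. -/
theorem hasProjectiveDimensionLT_of_hasTorDimLE (M : Type u) [AddCommGroup M] [Module P M]
    [Module.Finite P M] (n : ℕ) (h : DRing.HasTorDimLE P n M) :
    HasProjectiveDimensionLT (ModuleCat.of P M) (n + 1) := by
  refine hasProjectiveDimensionLT_of_tor_vanish (fun N : ModuleCat.{u} P => Module.Finite P N)
    (fun N hN => ?_) stepData n (ModuleCat.of P M) ‹_› (fun i hi N => ?_)
  · haveI := hN
    exact Module.finitePresentation_of_finite P N
  · have := h N i hi
    exact ModuleCat.isZero_of_subsingleton _

end Groth.Agent.Lib.Seat31.LciVascPD
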