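import Mathlib
import Groth.Prelude.Def_LCI2
import Groth.Prelude.Def_SheafNL
import Groth.Agent.Lib.Seat31LciVasc
import Groth.Agent.Lib.Seat31LciVascPD
import Groth.Agent.Lib.Seat0PerfPres
import Groth.Agent.S2189
import Groth.Agent.S15821

/-!
# Seat31: Noetherian, finite tor dimension, `NL` of tor amplitude `[-1,0]` gives lci
-/

set_option autoImplicit false

universe u

open CategoryTheory CategoryTheory.Limits Algebra

attribute [local instance] HasDerivedCategory.standard

namespace Groth.Agent.Lib.Seat31.LciVascMain

open Groth.Agent.Lib.Seat31.LciNL Groth.Agent.Lib.Seat31.LciVasc Groth.Agent.Lib.Seat31.LciVascPD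
open Groth.Agent.Lib.Seat0.PerfHom Groth.Agent.Lib.Seat0.PerfPres

variable {A B : Type u} [CommRing A] [CommRing B] [Algebra A B]

/-- the ideal `I` of a Noetherian ring `R` is Koszul-regular when it has finite projective
dimension and projective conormal module (Vasconcelos). -/
theorem isKoszulRegularIdeal_of_pd {R : Type u} [CommRing R] [IsNoetherianRing R] (I : Ideal R)
    (n : ℕ) (hpd : HasProjectiveDimensionLT (ModuleCat.of R I) n)
    [Module.Projective (R ⧸ I) I.Cotangent] : LCI.IsKoszulRegularIdeal I := by
  intro 𝔭 h𝔭
  obtain ⟨g, hg, rs, hrs, hspan⟩ := Groth.Agent.S2189.result I n hpd 𝔭.asIdeal h𝔭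
  refine ⟨g, hg, rs, (Groth.Agent.S15821.result _ rs hrs.toIsWeaklyRegular).1, ?_⟩
  rw [← hspan]

/-- the ideal of an extension has finite projective dimension when the quotient has finite tor
dimension over the (Noetherian) ring of the extension. -/
theorem hasProjectiveDimensionLT_ker {R : Type u} [CommRing R] [IsNoetherianRing R]
    [Algebra R B] (hsurj : Function.Surjective (algebraMap R B)) (m : ℕ)
    (h : DRing.HasTorDimLE R m B) :
    HasProjectiveDimensionLT (ModuleCat.of R (RingHom.ker (algebraMap R B))) (m + 1) := by
  have hfin : Module.Finite R B := Module.Finite.of_surjective (Algebra.linearMap R B) hsurj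
  have h3 := hasProjectiveDimensionLT_of_hasTorDimLE B m h
  let S : ShortComplex (ModuleCat.{u} R) :=
    ShortComplex.mk (ModuleCat.ofHom (RingHom.ker (algebraMap R B)).subtype)
      (ModuleCat.ofHom (Algebra.linearMap R B)) (by
        ext x
        exact x.2)
  have hS : S.ShortExact :=
    { exact := by
        rw [ShortComplex.ShortExact.moduleCat_exact_iff_function_exact]
        intro x
        constructor
        · intro hx
          exact ⟨⟨x, hx⟩, rfl⟩
        · rintro ⟨y, rfl⟩
          exact y.2
      mono_f := (ModuleCat.mono_iff_injective _).2 (Submodule.injective_subtype _)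
      epi_g := (ModuleCat.epi_iff_surjective _).2 hsurj }
  have hproj : Projective S.X₂ := ModuleCat.projective_of_free (Module.Basis.singleton PUnit.{u + 1} R)
  have h2 : HasProjectiveDimensionLT S.X₂ (m + 1) :=
    hasProjectiveDimensionLT_of_ge S.X₂ 1 (m + 1) (by omega)
  have h3' : HasProjectiveDimensionLT S.X₃ (m + 1 + 1) :=
    hasProjectiveDimensionLT_of_ge S.X₃ (m + 1) (m + 1 + 1) (by omega)
  exact hS.hasProjectiveDimensionLT_X₁ (m + 1) h2 h3'

set_option backward.isDefEq.respectTransparency false in
/-- **Noetherian, finite tor dimension, `NL_{B/A}` of tor amplitude in `[-1, 0]` implies lci.** -/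
theorem isLCI_of_torAmp [IsNoetherianRing A] [Algebra.FiniteType A B]
    (hB : DRing.HasFiniteTorDim A B) (h : DRing.HasTorAmplitudeIn B (-1) 0 (LCI.NL A B)) :
    LCI.IsLCI A B := by
  obtain ⟨n, f, hf⟩ := Algebra.FiniteType.iff_quotient_mvPolynomial''.1 ‹Algebra.FiniteType A B›
  refine ⟨inferInstance, n, f, hf, ?_⟩
  rw [← gensOf_ker f hf]
  set G := gensOf f hf with hG
  -- tor amplitude for the finite presentation
  have hT : DRing.HasTorAmplitudeIn B (-1) 0 (DRing.toD (NLCx.cx G.toExtension)) := by
    obtain ⟨E', h1, h2, ⟨e⟩⟩ := h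
    exact ⟨E', h1, h2, ⟨e ≪≫ (isoOfGenerators G (Generators.self A B)).symm⟩⟩
  have hflat : Module.Flat B G.toExtension.Cotangent := flat_cotangent_of_torAmp G hT
  have hNP : IsNoetherianRing G.toExtension.Ring :=
    inferInstanceAs (IsNoetherianRing (MvPolynomial (Fin n) A))
  have hNB : IsNoetherianRing B := Algebra.FiniteType.isNoetherianRing A B
  have hfg : G.toExtension.ker.FG := IsNoetherian.noetherian _
  have hfin : Module.Finite B G.toExtension.Cotangent := Extension.Cotangent.finite hfg
  have hfp : Module.FinitePresentation B G.toExtension.Cotangent :=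
    Module.finitePresentation_of_finite B _
  have hproj : Module.Projective B G.toExtension.Cotangent :=
    Module.Flat.projective_of_finitePresentation
  have hproj' := projective_ker_cotangent G.toExtension
  -- finite tor dimension over the polynomial ring
  have hftd : FTD (algebraMap G.toExtension.Ring B) := by
    apply ftd_of_ftd_base (R := A) (n := n)
    have : (algebraMap G.toExtension.Ring B).comp MvPolynomial.C = algebraMap A B := by
      ext a
      show algebraMap G.toExtension.Ring B (algebraMap A G.toExtension.Ring a) = _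
      rw [← IsScalarTower.algebraMap_apply]
    rw [this]
    exact ftd_algebraMap_iff.2 hB
  obtain ⟨m, hm⟩ := ftd_algebraMap_iff.1 hftd
  have hpd := hasProjectiveDimensionLT_ker (R := G.toExtension.Ring) (B := B)
    G.toExtension.algebraMap_surjective m hm
  exact isKoszulRegularIdeal_of_pd G.toExtension.ker (m + 1) hpd

end Groth.Agent.Lib.Seat31.LciVascMain
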