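import Mathlib
import Groth.Prelude.Def_LCI2
import Groth.Prelude.Def_SheafNL
import Groth.Agent.Lib.Seat31LciVascMain
import Groth.Agent.Lib.Seat30HasLDer
import Groth.Agent.S7222
import Groth.Agent.S6948

/-!
# Seat31: fibres of a flat finitely presented algebra whose naive cotangent complex has tor
amplitude in `[-1, 0]`
-/

set_option autoImplicit false

universe u

open CategoryTheory CategoryTheory.Limits Algebra TensorProduct

attribute [local instance] HasDerivedCategory.standard

namespace Groth.Agent.Lib.Seat31.FlatLciFibre

open Groth.Agent.Lib.Seat31.LciNL Groth.Agent.Lib.Seat31.LciVasc Groth.Agent.Lib.Seat31.LciVascPD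
open Groth.Agent.Lib.Seat31.LciVascMain
open Groth.Agent.Lib.Seat0.PerfHom Groth.Agent.Lib.Seat0.PerfPres

section BaseChange

/-- tor amplitude `[-1, 0]` of the naive cotangent complex is stable under base change of a flat
algebra. -/
theorem torAmp_NL_of_isPushout (A B A' B' : Type u) [CommRing A] [CommRing B]
    [CommRing A'] [CommRing B'] [Algebra A B] [Algebra A' B'] [Algebra A A'] [Algebra B B']
    [Algebra A B'] [IsScalarTower A A' B'] [IsScalarTower A B B'] [Algebra.IsPushout A A' B B']
    [Module.Flat A B] (h : DRing.HasTorAmplitudeIn B (-1) 0 (LCI.NL A B)) :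
    DRing.HasTorAmplitudeIn B' (-1) 0 (LCI.NL A' B') := by
  have : DRing.HasLBaseChange (algebraMap B B') :=
    Groth.Agent.Lib.Seat30.HasLDer.hasLBaseChange (algebraMap B B')
  obtain ⟨e⟩ := (Groth.Agent.S7222.result A B A' B').2 h
  obtain ⟨E, h1, h2, ⟨e'⟩⟩ := Groth.Agent.S6948.result (algebraMap B B') (LCI.NL A B) (-1) 0 h
  exact ⟨E, h1, h2, ⟨e' ≪≫ e⟩⟩

end BaseChange

section Presentation

variable {A B : Type u} [CommRing A] [CommRing B] [Algebra A B]

set_option backward.isDefEq.respectTransparency false in
/-- for a GIVEN presentation of a finite type algebra of finite tor dimension over a Noetherian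
ring whose naive cotangent complex has tor amplitude in `[-1, 0]`: the kernel has finite
projective dimension and projective conormal module. -/
theorem projective_cotangent_and_pd [IsNoetherianRing A] {n : ℕ}
    (f : MvPolynomial (Fin n) A →ₐ[A] B) (hf : Function.Surjective f)
    (hB : DRing.HasFiniteTorDim A B) (h : DRing.HasTorAmplitudeIn B (-1) 0 (LCI.NL A B)) :
    Module.Projective (MvPolynomial (Fin n) A ⧸ RingHom.ker f.toRingHom)
        (RingHom.ker f.toRingHom).Cotangent ∧
      ∃ m : ℕ, HasProjectiveDimensionLT
        (ModuleCat.of (MvPolynomial (Fin n) A) (RingHom.ker f.toRingHom)) m := by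
  rw [← gensOf_ker f hf]
  set G := gensOf f hf with hG
  have : Algebra.FiniteType A B := Algebra.FiniteType.of_surjective f hf
  have hT : DRing.HasTorAmplitudeIn B (-1) 0 (DRing.toD (NLCx.cx G.toExtension)) := by
    obtain ⟨E', h1, h2, ⟨e⟩⟩ := h
    exact ⟨E', h1, h2, ⟨e ≪≫ (isoOfGenerators G (Generators.self A B)).symm⟩⟩
  have hflat : Module.Flat B G.toExtension.Cotangent := flat_cotangent_of_torAmp G hT
  have hNP : IsNoetherianRing G.toExtension.Ring :=
    inferInstanceAs (IsNoetherianRing (MvPolynomial (Fin n) A))
  have hNB : IsNoetherianRing B := Algebra.FiniteType.isNoetherianRing A B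
  have hfg : G.toExtension.ker.FG := IsNoetherian.noetherian _
  have hfin : Module.Finite B G.toExtension.Cotangent := Extension.Cotangent.finite hfg
  have hfp : Module.FinitePresentation B G.toExtension.Cotangent :=
    Module.finitePresentation_of_finite B _
  have hproj : Module.Projective B G.toExtension.Cotangent :=
    Module.Flat.projective_of_finitePresentation
  have hproj' := projective_ker_cotangent G.toExtension
  have hftd : FTD (algebraMap G.toExtension.Ring B) := by
    apply ftd_of_ftd_base (R := A) (n := n)
    have : (algebraMap G.toExtension.Ring B).comp MvPolynomial.C = algebraMap A B := by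
      ext a
      show algebraMap G.toExtension.Ring B (algebraMap A G.toExtension.Ring a) = _
      rw [← IsScalarTower.algebraMap_apply]
    rw [this]
    exact ftd_algebraMap_iff.2 hB
  obtain ⟨m, hm⟩ := ftd_algebraMap_iff.1 hftd
  have hpd := hasProjectiveDimensionLT_ker (R := G.toExtension.Ring) (B := B)
    G.toExtension.algebraMap_surjective m hm
  exact ⟨hproj', m + 1, hpd⟩

end Presentation

end Groth.Agent.Lib.Seat31.FlatLciFibre
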