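import Mathlib
import Groth.Agent.S2189

/-!
# Seat31: the local form of Vasconcelos' theorem (extracted from the proof of S2189)

For a Noetherian ring `R`, an ideal `I` of finite projective dimension with projective conormal
module and a prime `p ⊇ I`, there is a list `as` of elements of `R` whose image in `R_p` is a
weakly regular sequence generating `I R_p`.
-/

set_option autoImplicit false

universe u

open CategoryTheory

namespace Groth.Agent.Lib.Seat31.VascLocal

open IsLocalRing Groth.Agent.Helper13Vasc

theorem exists_weaklyRegular_atPrime {R : Type u} [CommRing R] [IsNoetherianRing R] (I : Ideal R)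
    (n : ℕ) (hpd : HasProjectiveDimensionLT (ModuleCat.of R I) n)
    [Module.Projective (R ⧸ I) I.Cotangent] (p : Ideal R) [p.IsPrime] (hIp : I ≤ p) :
    ∃ as : List R,
      RingTheory.Sequence.IsWeaklyRegular (Localization.AtPrime p)
        (as.map (algebraMap R (Localization.AtPrime p))) ∧
      Ideal.ofList (as.map (algebraMap R (Localization.AtPrime p))) =
        I.map (algebraMap R (Localization.AtPrime p)) := by
  classical
  have hJ : I.map (algebraMap R (Localization.AtPrime p)) ≤
      maximalIdeal (Localization.AtPrime p) := by
    rw [Ideal.map_le_iff_le_comap]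
    exact le_trans hIp (le_of_eq
      (IsLocalization.AtPrime.comap_maximalIdeal (Localization.AtPrime p) p).symm)
  have hfinR : Module.Finite R I.Cotangent :=
    Module.Finite.of_surjective I.toCotangent I.toCotangent_surjective
  have hfin : Module.Finite (R ⧸ I) I.Cotangent :=
    Module.Finite.of_restrictScalars_finite R (R ⧸ I) I.Cotangent
  have hproj := projective_cotangent_map I p.primeCompl (Localization.AtPrime p)
  obtain ⟨r, x, hspan, hind⟩ := exists_indep_of_projective_cotangent
    (I.map (algebraMap R (Localization.AtPrime p))) hJ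
  have hpdJ : ∃ m, HasProjectiveDimensionLT (ModuleCat.of (Localization.AtPrime p)
      ↥(Ideal.span (Set.range x))) m := by
    rw [hspan]
    have h1 : HasProjectiveDimensionLT (ModuleCat.of R ↥I) (n + 1) :=
      hasProjectiveDimensionLT_of_ge _ n (n + 1) (Nat.le_succ n)
    have h2 := pdLT_localizedModule p.primeCompl ↥I n h1
    let e₀ : LocalizedModule p.primeCompl ↥I ≃ₗ[R]
        ↥(I.map (algebraMap R (Localization.AtPrime p))) :=
      IsLocalizedModule.linearEquiv p.primeCompl (LocalizedModule.mkLinearMap p.primeCompl ↥I)
        (Algebra.idealMap (Localization.AtPrime p) I)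
    let e : LocalizedModule p.primeCompl ↥I ≃ₗ[Localization.AtPrime p]
        ↥(I.map (algebraMap R (Localization.AtPrime p))) :=
      LinearEquiv.extendScalarsOfIsLocalization p.primeCompl (Localization.AtPrime p) e₀
    have := h2
    exact ⟨n + 1, hasProjectiveDimensionLT_of_iso e.toModuleIso (n + 1)⟩
  obtain ⟨rsT, hrsT, hrsTJ⟩ := exists_regular_of_indep r (Localization.AtPrime p) x
    (hspan ▸ hJ) hind hpdJ
  rw [hspan] at hrsTJ
  obtain ⟨as, has⟩ := Groth.Agent.S2189.exists_list_units p.primeCompl (Localization.AtPrime p) rsT
  exact ⟨as, isWeaklyRegular_of_forall₂_units has hrsT,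
    (ofList_eq_of_forall₂_units has).trans hrsTJ⟩

end Groth.Agent.Lib.Seat31.VascLocal
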