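import Mathlib
import Groth.Prelude.Def_LCI2
import Groth.Agent.Lib.Seat31FlatLciFibre
import Groth.Agent.Lib.Seat31VascLocal
import Groth.Agent.Lib.Seat31FibrePres
import Groth.Agent.Lib.Seat31FlatLciAux
import Groth.Agent.Lib.Seat56RelGCI3
import Groth.Agent.Lib.Seat56RelGCI6

/-!
# Seat31: a flat finitely presented algebra whose naive cotangent complex has tor amplitude in
`[-1, 0]` is, at every prime of a presentation, cut out by a regular sequence
-/

set_option autoImplicit false
set_option linter.style.haveILetI false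

universe u

open CategoryTheory CategoryTheory.Limits Algebra TensorProduct RingTheory.Sequence

attribute [local instance] HasDerivedCategory.standard
attribute [local instance] MvPolynomial.algebraMvPolynomial

namespace Groth.Agent.Lib.Seat31.FlatLciLocal

open Groth.Agent.Lib.Seat31.FlatLciFibre Groth.Agent.Lib.Seat31.VascLocal
open Groth.Agent.Lib.Seat31.FibrePres Groth.Agent.Lib.Seat31.FlatLciAux
open Groth.Agent.Lib.Seat56.RelGCI

section Denominators

variable {A : Type u} [CommRing A] {n : ℕ} (p : Ideal A) [p.IsPrime]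

lemma map_smul_poly (r : A) (y : MvPolynomial (Fin n) A) :
    MvPolynomial.map (algebraMap A p.ResidueField) (r • y) =
      r • MvPolynomial.map (algebraMap A p.ResidueField) y := by
  rw [MvPolynomial.smul_eq_C_mul, map_mul, MvPolynomial.map_C, ← MvPolynomial.smul_eq_C_mul,
    algebraMap_smul]

/-- clearing denominators in the extension of an ideal to `κ(p)[x]`. -/
theorem exists_smul_eq_map_of_mem (J : Ideal (MvPolynomial (Fin n) A))
    (z : MvPolynomial (Fin n) p.ResidueField)
    (hz : z ∈ J.map (MvPolynomial.map (algebraMap A p.ResidueField))) :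
    ∃ r ∉ p, ∃ y ∈ J, r • z = MvPolynomial.map (algebraMap A p.ResidueField) y := by
  unfold Ideal.map at hz
  induction hz using Submodule.span_induction with
  | mem z hz =>
    obtain ⟨x, hx, rfl⟩ := hz
    exact ⟨1, fun h => ‹p.IsPrime›.ne_top ((Ideal.eq_top_iff_one p).2 h), x, hx, one_smul _ _⟩
  | zero =>
    exact ⟨1, fun h => ‹p.IsPrime›.ne_top ((Ideal.eq_top_iff_one p).2 h), 0, J.zero_mem,
      by rw [smul_zero, map_zero]⟩
  | add z₁ z₂ _ _ h₁ h₂ =>
    obtain ⟨r₁, hr₁, y₁, hy₁, e₁⟩ := h₁
    obtain ⟨r₂, hr₂, y₂, hy₂, e₂⟩ := h₂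
    refine ⟨r₁ * r₂, fun h => (‹p.IsPrime›.mem_or_mem h).elim hr₁ hr₂, r₂ • y₁ + r₁ • y₂,
      J.add_mem (Submodule.smul_of_tower_mem J r₂ hy₁) (Submodule.smul_of_tower_mem J r₁ hy₂), ?_⟩
    rw [map_add, map_smul_poly, map_smul_poly, ← e₁, ← e₂, smul_add, mul_smul, mul_smul,
      smul_comm r₁ r₂ z₁]
  | smul t z _ h =>
    obtain ⟨r, hr, y, hy, e⟩ := h
    obtain ⟨r', hr', s, es⟩ := exists_smul_eq_map n p t
    refine ⟨r' * r, fun h => (‹p.IsPrime›.mem_or_mem h).elim hr' hr, s * y,
      J.mul_mem_left s hy, ?_⟩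
    rw [map_mul, ← es, ← e, smul_mul_smul_comm, smul_eq_mul]


lemma isUnit_C_algebraMap {r : A} (hr : r ∉ p) :
    IsUnit (MvPolynomial.C (algebraMap A p.ResidueField r) :
      MvPolynomial (Fin n) p.ResidueField) := by
  apply IsUnit.map
  rw [isUnit_iff_ne_zero, ne_eq, Ideal.algebraMap_residueField_eq_zero]
  exact hr

lemma smul_eq_C_mul' (r : A) (z : MvPolynomial (Fin n) p.ResidueField) :
    r • z = MvPolynomial.C (algebraMap A p.ResidueField r) * z := by
  rw [← MvPolynomial.smul_eq_C_mul, algebraMap_smul]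

variable (Q : Ideal (MvPolynomial (Fin n) p.ResidueField)) [Q.IsPrime]

/-- an element of the localised extended ideal is, up to a unit, the image of an element of the
ideal. -/
theorem exists_lift_unit (J : Ideal (MvPolynomial (Fin n) A))
    (a : MvPolynomial (Fin n) p.ResidueField)
    (ha : algebraMap _ (Localization.AtPrime Q) a ∈
      (J.map (MvPolynomial.map (algebraMap A p.ResidueField))).map
        (algebraMap _ (Localization.AtPrime Q))) :
    ∃ y ∈ J, ∃ u : (Localization.AtPrime Q)ˣ,
      algebraMap _ (Localization.AtPrime Q) (MvPolynomial.map (algebraMap A p.ResidueField) y) =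
        algebraMap _ (Localization.AtPrime Q) a * u := by
  obtain ⟨⟨⟨z, hz⟩, σ⟩, hσ⟩ :=
    (IsLocalization.mem_map_algebraMap_iff Q.primeCompl (Localization.AtPrime Q)).1 ha
  obtain ⟨r, hr, y, hy, e⟩ := exists_smul_eq_map_of_mem p J z hz
  have hu1 : IsUnit (algebraMap (MvPolynomial (Fin n) p.ResidueField) (Localization.AtPrime Q) σ) :=
    IsLocalization.map_units _ σ
  have hu2 : IsUnit (algebraMap (MvPolynomial (Fin n) p.ResidueField) (Localization.AtPrime Q)
      (MvPolynomial.C (algebraMap A p.ResidueField r))) := (isUnit_C_algebraMap p hr).map _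
  refine ⟨y, hy, hu1.unit * hu2.unit, ?_⟩
  rw [← e, smul_eq_C_mul', map_mul]
  simp only [Units.val_mul, IsUnit.unit_spec]
  have hσ' : algebraMap _ (Localization.AtPrime Q) a *
      algebraMap (MvPolynomial (Fin n) p.ResidueField) (Localization.AtPrime Q) (σ : _) =
      algebraMap _ (Localization.AtPrime Q) z := hσ
  rw [← hσ']
  ring

/-- lifting a list of generators. -/
theorem exists_list_lift (J : Ideal (MvPolynomial (Fin n) A))
    (as : List (MvPolynomial (Fin n) p.ResidueField))
    (has : ∀ a ∈ as, algebraMap _ (Localization.AtPrime Q) a ∈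
      (J.map (MvPolynomial.map (algebraMap A p.ResidueField))).map
        (algebraMap _ (Localization.AtPrime Q))) :
    ∃ ys : List (MvPolynomial (Fin n) A), (∀ y ∈ ys, y ∈ J) ∧
      List.Forall₂ (fun (t t' : Localization.AtPrime Q) =>
          ∃ u : (Localization.AtPrime Q)ˣ, t' = t * (u : Localization.AtPrime Q))
        (as.map (algebraMap _ (Localization.AtPrime Q)))
        ((ys.map (MvPolynomial.map (algebraMap A p.ResidueField))).map
          (algebraMap _ (Localization.AtPrime Q))) := by
  induction as with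
  | nil => exact ⟨[], by simp, List.Forall₂.nil⟩
  | cons a as ih =>
    obtain ⟨ys, hys, hall⟩ := ih (fun b hb => has b (List.mem_cons_of_mem _ hb))
    obtain ⟨y, hy, u, hu⟩ := exists_lift_unit p Q J a (has a List.mem_cons_self)
    refine ⟨y :: ys, ?_, ?_⟩
    · intro t ht
      rcases List.mem_cons.1 ht with rfl | ht
      · exact hy
      · exact hys t ht
    · simp only [List.map_cons]
      exact List.Forall₂.cons ⟨u, hu⟩ hall

end Denominators

section FibreHyp

variable {A : Type u} [CommRing A] {n : ℕ}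
  (q' : Ideal (MvPolynomial (Fin n) A)) [q'.IsPrime]

set_option synthInstance.maxHeartbeats 400000 in
set_option maxHeartbeats 1000000 in
/-- from regularity in `κ(p)[x]_Q` to the fibre hypothesis of EGA IV 11.3.8 (after helper56). -/
theorem isRegular_localizedModule_of_atPrime
    (Q : Ideal (MvPolynomial (Fin n)
      (q'.comap (algebraMap A (MvPolynomial (Fin n) A))).ResidueField)) [Q.IsPrime]
    (hQ : Q.comap (MvPolynomial.map (algebraMap A
      (q'.comap (algebraMap A (MvPolynomial (Fin n) A))).ResidueField)) = q')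
    (ys : List (MvPolynomial (Fin n) A))
    (hreg : IsRegular (Localization.AtPrime Q)
      ((ys.map (MvPolynomial.map (algebraMap A
        (q'.comap (algebraMap A (MvPolynomial (Fin n) A))).ResidueField))).map
          (algebraMap _ (Localization.AtPrime Q)))) :
    IsRegular (LocalizedModule q'.primeCompl (MvPolynomial (Fin n) A ⊗[A]
      (q'.comap (algebraMap A (MvPolynomial (Fin n) A))).ResidueField)) ys := by
  set p := q'.comap (algebraMap A (MvPolynomial (Fin n) A)) with hp
  set κ := p.ResidueField with hκ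
  set φ := MvPolynomial.map (σ := Fin n) (algebraMap A κ) with hφ
  haveI := isLocalization_atPrime_over q' Q hQ
  let ψ : MvPolynomial (Fin n) κ →ₗ[MvPolynomial (Fin n) A] Localization.AtPrime Q :=
    (IsScalarTower.toAlgHom (MvPolynomial (Fin n) A) (MvPolynomial (Fin n) κ)
      (Localization.AtPrime Q)).toLinearMap
  haveI : IsLocalizedModule q'.primeCompl ψ :=
    (isLocalizedModule_iff_isLocalization (S := q'.primeCompl)
      (A := MvPolynomial (Fin n) κ) (Aₛ := Localization.AtPrime Q)).mpr inferInstance
  let e : MvPolynomial (Fin n) A ⊗[A] κ ≃ₗ[MvPolynomial (Fin n) A] MvPolynomial (Fin n) κ :=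
    (Algebra.IsPushout.equiv A (MvPolynomial (Fin n) A) κ (MvPolynomial (Fin n) κ)).toLinearEquiv
  haveI : IsLocalizedModule q'.primeCompl (ψ ∘ₗ e.toLinearMap) :=
    IsLocalizedModule.of_linearEquiv_right q'.primeCompl ψ e
  let iso : LocalizedModule q'.primeCompl (MvPolynomial (Fin n) A ⊗[A] κ)
      ≃ₗ[MvPolynomial (Fin n) A] Localization.AtPrime Q :=
    IsLocalizedModule.iso q'.primeCompl (ψ ∘ₗ e.toLinearMap)
  have hlist : ys.map (algebraMap (MvPolynomial (Fin n) A) (Localization.AtPrime Q)) =
      (ys.map φ).map (algebraMap (MvPolynomial (Fin n) κ) (Localization.AtPrime Q)) := by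
    rw [List.map_map]
    congr 1
  rw [iso.isRegular_congr, ← isRegular_map_algebraMap_iff (S := Localization.AtPrime Q), hlist]
  exact hreg

end FibreHyp

section Fibre

attribute [local instance] Algebra.TensorProduct.rightAlgebra

variable {A B : Type u} [CommRing A] [CommRing B] [Algebra A B] [Module.Flat A B] {n : ℕ}
  (f : MvPolynomial (Fin n) A →ₐ[A] B) (hf : Function.Surjective f)
  (h : DRing.HasTorAmplitudeIn B (-1) 0 (LCI.NL A B))
  (q' : Ideal (MvPolynomial (Fin n) A)) [q'.IsPrime] (hq' : RingHom.ker f.toRingHom ≤ q')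

include hf h hq' in
/-- the fibre ideal is generated near `Q` by a weakly regular sequence. -/
theorem exists_fibre_generators
    (Q : Ideal (MvPolynomial (Fin n)
      (q'.comap (algebraMap A (MvPolynomial (Fin n) A))).ResidueField)) [Q.IsPrime]
    (hQ : Q.comap (MvPolynomial.map (algebraMap A
      (q'.comap (algebraMap A (MvPolynomial (Fin n) A))).ResidueField)) = q') :
    ∃ as : List (MvPolynomial (Fin n)
        (q'.comap (algebraMap A (MvPolynomial (Fin n) A))).ResidueField),
      IsWeaklyRegular (Localization.AtPrime Q)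
        (as.map (algebraMap _ (Localization.AtPrime Q))) ∧
      Ideal.ofList (as.map (algebraMap _ (Localization.AtPrime Q))) =
        ((RingHom.ker f.toRingHom).map (MvPolynomial.map (algebraMap A
          (q'.comap (algebraMap A (MvPolynomial (Fin n) A))).ResidueField))).map
          (algebraMap _ (Localization.AtPrime Q)) := by
  set p := q'.comap (algebraMap A (MvPolynomial (Fin n) A)) with hp
  set κ := p.ResidueField with hκ
  have hT := torAmp_NL_of_isPushout A B κ (κ ⊗[A] B) h
  have hB : DRing.HasFiniteTorDim κ (κ ⊗[A] B) :=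
    ⟨0, (Groth.Agent.Lib.Helper1.TorDim.hasTorDimLE_zero_iff_flat _).2 inferInstance⟩
  obtain ⟨hproj, m, hpd⟩ := projective_cotangent_and_pd (fibPres κ f) (fibPres_surjective κ f hf)
    hB hT
  rw [← ker_fibPres κ f hf]
  have hJQ : RingHom.ker (fibPres κ f).toRingHom ≤ Q := by
    rw [ker_fibPres κ f hf, Ideal.map_le_iff_le_comap, hQ]
    exact hq'
  exact exists_weaklyRegular_atPrime _ m hpd Q hJQ


include hf in
/-- Nakayama with flatness: generators of the fibre ideal at `Q` coming from `I` generate
`I P_{q'}`. -/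
theorem ofList_map_eq_of_fibre (hfg : (RingHom.ker f.toRingHom).FG)
    (Q : Ideal (MvPolynomial (Fin n)
      (q'.comap (algebraMap A (MvPolynomial (Fin n) A))).ResidueField)) [Q.IsPrime]
    (hQ : Q.comap (MvPolynomial.map (algebraMap A
      (q'.comap (algebraMap A (MvPolynomial (Fin n) A))).ResidueField)) = q')
    (ys : List (MvPolynomial (Fin n) A)) (hys : ∀ y ∈ ys, y ∈ RingHom.ker f.toRingHom)
    (hgen : Ideal.ofList ((ys.map (MvPolynomial.map (algebraMap A
        (q'.comap (algebraMap A (MvPolynomial (Fin n) A))).ResidueField))).map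
          (algebraMap _ (Localization.AtPrime Q))) =
      ((RingHom.ker f.toRingHom).map (MvPolynomial.map (algebraMap A
          (q'.comap (algebraMap A (MvPolynomial (Fin n) A))).ResidueField))).map
          (algebraMap _ (Localization.AtPrime Q))) :
    Ideal.ofList (ys.map (algebraMap (MvPolynomial (Fin n) A) (Localization.AtPrime q'))) =
      (RingHom.ker f.toRingHom).map
        (algebraMap (MvPolynomial (Fin n) A) (Localization.AtPrime q')) := by
  set I := RingHom.ker f.toRingHom with hI
  set p := q'.comap (algebraMap A (MvPolynomial (Fin n) A)) with hp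
  set κ := p.ResidueField with hκ
  set φ := MvPolynomial.map (σ := Fin n) (algebraMap A κ) with hφ
  have hysI : Ideal.ofList ys ≤ I := by
    unfold Ideal.ofList
    rw [Ideal.span_le]
    exact fun y hy => hys y hy
  apply le_antisymm
  · rw [← Ideal.map_ofList]
    exact Ideal.map_mono hysI
  -- Nakayama
  set 𝔭 : Ideal (Localization.AtPrime q') := (p.map (MvPolynomial.C : A →+* MvPolynomial (Fin n) A)).map (algebraMap (MvPolynomial (Fin n) A) (Localization.AtPrime q')) with h𝔭
  have hpq : p.map (MvPolynomial.C : A →+* MvPolynomial (Fin n) A) ≤ q' := by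
    rw [Ideal.map_le_iff_le_comap]
    exact le_refl _
  have h𝔭J : 𝔭 ≤ Ideal.jacobson ⊥ := by
    rw [IsLocalRing.jacobson_eq_maximalIdeal ⊥ bot_ne_top,
      ← Localization.AtPrime.map_eq_maximalIdeal]
    exact Ideal.map_mono hpq
  have hJfg : (I.map (algebraMap (MvPolynomial (Fin n) A) (Localization.AtPrime q'))).FG := Ideal.FG.map hfg _
  refine Submodule.le_of_le_smul_of_le_jacobson_bot (I := 𝔭) hJfg h𝔭J ?_
  rw [Ideal.map_le_iff_le_comap]
  intro x hx
  rw [Ideal.mem_comap]
  -- the fibre relation
  have hx1 : algebraMap _ (Localization.AtPrime Q) (φ x) ∈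
      (Ideal.ofList (ys.map φ)).map (algebraMap _ (Localization.AtPrime Q)) := by
    rw [Ideal.map_ofList, hgen]
    exact Ideal.mem_map_of_mem _ (Ideal.mem_map_of_mem _ hx)
  obtain ⟨⟨⟨z, hz⟩, σ⟩, hσ⟩ :=
    (IsLocalization.mem_map_algebraMap_iff Q.primeCompl (Localization.AtPrime Q)).1 hx1
  have hσ' : φ x * (σ : MvPolynomial (Fin n) κ) = z := by
    apply IsLocalization.injective (Localization.AtPrime Q) Q.primeCompl_le_nonZeroDivisors
    rw [map_mul]
    exact hσ
  rw [← Ideal.map_ofList] at hz
  obtain ⟨r, hr, y', hy', e⟩ := exists_smul_eq_map_of_mem p (Ideal.ofList ys) z hz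
  obtain ⟨r', hr', s, es⟩ := exists_smul_eq_map n p (σ : MvPolynomial (Fin n) κ)
  have hs : s ∉ q' := by
    intro hsq
    have h1 : φ s ∈ Q := by
      rw [← hQ] at hsq
      exact hsq
    rw [← es, smul_eq_C_mul'] at h1
    rcases ‹Q.IsPrime›.mem_or_mem h1 with h2 | h2
    · exact ‹Q.IsPrime›.ne_top (Ideal.eq_top_of_isUnit_mem _ h2 (isUnit_C_algebraMap p hr'))
    · exact σ.2 h2
  -- the difference lies in `𝔭 P ∩ I = 𝔭 I`
  set d : MvPolynomial (Fin n) A := r • (x * s) - r' • y' with hd
  have hdφ : φ d = 0 := by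
    rw [hd, map_sub, map_smul_poly, map_smul_poly, map_mul, ← es, ← e, ← hσ']
    rw [mul_smul_comm, smul_smul, smul_smul, mul_comm r r', sub_self]
  have hdp : d ∈ p.map (MvPolynomial.C : A →+* MvPolynomial (Fin n) A) := by
    have : d ∈ RingHom.ker φ := hdφ
    rwa [hφ, MvPolynomial.ker_map, Ideal.ker_algebraMap_residueField] at this
  have hdI : d ∈ I := by
    refine I.sub_mem (Submodule.smul_of_tower_mem I r (I.mul_mem_right s hx))
      (Submodule.smul_of_tower_mem I r' (hysI hy'))
  have hdm := inf_le_mul_of_flat f hf p d hdI hdp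
  have hd𝔭 : algebraMap (MvPolynomial (Fin n) A) (Localization.AtPrime q') d ∈ 𝔭 • (I.map (algebraMap (MvPolynomial (Fin n) A) (Localization.AtPrime q'))) := by
    rw [smul_eq_mul, h𝔭, ← Ideal.map_mul]
    exact Ideal.mem_map_of_mem _ hdm
  -- the unit
  have hCr : (MvPolynomial.C r : MvPolynomial (Fin n) A) ∉ q' := fun hmem => hr hmem
  have hw : IsUnit (algebraMap (MvPolynomial (Fin n) A) (Localization.AtPrime q') (MvPolynomial.C r * s)) :=
    IsLocalization.map_units (Localization.AtPrime q') (⟨MvPolynomial.C r * s, fun hmem =>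
      (‹q'.IsPrime›.mem_or_mem hmem).elim hCr hs⟩ : q'.primeCompl)
  have heq : algebraMap (MvPolynomial (Fin n) A) (Localization.AtPrime q') (MvPolynomial.C r * s) * algebraMap (MvPolynomial (Fin n) A) (Localization.AtPrime q') x =
      algebraMap (MvPolynomial (Fin n) A) (Localization.AtPrime q') (r' • y') + algebraMap (MvPolynomial (Fin n) A) (Localization.AtPrime q') d := by
    rw [← map_mul, ← map_add, hd]
    congr 1
    rw [MvPolynomial.smul_eq_C_mul (x * s) r]
    ring
  have hmem : algebraMap (MvPolynomial (Fin n) A) (Localization.AtPrime q') (MvPolynomial.C r * s) * algebraMap (MvPolynomial (Fin n) A) (Localization.AtPrime q') x ∈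
      Ideal.ofList (ys.map (algebraMap (MvPolynomial (Fin n) A) (Localization.AtPrime q'))) ⊔ 𝔭 • (I.map (algebraMap (MvPolynomial (Fin n) A) (Localization.AtPrime q'))) := by
    rw [heq]
    refine Submodule.add_mem_sup ?_ hd𝔭
    rw [← Ideal.map_ofList]
    exact Ideal.mem_map_of_mem _ (Submodule.smul_of_tower_mem _ r' hy')
  obtain ⟨w, hw'⟩ := hw
  have := Ideal.mul_mem_left _ ((w⁻¹ : (Localization.AtPrime q')ˣ) : Localization.AtPrime q') hmem
  rwa [← hw', ← mul_assoc, Units.inv_mul, one_mul] at this


include hf h hq' in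
/-- **at every prime of the presentation, the kernel is generated by a regular sequence (with
flat partial quotients).** -/
theorem exists_regular_generators_atPrime (hfg : (RingHom.ker f.toRingHom).FG) :
    ∃ ys : List (MvPolynomial (Fin n) A), (∀ y ∈ ys, y ∈ RingHom.ker f.toRingHom) ∧
      IsRegular (Localization.AtPrime q')
        (ys.map (algebraMap (MvPolynomial (Fin n) A) (Localization.AtPrime q'))) ∧
      Ideal.ofList (ys.map (algebraMap (MvPolynomial (Fin n) A) (Localization.AtPrime q'))) =
        (RingHom.ker f.toRingHom).map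
          (algebraMap (MvPolynomial (Fin n) A) (Localization.AtPrime q')) ∧
      ∀ i ≤ ys.length, Module.Flat A (Localization.AtPrime q' ⧸ Ideal.ofList
        ((ys.take i).map (algebraMap (MvPolynomial (Fin n) A) (Localization.AtPrime q')))) := by
  obtain ⟨Q, hQprime, hQ⟩ := exists_prime_over q'
  obtain ⟨as, hasreg, hasgen⟩ := exists_fibre_generators f hf h q' hq' Q hQ
  set p := q'.comap (algebraMap A (MvPolynomial (Fin n) A)) with hp
  set κ := p.ResidueField with hκ
  set φ := MvPolynomial.map (σ := Fin n) (algebraMap A κ) with hφ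
  have has : ∀ a ∈ as, algebraMap _ (Localization.AtPrime Q) a ∈
      ((RingHom.ker f.toRingHom).map φ).map (algebraMap _ (Localization.AtPrime Q)) := by
    intro a ha
    rw [← hasgen]
    exact Ideal.subset_span (List.mem_map_of_mem ha)
  obtain ⟨ys, hys, hall⟩ := exists_list_lift p Q (RingHom.ker f.toRingHom) as has
  have hreg' := Groth.Agent.Helper13Vasc.isWeaklyRegular_of_forall₂_units hall hasreg
  have hgen' := (Groth.Agent.Helper13Vasc.ofList_eq_of_forall₂_units hall).trans hasgen
  have hgenT := ofList_map_eq_of_fibre f hf q' hfg Q hQ ys hys hgen'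
  have hIQ : (RingHom.ker f.toRingHom).map φ ≤ Q := by
    rw [Ideal.map_le_iff_le_comap, hQ]
    exact hq'
  have hregQ : IsRegular (Localization.AtPrime Q)
      ((ys.map φ).map (algebraMap _ (Localization.AtPrime Q))) := by
    refine ⟨hreg', ?_⟩
    rw [smul_eq_mul, Ideal.mul_top, hgen']
    intro htop
    have h1 : ((RingHom.ker f.toRingHom).map φ).map (algebraMap _ (Localization.AtPrime Q)) ≤
        IsLocalRing.maximalIdeal (Localization.AtPrime Q) := by
      rw [← Localization.AtPrime.map_eq_maximalIdeal]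
      exact Ideal.map_mono hIQ
    rw [← htop] at h1
    exact (IsLocalRing.maximalIdeal.isMaximal _).ne_top (top_le_iff.1 h1)
  have hfib := isRegular_localizedModule_of_atPrime q' Q hQ ys hregQ
  have hflat : Module.Flat A (LocalizedModule q'.primeCompl (MvPolynomial (Fin n) A)) :=
    Groth.Agent.Lib.Helper3.FlatLoc.flat_localizedModule_of_flat q'.primeCompl
  obtain ⟨h1, h2⟩ := Groth.Agent.Lib.Seat56.FibReg.isRegular_and_flat_quotients_of_isRegular_fibre
    q' ys (MvPolynomial (Fin n) A) hflat hfib
  refine ⟨ys, hys, ?_, hgenT, ?_⟩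
  · let iso₀ : LocalizedModule q'.primeCompl (MvPolynomial (Fin n) A) ≃ₗ[MvPolynomial (Fin n) A]
        Localization.AtPrime q' :=
      IsLocalizedModule.iso q'.primeCompl
        (Algebra.linearMap (MvPolynomial (Fin n) A) (Localization.AtPrime q'))
    rw [isRegular_map_algebraMap_iff]
    exact (iso₀.isRegular_congr _).mp h1
  · intro i hi
    have h3 := h2 i hi
    rw [← Ideal.map_ofList]
    exact Module.Flat.of_linearEquiv
      ((localizedQuotEquiv q' (Ideal.ofList (ys.take i))).symm.restrictScalars A)

end Fibre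

end Groth.Agent.Lib.Seat31.FlatLciLocal
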