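import Groth.Agent.Lib.Seat7KRDescentB
import Groth.Agent.Lib.Helper19QRegConv2

/-!
# Seat7: existence of charts for ideals with finitely generated projective conormal module

* `kchart_of_functionals`: generators on `D(g)` admitting dual functionals on the conormal module
  form a chart;
* `gen_map`: the generation property of a chart is stable under ring maps;
* `exists_coords`: an ideal `J` which is finitely generated with projective conormal module has,
  around every prime containing it, generators with dual functionals.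
-/

set_option autoImplicit false
set_option linter.style.haveILetI false
universe u

namespace Groth.Agent.Lib.Seat7.KRDescentC

open Groth.Agent.Lib.Seat7.KRDescentB Groth.Agent.Lib.Helper19.QRegConv
  Groth.Agent.Lib.Helper19.QRegChart

variable {R : Type u} [CommRing R]

/-- generators on `D(g)` admitting dual functionals on the conormal module form a chart. -/
theorem kchart_of_functionals (J : Ideal R) (g : R) {r : ℕ} (x : Fin r → J)
    (μ : Fin r → (J.Cotangent →ₗ[R ⧸ J] R ⧸ J))
    (hμ : ∀ i j, μ i (J.toCotangent (x j)) = if i = j then Ideal.Quotient.mk J g else 0)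
    (hgen : ∀ y ∈ J, ∃ k : ℕ, g ^ k * y ∈ Ideal.span (Set.range fun i => (x i : R))) :
    KChart J g (fun i => (x i : R)) where
  mem i := (x i).2
  gen := hgen
  indep c h j := by
    classical
    refine ⟨1, ?_⟩
    have h0 : J.toCotangent (∑ i, c i • x i) = 0 := by
      rw [Ideal.toCotangent_eq_zero]
      convert h using 1
      rw [Submodule.coe_sum]
      rfl
    have h1 := congrArg (μ j) h0
    rw [map_sum, map_sum, map_zero] at h1
    have h2 : ∀ i, μ j (J.toCotangent (c i • x i)) =
        if j = i then Ideal.Quotient.mk J (c i * g) else 0 := by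
      intro i
      rw [map_smul, ← mk_smul_cot, map_smul, hμ, smul_eq_mul]
      split_ifs
      · rw [map_mul]
      · rw [mul_zero]
    simp_rw [h2] at h1
    rw [Finset.sum_ite_eq Finset.univ j, if_pos (Finset.mem_univ j),
      Ideal.Quotient.eq_zero_iff_mem] at h1
    rw [pow_one, mul_comm]
    exact h1

/-- the generation property of a chart is stable under ring maps. -/
theorem gen_map {R' : Type u} [CommRing R'] (φ : R →+* R') (J : Ideal R) (g : R) {r : ℕ}
    (x : Fin r → R)
    (hgen : ∀ y ∈ J, ∃ k : ℕ, g ^ k * y ∈ Ideal.span (Set.range x)) :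
    ∀ y ∈ J.map φ, ∃ k : ℕ, φ g ^ k * y ∈ Ideal.span (Set.range fun i => φ (x i)) := by
  intro y hy
  refine Submodule.span_induction (p := fun y _ => ∃ k : ℕ, φ g ^ k * y ∈
    Ideal.span (Set.range fun i => φ (x i))) ?_ ?_ ?_ ?_ hy
  · rintro _ ⟨z, hz, rfl⟩
    obtain ⟨k, hk⟩ := hgen z hz
    refine ⟨k, ?_⟩
    have h1 := Ideal.mem_map_of_mem φ hk
    rw [Ideal.map_span, ← Set.range_comp, map_mul, map_pow] at h1
    exact h1
  · exact ⟨0, by simp⟩
  · rintro a b _ _ ⟨k1, h1⟩ ⟨k2, h2⟩
    refine ⟨k1 + k2, ?_⟩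
    have e : φ g ^ (k1 + k2) * (a + b) =
        φ g ^ k2 * (φ g ^ k1 * a) + φ g ^ k1 * (φ g ^ k2 * b) := by ring
    rw [e]
    exact Ideal.add_mem _ (Ideal.mul_mem_left _ _ h1) (Ideal.mul_mem_left _ _ h2)
  · rintro a b _ ⟨k, h1⟩
    refine ⟨k, ?_⟩
    have e : φ g ^ k * (a • b) = a * (φ g ^ k * b) := by
      rw [smul_eq_mul]; ring
    rw [e]
    exact Ideal.mul_mem_left _ _ h1

/-- around every prime containing it, an ideal which is finitely generated with projective
conormal module has generators with dual functionals. -/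
theorem exists_coords (J : Ideal R) (hFG : J.FG) (hproj : Module.Projective (R ⧸ J) J.Cotangent)
    (P : Ideal R) [hP : P.IsPrime] (hJP : J ≤ P) :
    ∃ (g : R) (r : ℕ) (x : Fin r → J) (μ : Fin r → (J.Cotangent →ₗ[R ⧸ J] R ⧸ J)),
      g ∉ P ∧
      (∀ i j, μ i (J.toCotangent (x j)) = if i = j then Ideal.Quotient.mk J g else 0) ∧
      (∀ y ∈ J, ∃ k : ℕ, g ^ k * y ∈ Ideal.span (Set.range fun i => (x i : R))) := by
  classical
  haveI : Module.Finite R J := Module.Finite.iff_fg.2 hFG
  haveI : Module.Finite R J.Cotangent :=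
    Module.Finite.of_surjective J.toCotangent J.toCotangent_surjective
  haveI : Module.Finite (R ⧸ J) J.Cotangent := Module.Finite.of_restrictScalars_finite R _ _
  let Pbar := P.map (Ideal.Quotient.mk J)
  haveI : Pbar.IsPrime := Ideal.map_isPrime_of_surjective Ideal.Quotient.mk_surjective
    (by rw [Ideal.mk_ker]; exact hJP)
  obtain ⟨r, α, β, s, hs, h1, h2⟩ := exists_local_coords (A := R ⧸ J) (N := J.Cotangent) Pbar
  obtain ⟨g, rfl⟩ := Ideal.Quotient.mk_surjective s
  have hgP : g ∉ P := fun h => hs (Ideal.mem_map_of_mem _ h)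
  choose x hx using fun i : Fin r => Ideal.toCotangent_surjective J (β (Finsupp.single i 1))
  let μ : Fin r → (J.Cotangent →ₗ[R ⧸ J] R ⧸ J) := fun i =>
    (Finsupp.lapply i : (Fin r →₀ R ⧸ J) →ₗ[R ⧸ J] R ⧸ J) ∘ₗ α
  have hμ : ∀ i j, μ i (J.toCotangent (x j)) =
      if i = j then Ideal.Quotient.mk J g else 0 := by
    intro i j
    change (α (J.toCotangent (x j))) i = _
    rw [hx, h2, Finsupp.smul_apply, Finsupp.single_apply, smul_eq_mul]
    by_cases h : i = j
    · rw [if_pos h, if_pos h.symm, mul_one]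
    · rw [if_neg h, if_neg (Ne.symm h), mul_zero]
  have hrel : ∀ y : J, ∃ a : Fin r → R, g * (y : R) - ∑ i, a i * (x i : R) ∈ J ^ 2 := by
    intro y
    choose a ha using fun i => Ideal.Quotient.mk_surjective (α (J.toCotangent y) i)
    refine ⟨a, ?_⟩
    have h3 : J.toCotangent (g • y - ∑ i, a i • x i) = 0 := by
      rw [map_sub, map_smul, map_sum, ← mk_smul_cot, ← h1, sub_eq_zero]
      conv_lhs => rw [← Finsupp.univ_sum_single (α (J.toCotangent y)), map_sum]
      refine Finset.sum_congr rfl fun i _ => ?_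
      rw [← Finsupp.smul_single_one, map_smul, ← hx, ← ha i, mk_smul_cot, map_smul]
    rw [Ideal.toCotangent_eq_zero] at h3
    convert h3 using 1
    rw [Submodule.coe_sub, Submodule.coe_sum]
    simp
  -- Nakayama in the localization
  let φ := algebraMap R (Localization.Away g)
  let J' : Ideal (Localization.Away g) := J.map φ
  let X' : Ideal (Localization.Away g) := Ideal.span (Set.range fun i => φ (x i))
  have hJ'fg : J'.FG := hFG.map φ
  have hle : J' ≤ X' ⊔ J' • J' := by
    rw [Ideal.map_le_iff_le_comap]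
    intro y hy
    rw [Ideal.mem_comap]
    obtain ⟨a, ha⟩ := hrel ⟨y, hy⟩
    have h4 : φ (g ^ 1) * φ y ∈ X' ⊔ J' • J' := by
      have : φ (g ^ 1) * φ y =
          ∑ i, φ (a i) * φ (x i) + φ (g * y - ∑ i, a i * (x i : R)) := by
        simp [map_sub, map_sum, map_mul]
      rw [this]
      refine Submodule.add_mem_sup (Ideal.sum_mem _ fun i _ =>
        Ideal.mul_mem_left _ _ (Ideal.subset_span ⟨i, rfl⟩)) ?_
      rw [smul_eq_mul, ← pow_two, ← Ideal.map_pow]
      exact Ideal.mem_map_of_mem _ ha
    exact (Ideal.unit_mul_mem_iff_mem _ (isUnit_pow g 1)).1 h4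
  obtain ⟨t, ht1, ht2⟩ :=
    Submodule.exists_sub_one_mem_and_smul_le_of_fg_of_le_sup hJ'fg le_rfl hle
  obtain ⟨⟨c, ⟨_, k, rfl⟩⟩, hc⟩ := IsLocalization.surj (Submonoid.powers g) t
  simp only at hc
  have hcP : c ∉ P := by
    intro hcP
    have h5 : φ (c - g ^ k) ∈ J' := by
      rw [map_sub, ← hc]
      have : t * φ (g ^ k) - φ (g ^ k) = (t - 1) * φ (g ^ k) := by ring
      rw [this]
      exact Ideal.mul_mem_right _ _ ht1
    obtain ⟨m, ⟨l, rfl⟩, hm⟩ := (IsLocalization.algebraMap_mem_map_algebraMap_iff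
      (Submonoid.powers g) (Localization.Away g) _ _).1 h5
    have h6 : g ^ (l + k) ∈ P := by
      have e : g ^ (l + k) = g ^ l * c - g ^ l * (c - g ^ k) := by ring
      rw [e]
      exact sub_mem (Ideal.mul_mem_left _ _ hcP) (hJP hm)
    exact hgP (hP.mem_of_pow_mem _ h6)
  have hg₂ : g * c ∉ P := fun h => (hP.mem_or_mem h).elim hgP hcP
  refine ⟨g * c, r, x, fun i => Ideal.Quotient.mk J c • μ i, hg₂, ?_, ?_⟩
  · intro i j
    rw [LinearMap.smul_apply, hμ, smul_eq_mul]
    split_ifs
    · rw [← map_mul, mul_comm]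
    · rw [mul_zero]
  · intro y hy
    have h7 : t • φ y ∈ X' :=
      ht2 (Submodule.smul_mem_pointwise_smul _ _ _ (Ideal.mem_map_of_mem _ hy))
    have h8 : φ (c * y) ∈ (Ideal.span (Set.range fun i => (x i : R))).map φ := by
      rw [← span_range_comp, map_mul, ← hc]
      have : t * φ (g ^ k) * φ y = φ (g ^ k) * (t • φ y) := by
        rw [smul_eq_mul]; ring
      rw [this]
      exact Ideal.mul_mem_left _ _ h7
    obtain ⟨m, ⟨l, rfl⟩, hm⟩ := (IsLocalization.algebraMap_mem_map_algebraMap_iff
      (Submonoid.powers g) (Localization.Away g) _ _).1 h8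
    refine ⟨l + 1, ?_⟩
    have e : (g * c) ^ (l + 1) * y = (g * c ^ l) * (g ^ l * (c * y)) := by ring
    rw [e]
    exact Ideal.mul_mem_left _ _ hm

end Groth.Agent.Lib.Seat7.KRDescentC
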