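import Mathlib
import Groth.Prelude.Def_LCI2
import Groth.Agent.Lib.Seat31FlatLciLocal
import Groth.Agent.Lib.Seat7KRDescentC
import Groth.Agent.Lib.Seat22KerFP

/-!
# Seat31: a flat finitely presented algebra whose naive cotangent complex has tor amplitude in
`[-1, 0]` is a local complete intersection

* `finitePresentation_of_surjective_algebraMap`: finite presentation of a module descends along a
  surjective ring map through which the action factors;
* `projective_cotangent_of_flat`: the conormal module of a presentation is finite projective;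
* `KChart.kr_away_of_local`, `isKoszulRegularIdeal_of_local`: a finitely generated ideal with
  projective conormal module which is generated by a Koszul-regular sequence in the local ring of
  every prime containing it is a Koszul-regular ideal;
* `isLCI_of_torAmp_of_flat`: the main theorem.
-/

set_option autoImplicit false
set_option linter.style.haveILetI false

universe u

open CategoryTheory CategoryTheory.Limits Algebra TensorProduct RingTheory.Sequence

attribute [local instance] HasDerivedCategory.standard

namespace Groth.Agent.Lib.Seat31.FlatLciMain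

open Groth.Agent.Lib.Seat31.LciNL Groth.Agent.Lib.Seat31.LciVasc Groth.Agent.Lib.Seat31.LciVascPD
open Groth.Agent.Lib.Seat31.LciVascMain
open Groth.Agent.Lib.Seat7.KRDescentA Groth.Agent.Lib.Seat7.KRDescentB
open Groth.Agent.Lib.Seat7.KRDescentC

section FP

variable {P B M : Type*} [CommRing P] [CommRing B] [Algebra P B] [AddCommGroup M] [Module P M]
  [Module B M] [IsScalarTower P B M]

/-- finite presentation descends along a surjective ring map through which the action factors. -/
theorem finitePresentation_of_surjective_algebraMap
    (hsurj : Function.Surjective (algebraMap P B))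
    [Module.FinitePresentation P M] : Module.FinitePresentation B M := by
  let φ : B ⊗[P] M →ₗ[B] M := LinearMap.liftBaseChange B (LinearMap.id : M →ₗ[P] M)
  have hφ : ∀ (b : B) (m : M), φ (b ⊗ₜ m) = b • m := fun b m => by
    simp [φ, LinearMap.liftBaseChange_tmul]
  have key : ∀ t : B ⊗[P] M, ∃ m : M, t = 1 ⊗ₜ m := by
    intro t
    induction t using TensorProduct.induction_on with
    | zero => exact ⟨0, (TensorProduct.tmul_zero _ _).symm⟩
    | tmul b m =>
      obtain ⟨p, rfl⟩ := hsurj b
      refine ⟨p • m, ?_⟩
      rw [Algebra.algebraMap_eq_smul_one, TensorProduct.smul_tmul]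
    | add x y hx hy =>
      obtain ⟨m, rfl⟩ := hx
      obtain ⟨m', rfl⟩ := hy
      exact ⟨m + m', (TensorProduct.tmul_add _ _ _).symm⟩
  have hbij : Function.Bijective φ := by
    constructor
    · rw [injective_iff_map_eq_zero]
      intro t ht
      obtain ⟨m, rfl⟩ := key t
      rw [hφ, one_smul] at ht
      rw [ht, TensorProduct.tmul_zero]
    · intro m
      exact ⟨1 ⊗ₜ m, by rw [hφ, one_smul]⟩
  exact Module.FinitePresentation.of_equiv (LinearEquiv.ofBijective φ hbij)

end FP

section Proj

variable {A B : Type u} [CommRing A] [CommRing B] [Algebra A B]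

set_option backward.isDefEq.respectTransparency false in
/-- the conormal module of a presentation of a flat finitely presented algebra whose naive
cotangent complex has tor amplitude in `[-1, 0]` is projective. -/
theorem projective_cotangent_of_flat [Module.Flat A B] {n : ℕ}
    (f : MvPolynomial (Fin n) A →ₐ[A] B) (hf : Function.Surjective f)
    (hfg : (RingHom.ker f.toRingHom).FG)
    (h : DRing.HasTorAmplitudeIn B (-1) 0 (LCI.NL A B)) :
    Module.Projective (MvPolynomial (Fin n) A ⧸ RingHom.ker f.toRingHom)
        (RingHom.ker f.toRingHom).Cotangent := by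
  rw [← gensOf_ker f hf] at hfg ⊢
  set G := gensOf f hf with hG
  have : Algebra.FiniteType A B := Algebra.FiniteType.of_surjective f hf
  have hT : DRing.HasTorAmplitudeIn B (-1) 0 (DRing.toD (NLCx.cx G.toExtension)) := by
    obtain ⟨E', h1, h2, ⟨e⟩⟩ := h
    exact ⟨E', h1, h2, ⟨e ≪≫ (isoOfGenerators G (Generators.self A B)).symm⟩⟩
  have hflat : Module.Flat B G.toExtension.Cotangent := flat_cotangent_of_torAmp G hT
  have hsurj : Function.Surjective (algebraMap G.toExtension.Ring B) :=
    G.toExtension.algebraMap_surjective
  have hkereq : LinearMap.ker (Algebra.linearMap G.toExtension.Ring B) = G.toExtension.ker := by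
    ext x
    rfl
  have hfpB : Module.FinitePresentation G.toExtension.Ring B :=
    Module.finitePresentation_of_surjective (Algebra.linearMap G.toExtension.Ring B) hsurj
      (by rw [hkereq]; exact hfg)
  have hfpP : Algebra.FinitePresentation A G.toExtension.Ring :=
    inferInstanceAs (Algebra.FinitePresentation A (MvPolynomial (Fin n) A))
  have hker : Module.FinitePresentation G.toExtension.Ring
      (LinearMap.ker (Algebra.linearMap G.toExtension.Ring B)) :=
    Groth.Agent.Lib.Seat22.KerFP.finitePresentation_ker A G.toExtension.Ring B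
      (Algebra.linearMap G.toExtension.Ring B) hsurj
  have hker' : Module.FinitePresentation G.toExtension.Ring G.toExtension.ker := by
    rw [← hkereq]
    exact hker
  have hcotP : Module.FinitePresentation G.toExtension.Ring G.toExtension.Cotangent :=
    Module.finitePresentation_of_surjective Extension.Cotangent.mk
      Extension.Cotangent.mk_surjective (by
        rw [Extension.Cotangent.ker_mk]
        exact Submodule.FG.smul hfg Module.Finite.fg_top)
  have hcotB : Module.FinitePresentation B G.toExtension.Cotangent :=
    finitePresentation_of_surjective_algebraMap hsurj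
  have hproj : Module.Projective B G.toExtension.Cotangent :=
    Module.Flat.projective_of_finitePresentation
  exact projective_ker_cotangent G.toExtension

end Proj

section Chart

variable {R : Type u} [CommRing R]

/-- variant of `KChart.kr_away` (helper7) with prime-local hypotheses: a chart of an ideal which is
generated by a Koszul-regular sequence in the local ring of every prime containing it is a
Koszul-regular sequence on its basic open. -/
theorem kr_away_of_local {J : Ideal R} {g : R} {r : ℕ} {x : Fin r → R} (hc : KChart J g x)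
    (hloc : ∀ (𝔯 : Ideal R) [𝔯.IsPrime], J ≤ 𝔯 → ∃ l : List (Localization.AtPrime 𝔯),
      LCI.IsKoszulRegularSeq (Localization.AtPrime 𝔯) l ∧
        J.map (algebraMap R (Localization.AtPrime 𝔯)) = Ideal.span {y | y ∈ l}) :
    LCI.IsKoszulRegularSeq (Localization.Away g)
      (List.ofFn fun i => algebraMap R (Localization.Away g) (x i)) := by
  have hgC : IsUnit (algebraMap R (Localization.Away g) g) :=
    IsLocalization.Away.algebraMap_isUnit g
  apply Groth.Agent.Lib.Seat56.RelGCI.kr_of_forall_maximal
  intro 𝔪 h𝔪
  haveI : 𝔪.IsPrime := h𝔪.isPrime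
  let 𝔯 : Ideal R := 𝔪.comap (algebraMap R (Localization.Away g))
  haveI h𝔯 : 𝔯.IsPrime := Ideal.comap_isPrime _ _
  haveI : IsLocalization.AtPrime (Localization.AtPrime 𝔪) 𝔯 :=
    IsLocalization.isLocalization_isLocalization_atPrime_isLocalization (Submonoid.powers g)
      (Localization.AtPrime 𝔪) 𝔪
  have hgT : IsUnit (algebraMap R (Localization.AtPrime 𝔪) g) := by
    rw [IsScalarTower.algebraMap_apply R (Localization.Away g) (Localization.AtPrime 𝔪)]
    exact hgC.map _
  rw [List.map_ofFn]
  have hlist : (algebraMap (Localization.Away g) (Localization.AtPrime 𝔪)) ∘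
      (fun i => algebraMap R (Localization.Away g) (x i)) =
      fun i => algebraMap R (Localization.AtPrime 𝔪) (x i) := by
    funext i
    exact (IsScalarTower.algebraMap_apply R (Localization.Away g) (Localization.AtPrime 𝔪)
      (x i)).symm
  rw [hlist]
  by_cases hJ𝔯 : J ≤ 𝔯
  · obtain ⟨l, hl, hspan⟩ := hloc 𝔯 hJ𝔯
    let e : Localization.AtPrime 𝔯 ≃ₐ[R] Localization.AtPrime 𝔪 :=
      IsLocalization.algEquiv 𝔯.primeCompl _ _
    obtain ⟨l', hl', hspan'⟩ := KChart.exists_list_of_algEquiv e J l hl hspan
    have hJT : J.map (algebraMap R (Localization.AtPrime 𝔪)) ≠ ⊤ := by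
      rw [IsLocalization.map_algebraMap_ne_top_iff_disjoint 𝔯.primeCompl, Set.disjoint_left]
      intro a ha haJ
      exact ha (hJ𝔯 haJ)
    exact kr_of_indep hJT l' hl' hspan'.symm
      (fun i => algebraMap R (Localization.AtPrime 𝔪) (x i))
      (hc.map_eq_span (Localization.AtPrime 𝔪) hgT).symm
      (fun c h i => hc.indep_loc 𝔯.primeCompl (Localization.AtPrime 𝔪) hgT c h i)
  · apply kr_of_span_eq_top
    obtain ⟨a, haJ, ha𝔯⟩ := SetLike.not_le_iff_exists.mp hJ𝔯
    have hu : IsUnit (algebraMap R (Localization.AtPrime 𝔪) a) :=
      IsLocalization.map_units (Localization.AtPrime 𝔪) (⟨a, ha𝔯⟩ : 𝔯.primeCompl)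
    have hmem : algebraMap R (Localization.AtPrime 𝔪) a ∈
        Ideal.span {y | y ∈ List.ofFn fun i => algebraMap R (Localization.AtPrime 𝔪) (x i)} := by
      rw [span_mem_ofFn, ← hc.map_eq_span (Localization.AtPrime 𝔪) hgT]
      exact Ideal.mem_map_of_mem _ haJ
    exact Ideal.eq_top_of_isUnit_mem _ hmem hu

/-- **a finitely generated ideal with projective conormal module which is generated by a
Koszul-regular sequence in the local ring of every prime containing it is a Koszul-regular ideal.** -/
theorem isKoszulRegularIdeal_of_local (J : Ideal R) (hFG : J.FG)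
    (hproj : Module.Projective (R ⧸ J) J.Cotangent)
    (hloc : ∀ (𝔯 : Ideal R) [𝔯.IsPrime], J ≤ 𝔯 → ∃ l : List (Localization.AtPrime 𝔯),
      LCI.IsKoszulRegularSeq (Localization.AtPrime 𝔯) l ∧
        J.map (algebraMap R (Localization.AtPrime 𝔯)) = Ideal.span {y | y ∈ l}) :
    LCI.IsKoszulRegularIdeal J := by
  intro 𝔭 hJ𝔭
  obtain ⟨g, r, x, μ, hg, hμ, hgen⟩ := exists_coords J hFG hproj 𝔭.asIdeal hJ𝔭
  have hc := kchart_of_functionals J g x μ hμ hgen
  refine ⟨g, hg, List.ofFn fun i => algebraMap R (Localization.Away g) (x i),
    kr_away_of_local hc hloc, ?_⟩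
  rw [span_mem_ofFn]
  exact hc.map_eq_span _ (IsLocalization.Away.algebraMap_isUnit g)

end Chart

section Main

variable {A B : Type u} [CommRing A] [CommRing B] [Algebra A B]

/-- **a flat finitely presented algebra whose naive cotangent complex has tor amplitude in
`[-1, 0]` is a local complete intersection.** -/
theorem isLCI_of_torAmp_of_flat [Module.Flat A B] [Algebra.FinitePresentation A B]
    (h : DRing.HasTorAmplitudeIn B (-1) 0 (LCI.NL A B)) : LCI.IsLCI A B := by
  have hft : Algebra.FiniteType A B := inferInstance
  obtain ⟨n, f, hf⟩ := Algebra.FiniteType.iff_quotient_mvPolynomial''.1 hft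
  have hfg : (RingHom.ker f.toRingHom).FG :=
    Algebra.FinitePresentation.ker_fG_of_surjective f hf
  refine ⟨hft, n, f, hf, ?_⟩
  apply isKoszulRegularIdeal_of_local _ hfg (projective_cotangent_of_flat f hf hfg h)
  intro 𝔯 _ hI𝔯
  obtain ⟨ys, hys, hreg, hgen, -⟩ :=
    Groth.Agent.Lib.Seat31.FlatLciLocal.exists_regular_generators_atPrime f hf h 𝔯 hI𝔯 hfg
  refine ⟨ys.map (algebraMap _ _),
    Groth.Agent.Lib.Seat56.RelGCI.kr_of_isWeaklyRegular _ _ hreg.toIsWeaklyRegular, ?_⟩
  rw [← hgen]

end Main

end Groth.Agent.Lib.Seat31.FlatLciMain
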