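import Mathlib
import Groth.Prelude.Def_DDual2

/-!
# Seat31: the termwise complex `Hom_A(B, J)` for an `A`-algebra `B`

`homB A B : ModuleCat A ⥤ ModuleCat A`, `N ↦ Hom_A(B, N)`, the evaluation-at-one natural
transformation `ev : homB A B ⟶ 𝟭`, and for a complex `P` of `B`-modules and a chain map
`φ : P|_A ⟶ J` the chain map `adj φ : P|_A ⟶ Hom_A(B, J)` with `adj φ ≫ ev = φ`.
-/

set_option autoImplicit false

universe u

open CategoryTheory CategoryTheory.Limits

namespace Groth.Agent.Lib.Seat31.HomAlg

variable (A B : Type u) [CommRing A] [CommRing B] [Algebra A B]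

/-- the functor `N ↦ Hom_A(B, N)` on `A`-modules. -/
noncomputable def homB : ModuleCat.{u} A ⥤ ModuleCat.{u} A where
  obj N := ModuleCat.of A (B →ₗ[A] N)
  map g := ModuleCat.ofHom (LinearMap.compRight A g.hom)
  map_id N := by
    apply ModuleCat.hom_ext
    apply LinearMap.ext
    intro x
    rfl
  map_comp g h := by
    apply ModuleCat.hom_ext
    apply LinearMap.ext
    intro x
    rfl

instance : (homB A B).Additive where
  map_add {N N'} g h := by
    apply ModuleCat.hom_ext
    apply LinearMap.ext
    intro x
    apply LinearMap.ext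
    intro b
    rfl

/-- evaluation at `1 : B`. -/
noncomputable def ev : homB A B ⟶ 𝟭 (ModuleCat.{u} A) where
  app N := ModuleCat.ofHom (LinearMap.applyₗ (1 : B))
  naturality N N' g := by
    apply ModuleCat.hom_ext
    apply LinearMap.ext
    intro x
    rfl

/-- restriction of scalars on complexes. -/
noncomputable abbrev resCx : CochainComplex (ModuleCat.{u} B) ℤ ⥤ CochainComplex (ModuleCat.{u} A) ℤ :=
  (ModuleCat.restrictScalars.{u} (algebraMap A B)).mapHomologicalComplex (ComplexShape.up ℤ)

/-- the termwise complex `Hom_A(B, J)`. -/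
noncomputable abbrev homCx : CochainComplex (ModuleCat.{u} A) ℤ ⥤ CochainComplex (ModuleCat.{u} A) ℤ :=
  (homB A B).mapHomologicalComplex (ComplexShape.up ℤ)

/-- evaluation at one, on complexes. -/
noncomputable abbrev evCx (J : CochainComplex (ModuleCat.{u} A) ℤ) : (homCx A B).obj J ⟶ J :=
  (NatTrans.mapHomologicalComplex (ev A B) (ComplexShape.up ℤ)).app J

variable {A B}

/-- the inner map `b ↦ g (b • p)`. -/
noncomputable def adjInner (M : ModuleCat.{u} B) (N : ModuleCat.{u} A)
    (g : (ModuleCat.restrictScalars.{u} (algebraMap A B)).obj M ⟶ N)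
    (p : (ModuleCat.restrictScalars.{u} (algebraMap A B)).obj M) : B →ₗ[A] N where
  toFun b := g.hom (show (ModuleCat.restrictScalars.{u} (algebraMap A B)).obj M from
      (b • (show M from p)))
  map_add' b b' := by
    have : (b + b') • (show M from p) = b • (show M from p) + b' • (show M from p) :=
      add_smul _ _ _
    rw [this]
    exact map_add g.hom _ _
  map_smul' a b := by
    have : (a • b) • (show M from p) = algebraMap A B a • (b • (show M from p)) := by
      rw [Algebra.smul_def, mul_smul]
    rw [this]
    exact map_smul g.hom a _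

/-- the adjoint of an `A`-linear map out of a `B`-module, as a linear map. -/
noncomputable def adjMap (M : ModuleCat.{u} B) (N : ModuleCat.{u} A)
    (g : (ModuleCat.restrictScalars.{u} (algebraMap A B)).obj M ⟶ N) :
    ((ModuleCat.restrictScalars.{u} (algebraMap A B)).obj M) →ₗ[A] (B →ₗ[A] N) where
  toFun p := adjInner M N g p
  map_add' p p' := by
    apply LinearMap.ext
    intro b
    have : b • ((show M from p) + (show M from p')) =
        b • (show M from p) + b • (show M from p') := smul_add _ _ _
    exact (congrArg g.hom this).trans (map_add g.hom _ _)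
  map_smul' a p := by
    apply LinearMap.ext
    intro b
    have : b • (algebraMap A B a • (show M from p)) =
        algebraMap A B a • (b • (show M from p)) := smul_comm _ _ _
    exact (congrArg g.hom this).trans (map_smul g.hom a _)

/-- the adjoint of an `A`-linear map out of a `B`-module. -/
noncomputable def adjLin (M : ModuleCat.{u} B) (N : ModuleCat.{u} A)
    (g : (ModuleCat.restrictScalars.{u} (algebraMap A B)).obj M ⟶ N) :
    (ModuleCat.restrictScalars.{u} (algebraMap A B)).obj M ⟶ (homB A B).obj N :=
  @ModuleCat.ofHom A _ ((ModuleCat.restrictScalars.{u} (algebraMap A B)).obj M) (B →ₗ[A] N)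
    _ _ _ _ (adjMap M N g)

lemma adjLin_apply (M : ModuleCat.{u} B) (N : ModuleCat.{u} A)
    (g : (ModuleCat.restrictScalars.{u} (algebraMap A B)).obj M ⟶ N)
    (p : (ModuleCat.restrictScalars.{u} (algebraMap A B)).obj M) (b : B) :
    (show B →ₗ[A] N from (adjLin M N g).hom p) b =
      g.hom (show (ModuleCat.restrictScalars.{u} (algebraMap A B)).obj M from
        (b • (show M from p))) := rfl

lemma adjLin_ev (M : ModuleCat.{u} B) (N : ModuleCat.{u} A)
    (g : (ModuleCat.restrictScalars.{u} (algebraMap A B)).obj M ⟶ N) :
    adjLin M N g ≫ (ev A B).app N = g := by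
  apply ModuleCat.hom_ext
  apply LinearMap.ext
  intro p
  have : g.hom (show (ModuleCat.restrictScalars.{u} (algebraMap A B)).obj M from
    ((1 : B) • (show M from p))) = g.hom p := by
    rw [one_smul]
  exact this

/-- the adjoint chain map `P|_A ⟶ Hom_A(B, J)` of a chain map `φ : P|_A ⟶ J`. -/
noncomputable def adjCx (P : CochainComplex (ModuleCat.{u} B) ℤ)
    (J : CochainComplex (ModuleCat.{u} A) ℤ) (φ : (resCx A B).obj P ⟶ J) :
    (resCx A B).obj P ⟶ (homCx A B).obj J where
  f n := adjLin (P.X n) (J.X n) (φ.f n)
  comm' i j _ := by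
    apply ModuleCat.hom_ext
    apply LinearMap.ext
    intro p
    apply LinearMap.ext
    intro b
    have h1 := congrArg (fun ψ => ψ.hom (show (ModuleCat.restrictScalars.{u} (algebraMap A B)).obj
      (P.X i) from (b • (show P.X i from p)))) (φ.comm i j)
    have h2 : (P.d i j).hom (b • (show P.X i from p)) = b • (P.d i j).hom (show P.X i from p) :=
      map_smul _ _ _
    change (J.d i j).hom ((φ.f i).hom (show (ModuleCat.restrictScalars.{u} (algebraMap A B)).obj
        (P.X i) from (b • (show P.X i from p)))) =
      (φ.f j).hom (show (ModuleCat.restrictScalars.{u} (algebraMap A B)).obj (P.X j) from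
        (b • (show P.X j from ((P.d i j).hom (show P.X i from p)))))
    rw [← h2]
    exact h1

lemma adjCx_evCx (P : CochainComplex (ModuleCat.{u} B) ℤ)
    (J : CochainComplex (ModuleCat.{u} A) ℤ) (φ : (resCx A B).obj P ⟶ J) :
    adjCx P J φ ≫ evCx A B J = φ := by
  apply HomologicalComplex.hom_ext
  intro n
  exact adjLin_ev (P.X n) (J.X n) (φ.f n)

end Groth.Agent.Lib.Seat31.HomAlg
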