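import Mathlib
import Groth.Agent.Lib.Seat31HomAlg
import Groth.Agent.Lib.Helper1TorD

/-!
# Seat31: `Hom_A(B, J)` is acyclic when `J` is K-injective and `Hom_{D(A)}(B, J[n]) = 0`
-/

set_option autoImplicit false

universe u

open CategoryTheory CategoryTheory.Limits

attribute [local instance] HasDerivedCategory.standard

namespace Groth.Agent.Lib.Seat31.HomAlg

open DerivedCategory CochainComplex CochainComplex.HomComplex
open Groth.Agent.Lib.Helper1.Tor

variable {A B : Type u} [CommRing A] [CommRing B] [Algebra A B]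

/-- maps from the single complex of `B` to `J⟦n⟧` in the homotopy category vanish when the
corresponding morphisms of the derived category do and `J` is K-injective. -/
lemma toHom_eq_zero (J : CochainComplex (ModuleCat.{u} A) ℤ) [J.IsKInjective] (n : ℤ)
    (h : Subsingleton (Dual.inD A B ⟶ (Q.obj J)⟦n⟧))
    (x : (HomotopyCategory.quotient _ _).obj
        ((CochainComplex.singleFunctor (ModuleCat.{u} A) 0).obj (ModuleCat.of A B)) ⟶
      (HomotopyCategory.quotient _ _).obj (J⟦n⟧)) : x = 0 := by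
  apply (IsKInjective.Qh_map_bijective _ (J⟦n⟧)).1
  rw [Functor.map_zero]
  have e : (Qh.obj ((HomotopyCategory.quotient _ _).obj
        ((CochainComplex.singleFunctor (ModuleCat.{u} A) 0).obj (ModuleCat.of A B))) ⟶
      Qh.obj ((HomotopyCategory.quotient _ _).obj (J⟦n⟧))) ≃
      (Dual.inD A B ⟶ (Q.obj J)⟦n⟧) :=
    Iso.homCongr ((singleFunctorIsoCompQ (ModuleCat.{u} A) 0).app (ModuleCat.of A B)).symm
      ((Q.commShiftIso n).app J)
  have := e.subsingleton
  exact Subsingleton.elim _ _

/-- `Hom_A(B, J)` is acyclic when `J` is K-injective and `Hom_{D(A)}(B, J[n]) = 0` for all `n`. -/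
theorem exactAt_homCx (J : CochainComplex (ModuleCat.{u} A) ℤ) [J.IsKInjective]
    (h : ∀ n : ℤ, Subsingleton (Dual.inD A B ⟶ (Q.obj J)⟦n⟧)) (n : ℤ) :
    ((homCx A B).obj J).ExactAt n := by
  rw [exactAt_iff_fexact _ (n - 1) n (n + 1) (by lia) rfl]
  intro g
  constructor
  · intro hg
    have hg' : (J.d n (n + 1)).hom ∘ₗ (show B →ₗ[A] J.X n from g) = 0 := hg
    have hf : ModuleCat.ofHom (show B →ₗ[A] J.X n from g) ≫ J.d n (n + 1) = 0 := by
      apply ModuleCat.hom_ext
      exact hg'
    have hα : Cocycle.fromSingleMk (ModuleCat.ofHom (show B →ₗ[A] J.X n from g)) (zero_add n)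
        (n + 1) rfl hf ∈ coboundaries _ _ _ := by
      rw [← CohomologyClass.toHom_mk_eq_zero_iff]
      exact toHom_eq_zero J n (h n) _
    obtain ⟨g', hg'⟩ := (Cocycle.fromSingleMk_mem_coboundaries_iff _ (zero_add n) (n + 1) rfl hf
      (n - 1) (by lia)).1 hα
    refine ⟨g'.hom, ?_⟩
    have := congrArg ModuleCat.Hom.hom hg'
    exact this
  · rintro ⟨g', rfl⟩
    have := ((homCx A B).obj J).d_comp_d (n - 1) n (n + 1)
    exact congrArg (fun ψ => ψ.hom g') this

/-- in particular its image in `D(A)` is zero. -/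
theorem isZero_Q_homCx (J : CochainComplex (ModuleCat.{u} A) ℤ) [J.IsKInjective]
    (h : ∀ n : ℤ, Subsingleton (Dual.inD A B ⟶ (Q.obj J)⟦n⟧)) :
    IsZero (Q.obj ((homCx A B).obj J)) :=
  isZero_Q_of_exactAt _ (exactAt_homCx J h)

end Groth.Agent.Lib.Seat31.HomAlg
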