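import Mathlib
import Groth.Agent.Lib.Seat31HomAlgAcyc
import Groth.Agent.Lib.Helper17KInj12

/-!
# Seat31: if `Hom_{D(A)}(B, K[n]) = 0` for all `n` then `Hom_{D(A)}(E|_A, K) = 0` for all `E ∈ D(B)`
-/

set_option autoImplicit false

universe u

open CategoryTheory CategoryTheory.Limits

attribute [local instance] HasDerivedCategory.standard

namespace Groth.Agent.Lib.Seat31.HomAlg

open DerivedCategory CochainComplex

variable {A B : Type u} [CommRing A] [CommRing B] [Algebra A B]

/-- `Q.map` is surjective onto morphisms into (the image of) a K-injective complex. -/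
lemma Q_map_surjective_of_isKInjective (X J : CochainComplex (ModuleCat.{u} A) ℤ)
    [J.IsKInjective] (ψ : Q.obj X ⟶ Q.obj J) : ∃ φ : X ⟶ J, Q.map φ = ψ := by
  obtain ⟨y, hy⟩ := (IsKInjective.Qh_map_bijective ((HomotopyCategory.quotient _ _).obj X) J).2
    ((quotientCompQhIso _).hom.app X ≫ ψ ≫ (quotientCompQhIso _).inv.app J)
  obtain ⟨φ, rfl⟩ := Functor.map_surjective _ y
  refine ⟨φ, ?_⟩
  have := quotientCompQhIso_hom_naturality φ
  rw [hy] at this
  simpa using this.symm

/-- if `Hom_{D(A)}(B, J[n]) = 0` for all `n` and `J` is K-injective, then every morphism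
`P|_A ⟶ J` in `D(A)`, `P` a complex of `B`-modules, vanishes. -/
theorem hom_resCx_eq_zero (J : CochainComplex (ModuleCat.{u} A) ℤ) [J.IsKInjective]
    (h : ∀ n : ℤ, Subsingleton (Dual.inD A B ⟶ (Q.obj J)⟦n⟧))
    (P : CochainComplex (ModuleCat.{u} B) ℤ) (ψ : Q.obj ((resCx A B).obj P) ⟶ Q.obj J) :
    ψ = 0 := by
  obtain ⟨φ, rfl⟩ := Q_map_surjective_of_isKInjective _ J ψ
  rw [← adjCx_evCx P J φ, Functor.map_comp]
  rw [(isZero_Q_homCx J h).eq_of_tgt (Q.map (adjCx P J φ)) 0, zero_comp]


/-- the general (⇒): if `Hom_{D(A)}(B, K[n]) = 0` for all `n` then `Hom_{D(A)}(E|_A, K) = 0`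
for every `E ∈ D(B)`. -/
theorem subsingleton_hom_restrictD (K : Dual.D A)
    (h : ∀ n : ℤ, Subsingleton (Dual.inD A B ⟶ K⟦n⟧)) (E : Dual.D B) :
    Subsingleton ((DRing.restrictD (algebraMap A B)).obj E ⟶ K) := by
  -- represent `K` by a K-injective complex
  obtain ⟨J, f, hJ, hf, -, -⟩ :=
    Groth.Agent.Lib.Helper17.KInj.exists_kInjective_resolution (ModuleCat.{u} A)
      (Q.objPreimage K)
  have := hJ
  have := hf
  have : IsIso (Q.map f) := by
    rw [DerivedCategory.isIso_Q_map_iff_quasiIso]; exact hf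
  let eK : K ≅ Q.obj J := (Q.objObjPreimageIso K).symm ≪≫ asIso (Q.map f)
  have hJ' : ∀ n : ℤ, Subsingleton (Dual.inD A B ⟶ (Q.obj J)⟦n⟧) := fun n =>
    ((Iso.homCongr (Iso.refl (Dual.inD A B)) ((CategoryTheory.shiftFunctor (Dual.D A) n).mapIso eK)).symm).subsingleton
  -- represent `E` by a complex
  let eE : E ≅ Q.obj (Q.objPreimage E) := (Q.objObjPreimageIso E).symm
  let eR : (DRing.restrictD (algebraMap A B)).obj E ≅ Q.obj ((resCx A B).obj (Q.objPreimage E)) :=
    (DRing.restrictD (algebraMap A B)).mapIso eE ≪≫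
      ((ModuleCat.restrictScalars.{u} (algebraMap A B)).mapDerivedCategoryFactors).app _
  refine ⟨fun a b => ?_⟩
  have key : ∀ c : (DRing.restrictD (algebraMap A B)).obj E ⟶ K, c = 0 := fun c => by
    have := hom_resCx_eq_zero J hJ' (Q.objPreimage E) (eR.inv ≫ c ≫ eK.hom)
    have h2 : c = eR.hom ≫ (eR.inv ≫ c ≫ eK.hom) ≫ eK.inv := by simp
    rw [h2, this]; simp
  rw [key a, key b]


/-- `B` as a `B`-module, restricted to `A`, is `B` as an `A`-module. -/
noncomputable def resSelfIso (A B : Type u) [CommRing A] [CommRing B] [Algebra A B] :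
    (ModuleCat.restrictScalars.{u} (algebraMap A B)).obj (ModuleCat.of B B) ≅ ModuleCat.of A B where
  hom := ConcreteCategory.ofHom (C := ModuleCat.{u} A)
    ({ toFun := fun x => x
       map_add' := fun _ _ => rfl
       map_smul' := fun a x => by
        change (algebraMap A B a) • (show B from x) = a • (show B from x)
        rw [algebraMap_smul] } :
      ((ModuleCat.restrictScalars.{u} (algebraMap A B)).obj (ModuleCat.of B B)) →ₗ[A] B)
  inv := ConcreteCategory.ofHom (C := ModuleCat.{u} A)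
    ({ toFun := fun x => x
       map_add' := fun _ _ => rfl
       map_smul' := fun a x => by
        change a • (show B from x) = (algebraMap A B a) • (show B from x)
        rw [algebraMap_smul] } :
      B →ₗ[A] ((ModuleCat.restrictScalars.{u} (algebraMap A B)).obj (ModuleCat.of B B)))
  hom_inv_id := rfl
  inv_hom_id := rfl

/-- the restriction to `D(A)` of `B[-n] ∈ D(B)` is `B[-n]`. -/
noncomputable def restrictDShiftSelfIso (A B : Type u) [CommRing A] [CommRing B] [Algebra A B]
    (n : ℤ) :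
    (DRing.restrictD (algebraMap A B)).obj ((Dual.inD B B)⟦n⟧) ≅ (Dual.inD A B)⟦n⟧ :=
  ((DRing.restrictD (algebraMap A B)).commShiftIso n).app _ ≪≫
    (CategoryTheory.shiftFunctor (Dual.D A) n).mapIso
      (((ModuleCat.restrictScalars.{u} (algebraMap A B)).mapDerivedCategorySingleFunctor 0).app
          (ModuleCat.of B B) ≪≫
        (DerivedCategory.singleFunctor (ModuleCat.{u} A) 0).mapIso (resSelfIso A B))

/-- the general (⇐): if `Hom_{D(A)}(E|_A, K) = 0` for every `E ∈ D(B)` then
`Hom_{D(A)}(B, K[n]) = 0` for all `n`. -/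
theorem subsingleton_hom_inD_shift (K : Dual.D A)
    (h : ∀ E : Dual.D B, Subsingleton ((DRing.restrictD (algebraMap A B)).obj E ⟶ K)) (n : ℤ) :
    Subsingleton (Dual.inD A B ⟶ K⟦n⟧) := by
  have h1 : Subsingleton ((Dual.inD A B)⟦-n⟧ ⟶ K) :=
    ((Iso.homCongr (restrictDShiftSelfIso A B (-n)) (Iso.refl K)).symm).subsingleton
  exact @Equiv.subsingleton _ _
    (((shiftEquiv (Dual.D A) n).symm.toAdjunction.homEquiv (Dual.inD A B) K).symm) h1

end Groth.Agent.Lib.Seat31.HomAlg
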