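import Mathlib

/-!
# Seat 74: commuting two mapping cones of scalar multiplications

For a cochain complex `K` of `A`-modules and `a b : A`,
`cone (a on cone (b on K)) ≅ cone (b on cone (a on K))`.
-/

set_option autoImplicit false
universe u
open CategoryTheory CategoryTheory.Limits CochainComplex HomComplex

namespace Groth.Agent.Lib.Seat74.ConeSwap

variable {A : Type u} [CommRing A]

section

variable (K : CochainComplex (ModuleCat.{u} A) ℤ) (a b : A)

/-- The termwise swap map. -/
noncomputable def swapHom (q : ℤ) :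
    (mappingCone (a • 𝟙 (mappingCone (b • 𝟙 K)))).X q ⟶
      (mappingCone (b • 𝟙 (mappingCone (a • 𝟙 K)))).X q :=
  -((mappingCone.fst (a • 𝟙 (mappingCone (b • 𝟙 K)))).1.v q (q + 1) rfl ≫
      (mappingCone.fst (b • 𝟙 K)).1.v (q + 1) (q + 1 + 1) rfl ≫
      (mappingCone.inl (a • 𝟙 K)).v (q + 1 + 1) (q + 1) (by omega) ≫
      (mappingCone.inl (b • 𝟙 (mappingCone (a • 𝟙 K)))).v (q + 1) q (by omega)) +
    (mappingCone.snd (a • 𝟙 (mappingCone (b • 𝟙 K)))).v q q (add_zero q) ≫
      (mappingCone.fst (b • 𝟙 K)).1.v q (q + 1) rfl ≫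
      (mappingCone.inr (a • 𝟙 K)).f (q + 1) ≫
      (mappingCone.inl (b • 𝟙 (mappingCone (a • 𝟙 K)))).v (q + 1) q (by omega) +
    (mappingCone.fst (a • 𝟙 (mappingCone (b • 𝟙 K)))).1.v q (q + 1) rfl ≫
      (mappingCone.snd (b • 𝟙 K)).v (q + 1) (q + 1) (add_zero _) ≫
      (mappingCone.inl (a • 𝟙 K)).v (q + 1) q (by omega) ≫
      (mappingCone.inr (b • 𝟙 (mappingCone (a • 𝟙 K)))).f q +
    (mappingCone.snd (a • 𝟙 (mappingCone (b • 𝟙 K)))).v q q (add_zero q) ≫
      (mappingCone.snd (b • 𝟙 K)).v q q (add_zero q) ≫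
      (mappingCone.inr (a • 𝟙 K)).f q ≫
      (mappingCone.inr (b • 𝟙 (mappingCone (a • 𝟙 K)))).f q

lemma swapHom_swapHom (q : ℤ) : swapHom K a b q ≫ swapHom K b a q = 𝟙 _ := by
  apply mappingCone.ext_from _ (q + 1) q rfl
  · apply mappingCone.ext_from _ (q + 1 + 1) (q + 1) rfl
    · apply mappingCone.ext_to _ q (q + 1) rfl
      · apply mappingCone.ext_to _ (q + 1) (q + 1 + 1) rfl
        · simp [swapHom]
        · simp [swapHom]
      · apply mappingCone.ext_to _ q (q + 1) rfl
        · simp [swapHom]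
        · simp [swapHom]
    · apply mappingCone.ext_to _ q (q + 1) rfl
      · apply mappingCone.ext_to _ (q + 1) (q + 1 + 1) rfl
        · simp [swapHom]
        · simp [swapHom]
      · apply mappingCone.ext_to _ q (q + 1) rfl
        · simp [swapHom]
        · simp [swapHom]
  · apply mappingCone.ext_from _ (q + 1) q rfl
    · apply mappingCone.ext_to _ q (q + 1) rfl
      · apply mappingCone.ext_to _ (q + 1) (q + 1 + 1) rfl
        · simp [swapHom]
        · simp [swapHom]
      · apply mappingCone.ext_to _ q (q + 1) rfl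
        · simp [swapHom]
        · simp [swapHom]
    · apply mappingCone.ext_to _ q (q + 1) rfl
      · apply mappingCone.ext_to _ (q + 1) (q + 1 + 1) rfl
        · simp [swapHom]
        · simp [swapHom]
      · apply mappingCone.ext_to _ q (q + 1) rfl
        · simp [swapHom]
        · simp [swapHom]

set_option maxHeartbeats 3200000 in
set_option linter.unusedSimpArgs false in
lemma swapHom_comm (q : ℤ) :
    swapHom K a b q ≫ (mappingCone (b • 𝟙 (mappingCone (a • 𝟙 K)))).d q (q + 1) =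
      (mappingCone (a • 𝟙 (mappingCone (b • 𝟙 K)))).d q (q + 1) ≫ swapHom K a b (q + 1) := by
  apply mappingCone.ext_from _ (q + 1) q rfl
  · apply mappingCone.ext_from _ (q + 1 + 1) (q + 1) rfl
    · apply mappingCone.ext_to _ (q + 1) (q + 1 + 1) rfl
      · apply mappingCone.ext_to _ (q + 1 + 1) (q + 1 + 1 + 1) rfl
        · simp [swapHom,
            mappingCone.d_fst_v _ q (q + 1) (q + 1 + 1) rfl rfl,
            mappingCone.d_fst_v_assoc _ q (q + 1) (q + 1 + 1) rfl rfl,
            mappingCone.d_fst_v _ (q + 1) (q + 1 + 1) (q + 1 + 1 + 1) rfl rfl,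
            mappingCone.d_fst_v_assoc _ (q + 1) (q + 1 + 1) (q + 1 + 1 + 1) rfl rfl,
            mappingCone.d_snd_v _ q (q + 1) rfl,
            mappingCone.d_snd_v_assoc _ q (q + 1) rfl,
            mappingCone.d_snd_v _ (q + 1) (q + 1 + 1) rfl,
            mappingCone.d_snd_v_assoc _ (q + 1) (q + 1 + 1) rfl]
        · simp [swapHom,
            mappingCone.d_fst_v _ q (q + 1) (q + 1 + 1) rfl rfl,
            mappingCone.d_fst_v_assoc _ q (q + 1) (q + 1 + 1) rfl rfl,
            mappingCone.d_fst_v _ (q + 1) (q + 1 + 1) (q + 1 + 1 + 1) rfl rfl,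
            mappingCone.d_fst_v_assoc _ (q + 1) (q + 1 + 1) (q + 1 + 1 + 1) rfl rfl,
            mappingCone.d_snd_v _ q (q + 1) rfl,
            mappingCone.d_snd_v_assoc _ q (q + 1) rfl,
            mappingCone.d_snd_v _ (q + 1) (q + 1 + 1) rfl,
            mappingCone.d_snd_v_assoc _ (q + 1) (q + 1 + 1) rfl]
      · apply mappingCone.ext_to _ (q + 1) (q + 1 + 1) rfl
        · simp [swapHom,
            mappingCone.d_fst_v _ q (q + 1) (q + 1 + 1) rfl rfl,
            mappingCone.d_fst_v_assoc _ q (q + 1) (q + 1 + 1) rfl rfl,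
            mappingCone.d_fst_v _ (q + 1) (q + 1 + 1) (q + 1 + 1 + 1) rfl rfl,
            mappingCone.d_fst_v_assoc _ (q + 1) (q + 1 + 1) (q + 1 + 1 + 1) rfl rfl,
            mappingCone.d_snd_v _ q (q + 1) rfl,
            mappingCone.d_snd_v_assoc _ q (q + 1) rfl,
            mappingCone.d_snd_v _ (q + 1) (q + 1 + 1) rfl,
            mappingCone.d_snd_v_assoc _ (q + 1) (q + 1 + 1) rfl]
        · simp [swapHom,
            mappingCone.d_fst_v _ q (q + 1) (q + 1 + 1) rfl rfl,
            mappingCone.d_fst_v_assoc _ q (q + 1) (q + 1 + 1) rfl rfl,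
            mappingCone.d_fst_v _ (q + 1) (q + 1 + 1) (q + 1 + 1 + 1) rfl rfl,
            mappingCone.d_fst_v_assoc _ (q + 1) (q + 1 + 1) (q + 1 + 1 + 1) rfl rfl,
            mappingCone.d_snd_v _ q (q + 1) rfl,
            mappingCone.d_snd_v_assoc _ q (q + 1) rfl,
            mappingCone.d_snd_v _ (q + 1) (q + 1 + 1) rfl,
            mappingCone.d_snd_v_assoc _ (q + 1) (q + 1 + 1) rfl]
    · apply mappingCone.ext_to _ (q + 1) (q + 1 + 1) rfl
      · apply mappingCone.ext_to _ (q + 1 + 1) (q + 1 + 1 + 1) rfl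
        · simp [swapHom,
            mappingCone.d_fst_v _ q (q + 1) (q + 1 + 1) rfl rfl,
            mappingCone.d_fst_v_assoc _ q (q + 1) (q + 1 + 1) rfl rfl,
            mappingCone.d_fst_v _ (q + 1) (q + 1 + 1) (q + 1 + 1 + 1) rfl rfl,
            mappingCone.d_fst_v_assoc _ (q + 1) (q + 1 + 1) (q + 1 + 1 + 1) rfl rfl,
            mappingCone.d_snd_v _ q (q + 1) rfl,
            mappingCone.d_snd_v_assoc _ q (q + 1) rfl,
            mappingCone.d_snd_v _ (q + 1) (q + 1 + 1) rfl,
            mappingCone.d_snd_v_assoc _ (q + 1) (q + 1 + 1) rfl]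
        · simp [swapHom,
            mappingCone.d_fst_v _ q (q + 1) (q + 1 + 1) rfl rfl,
            mappingCone.d_fst_v_assoc _ q (q + 1) (q + 1 + 1) rfl rfl,
            mappingCone.d_fst_v _ (q + 1) (q + 1 + 1) (q + 1 + 1 + 1) rfl rfl,
            mappingCone.d_fst_v_assoc _ (q + 1) (q + 1 + 1) (q + 1 + 1 + 1) rfl rfl,
            mappingCone.d_snd_v _ q (q + 1) rfl,
            mappingCone.d_snd_v_assoc _ q (q + 1) rfl,
            mappingCone.d_snd_v _ (q + 1) (q + 1 + 1) rfl,
            mappingCone.d_snd_v_assoc _ (q + 1) (q + 1 + 1) rfl]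
      · apply mappingCone.ext_to _ (q + 1) (q + 1 + 1) rfl
        · simp [swapHom,
            mappingCone.d_fst_v _ q (q + 1) (q + 1 + 1) rfl rfl,
            mappingCone.d_fst_v_assoc _ q (q + 1) (q + 1 + 1) rfl rfl,
            mappingCone.d_fst_v _ (q + 1) (q + 1 + 1) (q + 1 + 1 + 1) rfl rfl,
            mappingCone.d_fst_v_assoc _ (q + 1) (q + 1 + 1) (q + 1 + 1 + 1) rfl rfl,
            mappingCone.d_snd_v _ q (q + 1) rfl,
            mappingCone.d_snd_v_assoc _ q (q + 1) rfl,
            mappingCone.d_snd_v _ (q + 1) (q + 1 + 1) rfl,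
            mappingCone.d_snd_v_assoc _ (q + 1) (q + 1 + 1) rfl]
        · simp [swapHom,
            mappingCone.d_fst_v _ q (q + 1) (q + 1 + 1) rfl rfl,
            mappingCone.d_fst_v_assoc _ q (q + 1) (q + 1 + 1) rfl rfl,
            mappingCone.d_fst_v _ (q + 1) (q + 1 + 1) (q + 1 + 1 + 1) rfl rfl,
            mappingCone.d_fst_v_assoc _ (q + 1) (q + 1 + 1) (q + 1 + 1 + 1) rfl rfl,
            mappingCone.d_snd_v _ q (q + 1) rfl,
            mappingCone.d_snd_v_assoc _ q (q + 1) rfl,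
            mappingCone.d_snd_v _ (q + 1) (q + 1 + 1) rfl,
            mappingCone.d_snd_v_assoc _ (q + 1) (q + 1 + 1) rfl]
  · apply mappingCone.ext_from _ (q + 1) q rfl
    · apply mappingCone.ext_to _ (q + 1) (q + 1 + 1) rfl
      · apply mappingCone.ext_to _ (q + 1 + 1) (q + 1 + 1 + 1) rfl
        · simp [swapHom,
            mappingCone.d_fst_v _ q (q + 1) (q + 1 + 1) rfl rfl,
            mappingCone.d_fst_v_assoc _ q (q + 1) (q + 1 + 1) rfl rfl,
            mappingCone.d_fst_v _ (q + 1) (q + 1 + 1) (q + 1 + 1 + 1) rfl rfl,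
            mappingCone.d_fst_v_assoc _ (q + 1) (q + 1 + 1) (q + 1 + 1 + 1) rfl rfl,
            mappingCone.d_snd_v _ q (q + 1) rfl,
            mappingCone.d_snd_v_assoc _ q (q + 1) rfl,
            mappingCone.d_snd_v _ (q + 1) (q + 1 + 1) rfl,
            mappingCone.d_snd_v_assoc _ (q + 1) (q + 1 + 1) rfl]
        · simp [swapHom,
            mappingCone.d_fst_v _ q (q + 1) (q + 1 + 1) rfl rfl,
            mappingCone.d_fst_v_assoc _ q (q + 1) (q + 1 + 1) rfl rfl,
            mappingCone.d_fst_v _ (q + 1) (q + 1 + 1) (q + 1 + 1 + 1) rfl rfl,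
            mappingCone.d_fst_v_assoc _ (q + 1) (q + 1 + 1) (q + 1 + 1 + 1) rfl rfl,
            mappingCone.d_snd_v _ q (q + 1) rfl,
            mappingCone.d_snd_v_assoc _ q (q + 1) rfl,
            mappingCone.d_snd_v _ (q + 1) (q + 1 + 1) rfl,
            mappingCone.d_snd_v_assoc _ (q + 1) (q + 1 + 1) rfl]
      · apply mappingCone.ext_to _ (q + 1) (q + 1 + 1) rfl
        · simp [swapHom,
            mappingCone.d_fst_v _ q (q + 1) (q + 1 + 1) rfl rfl,
            mappingCone.d_fst_v_assoc _ q (q + 1) (q + 1 + 1) rfl rfl,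
            mappingCone.d_fst_v _ (q + 1) (q + 1 + 1) (q + 1 + 1 + 1) rfl rfl,
            mappingCone.d_fst_v_assoc _ (q + 1) (q + 1 + 1) (q + 1 + 1 + 1) rfl rfl,
            mappingCone.d_snd_v _ q (q + 1) rfl,
            mappingCone.d_snd_v_assoc _ q (q + 1) rfl,
            mappingCone.d_snd_v _ (q + 1) (q + 1 + 1) rfl,
            mappingCone.d_snd_v_assoc _ (q + 1) (q + 1 + 1) rfl]
        · simp [swapHom,
            mappingCone.d_fst_v _ q (q + 1) (q + 1 + 1) rfl rfl,
            mappingCone.d_fst_v_assoc _ q (q + 1) (q + 1 + 1) rfl rfl,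
            mappingCone.d_fst_v _ (q + 1) (q + 1 + 1) (q + 1 + 1 + 1) rfl rfl,
            mappingCone.d_fst_v_assoc _ (q + 1) (q + 1 + 1) (q + 1 + 1 + 1) rfl rfl,
            mappingCone.d_snd_v _ q (q + 1) rfl,
            mappingCone.d_snd_v_assoc _ q (q + 1) rfl,
            mappingCone.d_snd_v _ (q + 1) (q + 1 + 1) rfl,
            mappingCone.d_snd_v_assoc _ (q + 1) (q + 1 + 1) rfl]
    · apply mappingCone.ext_to _ (q + 1) (q + 1 + 1) rfl
      · apply mappingCone.ext_to _ (q + 1 + 1) (q + 1 + 1 + 1) rfl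
        · simp [swapHom,
            mappingCone.d_fst_v _ q (q + 1) (q + 1 + 1) rfl rfl,
            mappingCone.d_fst_v_assoc _ q (q + 1) (q + 1 + 1) rfl rfl,
            mappingCone.d_fst_v _ (q + 1) (q + 1 + 1) (q + 1 + 1 + 1) rfl rfl,
            mappingCone.d_fst_v_assoc _ (q + 1) (q + 1 + 1) (q + 1 + 1 + 1) rfl rfl,
            mappingCone.d_snd_v _ q (q + 1) rfl,
            mappingCone.d_snd_v_assoc _ q (q + 1) rfl,
            mappingCone.d_snd_v _ (q + 1) (q + 1 + 1) rfl,
            mappingCone.d_snd_v_assoc _ (q + 1) (q + 1 + 1) rfl]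
        · simp [swapHom,
            mappingCone.d_fst_v _ q (q + 1) (q + 1 + 1) rfl rfl,
            mappingCone.d_fst_v_assoc _ q (q + 1) (q + 1 + 1) rfl rfl,
            mappingCone.d_fst_v _ (q + 1) (q + 1 + 1) (q + 1 + 1 + 1) rfl rfl,
            mappingCone.d_fst_v_assoc _ (q + 1) (q + 1 + 1) (q + 1 + 1 + 1) rfl rfl,
            mappingCone.d_snd_v _ q (q + 1) rfl,
            mappingCone.d_snd_v_assoc _ q (q + 1) rfl,
            mappingCone.d_snd_v _ (q + 1) (q + 1 + 1) rfl,
            mappingCone.d_snd_v_assoc _ (q + 1) (q + 1 + 1) rfl]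
      · apply mappingCone.ext_to _ (q + 1) (q + 1 + 1) rfl
        · simp [swapHom,
            mappingCone.d_fst_v _ q (q + 1) (q + 1 + 1) rfl rfl,
            mappingCone.d_fst_v_assoc _ q (q + 1) (q + 1 + 1) rfl rfl,
            mappingCone.d_fst_v _ (q + 1) (q + 1 + 1) (q + 1 + 1 + 1) rfl rfl,
            mappingCone.d_fst_v_assoc _ (q + 1) (q + 1 + 1) (q + 1 + 1 + 1) rfl rfl,
            mappingCone.d_snd_v _ q (q + 1) rfl,
            mappingCone.d_snd_v_assoc _ q (q + 1) rfl,
            mappingCone.d_snd_v _ (q + 1) (q + 1 + 1) rfl,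
            mappingCone.d_snd_v_assoc _ (q + 1) (q + 1 + 1) rfl]
        · simp [swapHom,
            mappingCone.d_fst_v _ q (q + 1) (q + 1 + 1) rfl rfl,
            mappingCone.d_fst_v_assoc _ q (q + 1) (q + 1 + 1) rfl rfl,
            mappingCone.d_fst_v _ (q + 1) (q + 1 + 1) (q + 1 + 1 + 1) rfl rfl,
            mappingCone.d_fst_v_assoc _ (q + 1) (q + 1 + 1) (q + 1 + 1 + 1) rfl rfl,
            mappingCone.d_snd_v _ q (q + 1) rfl,
            mappingCone.d_snd_v_assoc _ q (q + 1) rfl,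
            mappingCone.d_snd_v _ (q + 1) (q + 1 + 1) rfl,
            mappingCone.d_snd_v_assoc _ (q + 1) (q + 1 + 1) rfl]

/-- The swap isomorphism of complexes. -/
noncomputable def swapIso :
    mappingCone (a • 𝟙 (mappingCone (b • 𝟙 K))) ≅ mappingCone (b • 𝟙 (mappingCone (a • 𝟙 K))) :=
  HomologicalComplex.Hom.isoOfComponents
    (fun q => ⟨swapHom K a b q, swapHom K b a q, swapHom_swapHom K a b q, swapHom_swapHom K b a q⟩)
    (by
      rintro i j (rfl : i + 1 = j)
      exact swapHom_comm K a b i)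

end

end Groth.Agent.Lib.Seat74.ConeSwap
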