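import Mathlib
import Groth.Agent.Lib.Seat74ConeSwap
import Groth.Agent.Lib.Helper13Kz

/-!
# Seat 74: Koszul complexes on permuted lists, and splitting of the cone of a null-homotopic
scalar multiplication; Koszul cohomology of `ys ++ xs` with `ys` in the ideal of `xs`.
-/

set_option autoImplicit false
universe u
open CategoryTheory CategoryTheory.Limits CochainComplex HomComplex

namespace Groth.Agent.Lib.Seat74.KoszulSplit

open Groth.Agent.Lib.Helper21

variable {A : Type u} [CommRing A]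

/-- Koszul complexes (cone model) of permuted lists are isomorphic. -/
theorem koszulCx_perm (M : ModuleCat.{u} A) {l l' : List A} (h : l.Perm l') :
    Nonempty (CohIII.koszulCx M l ≅ CohIII.koszulCx M l') := by
  induction h with
  | nil => exact ⟨Iso.refl _⟩
  | cons x _ ih =>
    obtain ⟨e⟩ := ih
    exact ⟨Groth.Agent.Helper13Kz.coneIso e x⟩
  | swap x y l => exact ⟨Groth.Agent.Lib.Seat74.ConeSwap.swapIso (CohIII.koszulCx M l) y x⟩
  | trans _ _ ih1 ih2 =>
    obtain ⟨e1⟩ := ih1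
    obtain ⟨e2⟩ := ih2
    exact ⟨e1 ≪≫ e2⟩

/-- The cone of a null-homotopic scalar multiplication splits on cohomology. -/
theorem cone_homology_split (K : CochainComplex (ModuleCat.{u} A) ℤ) (y : A)
    (H : Homotopy (y • 𝟙 K) 0) (i : ℤ) :
    Nonempty ((mappingCone (y • 𝟙 K)).homology i ≃ₗ[A] (K.homology i × K.homology (i + 1))) := by
  have h3 := cone_homology_exact₃ (y • 𝟙 K) i (i + 1) rfl
  have h1 := cone_homology_exact₁ (y • 𝟙 K) i (i + 1) rfl
  rw [ShortComplex.ShortExact.moduleCat_exact_iff_function_exact] at h1 h3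
  dsimp at h1 h3
  have hz : HomologicalComplex.homologyMap (y • 𝟙 K) (i + 1) = 0 := by
    rw [H.homologyMap_eq (i + 1)]
    simp
  have hsurj : Function.Surjective (coneδ (y • 𝟙 K) i (i + 1) rfl).hom := by
    intro z
    apply (h1 z).mp
    show (ConcreteCategory.hom (HomologicalComplex.homologyMap (y • 𝟙 K) (i + 1))) z = 0
    rw [hz]
    rfl
  -- the retraction
  obtain ⟨α, hα⟩ := (Cochain.equivHomotopy (y • 𝟙 K) 0) H
  have eq : δ (-1) 0 α = Cochain.ofHom ((y • 𝟙 K) ≫ 𝟙 K) := by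
    rw [Category.comp_id, hα]
    simp
  let s : mappingCone (y • 𝟙 K) ⟶ K := mappingCone.desc (y • 𝟙 K) α (𝟙 K) eq
  have hs : mappingCone.inr (y • 𝟙 K) ≫ s = 𝟙 K := mappingCone.inr_desc _ _ _ _
  have hr : (HomologicalComplex.homologyMap s i).hom ∘ₗ
      (HomologicalComplex.homologyMap (mappingCone.inr (y • 𝟙 K)) i).hom = LinearMap.id := by
    rw [← ModuleCat.hom_comp, ← HomologicalComplex.homologyMap_comp, hs,
      HomologicalComplex.homologyMap_id]
    rfl
  exact ⟨(h3.splitInjectiveEquiv hsurj ⟨_, hr⟩).1⟩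

/-! ### The index type with `2^r` elements and its degree function -/

/-- Index type with `2^r` elements. -/
def Idx : ℕ → Type
  | 0 => Unit
  | r + 1 => Idx r ⊕ Idx r

/-- Degree of an index. -/
def deg : ∀ r : ℕ, Idx r → ℕ
  | 0, _ => 0
  | r + 1, Sum.inl i => deg r i
  | r + 1, Sum.inr i => deg r i + 1

instance idxFinite : ∀ r : ℕ, Finite (Idx r)
  | 0 => inferInstanceAs (Finite Unit)
  | r + 1 => by
    have := idxFinite r
    exact inferInstanceAs (Finite (Idx r ⊕ Idx r))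

lemma deg_le : ∀ (r : ℕ) (i : Idx r), deg r i ≤ r
  | 0, _ => le_rfl
  | r + 1, Sum.inl i => (deg_le r i).trans (Nat.le_succ r)
  | r + 1, Sum.inr i => Nat.succ_le_succ (deg_le r i)

lemma card_deg : ∀ (r j : ℕ), Nat.card {i : Idx r // deg r i = j} = r.choose j
  | 0, 0 => by
    have : Unique {i : Idx 0 // deg 0 i = 0} :=
      ⟨⟨⟨(() : Unit), rfl⟩⟩, fun ⟨_, _⟩ => rfl⟩
    simp
  | 0, j + 1 => by
    have : IsEmpty {i : Idx 0 // deg 0 i = j + 1} :=
      ⟨fun ⟨_, h⟩ => by simp [deg] at h⟩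
    simp
  | r + 1, 0 => by
    have e : {i : Idx (r + 1) // deg (r + 1) i = 0} ≃
        {i : Idx r // deg r i = 0} ⊕ {i : Idx r // deg r i + 1 = 0} :=
      Equiv.subtypeSum (p := fun i : Idx r ⊕ Idx r => deg (r + 1) i = 0)
    have : IsEmpty {i : Idx r // deg r i + 1 = 0} := ⟨fun ⟨_, h⟩ => by omega⟩
    rw [Nat.card_congr e, Nat.card_sum, card_deg r 0]
    simp
  | r + 1, j + 1 => by
    have e : {i : Idx (r + 1) // deg (r + 1) i = j + 1} ≃
        {i : Idx r // deg r i = j + 1} ⊕ {i : Idx r // deg r i + 1 = j + 1} :=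
      Equiv.subtypeSum (p := fun i : Idx r ⊕ Idx r => deg (r + 1) i = j + 1)
    have e' : {i : Idx r // deg r i + 1 = j + 1} ≃ {i : Idx r // deg r i = j} :=
      Equiv.subtypeEquivRight (fun i => by omega)
    rw [Nat.card_congr e, Nat.card_sum, card_deg r (j + 1), Nat.card_congr e', card_deg r j,
      Nat.choose_succ_succ, add_comm]

section Family

variable (V : ℤ → Type u) [∀ k, AddCommGroup (V k)] [∀ k, Module A (V k)]

/-- Transport along an equality of degrees. -/
def castLE {k k' : ℤ} (h : k = k') : V k ≃ₗ[A] V k' := h ▸ LinearEquiv.refl A (V k)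

/-- The module `∏_{i : Idx r} V (m + deg i)`. -/
abbrev W (r : ℕ) (m : ℤ) : Type u := (i : Idx r) → V (m + (deg r i : ℕ))

theorem W_zero (m : ℤ) : Nonempty (V m ≃ₗ[A] W V 0 m) := by
  have : Unique (Idx 0) := inferInstanceAs (Unique Unit)
  have e : (Idx 0 → V (m + ((0 : ℕ) : ℤ))) ≃ₗ[A] V (m + ((0 : ℕ) : ℤ)) :=
    LinearEquiv.funUnique (Idx 0) A _
  exact ⟨(castLE (A := A) V (by simp)).trans e.symm⟩

theorem W_succ (r : ℕ) (m : ℤ) : Nonempty ((W V r m × W V r (m + 1)) ≃ₗ[A] W V (r + 1) m) := by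
  have e := LinearEquiv.sumPiEquivProdPi A (Idx r) (Idx r)
    (fun i : Idx r ⊕ Idx r => V (m + (deg (r + 1) i : ℕ)))
  have e2 : W V r (m + 1) ≃ₗ[A] ((i : Idx r) → V (m + ((deg r i + 1 : ℕ) : ℤ))) :=
    LinearEquiv.piCongrRight (fun i => castLE (A := A) V (by push_cast; ring))
  exact ⟨((LinearEquiv.refl A (W V r m)).prodCongr e2).trans e.symm⟩

theorem W_choose (r : ℕ) (m : ℤ) :
    Nonempty (W V r m ≃ₗ[A] ((j : Fin (r + 1)) → Fin (r.choose j) → V (m + j))) := by
  let degFin : Idx r → Fin (r + 1) := fun i => ⟨deg r i, Nat.lt_succ_of_le (deg_le r i)⟩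
  let e0 : (Σ j : Fin (r + 1), {i : Idx r // degFin i = j}) ≃ Idx r := Equiv.sigmaFiberEquiv degFin
  have s1 : W V r m ≃ₗ[A]
      ((p : Σ j : Fin (r + 1), {i : Idx r // degFin i = j}) → V (m + (deg r (e0 p) : ℕ))) :=
    LinearEquiv.piCongrLeft' A (fun i : Idx r => V (m + (deg r i : ℕ))) e0.symm
  have s2 : ((p : Σ j : Fin (r + 1), {i : Idx r // degFin i = j}) → V (m + (deg r (e0 p) : ℕ)))
      ≃ₗ[A] ((p : Σ j : Fin (r + 1), {i : Idx r // degFin i = j}) → V (m + ((p.1 : ℕ) : ℤ))) :=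
    LinearEquiv.piCongrRight (fun p => castLE (A := A) V (by
      have h := congrArg Fin.val p.2.2
      have h' : deg r (e0 p) = (p.1 : ℕ) := h
      rw [h']))
  have s3 : ((p : Σ j : Fin (r + 1), {i : Idx r // degFin i = j}) → V (m + ((p.1 : ℕ) : ℤ)))
      ≃ₗ[A] ((j : Fin (r + 1)) → {i : Idx r // degFin i = j} → V (m + ((j : ℕ) : ℤ))) :=
    LinearEquiv.piCurry A (fun (j : Fin (r + 1)) (_ : {i : Idx r // degFin i = j}) =>
      V (m + ((j : ℕ) : ℤ)))
  have s4 : ((j : Fin (r + 1)) → {i : Idx r // degFin i = j} → V (m + ((j : ℕ) : ℤ)))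
      ≃ₗ[A] ((j : Fin (r + 1)) → Fin (r.choose j) → V (m + j)) :=
    LinearEquiv.piCongrRight (fun j => by
      have e' : {i : Idx r // degFin i = j} ≃ {i : Idx r // deg r i = (j : ℕ)} :=
        Equiv.subtypeEquivRight (fun i => Fin.ext_iff)
      have hc : Nat.card {i : Idx r // degFin i = j} = r.choose j := by
        rw [Nat.card_congr e', card_deg]
      exact LinearEquiv.funCongrLeft A (V (m + ((j : ℕ) : ℤ))) (Finite.equivFinOfCardEq hc).symm)
  exact ⟨s1.trans (s2.trans (s3.trans s4))⟩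

end Family

/-- Koszul cohomology of `ys ++ xs` (cone model) when `ys` lies in the ideal of `xs`. -/
theorem koszulCx_append_split (M : ModuleCat.{u} A) (xs : List A)
    (V : ℤ → Type u) [∀ k, AddCommGroup (V k)] [∀ k, Module A (V k)]
    (e0 : ∀ k, (CohIII.koszulCx M xs).homology k ≃ₗ[A] V k) :
    ∀ (ys : List A), (∀ y ∈ ys, y ∈ Ideal.span {a | a ∈ xs}) → ∀ m : ℤ,
      Nonempty ((CohIII.koszulCx M (ys ++ xs)).homology m ≃ₗ[A] W V ys.length m)
  | [], _, m => by
    obtain ⟨e⟩ := W_zero (A := A) V m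
    exact ⟨(e0 m).trans e⟩
  | y :: ys, hy, m => by
    have hys : ∀ z ∈ ys, z ∈ Ideal.span {a | a ∈ xs} := fun z hz => hy z (List.mem_cons_of_mem _ hz)
    obtain ⟨e1⟩ := koszulCx_append_split M xs V e0 ys hys m
    obtain ⟨e2⟩ := koszulCx_append_split M xs V e0 ys hys (m + 1)
    have hmem : y ∈ Ideal.span {a | a ∈ ys ++ xs} := by
      refine Ideal.span_mono ?_ (hy y List.mem_cons_self)
      intro a ha
      exact List.mem_append_right _ ha
    obtain ⟨H⟩ := Groth.Agent.S14433.key2 M (ys ++ xs) y hmem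
    obtain ⟨e3⟩ := cone_homology_split (CohIII.koszulCx M (ys ++ xs)) y H m
    obtain ⟨e4⟩ := W_succ (A := A) V ys.length m
    exact ⟨e3.trans ((e1.prodCongr e2).trans e4)⟩

/-- Koszul cohomology of `xs ++ ys` for the termwise tensor model. -/
theorem tensorCx_koszul_append_split (M : ModuleCat.{u} A) (xs ys : List A)
    (hy : ∀ y ∈ ys, y ∈ Ideal.span {a | a ∈ xs}) (m : ℤ) :
    Nonempty ((DRing.tensorCx (Koszul.koszul A (xs ++ ys)) M).homology m ≃ₗ[A]
      ((j : Fin (ys.length + 1)) → Fin (ys.length.choose j) →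
        (DRing.tensorCx (Koszul.koszul A xs) M).homology (m + j))) := by
  have i1 := (HomologicalComplex.homologyFunctor (ModuleCat.{u} A) (ComplexShape.up ℤ) m).mapIso
    (Groth.Agent.Helper13Kz.tensorIso M (xs ++ ys))
  obtain ⟨p⟩ := koszulCx_perm M (List.perm_append_comm (l₁ := xs) (l₂ := ys))
  have i2 := (HomologicalComplex.homologyFunctor (ModuleCat.{u} A) (ComplexShape.up ℤ) m).mapIso p
  have e0 : ∀ k, (CohIII.koszulCx M xs).homology k ≃ₗ[A]
      (DRing.tensorCx (Koszul.koszul A xs) M).homology k := fun k =>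
    ((HomologicalComplex.homologyFunctor (ModuleCat.{u} A) (ComplexShape.up ℤ) k).mapIso
      (Groth.Agent.Helper13Kz.tensorIso M xs)).symm.toLinearEquiv
  obtain ⟨e1⟩ := koszulCx_append_split M xs
    (fun k => (DRing.tensorCx (Koszul.koszul A xs) M).homology k) e0 ys hy m
  obtain ⟨e2⟩ := W_choose (A := A)
    (fun k => (DRing.tensorCx (Koszul.koszul A xs) M).homology k) ys.length m
  exact ⟨i1.toLinearEquiv.trans (i2.toLinearEquiv.trans (e1.trans e2))⟩

end Groth.Agent.Lib.Seat74.KoszulSplit
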