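import Groth.Agent.Lib.Seat40KoszulComp
import Groth.Agent.Lib.Seat13KzDer
import Groth.Agent.Lib.Seat74KoszulSplit
import Groth.Agent.S15821

/-!
# Seat31: toolkit for Koszul-regular sequences (cone model)

* `kr_of_span_eq` : a list of the same length generating the same ideal as a Koszul-regular list
  is Koszul-regular;
* `kr_map_of_append` : if `t` and `q ++ t` are Koszul-regular and `φ` is surjective with kernel
  `(t)` then `q.map φ` is Koszul-regular;
* `kr_nil`, `kr_singleton`.
-/

set_option autoImplicit false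

universe u

open CategoryTheory CategoryTheory.Limits CohIII

attribute [local instance] HasDerivedCategory.standard

namespace Groth.Agent.Lib.Seat31.KR

open Groth.Agent.Helper13Kz Groth.Agent.Helper13KzLift Groth.Agent.Lib.Seat74.KoszulSplit
open Groth.Agent.Lib.Seat40.KoszulComp

variable {R : Type u} [CommRing R]

/-- the index of top degree. -/
def topIdx : ∀ r : ℕ, Idx r
  | 0 => ()
  | r + 1 => Sum.inr (topIdx r)

lemma deg_topIdx : ∀ r : ℕ, deg r (topIdx r) = r
  | 0 => rfl
  | r + 1 => by
    show deg r (topIdx r) + 1 = r + 1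
    rw [deg_topIdx r]

section W

variable (V : ℤ → Type u) [∀ k, AddCommGroup (V k)]

lemma subsingleton_W (r : ℕ) (m : ℤ) (h : ∀ j : ℕ, j ≤ r → Subsingleton (V (m + j))) :
    Subsingleton (W V r m) :=
  ⟨fun _ _ => funext fun i => (h (deg r i) (deg_le r i)).elim _ _⟩

lemma subsingleton_of_W (r : ℕ) (m : ℤ) (h : Subsingleton (W V r m)) :
    Subsingleton (V (m + r)) := by
  classical
  have key : ∀ (j : ℕ), deg r (topIdx r) = j → Subsingleton (V (m + j)) := by
    intro j hj
    subst hj
    refine ⟨fun a b => ?_⟩
    have h1 : (Function.update (0 : W V r m) (topIdx r) a) =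
        Function.update (0 : W V r m) (topIdx r) b := Subsingleton.elim _ _
    have h2 := congrFun h1 (topIdx r)
    rwa [Function.update_self, Function.update_self] at h2
  exact key r (deg_topIdx r)

end W

/-- positive degrees of the Koszul complex vanish. -/
lemma subsingleton_KH_pos (M : Type u) [AddCommGroup M] [Module R M] (l : List R) (i : ℤ)
    (hi : 0 < i) : Subsingleton (KH l M i) := by
  apply ModuleCat.subsingleton_of_isZero
  rw [← HomologicalComplex.exactAt_iff_isZero_homology]
  exact ShortComplex.exact_of_isZero_X₂ _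
    (Groth.Agent.Lib.Helper21.isZero_koszulCx_X_pos _ l i hi)

/-- **Independence of generators**: if `k` is Koszul-regular and `q` is a list of the same length
generating the same ideal, then `q` is Koszul-regular. -/
theorem kh_subsingleton_of_span_eq (k q : List R)
    (hk : ∀ i : ℤ, i ≠ 0 → Subsingleton (KH k R i)) (hlen : q.length = k.length)
    (hqk : ∀ y ∈ q, y ∈ Ideal.span {a | a ∈ k}) (hkq : ∀ x ∈ k, x ∈ Ideal.span {a | a ∈ q})
    (i : ℤ) (hi : i ≠ 0) : Subsingleton (KH q R i) := by
  by_cases hpos : 0 < i
  · exact subsingleton_KH_pos R q i hpos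
  have hneg : i < 0 := by omega
  obtain ⟨eA⟩ := koszulCx_append_split (ModuleCat.of R R) k (fun j => KH k R j)
    (fun j => LinearEquiv.refl _ _) q hqk (i - k.length)
  have hWA : Subsingleton (W (fun j => KH k R j) q.length (i - k.length)) :=
    subsingleton_W (fun j => KH k R j) _ _ (fun j hj => hk _ (by omega))
  have hA : Subsingleton ((koszulCx (ModuleCat.of R R) (q ++ k)).homology (i - k.length)) :=
    eA.toEquiv.subsingleton
  obtain ⟨p⟩ := koszulCx_perm (ModuleCat.of R R) (List.perm_append_comm (l₁ := q) (l₂ := k))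
  haveI : Subsingleton ((HomologicalComplex.homologyFunctor (ModuleCat.{u} R) (ComplexShape.up ℤ)
      (i - k.length)).obj (koszulCx (ModuleCat.of R R) (q ++ k))) := hA
  have hB : Subsingleton ((koszulCx (ModuleCat.of R R) (k ++ q)).homology (i - k.length)) :=
    ((HomologicalComplex.homologyFunctor (ModuleCat.{u} R) (ComplexShape.up ℤ)
      (i - k.length)).mapIso p).toLinearEquiv.symm.toEquiv.subsingleton
  obtain ⟨eB⟩ := koszulCx_append_split (ModuleCat.of R R) q (fun j => KH q R j)
    (fun j => LinearEquiv.refl _ _) k hkq (i - k.length)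
  have hWB : Subsingleton (W (fun j => KH q R j) k.length (i - k.length)) :=
    eB.symm.toEquiv.subsingleton
  have h := subsingleton_of_W (fun j => KH q R j) k.length (i - k.length) hWB
  have hidx : i - (k.length : ℤ) + (k.length : ℤ) = i := by ring
  rw [hidx] at h
  exact h

theorem kr_of_span_eq (k q : List R) (hk : LCI.IsKoszulRegularSeq R k)
    (hlen : q.length = k.length)
    (hqk : ∀ y ∈ q, y ∈ Ideal.span {a | a ∈ k}) (hkq : ∀ x ∈ k, x ∈ Ideal.span {a | a ∈ q}) :
    LCI.IsKoszulRegularSeq R q := by
  rw [isKoszulRegularSeq_iff] at hk ⊢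
  exact kh_subsingleton_of_span_eq k q hk hlen hqk hkq

/-- Koszul-regularity is invariant under permutations. -/
theorem kr_perm {l l' : List R} (h : l.Perm l') (hl : LCI.IsKoszulRegularSeq R l) :
    LCI.IsKoszulRegularSeq R l' := by
  rw [isKoszulRegularSeq_iff] at hl ⊢
  intro i hi
  obtain ⟨p⟩ := koszulCx_perm (ModuleCat.of R R) h
  haveI : Subsingleton ((HomologicalComplex.homologyFunctor (ModuleCat.{u} R) (ComplexShape.up ℤ)
      i).obj (koszulCx (ModuleCat.of R R) l)) := hl i hi
  exact ((HomologicalComplex.homologyFunctor (ModuleCat.{u} R) (ComplexShape.up ℤ)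
      i).mapIso p).toLinearEquiv.symm.toEquiv.subsingleton

/-- the empty list is Koszul-regular. -/
theorem kr_nil : LCI.IsKoszulRegularSeq R ([] : List R) :=
  (Groth.Agent.S15821.result R [] (RingTheory.Sequence.IsWeaklyRegular.nil R R)).1

/-- a nonzerodivisor forms a Koszul-regular sequence. -/
theorem kr_singleton (t : R) (ht : t ∈ nonZeroDivisors R) : LCI.IsKoszulRegularSeq R [t] := by
  refine (Groth.Agent.S15821.result R [t] ?_).1
  rw [RingTheory.Sequence.isWeaklyRegular_singleton_iff]
  intro a b hab
  have h0 : (a - b) * t = 0 := by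
    have h1 : t * a = t * b := by simpa [smul_eq_mul] using hab
    rw [sub_mul, mul_comm a t, mul_comm b t, h1, sub_self]
  exact sub_eq_zero.mp (ht.2 _ h0)

/-- if `t` and `q ++ t` are Koszul-regular and `φ` is surjective with kernel `(t)`, then the image
of `q` is Koszul-regular. -/
theorem kr_map_of_append {S R' : Type u} [CommRing S] [CommRing R'] (φ : S →+* R')
    (hφ : Function.Surjective φ) (t q : List S) (hker : RingHom.ker φ = Ideal.ofList t)
    (ht : LCI.IsKoszulRegularSeq S t) (h : LCI.IsKoszulRegularSeq S (q ++ t)) :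
    LCI.IsKoszulRegularSeq R' (q.map φ) := by
  rw [isKoszulRegularSeq_iff] at ht h ⊢
  intro i hi
  have h1 := Groth.Agent.Lib.Seat13.KzDer.isZero_homology_koszulCx_quot q t
    (fun j hj => @ModuleCat.isZero_of_subsingleton _ _ _ (ht j hj)) i
    (@ModuleCat.isZero_of_subsingleton _ _ _ (h i hi))
  let _ : Algebra S R' := φ.toAlgebra
  have hker' : Ideal.ofList t = LinearMap.ker (Algebra.linearMap S R') := by
    rw [← hker]
    ext x
    simp [RingHom.mem_ker, RingHom.algebraMap_toAlgebra]
  have hrange : Function.Surjective (Algebra.linearMap S R') := hφ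
  let e : (S ⧸ Ideal.ofList t) ≃ₗ[S] R' :=
    (Submodule.quotEquivOfEq _ _ hker').trans
      ((Algebra.linearMap S R').quotKerEquivOfSurjective hrange)
  have h2 : Subsingleton (KH q (S ⧸ Ideal.ofList t) i) := ModuleCat.subsingleton_of_isZero h1
  have h3 : Subsingleton (KH q R' i) := subsingleton_KH_of_equiv q e i h2
  have h4 : Limits.IsZero ((koszulCx ((ModuleCat.restrictScalars φ).obj (ModuleCat.of R' R'))
      q).homology i) := @ModuleCat.isZero_of_subsingleton _ _ _ h3
  exact ModuleCat.subsingleton_of_isZero
    (Groth.Agent.Lib.Seat40.RegSeqFlat.isZero_homology_of_restrict φ (ModuleCat.of R' R') q i h4)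

end Groth.Agent.Lib.Seat31.KR
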