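import Groth.Agent.Lib.Seat31KRLoc

/-!
# Seat31: descent of Koszul-regular ideals along quotients by a transversal nonzerodivisor

* `kr_exchange`: exchange lemma for Koszul-regular lists;
* `isKoszulRegularIdeal_of_comap`: if `φ : S → R'` is surjective with kernel `(t)`, `t` a
  nonzerodivisor with a derivation-like `D` such that `D t` is invertible at the primes containing
  `t`, and `φ⁻¹ J` is a Koszul-regular ideal, then so is `J`.
-/

set_option autoImplicit false
universe u
open CategoryTheory CategoryTheory.Limits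

namespace Groth.Agent.Lib.Seat31.KR

/-- exchange: replacing a member of a Koszul-regular list by a linear combination in which it
occurs with a unit coefficient. -/
theorem kr_exchange {T : Type u} [CommRing T] {N' : ℕ} (L c : Fin (N' + 1) → T)
    (i₀ : Fin (N' + 1)) (hu : IsUnit (c i₀)) (hL : LCI.IsKoszulRegularSeq T (List.ofFn L)) :
    LCI.IsKoszulRegularSeq T (List.ofFn (fun j => L (i₀.succAbove j)) ++ [∑ i, c i * L i]) ∧
      Ideal.span {x | x ∈ List.ofFn (fun j => L (i₀.succAbove j)) ++ [∑ i, c i * L i]} =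
        Ideal.span {x | x ∈ List.ofFn L} := by
  have h1 : ∀ y ∈ List.ofFn (fun j => L (i₀.succAbove j)) ++ [∑ i, c i * L i],
      y ∈ Ideal.span {a | a ∈ List.ofFn L} := by
    intro y hy
    rw [List.mem_append, List.mem_singleton] at hy
    rcases hy with hy | rfl
    · obtain ⟨j, rfl⟩ := (List.mem_ofFn' _ _).1 hy
      exact Ideal.subset_span ((List.mem_ofFn' _ _).2 ⟨_, rfl⟩)
    · exact Ideal.sum_mem _ fun i _ =>
        Ideal.mul_mem_left _ _ (Ideal.subset_span ((List.mem_ofFn' _ _).2 ⟨i, rfl⟩))
  have h2 : ∀ x ∈ List.ofFn L,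
      x ∈ Ideal.span {a | a ∈ List.ofFn (fun j => L (i₀.succAbove j)) ++ [∑ i, c i * L i]} := by
    intro x hx
    obtain ⟨i, rfl⟩ := (List.mem_ofFn' _ _).1 hx
    have hq : ∀ j, L (i₀.succAbove j) ∈
        Ideal.span {a | a ∈ List.ofFn (fun j => L (i₀.succAbove j)) ++ [∑ i, c i * L i]} :=
      fun j => Ideal.subset_span (List.mem_append_left _ ((List.mem_ofFn' _ _).2 ⟨j, rfl⟩))
    by_cases hi : i = i₀
    · subst hi
      have hsum : c i * L i = (∑ i, c i * L i) -
          ∑ j, c (i.succAbove j) * L (i.succAbove j) := by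
        rw [Fin.sum_univ_succAbove _ i]
        ring
      rw [← Ideal.unit_mul_mem_iff_mem _ hu, hsum]
      refine Ideal.sub_mem _ (Ideal.subset_span (List.mem_append_right _ (List.mem_singleton.2 rfl)))
        (Ideal.sum_mem _ fun j _ => Ideal.mul_mem_left _ _ (hq j))
    · obtain ⟨j, rfl⟩ := Fin.exists_succAbove_eq hi
      exact hq j
  refine ⟨kr_of_span_eq _ _ hL (by simp) h1 h2, le_antisymm (Ideal.span_le.2 h1) (Ideal.span_le.2 h2)⟩


section Down

variable {S R' : Type u} [CommRing S] [CommRing R'] (φ : S →+* R')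

/-- explicit form of shrinking. -/
theorem kr_shrink {I : Ideal S} (g g' : S) (l : List (Localization.Away g))
    (hl : LCI.IsKoszulRegularSeq (Localization.Away g) l)
    (hspan : I.map (algebraMap S (Localization.Away g)) = Ideal.span {x | x ∈ l}) :
    LCI.IsKoszulRegularSeq (Localization.Away (g * g'))
        (l.map (IsLocalization.Away.awayToAwayRight (S := Localization.Away g)
          (P := Localization.Away (g * g')) g g')) ∧
      I.map (algebraMap S (Localization.Away (g * g'))) =
        Ideal.span {x | x ∈ l.map (IsLocalization.Away.awayToAwayRight (S := Localization.Away g)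
          (P := Localization.Away (g * g')) g g')} := by
  let ρ := IsLocalization.Away.awayToAwayRight (S := Localization.Away g)
      (P := Localization.Away (g * g')) g g'
  have hρ : ρ.comp (algebraMap S (Localization.Away g)) =
      algebraMap S (Localization.Away (g * g')) := by
    ext a
    exact IsLocalization.Away.awayToAwayRight_eq (S := Localization.Away g)
        (P := Localization.Away (g * g')) g g' a
  refine ⟨Groth.Agent.Lib.Seat40.RegSeqFlat.koszul_of_flat ρ
    (flat_awayToAwayRight g g') l hl, ?_⟩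
  rw [← hρ, ← Ideal.map_map, hspan, span_map_list]

/-- the derivation argument: if `t = ∑ c i * L i` in `S_h` with the `L i` in `K S_h`, `t ∈ K ⊆ 𝔮`
and `D t ∉ 𝔮`, then some coefficient is not in `𝔮 S_h`. -/
theorem exists_coeff_notMem (D : S → S) (hDadd : ∀ a b, D (a + b) = D a + D b)
    (hDmul : ∀ a b, D (a * b) = D a * b + a * D b) (K 𝔮 : Ideal S) [𝔮.IsPrime] (hK𝔮 : K ≤ 𝔮)
    (t : S) (htK : t ∈ K) (hDt : D t ∉ 𝔮) (h : S) (hh : h ∉ 𝔮) {N : ℕ}
    (L c : Fin N → Localization.Away h)
    (hL : ∀ i, L i ∈ K.map (algebraMap S (Localization.Away h)))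
    (hsum : ∑ i, c i * L i = algebraMap S (Localization.Away h) t) :
    ∃ i₀, c i₀ ∉ 𝔮.map (algebraMap S (Localization.Away h)) := by
  by_contra hall
  push Not at hall
  have h1 : algebraMap S (Localization.Away h) t ∈
      (𝔮 * K).map (algebraMap S (Localization.Away h)) := by
    rw [Ideal.map_mul, ← hsum]
    exact Ideal.sum_mem _ fun i _ => Ideal.mul_mem_mul (hall i) (hL i)
  obtain ⟨e, he⟩ := exists_pow_mul_mem (𝔮 * K) h t h1
  have hD : ∀ z ∈ 𝔮 * K, D z ∈ 𝔮 := by
    intro z hz
    refine Submodule.mul_induction_on hz ?_ ?_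
    · intro m hm n hn
      rw [hDmul]
      exact Ideal.add_mem _ (Ideal.mul_mem_left _ _ (hK𝔮 hn)) (Ideal.mul_mem_right _ _ hm)
    · intro x y hx hy
      rw [hDadd]
      exact Ideal.add_mem _ hx hy
  have h2 := hD _ he
  rw [hDmul] at h2
  have h3 : h ^ e * D t ∈ 𝔮 := by
    have h4 : D (h ^ e) * t ∈ 𝔮 := Ideal.mul_mem_left _ _ (hK𝔮 htK)
    have := Ideal.sub_mem _ h2 h4
    simpa using this
  rcases Ideal.IsPrime.mem_or_mem inferInstance h3 with h5 | h5
  · exact hh (Ideal.IsPrime.mem_of_pow_mem inferInstance e h5)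
  · exact hDt h5


variable (hφ : Function.Surjective φ)

include hφ in
/-- **Descent of Koszul-regularity along a quotient by a "transversal" nonzerodivisor**:
if `φ : S → R'` is surjective with kernel `(t)`, `t` is a nonzerodivisor, and there is a
derivation-like map `D` with `D t` invertible at all primes containing `t`, then `J` is
Koszul-regular as soon as `φ⁻¹ J` is. -/
theorem isKoszulRegularIdeal_of_comap (t : S) (hker : RingHom.ker φ = Ideal.span {t})
    (ht : t ∈ nonZeroDivisors S) (D : S → S) (hDadd : ∀ a b, D (a + b) = D a + D b)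
    (hDmul : ∀ a b, D (a * b) = D a * b + a * D b)
    (hDt : ∀ 𝔮 : Ideal S, 𝔮.IsPrime → t ∈ 𝔮 → D t ∉ 𝔮)
    (J : Ideal R') (hK : LCI.IsKoszulRegularIdeal (J.comap φ)) :
    LCI.IsKoszulRegularIdeal J := by
  intro 𝔭 h𝔭
  have hprime : (𝔭.asIdeal.comap φ).IsPrime := inferInstance
  have hK𝔮 : J.comap φ ≤ 𝔭.asIdeal.comap φ := Ideal.comap_mono h𝔭
  obtain ⟨h, hh, l, hl, hspan⟩ := hK ⟨𝔭.asIdeal.comap φ, hprime⟩ hK𝔮
  have hφt : φ t = 0 := by
    rw [← RingHom.mem_ker, hker]
    exact Ideal.subset_span rfl
  have htK : t ∈ J.comap φ := by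
    rw [Ideal.mem_comap, hφt]
    exact zero_mem _
  obtain ⟨N, L, rfl⟩ : ∃ (N : ℕ) (L : Fin N → Localization.Away h), List.ofFn L = l :=
    ⟨l.length, l.get, List.ofFn_get l⟩
  have hrange : {x | x ∈ List.ofFn L} = Set.range L := by
    ext x
    simp [List.mem_ofFn']
  have hLmem : ∀ i, L i ∈ (J.comap φ).map (algebraMap S (Localization.Away h)) := fun i => by
    rw [hspan]
    exact Ideal.subset_span ((List.mem_ofFn' _ _).2 ⟨i, rfl⟩)
  have htmem : algebraMap S (Localization.Away h) t ∈ Ideal.span (Set.range L) := by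
    rw [← hrange, ← hspan]
    exact Ideal.mem_map_of_mem _ htK
  obtain ⟨c, hc⟩ := Ideal.mem_span_range_iff_exists_fun.1 htmem
  obtain ⟨i₀, hi₀⟩ := exists_coeff_notMem D hDadd hDmul (J.comap φ) (𝔭.asIdeal.comap φ) hK𝔮 t htK
    (hDt _ hprime (hK𝔮 htK)) h hh L c hLmem hc
  obtain ⟨n, c', hc'⟩ := IsLocalization.Away.surj h (c i₀)
  have hu : IsUnit (algebraMap S (Localization.Away h) h) :=
    IsLocalization.Away.algebraMap_isUnit h
  have hc'𝔮 : c' ∉ 𝔭.asIdeal.comap φ := by
    intro hmem
    apply hi₀
    have := Ideal.mem_map_of_mem (algebraMap S (Localization.Away h)) hmem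
    rw [← hc', Ideal.mul_unit_mem_iff_mem _ (hu.pow n)] at this
    exact this
  cases N with
  | zero => exact i₀.elim0
  | succ N' =>
  obtain ⟨hl₂, hspan₂⟩ := kr_shrink h c' (List.ofFn L) hl hspan
  set ρ := IsLocalization.Away.awayToAwayRight (S := Localization.Away h)
    (P := Localization.Away (h * c')) h c' with hρdef
  have hρ : ∀ a, ρ (algebraMap S (Localization.Away h) a) =
      algebraMap S (Localization.Away (h * c')) a := fun a =>
    IsLocalization.Away.awayToAwayRight_eq (S := Localization.Away h)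
      (P := Localization.Away (h * c')) h c' a
  rw [List.map_ofFn] at hl₂ hspan₂
  have hug : IsUnit (algebraMap S (Localization.Away (h * c')) (h * c')) :=
    IsLocalization.Away.algebraMap_isUnit _
  rw [map_mul] at hug
  have huc : IsUnit (ρ (c i₀)) := by
    have h1 : ρ (c i₀) * (algebraMap S (Localization.Away (h * c')) h) ^ n =
        algebraMap S (Localization.Away (h * c')) c' := by
      rw [← hρ, ← hρ, ← map_pow, ← map_mul, hc']
    have h2 : IsUnit (algebraMap S (Localization.Away (h * c')) c') :=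
      isUnit_of_mul_isUnit_right hug
    rw [← h1] at h2
    exact isUnit_of_mul_isUnit_left h2
  obtain ⟨hkr, hspan₃⟩ := kr_exchange (ρ ∘ L) (ρ ∘ c) i₀ huc hl₂
  have hsum : ∑ i, (ρ ∘ c) i * (ρ ∘ L) i = algebraMap S (Localization.Away (h * c')) t := by
    simp only [Function.comp]
    rw [← hρ, ← hc, map_sum]
    simp [map_mul]
  rw [hsum] at hkr hspan₃
  have hsurj := Groth.Agent.Lib.Seat31.LciPerf.awayMap_surjective φ hφ (h * c')
  have hker₂ : RingHom.ker (Localization.awayMap φ (h * c')) =
      Ideal.ofList [algebraMap S (Localization.Away (h * c')) t] := by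
    rw [Groth.Agent.Lib.Seat31.LciPerf.ker_awayMap, hker, Ideal.map_span, Set.image_singleton]
    unfold Ideal.ofList
    congr 1
    ext x
    simp
  have htt : algebraMap S (Localization.Away (h * c')) t ∈
      nonZeroDivisors (Localization.Away (h * c')) :=
    IsLocalization.map_nonZeroDivisors_le (Submonoid.powers (h * c')) _
      (Submonoid.mem_map_of_mem _ ht)
  have hfinal := kr_map_of_append (Localization.awayMap φ (h * c')) hsurj
    [algebraMap S (Localization.Away (h * c')) t] _ hker₂ (kr_singleton _ htt) hkr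
  have hφtt : Localization.awayMap φ (h * c') (algebraMap S (Localization.Away (h * c')) t) = 0 := by
    rw [← RingHom.mem_ker, hker₂]
    exact Ideal.subset_span (List.mem_singleton.2 rfl)
  refine ⟨φ (h * c'), ?_, _, hfinal, ?_⟩
  · intro hmem
    exact (hprime.mem_or_mem (show h * c' ∈ 𝔭.asIdeal.comap φ from hmem)).elim hh hc'𝔮
  · rw [← Ideal.map_comap_of_surjective _ hsurj (J.map _), ← map_comap_away, hspan₂, ← hspan₃,
      span_map_list, List.map_append, List.map_singleton, hφtt]
    apply le_antisymm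
    · rw [Ideal.span_le]
      intro y hy
      rw [Set.mem_ofPred_eq, List.mem_append, List.mem_singleton] at hy
      rcases hy with hy | rfl
      · exact Ideal.subset_span hy
      · exact zero_mem _
    · exact Ideal.span_mono fun y hy => List.mem_append_left _ hy

end Down

end Groth.Agent.Lib.Seat31.KR
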