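import Groth.Agent.Lib.Seat31LciProp

/-!
# Seat31: smooth ring maps are local complete intersection ring maps

* `isLCI_mvPolynomial`: `A → A[x₁,…,xₙ]` is lci;
* `isLCI_adjoinRoot`: `R → R[X]/(f)` with `f` monic is lci;
* `isLCI_of_isStandardEtale`: standard étale algebras are lci;
* `isLCI_of_smooth`: smooth algebras are lci (via Mathlib's local structure of smooth algebras:
  locally standard étale over a polynomial algebra);
* `lciH_of_smooth`, `lciM_of_smooth`: ring hom / scheme versions.
-/

set_option autoImplicit false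
universe u
open CategoryTheory CategoryTheory.Limits AlgebraicGeometry

namespace Groth.Agent.Lib.Seat31.LciHom

open Groth.Agent.Lib.Seat31.KR

section Ring

variable (A : Type u) [CommRing A]

/-- a polynomial algebra in finitely many variables is lci. -/
theorem isLCI_mvPolynomial (n : ℕ) : LCI.IsLCI A (MvPolynomial (Fin n) A) := by
  refine isLCI_of_presentation n AlgEquiv.refl (AlgHom.id A (MvPolynomial (Fin n) A))
    Function.surjective_id ?_
  have : RingHom.ker (AlgHom.id A (MvPolynomial (Fin n) A)).toRingHom = ⊥ :=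
    (RingHom.injective_iff_ker_eq_bot _).1 Function.injective_id
  rw [this]
  exact isKoszulRegularIdeal_bot

/-- `R[X]/(f)` with `f` monic is lci over `R`. -/
theorem isLCI_adjoinRoot (f : Polynomial A) (hf : f.Monic) : LCI.IsLCI A (AdjoinRoot f) := by
  let e : MvPolynomial (Fin 1) A ≃ₐ[A] Polynomial A := MvPolynomial.uniqueAlgEquiv A (Fin 1)
  refine isLCI_of_presentation 1 e (AdjoinRoot.mkₐ f) AdjoinRoot.mk_surjective ?_
  have : RingHom.ker (AdjoinRoot.mkₐ (R := A) f).toRingHom = Ideal.span {f} := by
    ext x
    rw [RingHom.mem_ker]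
    exact AdjoinRoot.mk_eq_zero.trans Ideal.mem_span_singleton.symm
  rw [this]
  exact isKoszulRegularIdeal_span_singleton f hf.mem_nonZeroDivisors

end Ring

section Etale

variable (R S : Type u) [CommRing R] [CommRing S] [Algebra R S]

/-- standard étale algebras are lci. -/
theorem isLCI_of_isStandardEtale [Algebra.IsStandardEtale R S] : LCI.IsLCI R S := by
  obtain ⟨P⟩ := Algebra.IsStandardEtale.nonempty_standardEtalePresentation (R := R) (S := S)
  have h1 : LCI.IsLCI R (AdjoinRoot P.f) := isLCI_adjoinRoot R P.f P.monic_f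
  have h2 : LCI.IsLCI (AdjoinRoot P.f) (Localization.Away (AdjoinRoot.mk P.f P.g)) :=
    isLCI_away isLCI_self _
  have h3 : LCI.IsLCI R (Localization.Away (AdjoinRoot.mk P.f P.g)) := isLCI_comp h1 h2
  exact isLCI_of_algEquiv (P.P.equivAwayAdjoinRoot.symm.trans P.equivRing.symm) h3

end Etale

section Smooth

variable (A C : Type u) [CommRing A] [CommRing C] [Algebra A C]

/-- smooth algebras are lci. -/
theorem isLCI_of_smooth [Algebra.Smooth A C] : LCI.IsLCI A C := by
  classical
  let t : Set C := {f | LCI.IsLCI A (Localization.Away f)}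
  have ht : Ideal.span t = ⊤ := by
    by_contra hne
    obtain ⟨𝔪, h𝔪, hle⟩ := Ideal.exists_le_maximal _ hne
    have := h𝔪.isPrime
    have : Algebra.FinitePresentation A C := Algebra.Smooth.finitePresentation
    have : Algebra.FormallySmooth A C := Algebra.Smooth.formallySmooth
    have : Algebra.IsSmoothAt A 𝔪 := Algebra.FormallySmooth.comp A C (Localization.AtPrime 𝔪)
    obtain ⟨f, hf, n, alg, tower, hst⟩ :=
      Algebra.IsSmoothAt.exists_isStandardEtale_mvPolynomial (R := A) (p := 𝔪)
    refine hf (hle (Ideal.subset_span ?_))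
    show LCI.IsLCI A (Localization.Away f)
    exact isLCI_comp (isLCI_mvPolynomial A n) (isLCI_of_isStandardEtale _ _)
  obtain ⟨s, hs, hs'⟩ := (Ideal.span_eq_top_iff_finite t).1 ht
  let g : Fin s.card → C := fun j => (s.equivFin.symm j : C)
  have hg : Ideal.span (Set.range g) = ⊤ := by
    have : Set.range g = (s : Set C) := by
      ext x
      constructor
      · rintro ⟨j, rfl⟩
        exact (s.equivFin.symm j).2
      · intro hx
        exact ⟨s.equivFin ⟨x, hx⟩, by simp [g]⟩
    rw [this, hs']
  exact isLCI_of_localizations s.card g hg fun j => hs (s.equivFin.symm j).2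

end Smooth

section Hom

/-- smooth ring maps are lci. -/
theorem lciH_of_smooth {R S : Type u} [CommRing R] [CommRing S] {f : R →+* S} (hf : f.Smooth) :
    LciH f := by
  letI := f.toAlgebra
  haveI : Algebra.Smooth R S := hf
  exact isLCI_of_smooth R S

/-- smooth morphisms are lci morphisms. -/
theorem lciM_of_smooth {X Y : Scheme.{u}} (f : X ⟶ Y) [Smooth f] : LciM f := by
  rw [HasRingHomProperty.iff_appLE (P := LciM)]
  intro U V e
  exact lciH_of_smooth (f.smooth_appLE U.2 V.2 e)

/-- open immersions are lci morphisms. -/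
theorem lciM_of_isOpenImmersion {X Y : Scheme.{u}} (f : X ⟶ Y) [IsOpenImmersion f] : LciM f :=
  lciM_of_smooth f

end Hom

end Groth.Agent.Lib.Seat31.LciHom
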