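import Groth.Prelude.Def_RegImm
import Groth.Agent.Lib.Seat31SmoothLci
import Groth.Agent.Lib.Helper13RegImm

/-!
# Seat31: bridge between the factorisation form and the affine-local form of lci morphisms

* `lciM_iff_exists`: `LciM` can be checked on some affine neighbourhood of each point;
* `lciM_of_regImm`: a Koszul-regular immersion is an lci morphism;
* `lciM_of_forall_isKoszulAt`: Koszul at every point (factorisation form) ⇒ `LciM`;
* `isRegularImmersion_specMap`, `exists_std_of_isLCI`, `isKoszulAt_of_lciM`: the converse;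
* `forall_isKoszulAt_iff_lciM`: `(∀ x, Synt.IsKoszulAt f x) ↔ LciM f`.
-/

set_option autoImplicit false
universe u
open CategoryTheory CategoryTheory.Limits AlgebraicGeometry

namespace Groth.Agent.Lib.Seat31.LciHom

open Groth.Agent.Lib.Seat31.KR

theorem lciH_source : RingHom.StableUnderCompositionWithLocalizationAwaySource @LciH :=
  (lciH_stableUnderComposition.stableUnderCompositionWithLocalizationAway
    lciH_holdsForLocalizationAway).left

theorem lciM_iff_exists {X Y : Scheme.{u}} (f : X ⟶ Y) :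
    LciM f ↔ ∀ (x : X), ∃ (U : Y.affineOpens) (V : X.affineOpens) (_ : x ∈ V.1)
      (e : V.1 ≤ f ⁻¹ᵁ U.1), LciH (f.appLE U V e).hom :=
  HasRingHomProperty.iff_exists_appLE (P := LciM) lciH_source

theorem lciM_comp {X Y Z : Scheme.{u}} {f : X ⟶ Y} {g : Y ⟶ Z} (hf : LciM f) (hg : LciM g) :
    LciM (f ≫ g) :=
  MorphismProperty.comp_mem _ f g hf hg

/-- a surjective ring map whose kernel is generated by a Koszul-regular sequence is lci. -/
theorem lciH_of_surjective_of_koszul {R B : Type u} [CommRing R] [CommRing B] (ψ : R →+* B)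
    (hψ : Function.Surjective ψ) (l : List R) (hl : LCI.IsKoszulRegularSeq R l)
    (hker : RingHom.ker ψ = Ideal.ofList l) : LciH ψ := by
  letI := ψ.toAlgebra
  refine isLCI_of_presentation 0 (MvPolynomial.isEmptyAlgEquiv R (Fin 0)) (Algebra.ofId R B) hψ ?_
  have : RingHom.ker (Algebra.ofId R B).toRingHom = RingHom.ker ψ := rfl
  rw [this, hker]
  exact isKoszulRegularIdeal_span l hl

/-- a Koszul-regular immersion is an lci morphism. -/
theorem lciM_of_regImm {Z X : Scheme.{u}} (i : Z ⟶ X)
    (h : RegImm.IsRegularImmersion .koszul i) : LciM i := by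
  rw [lciM_iff_exists]
  intro z
  obtain ⟨W, hzW, hcl, rs, hrs, hker⟩ := h.2 z
  have : IsAffine (W.1 : Scheme.{u}) := W.2
  have haff : IsAffineOpen (i ⁻¹ᵁ W.1) := by
    have : IsAffineHom (i ∣_ W.1) := inferInstance
    exact isAffine_of_isAffineHom (i ∣_ W.1)
  refine ⟨W, ⟨i ⁻¹ᵁ W.1, haff⟩, hzW, le_rfl, ?_⟩
  have hsurj : Function.Surjective (i.app W.1).hom := by
    have h1 : Function.Surjective ((i ∣_ W.1).app ⊤).hom :=
      Scheme.Hom.app_surjective (i ∣_ W.1) ⊤ (isAffineOpen_top _)
    have h1' := (congrArg (fun φ => Function.Surjective φ.hom) (morphismRestrict_app i W.1 ⊤)).mp h1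
    have h1'' : Function.Surjective
        ((Z.presheaf.map (eqToHom (image_morphismRestrict_preimage i W.1 ⊤)).op).hom ∘
          (i.app (W.1.ι ''ᵁ ⊤)).hom) := h1'
    have h3 : Function.Surjective (i.app (W.1.ι ''ᵁ ⊤)).hom :=
      Function.Surjective.of_comp_left h1'' (ConcreteCategory.bijective_of_isIso
        (Z.presheaf.map (eqToHom (image_morphismRestrict_preimage i W.1 ⊤)).op)).1
    have h4 : ∀ (W' : X.Opens), W' = W.1 → Function.Surjective (i.app W').hom →
        Function.Surjective (i.app W.1).hom := by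
      rintro W' rfl hs
      exact hs
    exact h4 _ (Scheme.Opens.ι_image_top W.1) h3
  rw [← Scheme.Hom.app_eq_appLE]
  exact lciH_of_surjective_of_koszul _ hsurj rs hrs hker

/-- Koszul at every point (factorisation form) implies lci in the affine-local form. -/
theorem lciM_of_forall_isKoszulAt {X Y : Scheme.{u}} (f : X ⟶ Y)
    (hf : ∀ x : X, Synt.IsKoszulAt f x) : LciM f := by
  choose U P i π hxU hft hreg hsm hfac using hf
  have hU : iSup U = ⊤ := by
    rw [eq_top_iff]
    rintro x -
    simp only [TopologicalSpace.Opens.mem_iSup]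
    exact ⟨x, hxU x⟩
  rw [IsZariskiLocalAtSource.iff_of_iSup_eq_top (P := LciM) U hU]
  intro x
  rw [← hfac x]
  have := hsm x
  exact lciM_comp (lciM_of_regImm _ (hreg x)) (lciM_of_smooth (π x))

/-- transport of Koszul-regular sequences along ring isomorphisms. -/
theorem kr_map_of_bijective {R R' : Type u} [CommRing R] [CommRing R'] (e : R →+* R')
    (he : Function.Bijective e) (l : List R) (hl : LCI.IsKoszulRegularSeq R l) :
    LCI.IsKoszulRegularSeq R' (l.map e) :=
  Groth.Agent.Lib.Seat40.RegSeqFlat.koszul_of_flat e (RingHom.Flat.of_bijective he) l hl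

/-- the closed immersion defined by a surjection whose kernel is generated by a Koszul-regular
sequence is a Koszul-regular immersion. -/
theorem isRegularImmersion_specMap {R B : CommRingCat.{u}} (ψ : R ⟶ B)
    (hψ : Function.Surjective ψ.hom) (l : List R) (hl : LCI.IsKoszulRegularSeq R l)
    (hker : RingHom.ker ψ.hom = Ideal.ofList l) :
    RegImm.IsRegularImmersion .koszul (Spec.map ψ) := by
  have hcl : IsClosedImmersion (Spec.map ψ) := IsClosedImmersion.spec_of_surjective ψ hψ
  refine ⟨inferInstance, fun z => ?_⟩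
  refine ⟨⟨⊤, isAffineOpen_top _⟩, trivial, inferInstance,
    l.map (Scheme.ΓSpecIso R).inv.hom, ?_, ?_⟩
  · exact kr_map_of_bijective _ (ConcreteCategory.bijective_of_isIso (Scheme.ΓSpecIso R).inv) l hl
  · have hnat := Scheme.ΓSpecIso_inv_naturality ψ
    have hnat' : ∀ y : R, ((Spec.map ψ).appTop).hom ((Scheme.ΓSpecIso R).inv.hom y) =
        (Scheme.ΓSpecIso B).inv.hom (ψ.hom y) := fun y => (congr($(hnat).hom y)).symm
    have hinjB : Function.Injective (Scheme.ΓSpecIso B).inv.hom :=
      (ConcreteCategory.bijective_of_isIso (Scheme.ΓSpecIso B).inv).1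
    have hsurjR : Function.Surjective (Scheme.ΓSpecIso R).inv.hom :=
      (ConcreteCategory.bijective_of_isIso (Scheme.ΓSpecIso R).inv).2
    change RingHom.ker ((Spec.map ψ).appTop).hom = _
    rw [show Ideal.ofList (l.map (Scheme.ΓSpecIso R).inv.hom) =
      (Ideal.ofList l).map (Scheme.ΓSpecIso R).inv.hom from (span_map_list _ l).symm, ← hker]
    ext x
    obtain ⟨y, rfl⟩ := hsurjR x
    rw [RingHom.mem_ker, hnat']
    constructor
    · intro h
      have : ψ.hom y = 0 := hinjB (by rw [h, map_zero])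
      exact Ideal.mem_map_of_mem _ (RingHom.mem_ker.2 this)
    · intro h
      rw [Ideal.mem_map_iff_of_surjective _ hsurjR] at h
      obtain ⟨y', hy', hyy'⟩ := h
      have hinjR : Function.Injective (Scheme.ΓSpecIso R).inv.hom :=
        (ConcreteCategory.bijective_of_isIso (Scheme.ΓSpecIso R).inv).1
      rw [← hinjR hyy', RingHom.mem_ker.1 hy', map_zero]

/-- local standard form of an lci algebra at a prime. -/
theorem exists_std_of_isLCI {A B : Type u} [CommRing A] [CommRing B] [Algebra A B]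
    (h : LCI.IsLCI A B) (q : Ideal B) [q.IsPrime] :
    ∃ (n : ℕ) (α : MvPolynomial (Fin n) A →ₐ[A] B) (g : MvPolynomial (Fin n) A),
      Function.Surjective α ∧ α g ∉ q ∧
      ∃ l : List (Localization.Away g), LCI.IsKoszulRegularSeq (Localization.Away g) l ∧
        RingHom.ker (Localization.awayMap α.toRingHom g) = Ideal.ofList l := by
  obtain ⟨-, n, α, hα, hK⟩ := h
  have hprime : (q.comap α.toRingHom).IsPrime := inferInstance
  have hle : RingHom.ker α.toRingHom ≤ q.comap α.toRingHom := by
    intro x hx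
    rw [Ideal.mem_comap, RingHom.mem_ker.1 hx]
    exact zero_mem _
  obtain ⟨g, hg, l, hl, hspan⟩ := hK ⟨_, hprime⟩ hle
  refine ⟨n, α, g, hα, hg, l, hl, ?_⟩
  rw [Groth.Agent.Lib.Seat31.LciPerf.ker_awayMap, hspan]

theorem locallyOfFiniteType_of_lciM {X Y : Scheme.{u}} (f : X ⟶ Y) (hf : LciM f) :
    LocallyOfFiniteType f := by
  rw [HasRingHomProperty.iff_appLE (P := LciM)] at hf
  rw [HasRingHomProperty.iff_appLE (P := @LocallyOfFiniteType)]
  intro U V e
  have h1 := hf U V e
  letI := (f.appLE U.1 V.1 e).hom.toAlgebra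
  exact (RingHom.finiteType_algebraMap).2 (h1 : LCI.IsLCI _ _).1

theorem mem_basicOpen_iff_notMem_primeIdealOf {X : Scheme.{u}} {U : X.Opens} (hU : IsAffineOpen U)
    (x : X) (hx : x ∈ U) (s : Γ(X, U)) :
    x ∈ X.basicOpen s ↔ s ∉ (hU.primeIdealOf ⟨x, hx⟩).asIdeal := by
  have h1 := hU.fromSpec_primeIdealOf ⟨x, hx⟩
  have h2 := hU.fromSpec_preimage_basicOpen s
  constructor
  · intro h
    have : hU.primeIdealOf ⟨x, hx⟩ ∈ hU.fromSpec ⁻¹ᵁ X.basicOpen s := by
      show hU.fromSpec (hU.primeIdealOf ⟨x, hx⟩) ∈ X.basicOpen s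
      rw [h1]; exact h
    rw [h2] at this
    exact this
  · intro h
    have : hU.primeIdealOf ⟨x, hx⟩ ∈ hU.fromSpec ⁻¹ᵁ X.basicOpen s := by
      rw [h2]; exact h
    have h3 : hU.fromSpec (hU.primeIdealOf ⟨x, hx⟩) ∈ X.basicOpen s := this
    rw [h1] at h3
    exact h3

/-- `LciM` implies Koszul at every point (factorisation form). -/
theorem isKoszulAt_of_lciM {X Y : Scheme.{u}} (f : X ⟶ Y) (hf : LciM f) (x : X) :
    Synt.IsKoszulAt f x := by
  obtain ⟨V, hV, hxV, -⟩ := TopologicalSpace.Opens.isBasis_iff_nbhd.mp Y.isBasis_affineOpens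
    (TopologicalSpace.Opens.mem_top (f x))
  obtain ⟨U, hU, hxU, hUV⟩ := TopologicalSpace.Opens.isBasis_iff_nbhd.mp X.isBasis_affineOpens
    (show x ∈ f ⁻¹ᵁ V from hxV)
  letI algAB : Algebra Γ(Y, V) Γ(X, U) := (f.appLE V U hUV).hom.toAlgebra
  have hlci : LCI.IsLCI Γ(Y, V) Γ(X, U) := (lciM_iff f).1 hf U V hU hV hUV
  obtain ⟨n, α, g, hα, hgq, l, hl, hker⟩ :=
    exists_std_of_isLCI hlci (hU.primeIdealOf ⟨x, hxU⟩).asIdeal
  -- shrink the source
  set s : Γ(X, U) := α g with hs
  have hU' : IsAffineOpen (X.basicOpen s) := hU.basicOpen s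
  have hxU' : x ∈ X.basicOpen s := (mem_basicOpen_iff_notMem_primeIdealOf hU x hxU s).2 hgq
  have hU'U : X.basicOpen s ≤ U := X.basicOpen_le s
  have hU'V : X.basicOpen s ≤ f ⁻¹ᵁ V := hU'U.trans hUV
  haveI hloc : IsLocalization.Away s Γ(X, X.basicOpen s) := hU.isLocalization_basicOpen s
  -- the surjection from the localized polynomial ring
  let e : Localization.Away s ≃ₐ[Γ(X, U)] Γ(X, X.basicOpen s) :=
    IsLocalization.algEquiv (Submonoid.powers s) _ _
  let ψ : Localization.Away g →+* Γ(X, X.basicOpen s) :=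
    (e : Localization.Away s →+* Γ(X, X.basicOpen s)).comp (Localization.awayMap α.toRingHom g)
  have hψsurj : Function.Surjective ψ :=
    e.surjective.comp (Groth.Agent.Lib.Seat31.LciPerf.awayMap_surjective α.toRingHom hα g)
  have hψker : RingHom.ker ψ = Ideal.ofList l := by
    rw [← hker]
    ext z
    simp only [RingHom.mem_ker, ψ, RingHom.comp_apply]
    exact EmbeddingLike.map_eq_zero_iff (f := e)
  have hψcomp : ∀ a : Γ(Y, V), ψ (algebraMap Γ(Y, V) (Localization.Away g) a) =
      (f.appLE V (X.basicOpen s) hU'V).hom a := by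
    intro a
    have h1 : algebraMap Γ(Y, V) (Localization.Away g) a =
        algebraMap (MvPolynomial (Fin n) Γ(Y, V)) (Localization.Away g)
          (algebraMap Γ(Y, V) (MvPolynomial (Fin n) Γ(Y, V)) a) :=
      IsScalarTower.algebraMap_apply _ _ _ a
    have h2 : Localization.awayMap α.toRingHom g
        (algebraMap (MvPolynomial (Fin n) Γ(Y, V)) (Localization.Away g)
          (algebraMap Γ(Y, V) (MvPolynomial (Fin n) Γ(Y, V)) a)) =
        algebraMap Γ(X, U) (Localization.Away s) (α (algebraMap Γ(Y, V) _ a)) :=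
      IsLocalization.map_eq _ _
    have h3 : α (algebraMap Γ(Y, V) (MvPolynomial (Fin n) Γ(Y, V)) a) =
        (f.appLE V U hUV).hom a := α.commutes a
    have h4 : (f.appLE V U hUV ≫ X.presheaf.map (homOfLE hU'U).op) =
        f.appLE V (X.basicOpen s) hU'V := Scheme.Hom.appLE_map _ _ _
    simp only [ψ, RingHom.comp_apply]
    rw [h1, h2, h3]
    have h5 : (e : Localization.Away s →+* Γ(X, X.basicOpen s))
        (algebraMap Γ(X, U) (Localization.Away s) ((f.appLE V U hUV).hom a)) =
        algebraMap Γ(X, U) Γ(X, X.basicOpen s) ((f.appLE V U hUV).hom a) := e.commutes _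
    rw [h5, ← h4]
    rfl
  -- the schemes and morphisms
  let P : Scheme.{u} := Spec (CommRingCat.of (Localization.Away g))
  let i : (X.basicOpen s : Scheme.{u}) ⟶ P :=
    hU'.isoSpec.hom ≫ Spec.map (CommRingCat.ofHom ψ)
  let π : P ⟶ Y :=
    Spec.map (CommRingCat.ofHom (algebraMap Γ(Y, V) (Localization.Away g))) ≫ hV.fromSpec
  refine ⟨X.basicOpen s, P, i, π, hxU', ?_, ?_, ?_, ?_⟩
  · have := locallyOfFiniteType_of_lciM f hf
    infer_instance
  · exact Groth.Agent.Helper13RegImm.isRegularImmersion_iso_comp _ _ _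
      (isRegularImmersion_specMap (CommRingCat.ofHom ψ) hψsurj l hl hψker)
  · have h1 : Smooth (Spec.map (CommRingCat.ofHom
        (algebraMap Γ(Y, V) (Localization.Away g)))) := by
      rw [HasRingHomProperty.Spec_iff (P := @Smooth)]
      show (algebraMap Γ(Y, V) (Localization.Away g)).Smooth
      rw [RingHom.smooth_algebraMap]
      have : Algebra.Smooth (MvPolynomial (Fin n) Γ(Y, V)) (Localization.Away g) :=
        Algebra.Smooth.of_isLocalization_Away g
      have : Algebra.Smooth Γ(Y, V) (MvPolynomial (Fin n) Γ(Y, V)) :=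
        ⟨inferInstance, inferInstance⟩
      exact Algebra.Smooth.comp Γ(Y, V) (MvPolynomial (Fin n) Γ(Y, V)) (Localization.Away g)
    have h2 : IsOpenImmersion hV.fromSpec := hV.isOpenImmersion_fromSpec
    have h3 : Smooth hV.fromSpec := inferInstance
    show Smooth (Spec.map (CommRingCat.ofHom
        (algebraMap Γ(Y, V) (Localization.Away g))) ≫ hV.fromSpec)
    infer_instance
  · have h1 : CommRingCat.ofHom (algebraMap Γ(Y, V) (Localization.Away g)) ≫ CommRingCat.ofHom ψ =
        f.appLE V (X.basicOpen s) hU'V := by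
      ext a
      exact hψcomp a
    show (hU'.isoSpec.hom ≫ Spec.map (CommRingCat.ofHom ψ)) ≫
      (Spec.map (CommRingCat.ofHom (algebraMap Γ(Y, V) (Localization.Away g))) ≫ hV.fromSpec) = _
    rw [Category.assoc, ← Category.assoc (Spec.map (CommRingCat.ofHom ψ)), ← Spec.map_comp, h1,
      IsAffineOpen.SpecMap_appLE_fromSpec f hV hU' hU'V, hU'.isoSpec_hom_fromSpec_assoc]

/-- the factorisation form and the affine-local form of lci morphisms agree. -/
theorem forall_isKoszulAt_iff_lciM {X Y : Scheme.{u}} (f : X ⟶ Y) :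
    (∀ x : X, Synt.IsKoszulAt f x) ↔ LciM f :=
  ⟨lciM_of_forall_isKoszulAt f, isKoszulAt_of_lciM f⟩

end Groth.Agent.Lib.Seat31.LciHom

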