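import Groth.Agent.Lib.Seat31LciBridge
import Groth.Agent.S8658

set_option autoImplicit false
universe u
open CategoryTheory CategoryTheory.Limits AlgebraicGeometry

/-!
# Seat31: lci morphisms: flat base change and étale-local nature

* `lciM_of_isPullback_of_flat`, `lciM_of_comp_etale`, `lciM_of_etale_square`.
-/

namespace Groth.Agent.Lib.Seat31.LciHom

/-- flat base change of lci morphisms (via the factorisation form, S8658). -/
theorem lciM_of_isPullback_of_flat {X Y X' Y' : Scheme.{u}} {f : X ⟶ Y} {g : Y' ⟶ Y} [Flat g]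
    {f' : X' ⟶ Y'} {g' : X' ⟶ X} (hsq : IsPullback g' f' f g) (hf : LciM f) : LciM f' :=
  lciM_of_forall_isKoszulAt f'
    (Groth.Agent.S8658.result f g f' g' hsq (isKoszulAt_of_lciM f hf))

/-- cancellation of an étale morphism on the right. -/
theorem lciM_of_comp_etale {U V V₀ : Scheme.{u}} (h : U ⟶ V) (b : V ⟶ V₀) [Etale b]
    (hc : LciM (h ≫ b)) : LciM h := by
  have hsq : IsPullback (pullback.fst (h ≫ b) b) (pullback.snd (h ≫ b) b) (h ≫ b) b :=
    IsPullback.of_hasPullback _ _
  have h1 : LciM (pullback.snd (h ≫ b) b) := lciM_of_isPullback_of_flat hsq hc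
  let γ : U ⟶ pullback (h ≫ b) b := pullback.lift (𝟙 U) h (by simp)
  have hγ1 : γ ≫ pullback.fst (h ≫ b) b = 𝟙 U := pullback.lift_fst _ _ _
  have hγ2 : γ ≫ pullback.snd (h ≫ b) b = h := pullback.lift_snd _ _ _
  have : Etale (γ ≫ pullback.fst (h ≫ b) b) := by rw [hγ1]; infer_instance
  have : Etale γ := Etale.of_comp γ (pullback.fst (h ≫ b) b)
  rw [← hγ2]
  exact lciM_comp (lciM_of_smooth γ) h1

/-- lci is étale local on the source and target (one direction). -/
theorem lciM_of_etale_square {U X V V₀ : Scheme.{u}} (a : U ⟶ X) (p : X ⟶ V₀) (h : U ⟶ V)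
    (b : V ⟶ V₀) [Etale a] [Etale b] (hsq : a ≫ p = h ≫ b) (hp : LciM p) : LciM h := by
  refine lciM_of_comp_etale h b ?_
  rw [← hsq]
  exact lciM_comp (lciM_of_smooth a) hp

end Groth.Agent.Lib.Seat31.LciHom
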