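import Mathlib
import Groth.Prelude.Def_LCI2

/-!
# Seat31: Koszul-regular ideals are finitely generated; lci ring maps are finitely presented
-/

set_option autoImplicit false

universe u

namespace Groth.Agent.Lib.Seat31.LciFP

/-- a Koszul-regular ideal is finitely generated. -/
theorem fg_of_isKoszulRegularIdeal {P : Type u} [CommRing P] (I : Ideal P)
    (h : LCI.IsKoszulRegularIdeal I) : I.FG := by
  let t : Set P := {g | (I.map (algebraMap P (Localization.Away g))).FG}
  have ht : Ideal.span t = ⊤ := by
    by_contra hne
    obtain ⟨𝔪, h𝔪, hle⟩ := Ideal.exists_le_maximal _ hne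
    by_cases hI : I ≤ 𝔪
    · obtain ⟨g, hg, l, -, hspan⟩ := h ⟨𝔪, h𝔪.isPrime⟩ hI
      apply hg
      refine hle (Ideal.subset_span ?_)
      change (I.map (algebraMap P (Localization.Away g))).FG
      rw [hspan]
      exact Submodule.fg_span (List.finite_toSet l)
    · obtain ⟨g, hgI, hg⟩ := Set.not_subset.1 hI
      apply hg
      refine hle (Ideal.subset_span ?_)
      change (I.map (algebraMap P (Localization.Away g))).FG
      have : I.map (algebraMap P (Localization.Away g)) = ⊤ := by
        apply Ideal.eq_top_of_isUnit_mem _ (Ideal.mem_map_of_mem _ hgI)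
        exact IsLocalization.Away.algebraMap_isUnit g
      rw [this]
      exact ⟨{1}, by simp⟩
  exact Ideal.fg_of_localizationSpan t ht (fun g => g.2)

/-- a local complete intersection ring map is of finite presentation. -/
theorem finitePresentation_of_isLCI {A B : Type u} [CommRing A] [CommRing B] [Algebra A B]
    (h : LCI.IsLCI A B) : Algebra.FinitePresentation A B := by
  obtain ⟨-, n, f, hf, hK⟩ := h
  exact Algebra.FinitePresentation.of_surjective hf (fg_of_isKoszulRegularIdeal _ hK)

end Groth.Agent.Lib.Seat31.LciFP
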