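import Groth.Agent.Lib.Seat31NLBC

/-!
# Seat31: the naive cotangent complex of a cocartesian square, presentations on the same variables
-/

set_option autoImplicit false

universe u

open CategoryTheory CategoryTheory.Limits TensorProduct

namespace Groth.Agent.Lib.Seat31.NLPush

open Algebra Algebra.Extension

variable {R S : Type u} [CommRing R] [CommRing S] [Algebra R S]
variable {R' S' : Type u} [CommRing R'] [CommRing S'] [Algebra R' S'] [Algebra R R'] [Algebra S S']
  [Algebra R S'] [IsScalarTower R R' S'] [IsScalarTower R S S'] [Algebra.IsPushout R R' S S']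
  {ι : Type u} (G : Algebra.Generators R S ι) (G' : Algebra.Generators R' S' ι)
  (h : ∀ i, G'.val i = algebraMap S S' (G.val i))

/-- the presentation of `S` with all elements of the kernel as relations. -/
noncomputable def fullPresentation : Algebra.Presentation R S ι G.ker where
  toGenerators := G
  relation x := x.1
  span_range_relation_eq_ker := by
    have : Set.range (fun x : G.ker => (x.1 : G.Ring)) = (G.ker : Set G.Ring) := by
      ext y; simp
    rw [this, Ideal.span_eq]

include h in
/-- For a cocartesian square, the kernel of the presentation of `S'` over `R'` on the same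
variables is generated by the image of the kernel of the presentation of `S` over `R`. -/
theorem ker_eq_map :
    RingHom.ker (MvPolynomial.aeval G'.val : MvPolynomial ι R' →ₐ[R'] S') =
      Ideal.map (MvPolynomial.map (algebraMap R R'))
        (RingHom.ker (MvPolynomial.aeval G.val : MvPolynomial ι R →ₐ[R] S)) := by
  have H := (fullPresentation G).span_range_relation_eq_ker_baseChange R'
  let e : R' ⊗[R] S ≃ₐ[R'] S' := Algebra.IsPushout.equiv R R' S S'
  have hcomp : (MvPolynomial.aeval G'.val : MvPolynomial ι R' →ₐ[R'] S') =
      e.toAlgHom.comp (MvPolynomial.aeval ((fullPresentation G).baseChange R').val) := by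
    apply MvPolynomial.algHom_ext
    intro i
    simp only [AlgHom.coe_comp, Function.comp_apply, MvPolynomial.aeval_X]
    change _ = e (1 ⊗ₜ G.val i)
    rw [h i]
    simp [e, Algebra.IsPushout.equiv_tmul]
  have hker : RingHom.ker (MvPolynomial.aeval G'.val : MvPolynomial ι R' →ₐ[R'] S') =
      RingHom.ker (MvPolynomial.aeval (S₁ := R' ⊗[R] S) ((fullPresentation G).baseChange R').val) := by
    ext y
    rw [RingHom.mem_ker, RingHom.mem_ker, hcomp]
    simp only [AlgHom.coe_comp, Function.comp_apply]
    exact EmbeddingLike.map_eq_zero_iff (f := e)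
  rw [hker]
  change RingHom.ker (MvPolynomial.aeval
    (Generators.baseChange R' (fullPresentation G).toGenerators).val) = _
  rw [← H, Ideal.map, ← G.ker_eq_ker_aeval_val]
  congr 1
  ext y
  simp [fullPresentation]

end Groth.Agent.Lib.Seat31.NLPush

namespace Groth.Agent.Lib.Seat31.NLPush

open Algebra Algebra.Extension

section

variable {R S : Type u} [CommRing R] [CommRing S] [Algebra R S]
variable {R' S' : Type u} [CommRing R'] [CommRing S'] [Algebra R' S'] [Algebra R R'] [Algebra S S']
  [Algebra R S'] [IsScalarTower R R' S'] [IsScalarTower R S S']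
  {ι : Type u} (G : Algebra.Generators R S ι) (G' : Algebra.Generators R' S' ι)
  (h : ∀ i, G'.val i = algebraMap S S' (G.val i))

lemma sameVarsHom_toRingHom (x : MvPolynomial ι R) :
    (NLCx.sameVarsHom G G' h).toExtensionHom.toRingHom x =
      MvPolynomial.map (algebraMap R R') x := by
  change (MvPolynomial.aeval (fun i => (MvPolynomial.X i : MvPolynomial ι R'))) x = _
  induction x using MvPolynomial.induction_on with
  | C a => simp
  | add p q hp hq => simp [hp, hq]
  | mul_X p i hp => simp [hp]

variable [Algebra.IsPushout R R' S S']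

/-- For a cocartesian square and presentations on the same variables, `S' ⊗_S I/I² → I'/I'²` is
surjective. -/
theorem liftBaseChange_cotangent_map_surjective :
    Function.Surjective (LinearMap.liftBaseChange S'
      (Cotangent.map (NLCx.sameVarsHom G G' h).toExtensionHom)) := by
  set f := (NLCx.sameVarsHom G G' h).toExtensionHom with hf
  set L := LinearMap.liftBaseChange S' (Cotangent.map f) with hL
  have hker : G'.toExtension.ker = Ideal.map f.toRingHom G.toExtension.ker := by
    have h1 := ker_eq_map G G' h
    rw [← G.ker_eq_ker_aeval_val, ← G'.ker_eq_ker_aeval_val] at h1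
    refine h1.trans ?_
    have : (MvPolynomial.map (algebraMap R R') : MvPolynomial ι R →+* MvPolynomial ι R') =
        f.toRingHom := by
      apply RingHom.ext
      intro x
      exact (sameVarsHom_toRingHom G G' h x).symm
    rw [this]
    rfl
  -- every class of an element of `map f ker` lies in the range of `L`
  have key : ∀ y' ∈ Ideal.map f.toRingHom G.toExtension.ker,
      ∀ hy' : y' ∈ G'.toExtension.ker, Cotangent.mk ⟨y', hy'⟩ ∈ LinearMap.range L := by
    intro y' hy
    refine Submodule.span_induction (p := fun y' _ => ∀ hy' : y' ∈ G'.toExtension.ker,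
      Cotangent.mk ⟨y', hy'⟩ ∈ LinearMap.range L) ?_ ?_ ?_ ?_ hy
    · rintro _ ⟨y, hy, rfl⟩ hy'
      refine ⟨1 ⊗ₜ Cotangent.mk ⟨y, hy⟩, ?_⟩
      simp only [hL, LinearMap.liftBaseChange_tmul, one_smul, Cotangent.map_mk]
      rfl
    · intro hy'
      have : (⟨0, hy'⟩ : G'.toExtension.ker) = 0 := rfl
      rw [this, map_zero]
      exact zero_mem _
    · intro a b ha hb iha ihb hab
      have ha' : a ∈ G'.toExtension.ker := hker ▸ ha
      have hb' : b ∈ G'.toExtension.ker := hker ▸ hb
      have : (⟨a + b, hab⟩ : G'.toExtension.ker) = ⟨a, ha'⟩ + ⟨b, hb'⟩ := rfl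
      rw [this, map_add]
      exact add_mem (iha ha') (ihb hb')
    · intro c a ha iha hca
      have ha' : a ∈ G'.toExtension.ker := hker ▸ ha
      have : (⟨c • a, hca⟩ : G'.toExtension.ker) = c • ⟨a, ha'⟩ := rfl
      rw [this, map_smul, ← algebraMap_smul S' c]
      exact Submodule.smul_mem _ _ (iha ha')
  intro x'
  obtain ⟨⟨y', hy'⟩, rfl⟩ := Cotangent.mk_surjective x'
  exact key y' (hker ▸ hy') hy'

/-- For a cocartesian square and presentations on the same variables, the map on `H^{-1}` is
surjective. -/
theorem bcH1Map_sameVarsHom_surjective :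
    Function.Surjective (NLCx.bcH1Map (S' := S') (NLCx.sameVarsHom G G' h).toExtensionHom) :=
  NLBC.bcH1Map_surjective_of _ (liftBaseChange_cotangent_map_surjective G G' h)
    (NLGen.liftBaseChange_cotangentSpace_map_bijective G G' h).1

end

end Groth.Agent.Lib.Seat31.NLPush

namespace Groth.Agent.Lib.Seat31.NLPush

open Algebra Algebra.Extension

section AnyPresentation

variable {R S : Type u} [CommRing R] [CommRing S] [Algebra R S]
variable {R' S' : Type u} [CommRing R'] [CommRing S'] [Algebra R' S'] [Algebra R R'] [Algebra S S']
  [Algebra R S'] [IsScalarTower R R' S'] [IsScalarTower R S S'] [Algebra.IsPushout R R' S S']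
  {ι ι' : Type u} (G : Algebra.Generators R S ι) (G' : Algebra.Generators R' S' ι')

/-- the base-changed presentation on the same variables, for an abstract pushout. -/
noncomputable def bcGenerators : Algebra.Generators R' S' ι :=
  (G.baseChange R').ofAlgEquiv (Algebra.IsPushout.equiv R R' S S')

lemma bcGenerators_val (i : ι) :
    (bcGenerators (R' := R') (S' := S') G).val i = algebraMap S S' (G.val i) := by
  simp [bcGenerators, Generators.ofAlgEquiv, Algebra.IsPushout.equiv_tmul]

/-- For a cocartesian square and ANY polynomial presentations of `S/R` and `S'/R'` and any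
morphism between them, the map `H^{-1}(NL(G) ⊗_S S') → H^{-1}(NL(G'))` is surjective. -/
theorem bcH1Map_surjective (f : G.toExtension.Hom G'.toExtension) :
    Function.Surjective (NLCx.bcH1Map (S' := S') f) := by
  let G₁ : Algebra.Generators R' S' ι := bcGenerators G
  have h₁ : ∀ i, G₁.val i = algebraMap S S' (G.val i) := bcGenerators_val G
  let f₀ := (NLCx.sameVarsHom G G₁ h₁).toExtensionHom
  let a : G₁.toExtension.Hom G'.toExtension := (G₁.defaultHom G').toExtensionHom
  let b : G'.toExtension.Hom G₁.toExtension := (G'.defaultHom G₁).toExtensionHom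
  have e1 : NLCx.bcH1Map (S' := S') f = NLCx.bcH1Map (S' := S') (a.comp f₀) :=
    NLBC.bcH1Map_eq _ _
  have e2 : ∀ x, NLCx.bcH1Map (S' := S') (a.comp f₀) x =
      Extension.H1Cotangent.map a (NLCx.bcH1Map f₀ x) := NLBC.bcH1Map_comp f₀ a
  intro z
  obtain ⟨w, hw⟩ := (Extension.H1Cotangent.equiv a b).surjective z
  obtain ⟨x, hx⟩ := bcH1Map_sameVarsHom_surjective G G₁ h₁ w
  refine ⟨x, ?_⟩
  rw [e1, e2, hx]
  exact hw

end AnyPresentation

end Groth.Agent.Lib.Seat31.NLPush
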