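import Groth.Agent.Lib.Seat31NLBCSrc
import Groth.Agent.Lib.Seat31NLPush
import Groth.Agent.Lib.Seat31CotRetract
import Groth.Agent.Lib.Seat31LciNL

/-!
# Seat31: the kernel of `H^{-1}(NL_{B/A} ⊗ B') → H^{-1}(NL_{B'/A'})` for lci maps
-/

set_option autoImplicit false
set_option linter.unusedSectionVars false

universe u

open CategoryTheory CategoryTheory.Limits TensorProduct

namespace Groth.Agent.Lib.Seat31.LciKer

open Algebra Algebra.Extension

/-- the kernel of a surjection from a finite projective module onto a projective module is
finite projective. -/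
lemma finite_projective_ker_of_surjective {R M N : Type*} [CommRing R] [AddCommGroup M]
    [Module R M] [AddCommGroup N] [Module R N] (L : M →ₗ[R] N) (hL : Function.Surjective L)
    [Module.Projective R N] [Module.Finite R M] [Module.Projective R M] :
    Module.Finite R (LinearMap.ker L) ∧ Module.Projective R (LinearMap.ker L) := by
  obtain ⟨σ, hσ⟩ := Module.projective_lifting_property L LinearMap.id hL
  let ρ : M →ₗ[R] LinearMap.ker L :=
    (LinearMap.id - σ ∘ₗ L).codRestrict (LinearMap.ker L) (fun m => by
      rw [LinearMap.mem_ker, LinearMap.sub_apply, map_sub, LinearMap.id_apply,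
        LinearMap.comp_apply]
      have := congr($hσ (L m))
      simp only [LinearMap.comp_apply, LinearMap.id_apply] at this
      rw [this, sub_self])
  have hρ : ρ ∘ₗ (LinearMap.ker L).subtype = LinearMap.id := by
    apply LinearMap.ext
    intro x
    apply Subtype.ext
    have hx : L x.1 = 0 := x.2
    simp [ρ, hx]
  have hsurj : Function.Surjective ρ := fun x => ⟨x.1, congr($hρ x)⟩
  exact ⟨Module.Finite.of_surjective ρ hsurj,
    Module.Projective.of_split (LinearMap.ker L).subtype ρ hρ⟩

section SameVars

variable {R S : Type u} [CommRing R] [CommRing S] [Algebra R S]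
variable {R' S' : Type u} [CommRing R'] [CommRing S'] [Algebra R' S'] [Algebra R R'] [Algebra S S']
  [Algebra R S'] [IsScalarTower R R' S'] [IsScalarTower R S S'] [Algebra.IsPushout R R' S S']
  {ι : Type u} (G : Algebra.Generators R S ι) (G' : Algebra.Generators R' S' ι)
  (h : ∀ i, G'.val i = algebraMap S S' (G.val i))

/-- for presentations on the same variables, the kernel of `bcH1Map` is the kernel of
`S' ⊗ I/I² → I'/I'²`. -/
theorem ker_bcH1Map_bijective :
    ∃ φ : LinearMap.ker (NLCx.bcH1Map (S' := S') (NLCx.sameVarsHom G G' h).toExtensionHom) →ₗ[S']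
      LinearMap.ker (LinearMap.liftBaseChange S'
        (Cotangent.map (NLCx.sameVarsHom G G' h).toExtensionHom)), Function.Bijective φ := by
  set f := (NLCx.sameVarsHom G G' h).toExtensionHom with hf
  let φ : LinearMap.ker (NLCx.bcH1Map (S' := S') f) →ₗ[S']
      LinearMap.ker (LinearMap.liftBaseChange S' (Cotangent.map f)) :=
    ((NLCx.bcH1 G.toExtension S').subtype ∘ₗ (LinearMap.ker (NLCx.bcH1Map (S' := S') f)).subtype).codRestrict
      _ (fun x => by
        rw [LinearMap.mem_ker]
        have hx : NLCx.bcH1Map (S' := S') f x.1 = 0 := x.2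
        have := congrArg Subtype.val hx
        rw [NLBC.bcH1Map_coe] at this
        exact this)
  refine ⟨φ, ?_, ?_⟩
  · intro x y hxy
    apply Subtype.ext
    apply Subtype.ext
    exact congrArg (fun z : LinearMap.ker (LinearMap.liftBaseChange S' (Cotangent.map f)) =>
      (z : S' ⊗[S] G.toExtension.Cotangent)) hxy
  · intro t
    have ht : LinearMap.liftBaseChange S' (Cotangent.map f) t.1 = 0 := t.2
    have hmem : t.1 ∈ NLCx.bcH1 G.toExtension S' := by
      rw [NLCx.bcH1, LinearMap.mem_ker]
      apply (NLGen.liftBaseChange_cotangentSpace_map_bijective G G' h).1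
      have key := congr($(NLBC.cotangentComplex_comp_liftBaseChange (S' := S') f) t.1)
      simp only [LinearMap.coe_comp, Function.comp_apply, ht, map_zero] at key
      rw [map_zero]
      exact key.symm
    have hker : (⟨t.1, hmem⟩ : NLCx.bcH1 G.toExtension S') ∈
        LinearMap.ker (NLCx.bcH1Map (S' := S') f) := by
      rw [LinearMap.mem_ker]
      apply Extension.h1Cotangentι_ext
      rw [NLBC.bcH1Map_coe]
      exact ht
    exact ⟨⟨⟨t.1, hmem⟩, hker⟩, Subtype.ext rfl⟩

/-- for presentations on the same variables with finite projective conormal modules, the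
kernel of `bcH1Map` is finite projective. -/
theorem finite_projective_ker_bcH1Map_sameVars
    [Module.Finite S G.toExtension.Cotangent] [Module.Projective S G.toExtension.Cotangent]
    [Module.Projective S' G'.toExtension.Cotangent] :
    Module.Finite S' (LinearMap.ker
        (NLCx.bcH1Map (S' := S') (NLCx.sameVarsHom G G' h).toExtensionHom)) ∧
      Module.Projective S' (LinearMap.ker
        (NLCx.bcH1Map (S' := S') (NLCx.sameVarsHom G G' h).toExtensionHom)) := by
  obtain ⟨φ, hφ⟩ := ker_bcH1Map_bijective G G' h
  obtain ⟨h1, h2⟩ := finite_projective_ker_of_surjective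
    (LinearMap.liftBaseChange S' (Cotangent.map (NLCx.sameVarsHom G G' h).toExtensionHom))
    (NLPush.liftBaseChange_cotangent_map_surjective G G' h)
  let e := LinearEquiv.ofBijective φ hφ
  exact ⟨Module.Finite.equiv e.symm, Module.Projective.of_equiv e.symm⟩

end SameVars


section ULiftGens

variable {A B : Type u} [CommRing A] [CommRing B] [Algebra A B]

/-- the presentation attached to a surjection from a polynomial ring, with variables indexed by
`ULift (Fin n)`. -/
noncomputable def gensOfU {n : ℕ} (f : MvPolynomial (Fin n) A →ₐ[A] B)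
    (hf : Function.Surjective f) : Generators A B (ULift.{u} (Fin n)) :=
  Generators.ofSurjective (fun i => f (MvPolynomial.X i.down)) (by
    intro b
    obtain ⟨p, rfl⟩ := hf b
    refine ⟨MvPolynomial.rename ULift.up p, ?_⟩
    rw [MvPolynomial.aeval_rename]
    have : (fun i : ULift.{u} (Fin n) => f (MvPolynomial.X i.down)) ∘ ULift.up =
        fun i => f (MvPolynomial.X i) := rfl
    rw [this]
    exact (congr($(MvPolynomial.aeval_unique f) p)).symm)

/-- a finite presentation on `ULift (Fin n)` variables with finite projective conormal module,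
for an lci ring map. -/
theorem exists_generators_of_isLCI (h : LCI.IsLCI A B) :
    ∃ (n : ℕ) (G : Generators A B (ULift.{u} (Fin n))),
      Module.Finite B G.toExtension.Cotangent ∧ Module.Projective B G.toExtension.Cotangent := by
  obtain ⟨-, n, f, hf, hK⟩ := h
  have hK' : LCI.IsKoszulRegularIdeal (LciNL.gensOf f hf).toExtension.ker := by
    rw [LciNL.gensOf_ker]
    exact hK
  obtain ⟨h1, h2⟩ := KoszulCot.finite_projective_cotangent (LciNL.gensOf f hf).toExtension hK'
  refine ⟨n, gensOfU f hf, ?_⟩
  have hfree : Module.Free B (gensOfU f hf).toExtension.CotangentSpace :=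
    Module.Free.of_basis (gensOfU f hf).cotangentSpaceBasis
  have hfin : Module.Finite B (gensOfU f hf).toExtension.CotangentSpace :=
    Module.Finite.of_basis (gensOfU f hf).cotangentSpaceBasis
  exact CotRetract.finite_projective_cotangent_of_homs
    ((gensOfU f hf).defaultHom (LciNL.gensOf f hf)).toExtensionHom
    ((LciNL.gensOf f hf).defaultHom (gensOfU f hf)).toExtensionHom

/-- finite projectivity of the conormal module passes to any finite presentation. -/
theorem finite_projective_cotangent_of_isLCI (h : LCI.IsLCI A B) {ι : Type u} [Finite ι]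
    (G' : Generators A B ι) :
    Module.Finite B G'.toExtension.Cotangent ∧ Module.Projective B G'.toExtension.Cotangent := by
  obtain ⟨n, G, h1, h2⟩ := exists_generators_of_isLCI h
  have hfree : Module.Free B G'.toExtension.CotangentSpace :=
    Module.Free.of_basis G'.cotangentSpaceBasis
  have hfin : Module.Finite B G'.toExtension.CotangentSpace :=
    Module.Finite.of_basis G'.cotangentSpaceBasis
  exact CotRetract.finite_projective_cotangent_of_homs
    (G'.defaultHom G).toExtensionHom (G.defaultHom G').toExtensionHom

end ULiftGens

section Main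

variable (A B A' B' : Type u) [CommRing A] [CommRing B]
  [CommRing A'] [CommRing B'] [Algebra A B] [Algebra A' B'] [Algebra A A'] [Algebra B B']
  [Algebra A B'] [IsScalarTower A A' B'] [IsScalarTower A B B'] [Algebra.IsPushout A A' B B']

/-- **S7223.** -/
theorem finite_projective_ker_bcH1Map_self (hB : LCI.IsLCI A B) (hB' : LCI.IsLCI A' B') :
    Module.Finite B' (LinearMap.ker (NLCx.bcH1Map
        ((Algebra.Generators.self A B).defaultHom (Algebra.Generators.self A' B')).toExtensionHom)) ∧
      Module.Projective B' (LinearMap.ker (NLCx.bcH1Map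
        ((Algebra.Generators.self A B).defaultHom (Algebra.Generators.self A' B')).toExtensionHom)) := by
  obtain ⟨n, G, h1, h2⟩ := exists_generators_of_isLCI hB
  let G' : Generators A' B' (ULift.{u} (Fin n)) := NLPush.bcGenerators G
  have hG' : ∀ i, G'.val i = algebraMap B B' (G.val i) := NLPush.bcGenerators_val G
  obtain ⟨h1', h2'⟩ := finite_projective_cotangent_of_isLCI hB' G'
  obtain ⟨h3, h4⟩ := finite_projective_ker_bcH1Map_sameVars G G' hG'
  let e := NLBCSrc.kerEquiv (S' := B')
    ((Generators.self A B).defaultHom G).toExtensionHom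
    (G.defaultHom (Generators.self A B)).toExtensionHom
    ((Generators.self A' B').defaultHom G').toExtensionHom
    (G'.defaultHom (Generators.self A' B')).toExtensionHom
    ((Generators.self A B).defaultHom (Generators.self A' B')).toExtensionHom
    (NLCx.sameVarsHom G G' hG').toExtensionHom
  exact ⟨Module.Finite.equiv e.symm, Module.Projective.of_equiv e.symm⟩

end Main

end Groth.Agent.Lib.Seat31.LciKer
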