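import Groth.Agent.Lib.Seat31LciHom

/-!
# Seat31: lci ring maps form a local property; lci morphisms of schemes

* `LciH f`: the ring map `f` is a local complete intersection (`LCI.IsLCI` for `f.toAlgebra`);
* `lciH_comp`, `lciH_holdsForLocalizationAway`, `lciH_localizationAwayPreserves`,
  `lciH_ofLocalizationSpanTarget`, `lciH_isLocal : RingHom.PropertyIsLocal @LciH`;
* `LciM := affineLocally @LciH` with its `HasRingHomProperty` instance, `lciM_iff`.
-/

set_option autoImplicit false
universe u
open CategoryTheory CategoryTheory.Limits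

namespace Groth.Agent.Lib.Seat31.LciHom

open Groth.Agent.Lib.Seat31.KR

/-- local complete intersection ring homomorphisms. -/
def LciH {R S : Type u} [CommRing R] [CommRing S] (f : R →+* S) : Prop :=
  @LCI.IsLCI R _ S _ f.toAlgebra

variable {R S T : Type u} [CommRing R] [CommRing S] [CommRing T]

theorem lciH_algebraMap_iff [Algebra R S] : LciH (algebraMap R S) ↔ LCI.IsLCI R S := by
  unfold LciH
  have : (algebraMap R S).toAlgebra = ‹Algebra R S› := Algebra.algebra_ext _ _ (fun _ => rfl)
  rw [this]

theorem lciH_comp {f : R →+* S} {g : S →+* T} (hf : LciH f) (hg : LciH g) :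
    LciH (g.comp f) := by
  letI := f.toAlgebra
  letI := g.toAlgebra
  letI := (g.comp f).toAlgebra
  haveI : IsScalarTower R S T := IsScalarTower.of_algebraMap_eq (fun _ => rfl)
  exact isLCI_comp (A := R) (B := S) (C := T) hf hg

theorem lciH_stableUnderComposition : RingHom.StableUnderComposition @LciH := by
  introv R hf hg
  exact lciH_comp hf hg

theorem lciH_holdsForLocalizationAway : RingHom.HoldsForLocalizationAway @LciH := by
  introv R _
  rw [lciH_algebraMap_iff]
  exact isLCI_of_algEquiv (IsLocalization.algEquiv (Submonoid.powers r) (Localization.Away r) S)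
    (isLCI_away isLCI_self r)

theorem lciH_ofLocalizationFiniteSpanTarget : RingHom.OfLocalizationFiniteSpanTarget @LciH := by
  introv R hs H
  letI := f.toAlgebra
  have hf : f = algebraMap R S := rfl
  rw [hf, lciH_algebraMap_iff]
  let g : Fin s.card → S := fun j => (s.equivFin.symm j : S)
  have hrange : Set.range g = (s : Set S) := by
    ext x
    constructor
    · rintro ⟨j, rfl⟩
      exact (s.equivFin.symm j).2
    · intro hx
      exact ⟨s.equivFin ⟨x, hx⟩, by simp [g]⟩
  refine isLCI_of_localizations s.card g (by rw [hrange]; exact hs) (fun j => ?_)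
  have := H ⟨g j, (s.equivFin.symm j).2⟩
  have h2 : (algebraMap S (Localization.Away (g j))).comp f =
      algebraMap R (Localization.Away (g j)) := by
    rw [hf, ← IsScalarTower.algebraMap_eq]
  rw [h2, lciH_algebraMap_iff] at this
  exact this

theorem lciH_ofLocalizationSpanTarget : RingHom.OfLocalizationSpanTarget @LciH :=
  (RingHom.ofLocalizationSpanTarget_iff_finite _).2 lciH_ofLocalizationFiniteSpanTarget


attribute [local instance] MvPolynomial.algebraMvPolynomial in
theorem lciH_localizationAwayPreserves : RingHom.LocalizationAwayPreserves @LciH := by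
  intro R S _ _ f r R' S' _ _ _ _ _ _ hf
  letI := f.toAlgebra
  obtain ⟨-, n, α, hα, hI⟩ := hf
  letI : Algebra R' S' := (IsLocalization.Away.map R' S' f r).toAlgebra
  show LCI.IsLCI R' S'
  set M : Submonoid (MvPolynomial (Fin n) R) :=
    (Submonoid.powers r).map (MvPolynomial.C : R →+* MvPolynomial (Fin n) R) with hMdef
  have hαC : ∀ a : R, α.toRingHom (MvPolynomial.C a) = f a := fun a => α.commutes a
  have hM : M.map α.toRingHom = Submonoid.powers (f r) := by
    rw [hMdef, Submonoid.map_powers, Submonoid.map_powers, hαC]
  haveI : IsLocalization (M.map α.toRingHom) S' := by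
    rw [hM]
    infer_instance
  haveI : IsLocalization M (MvPolynomial (Fin n) R') :=
    MvPolynomial.isLocalization (Submonoid.powers r) R'
  let γ₀ : MvPolynomial (Fin n) R' →+* S' := IsLocalization.map S' α.toRingHom M.le_comap_map
  have hγ₀surj : Function.Surjective γ₀ :=
    IsLocalization.map_surjective_of_surjective M (MvPolynomial (Fin n) R') S' hα
  have hγ₀ker : RingHom.ker γ₀ = (RingHom.ker α.toRingHom).map
      (algebraMap (MvPolynomial (Fin n) R) (MvPolynomial (Fin n) R')) :=
    IsLocalization.ker_map S' α.toRingHom rfl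
  have hcomm : ∀ a' : R', γ₀ (algebraMap R' (MvPolynomial (Fin n) R') a') = algebraMap R' S' a' := by
    have h1 : (γ₀.comp (MvPolynomial.C : R' →+* MvPolynomial (Fin n) R')) =
        IsLocalization.Away.map R' S' f r := by
      apply IsLocalization.ringHom_ext (Submonoid.powers r)
      ext a
      have h2 : (MvPolynomial.C (algebraMap R R' a) : MvPolynomial (Fin n) R') =
          algebraMap (MvPolynomial (Fin n) R) (MvPolynomial (Fin n) R') (MvPolynomial.C a) := by
        rw [MvPolynomial.algebraMap_def, MvPolynomial.map_C]
      have h3 : γ₀ (algebraMap (MvPolynomial (Fin n) R) (MvPolynomial (Fin n) R')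
          (MvPolynomial.C a)) = algebraMap S S' (α.toRingHom (MvPolynomial.C a)) :=
        IsLocalization.map_eq _ _
      have h4 : IsLocalization.Away.map R' S' f r (algebraMap R R' a) = algebraMap S S' (f a) :=
        IsLocalization.map_eq _ _
      simp only [RingHom.comp_apply]
      rw [h2, h3, hαC, h4]
    intro a'
    exact congr($h1 a')
  let γ : MvPolynomial (Fin n) R' →ₐ[R'] S' := { γ₀ with commutes' := hcomm }
  refine ⟨Algebra.FiniteType.of_surjective γ hγ₀surj, n, γ, hγ₀surj, ?_⟩
  show LCI.IsKoszulRegularIdeal (RingHom.ker γ₀)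
  rw [hγ₀ker]
  refine isKoszulRegularIdeal_map_of_flat _ ?_ _ hI
  rw [RingHom.flat_algebraMap_iff]
  exact IsLocalization.flat _ M

theorem lciH_isLocal : RingHom.PropertyIsLocal @LciH :=
  ⟨lciH_localizationAwayPreserves, lciH_ofLocalizationSpanTarget,
    lciH_ofLocalizationSpanTarget.ofLocalizationSpan
      (lciH_stableUnderComposition.stableUnderCompositionWithLocalizationAway
        lciH_holdsForLocalizationAway).left,
    (lciH_stableUnderComposition.stableUnderCompositionWithLocalizationAway
      lciH_holdsForLocalizationAway).right⟩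


section Scheme

open AlgebraicGeometry

/-- local complete intersection morphisms of schemes (affine-locally lci ring maps). -/
def LciM : MorphismProperty Scheme.{u} := affineLocally @LciH

instance : HasRingHomProperty LciM @LciH where
  isLocal_ringHomProperty := lciH_isLocal
  eq_affineLocally' := rfl

instance : LciM.IsStableUnderComposition :=
  HasRingHomProperty.stableUnderComposition lciH_stableUnderComposition

theorem lciM_iff {X Y : Scheme.{u}} (f : X ⟶ Y) :
    LciM f ↔ ∀ (U : X.Opens) (V : Y.Opens) (_ : IsAffineOpen U) (_ : IsAffineOpen V)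
      (hUV : U ≤ f ⁻¹ᵁ V),
        letI := (f.appLE V U hUV).hom.toAlgebra
        LCI.IsLCI Γ(Y, V) Γ(X, U) := by
  rw [HasRingHomProperty.iff_appLE (P := LciM)]
  constructor
  · intro h U V hU hV e
    exact h ⟨V, hV⟩ ⟨U, hU⟩ e
  · intro h U V e
    exact h V.1 U.1 V.2 U.2 e

end Scheme

end Groth.Agent.Lib.Seat31.LciHom
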