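import Groth.Agent.Lib.Seat31LciBridge
import Groth.Agent.Lib.Helper5RegImm2
import Groth.Agent.Lib.Helper4RectDepthB

/-!
# Seat31: finite type ring maps between regular rings are lci

* `lciH_of_isRegularRing`: a finite type ring map between regular rings is lci;
* `lciM_of_regular`: a morphism locally of finite type between regular schemes is lci.
-/

set_option autoImplicit false
universe u
open CategoryTheory CategoryTheory.Limits AlgebraicGeometry

namespace Groth.Agent.Lib.Seat31.LciHom

/-- a surjection between regular rings is lci. -/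
theorem lciH_of_surjective_of_isRegularRing {P B : Type u} [CommRing P] [CommRing B]
    [IsRegularRing P] [IsRegularRing B] (α : P →+* B) (hα : Function.Surjective α) : LciH α := by
  have hcl : IsClosedImmersion (Spec.map (CommRingCat.ofHom α)) :=
    IsClosedImmersion.spec_of_surjective (CommRingCat.ofHom α) hα
  have hreg : RegImm.IsRegularImmersion .regular (Spec.map (CommRingCat.ofHom α)) :=
    Groth.Agent.Lib.Helper5.RegImm.isRegularImmersion_of_regular _
      (fun x => (Groth.Agent.Lib.Helper4.RectDepth.stalk_spec_facts P x).1)
      (fun z => (Groth.Agent.Lib.Helper4.RectDepth.stalk_spec_facts B z).1)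
  have hk := Groth.Agent.Helper13RegImm.isRegularImmersion_koszul_of_kind _ .regular
    (Or.inl rfl) hreg
  have := lciM_of_regImm _ hk
  rwa [HasRingHomProperty.Spec_iff (P := LciM)] at this

/-- a finite type ring map between regular rings is lci. -/
theorem lciH_of_isRegularRing {A B : Type u} [CommRing A] [CommRing B]
    [IsRegularRing A] [IsRegularRing B] (φ : A →+* B) (hφ : φ.FiniteType) : LciH φ := by
  algebraize [φ]
  obtain ⟨n, α, hα⟩ := Algebra.FiniteType.iff_quotient_mvPolynomial''.1
    (show Algebra.FiniteType A B from hφ)
  have h1 : LciH (algebraMap A (MvPolynomial (Fin n) A)) :=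
    lciH_algebraMap_iff.2 (isLCI_mvPolynomial A n)
  have h2 : LciH α.toRingHom := lciH_of_surjective_of_isRegularRing α.toRingHom hα
  have h3 : α.toRingHom.comp (algebraMap A (MvPolynomial (Fin n) A)) = φ := by
    ext a
    exact α.commutes a
  rw [← h3]
  exact lciH_comp h1 h2

/-- a morphism locally of finite type between regular schemes is lci. -/
theorem lciM_of_regular {X Y : Scheme.{u}} (f : X ⟶ Y) [LocallyOfFiniteType f]
    [IsLocallyNoetherian X] [IsLocallyNoetherian Y]
    (hX : ∀ x : X, IsRegularLocalRing ↑(X.presheaf.stalk x))
    (hY : ∀ y : Y, IsRegularLocalRing ↑(Y.presheaf.stalk y)) : LciM f := by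
  rw [HasRingHomProperty.iff_appLE (P := LciM)]
  intro V U e
  haveI := Groth.Agent.Lib.Helper4.RectDepth.isRegularRing_sections hX U.2
  haveI := Groth.Agent.Lib.Helper4.RectDepth.isRegularRing_sections hY V.2
  exact lciH_of_isRegularRing _ (f.finiteType_appLE V.2 U.2 e)

end Groth.Agent.Lib.Seat31.LciHom
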