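import Mathlib
import Groth.Prelude.Def_RegImm
import Groth.Agent.Lib.Seat31LciLocal

/-!
# Sections of étale-coordinatised algebras and Koszul-regular ideals (Seat 40)

* `exists_idem`: if `P → B` is unramified and `P → B ⧸ I` is surjective, then `I` agrees with the
  extension of its contraction near `V(I)`;
* `krIdeal_map_of_flat`: flat base change of Koszul-regular ideals;
* `krIdeal_of_comap`: going up along a flat unramified map;
* `krIdeal_ker_of_base`: if `B` has étale coordinates `R₁[X₁..Xₙ] → B` and `ker (R₁ → C)` is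
  Koszul-regular then so is `ker (B → C)`.
-/

set_option autoImplicit false
set_option linter.style.haveILetI false
universe u

namespace Groth.Agent.Lib.Seat40.SmoothSec

open scoped TensorProduct
open Groth.Agent.Lib.Seat31.KR

variable {P B : Type u} [CommRing P] [CommRing B] [Algebra P B]

/-- **Unramified idempotent.**  If `P → B` is unramified and `P → B ⧸ I` is surjective, then near
`V(I)` the ideal `I` is the extension of its contraction: there is `e ≡ 1 mod I` with
`e • I ⊆ (I ∩ P) B`. -/
theorem exists_idem [Algebra.FormallyUnramified P B] [Algebra.EssFiniteType P B] (I : Ideal B)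
    (hsurj : Function.Surjective ((Ideal.Quotient.mk I).comp (algebraMap P B))) :
    ∃ e : B, e - 1 ∈ I ∧
      ∀ x ∈ I, x * e ∈ (I.comap (algebraMap P B)).map (algebraMap P B) := by
  set It : Ideal P := I.comap (algebraMap P B) with hIt
  set L : Ideal B := It.map (algebraMap P B) with hL
  have hLI : L ≤ I := Ideal.map_comap_le
  -- `P ⧸ It ≃ B ⧸ I`
  let χ : P ⧸ It →+* B ⧸ I := Ideal.quotientMap I (algebraMap P B) le_rfl
  have hχinj : Function.Injective χ := Ideal.quotientMap_injective
  have hχsurj : Function.Surjective χ := by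
    intro y
    obtain ⟨p, hp⟩ := hsurj y
    exact ⟨Ideal.Quotient.mk It p, by simpa [χ] using hp⟩
  let E : P ⧸ It ≃+* B ⧸ I := RingEquiv.ofBijective χ ⟨hχinj, hχsurj⟩
  let ι₀ : P ⧸ It →+* B ⧸ L := Ideal.quotientMap L (algebraMap P B) Ideal.le_comap_map
  let σ₀ : B →+* P ⧸ It := (E.symm : B ⧸ I →+* P ⧸ It).comp (Ideal.Quotient.mk I)
  have hσ₀ : ∀ p : P, σ₀ (algebraMap P B p) = Ideal.Quotient.mk It p := by
    intro p
    change E.symm (Ideal.Quotient.mk I (algebraMap P B p)) = _
    rw [RingEquiv.symm_apply_eq]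
    change _ = χ (Ideal.Quotient.mk It p)
    simp [χ]
  let φ : B →ₐ[P] B ⧸ L :=
    { ι₀.comp σ₀ with
      commutes' := fun p => by
        change ι₀ (σ₀ (algebraMap P B p)) = _
        rw [hσ₀]
        simp [ι₀, Ideal.Quotient.mk_algebraMap] }
  let ψ : B ⊗[P] B →ₐ[P] B ⧸ L :=
    Algebra.TensorProduct.lift φ (Ideal.Quotient.mkₐ P L) (fun _ _ => Commute.all _ _)
  set e₀ : B ⧸ L := ψ (Algebra.FormallyUnramified.elem P B) with he₀
  have h1 : ∀ b : B, (Ideal.Quotient.mk L b - φ b) * e₀ = 0 := by
    intro b
    have := congrArg ψ (Algebra.FormallyUnramified.one_tmul_sub_tmul_one_mul_elem (R := P) b)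
    rw [map_mul, map_sub, map_zero] at this
    simpa [ψ, Algebra.TensorProduct.lift_tmul] using this
  -- the image of `e₀` in `B ⧸ I` is `1`
  have h2 : Ideal.Quotient.factor hLI e₀ = 1 := by
    have hcomp : (Ideal.Quotient.factorₐ P hLI).comp ψ =
        (Ideal.Quotient.mkₐ P I).comp (Algebra.TensorProduct.lmul' P) := by
      apply Algebra.TensorProduct.ext'
      intro a b
      simp only [AlgHom.comp_apply, ψ, Algebra.TensorProduct.lift_tmul,
        Algebra.TensorProduct.lmul'_apply_tmul, map_mul]
      congr 1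
      change Ideal.Quotient.factor hLI (ι₀ (σ₀ a)) = Ideal.Quotient.mk I a
      have hτι : ∀ z : P ⧸ It, Ideal.Quotient.factor hLI (ι₀ z) = χ z := by
        intro z
        obtain ⟨p, rfl⟩ := Ideal.Quotient.mk_surjective z
        simp only [ι₀, χ, Ideal.quotientMap_mk, Ideal.Quotient.factor_mk]
      rw [hτι]
      change E (E.symm (Ideal.Quotient.mk I a)) = _
      rw [RingEquiv.apply_symm_apply]
    have := congrArg (fun f => f (Algebra.FormallyUnramified.elem P B)) hcomp
    simp only [AlgHom.comp_apply] at this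
    rw [Algebra.FormallyUnramified.lmul_elem] at this
    simpa using this
  obtain ⟨e, he⟩ := Ideal.Quotient.mk_surjective e₀
  refine ⟨e, ?_, ?_⟩
  · rw [← Ideal.Quotient.eq_zero_iff_mem, map_sub, map_one, sub_eq_zero]
    have : Ideal.Quotient.mk I e = Ideal.Quotient.factor hLI (Ideal.Quotient.mk L e) := by simp
    rw [this, he, h2]
  · intro x hx
    rw [← Ideal.Quotient.eq_zero_iff_mem, map_mul, he]
    have hφx : φ x = 0 := by
      change ι₀ (E.symm (Ideal.Quotient.mk I x)) = 0
      rw [Ideal.Quotient.eq_zero_iff_mem.2 hx, map_zero, map_zero]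
    have := h1 x
    rwa [hφx, sub_zero] at this

/-- the map `P_h → B_{h}` induced by a flat map is flat -/
theorem flat_awayMap [Module.Flat P B] (h : P) :
    (Localization.awayMap (algebraMap P B) h).Flat := by
  let ρ := Localization.awayMap (algebraMap P B) h
  let _ : Algebra (Localization.Away h) (Localization.Away (algebraMap P B h)) := ρ.toAlgebra
  have : IsScalarTower P (Localization.Away h) (Localization.Away (algebraMap P B h)) :=
    IsScalarTower.of_algebraMap_eq (fun a => by
      change _ = ρ (algebraMap P (Localization.Away h) a)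
      simp only [ρ, Localization.awayMap, IsLocalization.Away.map, IsLocalization.map_eq]
      exact IsScalarTower.algebraMap_apply P B _ a)
  have h1 : Module.Flat B (Localization.Away (algebraMap P B h)) :=
    IsLocalization.flat _ (Submonoid.powers (algebraMap P B h))
  have hflat : Module.Flat P (Localization.Away (algebraMap P B h)) :=
    Module.Flat.trans P B _
  exact (Module.flat_iff_of_isLocalization (Localization.Away h) (Submonoid.powers h)
    (Localization.Away (algebraMap P B h))).2 hflat

/-- flat base change of a Koszul-regular ideal -/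
theorem krIdeal_map_of_flat [Module.Flat P B] (K : Ideal P) (hK : LCI.IsKoszulRegularIdeal K) :
    LCI.IsKoszulRegularIdeal (K.map (algebraMap P B)) := by
  intro 𝔭 h𝔭
  have hK𝔮 : K ≤ 𝔭.asIdeal.comap (algebraMap P B) := Ideal.map_le_iff_le_comap.1 h𝔭
  obtain ⟨h, hh, l, hl, hspan⟩ := hK ⟨𝔭.asIdeal.comap (algebraMap P B), inferInstance⟩ hK𝔮
  refine ⟨algebraMap P B h, hh, l.map (Localization.awayMap (algebraMap P B) h),
    Groth.Agent.Lib.Seat40.RegSeqFlat.koszul_of_flat _ (flat_awayMap h) l hl, ?_⟩
  rw [← span_map_list, ← hspan, Ideal.map_map, Ideal.map_map]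
  congr 1
  ext a
  simp [Localization.awayMap, IsLocalization.Away.map, IsLocalization.map_eq]

/-- **Ascent along a flat unramified map.** If `P → B` is flat and unramified, `P → B ⧸ I` is
surjective and the contraction of `I` is a Koszul-regular ideal, then so is `I`. -/
theorem krIdeal_of_comap [Module.Flat P B] [Algebra.FormallyUnramified P B]
    [Algebra.EssFiniteType P B] (I : Ideal B)
    (hsurj : Function.Surjective ((Ideal.Quotient.mk I).comp (algebraMap P B)))
    (hK : LCI.IsKoszulRegularIdeal (I.comap (algebraMap P B))) :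
    LCI.IsKoszulRegularIdeal I := by
  obtain ⟨e, he1, heI⟩ := exists_idem I hsurj
  set L : Ideal B := (I.comap (algebraMap P B)).map (algebraMap P B) with hL
  have hLI : L ≤ I := Ideal.map_comap_le
  have hKL := krIdeal_map_of_flat (B := B) _ hK
  intro 𝔭 h𝔭
  obtain ⟨g, hg, hloc⟩ := hKL 𝔭 (hLI.trans h𝔭)
  have he𝔭 : e ∉ 𝔭.asIdeal := by
    intro hmem
    have h1 : e - 1 ∈ 𝔭.asIdeal := h𝔭 he1
    have : (1 : B) ∈ 𝔭.asIdeal := by
      have := 𝔭.asIdeal.sub_mem hmem h1
      simpa using this
    exact 𝔭.isPrime.ne_top ((Ideal.eq_top_iff_one _).2 this)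
  obtain ⟨l, hl, hspan⟩ := KRLoc.mul_right hloc e
  refine ⟨g * e, fun hmem => (𝔭.isPrime.mem_or_mem hmem).elim hg he𝔭, l, hl, ?_⟩
  rw [← hspan]
  apply le_antisymm
  · rw [Ideal.map_le_iff_le_comap]
    intro x hx
    rw [Ideal.mem_comap]
    have h1 : algebraMap B (Localization.Away (g * e)) (x * e) ∈
        L.map (algebraMap B (Localization.Away (g * e))) := Ideal.mem_map_of_mem _ (heI x hx)
    have hu : IsUnit (algebraMap B (Localization.Away (g * e)) e) := by
      have := IsLocalization.Away.algebraMap_isUnit (S := Localization.Away (g * e)) (g * e)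
      rw [map_mul] at this
      exact isUnit_of_mul_isUnit_right this
    rw [map_mul] at h1
    exact (Ideal.mul_unit_mem_iff_mem _ hu).1 h1
  · exact Ideal.map_mono hLI

section Coord

variable {R₁ C : Type u} [CommRing R₁] [CommRing C] (f₁ : R₁ →+* B) {n : ℕ}
  (g : MvPolynomial (Fin n) R₁ →+* B) (hg : g.comp MvPolynomial.C = f₁) (π : B →+* C)
  (hρ : Function.Surjective (π.comp f₁))

include hg hρ in
/-- the contraction of `ker π` to the polynomial ring is the preimage of `ker (π ∘ f₁)` under an
evaluation map -/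
theorem exists_comap_eq :
    ∃ a : Fin n → R₁, (RingHom.ker π).comap g =
      (RingHom.ker (π.comp f₁)).comap (MvPolynomial.eval a) := by
  choose a ha using fun i : Fin n => hρ (π (g (MvPolynomial.X i)))
  refine ⟨a, ?_⟩
  have hcomp : π.comp g = (π.comp f₁).comp (MvPolynomial.eval a) := by
    apply MvPolynomial.ringHom_ext
    · intro r
      simp only [RingHom.comp_apply, MvPolynomial.eval_C]
      rw [← hg]
      rfl
    · intro i
      simp only [RingHom.comp_apply, MvPolynomial.eval_X]
      exact (ha i).symm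
  rw [RingHom.comap_ker, hcomp, ← RingHom.comap_ker]

include hg hρ in
theorem surjective_mk_comp :
    Function.Surjective ((Ideal.Quotient.mk (RingHom.ker π)).comp g) := by
  intro z
  obtain ⟨b, rfl⟩ := Ideal.Quotient.mk_surjective z
  obtain ⟨r, hr⟩ := hρ (π b)
  refine ⟨MvPolynomial.C r, ?_⟩
  rw [RingHom.comp_apply, Ideal.Quotient.eq, RingHom.mem_ker, map_sub, sub_eq_zero]
  have : g (MvPolynomial.C r) = f₁ r := by rw [← hg]; rfl
  rw [this]
  exact hr

include hg hρ in
/-- **Going up**: if `B` has étale coordinates over `R₁` and `ker (R₁ → C)` is Koszul-regular,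
then so is `ker (B → C)`. -/
theorem krIdeal_ker_of_base (hget : g.Etale)
    (h : LCI.IsKoszulRegularIdeal (RingHom.ker (π.comp f₁))) :
    LCI.IsKoszulRegularIdeal (RingHom.ker π) := by
  letI : Algebra (MvPolynomial (Fin n) R₁) B := g.toAlgebra
  haveI : Algebra.Etale (MvPolynomial (Fin n) R₁) B := hget
  obtain ⟨a, ha⟩ := exists_comap_eq f₁ g hg π hρ
  refine krIdeal_of_comap (P := MvPolynomial (Fin n) R₁) (RingHom.ker π)
    (surjective_mk_comp f₁ g hg π hρ) ?_
  change LCI.IsKoszulRegularIdeal ((RingHom.ker π).comap g)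
  rw [ha]
  exact (isKoszulRegularIdeal_comap_eval n R₁ a _).2 h

end Coord

end Groth.Agent.Lib.Seat40.SmoothSec
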