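import Mathlib
import Groth.Prelude.Def_RegImm
import Groth.Agent.Lib.Seat40RegImmComp
import Groth.Agent.Lib.Seat40SmoothSec

/-!
# Étale charts for immersions into smooth schemes (Seat 40)

* `exists_chart`: for `p : X ⟶ S` smooth and immersions `i : Y ⟶ X`, `i ≫ p : Y ⟶ S`, around each
  point of `Y` there are affine opens `V ⊆ S`, `U ⊆ p⁻¹ V` with `i⁻¹ U = (i ≫ p)⁻¹ V`, both
  restrictions closed immersions, and étale coordinates `Γ(S,V)[X₁..Xₙ] → Γ(X,U)`;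
* `regularImmersionAt_of_krIdeal`, `krIdeal_of_regularImmersion`: dictionary between Koszul-regular
  immersions and `LCI.IsKoszulRegularIdeal` of kernels on affine opens;
* `regularImmersion_of_comp`: if `i ≫ p` is a Koszul-regular immersion, `p` smooth and `i` an
  immersion then `i` is a Koszul-regular immersion.
-/

set_option autoImplicit false
set_option linter.style.haveILetI false
universe u

namespace Groth.Agent.Lib.Seat40.SmoothChart

open CategoryTheory CategoryTheory.Limits AlgebraicGeometry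
open Groth.Agent.Lib.Seat40 Groth.Agent.Lib.Seat31.KR

variable {X Y S : Scheme.{u}}

/-- an immersion restricts to a closed immersion over any open inside its coborder -/
theorem isClosedImmersion_restrict_of_le_coborder (f : Y ⟶ X) [IsImmersion f] (V : X.Opens)
    (hV : V ≤ f.coborderRange) : IsClosedImmersion (f ∣_ V) := by
  refine IsClosedImmersion.of_isPreimmersion _ ?_
  have h1 : Set.range (f ∣_ V) = (Subtype.val ⁻¹' Set.range f : Set V) := by
    rw [morphismRestrict_base]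
    exact Set.range_restrictPreimage _ _
  rw [h1]
  have h2 : IsClosed (Subtype.val ⁻¹' (Set.range f) : Set (coborder (Set.range f))) :=
    isClosed_preimage_val_coborder
  have hV' : (V : Set X) ⊆ coborder (Set.range f) := hV
  have h3 : (Subtype.val ⁻¹' Set.range f : Set V) =
      Set.inclusion hV' ⁻¹' (Subtype.val ⁻¹' (Set.range f) : Set (coborder (Set.range f))) := by
    ext x
    rfl
  rw [h3]
  exact h2.preimage (continuous_inclusion hV')

theorem mem_coborderRange (f : Y ⟶ X) [IsImmersion f] (y : Y) : f y ∈ f.coborderRange :=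
  subset_coborder ⟨y, rfl⟩

/-- **Étale coordinates around a point of an immersion into a smooth scheme.** -/
theorem exists_chart (p : X ⟶ S) [Smooth p] (i : Y ⟶ X) [IsImmersion i] [IsImmersion (i ≫ p)]
    (y : Y) (W : S.Opens) (hW : (i ≫ p) y ∈ W) :
    ∃ (V : S.affineOpens) (U : X.affineOpens) (e : U.1 ≤ p ⁻¹ᵁ V.1), V.1 ≤ W ∧ i y ∈ U.1 ∧
      i ⁻¹ᵁ U.1 = (i ≫ p) ⁻¹ᵁ V.1 ∧ IsClosedImmersion ((i ≫ p) ∣_ V.1) ∧
      IsClosedImmersion (i ∣_ U.1) ∧
      ∃ (n : ℕ) (g : MvPolynomial (Fin n) Γ(S, V.1) →+* Γ(X, U.1)),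
        g.comp MvPolynomial.C = (p.appLE V.1 U.1 e).hom ∧ g.Etale := by
  obtain ⟨V0, hV0, U0, hU0, hxU0, e0, hstd⟩ := Smooth.exists_isStandardSmooth p (i y)
  -- an open of `S` cutting out `i ⁻¹ U0`
  obtain ⟨W', hW'o, hW'⟩ := (i ≫ p).isEmbedding.isInducing.isOpen_iff.1 (i ⁻¹ᵁ U0).2
  have hyW' : (i ≫ p) y ∈ W' := by
    have : y ∈ (i ≫ p) ⁻¹' W' := by rw [hW']; exact hxU0
    exact this
  have hyV0 : (i ≫ p) y ∈ V0 := by
    have := e0 hxU0
    simpa using this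
  let T : S.Opens := (⟨W', hW'o⟩ ⊓ W) ⊓ (i ≫ p).coborderRange
  have hyT : (i ≫ p) y ∈ T := ⟨⟨hyW', hW⟩, mem_coborderRange _ y⟩
  obtain ⟨r, hrT, hyr⟩ := hV0.exists_basicOpen_le (V := T) ⟨_, hyT⟩ hyV0
  set f0 := p.appLE V0 U0 e0 with hf0
  let V1 : S.affineOpens := ⟨S.basicOpen r, hV0.basicOpen r⟩
  let U1 : X.affineOpens := ⟨X.basicOpen (f0.hom r), hU0.basicOpen _⟩
  have e1 : U1.1 ≤ p ⁻¹ᵁ V1.1 := by simp [U1, V1, f0, Scheme.Hom.appLE]
  have hU1 : U1.1 = U0 ⊓ p ⁻¹ᵁ V1.1 := by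
    simp only [U1, V1, f0, Scheme.Hom.appLE, CommRingCat.hom_comp, RingHom.coe_comp,
      Function.comp_apply, Scheme.basicOpen_res, Scheme.Hom.preimage_basicOpen]
  refine ⟨V1, U1, e1, ?_, ?_, ?_, ?_, ?_, ?_⟩
  · exact hrT.trans (inf_le_left.trans inf_le_right)
  · rw [hU1]
    exact ⟨hxU0, hyr⟩
  · rw [hU1, Scheme.Hom.comp_preimage]
    ext z
    constructor
    · rintro ⟨-, h2⟩
      exact h2
    · intro h2
      refine ⟨?_, h2⟩
      have h3 : (i ≫ p) z ∈ W' := (hrT h2).1.1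
      have : z ∈ (i ≫ p) ⁻¹' W' := h3
      rw [hW'] at this
      exact this
  · exact isClosedImmersion_restrict_of_le_coborder _ _ (hrT.trans inf_le_right)
  · have h9 : i ⁻¹ᵁ U1.1 = (i ≫ p) ⁻¹ᵁ V1.1 := by
      rw [hU1, Scheme.Hom.comp_preimage]
      ext z
      constructor
      · rintro ⟨-, h2⟩
        exact h2
      · intro h2
        refine ⟨?_, h2⟩
        have h3 : (i ≫ p) z ∈ W' := (hrT h2).1.1
        have : z ∈ (i ≫ p) ⁻¹' W' := h3
        rw [hW'] at this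
        exact this
    haveI hcl : IsClosedImmersion ((i ≫ p) ∣_ V1.1) :=
      isClosedImmersion_restrict_of_le_coborder _ _ (hrT.trans inf_le_right)
    have hcomp : (i ∣_ U1.1) ≫ p.resLE V1.1 U1.1 e1 =
        (Y.isoOfEq h9).hom ≫ ((i ≫ p) ∣_ V1.1) := by
      rw [← cancel_mono V1.1.ι]
      simp only [Category.assoc, Scheme.Hom.resLE_comp_ι, morphismRestrict_ι,
        Scheme.isoOfEq_hom_ι_assoc]
      rw [morphismRestrict_ι_assoc]
    haveI : IsAffine U1.1 := U1.2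
    haveI : IsAffine V1.1 := V1.2
    haveI : IsClosedImmersion ((i ∣_ U1.1) ≫ p.resLE V1.1 U1.1 e1) := by
      rw [hcomp]
      infer_instance
    exact IsClosedImmersion.of_comp (i ∣_ U1.1) (p.resLE V1.1 U1.1 e1)
  · have hloc := hV0.appLE_eq_away_map p hU0 e0 r
    have hstd1 : (p.appLE V1.1 U1.1 e1).hom.IsStandardSmooth := by
      letI := hV0.isLocalization_basicOpen r
      letI := hU0.isLocalization_basicOpen (p.appLE V0 U0 e0 r)
      have h1 := RingHom.isStandardSmooth_localizationPreserves.away (p.appLE V0 U0 e0).hom r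
        Γ(S, S.basicOpen r) Γ(X, X.basicOpen (p.appLE V0 U0 e0 r)) hstd
      have h2 : (p.appLE V1.1 U1.1 e1).hom = IsLocalization.Away.map Γ(S, S.basicOpen r)
          Γ(X, X.basicOpen (p.appLE V0 U0 e0 r)) (p.appLE V0 U0 e0).hom r := by
        have := congrArg CommRingCat.Hom.hom hloc
        exact this
      rw [h2]
      exact h1
    obtain ⟨n, g, hg, hget⟩ := hstd1.exists_etale_mvPolynomial
    exact ⟨n, g, hg, hget⟩

theorem mem_basicOpen_iff {U : X.Opens} (hU : IsAffineOpen U) {x : X} (hx : x ∈ U) (g : Γ(X, U)) :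
    x ∈ X.basicOpen g ↔ g ∉ (hU.primeIdealOf ⟨x, hx⟩).asIdeal := by
  letI := TopCat.Presheaf.algebra_section_stalk X.presheaf ⟨x, hx⟩
  haveI := hU.isLocalization_stalk ⟨x, hx⟩
  rw [Scheme.mem_basicOpen _ _ _ hx]
  exact IsLocalization.AtPrime.isUnit_to_map_iff (X.presheaf.stalk x)
    (hU.primeIdealOf ⟨x, hx⟩).asIdeal g

/-- the kernel of sections over `U` lies in the prime of any point of the image -/
theorem ker_le_primeIdealOf (i : Y ⟶ X) {U : X.Opens} (hU : IsAffineOpen U) (y : Y)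
    (hy : i y ∈ U) : RingHom.ker (i.app U).hom ≤ (hU.primeIdealOf ⟨i y, hy⟩).asIdeal := by
  intro a ha
  by_contra hna
  have h1 : i y ∈ X.basicOpen a := (mem_basicOpen_iff hU hy a).2 hna
  have h2 : y ∈ i ⁻¹ᵁ X.basicOpen a := h1
  rw [Scheme.Hom.preimage_basicOpen, RingHom.mem_ker.1 ha, Scheme.basicOpen_zero] at h2
  exact h2

/-- **ring ⇒ scheme** -/
theorem regularImmersionAt_of_krIdeal (i : Y ⟶ X) (U : X.affineOpens)
    (hcl : IsClosedImmersion (i ∣_ U.1))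
    (hK : LCI.IsKoszulRegularIdeal (RingHom.ker (i.app U.1).hom)) (y : Y) (hy : i y ∈ U.1) :
    RegImm.IsRegularImmersionAt .koszul i y := by
  obtain ⟨g, hg, l, hl, hspan⟩ := hK (U.2.primeIdealOf ⟨i y, hy⟩) (ker_le_primeIdealOf i U.2 y hy)
  let U' : X.affineOpens := ⟨X.basicOpen g, U.2.basicOpen g⟩
  have hy' : i y ∈ U'.1 := (mem_basicOpen_iff U.2 hy g).2 hg
  have hle : U'.1 ≤ (𝟙 X) ⁻¹ᵁ U.1 := X.basicOpen_le g
  obtain ⟨hcl', hkey⟩ := RegImmBC.ker_app_of_isPullback i (𝟙 X) i (𝟙 Y) (IsPullback.id_horiz i)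
    U U' hle hcl
  haveI := U.2.isLocalization_basicOpen g
  obtain ⟨l', hl', hspan'⟩ := exists_list_of_algEquiv
    (IsLocalization.algEquiv (Submonoid.powers g) (Localization.Away g) Γ(X, X.basicOpen g))
    (RingHom.ker (i.app U.1).hom) l hl hspan
  refine ⟨U', hy', hcl', l', hl', ?_⟩
  rw [hkey]
  have : ((𝟙 X : X ⟶ X).appLE U.1 U'.1 hle).hom = algebraMap Γ(X, U.1) Γ(X, X.basicOpen g) := by
    simp only [Scheme.Hom.appLE, Scheme.Hom.id_app]
    rfl
  rw [this, hspan']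

/-- every prime containing the kernel of sections comes from a point of the source -/
theorem exists_point_of_ker_le (i : Y ⟶ X) (U : X.affineOpens)
    (hcl : IsClosedImmersion (i ∣_ U.1)) (𝔭 : PrimeSpectrum Γ(X, U.1))
    (h𝔭 : RingHom.ker (i.app U.1).hom ≤ 𝔭.asIdeal) :
    ∃ (y : Y) (hy : i y ∈ U.1), U.2.primeIdealOf ⟨i y, hy⟩ = 𝔭 := by
  have hsurj := RegImmComp.app_surjective_of_restrict i U.1 U.2 hcl
  haveI : IsAffine U.1 := U.2
  have hW : IsAffineOpen (i ⁻¹ᵁ U.1) := isAffine_of_isAffineHom (i ∣_ U.1)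
  set φ := (i.app U.1).hom with hφ
  haveI h𝔭' : (𝔭.asIdeal.map φ).IsPrime := Ideal.map_isPrime_of_surjective hsurj h𝔭
  have hcomap : (𝔭.asIdeal.map φ).comap φ = 𝔭.asIdeal := by
    rw [Ideal.comap_map_of_surjective φ hsurj]
    exact sup_eq_left.2 h𝔭
  let q : PrimeSpectrum Γ(Y, i ⁻¹ᵁ U.1) := ⟨𝔭.asIdeal.map φ, h𝔭'⟩
  let y : Y := hW.fromSpec q
  have hyW : y ∈ i ⁻¹ᵁ U.1 := by
    have : y ∈ Set.range hW.fromSpec := ⟨q, rfl⟩
    rwa [hW.range_fromSpec] at this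
  have hq : hW.primeIdealOf ⟨y, hyW⟩ = q :=
    hW.fromSpec.isOpenEmbedding.injective (hW.fromSpec_primeIdealOf ⟨y, hyW⟩)
  refine ⟨y, hyW, ?_⟩
  have h1 := IsAffineOpen.comap_primeIdealOf_appLE (f := i) (x := y) U.1 U.2 (i ⁻¹ᵁ U.1) hW
    le_rfl hyW
  rw [← h1, hq]
  apply PrimeSpectrum.ext
  change (𝔭.asIdeal.map φ).comap (i.appLE U.1 (i ⁻¹ᵁ U.1) le_rfl).hom = 𝔭.asIdeal
  rw [Scheme.Hom.appLE_eq_app]
  exact hcomap

/-- **scheme ⇒ ring** -/
theorem krIdeal_of_regularImmersion (i : Y ⟶ X) (hi : RegImm.IsRegularImmersion .koszul i)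
    (U : X.affineOpens) (hcl : IsClosedImmersion (i ∣_ U.1)) :
    LCI.IsKoszulRegularIdeal (RingHom.ker (i.app U.1).hom) := by
  intro 𝔭 h𝔭
  obtain ⟨y, hy, rfl⟩ := exists_point_of_ker_le i U hcl 𝔭 h𝔭
  obtain ⟨U'', hy'', hcl'', rs, hrs, hker⟩ := hi.2 y
  obtain ⟨f, g'', heq, hyf⟩ := exists_basicOpen_le_affine_inter U.2 U''.2 (i y) ⟨hy, hy''⟩
  let U4 : X.affineOpens := ⟨X.basicOpen f, U.2.basicOpen f⟩
  have hle4 : U4.1 ≤ U''.1 := by
    change X.basicOpen f ≤ _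
    rw [heq]
    exact X.basicOpen_le g''
  obtain ⟨hcl4, rs4, -, hrs4, hker4⟩ :=
    RegImmComp.shrink i .koszul U'' U4 hle4 hcl'' rs hrs hker y hyf
  have hle : U4.1 ≤ (𝟙 X) ⁻¹ᵁ U.1 := X.basicOpen_le f
  obtain ⟨-, hkey⟩ := RegImmBC.ker_app_of_isPullback i (𝟙 X) i (𝟙 Y) (IsPullback.id_horiz i)
    U U4 hle hcl
  haveI := U.2.isLocalization_basicOpen f
  have hres : ((𝟙 X : X ⟶ X).appLE U.1 U4.1 hle).hom =
      algebraMap Γ(X, U.1) Γ(X, X.basicOpen f) := by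
    simp only [Scheme.Hom.appLE, Scheme.Hom.id_app]
    rfl
  have hspan : (RingHom.ker (i.app U.1).hom).map (algebraMap Γ(X, U.1) Γ(X, X.basicOpen f)) =
      Ideal.span {x | x ∈ rs4} := by
    rw [← hres, ← hkey, hker4]
  obtain ⟨l', hl', hspan'⟩ := exists_list_of_algEquiv
    (IsLocalization.algEquiv (Submonoid.powers f) Γ(X, X.basicOpen f) (Localization.Away f))
    (RingHom.ker (i.app U.1).hom) rs4 hrs4 hspan
  exact ⟨f, (mem_basicOpen_iff U.2 hy f).1 hyf, l', hl', hspan'⟩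

/-- the two ring maps to sections of `Y` agree up to the identification of the opens -/
theorem exists_ringEquiv_comp (p : X ⟶ S) (i : Y ⟶ X) (V : S.Opens) (U : X.Opens)
    (e : U ≤ p ⁻¹ᵁ V) (hpre : i ⁻¹ᵁ U = (i ≫ p) ⁻¹ᵁ V) :
    ∃ ε : Γ(Y, (i ≫ p) ⁻¹ᵁ V) ≃+* Γ(Y, i ⁻¹ᵁ U),
      (i.app U).hom.comp (p.appLE V U e).hom = (ε : _ →+* _).comp ((i ≫ p).app V).hom := by
  refine ⟨(Y.presheaf.mapIso (eqToIso hpre).op).commRingCatIsoToRingEquiv, ?_⟩
  have h1 : p.appLE V U e ≫ i.app U = (i ≫ p).app V ≫ Y.presheaf.map (eqToHom hpre).op := by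
    rw [i.app_eq_appLE, Scheme.Hom.appLE_comp_appLE]
    rfl
  ext x
  have := congrArg (fun φ : Γ(S, V) ⟶ Γ(Y, i ⁻¹ᵁ U) => φ.hom x) h1
  exact this

/-- **Going up (scheme level).** -/
theorem regularImmersion_of_comp (p : X ⟶ S) [Smooth p] (i : Y ⟶ X) [IsImmersion i]
    (hj : RegImm.IsRegularImmersion .koszul (i ≫ p)) :
    RegImm.IsRegularImmersion .koszul i := by
  haveI : IsImmersion (i ≫ p) := hj.1
  refine ⟨inferInstance, fun y => ?_⟩
  obtain ⟨V, U, e, -, hyU, hpre, hclj, hcli, n, g, hg, hget⟩ :=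
    exists_chart p i y ⊤ trivial
  have hKj := krIdeal_of_regularImmersion (i ≫ p) hj V hclj
  obtain ⟨ε, hε⟩ := exists_ringEquiv_comp p i V.1 U.1 e hpre
  have hsurjj := RegImmComp.app_surjective_of_restrict (i ≫ p) V.1 V.2 hclj
  have hρ : Function.Surjective ((i.app U.1).hom.comp (p.appLE V.1 U.1 e).hom) := by
    rw [hε]
    exact ε.surjective.comp hsurjj
  have hker : RingHom.ker ((i.app U.1).hom.comp (p.appLE V.1 U.1 e).hom) =
      RingHom.ker ((i ≫ p).app V.1).hom := by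
    rw [hε]
    ext x
    rw [RingHom.mem_ker, RingHom.mem_ker, RingHom.comp_apply]
    exact map_eq_zero_iff ε ε.injective
  have hKi := SmoothSec.krIdeal_ker_of_base (p.appLE V.1 U.1 e).hom g hg (i.app U.1).hom hρ hget
    (by rw [hker]; exact hKj)
  exact regularImmersionAt_of_krIdeal i U hcli hKi y hyU

end Groth.Agent.Lib.Seat40.SmoothChart
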