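import Mathlib
import Groth.Prelude.Def_RegImm
import Groth.Agent.Lib.Seat40SmoothSec

/-!
# Descent of Koszul-regular ideals along étale neighbourhoods (Seat 40)

* `koszul_of_faithfullyFlat`: Koszul-regular sequences descend along faithfully flat ring maps;
* `krLoc_of_flat_nbhd`: if `P → T` is flat of finite presentation, `P → T ⧸ K T` is surjective and
  `K T` is generated by a Koszul-regular sequence, then `K` is generated by a Koszul-regular
  sequence near every prime in the image of `V(K T)`;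
* `krIdeal_comap`: if `P → B` is flat, unramified and finitely presented, `P → B ⧸ I` is surjective
  and `I` is a Koszul-regular ideal, then so is `I ∩ P`;
* `krIdeal_base_of_ker`: with étale coordinates `R₁[X] → B`, `ker (B → C)` Koszul-regular implies
  `ker (R₁ → C)` Koszul-regular.
-/

set_option autoImplicit false
set_option linter.style.haveILetI false
universe u

namespace Groth.Agent.Lib.Seat40.SmoothDesc

open CategoryTheory CochainComplex MonoidalCategory CohIII
open Groth.Agent.Helper13Kz Groth.Agent.Helper13KzLift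
open Groth.Agent.Lib.Seat31.KR Groth.Agent.Lib.Seat40
open scoped TensorProduct Pointwise

section ff

variable {B : Type u} [CommRing B] (F : ModuleCat.{u} B)

/-- faithfully flat coefficient extension reflects vanishing of Koszul homology -/
theorem isZero_homology_of_tensor_faithfullyFlat [Module.FaithfullyFlat B F] (M : ModuleCat.{u} B)
    (l : List B) (i : ℤ) (h : Limits.IsZero ((koszulCx (M ⊗ F) l).homology i)) :
    Limits.IsZero ((koszulCx M l).homology i) := by
  have h1 : Limits.IsZero ((((tensorRight F).mapHomologicalComplex (ComplexShape.up ℤ)).obj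
      (koszulCx M l)).homology i) :=
    Limits.IsZero.of_iso h ((HomologicalComplex.homologyFunctor _ _ i).mapIso (tensIso F M l))
  rw [← HomologicalComplex.exactAt_iff_isZero_homology] at h1 ⊢
  have h2 : (((koszulCx M l).sc i).map (tensorRight F)).Exact := h1
  change ((koszulCx M l).sc i).Exact
  rw [ShortComplex.ShortExact.moduleCat_exact_iff_function_exact] at h2 ⊢
  exact (Module.FaithfullyFlat.rTensor_exact_iff_exact B F _ _).1 h2

end ff

section desc

variable {S T : Type u} [CommRing S] [CommRing T] (φ : S →+* T)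

/-- mapping the sequence and restricting the coefficients give the same Koszul homology -/
theorem isZero_homology_restrict_of_map (M : ModuleCat.{u} T) (l : List S) (i : ℤ)
    (h : Limits.IsZero ((koszulCx M (l.map φ)).homology i)) :
    Limits.IsZero ((koszulCx ((ModuleCat.restrictScalars φ).obj M) l).homology i) := by
  have h1 : Limits.IsZero ((((ModuleCat.restrictScalars φ).mapHomologicalComplex
      (ComplexShape.up ℤ)).obj (koszulCx M (l.map φ))).homology i) := by
    rw [← HomologicalComplex.exactAt_iff_isZero_homology] at h ⊢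
    exact (ShortComplex.exact_map_iff_of_faithful _ (ModuleCat.restrictScalars φ)).2 h
  exact Limits.IsZero.of_iso h1
    ((HomologicalComplex.homologyFunctor _ _ i).mapIso (restrictIso φ M l)).symm

/-- Koszul-regularity descends along faithfully flat maps -/
theorem koszul_of_faithfullyFlat (hφ : φ.FaithfullyFlat) (l : List S)
    (h : LCI.IsKoszulRegularSeq T (l.map φ)) : LCI.IsKoszulRegularSeq S l := by
  rw [isKoszulRegularSeq_iff] at h ⊢
  intro i hi
  letI : Algebra S T := φ.toAlgebra
  haveI : Module.FaithfullyFlat S T := hφ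
  have h1 : Limits.IsZero ((koszulCx ((ModuleCat.restrictScalars φ).obj (ModuleCat.of T T))
      l).homology i) :=
    isZero_homology_restrict_of_map φ (ModuleCat.of T T) l i
      (@ModuleCat.isZero_of_subsingleton _ _ _ (h i hi))
  have h2 : Subsingleton (KH l T i) := ModuleCat.subsingleton_of_isZero h1
  have h3 : Subsingleton (KH l (S ⊗[S] T) i) :=
    subsingleton_KH_of_equiv l (TensorProduct.lid S T).symm i h2
  have h4 : Limits.IsZero ((koszulCx (ModuleCat.of S S ⊗ ModuleCat.of S T) l).homology i) :=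
    @ModuleCat.isZero_of_subsingleton _ _ _ h3
  exact ModuleCat.subsingleton_of_isZero
    (isZero_homology_of_tensor_faithfullyFlat (ModuleCat.of S T) (ModuleCat.of S S) l i h4)

end desc

section D0

variable {P T : Type u} [CommRing P] [CommRing T] [Algebra P T]

theorem exists_sub_mem_sq (K : Ideal P)
    (hsurj : Function.Surjective
      ((Ideal.Quotient.mk (K.map (algebraMap P T))).comp (algebraMap P T)))
    (x : T) (hx : x ∈ K.map (algebraMap P T)) :
    ∃ j ∈ K, x - algebraMap P T j ∈ K.map (algebraMap P T) * K.map (algebraMap P T) := by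
  set N := K.map (algebraMap P T) with hN
  refine Submodule.span_induction
    (p := fun x _ => ∃ j ∈ K, x - algebraMap P T j ∈ N * N) ?_ ?_ ?_ ?_ hx
  · rintro _ ⟨k, hk, rfl⟩
    exact ⟨k, hk, by simp⟩
  · exact ⟨0, K.zero_mem, by simp⟩
  · rintro x y _ _ ⟨j1, h1, h1'⟩ ⟨j2, h2, h2'⟩
    refine ⟨j1 + j2, K.add_mem h1 h2, ?_⟩
    have : x + y - algebraMap P T (j1 + j2) =
        (x - algebraMap P T j1) + (y - algebraMap P T j2) := by rw [map_add]; ring
    rw [this]
    exact Ideal.add_mem _ h1' h2'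
  · rintro t x hxN ⟨j, hj, hj'⟩
    obtain ⟨c, hc⟩ := hsurj (Ideal.Quotient.mk N t)
    have hc' : t - algebraMap P T c ∈ N := by
      rw [← Ideal.Quotient.eq]
      exact hc.symm
    refine ⟨c * j, K.mul_mem_left c hj, ?_⟩
    have : t • x - algebraMap P T (c * j) =
        t * (x - algebraMap P T j) + (t - algebraMap P T c) * algebraMap P T j := by
      rw [map_mul, smul_eq_mul]; ring
    rw [this]
    exact Ideal.add_mem _ (Ideal.mul_mem_left _ _ hj')
      (Ideal.mul_mem_mul hc' (Ideal.mem_map_of_mem _ hj))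

/-- Nakayama step: generators of `K T` coming from `K`, up to an element `b ≡ 1`. -/
theorem exists_lift_gens (K : Ideal P) (l : List T)
    (hspan : K.map (algebraMap P T) = Ideal.span {x | x ∈ l})
    (hsurj : Function.Surjective
      ((Ideal.Quotient.mk (K.map (algebraMap P T))).comp (algebraMap P T))) :
    ∃ (j : Fin l.length → P) (b : T), (∀ i, j i ∈ K) ∧ b - 1 ∈ K.map (algebraMap P T) ∧
      ∀ x ∈ K.map (algebraMap P T), b * x ∈ Ideal.span (Set.range fun i => algebraMap P T (j i)) := by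
  set N := K.map (algebraMap P T) with hN
  have hmem : ∀ i : Fin l.length, l.get i ∈ N := fun i => by
    rw [hspan]; exact Ideal.subset_span (List.get_mem _ _)
  choose j hjK hj using fun i => exists_sub_mem_sq K hsurj (l.get i) (hmem i)
  set Jb : Ideal T := Ideal.span (Set.range fun i => algebraMap P T (j i)) with hJb
  have hNfg : (N : Submodule T T).FG := by
    rw [hspan]
    exact Submodule.fg_span (List.finite_toSet l)
  have hle' : Ideal.span {x | x ∈ l} ≤ Jb ⊔ N • N := by
    rw [Ideal.span_le]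
    intro x hx
    obtain ⟨i, rfl⟩ := List.get_of_mem hx
    have h1 : l.get i = algebraMap P T (j i) + (l.get i - algebraMap P T (j i)) := by ring
    rw [h1]
    exact Submodule.add_mem_sup (Ideal.subset_span ⟨i, rfl⟩) (hj i)
  have hle : N ≤ Jb ⊔ N • N := (le_of_eq hspan).trans hle'
  obtain ⟨b, hb1, hbN⟩ := Submodule.exists_sub_one_mem_and_smul_le_of_fg_of_le_sup
    (I := N) (N := Jb) (N' := N) (P := N) hNfg le_rfl hle
  refine ⟨j, b, hjK, hb1, fun x hx => ?_⟩
  have : b • x ∈ b • (N : Submodule T T) := Submodule.smul_mem_pointwise_smul x b N hx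
  exact hbN this

/-- **Descent along a flat finitely presented neighbourhood.** -/
theorem krLoc_of_flat_nbhd [Module.Flat P T] [Algebra.FinitePresentation P T]
    (K : Ideal P) (l : List T) (hl : LCI.IsKoszulRegularSeq T l)
    (hspan : K.map (algebraMap P T) = Ideal.span {x | x ∈ l})
    (hsurj : Function.Surjective
      ((Ideal.Quotient.mk (K.map (algebraMap P T))).comp (algebraMap P T)))
    (𝔮 : PrimeSpectrum P) (𝔮' : PrimeSpectrum T)
    (h𝔮' : 𝔮'.asIdeal.comap (algebraMap P T) = 𝔮.asIdeal)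
    (hK𝔮' : K.map (algebraMap P T) ≤ 𝔮'.asIdeal) :
    ∃ r : P, r ∉ 𝔮.asIdeal ∧ KRLoc K r := by
  obtain ⟨j, b, hjK, hb1, hbN⟩ := exists_lift_gens K l hspan hsurj
  set N := K.map (algebraMap P T) with hN
  set Jb : Ideal T := Ideal.span (Set.range fun i => algebraMap P T (j i)) with hJb
  have hJbN : Jb ≤ N := Ideal.span_le.2 (by
    rintro _ ⟨i, rfl⟩
    exact Ideal.mem_map_of_mem _ (hjK i))
  -- the localization `T_b`
  let Tb := Localization.Away b
  have hb𝔮' : b ∉ 𝔮'.asIdeal := by
    intro hmem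
    have h1 : b - 1 ∈ 𝔮'.asIdeal := hK𝔮' hb1
    have : (1 : T) ∈ 𝔮'.asIdeal := by
      have := 𝔮'.asIdeal.sub_mem hmem h1
      simpa using this
    exact 𝔮'.isPrime.ne_top ((Ideal.eq_top_iff_one _).2 this)
  haveI : Module.Flat T Tb := IsLocalization.flat _ (Submonoid.powers b)
  haveI : Module.Flat P Tb := Module.Flat.trans P T Tb
  haveI : Algebra.FinitePresentation T Tb := IsLocalization.Away.finitePresentation b
  haveI : Algebra.FinitePresentation P Tb := Algebra.FinitePresentation.trans P T Tb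
  have hopen : IsOpen (Set.range (PrimeSpectrum.comap (algebraMap P Tb))) :=
    (PrimeSpectrum.isOpenMap_comap_of_hasGoingDown_of_finitePresentation).isOpen_range
  have hdisj : Disjoint (Submonoid.powers b : Set T) (𝔮'.asIdeal : Set T) := by
    rwa [Ideal.disjoint_powers_iff_notMem_of_isPrime]
  have h𝔮W : 𝔮 ∈ Set.range (PrimeSpectrum.comap (algebraMap P Tb)) := by
    have hprime : (𝔮'.asIdeal.map (algebraMap T Tb)).IsPrime :=
      IsLocalization.isPrime_of_isPrime_disjoint (Submonoid.powers b) _ _ 𝔮'.isPrime hdisj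
    refine ⟨⟨_, hprime⟩, ?_⟩
    apply PrimeSpectrum.ext
    change (𝔮'.asIdeal.map (algebraMap T Tb)).comap (algebraMap P Tb) = 𝔮.asIdeal
    have h : Ideal.comap (algebraMap T Tb) (Ideal.map (algebraMap T Tb) 𝔮'.asIdeal) =
        𝔮'.asIdeal :=
      IsLocalization.under_map_of_isPrime_disjoint (Submonoid.powers b) Tb 𝔮'.isPrime hdisj
    rw [IsScalarTower.algebraMap_eq P T Tb, ← Ideal.comap_comap, h, h𝔮']
  obtain ⟨_, ⟨_, ⟨r, rfl⟩, rfl⟩, h𝔮r, hrW⟩ :=
    PrimeSpectrum.isBasis_basic_opens.exists_subset_of_mem_open h𝔮W hopen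
  refine ⟨r, h𝔮r, ?_⟩
  -- the faithfully flat map `P_r → (T_b)_r`
  let Pr := Localization.Away r
  let Tbr := Localization.Away (algebraMap P Tb r)
  let φ : Pr →+* Tbr := Localization.awayMap (algebraMap P Tb) r
  have hφflat : φ.Flat := SmoothSec.flat_awayMap (B := Tb) r
  have hφcomp : φ.comp (algebraMap P Pr) = (algebraMap Tb Tbr).comp (algebraMap P Tb) := by
    exact IsLocalization.map_comp _
  have hφff : φ.FaithfullyFlat := by
    letI : Algebra Pr Tbr := φ.toAlgebra
    haveI : Module.Flat Pr Tbr := hφflat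
    change Module.FaithfullyFlat Pr Tbr
    apply Module.FaithfullyFlat.of_comap_surjective
    intro 𝔭r
    set 𝔭 : PrimeSpectrum P := PrimeSpectrum.comap (algebraMap P Pr) 𝔭r with h𝔭
    have hr𝔭 : r ∉ 𝔭.asIdeal := by
      intro hmem
      have h1 : algebraMap P Pr r ∈ 𝔭r.asIdeal := hmem
      exact 𝔭r.isPrime.ne_top (Ideal.eq_top_of_isUnit_mem _ h1
        (IsLocalization.Away.algebraMap_isUnit r))
    obtain ⟨𝔭', h𝔭'⟩ := hrW (show 𝔭 ∈ (PrimeSpectrum.basicOpen r : Set _) from hr𝔭)
    have hr𝔭' : algebraMap P Tb r ∉ 𝔭'.asIdeal := by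
      intro hmem
      apply hr𝔭
      rw [← h𝔭']
      exact hmem
    have hdisj' : Disjoint (Submonoid.powers (algebraMap P Tb r) : Set Tb) (𝔭'.asIdeal : Set Tb) := by
      rwa [Ideal.disjoint_powers_iff_notMem_of_isPrime]
    have hprime' : (𝔭'.asIdeal.map (algebraMap Tb Tbr)).IsPrime :=
      IsLocalization.isPrime_of_isPrime_disjoint (Submonoid.powers (algebraMap P Tb r)) _ _
        𝔭'.isPrime hdisj'
    refine ⟨⟨_, hprime'⟩, ?_⟩
    apply PrimeSpectrum.localization_comap_injective Pr (Submonoid.powers r)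
    rw [← h𝔭, ← h𝔭']
    apply PrimeSpectrum.ext
    change ((𝔭'.asIdeal.map (algebraMap Tb Tbr)).comap φ).comap (algebraMap P Pr) =
      𝔭'.asIdeal.comap (algebraMap P Tb)
    have h : Ideal.comap (algebraMap Tb Tbr) (Ideal.map (algebraMap Tb Tbr) 𝔭'.asIdeal) =
        𝔭'.asIdeal :=
      IsLocalization.under_map_of_isPrime_disjoint (Submonoid.powers (algebraMap P Tb r)) Tbr
        𝔭'.isPrime hdisj'
    rw [Ideal.comap_comap, hφcomp, ← Ideal.comap_comap, h]
  -- the flat map `T → (T_b)_r`
  let ψ : T →+* Tbr := (algebraMap Tb Tbr).comp (algebraMap T Tb)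
  have hψflat : ψ.Flat := by
    refine RingHom.Flat.comp ?_ ?_
    · rw [RingHom.flat_algebraMap_iff]
      infer_instance
    · rw [RingHom.flat_algebraMap_iff]
      exact IsLocalization.flat _ (Submonoid.powers (algebraMap P Tb r))
  have hψcomp : ψ.comp (algebraMap P T) = φ.comp (algebraMap P Pr) := by
    rw [hφcomp, RingHom.comp_assoc, ← IsScalarTower.algebraMap_eq P T Tb]
  have hψb : IsUnit (ψ b) :=
    (IsLocalization.Away.algebraMap_isUnit (S := Tb) b).map (algebraMap Tb Tbr)
  have hNJ : N.map ψ = Jb.map ψ := by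
    apply le_antisymm
    · rw [Ideal.map_le_iff_le_comap]
      intro x hx
      rw [Ideal.mem_comap]
      have h1 : ψ (b * x) ∈ Jb.map ψ := Ideal.mem_map_of_mem _ (hbN x hx)
      rw [map_mul] at h1
      exact (Ideal.unit_mul_mem_iff_mem _ hψb).1 h1
    · exact Ideal.map_mono hJbN
  let jl : List P := List.ofFn j
  let jr : List Pr := jl.map (algebraMap P Pr)
  have hjrφ : jr.map φ = jl.map (ψ.comp (algebraMap P T)) := by
    rw [hψcomp, List.map_map]
    rfl
  have hspanJ : Ideal.span {x | x ∈ jr.map φ} = Jb.map ψ := by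
    rw [hjrφ, hJb, Ideal.map_span]
    congr 1
    ext x
    simp [jl, List.mem_ofFn]
  have hspanL : Ideal.span {x | x ∈ l.map ψ} = N.map ψ := by
    rw [hspan, span_map_list]
  have hlT : LCI.IsKoszulRegularSeq Tbr (l.map ψ) := RegSeqFlat.koszul_of_flat ψ hψflat l hl
  have hjrKR : LCI.IsKoszulRegularSeq Tbr (jr.map φ) := by
    refine kr_of_span_eq (l.map ψ) (jr.map φ) hlT (by simp [jr, jl]) ?_ ?_
    · intro y hy
      rw [hspanL, hNJ, ← hspanJ]
      exact Ideal.subset_span hy
    · intro y hy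
      rw [hspanJ, ← hNJ, ← hspanL]
      exact Ideal.subset_span hy
  refine ⟨jr, koszul_of_faithfullyFlat φ hφff jr hjrKR, ?_⟩
  letI : Algebra Pr Tbr := φ.toAlgebra
  haveI : Module.FaithfullyFlat Pr Tbr := hφff
  have e1 : (K.map (algebraMap P Pr)).map (algebraMap Pr Tbr) =
      (Ideal.span {x | x ∈ jr}).map (algebraMap Pr Tbr) := by
    change (K.map (algebraMap P Pr)).map φ = (Ideal.span {x | x ∈ jr}).map φ
    rw [Ideal.map_map, ← hψcomp, ← Ideal.map_map, span_map_list, hspanJ, ← hNJ]
  rw [← Ideal.comap_map_eq_self_of_faithfullyFlat (B := Tbr) (K.map (algebraMap P Pr)), e1,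
    Ideal.comap_map_eq_self_of_faithfullyFlat]

end D0

section Back

variable {P : Type u} [CommRing P]

/-- pointwise form of `Seat31.KR.exists_krLoc_of_map` -/
theorem krLoc_of_map_away (I : Ideal P) (s : P) (h : Localization.Away s)
    (hloc : KRLoc (I.map (algebraMap P (Localization.Away s))) h)
    (𝔭 : Ideal P) [h𝔭 : 𝔭.IsPrime] (hs : s ∉ 𝔭)
    (hh : h ∉ 𝔭.map (algebraMap P (Localization.Away s))) :
    ∃ g' : P, g' ∉ 𝔭 ∧ KRLoc I g' := by
  obtain ⟨k, h', hk⟩ := IsLocalization.Away.surj s h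
  have hu : IsUnit (algebraMap P (Localization.Away s) s) :=
    IsLocalization.Away.algebraMap_isUnit s
  have hloc' : KRLoc (I.map (algebraMap P (Localization.Away s)))
      (algebraMap P (Localization.Away s) h') := by
    rw [← hk]
    exact KRLoc.mul_right hloc _
  have hh' : h' ∉ 𝔭 := by
    intro hmem
    apply hh
    have := Ideal.mem_map_of_mem (algebraMap P (Localization.Away s)) hmem
    rw [← hk, Ideal.mul_unit_mem_iff_mem _ (hu.pow k)] at this
    exact this
  obtain ⟨l, hl, hspan⟩ := hloc'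
  rw [Ideal.map_map, ← IsScalarTower.algebraMap_eq] at hspan
  obtain ⟨l', hl', hspan'⟩ := exists_list_of_algEquiv
    (IsLocalization.algEquiv (Submonoid.powers (s * h'))
      (Localization.Away (algebraMap P (Localization.Away s) h'))
      (Localization.Away (s * h'))) I l hl hspan
  exact ⟨s * h', fun hmem => (h𝔭.mem_or_mem hmem).elim hs hh', l', hl', hspan'⟩

end Back

section D

variable {P B : Type u} [CommRing P] [CommRing B] [Algebra P B]

/-- **Going down along a flat, unramified, finitely presented map.** If `P → B ⧸ I` is surjective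
and `I` is a Koszul-regular ideal, then so is its contraction to `P`. -/
theorem krIdeal_comap [Module.Flat P B] [Algebra.FinitePresentation P B]
    [Algebra.FormallyUnramified P B] (I : Ideal B)
    (hsurj : Function.Surjective ((Ideal.Quotient.mk I).comp (algebraMap P B)))
    (hI : LCI.IsKoszulRegularIdeal I) :
    LCI.IsKoszulRegularIdeal (I.comap (algebraMap P B)) := by
  intro 𝔮 h𝔮
  set K : Ideal P := I.comap (algebraMap P B) with hK
  set χ : P →+* B ⧸ I := (Ideal.Quotient.mk I).comp (algebraMap P B) with hχ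
  have hkerχ : RingHom.ker χ = K := by
    rw [hχ, ← RingHom.comap_ker, Ideal.mk_ker]
  -- a prime of `B` over `𝔮` containing `I`
  haveI h𝔮C : (𝔮.asIdeal.map χ).IsPrime :=
    Ideal.map_isPrime_of_surjective hsurj (by rw [hkerχ]; exact h𝔮)
  let 𝔮' : PrimeSpectrum B := ⟨(𝔮.asIdeal.map χ).comap (Ideal.Quotient.mk I), inferInstance⟩
  have hI𝔮' : I ≤ 𝔮'.asIdeal := by
    intro x hx
    change Ideal.Quotient.mk I x ∈ 𝔮.asIdeal.map χ
    rw [Ideal.Quotient.eq_zero_iff_mem.2 hx]
    exact zero_mem _
  have h𝔮'comap : 𝔮'.asIdeal.comap (algebraMap P B) = 𝔮.asIdeal := by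
    change ((𝔮.asIdeal.map χ).comap (Ideal.Quotient.mk I)).comap (algebraMap P B) = _
    rw [Ideal.comap_comap, ← hχ, Ideal.comap_map_of_surjective χ hsurj, ← RingHom.ker_eq_comap_bot,
      hkerχ]
    exact sup_eq_left.2 h𝔮
  -- the idempotent-like element
  obtain ⟨e, he1, heI⟩ := SmoothSec.exists_idem I hsurj
  have he𝔮' : e ∉ 𝔮'.asIdeal := by
    intro hmem
    have h1 : e - 1 ∈ 𝔮'.asIdeal := hI𝔮' he1
    have : (1 : B) ∈ 𝔮'.asIdeal := by
      have := 𝔮'.asIdeal.sub_mem hmem h1
      simpa using this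
    exact 𝔮'.isPrime.ne_top ((Ideal.eq_top_iff_one _).2 this)
  obtain ⟨h₀, hh₀, hloc₀⟩ := hI 𝔮' hI𝔮'
  obtain ⟨r₁, hr₁⟩ := hsurj (Ideal.Quotient.mk I (h₀ * e))
  have hr₁I : algebraMap P B r₁ - h₀ * e ∈ I := by
    rw [← Ideal.Quotient.eq]
    exact hr₁
  have hr₁𝔮' : algebraMap P B r₁ ∉ 𝔮'.asIdeal := by
    intro hmem
    have h1 : h₀ * e ∈ 𝔮'.asIdeal := by
      have := 𝔮'.asIdeal.sub_mem hmem (hI𝔮' hr₁I)
      simpa using this
    exact (𝔮'.isPrime.mem_or_mem h1).elim hh₀ he𝔮'
  have hr₁𝔮 : r₁ ∉ 𝔮.asIdeal := by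
    intro hmem
    apply hr₁𝔮'
    rw [← h𝔮'comap] at hmem
    exact hmem
  -- the localizations
  obtain ⟨h₂, hh₂⟩ : ∃ h₂ : B, h₂ = h₀ * e * algebraMap P B r₁ := ⟨_, rfl⟩
  have hloc₀' : KRLoc I h₀ := hloc₀
  have hloc₂ : KRLoc I h₂ := hh₂ ▸ (hloc₀'.mul_right e).mul_right (algebraMap P B r₁)
  obtain ⟨l₂, hl₂, hspan₂⟩ := hloc₂
  let T := Localization.Away h₂
  let P' := Localization.Away r₁
  have hh₂unit : IsUnit (algebraMap B T h₂) := IsLocalization.Away.algebraMap_isUnit h₂
  have hprod : algebraMap B T h₂ = algebraMap B T (h₀ * e * algebraMap P B r₁) :=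
    congrArg _ hh₂
  have hh₂unit' : IsUnit (algebraMap B T h₀ * algebraMap B T e *
      algebraMap B T (algebraMap P B r₁)) := by
    rw [← map_mul, ← map_mul, ← hprod]
    exact hh₂unit
  have heunit : IsUnit (algebraMap B T e) :=
    isUnit_of_mul_isUnit_right (isUnit_of_mul_isUnit_left hh₂unit')
  have hu : IsUnit (algebraMap P T r₁) := by
    rw [IsScalarTower.algebraMap_apply P B T]
    exact isUnit_of_mul_isUnit_right hh₂unit'
  letI algP'T : Algebra P' T := (IsLocalization.Away.lift (S := P') r₁ hu).toAlgebra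
  haveI : IsScalarTower P P' T :=
    IsScalarTower.of_algebraMap_eq (fun a => (IsLocalization.Away.lift_eq r₁ hu a).symm)
  haveI : Module.Flat B T := IsLocalization.flat _ (Submonoid.powers h₂)
  haveI : Module.Flat P T := Module.Flat.trans P B T
  haveI : Module.Flat P' T :=
    (Module.flat_iff_of_isLocalization P' (Submonoid.powers r₁) T).2 inferInstance
  haveI : Algebra.FinitePresentation B T := IsLocalization.Away.finitePresentation h₂
  haveI : Algebra.FinitePresentation P T := Algebra.FinitePresentation.trans P B T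
  haveI : Algebra.FinitePresentation P P' := IsLocalization.Away.finitePresentation r₁
  haveI : Algebra.FinitePresentation P' T :=
    Algebra.FinitePresentation.of_restrict_scalars_finitePresentation P P' T
  set K' : Ideal P' := K.map (algebraMap P P') with hK'
  have hIT : I.map (algebraMap B T) = (K.map (algebraMap P B)).map (algebraMap B T) := by
    apply le_antisymm
    · rw [Ideal.map_le_iff_le_comap]
      intro x hx
      rw [Ideal.mem_comap]
      have h1 : algebraMap B T (x * e) ∈ (K.map (algebraMap P B)).map (algebraMap B T) :=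
        Ideal.mem_map_of_mem _ (heI x hx)
      rw [map_mul] at h1
      exact (Ideal.mul_unit_mem_iff_mem _ heunit).1 h1
    · exact Ideal.map_mono Ideal.map_comap_le
  have hK'T : K'.map (algebraMap P' T) = I.map (algebraMap B T) := by
    rw [hK', Ideal.map_map, ← IsScalarTower.algebraMap_eq, hIT, Ideal.map_map,
      ← IsScalarTower.algebraMap_eq]
  have hK'span : K'.map (algebraMap P' T) = Ideal.span {x | x ∈ l₂} := by
    rw [hK'T]
    exact hspan₂
  -- surjectivity onto the quotient
  have hρ : algebraMap P B (r₁ * r₁) - h₂ ∈ I := by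
    have : algebraMap P B (r₁ * r₁) - h₂ = (algebraMap P B r₁ - h₀ * e) * algebraMap P B r₁ := by
      rw [hh₂, map_mul]; ring
    rw [this]
    exact I.mul_mem_right _ hr₁I
  have hρn : ∀ n : ℕ, algebraMap P B ((r₁ * r₁) ^ n) - h₂ ^ n ∈ I := by
    intro n
    rw [map_pow, ← Ideal.Quotient.eq, map_pow, map_pow]
    congr 1
    exact Ideal.Quotient.eq.2 hρ
  have hsurj' : Function.Surjective
      ((Ideal.Quotient.mk (K'.map (algebraMap P' T))).comp (algebraMap P' T)) := by
    intro z
    obtain ⟨t, rfl⟩ := Ideal.Quotient.mk_surjective z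
    obtain ⟨n, b, hb⟩ := IsLocalization.Away.surj h₂ t
    obtain ⟨c, hc⟩ := hsurj (Ideal.Quotient.mk I b)
    have hcI : algebraMap P B c - b ∈ I := by
      rw [← Ideal.Quotient.eq]
      exact hc
    have hmem : (r₁ * r₁) ^ n ∈ Submonoid.powers r₁ := ⟨2 * n, by simp only [pow_mul, pow_two]⟩
    let p' : P' := IsLocalization.mk' P' c (⟨(r₁ * r₁) ^ n, hmem⟩ : Submonoid.powers r₁)
    refine ⟨p', ?_⟩
    set q := Ideal.Quotient.mk (K'.map (algebraMap P' T)) with hq
    have hqI : ∀ x ∈ I, q (algebraMap B T x) = 0 := by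
      intro x hx
      rw [hq, Ideal.Quotient.eq_zero_iff_mem, hK'T]
      exact Ideal.mem_map_of_mem _ hx
    have hqeq : ∀ x y : B, x - y ∈ I → q (algebraMap B T x) = q (algebraMap B T y) := by
      intro x y hxy
      have := hqI _ hxy
      rwa [map_sub, map_sub, sub_eq_zero] at this
    set u : T := algebraMap P T ((r₁ * r₁) ^ n) with hu'
    have huunit : IsUnit (q u) := by
      apply IsUnit.map
      rw [hu', map_pow, map_mul]
      exact (hu.mul hu).pow n
    have h1 : q (algebraMap P' T p') * q u = q (algebraMap P T c) := by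
      rw [← map_mul, hu', IsScalarTower.algebraMap_apply P P' T ((r₁ * r₁) ^ n), ← map_mul]
      have : p' * algebraMap P P' ((r₁ * r₁) ^ n) = algebraMap P P' c :=
        IsLocalization.mk'_spec P' c (⟨(r₁ * r₁) ^ n, hmem⟩ : Submonoid.powers r₁)
      rw [this, ← IsScalarTower.algebraMap_apply]
    have h2 : q t * q u = q (algebraMap P T c) := by
      rw [hu', IsScalarTower.algebraMap_apply P B T, IsScalarTower.algebraMap_apply P B T c,
        hqeq _ _ (hρn n), hqeq _ _ hcI, ← map_mul, map_pow, hb]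
    change q (algebraMap P' T p') = q t
    exact (huunit.mul_left_inj).1 (h1.trans h2.symm)
  -- the primes
  have hdisjP : Disjoint (Submonoid.powers r₁ : Set P) (𝔮.asIdeal : Set P) := by
    rwa [Ideal.disjoint_powers_iff_notMem_of_isPrime]
  have hprimeP : (𝔮.asIdeal.map (algebraMap P P')).IsPrime :=
    IsLocalization.isPrime_of_isPrime_disjoint (Submonoid.powers r₁) _ _ 𝔮.isPrime hdisjP
  have hh₂𝔮' : h₂ ∉ 𝔮'.asIdeal := by
    rw [hh₂]
    intro hmem
    rcases 𝔮'.isPrime.mem_or_mem hmem with h | h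
    · exact (𝔮'.isPrime.mem_or_mem h).elim hh₀ he𝔮'
    · exact hr₁𝔮' h
  have hdisjT : Disjoint (Submonoid.powers h₂ : Set B) (𝔮'.asIdeal : Set B) := by
    rwa [Ideal.disjoint_powers_iff_notMem_of_isPrime]
  have hprimeT : (𝔮'.asIdeal.map (algebraMap B T)).IsPrime :=
    IsLocalization.isPrime_of_isPrime_disjoint (Submonoid.powers h₂) _ _ 𝔮'.isPrime hdisjT
  let 𝔮P' : PrimeSpectrum P' := ⟨_, hprimeP⟩
  let 𝔮T : PrimeSpectrum T := ⟨_, hprimeT⟩
  have h𝔮T : 𝔮T.asIdeal.comap (algebraMap P' T) = 𝔮P'.asIdeal := by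
    change (𝔮'.asIdeal.map (algebraMap B T)).comap (algebraMap P' T) =
      𝔮.asIdeal.map (algebraMap P P')
    rw [← IsLocalization.map_under (Submonoid.powers r₁) P'
      ((𝔮'.asIdeal.map (algebraMap B T)).comap (algebraMap P' T)), Ideal.under_def,
      Ideal.comap_comap,
      ← IsScalarTower.algebraMap_eq, IsScalarTower.algebraMap_eq P B T, ← Ideal.comap_comap]
    have h : Ideal.comap (algebraMap B T) (Ideal.map (algebraMap B T) 𝔮'.asIdeal) = 𝔮'.asIdeal :=
      IsLocalization.under_map_of_isPrime_disjoint (Submonoid.powers h₂) T 𝔮'.isPrime hdisjT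
    rw [h, h𝔮'comap]
  have hK𝔮T : K'.map (algebraMap P' T) ≤ 𝔮T.asIdeal := by
    rw [hK'T]
    exact Ideal.map_mono hI𝔮'
  obtain ⟨r', hr', hloc'⟩ := krLoc_of_flat_nbhd K' l₂ hl₂ hK'span hsurj' 𝔮P' 𝔮T h𝔮T hK𝔮T
  exact krLoc_of_map_away K r₁ r' hloc' 𝔮.asIdeal hr₁𝔮 hr'

end D


section Coord

variable {B R₁ C : Type u} [CommRing B] [CommRing R₁] [CommRing C] (f₁ : R₁ →+* B) {n : ℕ}
  (g : MvPolynomial (Fin n) R₁ →+* B) (hg : g.comp MvPolynomial.C = f₁) (π : B →+* C)
  (hρ : Function.Surjective (π.comp f₁))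

include hg hρ in
/-- **Going down**: if `B` has étale coordinates over `R₁` and `ker (B → C)` is Koszul-regular,
then so is `ker (R₁ → C)`. -/
theorem krIdeal_base_of_ker (hget : g.Etale)
    (h : LCI.IsKoszulRegularIdeal (RingHom.ker π)) :
    LCI.IsKoszulRegularIdeal (RingHom.ker (π.comp f₁)) := by
  letI : Algebra (MvPolynomial (Fin n) R₁) B := g.toAlgebra
  haveI : Algebra.Etale (MvPolynomial (Fin n) R₁) B := hget
  obtain ⟨a, ha⟩ := SmoothSec.exists_comap_eq f₁ g hg π hρ
  have h1 := krIdeal_comap (P := MvPolynomial (Fin n) R₁) (RingHom.ker π)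
    (SmoothSec.surjective_mk_comp f₁ g hg π hρ) h
  have h2 : LCI.IsKoszulRegularIdeal ((RingHom.ker π).comap g) := h1
  rw [ha] at h2
  exact (isKoszulRegularIdeal_comap_eval n R₁ a _).1 h2

end Coord

end Groth.Agent.Lib.Seat40.SmoothDesc
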