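import Mathlib
import Groth.Prelude.Def_RegImm
import Groth.Agent.Lib.Seat40SmoothChart
import Groth.Agent.Lib.Seat40SmoothDesc

/-!
# Koszul-regular immersions and smooth morphisms (Seat 40)

For `p : X ⟶ S` smooth and immersions `i : Y ⟶ X`, `i ≫ p : Y ⟶ S`:
`i` is a Koszul-regular immersion iff `i ≫ p` is (`regularImmersion_iff`).
-/

set_option autoImplicit false
set_option linter.style.haveILetI false
universe u

namespace Groth.Agent.Lib.Seat40.SmoothIff

open CategoryTheory CategoryTheory.Limits AlgebraicGeometry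
open Groth.Agent.Lib.Seat40 Groth.Agent.Lib.Seat40.SmoothChart

variable {X Y S : Scheme.{u}}

/-- **Going down (scheme level).** -/
theorem regularImmersion_comp (p : X ⟶ S) [Smooth p] (i : Y ⟶ X) [IsImmersion (i ≫ p)]
    (hi : RegImm.IsRegularImmersion .koszul i) :
    RegImm.IsRegularImmersion .koszul (i ≫ p) := by
  haveI : IsImmersion i := hi.1
  refine ⟨inferInstance, fun y => ?_⟩
  obtain ⟨V, U, e, -, hyU, hpre, hclj, hcli, n, g, hg, hget⟩ :=
    exists_chart p i y ⊤ trivial
  have hKi := krIdeal_of_regularImmersion i hi U hcli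
  obtain ⟨ε, hε⟩ := exists_ringEquiv_comp p i V.1 U.1 e hpre
  have hsurjj := RegImmComp.app_surjective_of_restrict (i ≫ p) V.1 V.2 hclj
  have hρ : Function.Surjective ((i.app U.1).hom.comp (p.appLE V.1 U.1 e).hom) := by
    rw [hε]
    exact ε.surjective.comp hsurjj
  have hker : RingHom.ker ((i.app U.1).hom.comp (p.appLE V.1 U.1 e).hom) =
      RingHom.ker ((i ≫ p).app V.1).hom := by
    rw [hε]
    ext x
    rw [RingHom.mem_ker, RingHom.mem_ker, RingHom.comp_apply]
    exact map_eq_zero_iff ε ε.injective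
  have hKj := SmoothDesc.krIdeal_base_of_ker (p.appLE V.1 U.1 e).hom g hg (i.app U.1).hom hρ hget
    hKi
  rw [hker] at hKj
  have hyV : (i ≫ p) y ∈ V.1 := by
    have : y ∈ i ⁻¹ᵁ U.1 := hyU
    rw [hpre] at this
    exact this
  exact regularImmersionAt_of_krIdeal (i ≫ p) V hclj hKj y hyV

theorem regularImmersion_iff (p : X ⟶ S) [Smooth p] (i : Y ⟶ X) [IsImmersion i]
    [IsImmersion (i ≫ p)] :
    RegImm.IsRegularImmersion .koszul (i ≫ p) ↔ RegImm.IsRegularImmersion .koszul i :=
  ⟨regularImmersion_of_comp p i, regularImmersion_comp p i⟩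

end Groth.Agent.Lib.Seat40.SmoothIff
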