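import Groth.Agent.Lib.Seat31LciEtale
import Groth.Agent.S8657

set_option autoImplicit false
universe u
open CategoryTheory CategoryTheory.Limits AlgebraicGeometry

/-!
# Seat31: sections of smooth morphisms are lci; cancellation of smooth morphisms

* `isRegularImmersion_id`, `lciM_of_section_of_smooth`, `lciM_of_comp_smooth` (via S8657).
-/

namespace Groth.Agent.Lib.Seat31.LciHom

open Groth.Agent.Lib.Seat31.KR

/-- the identity is a Koszul-regular immersion. -/
theorem isRegularImmersion_id (X : Scheme.{u}) : RegImm.IsRegularImmersion .koszul (𝟙 X) := by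
  refine ⟨inferInstance, fun z => ?_⟩
  obtain ⟨U, hU, hzU, -⟩ := TopologicalSpace.Opens.isBasis_iff_nbhd.mp X.isBasis_affineOpens
    (TopologicalSpace.Opens.mem_top z)
  refine ⟨⟨U, hU⟩, hzU, inferInstance, [], kr_nil, ?_⟩
  ext x
  rw [RingHom.mem_ker]
  have h1 : ((𝟙 X : X ⟶ X).app U).hom x = x := by
    rw [Scheme.Hom.id_app]
    rfl
  rw [h1]
  simp only [Ideal.ofList, List.not_mem_nil, Set.ofPred_false, Ideal.span_empty, Ideal.mem_bot]
  exact Iff.rfl

/-- a section of a smooth morphism is an lci morphism. -/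
theorem lciM_of_section_of_smooth {W X : Scheme.{u}} (q : W ⟶ X) [Smooth q] (s : X ⟶ W)
    (hs : s ≫ q = 𝟙 X) : LciM s := by
  haveI : IsImmersion (s ≫ q) := by rw [hs]; infer_instance
  haveI : IsImmersion s := IsImmersion.of_comp s q
  exact lciM_of_regImm s ((Groth.Agent.S8657.result (𝟙 X) s q hs).1 (isRegularImmersion_id X))

/-- cancellation of a smooth morphism on the right. -/
theorem lciM_of_comp_smooth {U V V₀ : Scheme.{u}} (h : U ⟶ V) (b : V ⟶ V₀) [Smooth b]
    (hc : LciM (h ≫ b)) : LciM h := by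
  have hsq : IsPullback (pullback.fst (h ≫ b) b) (pullback.snd (h ≫ b) b) (h ≫ b) b :=
    IsPullback.of_hasPullback _ _
  have h1 : LciM (pullback.snd (h ≫ b) b) := lciM_of_isPullback_of_flat hsq hc
  let γ : U ⟶ pullback (h ≫ b) b := pullback.lift (𝟙 U) h (by simp)
  have hγ1 : γ ≫ pullback.fst (h ≫ b) b = 𝟙 U := pullback.lift_fst _ _ _
  have hγ2 : γ ≫ pullback.snd (h ≫ b) b = h := pullback.lift_snd _ _ _
  rw [← hγ2]
  exact lciM_comp (lciM_of_section_of_smooth (pullback.fst (h ≫ b) b) γ hγ1) h1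

end Groth.Agent.Lib.Seat31.LciHom
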