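import Mathlib
import Groth.Prelude.Def_DDual2

/-!
# Seat31: a complex on which `f` acts bijectively comes from `D(A_f)`

If `f ∈ A` acts bijectively on every term of a complex `K` of `A`-modules then `K` is isomorphic
to the restriction of scalars of the termwise localized complex `K_f`, a complex of `A_f`-modules.
-/

set_option autoImplicit false

universe u

open CategoryTheory CategoryTheory.Limits

attribute [local instance] HasDerivedCategory.standard

namespace Groth.Agent.Lib.Seat31.LocRes

variable {A : Type u} [CommRing A]

/-- if `f` acts bijectively on `M` then `id : M → M` is a localization at the powers of `f`. -/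
lemma isLocalizedModule_id_of_bijective (f : A) (M : Type u) [AddCommGroup M] [Module A M]
    (hf : Function.Bijective (fun x : M => f • x)) :
    IsLocalizedModule (Submonoid.powers f) (LinearMap.id : M →ₗ[A] M) where
  map_units := by
    rintro ⟨_, n, rfl⟩
    rw [map_pow]
    apply IsUnit.pow
    rw [Module.End.isUnit_iff]
    exact hf
  surj := fun y => ⟨(y, 1), by simp⟩
  exists_of_eq := fun h => ⟨1, by simpa using h⟩

/-- the localization map of a module on which `f` acts bijectively is bijective. -/
lemma bijective_mk (f : A) (M : ModuleCat.{u} A)
    (hf : Function.Bijective (fun x : M => f • x)) :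
    Function.Bijective (M.localizedModuleMkLinearMap (Submonoid.powers f)) := by
  have := isLocalizedModule_id_of_bijective f M hf
  have h : (M.localizedModuleMkLinearMap (Submonoid.powers f)) =
      ((IsLocalizedModule.linearEquiv (Submonoid.powers f) (LinearMap.id : M →ₗ[A] M)
        (M.localizedModuleMkLinearMap (Submonoid.powers f))).toLinearMap) := by
    apply LinearMap.ext
    intro x
    exact (IsLocalizedModule.linearEquiv_apply (Submonoid.powers f) (LinearMap.id : M →ₗ[A] M)
        (M.localizedModuleMkLinearMap (Submonoid.powers f)) x).symm
  rw [h]
  exact LinearEquiv.bijective _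


/-- the localization map as a morphism `M ⟶ (M_S)|_A`. -/
noncomputable def unitApp (S : Submonoid A) (M : ModuleCat.{u} A) :
    M ⟶ (ModuleCat.restrictScalars.{u} (algebraMap A (Localization S))).obj
      ((ModuleCat.localizedModuleFunctor S).obj M) :=
  ConcreteCategory.ofHom (C := ModuleCat.{u} A)
    ({ toFun := fun x => M.localizedModuleMkLinearMap S x
       map_add' := fun x y => map_add _ x y
       map_smul' := fun a x => by
        change M.localizedModuleMkLinearMap S (a • x) =
          (algebraMap A (Localization S) a) • (show M.localizedModule S from
            M.localizedModuleMkLinearMap S x)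
        rw [algebraMap_smul, map_smul] } :
      M →ₗ[A] ((ModuleCat.restrictScalars.{u} (algebraMap A (Localization S))).obj
        ((ModuleCat.localizedModuleFunctor S).obj M)))

lemma unitApp_apply (S : Submonoid A) (M : ModuleCat.{u} A) (x : M) :
    (unitApp S M).hom x = M.localizedModuleMkLinearMap S x := rfl

/-- the localization maps form a natural transformation. -/
noncomputable def unit (S : Submonoid A) :
    𝟭 (ModuleCat.{u} A) ⟶ ModuleCat.localizedModuleFunctor S ⋙
      ModuleCat.restrictScalars.{u} (algebraMap A (Localization S)) where
  app M := unitApp S M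
  naturality M N g := by
    apply ModuleCat.hom_ext
    apply LinearMap.ext
    intro x
    change N.localizedModuleMkLinearMap S (g.hom x) =
      (IsLocalizedModule.mapExtendScalars S (M.localizedModuleMkLinearMap S)
        (N.localizedModuleMkLinearMap S) (Localization S) g.hom)
        (M.localizedModuleMkLinearMap S x)
    rw [IsLocalizedModule.mapExtendScalars_apply_apply, IsLocalizedModule.map_apply]


open DerivedCategory

/-- the termwise localized complex. -/
noncomputable abbrev locCx (S : Submonoid A) (K : CochainComplex (ModuleCat.{u} A) ℤ) :
    CochainComplex (ModuleCat.{u} (Localization S)) ℤ :=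
  ((ModuleCat.localizedModuleFunctor S).mapHomologicalComplex (ComplexShape.up ℤ)).obj K

/-- the chain map `K ⟶ (K_S)|_A`. -/
noncomputable def unitCx (S : Submonoid A) (K : CochainComplex (ModuleCat.{u} A) ℤ) :
    K ⟶ ((ModuleCat.restrictScalars.{u} (algebraMap A (Localization S))).mapHomologicalComplex
      (ComplexShape.up ℤ)).obj (locCx S K) where
  f i := (unit S).app (K.X i)
  comm' i j _ := ((unit S).naturality (K.d i j)).symm

lemma isIso_unitCx (f : A) (K : CochainComplex (ModuleCat.{u} A) ℤ)
    (hK : ∀ i : ℤ, Function.Bijective (fun x : K.X i => f • x)) :
    IsIso (unitCx (Submonoid.powers f) K) := by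
  have : ∀ i, IsIso ((unitCx (Submonoid.powers f) K).f i) := fun i => by
    rw [ConcreteCategory.isIso_iff_bijective]
    exact bijective_mk f (K.X i) (hK i)
  exact HomologicalComplex.Hom.isIso_of_components _

/-- a complex on which `f` acts bijectively termwise is the restriction of an object of
`D(A_f)`. -/
theorem exists_iso_restrictD (f : A) (K : CochainComplex (ModuleCat.{u} A) ℤ)
    (hK : ∀ i : ℤ, Function.Bijective (fun x : K.X i => f • x)) :
    ∃ E : Dual.D (Localization.Away f),
      Nonempty (Q.obj K ≅ (DRing.restrictD (algebraMap A (Localization.Away f))).obj E) := by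
  have := isIso_unitCx f K hK
  exact ⟨Q.obj (locCx (Submonoid.powers f) K),
    ⟨Q.mapIso (asIso (unitCx (Submonoid.powers f) K)) ≪≫
      (((ModuleCat.restrictScalars.{u}
        (algebraMap A (Localization.Away f))).mapDerivedCategoryFactors).app _).symm⟩⟩

end Groth.Agent.Lib.Seat31.LocRes
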