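import Groth.Agent.Lib.Seat31NLGen
import Mathlib.RingTheory.Extension.Presentation.Basic

/-!
# Seat31: base change maps of the naive cotangent complex on `H^{-1}`

* `bcH1Map_surjective_of`: diagram chase.
* `bcH1Map_eq`: `NLCx.bcH1Map f` does not depend on `f`.
* `bcH1Map_comp`: compatibility with composition with a morphism of extensions of the target.
* for a cocartesian square and presentations on the same variables, the kernel of the
  base-changed presentation is generated by the kernel of the original one, and
  `S' ⊗ I/I² → I'/I'²` is surjective.
-/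

set_option autoImplicit false

universe u

open CategoryTheory CategoryTheory.Limits TensorProduct

namespace Groth.Agent.Lib.Seat31.NLBC

open Algebra Algebra.Extension

section General

variable {R S : Type u} [CommRing R] [CommRing S] [Algebra R S]
variable {R' S' : Type u} [CommRing R'] [CommRing S'] [Algebra R' S'] [Algebra R R'] [Algebra S S']
  [Algebra R S'] [IsScalarTower R R' S'] [IsScalarTower R S S']
variable {P : Extension.{u} R S} {P' : Extension.{u} R' S'}

/-- the square relating the tensored differential and the differential of the target. -/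
lemma cotangentComplex_comp_liftBaseChange (f : P.Hom P') :
    P'.cotangentComplex ∘ₗ LinearMap.liftBaseChange S' (Cotangent.map f) =
      LinearMap.liftBaseChange S' (CotangentSpace.map f) ∘ₗ P.cotangentComplex.baseChange S' := by
  ext y
  simpa using (CotangentSpace.map_cotangentComplex f y).symm

@[simp]
lemma bcH1Map_coe (f : P.Hom P') (x : NLCx.bcH1 P S') :
    (NLCx.bcH1Map f x).1 =
      LinearMap.liftBaseChange S' (Cotangent.map f) (x : S' ⊗[S] P.Cotangent) := rfl

/-- diagram chase: surjective in degree `-1` and injective in degree `0` gives surjective on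
`H^{-1}`. -/
theorem bcH1Map_surjective_of (f : P.Hom P')
    (h₀ : Function.Surjective (LinearMap.liftBaseChange S' (Cotangent.map f)))
    (h₁ : Function.Injective (LinearMap.liftBaseChange S' (CotangentSpace.map f))) :
    Function.Surjective (NLCx.bcH1Map (S' := S') f) := by
  intro z
  obtain ⟨w, hw⟩ := h₀ z.1
  have hz : P'.cotangentComplex z.1 = 0 := z.2
  have key := congr($(cotangentComplex_comp_liftBaseChange (S' := S') f) w)
  simp only [LinearMap.coe_comp, Function.comp_apply, hw, hz] at key
  have hw' : w ∈ NLCx.bcH1 P S' := by
    rw [NLCx.bcH1, LinearMap.mem_ker]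
    apply h₁
    rw [← key, map_zero]
  refine ⟨⟨w, hw'⟩, ?_⟩
  apply Extension.h1Cotangentι_ext
  exact hw

/-- `bcH1Map` does not depend on the morphism of extensions. -/
theorem bcH1Map_eq (f g : P.Hom P') : NLCx.bcH1Map (S' := S') f = NLCx.bcH1Map (S' := S') g := by
  apply LinearMap.ext
  intro x
  apply Extension.h1Cotangentι_ext
  rw [bcH1Map_coe, bcH1Map_coe, ← sub_eq_zero, ← LinearMap.sub_apply]
  have h1 : LinearMap.liftBaseChange S' (Cotangent.map f) -
      LinearMap.liftBaseChange S' (Cotangent.map g) =
      LinearMap.liftBaseChange S' (f.sub g) ∘ₗ P.cotangentComplex.baseChange S' := by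
    apply LinearMap.ext
    intro y
    induction y using TensorProduct.induction_on with
    | zero => simp
    | add a b ha hb => rw [map_add, map_add, ha, hb]
    | tmul s c =>
      have := congr($(Cotangent.map_sub_map f g) c)
      simp only [LinearMap.sub_apply, LinearMap.coe_comp, Function.comp_apply] at this
      simp only [LinearMap.sub_apply, LinearMap.liftBaseChange_tmul, LinearMap.coe_comp,
        Function.comp_apply, LinearMap.baseChange_tmul, ← smul_sub, this]
  rw [h1, LinearMap.comp_apply]
  have hx : P.cotangentComplex.baseChange S' (x : S' ⊗[S] P.Cotangent) = 0 := x.2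
  rw [hx, map_zero]

end General

section Comp

variable {R S : Type u} [CommRing R] [CommRing S] [Algebra R S]
variable {R' S' : Type u} [CommRing R'] [CommRing S'] [Algebra R' S'] [Algebra R R'] [Algebra S S']
  [Algebra R S'] [IsScalarTower R R' S'] [IsScalarTower R S S']
variable {P : Extension.{u} R S} {P' P'' : Extension.{u} R' S'}

/-- compatibility of `bcH1Map` with composition with a morphism of extensions of `S'` over `R'`. -/
theorem bcH1Map_comp (f : P.Hom P') (g : P'.Hom P'') (x : NLCx.bcH1 P S') :
    NLCx.bcH1Map (S' := S') (g.comp f) x = Extension.H1Cotangent.map g (NLCx.bcH1Map f x) := by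
  apply Extension.h1Cotangentι_ext
  rw [bcH1Map_coe]
  change _ = Cotangent.map g (NLCx.bcH1Map f x).1
  rw [bcH1Map_coe]
  generalize (x : S' ⊗[S] P.Cotangent) = y
  induction y using TensorProduct.induction_on with
  | zero => simp
  | add a b ha hb => simp only [map_add, ha, hb]
  | tmul s c =>
    simp only [LinearMap.liftBaseChange_tmul, map_smul]
    congr 1
    exact congr($(Cotangent.map_comp (f := f) (g := g)) c)

end Comp

end Groth.Agent.Lib.Seat31.NLBC
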