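import Groth.Agent.Lib.Seat31NLBC

/-!
# Seat31: changing the presentation of the source in `bcH1` / `bcH1Map`
-/

set_option autoImplicit false
set_option linter.unusedSectionVars false

universe u

open CategoryTheory CategoryTheory.Limits TensorProduct

namespace Groth.Agent.Lib.Seat31.NLBCSrc

open Algebra Algebra.Extension

variable {R S : Type u} [CommRing R] [CommRing S] [Algebra R S]
variable {R' S' : Type u} [CommRing R'] [CommRing S'] [Algebra R' S'] [Algebra R R'] [Algebra S S']
  [Algebra R S'] [IsScalarTower R R' S'] [IsScalarTower R S S']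
variable {P Q : Extension.{u} R S} {P' : Extension.{u} R' S'}

/-- the tensored differentials are compatible with a morphism of extensions of `S`. -/
lemma baseChange_comm (a : P.Hom Q) :
    Q.cotangentComplex.baseChange S' ∘ₗ (Cotangent.map a).baseChange S' =
      (CotangentSpace.map a).baseChange S' ∘ₗ P.cotangentComplex.baseChange S' := by
  rw [← LinearMap.baseChange_comp, ← LinearMap.baseChange_comp]
  congr 1
  apply LinearMap.ext
  intro x
  exact (CotangentSpace.map_cotangentComplex a x).symm

/-- the map `H^{-1}(NL(P) ⊗ S') → H^{-1}(NL(Q) ⊗ S')` induced by a morphism `P → Q` of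
extensions of `S` over `R`. -/
noncomputable def srcMap (a : P.Hom Q) : NLCx.bcH1 P S' →ₗ[S'] NLCx.bcH1 Q S' :=
  ((Cotangent.map a).baseChange S').restrict (p := NLCx.bcH1 P S') (q := NLCx.bcH1 Q S')
    (fun x hx => by
      simp only [NLCx.bcH1, LinearMap.mem_ker] at hx ⊢
      have := congr($(baseChange_comm (S' := S') a) x)
      simp only [LinearMap.coe_comp, Function.comp_apply, hx, map_zero] at this
      exact this)

@[simp]
lemma srcMap_coe (a : P.Hom Q) (x : NLCx.bcH1 P S') :
    (srcMap a x : S' ⊗[S] Q.Cotangent) =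
      (Cotangent.map a).baseChange S' (x : S' ⊗[S] P.Cotangent) := rfl

/-- `bcH1Map` of a composite with a morphism of extensions of the source. -/
theorem bcH1Map_srcMap (a : P.Hom Q) (g : Q.Hom P') (x : NLCx.bcH1 P S') :
    NLCx.bcH1Map (S' := S') g (srcMap a x) = NLCx.bcH1Map (S' := S') (g.comp a) x := by
  apply Extension.h1Cotangentι_ext
  rw [NLBC.bcH1Map_coe, NLBC.bcH1Map_coe, srcMap_coe]
  generalize (x : S' ⊗[S] P.Cotangent) = y
  induction y using TensorProduct.induction_on with
  | zero => simp
  | add a b ha hb => simp only [map_add, ha, hb]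
  | tmul s c =>
    simp only [LinearMap.baseChange_tmul, LinearMap.liftBaseChange_tmul]
    congr 1
    exact (congr($(Cotangent.map_comp (f := a) (g := g)) c)).symm

/-- `srcMap` of morphisms in both directions are mutually inverse. -/
theorem srcMap_srcMap (a : P.Hom Q) (b : Q.Hom P) (x : NLCx.bcH1 P S') :
    srcMap (S' := S') b (srcMap a x) = x := by
  apply Subtype.ext
  rw [srcMap_coe, srcMap_coe]
  have h1 := Cotangent.map_sub_map (b.comp a) (Hom.id P)
  rw [Cotangent.map_comp, Cotangent.map_id] at h1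
  have h2 : (Cotangent.map b).restrictScalars S ∘ₗ Cotangent.map a =
      LinearMap.id + ((b.comp a).sub (Hom.id P)) ∘ₗ P.cotangentComplex := by
    rw [← h1]; abel
  have h3 : (Cotangent.map b).baseChange S' ∘ₗ (Cotangent.map a).baseChange S' =
      LinearMap.id + (((b.comp a).sub (Hom.id P)).baseChange S') ∘ₗ
        P.cotangentComplex.baseChange S' := by
    rw [← LinearMap.baseChange_comp, ← LinearMap.baseChange_comp, ← LinearMap.baseChange_id,
      ← LinearMap.baseChange_add]
    congr 1
  have h4 := congr($h3 (x : S' ⊗[S] P.Cotangent))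
  have hx : P.cotangentComplex.baseChange S' (x : S' ⊗[S] P.Cotangent) = 0 := x.2
  simp only [LinearMap.coe_comp, Function.comp_apply, LinearMap.add_apply, LinearMap.id_coe,
    id_eq, hx, map_zero, add_zero] at h4
  exact h4

/-- the linear equivalence `H^{-1}(NL(P) ⊗ S') ≃ H^{-1}(NL(Q) ⊗ S')`. -/
noncomputable def srcEquiv (a : P.Hom Q) (b : Q.Hom P) :
    NLCx.bcH1 P S' ≃ₗ[S'] NLCx.bcH1 Q S' :=
  LinearEquiv.ofLinearMap (srcMap a) (srcMap b)
    (LinearMap.ext fun x => srcMap_srcMap b a x) (LinearMap.ext fun x => srcMap_srcMap a b x)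


section KerEquiv

variable {Q' : Extension.{u} R' S'}

/-- the kernel of `bcH1Map` does not depend on the presentations. -/
lemma bcH1Map_eq_zero_iff (a : P.Hom Q) (a' : P'.Hom Q') (b' : Q'.Hom P') (f : P.Hom P')
    (g : Q.Hom Q') (x : NLCx.bcH1 P S') :
    NLCx.bcH1Map (S' := S') f x = 0 ↔ NLCx.bcH1Map (S' := S') g (srcMap a x) = 0 := by
  have h1 : NLCx.bcH1Map (S' := S') g (srcMap a x) =
      Extension.H1Cotangent.map a' (NLCx.bcH1Map (S' := S') f x) := by
    rw [bcH1Map_srcMap, NLBC.bcH1Map_eq (g.comp a) (a'.comp f), NLBC.bcH1Map_comp]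
  rw [h1]
  constructor
  · intro h
    rw [h, map_zero]
  · intro h
    apply (Extension.H1Cotangent.equiv a' b').injective
    rw [map_zero]
    exact h

/-- the kernels of `bcH1Map` for two pairs of presentations are isomorphic. -/
noncomputable def kerEquiv (a : P.Hom Q) (b : Q.Hom P) (a' : P'.Hom Q') (b' : Q'.Hom P')
    (f : P.Hom P') (g : Q.Hom Q') :
    LinearMap.ker (NLCx.bcH1Map (S' := S') f) ≃ₗ[S'] LinearMap.ker (NLCx.bcH1Map (S' := S') g) :=
  LinearEquiv.ofLinearMap
    ((srcMap a).restrict (p := LinearMap.ker (NLCx.bcH1Map (S' := S') f))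
      (q := LinearMap.ker (NLCx.bcH1Map (S' := S') g)) (fun x hx => by
        rw [LinearMap.mem_ker] at hx ⊢
        exact (bcH1Map_eq_zero_iff a a' b' f g x).1 hx))
    ((srcMap b).restrict (p := LinearMap.ker (NLCx.bcH1Map (S' := S') g))
      (q := LinearMap.ker (NLCx.bcH1Map (S' := S') f)) (fun y hy => by
        rw [LinearMap.mem_ker] at hy ⊢
        rw [bcH1Map_eq_zero_iff a a' b' f g, srcMap_srcMap b a]
        exact hy))
    (LinearMap.ext fun y => Subtype.ext (srcMap_srcMap b a y.1))
    (LinearMap.ext fun x => Subtype.ext (srcMap_srcMap a b x.1))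

end KerEquiv

end Groth.Agent.Lib.Seat31.NLBCSrc
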