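import Groth.Agent.Lib.Seat31NLIso

/-!
# Seat31: the cotangent space map of `NLCx.sameVarsHom` is an isomorphism
-/

set_option autoImplicit false

universe u

open CategoryTheory CategoryTheory.Limits TensorProduct

namespace Groth.Agent.Lib.Seat31.NLGen

open Algebra Algebra.Extension

section

variable {R S : Type u} [CommRing R] [CommRing S] [Algebra R S]
variable {R' S' : Type u} [CommRing R'] [CommRing S'] [Algebra R' S'] [Algebra R R'] [Algebra S S']
  [Algebra R S'] [IsScalarTower R R' S'] [IsScalarTower R S S']
  {ι : Type u} (G : Algebra.Generators R S ι) (G' : Algebra.Generators R' S' ι)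
    (h : ∀ i, G'.val i = algebraMap S S' (G.val i))

set_option backward.isDefEq.respectTransparency false in
lemma sameVarsHom_toAlgHom_X (i : ι) :
    (NLCx.sameVarsHom G G' h).toExtensionHom.toAlgHom (MvPolynomial.X i) =
      (MvPolynomial.X i : MvPolynomial ι R') := by
  rw [Hom.toAlgHom_apply, Generators.Hom.toExtensionHom_toRingHom]
  exact Generators.Hom.toAlgHom_X _ i

set_option backward.isDefEq.respectTransparency false in
lemma cotangentSpace_map_basis (i : ι) :
    CotangentSpace.map (NLCx.sameVarsHom G G' h).toExtensionHom (G.cotangentSpaceBasis i) =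
      G'.cotangentSpaceBasis i := by
  rw [Generators.cotangentSpaceBasis_apply, Generators.cotangentSpaceBasis_apply]
  refine (CotangentSpace.map_tmul (NLCx.sameVarsHom G G' h).toExtensionHom 1
    (MvPolynomial.X i)).trans ?_
  rw [map_one, sameVarsHom_toAlgHom_X]
  rfl

/-- The `S'`-linear extension of the cotangent space map of `sameVarsHom` is bijective: it sends
the basis `1 ⊗ dXᵢ` to the basis `dXᵢ`. -/
theorem liftBaseChange_cotangentSpace_map_bijective :
    Function.Bijective (LinearMap.liftBaseChange S'
      (CotangentSpace.map (NLCx.sameVarsHom G G' h).toExtensionHom)) := by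
  let b : Module.Basis ι S' (S' ⊗[S] G.toExtension.CotangentSpace) :=
    G.cotangentSpaceBasis.baseChange S'
  let e : (S' ⊗[S] G.toExtension.CotangentSpace) ≃ₗ[S'] G'.toExtension.CotangentSpace :=
    b.equiv G'.cotangentSpaceBasis (Equiv.refl ι)
  have he : LinearMap.liftBaseChange S'
      (CotangentSpace.map (NLCx.sameVarsHom G G' h).toExtensionHom) = e.toLinearMap := by
    apply b.ext
    intro i
    have h1 : e (b i) = G'.cotangentSpaceBasis i := by
      simp only [e, Module.Basis.equiv_apply, Equiv.refl_apply]
    rw [LinearEquiv.coe_coe, h1]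
    simp only [b, Module.Basis.baseChange_apply, LinearMap.liftBaseChange_tmul, one_smul]
    rw [cotangentSpace_map_basis]
  rw [he]
  exact e.bijective

end

section SameTop

variable {R S : Type u} [CommRing R] [CommRing S] [Algebra R S]
variable {R' : Type u} [CommRing R'] [Algebra R' S] [Algebra R R'] [IsScalarTower R R' S]
  {ι : Type u} (G : Algebra.Generators R S ι) (G' : Algebra.Generators R' S ι)
    (h : ∀ i, G'.val i = algebraMap S S (G.val i))

/-- The cotangent space map of `sameVarsHom` over the identity of `S` is bijective. -/
theorem cotangentSpace_map_bijective :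
    Function.Bijective
      (CotangentSpace.map (NLCx.sameVarsHom (S' := S) G G' h).toExtensionHom) := by
  let e : G.toExtension.CotangentSpace ≃ₗ[S] G'.toExtension.CotangentSpace :=
    G.cotangentSpaceBasis.equiv G'.cotangentSpaceBasis (Equiv.refl ι)
  have he : CotangentSpace.map (NLCx.sameVarsHom (S' := S) G G' h).toExtensionHom =
      e.toLinearMap := by
    apply G.cotangentSpaceBasis.ext
    intro i
    simp only [e, LinearEquiv.coe_coe, Module.Basis.equiv_apply, Equiv.refl_apply]
    rw [cotangentSpace_map_basis]
  rw [he]
  exact e.bijective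

end SameTop

end Groth.Agent.Lib.Seat31.NLGen
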