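import Mathlib.RingTheory.Flat.Equalizer
import Groth.Agent.Lib.Seat31NLPush
import Groth.Agent.Lib.Seat31NLIso
import Groth.Agent.Lib.Seat31NLGen

/-!
# Seat31: base change of the naive cotangent complex along a cocartesian square with vanishing
`Tor_1` (flat base change, or base change of a flat algebra)
-/

set_option autoImplicit false

universe u

open CategoryTheory CategoryTheory.Limits TensorProduct

namespace Groth.Agent.Lib.Seat31.NLFlat

open Algebra Algebra.Extension

section

variable {R S : Type u} [CommRing R] [CommRing S] [Algebra R S]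
variable {R' S' : Type u} [CommRing R'] [CommRing S'] [Algebra R' S'] [Algebra R R'] [Algebra S S']
  [Algebra R S'] [IsScalarTower R R' S'] [IsScalarTower R S S']
  {ι : Type u} (G : Algebra.Generators R S ι) (G' : Algebra.Generators R' S' ι)
  (h : ∀ i, G'.val i = algebraMap S S' (G.val i))

/-- the `R`-linear map `I → S' ⊗[S] I/I²`, `y ↦ 1 ⊗ [y]`. -/
noncomputable def rho₀ : G.toExtension.ker →ₗ[R] S' ⊗[S] G.toExtension.Cotangent where
  toFun y := (1 : S') ⊗ₜ[S] Cotangent.mk y
  map_add' x y := by rw [map_add, TensorProduct.tmul_add]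
  map_smul' r y := by
    simp only [RingHom.id_apply]
    have h1 : Cotangent.mk (P := G.toExtension) (r • y) = algebraMap R S r • Cotangent.mk y := by
      rw [algebraMap_smul]
      rw [← algebraMap_smul G.toExtension.Ring r y, map_smul, algebraMap_smul]
    rw [h1, ← TensorProduct.smul_tmul, TensorProduct.smul_tmul']
    congr 1
    rw [Algebra.smul_def, mul_one, Algebra.smul_def, mul_one,
      ← IsScalarTower.algebraMap_apply]

/-- the `R'`-linear map `R' ⊗[R] I → S' ⊗[S] I/I²`. -/
noncomputable def rho : R' ⊗[R] G.toExtension.ker →ₗ[R'] S' ⊗[S] G.toExtension.Cotangent :=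
  LinearMap.liftBaseChange R' (rho₀ (S' := S') G)

lemma rho_tmul (r' : R') (y : G.toExtension.ker) :
    rho (S' := S') G (r' ⊗ₜ y) = r' • ((1 : S') ⊗ₜ[S] Cotangent.mk y) := by
  simp [rho, rho₀]

variable [Algebra.IsPushout R R' S S']

lemma rho_surjective : Function.Surjective (rho (R' := R') (S' := S') G) := by
  intro z
  induction z using TensorProduct.induction_on with
  | zero => exact ⟨0, map_zero _⟩
  | add a b ha hb =>
    obtain ⟨a', rfl⟩ := ha
    obtain ⟨b', rfl⟩ := hb
    exact ⟨a' + b', map_add _ _ _⟩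
  | tmul s' c =>
    obtain ⟨y, rfl⟩ := Cotangent.mk_surjective c
    have hbc : IsBaseChange R' (IsScalarTower.toAlgHom R S S').toLinearMap :=
      Algebra.IsPushout.out
    induction s' using hbc.inductionOn with
    | zero => exact ⟨0, by simp⟩
    | tmul s =>
      obtain ⟨p, rfl⟩ := G.toExtension.algebraMap_surjective s
      refine ⟨1 ⊗ₜ (p • y), ?_⟩
      rw [rho_tmul, one_smul, map_smul]
      simp only [AlgHom.toLinearMap_apply, IsScalarTower.coe_toAlgHom']
      rw [← algebraMap_smul S p (Cotangent.mk y), ← TensorProduct.smul_tmul]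
      congr 1
      rw [Algebra.smul_def, mul_one]
    | smul r' s' hs' =>
      obtain ⟨w, hw⟩ := hs'
      refine ⟨r' • w, ?_⟩
      rw [map_smul, hw, TensorProduct.smul_tmul']
    | add a b ha hb =>
      obtain ⟨a', ha'⟩ := ha
      obtain ⟨b', hb'⟩ := hb
      exact ⟨a' + b', by rw [map_add, ha', hb', TensorProduct.add_tmul]⟩

end

section

variable {R S : Type u} [CommRing R] [CommRing S] [Algebra R S]
variable {R' S' : Type u} [CommRing R'] [CommRing S'] [Algebra R' S'] [Algebra R R'] [Algebra S S']
  [Algebra R S'] [IsScalarTower R R' S'] [IsScalarTower R S S']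
  {ι : Type u} (G : Algebra.Generators R S ι) (G' : Algebra.Generators R' S' ι)
  (h : ∀ i, G'.val i = algebraMap S S' (G.val i))

/-- the `R'`-linear map `R' ⊗[R] P → P'`, `r' ⊗ p ↦ r' • p`. -/
noncomputable def alpha : R' ⊗[R] G.toExtension.Ring →ₗ[R'] G'.toExtension.Ring :=
  LinearMap.liftBaseChange R' (NLCx.sameVarsHom G G' h).toExtensionHom.toAlgHom.toLinearMap

lemma alpha_tmul (r' : R') (p : G.toExtension.Ring) :
    alpha G G' h (r' ⊗ₜ p) = r' • (NLCx.sameVarsHom G G' h).toExtensionHom.toRingHom p := by
  simp [alpha]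

set_option backward.isDefEq.respectTransparency false in
lemma alpha_eq (z : R' ⊗[R] MvPolynomial ι R) :
    alpha G G' h z = MvPolynomial.algebraTensorAlgEquiv R R' z := by
  induction z using TensorProduct.induction_on with
  | zero => simp
  | add a b ha hb => rw [map_add, map_add, ha, hb]
  | tmul r' p =>
    rw [MvPolynomial.algebraTensorAlgEquiv_tmul]
    refine (alpha_tmul G G' h r' p).trans ?_
    rw [NLPush.sameVarsHom_toRingHom]

set_option backward.isDefEq.respectTransparency false in
lemma alpha_bijective : Function.Bijective (alpha G G' h) := by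
  have : (alpha G G' h : R' ⊗[R] MvPolynomial ι R → MvPolynomial ι R') =
      (MvPolynomial.algebraTensorAlgEquiv (σ := ι) R R' :
        R' ⊗[R] MvPolynomial ι R → MvPolynomial ι R') := funext (alpha_eq G G' h)
  change Function.Bijective (alpha G G' h : R' ⊗[R] MvPolynomial ι R → MvPolynomial ι R')
  rw [this]
  exact (MvPolynomial.algebraTensorAlgEquiv R R').bijective

set_option backward.isDefEq.respectTransparency false in
lemma alpha_mul (a b : R' ⊗[R] G.toExtension.Ring) :
    alpha G G' h (a * b) = alpha G G' h a * alpha G G' h b := by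
  rw [alpha_eq, map_mul, ← alpha_eq G G' h, ← alpha_eq G G' h]

/-- the `R`-linear map `R' ⊗[R] I → P'`, `r' ⊗ y ↦ r' • y`. -/
noncomputable def mu : R' ⊗[R] G.toExtension.ker →ₗ[R] G'.toExtension.Ring :=
  (alpha G G' h).restrictScalars R ∘ₗ
    LinearMap.lTensor R' (G.toExtension.ker.subtype.restrictScalars R)

lemma mu_tmul (r' : R') (y : G.toExtension.ker) :
    mu G G' h (r' ⊗ₜ y) = r' • (NLCx.sameVarsHom G G' h).toExtensionHom.toRingHom y.1 := by
  simp [mu, alpha_tmul]

lemma mu_mem (w : R' ⊗[R] G.toExtension.ker) : mu G G' h w ∈ G'.toExtension.ker := by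
  induction w using TensorProduct.induction_on with
  | zero => rw [map_zero]; exact zero_mem _
  | add a b ha hb => rw [map_add]; exact add_mem ha hb
  | tmul r' y =>
    rw [mu_tmul]
    refine Submodule.smul_of_tower_mem _ r' ?_
    rw [RingHom.mem_ker, Extension.Hom.algebraMap_toRingHom,
      RingHom.mem_ker.mp y.2, map_zero]

lemma mu_injective
    (hinj : Function.Injective
      (LinearMap.lTensor R' (G.toExtension.ker.subtype.restrictScalars R))) :
    Function.Injective (mu G G' h) := by
  change Function.Injective ((alpha G G' h) ∘ _)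
  exact (alpha_bijective G G' h).1.comp hinj

lemma lift_rho (w : R' ⊗[R] G.toExtension.ker) :
    LinearMap.liftBaseChange S' (Cotangent.map (NLCx.sameVarsHom G G' h).toExtensionHom)
        (rho (S' := S') G w) =
      Cotangent.mk ⟨mu G G' h w, mu_mem G G' h w⟩ := by
  induction w using TensorProduct.induction_on with
  | zero =>
    have : (⟨mu G G' h 0, mu_mem G G' h 0⟩ : G'.toExtension.ker) = 0 :=
      Subtype.ext (map_zero _)
    rw [map_zero, map_zero, this, map_zero]
  | add a b ha hb =>
    have : (⟨mu G G' h (a + b), mu_mem G G' h (a + b)⟩ : G'.toExtension.ker) =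
        ⟨mu G G' h a, mu_mem G G' h a⟩ + ⟨mu G G' h b, mu_mem G G' h b⟩ :=
      Subtype.ext (map_add _ _ _)
    rw [map_add, map_add, ha, hb, this, map_add]
  | tmul r' y =>
    have : (⟨mu G G' h (r' ⊗ₜ y), mu_mem G G' h (r' ⊗ₜ y)⟩ : G'.toExtension.ker) =
        r' • ⟨(NLCx.sameVarsHom G G' h).toExtensionHom.toRingHom y.1, by
          rw [RingHom.mem_ker, Extension.Hom.algebraMap_toRingHom,
            RingHom.mem_ker.mp y.2, map_zero]⟩ :=
      Subtype.ext (mu_tmul G G' h r' y)
    rw [this, rho_tmul, ← algebraMap_smul S' r', map_smul, LinearMap.liftBaseChange_tmul,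
      one_smul, Cotangent.map_mk]
    have e1 : ∀ x : G'.toExtension.ker,
        Cotangent.mk (r' • x) = (algebraMap R' S' r') • Cotangent.mk x := by
      intro x
      rw [← algebraMap_smul G'.toExtension.Ring r' x, map_smul,
        ← algebraMap_smul S' (algebraMap R' G'.toExtension.Ring r'),
        ← IsScalarTower.algebraMap_apply]
    rw [e1]
    rfl

/-- the range of `R' ⊗[R] J → R' ⊗[R] P` is stable under multiplication. -/
lemma exists_lTensor_eq_mul (J : Ideal G.toExtension.Ring) (q : R' ⊗[R] G.toExtension.Ring)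
    (v : R' ⊗[R] J) :
    ∃ v' : R' ⊗[R] J, LinearMap.lTensor R' (J.subtype.restrictScalars R) v' =
      q * LinearMap.lTensor R' (J.subtype.restrictScalars R) v := by
  induction q using TensorProduct.induction_on with
  | zero => exact ⟨0, by rw [map_zero, zero_mul]⟩
  | add a b ha hb =>
    obtain ⟨a', ha'⟩ := ha
    obtain ⟨b', hb'⟩ := hb
    exact ⟨a' + b', by rw [map_add, ha', hb', add_mul]⟩
  | tmul r' p =>
    induction v using TensorProduct.induction_on with
    | zero => exact ⟨0, by rw [map_zero, mul_zero]⟩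
    | add a b ha hb =>
      obtain ⟨a', ha'⟩ := ha
      obtain ⟨b', hb'⟩ := hb
      exact ⟨a' + b', by rw [map_add, map_add, ha', hb', mul_add]⟩
    | tmul r'' j =>
      refine ⟨(r' * r'') ⊗ₜ ⟨p * j.1, J.mul_mem_left p j.2⟩, ?_⟩
      simp [Algebra.TensorProduct.tmul_mul_tmul]

lemma exists_of_mem_map (J : Ideal G.toExtension.Ring) (x : G'.toExtension.Ring)
    (hx : x ∈ Ideal.map (NLCx.sameVarsHom G G' h).toExtensionHom.toRingHom J) :
    ∃ v : R' ⊗[R] J,
      alpha G G' h (LinearMap.lTensor R' (J.subtype.restrictScalars R) v) = x := by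
  refine Submodule.span_induction (p := fun x _ => ∃ v : R' ⊗[R] J,
      alpha G G' h (LinearMap.lTensor R' (J.subtype.restrictScalars R) v) = x) ?_ ?_ ?_ ?_ hx
  · rintro _ ⟨j, hj, rfl⟩
    refine ⟨1 ⊗ₜ ⟨j, hj⟩, ?_⟩
    rw [LinearMap.lTensor_tmul]
    refine (alpha_tmul G G' h 1 _).trans ?_
    rw [one_smul]
    rfl
  · exact ⟨0, by rw [map_zero, map_zero]⟩
  · rintro a b - - ⟨a', rfl⟩ ⟨b', rfl⟩
    exact ⟨a' + b', by rw [map_add, map_add]⟩
  · rintro a b - ⟨b', rfl⟩
    obtain ⟨q, rfl⟩ := (alpha_bijective G G' h).2 a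
    obtain ⟨v', hv'⟩ := exists_lTensor_eq_mul G J q b'
    refine ⟨v', ?_⟩
    rw [hv', alpha_mul, smul_eq_mul]

variable [Algebra.IsPushout R R' S S']

include h in
lemma ker_eq_map : G'.toExtension.ker =
    Ideal.map (NLCx.sameVarsHom G G' h).toExtensionHom.toRingHom G.toExtension.ker := by
  have h1 := NLPush.ker_eq_map G G' h
  rw [← G.ker_eq_ker_aeval_val, ← G'.ker_eq_ker_aeval_val] at h1
  refine h1.trans ?_
  have : (MvPolynomial.map (algebraMap R R') : MvPolynomial ι R →+* MvPolynomial ι R') =
      (NLCx.sameVarsHom G G' h).toExtensionHom.toRingHom := by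
    apply RingHom.ext
    intro x
    exact (NLPush.sameVarsHom_toRingHom G G' h x).symm
  rw [this]
  rfl

omit [Algebra.IsPushout R R' S S'] in
lemma rho_lTensor_inclusion (v : R' ⊗[R] ↥(G.toExtension.ker ^ 2)) :
    rho (S' := S') G (LinearMap.lTensor R'
      ((Submodule.inclusion (Ideal.pow_le_self two_ne_zero)).restrictScalars R) v) = 0 := by
  induction v using TensorProduct.induction_on with
  | zero => rw [map_zero, map_zero]
  | add a b ha hb => rw [map_add, map_add, ha, hb, add_zero]
  | tmul r' j =>
    rw [LinearMap.lTensor_tmul, rho_tmul]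
    have : Cotangent.mk (P := G.toExtension)
        (((Submodule.inclusion (Ideal.pow_le_self two_ne_zero)).restrictScalars R) j) = 0 := by
      rw [Cotangent.mk_eq_zero_iff]
      exact j.2
    rw [this, TensorProduct.tmul_zero, smul_zero]

/-- For a cocartesian square with `R' ⊗[R] I → R' ⊗[R] P` injective (vanishing of
`Tor_1^R(R', S)`) and presentations on the same variables, `S' ⊗_S I/I² → I'/I'²` is
injective. -/
theorem liftBaseChange_cotangent_map_injective
    (hinj : Function.Injective
      (LinearMap.lTensor R' (G.toExtension.ker.subtype.restrictScalars R))) :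
    Function.Injective (LinearMap.liftBaseChange S'
      (Cotangent.map (NLCx.sameVarsHom G G' h).toExtensionHom)) := by
  rw [injective_iff_map_eq_zero]
  intro z hz
  obtain ⟨w, rfl⟩ := rho_surjective (R' := R') G z
  rw [lift_rho, Cotangent.mk_eq_zero_iff] at hz
  change mu G G' h w ∈ G'.toExtension.ker ^ 2 at hz
  rw [ker_eq_map G G' h, ← Ideal.map_pow] at hz
  obtain ⟨v, hv⟩ := exists_of_mem_map G G' h (G.toExtension.ker ^ 2) _ hz
  have hw : w = LinearMap.lTensor R'
      ((Submodule.inclusion (Ideal.pow_le_self two_ne_zero)).restrictScalars R) v := by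
    apply mu_injective G G' h hinj
    rw [← hv]
    change _ = alpha G G' h (LinearMap.lTensor R' _ (LinearMap.lTensor R' _ v))
    rw [← LinearMap.comp_apply (LinearMap.lTensor R' _) (LinearMap.lTensor R' _),
      ← LinearMap.lTensor_comp]
    rfl
  rw [hw, rho_lTensor_inclusion]

/-- For a cocartesian square with `R' ⊗[R] I → R' ⊗[R] P` injective and presentations on the
same variables, `NL(G) ⊗_S S' → NL(G')` is an isomorphism of complexes. -/
theorem isIso_bcMap_sameVars
    (hinj : Function.Injective
      (LinearMap.lTensor R' (G.toExtension.ker.subtype.restrictScalars R))) :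
    IsIso (NLCx.bcMap (S' := S') (NLCx.sameVarsHom G G' h).toExtensionHom) :=
  NLIso.isIso_bcMap _
    ⟨liftBaseChange_cotangent_map_injective G G' h hinj,
      NLPush.liftBaseChange_cotangent_map_surjective G G' h⟩
    (NLGen.liftBaseChange_cotangentSpace_map_bijective G G' h)

omit [Algebra.IsPushout R R' S S'] in
/-- the injectivity hypothesis holds when `R'` is flat over `R`. -/
lemma lTensor_injective_of_flat_base [Module.Flat R R'] :
    Function.Injective
      (LinearMap.lTensor R' (G.toExtension.ker.subtype.restrictScalars R)) :=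
  Module.Flat.lTensor_preserves_injective_linearMap _ (Subtype.val_injective)

omit [Algebra.IsPushout R R' S S'] in
/-- the injectivity hypothesis holds when `S` is flat over `R`. -/
lemma lTensor_injective_of_flat_algebra [Module.Flat R S] :
    Function.Injective
      (LinearMap.lTensor R' (G.toExtension.ker.subtype.restrictScalars R)) := by
  refine LinearMap.lTensor_injective_of_exact_of_flat
    (IsScalarTower.toAlgHom R G.toExtension.Ring S).toLinearMap
    G.toExtension.algebraMap_surjective _ Subtype.val_injective ?_ R'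
  intro x
  constructor
  · intro hx
    exact ⟨⟨x, hx⟩, rfl⟩
  · rintro ⟨y, rfl⟩
    exact y.2

end

end Groth.Agent.Lib.Seat31.NLFlat
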