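import Groth.Agent.Lib.Seat31NLIso
import Mathlib.RingTheory.MvPolynomial.Localization

/-!
# Seat31: the naive cotangent complex and localization of the base ring
-/

set_option autoImplicit false

universe u

open CategoryTheory CategoryTheory.Limits TensorProduct

namespace Groth.Agent.Lib.Seat31.NLLoc

open Algebra Algebra.Extension

section General

variable {R S : Type u} [CommRing R] [CommRing S] [Algebra R S]
variable {R' : Type u} [CommRing R'] [Algebra R' S] [Algebra R R'] [IsScalarTower R R' S]

/-- If the ring of `P'` is a localization of the ring of `P` at a submonoid whose elements become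
units in `S`, then `I/I² → I'/I'²` is bijective. -/
theorem cotangent_map_bijective_of_isLocalization {P : Extension.{u} R S} {P' : Extension.{u} R' S}
    (f : P.Hom P') [Algebra P.Ring P'.Ring]
    (hφ : ∀ x : P.Ring, algebraMap P.Ring P'.Ring x = f.toRingHom x)
    (N : Submonoid P.Ring) [IsLocalization N P'.Ring]
    (hunit : ∀ n ∈ N, IsUnit (algebraMap P.Ring S n)) :
    Function.Bijective (Cotangent.map f) := by
  have hcomp : ∀ x : P.Ring, algebraMap P'.Ring S (f.toRingHom x) = algebraMap P.Ring S x := by
    intro x
    have := f.algebraMap_toRingHom x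
    rw [Algebra.algebraMap_self, RingHom.id_apply] at this
    exact this
  -- elements of `N` act invertibly on cotangent modules
  have hact : ∀ n ∈ N, ∀ z : P.Cotangent, n • z = 0 → z = 0 := by
    intro n hn z hz
    obtain ⟨b, hb⟩ := (hunit n hn).exists_left_inv
    have h1 : (algebraMap P.Ring S n) • z = 0 := by
      rw [algebraMap_smul]; exact hz
    calc z = (b * algebraMap P.Ring S n) • z := by rw [hb, one_smul]
      _ = b • ((algebraMap P.Ring S n) • z) := by rw [mul_smul]
      _ = 0 := by rw [h1, smul_zero]
  constructor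
  · -- injectivity
    rw [injective_iff_map_eq_zero]
    intro x hx
    obtain ⟨⟨y, hy⟩, rfl⟩ := Cotangent.mk_surjective x
    rw [Cotangent.map_mk, Cotangent.mk_eq_zero_iff] at hx
    simp only [Hom.toAlgHom_apply] at hx
    -- `P'.ker = map P.ker`
    have hker : P'.ker = Ideal.map (algebraMap P.Ring P'.Ring) P.ker := by
      apply le_antisymm
      · intro y' hy'
        obtain ⟨⟨a, n⟩, ha⟩ := IsLocalization.surj N y'
        simp only at ha
        have ha' : a ∈ P.ker := by
          rw [Extension.ker, RingHom.mem_ker, ← hcomp a, ← hφ, ← ha, map_mul]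
          rw [Extension.ker, RingHom.mem_ker] at hy'
          rw [hy', zero_mul]
        rw [IsLocalization.mem_map_algebraMap_iff N]
        exact ⟨⟨⟨a, ha'⟩, n⟩, ha⟩
      · rw [Ideal.map_le_iff_le_comap]
        intro a ha
        rw [Ideal.mem_comap, Extension.ker, RingHom.mem_ker, hφ, hcomp]
        exact ha
    rw [hker, ← Ideal.map_pow, IsLocalization.mem_map_algebraMap_iff N] at hx
    obtain ⟨⟨⟨a, ha⟩, n⟩, han⟩ := hx
    simp only at han
    rw [← hφ, ← map_mul] at han
    obtain ⟨n', hn'⟩ := (IsLocalization.eq_iff_exists N P'.Ring).1 han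
    -- `n' * n * y = n' * a ∈ ker²`
    have h2 : ((n' : P.Ring) * (n : P.Ring)) • Cotangent.mk ⟨y, hy⟩ = (0 : P.Cotangent) := by
      rw [← map_smul, Cotangent.mk_eq_zero_iff]
      have : ((n' : P.Ring) * (n : P.Ring)) • (⟨y, hy⟩ : P.ker) =
          ⟨(n' : P.Ring) * a, Ideal.mul_mem_left _ _ (Ideal.pow_le_self two_ne_zero ha)⟩ := by
        ext
        simp only [SetLike.val_smul, smul_eq_mul]
        rw [← hn']; ring
      rw [this]
      exact Ideal.mul_mem_left _ _ ha
    exact hact _ (N.mul_mem n'.2 n.2) _ h2
  · -- surjectivity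
    intro x'
    obtain ⟨⟨y', hy'⟩, rfl⟩ := Cotangent.mk_surjective x'
    obtain ⟨⟨a, n⟩, ha⟩ := IsLocalization.surj N y'
    simp only at ha
    have ha' : a ∈ P.ker := by
      rw [Extension.ker, RingHom.mem_ker, ← hcomp a, ← hφ, ← ha, map_mul]
      rw [Extension.ker, RingHom.mem_ker] at hy'
      rw [hy', zero_mul]
    obtain ⟨b, hb⟩ := (hunit n n.2).exists_left_inv
    refine ⟨b • Cotangent.mk ⟨a, ha'⟩, ?_⟩
    rw [map_smul, Cotangent.map_mk]
    simp only [Hom.toAlgHom_apply]
    have h3 : (Cotangent.mk ⟨f.toRingHom a, by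
        rw [Extension.ker, RingHom.mem_ker, hcomp]; exact ha'⟩ : P'.Cotangent) =
        (algebraMap P.Ring S n) • Cotangent.mk ⟨y', hy'⟩ := by
      rw [← hcomp (n : P.Ring), algebraMap_smul, ← map_smul]
      congr 1
      ext
      simp only [SetLike.val_smul, smul_eq_mul]
      rw [← hφ, ← ha, hφ, mul_comm]
    rw [h3, ← mul_smul, hb, one_smul]

end General

section Generators

variable {A A' B : Type u} [CommRing A] [CommRing A'] [CommRing B]
  [Algebra A A'] (M : Submonoid A) [IsLocalization M A'] [Algebra A' B] [Algebra A B]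
  [IsScalarTower A A' B]
  {ι : Type u} (G : Algebra.Generators A B ι) (G' : Algebra.Generators A' B ι)
  (h : ∀ i, G'.val i = algebraMap B B (G.val i))

attribute [local instance] MvPolynomial.algebraMvPolynomial

lemma sameVarsHom_toRingHom (x : MvPolynomial ι A) :
    (NLCx.sameVarsHom (S' := B) G G' h).toExtensionHom.toRingHom x =
      MvPolynomial.map (algebraMap A A') x := by
  change (MvPolynomial.aeval (fun i => (MvPolynomial.X i : MvPolynomial ι A'))) x = _
  induction x using MvPolynomial.induction_on with
  | C a => simp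
  | add p q hp hq => simp [hp, hq]
  | mul_X p i hp => simp [hp]

include M in
theorem cotangent_map_bijective :
    Function.Bijective
      (Cotangent.map (NLCx.sameVarsHom (S' := B) G G' h).toExtensionHom) := by
  let alg : Algebra G.toExtension.Ring G'.toExtension.Ring :=
    (MvPolynomial.algebraMvPolynomial : Algebra (MvPolynomial ι A) (MvPolynomial ι A'))
  let N : Submonoid G.toExtension.Ring := M.map (MvPolynomial.C (σ := ι))
  have hN : @IsLocalization G.toExtension.Ring _ N G'.toExtension.Ring _ alg :=
    (MvPolynomial.isLocalization (σ := ι) M A')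
  refine @cotangent_map_bijective_of_isLocalization _ _ _ _ _ _ _ _ _ _ _ _
    (NLCx.sameVarsHom (S' := B) G G' h).toExtensionHom alg (fun x => ?_) N hN ?_
  · exact (sameVarsHom_toRingHom G G' h x).symm
  · rintro n ⟨m, hm, rfl⟩
    have : algebraMap G.toExtension.Ring B (MvPolynomial.C m) = algebraMap A B m := by
      change algebraMap G.Ring B (MvPolynomial.C m) = _
      rw [G.algebraMap_apply]
      simp
    change IsUnit (algebraMap G.toExtension.Ring B (MvPolynomial.C m))
    rw [this, IsScalarTower.algebraMap_apply A A' B]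
    exact (IsLocalization.map_units A' ⟨m, hm⟩).map _

end Generators

end Groth.Agent.Lib.Seat31.NLLoc
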