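import Mathlib
import Groth.Prelude.Def_RegImm
import Groth.Agent.Lib.Seat31FieldCIa
import Groth.Agent.Lib.Seat31FieldCIb
import Groth.Agent.Lib.Seat31FibrePres
import Groth.Agent.Lib.Seat31FibreLift
import Groth.Agent.Lib.Seat31LciFP
import Groth.Agent.Lib.Seat31KRPoly
import Groth.Agent.Lib.Helper5KoszulBC
import Groth.Agent.Lib.Helper19LciH1B
import Groth.Agent.Lib.Seat7FibDict
import Groth.Agent.S9269

/-!
# Seat31: syntomic ring maps are the flat lci ring maps

* `isKoszulRegularIdeal_fibre_of_isLCI`, `isLCI_fibre_of_isKoszulRegularIdeal`: for a presentation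
  `f : R[x_1..x_n] → S` with kernel `I` and a field `κ` over `R`, `κ ⊗[R] S` is lci over `κ` iff
  the extension of `I` to `R[x] ⊗[R] κ` is Koszul-regular;
* `isLCI_of_isSyntomic`: syntomic ⇒ lci;
* `isSyntomic_of_flat_of_isLCI`: flat + lci ⇒ syntomic.
-/

set_option autoImplicit false
set_option linter.style.haveILetI false

universe u

open TensorProduct

namespace Groth.Agent.Lib.Seat31.SyntFibre

open Groth.Agent.Lib.Seat31.FibrePres Groth.Agent.Lib.Seat31.KR Groth.Agent.Lib.Seat31.FieldCI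

section Equiv

variable (R : Type u) [CommRing R] (n : ℕ) (κ : Type u) [CommRing κ] [Algebra R κ]

/-- the ring isomorphism `R[x_1..x_n] ⊗[R] κ ≃ κ[x_1..x_n]`. -/
noncomputable def polyFibreEquiv :
    MvPolynomial (Fin n) R ⊗[R] κ ≃+* MvPolynomial (Fin n) κ :=
  ((Algebra.TensorProduct.comm R (MvPolynomial (Fin n) R) κ).trans
    ((MvPolynomial.algebraTensorAlgEquiv R κ).restrictScalars R)).toRingEquiv

lemma polyFibreEquiv_algebraMap (y : MvPolynomial (Fin n) R) :
    polyFibreEquiv R n κ (algebraMap _ (MvPolynomial (Fin n) R ⊗[R] κ) y) =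
      MvPolynomial.map (algebraMap R κ) y := by
  show MvPolynomial.algebraTensorAlgEquiv R κ
    ((Algebra.TensorProduct.comm R (MvPolynomial (Fin n) R) κ) (y ⊗ₜ[R] (1 : κ))) = _
  rw [Algebra.TensorProduct.comm_tmul, MvPolynomial.algebraTensorAlgEquiv_tmul, one_smul]

lemma map_comap_polyFibreEquiv (I : Ideal (MvPolynomial (Fin n) R)) :
    (I.map (MvPolynomial.map (algebraMap R κ))).comap
        (polyFibreEquiv R n κ : MvPolynomial (Fin n) R ⊗[R] κ →+* MvPolynomial (Fin n) κ) =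
      I.map (algebraMap _ (MvPolynomial (Fin n) R ⊗[R] κ)) := by
  have h : (MvPolynomial.map (algebraMap R κ) : MvPolynomial (Fin n) R →+* _) =
      (polyFibreEquiv R n κ : MvPolynomial (Fin n) R ⊗[R] κ →+* MvPolynomial (Fin n) κ).comp
        (algebraMap _ (MvPolynomial (Fin n) R ⊗[R] κ)) := by
    refine RingHom.ext (fun y => ?_)
    rw [RingHom.comp_apply]
    exact (polyFibreEquiv_algebraMap R n κ y).symm
  rw [h, ← Ideal.map_map]
  exact Ideal.comap_map_of_bijective _ (polyFibreEquiv R n κ).bijective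

end Equiv

section Fibre

variable {R S : Type u} [CommRing R] [CommRing S] [Algebra R S] {n : ℕ}
  (f : MvPolynomial (Fin n) R →ₐ[R] S) (hf : Function.Surjective f)
  (κ : Type u) [Field κ] [Algebra R κ]

include hf in
theorem isKoszulRegularIdeal_fibre_of_isLCI (h : LCI.IsLCI κ (κ ⊗[R] S)) :
    LCI.IsKoszulRegularIdeal ((RingHom.ker f.toRingHom).map
      (algebraMap _ (MvPolynomial (Fin n) R ⊗[R] κ))) := by
  obtain ⟨-, m, α, hα, hK⟩ := h
  have h1 := Groth.Agent.S9269.result κ (κ ⊗[R] S) m n α hα (fibPres κ f)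
    (fibPres_surjective κ f hf) hK
  rw [ker_fibPres κ f hf] at h1
  rw [← map_comap_polyFibreEquiv]
  exact (isKoszulRegularIdeal_comap_equiv (polyFibreEquiv R n κ) _).2 h1

include hf in
theorem isLCI_fibre_of_isKoszulRegularIdeal
    (h : LCI.IsKoszulRegularIdeal ((RingHom.ker f.toRingHom).map
      (algebraMap _ (MvPolynomial (Fin n) R ⊗[R] κ)))) :
    LCI.IsLCI κ (κ ⊗[R] S) := by
  have hsurj := fibPres_surjective κ f hf
  refine ⟨Algebra.FiniteType.of_surjective (fibPres κ f) hsurj, n, fibPres κ f, hsurj, ?_⟩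
  rw [ker_fibPres κ f hf]
  refine (isKoszulRegularIdeal_comap_equiv (polyFibreEquiv R n κ) _).1 ?_
  rw [map_comap_polyFibreEquiv]
  exact h

end Fibre

section Main

variable {R S : Type u} [CommRing R] [CommRing S] [Algebra R S]

/-- **syntomic ring maps are lci.** -/
theorem isLCI_of_isSyntomic (h : Synt.IsSyntomic R S) : LCI.IsLCI R S := by
  obtain ⟨hflat, hfp, hfib⟩ := h
  have hft : Algebra.FiniteType R S := inferInstance
  obtain ⟨n, f, hf⟩ := Algebra.FiniteType.iff_quotient_mvPolynomial''.1 hft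
  have hfg : (RingHom.ker f.toRingHom).FG :=
    Algebra.FinitePresentation.ker_fG_of_surjective f hf
  refine ⟨hft, n, f, hf, ?_⟩
  intro 𝔮 h𝔮
  haveI : Module.Flat R (MvPolynomial (Fin n) R ⧸ RingHom.ker f.toRingHom) :=
    Module.Flat.of_linearEquiv (Ideal.quotientKerAlgEquivOfSurjective hf).toLinearEquiv
  have hLCI : LCI.IsLCI (𝔮.asIdeal.comap (algebraMap R (MvPolynomial (Fin n) R))).ResidueField
      ((𝔮.asIdeal.comap (algebraMap R (MvPolynomial (Fin n) R))).ResidueField ⊗[R] S) :=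
    isLCI_of_isLCIOver _ (hfib ⟨𝔮.asIdeal.comap (algebraMap R (MvPolynomial (Fin n) R)),
      inferInstance⟩)
  have hKR := isKoszulRegularIdeal_fibre_of_isLCI f hf _ hLCI
  obtain ⟨Q, hQp, hQ⟩ := Groth.Agent.Lib.Seat7.FibDict.exists_fibre_prime (A := R) 𝔮.asIdeal
  haveI := hQp
  haveI : IsNoetherianRing (MvPolynomial (Fin n) R ⊗[R]
      (𝔮.asIdeal.comap (algebraMap R (MvPolynomial (Fin n) R))).ResidueField) :=
    Groth.Agent.Lib.Seat7.FibDict.isNoetherianRing_fibre _
  have hJQ : (RingHom.ker f.toRingHom).map (algebraMap _ (MvPolynomial (Fin n) R ⊗[R]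
      (𝔮.asIdeal.comap (algebraMap R (MvPolynomial (Fin n) R))).ResidueField)) ≤ Q := by
    rw [Ideal.map_le_iff_le_comap, hQ]
    exact h𝔮
  obtain ⟨c, g, hreg, hgen⟩ :=
    Groth.Agent.Lib.Helper19.LciH1.exists_local_regular _ hKR Q hJQ
  refine Groth.Agent.Lib.Seat31.FibreLift.exists_krLoc (RingHom.ker f.toRingHom) hfg 𝔮.asIdeal h𝔮
    Q hQ (List.ofFn g) hreg ?_
  rw [← hgen]
  unfold Ideal.ofList
  congr 1
  ext x
  exact List.mem_ofFn' g x

/-- **flat lci ring maps are syntomic.** -/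
theorem isSyntomic_of_flat_of_isLCI [Module.Flat R S] (h : LCI.IsLCI R S) :
    Synt.IsSyntomic R S := by
  refine ⟨inferInstance, Groth.Agent.Lib.Seat31.LciFP.finitePresentation_of_isLCI h, fun p => ?_⟩
  obtain ⟨-, n, f, hf, hK⟩ := h
  have hflat : Module.Flat R (MvPolynomial (Fin n) R ⧸ RingHom.ker f.toRingHom) :=
    Module.Flat.of_linearEquiv (Ideal.quotientKerAlgEquivOfSurjective hf).toLinearEquiv
  have hJ := Groth.Agent.Lib.Helper5.KoszulBC.koszulRegular_baseChange R (MvPolynomial (Fin n) R)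
    p.asIdeal.ResidueField (RingHom.ker f.toRingHom) hK hflat
  exact isLCIOver_of_isLCI _ (isLCI_fibre_of_isKoszulRegularIdeal f hf _ hJ)

end Main

end Groth.Agent.Lib.Seat31.SyntFibre
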