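import Mathlib
import Groth.Prelude.Def_LCI2
import Groth.Agent.Lib.Seat31FieldCIb
import Groth.Agent.Lib.Seat31SyntFibre
import Groth.Agent.Lib.Helper5KoszulBC
import Groth.Agent.Lib.Seat7FibDict

/-!
# Seat31: flat quasi-finite lci algebras are locally `A[x_1..x_n]/(f_1..f_n)`

* `exists_presentation_away_of_krLoc`: a presentation of `S_{α g₀}` with `l.length + 1` relations
  from a presentation `α` whose kernel is generated on `D(g₀)` by a list `l`;
* `cm_and_height_away`: for `T ≃ κ[x_1..x_N]`, `T_g` is Cohen–Macaulay with all maximal ideals of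
  height `N`;
* `length_eq_of_quasiFinite`: for a flat quasi-finite `A`-algebra `B = A[x_1..x_N]/I`, a Koszul-regular
  sequence generating `I` on `D(g₀)`, `g₀ ∉ q'`, `I ≤ q'`, has length exactly `N`;
* `exists_away_equiv`: the statement of S2237.
-/

set_option autoImplicit false
set_option linter.style.haveILetI false

universe u

open TensorProduct

namespace Groth.Agent.Lib.Seat31.QFinLci

open Groth.Agent.Lib.Helper28 Groth.Agent.Lib.Seat31.KR Groth.Agent.Lib.Seat31.LciHom
open Groth.Agent.Lib.Seat31.FieldCI Groth.Agent.Lib.Seat31.SyntFibre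

section Pres

variable {R S : Type u} [CommRing R] [CommRing S] [Algebra R S]

/-- a presentation of `S_{α g₀}` with `l.length + 1` relations. -/
theorem exists_presentation_away_of_krLoc {n : ℕ} (α : MvPolynomial (Fin n) R →ₐ[R] S)
    (hα : Function.Surjective α) (g₀ : MvPolynomial (Fin n) R)
    (l : List (Localization.Away g₀))
    (hspan : (RingHom.ker α.toRingHom).map (algebraMap _ (Localization.Away g₀)) =
      Ideal.span {x | x ∈ l}) :
    ∃ (β : MvPolynomial (Fin (n + 1)) R →ₐ[R] Localization.Away (α.toRingHom g₀))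
      (L : List (MvPolynomial (Fin (n + 1)) R)),
      Function.Surjective β ∧ L.length = l.length + 1 ∧
        RingHom.ker β.toRingHom = Ideal.span {x | x ∈ L} := by
  obtain ⟨β, hβ, hkerβ⟩ := exists_presentation_away α hα g₀
  obtain ⟨l', hl'⟩ := (List.map_surjective_iff.2 (awayPoly_surjective g₀)) l
  set fse : MvPolynomial (Fin (n + 1)) R ≃+* Polynomial (MvPolynomial (Fin n) R) :=
    (MvPolynomial.finSuccEquiv R n).toRingEquiv with hfse
  set L : List (MvPolynomial (Fin (n + 1)) R) :=
    fse.symm (Polynomial.C g₀ * Polynomial.X - 1) :: l'.map fse.symm with hL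
  have hLlen : L.length = l.length + 1 := by
    rw [hL, List.length_cons, List.length_map, ← hl', List.length_map]
  refine ⟨β, L, hβ, hLlen, ?_⟩
  rw [hkerβ, hspan]
  have h1 : Ideal.span {x | x ∈ l} = (Ideal.span {x | x ∈ l'}).map (awayPoly g₀) := by
    rw [span_map_list, hl']
  rw [h1, Ideal.comap_map_of_surjective _ (awayPoly_surjective g₀), ← RingHom.ker_eq_comap_bot,
    ker_awayPoly]
  have h2 : ∀ J : Ideal (Polynomial (MvPolynomial (Fin n) R)),
      J.comap (fse : MvPolynomial (Fin (n + 1)) R →+* _) =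
        J.map (fse.symm : Polynomial (MvPolynomial (Fin n) R) →+* _) := fun J =>
    (Ideal.map_symm fse).symm
  rw [h2, Ideal.map_sup, span_map_list, Ideal.map_span, Set.image_singleton, sup_comm,
    ← Ideal.span_union]
  congr 1
  ext x
  simp [hL]

end Pres

section CM

variable {κ : Type u} [Field κ] {T : Type u} [CommRing T]

/-- for `T ≃ κ[x_1..x_N]`, the localization `T_g` is Cohen–Macaulay with all maximal ideals of
height `N`. -/
theorem cm_and_height_away (N : ℕ) (e : T ≃+* MvPolynomial (Fin N) κ) (g : T) :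
    LocCoh.IsCohenMacaulayRing (Localization.Away g) ∧
      ∀ m : Ideal (Localization.Away g), m.IsMaximal → m.height = N := by
  have hk : LocCoh.IsCohenMacaulayRing κ := isCohenMacaulayRing_of_field κ
  have hS : LocCoh.IsCohenMacaulayRing (MvPolynomial (Fin N) κ) :=
    isCohenMacaulayRing_mvPolynomial_fin N
  have hT : LocCoh.IsCohenMacaulayRing T := isCohenMacaulayRing_of_ringEquiv e.symm
  have hJ : IsJacobsonRing T := (isJacobsonRing_iso e).2 inferInstance
  refine ⟨Groth.Agent.Lib.Helper5.TensorFieldsCM.isCohenMacaulayRing_of_isLocalization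
    (Submonoid.powers g) _, fun m hm => ?_⟩
  haveI := hm.isPrime
  have h1 := (IsLocalization.isMaximal_iff_isMaximal_disjoint (Localization.Away g) g m).1 hm
  rw [← IsLocalization.height_under (Submonoid.powers g) m]
  have hmax : ((m.under T).comap (e.symm : MvPolynomial (Fin N) κ →+* T)).IsMaximal :=
    Ideal.comap_isMaximal_of_surjective _ e.symm.surjective (K := m.under T) (H := h1.1)
  rw [← e.symm.height_comap (m.under T)]
  exact height_eq_of_isMaximal_mvPolynomial_fin κ N _ hmax

end CM

section Count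

variable {A B : Type u} [CommRing A] [CommRing B] [Algebra A B] [Module.Flat A B]
  [Algebra.QuasiFinite A B] {N : ℕ} (α : MvPolynomial (Fin N) A →ₐ[A] B)
  (hα : Function.Surjective α)

include hα in
/-- in relative dimension zero the number of local equations is the number of variables. -/
theorem length_eq_of_quasiFinite (q' : Ideal (MvPolynomial (Fin N) A)) [q'.IsPrime]
    (hq' : RingHom.ker α.toRingHom ≤ q') (g₀ : MvPolynomial (Fin N) A) (hg₀ : g₀ ∉ q')
    (l : List (Localization.Away g₀)) (hl : LCI.IsKoszulRegularSeq (Localization.Away g₀) l)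
    (hspan : (RingHom.ker α.toRingHom).map (algebraMap _ (Localization.Away g₀)) =
      Ideal.span {x | x ∈ l}) :
    l.length = N := by
  have hflat : Module.Flat A (MvPolynomial (Fin N) A ⧸ RingHom.ker α.toRingHom) :=
    Module.Flat.of_linearEquiv (Ideal.quotientKerAlgEquivOfSurjective hα).toLinearEquiv
  have hkr := Groth.Agent.Lib.Helper5.KoszulBC.koszulSeq_baseChange A (MvPolynomial (Fin N) A)
    (q'.comap (algebraMap A (MvPolynomial (Fin N) A))).ResidueField (RingHom.ker α.toRingHom)
    hflat g₀ l hl hspan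
  obtain ⟨hCM, hN⟩ := cm_and_height_away N
    (polyFibreEquiv A N (q'.comap (algebraMap A (MvPolynomial (Fin N) A))).ResidueField)
    (algebraMap (MvPolynomial (Fin N) A) (MvPolynomial (Fin N) A ⊗[A]
      (q'.comap (algebraMap A (MvPolynomial (Fin N) A))).ResidueField) g₀)
  set κ := (q'.comap (algebraMap A (MvPolynomial (Fin N) A))).ResidueField with hκ
  set T := MvPolynomial (Fin N) A ⊗[A] κ with hT
  set gb : T := algebraMap (MvPolynomial (Fin N) A) T g₀ with hgb
  set l' : List (Localization.Away gb) :=
    l.map (Localization.awayMap (algebraMap (MvPolynomial (Fin N) A) T) g₀) with hl'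
  have hofl : Ideal.ofList l' = ((RingHom.ker α.toRingHom).map
      (algebraMap (MvPolynomial (Fin N) A) T)).map (algebraMap T (Localization.Away gb)) := by
    rw [hl', ← Ideal.map_ofList, (show Ideal.ofList l = Ideal.span {x | x ∈ l} from rfl), ← hspan,
      Ideal.map_map, Ideal.map_map]
    congr 1
    exact IsLocalization.map_comp _
  -- properness
  obtain ⟨Q, hQp, hQ⟩ := Groth.Agent.Lib.Seat7.FibDict.exists_fibre_prime (A := A) q'
  have hne : Ideal.ofList l' ≠ ⊤ := by
    rw [hofl]
    intro htop
    have hIQ : (RingHom.ker α.toRingHom).map (algebraMap (MvPolynomial (Fin N) A) T) ≤ Q := by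
      rw [Ideal.map_le_iff_le_comap, hQ]
      exact hq'
    have hgQ : gb ∉ Q := fun h => hg₀ (by rw [← hQ]; exact h)
    have hdisj : Disjoint (Submonoid.powers gb : Set T) (Q : Set T) := by
      rw [Set.disjoint_left]
      rintro x ⟨k, rfl⟩ hx
      exact hgQ (hQp.mem_of_pow_mem k hx)
    have hQ' : (Q.map (algebraMap T (Localization.Away gb))).IsPrime :=
      IsLocalization.isPrime_of_isPrime_disjoint (Submonoid.powers gb) _ _ hQp hdisj
    have h1 := Ideal.map_mono (f := algebraMap T (Localization.Away gb)) hIQ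
    rw [htop] at h1
    exact hQ'.ne_top (top_le_iff.1 h1)
  obtain ⟨hcN, hdim⟩ := ringKrullDim_quotient_of_kr N hN l' hkr hne
  -- the quotient is a localization of the (Artinian) fibre ring
  let γ : T →ₐ[A] B ⊗[A] κ := Algebra.TensorProduct.map α (AlgHom.id A κ)
  have hγ : Function.Surjective γ :=
    Algebra.TensorProduct.map_surjective α (AlgHom.id A κ) hα Function.surjective_id
  have hkerγ : RingHom.ker γ.toRingHom = (RingHom.ker α.toRingHom).map
      (algebraMap (MvPolynomial (Fin N) A) T) :=
    Algebra.TensorProduct.rTensor_ker α hα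
  have hsurj := Groth.Agent.Lib.Seat31.LciPerf.awayMap_surjective γ.toRingHom hγ gb
  have hker := Groth.Agent.Lib.Seat31.LciPerf.ker_awayMap γ.toRingHom gb
  rw [hkerγ, ← hofl] at hker
  haveI : IsArtinianRing (B ⊗[A] κ) :=
    (Algebra.TensorProduct.comm A κ B).toRingEquiv.isArtinianRing
  haveI : IsArtinianRing (Localization.Away (γ.toRingHom gb)) := inferInstance
  have e : (Localization.Away gb ⧸ Ideal.ofList l') ≃+* Localization.Away (γ.toRingHom gb) :=
    (Ideal.quotientEquivAlgOfEq (Localization.Away gb) hker.symm).toRingEquiv.trans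
      (RingHom.quotientKerEquivOfSurjective hsurj)
  haveI hnt : Nontrivial (Localization.Away gb ⧸ Ideal.ofList l') :=
    Ideal.Quotient.nontrivial_iff.2 hne
  haveI : Nontrivial (Localization.Away (γ.toRingHom gb)) := e.injective.nontrivial
  have h0 : ringKrullDim (Localization.Away gb ⧸ Ideal.ofList l') = 0 := by
    rw [ringKrullDim_eq_of_ringEquiv e]
    exact ringKrullDimZero_iff_ringKrullDim_eq_zero.mp inferInstance
  rw [h0, hl', List.length_map] at hdim
  rw [hl', List.length_map] at hcN
  have h2 : ((0 : ℕ) : WithBot ℕ∞) = ((N - l.length : ℕ) : WithBot ℕ∞) := by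
    rw [← hdim]; rfl
  have h3 : (0 : ℕ) = N - l.length := by exact_mod_cast h2
  omega

end Count

section Main

variable {A B : Type u} [CommRing A] [CommRing B] [Algebra A B] [Module.Flat A B]
  [Algebra.QuasiFinite A B]

/-- **S2237**: a flat quasi-finite lci algebra is locally `A[x_1..x_n]/(f_1..f_n)`. -/
theorem exists_away_equiv (hlci : LCI.IsLCI A B) (q : Ideal B) [q.IsPrime] :
    ∃ g : B, g ∉ q ∧ ∃ (n : ℕ) (f : Fin n → MvPolynomial (Fin n) A),
      Nonempty (Localization.Away g ≃ₐ[A]
        (MvPolynomial (Fin n) A ⧸ Ideal.span (Set.range f))) := by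
  obtain ⟨-, N, α, hα, hK⟩ := hlci
  have hle : RingHom.ker α.toRingHom ≤ q.comap α.toRingHom := by
    intro x hx
    rw [Ideal.mem_comap, (RingHom.mem_ker).1 hx]
    exact q.zero_mem
  obtain ⟨g₀, hg₀, l, hl, hspan⟩ := hK ⟨q.comap α.toRingHom, inferInstance⟩ hle
  have hlen := length_eq_of_quasiFinite α hα (q.comap α.toRingHom) hle g₀ hg₀ l hl hspan
  obtain ⟨β, L, hβ, hLlen, hkerβ⟩ := exists_presentation_away_of_krLoc α hα g₀ l hspan
  have hLN : L.length = N + 1 := by rw [hLlen, hlen]
  refine ⟨α.toRingHom g₀, hg₀, N + 1, fun i => L.get (Fin.cast hLN.symm i), ⟨?_⟩⟩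
  have hrange : Ideal.span (Set.range fun i => L.get (Fin.cast hLN.symm i)) =
      RingHom.ker β.toRingHom := by
    rw [hkerβ]
    congr 1
    ext x
    constructor
    · rintro ⟨i, rfl⟩
      exact List.get_mem _ _
    · intro hx
      obtain ⟨i, rfl⟩ := List.get_of_mem hx
      exact ⟨Fin.cast hLN i, by simp⟩
  exact ((Ideal.quotientEquivAlgOfEq A hrange).trans
    (Ideal.quotientKerAlgEquivOfSurjective hβ)).symm

end Main

end Groth.Agent.Lib.Seat31.QFinLci
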