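import Groth.Agent.Lib.Seat31RGamma

/-!
# Seat31: `RΓ_I` vanishes on complexes on which some `f ∈ I` acts invertibly
-/

set_option autoImplicit false
universe u
open CategoryTheory CategoryTheory.Limits
attribute [local instance] HasDerivedCategory.standard

namespace Groth.Agent.Lib.Seat31.RGamma
open DerivedCategory Groth.Agent.Lib.Helper17.KInj

variable {A : Type u} [CommRing A] (I : Ideal A)

lemma smul_id_f_apply (J : CochainComplex (ModuleCat.{u} A) ℤ) (f : A) (q : ℤ) (x : J.X q) :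
    ((f • 𝟙 J : J ⟶ J).f q).hom x = f • x := by
  simp

/-- key induction: a torsion cycle killed by a power of `f` is the boundary of a torsion
element, when multiplication by `f` has a left homotopy inverse. -/
theorem exists_torsion_preimage (J : CochainComplex (ModuleCat.{u} A) ℤ) (f : A)
    (g : J ⟶ J) (h : Homotopy ((f • 𝟙 J) ≫ g) (𝟙 J)) (q : ℤ) :
    ∀ (n : ℕ) (x : J.X q), x ∈ DRing.torsionSub I (J.X q) → (J.d q (q + 1)).hom x = 0 →
      f ^ n • x = 0 →
      ∃ y : J.X (q - 1), y ∈ DRing.torsionSub I (J.X (q - 1)) ∧ (J.d (q - 1) q).hom y = x := by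
  intro n
  induction n with
  | zero =>
    intro x _ _ hx
    refine ⟨0, Submodule.zero_mem _, ?_⟩
    rw [map_zero]
    simpa using hx.symm
  | succ n ih =>
    intro x hxt hxd hx
    obtain ⟨y', hy't, hy'⟩ := ih (f • x) (Submodule.smul_mem _ _ hxt)
      (by rw [map_smul, hxd, smul_zero]) (by rw [smul_smul, ← pow_succ]; exact hx)
    have hc := h.comm q
    rw [dNext_eq h.hom (show (ComplexShape.up ℤ).Rel q (q + 1) from rfl),
      prevD_eq h.hom (show (ComplexShape.up ℤ).Rel (q - 1) q by simp)] at hc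
    have hc' := congrArg (fun ψ => ψ.hom x) hc
    simp only [HomologicalComplex.comp_f, ModuleCat.hom_comp, LinearMap.comp_apply,
      ModuleCat.hom_add, LinearMap.add_apply, HomologicalComplex.id_f, ModuleCat.hom_id,
      LinearMap.id_apply, smul_id_f_apply, hxd, map_zero, zero_add] at hc'
    refine ⟨(g.f (q - 1)).hom y' - (h.hom q (q - 1)).hom x,
      Submodule.sub_mem _ (DRing.map_mem_torsionSub I _ hy't) (DRing.map_mem_torsionSub I _ hxt), ?_⟩
    rw [map_sub]
    have hg := congrArg (fun ψ => ψ.hom y') (g.comm (q - 1) q)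
    simp only [ModuleCat.hom_comp, LinearMap.comp_apply] at hg
    rw [hg, hy', hc']
    abel

end Groth.Agent.Lib.Seat31.RGamma

namespace Groth.Agent.Lib.Seat31.RGamma
open DerivedCategory Groth.Agent.Lib.Helper17.KInj Groth.Agent.Lib.Helper1.Tor

variable {A : Type u} [CommRing A] (I : Ideal A)

/-- `Γ_I J` is acyclic when multiplication by some `f ∈ I` on `J` has a left homotopy inverse. -/
theorem exactAt_gammaCx (J : CochainComplex (ModuleCat.{u} A) ℤ) (f : A) (hf : f ∈ I)
    (g : J ⟶ J) (h : Homotopy ((f • 𝟙 J) ≫ g) (𝟙 J)) (q : ℤ) :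
    ((gammaCx I).obj J).ExactAt q := by
  rw [exactAt_iff_fexact _ (q - 1) q (q + 1) (by lia) rfl]
  intro x
  constructor
  · intro hx
    obtain ⟨n, hn⟩ := x.2
    have hx' : (J.d q (q + 1)).hom x.1 = 0 := congrArg Subtype.val hx
    obtain ⟨y, hyt, hy⟩ := exists_torsion_preimage I J f g h q n x.1 x.2 hx'
      (hn _ (Ideal.pow_mem_pow hf n))
    exact ⟨⟨y, hyt⟩, Subtype.ext hy⟩
  · rintro ⟨y, rfl⟩
    have := ((gammaCx I).obj J).d_comp_d (q - 1) q (q + 1)
    exact congrArg (fun ψ => ψ.hom y) this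

end Groth.Agent.Lib.Seat31.RGamma

namespace Groth.Agent.Lib.Seat31.RGamma
open DerivedCategory Groth.Agent.Lib.Helper17.KInj Groth.Agent.Lib.Helper1.Tor

variable {A : Type u} [CommRing A] (I : Ideal A)

/-- `RΓ_I(K) = 0` when some `f ∈ I` acts bijectively on every term of `K`. -/
theorem isZero_RgammaI_of_smul_bijective [DRing.HasRgammaI I]
    (K : CochainComplex (ModuleCat.{u} A) ℤ) (f : A) (hf : f ∈ I)
    (hK : ∀ n : ℤ, Function.Bijective (fun x : K.X n => f • x)) :
    IsZero ((DRing.RgammaI I).obj (Q.obj K)) := by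
  obtain ⟨J, φ, hJ, hφ, -, ⟨e⟩⟩ := exists_iso I K
  have hfK : IsIso (f • 𝟙 K : K ⟶ K) := by
    have : ∀ n, IsIso ((f • 𝟙 K : K ⟶ K).f n) := fun n => by
      rw [ConcreteCategory.isIso_iff_bijective]
      convert hK n using 1
      funext x
      exact smul_id_f_apply K f n x
    exact HomologicalComplex.Hom.isIso_of_components _
  have hcomm : φ ≫ (f • 𝟙 J : J ⟶ J) = (f • 𝟙 K : K ⟶ K) ≫ φ := by
    rw [Linear.comp_smul, Linear.smul_comp, Category.comp_id, Category.id_comp]
  have hq : QuasiIso (φ ≫ (f • 𝟙 J : J ⟶ J)) := by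
    rw [hcomm]
    infer_instance
  have hfJ : QuasiIso (f • 𝟙 J : J ⟶ J) := quasiIso_of_comp_left φ _
  obtain ⟨e', he'⟩ := homotopyEquiv_of_quasiIso (f • 𝟙 J : J ⟶ J)
  have h := e'.homotopyHomInvId
  rw [he'] at h
  exact (isZero_Q_of_exactAt _ (exactAt_gammaCx I J f hf e'.inv h)).of_iso e

end Groth.Agent.Lib.Seat31.RGamma
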