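import Mathlib
import Groth.Prelude.Def_RegImm
import Groth.Agent.Lib.Seat31QFinLci

/-!
# Seat31: flat lci algebras are locally relative global complete intersections

* `ringKrullDim_fibre_away`: for a flat `A`-algebra `B = A[x_1..x_N]/I` with `I` generated on `D(g₀)`
  by a Koszul-regular sequence of length `c`, every nonzero fibre ring `κ ⊗[A] B_{g₀}` has dimension
  `N - c`;
* `exists_away_isRelGCI`: a flat lci algebra is, locally on its spectrum, a relative global complete
  intersection (`Synt.IsRelGCI`).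
-/

set_option autoImplicit false
set_option linter.style.haveILetI false

universe u

open TensorProduct

namespace Groth.Agent.Lib.Seat31.SyntRelGCI

open Groth.Agent.Lib.Helper28 Groth.Agent.Lib.Seat31.KR Groth.Agent.Lib.Seat31.LciHom
open Groth.Agent.Lib.Seat31.FieldCI Groth.Agent.Lib.Seat31.SyntFibre
open Groth.Agent.Lib.Seat31.QFinLci

lemma exists_awayMap_of_eq {P B : Type u} [CommRing P] [CommRing B] (φ : P →+* B)
    (hφ : Function.Surjective φ) (g : P) (h : B) (hh : φ g = h) :
    ∃ ψ : Localization.Away g →+* Localization.Away h, Function.Surjective ψ ∧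
      RingHom.ker ψ = (RingHom.ker φ).map (algebraMap P (Localization.Away g)) := by
  subst hh
  exact ⟨Localization.awayMap φ g, Groth.Agent.Lib.Seat31.LciPerf.awayMap_surjective φ hφ g,
    Groth.Agent.Lib.Seat31.LciPerf.ker_awayMap φ g⟩

section FibreDim

variable {A B : Type u} [CommRing A] [CommRing B] [Algebra A B] [Module.Flat A B]
  {N : ℕ} (α : MvPolynomial (Fin N) A →ₐ[A] B) (hα : Function.Surjective α)

include hα in
/-- the nonzero fibre rings of `B_{g₀}` have dimension `N - c`. -/
theorem ringKrullDim_fibre_away (g₀ : MvPolynomial (Fin N) A)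
    (l : List (Localization.Away g₀)) (hl : LCI.IsKoszulRegularSeq (Localization.Away g₀) l)
    (hspan : (RingHom.ker α.toRingHom).map (algebraMap _ (Localization.Away g₀)) =
      Ideal.span {x | x ∈ l})
    (κ : Type u) [Field κ] [Algebra A κ]
    [hnt : Nontrivial (κ ⊗[A] Localization.Away (α.toRingHom g₀))] :
    l.length ≤ N ∧ ringKrullDim (κ ⊗[A] Localization.Away (α.toRingHom g₀)) =
      ((N - l.length : ℕ) : WithBot ℕ∞) := by
  have hflat : Module.Flat A (MvPolynomial (Fin N) A ⧸ RingHom.ker α.toRingHom) :=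
    Module.Flat.of_linearEquiv (Ideal.quotientKerAlgEquivOfSurjective hα).toLinearEquiv
  have hkr := Groth.Agent.Lib.Helper5.KoszulBC.koszulSeq_baseChange A (MvPolynomial (Fin N) A)
    κ (RingHom.ker α.toRingHom) hflat g₀ l hl hspan
  obtain ⟨hCM, hN⟩ := cm_and_height_away N (polyFibreEquiv A N κ)
    (algebraMap (MvPolynomial (Fin N) A) (MvPolynomial (Fin N) A ⊗[A] κ) g₀)
  set T := MvPolynomial (Fin N) A ⊗[A] κ with hT
  set gb : T := algebraMap (MvPolynomial (Fin N) A) T g₀ with hgb
  set l' : List (Localization.Away gb) :=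
    l.map (Localization.awayMap (algebraMap (MvPolynomial (Fin N) A) T) g₀) with hl'
  have hofl : Ideal.ofList l' = ((RingHom.ker α.toRingHom).map
      (algebraMap (MvPolynomial (Fin N) A) T)).map (algebraMap T (Localization.Away gb)) := by
    rw [hl', ← Ideal.map_ofList, (show Ideal.ofList l = Ideal.span {x | x ∈ l} from rfl), ← hspan,
      Ideal.map_map, Ideal.map_map]
    congr 1
    exact IsLocalization.map_comp _
  -- the fibre presentation
  let γ : T →ₐ[A] κ ⊗[A] B :=
    (Algebra.TensorProduct.comm A B κ).toAlgHom.comp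
      (Algebra.TensorProduct.map α (AlgHom.id A κ))
  have hγ : Function.Surjective γ :=
    (Algebra.TensorProduct.comm A B κ).surjective.comp
      (Algebra.TensorProduct.map_surjective α (AlgHom.id A κ) hα Function.surjective_id)
  have hkerγ : RingHom.ker γ.toRingHom = (RingHom.ker α.toRingHom).map
      (algebraMap (MvPolynomial (Fin N) A) T) := by
    have h0 : RingHom.ker (Algebra.TensorProduct.map α (AlgHom.id A κ)).toRingHom =
        (RingHom.ker α.toRingHom).map (algebraMap (MvPolynomial (Fin N) A) T) :=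
      Algebra.TensorProduct.rTensor_ker α hα
    rw [← h0]
    ext x
    simp only [RingHom.mem_ker]
    show (Algebra.TensorProduct.comm A B κ) (Algebra.TensorProduct.map α (AlgHom.id A κ) x) = 0 ↔
      Algebra.TensorProduct.map α (AlgHom.id A κ) x = 0
    exact EmbeddingLike.map_eq_zero_iff
  have hγg : γ.toRingHom gb = (1 : κ) ⊗ₜ[A] α.toRingHom g₀ := by
    show (Algebra.TensorProduct.comm A B κ)
      (Algebra.TensorProduct.map α (AlgHom.id A κ) (g₀ ⊗ₜ[A] (1 : κ))) = _
    rw [Algebra.TensorProduct.map_tmul, Algebra.TensorProduct.comm_tmul]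
    rfl
  obtain ⟨ψ, hψs, hψk⟩ := exists_awayMap_of_eq γ.toRingHom hγ gb _ hγg
  rw [hkerγ, ← hofl] at hψk
  let e1 : (Localization.Away gb ⧸ Ideal.ofList l') ≃+*
      Localization.Away ((1 : κ) ⊗ₜ[A] α.toRingHom g₀) :=
    (Ideal.quotientEquivAlgOfEq (Localization.Away gb) hψk.symm).toRingEquiv.trans
      (RingHom.quotientKerEquivOfSurjective hψs)
  let e2 : κ ⊗[A] Localization.Away (α.toRingHom g₀) ≃ₐ[κ]
      Localization.Away ((1 : κ) ⊗ₜ[A] α.toRingHom g₀) :=
    IsLocalization.Away.tensorProductEquivTMulRight A κ (α.toRingHom g₀)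
      (Localization.Away (α.toRingHom g₀))
  let e : (Localization.Away gb ⧸ Ideal.ofList l') ≃+*
      κ ⊗[A] Localization.Away (α.toRingHom g₀) := e1.trans e2.symm.toRingEquiv
  have hne : Ideal.ofList l' ≠ ⊤ := by
    haveI : Nontrivial (Localization.Away gb ⧸ Ideal.ofList l') := e.symm.injective.nontrivial
    exact Ideal.Quotient.nontrivial_iff.1 this
  obtain ⟨hcN, hdim⟩ := ringKrullDim_quotient_of_kr N hN l' hkr hne
  rw [hl', List.length_map] at hcN hdim
  refine ⟨hcN, ?_⟩
  rw [← ringKrullDim_eq_of_ringEquiv e, ← hdim]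

end FibreDim

section Main

variable {A B : Type u} [CommRing A] [CommRing B] [Algebra A B] [Module.Flat A B]

/-- **a flat lci algebra is locally a relative global complete intersection.** -/
theorem exists_away_isRelGCI (hlci : LCI.IsLCI A B) (q : Ideal B) [q.IsPrime] :
    ∃ g : B, g ∉ q ∧ ∃ (n c : ℕ) (F : Fin c → MvPolynomial (Fin n) A), Synt.IsRelGCI A n c F ∧
      Nonempty (Localization.Away g ≃ₐ[A] Synt.RelGCIRing A n c F) := by
  obtain ⟨-, N, α, hα, hK⟩ := hlci
  have hle : RingHom.ker α.toRingHom ≤ q.comap α.toRingHom := by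
    intro x hx
    rw [Ideal.mem_comap, (RingHom.mem_ker).1 hx]
    exact q.zero_mem
  obtain ⟨g₀, hg₀, l, hl, hspan⟩ := hK ⟨q.comap α.toRingHom, inferInstance⟩ hle
  obtain ⟨β, L, hβ, hLlen, hkerβ⟩ := exists_presentation_away_of_krLoc α hα g₀ l hspan
  have hrange : Ideal.span (Set.range L.get) = RingHom.ker β.toRingHom := by
    rw [hkerβ, Set.range_list_get]
  let E : Localization.Away (α.toRingHom g₀) ≃ₐ[A] Synt.RelGCIRing A (N + 1) L.length L.get :=
    ((Ideal.quotientEquivAlgOfEq A hrange).trans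
      (Ideal.quotientKerAlgEquivOfSurjective hβ)).symm
  refine ⟨α.toRingHom g₀, hg₀, N + 1, L.length, L.get, ?_, ⟨E⟩⟩
  intro p' hnt
  let Eκ : p'.asIdeal.ResidueField ⊗[A] Localization.Away (α.toRingHom g₀) ≃ₐ[A]
      p'.asIdeal.ResidueField ⊗[A] Synt.RelGCIRing A (N + 1) L.length L.get :=
    Algebra.TensorProduct.congr AlgEquiv.refl E
  haveI : Nontrivial (p'.asIdeal.ResidueField ⊗[A] Localization.Away (α.toRingHom g₀)) :=
    Eκ.symm.injective.nontrivial
  obtain ⟨h1, h2⟩ := ringKrullDim_fibre_away α hα g₀ l hl hspan p'.asIdeal.ResidueField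
  refine ⟨by omega, ?_⟩
  rw [← ringKrullDim_eq_of_ringEquiv Eκ.toRingEquiv, h2, hLlen, Nat.add_sub_add_right]

end Main

end Groth.Agent.Lib.Seat31.SyntRelGCI
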