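import Mathlib
import Groth.Agent.Lib.Seat56RelGCI4

/-!
# Relative global complete intersections are syntomic (helper56)

* `flat_of_forall_prime_localizedModule`: flatness over `A` of a `C`-module can be tested at the
  primes of `C`.
* `flat_of_isRelGCI`: a relative global complete intersection is flat over the base.
* `isSyntomic_of_isRelGCI` (Stacks 00SW).
-/

set_option autoImplicit false
set_option linter.style.haveILetI false

universe u

namespace Groth.Agent.Lib.Seat56.RelGCI

open TensorProduct RingTheory.Sequence Groth.Agent.Lib.Helper28 Groth.Agent.Lib.Helper3.FlatLoc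

section FlatLocal

/-- Flatness over `A` of a `C`-module can be tested at the primes of `C`. -/
theorem flat_of_forall_prime_localizedModule {A C M : Type*} [CommRing A] [CommRing C]
    [Algebra A C] [AddCommGroup M] [Module A M] [Module C M] [IsScalarTower A C M]
    (h : ∀ (r : Ideal C) [r.IsPrime], Module.Flat A (LocalizedModule r.primeCompl M)) :
    Module.Flat A M := by
  rw [Module.Flat.iff_lTensor_injective']
  intro I
  rw [injective_iff_map_eq_zero]
  intro z hz
  by_contra hne
  have hT : Ideal.torsionOf C (M ⊗[A] I) z ≠ ⊤ := by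
    intro htop
    apply hne
    have h1 : (1 : C) ∈ Ideal.torsionOf C (M ⊗[A] I) z := htop ▸ Submodule.mem_top
    rw [Ideal.mem_torsionOf_iff, one_smul] at h1
    exact h1
  obtain ⟨r, hr, hle⟩ := Ideal.exists_le_maximal _ hT
  haveI := hr.isPrime
  have hfl := h r
  rw [flat_localizedModule_iff' (R := A) (S := C)] at hfl
  obtain ⟨s, hs, hsz⟩ := hfl I z hz
  exact hs (hle ((Ideal.mem_torsionOf_iff _ _).mpr hsz))

end FlatLocal

section Flat

variable {R : Type u} [CommRing R] {n c : ℕ} {F : Fin c → MvPolynomial (Fin n) R}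

/-- A relative global complete intersection is flat over the base. -/
theorem flat_of_isRelGCI (h : Synt.IsRelGCI R n c F) :
    Module.Flat R (Synt.RelGCIRing R n c F) := by
  set I := Ideal.span (Set.range F) with hI
  apply flat_of_forall_prime_localizedModule (C := MvPolynomial (Fin n) R)
  intro q' hq'
  by_cases hle : I ≤ q'
  · have hfib := isRegular_localizedModule_fibre h q' hle
    have hflat : Module.Flat R (LocalizedModule q'.primeCompl (MvPolynomial (Fin n) R)) :=
      Groth.Agent.Lib.Helper3.FlatLoc.flat_localizedModule_of_flat q'.primeCompl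
    obtain ⟨-, h2⟩ := Groth.Agent.Lib.Seat56.FibReg.isRegular_and_flat_quotients_of_isRegular_fibre
      q' (List.ofFn F) (MvPolynomial (Fin n) R) hflat hfib
    have h3 := h2 c (by simp)
    have htake : (List.ofFn F).take c = List.ofFn F := by
      apply List.take_of_length_le
      simp
    rw [htake, Groth.Agent.Lib.Seat56.RegSyz.ofList_ofFn] at h3
    let e₀ : (MvPolynomial (Fin n) R ⧸ (I • (⊤ : Submodule (MvPolynomial (Fin n) R)
        (MvPolynomial (Fin n) R)))) ≃ₗ[MvPolynomial (Fin n) R] MvPolynomial (Fin n) R ⧸ I :=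
      Submodule.quotEquivOfEq _ _ (by rw [smul_eq_mul, Ideal.mul_top])
    exact Module.Flat.of_linearEquiv
      ((Groth.Agent.Lib.Seat56.FibReg.localizedModuleCongr q'.primeCompl e₀).symm.restrictScalars R)
  · obtain ⟨x, hxI, hxq⟩ := SetLike.not_le_iff_exists.mp hle
    haveI : Subsingleton (LocalizedModule q'.primeCompl (Synt.RelGCIRing R n c F)) := by
      rw [LocalizedModule.subsingleton_iff]
      intro m
      refine ⟨x, hxq, ?_⟩
      obtain ⟨m, rfl⟩ := Ideal.Quotient.mk_surjective m
      change x • (Ideal.Quotient.mk I m) = 0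
      rw [← Ideal.Quotient.mk_eq_mk, ← Submodule.Quotient.mk_smul,
        Submodule.Quotient.mk_eq_zero, smul_eq_mul]
      exact I.mul_mem_right _ hxI
    infer_instance

end Flat

section Syntomic

variable {R : Type u} [CommRing R] {n c : ℕ} {F : Fin c → MvPolynomial (Fin n) R}

/-- The fibres of a relative global complete intersection are global complete intersections. -/
theorem isGlobalCI_away_one_fibre (h : Synt.IsRelGCI R n c F) (p : PrimeSpectrum R)
    [Nontrivial (p.asIdeal.Fiber (Synt.RelGCIRing R n c F))] :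
    Synt.IsGlobalCI p.asIdeal.ResidueField
      (Localization.Away (1 : p.asIdeal.Fiber (Synt.RelGCIRing R n c F))) := by
  set κ := p.asIdeal.ResidueField with hκ
  set I := Ideal.span (Set.range F) with hI
  set T := p.asIdeal.Fiber (Synt.RelGCIRing R n c F) with hT
  set φ₀ := MvPolynomial.map (σ := Fin n) (algebraMap R κ) with hφ₀
  obtain ⟨hcn, hdim⟩ := h p inferInstance
  have hmap : I.map φ₀ =
      (I.map (Algebra.TensorProduct.includeRight :
          MvPolynomial (Fin n) R →ₐ[R] κ ⊗[R] MvPolynomial (Fin n) R).toRingHom).map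
        ((MvPolynomial.algebraTensorAlgEquiv (σ := Fin n) R κ).toRingEquiv :
          κ ⊗[R] MvPolynomial (Fin n) R →+* MvPolynomial (Fin n) κ) := by
    rw [Ideal.map_map]
    congr 1
    apply RingHom.ext
    intro x
    change _ = MvPolynomial.algebraTensorAlgEquiv R κ (1 ⊗ₜ[R] x)
    rw [MvPolynomial.algebraTensorAlgEquiv_tmul, one_smul]
  let E : T ≃ₐ[κ] MvPolynomial (Fin n) κ ⧸ I.map φ₀ :=
    (Algebra.TensorProduct.tensorQuotientEquiv (R := R) κ (MvPolynomial (Fin n) R) κ I).trans
      (Ideal.quotientEquivAlg _ _ (MvPolynomial.algebraTensorAlgEquiv R κ) hmap)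
  let A : T ≃ₐ[T] Localization.Away (1 : T) :=
    IsLocalization.atUnits T (Submonoid.powers (1 : T)) (by
      rintro _ ⟨k, rfl⟩
      rw [IsUnit.mem_submonoid_iff]
      exact isUnit_one.pow k)
  let Aκ : T ≃ₐ[κ] Localization.Away (1 : T) := A.restrictScalars κ
  let φ : MvPolynomial (Fin n) κ →ₐ[κ] Localization.Away (1 : T) :=
    Aκ.toAlgHom.comp (E.symm.toAlgHom.comp (Ideal.Quotient.mkₐ κ (I.map φ₀)))
  right
  refine ⟨n, c, hcn, φ, fun i => φ₀ (F i), ?_, ?_, ?_⟩
  · exact Aκ.surjective.comp (E.symm.surjective.comp (Ideal.Quotient.mkₐ_surjective κ _))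
  · have hspan : Ideal.span (Set.range fun i => φ₀ (F i)) = I.map φ₀ := by
      rw [hI, Ideal.map_span]
      congr 1
      ext x
      simp
    rw [hspan]
    ext x
    rw [RingHom.mem_ker]
    change Aκ (E.symm (Ideal.Quotient.mk (I.map φ₀) x)) = 0 ↔ _
    rw [map_eq_zero_iff _ Aκ.injective, map_eq_zero_iff _ E.symm.injective,
      Ideal.Quotient.eq_zero_iff_mem]
  · have hA : ringKrullDim T = ringKrullDim (Localization.Away (1 : T)) :=
      ringKrullDim_eq_of_ringEquiv A.toRingEquiv
    rw [← hA]
    exact hdim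

/-- **Stacks 00SW**: a relative global complete intersection is syntomic. -/
theorem isSyntomic_of_isRelGCI (h : Synt.IsRelGCI R n c F) :
    Synt.IsSyntomic R (Synt.RelGCIRing R n c F) := by
  refine ⟨flat_of_isRelGCI h, ?_, ?_⟩
  · exact Algebra.FinitePresentation.quotient (Submodule.fg_span (Set.finite_range F))
  · intro p
    refine ⟨inferInstance, fun 𝔭 => ⟨1, fun h1 => 𝔭.2.ne_top ((Ideal.eq_top_iff_one _).mpr h1), ?_⟩⟩
    haveI : Nontrivial (p.asIdeal.Fiber (Synt.RelGCIRing R n c F)) :=
      PrimeSpectrum.nonempty_iff_nontrivial.mp ⟨𝔭⟩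
    exact isGlobalCI_away_one_fibre h p

end Syntomic

end Groth.Agent.Lib.Seat56.RelGCI
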