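import Mathlib
import Groth.Agent.S9287
import Groth.Agent.Lib.Seat31LciBridge
import Groth.Agent.Lib.Seat56RelGCI5
import Groth.Agent.Lib.Seat31SyntRelGCI

/-!
# Seat31StdSynt: standard syntomic neighbourhoods

* `resLE_iff_appLE`, `resLE_of_resLE`, `appLE_of_appLE`: for a property of scheme morphisms induced
  by a local ring-hom property, moving between affine pairs around a point.
* `isSyntomic_appLE_of_isStandardSyntomic`: a standard syntomic `f.resLE V U` gives a syntomic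
  ring map `Γ(S,V) → Γ(X,U)`.
* `exists_isStandardSyntomic`: where `Γ(S,V) → Γ(X,U₁)` is flat + lci, some basic open
  neighbourhood of `x` in `U₁` is standard syntomic over `V`.
* `isSyntomicAt_iff`: S9364.
-/

set_option autoImplicit false
set_option linter.style.haveILetI false
universe u

open AlgebraicGeometry CategoryTheory

namespace Groth.Agent.Lib.Seat31.StdSynt

section Generic

variable {P : MorphismProperty Scheme.{u}}
  {Q : ∀ {R S : Type u} [CommRing R] [CommRing S], (R →+* S) → Prop} [HasRingHomProperty P Q]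

theorem resLE_iff_appLE {X Y : Scheme.{u}} (f : X ⟶ Y) (U : Y.affineOpens) (V : X.affineOpens)
    (e : V.1 ≤ f ⁻¹ᵁ U.1) : P (f.resLE U.1 V.1 e) ↔ Q (f.appLE U.1 V.1 e).hom := by
  rw [HasRingHomProperty.iff_of_isAffine (P := P)]
  have : (RingHom.toMorphismProperty Q).RespectsIso :=
    RingHom.toMorphismProperty_respectsIso_iff.mp
      (HasRingHomProperty.isLocal_ringHomProperty P).respectsIso
  exact (MorphismProperty.arrow_mk_iso_iff (RingHom.toMorphismProperty Q)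
    (arrowResLEAppIso f U.1 V.1 e))

theorem resLE_of_resLE
    (hsrc : RingHom.StableUnderCompositionWithLocalizationAwaySource Q)
    {X Y : Scheme.{u}} (f : X ⟶ Y) {U₀ U : Y.Opens} {V₀ V : X.Opens}
    (e₀ : V₀ ≤ f ⁻¹ᵁ U₀) (e : V ≤ f ⁻¹ᵁ U) (hV : V ≤ V₀)
    (h : P (f.resLE U₀ V₀ e₀)) : P (f.resLE U V e) := by
  have hresp := HasRingHomProperty.respects_isOpenImmersion (P := P) hsrc
  have h1 : P (V₀.ι ≫ f) := by
    rw [← Scheme.Hom.resLE_comp_ι f e₀]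
    exact MorphismProperty.RespectsRight.postcomp (Q := @IsOpenImmersion) _ inferInstance _ h
  have h2 : P (V.ι ≫ f) := by
    rw [← X.homOfLE_ι hV, Category.assoc]
    exact IsZariskiLocalAtSource.comp h1 _
  have h3 : P (f.resLE U V e ≫ U.ι) := by
    rw [Scheme.Hom.resLE_comp_ι]; exact h2
  have : P.HasOfPostcompProperty @IsOpenImmersion :=
    hasOfPostcompProperty_isOpenImmersion_of_morphismRestrict P
      (fun f U hf => IsZariskiLocalAtTarget.restrict hf U)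
  exact P.of_postcomp (W' := @IsOpenImmersion) _ U.ι inferInstance h3

include Q in
theorem arrow_iso_iff {X Y X' Y' : Scheme.{u}} {f : X ⟶ Y} {g : X' ⟶ Y'}
    (ai : Arrow.mk f ≅ Arrow.mk g) : P f ↔ P g :=
  P.arrow_mk_iso_iff ai

include P in
theorem appLE_of_appLE
    (hsrc : RingHom.StableUnderCompositionWithLocalizationAwaySource Q)
    {X Y : Scheme.{u}} (f : X ⟶ Y) (U₀ U : Y.affineOpens) (V₀ V : X.affineOpens)
    (e₀ : V₀.1 ≤ f ⁻¹ᵁ U₀.1) (e : V.1 ≤ f ⁻¹ᵁ U.1) (hV : V.1 ≤ V₀.1)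
    (h : Q (f.appLE U₀.1 V₀.1 e₀).hom) : Q (f.appLE U.1 V.1 e).hom := by
  rw [← resLE_iff_appLE (P := P)] at h ⊢
  exact resLE_of_resLE hsrc f e₀ e hV h

end Generic

open Groth.Agent.Lib.Seat31.LciHom

theorem flat_source : RingHom.StableUnderCompositionWithLocalizationAwaySource RingHom.Flat :=
  (RingHom.Flat.stableUnderComposition.stableUnderCompositionWithLocalizationAway
    RingHom.Flat.holdsForLocalizationAway).left

/-- A standard syntomic restriction to affine opens gives a syntomic ring map. -/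
theorem isSyntomic_appLE_of_isStandardSyntomic {X S : Scheme.{u}} (f : X ⟶ S)
    (U : X.affineOpens) (V : S.affineOpens) (e : U.1 ≤ f ⁻¹ᵁ V.1)
    (h : Synt.IsStandardSyntomic (f.resLE V.1 U.1 e)) :
    letI := (f.appLE V.1 U.1 e).hom.toAlgebra
    Synt.IsSyntomic Γ(S, V.1) Γ(X, U.1) := by
  obtain ⟨R, _, n, c, F, hF, e₁, e₂, hcomm⟩ := h
  have hsyn := Groth.Agent.Lib.Seat56.RelGCI.isSyntomic_of_isRelGCI hF
  obtain ⟨hfl, hlci⟩ := (Groth.Agent.S9287.result _ _).1 hsyn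
  have h1 : (algebraMap R (Synt.RelGCIRing R n c F)).Flat := RingHom.flat_algebraMap_iff.2 hfl
  have h2 : LciH (algebraMap R (Synt.RelGCIRing R n c F)) := lciH_algebraMap_iff.2 hlci
  have h1' : Flat (Spec.map (CommRingCat.ofHom (algebraMap R (Synt.RelGCIRing R n c F)))) :=
    (HasRingHomProperty.Spec_iff (P := @Flat)).2 h1
  have h2' : LciM (Spec.map (CommRingCat.ofHom (algebraMap R (Synt.RelGCIRing R n c F)))) :=
    (HasRingHomProperty.Spec_iff (P := LciM)).2 h2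
  let ai : Arrow.mk (f.resLE V.1 U.1 e) ≅
      Arrow.mk (Spec.map (CommRingCat.ofHom (algebraMap R (Synt.RelGCIRing R n c F)))) :=
    Arrow.isoMk e₁ e₂ hcomm
  have h1'' : Flat (f.resLE V.1 U.1 e) := (arrow_iso_iff (P := @Flat) ai).2 h1'
  have h2'' : LciM (f.resLE V.1 U.1 e) := (arrow_iso_iff (P := LciM) ai).2 h2'
  let _ := (f.appLE V.1 U.1 e).hom.toAlgebra
  exact (Groth.Agent.S9287.result _ _).2
    ⟨(resLE_iff_appLE (P := @Flat) f V U e).1 h1'', (resLE_iff_appLE (P := LciM) f V U e).1 h2''⟩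

/-- Around a point where the ring map on an affine pair is flat and lci, a basic open
neighbourhood is standard syntomic over the given affine open of the target. -/
theorem exists_isStandardSyntomic {X S : Scheme.{u}} (f : X ⟶ S) (x : X)
    (U₁ : X.affineOpens) (V : S.affineOpens) (e₁ : U₁.1 ≤ f ⁻¹ᵁ V.1) (hx : x ∈ U₁.1)
    (hfl : (f.appLE V.1 U₁.1 e₁).hom.Flat) (hlci : LciH (f.appLE V.1 U₁.1 e₁).hom) :
    ∃ (U : X.affineOpens) (e : U.1 ≤ f ⁻¹ᵁ V.1), x ∈ U.1 ∧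
      Synt.IsStandardSyntomic (f.resLE V.1 U.1 e) := by
  letI alg := (f.appLE V.1 U₁.1 e₁).hom.toAlgebra
  haveI : Module.Flat Γ(S, V.1) Γ(X, U₁.1) := hfl
  have hlci' : LCI.IsLCI Γ(S, V.1) Γ(X, U₁.1) := hlci
  obtain ⟨g, hg, n, c, F, hF, ⟨φ⟩⟩ :=
    Groth.Agent.Lib.Seat31.SyntRelGCI.exists_away_isRelGCI hlci'
      (U₁.2.primeIdealOf ⟨x, hx⟩).asIdeal
  have hU : IsAffineOpen (X.basicOpen g) := U₁.2.basicOpen g
  have hUU₁ : X.basicOpen g ≤ U₁.1 := X.basicOpen_le g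
  have hxU : x ∈ X.basicOpen g := (mem_basicOpen_iff_notMem_primeIdealOf U₁.2 x hx g).2 hg
  refine ⟨⟨X.basicOpen g, hU⟩, hUU₁.trans e₁, hxU, ?_⟩
  haveI : IsLocalization.Away g Γ(X, X.basicOpen g) := U₁.2.isLocalization_basicOpen g
  let ψ₀ : Localization.Away g ≃ₐ[Γ(X, U₁.1)] Γ(X, X.basicOpen g) :=
    IsLocalization.algEquiv (Submonoid.powers g) _ _
  let ψ : Synt.RelGCIRing Γ(S, V.1) n c F ≃+* Γ(X, X.basicOpen g) :=
    φ.symm.toRingEquiv.trans ψ₀.toRingEquiv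
  have hψ : ψ.toRingHom.comp (algebraMap Γ(S, V.1) (Synt.RelGCIRing Γ(S, V.1) n c F)) =
      (f.appLE V.1 (X.basicOpen g) (hUU₁.trans e₁)).hom := by
    ext r
    have h1 : φ.symm (algebraMap Γ(S, V.1) (Synt.RelGCIRing Γ(S, V.1) n c F) r) =
        algebraMap Γ(S, V.1) (Localization.Away g) r := φ.symm.commutes r
    have h2 : algebraMap Γ(S, V.1) (Localization.Away g) r =
        algebraMap Γ(X, U₁.1) (Localization.Away g) (algebraMap Γ(S, V.1) Γ(X, U₁.1) r) :=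
      IsScalarTower.algebraMap_apply _ _ _ r
    have h3 : ψ₀ (algebraMap Γ(X, U₁.1) (Localization.Away g)
        (algebraMap Γ(S, V.1) Γ(X, U₁.1) r)) =
        algebraMap Γ(X, U₁.1) Γ(X, X.basicOpen g) (algebraMap Γ(S, V.1) Γ(X, U₁.1) r) :=
      ψ₀.commutes _
    have h4 : (f.appLE V.1 (X.basicOpen g) (hUU₁.trans e₁)) =
        f.appLE V.1 U₁.1 e₁ ≫ X.presheaf.map (homOfLE hUU₁).op :=
      (f.appLE_map e₁ (homOfLE hUU₁).op).symm
    show ψ₀ (φ.symm (algebraMap Γ(S, V.1) (Synt.RelGCIRing Γ(S, V.1) n c F) r)) = _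
    rw [h1, h2, h3, h4]
    rfl
  refine ⟨Γ(S, V.1), inferInstance, n, c, F, hF,
    hU.isoSpec ≪≫ Scheme.Spec.mapIso ψ.toCommRingCatIso.op, V.2.isoSpec, ?_⟩
  have h5 : CommRingCat.ofHom (algebraMap Γ(S, V.1) (Synt.RelGCIRing Γ(S, V.1) n c F)) ≫
      ψ.toCommRingCatIso.hom = f.appLE V.1 (X.basicOpen g) (hUU₁.trans e₁) := by
    ext1
    exact hψ
  show (hU.isoSpec.hom ≫ Spec.map ψ.toCommRingCatIso.hom) ≫ Spec.map _ = _
  rw [Category.assoc, ← Spec.map_comp, h5, IsAffineOpen.isoSpec_hom]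
  exact Scheme.Opens.toSpecΓ_SpecMap_appLE f V.1 (X.basicOpen g) (hUU₁.trans e₁)

/-- Syntomic at `x` iff some affine neighbourhood over the given affine `V ∋ f x` is standard
syntomic. -/
theorem isSyntomicAt_iff {X S : Scheme.{u}} (f : X ⟶ S) (x : X) (V : S.affineOpens)
    (hV : f.base x ∈ V.1) :
    Synt.IsSyntomicAt f x ↔
      ∃ (U : X.affineOpens) (e : U.1 ≤ f ⁻¹ᵁ V.1), x ∈ U.1 ∧
        Synt.IsStandardSyntomic (f.resLE V.1 U.1 e) := by
  constructor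
  · rintro ⟨U₀, V₀, e₀, hx₀, hsyn⟩
    have hfl₀ : (f.appLE V₀.1 U₀.1 e₀).hom.Flat := by
      letI := (f.appLE V₀.1 U₀.1 e₀).hom.toAlgebra
      exact ((Groth.Agent.S9287.result _ _).1 hsyn).1
    have hlci₀ : LciH (f.appLE V₀.1 U₀.1 e₀).hom := by
      letI := (f.appLE V₀.1 U₀.1 e₀).hom.toAlgebra
      exact ((Groth.Agent.S9287.result _ _).1 hsyn).2
    obtain ⟨U₁, hU₁, hxU₁, hU₁le⟩ :=
      TopologicalSpace.Opens.isBasis_iff_nbhd.mp X.isBasis_affineOpens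
        (show x ∈ U₀.1 ⊓ f ⁻¹ᵁ V.1 from ⟨hx₀, hV⟩)
    have e₁ : U₁ ≤ f ⁻¹ᵁ V.1 := hU₁le.trans inf_le_right
    have h01 : U₁ ≤ U₀.1 := hU₁le.trans inf_le_left
    exact exists_isStandardSyntomic f x ⟨U₁, hU₁⟩ V e₁ hxU₁
      (appLE_of_appLE (P := @Flat) flat_source f V₀ V U₀ ⟨U₁, hU₁⟩ e₀ e₁ h01 hfl₀)
      (appLE_of_appLE (P := LciM) lciH_source f V₀ V U₀ ⟨U₁, hU₁⟩ e₀ e₁ h01 hlci₀)
  · rintro ⟨U, e, hx, hstd⟩
    exact ⟨U, V, e, hx, isSyntomic_appLE_of_isStandardSyntomic f U V e hstd⟩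

end Groth.Agent.Lib.Seat31.StdSynt
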