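import Mathlib
import Groth.Prelude.Def_Cyc
import Groth.Agent.Lib.Seat32PullDiv
import Groth.Agent.Lib.Helper3LocDimBC

/-!
# Dimension function at generic points of a flat base change (helper32, S1939)

* `flat_SpecMap_of_field` : `Spec` of a ring map out of a field is flat.
* `isFibMax_snd_of_maximal` : a maximal point of `X ×_S S'` maps to a point of `S'` maximal in its
  fibre over `S` (the fibre of `fst` over `η` is a flat base change of the fibre of `g`).
* `delta_generic_component_baseChange` : S1939.
-/

set_option autoImplicit false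
set_option linter.style.haveILetI false
universe u
open CategoryTheory AlgebraicGeometry CategoryTheory.Limits IsLocalRing

namespace Groth.Agent.Lib.Seat32.BCGen

open Groth.Agent.Lib.Helper4.DimFormula Groth.Agent.Lib.Seat32.PullDiv

variable {S S' X : Scheme.{u}}

/-- `Spec` of a homomorphism of fields is flat. -/
theorem flat_SpecMap_of_field {K L : CommRingCat.{u}} (hK : IsField K) (φ : K ⟶ L) :
    Flat (Spec.map φ) := by
  letI : Field K := hK.toField
  rw [Flat.SpecMap_iff]
  algebraize [φ.hom]
  exact RingHom.flat_algebraMap_iff.mpr inferInstance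

/-- a maximal point of `X ×_S S'` maps to a point of `S'` that is maximal in its `g`-fibre. -/
theorem isFibMax_snd_of_maximal (a : X ⟶ S) (g : S' ⟶ S) (x' : ↥(pullback a g))
    (hx' : ∀ y : ↥(pullback a g), y ⤳ x' → y = x') (y : S')
    (hy : g y = g (pullback.snd a g x')) (hys : y ⤳ pullback.snd a g x') :
    y = pullback.snd a g x' := by
  have hsq : IsPullback (pullback.snd a g) (pullback.fst a g) g a :=
    (IsPullback.of_hasPullback a g).flip
  have key := isPullback_fiberToSpecResidueField_of_isPullback hsq (pullback.fst a g x')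
  obtain ⟨E, hEdef⟩ : ∃ E : (pullback.fst a g).fiber (pullback.fst a g x') ⟶
      g.fiber (a (pullback.fst a g x')), E = pullback.map (pullback.fst a g)
        (X.fromSpecResidueField (pullback.fst a g x')) g
        (S.fromSpecResidueField (a (pullback.fst a g x'))) (pullback.snd a g)
        (Spec.map (a.residueFieldMap (pullback.fst a g x'))) a
        hsq.w.symm (by simp) := ⟨_, rfl⟩
  rw [← hEdef] at key
  haveI : Flat (Spec.map (a.residueFieldMap (pullback.fst a g x'))) :=
    flat_SpecMap_of_field (Field.toIsField _) _
  haveI : Flat E := MorphismProperty.of_isPullback (P := @Flat) key.flip inferInstance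
  have hgen := Flat.generalizingMap E
  have hEι : E ≫ g.fiberι (a (pullback.fst a g x')) =
      (pullback.fst a g).fiberι (pullback.fst a g x') ≫ pullback.snd a g := by
    rw [hEdef]; exact pullback.lift_fst _ _ _
  have hEι' : ∀ w, g.fiberι (a (pullback.fst a g x')) (E w) =
      pullback.snd a g ((pullback.fst a g).fiberι (pullback.fst a g x') w) := fun w => by
    have := congrArg (fun φ : _ ⟶ S' => φ w) hEι
    simpa using this
  have hcond : g (pullback.snd a g x') = a (pullback.fst a g x') := by
    have := congrArg (fun φ : _ ⟶ S => φ x') (pullback.condition (f := a) (g := g))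
    simpa using this.symm
  -- the points in the fibres
  obtain ⟨yG, hyG⟩ : ∃ yG : g.fiber (a (pullback.fst a g x')),
      g.fiberι (a (pullback.fst a g x')) yG = y := by
    have : y ∈ Set.range (g.fiberι (a (pullback.fst a g x'))) := by
      rw [g.range_fiberι]; exact hy.trans hcond
    exact this
  have hExF : g.fiberι (a (pullback.fst a g x')) (E ((pullback.fst a g).asFiber x')) =
      pullback.snd a g x' := by
    rw [hEι', (pullback.fst a g).fiberι_asFiber x']
  have hspec : yG ⤳ E ((pullback.fst a g).asFiber x') := by
    rw [← (g.fiberι (a (pullback.fst a g x'))).isEmbedding.specializes_iff, hyG, hExF]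
    exact hys
  obtain ⟨z, hz, hzy⟩ := hgen hspec
  have h1 : (pullback.fst a g).fiberι (pullback.fst a g x') z ⤳
      (pullback.fst a g).fiberι (pullback.fst a g x') ((pullback.fst a g).asFiber x') :=
    hz.map ((pullback.fst a g).fiberι (pullback.fst a g x')).continuous
  rw [(pullback.fst a g).fiberι_asFiber x'] at h1
  have h2 := hx' _ h1
  rw [← hyG, ← hzy, hEι', h2]

theorem delta_generic_component_baseChange (S S' X : Scheme.{u}) (δS : S → ℤ) (δS' : S' → ℤ)
    (g : S' ⟶ S) [Flat g] (c : ℤ)
    (hc : ∀ s' : S', (∀ y, g y = g s' → y ⤳ s' → y = s') → δS' s' = δS (g s') + c)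
    (a : X ⟶ S) [LocallyOfFiniteType a] [IsIntegral X] (δX : X → ℤ)
    (hX : Cyc.DeltaCompat a δX δS) (δX' : ↥(pullback a g) → ℤ)
    (hX' : Cyc.DeltaCompat (pullback.snd a g) δX' δS') (k : ℤ) (hk : δX (genericPoint X) = k)
    (x' : ↥(pullback a g)) (hx' : ∀ y : ↥(pullback a g), y ⤳ x' → y = x') :
    δX' x' = k + c := by
  have hfst : pullback.fst a g x' = genericPoint X := by
    obtain ⟨y, hy, hyη⟩ := Flat.generalizingMap (pullback.fst a g)
      (genericPoint_specializes (pullback.fst a g x'))
    rw [← hx' y hy, hyη]
  have h1 := delta_eq_add_ptTrdeg (pullback.snd a g) δX' δS' hX' x'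
  have h2 := hc (pullback.snd a g x') (isFibMax_snd_of_maximal a g x' hx')
  have h3 := delta_eq_add_ptTrdeg a δX δS hX (pullback.fst a g x')
  have hcond : g (pullback.snd a g x') = a (pullback.fst a g x') := by
    have := congrArg (fun φ : _ ⟶ S => φ x') (pullback.condition (f := a) (g := g))
    simpa using this.symm
  have h4 := Groth.Agent.Lib.Helper3.LocDimBC.fibreDimAt_eq_of_isPullback a g
    (pullback.fst a g) (pullback.snd a g) (IsPullback.of_hasPullback a g) x'
  rw [fibreDimAt_eq_ptTrdeg_of_maximal (pullback.snd a g) x' (fun y _ hy => hx' y hy),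
    fibreDimAt_eq_ptTrdeg_of_maximal a (pullback.fst a g x') (fun y _ hy => by
      rw [hfst] at hy ⊢
      exact (genericPoint_specializes y).antisymm hy |>.eq.symm ▸ rfl)] at h4
  have h5 : ptTrdeg (pullback.snd a g) x' = ptTrdeg a (pullback.fst a g x') := by
    exact_mod_cast h4
  rw [h1, h2, hcond, h5, ← hk, ← hfst, h3]
  ring

end Groth.Agent.Lib.Seat32.BCGen
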