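import Mathlib

/-!
# A big algebraically closed field with two isomorphic structures (seat 32)

* `exists_ringEquiv_of_isTranscendenceBasis`: algebraically closed `R`-fields with transcendence bases indexed by the
  same type are isomorphic compatibly with `R`.
* `Big κ`: the algebraic closure of `κ(T_j : j ∈ ℕ × κ)`; `exists_isTranscendenceBasis_big`: for any subfield
  structure `k → κ` it has a transcendence basis over `k` indexed by `ℕ × κ`.
* `exists_big_closed`: for two ring homs `s t : k → κ` of fields there are `τ : κ → Big κ` and an automorphism `β` of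
  `Big κ` with `β ∘ τ ∘ t = τ ∘ s`.
-/

set_option autoImplicit false
set_option linter.style.haveILetI false
universe u

open Algebra Cardinal

namespace Groth.Agent.Lib.Seat32.BigClosed

/-- Two algebraically closed extensions with transcendence bases indexed by the same type are isomorphic
compatibly with the structure maps. -/
theorem exists_ringEquiv_of_isTranscendenceBasis {R K L : Type*} [CommRing R] [Field K] [Field L]
    [Algebra R K] [Algebra R L] [IsAlgClosed K] [IsAlgClosed L] {ι : Type*} (v : ι → K) (w : ι → L)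
    (hv : IsTranscendenceBasis R v) (hw : IsTranscendenceBasis R w) :
    ∃ φ : K ≃+* L, ∀ r : R, φ (algebraMap R K r) = algebraMap R L r := by
  letI := IsAlgClosed.isAlgClosure_of_transcendence_basis v hv
  letI := IsAlgClosed.isAlgClosure_of_transcendence_basis w hw
  let e : Algebra.adjoin R (Set.range v) ≃ₐ[R] Algebra.adjoin R (Set.range w) :=
    hv.1.aevalEquiv.symm.trans hw.1.aevalEquiv
  refine ⟨IsAlgClosure.equivOfEquiv K L e.toRingEquiv, fun r => ?_⟩
  have h1 : algebraMap R K r = algebraMap (Algebra.adjoin R (Set.range v)) K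
      (algebraMap R (Algebra.adjoin R (Set.range v)) r) := rfl
  rw [h1, IsAlgClosure.equivOfEquiv_algebraMap]
  show algebraMap (Algebra.adjoin R (Set.range w)) L (e (algebraMap R _ r)) = _
  rw [e.commutes]
  rfl


/-- The big algebraically closed field attached to a field `κ`. -/
abbrev Big (κ : Type u) [Field κ] : Type u :=
  AlgebraicClosure (FractionRing (MvPolynomial (ℕ × κ) κ))

theorem exists_isTranscendenceBasis_big (k κ : Type u) [Field k] [Field κ] [Algebra k κ] :
    ∃ v : ℕ × κ → Big κ, IsTranscendenceBasis k v := by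
  obtain ⟨ι, B, hB⟩ := exists_isTranscendenceBasis' k κ
  let J := ℕ × κ
  let P₁ := MvPolynomial J κ
  let Q₁ := FractionRing P₁
  have hinjP : Function.Injective (algebraMap P₁ (Big κ)) := by
    rw [IsScalarTower.algebraMap_eq P₁ Q₁ (Big κ)]
    exact (algebraMap Q₁ (Big κ)).injective.comp (IsFractionRing.injective P₁ Q₁)
  haveI : FaithfulSMul P₁ (Big κ) := (faithfulSMul_iff_algebraMap_injective _ _).mpr hinjP
  haveI : Algebra.IsAlgebraic P₁ Q₁ := IsLocalization.isAlgebraic Q₁ (nonZeroDivisors P₁)
  haveI : Algebra.IsAlgebraic P₁ (Big κ) := Algebra.IsAlgebraic.trans P₁ Q₁ (Big κ)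
  have hY : IsTranscendenceBasis κ (algebraMap P₁ (Big κ) ∘ MvPolynomial.X) :=
    (IsTranscendenceBasis.mvPolynomial J κ).algebraMap_comp
  have hsum : IsTranscendenceBasis k
      (Sum.elim (algebraMap P₁ (Big κ) ∘ MvPolynomial.X) (algebraMap κ (Big κ) ∘ B)) :=
    hB.sumElim_comp hY
  have hcard : #(J ⊕ ι) = #J := by
    rw [Cardinal.mk_sum, Cardinal.lift_id, Cardinal.lift_id]
    apply Cardinal.add_eq_left
    · exact Cardinal.aleph0_le_mk J
    · calc #ι ≤ #κ := Cardinal.mk_le_of_injective hB.1.injective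
        _ ≤ #J := Cardinal.mk_le_of_injective (f := fun a : κ => ((0 : ℕ), a))
            (fun a b h => (Prod.mk.inj h).2)
  obtain ⟨e⟩ := Cardinal.eq.mp hcard
  exact ⟨_, (isTranscendenceBasis_equiv e.symm).mpr hsum⟩


theorem exists_algebra_isTranscendenceBasis_big (k κ : Type u) [Field k] [Field κ] (f : k →+* κ) :
    ∃ (I : Algebra k (Big κ)) (v : ℕ × κ → Big κ), @IsTranscendenceBasis _ k (Big κ) _ _ I v ∧
      ∀ r, @algebraMap k (Big κ) _ _ I r = algebraMap κ (Big κ) (f r) := by
  letI : Algebra k κ := f.toAlgebra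
  obtain ⟨v, hv⟩ := exists_isTranscendenceBasis_big k κ
  exact ⟨inferInstance, v, hv, fun r => IsScalarTower.algebraMap_apply k κ (Big κ) r⟩

theorem exists_big_closed (k κ : Type u) [Field k] [Field κ] (sR tR : k →+* κ) :
    ∃ β : Big κ ≃+* Big κ, ∀ x : k,
      β (algebraMap κ (Big κ) (tR x)) = algebraMap κ (Big κ) (sR x) := by
  obtain ⟨It, v, hv, hIt⟩ := exists_algebra_isTranscendenceBasis_big k κ tR
  obtain ⟨Is, w, hw, hIs⟩ := exists_algebra_isTranscendenceBasis_big k κ sR
  obtain ⟨φ, hφ⟩ := @exists_ringEquiv_of_isTranscendenceBasis k (Big κ) (Big κ) _ _ _ It Is _ _ _ v w hv hw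
  refine ⟨φ, fun x => ?_⟩
  rw [← hIt, ← hIs]
  exact hφ x

end Groth.Agent.Lib.Seat32.BigClosed
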