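import Mathlib
import Groth.Prelude.Def_Cyc
import Groth.Agent.Lib.Seat32CycOpen
import Groth.Agent.Lib.Seat32CycFin

/-!
# Cycles supported on the complement of an open (helper32, S1863)

`exists_supported_on_complement`: if the restrictions to an open `U` of two `k`-cycles `α, β` on `X`
are rationally equivalent on `U`, then `α ∼ β + γ` with `γ` a `k`-cycle vanishing on `U`
(exactness of `CH_k(X ∖ U) → CH_k(X) → CH_k(U)` in the middle).
-/

set_option autoImplicit false
set_option linter.style.haveILetI false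
universe u
open AlgebraicGeometry CategoryTheory TopologicalSpace Opposite Topology

namespace Groth.Agent.Lib.Seat32.CycCompl

open Groth.Agent.Lib.Seat32.CycOpen Groth.Agent.Lib.Seat32.CycFin

theorem exists_supported_on_complement (X : Scheme.{u}) (δ : X → ℤ) (hX : Cyc.IsSetup X δ)
    (U : X.Opens) (k : ℤ) (α β : AlgebraicCycle X ℤ) (hα : α ∈ Cyc.Zk X δ k)
    (hβ : β ∈ Cyc.Zk X δ k) (αU βU : AlgebraicCycle (↑U : Scheme.{u}) ℤ)
    (hαU : ∀ u : ↥U, αU u = α (U.ι u)) (hβU : ∀ u : ↥U, βU u = β (U.ι u))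
    (h : Cyc.RatEquiv (fun u : ↥U => δ (U.ι u)) k αU βU) :
    ∃ γ : AlgebraicCycle X ℤ, γ ∈ Cyc.Zk X δ k ∧ (∀ x : X, x ∈ U → γ x = 0) ∧
      Cyc.RatEquiv δ k α (β + γ) := by
  classical
  haveI : IsLocallyNoetherian X := hX.1
  obtain ⟨ι, ξ, f, hδξ, hf, hlf, hsum⟩ := h
  -- the family on `X`
  let ξ' : ι → X := fun i => U.ι (ξ i)
  let f' : (i : ι) → X.residueField (ξ' i) :=
    fun i => (inv (U.ι.residueFieldMap (ξ i))).hom (f i)
  have hf'f : ∀ i, (U.ι.residueFieldMap (ξ i)).hom (f' i) = f i := by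
    intro i
    change (inv (U.ι.residueFieldMap (ξ i)) ≫ U.ι.residueFieldMap (ξ i)).hom (f i) = f i
    rw [IsIso.inv_hom_id]
    rfl
  have hf' : ∀ i, f' i ≠ 0 := by
    intro i h0
    apply hf i
    rw [← hf'f i, h0, map_zero]
  have hfinV : ∀ V : X.Opens, IsAffineOpen V → {i | ξ' i ∈ V}.Finite :=
    fun V hV => finite_setOf_ι_mem U ξ hlf hV
  let D : X → ℤ := fun x => ∑ᶠ i, Cyc.divFun δ (ξ' i) (f' i) x
  -- `D` on `U`
  have hDU : ∀ u : ↥U, D (U.ι u) = α (U.ι u) - β (U.ι u) := by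
    intro u
    have h1 := hsum u
    have h2 : (αU - βU) u = αU u - βU u := rfl
    rw [h2, hαU, hβU] at h1
    rw [h1]
    apply finsum_congr
    intro i
    rw [divFun_ι U δ (ξ i) u (f' i), hf'f]
    rfl
  -- a nonzero value of `D` comes from a nonzero term
  have hDne : ∀ x, D x ≠ 0 → ∃ i, Cyc.divFun δ (ξ' i) (f' i) x ≠ 0 := by
    intro x hx
    by_contra hall
    push Not at hall
    exact hx (finsum_eq_zero_of_forall_eq_zero hall)
  -- `D` has locally finite support
  have hDfin : ∀ z : X, ∃ t ∈ 𝓝 z, (t ∩ Function.support D).Finite := by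
    intro z
    obtain ⟨V, hV, hzV, -⟩ := exists_isAffineOpen_mem_and_subset (U := ⊤) (x := z) (by simp)
    refine ⟨V, V.2.mem_nhds hzV, ?_⟩
    refine (Set.Finite.biUnion (hfinV V hV) (fun i _ =>
      finite_support_divFun_inter hX.2.2 (ξ' i) (f' i) (hf' i) hV)).subset ?_
    rintro x ⟨hxV, hxD⟩
    obtain ⟨i, hi⟩ := hDne x hxD
    have hiV : ξ' i ∈ V := by
      unfold Cyc.divFun at hi
      by_cases hc : ξ' i ⤳ x ∧ δ x + 1 = δ (ξ' i)
      · exact hc.1.mem_open V.2 hxV
      · rw [dif_neg hc] at hi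
        exact absurd rfl hi
    exact Set.mem_iUnion₂.2 ⟨i, hiV, hxV, hi⟩
  let Dc : AlgebraicCycle X ℤ :=
    { toFun := D
      supportWithinDomain' := Set.subset_univ _
      supportLocallyFiniteWithinDomain' := fun z _ => hDfin z }
  have hDk : ∀ x, δ x ≠ k → D x = 0 := by
    intro x hx
    apply finsum_eq_zero_of_forall_eq_zero
    intro i
    unfold Cyc.divFun
    rw [dif_neg]
    rintro ⟨-, h2⟩
    apply hx
    have := hδξ i
    change δ (ξ' i) = k + 1 at this
    omega
  refine ⟨α - β - Dc, ?_, ?_, ?_⟩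
  · intro x hx
    change α x - β x - D x = 0
    rw [hα x hx, hβ x hx, hDk x hx]
    ring
  · intro x hxU
    change α x - β x - D x = 0
    have := hDU ⟨x, hxU⟩
    change D x = α x - β x at this
    rw [this]
    ring
  · have e : α - (β + (α - β - Dc)) = Dc := by abel
    unfold Cyc.RatEquiv
    rw [e]
    exact ⟨ι, ξ', f', hδξ, hf', fun x => locallyFinite_of_finite_affine ξ' hfinV x, fun x => rfl⟩

end Groth.Agent.Lib.Seat32.CycCompl
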