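import Mathlib

/-!
# Residue field extensions of étale morphisms are étale; fibres of étale squares (seat 32)

* `finite_residueField`: for a formally unramified morphism locally of finite type the residue field
  extensions are finite.
* `etale_SpecMap_residueFieldMap`: for an étale morphism `f` and a point `x`, the morphism
  `Spec κ(x) ⟶ Spec κ(f x)` is étale.
* `etale_fiberMap`: the map on fibres induced by an étale square is étale.
-/

set_option autoImplicit false
universe u
open CategoryTheory CategoryTheory.Limits AlgebraicGeometry

namespace Groth.Agent.Lib.Seat32.EtaleFib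

variable {X Y : Scheme.{u}} (f : X ⟶ Y)

set_option backward.isDefEq.respectTransparency.types false in
theorem finite_residueField [FormallyUnramified f] [LocallyOfFiniteType f] (x : X) :
    letI : Algebra (Y.residueField (f.base x)) (X.residueField x) :=
      (f.residueFieldMap x).hom.toAlgebra
    Module.Finite (Y.residueField (f.base x)) (X.residueField x) := by
  algebraize [(f.stalkMap x).hom]
  have : IsLocalHom (algebraMap (Y.presheaf.stalk (f x)) (X.presheaf.stalk x)) :=
    inferInstanceAs <| IsLocalHom (f.stalkMap x).hom
  suffices h : Module.Finite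
      (IsLocalRing.ResidueField <| Y.presheaf.stalk (f x))
      (IsLocalRing.ResidueField <| X.presheaf.stalk x) by
    convert! h
    have key : (f.residueFieldMap x).hom.toAlgebra =
        (inferInstance : Algebra (IsLocalRing.ResidueField <| Y.presheaf.stalk (f x))
          (IsLocalRing.ResidueField <| X.presheaf.stalk x)) := by
      refine Algebra.algebra_ext _ _ fun x ↦ ?_
      obtain ⟨x, rfl⟩ := IsLocalRing.residue_surjective x
      rfl
    exact congrArg (fun a => @Algebra.toModule _ _ _ _ a) key
  have : Algebra.EssFiniteType (Y.presheaf.stalk (f x)) (X.presheaf.stalk x) := by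
    rw [← RingHom.essFiniteType_algebraMap, RingHom.algebraMap_toAlgebra]
    exact LocallyOfFiniteType.stalkMap f x
  have : Algebra.FormallyUnramified (Y.presheaf.stalk (f x)) (X.presheaf.stalk x) := by
    rw [← RingHom.formallyUnramified_algebraMap, RingHom.algebraMap_toAlgebra]
    exact FormallyUnramified.stalkMap f x
  infer_instance

theorem etale_SpecMap_residueFieldMap [Etale f] (x : X) :
    Etale (Spec.map (f.residueFieldMap x)) := by
  rw [HasRingHomProperty.Spec_iff (P := @Etale)]
  letI : Algebra (Y.residueField (f.base x)) (X.residueField x) :=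
    (f.residueFieldMap x).hom.toAlgebra
  have hsep : Algebra.IsSeparable (Y.residueField (f.base x)) (X.residueField x) := inferInstance
  have hfin : Module.Finite (Y.residueField (f.base x)) (X.residueField x) :=
    finite_residueField f x
  have h1 : Algebra.FormallyEtale (Y.residueField (f.base x)) (X.residueField x) :=
    Algebra.FormallyEtale.of_isSeparable _ _
  have h2 : Algebra.FinitePresentation (Y.residueField (f.base x)) (X.residueField x) :=
    Algebra.FinitePresentation.of_finiteType.mp inferInstance
  exact ⟨h1, h2⟩

set_option backward.isDefEq.respectTransparency false in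
/-- the map on fibres induced by a commutative square with étale vertical maps is étale -/
theorem etale_fiberMap {U U' V V' : Scheme.{u}} (h : U ⟶ V) (h' : U' ⟶ V') (a : U' ⟶ U)
    (b : V' ⟶ V) [Etale a] [Etale b] (comm : h' ≫ b = a ≫ h) (v' : V')
    (φ : h'.fiber v' ⟶ h.fiber (b v')) (hφ1 : φ ≫ h.fiberι (b v') = h'.fiberι v' ≫ a)
    (hφ2 : φ ≫ h.fiberToSpecResidueField (b v') =
      h'.fiberToSpecResidueField v' ≫ Spec.map (b.residueFieldMap v')) :
    Etale φ := by
  have hr : Etale (Spec.map (b.residueFieldMap v')) := etale_SpecMap_residueFieldMap b v'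
  -- the comparison `U' ⟶ U ×_V V'`
  let c : U' ⟶ pullback h b := pullback.lift a h' comm.symm
  have hc : Etale c := by
    have hfst : Etale (pullback.fst h b) := inferInstance
    have hcomp : Etale (c ≫ pullback.fst h b) := by
      simpa [c] using (inferInstance : Etale a)
    exact MorphismProperty.of_postcomp (W := @Etale) (W' := @Etale) c (pullback.fst h b) hfst hcomp
  -- the fibre of `U ×_V V' ⟶ V'` over `v'` is the base change of the fibre of `h`
  let g : (pullback.snd h b).fiber v' ⟶ h.fiber (b v') :=
    pullback.map _ _ _ _ (pullback.fst h b) (Spec.map (b.residueFieldMap v')) b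
      (IsPullback.of_hasPullback h b).w.symm (by simp)
  have hg : IsPullback g ((pullback.snd h b).fiberToSpecResidueField v')
      (h.fiberToSpecResidueField (b v')) (Spec.map (b.residueFieldMap v')) :=
    isPullback_fiberToSpecResidueField_of_isPullback (IsPullback.of_hasPullback h b) v'
  have hgE : Etale g := MorphismProperty.of_isPullback (P := @Etale) hg.flip hr
  -- the map on fibres over `v'` induced by `c`
  let θ : h'.fiber v' ⟶ (pullback.snd h b).fiber v' :=
    pullback.map h' (V'.fromSpecResidueField v') (pullback.snd h b) (V'.fromSpecResidueField v')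
      c (𝟙 _) (𝟙 _) (by simp [c]) (by simp)
  have hθ : IsPullback θ (h'.fiberι v') ((pullback.snd h b).fiberι v') c := by
    have big : IsPullback (θ ≫ (pullback.snd h b).fiberToSpecResidueField v') (h'.fiberι v')
        (V'.fromSpecResidueField v') (c ≫ pullback.snd h b) := by
      have e1 : θ ≫ (pullback.snd h b).fiberToSpecResidueField v' =
          h'.fiberToSpecResidueField v' := by
        simp [θ, Scheme.Hom.fiberToSpecResidueField]
      have e2 : c ≫ pullback.snd h b = h' := by simp [c]
      rw [e1, e2]
      exact (IsPullback.of_hasPullback h' (V'.fromSpecResidueField v')).flip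
    refine IsPullback.of_right big ?_
      (IsPullback.of_hasPullback (pullback.snd h b) (V'.fromSpecResidueField v')).flip
    simp [θ, Scheme.Hom.fiberι]
  have hθE : Etale θ := MorphismProperty.of_isPullback (P := @Etale) hθ.flip hc
  have hφ : φ = θ ≫ g := by
    apply pullback.hom_ext
    · have : φ ≫ pullback.fst h (V.fromSpecResidueField (b v')) = h'.fiberι v' ≫ a := hφ1
      rw [this]
      simp [θ, g, c, Scheme.Hom.fiberι]
    · have : φ ≫ pullback.snd h (V.fromSpecResidueField (b v')) =
          h'.fiberToSpecResidueField v' ≫ Spec.map (b.residueFieldMap v') := hφ2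
      rw [this]
      simp [θ, g, Scheme.Hom.fiberToSpecResidueField]
  rw [hφ]
  infer_instance

end Groth.Agent.Lib.Seat32.EtaleFib
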