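import Mathlib
import Groth.Agent.Lib.Helper6Reduced
import Groth.Agent.Lib.Seat32LenPow

/-!
# Stalks of the base change of the reduced induced subscheme (helper32)

For a cartesian square `Z'' = Yr ×_Y Y''` with `ι : Yr ⟶ Y` a surjective closed immersion from a
reduced scheme (e.g. `Y_red`), the local ring of `Z''` at `ξ` is `B ⧸ 𝔪_A B` (`A = O_{Y,π(jξ)}`,
`B = O_{Y'',jξ}`) as soon as `𝔪_A` is the nilradical of `A` (maximal point).  Combined with
`IsLocalRing.length_baseChange` this gives `ℓ(B) = ℓ(A) · ℓ(O_{Z'',ξ})` for `π` flat.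
-/

open AlgebraicGeometry CategoryTheory CategoryTheory.Limits IsLocalRing

universe u

namespace Groth.Agent.Lib.Seat32.StalkBC

/-- germs composed with `stalkClosedPointTo` only depend on the morphism. -/
theorem germ_stalkClosedPointTo_congr {Q : CommRingCat.{u}} [IsLocalRing Q] {Y : Scheme.{u}}
    (t₁ t₂ : Spec Q ⟶ Y) (e : t₁ = t₂) (U : Y.Opens) (h₁ : t₁ (closedPoint Q) ∈ U)
    (h₂ : t₂ (closedPoint Q) ∈ U) (s : Γ(Y, U)) :
    (Scheme.stalkClosedPointTo t₁).hom ((Y.presheaf.germ U _ h₁).hom s) =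
      (Scheme.stalkClosedPointTo t₂).hom ((Y.presheaf.germ U _ h₂).hom s) := by
  subst e
  rfl

theorem germ_eq_zero_congr {Y : Scheme.{u}} (U : Y.Opens) (s : Γ(Y, U)) (p p' : Y) (e : p = p')
    (hp : p ∈ U) (hp' : p' ∈ U) (h : (Y.presheaf.germ U p hp).hom s = 0) :
    (Y.presheaf.germ U p' hp').hom s = 0 := by
  subst e
  exact h

set_option backward.isDefEq.respectTransparency false in
/-- If `Spec (O_{W,jξ} ⧸ J) ⟶ W` lifts through the injective morphism `j : Z ⟶ W`, then the kernel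
of the stalk map of `j` at `ξ` is contained in `J`. -/
theorem ker_stalkMap_le_of_lift {Z W : Scheme.{u}} (j : Z ⟶ W) (hj : Function.Injective j)
    (ξ : Z) (J : Ideal (W.presheaf.stalk (j ξ))) (hJ : J ≠ ⊤)
    (h : Spec (CommRingCat.of (W.presheaf.stalk (j ξ) ⧸ J)) ⟶ Z)
    (hh : h ≫ j = Spec.map (CommRingCat.ofHom (Ideal.Quotient.mk J)) ≫ W.fromSpecStalk (j ξ)) :
    RingHom.ker (j.stalkMap ξ).hom ≤ J := by
  have : Nontrivial (W.presheaf.stalk (j ξ) ⧸ J) := Ideal.Quotient.nontrivial_iff.2 hJ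
  have : IsLocalRing (W.presheaf.stalk (j ξ) ⧸ J) :=
    .of_surjective' _ Ideal.Quotient.mk_surjective
  let Q : CommRingCat.{u} := CommRingCat.of (W.presheaf.stalk (j ξ) ⧸ J)
  have : IsLocalRing Q := inferInstanceAs (IsLocalRing (W.presheaf.stalk (j ξ) ⧸ J))
  let q : W.presheaf.stalk (j ξ) ⟶ Q := CommRingCat.ofHom (Ideal.Quotient.mk J)
  have : IsLocalHom q.hom :=
    IsLocalHom.of_surjective (Ideal.Quotient.mk J) Ideal.Quotient.mk_surjective
  let τ : Spec Q ⟶ W := Spec.map q ≫ W.fromSpecStalk (j ξ)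
  have hh1 : h ≫ j = τ := hh
  have hτcp : τ (closedPoint Q) = j ξ := by
    rw [Scheme.Hom.comp_apply, Spec_closedPoint, Scheme.fromSpecStalk_closedPoint]
  have hhcp : h (closedPoint Q) = ξ := by
    apply hj
    rw [← Scheme.Hom.comp_apply, hh1, hτcp]
  intro a ha
  rw [RingHom.mem_ker] at ha
  obtain ⟨U, hxU, s, rfl⟩ := W.presheaf.exists_germ_eq (x := j ξ) a
  have hxU' : τ (closedPoint Q) ∈ U := by rw [hτcp]; exact hxU
  have h1 : q.hom ((W.presheaf.germ U (j ξ) hxU).hom s) =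
      (Scheme.stalkClosedPointTo τ).hom ((W.presheaf.germ U _ hxU').hom s) := by
    have := Scheme.germ_stalkClosedPointTo_Spec_fromSpecStalk q U hxU'
    exact (congrArg (fun φ => φ.hom s) this).symm
  have hxU'' : (h ≫ j) (closedPoint Q) ∈ U := by rw [hh1]; exact hxU'
  have h2 := germ_stalkClosedPointTo_congr τ (h ≫ j) hh1.symm U hxU' hxU'' s
  have h3 : (Scheme.stalkClosedPointTo (h ≫ j)).hom ((W.presheaf.germ U _ hxU'').hom s) =
      (Scheme.stalkClosedPointTo h).hom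
        ((j.stalkMap (h (closedPoint Q))).hom ((W.presheaf.germ U _ hxU'').hom s)) := by
    rw [Scheme.stalkClosedPointTo_comp]
    rfl
  have h4 : (j.stalkMap (h (closedPoint Q))).hom ((W.presheaf.germ U _ hxU'').hom s) = 0 := by
    have e1 := Scheme.Hom.germ_stalkMap_apply j U (h (closedPoint Q)) hxU'' s
    have e2 := Scheme.Hom.germ_stalkMap_apply j U ξ hxU s
    refine e1.trans ?_
    have ha' := e2.symm.trans ha
    exact germ_eq_zero_congr (j ⁻¹ᵁ U) _ ξ _ hhcp.symm hxU hxU'' ha'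
  have h5 : q.hom ((W.presheaf.germ U (j ξ) hxU).hom s) = 0 := by
    rw [h1, h2, h3, h4, map_zero]
  exact Ideal.Quotient.eq_zero_iff_mem.1 h5


/-- Nilpotent elements of `O_{Y, π (j ξ)}` die in `O_{Z'', ξ}` when `j ≫ π` factors through a
reduced scheme. -/
theorem stalkMap_nilpotent_eq_zero {Z'' Y'' Y Yr : Scheme.{u}} [IsReduced Yr]
    (j : Z'' ⟶ Y'') (π : Y'' ⟶ Y) (p : Z'' ⟶ Yr) (ι : Yr ⟶ Y) (w : j ≫ π = p ≫ ι)
    (ξ : Z'') (a : Y.presheaf.stalk (π (j ξ))) (ha : IsNilpotent a) :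
    (j.stalkMap ξ).hom ((π.stalkMap (j ξ)).hom a) = 0 := by
  have h1 : (j.stalkMap ξ).hom ((π.stalkMap (j ξ)).hom a) = ((j ≫ π).stalkMap ξ).hom a := by
    rw [Scheme.Hom.stalkMap_comp]; rfl
  rw [h1, Scheme.Hom.stalkMap_congr_hom _ _ w, Scheme.Hom.stalkMap_comp]
  have e : (j ≫ π) ξ = (p ≫ ι) ξ := by rw [w]
  change (p.stalkMap ξ).hom ((ι.stalkMap (p ξ)).hom
    ((Y.presheaf.stalkCongr (.of_eq e)).hom.hom a)) = 0
  have h2 : IsNilpotent ((ι.stalkMap (p ξ)).hom
      ((Y.presheaf.stalkCongr (.of_eq e)).hom.hom a)) := (ha.map _).map _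
  rw [h2.eq_zero, map_zero]

/-- If `x` has no proper generization then the maximal ideal of `O_{X,x}` consists of
nilpotents. -/
theorem maximalIdeal_le_nilradical_of_maximal {X : Scheme.{u}} (x : X)
    (hx : ∀ y : X, y ⤳ x → y = x) :
    maximalIdeal (X.presheaf.stalk x) ≤ nilradical (X.presheaf.stalk x) := by
  rw [nilradical_eq_sInf]
  refine le_sInf fun P (hP : P.IsPrime) => ?_
  have h1 : X.fromSpecStalk x ⟨P, hP⟩ = x :=
    hx _ (by
      have : X.fromSpecStalk x ⟨P, hP⟩ ∈ Set.range (X.fromSpecStalk x) := ⟨_, rfl⟩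
      rw [Scheme.range_fromSpecStalk] at this
      exact this)
  have h2 : (⟨P, hP⟩ : PrimeSpectrum (X.presheaf.stalk x)) = closedPoint _ := by
    apply (X.fromSpecStalk x).isEmbedding.injective
    rw [h1, Scheme.fromSpecStalk_closedPoint]
  have h3 : P = maximalIdeal (X.presheaf.stalk x) := congrArg PrimeSpectrum.asIdeal h2
  rw [h3]

/-- Images of points without proper generization under a flat morphism have no proper
generization. -/
theorem maximal_of_flat {X Y : Scheme.{u}} (π : X ⟶ Y) [Flat π] (x : X)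
    (hx : ∀ y : X, y ⤳ x → y = x) (y : Y) (hy : y ⤳ π x) : y = π x := by
  obtain ⟨x', hx', rfl⟩ := (Flat.generalizingMap π) hy
  rw [hx x' hx']



open TensorProduct Groth.Agent.Lib.Seat32.LenPow in
theorem length_eq_mul_of_flat {A B C : Type u} [CommRing A] [CommRing B] [CommRing C]
    [IsLocalRing A] [IsLocalRing B] (φ : A →+* B) [IsLocalHom φ] (hφ : φ.Flat)
    (e : (B ⧸ (maximalIdeal A).map φ) ≃+* C) :
    Module.length B B = Module.length A A * Module.length C C := by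
  let _ : Algebra A B := φ.toAlgebra
  have : IsLocalHom (algebraMap A B) := ‹IsLocalHom φ›
  have : Module.Flat A B := hφ
  have h1 := IsLocalRing.length_baseChange A B A
  rw [(TensorProduct.AlgebraTensorModule.rid A B B).length_eq] at h1
  rw [h1]
  congr 1
  have h2 : Module.length B (B ⧸ (maximalIdeal A).map (algebraMap A B)) =
      Module.length (B ⧸ (maximalIdeal A).map (algebraMap A B))
        (B ⧸ (maximalIdeal A).map (algebraMap A B)) :=
    Module.length_eq_of_surjective Ideal.Quotient.mk_surjective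
  rw [h2]
  exact length_self_eq_of_ringEquiv e


section main

theorem exists_residue_lift {A B : Type u} [CommRing A] [CommRing B] [IsLocalRing A]
    (φ : A →+* B) (J : Ideal B) (hJ : (maximalIdeal A).map φ ≤ J) :
    ∃ θ : ResidueField A →+* B ⧸ J, θ.comp (residue A) = (Ideal.Quotient.mk J).comp φ :=
  ⟨Ideal.Quotient.lift (maximalIdeal A) ((Ideal.Quotient.mk J).comp φ) (by
      intro a ha
      rw [RingHom.comp_apply, Ideal.Quotient.eq_zero_iff_mem]
      exact hJ (Ideal.mem_map_of_mem _ ha)), by ext a; rfl⟩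

variable {Z'' Y'' Y Yr : Scheme.{u}}
    {j : Z'' ⟶ Y''} {π : Y'' ⟶ Y} {p : Z'' ⟶ Yr} {ι : Yr ⟶ Y}

theorem ker_stalkMap_le_map_maximalIdeal (hpb : IsPullback j p π ι) [IsClosedImmersion ι]
    (hι : Function.Surjective ι) (ξ : Z'') :
    RingHom.ker (j.stalkMap ξ).hom ≤
      (maximalIdeal (Y.presheaf.stalk (π (j ξ)))).map (π.stalkMap (j ξ)).hom := by
  have hjcl : IsClosedImmersion j := MorphismProperty.of_isPullback hpb.flip inferInstance
  have hJtop : (maximalIdeal (Y.presheaf.stalk (π (j ξ)))).map (π.stalkMap (j ξ)).hom ≠ ⊤ := (IsLocalRing.map_maximalIdeal_lt_top (π.stalkMap (j ξ)).hom).ne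
  obtain ⟨J, hJ⟩ : ∃ J, J = (maximalIdeal (Y.presheaf.stalk (π (j ξ)))).map (π.stalkMap (j ξ)).hom := ⟨_, rfl⟩
  rw [← hJ] at hJtop ⊢
  obtain ⟨θ, hθ'⟩ := exists_residue_lift (π.stalkMap (j ξ)).hom J hJ.ge
  -- the residue field of `A`
  let κ : CommRingCat.{u} := CommRingCat.of (ResidueField (Y.presheaf.stalk (π (j ξ))))
  let r : Y.presheaf.stalk (π (j ξ)) ⟶ κ :=
    CommRingCat.ofHom (residue (Y.presheaf.stalk (π (j ξ))))
  let Q : CommRingCat.{u} := CommRingCat.of (Y''.presheaf.stalk (j ξ) ⧸ J)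
  let q : Y''.presheaf.stalk (j ξ) ⟶ Q := CommRingCat.ofHom (Ideal.Quotient.mk J)
  have hθ : r ≫ CommRingCat.ofHom θ = π.stalkMap (j ξ) ≫ q := by
    apply CommRingCat.hom_ext
    exact hθ'
  -- `Spec κ ⟶ Y` lifts to `Yr`
  have : IsReduced (Spec κ) := by
    have : _root_.IsReduced κ := inferInstanceAs (_root_.IsReduced (ResidueField _))
    infer_instance
  obtain ⟨ρ', hρ'⟩ := Groth.Agent.Lib.Helper6.exists_lift_of_isReduced_of_range_subset
    (Spec.map r ≫ Y.fromSpecStalk (π (j ξ))) ι (by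
      rw [hι.range_eq]; exact Set.subset_univ _)
  let τ : Spec Q ⟶ Y'' := Spec.map q ≫ Y''.fromSpecStalk (j ξ)
  have hcomm : τ ≫ π = (Spec.map (CommRingCat.ofHom θ) ≫ ρ') ≫ ι := by
    change (Spec.map q ≫ Y''.fromSpecStalk (j ξ)) ≫ π = _
    rw [Category.assoc (Spec.map (CommRingCat.ofHom θ)), hρ', ← Category.assoc (Spec.map _) (Spec.map r),
      ← Spec.map_comp, hθ, Spec.map_comp, Category.assoc, Category.assoc,
      Scheme.SpecMap_stalkMap_fromSpecStalk]
  refine ker_stalkMap_le_of_lift j hjcl.isClosedEmbedding.injective ξ J hJtop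
    (hpb.lift τ _ hcomm) ?_
  exact hpb.lift_fst _ _ _

/-- At a point `ξ` whose image in `Y` has no proper generization, the kernel of
`O_{Y'',jξ} → O_{Z'',ξ}` is exactly `𝔪_A B`. -/
theorem ker_stalkMap_eq_map_maximalIdeal [IsReduced Yr] (hpb : IsPullback j p π ι)
    [IsClosedImmersion ι] (hι : Function.Surjective ι) (ξ : Z'')
    (hmax : ∀ y : Y, y ⤳ π (j ξ) → y = π (j ξ)) :
    RingHom.ker (j.stalkMap ξ).hom =
      (maximalIdeal (Y.presheaf.stalk (π (j ξ)))).map (π.stalkMap (j ξ)).hom := by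
  refine le_antisymm (ker_stalkMap_le_map_maximalIdeal hpb hι ξ) ?_
  rw [Ideal.map_le_iff_le_comap]
  intro a ha
  rw [Ideal.mem_comap, RingHom.mem_ker]
  exact stalkMap_nilpotent_eq_zero j π p ι hpb.w ξ a
    (mem_nilradical.1 (maximalIdeal_le_nilradical_of_maximal _ hmax ha))

theorem stalkMap_surjective_of_isPullback (hpb : IsPullback j p π ι) [IsClosedImmersion ι]
    (ξ : Z'') : Function.Surjective (j.stalkMap ξ).hom := by
  have hjcl : IsClosedImmersion j := MorphismProperty.of_isPullback hpb.flip inferInstance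
  exact j.stalkMap_surjective ξ

/-- `O_{Z'',ξ} ≃ B ⧸ 𝔪_A B`. -/
theorem nonempty_ringEquiv_stalk [IsReduced Yr] (hpb : IsPullback j p π ι)
    [IsClosedImmersion ι] (hι : Function.Surjective ι) (ξ : Z'')
    (hmax : ∀ y : Y, y ⤳ π (j ξ) → y = π (j ξ)) :
    Nonempty ((Y''.presheaf.stalk (j ξ) ⧸
        (maximalIdeal (Y.presheaf.stalk (π (j ξ)))).map (π.stalkMap (j ξ)).hom) ≃+*
      Z''.presheaf.stalk ξ) :=
  ⟨(Ideal.quotEquivOfEq (ker_stalkMap_eq_map_maximalIdeal hpb hι ξ hmax).symm).trans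
    (RingHom.quotientKerEquivOfSurjective (stalkMap_surjective_of_isPullback hpb ξ))⟩

/-- `ℓ(O_{Y'',jξ}) = ℓ(O_{Y,π(jξ)}) · ℓ(O_{Z'',ξ})` at maximal points, for `π` flat. -/
theorem length_stalk_eq_mul [IsReduced Yr] (hpb : IsPullback j p π ι) [IsClosedImmersion ι]
    (hι : Function.Surjective ι) [Flat π] (ξ : Z'')
    (hmax : ∀ y : Y'', y ⤳ j ξ → y = j ξ) :
    Module.length (Y''.presheaf.stalk (j ξ)) (Y''.presheaf.stalk (j ξ)) =
      Module.length (Y.presheaf.stalk (π (j ξ))) (Y.presheaf.stalk (π (j ξ))) *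
        Module.length (Z''.presheaf.stalk ξ) (Z''.presheaf.stalk ξ) := by
  have hmax' := maximal_of_flat π (j ξ) hmax
  obtain ⟨e⟩ := nonempty_ringEquiv_stalk hpb hι ξ hmax'
  exact length_eq_mul_of_flat (π.stalkMap (j ξ)).hom (Flat.stalkMap π (j ξ)) e

end main

end Groth.Agent.Lib.Seat32.StalkBC
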