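import Mathlib
import Groth.Agent.Lib.Seat32StalkBC

/-!
# Lengths of local rings at maximal points under extension of the base field (helper32)

`Y` a scheme over a field `k'`, `k''/k'` a field extension, `Y'' = Y ⊗ k''`,
`Z'' = Y_red ⊗ k''`, `j : Z'' ⟶ Y''` the canonical closed immersion.
* `length_eq_mul`: at a maximal point `x'' = j z''` of `Y''`,
  `ℓ(O_{Y'',x''}) = ℓ(O_{Y,x'}) · ℓ(O_{Z'',z''})`.
* `length_eq_of_geometricallyReduced`: if moreover `Y` is locally Noetherian and `k''/k'` is
  geometrically reduced (separable), then `ℓ(O_{Y'',x''}) = ℓ(O_{Y,x'})`.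
-/

open AlgebraicGeometry CategoryTheory CategoryTheory.Limits IsLocalRing

universe u

namespace Groth.Agent.Lib.Seat32.FBaseLen

open Groth.Agent.Lib.Seat32.StalkBC

variable {k' k'' : Type u} [Field k'] [Field k''] [Algebra k' k''] {Y : Scheme.{u}}
  (g : Y ⟶ Spec (CommRingCat.of k'))

/-- The canonical closed immersion `Y_red ⊗ k'' ⟶ Y ⊗ k''`. -/
noncomputable abbrev jmap :
    pullback (Y.nilradical.subschemeι ≫ g) (Spec.map (CommRingCat.ofHom (algebraMap k' k''))) ⟶
      pullback g (Spec.map (CommRingCat.ofHom (algebraMap k' k''))) :=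
  pullback.map (Y.nilradical.subschemeι ≫ g)
    (Spec.map (CommRingCat.ofHom (algebraMap k' k''))) g
    (Spec.map (CommRingCat.ofHom (algebraMap k' k''))) Y.nilradical.subschemeι (𝟙 _) (𝟙 _)
    (Category.comp_id _) ((Category.comp_id _).trans (Category.id_comp _).symm)

theorem isPullback_jmap :
    IsPullback (jmap (k'' := k'') g)
      (pullback.fst (Y.nilradical.subschemeι ≫ g)
        (Spec.map (CommRingCat.ofHom (algebraMap k' k''))))
      (pullback.fst g (Spec.map (CommRingCat.ofHom (algebraMap k' k''))))
      Y.nilradical.subschemeι := by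
  refine IsPullback.of_right ?_ (pullback.lift_fst _ _ _)
    (IsPullback.of_hasPullback g (Spec.map (CommRingCat.ofHom (algebraMap k' k'')))).flip
  have h1 : jmap (k'' := k'') g ≫
      pullback.snd g (Spec.map (CommRingCat.ofHom (algebraMap k' k''))) =
      pullback.snd (Y.nilradical.subschemeι ≫ g)
        (Spec.map (CommRingCat.ofHom (algebraMap k' k''))) := by
    rw [pullback.lift_snd, Category.comp_id]
  rw [h1]
  exact (IsPullback.of_hasPullback _ _).flip

theorem surjective_subschemeι : Function.Surjective Y.nilradical.subschemeι :=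
  Set.range_eq_univ.1 (Groth.Agent.Lib.Helper6.range_nilradical_subschemeι _)

/-- `ℓ(O_{Y'',x''}) = ℓ(O_{Y,x'}) · ℓ(O_{Z'',z''})` at a maximal point `x'' = j z''`. -/
theorem length_eq_mul
    (x'' : ↥(pullback g (Spec.map (CommRingCat.ofHom (algebraMap k' k'')))))
    (hx'' : ∀ z : ↥(pullback g (Spec.map (CommRingCat.ofHom (algebraMap k' k'')))),
      z ⤳ x'' → z = x'')
    (z'' : ↥(pullback (Y.nilradical.subschemeι ≫ g)
      (Spec.map (CommRingCat.ofHom (algebraMap k' k'')))))
    (hz'' : jmap (k'' := k'') g z'' = x'') :
    Module.length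
        ((pullback g (Spec.map (CommRingCat.ofHom (algebraMap k' k'')))).presheaf.stalk x'')
        ((pullback g (Spec.map (CommRingCat.ofHom (algebraMap k' k'')))).presheaf.stalk x'') =
      Module.length
          (Y.presheaf.stalk
            (pullback.fst g (Spec.map (CommRingCat.ofHom (algebraMap k' k''))) x''))
          (Y.presheaf.stalk
            (pullback.fst g (Spec.map (CommRingCat.ofHom (algebraMap k' k''))) x'')) *
        Module.length
          ((pullback (Y.nilradical.subschemeι ≫ g)
            (Spec.map (CommRingCat.ofHom (algebraMap k' k'')))).presheaf.stalk z'')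
          ((pullback (Y.nilradical.subschemeι ≫ g)
            (Spec.map (CommRingCat.ofHom (algebraMap k' k'')))).presheaf.stalk z'') := by
  have : IsReduced Y.nilradical.subscheme :=
    Groth.Agent.Lib.Helper6.isReduced_nilradical_subscheme _
  have : Flat (pullback.fst g (Spec.map (CommRingCat.ofHom (algebraMap k' k'')))) :=
    inferInstance
  subst hz''
  exact length_stalk_eq_mul (isPullback_jmap g) surjective_subschemeι z'' hx''

/-- If `k''/k'` is geometrically reduced and `Y` is locally Noetherian, the lengths of the local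
rings at a maximal point of `Y ⊗ k''` and at its image in `Y` agree. -/
theorem length_eq_of_geometricallyReduced [IsLocallyNoetherian Y]
    [GeometricallyReduced (Spec.map (CommRingCat.ofHom (algebraMap k' k'')))]
    (x'' : ↥(pullback g (Spec.map (CommRingCat.ofHom (algebraMap k' k'')))))
    (hx'' : ∀ z : ↥(pullback g (Spec.map (CommRingCat.ofHom (algebraMap k' k'')))),
      z ⤳ x'' → z = x'') :
    Module.length
        ((pullback g (Spec.map (CommRingCat.ofHom (algebraMap k' k'')))).presheaf.stalk x'')
        ((pullback g (Spec.map (CommRingCat.ofHom (algebraMap k' k'')))).presheaf.stalk x'') =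
      Module.length
          (Y.presheaf.stalk
            (pullback.fst g (Spec.map (CommRingCat.ofHom (algebraMap k' k''))) x''))
          (Y.presheaf.stalk
            (pullback.fst g (Spec.map (CommRingCat.ofHom (algebraMap k' k''))) x'')) := by
  have hred : IsReduced Y.nilradical.subscheme :=
    Groth.Agent.Lib.Helper6.isReduced_nilradical_subscheme _
  have hpb := isPullback_jmap (k'' := k'') g
  have hjs : Surjective (jmap (k'' := k'') g) :=
    MorphismProperty.of_isPullback hpb.flip ⟨surjective_subschemeι⟩
  obtain ⟨z'', hz''⟩ := hjs.surj x''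
  rw [length_eq_mul g x'' hx'' z'' hz'']
  -- `Z''` is reduced
  have hn : IsLocallyNoetherian Y.nilradical.subscheme :=
    LocallyOfFiniteType.isLocallyNoetherian Y.nilradical.subschemeι
  have hs : Flat (Spec.map (CommRingCat.ofHom (algebraMap k' k''))) := inferInstance
  have hZred : IsReduced (pullback (Y.nilradical.subschemeι ≫ g)
      (Spec.map (CommRingCat.ofHom (algebraMap k' k'')))) := inferInstance
  -- `z''` has no proper generization
  have hjcl : IsClosedImmersion (jmap (k'' := k'') g) :=
    MorphismProperty.of_isPullback hpb.flip inferInstance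
  have hzmax : ∀ w : ↥(pullback (Y.nilradical.subschemeι ≫ g)
      (Spec.map (CommRingCat.ofHom (algebraMap k' k'')))), w ⤳ z'' → w = z'' := by
    intro w hw
    apply hjcl.isClosedEmbedding.injective
    rw [hz'']
    apply hx''
    rw [← hz'']
    exact hw.map (Scheme.Hom.continuous _)
  have hm := maximalIdeal_le_nilradical_of_maximal z'' hzmax
  rw [nilradical_eq_zero, Submodule.zero_eq_bot, le_bot_iff,
    ← IsLocalRing.isField_iff_maximalIdeal_eq, Ring.isField_iff_isSimpleOrder_ideal] at hm
  have h1 : Module.length
      ((pullback (Y.nilradical.subschemeι ≫ g)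
        (Spec.map (CommRingCat.ofHom (algebraMap k' k'')))).presheaf.stalk z'')
      ((pullback (Y.nilradical.subschemeι ≫ g)
        (Spec.map (CommRingCat.ofHom (algebraMap k' k'')))).presheaf.stalk z'') = 1 := by
    rw [Module.length_eq_one_iff, isSimpleModule_iff]
    exact hm
  rw [h1, mul_one]

end Groth.Agent.Lib.Seat32.FBaseLen
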