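import Mathlib
import Groth.Agent.Lib.Helper22FTLimit

/-!
# Finite type ideal sheaves: kernels of finitely presented closed immersions, pullbacks;
integrality of the scheme-theoretic image

ns `Groth.Agent.Lib.Seat32.FTKer`:
* `ft_ker_of_lfp`: the kernel of a closed immersion locally of finite presentation is of finite type
* `ft_comap`: the pullback of a finite type ideal sheaf is of finite type
* `isIntegralHom_imageι_comp`: if `X ⟶ Y ⟶ S` is integral, `X ⟶ Y` quasi-compact and `Y ⟶ S`
  affine, then the scheme-theoretic image of `X` in `Y` is integral over `S`.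
-/

set_option autoImplicit false
universe u

namespace Groth.Agent.Lib.Seat32.FTKer

open CategoryTheory Limits AlgebraicGeometry Opposite
open Groth.Agent.Lib.Helper22 Groth.Agent.Lib.Helper22.FTIdeal Groth.Agent.Lib.Helper22.FTLimit

/-- the kernel of a closed immersion locally of finite presentation is of finite type -/
theorem ft_ker_of_lfp {Z Y : Scheme.{u}} (g : Z ⟶ Y) [IsClosedImmersion g]
    [LocallyOfFinitePresentation g] : FT g.ker := by
  intro W
  rw [Scheme.Hom.ker_apply]
  have haff : IsAffineOpen (g ⁻¹ᵁ W.1) := W.2.preimage g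
  have hsurj : Function.Surjective (g.app W.1).hom := g.app_surjective W.1 W.2
  have hfp : (g.app W.1).hom.FinitePresentation := by
    rw [Scheme.Hom.app_eq_appLE]
    exact g.finitePresentation_appLE W.2 haff le_rfl
  generalize (g.app W.1).hom = φ at hsurj hfp ⊢
  algebraize [φ]
  have h1 : Algebra.FinitePresentation Γ(Y, W.1) Γ(Y, W.1) := inferInstance
  exact Algebra.FinitePresentation.ker_fG_of_surjective (Algebra.ofId Γ(Y, W.1) Γ(Z, g ⁻¹ᵁ W.1))
    hsurj

/-- the pullback of a finite type ideal sheaf is of finite type -/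
theorem ft_comap {X Y : Scheme.{u}} (J : Y.IdealSheafData) (hJ : FT J) (f : X ⟶ Y) :
    FT (J.comap f) := by
  have h1 : LocallyOfFinitePresentation J.subschemeι :=
    locallyOfFinitePresentation_subschemeι J hJ
  exact ft_ker_of_lfp (pullback.fst f J.subschemeι)

/-- If `X ⟶ Y ⟶ S` is integral, `X ⟶ Y` is quasi-compact and `Y ⟶ S` is affine, then the
scheme-theoretic image of `X` in `Y` is integral over `S`. -/
theorem isIntegralHom_imageι_comp {X Y S : Scheme.{u}} (p : X ⟶ Y) (g : Y ⟶ S) [QuasiCompact p]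
    [IsAffineHom g] [IsIntegralHom (p ≫ g)] : IsIntegralHom (p.imageι ≫ g) := by
  have hint : IsIntegralHom (p.toImage ≫ p.imageι ≫ g) := by
    rw [Scheme.Hom.toImage_imageι_assoc]; infer_instance
  refine ⟨fun U hU => ?_⟩
  have hV : IsAffineOpen (g ⁻¹ᵁ U) := hU.preimage g
  have hinj : Function.Injective (p.toImage.app (p.imageι ⁻¹ᵁ (g ⁻¹ᵁ U))).hom :=
    p.toImage_app_injective ⟨g ⁻¹ᵁ U, hV⟩
  have h := IsIntegralHom.isIntegral_app (p.toImage ≫ p.imageι ≫ g) U hU
  have h2 : ((p.toImage.app (p.imageι ⁻¹ᵁ (g ⁻¹ᵁ U))).hom.comp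
      ((p.imageι ≫ g).app U).hom).IsIntegral := h
  exact RingHom.IsIntegral.tower_bot _ _ hinj h2

end Groth.Agent.Lib.Seat32.FTKer
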