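import Mathlib
import Groth.Agent.Lib.Seat32LenPow

/-!
# Ramification index and inertia degree via arbitrary localizations (helper32)

* `length_quotient_eq_of_ringEquiv`
* `ramificationIdx_eq_of_isLocalization`: for `A = R_p`, `B = S_q` (any models of the localizations) and a
  compatible `ψ : A → B`, `length_B (B/𝔪_A B) = e(q|p)` (Mathlib `Ideal.ramificationIdx`).
* `inertiaDeg_eq_of_isLocalization`: `[κ(B):κ(A)] = f(q|p)` (Mathlib `Ideal.inertiaDeg`).
-/

set_option autoImplicit false
set_option linter.style.haveILetI false
set_option linter.unusedSectionVars false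
open IsLocalRing

namespace Groth.Agent.Lib.Seat32.FibreDeg

open Groth.Agent.Lib.Seat32.LenPow

/-- Length of a cyclic module `B/I` is invariant under ring isomorphisms. -/
theorem length_quotient_eq_of_ringEquiv {B' B : Type*} [CommRing B'] [CommRing B] (e : B' ≃+* B)
    (I : Ideal B') :
    Module.length B' (B' ⧸ I) = Module.length B (B ⧸ I.map (e : B' →+* B)) := by
  have h1 : Module.length B' (B' ⧸ I) = Module.length (B' ⧸ I) (B' ⧸ I) :=
    Module.length_eq_of_surjective (S := B') (R := B' ⧸ I) (M := B' ⧸ I) Ideal.Quotient.mk_surjective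
  have h2 : Module.length B (B ⧸ I.map (e : B' →+* B)) =
      Module.length (B ⧸ I.map (e : B' →+* B)) (B ⧸ I.map (e : B' →+* B)) :=
    Module.length_eq_of_surjective (S := B) (R := B ⧸ I.map (e : B' →+* B))
      (M := B ⧸ I.map (e : B' →+* B)) Ideal.Quotient.mk_surjective
  rw [h1, h2]
  exact length_self_eq_of_ringEquiv (Ideal.quotientEquiv I (I.map (e : B' →+* B)) e rfl)

variable {R S A B : Type*} [CommRing R] [CommRing S] [Algebra R S] [CommRing A] [CommRing B]
  [Algebra R A] [Algebra S B] (p : Ideal R) [p.IsPrime] (q : Ideal S) [q.IsPrime] [q.LiesOver p]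
  [IsLocalization.AtPrime A p] [IsLocalization.AtPrime B q] [IsLocalRing A] [IsLocalRing B]

include p in
theorem ramificationIdx_eq_of_isLocalization (ψ : A →+* B)
    (hψ : ψ.comp (algebraMap R A) = (algebraMap S B).comp (algebraMap R S)) :
    (Module.length B (B ⧸ Ideal.map ψ (maximalIdeal A))).toNat = q.ramificationIdx R := by
  have hm : maximalIdeal A = Ideal.map (algebraMap R A) p :=
    (IsLocalization.AtPrime.map_eq_maximalIdeal p A).symm
  rw [hm, Ideal.map_map, hψ, Ideal.ramificationIdx_eq p q]
  let e : Localization.AtPrime q ≃ₐ[S] B := IsLocalization.algEquiv q.primeCompl _ _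
  have hI : Ideal.map ((algebraMap S B).comp (algebraMap R S)) p =
      Ideal.map (e.toRingEquiv : Localization.AtPrime q →+* B)
        (p.map (algebraMap R (Localization.AtPrime q))) := by
    rw [Ideal.map_map]
    congr 1
    ext r
    simp [IsScalarTower.algebraMap_apply R S (Localization.AtPrime q)]
  rw [hI, ← length_quotient_eq_of_ringEquiv]

include p in
theorem inertiaDeg_eq_of_isLocalization (ψ : A →+* B) [IsLocalHom ψ]
    (hψ : ψ.comp (algebraMap R A) = (algebraMap S B).comp (algebraMap R S)) :
    letI := (IsLocalRing.ResidueField.map ψ).toAlgebra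
    Module.finrank (ResidueField A) (ResidueField B) = q.inertiaDeg R := by
  letI := (IsLocalRing.ResidueField.map ψ).toAlgebra
  letI := Localization.AtPrime.algebraOfLiesOver p q
  rw [Ideal.inertiaDeg_eq p q]
  let eA : Localization.AtPrime p ≃ₐ[R] A := IsLocalization.algEquiv p.primeCompl _ _
  let eB : Localization.AtPrime q ≃ₐ[S] B := IsLocalization.algEquiv q.primeCompl _ _
  symm
  refine Algebra.finrank_eq_of_equiv_equiv (IsLocalRing.ResidueField.mapEquiv eA.toRingEquiv)
    (IsLocalRing.ResidueField.mapEquiv eB.toRingEquiv) ?_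
  apply Ideal.Quotient.ringHom_ext
  apply IsLocalization.ringHom_ext p.primeCompl
  ext r
  have hL : ψ (eA (algebraMap R (Localization.AtPrime p) r)) =
      algebraMap S B (algebraMap R S r) := by
    rw [eA.commutes]; exact RingHom.congr_fun hψ r
  have hR : eB (algebraMap (Localization.AtPrime p) (Localization.AtPrime q)
      (algebraMap R (Localization.AtPrime p) r)) = algebraMap S B (algebraMap R S r) := by
    rw [Localization.AtPrime.IsLiesOverAlgebra.algebraMap_eq (p := p) (P := q),
      Localization.localRingHom_to_map, eB.commutes]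
  change residue B (ψ (eA (algebraMap R (Localization.AtPrime p) r))) =
    residue B (eB (algebraMap (Localization.AtPrime p) (Localization.AtPrime q)
      (algebraMap R (Localization.AtPrime p) r)))
  rw [hL, hR]

end Groth.Agent.Lib.Seat32.FibreDeg
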