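import Mathlib

/-!
# A common extension of a family of field extensions (seat 32)

`exists_common_extension`: for a family `L i` of field extensions of a field `k` (all in one
universe, indexed by a type of that universe) there is a field extension `K` of `k` (in the same
universe) receiving a `k`-embedding of every `L i`.  Proof: choose transcendence bases `s i`,
let `K` be an algebraic closure of the rational function field in the disjoint union of the `s i`,
and extend the obvious embeddings of the purely transcendental parts.
-/

set_option autoImplicit false
universe u

namespace Groth.Agent.Lib.Seat32.FieldExt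

theorem exists_common_extension (k : Type u) [Field k] {I : Type u} (L : I → Type u)
    [∀ i, Field (L i)] [∀ i, Algebra k (L i)] :
    ∃ (K : Type u) (_ : Field K) (_ : Algebra k K), ∀ i, Nonempty (L i →ₐ[k] K) := by
  classical
  choose s hs using fun i => exists_isTranscendenceBasis k (L i)
  let J := Σ i, ↥(s i)
  let P := MvPolynomial J k
  let F := FractionRing P
  let K := AlgebraicClosure F
  refine ⟨K, inferInstance, inferInstance, fun i => ?_⟩
  have hx : AlgebraicIndependent k ((↑) : s i → L i) := (hs i).1
  let ι : ↥(s i) → J := fun a => ⟨i, a⟩
  have hι : Function.Injective ι := fun a b h => eq_of_heq (Sigma.mk.inj h).2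
  let r : MvPolynomial (s i) k →ₐ[k] F :=
    (IsScalarTower.toAlgHom k P F).comp (MvPolynomial.rename ι)
  have hr : Function.Injective r :=
    (IsFractionRing.injective P F).comp (MvPolynomial.rename_injective _ hι)
  let g : FractionRing (MvPolynomial (s i) k) →ₐ[k] F := IsFractionRing.liftAlgHom hr
  let f : IntermediateField.adjoin k (Set.range ((↑) : s i → L i)) →ₐ[k] K :=
    (IsScalarTower.toAlgHom k F K).comp (g.comp hx.reprField)
  have := (hs i).isAlgebraic_field
  obtain ⟨φ, -⟩ := IsAlgClosed.surjective_domRestrict_of_isAlgebraic
    (K := k) (L := IntermediateField.adjoin k (Set.range ((↑) : s i → L i))) (M := K)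
    (E := L i) f
  exact ⟨φ⟩

end Groth.Agent.Lib.Seat32.FieldExt
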