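import Mathlib
import Groth.Prelude.Def_Cyc
import Groth.Agent.Lib.Seat32FibreDeg
import Groth.Agent.Lib.Seat32CycFin

/-!
# The fibre formula for finite flat morphisms (helper32, for S1868)

For `f : X ⟶ Y`, an affine open `V ⊆ Y` and `x ∈ f⁻¹V` (with `f⁻¹V` affine):
* `liesOver`, `length_eq_ramificationIdx`, `residueDegree_eq_inertiaDeg`: the scheme-theoretic quantities
  `length(O_x/𝔪_{f x}O_x)` and `[κ(x):κ(f x)]` are Mathlib's `Ideal.ramificationIdx`, `Ideal.inertiaDeg` for the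
  prime of `x` in `Γ(X, f⁻¹V)` over `Γ(Y, V)`.
* `rankQ_app`: a finite flat morphism of constant rank `d` has rank `d` on every affine chart.
* `finsum_fibre`: `Σ_{x ↦ y} length(O_x/𝔪_y O_x)·[κ(x):κ(y)] = d`.
* `residueDegree_pos`: residue degrees of a finite morphism are positive.
-/

set_option autoImplicit false
set_option linter.style.haveILetI false
universe u
open AlgebraicGeometry CategoryTheory CategoryTheory.Limits TopologicalSpace Opposite IsLocalRing

namespace Groth.Agent.Lib.Seat32.FinFlatDeg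

open Groth.Agent.Lib.Seat32.FibreDeg Groth.Agent.Lib.Seat32.CycFin

variable {X Y : Scheme.{u}} (f : X ⟶ Y) {V : Y.Opens} (hV : IsAffineOpen V)
  (hU : IsAffineOpen (f ⁻¹ᵁ V))

/-- the prime of `f x` is the contraction of the prime of `x`. -/
theorem liesOver (x : X) (hx : x ∈ f ⁻¹ᵁ V) :
    letI := (f.app V).hom.toAlgebra
    (hU.primeIdealOf ⟨x, hx⟩).asIdeal.LiesOver (hV.primeIdealOf ⟨f x, hx⟩).asIdeal := by
  letI := (f.app V).hom.toAlgebra
  constructor
  ext r
  have hfx : f x ∈ V := hx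
  change r ∈ (hV.primeIdealOf ⟨f x, hfx⟩).asIdeal ↔
    (f.app V).hom r ∈ (hU.primeIdealOf ⟨x, hx⟩).asIdeal
  rw [mem_primeIdealOf_iff_notMem_basicOpen hV, mem_primeIdealOf_iff_notMem_basicOpen hU,
    ← Scheme.preimage_basicOpen]
  rfl

theorem stalkMap_comp_algebraMap (x : X) (hx : x ∈ f ⁻¹ᵁ V) :
    letI := (f.app V).hom.toAlgebra
    letI := Y.presheaf.algebra_section_stalk (U := V) ⟨f x, hx⟩
    letI := X.presheaf.algebra_section_stalk (U := f ⁻¹ᵁ V) ⟨x, hx⟩
    (f.stalkMap x).hom.comp (algebraMap Γ(Y, V) (Y.presheaf.stalk (f x))) =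
      (algebraMap Γ(X, f ⁻¹ᵁ V) (X.presheaf.stalk x)).comp (algebraMap Γ(Y, V) Γ(X, f ⁻¹ᵁ V)) := by
  have := congrArg CommRingCat.Hom.hom (Scheme.Hom.germ_stalkMap f V x hx)
  exact this

include hV in
theorem length_eq_ramificationIdx (x : X) (hx : x ∈ f ⁻¹ᵁ V) :
    letI := (f.app V).hom.toAlgebra
    (Module.length (X.presheaf.stalk x) (X.presheaf.stalk x ⧸ Ideal.map (f.stalkMap x).hom
      (maximalIdeal (Y.presheaf.stalk (f x))))).toNat =
      (hU.primeIdealOf ⟨x, hx⟩).asIdeal.ramificationIdx Γ(Y, V) := by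
  letI := (f.app V).hom.toAlgebra
  letI := Y.presheaf.algebra_section_stalk (U := V) ⟨f x, hx⟩
  letI := X.presheaf.algebra_section_stalk (U := f ⁻¹ᵁ V) ⟨x, hx⟩
  haveI := hV.isLocalization_stalk ⟨f x, hx⟩
  haveI := hU.isLocalization_stalk ⟨x, hx⟩
  haveI := liesOver f hV hU x hx
  exact ramificationIdx_eq_of_isLocalization (hV.primeIdealOf ⟨f x, hx⟩).asIdeal
    (hU.primeIdealOf ⟨x, hx⟩).asIdeal (f.stalkMap x).hom (stalkMap_comp_algebraMap f x hx)

include hV in
theorem residueDegree_eq_inertiaDeg (x : X) (hx : x ∈ f ⁻¹ᵁ V) :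
    letI := (f.app V).hom.toAlgebra
    f.residueDegree x = (hU.primeIdealOf ⟨x, hx⟩).asIdeal.inertiaDeg Γ(Y, V) := by
  letI := (f.app V).hom.toAlgebra
  letI := Y.presheaf.algebra_section_stalk (U := V) ⟨f x, hx⟩
  letI := X.presheaf.algebra_section_stalk (U := f ⁻¹ᵁ V) ⟨x, hx⟩
  haveI := hV.isLocalization_stalk ⟨f x, hx⟩
  haveI := hU.isLocalization_stalk ⟨x, hx⟩
  haveI := liesOver f hV hU x hx
  exact inertiaDeg_eq_of_isLocalization (hV.primeIdealOf ⟨f x, hx⟩).asIdeal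
    (hU.primeIdealOf ⟨x, hx⟩).asIdeal (f.stalkMap x).hom (stalkMap_comp_algebraMap f x hx)

section Rank

/-- finite flat of constant rank `d` (copied from helper18's `Helper18FinFlat2`, to keep imports light). -/
def RankQ (d : ℕ) {R T : Type u} [CommRing R] [CommRing T] (φ : R →+* T) : Prop :=
  φ.Finite ∧ φ.Flat ∧ ∀ p, φ.finrank p = d

theorem rankQ_respectsIso (d : ℕ) : RingHom.RespectsIso (@RankQ d) := by
  constructor
  · intro R T T' _ _ _ φ e ⟨h1, h2, h3⟩
    refine ⟨RingHom.finite_respectsIso.1 φ e h1, RingHom.Flat.respectsIso.1 φ e h2, fun p => ?_⟩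
    rw [← h3 p]
    exact RingHom.finrank_comp_left_of_bijective φ e.toRingHom e.bijective h1 h2 p
  · intro R T T' _ _ _ φ e ⟨h1, h2, h3⟩
    refine ⟨RingHom.finite_respectsIso.2 φ e h1, RingHom.Flat.respectsIso.2 φ e h2, fun p => ?_⟩
    rw [← h3 (PrimeSpectrum.comap e.symm.toRingHom p)]
    refine RingHom.finrank_comp_right_of_bijective e.toRingHom φ e.bijective h1 h2 p _ ?_
    ext x
    simp

set_option backward.isDefEq.respectTransparency false in
theorem finrank_eq_of_isAffine' {X' S' : Scheme.{u}} (g : X' ⟶ S') [IsAffine X'] [IsAffine S']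
    [IsFinite g] [Flat g] (y : S') :
    g.finrank y = g.appTop.hom.finrank (S'.isoSpec.hom y) := by
  have hpb : IsPullback X'.isoSpec.hom g (Spec.map g.appTop) S'.isoSpec.hom :=
    IsPullback.of_horiz_isIso ⟨Scheme.isoSpec_hom_naturality g⟩
  have hf₁ : g.appTop.hom.Finite := g.finite_appTop
  have hf₂ : g.appTop.hom.Flat := g.flat_appTop
  haveI : IsFinite (Spec.map g.appTop) := (IsFinite.SpecMap_iff _).2 hf₁
  haveI : Flat (Spec.map g.appTop) := Flat.SpecMap_iff.2 hf₂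
  rw [Scheme.Hom.finrank_of_isPullback _ _ _ _ hpb y, Scheme.Hom.finrank_SpecMap_eq_finrank hf₁ hf₂]

set_option backward.isDefEq.respectTransparency false in
theorem appTop_restrict_iff {Q : ∀ {R T : Type u} [CommRing R] [CommRing T], (R →+* T) → Prop}
    (hQ : RingHom.RespectsIso @Q) (W : Y.Opens) :
    Q ((f ∣_ W).appTop).hom ↔ Q (f.app W).hom := by
  rw [morphismRestrict_appTop, CommRingCat.hom_comp, hQ.cancel_right_isIso]
  have : ∀ (V : Y.Opens), V = W → (Q (f.app V).hom ↔ Q (f.app W).hom) := by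
    rintro V rfl; rfl
  exact this _ (Scheme.Opens.ι_image_top W)

include hV in
/-- a finite flat morphism of constant rank `d` has rank `d` on every affine chart. -/
theorem rankQ_app [IsFinite f] [Flat f] (d : ℕ) (hd : ∀ y : Y, f.finrank y = d) :
    RankQ d (f.app V).hom := by
  haveI : IsAffine ((f ⁻¹ᵁ V : X.Opens) : Scheme.{u}) := hV.preimage f
  haveI : IsAffine ((V : Y.Opens) : Scheme.{u}) := hV
  rw [← appTop_restrict_iff f (rankQ_respectsIso d) V]
  refine ⟨(f ∣_ V).finite_appTop, (f ∣_ V).flat_appTop, fun p => ?_⟩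
  obtain ⟨v, rfl⟩ : ∃ v, (V : Scheme.{u}).isoSpec.hom v = p :=
    (V : Scheme.{u}).isoSpec.hom.homeomorph.surjective p
  rw [← finrank_eq_of_isAffine']
  have h1 := Scheme.Hom.finrank_of_isPullback _ _ _ _ (isPullback_morphismRestrict f V).flip v
  rw [h1]
  exact hd _

include hV in
/-- The fibre formula `Σ_{x ↦ y} length(O_x/𝔪_y O_x)·[κ(x):κ(y)] = d` for a finite flat morphism of
constant rank `d`. -/
theorem finsum_fibre [IsFinite f] [Flat f] (d : ℕ) (hd : ∀ y : Y, f.finrank y = d) (y : Y)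
    (hy : y ∈ V) :
    ∑ᶠ x ∈ f ⁻¹' {y}, ((Module.length (X.presheaf.stalk x) (X.presheaf.stalk x ⧸
      Ideal.map (f.stalkMap x).hom (maximalIdeal (Y.presheaf.stalk (f x))))).toNat *
        f.residueDegree x) = d := by
  classical
  have hU : IsAffineOpen (f ⁻¹ᵁ V) := hV.preimage f
  letI := (f.app V).hom.toAlgebra
  obtain ⟨hfin, hflat, hrk⟩ := rankQ_app f hV d hd
  haveI : Module.Finite Γ(Y, V) Γ(X, f ⁻¹ᵁ V) := hfin
  haveI : Module.Flat Γ(Y, V) Γ(X, f ⁻¹ᵁ V) := hflat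
  set p := hV.primeIdealOf ⟨y, hy⟩ with hp
  haveI : Fintype (p.asIdeal.primesOver Γ(X, f ⁻¹ᵁ V)) :=
    (Algebra.QuasiFinite.finite_primesOver p.asIdeal).fintype
  have key := Ideal.sum_ramification_inertia_eq_finrank_fiber p.asIdeal Γ(X, f ⁻¹ᵁ V)
  rw [Ideal.finrank_fiber_eq_rankAtStalk] at key
  have hrk' : Module.rankAtStalk (R := Γ(Y, V)) Γ(X, f ⁻¹ᵁ V) ⟨p.asIdeal, p.2⟩ = d := hrk p
  rw [hrk'] at key
  rw [← key]
  have hmem : ∀ x, x ∈ f ⁻¹' {y} → x ∈ f ⁻¹ᵁ V := fun x hx => by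
    change f x ∈ V; rw [show f x = y from hx]; exact hy
  have hlo : ∀ (x : X) (hx : x ∈ f ⁻¹' {y}),
      (hU.primeIdealOf ⟨x, hmem x hx⟩).asIdeal.LiesOver p.asIdeal := by
    intro x hx
    have h := liesOver f hV hU x (hmem x hx)
    have e : hV.primeIdealOf ⟨f x, hmem x hx⟩ = p := by
      rw [hp]; congr 1; exact Subtype.ext hx
    rwa [e] at h
  let Ψ : ↥(f ⁻¹' {y}) → p.asIdeal.primesOver Γ(X, f ⁻¹ᵁ V) := fun x =>
    ⟨(hU.primeIdealOf ⟨x.1, hmem x.1 x.2⟩).asIdeal,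
      ⟨(hU.primeIdealOf ⟨x.1, hmem x.1 x.2⟩).2, hlo x.1 x.2⟩⟩
  have hΨ : Function.Bijective Ψ := by
    constructor
    · intro x x' h
      have h1 : (hU.primeIdealOf ⟨x.1, hmem x.1 x.2⟩).asIdeal =
          (hU.primeIdealOf ⟨x'.1, hmem x'.1 x'.2⟩).asIdeal := congrArg Subtype.val h
      exact Subtype.ext (primeIdealOf_injective hU _ _ _ _ (PrimeSpectrum.ext h1))
    · intro q
      let q' : PrimeSpectrum Γ(X, f ⁻¹ᵁ V) := ⟨q.1, q.2.1⟩
      have hxU := fromSpec_mem hU q'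
      have hq := primeIdealOf_fromSpec hU q' hxU
      have h := liesOver f hV hU (hU.fromSpec q') hxU
      rw [hq] at h
      have hover : q.1.LiesOver p.asIdeal := q.2.2
      have e : (hV.primeIdealOf ⟨f (hU.fromSpec q'), hxU⟩).asIdeal = p.asIdeal := by
        rw [h.over, hover.over]
      have hfy : f (hU.fromSpec q') = y :=
        primeIdealOf_injective hV _ _ _ _ (PrimeSpectrum.ext e)
      refine ⟨⟨hU.fromSpec q', hfy⟩, ?_⟩
      apply Subtype.ext
      change (hU.primeIdealOf ⟨hU.fromSpec q', _⟩).asIdeal = q.1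
      rw [hq]
  rw [← finsum_set_coe_eq_finsum_mem, finsum_eq_of_bijective Ψ hΨ
    (g := fun q => q.1.ramificationIdx Γ(Y, V) * q.1.inertiaDeg Γ(Y, V)), finsum_eq_sum_of_fintype]
  intro x
  rw [length_eq_ramificationIdx f hV hU x.1 (hmem x.1 x.2),
    residueDegree_eq_inertiaDeg f hV hU x.1 (hmem _ x.2)]

include hV in
theorem residueDegree_pos_of_mem [IsFinite f] (x : X) (hx : x ∈ f ⁻¹ᵁ V) :
    0 < f.residueDegree x := by
  have hU : IsAffineOpen (f ⁻¹ᵁ V) := hV.preimage f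
  letI := (f.app V).hom.toAlgebra
  haveI : Module.Finite Γ(Y, V) Γ(X, f ⁻¹ᵁ V) := f.finite_app V hV
  rw [residueDegree_eq_inertiaDeg f hV hU x hx]
  haveI := (hU.primeIdealOf ⟨x, hx⟩).2
  exact Ideal.inertiaDeg_pos _ _

/-- residue degrees of a finite morphism are positive (the residue field extensions are finite). -/
theorem residueDegree_pos [IsFinite f] (x : X) : 0 < f.residueDegree x := by
  obtain ⟨V, hV, hxV, -⟩ := exists_isAffineOpen_mem_and_subset (X := Y) (U := ⊤) (x := f x) (by simp)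
  exact residueDegree_pos_of_mem f hV x hxV

end Rank

end Groth.Agent.Lib.Seat32.FinFlatDeg
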