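import Mathlib
import Groth.Prelude.Def_Cyc
import Groth.Agent.Lib.Seat32FinFlatDeg

/-!
# `f_* f^* α = d • α` for a finite flat morphism of constant rank `d` (helper32, S1868)

* `hasRelDim_zero`: a finite morphism has relative dimension `0` (`Cyc.HasRelDim f 0`).
* `delta_eq`: `Cyc.DeltaCompat` for a finite morphism forces `δX x = δY (f x)`.
* `map_pullFun`: S1868.
-/

set_option autoImplicit false
set_option linter.style.haveILetI false
universe u
open AlgebraicGeometry CategoryTheory CategoryTheory.Limits TopologicalSpace Opposite IsLocalRing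

namespace Groth.Agent.Lib.Seat32.FinFlatPush

open Groth.Agent.Lib.Seat32.FinFlatDeg

variable {X Y : Scheme.{u}} (f : X ⟶ Y)

/-- a finite morphism has relative dimension `0`. -/
theorem hasRelDim_zero [IsFinite f] : Cyc.HasRelDim f 0 := by
  intro y T hT
  haveI : DiscreteTopology (f.fiber y) := inferInstance
  apply le_antisymm
  · exact_mod_cast topologicalKrullDim_zero_of_discreteTopology T
  · obtain ⟨t, ht⟩ := hT.1.1
    haveI : Nonempty (IrreducibleCloseds T) :=
      ⟨⟨closure {(⟨t, ht⟩ : T)}, isIrreducible_singleton.closure, isClosed_closure⟩⟩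
    exact_mod_cast Order.krullDim_nonneg

/-- for a finite morphism, `DeltaCompat` forces `δX x = δY (f x)`. -/
theorem delta_eq [IsFinite f] {δX : X → ℤ} {δY : Y → ℤ} (hδ : Cyc.DeltaCompat f δX δY) (x : X) :
    δX x = δY (f x) := by
  obtain ⟨n, hn, hx⟩ := hδ x
  letI := (f.residueFieldMap x).hom.toAlgebra
  have hpos : 0 < Module.finrank (Y.residueField (f x)) (X.residueField x) := residueDegree_pos f x
  haveI : Module.Finite (Y.residueField (f x)) (X.residueField x) := Module.finite_of_finrank_pos hpos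
  have h0 : Algebra.trdeg (Y.residueField (f x)) (X.residueField x) = 0 := trdeg_eq_zero
  have hn0 : n = 0 := by
    have : ((n : ℕ) : Cardinal) = 0 := by rw [← hn]; exact h0
    exact_mod_cast this
  rw [hx, hn0]; simp

/-- S1868: for `f` finite flat of constant rank `d`, `f_* f^* α = d • α`. -/
theorem map_pullFun [IsFinite f] [Flat f] (δX : X → ℤ) (δY : Y → ℤ) (d : ℕ)
    (hd : ∀ y : Y, f.finrank y = d) (hδ : Cyc.DeltaCompat f δX δY)
    (α : AlgebraicCycle Y ℤ) (α' : AlgebraicCycle X ℤ)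
    (hα' : ⇑α' = Cyc.pullFun f δX δY 0 ⇑α) :
    AlgebraicCycle.map f δX δY α' = d • α := by
  ext y
  obtain ⟨V, hV, hyV, -⟩ := exists_isAffineOpen_mem_and_subset (X := Y) (U := ⊤) (x := y) (by simp)
  have hfib := finsum_fibre f hV d hd y hyV
  have hfin : (f ⁻¹' {y}).Finite := f.finite_preimage_singleton y
  change ∑ᶠ x ∈ f ⁻¹' {y}, α' x * ((AlgebraicCycle.mapCoeff f δX δY x : ℕ) : ℤ) = (d • α) y
  let F : X → ℕ := fun x => (Module.length (X.presheaf.stalk x) (X.presheaf.stalk x ⧸
        Ideal.map (f.stalkMap x).hom (maximalIdeal (Y.presheaf.stalk (f x))))).toNat *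
          f.residueDegree x
  have hF : ∑ᶠ x ∈ f ⁻¹' {y}, F x = d := hfib
  have hterm : ∀ x ∈ f ⁻¹' {y}, α' x * ((AlgebraicCycle.mapCoeff f δX δY x : ℕ) : ℤ) =
      α y * ((F x : ℕ) : ℤ) := by
    intro x hx
    have hxy : f x = y := hx
    have hdx := delta_eq f hδ x
    rw [hα']
    unfold Cyc.pullFun AlgebraicCycle.mapCoeff
    have hαy : α (f x) = α y := by rw [hxy]
    rw [if_pos (by rw [hdx]; ring), if_pos hdx, hαy]
    simp only [F]
    push_cast
    ring
  rw [finsum_mem_congr rfl hterm, ← mul_finsum_mem (fun x => ((F x : ℕ) : ℤ)) (α y)]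
  have hcast : ∑ᶠ x ∈ f ⁻¹' {y}, ((F x : ℕ) : ℤ) = ((d : ℕ) : ℤ) := by
    rw [← hF]
    exact ((Nat.castAddMonoidHom ℤ).map_finsum_mem _ hfin).symm
  rw [hcast]
  simp [mul_comm]

end Groth.Agent.Lib.Seat32.FinFlatPush
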