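import Mathlib
import Groth.Agent.Lib.Seat32LenPow
import Groth.Agent.Lib.Seat62OrdTransport

/-!
# Orders of vanishing along a flat local homomorphism, modulo a prime (helper32)

Ring-level input for the flat pullback of principal divisors on closed subschemes:
for `φ : A → B` flat local, `𝔭 ⊂ A` prime and `a ∉ 𝔭`:
* `ord_quot_map` : `ord_{B/𝔭B}(φ a) = ord_{A/𝔭}(a) · ℓ_B(B/𝔪_A B)`;
* `mk_map_mem_nonZeroDivisors` : `φ a` is a nonzerodivisor on `B/𝔭B`;
* `ord_quot_quot` : `ord_{(B/I)/Q}(b) = ord_{B/q}(b)` for `q ⊇ I`, `Q = q/I`;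
* `length_localization_quot` : `ℓ((B/I)_Q) = ℓ_S(S/IS)` for `S = B_q`.
-/

set_option autoImplicit false
set_option linter.style.haveILetI false
universe u
open TensorProduct IsLocalRing

namespace Groth.Agent.Lib.Seat32.FlatOrd

section length

variable {R : Type u} [CommRing R]

/-- the length of `(R/I)/(r)` over `R/I` is the length of `R/(I + (r))` over `R`. -/
theorem ord_quot_eq_length (I : Ideal R) (r : R) :
    Ring.ord (R ⧸ I) (Ideal.Quotient.mk I r) =
      Module.length R (R ⧸ (I ⊔ Ideal.span {r})) := by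
  unfold Ring.ord
  have hsurj : Function.Surjective (algebraMap R (R ⧸ I)) := Ideal.Quotient.mk_surjective
  rw [← Module.length_eq_of_surjective (S := R) (R := R ⧸ I)
    (M := (R ⧸ I) ⧸ Ideal.span {Ideal.Quotient.mk I r}) hsurj]
  have hmap : (Ideal.span {r}).map (Ideal.Quotient.mk I) = Ideal.span {Ideal.Quotient.mk I r} := by
    rw [Ideal.map_span, Set.image_singleton]
  have e1 : ((R ⧸ I) ⧸ Ideal.span {Ideal.Quotient.mk I r}) ≃ₗ[R]
      ((R ⧸ I) ⧸ (Ideal.span {r}).map (Ideal.Quotient.mk I)) :=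
    ((Ideal.quotientEquivAlgOfEq R hmap.symm)).toLinearEquiv
  have e2 : ((R ⧸ I) ⧸ (Ideal.span {r}).map (Ideal.Quotient.mk I)) ≃ₗ[R]
      (R ⧸ (I ⊔ Ideal.span {r})) :=
    (DoubleQuot.quotQuotEquivQuotSupₐ R I (Ideal.span {r})).toLinearEquiv
  exact (e1.trans e2).length_eq

end length

section flat

variable {A B : Type u} [CommRing A] [CommRing B]

/-- the length of `B/IB` along a flat local homomorphism. -/
theorem length_quot_map [IsLocalRing A] [IsLocalRing B] (φ : A →+* B) [IsLocalHom φ]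
    (hφ : φ.Flat) (I : Ideal A) :
    Module.length B (B ⧸ I.map φ) =
      Module.length A (A ⧸ I) * Module.length B (B ⧸ Ideal.map φ (maximalIdeal A)) := by
  letI : Algebra A B := φ.toAlgebra
  haveI : Module.Flat A B := hφ
  haveI : IsLocalHom (algebraMap A B) := ‹IsLocalHom φ›
  have h1 := IsLocalRing.length_baseChange A B (A ⧸ I)
  have h2 : Module.length B (B ⊗[A] (A ⧸ I)) = Module.length B (B ⧸ I.map (algebraMap A B)) :=
    ((Algebra.TensorProduct.quotIdealMapEquivTensorQuot B I).toLinearEquiv.length_eq).symm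
  rw [h2] at h1
  exact h1

/-- `ord_{B/𝔭B}(φ a) = ord_{A/𝔭}(a) · ℓ_B(B/𝔪_A B)`. -/
theorem ord_quot_map [IsLocalRing A] [IsLocalRing B] (φ : A →+* B) [IsLocalHom φ]
    (hφ : φ.Flat) (𝔭 : Ideal A) (a : A) :
    Ring.ord (B ⧸ 𝔭.map φ) (Ideal.Quotient.mk _ (φ a)) =
      Ring.ord (A ⧸ 𝔭) (Ideal.Quotient.mk _ a) *
        Module.length B (B ⧸ Ideal.map φ (maximalIdeal A)) := by
  rw [ord_quot_eq_length, ord_quot_eq_length, ← length_quot_map φ hφ, Ideal.map_sup,
    Ideal.map_span, Set.image_singleton]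

/-- `φ a` is a nonzerodivisor on `B/𝔭B` for `φ` flat, `𝔭` prime and `a ∉ 𝔭`. -/
theorem mk_map_mem_nonZeroDivisors (φ : A →+* B) (hφ : φ.Flat) (𝔭 : Ideal A) [𝔭.IsPrime]
    (a : A) (ha : a ∉ 𝔭) :
    Ideal.Quotient.mk (𝔭.map φ) (φ a) ∈ nonZeroDivisors (B ⧸ 𝔭.map φ) := by
  letI : Algebra A B := φ.toAlgebra
  haveI : Module.Flat A B := hφ
  let e := Algebra.TensorProduct.quotIdealMapEquivTensorQuot B 𝔭
  let m : (A ⧸ 𝔭) →ₗ[A] (A ⧸ 𝔭) := LinearMap.lsmul A (A ⧸ 𝔭) a
  have hm : Function.Injective m := by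
    intro u v huv
    have h1 : Ideal.Quotient.mk 𝔭 a * u = Ideal.Quotient.mk 𝔭 a * v := by
      have : a • u = a • v := huv
      rwa [Algebra.smul_def, Algebra.smul_def] at this
    have h0 : Ideal.Quotient.mk 𝔭 a ≠ 0 := fun h => ha (Ideal.Quotient.eq_zero_iff_mem.1 h)
    exact mul_left_cancel₀ h0 h1
  have hT : Function.Injective (m.lTensor B) :=
    Module.Flat.lTensor_preserves_injective_linearMap m hm
  have hsm : ∀ t : B ⊗[A] (A ⧸ 𝔭), (m.lTensor B) t = (algebraMap A B a) • t := by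
    intro t
    induction t using TensorProduct.induction_on with
    | zero => simp
    | tmul b u =>
      rw [LinearMap.lTensor_tmul]
      show b ⊗ₜ[A] (a • u) = (algebraMap A B a) • (b ⊗ₜ[A] u)
      rw [TensorProduct.tmul_smul, algebraMap_smul]
    | add x y hx hy => rw [map_add, hx, hy, smul_add]
  rw [mem_nonZeroDivisors_iff_right]
  intro z hz
  have h1 : (m.lTensor B) (e z) = 0 := by
    rw [hsm, ← map_smul, Algebra.smul_def]
    have : (algebraMap B (B ⧸ 𝔭.map (algebraMap A B))) (algebraMap A B a) * z = 0 := by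
      rw [mul_comm]; exact hz
    rw [this, map_zero]
  have h2 : e z = 0 := hT (h1.trans (map_zero _).symm)
  exact e.injective (h2.trans (map_zero _).symm)

end flat

section quot

variable {B : Type u} [CommRing B]

/-- `ord_{(B/I)/Q}(b) = ord_{B/q}(b)` for `q ⊇ I` and `Q = q/I`. -/
theorem ord_quot_quot (I q : Ideal B) (hIq : I ≤ q) (b : B) :
    Ring.ord ((B ⧸ I) ⧸ q.map (Ideal.Quotient.mk I))
        (Ideal.Quotient.mk _ (Ideal.Quotient.mk I b)) =
      Ring.ord (B ⧸ q) (Ideal.Quotient.mk q b) := by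
  have h := Groth.Agent.Lib.Seat62.OrdTransport.ord_ringEquiv
    (DoubleQuot.quotQuotEquivQuotOfLE hIq) (Ideal.Quotient.mk _ (Ideal.Quotient.mk I b))
  rw [← h]
  rfl


open Groth.Agent.Lib.Seat32.LenPow in
/-- `ℓ((B/I)_Q) = ℓ_S(S/IS)` for `q ⊇ I` prime, `Q = q/I` and `S = B_q`. -/
theorem length_localization_quot (I q : Ideal B) [q.IsPrime] (hIq : I ≤ q)
    (Q : Ideal (B ⧸ I)) [Q.IsPrime] (hQ : Q = q.map (Ideal.Quotient.mk I))
    (S : Type u) [CommRing S] [Algebra B S] [IsLocalization.AtPrime S q] :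
    Module.length (Localization.AtPrime Q) (LocalizedModule Q.primeCompl (B ⧸ I)) =
      Module.length S (S ⧸ I.map (algebraMap B S)) := by
  have hcomap : (q.map (Ideal.Quotient.mk I)).comap (Ideal.Quotient.mk I) = q := by
    rw [Ideal.comap_map_of_surjective _ Ideal.Quotient.mk_surjective, ← RingHom.ker_eq_comap_bot,
      Ideal.mk_ker, sup_eq_left.2 hIq]
  have hsub : Algebra.algebraMapSubmonoid (B ⧸ I) q.primeCompl = Q.primeCompl := by
    ext x
    obtain ⟨x, rfl⟩ := Ideal.Quotient.mk_surjective x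
    constructor
    · rintro ⟨y, hy, hyx⟩
      change Ideal.Quotient.mk I x ∉ Q
      intro hxQ
      apply hy
      have : Ideal.Quotient.mk I y = Ideal.Quotient.mk I x := hyx
      have hmem : y ∈ (q.map (Ideal.Quotient.mk I)).comap (Ideal.Quotient.mk I) := by
        rw [Ideal.mem_comap, ← hQ, this]
        exact hxQ
      rwa [hcomap] at hmem
    · intro hx
      refine ⟨x, ?_, rfl⟩
      intro hxq
      apply hx
      rw [hQ]
      exact Ideal.mem_map_of_mem _ hxq
  haveI : IsLocalization Q.primeCompl (S ⧸ I.map (algebraMap B S)) := by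
    rw [← hsub]
    infer_instance
  have e := IsLocalization.algEquiv Q.primeCompl (Localization.AtPrime Q)
    (S ⧸ I.map (algebraMap B S))
  have h1 : Module.length (Localization.AtPrime Q) (LocalizedModule Q.primeCompl (B ⧸ I)) =
      Module.length (Localization.AtPrime Q) (Localization.AtPrime Q) := rfl
  rw [h1, length_self_eq_of_ringEquiv e.toRingEquiv]
  exact (Module.length_eq_of_surjective (S := S) (R := S ⧸ I.map (algebraMap B S))
    (M := S ⧸ I.map (algebraMap B S)) Ideal.Quotient.mk_surjective).symm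

end quot

end Groth.Agent.Lib.Seat32.FlatOrd
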