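import Mathlib
import Groth.Agent.Lib.Helper22NA6
import Groth.Agent.S7383
import Groth.Agent.S9200

/-!
# An affine morphism of qcqs schemes is a directed limit of affine finitely presented ones

`exists_affine_fp_system`: for `f : X ⟶ S` affine with `S` qcqs, `X` is (over `S`) the limit of a
directed inverse system of `S`-schemes affine and of finite presentation over `S`, with affine
transition maps (S7383 + eventually affine S9200 + restriction to a final segment).
`isLimit_whisker_Ici`: restricting a limit cone over a directed preorder to `{i | i₀ ≤ i}`.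

ns `Groth.Agent.Lib.Seat32.LimAffineSys`
-/

set_option autoImplicit false
universe u

namespace Groth.Agent.Lib.Seat32.LimAffineSys

open CategoryTheory Limits AlgebraicGeometry Opposite
open Groth.Agent.Lib.Helper22

/-- restricting a limit cone over a directed preorder to a final segment -/
noncomputable def isLimit_whisker_Ici {C : Type*} [Category C] {I : Type u} [Preorder I]
    [IsDirected I (fun a b => a ≤ b)] (k₀ : I) (D : Iᵒᵖ ⥤ C) (c : Cone D) (hc : IsLimit c) :
    IsLimit (c.whisker (NA6.inc k₀).monotone.functor.op) := by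
  have hfinal : (NA6.inc k₀).monotone.functor.Final :=
    (Monotone.final_functor_iff _).mpr (NA6.inc_cofinal k₀)
  have hinit : ((NA6.inc k₀).monotone.functor.op).Initial := inferInstance
  exact (Functor.Initial.isLimitWhiskerEquiv (NA6.inc k₀).monotone.functor.op c).symm hc

theorem exists_affine_fp_system {X S : Scheme.{u}} (f : X ⟶ S) [CompactSpace S]
    [QuasiSeparatedSpace S] [IsAffineHom f] :
    ∃ (I : Type u) (_ : Preorder I) (_ : IsDirected I (fun a b => a ≤ b)) (_ : Nonempty I)
      (D : Iᵒᵖ ⥤ Over S) (c : Limits.Cone D) (_ : Limits.IsLimit c),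
      (∀ i, IsAffineHom (D.obj i).hom ∧ LocallyOfFinitePresentation (D.obj i).hom) ∧
      (∀ (i j : Iᵒᵖ) (a : i ⟶ j), IsAffineHom (D.map a).left) ∧
      Nonempty (c.pt ≅ Over.mk f) := by
  have hX1 : CompactSpace X := QuasiCompact.compactSpace_of_compactSpace f
  have hX2 : QuasiSeparatedSpace X := quasiSeparatedSpace_of_quasiSeparated f
  obtain ⟨I, hI1, hI2, hI3, D, c, hc, hD, haff, ⟨e⟩⟩ := S7383.result f
  have hI : IsAffineHom c.pt.hom := by
    have h1 : c.pt.hom = e.hom.left ≫ f := (Over.w e.hom).symm
    rw [h1]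
    have h2 : IsIso e.hom.left := (Over.forget S).map_isIso e.hom
    infer_instance
  have : IsConnected Iᵒᵖ := IsCofiltered.isConnected _
  have hc' : IsLimit ((Over.forget S).mapCone c) := isLimitOfPreserves (Over.forget S) hc
  let t : D ⋙ Over.forget S ⟶ (Functor.const Iᵒᵖ).obj S :=
    { app := fun i => (D.obj i).hom
      naturality := fun i j f => by
        show (D.map f).left ≫ (D.obj j).hom = (D.obj i).hom ≫ 𝟙 _
        rw [Category.comp_id, Over.w] }
  have i1' : ∀ (i j : Iᵒᵖ) (f : i ⟶ j), IsAffineHom ((D ⋙ Over.forget S).map f) := fun _ _ f => by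
    show IsAffineHom (D.map f).left
    exact haff _ _ f
  have i2 : ∀ i, CompactSpace ((D ⋙ Over.forget S).obj i) := fun i => by
    show CompactSpace (D.obj i).left
    have := (hD i).2.1
    exact QuasiCompact.compactSpace_of_compactSpace (D.obj i).hom
  have i3 : ∀ i, QuasiSeparatedSpace ((D ⋙ Over.forget S).obj i) := fun i => by
    show QuasiSeparatedSpace (D.obj i).left
    have := (hD i).2.2
    exact quasiSeparatedSpace_of_quasiSeparated (D.obj i).hom
  obtain ⟨i₀⟩ : Nonempty Iᵒᵖ := inferInstance
  have haff₀ : IsAffineHom (((Over.forget S).mapCone c).π.app i₀ ≫ t.app i₀) := by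
    have : ((Over.forget S).mapCone c).π.app i₀ ≫ t.app i₀ = c.pt.hom := by
      show (c.π.app i₀).left ≫ (D.obj i₀).hom = c.pt.hom
      exact Over.w (c.π.app i₀)
    rw [this]
    exact hI
  obtain ⟨i₁, hi₁⟩ := Groth.Agent.S9200.result S (D ⋙ Over.forget S) t
    ((Over.forget S).mapCone c) hc' i₀
  let k₀ : I := i₁.unop
  let F : (NA6.Ici' k₀)ᵒᵖ ⥤ Iᵒᵖ := (NA6.inc k₀).monotone.functor.op
  refine ⟨NA6.Ici' k₀, inferInstance, inferInstance, inferInstance, F ⋙ D, c.whisker F,
    isLimit_whisker_Ici k₀ D c hc, fun i => ⟨?_, (hD _).1⟩, fun i j a => haff _ _ _, ⟨e⟩⟩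
  exact hi₁ (op i.unop.1) (homOfLE i.unop.2).op

end Groth.Agent.Lib.Seat32.LimAffineSys
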