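import Mathlib
import Groth.Agent.Lib.Helper22NA13

/-!
# The inverse system of finitely presented closed subschemes containing a closed subscheme, over a base

For a closed immersion `ι : X ⟶ Y` into a qcqs scheme `Y` and a morphism `f' : Y ⟶ S`, the system
`V(J)`, `J` running over the finite type sub-ideal sheaves of `ker ι`, viewed in `Over S`
(`sysOver`, `sysCone`, `sysConeIsLimit`) and in `Scheme` with structure maps to `S`
(`sysSch`, `sysT`, `sysSchCone`, `sysSchConeIsLimit`), together with the basic facts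
(transition maps and projections are closed immersions, stages are qcqs, and finitely presented
over `S` if `f'` is).

ns `Groth.Agent.Lib.Seat32.LimClosed`
-/

set_option autoImplicit false
universe u

namespace Groth.Agent.Lib.Seat32.LimClosed

open CategoryTheory Limits AlgebraicGeometry Opposite
open Groth.Agent.Lib.Helper22 Groth.Agent.Lib.Helper22.FTIdeal Groth.Agent.Lib.Helper22.FTLimit

variable {X Y S : Scheme.{u}} (ι : X ⟶ Y) (f' : Y ⟶ S)

/-- the system of finitely presented closed subschemes of `Y` containing `X`, over `S` -/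
noncomputable def sysOver : (Idx ι.ker)ᵒᵖ ⥤ Over S := FTLimit.diag ι.ker ⋙ Over.map f'

/-- the cone over `sysOver` with apex `V(ker ι)`. -/
noncomputable def sysCone : Cone (sysOver ι f') := (Over.map f').mapCone (cone ι.ker)

/-- `sysCone` is a limit cone. -/
noncomputable def sysConeIsLimit [CompactSpace Y] [QuasiSeparatedSpace Y] :
    IsLimit (sysCone ι f') := by
  have hconn : IsConnected (Idx ι.ker)ᵒᵖ := IsCofiltered.isConnected _
  refine isLimitOfReflects (Over.forget S) ?_
  exact isLimitOfPreserves (Over.forget Y) (coneIsLimit ι.ker)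

@[simp] lemma sysOver_obj_left (i : (Idx ι.ker)ᵒᵖ) :
    ((sysOver ι f').obj i).left = i.unop.1.subscheme := rfl

@[simp] lemma sysOver_obj_hom (i : (Idx ι.ker)ᵒᵖ) :
    ((sysOver ι f').obj i).hom = i.unop.1.subschemeι ≫ f' := rfl

lemma sysOver_map_left {i j : (Idx ι.ker)ᵒᵖ} (a : i ⟶ j) :
    ((sysOver ι f').map a).left =
      Scheme.IdealSheafData.inclusion (show j.unop.1 ≤ i.unop.1 from a.unop.le) := rfl

@[simp] lemma sysCone_pt_left : (sysCone ι f').pt.left = ι.ker.subscheme := rfl

@[simp] lemma sysCone_pt_hom : (sysCone ι f').pt.hom = ι.ker.subschemeι ≫ f' := rfl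

lemma sysCone_π_left (i : (Idx ι.ker)ᵒᵖ) :
    ((sysCone ι f').π.app i).left = Scheme.IdealSheafData.inclusion i.unop.2.1 := rfl

instance isClosedImmersion_inclusion {I J : Y.IdealSheafData} (h : I ≤ J) :
    IsClosedImmersion (Scheme.IdealSheafData.inclusion h) := by
  have : IsClosedImmersion (Scheme.IdealSheafData.inclusion h ≫ I.subschemeι) := by
    rw [Scheme.IdealSheafData.inclusion_subschemeι]; infer_instance
  exact IsClosedImmersion.of_comp (Scheme.IdealSheafData.inclusion h) I.subschemeι

instance sysOver_map_isClosedImmersion {i j : (Idx ι.ker)ᵒᵖ} (a : i ⟶ j) :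
    IsClosedImmersion ((sysOver ι f').map a).left :=
  isClosedImmersion_inclusion (show j.unop.1 ≤ i.unop.1 from a.unop.le)

instance sysCone_π_isClosedImmersion (i : (Idx ι.ker)ᵒᵖ) :
    IsClosedImmersion ((sysCone ι f').π.app i).left :=
  isClosedImmersion_inclusion i.unop.2.1

instance sysOver_compactSpace [CompactSpace Y] (i : (Idx ι.ker)ᵒᵖ) :
    CompactSpace ((sysOver ι f').obj i).left :=
  show CompactSpace i.unop.1.subscheme from
    QuasiCompact.compactSpace_of_compactSpace i.unop.1.subschemeι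

instance sysOver_quasiSeparatedSpace [QuasiSeparatedSpace Y] (i : (Idx ι.ker)ᵒᵖ) :
    QuasiSeparatedSpace ((sysOver ι f').obj i).left :=
  show QuasiSeparatedSpace i.unop.1.subscheme from
    quasiSeparatedSpace_of_quasiSeparated i.unop.1.subschemeι

lemma sysOver_lfp [LocallyOfFinitePresentation f'] (i : (Idx ι.ker)ᵒᵖ) :
    LocallyOfFinitePresentation ((sysOver ι f').obj i).hom := by
  have h1 : LocallyOfFinitePresentation i.unop.1.subschemeι :=
    locallyOfFinitePresentation_subschemeι _ i.unop.2.2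
  show LocallyOfFinitePresentation (i.unop.1.subschemeι ≫ f')
  infer_instance

/-- the apex of `sysCone` is `X` over `S`. -/
noncomputable def sysConePtIso [IsClosedImmersion ι] :
    (sysCone ι f').pt ≅ Over.mk (ι ≫ f') := by
  let e : X ≅ ι.ker.subscheme := asIso ι.toImage
  have he : e.hom ≫ ι.ker.subschemeι = ι := ι.toImage_imageι
  refine (Over.isoMk (f := Over.mk (ι ≫ f')) (g := Over.mk (ι.ker.subschemeι ≫ f')) e ?_).symm
  change e.hom ≫ ι.ker.subschemeι ≫ f' = ι ≫ f'
  rw [reassoc_of% he]

lemma sysConePtIso_inv_left [IsClosedImmersion ι] :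
    (sysConePtIso ι f').inv.left = ι.toImage := rfl

/-- the closed immersion `X ⟶ V(J)` for `J ≤ ker ι`. -/
noncomputable def toStage [IsClosedImmersion ι] (i : (Idx ι.ker)ᵒᵖ) : X ⟶ i.unop.1.subscheme :=
  ι.toImage ≫ Scheme.IdealSheafData.inclusion i.unop.2.1

instance [IsClosedImmersion ι] (i : (Idx ι.ker)ᵒᵖ) : IsClosedImmersion (toStage ι i) := by
  unfold toStage; infer_instance

@[reassoc] lemma toStage_subschemeι [IsClosedImmersion ι] (i : (Idx ι.ker)ᵒᵖ) :
    toStage ι i ≫ i.unop.1.subschemeι = ι := by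
  unfold toStage
  rw [Category.assoc, Scheme.IdealSheafData.inclusion_subschemeι]
  exact ι.toImage_imageι

/-- the system as a diagram of schemes. -/
noncomputable def sysSch : (Idx ι.ker)ᵒᵖ ⥤ Scheme.{u} := sysOver ι f' ⋙ Over.forget S

/-- the structure maps of the system to `S`. -/
noncomputable def sysT : sysSch ι f' ⟶ (Functor.const (Idx ι.ker)ᵒᵖ).obj S where
  app i := ((sysOver ι f').obj i).hom
  naturality i j a := by
    have := Over.w ((sysOver ι f').map a)
    simpa [sysSch] using this

/-- the cone of schemes with apex `V(ker ι)`. -/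
noncomputable def sysSchCone : Cone (sysSch ι f') := (Over.forget S).mapCone (sysCone ι f')

/-- `sysSchCone` is a limit cone. -/
noncomputable def sysSchConeIsLimit [CompactSpace Y] [QuasiSeparatedSpace Y] :
    IsLimit (sysSchCone ι f') := by
  have hconn : IsConnected (Idx ι.ker)ᵒᵖ := IsCofiltered.isConnected _
  exact isLimitOfPreserves (Over.forget S) (sysConeIsLimit ι f')

@[simp] lemma sysSch_obj (i : (Idx ι.ker)ᵒᵖ) : (sysSch ι f').obj i = i.unop.1.subscheme := rfl

lemma sysSch_map {i j : (Idx ι.ker)ᵒᵖ} (a : i ⟶ j) :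
    (sysSch ι f').map a =
      Scheme.IdealSheafData.inclusion (show j.unop.1 ≤ i.unop.1 from a.unop.le) := rfl

@[simp] lemma sysT_app (i : (Idx ι.ker)ᵒᵖ) : (sysT ι f').app i = i.unop.1.subschemeι ≫ f' := rfl

@[simp] lemma sysSchCone_pt : (sysSchCone ι f').pt = ι.ker.subscheme := rfl

lemma sysSchCone_π (i : (Idx ι.ker)ᵒᵖ) :
    (sysSchCone ι f').π.app i = Scheme.IdealSheafData.inclusion i.unop.2.1 := rfl

instance sysSch_map_isClosedImmersion {i j : (Idx ι.ker)ᵒᵖ} (a : i ⟶ j) :
    IsClosedImmersion ((sysSch ι f').map a) :=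
  isClosedImmersion_inclusion (show j.unop.1 ≤ i.unop.1 from a.unop.le)

instance sysSch_compactSpace [CompactSpace Y] (i : (Idx ι.ker)ᵒᵖ) :
    CompactSpace ((sysSch ι f').obj i) :=
  sysOver_compactSpace ι f' i

instance sysSch_quasiSeparatedSpace [QuasiSeparatedSpace Y] (i : (Idx ι.ker)ᵒᵖ) :
    QuasiSeparatedSpace ((sysSch ι f').obj i) :=
  sysOver_quasiSeparatedSpace ι f' i

/-- the composite `V(ker ι) ⟶ V(J) ⟶ S` is `X ⟶ S` up to the isomorphism `X ≅ V(ker ι)`. -/
lemma toImage_sysSchCone_π_sysT [IsClosedImmersion ι] (i : (Idx ι.ker)ᵒᵖ) :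
    ι.toImage ≫ (sysSchCone ι f').π.app i ≫ (sysT ι f').app i = ι ≫ f' := by
  have h := toStage_subschemeι_assoc ι i f'
  unfold toStage at h
  rw [Category.assoc] at h
  exact h

end Groth.Agent.Lib.Seat32.LimClosed
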