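import Mathlib
import Groth.Agent.Lib.Seat32FTKer
import Groth.Agent.Lib.Seat32LimClosed

/-!
# The "pair" inverse system attached to an inverse system of schemes over `S`

Given a directed inverse system `D : Iᵒᵖ ⥤ Over S` with cone `c` (apex `X`), we consider the pairs
`(i, J)` with `J` a finite type ideal sheaf on `X_i` contained in the kernel of `X ⟶ X_i` and with
`V(J) ⟶ S` finite.  These pairs form a preorder `Pt D c`, the `V(J)` form an inverse system
`DP D c : (Pt D c)ᵒᵖ ⥤ Over S` with cone `cP D c` of apex `X`; if every stage has at least one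
such `J` (`Good`), the preorder is directed and nonempty and `cP` is a limit cone when `c` is.

ns `Groth.Agent.Lib.Seat32.LimPairs`
-/

set_option autoImplicit false
universe u

namespace Groth.Agent.Lib.Seat32.LimPairs

open CategoryTheory Limits AlgebraicGeometry Opposite
open Groth.Agent.Lib.Helper22 Groth.Agent.Lib.Helper22.FTIdeal Groth.Agent.Lib.Helper22.FTLimit
open Groth.Agent.Lib.Seat32.FTKer

variable {S : Scheme.{u}} {I : Type u} [Preorder I] (D : Iᵒᵖ ⥤ Over S) (c : Cone D)

/-- the stages -/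
abbrev Xo (i : I) : Scheme.{u} := (D.obj (op i)).left

/-- the structure maps -/
abbrev str (i : I) : Xo D i ⟶ S := (D.obj (op i)).hom

/-- the transition maps -/
abbrev tu {i k : I} (h : i ≤ k) : Xo D k ⟶ Xo D i := (D.map (homOfLE h).op).left

/-- the projections -/
abbrev pr (i : I) : c.pt.left ⟶ Xo D i := (c.π.app (op i)).left

@[reassoc] lemma tu_str {i k : I} (h : i ≤ k) : tu D h ≫ str D i = str D k := Over.w _

lemma tu_refl (i : I) : tu D (le_refl i) = 𝟙 _ := by
  have : (homOfLE (le_refl i)).op = 𝟙 (op i) := Subsingleton.elim _ _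
  simp [tu]

@[reassoc] lemma tu_trans {i j k : I} (h : i ≤ j) (h' : j ≤ k) :
    tu D h' ≫ tu D h = tu D (h.trans h') := by
  have : (homOfLE (h.trans h')).op = (homOfLE h').op ≫ (homOfLE h).op := Subsingleton.elim _ _
  simp [tu, this]

@[reassoc] lemma pr_tu {i k : I} (h : i ≤ k) : pr D c k ≫ tu D h = pr D c i := by
  have := c.w (homOfLE h).op
  exact congrArg (fun φ => φ.left) this

@[reassoc] lemma pr_str (i : I) : pr D c i ≫ str D i = c.pt.hom := Over.w _

/-- the index set: pairs `(i, J)`. -/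
structure Pt where
  /-- the stage -/
  i : I
  /-- the ideal sheaf -/
  J : (Xo D i).IdealSheafData
  hJ : J ∈ ftSub (pr D c i).ker
  hfin : IsFinite (J.subschemeι ≫ str D i)

variable {D c}

lemma Pt.le_ker (a : Pt D c) : a.J ≤ (pr D c a.i).ker := a.hJ.1

lemma Pt.ft (a : Pt D c) : FT a.J := a.hJ.2

instance : Preorder (Pt D c) where
  le a b := ∃ h : a.i ≤ b.i, a.J ≤ b.J.map (tu D h)
  le_refl a := ⟨le_refl _, by rw [tu_refl, Scheme.IdealSheafData.map_id]⟩
  le_trans a b d := by
    rintro ⟨h1, h2⟩ ⟨h3, h4⟩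
    refine ⟨h1.trans h3, h2.trans ?_⟩
    rw [← tu_trans D h1 h3, Scheme.IdealSheafData.map_comp]
    exact Scheme.IdealSheafData.map_mono _ h4

lemma Pt.le_def {a b : Pt D c} : a ≤ b ↔ ∃ h : a.i ≤ b.i, a.J ≤ b.J.map (tu D h) := Iff.rfl

/-- transition maps of the pair system -/
noncomputable def tr {a b : Pt D c} (hab : a ≤ b) : b.J.subscheme ⟶ a.J.subscheme :=
  Scheme.IdealSheafData.subschemeMap b.J a.J (tu D hab.choose) hab.choose_spec

@[reassoc] lemma tr_ι {a b : Pt D c} (hab : a ≤ b) (h : a.i ≤ b.i) :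
    tr hab ≫ a.J.subschemeι = b.J.subschemeι ≫ tu D h :=
  Scheme.IdealSheafData.subschemeMap_subschemeι _ _ _ _

variable (D c)

/-- the pair system -/
noncomputable def DP : (Pt D c)ᵒᵖ ⥤ Over S where
  obj a := Over.mk (a.unop.J.subschemeι ≫ str D a.unop.i)
  map {a b} φ := Over.homMk (tr (leOfHom φ.unop)) (by
    have h : b.unop.i ≤ a.unop.i := (leOfHom φ.unop).choose
    simp only [Over.mk_hom, Over.mk_left]
    rw [tr_ι_assoc _ h, tu_str])
  map_id a := by
    ext
    apply (cancel_mono a.unop.J.subschemeι).mp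
    simp only [Over.homMk_left, Over.id_left, Over.mk_left]
    rw [tr_ι _ (le_refl _), tu_refl, Category.comp_id, Category.id_comp]
  map_comp {a b d} φ ψ := by
    ext
    apply (cancel_mono d.unop.J.subschemeι).mp
    have h1 : b.unop.i ≤ a.unop.i := (leOfHom φ.unop).choose
    have h2 : d.unop.i ≤ b.unop.i := (leOfHom ψ.unop).choose
    simp only [Over.homMk_left, Over.comp_left, Over.mk_left, Category.assoc]
    rw [tr_ι _ (h2.trans h1), tr_ι _ h2, tr_ι_assoc _ h1, tu_trans]

/-- the projections of the pair cone -/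
noncomputable def toV (a : Pt D c) : c.pt.left ⟶ a.J.subscheme :=
  IsClosedImmersion.lift a.J.subschemeι (pr D c a.i)
    (by rw [Scheme.IdealSheafData.ker_subschemeι]; exact a.le_ker)

@[reassoc] lemma toV_ι (a : Pt D c) : toV D c a ≫ a.J.subschemeι = pr D c a.i :=
  IsClosedImmersion.lift_fac _ _ _

/-- the pair cone -/
noncomputable def cP : Cone (DP D c) where
  pt := c.pt
  π :=
    { app := fun a => Over.homMk (toV D c a.unop) (by
        simp only [DP, Over.mk_hom, Functor.const_obj_obj]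
        rw [toV_ι_assoc, pr_str])
      naturality := by
        intro a b φ
        ext
        have h : b.unop.i ≤ a.unop.i := (leOfHom φ.unop).choose
        change 𝟙 _ ≫ toV D c b.unop = toV D c a.unop ≫ tr (leOfHom φ.unop)
        apply (cancel_mono b.unop.J.subschemeι).mp
        rw [Category.id_comp, Category.assoc, tr_ι _ h, toV_ι, toV_ι_assoc, pr_tu] }

/-- every stage has a finite type ideal `J ≤ ker (X ⟶ X_i)` with `V(J) ⟶ S` finite -/
def Good : Prop :=
  ∀ i : I, ∃ J : (Xo D i).IdealSheafData, J ∈ ftSub (pr D c i).ker ∧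
    IsFinite (J.subschemeι ≫ str D i)

variable {D c}

/-- a chosen pair at every stage -/
noncomputable abbrev Good.pt (hg : Good D c) (i : I) : Pt D c :=
  ⟨i, (hg i).choose, (hg i).choose_spec.1, (hg i).choose_spec.2⟩

@[simp] lemma Good.pt_i (hg : Good D c) (i : I) : (hg.pt i).i = i := rfl

/-- the supremum of two pairs at the same stage -/
noncomputable abbrev supPt (i : I) (J J' : (Xo D i).IdealSheafData)
    (hJ : J ∈ ftSub (pr D c i).ker) (hJ' : J' ∈ ftSub (pr D c i).ker)
    (hfin : IsFinite (J.subschemeι ≫ str D i)) : Pt D c :=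
  ⟨i, J ⊔ J', sup_mem_ftSub hJ hJ', by
    have : Scheme.IdealSheafData.inclusion (le_sup_left : J ≤ J ⊔ J') ≫ J.subschemeι ≫ str D i =
        (J ⊔ J').subschemeι ≫ str D i := by
      rw [Scheme.IdealSheafData.inclusion_subschemeι_assoc]
    rw [← this]
    have : IsClosedImmersion (Scheme.IdealSheafData.inclusion (le_sup_left : J ≤ J ⊔ J')) :=
      Groth.Agent.Lib.Seat32.LimClosed.isClosedImmersion_inclusion _
    infer_instance⟩

lemma le_of_stage_eq {i : I} {J K : (Xo D i).IdealSheafData} {hJ hK hfJ hfK} (h : J ≤ K) :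
    (⟨i, J, hJ, hfJ⟩ : Pt D c) ≤ ⟨i, K, hK, hfK⟩ :=
  ⟨le_refl i, by rw [tu_refl, Scheme.IdealSheafData.map_id]; exact h⟩

/-- going up to a higher stage -/
lemma exists_ge_stage (hg : Good D c) (a : Pt D c) {k : I} (h : a.i ≤ k) :
    ∃ K hK hfK, a ≤ (⟨k, K, hK, hfK⟩ : Pt D c) := by
  have hK₁ : a.J.comap (tu D h) ∈ ftSub (pr D c k).ker := by
    refine ⟨?_, ft_comap a.J a.ft _⟩
    rw [← Scheme.IdealSheafData.le_map_iff_comap_le, Scheme.IdealSheafData.map_ker, pr_tu]
    exact a.le_ker
  let b : Pt D c := supPt k (hg.pt k).J (a.J.comap (tu D h)) (hg.pt k).hJ hK₁ (hg.pt k).hfin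
  refine ⟨b.J, b.hJ, b.hfin, h, ?_⟩
  rw [Scheme.IdealSheafData.le_map_iff_comap_le]
  exact le_sup_right

theorem isDirected_pt [IsDirected I (fun a b => a ≤ b)] (hg : Good D c) :
    IsDirected (Pt D c) (fun a b => a ≤ b) := by
  refine ⟨fun a b => ?_⟩
  obtain ⟨k, hak, hbk⟩ := exists_ge_ge a.i b.i
  obtain ⟨K, hK, hfK, haK⟩ := exists_ge_stage hg a hak
  obtain ⟨K', hK', hfK', hbK'⟩ := exists_ge_stage hg b hbk
  refine ⟨supPt k K K' hK hK' hfK, haK.trans ?_, hbK'.trans ?_⟩
  · exact le_of_stage_eq le_sup_left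
  · exact le_of_stage_eq le_sup_right

theorem nonempty_pt [Nonempty I] (hg : Good D c) : Nonempty (Pt D c) :=
  ⟨hg.pt (Classical.arbitrary I)⟩

section limit

variable (hg : Good D c) (s : Cone (DP D c))

/-- legs of a cone over the pair system -/
noncomputable abbrev sL (a : Pt D c) : s.pt.left ⟶ a.J.subscheme := (s.π.app (op a)).left

omit hg in
@[reassoc] lemma sL_w (a : Pt D c) : sL s a ≫ a.J.subschemeι ≫ str D a.i = s.pt.hom :=
  Over.w (s.π.app (op a))

omit hg in
@[reassoc] lemma sL_tr {a b : Pt D c} (hab : a ≤ b) : sL s b ≫ tr hab = sL s a := by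
  have := s.w (homOfLE hab).op
  exact congrArg (fun φ => φ.left) this

/-- the induced maps to the stages -/
noncomputable def q (i : I) : s.pt.left ⟶ Xo D i :=
  sL s (hg.pt i) ≫ (hg.pt i).J.subschemeι

lemma q_eq (a : Pt D c) : sL s a ≫ a.J.subschemeι = q hg s a.i := by
  obtain ⟨i, J, hJ, hfJ⟩ := a
  let d : Pt D c := supPt i J (hg.pt i).J hJ (hg.pt i).hJ hfJ
  have had : (⟨i, J, hJ, hfJ⟩ : Pt D c) ≤ d := le_of_stage_eq le_sup_left
  have hbd : hg.pt i ≤ d := le_of_stage_eq le_sup_right
  have h1 : sL s ⟨i, J, hJ, hfJ⟩ ≫ J.subschemeι = sL s d ≫ d.J.subschemeι := by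
    rw [← sL_tr s had, Category.assoc, tr_ι had (le_refl i), tu_refl, Category.comp_id]
  have h2 : sL s (hg.pt i) ≫ (hg.pt i).J.subschemeι = sL s d ≫ d.J.subschemeι := by
    rw [← sL_tr s hbd, Category.assoc, tr_ι hbd (le_refl i), tu_refl, Category.comp_id]
  rw [h1, q, h2]

@[reassoc] lemma q_tu {i k : I} (h : i ≤ k) : q hg s k ≫ tu D h = q hg s i := by
  obtain ⟨K, hK, hfK, haK⟩ := exists_ge_stage hg (hg.pt i) h
  have h1 := q_eq hg s ⟨k, K, hK, hfK⟩
  change _ = q hg s k at h1
  rw [← h1, Category.assoc, ← tr_ι haK h, sL_tr_assoc]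
  rfl

@[reassoc] lemma q_str (i : I) : q hg s i ≫ str D i = s.pt.hom := by
  rw [q, Category.assoc]
  exact sL_w s (hg.pt i)

/-- the induced cone over the original system -/
noncomputable def coneD : Cone D where
  pt := s.pt
  π :=
    { app := fun i => Over.homMk (q hg s i.unop) (q_str hg s i.unop)
      naturality := by
        intro i j φ
        have h : j.unop ≤ i.unop := leOfHom φ.unop
        have hφ : φ = (homOfLE h).op := Subsingleton.elim _ _
        subst hφ
        ext
        change 𝟙 _ ≫ q hg s j.unop = q hg s i.unop ≫ tu D h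
        rw [Category.id_comp, q_tu] }

variable (hc : IsLimit c)

lemma lift_pr (i : I) : (hc.lift (coneD hg s)).left ≫ pr D c i = q hg s i := by
  have := hc.fac (coneD hg s) (op i)
  exact congrArg (fun φ => φ.left) this

end limit

/-- the pair cone is a limit cone -/
noncomputable def isLimit_cP (hg : Good D c) (hc : IsLimit c) : IsLimit (cP D c) where
  lift s := hc.lift (coneD hg s)
  fac s a := by
    ext
    apply (cancel_mono a.unop.J.subschemeι).mp
    change ((hc.lift (coneD hg s)).left ≫ toV D c a.unop) ≫ a.unop.J.subschemeι =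
      sL s a.unop ≫ a.unop.J.subschemeι
    rw [Category.assoc, toV_ι, lift_pr, q_eq hg s a.unop]
  uniq s m hm := by
    refine hc.uniq (coneD hg s) m fun i => ?_
    ext
    have h1 := congrArg (fun φ => φ.left) (hm (op (hg.pt i.unop)))
    let m' : s.pt.left ⟶ c.pt.left := m.left
    change m' ≫ toV D c (hg.pt i.unop) = sL s (hg.pt i.unop) at h1
    change m' ≫ pr D c i.unop = q hg s i.unop
    rw [q, ← h1, Category.assoc, toV_ι]

end Groth.Agent.Lib.Seat32.LimPairs
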