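import Mathlib
import Groth.Agent.Lib.Seat32LimPairs
import Groth.Agent.Lib.Helper22NA6
import Groth.Agent.S2154

/-!
# An integral `S`-scheme is a directed limit of finite, finitely presented `S`-schemes

`exists_pairs_system`: if `X = lim X_i` in `Over S` (`S` qcqs, directed system, stages of finite
presentation over `S`, affine transitions) and `X ⟶ S` is integral, then `X` is the limit of a
directed inverse system of finite and finitely presented `S`-schemes (the pair system of
`Seat32LimPairs`, after restricting to the stages which are affine over `S`).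

ns `Groth.Agent.Lib.Seat32.LimIntegral`
-/

set_option autoImplicit false
universe u

namespace Groth.Agent.Lib.Seat32.LimIntegral

open CategoryTheory Limits AlgebraicGeometry Opposite
open Groth.Agent.Lib.Helper22 Groth.Agent.Lib.Helper22.FTIdeal Groth.Agent.Lib.Helper22.FTLimit
open Groth.Agent.Lib.Seat32.FTKer Groth.Agent.Lib.Seat32.LimPairs Groth.Agent.Lib.Seat32.LimClosed

/-- a stage which is affine and of finite presentation over `S` has a finite type ideal `J` inside
the kernel of `X ⟶ X_i` with `V(J)` finite over `S`. -/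
theorem exists_finite_ideal {X Y S : Scheme.{u}} [CompactSpace S] [QuasiSeparatedSpace S]
    (p : X ⟶ Y) (g : Y ⟶ S) [IsAffineHom g] [LocallyOfFinitePresentation g]
    [IsIntegralHom (p ≫ g)] :
    ∃ J : Y.IdealSheafData, J ∈ ftSub p.ker ∧ IsFinite (J.subschemeι ≫ g) := by
  have hY1 : CompactSpace Y := QuasiCompact.compactSpace_of_compactSpace g
  have hY2 : QuasiSeparatedSpace Y := quasiSeparatedSpace_of_quasiSeparated g
  have hX1 : CompactSpace X := QuasiCompact.compactSpace_of_compactSpace (p ≫ g)
  have hp : QuasiCompact p := quasiCompact_of_compactSpace p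
  have hfin : ∀ (a b : (FTLimit.Idx p.ker)ᵒᵖ) (φ : a ⟶ b), IsFinite ((sysOver p g).map φ).left :=
    fun a b φ => inferInstance
  have hlft : ∀ a, LocallyOfFiniteType ((sysOver p g).obj a).hom := fun a => by
    have := sysOver_lfp p g a
    infer_instance
  have hint : IsIntegralHom (sysCone p g).pt.hom := isIntegralHom_imageι_comp p g
  obtain ⟨i₀, hi₀⟩ := S2154.result S (sysOver p g) (sysCone p g) (sysConeIsLimit p g)
  exact ⟨i₀.unop.1, i₀.unop.2, hi₀ i₀ (𝟙 _)⟩

/-- If `X = lim X_i` in `Over S` with `S` qcqs, the stages of finite presentation over `S`, affine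
transition maps, and `X ⟶ S` integral, then `X` is a directed limit of finite and finitely
presented `S`-schemes. -/
theorem exists_pairs_system {S : Scheme.{u}} [CompactSpace S] [QuasiSeparatedSpace S]
    {I : Type u} [Preorder I] [IsDirected I (fun a b => a ≤ b)] [Nonempty I]
    (D : Iᵒᵖ ⥤ Over S) (c : Cone D) (hc : IsLimit c)
    (hD : ∀ i, LocallyOfFinitePresentation (D.obj i).hom ∧ QuasiCompact (D.obj i).hom ∧
      QuasiSeparated (D.obj i).hom)
    (haff : ∀ (i j : Iᵒᵖ) (a : i ⟶ j), IsAffineHom (D.map a).left)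
    [IsIntegralHom c.pt.hom] :
    ∃ (P : Type u) (_ : Preorder P) (_ : IsDirected P (fun a b => a ≤ b)) (_ : Nonempty P)
      (E : Pᵒᵖ ⥤ Over S) (cE : Cone E) (_ : IsLimit cE),
      (∀ a, IsFinite (E.obj a).hom ∧ LocallyOfFinitePresentation (E.obj a).hom) ∧
      cE.pt = c.pt := by
  have hI : IsIntegralHom c.pt.hom := inferInstance
  have : IsConnected Iᵒᵖ := IsCofiltered.isConnected _
  have hc' : IsLimit ((Over.forget S).mapCone c) := isLimitOfPreserves (Over.forget S) hc
  let t : D ⋙ Over.forget S ⟶ (Functor.const Iᵒᵖ).obj S :=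
    { app := fun i => (D.obj i).hom
      naturality := fun i j f => by
        show (D.map f).left ≫ (D.obj j).hom = (D.obj i).hom ≫ 𝟙 _
        rw [Category.comp_id, Over.w] }
  have i1' : ∀ (i j : Iᵒᵖ) (f : i ⟶ j), IsAffineHom ((D ⋙ Over.forget S).map f) := fun _ _ f => by
    show IsAffineHom (D.map f).left
    exact haff _ _ f
  have i2 : ∀ i, CompactSpace ((D ⋙ Over.forget S).obj i) := fun i => by
    show CompactSpace (D.obj i).left
    have := (hD i).2.1
    exact QuasiCompact.compactSpace_of_compactSpace (D.obj i).hom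
  have i3 : ∀ i, QuasiSeparatedSpace ((D ⋙ Over.forget S).obj i) := fun i => by
    show QuasiSeparatedSpace (D.obj i).left
    have := (hD i).2.2
    exact quasiSeparatedSpace_of_quasiSeparated (D.obj i).hom
  obtain ⟨i₀⟩ : Nonempty Iᵒᵖ := inferInstance
  have haff₀ : IsAffineHom (((Over.forget S).mapCone c).π.app i₀ ≫ t.app i₀) := by
    have : ((Over.forget S).mapCone c).π.app i₀ ≫ t.app i₀ = c.pt.hom := by
      show (c.π.app i₀).left ≫ (D.obj i₀).hom = c.pt.hom
      exact Over.w (c.π.app i₀)
    rw [this]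
    exact hI.toIsAffineHom
  obtain ⟨i₁, hi₁⟩ := Groth.Agent.S9200.result S (D ⋙ Over.forget S) t
    ((Over.forget S).mapCone c) hc' i₀
  -- restrict to the stages above `i₁`
  let k₀ : I := i₁.unop
  let F : (NA6.Ici' k₀)ᵒᵖ ⥤ Iᵒᵖ := (NA6.inc k₀).monotone.functor.op
  have hfinal : (NA6.inc k₀).monotone.functor.Final :=
    (Monotone.final_functor_iff _).mpr (NA6.inc_cofinal k₀)
  have hinit : F.Initial := inferInstance
  let D₁ : (NA6.Ici' k₀)ᵒᵖ ⥤ Over S := F ⋙ D
  let c₁ : Cone D₁ := c.whisker F
  have hc₁ : IsLimit c₁ := (Functor.Initial.isLimitWhiskerEquiv F c).symm hc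
  have hg : Good D₁ c₁ := by
    intro i
    have h1 : IsAffineHom (str D₁ i) := hi₁ (op i.1) (homOfLE i.2).op
    have h2 : LocallyOfFinitePresentation (str D₁ i) := (hD (op i.1)).1
    have h3 : IsIntegralHom (pr D₁ c₁ i ≫ str D₁ i) := by
      rw [pr_str]
      exact hI
    exact exists_finite_ideal (pr D₁ c₁ i) (str D₁ i)
  refine ⟨Pt D₁ c₁, inferInstance, isDirected_pt hg, nonempty_pt hg, DP D₁ c₁, cP D₁ c₁,
    isLimit_cP hg hc₁, fun a => ⟨a.unop.hfin, ?_⟩, rfl⟩
  have h1 : LocallyOfFinitePresentation a.unop.J.subschemeι :=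
    locallyOfFinitePresentation_subschemeι _ a.unop.ft
  have h2 : LocallyOfFinitePresentation (str D₁ a.unop.i) := (hD (op a.unop.i.1)).1
  show LocallyOfFinitePresentation (a.unop.J.subschemeι ≫ str D₁ a.unop.i)
  infer_instance

end Groth.Agent.Lib.Seat32.LimIntegral
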