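import Mathlib
import Groth.Prelude.Def_C1
import Groth.Agent.Lib.Seat28C1Inv
import Groth.Agent.Lib.Seat32GenPrime
import Groth.Agent.S1833

/-!
# `[Z(s)]_k = c_1(L) ∩ [Y]_{k+1}` for a regular section (helper32, S1925)

* `secOrdAt_eq_of_smul`: `Cyc.secOrdAt` of a section that is `φ₀` times the chosen generator.
* `finite_ne_closedPoint`, `toNat_length_quot_eq_finsum`: in a Noetherian local ring `A` of dimension
  `≤ 1`, for a nonzerodivisor `f`, `length(A/f) = Σ_{p ≠ 𝔪} length(A_p) · ord_{A/p}(f)` (from S1833).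
* `subschemeFun_id`: the coefficients of `[Y]_k`.
* `zeroSectionFun_eq_c1CapFun`: S1925.
-/

set_option autoImplicit false
set_option linter.style.haveILetI false
universe u
open AlgebraicGeometry CategoryTheory TopologicalSpace Opposite IsLocalRing
open scoped Pointwise

namespace Groth.Agent.Lib.Seat32.ZeroSecCap

open Groth.Agent.Lib.Seat28.C1Inv Groth.Agent.Lib.Seat32.GenPrime

variable {X : Scheme.{u}} {L : X.Modules}

/-- `Cyc.secOrdAt` of a section which is `φ₀` times the image of the chosen generator. -/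
theorem secOrdAt_eq_of_smul (hL : PicF.IsInvertible L) {x ξ : X} (h : ξ ⤳ x)
    (ht : ∃ t : L.presheaf.stalk x, Submodule.span (X.presheaf.stalk x) {t} = ⊤)
    (s : Cyc.secFibre L ξ) (φ₀ : X.presheaf.stalk ξ)
    (hs : s = φ₀ • (Submodule.Quotient.mk ((L.presheaf.stalkSpecializes h) (Classical.choose ht)) :
      Cyc.secFibre L ξ)) :
    Cyc.secOrdAt L ξ x h s = Cyc.ordAt x ξ h (X.residue ξ φ₀) := by
  classical
  unfold Cyc.secOrdAt
  rw [dif_pos ht]
  have htspan := Classical.choose_spec ht
  have hbij := bijective_smul_stalkSpecializes hL h (Classical.choose ht) htspan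
  set t' := L.presheaf.stalkSpecializes h (Classical.choose ht) with ht'_def
  set e := equivOfBijective t' hbij with he_def
  have hθt : θ e (Submodule.Quotient.mk t') = 1 := by
    rw [θ_mk, equivOfBijective_symm_self, map_one]
  have hφ : ∃ φ : X.presheaf.stalk ξ, s =
      φ • (Submodule.Quotient.mk t' : Cyc.secFibre L ξ) := ⟨φ₀, hs⟩
  rw [dif_pos hφ]
  have hspec := Classical.choose_spec hφ
  set φ := Classical.choose hφ with hφ_def
  have h1 : IsLocalRing.residue _ φ = IsLocalRing.residue _ φ₀ := by
    have a1 : θ e s = IsLocalRing.residue _ φ := by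
      conv_lhs => rw [hspec]
      rw [θ_smul, hθt, mul_one]
    have a2 : θ e s = IsLocalRing.residue _ φ₀ := by
      conv_lhs => rw [hs]
      rw [θ_smul, hθt, mul_one]
    rw [← a1, a2]
  change Cyc.ordAt x ξ h (IsLocalRing.residue _ φ) = Cyc.ordAt x ξ h (IsLocalRing.residue _ φ₀)
  rw [h1]

theorem finite_ne_closedPoint (A : Type u) [CommRing A] [IsNoetherianRing A] [IsLocalRing A]
    [Ring.KrullDimLE 1 A] : Set.Finite {p : PrimeSpectrum A | p ≠ closedPoint A} := by
  have hsub : {p : PrimeSpectrum A | p ≠ closedPoint A} ⊆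
      (fun p : PrimeSpectrum A => p.asIdeal) ⁻¹' (minimalPrimes A) := by
    intro p hp
    rcases Ring.krullDimLE_one_iff.1 (inferInstance : Ring.KrullDimLE 1 A) p.asIdeal p.2 with h | h
    · exact h
    · exfalso
      apply hp
      apply PrimeSpectrum.ext
      exact IsLocalRing.eq_maximalIdeal h
  refine Set.Finite.subset (Set.Finite.preimage ?_ (minimalPrimes.finite_of_isNoetherianRing A)) hsub
  intro p _ q _ hpq
  exact PrimeSpectrum.ext hpq

theorem toNat_length_quot_eq_finsum (A : Type u) [CommRing A] [IsNoetherianRing A] [IsLocalRing A]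
    [Ring.KrullDimLE 1 A] (f : A) (hf : f ∈ nonZeroDivisors A) :
    ((Module.length A (A ⧸ Ideal.span {f})).toNat : ℤ) =
      ∑ᶠ p ∈ {p : PrimeSpectrum A | p ≠ closedPoint A},
        (((Module.length (Localization.AtPrime p.asIdeal)
          (LocalizedModule p.asIdeal.primeCompl A)).toNat : ℤ) *
        ((Ring.ord (A ⧸ p.asIdeal) (Ideal.Quotient.mk p.asIdeal f)).toNat : ℤ)) := by
  classical
  have hreg : IsSMulRegular A f := (isRegular_iff_mem_nonZeroDivisors.2 hf).left.isSMulRegular
  have h1 : Module.supportDim A A ≤ 1 := by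
    rw [Module.supportDim_self_eq_ringKrullDim]
    exact Ring.krullDimLE_iff.1 inferInstance
  have h0 : Module.supportDim A (A ⧸ f • (⊤ : Submodule A A)) ≤ 0 := by
    have h2 := Module.supportDim_quotSMulTop_succ_le_of_notMem_minimalPrimes (R := A) (M := A)
      (x := f) (fun _ ↦ hreg.notMem_of_mem_minimalPrimes)
    have h3 := h2.trans h1
    rw [← ENat.WithBot.add_le_add_one_right_iff]
    simpa using h3
  have key := Groth.Agent.S1833.result A A f h1 h0
  have hker : LinearMap.ker (LinearMap.lsmul A A f) = ⊥ := by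
    rw [LinearMap.ker_eq_bot]
    intro a b hab
    exact hreg hab
  have hlen : Module.length A (A ⧸ f • (⊤ : Submodule A A)) =
      Module.length A (A ⧸ Ideal.span {f}) := by
    have h : (f • ⊤ : Submodule A A) = Ideal.span {f} := by
      rw [← Submodule.ideal_span_singleton_smul]
      simp
    exact (Submodule.quotEquivOfEq _ _ h).length_eq
  rw [hker, hlen] at key
  have hbot : Module.length A (⊥ : Submodule A A) = 0 := by simp
  rw [hbot, zero_add] at key
  have hfin := finite_ne_closedPoint A
  have hset : ∀ p : PrimeSpectrum A, (p ∈ Module.support A A ∧ p.asIdeal ≠ maximalIdeal A) ↔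
      p ∈ {p : PrimeSpectrum A | p ≠ closedPoint A} := by
    intro p
    have hs : p ∈ Module.support A A := by
      rw [Module.mem_support_iff_of_finite]
      have : Module.annihilator A A = ⊥ :=
        Module.annihilator_eq_bot.mpr ((faithfulSMul_iff_algebraMap_injective A A).mpr fun {a₁ a₂} a ↦ a)
      rw [this]; exact bot_le
    simp only [hs, true_and, Set.mem_ofPred_eq, ne_eq]
    rw [not_iff_not]
    exact ⟨fun h => PrimeSpectrum.ext h, fun h => by rw [h]; rfl⟩
  have key2 : Module.length A (A ⧸ Ideal.span {f}) =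
      ∑ p ∈ hfin.toFinset, Ring.ord (A ⧸ p.asIdeal) (Ideal.Quotient.mk p.asIdeal f) *
        Module.length (Localization.AtPrime p.asIdeal)
          (LocalizedModule p.asIdeal.primeCompl A) := by
    rw [key, ← finsum_mem_eq_finite_toFinset_sum _ hfin]
    apply finsum_congr
    intro p
    exact finsum_congr_Prop (propext (hset p)) (fun _ => rfl)
  have hne : Module.length A (A ⧸ Ideal.span {f}) ≠ ⊤ := Ring.ord_ne_top hf
  rw [key2] at hne
  rw [ENat.sum_ne_top] at hne
  rw [key2, ENat.toNat_sum hne, Nat.cast_sum]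
  rw [finsum_mem_eq_finite_toFinset_sum _ hfin]
  apply Finset.sum_congr rfl
  intro p hp
  rw [ENat.toNat_mul, Nat.cast_mul, mul_comm]

theorem subschemeFun_id (δ : X → ℤ) (k : ℤ) (ξ : X) :
    Cyc.subschemeFun δ k (𝟙 X) ξ = if δ ξ = k then
      ((Module.length (X.presheaf.stalk ξ) (X.presheaf.stalk ξ)).toNat : ℤ) else 0 := by
  unfold Cyc.subschemeFun
  split_ifs with h
  · have : {z : X | (𝟙 X : X ⟶ X) z = ξ} = {ξ} := by
      ext z; simp
    rw [this, finsum_mem_singleton]
  · rfl

/-- With a dimension function bounded by `k + 1`, a point of `δ`-dimension `k` has coheight `≤ 1`. -/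
theorem coheight_le_one_of_delta {δ : X → ℤ} (hδ : Cyc.IsDimFun X δ) {k : ℤ}
    (hdim : ∀ y : X, δ y ≤ k + 1) (y : X) (hy : δ y = k) : Order.coheight y ≤ 1 := by
  have hlt : ∀ a b : X, a < b → δ a < δ b := by
    intro a b hab
    have h1 : b ⤳ a := hab.le
    have h2 : b ≠ a := fun e => (lt_irrefl _ (e ▸ hab))
    exact (hδ b a h1 h2).1
  rw [Order.coheight_le_iff']
  intro p hp
  by_contra hlen
  push Not at hlen
  have h2 : 2 ≤ p.length := by
    have : (1 : ℕ∞) < p.length := hlen
    exact_mod_cast Order.add_one_le_of_lt this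
  have e0 : p ⟨0, by omega⟩ = y := hp
  have l1 : p ⟨0, by omega⟩ < p ⟨1, by omega⟩ := p.strictMono (by simp [Fin.lt_def])
  have l2 : p ⟨1, by omega⟩ < p ⟨2, by omega⟩ := p.strictMono (by simp [Fin.lt_def])
  have d1 := hlt _ _ l1
  have d2 := hlt _ _ l2
  have d3 := hdim (p ⟨2, by omega⟩)
  rw [e0] at d1
  omega

/-- S1925: `[Z(s)]_k = c_1(L) ∩ [Y]_{k+1}` computed with the rational sections induced by `s`. -/
theorem zeroSectionFun_eq_c1CapFun (Y : Scheme.{u}) (δ : Y → ℤ) (hY : Cyc.IsSetup Y δ)
    (L : Y.Modules) (hL : PicF.IsInvertible L) (k : ℤ) (hdim : ∀ y : Y, δ y ≤ k + 1)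
    (s : L.presheaf.obj (Opposite.op ⊤))
    (hZ : ∀ y : Y, (L.presheaf.germ ⊤ y trivial) s ∈
      IsLocalRing.maximalIdeal (Y.presheaf.stalk y) •
        (⊤ : Submodule (Y.presheaf.stalk y) (L.presheaf.stalk y)) → δ y ≤ k)
    (hreg : ∀ y : Y, δ y = k →
      Function.Injective (fun a : Y.presheaf.stalk y => a • (L.presheaf.germ ⊤ y trivial) s)) :
    Cyc.zeroSectionFun δ k L s = Cyc.c1CapFun δ L (Cyc.subschemeFun δ (k + 1) (𝟙 Y))
      (fun ξ => Submodule.Quotient.mk ((L.presheaf.germ ⊤ ξ trivial) s)) := by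
  classical
  have : IsLocallyNoetherian Y := hY.1
  have hδ := hY.2.2
  funext y
  unfold Cyc.c1CapFun
  by_cases hyk : δ y = k
  swap
  · -- both sides zero
    have hl : Cyc.zeroSectionFun δ k L s y = 0 := by
      unfold Cyc.zeroSectionFun; rw [if_neg hyk]
    rw [hl]
    symm
    apply finsum_eq_zero_of_forall_eq_zero
    intro ξ
    rw [subschemeFun_id]
    by_cases hξ : δ ξ = k + 1
    · have : Cyc.secDivFun δ L ξ
          (Submodule.Quotient.mk ((L.presheaf.germ ⊤ ξ trivial) s)) y = 0 := by
        unfold Cyc.secDivFun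
        rw [dif_neg]
        rintro ⟨_, h2⟩
        omega
      rw [this, mul_zero]
    · rw [if_neg hξ, zero_mul]
  · -- main case
    have hco : Order.coheight y ≤ 1 := coheight_le_one_of_delta hδ hdim y hyk
    haveI : Ring.KrullDimLE 1 (Y.presheaf.stalk y) := krullDimLE_of_coheight_le hco
    have ht := exists_span_eq_top hL y
    have htspan := Classical.choose_spec ht
    have hf : ∃ f : Y.presheaf.stalk y,
        (L.presheaf.germ ⊤ y trivial) s = f • Classical.choose ht := by
      have hmem : (L.presheaf.germ ⊤ y trivial) s ∈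
          Submodule.span (Y.presheaf.stalk y) {Classical.choose ht} := by
        rw [htspan]; trivial
      obtain ⟨f, hf⟩ := Submodule.mem_span_singleton.1 hmem
      exact ⟨f, hf.symm⟩
    have hl : Cyc.zeroSectionFun δ k L s y = ((Module.length (Y.presheaf.stalk y)
          (↥(Y.presheaf.stalk y) ⧸ Ideal.span {Classical.choose hf})).toNat : ℤ) := by
      unfold Cyc.zeroSectionFun
      rw [if_pos hyk, dif_pos ht, dif_pos hf]
    rw [hl]
    have hfs := Classical.choose_spec hf
    set f := Classical.choose hf with hfdef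
    set t := Classical.choose ht with htdef
    have htx : Function.Bijective (fun c : Y.presheaf.stalk y => c • t) := by
      have h1 := bijective_smul_stalkSpecializes hL (specializes_rfl : y ⤳ y) t htspan
      have h2 : L.presheaf.stalkSpecializes (specializes_rfl : y ⤳ y) t = t := by
        rw [TopCat.Presheaf.stalkSpecializes_refl]; rfl
      rwa [h2] at h1
    have hfnzd : f ∈ nonZeroDivisors (Y.presheaf.stalk y) := by
      have hinj := hreg y hyk
      have hz : ∀ a : Y.presheaf.stalk y, a * f = 0 → a = 0 := by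
        intro a ha
        apply hinj
        show a • (L.presheaf.germ ⊤ y trivial) s = (0 : Y.presheaf.stalk y) • (L.presheaf.germ ⊤ y trivial) s
        rw [hfs, smul_smul, ha, zero_smul, zero_smul]
      rw [← isRegular_iff_mem_nonZeroDivisors, isRegular_iff_eq_zero_of_mul]
      exact ⟨fun a ha => hz a (by rwa [mul_comm]), hz⟩
    rw [toNat_length_quot_eq_finsum _ f hfnzd]
    set c : Y → ℤ := fun ξ => Cyc.subschemeFun δ (k + 1) (𝟙 Y) ξ *
      Cyc.secDivFun δ L ξ (Submodule.Quotient.mk ((L.presheaf.germ ⊤ ξ trivial) s)) y with hc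
    have hsupp : Function.support c ⊆ Set.range (Y.fromSpecStalk y) := by
      intro ξ hξ
      rw [Scheme.range_fromSpecStalk]
      by_contra hns
      apply hξ
      show _ * _ = 0
      have : Cyc.secDivFun δ L ξ
          (Submodule.Quotient.mk ((L.presheaf.germ ⊤ ξ trivial) s)) y = 0 := by
        unfold Cyc.secDivFun
        rw [dif_neg]
        exact fun h => hns h.1
      rw [this, mul_zero]
    have hinj : Function.Injective (Y.fromSpecStalk y) :=
      (Y.fromSpecStalk y).isEmbedding.injective
    have e1 : ∑ᶠ ξ, c ξ = ∑ᶠ p, c (Y.fromSpecStalk y p) := by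
      rw [← finsum_mem_range hinj, finsum_mem_def, Set.indicator_eq_self.2 hsupp]
    change _ = ∑ᶠ ξ, c ξ
    rw [e1, finsum_mem_def]
    apply finsum_congr
    intro p
    rw [Set.indicator_apply]
    by_cases hp : p = closedPoint _
    · rw [if_neg (by simpa using hp)]
      rw [hp]
      show _ = Cyc.subschemeFun δ (k + 1) (𝟙 Y) _ * _
      rw [Scheme.fromSpecStalk_closedPoint, subschemeFun_id, if_neg (by omega), zero_mul]
    · rw [if_pos (show p ∈ {p : PrimeSpectrum (Y.presheaf.stalk y) | p ≠ closedPoint _} from hp)]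
      set ξ := Y.fromSpecStalk y p with hξdef
      have hsp : ξ ⤳ y := fromSpecStalk_specializes y p
      have hne : ξ ≠ y := fun h => hp ((fromSpecStalk_eq_iff y p).1 h)
      have hξk : δ ξ = k + 1 := by
        have h1 := (hδ ξ y hsp hne).1
        have h2 := hdim ξ
        omega
      show _ = Cyc.subschemeFun δ (k + 1) (𝟙 Y) ξ * Cyc.secDivFun δ L ξ _ y
      rw [subschemeFun_id, if_pos hξk]
      unfold Cyc.secDivFun
      rw [dif_pos ⟨hsp, by omega⟩]
      have hgerm : (L.presheaf.germ ⊤ ξ trivial) s =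
          (Y.presheaf.stalkSpecializes hsp f) • (L.presheaf.stalkSpecializes hsp t) := by
        have e1 : L.presheaf.stalkSpecializes hsp ((L.presheaf.germ ⊤ y trivial) s) =
            (L.presheaf.germ ⊤ ξ trivial) s :=
          ConcreteCategory.congr_hom
            (TopCat.Presheaf.germ_stalkSpecializes L.presheaf (U := ⊤) trivial hsp) s
        rw [← e1, hfs, stalkSpecializes_smul]
      rw [secOrdAt_eq_of_smul hL hsp ht _ (Y.presheaf.stalkSpecializes hsp f)
        (by rw [hgerm]; rfl)]
      have hspec : Cyc.specMap y ξ hsp f ≠ 0 := by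
        intro h0
        have hmem : (Y.presheaf.stalkSpecializes hsp).hom f ∈
            maximalIdeal (Y.presheaf.stalk ξ) := by
          rw [← mem_genPrime_iff, genPrime_asIdeal, RingHom.mem_ker]; exact h0
        have := hZ ξ (by rw [hgerm]; exact Submodule.smul_mem_smul hmem trivial)
        omega
      change _ = _ * Cyc.ordAt y ξ hsp (Cyc.specMap y ξ hsp f)
      rw [ordAt_specMap_eq y ξ hsp f hspec, length_stalk_eq_length_localization y ξ hsp]
      have hgp : genPrime y ξ hsp = p := genPrime_fromSpecStalk y p hsp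
      have key : ∀ q : PrimeSpectrum (Y.presheaf.stalk y), q = p →
          ((Module.length (Localization.AtPrime q.asIdeal)
            (LocalizedModule q.asIdeal.primeCompl (Y.presheaf.stalk y))).toNat : ℤ) *
          ((Ring.ord ((Y.presheaf.stalk y) ⧸ q.asIdeal)
            (Ideal.Quotient.mk q.asIdeal f)).toNat : ℤ) =
          ((Module.length (Localization.AtPrime p.asIdeal)
            (LocalizedModule p.asIdeal.primeCompl (Y.presheaf.stalk y))).toNat : ℤ) *
          ((Ring.ord ((Y.presheaf.stalk y) ⧸ p.asIdeal)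
            (Ideal.Quotient.mk p.asIdeal f)).toNat : ℤ) := by
        rintro q rfl; rfl
      exact (key _ hgp).symm

end Groth.Agent.Lib.Seat32.ZeroSecCap
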