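import Mathlib
import Groth.Prelude.Def_Cyc
import Groth.Agent.Lib.Seat32PullDiv
import Groth.Agent.Lib.Seat32ZeroSecCap

/-!
# Flat pullback of a principal divisor to a possibly non-integral source (helper32, S1907)

For `f : X ⟶ Y` flat, locally of finite type, of relative dimension `r`, `Y` integral:
`f^* div(g) = Σ_j n_j div_{X_j}(g|X_j)`.
-/

set_option autoImplicit false
set_option linter.style.haveILetI false
universe u
open CategoryTheory AlgebraicGeometry TensorProduct IsLocalRing

namespace Groth.Agent.Lib.Seat32.PullDivSum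

open Groth.Agent.Lib.Helper4.DimFormula Groth.Agent.Lib.Helper3.RelDim
open Groth.Agent.Lib.Seat32.GenPrime Groth.Agent.Lib.Seat32.PullSheaf
open Groth.Agent.Lib.Seat32.PullDiv Groth.Agent.Lib.Seat32.ZeroSecCap
open Groth.Agent.Lib.Seat28.OrdFrac

variable {X Y : Scheme.{u}}

theorem residueFieldCongr_specMap (y η η' : Y) (e : η = η') (h : η ⤳ y) (h' : η' ⤳ y)
    (a : Y.presheaf.stalk y) :
    (Y.residueFieldCongr e).hom (Cyc.specMap y η h a) = Cyc.specMap y η' h' a := by
  subst e
  rfl

theorem deltaY_le [IsIntegral Y] {δY : Y → ℤ} (hY : Cyc.IsDimFun Y δY) (z : Y) :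
    δY z ≤ δY (genericPoint Y) := by
  by_cases e : genericPoint Y = z
  · rw [e]
  · exact ((hY _ z (genericPoint_specializes z) e).1).le

theorem eq_generic_of_le [IsIntegral Y] {δY : Y → ℤ} (hY : Cyc.IsDimFun Y δY) (z : Y)
    (h : δY (genericPoint Y) ≤ δY z) : z = genericPoint Y := by
  by_contra e
  have := (hY _ z (genericPoint_specializes z) (Ne.symm e)).1
  omega

attribute [local instance] Curv2.resAlgebra in
/-- the dimension function at a point without proper generizations. -/
theorem delta_of_maximal (f : X ⟶ Y) [LocallyOfFiniteType f] (r : ℕ)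
    (hr : Cyc.HasRelDim f r) (δX : X → ℤ) (δY : Y → ℤ) (hδ : Cyc.DeltaCompat f δX δY) (ξ : X)
    (hmax : ∀ x' : X, x' ⤳ ξ → x' = ξ) : δX ξ = δY (f ξ) + r := by
  have h0 := delta_eq_add_ptTrdeg f δX δY hδ ξ
  have h1 := (hasRelDim_iff_forall_fibreDimAt_eq f r).mp hr ξ
  have h2 := fibreDimAt_eq_ptTrdeg_of_maximal f ξ (fun y _ hy => hmax y hy)
  rw [h1] at h2
  have h3 : r = ptTrdeg f ξ := by exact_mod_cast h2
  rw [h0, ← h3]

section main

variable [IsIntegral Y] (δX : X → ℤ) (δY : Y → ℤ) (hX : Cyc.IsSetup X δX) (hY : Cyc.IsSetup Y δY)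
  (f : X ⟶ Y) [LocallyOfFiniteType f] (r : ℕ) (hr : Cyc.HasRelDim f r)
  (hδ : Cyc.DeltaCompat f δX δY)

/-- the index type of S1907: generic points of `X` over the generic point of `Y`. -/
abbrev Comp (f : X ⟶ Y) : Type u :=
  {ξ : X // (∀ x' : X, x' ⤳ ξ → x' = ξ) ∧ f ξ = genericPoint Y}

include hY hr hδ in
theorem delta_le_top (x' : X) : δX x' ≤ δY (genericPoint Y) + r := by
  have h1 := delta_le f r hr δX δY hδ x'
  have h2 := deltaY_le hY.2.2 (f x')
  linarith

include hr hδ in
theorem delta_comp (ξ : Comp f) : δX ξ.1 = δY (genericPoint Y) + r := by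
  rw [delta_of_maximal f r hr δX δY hδ ξ.1 ξ.2.1, ξ.2.2]

/-- the summand of S1907 attached to an element `c` of the local ring at `x`. -/
noncomputable def D (x : X) (c : X.presheaf.stalk x) (ξ : Comp f) : ℤ :=
  open Classical in
  ((Module.length (X.presheaf.stalk ξ.1) (X.presheaf.stalk ξ.1)).toNat : ℤ) *
    (if h : ξ.1 ⤳ x then Cyc.ordAt x ξ.1 h (Cyc.specMap x ξ.1 h c) else 0)

include hX hY hr hδ in
theorem finsum_D (x : X) (hx : δX x + 1 = δY (genericPoint Y) + r)
    [Ring.KrullDimLE 1 (X.presheaf.stalk x)] (c : X.presheaf.stalk x)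
    (hc : c ∈ nonZeroDivisors (X.presheaf.stalk x))
    (hc' : ∀ (ξ : Comp f) (h : ξ.1 ⤳ x), Cyc.specMap x ξ.1 h c ≠ 0) :
    (Function.support (D f x c)).Finite ∧
      ∑ᶠ ξ : Comp f, D f x c ξ =
        ((Module.length (X.presheaf.stalk x) (X.presheaf.stalk x ⧸ Ideal.span {c})).toNat : ℤ) := by
  classical
  haveI : IsLocallyNoetherian X := hX.1
  have hfin := finite_ne_closedPoint (X.presheaf.stalk x)
  haveI : Finite ↥{p : PrimeSpectrum (X.presheaf.stalk x) | p ≠ closedPoint _} := hfin.to_subtype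
  have hΦ : ∀ p : PrimeSpectrum (X.presheaf.stalk x), p ≠ closedPoint _ →
      (∀ x' : X, x' ⤳ X.fromSpecStalk x p → x' = X.fromSpecStalk x p) ∧
        f (X.fromSpecStalk x p) = genericPoint Y := by
    intro p hp
    have hsp : X.fromSpecStalk x p ⤳ x := fromSpecStalk_specializes x p
    have hne : X.fromSpecStalk x p ≠ x := fun h => hp ((fromSpecStalk_eq_iff x p).1 h)
    have h1 := (hX.2.2 _ x hsp hne).1
    have h2 := delta_le_top δX δY hY f r hr hδ (X.fromSpecStalk x p)
    have hξ : δX (X.fromSpecStalk x p) = δY (genericPoint Y) + r := by omega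
    constructor
    · intro x' hx'
      by_contra hne'
      have h3 := (hX.2.2 x' _ hx' hne').1
      have h4 := delta_le_top δX δY hY f r hr hδ x'
      omega
    · apply eq_generic_of_le hY.2.2
      have h5 := delta_le f r hr δX δY hδ (X.fromSpecStalk x p)
      omega
  let Φ : ↥{p : PrimeSpectrum (X.presheaf.stalk x) | p ≠ closedPoint _} → Comp f :=
    fun p => ⟨X.fromSpecStalk x p.1, hΦ p.1 p.2⟩
  have hΦinj : Function.Injective Φ := by
    intro p q h
    have h' : (Φ p).1 = (Φ q).1 := by rw [h]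
    exact Subtype.ext ((X.fromSpecStalk x).isEmbedding.injective h')
  have hsupp : Function.support (D f x c) ⊆ Set.range Φ := by
    intro ξ hξ
    by_cases h : ξ.1 ⤳ x
    · have hne : ξ.1 ≠ x := by
        intro e
        have := delta_comp δX δY f r hr hδ ξ
        rw [e] at this
        omega
      refine ⟨⟨genPrime x ξ.1 h, ?_⟩, Subtype.ext (fromSpecStalk_genPrime x ξ.1 h)⟩
      intro hp
      apply hne
      rw [← fromSpecStalk_genPrime x ξ.1 h, hp, Scheme.fromSpecStalk_closedPoint]
    · exfalso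
      apply hξ
      simp only [D]
      rw [dif_neg h, mul_zero]
  refine ⟨(Set.finite_range Φ).subset hsupp, ?_⟩
  have e1 : ∑ᶠ ξ, D f x c ξ = ∑ᶠ p, D f x c (Φ p) := by
    rw [← finsum_mem_range hΦinj, finsum_mem_def, Set.indicator_eq_self.2 hsupp]
  rw [e1, toNat_length_quot_eq_finsum _ c hc, ← finsum_set_coe_eq_finsum_mem]
  apply finsum_congr
  rintro ⟨p, hp⟩
  have hsp : X.fromSpecStalk x p ⤳ x := fromSpecStalk_specializes x p
  simp only [D, Φ]
  rw [dif_pos hsp, ordAt_specMap_eq x _ hsp c (hc' (Φ ⟨p, hp⟩) hsp),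
    length_stalk_eq_length_localization x _ hsp]
  have hgp : genPrime x _ hsp = p := genPrime_fromSpecStalk x p hsp
  have key : ∀ q : PrimeSpectrum (X.presheaf.stalk x), q = p →
      ((Module.length (Localization.AtPrime q.asIdeal)
        (LocalizedModule q.asIdeal.primeCompl (X.presheaf.stalk x))).toNat : ℤ) *
      ((Ring.ord ((X.presheaf.stalk x) ⧸ q.asIdeal)
        (Ideal.Quotient.mk q.asIdeal c)).toNat : ℤ) =
      ((Module.length (Localization.AtPrime p.asIdeal)
        (LocalizedModule p.asIdeal.primeCompl (X.presheaf.stalk x))).toNat : ℤ) *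
      ((Ring.ord ((X.presheaf.stalk x) ⧸ p.asIdeal)
        (Ideal.Quotient.mk p.asIdeal c)).toNat : ℤ) := by
    rintro q rfl; rfl
  exact key _ hgp


theorem map_mem_nonZeroDivisors_of_flat {A B : Type u} [CommRing A] [CommRing B] (φ : A →+* B)
    (hφ : φ.Flat) (a : A) (ha : a ∈ nonZeroDivisors A) : φ a ∈ nonZeroDivisors B := by
  letI := φ.toAlgebra
  haveI : Module.Flat A B := hφ
  have h := Module.Flat.isSMulRegular_of_nonZeroDivisors (M := B) ha
  rw [mem_nonZeroDivisors_iff_right]
  intro b hb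
  apply h
  show a • b = a • 0
  rw [smul_zero, Algebra.smul_def, mul_comm]
  exact hb

include hX hY hr hδ in
/-- **S1907**. -/
theorem pullFun_divFun_sum [Flat f] (g : Y.residueField (genericPoint Y)) (hg : g ≠ 0) (x : X) :
    Cyc.pullFun f δX δY r (Cyc.divFun δY (genericPoint Y) g) x =
      ∑ᶠ ξ : Comp f, ((Module.length (X.presheaf.stalk ξ.1) (X.presheaf.stalk ξ.1)).toNat : ℤ) *
        Cyc.divFun δX ξ.1
          (f.residueFieldMap ξ.1 ((Y.residueFieldCongr ξ.2.2.symm).hom g)) x := by
  classical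
  haveI : IsLocallyNoetherian X := hX.1
  haveI : IsLocallyNoetherian Y := hY.1
  have hηy : genericPoint Y ⤳ f x := genericPoint_specializes _
  have hle := delta_le f r hr δX δY hδ x
  change (if δX x = δY (f x) + (r : ℤ) then
      Cyc.divFun δY (genericPoint Y) g (f x) *
        ((Module.length (X.presheaf.stalk x)
          (X.presheaf.stalk x ⧸ Ideal.map (f.stalkMap x).hom
            (IsLocalRing.maximalIdeal (Y.presheaf.stalk (f x))))).toNat : ℤ) else 0) = _
  by_cases h1 : δX x + 1 = δY (genericPoint Y) + r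
  swap
  · rw [finsum_eq_zero_of_forall_eq_zero]
    · by_cases h2 : δX x = δY (f x) + (r : ℤ)
      · rw [if_pos h2, divFun_neg _ _ _ _ (by omega), zero_mul]
      · rw [if_neg h2]
    · intro ξ
      rw [divFun_neg _ _ _ _ (by rw [delta_comp δX δY f r hr hδ ξ]; exact h1), mul_zero]
  · have hco : Order.coheight x ≤ 1 :=
      coheight_le_one_of_delta hX.2.2 (k := δX x) (fun y => by
        have := delta_le_top δX δY hY f r hr hδ y
        omega) x rfl
    haveI : Ring.KrullDimLE 1 (X.presheaf.stalk x) := krullDimLE_of_coheight_le hco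
    obtain ⟨a, b, hb, hgab⟩ := exists_eq_div_specMap (f x) (genericPoint Y) hηy g
    have ha : Cyc.specMap (f x) (genericPoint Y) hηy a ≠ 0 := by
      intro h0
      apply hg
      rw [hgab, h0, zero_div]
    have ha0 : a ≠ 0 := fun h => ha (by rw [h, map_zero])
    have hb0 : b ≠ 0 := fun h => hb (by rw [h, map_zero])
    have hspec : ∀ (ξ : Comp f) (h : ξ.1 ⤳ x) (c : Y.presheaf.stalk (f x)),
        (f.residueFieldMap ξ.1).hom ((Y.residueFieldCongr ξ.2.2.symm).hom
          (Cyc.specMap (f x) (genericPoint Y) hηy c)) =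
        Cyc.specMap x ξ.1 h ((f.stalkMap x).hom c) := by
      intro ξ h c
      rw [residueFieldCongr_specMap (f x) _ _ ξ.2.2.symm hηy (f.base.hom.map_specializes h) c]
      exact specMap_stalkMap f x ξ.1 h c
    have hne : ∀ (ξ : Comp f) (h : ξ.1 ⤳ x) (c : Y.presheaf.stalk (f x)),
        Cyc.specMap (f x) (genericPoint Y) hηy c ≠ 0 →
        Cyc.specMap x ξ.1 h ((f.stalkMap x).hom c) ≠ 0 := by
      intro ξ h c hc
      rw [← hspec ξ h c]
      exact (map_ne_zero_iff _ (RingHom.injective _)).2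
        ((map_ne_zero_iff _ (RingHom.injective _)).2 hc)
    have hterm : ∀ ξ : Comp f,
        ((Module.length (X.presheaf.stalk ξ.1) (X.presheaf.stalk ξ.1)).toNat : ℤ) *
          Cyc.divFun δX ξ.1
            (f.residueFieldMap ξ.1 ((Y.residueFieldCongr ξ.2.2.symm).hom g)) x =
        D f x ((f.stalkMap x).hom a) ξ - D f x ((f.stalkMap x).hom b) ξ := by
      intro ξ
      simp only [D]
      by_cases h : ξ.1 ⤳ x
      · rw [dif_pos h, dif_pos h,
          divFun_pos δX ξ.1 x _ h (by rw [delta_comp δX δY f r hr hδ ξ]; exact h1), ← mul_sub]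
        congr 1
        change Cyc.ordAt x ξ.1 h ((f.residueFieldMap ξ.1).hom
          ((Y.residueFieldCongr ξ.2.2.symm).hom g)) = _
        rw [hgab, map_div₀, map_div₀, hspec ξ h a, hspec ξ h b,
          ordAt_div _ _ _ _ _ (hne ξ h a ha) (hne ξ h b hb)]
      · rw [dif_neg h, dif_neg h]
        unfold Cyc.divFun
        rw [dif_neg (fun h' => h h'.1)]
        simp
    have hnzd : ∀ c : Y.presheaf.stalk (f x), c ≠ 0 →
        (f.stalkMap x).hom c ∈ nonZeroDivisors (X.presheaf.stalk x) := fun c hc =>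
      map_mem_nonZeroDivisors_of_flat _ (Flat.stalkMap f x) c (mem_nonZeroDivisors_of_ne_zero hc)
    obtain ⟨hfa, hsa⟩ := finsum_D δX δY hX hY f r hr hδ x h1 _ (hnzd a ha0)
      (fun ξ h => hne ξ h a ha)
    obtain ⟨hfb, hsb⟩ := finsum_D δX δY hX hY f r hr hδ x h1 _ (hnzd b hb0)
      (fun ξ h => hne ξ h b hb)
    rw [finsum_congr hterm, finsum_sub_distrib hfa hfb, hsa, hsb]
    by_cases h2 : δX x = δY (f x) + (r : ℤ)
    · have h3 : δY (f x) + 1 = δY (genericPoint Y) := by omega
      rw [if_pos h2, divFun_pos δY (genericPoint Y) (f x) g hηy h3]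
      have hcoy : Order.coheight (f x) = 1 :=
        Groth.Agent.Lib.Seat32.ZeroSec.coheight_eq_one_of_delta hY.2.2 (f x) h3
      haveI : Ring.KrullDimLE 1 (Y.presheaf.stalk (f x)) := krullDimLE_of_coheight_le hcoy.le
      have hL : Cyc.ordAt (f x) (genericPoint Y) hηy g =
          ((Module.length (Y.presheaf.stalk (f x))
            (Y.presheaf.stalk (f x) ⧸ Ideal.span {a})).toNat : ℤ) -
          ((Module.length (Y.presheaf.stalk (f x))
            (Y.presheaf.stalk (f x) ⧸ Ideal.span {b})).toNat : ℤ) := by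
        rw [hgab, ordAt_div _ _ _ _ _ ha hb,
          ordAt_specMap_generic (f x) (genericPoint Y) rfl hηy a ha0,
          ordAt_specMap_generic (f x) (genericPoint Y) rfl hηy b hb0]
      rw [hL, length_quot_span_map (f.stalkMap x).hom (Flat.stalkMap f x) a,
        length_quot_span_map (f.stalkMap x).hom (Flat.stalkMap f x) b, ENat.toNat_mul,
        ENat.toNat_mul]
      push_cast
      ring
    · rw [if_neg h2]
      have hyη : f x = genericPoint Y := by
        apply eq_generic_of_le hY.2.2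
        omega
      have hfield : IsField (Y.presheaf.stalk (f x)) := by
        rw [hyη]
        exact Field.toIsField (Y.functionField)
      letI := hfield.toField
      have hua : IsUnit a := isUnit_iff_ne_zero.2 ha0
      have hub : IsUnit b := isUnit_iff_ne_zero.2 hb0
      rw [length_quot_span_unit _ (hua.map (f.stalkMap x).hom),
        length_quot_span_unit _ (hub.map (f.stalkMap x).hom)]
      simp

end main

end Groth.Agent.Lib.Seat32.PullDivSum
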