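import Mathlib
import Groth.Prelude.Def_Cyc
import Groth.Agent.Lib.Seat32PullDivSum
import Groth.Agent.Lib.Seat32FlatOrd
import Groth.Agent.Lib.Seat28FibreMax

/-!
# Flat pullback of a principal divisor on a closed subvariety (helper32)

`p : X' ⟶ X` flat, dimension functions `δ`, `δ'` with shift `c` at points maximal in their fibre.
For `ξ ∈ X` and `g ∈ κ(ξ)^*`:
`p^* div_ξ(g) = Σ_{ξ'} m_{ξ'} div_{ξ'}(g|ξ')`, the sum over the points `ξ'` maximal in the fibre
`p⁻¹(ξ)`, with `m_{ξ'}` the length of `O_{ξ'}/𝔪_ξ O_{ξ'}`.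
-/

set_option autoImplicit false
set_option linter.style.haveILetI false
universe u
open CategoryTheory AlgebraicGeometry TensorProduct IsLocalRing

namespace Groth.Agent.Lib.Seat32.PullDivGen

open Groth.Agent.Lib.Seat32.GenPrime Groth.Agent.Lib.Seat32.PullDiv
open Groth.Agent.Lib.Seat32.PullDivSum Groth.Agent.Lib.Seat32.ZeroSecCap
open Groth.Agent.Lib.Seat32.FlatOrd Groth.Agent.Lib.Seat28.FibreMax
open Groth.Agent.Lib.Seat28.OrdFrac

variable {X X' : Scheme.{u}}

section general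

/-- a prime of `O_{X,x}` containing the prime of `ξ` gives a specialization of `ξ`. -/
theorem specializes_fromSpecStalk (x ξ : X) (h : ξ ⤳ x) (q : PrimeSpectrum (X.presheaf.stalk x))
    (hq : (genPrime x ξ h).asIdeal ≤ q.asIdeal) : ξ ⤳ X.fromSpecStalk x q := by
  have h1 : genPrime x ξ h ⤳ q := (PrimeSpectrum.le_iff_specializes _ _).1 hq
  have h2 := h1.map (X.fromSpecStalk x).continuous
  rwa [fromSpecStalk_genPrime] at h2

theorem specializes_fromSpecStalk_of_le (x : X) (q₀ q : PrimeSpectrum (X.presheaf.stalk x))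
    (hq : q₀.asIdeal ≤ q.asIdeal) : X.fromSpecStalk x q₀ ⤳ X.fromSpecStalk x q := by
  have h1 : q₀ ⤳ q := (PrimeSpectrum.le_iff_specializes _ _).1 hq
  exact h1.map (X.fromSpecStalk x).continuous

/-- compatibility of `fromSpecStalk` with a morphism. -/
theorem fromSpecStalk_comap (p : X' ⟶ X) (x' : X') (q : PrimeSpectrum (X'.presheaf.stalk x')) :
    X.fromSpecStalk (p x') (PrimeSpectrum.comap (p.stalkMap x').hom q) =
      p (X'.fromSpecStalk x' q) := by
  have h := Scheme.SpecMap_stalkMap_fromSpecStalk p (x := x')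
  have h2 := congrArg (fun (m : Spec (X'.presheaf.stalk x') ⟶ X) => m q) h
  exact h2

/-- dimension at most one for a quotient of a local ring, from the dimension function. -/
theorem krullDimLE_one_quot {δ : X → ℤ} (hδ : Cyc.IsDimFun X δ) (x : X)
    (J : Ideal (X.presheaf.stalk x))
    (hJ : ∀ q : PrimeSpectrum (X.presheaf.stalk x), J ≤ q.asIdeal →
      δ (X.fromSpecStalk x q) ≤ δ x + 1) :
    Ring.KrullDimLE 1 (X.presheaf.stalk x ⧸ J) := by
  rw [Ring.krullDimLE_one_iff]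
  intro Q hQ
  have hker : J ≤ Q.comap (Ideal.Quotient.mk J) := by
    intro a ha
    rw [Ideal.mem_comap, Ideal.Quotient.eq_zero_iff_mem.2 ha]
    exact Q.zero_mem
  set q : PrimeSpectrum (X.presheaf.stalk x) := ⟨Q.comap (Ideal.Quotient.mk J), inferInstance⟩
    with hqdef
  have hsp : X.fromSpecStalk x q ⤳ x := fromSpecStalk_specializes x q
  by_cases hz : X.fromSpecStalk x q = x
  · right
    have hq : q = closedPoint _ := (fromSpecStalk_eq_iff x q).1 hz
    have hqm : Q.comap (Ideal.Quotient.mk J) = maximalIdeal (X.presheaf.stalk x) :=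
      congrArg PrimeSpectrum.asIdeal hq
    have hmax : (Q.comap (Ideal.Quotient.mk J)).IsMaximal := by
      rw [hqm]; infer_instance
    have hQeq : Q = (Q.comap (Ideal.Quotient.mk J)).map (Ideal.Quotient.mk J) :=
      (Ideal.map_comap_of_surjective _ Ideal.Quotient.mk_surjective Q).symm
    rw [hQeq]
    exact (Ideal.map_eq_top_or_isMaximal_of_surjective _ Ideal.Quotient.mk_surjective hmax).resolve_left
      (by rw [← hQeq]; exact hQ.ne_top)
  · left
    have h1 := (hδ _ x hsp hz).1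
    have h2 := hJ q hker
    refine ⟨⟨hQ, bot_le⟩, ?_⟩
    rintro Q₀ ⟨hQ₀, -⟩ hle
    have hker₀ : J ≤ Q₀.comap (Ideal.Quotient.mk J) := by
      intro a ha
      rw [Ideal.mem_comap, Ideal.Quotient.eq_zero_iff_mem.2 ha]
      exact Q₀.zero_mem
    set q₀ : PrimeSpectrum (X.presheaf.stalk x) :=
      ⟨Q₀.comap (Ideal.Quotient.mk J), inferInstance⟩ with hq₀def
    have hle' : q₀.asIdeal ≤ q.asIdeal := Ideal.comap_mono hle
    have hsp₀ := specializes_fromSpecStalk_of_le x q₀ q hle'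
    have h3 := hJ q₀ hker₀
    have heq : X.fromSpecStalk x q₀ = X.fromSpecStalk x q := by
      by_contra hne
      have := (hδ _ _ hsp₀ hne).1
      omega
    have hqq : q₀ = q := (X.fromSpecStalk x).isEmbedding.injective heq
    have hqq' : Q₀.comap (Ideal.Quotient.mk J) = Q.comap (Ideal.Quotient.mk J) :=
      congrArg PrimeSpectrum.asIdeal hqq
    have := Ideal.comap_injective_of_surjective _ Ideal.Quotient.mk_surjective hqq'
    rw [this]

/-- `O_{X,x}/𝔭_ξ` has dimension at most one when `δ x + 1 = δ ξ`. -/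
theorem krullDimLE_one_locQuot {δ : X → ℤ} (hδ : Cyc.IsDimFun X δ) (x ξ : X) (h : ξ ⤳ x)
    (hx : δ x + 1 = δ ξ) : Ring.KrullDimLE 1 (Cyc.LocQuot x ξ h) := by
  apply krullDimLE_one_quot hδ x
  intro q hq
  have hsp := specializes_fromSpecStalk x ξ h q hq
  by_cases e : ξ = X.fromSpecStalk x q
  · rw [← e]; omega
  · have := (hδ _ _ hsp e).1
    omega

/-- the order of the image of `a ∈ O_{X,x}` along `ξ ⤳ x`, when `dim O_{X,x}/𝔭_ξ ≤ 1`. -/
theorem ordAt_specMap_eq' [IsLocallyNoetherian X] (x ξ : X) (h : ξ ⤳ x)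
    [Ring.KrullDimLE 1 (Cyc.LocQuot x ξ h)] (a : X.presheaf.stalk x)
    (ha : Cyc.specMap x ξ h a ≠ 0) :
    Cyc.ordAt x ξ h (Cyc.specMap x ξ h a) =
      ((Ring.ord (Cyc.LocQuot x ξ h) (Ideal.Quotient.mk _ a)).toNat : ℤ) := by
  haveI : (RingHom.ker (Cyc.specMap x ξ h)).IsPrime := RingHom.ker_isPrime _
  have hN : IsNoetherianRing (Cyc.LocQuot x ξ h) := inferInstance
  have hK : Ring.KrullDimLE 1 (Cyc.LocQuot x ξ h) := inferInstance
  have hT : Nontrivial (Cyc.LocQuot x ξ h) := inferInstance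
  have hF := isFractionRing_locQuot x ξ h
  have hD : IsDomain (Cyc.LocQuot x ξ h) := inferInstance
  have ha0 : (Ideal.Quotient.mk (RingHom.ker (Cyc.specMap x ξ h)) a) ≠ 0 := by
    intro h0
    exact ha (RingHom.mem_ker.1 (Ideal.Quotient.eq_zero_iff_mem.1 h0))
  have hmem := mem_nonZeroDivisors_of_ne_zero ha0
  unfold Cyc.ordAt
  rw [← algebraMap_locQuot_mk, ordFrac_eq ⟨hN, hK, hT, hF⟩, Ring.ordFrac_eq_ord _ ha0,
    Ring.ordMonoidWithZeroHom_eq_coe _ hmem (ENat.natCast_toNat (Ring.ord_ne_top hmem)).symm]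
  rfl

/-- the order of the image of a unit is zero. -/
theorem ordAt_specMap_unit (x ξ : X) (h : ξ ⤳ x) (a : X.presheaf.stalk x) (ha : IsUnit a) :
    Cyc.ordAt x ξ h (Cyc.specMap x ξ h a) = 0 := by
  unfold Cyc.ordAt
  rw [← algebraMap_locQuot_mk]
  exact ordFrac_algebraMap_of_isUnit (ha.map (Ideal.Quotient.mk _))

theorem ker_specMap_congr (x ξ₁ ξ₂ : X) (e : ξ₁ = ξ₂) (h₁ : ξ₁ ⤳ x) (h₂ : ξ₂ ⤳ x) :
    RingHom.ker (Cyc.specMap x ξ₁ h₁) = RingHom.ker (Cyc.specMap x ξ₂ h₂) := by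
  subst e
  rfl

theorem divFun_not_specializes (δ : X → ℤ) (ξ x : X) (g : X.residueField ξ)
    (h' : ¬ ξ ⤳ x) : Cyc.divFun δ ξ g x = 0 := by
  unfold Cyc.divFun
  exact dif_neg (fun h => h' h.1)


theorem delta_le_of_specializes {δ : X → ℤ} (hδ : Cyc.IsDimFun X δ) {ξ z : X} (h : ξ ⤳ z) :
    δ z ≤ δ ξ := by
  by_cases e : ξ = z
  · rw [e]
  · exact ((hδ _ _ h e).1).le

theorem eq_of_delta_le {δ : X → ℤ} (hδ : Cyc.IsDimFun X δ) {ξ z : X} (h : ξ ⤳ z)
    (hle : δ ξ ≤ δ z) : z = ξ := by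
  by_contra e
  have := (hδ _ _ h (Ne.symm e)).1
  omega

/-- a prime of `B/I` whose preimage is the maximal ideal is the closed point. -/
theorem eq_closedPoint_of_comap {B : Type u} [CommRing B] [IsLocalRing B] (I : Ideal B)
    [IsLocalRing (B ⧸ I)] (Q : PrimeSpectrum (B ⧸ I))
    (hQ : PrimeSpectrum.comap (Ideal.Quotient.mk I) Q = closedPoint B) :
    Q = closedPoint (B ⧸ I) := by
  have hqm : Q.asIdeal.comap (Ideal.Quotient.mk I) = maximalIdeal B :=
    congrArg PrimeSpectrum.asIdeal hQ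
  have hmax : (Q.asIdeal.comap (Ideal.Quotient.mk I)).IsMaximal := by
    rw [hqm]; infer_instance
  have hQeq : Q.asIdeal = (Q.asIdeal.comap (Ideal.Quotient.mk I)).map (Ideal.Quotient.mk I) :=
    (Ideal.map_comap_of_surjective _ Ideal.Quotient.mk_surjective Q.asIdeal).symm
  have hQmax : Q.asIdeal.IsMaximal := by
    rw [hQeq]
    exact (Ideal.map_eq_top_or_isMaximal_of_surjective _ Ideal.Quotient.mk_surjective
      hmax).resolve_left (by rw [← hQeq]; exact Q.2.ne_top)
  apply PrimeSpectrum.ext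
  exact IsLocalRing.eq_maximalIdeal hQmax

/-- the preimage of the closed point of `B/I` is the closed point. -/
theorem comap_closedPoint_quot {B : Type u} [CommRing B] [IsLocalRing B] (I : Ideal B)
    [IsLocalRing (B ⧸ I)] :
    PrimeSpectrum.comap (Ideal.Quotient.mk I) (closedPoint (B ⧸ I)) = closedPoint B := by
  apply PrimeSpectrum.ext
  have hmax : ((maximalIdeal (B ⧸ I)).comap (Ideal.Quotient.mk I)).IsMaximal :=
    Ideal.comap_isMaximal_of_surjective _ Ideal.Quotient.mk_surjective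
  exact IsLocalRing.eq_maximalIdeal hmax

end general


section ringscheme

variable (p : X' ⟶ X)

/-- the image of the prime of `ξ` lies in the prime of any `ξ'` over `ξ`. -/
theorem map_ker_le_genPrime (x' ξ' : X') (h' : ξ' ⤳ x') (ξ : X) (h : ξ ⤳ p x') (hξ : p ξ' = ξ) :
    (RingHom.ker (Cyc.specMap (p x') ξ h)).map (p.stalkMap x').hom ≤
      (genPrime x' ξ' h').asIdeal := by
  rw [Ideal.map_le_iff_le_comap]
  intro a ha
  rw [Ideal.mem_comap, genPrime_asIdeal, RingHom.mem_ker, ← specMap_stalkMap p x' ξ' h' a]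
  rw [ker_specMap_congr (p x') ξ (p ξ') hξ.symm h (p.base.hom.map_specializes h'),
    RingHom.mem_ker] at ha
  rw [ha, map_zero]

theorem specMap_stalkMap_ne_zero (x' ξ' : X') (h' : ξ' ⤳ x') (ξ : X) (h : ξ ⤳ p x')
    (hξ : p ξ' = ξ) (a : X.presheaf.stalk (p x')) (ha : Cyc.specMap (p x') ξ h a ≠ 0) :
    Cyc.specMap x' ξ' h' ((p.stalkMap x').hom a) ≠ 0 := by
  rw [← specMap_stalkMap p x' ξ' h' a]
  refine (map_ne_zero_iff _ (RingHom.injective _)).2 ?_
  intro h0
  apply ha
  have : a ∈ RingHom.ker (Cyc.specMap (p x') (p ξ') (p.base.hom.map_specializes h')) :=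
    RingHom.mem_ker.2 h0
  rw [← ker_specMap_congr (p x') ξ (p ξ') hξ.symm h (p.base.hom.map_specializes h')] at this
  exact RingHom.mem_ker.1 this

/-- the ideal generated in `O_{z'}` by the prime of `ξ = p z'` is `𝔪_ξ O_{z'}`. -/
theorem map_map_ker_eq (x' z' : X') (hz' : z' ⤳ x') (ξ : X) (h : ξ ⤳ p x') (hpz : p z' = ξ) :
    ((RingHom.ker (Cyc.specMap (p x') ξ h)).map (p.stalkMap x').hom).map
        (X'.presheaf.stalkSpecializes hz').hom =
      Ideal.map (p.stalkMap z').hom (maximalIdeal (X.presheaf.stalk (p z'))) := by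
  have h0 : p z' ⤳ p x' := p.base.hom.map_specializes hz'
  rw [ker_specMap_congr (p x') ξ (p z') hpz.symm h h0, Ideal.map_map]
  have hsq : (X'.presheaf.stalkSpecializes hz').hom.comp (p.stalkMap x').hom =
      (p.stalkMap z').hom.comp (X.presheaf.stalkSpecializes h0).hom := by
    have := Scheme.Hom.stalkSpecializes_stalkMap p z' x' hz'
    ext a
    exact (ConcreteCategory.congr_hom this a).symm
  rw [hsq, ← Ideal.map_map]
  congr 1
  letI := (X.presheaf.stalkSpecializes h0).hom.toAlgebra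
  haveI := isLocalization_atPrime_stalkSpecializes (p x') (p z') h0
  exact IsLocalization.AtPrime.map_eq_maximalIdeal (genPrime (p x') (p z') h0).asIdeal
    (X.presheaf.stalk (p z'))

/-- comparison of the local terms. -/
theorem value_eq (x' z' : X') (hz' : z' ⤳ x') (I : Ideal (X'.presheaf.stalk x'))
    (hI : I ≤ (genPrime x' z' hz').asIdeal) (Q : Ideal (X'.presheaf.stalk x' ⧸ I)) [Q.IsPrime]
    (hQ : Q = (genPrime x' z' hz').asIdeal.map (Ideal.Quotient.mk I))
    (J : Ideal (X'.presheaf.stalk z')) (hJ : I.map (X'.presheaf.stalkSpecializes hz').hom = J)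
    (b : X'.presheaf.stalk x') :
    Module.length (Localization.AtPrime Q)
        (LocalizedModule Q.primeCompl (X'.presheaf.stalk x' ⧸ I)) =
      Module.length (X'.presheaf.stalk z') (X'.presheaf.stalk z' ⧸ J) ∧
    Ring.ord ((X'.presheaf.stalk x' ⧸ I) ⧸ Q) (Ideal.Quotient.mk Q (Ideal.Quotient.mk I b)) =
      Ring.ord (Cyc.LocQuot x' z' hz') (Ideal.Quotient.mk _ b) := by
  constructor
  · letI := (X'.presheaf.stalkSpecializes hz').hom.toAlgebra
    haveI := isLocalization_atPrime_stalkSpecializes x' z' hz'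
    rw [length_localization_quot I (genPrime x' z' hz').asIdeal hI Q hQ (X'.presheaf.stalk z'),
      ← hJ]
    rfl
  · subst hQ
    exact ord_quot_quot I _ hI b

end ringscheme


section main

variable (p : X' ⟶ X) (δ : X → ℤ) (δ' : X' → ℤ) (hX : Cyc.IsSetup X δ)
  (hX' : Cyc.IsSetup X' δ') (c : ℤ)
  (hc : ∀ x' : X', (∀ y, p y = p x' → y ⤳ x' → y = x') → δ' x' = δ (p x') + c)

/-- the points maximal in the fibre over `ξ`. -/
abbrev FibGen (ξ : X) : Type u :=
  {ξ' : X' // p ξ' = ξ ∧ ∀ y, p y = p ξ' → y ⤳ ξ' → y = ξ'}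

/-- the multiplicity of a point: the length of its local ring modulo the maximal ideal of the
image point. -/
noncomputable def mult (ξ' : X') : ℤ :=
  ((Module.length (X'.presheaf.stalk ξ') (X'.presheaf.stalk ξ' ⧸
    Ideal.map (p.stalkMap ξ').hom (maximalIdeal (X.presheaf.stalk (p ξ'))))).toNat : ℤ)

include hc in
theorem delta_fibGen (ξ : X) (ξ' : FibGen p ξ) : δ' ξ'.1 = δ ξ + c := by
  rw [hc ξ'.1 ξ'.2.2, ξ'.2.1]

/-- the summand attached to an element `b` of the local ring at `x'`. -/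
noncomputable def E (x' : X') (b : X'.presheaf.stalk x') (ξ : X) (ξ' : FibGen p ξ) : ℤ :=
  open Classical in
  mult p ξ'.1 *
    (if h : ξ'.1 ⤳ x' then Cyc.ordAt x' ξ'.1 h (Cyc.specMap x' ξ'.1 h b) else 0)

include hX hX' hc in
theorem finsum_E [Flat p] (x' : X') (ξ : X) (h : ξ ⤳ p x') (hx1 : δ' x' = δ (p x') + c)
    (hx2 : δ (p x') + 1 = δ ξ) (a : X.presheaf.stalk (p x'))
    (ha : Cyc.specMap (p x') ξ h a ≠ 0) :
    (Function.support (E p x' ((p.stalkMap x').hom a) ξ)).Finite ∧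
      ∑ᶠ ξ' : FibGen p ξ, E p x' ((p.stalkMap x').hom a) ξ ξ' =
        ((Ring.ord ((X'.presheaf.stalk x') ⧸
          (RingHom.ker (Cyc.specMap (p x') ξ h)).map (p.stalkMap x').hom)
          (Ideal.Quotient.mk _ ((p.stalkMap x').hom a))).toNat : ℤ) := by
  classical
  haveI : IsLocallyNoetherian X' := hX'.1
  haveI : (RingHom.ker (Cyc.specMap (p x') ξ h)).IsPrime := RingHom.ker_isPrime _
  set I : Ideal (X'.presheaf.stalk x') :=
    (RingHom.ker (Cyc.specMap (p x') ξ h)).map (p.stalkMap x').hom with hIdef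
  -- `I` is a proper ideal
  have hIle : I ≤ maximalIdeal (X'.presheaf.stalk x') := by
    rw [hIdef, Ideal.map_le_iff_le_comap]
    intro b hb
    rw [Ideal.mem_comap]
    have hb' : b ∈ maximalIdeal (X.presheaf.stalk (p x')) :=
      IsLocalRing.le_maximalIdeal (Ideal.IsPrime.ne_top inferInstance) hb
    rw [IsLocalRing.mem_maximalIdeal, mem_nonunits_iff] at hb' ⊢
    intro hu
    exact hb' (isUnit_of_map_unit (p.stalkMap x').hom b hu)
  haveI : Nontrivial (X'.presheaf.stalk x' ⧸ I) := by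
    rw [Ideal.Quotient.nontrivial_iff]
    intro htop
    have : (1 : X'.presheaf.stalk x') ∈ maximalIdeal (X'.presheaf.stalk x') :=
      hIle (htop ▸ Submodule.mem_top)
    exact (IsLocalRing.mem_maximalIdeal _).1 this isUnit_one
  haveI : IsLocalRing (X'.presheaf.stalk x' ⧸ I) :=
    IsLocalRing.of_surjective' (Ideal.Quotient.mk I) Ideal.Quotient.mk_surjective
  -- dimension
  have hδle : ∀ q : PrimeSpectrum (X'.presheaf.stalk x'), I ≤ q.asIdeal →
      ξ ⤳ p (X'.fromSpecStalk x' q) := by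
    intro q hq
    rw [← fromSpecStalk_comap]
    apply specializes_fromSpecStalk (p x') ξ h
    rw [genPrime_asIdeal]
    exact Ideal.map_le_iff_le_comap.1 hq
  have hdim1 : ∀ q : PrimeSpectrum (X'.presheaf.stalk x'), I ≤ q.asIdeal →
      δ' (X'.fromSpecStalk x' q) ≤ δ' x' + 1 := by
    intro q hq
    have h1 := delta_le p δ δ' hX'.2.2 c hc (X'.fromSpecStalk x' q)
    have h2 := delta_le_of_specializes hX.2.2 (hδle q hq)
    omega
  haveI : Ring.KrullDimLE 1 (X'.presheaf.stalk x' ⧸ I) := krullDimLE_one_quot hX'.2.2 x' I hdim1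
  have ha' : a ∉ RingHom.ker (Cyc.specMap (p x') ξ h) := fun h0 => ha (RingHom.mem_ker.1 h0)
  have hnzd : Ideal.Quotient.mk I ((p.stalkMap x').hom a) ∈
      nonZeroDivisors (X'.presheaf.stalk x' ⧸ I) :=
    mk_map_mem_nonZeroDivisors (p.stalkMap x').hom (Flat.stalkMap p x') _ a ha'
  have hfin := finite_ne_closedPoint (X'.presheaf.stalk x' ⧸ I)
  haveI : Finite ↥{Q : PrimeSpectrum (X'.presheaf.stalk x' ⧸ I) | Q ≠ closedPoint _} :=
    hfin.to_subtype
  -- kernel
  have hker : ∀ Q : PrimeSpectrum (X'.presheaf.stalk x' ⧸ I),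
      I ≤ (PrimeSpectrum.comap (Ideal.Quotient.mk I) Q).asIdeal := by
    intro Q b hb
    change b ∈ Q.asIdeal.comap (Ideal.Quotient.mk I)
    rw [Ideal.mem_comap, Ideal.Quotient.eq_zero_iff_mem.2 hb]
    exact Q.asIdeal.zero_mem
  -- facts about the point attached to a non-closed prime
  have hΨ : ∀ Q : PrimeSpectrum (X'.presheaf.stalk x' ⧸ I), Q ≠ closedPoint _ →
      δ' x' + 1 = δ' (X'.fromSpecStalk x' (PrimeSpectrum.comap (Ideal.Quotient.mk I) Q)) ∧
      p (X'.fromSpecStalk x' (PrimeSpectrum.comap (Ideal.Quotient.mk I) Q)) = ξ ∧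
      (∀ y, p y = p (X'.fromSpecStalk x' (PrimeSpectrum.comap (Ideal.Quotient.mk I) Q)) →
        y ⤳ X'.fromSpecStalk x' (PrimeSpectrum.comap (Ideal.Quotient.mk I) Q) →
        y = X'.fromSpecStalk x' (PrimeSpectrum.comap (Ideal.Quotient.mk I) Q)) := by
    intro Q hQ
    set q := PrimeSpectrum.comap (Ideal.Quotient.mk I) Q with hq
    have hsp : X'.fromSpecStalk x' q ⤳ x' := fromSpecStalk_specializes x' q
    have hne : X'.fromSpecStalk x' q ≠ x' := by
      intro e
      exact hQ (eq_closedPoint_of_comap I Q ((fromSpecStalk_eq_iff x' q).1 e))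
    have h1 := (hX'.2.2 _ x' hsp hne).1
    have h2 := delta_le p δ δ' hX'.2.2 c hc (X'.fromSpecStalk x' q)
    have h3 := delta_le_of_specializes hX.2.2 (hδle q (hker Q))
    have h4 : p (X'.fromSpecStalk x' q) = ξ :=
      eq_of_delta_le hX.2.2 (hδle q (hker Q)) (by omega)
    refine ⟨by omega, h4, ?_⟩
    apply (delta_eq_iff p δ δ' hX'.2.2 c hc (X'.fromSpecStalk x' q)).1
    rw [h4]
    omega
  let Ψ : ↥{Q : PrimeSpectrum (X'.presheaf.stalk x' ⧸ I) | Q ≠ closedPoint _} → FibGen p ξ :=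
    fun Q => ⟨X'.fromSpecStalk x' (PrimeSpectrum.comap (Ideal.Quotient.mk I) Q.1),
      (hΨ Q.1 Q.2).2⟩
  have hΨinj : Function.Injective Ψ := by
    intro Q₁ Q₂ hQ
    have h' : (Ψ Q₁).1 = (Ψ Q₂).1 := by rw [hQ]
    have h'' := (X'.fromSpecStalk x').isEmbedding.injective h'
    exact Subtype.ext (PrimeSpectrum.comap_injective_of_surjective _
      Ideal.Quotient.mk_surjective h'')
  have hsupp : Function.support (E p x' ((p.stalkMap x').hom a) ξ) ⊆ Set.range Ψ := by
    intro ξ' hξ'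
    by_cases h' : ξ'.1 ⤳ x'
    · have hne : ξ'.1 ≠ x' := by
        intro e
        have := delta_fibGen p δ δ' c hc ξ ξ'
        rw [e] at this
        omega
      have hIq : I ≤ (genPrime x' ξ'.1 h').asIdeal :=
        map_ker_le_genPrime p x' ξ'.1 h' ξ h ξ'.2.1
      have hprime : ((genPrime x' ξ'.1 h').asIdeal.map (Ideal.Quotient.mk I)).IsPrime :=
        Ideal.map_isPrime_of_surjective Ideal.Quotient.mk_surjective
          (by rw [Ideal.mk_ker]; exact hIq)
      set Q : PrimeSpectrum (X'.presheaf.stalk x' ⧸ I) :=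
        ⟨(genPrime x' ξ'.1 h').asIdeal.map (Ideal.Quotient.mk I), hprime⟩ with hQdef
      have hcomap : PrimeSpectrum.comap (Ideal.Quotient.mk I) Q = genPrime x' ξ'.1 h' := by
        apply PrimeSpectrum.ext
        change ((genPrime x' ξ'.1 h').asIdeal.map (Ideal.Quotient.mk I)).comap
          (Ideal.Quotient.mk I) = _
        rw [Ideal.comap_map_of_surjective _ Ideal.Quotient.mk_surjective,
          ← RingHom.ker_eq_comap_bot, Ideal.mk_ker, sup_eq_left.2 hIq]
      have hQne : Q ≠ closedPoint _ := by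
        intro e
        apply hne
        rw [← fromSpecStalk_genPrime x' ξ'.1 h', ← hcomap, e, comap_closedPoint_quot,
          Scheme.fromSpecStalk_closedPoint]
      refine ⟨⟨Q, hQne⟩, Subtype.ext ?_⟩
      change X'.fromSpecStalk x' (PrimeSpectrum.comap (Ideal.Quotient.mk I) Q) = ξ'.1
      rw [hcomap, fromSpecStalk_genPrime]
    · exfalso
      apply hξ'
      simp only [E]
      rw [dif_neg h', mul_zero]
  refine ⟨(Set.finite_range Ψ).subset hsupp, ?_⟩
  have e1 : ∑ᶠ ξ', E p x' ((p.stalkMap x').hom a) ξ ξ' =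
      ∑ᶠ Q, E p x' ((p.stalkMap x').hom a) ξ (Ψ Q) := by
    rw [← finsum_mem_range hΨinj, finsum_mem_def, Set.indicator_eq_self.2 hsupp]
  rw [e1]
  change _ = ((Module.length (X'.presheaf.stalk x' ⧸ I)
    ((X'.presheaf.stalk x' ⧸ I) ⧸ Ideal.span {Ideal.Quotient.mk I ((p.stalkMap x').hom a)})).toNat : ℤ)
  rw [toNat_length_quot_eq_finsum _ _ hnzd, ← finsum_set_coe_eq_finsum_mem]
  apply finsum_congr
  rintro ⟨Q, hQ⟩
  obtain ⟨hd, hpz, hmax⟩ := hΨ Q hQ
  have hsp : X'.fromSpecStalk x' (PrimeSpectrum.comap (Ideal.Quotient.mk I) Q) ⤳ x' :=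
    fromSpecStalk_specializes x' _
  have hgp : genPrime x' _ hsp = PrimeSpectrum.comap (Ideal.Quotient.mk I) Q :=
    genPrime_fromSpecStalk x' _ hsp
  haveI : Ring.KrullDimLE 1 (Cyc.LocQuot x' _ hsp) :=
    krullDimLE_one_locQuot hX'.2.2 x' _ hsp hd
  have hIq : I ≤ (genPrime x' _ hsp).asIdeal := by rw [hgp]; exact hker Q
  have hQeq : Q.asIdeal = (genPrime x' _ hsp).asIdeal.map (Ideal.Quotient.mk I) := by
    rw [hgp]
    exact (Ideal.map_comap_of_surjective _ Ideal.Quotient.mk_surjective Q.asIdeal).symm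
  obtain ⟨hv1, hv2⟩ := value_eq x' _ hsp I hIq Q.asIdeal hQeq _
    (map_map_ker_eq p x' _ hsp ξ h hpz) ((p.stalkMap x').hom a)
  simp only [E, Ψ, mult]
  rw [dif_pos hsp, ordAt_specMap_eq' x' _ hsp _
    (specMap_stalkMap_ne_zero p x' _ hsp ξ h hpz a ha), ← hv1, ← hv2]


include hX hX' hc in
/-- flat pullback of the principal divisor of `g ∈ κ(ξ)`. -/
theorem pullFun_divFun_gen [Flat p] (ξ : X) (g : X.residueField ξ) (hg : g ≠ 0) (x' : X') :
    Cyc.pullFun p δ' δ c (Cyc.divFun δ ξ g) x' =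
      ∑ᶠ ξ' : FibGen p ξ, mult p ξ'.1 *
        Cyc.divFun δ' ξ'.1
          ((p.residueFieldMap ξ'.1).hom ((X.residueFieldCongr ξ'.2.1.symm).hom g)) x' := by
  classical
  haveI : IsLocallyNoetherian X := hX.1
  haveI : IsLocallyNoetherian X' := hX'.1
  have hle := delta_le p δ δ' hX'.2.2 c hc x'
  change (if δ' x' = δ (p x') + c then
      Cyc.divFun δ ξ g (p x') *
        ((Module.length (X'.presheaf.stalk x')
          (X'.presheaf.stalk x' ⧸ Ideal.map (p.stalkMap x').hom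
            (IsLocalRing.maximalIdeal (X.presheaf.stalk (p x'))))).toNat : ℤ) else 0) = _
  by_cases h1 : δ' x' + 1 = δ ξ + c
  swap
  · rw [finsum_eq_zero_of_forall_eq_zero]
    · by_cases h2 : δ' x' = δ (p x') + c
      · rw [if_pos h2, divFun_neg _ _ _ _ (by omega), zero_mul]
      · rw [if_neg h2]
    · intro ξ'
      rw [divFun_neg _ _ _ _ (by rw [delta_fibGen p δ δ' c hc ξ ξ']; exact h1), mul_zero]
  by_cases h : ξ ⤳ p x'
  swap
  · rw [finsum_eq_zero_of_forall_eq_zero]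
    · rw [divFun_not_specializes _ _ _ _ h, zero_mul, ite_self]
    · intro ξ'
      rw [divFun_not_specializes _ _ _ _ (fun h' => h (by
        rw [← ξ'.2.1]; exact p.base.hom.map_specializes h')), mul_zero]
  obtain ⟨a, b, hb, hgab⟩ := exists_eq_div_specMap (p x') ξ h g
  have ha : Cyc.specMap (p x') ξ h a ≠ 0 := by
    intro h0
    apply hg
    rw [hgab, h0, zero_div]
  have hspec : ∀ (ξ' : FibGen p ξ) (h' : ξ'.1 ⤳ x') (d : X.presheaf.stalk (p x')),
      (p.residueFieldMap ξ'.1).hom ((X.residueFieldCongr ξ'.2.1.symm).hom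
        (Cyc.specMap (p x') ξ h d)) =
      Cyc.specMap x' ξ'.1 h' ((p.stalkMap x').hom d) := by
    intro ξ' h' d
    rw [residueFieldCongr_specMap (p x') _ _ ξ'.2.1.symm h (p.base.hom.map_specializes h') d]
    exact specMap_stalkMap p x' ξ'.1 h' d
  have hterm : ∀ ξ' : FibGen p ξ,
      mult p ξ'.1 * Cyc.divFun δ' ξ'.1
        ((p.residueFieldMap ξ'.1).hom ((X.residueFieldCongr ξ'.2.1.symm).hom g)) x' =
      E p x' ((p.stalkMap x').hom a) ξ ξ' - E p x' ((p.stalkMap x').hom b) ξ ξ' := by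
    intro ξ'
    simp only [E]
    by_cases h' : ξ'.1 ⤳ x'
    · rw [dif_pos h', dif_pos h',
        divFun_pos δ' ξ'.1 x' _ h' (by rw [delta_fibGen p δ δ' c hc ξ ξ']; exact h1), ← mul_sub]
      congr 1
      rw [hgab, map_div₀, map_div₀, hspec ξ' h' a, hspec ξ' h' b,
        ordAt_div _ _ _ _ _ (specMap_stalkMap_ne_zero p x' ξ'.1 h' ξ h ξ'.2.1 a ha)
          (specMap_stalkMap_ne_zero p x' ξ'.1 h' ξ h ξ'.2.1 b hb)]
    · rw [dif_neg h', dif_neg h', divFun_not_specializes _ _ _ _ h']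
      simp
  rw [finsum_congr hterm]
  by_cases h3 : δ (p x') = δ ξ
  · have hxξ : p x' = ξ := eq_of_delta_le hX.2.2 h h3.ge
    rw [if_neg (by omega)]
    have hcl : genPrime (p x') ξ h = closedPoint _ := by
      apply (fromSpecStalk_eq_iff (p x') _).1
      rw [fromSpecStalk_genPrime]
      exact hxξ.symm
    have hunit : ∀ d : X.presheaf.stalk (p x'), Cyc.specMap (p x') ξ h d ≠ 0 → IsUnit d := by
      intro d hd0
      by_contra hnu
      apply hd0
      have : d ∈ (genPrime (p x') ξ h).asIdeal := by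
        rw [hcl]
        exact (IsLocalRing.mem_maximalIdeal d).2 hnu
      exact RingHom.mem_ker.1 this
    have hE0 : ∀ d : X.presheaf.stalk (p x'), IsUnit d → ∀ ξ' : FibGen p ξ,
        E p x' ((p.stalkMap x').hom d) ξ ξ' = 0 := by
      intro d hd ξ'
      simp only [E]
      by_cases h' : ξ'.1 ⤳ x'
      · rw [dif_pos h', ordAt_specMap_unit x' ξ'.1 h' _ (hd.map _), mul_zero]
      · rw [dif_neg h', mul_zero]
    symm
    apply finsum_eq_zero_of_forall_eq_zero
    intro ξ'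
    rw [hE0 a (hunit a ha), hE0 b (hunit b hb), sub_zero]
  · have h4 := delta_le_of_specializes hX.2.2 h
    have hx2 : δ (p x') + 1 = δ ξ := by omega
    have hx1 : δ' x' = δ (p x') + c := by omega
    obtain ⟨hfa, hsa⟩ := finsum_E p δ δ' hX hX' c hc x' ξ h hx1 hx2 a ha
    obtain ⟨hfb, hsb⟩ := finsum_E p δ δ' hX hX' c hc x' ξ h hx1 hx2 b hb
    rw [finsum_sub_distrib hfa hfb, hsa, hsb, if_pos hx1, divFun_pos δ ξ (p x') g h hx2]
    haveI : Ring.KrullDimLE 1 (Cyc.LocQuot (p x') ξ h) :=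
      krullDimLE_one_locQuot hX.2.2 (p x') ξ h hx2
    rw [hgab, ordAt_div _ _ _ _ _ ha hb, ordAt_specMap_eq' (p x') ξ h a ha,
      ordAt_specMap_eq' (p x') ξ h b hb,
      ord_quot_map (p.stalkMap x').hom (Flat.stalkMap p x') _ a,
      ord_quot_map (p.stalkMap x').hom (Flat.stalkMap p x') _ b, ENat.toNat_mul, ENat.toNat_mul]
    push_cast
    ring

end main

end Groth.Agent.Lib.Seat32.PullDivGen
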