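import Mathlib
import Groth.Prelude.Def_Cyc
import Groth.Agent.Lib.Seat32PullDivGen

/-!
# Finite charts for proper morphisms with finite fibres (helper32, for S1906)

* `finite_of_specializes_eq`: a quasi-sober Noetherian space without nontrivial specializations is finite.
* `finite_preimage_singleton_of_delta`: a fibre all of whose points have the same `δ` is finite.
* `isFinite_morphismRestrict_of_le`, `exists_affine_finite`: a proper morphism is finite over an affine
  neighbourhood of a point with finite fibre.
-/

set_option autoImplicit false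
set_option linter.style.haveILetI false
set_option linter.unusedSectionVars false
universe u
open AlgebraicGeometry CategoryTheory CategoryTheory.Limits TopologicalSpace Opposite IsLocalRing

namespace Groth.Agent.Lib.Seat32.NormGeom

/-- a quasi-sober Noetherian space without nontrivial specializations is finite. -/
theorem finite_of_specializes_eq {α : Type*} [TopologicalSpace α] [QuasiSober α] [NoetherianSpace α]
    (h : ∀ a b : α, a ⤳ b → a = b) : Finite α := by
  have hfin := NoetherianSpace.finite_irreducibleComponents (α := α)
  have hsub : ∀ Z ∈ irreducibleComponents α, Z.Subsingleton := by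
    intro Z hZ
    obtain ⟨g, hg⟩ := QuasiSober.sober hZ.1 (isClosed_of_mem_irreducibleComponents Z hZ)
    intro a ha b hb
    have ha' : g ⤳ a := hg.specializes ha
    have hb' : g ⤳ b := hg.specializes hb
    rw [← h g a ha', ← h g b hb']
  rw [← Set.finite_univ_iff, ← sUnion_irreducibleComponents]
  exact Set.Finite.sUnion hfin (fun Z hZ => (hsub Z hZ).finite)

variable {X Y : Scheme.{u}}

/-- a fibre of a quasi-compact morphism locally of finite type all of whose points have the same
`δ` is finite. -/
theorem finite_preimage_singleton_of_delta (p : X ⟶ Y) [QuasiCompact p] [LocallyOfFiniteType p]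
    {δX : X → ℤ} (hδX : Cyc.IsDimFun X δX) (y : Y) (c : ℤ) (h : ∀ x, p x = y → δX x = c) :
    (p ⁻¹' {y}).Finite := by
  haveI : IsLocallyNoetherian (p.fiber y) :=
    inferInstanceAs (IsLocallyNoetherian (pullback p (Y.fromSpecResidueField y)))
  haveI : IsNoetherian (p.fiber y) := ⟨⟩
  haveI : Finite (p.fiber y) := by
    apply finite_of_specializes_eq
    intro a b hab
    have h1 : p.fiberι y a ⤳ p.fiberι y b := hab.map (p.fiberι y).continuous
    have ha : p (p.fiberι y a) = y := by
      have := (p.fiberHomeo y a).2
      simpa using this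
    have hb : p (p.fiberι y b) = y := by
      have := (p.fiberHomeo y b).2
      simpa using this
    have h2 := Groth.Agent.Lib.Seat32.PullDivGen.eq_of_delta_le hδX h1
      (by rw [h _ ha, h _ hb])
    exact (p.fiberι y).isEmbedding.injective h2.symm
  exact (p.fiberHomeo y).finite_iff.mp ‹_›

set_option backward.isDefEq.respectTransparency.types false in
/-- `IsFinite` restricts to smaller opens. -/
theorem isFinite_morphismRestrict_of_le (p : X ⟶ Y) {V W : Y.Opens} (hWV : W ≤ V)
    [IsFinite (p ∣_ V)] : IsFinite (p ∣_ W) := by
  have h1 : IsFinite ((p ∣_ V) ∣_ (V.ι ⁻¹ᵁ W)) := inferInstance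
  rw [MorphismProperty.arrow_mk_iso_iff (P := @IsFinite) (morphismRestrictRestrict p V _)] at h1
  have e : V.ι ''ᵁ (V.ι ⁻¹ᵁ W) = W := by
    rw [Scheme.Hom.image_preimage_eq_opensRange_inf, Scheme.Opens.opensRange_ι]
    exact inf_eq_right.2 hWV
  rwa [MorphismProperty.arrow_mk_iso_iff (P := @IsFinite) (morphismRestrictEq p e)] at h1

/-- a proper morphism is finite over an affine neighbourhood of a point with finite fibre. -/
theorem exists_affine_finite (p : X ⟶ Y) [IsProper p] (y : Y) (hfin : (p ⁻¹' {y}).Finite) :
    ∃ W : Y.Opens, IsAffineOpen W ∧ y ∈ W ∧ IsFinite (p ∣_ W) := by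
  obtain ⟨V, hyV, hV⟩ := exists_isFinite_morphismRestrict_of_finite_preimage_singleton p y hfin
  obtain ⟨W, hW, hyW, hle⟩ := exists_isAffineOpen_mem_and_subset (X := Y) (U := V) (x := y) hyV
  exact ⟨W, hW, hyW, isFinite_morphismRestrict_of_le p hle⟩

end Groth.Agent.Lib.Seat32.NormGeom
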