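import Mathlib
import Groth.Prelude.Def_Cyc
import Groth.Agent.S14503
import Groth.Agent.S6320
import Groth.Agent.Lib.Seat32FibreDeg

/-!
# Order of a norm as a sum over the primes above (helper32, for S1906)

* `length_localizedModule_quot`, `finite_maximalSpectrum`, `comap_maximal`, `finrank_quot_eq_inertiaDeg`.
* `ordFrac_norm_eq_finsum`: for `B` a Noetherian local domain of dimension one and `A` a domain finite over
  `B`: `ord_B(Nm a) = Σ_{n maximal in A} f(n|𝔪_B) · length(A_n/(a))` (from S14503 and S6320).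
* `Aloc`, `primesOverToMax(_bijective)`, `inertiaDeg_map`, `length_map`: passage from a prime `𝔮` of a domain
  `B₀` and the primes of `A₀` over `𝔮` to the semilocal ring `A₀ ⊗ (B₀)_𝔮`.
* `ordFrac_norm_eq_finsum_primesOver`: the global version, for any model `B` of the localization `(B₀)_𝔮`:
  `ord_B(Nm a) = Σ_{P | 𝔮} f(P|𝔮) · length((A₀)_P/(a))`.
-/

set_option autoImplicit false
set_option linter.style.haveILetI false
set_option linter.unusedSectionVars false
universe u
open IsLocalRing

namespace Groth.Agent.Lib.Seat32.NormOrd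

open Groth.Agent.Lib.Seat32.FibreDeg Groth.Agent.Lib.Seat32.LenPow

section locquot

variable {R : Type u} [CommRing R]

/-- the localization of a cyclic module `R/I` at a prime `n`, as a length. -/
theorem length_localizedModule_quot (n : Ideal R) [n.IsPrime] (I : Ideal R) :
    Module.length (Localization.AtPrime n) (LocalizedModule n.primeCompl (R ⧸ I)) =
      Module.length (Localization.AtPrime n)
        (Localization.AtPrime n ⧸ I.map (algebraMap R (Localization.AtPrime n))) := by
  -- `R ⧸ I → R_n ⧸ I R_n` is a localization of modules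
  let f : R →ₗ[R] Localization.AtPrime n := Algebra.linearMap R (Localization.AtPrime n)
  haveI : IsLocalizedModule n.primeCompl f := inferInstance
  have hloc : Submodule.localized' (Localization.AtPrime n) n.primeCompl f I =
      I.map (algebraMap R (Localization.AtPrime n)) :=
    Ideal.localized'_eq_map (Localization.AtPrime n) n.primeCompl I
  let g := I.toLocalizedQuotient' (Localization.AtPrime n) n.primeCompl f
  haveI : IsLocalizedModule n.primeCompl g := inferInstance
  let e := IsLocalizedModule.linearEquiv n.primeCompl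
    (LocalizedModule.mkLinearMap n.primeCompl (R ⧸ I)) g
  let e' := LinearEquiv.extendScalarsOfIsLocalization n.primeCompl (Localization.AtPrime n) e
  rw [e'.length_eq]
  exact (Submodule.quotEquivOfEq _ _ hloc).length_eq

end locquot

section semilocal

variable (B : Type u) [CommRing B] [IsDomain B] [IsNoetherianRing B] [IsLocalRing B]
  (A : Type u) [CommRing A] [IsDomain A] [Algebra B A] [Module.Finite B A]

include B in
theorem finite_maximalSpectrum : Finite (MaximalSpectrum A) := by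
  have h1 := Algebra.QuasiFinite.finite_primesOver (S := A) (maximalIdeal B)
  have hinj : Function.Injective (fun n : MaximalSpectrum A =>
      (⟨n.asIdeal, ⟨n.isMaximal.isPrime, ⟨by
        have h2 : (n.asIdeal.comap (algebraMap B A)).IsMaximal :=
          Ideal.isMaximal_comap_of_isIntegral_of_isMaximal n.asIdeal
        exact (IsLocalRing.eq_maximalIdeal h2).symm⟩⟩⟩ : (maximalIdeal B).primesOver A)) := by
    intro n n' h
    have := congrArg Subtype.val h
    exact MaximalSpectrum.ext this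
  haveI := h1.to_subtype
  exact Finite.of_injective _ hinj

theorem comap_maximal (n : MaximalSpectrum A) :
    n.asIdeal.comap (algebraMap B A) = maximalIdeal B := by
  have h2 : (n.asIdeal.comap (algebraMap B A)).IsMaximal :=
    Ideal.isMaximal_comap_of_isIntegral_of_isMaximal n.asIdeal
  exact IsLocalRing.eq_maximalIdeal h2

theorem finrank_quot_eq_inertiaDeg (n : MaximalSpectrum A) :
    Module.finrank (B ⧸ n.asIdeal.comap (algebraMap B A)) (A ⧸ n.asIdeal) =
      n.asIdeal.inertiaDeg B := by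
  haveI := n.isMaximal
  haveI : (n.asIdeal.under B).IsMaximal := by
    change (n.asIdeal.comap (algebraMap B A)).IsMaximal
    rw [comap_maximal]; infer_instance
  exact (Ideal.inertiaDeg_eq_of_isMaximal (n.asIdeal.under B) n.asIdeal).symm

theorem ordFrac_norm_eq_finsum (hB : ringKrullDim B = 1)
    (hinj : Function.Injective (algebraMap B A))
    (K L : Type u) [Field K] [Field L] [Algebra B K] [IsFractionRing B K] [Algebra A L]
    [IsFractionRing A L] [Algebra K L] [Algebra B L] [IsScalarTower B A L] [IsScalarTower B K L]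
    [FiniteDimensional K L] (a : A) (ha : a ≠ 0) :
    CycAlg.ordFrac B K (Algebra.norm K (algebraMap A L a)) =
      ∑ᶠ n : MaximalSpectrum A, ((n.asIdeal.inertiaDeg B : ℕ) : ℤ) *
        ((Module.length (Localization.AtPrime n.asIdeal) (Localization.AtPrime n.asIdeal ⧸
          Ideal.span {algebraMap A (Localization.AtPrime n.asIdeal) a})).toNat : ℤ) := by
  classical
  obtain ⟨hlt, heq⟩ := Groth.Agent.S14503.result B hB A hinj K L a ha
  haveI := finite_maximalSpectrum B A
  haveI := Fintype.ofFinite (MaximalSpectrum A)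
  have hM : IsFiniteLength A (A ⧸ Ideal.span {a}) := by
    have h1 : IsFiniteLength B (A ⧸ Ideal.span {a}) := Module.length_ne_top_iff.mp hlt.ne
    rw [isFiniteLength_iff_isNoetherian_isArtinian] at h1 ⊢
    exact h1.imp (isNoetherian_of_tower B) (isArtinian_of_tower B)
  have hfin : ∀ n : MaximalSpectrum A,
      Module.Finite (B ⧸ n.asIdeal.comap (algebraMap B A)) (A ⧸ n.asIdeal) := fun n =>
    Module.Finite.of_restrictScalars_finite B _ _
  have key := Groth.Agent.S6320.result (A := B) (B := A) (comap_maximal B A) hfin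
    (A ⧸ Ideal.span {a}) hM
  rw [← heq, key, finsum_eq_sum_of_fintype, finsum_eq_sum_of_fintype]
  have hterm : ∀ n : MaximalSpectrum A,
      (Module.finrank (B ⧸ n.asIdeal.comap (algebraMap B A)) (A ⧸ n.asIdeal) : ℕ∞) *
        Module.length (Localization.AtPrime n.asIdeal)
          (LocalizedModule n.asIdeal.primeCompl (A ⧸ Ideal.span {a})) =
      ((n.asIdeal.inertiaDeg B * (Module.length (Localization.AtPrime n.asIdeal)
        (Localization.AtPrime n.asIdeal ⧸
          Ideal.span {algebraMap A (Localization.AtPrime n.asIdeal) a})).toNat : ℕ) : ℕ∞) := by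
    intro n
    haveI := n.isMaximal.isPrime
    have hne : Module.length (Localization.AtPrime n.asIdeal)
        (LocalizedModule n.asIdeal.primeCompl (A ⧸ Ideal.span {a})) ≠ ⊤ :=
      ne_top_of_le_ne_top (Module.length_ne_top_iff.mpr hM)
        (Groth.Agent.S6320.loc_length_le n.asIdeal _)
    rw [finrank_quot_eq_inertiaDeg, length_localizedModule_quot, Ideal.map_span,
      Set.image_singleton] at *
    push_cast
    rw [ENat.natCast_toNat]
    exact hne
  simp_rw [hterm]
  rw [← Nat.cast_sum, ENat.toNat_natCast]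
  push_cast
  rfl

end semilocal

section global

variable (B₀ : Type u) [CommRing B₀] [IsDomain B₀] (A₀ : Type u) [CommRing A₀]
  [IsDomain A₀] [Algebra B₀ A₀] (𝔮 : Ideal B₀) [𝔮.IsPrime]

/-- notation: the localization of `A₀` at the image of the complement of `𝔮`. -/
abbrev Aloc : Type u := Localization (Algebra.algebraMapSubmonoid A₀ 𝔮.primeCompl)

variable {B₀ A₀ 𝔮}

theorem disjoint_of_liesOver (P : Ideal A₀) [P.IsPrime] [P.LiesOver 𝔮] :
    Disjoint (Algebra.algebraMapSubmonoid A₀ 𝔮.primeCompl : Set A₀) (P : Set A₀) := by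
  rw [Set.disjoint_left]
  rintro _ ⟨b, hb, rfl⟩ hP
  apply hb
  rw [Ideal.over_def P 𝔮]
  exact hP

theorem isPrime_map (P : Ideal A₀) [P.IsPrime] [P.LiesOver 𝔮] :
    (P.map (algebraMap A₀ (Aloc B₀ A₀ 𝔮))).IsPrime :=
  IsLocalization.isPrime_of_isPrime_disjoint (Algebra.algebraMapSubmonoid A₀ 𝔮.primeCompl) _ P
    inferInstance (disjoint_of_liesOver P)

theorem comap_map (P : Ideal A₀) [P.IsPrime] [P.LiesOver 𝔮] :
    (P.map (algebraMap A₀ (Aloc B₀ A₀ 𝔮))).comap (algebraMap A₀ (Aloc B₀ A₀ 𝔮)) = P :=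
  IsLocalization.under_map_of_isPrime_disjoint (Algebra.algebraMapSubmonoid A₀ 𝔮.primeCompl) _
    inferInstance (disjoint_of_liesOver P)

variable (B : Type u) [CommRing B] [Algebra B₀ B] [IsLocalization.AtPrime B 𝔮]
  [Algebra B (Aloc B₀ A₀ 𝔮)] [IsScalarTower B₀ B (Aloc B₀ A₀ 𝔮)] [IsLocalRing B]

theorem liesOver_map (P : Ideal A₀) [P.IsPrime] [P.LiesOver 𝔮] :
    (P.map (algebraMap A₀ (Aloc B₀ A₀ 𝔮))).LiesOver (maximalIdeal B) :=
  IsLocalization.AtPrime.liesOver_map_of_liesOver 𝔮 B (Aloc B₀ A₀ 𝔮) P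

theorem finite_aloc [Module.Finite B₀ A₀] : Module.Finite B (Aloc B₀ A₀ 𝔮) :=
  Module.Finite.of_isLocalization B₀ A₀ 𝔮.primeCompl

include B in
theorem isMaximal_map [Module.Finite B₀ A₀] (P : Ideal A₀) [P.IsPrime] [P.LiesOver 𝔮] :
    (P.map (algebraMap A₀ (Aloc B₀ A₀ 𝔮))).IsMaximal := by
  haveI := isPrime_map (𝔮 := 𝔮) P
  haveI : Module.Finite B (Aloc B₀ A₀ 𝔮) := finite_aloc B
  haveI := liesOver_map (𝔮 := 𝔮) B P
  apply Ideal.isMaximal_of_isIntegral_of_isMaximal_comap (R := B)
  rw [← Ideal.under_def,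
    ← Ideal.over_def (P.map (algebraMap A₀ (Aloc B₀ A₀ 𝔮))) (maximalIdeal B)]
  infer_instance

/-- the bijection between the primes of `A₀` over `𝔮` and the maximal ideals of `A₀ ⊗ B`. -/
noncomputable def primesOverToMax [Module.Finite B₀ A₀] (P : 𝔮.primesOver A₀) :
    MaximalSpectrum (Aloc B₀ A₀ 𝔮) :=
  haveI := P.2.1
  haveI := P.2.2
  ⟨P.1.map (algebraMap A₀ (Aloc B₀ A₀ 𝔮)), isMaximal_map B P.1⟩

include B in
theorem primesOverToMax_bijective [Module.Finite B₀ A₀] :
    Function.Bijective (primesOverToMax (B₀ := B₀) (A₀ := A₀) (𝔮 := 𝔮) B) := by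
  constructor
  · intro P P' h
    haveI := P.2.1
    haveI := P.2.2
    haveI := P'.2.1
    haveI := P'.2.2
    have h1 : P.1.map (algebraMap A₀ (Aloc B₀ A₀ 𝔮)) = P'.1.map (algebraMap A₀ (Aloc B₀ A₀ 𝔮)) :=
      congrArg MaximalSpectrum.asIdeal h
    apply Subtype.ext
    rw [← comap_map (𝔮 := 𝔮) P.1, h1, comap_map]
  · intro n
    haveI := n.isMaximal
    haveI : Module.Finite B (Aloc B₀ A₀ 𝔮) := finite_aloc B
    haveI : n.asIdeal.LiesOver (maximalIdeal B) := by
      have h2 : (n.asIdeal.comap (algebraMap B (Aloc B₀ A₀ 𝔮))).IsMaximal :=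
        Ideal.isMaximal_comap_of_isIntegral_of_isMaximal n.asIdeal
      exact ⟨(IsLocalRing.eq_maximalIdeal h2).symm⟩
    haveI : (n.asIdeal.comap (algebraMap A₀ (Aloc B₀ A₀ 𝔮))).LiesOver 𝔮 :=
      IsLocalization.AtPrime.liesOver_comap_of_liesOver 𝔮 B n.asIdeal
    refine ⟨⟨n.asIdeal.comap (algebraMap A₀ (Aloc B₀ A₀ 𝔮)), ⟨inferInstance, inferInstance⟩⟩, ?_⟩
    apply MaximalSpectrum.ext
    exact IsLocalization.map_under (Algebra.algebraMapSubmonoid A₀ 𝔮.primeCompl) _ n.asIdeal

section terms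

variable [Module.Finite B₀ A₀] (P : Ideal A₀) [P.IsPrime] [P.LiesOver 𝔮]

theorem isLocalization_atPrime_map
    [(P.map (algebraMap A₀ (Aloc B₀ A₀ 𝔮))).IsPrime] :
    IsLocalization.AtPrime (Localization.AtPrime (P.map (algebraMap A₀ (Aloc B₀ A₀ 𝔮)))) P := by
  convert IsLocalization.isLocalization_isLocalization_atPrime_isLocalization
    (Algebra.algebraMapSubmonoid A₀ 𝔮.primeCompl)
    (Localization.AtPrime (P.map (algebraMap A₀ (Aloc B₀ A₀ 𝔮))))
    (P.map (algebraMap A₀ (Aloc B₀ A₀ 𝔮)))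
  exact (comap_map (𝔮 := 𝔮) P).symm

include B in
theorem inertiaDeg_map :
    (P.map (algebraMap A₀ (Aloc B₀ A₀ 𝔮))).inertiaDeg B = P.inertiaDeg B₀ := by
  haveI := isPrime_map (𝔮 := 𝔮) P
  haveI := liesOver_map (𝔮 := 𝔮) B P
  haveI := isLocalization_atPrime_map (𝔮 := 𝔮) P
  set n := P.map (algebraMap A₀ (Aloc B₀ A₀ 𝔮)) with hn
  let ψ : B →+* Localization.AtPrime n := algebraMap B (Localization.AtPrime n)
  haveI : IsLocalHom ψ := by
    constructor
    intro b hb
    have h1 : IsUnit (algebraMap (Aloc B₀ A₀ 𝔮) (Localization.AtPrime n)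
        (algebraMap B (Aloc B₀ A₀ 𝔮) b)) := by
      rwa [← IsScalarTower.algebraMap_apply]
    rw [IsLocalization.AtPrime.isUnit_to_map_iff (Localization.AtPrime n) n] at h1
    by_contra hb'
    have h2 : b ∈ maximalIdeal B := (IsLocalRing.mem_maximalIdeal b).2 hb'
    rw [Ideal.over_def n (maximalIdeal B)] at h2
    exact h1 h2
  haveI : IsLocalization.AtPrime B (maximalIdeal B) := by
    apply IsLocalization.of_le_isUnit
    intro x hx
    by_contra hx'
    exact hx ((IsLocalRing.mem_maximalIdeal x).2 hx')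
  have e1 := inertiaDeg_eq_of_isLocalization (R := B) (S := Aloc B₀ A₀ 𝔮) (A := B)
    (B := Localization.AtPrime n) (maximalIdeal B) n ψ (by
      ext b
      simp [ψ, IsScalarTower.algebraMap_apply B (Aloc B₀ A₀ 𝔮) (Localization.AtPrime n)])
  have e2 := inertiaDeg_eq_of_isLocalization (R := B₀) (S := A₀) (A := B)
    (B := Localization.AtPrime n) 𝔮 P ψ (by
      ext b
      simp only [ψ, RingHom.comp_apply]
      rw [IsScalarTower.algebraMap_apply B (Aloc B₀ A₀ 𝔮) (Localization.AtPrime n),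
        ← IsScalarTower.algebraMap_apply B₀ B (Aloc B₀ A₀ 𝔮),
        IsScalarTower.algebraMap_apply B₀ A₀ (Aloc B₀ A₀ 𝔮),
        ← IsScalarTower.algebraMap_apply A₀ (Aloc B₀ A₀ 𝔮) (Localization.AtPrime n)])
  rw [← e1, ← e2]

theorem length_map (a : A₀) [(P.map (algebraMap A₀ (Aloc B₀ A₀ 𝔮))).IsPrime] :
    Module.length (Localization.AtPrime (P.map (algebraMap A₀ (Aloc B₀ A₀ 𝔮))))
      (Localization.AtPrime (P.map (algebraMap A₀ (Aloc B₀ A₀ 𝔮))) ⧸
        Ideal.span {algebraMap (Aloc B₀ A₀ 𝔮)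
          (Localization.AtPrime (P.map (algebraMap A₀ (Aloc B₀ A₀ 𝔮))))
          (algebraMap A₀ (Aloc B₀ A₀ 𝔮) a)}) =
    Module.length (Localization.AtPrime P)
      (Localization.AtPrime P ⧸ Ideal.span {algebraMap A₀ (Localization.AtPrime P) a}) := by
  haveI := isLocalization_atPrime_map (𝔮 := 𝔮) P
  set n := P.map (algebraMap A₀ (Aloc B₀ A₀ 𝔮)) with hn
  let e : Localization.AtPrime P ≃ₐ[A₀] Localization.AtPrime n :=
    IsLocalization.algEquiv P.primeCompl _ _
  rw [length_quotient_eq_of_ringEquiv e.toRingEquiv, Ideal.map_span, Set.image_singleton]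
  have he : (e.toRingEquiv : Localization.AtPrime P →+* Localization.AtPrime n)
      (algebraMap A₀ (Localization.AtPrime P) a) =
      algebraMap (Aloc B₀ A₀ 𝔮) (Localization.AtPrime n) (algebraMap A₀ (Aloc B₀ A₀ 𝔮) a) := by
    change e (algebraMap A₀ (Localization.AtPrime P) a) = _
    rw [e.commutes, IsScalarTower.algebraMap_apply A₀ (Aloc B₀ A₀ 𝔮) (Localization.AtPrime n)]
  rw [he]

end terms

section main

variable [IsNoetherianRing B₀] [Module.Finite B₀ A₀]

theorem ordFrac_norm_eq_finsum_primesOver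
    (hinj : Function.Injective (algebraMap B₀ A₀)) (hB : ringKrullDim B = 1)
    (K L : Type u) [Field K] [Field L] [Algebra B₀ K] [IsFractionRing B₀ K] [Algebra A₀ L]
    [IsFractionRing A₀ L] [Algebra K L] [Algebra B₀ L] [IsScalarTower B₀ A₀ L]
    [IsScalarTower B₀ K L] [Algebra B K] [IsScalarTower B₀ B K] [FiniteDimensional K L]
    (a : A₀) (ha : a ≠ 0) :
    CycAlg.ordFrac B K (Algebra.norm K (algebraMap A₀ L a)) =
      ∑ᶠ P : 𝔮.primesOver A₀, ((P.1.inertiaDeg B₀ : ℕ) : ℤ) *
        ((Module.length (Localization.AtPrime P.1) (Localization.AtPrime P.1 ⧸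
          Ideal.span {algebraMap A₀ (Localization.AtPrime P.1) a})).toNat : ℤ) := by
  classical
  have hT : Algebra.algebraMapSubmonoid A₀ 𝔮.primeCompl ≤ nonZeroDivisors A₀ := by
    rintro _ ⟨b, hb, rfl⟩
    apply mem_nonZeroDivisors_of_ne_zero
    intro h0
    apply hb
    have : b = 0 := hinj (by rw [h0, map_zero])
    rw [this]; exact 𝔮.zero_mem
  haveI : IsDomain B :=
    IsLocalization.isDomain_of_le_nonZeroDivisors B (Ideal.primeCompl_le_nonZeroDivisors 𝔮)
  haveI : IsNoetherianRing B := IsLocalization.isNoetherianRing 𝔮.primeCompl B inferInstance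
  haveI : Module.Finite B (Aloc B₀ A₀ 𝔮) := finite_aloc B
  haveI : IsDomain (Aloc B₀ A₀ 𝔮) := IsLocalization.isDomain_localization hT
  have hunits : ∀ t : Algebra.algebraMapSubmonoid A₀ 𝔮.primeCompl,
      IsUnit (algebraMap A₀ L t) := by
    intro t
    apply IsUnit.mk0
    intro h0
    exact nonZeroDivisors.ne_zero (hT t.2)
      (IsFractionRing.injective A₀ L (by rw [h0, map_zero]))
  letI algAL : Algebra (Aloc B₀ A₀ 𝔮) L := (IsLocalization.lift hunits).toAlgebra
  haveI : IsScalarTower A₀ (Aloc B₀ A₀ 𝔮) L :=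
    IsScalarTower.of_algebraMap_eq (fun x => (IsLocalization.lift_eq hunits x).symm)
  haveI : IsFractionRing (Aloc B₀ A₀ 𝔮) L :=
    IsFractionRing.isFractionRing_of_isDomain_of_isLocalization
      (Algebra.algebraMapSubmonoid A₀ 𝔮.primeCompl) (Aloc B₀ A₀ 𝔮) L
  haveI : IsFractionRing B K :=
    IsFractionRing.isFractionRing_of_isDomain_of_isLocalization 𝔮.primeCompl B K
  letI algBL : Algebra B L := ((algebraMap K L).comp (algebraMap B K)).toAlgebra
  haveI : IsScalarTower B K L := IsScalarTower.of_algebraMap_eq (fun _ => rfl)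
  have htower : algebraMap B L = (algebraMap (Aloc B₀ A₀ 𝔮) L).comp
      (algebraMap B (Aloc B₀ A₀ 𝔮)) := by
    apply IsLocalization.ringHom_ext 𝔮.primeCompl
    ext b
    change algebraMap K L (algebraMap B K (algebraMap B₀ B b)) =
      algebraMap (Aloc B₀ A₀ 𝔮) L (algebraMap B (Aloc B₀ A₀ 𝔮) (algebraMap B₀ B b))
    rw [← IsScalarTower.algebraMap_apply B₀ B K, ← IsScalarTower.algebraMap_apply B₀ K L,
      ← IsScalarTower.algebraMap_apply B₀ B (Aloc B₀ A₀ 𝔮),
      IsScalarTower.algebraMap_apply B₀ A₀ (Aloc B₀ A₀ 𝔮),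
      ← IsScalarTower.algebraMap_apply A₀ (Aloc B₀ A₀ 𝔮) L,
      ← IsScalarTower.algebraMap_apply B₀ A₀ L]
  haveI : IsScalarTower B (Aloc B₀ A₀ 𝔮) L := IsScalarTower.of_algebraMap_eq' htower
  have hinj' : Function.Injective (algebraMap B (Aloc B₀ A₀ 𝔮)) := by
    have h1 : Function.Injective (algebraMap B L) :=
      (algebraMap K L).injective.comp (IsFractionRing.injective B K)
    rw [htower, RingHom.coe_comp] at h1
    exact Function.Injective.of_comp h1
  have ha' : algebraMap A₀ (Aloc B₀ A₀ 𝔮) a ≠ 0 := by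
    intro h0
    exact ha (IsLocalization.injective (Aloc B₀ A₀ 𝔮) hT (by rw [h0, map_zero]))
  have key := ordFrac_norm_eq_finsum B (Aloc B₀ A₀ 𝔮) hB hinj' K L
    (algebraMap A₀ (Aloc B₀ A₀ 𝔮) a) ha'
  rw [← IsScalarTower.algebraMap_apply A₀ (Aloc B₀ A₀ 𝔮) L] at key
  rw [key]
  symm
  apply finsum_eq_of_bijective (primesOverToMax B) (primesOverToMax_bijective B)
  intro P
  haveI := P.2.1
  haveI := P.2.2
  haveI := isPrime_map (𝔮 := 𝔮) P.1
  rw [← inertiaDeg_map (𝔮 := 𝔮) B P.1, ← length_map (𝔮 := 𝔮) P.1 a]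
  rfl

end main

end global

end Groth.Agent.Lib.Seat32.NormOrd
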