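import Mathlib
import Groth.Prelude.Def_Cyc
import Groth.Agent.Lib.Seat32PullDivGen
import Groth.Agent.Lib.Seat32CycFin
import Groth.Agent.Lib.Seat32FinFlatDeg
import Groth.Agent.Lib.Seat32NormOrd
import Groth.Agent.Lib.Seat28FlatDiv
import Groth.Agent.Lib.Seat32CycOpen

/-!
# Norms and orders on a finite chart (helper32, for S1906)

For `p : X ⟶ Y` a morphism of integral locally Noetherian schemes, finite over an affine open `W ∋ y`:
* `isFractionRing_ev`, `ev_injective`, `specMap_injective`, `ker_specMap_eq_bot`: evaluation at the generic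
  point makes `κ(η)` the fraction field of `Γ(X, U)` and of `O_{X,x}`.
* `ev_app`, `ev_eq_specMap`: compatibilities of the evaluation maps.
* `ordAt_eq_ordFrac_stalk`, `ringKrullDim_stalk_eq_one`, `ordAt_ev_eq_length`: translation of `Cyc.ordAt`
  at the generic point into `CycAlg.ordFrac` of the local ring / lengths over localizations of sections.
* `exists_fibre_bijection`: points of the fibre over `y` = primes of `Γ(X, p⁻¹W)` over the prime of `y`.
* `finsum_ordAt_ev`: `Σ_{x ↦ y} ord_x(a)·[κ(x):κ(y)] = ord_y(Nm a)` for a nonzero section `a`.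
-/

set_option autoImplicit false
set_option linter.style.haveILetI false
set_option linter.unusedSectionVars false
universe u
open AlgebraicGeometry CategoryTheory CategoryTheory.Limits TopologicalSpace Opposite IsLocalRing

namespace Groth.Agent.Lib.Seat32.NormGeom

open Groth.Agent.Lib.Seat32.CycFin Groth.Agent.Lib.Seat32.FinFlatDeg

variable {X Y : Scheme.{u}}

section integral

variable [IsIntegral X]

theorem residue_injective_genericPoint :
    Function.Injective (X.residue (genericPoint X)).hom := by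
  have h : IsField (X.presheaf.stalk (genericPoint X)) :=
    Field.toIsField X.functionField
  change Function.Injective (IsLocalRing.residue (X.presheaf.stalk (genericPoint X)))
  rw [RingHom.injective_iff_ker_eq_bot, IsLocalRing.ker_residue]
  exact IsLocalRing.isField_iff_maximalIdeal_eq.mp h

theorem ev_injective {U : X.Opens} (ξ : X) (hξ : ξ = genericPoint X) (hξU : ξ ∈ U) :
    Function.Injective (X.presheaf.germ U ξ hξU ≫ X.residue ξ).hom := by
  subst hξ
  have h1 := germ_injective_of_isIntegral X (genericPoint X) hξU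
  rw [CommRingCat.hom_comp, RingHom.coe_comp]
  exact residue_injective_genericPoint.comp h1

theorem isFractionRing_ev {U : X.Opens} (hU : IsAffineOpen U) (ξ : X) (hξ : ξ = genericPoint X)
    (hξU : ξ ∈ U) :
    letI := (X.presheaf.germ U ξ hξU ≫ X.residue ξ).hom.toAlgebra
    IsFractionRing Γ(X, U) (X.residueField ξ) := by
  letI := (X.presheaf.germ U ξ hξU ≫ X.residue ξ).hom.toAlgebra
  haveI : FaithfulSMul Γ(X, U) (X.residueField ξ) :=
    (faithfulSMul_iff_algebraMap_injective _ _).2 (ev_injective ξ hξ hξU)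
  apply IsFractionRing.of_field
  intro z
  obtain ⟨a, b, hb, rfl⟩ := exists_eq_div hU ξ hξU z
  exact ⟨a, b, rfl⟩

theorem specMap_injective (x ξ : X) (h : ξ ⤳ x) (hξ : ξ = genericPoint X) :
    Function.Injective (Cyc.specMap x ξ h) := by
  subst hξ
  unfold Cyc.specMap
  rw [CommRingCat.hom_comp, RingHom.coe_comp]
  refine residue_injective_genericPoint.comp ?_
  exact IsFractionRing.injective (X.presheaf.stalk x) X.functionField

theorem ker_specMap_eq_bot (x ξ : X) (h : ξ ⤳ x) (hξ : ξ = genericPoint X) :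
    RingHom.ker (Cyc.specMap x ξ h) = ⊥ :=
  (RingHom.injective_iff_ker_eq_bot _).1 (specMap_injective x ξ h hξ)

end integral

theorem ev_app (p : X ⟶ Y) (W : Y.Opens) (ξ : X) (hξ : ξ ∈ p ⁻¹ᵁ W) (b : Γ(Y, W)) :
    (X.presheaf.germ (p ⁻¹ᵁ W) ξ hξ ≫ X.residue ξ).hom ((p.app W).hom b) =
      (p.residueFieldMap ξ).hom ((Y.presheaf.germ W (p ξ) hξ ≫ Y.residue (p ξ)).hom b) := by
  have h1 := Scheme.Hom.germ_stalkMap p W ξ hξ
  have h2 := Scheme.residue_residueFieldMap p ξ
  have h3 : p.app W ≫ X.presheaf.germ (p ⁻¹ᵁ W) ξ hξ ≫ X.residue ξ =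
      (Y.presheaf.germ W (p ξ) hξ ≫ Y.residue (p ξ)) ≫ p.residueFieldMap ξ := by
    rw [← Category.assoc, ← h1, Category.assoc, Category.assoc, h2]
  exact congrArg (fun φ => φ.hom b) h3

theorem ev_eq_specMap {U : X.Opens} (x ξ : X) (h : ξ ⤳ x) (hxU : x ∈ U) (hξU : ξ ∈ U)
    (a : Γ(X, U)) :
    (X.presheaf.germ U ξ hξU ≫ X.residue ξ).hom a =
      Cyc.specMap x ξ h ((X.presheaf.germ U x hxU).hom a) := by
  unfold Cyc.specMap
  have h1 := TopCat.Presheaf.germ_stalkSpecializes X.presheaf hxU h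
  simp only [CommRingCat.hom_comp, RingHom.coe_comp, Function.comp_apply]
  rw [← h1]
  rfl

section L

open Groth.Agent.Lib.Seat32.GenPrime Groth.Agent.Lib.Seat32.FibreDeg

theorem quotMk_bijective [IsIntegral X] (x ξ : X) (h : ξ ⤳ x) (hξ : ξ = genericPoint X) :
    Function.Bijective (Ideal.Quotient.mk (RingHom.ker (Cyc.specMap x ξ h))) := by
  refine ⟨?_, Ideal.Quotient.mk_surjective⟩
  rw [RingHom.injective_iff_ker_eq_bot, Ideal.mk_ker]
  exact ker_specMap_eq_bot x ξ h hξ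

theorem ordAt_eq_ordFrac_stalk [IsIntegral Y] (y ξ : Y) (hξ : ξ = genericPoint Y) (h : ξ ⤳ y)
    (g : Y.residueField ξ) :
    letI := (Cyc.specMap y ξ h).toAlgebra
    Cyc.ordAt y ξ h g = CycAlg.ordFrac (Y.presheaf.stalk y) (Y.residueField ξ) g := by
  letI := (Cyc.specMap y ξ h).toAlgebra
  unfold Cyc.ordAt
  symm
  exact Groth.Agent.Lib.Seat32.CycOpen.ordFrac_congr
    (RingEquiv.ofBijective _ (quotMk_bijective y ξ h hξ)) (RingEquiv.refl _) (fun r => rfl) g

theorem ringKrullDim_stalk_eq_one [IsIntegral Y] {δ : Y → ℤ} (hδ : Cyc.IsDimFun Y δ) (y ξ : Y)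
    (hξ : ξ = genericPoint Y) (h : ξ ⤳ y) (hy : δ y + 1 = δ ξ) :
    ringKrullDim (Y.presheaf.stalk y) = 1 := by
  have hK := Groth.Agent.Lib.Seat32.PullDivGen.krullDimLE_one_locQuot hδ y ξ h hy
  rw [Ring.krullDimLE_iff,
    ← ringKrullDim_eq_of_ringEquiv (RingEquiv.ofBijective _ (quotMk_bijective y ξ h hξ))] at hK
  have hnf : ¬ IsField (Y.presheaf.stalk y) := by
    intro hF
    letI := hF.toField
    have h1 : genPrime y ξ h = closedPoint (Y.presheaf.stalk y) := Subsingleton.elim _ _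
    have h2 := fromSpecStalk_genPrime y ξ h
    rw [h1, Scheme.fromSpecStalk_closedPoint] at h2
    rw [h2] at hy
    omega
  have : ¬ ringKrullDim (Y.presheaf.stalk y) ≤ 0 := fun h0 ↦ by
    have : Ring.KrullDimLE 0 (Y.presheaf.stalk y) := Ring.krullDimLE_iff.mpr h0
    exact hnf Ring.KrullDimLE.isField_of_isDomain
  exact le_antisymm hK (Order.succ_le_of_lt (lt_of_not_ge this))

theorem ordAt_ev_eq_length [IsIntegral X] [IsLocallyNoetherian X] {U : X.Opens}
    (hU : IsAffineOpen U) (x ξ : X) (hξ : ξ = genericPoint X) (h : ξ ⤳ x) (hxU : x ∈ U)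
    (hξU : ξ ∈ U) (hK : Ring.KrullDimLE 1 (Cyc.LocQuot x ξ h)) (a : Γ(X, U)) (ha : a ≠ 0) :
    Cyc.ordAt x ξ h ((X.presheaf.germ U ξ hξU ≫ X.residue ξ).hom a) =
      ((Module.length (Localization.AtPrime (hU.primeIdealOf ⟨x, hxU⟩).asIdeal)
        (Localization.AtPrime (hU.primeIdealOf ⟨x, hxU⟩).asIdeal ⧸
          Ideal.span {algebraMap Γ(X, U)
            (Localization.AtPrime (hU.primeIdealOf ⟨x, hxU⟩).asIdeal) a})).toNat : ℤ) := by
  have hne : (X.presheaf.germ U ξ hξU ≫ X.residue ξ).hom a ≠ 0 := by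
    intro h0
    exact ha (ev_injective ξ hξ hξU (by rw [h0, map_zero]))
  rw [ev_eq_specMap x ξ h hxU hξU a] at hne ⊢
  rw [Groth.Agent.Lib.Seat28.FlatDiv.ordAt_specMap_eq_length x ξ h hK _ hne, genPrime_asIdeal,
    ker_specMap_eq_bot x ξ h hξ, bot_sup_eq]
  letI := X.presheaf.algebra_section_stalk (U := U) ⟨x, hxU⟩
  haveI := hU.isLocalization_stalk ⟨x, hxU⟩
  let e : Localization.AtPrime (hU.primeIdealOf ⟨x, hxU⟩).asIdeal ≃ₐ[Γ(X, U)] X.presheaf.stalk x :=
    IsLocalization.algEquiv (hU.primeIdealOf ⟨x, hxU⟩).asIdeal.primeCompl _ _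
  rw [length_quotient_eq_of_ringEquiv e.toRingEquiv, Ideal.map_span, Set.image_singleton]
  have he : (e.toRingEquiv : Localization.AtPrime (hU.primeIdealOf ⟨x, hxU⟩).asIdeal →+*
      X.presheaf.stalk x) (algebraMap Γ(X, U) _ a) = (X.presheaf.germ U x hxU).hom a := by
    change e (algebraMap Γ(X, U) _ a) = _
    rw [e.commutes]
    rfl
  rw [he]

end L

section fibre

variable (f : X ⟶ Y) {V : Y.Opens} (hV : IsAffineOpen V) (hU : IsAffineOpen (f ⁻¹ᵁ V))

include hV in
/-- the points of the fibre over `y ∈ V` are the primes of `Γ(X, f⁻¹V)` over the prime of `y`. -/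
theorem exists_fibre_bijection (y : Y) (hy : y ∈ V) :
    letI := (f.app V).hom.toAlgebra
    ∃ Ψ : ↥(f ⁻¹' {y}) → (hV.primeIdealOf ⟨y, hy⟩).asIdeal.primesOver Γ(X, f ⁻¹ᵁ V),
      Function.Bijective Ψ ∧ ∀ (x : ↥(f ⁻¹' {y})) (hx : x.1 ∈ f ⁻¹ᵁ V),
        (Ψ x).1 = (hU.primeIdealOf ⟨x.1, hx⟩).asIdeal := by
  letI := (f.app V).hom.toAlgebra
  set p := hV.primeIdealOf ⟨y, hy⟩ with hp
  have hmem : ∀ x, x ∈ f ⁻¹' {y} → x ∈ f ⁻¹ᵁ V := fun x hx => by
    change f x ∈ V; rw [show f x = y from hx]; exact hy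
  have hlo : ∀ (x : X) (hx : x ∈ f ⁻¹' {y}),
      (hU.primeIdealOf ⟨x, hmem x hx⟩).asIdeal.LiesOver p.asIdeal := by
    intro x hx
    have h := liesOver f hV hU x (hmem x hx)
    have e : hV.primeIdealOf ⟨f x, hmem x hx⟩ = p := by
      rw [hp]; congr 1; exact Subtype.ext hx
    rwa [e] at h
  let Ψ : ↥(f ⁻¹' {y}) → p.asIdeal.primesOver Γ(X, f ⁻¹ᵁ V) := fun x =>
    ⟨(hU.primeIdealOf ⟨x.1, hmem x.1 x.2⟩).asIdeal,
      ⟨(hU.primeIdealOf ⟨x.1, hmem x.1 x.2⟩).2, hlo x.1 x.2⟩⟩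
  refine ⟨Ψ, ⟨?_, ?_⟩, fun x hx => rfl⟩
  · intro x x' h
    have h1 : (hU.primeIdealOf ⟨x.1, hmem x.1 x.2⟩).asIdeal =
        (hU.primeIdealOf ⟨x'.1, hmem x'.1 x'.2⟩).asIdeal := congrArg Subtype.val h
    exact Subtype.ext (primeIdealOf_injective hU _ _ _ _ (PrimeSpectrum.ext h1))
  · intro q
    let q' : PrimeSpectrum Γ(X, f ⁻¹ᵁ V) := ⟨q.1, q.2.1⟩
    have hxU := fromSpec_mem hU q'
    have hq := primeIdealOf_fromSpec hU q' hxU
    have h := liesOver f hV hU (hU.fromSpec q') hxU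
    rw [hq] at h
    have hover : q.1.LiesOver p.asIdeal := q.2.2
    have e : (hV.primeIdealOf ⟨f (hU.fromSpec q'), hxU⟩).asIdeal = p.asIdeal := by
      rw [h.over, hover.over]
    have hfy : f (hU.fromSpec q') = y :=
      primeIdealOf_injective hV _ _ _ _ (PrimeSpectrum.ext e)
    refine ⟨⟨hU.fromSpec q', hfy⟩, ?_⟩
    apply Subtype.ext
    change (hU.primeIdealOf ⟨hU.fromSpec q', _⟩).asIdeal = q.1
    rw [hq]

end fibre

section main

open Groth.Agent.Lib.Seat32.NormOrd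

theorem term_congr {B₀ A₀ : Type u} [CommRing B₀] [CommRing A₀] [Algebra B₀ A₀] (Q P : Ideal A₀)
    [Q.IsPrime] [P.IsPrime] (h : Q = P) (a : A₀) :
    ((P.inertiaDeg B₀ : ℕ) : ℤ) * ((Module.length (Localization.AtPrime P)
      (Localization.AtPrime P ⧸ Ideal.span {algebraMap A₀ (Localization.AtPrime P) a})).toNat : ℤ) =
    ((Q.inertiaDeg B₀ : ℕ) : ℤ) * ((Module.length (Localization.AtPrime Q)
      (Localization.AtPrime Q ⧸ Ideal.span {algebraMap A₀ (Localization.AtPrime Q) a})).toNat : ℤ) := by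
  subst h
  rfl

variable [IsIntegral X] [IsIntegral Y] [IsLocallyNoetherian X] [IsLocallyNoetherian Y]
  (p : X ⟶ Y) {δX : X → ℤ} {δY : Y → ℤ} (hδX : Cyc.IsDimFun X δX) (hδY : Cyc.IsDimFun Y δY)
  {W : Y.Opens} (hW : IsAffineOpen W) (hU : IsAffineOpen (p ⁻¹ᵁ W))
  (hfin : (p.app W).hom.Finite)
  (hdom : p (genericPoint X) = genericPoint Y)
  (hres : (p.residueFieldMap (genericPoint X)).hom.Finite)

include hδX hδY hW hU hfin hdom hres in
theorem finsum_ordAt_ev (y : Y) (hyW : y ∈ W) (hηU : genericPoint X ∈ p ⁻¹ᵁ W)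
    (hsp : p (genericPoint X) ⤳ y) (hy : δY y + 1 = δY (p (genericPoint X)))
    (hfib : ∀ x, p x = y → δX x + 1 = δX (genericPoint X))
    (a : Γ(X, p ⁻¹ᵁ W)) (ha : a ≠ 0) :
    ∑ᶠ x : ↥(p ⁻¹' {y}), Cyc.ordAt x.1 (genericPoint X) (genericPoint_specializes x.1)
        ((X.presheaf.germ (p ⁻¹ᵁ W) (genericPoint X) hηU ≫ X.residue (genericPoint X)).hom a) *
          ((p.residueDegree x.1 : ℕ) : ℤ) =
      Cyc.ordAt y (p (genericPoint X)) hsp (Cyc.normGen p (genericPoint X)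
        ((X.presheaf.germ (p ⁻¹ᵁ W) (genericPoint X) hηU ≫
          X.residue (genericPoint X)).hom a)) := by
  classical
  have hηW : p (genericPoint X) ∈ W := hηU
  haveI : Nonempty (p ⁻¹ᵁ W) := ⟨⟨_, hηU⟩⟩
  haveI : Nonempty W := ⟨⟨_, hyW⟩⟩
  haveI : IsNoetherianRing Γ(Y, W) := IsLocallyNoetherian.component_noetherian ⟨W, hW⟩
  haveI : IsDomain Γ(Y, W) := IsIntegral.component_integral W
  haveI : IsDomain Γ(X, p ⁻¹ᵁ W) := IsIntegral.component_integral (p ⁻¹ᵁ W)
  letI algBA : Algebra Γ(Y, W) Γ(X, p ⁻¹ᵁ W) := (p.app W).hom.toAlgebra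
  haveI : Module.Finite Γ(Y, W) Γ(X, p ⁻¹ᵁ W) := hfin
  letI algAL : Algebra Γ(X, p ⁻¹ᵁ W) (X.residueField (genericPoint X)) :=
    (X.presheaf.germ (p ⁻¹ᵁ W) (genericPoint X) hηU ≫ X.residue (genericPoint X)).hom.toAlgebra
  letI algBK : Algebra Γ(Y, W) (Y.residueField (p (genericPoint X))) :=
    (Y.presheaf.germ W (p (genericPoint X)) hηW ≫ Y.residue (p (genericPoint X))).hom.toAlgebra
  letI algKL : Algebra (Y.residueField (p (genericPoint X))) (X.residueField (genericPoint X)) :=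
    (p.residueFieldMap (genericPoint X)).hom.toAlgebra
  letI algBL : Algebra Γ(Y, W) (X.residueField (genericPoint X)) :=
    ((algebraMap (Y.residueField (p (genericPoint X))) (X.residueField (genericPoint X))).comp
      (algebraMap Γ(Y, W) (Y.residueField (p (genericPoint X))))).toAlgebra
  haveI : IsScalarTower Γ(Y, W) (Y.residueField (p (genericPoint X)))
      (X.residueField (genericPoint X)) := IsScalarTower.of_algebraMap_eq (fun _ => rfl)
  haveI : IsScalarTower Γ(Y, W) Γ(X, p ⁻¹ᵁ W) (X.residueField (genericPoint X)) :=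
    IsScalarTower.of_algebraMap_eq (fun b => (ev_app p W (genericPoint X) hηU b).symm)
  haveI : IsFractionRing Γ(X, p ⁻¹ᵁ W) (X.residueField (genericPoint X)) :=
    isFractionRing_ev hU (genericPoint X) rfl hηU
  haveI : IsFractionRing Γ(Y, W) (Y.residueField (p (genericPoint X))) :=
    isFractionRing_ev hW (p (genericPoint X)) hdom hηW
  haveI : FiniteDimensional (Y.residueField (p (genericPoint X)))
      (X.residueField (genericPoint X)) := hres
  have hinj : Function.Injective (algebraMap Γ(Y, W) Γ(X, p ⁻¹ᵁ W)) := by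
    have h1 : Function.Injective (algebraMap Γ(Y, W) (X.residueField (genericPoint X))) :=
      (algebraMap (Y.residueField (p (genericPoint X)))
        (X.residueField (genericPoint X))).injective.comp
        (IsFractionRing.injective Γ(Y, W) (Y.residueField (p (genericPoint X))))
    rw [IsScalarTower.algebraMap_eq Γ(Y, W) Γ(X, p ⁻¹ᵁ W) (X.residueField (genericPoint X)),
      RingHom.coe_comp] at h1
    exact Function.Injective.of_comp h1
  -- the local ring at `y`
  letI algBB := Y.presheaf.algebra_section_stalk (U := W) ⟨y, hyW⟩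
  haveI := hW.isLocalization_stalk ⟨y, hyW⟩
  set 𝔮 := (hW.primeIdealOf ⟨y, hyW⟩).asIdeal with h𝔮
  letI algBAloc : Algebra (Y.presheaf.stalk y) (Aloc Γ(Y, W) Γ(X, p ⁻¹ᵁ W) 𝔮) :=
    localizationAlgebra 𝔮.primeCompl Γ(X, p ⁻¹ᵁ W)
  haveI : IsScalarTower Γ(Y, W) (Y.presheaf.stalk y) (Aloc Γ(Y, W) Γ(X, p ⁻¹ᵁ W) 𝔮) :=
    IsScalarTower.of_algebraMap_eq' (by
      rw [IsScalarTower.algebraMap_eq Γ(Y, W) Γ(X, p ⁻¹ᵁ W) (Aloc Γ(Y, W) Γ(X, p ⁻¹ᵁ W) 𝔮)]
      exact (IsLocalization.map_comp _).symm)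
  letI algBK' : Algebra (Y.presheaf.stalk y) (Y.residueField (p (genericPoint X))) :=
    (Cyc.specMap y (p (genericPoint X)) hsp).toAlgebra
  haveI : IsScalarTower Γ(Y, W) (Y.presheaf.stalk y) (Y.residueField (p (genericPoint X))) :=
    IsScalarTower.of_algebraMap_eq
      (fun b => ev_eq_specMap y (p (genericPoint X)) hsp hyW hηW b)
  have hB : ringKrullDim (Y.presheaf.stalk y) = 1 :=
    ringKrullDim_stalk_eq_one hδY y (p (genericPoint X)) hdom hsp hy
  have key := ordFrac_norm_eq_finsum_primesOver (𝔮 := 𝔮) (Y.presheaf.stalk y) hinj hB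
    (Y.residueField (p (genericPoint X))) (X.residueField (genericPoint X)) a ha
  rw [ordAt_eq_ordFrac_stalk y (p (genericPoint X)) hdom hsp]
  unfold Cyc.normGen
  refine Eq.trans ?_ key.symm
  obtain ⟨Ψ, hΨ, hΨx⟩ := exists_fibre_bijection p hW hU y hyW
  apply finsum_eq_of_bijective Ψ hΨ
  intro x
  have hxU : x.1 ∈ p ⁻¹ᵁ W := by
    change p x.1 ∈ W; rw [show p x.1 = y from x.2]; exact hyW
  have hK := Groth.Agent.Lib.Seat32.PullDivGen.krullDimLE_one_locQuot hδX x.1 (genericPoint X)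
    (genericPoint_specializes x.1) (hfib x.1 x.2)
  rw [ordAt_ev_eq_length hU x.1 (genericPoint X) rfl (genericPoint_specializes x.1) hxU hηU hK a ha,
    residueDegree_eq_inertiaDeg p hW hU x.1 hxU, mul_comm]
  exact term_congr _ _ (hΨx x hxU) a

end main

end Groth.Agent.Lib.Seat32.NormGeom
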