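import Groth.Agent.Lib.Seat32PushPull
import Groth.Agent.Lib.Seat28FibreMax

/-!
# Auxiliary lemmas for flat base change of proper pushforward (helper32)

* `finsum_mem_fiberwise` : regrouping a `finsum` along the fibres of a map.
* `finite_residueFieldMap_of_delta_eq`, `delta_eq_of_residueDegree_pos` : `δ(y) = δ(f y)` iff the
  residue field extension is finite (for `f` locally of finite type, `DeltaCompat`).
-/

set_option autoImplicit false
set_option linter.style.haveILetI false
universe u
open CategoryTheory AlgebraicGeometry CategoryTheory.Limits IsLocalRing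

namespace Groth.Agent.Lib.Seat32.PushPull

section aux

/-- regrouping a `finsum` along the fibres of a map. -/
theorem finsum_mem_fiberwise {α β : Type*} (q : α → β) (s : Set α) (t : Set β)
    (hq : Set.MapsTo q s t) (T : α → ℤ) (hfin : (s ∩ Function.support T).Finite) :
    ∑ᶠ a ∈ s, T a = ∑ᶠ b ∈ t, ∑ᶠ a ∈ {a | q a = b ∧ a ∈ s}, T a := by
  classical
  set F := hfin.toFinset with hF
  have hFmem : ∀ a, a ∈ F ↔ a ∈ s ∧ T a ≠ 0 := fun a => by
    rw [hF, Set.Finite.mem_toFinset]; rfl
  have h1 : ∑ᶠ a ∈ s, T a = ∑ a ∈ F, T a := by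
    apply finsum_mem_eq_sum_of_inter_support_eq
    rw [hF, Set.Finite.coe_toFinset, Set.inter_assoc, Set.inter_self]
  have h2 : ∀ b, ∑ᶠ a ∈ {a | q a = b ∧ a ∈ s}, T a = ∑ a ∈ F.filter (fun a => q a = b), T a := by
    intro b
    apply finsum_mem_eq_sum_of_inter_support_eq
    ext a
    simp only [Set.mem_inter_iff, Set.mem_ofPred_eq, Function.mem_support, Finset.coe_filter,
      hFmem]
    tauto
  have h3 : ∑ᶠ b ∈ t, ∑ᶠ a ∈ {a | q a = b ∧ a ∈ s}, T a =
      ∑ b ∈ F.image q, ∑ a ∈ F.filter (fun a => q a = b), T a := by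
    simp_rw [h2]
    apply finsum_mem_eq_sum_of_inter_support_eq
    ext b
    simp only [Set.mem_inter_iff, Function.mem_support, Finset.coe_image, Set.mem_image,
      Finset.mem_coe]
    constructor
    · rintro ⟨hbt, hne⟩
      obtain ⟨a, ha, -⟩ := Finset.exists_ne_zero_of_sum_ne_zero hne
      rw [Finset.mem_filter] at ha
      exact ⟨⟨a, ha.1, ha.2⟩, hne⟩
    · rintro ⟨⟨a, haF, rfl⟩, hne⟩
      exact ⟨hq ((hFmem a).1 haF).1, hne⟩
  rw [h1, h3]
  exact (Finset.sum_fiberwise_of_maps_to (fun a ha => Finset.mem_image_of_mem q ha) T).symm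

variable {X Y : Scheme.{u}}

/-- equal `δ` at `y` and `f y` forces the residue field extension to be finite. -/
theorem finite_residueFieldMap_of_delta_eq (f : Y ⟶ X) [LocallyOfFiniteType f] (δY : Y → ℤ)
    (δ : X → ℤ) (hf : Cyc.DeltaCompat f δY δ) (y : Y) (h : δY y = δ (f y)) :
    (f.residueFieldMap y).hom.Finite := by
  obtain ⟨n, hn, hδ⟩ := hf y
  have hn0 : n = 0 := by omega
  subst hn0
  letI := (f.residueFieldMap y).hom.toAlgebra
  have halg : Algebra.IsAlgebraic (X.residueField (f y)) (Y.residueField y) :=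
    trdeg_eq_zero_iff.mp (by simpa using hn)
  have hess : (f.residueFieldMap y).hom.EssFiniteType :=
    RingHom.EssFiniteType.residueFieldMap (LocallyOfFiniteType.stalkMap f y)
  haveI : Algebra.EssFiniteType (X.residueField (f y)) (Y.residueField y) := hess
  exact Algebra.finite_of_essFiniteType_of_isAlgebraic

/-- a positive residue degree forces equal `δ`. -/
theorem delta_eq_of_residueDegree_pos (f : Y ⟶ X) (δY : Y → ℤ)
    (δ : X → ℤ) (hf : Cyc.DeltaCompat f δY δ) (y : Y) (h : 0 < f.residueDegree y) :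
    δY y = δ (f y) := by
  obtain ⟨n, hn, hδ⟩ := hf y
  letI := (f.residueFieldMap y).hom.toAlgebra
  haveI : Module.Finite (X.residueField (f y)) (Y.residueField y) := Module.finite_of_finrank_pos h
  have h0 : Algebra.trdeg (X.residueField (f y)) (Y.residueField y) = 0 := trdeg_eq_zero
  rw [h0] at hn
  have hn0 : n = 0 := by exact_mod_cast hn.symm
  rw [hδ, hn0]
  simp

end aux

end Groth.Agent.Lib.Seat32.PushPull
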