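import Mathlib
import Groth.Prelude.Def_Cyc
import Groth.Agent.Lib.Seat32PushPullAux
import Groth.Agent.Lib.Seat32NormGeomA
import Groth.Agent.Lib.Seat32NormGeomB

/-!
# Proper pushforward of a principal divisor is the divisor of the norm (helper32, for S1906)

* `normGen_div`: the norm of a quotient.
* `map_divFun_eq`: for `p : X ⟶ Y` proper dominant between integral schemes with `δX(η_X) = δY(η_Y)`,
  `p_*(div f) = div(Nm f)` pointwise.
-/

set_option autoImplicit false
set_option linter.style.haveILetI false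
set_option linter.unusedSectionVars false
universe u
open AlgebraicGeometry CategoryTheory CategoryTheory.Limits TopologicalSpace Opposite IsLocalRing

namespace Groth.Agent.Lib.Seat32.NormGeom

open Groth.Agent.Lib.Seat32.CycFin Groth.Agent.Lib.Seat32.FinFlatDeg
  Groth.Agent.Lib.Seat32.PullDivGen

variable {X Y : Scheme.{u}}

theorem normGen_div (p : X ⟶ Y) (x : X) (hres : (p.residueFieldMap x).hom.Finite)
    (a b : X.residueField x) (hb : b ≠ 0) :
    Cyc.normGen p x (a / b) = Cyc.normGen p x a / Cyc.normGen p x b ∧ Cyc.normGen p x b ≠ 0 := by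
  unfold Cyc.normGen
  letI := (p.residueFieldMap x).hom.toAlgebra
  haveI : FiniteDimensional (Y.residueField (p x)) (X.residueField x) := hres
  have hNb : Algebra.norm (Y.residueField (p x)) b ≠ 0 := Algebra.norm_ne_zero_iff.2 hb
  refine ⟨?_, hNb⟩
  rw [eq_div_iff hNb, ← map_mul, div_mul_cancel₀ _ hb]

theorem map_divFun_eq [IsIntegral X] [IsIntegral Y] (δX : X → ℤ) (δY : Y → ℤ)
    (hX : Cyc.IsSetup X δX) (hY : Cyc.IsSetup Y δY) (p : X ⟶ Y) [IsProper p]
    (hδ : Cyc.DeltaCompat p δX δY) (hdom : p (genericPoint X) = genericPoint Y)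
    (hn : δX (genericPoint X) = δY (genericPoint Y)) (f : X.residueField (genericPoint X))
    (hf : f ≠ 0) (α : AlgebraicCycle X ℤ) (hα : ⇑α = Cyc.divFun δX (genericPoint X) f) :
    ⇑(AlgebraicCycle.map p δX δY α) =
      Cyc.divFun δY (p (genericPoint X)) (Cyc.normGen p (genericPoint X) f) := by
  classical
  obtain ⟨hXN, -, hδX⟩ := hX
  obtain ⟨hYN, -, hδY⟩ := hY
  have hn' : δX (genericPoint X) = δY (p (genericPoint X)) := by rw [hdom]; exact hn
  have hspη : ∀ y : Y, p (genericPoint X) ⤳ y := fun y => by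
    rw [hdom]; exact genericPoint_specializes y
  funext y
  have hmap : (AlgebraicCycle.map p δX δY α) y =
      ∑ᶠ x ∈ p ⁻¹' {y}, α x * ((AlgebraicCycle.mapCoeff p δX δY x : ℕ) : ℤ) := rfl
  rw [hmap, hα]
  by_cases hc : p (genericPoint X) ⤳ y ∧ δY y + 1 = δY (p (genericPoint X))
  swap
  · -- both sides vanish
    have hR : Cyc.divFun δY (p (genericPoint X)) (Cyc.normGen p (genericPoint X) f) y = 0 := by
      unfold Cyc.divFun
      exact dif_neg hc
    rw [hR]
    apply finsum_mem_eq_zero_of_forall_eq_zero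
    intro x hx
    have hpx : p x = y := hx
    by_cases h1 : genericPoint X ⤳ x ∧ δX x + 1 = δX (genericPoint X)
    · by_cases h2 : δX x = δY (p x)
      · exfalso
        apply hc
        refine ⟨hspη y, ?_⟩
        rw [← hn', ← h1.2, h2, hpx]
      · have : AlgebraicCycle.mapCoeff p δX δY x = 0 := if_neg h2
        rw [this]; simp
    · have : Cyc.divFun δX (genericPoint X) f x = 0 := by
        unfold Cyc.divFun
        exact dif_neg h1
      rw [this]; simp
  · -- the main case
    obtain ⟨hsp, hy⟩ := hc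
    have hR : Cyc.divFun δY (p (genericPoint X)) (Cyc.normGen p (genericPoint X) f) y =
        Cyc.ordAt y (p (genericPoint X)) hsp (Cyc.normGen p (genericPoint X) f) := by
      unfold Cyc.divFun
      exact dif_pos ⟨hsp, hy⟩
    rw [hR]
    -- all the points of the fibre have the same `δ`
    have hfibδ : ∀ x, p x = y → δX x = δY y := by
      intro x hpx
      obtain ⟨n, -, hxn⟩ := hδ x
      have hne : genericPoint X ≠ x := by
        intro e
        rw [← e] at hpx
        rw [hpx] at hy
        omega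
      have h1 := (hδX _ _ (genericPoint_specializes x) hne).1
      rw [hpx] at hxn
      omega
    have hfib : ∀ x, p x = y → δX x + 1 = δX (genericPoint X) := by
      intro x hpx
      rw [hfibδ x hpx, hn', hy]
    have hfinite : (p ⁻¹' {y}).Finite :=
      finite_preimage_singleton_of_delta p hδX y (δY y) hfibδ
    obtain ⟨W, hW, hyW, hWfin⟩ := exists_affine_finite p y hfinite
    haveI : IsAffine (W : Scheme.{u}) := hW
    have hU : IsAffineOpen (p ⁻¹ᵁ W) := isAffine_of_isAffineHom (p ∣_ W)
    have hfin : (p.app W).hom.Finite :=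
      (appTop_restrict_iff p RingHom.finite_respectsIso W).1 (p ∣_ W).finite_appTop
    have hηW : p (genericPoint X) ∈ W := by
      rw [hdom]
      exact ((genericPoint_spec Y).mem_open_set_iff W.isOpen).mpr ⟨y, trivial, hyW⟩
    have hηU : genericPoint X ∈ p ⁻¹ᵁ W := hηW
    have hres : (p.residueFieldMap (genericPoint X)).hom.Finite :=
      Groth.Agent.Lib.Seat32.PushPull.finite_residueFieldMap_of_delta_eq p δX δY hδ
        (genericPoint X) hn'
    obtain ⟨a, b, hb, rfl⟩ := exists_eq_div hU (genericPoint X) hηU f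
    have ha0 : a ≠ 0 := by
      rintro rfl
      apply hf
      rw [map_zero, zero_div]
    have hb0 : b ≠ 0 := by
      rintro rfl
      exact hb (map_zero _)
    have hane : (X.presheaf.germ (p ⁻¹ᵁ W) (genericPoint X) hηU ≫
        X.residue (genericPoint X)).hom a ≠ 0 := by
      intro h0
      apply hf
      rw [h0, zero_div]
    have keya := finsum_ordAt_ev p hδX hδY hW hU hfin hdom hres y hyW hηU hsp hy hfib a ha0
    have keyb := finsum_ordAt_ev p hδX hδY hW hU hfin hdom hres y hyW hηU hsp hy hfib b hb0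
    obtain ⟨hN, hNb⟩ := normGen_div p (genericPoint X) hres
      ((X.presheaf.germ (p ⁻¹ᵁ W) (genericPoint X) hηU ≫ X.residue (genericPoint X)).hom a)
      ((X.presheaf.germ (p ⁻¹ᵁ W) (genericPoint X) hηU ≫ X.residue (genericPoint X)).hom b) hb
    have hNa : Cyc.normGen p (genericPoint X) ((X.presheaf.germ (p ⁻¹ᵁ W) (genericPoint X) hηU ≫
        X.residue (genericPoint X)).hom a) ≠ 0 :=
      (normGen_div p (genericPoint X) hres 1 _ hane).2
    rw [hN, Groth.Agent.Lib.Seat28.FlatDiv.ordAt_div y _ hsp hNa hNb, ← keya, ← keyb,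
      ← finsum_set_coe_eq_finsum_mem]
    haveI : Finite ↥(p ⁻¹' {y}) := hfinite.to_subtype
    rw [← finsum_sub_distrib (Set.toFinite _) (Set.toFinite _)]
    apply finsum_congr
    intro x
    have hpx : p x.1 = y := x.2
    have h1 : Cyc.divFun δX (genericPoint X) ((X.presheaf.germ (p ⁻¹ᵁ W) (genericPoint X) hηU ≫
        X.residue (genericPoint X)).hom a / (X.presheaf.germ (p ⁻¹ᵁ W) (genericPoint X) hηU ≫
        X.residue (genericPoint X)).hom b) x.1 = Cyc.ordAt x.1 (genericPoint X)
          (genericPoint_specializes x.1) ((X.presheaf.germ (p ⁻¹ᵁ W) (genericPoint X) hηU ≫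
        X.residue (genericPoint X)).hom a / (X.presheaf.germ (p ⁻¹ᵁ W) (genericPoint X) hηU ≫
        X.residue (genericPoint X)).hom b) := by
      unfold Cyc.divFun
      exact dif_pos ⟨genericPoint_specializes x.1, hfib x.1 hpx⟩
    have h2 : AlgebraicCycle.mapCoeff p δX δY x.1 = p.residueDegree x.1 :=
      if_pos (by rw [hfibδ x.1 hpx, hpx])
    rw [h1, h2, Groth.Agent.Lib.Seat28.FlatDiv.ordAt_div x.1 _ _ hane hb]
    ring

end Groth.Agent.Lib.Seat32.NormGeom
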