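import Mathlib
import Groth.Prelude.Def_DCoh3
import Groth.Prelude.Def_CxOX
import Groth.Agent.Lib.Helper2LocFree
set_option backward.isDefEq.respectTransparency.types false

/-!
# Perfect objects are relatively perfect for a flat morphism (seat 32)

* `nonempty_Q_restrict_iso`: the class in `D(O_V)` of the restriction of a representing complex only
  depends on the class of the complex in `D(O_X)`.
* `isFlatOver_of_isFlat`: a flat `O_X`-module is flat over `S` along a flat morphism `X ⟶ S`.
* `isFlatOver_of_isFinLocFree`.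
* `isPseudoCoherentD_of_isPerfect`, `locHasFiniteRelTorDim_of_isPerfect`.
-/

set_option autoImplicit false
set_option linter.style.haveILetI false
universe u
open CategoryTheory CategoryTheory.Limits AlgebraicGeometry

attribute [local instance] HasDerivedCategory.standard

namespace Groth.Agent.Lib.Seat32.Perf1

open Groth.Agent.Lib.Helper2.LocFree

/-- representing complexes of isomorphic objects of `D(O_X)` have isomorphic restrictions in
`D(O_V)` -/
theorem nonempty_Q_restrict_iso {X : Scheme.{u}} (V : X.Opens) (F F' : CochainComplex X.Modules ℤ)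
    (e : DCoh.toD X F ≅ DCoh.toD X F') :
    Nonempty (DerivedCategory.Q.obj ((DCoh.restrictCx V).obj F) ≅
      DerivedCategory.Q.obj ((DCoh.restrictCx V).obj F')) :=
  ⟨((Scheme.Modules.restrictFunctor V.ι).mapDerivedCategoryFactors.app F).symm ≪≫
    (DCoh.restrictD V.ι).mapIso e ≪≫
    (Scheme.Modules.restrictFunctor V.ι).mapDerivedCategoryFactors.app F'⟩

/-- a flat `O_X`-module is flat over the base of a flat morphism -/
theorem isFlatOver_of_isFlat {X S : Scheme.{u}} (g : X ⟶ S) [Flat g] (M : X.Modules)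
    (hM : FlatMod.IsFlat M) : FlatMod.IsFlatOver g M := by
  intro x
  have hfl : Module.Flat (X.presheaf.stalk x) (M.presheaf.stalk x) := hM x
  unfold FlatMod.IsFlatOverAt
  letI := FlatMod.moduleStalkOver g M x
  algebraize [(g.stalkMap x).hom]
  haveI : Module.Flat (S.presheaf.stalk (g.base x)) (X.presheaf.stalk x) := by
    have := Flat.stalkMap g x
    rwa [RingHom.Flat] at this
  haveI : IsScalarTower (S.presheaf.stalk (g.base x)) (X.presheaf.stalk x)
      (M.presheaf.stalk x) := ⟨fun a b m => by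
    change ((g.stalkMap x).hom a * b) • m = (g.stalkMap x).hom a • (b • m)
    rw [mul_smul]⟩
  exact Module.Flat.trans _ (X.presheaf.stalk x) _

theorem isQCoh_of_isFP' {X : Scheme.{u}} (F : X.Modules) (hF : CohB1.IsFP F) : F.IsQuasicoherent :=
  { nonempty_quasicoherentData :=
      ⟨(SheafOfModules.IsFinitePresentation.exists_quasicoherentData (R := X.ringCatSheaf) F).choose⟩ }

/-- a finite locally free module is flat -/
theorem isFlat_of_isFinLocFree'' {X : Scheme.{u}} (F : X.Modules) (hF : FlatMod.IsFinLocFree F) :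
    FlatMod.IsFlat F := by
  have hFfp : CohB1.IsFP F := isFP_of_isFinLocFree F hF
  haveI : F.IsQuasicoherent := isQCoh_of_isFP' F hFfp
  exact isFlat_of_isFinLocFree F hF

/-- a finite locally free module is flat over the base of a flat morphism -/
theorem isFlatOver_of_isFinLocFree {X S : Scheme.{u}} (g : X ⟶ S) [Flat g] (M : X.Modules)
    (hM : FlatMod.IsFinLocFree M) : FlatMod.IsFlatOver g M :=
  isFlatOver_of_isFlat g M (isFlat_of_isFinLocFree'' M hM)

/-- a perfect object is `m`-pseudo-coherent for every `m` -/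
theorem isPseudoCoherentD_of_isPerfect {X : Scheme.{u}} (E : DCoh.D X) (hE : DCoh.IsPerfect E)
    (m : ℤ) : DCoh.IsPseudoCoherentD m E := by
  intro x
  obtain ⟨V, hxV, hV⟩ := hE x
  refine ⟨V, hxV, fun F hF => ?_⟩
  obtain ⟨P, hP, ⟨i⟩⟩ := hV F hF
  exact ⟨P, i.inv, hP, fun j _ => inferInstance, inferInstance⟩

/-- a perfect object on the source of a flat morphism locally has finite relative tor dimension -/
theorem locHasFiniteRelTorDim_of_isPerfect {X S : Scheme.{u}} (f : X ⟶ S) [Flat f]
    (E : DCoh.D X) (hE : DCoh.IsPerfect E) : DCoh.LocHasFiniteRelTorDim f E := by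
  intro x
  obtain ⟨V, hxV, hV⟩ := hE x
  let F₀ : CochainComplex X.Modules ℤ := DerivedCategory.Q.objPreimage E
  let e₀ : DCoh.toD X F₀ ≅ E := DerivedCategory.Q.objObjPreimageIso E
  obtain ⟨P, ⟨⟨a, b, hab⟩, hP⟩, ⟨i⟩⟩ := hV F₀ ⟨e₀⟩
  refine ⟨V, a, b, hxV, fun F' ⟨eF'⟩ => ?_⟩
  obtain ⟨j⟩ := nonempty_Q_restrict_iso V F₀ F' (e₀ ≪≫ eF'.symm)
  exact ⟨P, hab, fun k => isFlatOver_of_isFinLocFree (V.ι ≫ f) _ (hP k), ⟨i.symm ≪≫ j⟩⟩

end Groth.Agent.Lib.Seat32.Perf1
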