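/-
Seat32 helper library for S1919: base change of cycles along a purely inseparable field extension `k'/k`.
* `trdeg_eq_of_square`: transcendence degrees in a commutative square of fields with integral sides;
* `universallyInjective_specMap_of_isPurelyInseparable`;
* `delta_eq`: the dimension functions of `X` and `X' = X ×_k k'` agree along the projection;
* `exists_length_fibre_eq_pow`: the fibre multiplicity of `X' → X` at any point is a power of `p`;
* `exists_pow_smul_eq_pullFun`: `p^n β` is a base change, for every cycle `β` on `X'` (X quasi-compact).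
-/
import Mathlib
import Groth.Prelude.Def_Cyc
import Groth.Agent.Lib.Seat32LenPow
import Groth.Agent.Lib.Helper5FiberStalk

set_option autoImplicit false
set_option linter.style.haveILetI false
universe u

namespace Groth.Agent.Lib.Seat32.PerfBC

open CategoryTheory AlgebraicGeometry TensorProduct Limits
open Groth.Agent.Lib.Seat32.LenPow

section Trdeg

variable {A B C : Type u} [Field A] [Field B] [Field C]

theorem trdeg_comp_of_isIntegral_right (a : A →+* B) (b : B →+* C) (hb : b.IsIntegral) :
    @Algebra.trdeg A C _ _ (b.comp a).toAlgebra = @Algebra.trdeg A B _ _ a.toAlgebra := by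
  letI := a.toAlgebra
  letI := b.toAlgebra
  letI := (b.comp a).toAlgebra
  haveI : IsScalarTower A B C := IsScalarTower.of_algebraMap_eq (fun _ => rfl)
  haveI : Algebra.IsIntegral B C := ⟨hb⟩
  have h := trdeg_add_eq A B (A := C)
  rw [trdeg_eq_zero (R := B) (A := C), add_zero] at h
  exact h.symm

theorem trdeg_comp_of_isIntegral_left (a : A →+* B) (b : B →+* C) (ha : a.IsIntegral) :
    @Algebra.trdeg A C _ _ (b.comp a).toAlgebra = @Algebra.trdeg B C _ _ b.toAlgebra := by
  letI := a.toAlgebra
  letI := b.toAlgebra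
  letI := (b.comp a).toAlgebra
  haveI : IsScalarTower A B C := IsScalarTower.of_algebraMap_eq (fun _ => rfl)
  haveI : Algebra.IsIntegral A B := ⟨ha⟩
  have h := trdeg_add_eq A B (A := C)
  rw [trdeg_eq_zero (R := A) (A := B), zero_add] at h
  exact h.symm

theorem trdeg_eq_of_square {A' B' : Type u} [Field A'] [Field B'] (a : A →+* B) (c : A →+* A')
    (b' : A' →+* B') (d : B →+* B') (hsq : d.comp a = b'.comp c) (hd : d.IsIntegral)
    (hc : c.IsIntegral) :
    @Algebra.trdeg A B _ _ a.toAlgebra = @Algebra.trdeg A' B' _ _ b'.toAlgebra := by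
  rw [← trdeg_comp_of_isIntegral_right a d hd, ← trdeg_comp_of_isIntegral_left c b' hc]
  congr 1
  rw [hsq]

end Trdeg


theorem universallyInjective_specMap_of_isPurelyInseparable (k k' : Type u) [Field k] [Field k']
    [Algebra k k'] [IsPurelyInseparable k k'] :
    UniversallyInjective (Spec.map (CommRingCat.ofHom (algebraMap k k'))) := by
  refine ((tfae_universallyInjective _).out 0 1).mpr ?_
  intro K _ g₁ g₂ h
  obtain ⟨σ₁, rfl⟩ := Spec.map_surjective g₁
  obtain ⟨σ₂, rfl⟩ := Spec.map_surjective g₂
  simp only [← Spec.map_comp] at h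
  have h' := Spec.map_injective h
  congr 1
  ext x : 2
  have h'' : σ₁.hom.comp (algebraMap k k') = σ₂.hom.comp (algebraMap k k') := by
    ext y
    exact congrArg (fun (t : CommRingCat.of k ⟶ CommRingCat.of K) => t.hom y) h'
  exact congrArg (fun t : k' →+* K => t x)
    (IsPurelyInseparable.injective_comp_algebraMap k k' K h'')


section Setting

variable {k k' : Type u} [Field k] [Field k'] [Algebra k k'] [IsPurelyInseparable k k']
  {X X' : Scheme.{u}} {f : X ⟶ Spec (.of k)} {π : X' ⟶ X} {π' : X' ⟶ Spec (.of k')}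
  (sq : IsPullback π π' f (Spec.map (CommRingCat.ofHom (algebraMap k k'))))

include sq

theorem universallyInjective_fst : UniversallyInjective π :=
  MorphismProperty.of_isPullback (P := @UniversallyInjective) sq.flip
    (universallyInjective_specMap_of_isPurelyInseparable k k')

theorem fst_injective : Function.Injective π :=
  haveI := universallyInjective_fst sq
  π.injective

theorem isIntegral_residueFieldMap_fst (x' : X') : (π.residueFieldMap x').hom.IsIntegral := by
  have h := ((tfae_universallyInjective π).out 0 2).mp (universallyInjective_fst sq)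
  have h2 := h.2 x'
  letI := (π.residueFieldMap x').hom.toAlgebra
  haveI : IsPurelyInseparable (X.residueField (π x')) (X'.residueField x') := h2
  exact (IsPurelyInseparable.isIntegral (F := X.residueField (π x'))
    (E := X'.residueField x')).isIntegral

omit sq in
theorem isIntegral_residueFieldMap_specMap (y' : Spec (.of k')) :
    ((Spec.map (CommRingCat.ofHom (algebraMap k k'))).residueFieldMap y').hom.IsIntegral := by
  have h := ((tfae_universallyInjective _).out 0 2).mp
    (universallyInjective_specMap_of_isPurelyInseparable k k')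
  have h2 := h.2 y'
  letI := ((Spec.map (CommRingCat.ofHom (algebraMap k k'))).residueFieldMap y').hom.toAlgebra
  haveI : IsPurelyInseparable ((Spec (.of k)).residueField
      ((Spec.map (CommRingCat.ofHom (algebraMap k k'))) y')) ((Spec (.of k')).residueField y') := h2
  exact (IsPurelyInseparable.isIntegral (F := (Spec (.of k)).residueField
      ((Spec.map (CommRingCat.ofHom (algebraMap k k'))) y'))
    (E := (Spec (.of k')).residueField y')).isIntegral

theorem delta_eq (δ : X → ℤ) (δ' : X' → ℤ) (hδ : Cyc.DeltaCompat f δ (fun _ => 0))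
    (hδ' : Cyc.DeltaCompat π' δ' (fun _ => 0)) (x' : X') : δ' x' = δ (π x') := by
  obtain ⟨n, hn, hδx⟩ := hδ (π x')
  obtain ⟨n', hn', hδx'⟩ := hδ' x'
  have e : f (π x') = (Spec.map (CommRingCat.ofHom (algebraMap k k'))) (π' x') := by
    rw [← Scheme.Hom.comp_apply, ← Scheme.Hom.comp_apply, sq.w]
  have key := trdeg_eq_of_square (f.residueFieldMap (π x')).hom
    ((((Spec (.of k)).residueFieldCongr e).hom ≫
      (Spec.map (CommRingCat.ofHom (algebraMap k k'))).residueFieldMap (π' x')).hom)
    (π'.residueFieldMap x').hom (π.residueFieldMap x').hom ?_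
    (isIntegral_residueFieldMap_fst sq x') ?_
  · rw [hδx, hδx']
    have : (n : Cardinal) = n' := by
      rw [← hn, ← hn']
      exact key
    have : n = n' := by exact_mod_cast this
    rw [this]
  · have h1 := Scheme.Hom.residueFieldMap_congr sq.w x'
    rw [Scheme.residueFieldMap_comp, Scheme.residueFieldMap_comp] at h1
    have h2 := congrArg CommRingCat.Hom.hom h1
    simp only [CommRingCat.hom_comp] at h2 ⊢
    rw [h2]
    rfl
  · rw [CommRingCat.hom_comp]
    refine RingHom.IsIntegral.trans _ _ ?_ (isIntegral_residueFieldMap_specMap (π' x'))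
    exact RingHom.isIntegral_of_surjective _
      (ConcreteCategory.bijective_of_isIso ((Spec (.of k)).residueFieldCongr e).hom).2

end Setting


set_option backward.isDefEq.respectTransparency.types false in
/-- the structure map `k → κ(x)` of a point of a `k`-scheme is essentially of finite type. -/
theorem essFiniteType_preimage {R : CommRingCat.{u}} {X : Scheme.{u}} (f : X ⟶ Spec R)
    [LocallyOfFiniteType f] (x : X) :
    (Spec.preimage (X.fromSpecResidueField x ≫ f)).hom.EssFiniteType := by
  have h1 : Spec.preimage (X.fromSpecResidueField x ≫ f) =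
      CommRingCat.ofHom (algebraMap R (f x).asIdeal.ResidueField) ≫
        (Scheme.Spec.residueFieldIso R (f x)).inv ≫ f.residueFieldMap x := by
    apply Spec.map_injective
    rw [Spec.map_preimage, ← Scheme.Hom.SpecMap_residueFieldMap_fromSpecResidueField,
      ← Scheme.Spec.map_residueFieldIso_inv_eq_fromSpecResidueField, Spec.map_comp, Spec.map_comp,
      Category.assoc]
  rw [h1]
  simp only [CommRingCat.hom_comp, CommRingCat.hom_ofHom]
  refine RingHom.EssFiniteType.comp ?_ (RingHom.EssFiniteType.comp ?_ ?_)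
  · exact RingHom.essFiniteType_algebraMap.mpr inferInstance
  · exact RingHom.FiniteType.essFiniteType (RingHom.FiniteType.of_surjective _
      (ConcreteCategory.bijective_of_isIso
        (Scheme.Spec.residueFieldIso R (f x)).inv).2)
  · exact RingHom.EssFiniteType.residueFieldMap (LocallyOfFiniteType.stalkMap f x)

/-- over a field, with an integral algebra, every prime is a minimal prime. -/
theorem mem_minimalPrimes_of_isIntegral_field (K R : Type*) [Field K] [CommRing R] [Algebra K R]
    [Algebra.IsIntegral K R] (𝔮 : Ideal R) [𝔮.IsPrime] : 𝔮 ∈ minimalPrimes R := by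
  have hmax : ∀ (𝔭 : Ideal R) [𝔭.IsPrime], 𝔭.IsMaximal := by
    intro 𝔭 _
    refine Ideal.isMaximal_of_isIntegral_of_isMaximal_comap (R := K) 𝔭 ?_
    have : (Ideal.comap (algebraMap K R) 𝔭).IsPrime := Ideal.comap_isPrime _ _
    rw [Ideal.eq_bot_of_prime (Ideal.comap (algebraMap K R) 𝔭)]
    exact Ideal.bot_isMaximal
  refine ⟨⟨inferInstance, bot_le⟩, ?_⟩
  rintro 𝔭 ⟨h𝔭, -⟩ hle
  have := hmax 𝔭
  rw [this.eq_of_le (Ideal.IsPrime.ne_top inferInstance) hle]

section Local

variable {k k' : Type u} [Field k] [Field k'] [Algebra k k'] [IsPurelyInseparable k k']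
  {X X' : Scheme.{u}} {f : X ⟶ Spec (.of k)} {π : X' ⟶ X} {π' : X' ⟶ Spec (.of k')}
  (sq : IsPullback π π' f (Spec.map (CommRingCat.ofHom (algebraMap k k'))))

set_option backward.isDefEq.respectTransparency.types false in
include sq in
theorem exists_length_fibre_eq_pow (p : ℕ) [ExpChar k p] [LocallyOfFiniteType f] (x' : X') :
    ∃ e : ℕ, Module.length (X'.presheaf.stalk x')
      (X'.presheaf.stalk x' ⧸ Ideal.map (π.stalkMap x').hom
        (IsLocalRing.maximalIdeal (X.presheaf.stalk (π x')))) = (p ^ e : ℕ) := by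
  obtain ⟨e1⟩ := Groth.Agent.Lib.Helper5.FiberStalk.nonempty_stalk_asFiber_equiv π x'
  rw [Module.length_eq_of_surjective (S := X'.presheaf.stalk x')
    (R := X'.presheaf.stalk x' ⧸ Ideal.map (π.stalkMap x').hom
        (IsLocalRing.maximalIdeal (X.presheaf.stalk (π x')))) Ideal.Quotient.mk_surjective,
    ← length_self_eq_of_ringEquiv e1]
  -- the fibre is the spectrum of `κ(x) ⊗[k] k'`
  let φ₀ := Spec.preimage (X.fromSpecResidueField (π x') ≫ f)
  letI : Algebra k (X.residueField (π x')) := φ₀.hom.toAlgebra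
  have hφ : X.fromSpecResidueField (π x') ≫ f =
      Spec.map (CommRingCat.ofHom (algebraMap k (X.residueField (π x')))) :=
    (Spec.map_preimage _).symm
  have hpaste : IsPullback (π.fiberToSpecResidueField (π x')) (π.fiberι (π x') ≫ π')
      (X.fromSpecResidueField (π x') ≫ f) (Spec.map (CommRingCat.ofHom (algebraMap k k'))) :=
    (IsPullback.of_hasPullback π (X.fromSpecResidueField (π x'))).flip.paste_vert sq
  rw [hφ] at hpaste
  let ε : π.fiber (π x') ≅ Spec (.of (X.residueField (π x') ⊗[k] k')) :=
    hpaste.isoPullback ≪≫ pullbackSpecIso k (X.residueField (π x')) k'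
  let e2 : (Spec (.of (X.residueField (π x') ⊗[k] k'))).presheaf.stalk (ε.hom (π.asFiber x')) ≃+*
      (π.fiber (π x')).presheaf.stalk (π.asFiber x') :=
    (asIso (ε.hom.stalkMap (π.asFiber x'))).commRingCatIsoToRingEquiv
  let e3 := (Spec.stalkIso (.of (X.residueField (π x') ⊗[k] k'))
    (ε.hom (π.asFiber x'))).commRingCatIsoToRingEquiv
  rw [← length_self_eq_of_ringEquiv e2, length_self_eq_of_ringEquiv e3]
  have hFG : (⊤ : IntermediateField k (X.residueField (π x'))).FG := by
    haveI : Algebra.EssFiniteType k (X.residueField (π x')) :=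
      RingHom.essFiniteType_algebraMap.mp (essFiniteType_preimage f (π x'))
    exact IntermediateField.fg_top k _
  have hpl : PowLen p (X.residueField (π x') ⊗[k] k') :=
    (powLen_of_fg k k' (X.residueField (π x')) p hFG).of_ringEquiv
      (Algebra.TensorProduct.comm k k' (X.residueField (π x'))).toRingEquiv
  haveI : Algebra.IsIntegral k k' := IsPurelyInseparable.isIntegral
  exact hpl _ (mem_minimalPrimes_of_isIntegral_field (X.residueField (π x')) _ _)

end Local


/-- a cycle on a quasi-compact scheme has finite support. -/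
theorem finite_support_of_compactSpace {X : Scheme.{u}} [CompactSpace X] (α : AlgebraicCycle X ℤ) :
    {x : X | α x ≠ 0}.Finite := by
  have h : ∀ z : X, ∃ t ∈ nhds z, (t ∩ Function.support ⇑α).Finite :=
    fun z => α.supportLocallyFiniteWithinDomain' z (Set.mem_univ _)
  choose t ht hfin using h
  obtain ⟨s, -, hs⟩ := isCompact_univ.elim_nhds_subcover t (fun z _ => ht z)
  have hcov : {x : X | α x ≠ 0} ⊆ ⋃ z ∈ s, (t z ∩ Function.support ⇑α) := by
    intro x hx
    have hx' : x ∈ ⋃ z ∈ s, t z := hs (Set.mem_univ x)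
    simp only [Set.mem_iUnion] at hx' ⊢
    obtain ⟨z, hz, hxz⟩ := hx'
    exact ⟨z, hz, hxz, hx⟩
  refine Set.Finite.subset ?_ hcov
  exact Set.Finite.biUnion s.finite_toSet (fun z _ => hfin z)

section Main

variable {k k' : Type u} [Field k] [Field k'] [Algebra k k'] [IsPurelyInseparable k k']
  {X X' : Scheme.{u}} {f : X ⟶ Spec (.of k)} {π : X' ⟶ X} {π' : X' ⟶ Spec (.of k')}
  (sq : IsPullback π π' f (Spec.map (CommRingCat.ofHom (algebraMap k k'))))

include sq in
theorem exists_pow_smul_eq_pullFun (p : ℕ) [ExpChar k p] [LocallyOfFiniteType f] [QuasiCompact f]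
    (δ : X → ℤ) (hδ : Cyc.DeltaCompat f δ (fun _ => 0)) (δ' : X' → ℤ)
    (hδ' : Cyc.DeltaCompat π' δ' (fun _ => 0)) (r : ℤ) (β : AlgebraicCycle X' ℤ)
    (hβ : β ∈ Cyc.Zk X' δ' r) :
    ∃ (n : ℕ) (α : AlgebraicCycle X ℤ), α ∈ Cyc.Zk X δ r ∧
      (p : ℤ) ^ n • ⇑β = Cyc.pullFun π δ' δ 0 ⇑α := by
  classical
  haveI : QuasiCompact π' := MorphismProperty.of_isPullback (P := @QuasiCompact) sq inferInstance
  haveI : CompactSpace X' := QuasiCompact.compactSpace_of_compactSpace π'
  have hfin := finite_support_of_compactSpace β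
  haveI : Fintype {ξ : X' // β ξ ≠ 0} := hfin.fintype
  have hinj := fst_injective sq
  have hdelta := delta_eq sq δ δ' hδ hδ'
  choose e he using exists_length_fibre_eq_pow sq p
  let n : ℕ := Finset.univ.sup (fun ξ : {ξ : X' // β ξ ≠ 0} => e ξ.1)
  have hn : ∀ ξ : X', β ξ ≠ 0 → e ξ ≤ n := fun ξ hξ =>
    Finset.le_sup (f := fun ξ : {ξ : X' // β ξ ≠ 0} => e ξ.1) (Finset.mem_univ ⟨ξ, hξ⟩)
  let a : X → ℤ := fun x =>
    ∑ ξ : {ξ : X' // β ξ ≠ 0}, if π ξ.1 = x then (p : ℤ) ^ (n - e ξ.1) * β ξ.1 else 0
  have ha_supp : ∀ x, a x ≠ 0 → ∃ ξ : X', β ξ ≠ 0 ∧ π ξ = x := by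
    intro x hx
    by_contra hne
    apply hx
    apply Finset.sum_eq_zero
    intro ξ _
    rw [if_neg]
    intro hg
    exact hne ⟨ξ.1, ξ.2, hg⟩
  have ha_val : ∀ ξ : X', β ξ ≠ 0 → a (π ξ) = (p : ℤ) ^ (n - e ξ) * β ξ := by
    intro ξ hξ
    change (∑ ξ' : {ξ : X' // β ξ ≠ 0},
      if π ξ'.1 = π ξ then (p : ℤ) ^ (n - e ξ'.1) * β ξ'.1 else 0) = _
    rw [Finset.sum_eq_single (⟨ξ, hξ⟩ : {ξ : X' // β ξ ≠ 0})]
    · rw [if_pos rfl]
    · intro b _ hb
      rw [if_neg]
      intro hg
      exact hb (Subtype.ext (hinj hg))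
    · intro h
      exact absurd (Finset.mem_univ _) h
  have hfinsupp : (Function.support a).Finite := by
    refine (Set.finite_range (fun ξ : {ξ : X' // β ξ ≠ 0} => π ξ.1)).subset ?_
    intro x hx
    obtain ⟨ξ, hξ, hg⟩ := ha_supp x hx
    exact ⟨⟨ξ, hξ⟩, hg⟩
  let α : AlgebraicCycle X ℤ :=
    { toFun := a
      supportWithinDomain' := fun x _ => trivial
      supportLocallyFiniteWithinDomain' := fun z _ =>
        ⟨Set.univ, Filter.univ_mem, by rw [Set.univ_inter]; exact hfinsupp⟩ }
  have hαa : ∀ x, α x = a x := fun x => rfl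
  refine ⟨n, α, ?_, ?_⟩
  · intro x hx
    by_contra hne
    rw [hαa] at hne
    obtain ⟨ξ, hξ, hg⟩ := ha_supp x hne
    have h2 : δ' ξ = r := by
      by_contra h2
      exact hξ (hβ ξ h2)
    rw [hdelta ξ, hg] at h2
    exact hx h2
  · funext y'
    have hcond : δ' y' = δ (π y') + 0 := by rw [add_zero]; exact hdelta y'
    change (p : ℤ) ^ n • β y' = (if δ' y' = δ (π y') + 0 then α (π y') * _ else 0)
    rw [if_pos hcond, he y', hαa, smul_eq_mul]
    by_cases hy : β y' = 0
    · have h0 : a (π y') = 0 := by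
        by_contra hne
        obtain ⟨ξ, hξ, hg⟩ := ha_supp _ hne
        rw [hinj hg] at hξ
        exact hξ hy
      rw [hy, h0, mul_zero, zero_mul]
    · rw [ha_val y' hy]
      have hle := hn y' hy
      have hpow : (p : ℤ) ^ n = (p : ℤ) ^ (n - e y') * (p : ℤ) ^ (e y') := by
        rw [← pow_add, Nat.sub_add_cancel hle]
      rw [hpow, ENat.toNat_natCast]
      push_cast
      ring

end Main

end Groth.Agent.Lib.Seat32.PerfBC
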