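import Mathlib
import Groth.Agent.Lib.Helper22GrAvoid

/-!
# Finite sets of points of a scheme immersed in `Proj` lie in an affine open (seat 32)
-/

set_option autoImplicit false
universe u
open CategoryTheory AlgebraicGeometry

namespace Groth.Agent.Lib.Seat32.ProjAffine

open Groth.Agent.Lib.Helper22.GrAvoid

theorem exists_affineOpen_of_finite {R A : Type u} [CommRing R] [CommRing A] [Algebra R A]
    (𝒜 : ℕ → Submodule R A) [GradedAlgebra 𝒜] {X : Scheme.{u}} (ι : X ⟶ Proj 𝒜) [IsImmersion ι]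
    (E : Set X) (hE : E.Finite) :
    ∃ U : X.Opens, IsAffineOpen U ∧ E ⊆ U := by
  classical
  let W : (Proj 𝒜).Opens := ι.coborderRange
  have hιW : ∀ e : X, ι e ∈ W := fun e => by
    have : ι e ∈ Set.range ι := ⟨e, rfl⟩
    exact subset_coborder this
  let T : Set (ProjectiveSpectrum 𝒜) := (W : Set (Proj 𝒜))ᶜ
  have hT : IsClosed T := W.isOpen.isClosed_compl
  let I : HomogeneousIdeal 𝒜 := ProjectiveSpectrum.vanishingIdeal T
  have hzl : ProjectiveSpectrum.zeroLocus 𝒜 (I : Set A) = T := by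
    rw [ProjectiveSpectrum.zeroLocus_vanishingIdeal_eq_closure, hT.closure_eq]
  let J : Ideal A := I.toIdeal * (HomogeneousIdeal.irrelevant 𝒜).toIdeal
  have hJh : J.IsHomogeneous 𝒜 := I.isHomogeneous.mul (HomogeneousIdeal.irrelevant 𝒜).isHomogeneous
  have hJirr : J ≤ (HomogeneousIdeal.irrelevant 𝒜).toIdeal := Ideal.mul_le_right
  let pt : X → ProjectiveSpectrum 𝒜 := fun e => ι e
  let P : Finset (Ideal A) := hE.toFinset.image (fun e => (pt e).asHomogeneousIdeal.toIdeal)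
  have hP : ∀ p ∈ P, p.IsPrime ∧ ¬ J ≤ p := by
    intro p hp
    obtain ⟨e, he, rfl⟩ := Finset.mem_image.mp hp
    refine ⟨(pt e).isPrime, fun hle => ?_⟩
    rcases (Ideal.IsPrime.mul_le (pt e).isPrime).mp hle with h1 | h2
    · have : ι e ∈ T := by
        rw [← hzl]
        exact h1
      exact this (hιW e)
    · exact (pt e).not_irrelevant_le h2
  obtain ⟨x, d, hd, hxd, hxJ, hxP⟩ := exists_homogeneous_avoid 𝒜 J hJh hJirr P hP
  have hxI : x ∈ I.toIdeal := Ideal.mul_le_left hxJ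
  have hDW : Proj.basicOpen 𝒜 x ≤ W := by
    intro q hq
    by_contra hqW
    have hqT : q ∈ T := hqW
    have hxq := (ProjectiveSpectrum.mem_vanishingIdeal T x).mp hxI q hqT
    exact (Proj.mem_basicOpen 𝒜 x q).mp hq hxq
  have haff : IsAffineOpen (Proj.basicOpen 𝒜 x) := Proj.isAffineOpen_basicOpen 𝒜 x hxd hd
  refine ⟨ι ⁻¹ᵁ Proj.basicOpen 𝒜 x, ?_, ?_⟩
  · have h1 : IsAffineOpen (W.ι ⁻¹ᵁ Proj.basicOpen 𝒜 x) :=
      haff.preimage_of_isOpenImmersion W.ι (by simpa using hDW)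
    have h2 := h1.preimage ι.liftCoborder
    rwa [← Scheme.Hom.comp_preimage, ι.liftCoborder_ι] at h2
  · intro e he
    exact (Proj.mem_basicOpen 𝒜 x (ι e)).mpr
      (hxP _ (Finset.mem_image.mpr ⟨e, hE.mem_toFinset.mpr he, rfl⟩))

end Groth.Agent.Lib.Seat32.ProjAffine
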