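import Mathlib
import Groth.Prelude.Def_Cyc
import Groth.Agent.Lib.Seat32PullDivGen
import Groth.Agent.Lib.Seat32PullBC

/-!
# Flat pullback preserves rational equivalence (helper32, S1940 and S1856)
-/

set_option autoImplicit false
set_option linter.style.haveILetI false
universe u
open CategoryTheory AlgebraicGeometry TopologicalSpace IsLocalRing

namespace Groth.Agent.Lib.Seat32.PullRat

open Groth.Agent.Lib.Seat32.PullDivGen Groth.Agent.Lib.Seat32.PullDiv
open Groth.Agent.Lib.Seat28.FibreMax Groth.Agent.Lib.Seat28.OrdFrac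

section generic

/-- iterated `finsum` over a sigma type. -/
theorem finsum_sigma {ι : Type*} {κ : ι → Type*} (F : (Σ i, κ i) → ℤ)
    (hF : (Function.support F).Finite) :
    ∑ᶠ j, F j = ∑ᶠ i, ∑ᶠ η, F ⟨i, η⟩ := by
  classical
  set s := hF.toFinset with hs
  have hsupp : Function.support F ⊆ ↑s := by rw [hs, Set.Finite.coe_toFinset]
  set t := s.image Sigma.fst with ht
  have hinner : ∀ i, (Function.support fun η : κ i => F ⟨i, η⟩) ⊆
      ↑(s.preimage (Sigma.mk i) (sigma_mk_injective.injOn)) := by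
    intro i η hη
    rw [Finset.coe_preimage]
    exact hsupp hη
  have houter : (Function.support fun i => ∑ᶠ η, F ⟨i, η⟩) ⊆ ↑t := by
    intro i hi
    by_contra hit
    apply hi
    apply finsum_eq_zero_of_forall_eq_zero
    intro η
    by_contra hη
    apply hit
    rw [ht, Finset.coe_image]
    exact ⟨⟨i, η⟩, hsupp hη, rfl⟩
  rw [finsum_eq_sum_of_support_subset _ houter]
  have hsub : s ⊆ t.sigma (fun i => s.preimage (Sigma.mk i) (sigma_mk_injective.injOn)) := by
    rintro ⟨i, η⟩ hj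
    rw [Finset.mem_sigma]
    refine ⟨?_, ?_⟩
    · rw [ht]; exact Finset.mem_image.2 ⟨⟨i, η⟩, hj, rfl⟩
    · rw [Finset.mem_preimage]; exact hj
  have hsupp' : Function.support F ⊆
      ↑(t.sigma (fun i => s.preimage (Sigma.mk i) (sigma_mk_injective.injOn))) :=
    hsupp.trans (Finset.coe_subset.2 hsub)
  rw [finsum_eq_sum_of_support_subset _ hsupp', Finset.sum_sigma]
  apply Finset.sum_congr rfl
  intro i _
  rw [finsum_eq_sum_of_support_subset _ (hinner i)]

/-- in a Noetherian quasi-sober space, a closed subset has finitely many points which are maximal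
under generization inside it. -/
theorem finite_maximal_points {T : Type*} [TopologicalSpace T] [NoetherianSpace T] [QuasiSober T]
    (Z : Set T) (hZ : IsClosed Z) : {z : T | z ∈ Z ∧ ∀ t ∈ Z, t ⤳ z → t = z}.Finite := by
  obtain ⟨S, hSf, hSc, hSi, hSU⟩ := NoetherianSpace.exists_finite_set_isClosed_irreducible hZ
  have hgen : ∀ C : S, ∃ g : T, IsGenericPoint g (C : Set T) := fun C =>
    QuasiSober.sober (hSi C.1 C.2) (hSc C.1 C.2)
  choose gp hgp using hgen
  haveI : Finite S := hSf.to_subtype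
  refine (Set.finite_range gp).subset ?_
  rintro z ⟨hzZ, hzmax⟩
  rw [hSU] at hzZ
  obtain ⟨C, hCS, hzC⟩ := hzZ
  refine ⟨⟨C, hCS⟩, ?_⟩
  have h1 : gp ⟨C, hCS⟩ ⤳ z := (hgp ⟨C, hCS⟩).specializes hzC
  have h2 : gp ⟨C, hCS⟩ ∈ Z := by
    rw [hSU]
    exact ⟨C, hCS, (hgp ⟨C, hCS⟩).mem⟩
  exact hzmax _ h2 h1

end generic


section main

variable {X X' : Scheme.{u}} (p : X' ⟶ X) (δ : X → ℤ) (δ' : X' → ℤ) (hX : Cyc.IsSetup X δ)
  (hX' : Cyc.IsSetup X' δ') (c : ℤ)
  (hc : ∀ x' : X', (∀ y, p y = p x' → y ⤳ x' → y = x') → δ' x' = δ (p x') + c)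

/-- the multiplicity as a natural number. -/
noncomputable def multN (ξ' : X') : ℕ :=
  (Module.length (X'.presheaf.stalk ξ') (X'.presheaf.stalk ξ' ⧸
    Ideal.map (p.stalkMap ξ').hom (maximalIdeal (X.presheaf.stalk (p ξ'))))).toNat

theorem mult_eq (ξ' : X') : mult p ξ' = (multN p ξ' : ℤ) := rfl

theorem divFun_pow (δ : X → ℤ) (ξ x : X) (g : X.residueField ξ) (hg : g ≠ 0) (n : ℕ) :
    Cyc.divFun δ ξ (g ^ n) x = n * Cyc.divFun δ ξ g x := by
  classical
  unfold Cyc.divFun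
  by_cases h : ξ ⤳ x ∧ δ x + 1 = δ ξ
  · rw [dif_pos h, dif_pos h]
    unfold Cyc.ordAt
    exact ordFrac_pow hg n
  · rw [dif_neg h, dif_neg h, mul_zero]

/-- local finiteness of the family of points maximal in the fibres over a locally finite family. -/
theorem locallyFinite_fibGen [IsLocallyNoetherian X'] {ι : Type u} (ξ : ι → X)
    (hlf : ∀ x : X, ∃ U : Set X, IsOpen U ∧ x ∈ U ∧ {i | (closure {ξ i} ∩ U).Nonempty}.Finite)
    (x' : X') :
    ∃ U' : Set X', IsOpen U' ∧ x' ∈ U' ∧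
      {j : Σ i, FibGen p (ξ i) | (closure {j.2.1} ∩ U').Nonempty}.Finite := by
  classical
  obtain ⟨U, hUo, hxU, hUf⟩ := hlf (p x')
  let U₀ : X.Opens := ⟨U, hUo⟩
  obtain ⟨V, hV, hxV, hVU⟩ := exists_isAffineOpen_mem_and_subset (U := p ⁻¹ᵁ U₀) (x := x') hxU
  haveI : IsNoetherianRing Γ(X', V) := IsLocallyNoetherian.component_noetherian ⟨V, hV⟩
  haveI : NoetherianSpace ↥V := noetherianSpace_of_isAffineOpen V hV
  haveI : QuasiSober ↥V := V.isOpenEmbedding'.quasiSober
  refine ⟨V, V.2, hxV, ?_⟩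
  have hfib : ∀ i, {η : FibGen p (ξ i) | η.1 ∈ V}.Finite := by
    intro i
    let Z : Set ↥V := {v | ξ i ⤳ p v.1}
    have hZ : IsClosed Z := by
      have : Z = (fun v : ↥V => p v.1) ⁻¹' closure {ξ i} := by
        ext v
        simp only [Z, Set.mem_ofPred_eq, Set.mem_preimage, specializes_iff_mem_closure]
      rw [this]
      exact isClosed_closure.preimage (p.continuous.comp continuous_subtype_val)
    have hfin := finite_maximal_points Z hZ
    refine Set.Finite.of_injOn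
      (f := fun η : FibGen p (ξ i) =>
        (if h : η.1 ∈ V then (⟨η.1, h⟩ : ↥V) else ⟨x', hxV⟩)) ?_ ?_ hfin
    · intro η hη
      have hη' : η.1 ∈ V := hη
      simp only [dif_pos hη']
      refine ⟨?_, ?_⟩
      · show ξ i ⤳ p η.1
        rw [η.2.1]
      · intro t ht hsp
        have hsp' : t.1 ⤳ η.1 := (subtype_specializes_iff t ⟨η.1, hη'⟩).1 hsp
        have hpt : p t.1 = p η.1 := by
          have h1 : p t.1 ⤳ p η.1 := p.base.hom.map_specializes hsp'
          have ht' : ξ i ⤳ p t.1 := ht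
          rw [η.2.1] at h1 ⊢
          exact (h1.antisymm ht').eq
        exact Subtype.ext (η.2.2 t.1 hpt hsp')
    · intro η₁ h₁ η₂ h₂ h
      have h₁' : η₁.1 ∈ V := h₁
      have h₂' : η₂.1 ∈ V := h₂
      simp only [dif_pos h₁', dif_pos h₂'] at h
      have h' : ((⟨η₁.1, h₁'⟩ : ↥V) : X') = ((⟨η₂.1, h₂'⟩ : ↥V) : X') :=
        congrArg (fun v : ↥V => (v : X')) h
      exact Subtype.ext h'
  have hS : {i | ξ i ∈ U}.Finite := hUf.subset (fun i hi => ⟨ξ i, subset_closure rfl, hi⟩)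
  have hsub : {j : Σ i, FibGen p (ξ i) | (closure {j.2.1} ∩ (V : Set X')).Nonempty} ⊆
      ⋃ i ∈ {i | ξ i ∈ U}, (Sigma.mk i) '' {η : FibGen p (ξ i) | η.1 ∈ V} := by
    rintro ⟨i, η⟩ ⟨y, hy, hyV⟩
    have hηV : η.1 ∈ V := (specializes_iff_mem_closure.2 hy).mem_open V.2 hyV
    have hiU : ξ i ∈ U := by
      rw [← η.2.1]
      exact hVU hηV
    exact Set.mem_iUnion₂.2 ⟨i, hiU, η, hηV, rfl⟩
  exact (Set.Finite.biUnion hS (fun i _ => (hfib i).image _)).subset hsub

include hX hX' hc in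
/-- **S1940**: flat pullback preserves rational equivalence to zero. -/
theorem ratEquivZero_pullFun [Flat p] (k : ℤ) (α : AlgebraicCycle X ℤ)
    (h0 : Cyc.RatEquivZero δ k α) (α' : AlgebraicCycle X' ℤ)
    (hα' : ⇑α' = Cyc.pullFun p δ' δ c ⇑α) : Cyc.RatEquivZero δ' (k + c) α' := by
  classical
  obtain ⟨ι, ξ, f, hξk, hf0, hlf, hα⟩ := h0
  haveI : IsLocallyNoetherian X' := hX'.1
  let ι' : Type u := Σ i, FibGen p (ξ i)
  let ξ' : ι' → X' := fun j => j.2.1
  let g₀ : (j : ι') → X'.residueField (ξ' j) := fun j =>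
    (p.residueFieldMap j.2.1).hom ((X.residueFieldCongr j.2.2.1.symm).hom (f j.1))
  have hg₀ : ∀ j, g₀ j ≠ 0 := fun j =>
    (map_ne_zero_iff _ (RingHom.injective _)).2
      ((map_ne_zero_iff _ (RingHom.injective _)).2 (hf0 j.1))
  let g' : (j : ι') → X'.residueField (ξ' j) := fun j => g₀ j ^ multN p j.2.1
  refine ⟨ι', ξ', g', ?_, ?_, locallyFinite_fibGen p ξ hlf, ?_⟩
  · intro j
    show δ' j.2.1 = k + c + 1
    rw [delta_fibGen p δ δ' c hc (ξ j.1) j.2, hξk]
    ring
  · intro j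
    exact pow_ne_zero _ (hg₀ j)
  · intro x'
    rw [hα']
    have h1 : Cyc.pullFun p δ' δ c ⇑α x' =
        ∑ᶠ i, Cyc.pullFun p δ' δ c (Cyc.divFun δ (ξ i) (f i)) x' := by
      simp only [Cyc.pullFun]
      by_cases hx : δ' x' = δ (p x') + c
      · simp only [if_pos hx]
        rw [hα (p x'), finsum_mul]
      · simp only [if_neg hx]
        rw [finsum_zero]
    rw [h1]
    have h2 : ∀ i, Cyc.pullFun p δ' δ c (Cyc.divFun δ (ξ i) (f i)) x' =
        ∑ᶠ η : FibGen p (ξ i), Cyc.divFun δ' (ξ' ⟨i, η⟩) (g' ⟨i, η⟩) x' := by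
      intro i
      rw [pullFun_divFun_gen p δ δ' hX hX' c hc (ξ i) (f i) (hf0 i) x']
      apply finsum_congr
      intro η
      rw [mult_eq]
      exact (divFun_pow δ' η.1 x' (g₀ ⟨i, η⟩) (hg₀ ⟨i, η⟩) (multN p η.1)).symm
    rw [finsum_congr h2]
    symm
    apply finsum_sigma (F := fun j : ι' => Cyc.divFun δ' (ξ' j) (g' j) x')
    obtain ⟨U', hU'o, hxU', hfin⟩ := locallyFinite_fibGen p ξ hlf x'
    refine hfin.subset ?_
    intro j hj
    refine ⟨x', ?_, hxU'⟩
    by_contra hcl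
    apply hj
    exact divFun_not_specializes _ _ _ _ (fun h => hcl (specializes_iff_mem_closure.1 h))

end main

end Groth.Agent.Lib.Seat32.PullRat
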