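import Mathlib
import Groth.Prelude.Def_Cyc
import Groth.Agent.Lib.Seat32FinFlatDeg
import Groth.Agent.Lib.Seat32StalkBC
import Groth.Agent.Lib.Seat32BCGen
import Groth.Agent.Lib.Helper5FiberStalk

/-!
# The local identity behind flat base change of proper pushforward (helper32)

* `finsum_length_fibre` : for `E : Z ⟶ G` finite flat of constant rank `d`,
  `Σ_{w ↦ z} ℓ(O_{Z,w})·[κ(w):κ(z)] = ℓ(O_{G,z})·d`.
* `residueDegree_comp_left/right` : residue degrees and morphisms surjective on stalks.
* `nonempty_stalk_fiber_equiv'`, `length_stalk_fiber` : the local ring of a fibre (from helper5).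
* `fibMap f p y : (Y ×_X X' → Y)⁻¹(y) ⟶ p⁻¹(f y)`, a base change of `Spec κ(y) → Spec κ(f y)`:
  flat, and finite of rank `[κ(y):κ(f y)]` when that is finite.
* `push_pull_point` : `Σ_{y' ↦ (y,x')} ℓ(O_{y'}/𝔪_y O_{y'})·[κ(y'):κ(x')] = ℓ(O_{x'}/𝔪_x O_{x'})·[κ(y):κ(x)]`.
* `finite_setOf_fst_snd`, `residueDegree_snd_pos`.
-/

set_option autoImplicit false
set_option linter.style.haveILetI false
universe u
open CategoryTheory AlgebraicGeometry CategoryTheory.Limits IsLocalRing

namespace Groth.Agent.Lib.Seat32.PushPull

open Groth.Agent.Lib.Seat32.FinFlatDeg Groth.Agent.Lib.Seat32.StalkBC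
open Groth.Agent.Lib.Seat32.LenPow

section abstract

variable {Z G : Scheme.{u}}

/-- the length of the stalk at a point of the fibre of a finite flat morphism. -/
theorem finsum_length_fibre (E : Z ⟶ G) [IsFinite E] [Flat E] (d : ℕ)
    (hd : ∀ z : G, E.finrank z = d) (z : G) :
    ∑ᶠ w ∈ E ⁻¹' {z}, ((Module.length (Z.presheaf.stalk w) (Z.presheaf.stalk w)).toNat *
        E.residueDegree w) =
      (Module.length (G.presheaf.stalk z) (G.presheaf.stalk z)).toNat * d := by
  obtain ⟨V, hV, hzV, -⟩ := exists_isAffineOpen_mem_and_subset (X := G) (U := ⊤) (x := z) (by simp)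
  have key := finsum_fibre E hV d hd z hzV
  rw [← key, mul_finsum_mem]
  refine finsum_mem_congr rfl (fun w hw => ?_)
  obtain rfl : E w = z := hw
  have h1 := length_eq_mul_of_flat (E.stalkMap w).hom (Flat.stalkMap E w) (RingEquiv.refl _)
  have h2 : Module.length (Z.presheaf.stalk w) (Z.presheaf.stalk w ⧸
        Ideal.map (E.stalkMap w).hom (maximalIdeal (G.presheaf.stalk (E w)))) =
      Module.length (Z.presheaf.stalk w ⧸
        Ideal.map (E.stalkMap w).hom (maximalIdeal (G.presheaf.stalk (E w))))
        (Z.presheaf.stalk w ⧸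
          Ideal.map (E.stalkMap w).hom (maximalIdeal (G.presheaf.stalk (E w)))) :=
    Module.length_eq_of_surjective Ideal.Quotient.mk_surjective
  rw [h1, h2, ENat.toNat_mul, mul_assoc]

end abstract

section resdeg

variable {Z G X' Y' : Scheme.{u}}

theorem residueFieldMap_bijective_of_surjectiveOnStalks (c : Z ⟶ Y') [SurjectiveOnStalks c]
    (w : Z) : Function.Bijective (c.residueFieldMap w).hom := by
  refine ⟨RingHom.injective _, ?_⟩
  intro b
  obtain ⟨b, rfl⟩ := Z.residue_surjective w b
  obtain ⟨a, rfl⟩ := c.stalkMap_surjective w b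
  refine ⟨(Y'.residue (c w)).hom a, ?_⟩
  exact ConcreteCategory.congr_hom (Scheme.residue_residueFieldMap c w) a

theorem residueDegree_comp_left (c : Z ⟶ Y') [SurjectiveOnStalks c] (d : Y' ⟶ X') (w : Z) :
    (c ≫ d).residueDegree w = d.residueDegree (c w) := by
  unfold Scheme.Hom.residueDegree
  rw [Scheme.residueFieldMap_comp]
  letI A1 := (d.residueFieldMap (c w)).hom.toAlgebra
  letI A2 := (d.residueFieldMap (c w) ≫ c.residueFieldMap w).hom.toAlgebra
  let e : Y'.residueField (c w) ≃ₗ[X'.residueField (d (c w))] Z.residueField w :=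
    { RingEquiv.ofBijective (c.residueFieldMap w).hom
        (residueFieldMap_bijective_of_surjectiveOnStalks c w) with
      map_smul' := fun r b => by
        change (c.residueFieldMap w).hom ((d.residueFieldMap (c w)).hom r * b) =
          (c.residueFieldMap w).hom ((d.residueFieldMap (c w)).hom r) *
            (c.residueFieldMap w).hom b
        exact map_mul _ _ _ }
  exact e.finrank_eq.symm

theorem residueDegree_comp_right (a : Z ⟶ G) (b : G ⟶ X') [SurjectiveOnStalks b] (w : Z) :
    (a ≫ b).residueDegree w = a.residueDegree w := by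
  unfold Scheme.Hom.residueDegree
  rw [Scheme.residueFieldMap_comp]
  letI A1 := (a.residueFieldMap w).hom.toAlgebra
  letI A2 : Algebra (X'.residueField ((a ≫ b) w)) (Z.residueField w) :=
    (b.residueFieldMap (a w) ≫ a.residueFieldMap w).hom.toAlgebra
  refine Algebra.finrank_eq_of_equiv_equiv
    (RingEquiv.ofBijective (b.residueFieldMap (a w)).hom
        (residueFieldMap_bijective_of_surjectiveOnStalks b (a w))) (RingEquiv.refl _) ?_
  ext r
  rfl

end resdeg

section fibres

variable {X X' Y : Scheme.{u}} (f : Y ⟶ X) (p : X' ⟶ X)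

/-- the local ring of a fibre at a point is the local ring of the total space modulo the maximal
ideal of the base point. -/
theorem nonempty_stalk_fiber_equiv' {X Y : Scheme.{u}} (g : X ⟶ Y) (s : Y) (z : g.fiber s) :
    Nonempty ((g.fiber s).presheaf.stalk z ≃+* (X.presheaf.stalk (g.fiberι s z) ⧸
      Ideal.map (g.stalkMap (g.fiberι s z)).hom
        (maximalIdeal (Y.presheaf.stalk (g (g.fiberι s z)))))) := by
  have key : ∀ (x : X) (s : Y) (_ : g x = s) (z : g.fiber s), g.fiberι s z = x →
      Nonempty ((g.fiber s).presheaf.stalk z ≃+* (X.presheaf.stalk x ⧸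
        Ideal.map (g.stalkMap x).hom (maximalIdeal (Y.presheaf.stalk (g x))))) := by
    intro x s h
    subst h
    intro z hz
    exact Groth.Agent.Lib.Helper5.FiberStalk.nonempty_stalk_fiber_equiv g x z hz
  refine key (g.fiberι s z) s ?_ z rfl
  have : g.fiberι s z ∈ Set.range (g.fiberι s) := ⟨z, rfl⟩
  rw [g.range_fiberι] at this
  exact this

/-- the length of the local ring of a fibre. -/
theorem length_stalk_fiber {X Y : Scheme.{u}} (g : X ⟶ Y) (s : Y) (z : g.fiber s) :
    Module.length ((g.fiber s).presheaf.stalk z) ((g.fiber s).presheaf.stalk z) =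
      Module.length (X.presheaf.stalk (g.fiberι s z)) (X.presheaf.stalk (g.fiberι s z) ⧸
        Ideal.map (g.stalkMap (g.fiberι s z)).hom
          (maximalIdeal (Y.presheaf.stalk (g (g.fiberι s z))))) := by
  obtain ⟨e⟩ := nonempty_stalk_fiber_equiv' g s z
  rw [length_self_eq_of_ringEquiv e]
  exact (Module.length_eq_of_surjective Ideal.Quotient.mk_surjective).symm

/-- the comparison of the fibre of `Y ×_X X' → Y` over `y` with the fibre of `p` over `f y`. -/
noncomputable def fibMap (y : Y) : (pullback.fst f p).fiber y ⟶ p.fiber (f y) :=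
  pullback.map (pullback.fst f p) (Y.fromSpecResidueField y) p (X.fromSpecResidueField (f y))
    (pullback.snd f p) (Spec.map (f.residueFieldMap y)) f
    (IsPullback.of_hasPullback f p).flip.w.symm (by simp)

theorem isPullback_fibMap (y : Y) :
    IsPullback (fibMap f p y) ((pullback.fst f p).fiberToSpecResidueField y)
      (p.fiberToSpecResidueField (f y)) (Spec.map (f.residueFieldMap y)) :=
  isPullback_fiberToSpecResidueField_of_isPullback (IsPullback.of_hasPullback f p).flip y

theorem fibMap_fiberι (y : Y) :
    fibMap f p y ≫ p.fiberι (f y) = (pullback.fst f p).fiberι y ≫ pullback.snd f p :=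
  pullback.lift_fst _ _ _

theorem fibMap_fiberι_apply (y : Y) (w : (pullback.fst f p).fiber y) :
    p.fiberι (f y) (fibMap f p y w) = pullback.snd f p ((pullback.fst f p).fiberι y w) := by
  have := congrArg (fun φ : _ ⟶ X' => φ w) (fibMap_fiberι f p y)
  simpa using this

instance flat_fibMap (y : Y) : Flat (fibMap f p y) := by
  haveI : Flat (Spec.map (f.residueFieldMap y)) :=
    Groth.Agent.Lib.Seat32.BCGen.flat_SpecMap_of_field (Field.toIsField _) _
  exact MorphismProperty.of_isPullback (P := @Flat) (isPullback_fibMap f p y).flip inferInstance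

theorem isFinite_fibMap (y : Y) (hfin : (f.residueFieldMap y).hom.Finite) :
    IsFinite (fibMap f p y) := by
  haveI : IsFinite (Spec.map (f.residueFieldMap y)) := (IsFinite.SpecMap_iff _).mpr hfin
  exact MorphismProperty.of_isPullback (P := @IsFinite) (isPullback_fibMap f p y).flip
    inferInstance

theorem finrank_fibMap (y : Y) (hfin : (f.residueFieldMap y).hom.Finite)
    (z : p.fiber (f y)) :
    haveI := isFinite_fibMap f p y hfin
    (fibMap f p y).finrank z = f.residueDegree y := by
  haveI : IsFinite (Spec.map (f.residueFieldMap y)) := (IsFinite.SpecMap_iff _).mpr hfin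
  haveI : Flat (Spec.map (f.residueFieldMap y)) :=
    Groth.Agent.Lib.Seat32.BCGen.flat_SpecMap_of_field (Field.toIsField _) _
  have hflat : (f.residueFieldMap y).hom.Flat := Flat.SpecMap_iff.mp inferInstance
  rw [Scheme.Hom.finrank_of_isPullback _ _ _ _ (isPullback_fibMap f p y).flip z,
    Scheme.Hom.finrank_SpecMap_eq_finrank hfin hflat]
  unfold RingHom.finrank Scheme.Hom.residueDegree
  letI := (f.residueFieldMap y).hom.toAlgebra
  rw [Module.rankAtStalk_eq_finrank_of_free]
  rfl

end fibres

section core

variable {X X' Y : Scheme.{u}} (f : Y ⟶ X) (p : X' ⟶ X)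

theorem bijOn_fiberι (y : Y) (z : p.fiber (f y)) :
    Set.BijOn ((pullback.fst f p).fiberι y) (fibMap f p y ⁻¹' {z})
      {y' : ↥(pullback f p) | pullback.fst f p y' = y ∧
        pullback.snd f p y' = p.fiberι (f y) z} := by
  refine ⟨?_, ?_, ?_⟩
  · intro w hw
    have hw' : fibMap f p y w = z := hw
    refine ⟨?_, ?_⟩
    · have : (pullback.fst f p).fiberι y w ∈ Set.range ((pullback.fst f p).fiberι y) := ⟨w, rfl⟩
      rw [(pullback.fst f p).range_fiberι] at this
      exact this
    · rw [← fibMap_fiberι_apply, hw']
  · exact ((pullback.fst f p).fiberι y).isEmbedding.injective.injOn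
  · rintro y' ⟨hy1, hy2⟩
    have : y' ∈ Set.range ((pullback.fst f p).fiberι y) := by
      rw [(pullback.fst f p).range_fiberι]; exact hy1
    obtain ⟨w, rfl⟩ := this
    refine ⟨w, ?_, rfl⟩
    change fibMap f p y w = z
    apply (p.fiberι (f y)).isEmbedding.injective
    rw [fibMap_fiberι_apply, hy2]

theorem residueDegree_fibMap (y : Y) (w : (pullback.fst f p).fiber y) :
    (fibMap f p y).residueDegree w =
      (pullback.snd f p).residueDegree ((pullback.fst f p).fiberι y w) := by
  have := congrArg (fun φ : _ ⟶ X' => Scheme.Hom.residueDegree φ w) (fibMap_fiberι f p y)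
  simp only at this
  rw [residueDegree_comp_right, residueDegree_comp_left] at this
  exact this

theorem condition_apply (y' : ↥(pullback f p)) :
    f (pullback.fst f p y') = p (pullback.snd f p y') := by
  have := congrArg (fun φ : _ ⟶ X => φ y') (pullback.condition (f := f) (g := p))
  simpa using this

/-- **The local identity behind flat base change of proper pushforward.** -/
theorem push_pull_point (y : Y) (hfin : (f.residueFieldMap y).hom.Finite) (x' : X')
    (hx' : p x' = f y) :
    ∑ᶠ y' ∈ {y' : ↥(pullback f p) | pullback.fst f p y' = y ∧ pullback.snd f p y' = x'},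
      ((Module.length ((pullback f p).presheaf.stalk y') ((pullback f p).presheaf.stalk y' ⧸
        Ideal.map ((pullback.fst f p).stalkMap y').hom
          (maximalIdeal (Y.presheaf.stalk (pullback.fst f p y'))))).toNat *
        (pullback.snd f p).residueDegree y') =
    (Module.length (X'.presheaf.stalk x') (X'.presheaf.stalk x' ⧸
        Ideal.map (p.stalkMap x').hom (maximalIdeal (X.presheaf.stalk (p x'))))).toNat *
      f.residueDegree y := by
  haveI := isFinite_fibMap f p y hfin
  obtain ⟨z, hz⟩ : ∃ z : p.fiber (f y), p.fiberι (f y) z = x' := by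
    have : x' ∈ Set.range (p.fiberι (f y)) := by
      rw [p.range_fiberι]; exact hx'
    exact this
  subst hz
  have h1 := finsum_length_fibre (fibMap f p y) (f.residueDegree y) (finrank_fibMap f p y hfin) z
  rw [length_stalk_fiber p (f y) z] at h1
  rw [← h1]
  symm
  refine finsum_mem_eq_of_bijOn ((pullback.fst f p).fiberι y) (bijOn_fiberι f p y z)
    (fun w hw => ?_)
  rw [length_stalk_fiber (pullback.fst f p) y w, residueDegree_fibMap]

/-- finiteness of the set of points of `Y ×_X X'` over a pair `(y, x')` with `κ(y)/κ(f y)` finite. -/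
theorem finite_setOf_fst_snd (y : Y) (hfin : (f.residueFieldMap y).hom.Finite) (x' : X') :
    {y' : ↥(pullback f p) | pullback.fst f p y' = y ∧ pullback.snd f p y' = x'}.Finite := by
  by_cases hx' : p x' = f y
  · haveI := isFinite_fibMap f p y hfin
    obtain ⟨z, hz⟩ : ∃ z : p.fiber (f y), p.fiberι (f y) z = x' := by
      have : x' ∈ Set.range (p.fiberι (f y)) := by
        rw [p.range_fiberι]; exact hx'
      exact this
    subst hz
    rw [← (bijOn_fiberι f p y z).image_eq]
    exact ((fibMap f p y).finite_preimage_singleton z).image _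
  · convert Set.finite_empty
    ext y'
    simp only [Set.mem_ofPred_eq, Set.mem_empty_iff_false, iff_false]
    rintro ⟨h1, h2⟩
    apply hx'
    rw [← h1, ← h2, condition_apply]

/-- positivity of the residue degrees of `Y ×_X X' → X'` over points with `κ(y)/κ(f y)` finite. -/
theorem residueDegree_snd_pos (y' : ↥(pullback f p))
    (hfin : (f.residueFieldMap (pullback.fst f p y')).hom.Finite) :
    0 < (pullback.snd f p).residueDegree y' := by
  haveI := isFinite_fibMap f p (pullback.fst f p y') hfin
  have : y' ∈ Set.range ((pullback.fst f p).fiberι (pullback.fst f p y')) := by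
    rw [(pullback.fst f p).range_fiberι]; rfl
  obtain ⟨w, hw⟩ := this
  have h1 := Groth.Agent.Lib.Seat32.FinFlatDeg.residueDegree_pos
    (fibMap f p (pullback.fst f p y')) w
  rw [residueDegree_fibMap, hw] at h1
  exact h1

end core

end Groth.Agent.Lib.Seat32.PushPull
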