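import Groth.Agent.Lib.Seat32PushPull
import Groth.Agent.Lib.Seat28FibreMax
import Groth.Agent.Lib.Seat32PushPullAux

/-!
# Flat base change commutes with proper pushforward of cycles (helper32, S1941, S1858)

`pullFun_map_baseChange`: for `f : Y ⟶ X` proper, `p : X' ⟶ X` arbitrary with a dimension function
`δ'` on `X'` which is `δ ∘ p + c` at the maximal points of the fibres of `p`,
`p^* f_* α = f'_* q^* α` coefficientwise.  The local input is `push_pull_point`
(`Seat32PushPull.lean`).
-/

set_option autoImplicit false
set_option linter.style.haveILetI false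
universe u
open CategoryTheory AlgebraicGeometry CategoryTheory.Limits IsLocalRing

namespace Groth.Agent.Lib.Seat32.PushPull

section main

variable {X X' Y : Scheme.{u}}

open Groth.Agent.Lib.Seat28.FibreMax

/-- **Flat base change commutes with proper pushforward of cycles** (base-free form). -/
theorem pullFun_map_baseChange (f : Y ⟶ X) (p : X' ⟶ X) [IsProper f]
    (δ : X → ℤ) (δ' : X' → ℤ) (δY : Y → ℤ) (δY' : ↥(pullback f p) → ℤ)
    (hdim' : Cyc.IsDimFun X' δ') (hf : Cyc.DeltaCompat f δY δ)
    (hf' : Cyc.DeltaCompat (pullback.snd f p) δY' δ') (c : ℤ)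
    (hc : ∀ x' : X', (∀ y, p y = p x' → y ⤳ x' → y = x') → δ' x' = δ (p x') + c)
    (α : AlgebraicCycle Y ℤ) (α' : AlgebraicCycle (pullback f p) ℤ)
    (hα' : ⇑α' = Cyc.pullFun (pullback.fst f p) δY' δY c ⇑α) :
    Cyc.pullFun p δ' δ c ⇑(AlgebraicCycle.map f δY δ α) =
      ⇑(AlgebraicCycle.map (pullback.snd f p) δY' δ' α') := by
  classical
  funext x'
  let Lq : ↥(pullback f p) → ℕ := fun y' =>
    (Module.length ((pullback f p).presheaf.stalk y') ((pullback f p).presheaf.stalk y' ⧸
      Ideal.map ((pullback.fst f p).stalkMap y').hom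
        (maximalIdeal (Y.presheaf.stalk (pullback.fst f p y'))))).toNat
  let T : ↥(pullback f p) → ℤ := fun y' =>
    α' y' * ((AlgebraicCycle.mapCoeff (pullback.snd f p) δY' δ' y' : ℕ) : ℤ)
  have e1 : ∀ y', α' y' = if δY' y' = δY (pullback.fst f p y') + c then
      α (pullback.fst f p y') * (Lq y' : ℤ) else 0 := fun y' => congrFun hα' y'
  have e2 : ∀ y', AlgebraicCycle.mapCoeff (pullback.snd f p) δY' δ' y' =
      if δY' y' = δ' (pullback.snd f p y') then (pullback.snd f p).residueDegree y' else 0 :=
    fun y' => rfl
  have hRHS : (AlgebraicCycle.map (pullback.snd f p) δY' δ' α') x' =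
      ∑ᶠ y' ∈ (pullback.snd f p) ⁻¹' {x'}, T y' := rfl
  have hmapf : (AlgebraicCycle.map f δY δ α) (p x') =
      ∑ᶠ y ∈ f ⁻¹' {p x'}, α y * ((AlgebraicCycle.mapCoeff f δY δ y : ℕ) : ℤ) := rfl
  rw [hRHS]
  change (if δ' x' = δ (p x') + c then (AlgebraicCycle.map f δY δ α) (p x') * _ else 0) = _
  by_cases hx' : δ' x' = δ (p x') + c
  · rw [if_pos hx', hmapf]
    -- the terms of the right hand side
    have hT : ∀ y', pullback.snd f p y' = x' → T y' =
        if δY (pullback.fst f p y') = δ (f (pullback.fst f p y')) then
          α (pullback.fst f p y') * ((Lq y' * (pullback.snd f p).residueDegree y' : ℕ) : ℤ)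
        else 0 := by
      intro y' hy'
      have hcond : f (pullback.fst f p y') = p x' := by rw [condition_apply, hy']
      by_cases hδy : δY (pullback.fst f p y') = δ (f (pullback.fst f p y'))
      · rw [if_pos hδy]
        have hfin := finite_residueFieldMap_of_delta_eq f δY δ hf _ hδy
        have hpos := residueDegree_snd_pos f p y' hfin
        have hd1 : δY' y' = δ' (pullback.snd f p y') :=
          delta_eq_of_residueDegree_pos (pullback.snd f p) δY' δ' hf' y' hpos
        have hd2 : δY' y' = δY (pullback.fst f p y') + c := by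
          rw [hd1, hy', hx', ← hcond, hδy]
        change α' y' * ((AlgebraicCycle.mapCoeff (pullback.snd f p) δY' δ' y' : ℕ) : ℤ) = _
        rw [e1, e2, if_pos hd2, if_pos hd1]
        push_cast
        ring
      · rw [if_neg hδy]
        change α' y' * ((AlgebraicCycle.mapCoeff (pullback.snd f p) δY' δ' y' : ℕ) : ℤ) = _
        rw [e1, e2]
        by_cases hd1 : δY' y' = δ' (pullback.snd f p y')
        · by_cases hd2 : δY' y' = δY (pullback.fst f p y') + c
          · exfalso
            apply hδy
            rw [hy', hx', ← hcond] at hd1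
            omega
          · rw [if_neg hd2, zero_mul]
        · rw [if_neg hd1, Nat.cast_zero, mul_zero]
    -- finiteness
    have hA : (f ⁻¹' {p x'} ∩ Function.support ⇑α).Finite :=
      (Function.locallyFinsupp.locallyFiniteSupport α).finite_inter_support_of_isCompact
        (f.isCompact_preimage_singleton (p x'))
    have hfinT : ((pullback.snd f p) ⁻¹' {x'} ∩ Function.support T).Finite := by
      refine Set.Finite.subset (Set.Finite.biUnion
        (hA.inter_of_left {y | δY y = δ (f y)})
        (t := fun y => {y' : ↥(pullback f p) | pullback.fst f p y' = y ∧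
          pullback.snd f p y' = x'} ∩ {y' | δY (pullback.fst f p y') =
            δ (f (pullback.fst f p y'))}) ?_) ?_
      · rintro y ⟨-, hy⟩
        refine (finite_setOf_fst_snd f p y
          (finite_residueFieldMap_of_delta_eq f δY δ hf y hy) x').inter_of_left _
      · rintro y' ⟨hy', hne⟩
        have hy'' : pullback.snd f p y' = x' := hy'
        have hTy := hT y' hy''
        have hne' : T y' ≠ 0 := hne
        have hδy : δY (pullback.fst f p y') = δ (f (pullback.fst f p y')) := by
          by_contra h
          rw [if_neg h] at hTy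
          exact hne' hTy
        rw [if_pos hδy] at hTy
        have hα0 : α (pullback.fst f p y') ≠ 0 := by
          intro h0
          rw [h0, zero_mul] at hTy
          exact hne' hTy
        rw [Set.mem_iUnion₂]
        refine ⟨pullback.fst f p y', ⟨⟨?_, hα0⟩, hδy⟩, ⟨rfl, hy''⟩, hδy⟩
        change f (pullback.fst f p y') = p x'
        rw [condition_apply, hy'']
    rw [finsum_mem_fiberwise (pullback.fst f p) ((pullback.snd f p) ⁻¹' {x'}) (f ⁻¹' {p x'})
      (fun y' hy' => by
        change f (pullback.fst f p y') = p x'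
        rw [condition_apply, show pullback.snd f p y' = x' from hy']) T hfinT,
      finsum_mem_mul]
    refine finsum_mem_congr rfl (fun y hy => ?_)
    have hy' : f y = p x' := hy
    by_cases hδy : δY y = δ (f y)
    · have hfin := finite_residueFieldMap_of_delta_eq f δY δ hf y hδy
      have hpp := push_pull_point f p y hfin x' hy'.symm
      have hSfin := finite_setOf_fst_snd f p y hfin x'
      have hterm : ∀ y' ∈ {a : ↥(pullback f p) | pullback.fst f p a = y ∧
          a ∈ (pullback.snd f p) ⁻¹' {x'}}, T y' =
          α y * ((Lq y' * (pullback.snd f p).residueDegree y' : ℕ) : ℤ) := by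
        rintro y' ⟨h1, h2⟩
        rw [hT y' h2, h1, if_pos hδy]
      rw [finsum_mem_congr rfl hterm, ← mul_finsum_mem]
      have hcast : ∑ᶠ y' ∈ {a : ↥(pullback f p) | pullback.fst f p a = y ∧
          a ∈ (pullback.snd f p) ⁻¹' {x'}},
          ((Lq y' * (pullback.snd f p).residueDegree y' : ℕ) : ℤ) =
          ((∑ᶠ y' ∈ {a : ↥(pullback f p) | pullback.fst f p a = y ∧
            a ∈ (pullback.snd f p) ⁻¹' {x'}},
            (Lq y' * (pullback.snd f p).residueDegree y') : ℕ) : ℤ) :=
        ((Nat.castAddMonoidHom ℤ).map_finsum_mem _ hSfin).symm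
      rw [hcast]
      have hpp' : ∑ᶠ y' ∈ {a : ↥(pullback f p) | pullback.fst f p a = y ∧
            a ∈ (pullback.snd f p) ⁻¹' {x'}},
            (Lq y' * (pullback.snd f p).residueDegree y') = _ := hpp
      rw [hpp']
      have hmc : AlgebraicCycle.mapCoeff f δY δ y = f.residueDegree y := if_pos hδy
      rw [hmc]
      push_cast
      ring
    · have hmc : AlgebraicCycle.mapCoeff f δY δ y = 0 := if_neg hδy
      rw [hmc, Nat.cast_zero, mul_zero, zero_mul]
      symm
      apply finsum_mem_eq_zero_of_forall_eq_zero
      rintro y' ⟨h1, h2⟩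
      rw [hT y' h2, h1, if_neg hδy]
  · rw [if_neg hx']
    symm
    apply finsum_mem_eq_zero_of_forall_eq_zero
    intro y' hy'
    have hy'' : pullback.snd f p y' = x' := hy'
    change α' y' * ((AlgebraicCycle.mapCoeff (pullback.snd f p) δY' δ' y' : ℕ) : ℤ) = 0
    rw [e1, e2]
    by_cases hd1 : δY' y' = δ' (pullback.snd f p y')
    · by_cases hd2 : δY' y' = δY (pullback.fst f p y') + c
      · exfalso
        apply hx'
        obtain ⟨n, -, hn⟩ := hf (pullback.fst f p y')
        have hle := delta_le p δ δ' hdim' c hc x'
        have hcond : f (pullback.fst f p y') = p x' := by rw [condition_apply, hy'']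
        rw [hy''] at hd1
        rw [hcond] at hn
        omega
      · rw [if_neg hd2, zero_mul]
    · rw [if_neg hd1, Nat.cast_zero, mul_zero]

end main

end Groth.Agent.Lib.Seat32.PushPull
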