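import Mathlib

/-!
# Residue fields of points of fibre products are generated by the residue fields of the projections (seat 32)

* `epi_specMap_of_field`: `Spec Ω ⟶ Spec E` is an epimorphism of schemes for a field extension `E → Ω`.
* `fieldPt_eq`: description of the field point `Spec.map σ ≫ X.fromSpecResidueField x`.
* `mem_of_isPullback`: for a cartesian square `P = X ×_S Y` and `t : P`, any subfield of `κ(t)` containing the
  images of `κ(fst t)` and `κ(snd t)` is everything.
* `mem_of_isPullback_fieldPt`: the same for a field valued point `ξ : Spec Ω ⟶ P` and subfields of `Ω`.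
* `ev_surjective_of_specMap`, `isIso_residueFieldMap_of_comp_specMap`: residue field isomorphisms from field points
  of affine schemes given by surjective ring maps.
-/

set_option autoImplicit false
set_option linter.style.haveILetI false
universe u

open CategoryTheory CategoryTheory.Limits AlgebraicGeometry

namespace Groth.Agent.Lib.Seat32.ResFieldGen

lemma epi_specMap_of_field {E Ω : Type u} [Field E] [Field Ω] (ι : E →+* Ω) :
    Epi (Spec.map (CommRingCat.ofHom ι)) := by
  haveI : Flat (Spec.map (CommRingCat.ofHom ι)) := by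
    rw [HasRingHomProperty.Spec_iff (P := @Flat)]
    letI : Algebra E Ω := ι.toAlgebra
    show Module.Flat E Ω
    infer_instance
  haveI : Surjective (Spec.map (CommRingCat.ofHom ι)) := by
    constructor
    intro y
    obtain ⟨z⟩ : Nonempty (Spec (CommRingCat.of Ω)) := inferInstanceAs (Nonempty (PrimeSpectrum Ω))
    exact ⟨z, Subsingleton.elim (α := PrimeSpectrum E) _ _⟩
  exact Flat.epi_of_flat_of_surjective _

/-- The centre of a field valued point. -/
noncomputable abbrev ctr {X : Scheme.{u}} {Ω : Type u} [Field Ω] (ξ : Spec (.of Ω) ⟶ X) : X :=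
  ξ (IsLocalRing.closedPoint Ω)

/-- The residue field embedding of a field valued point. -/
noncomputable abbrev ev {X : Scheme.{u}} {Ω : Type u} [Field Ω] (ξ : Spec (.of Ω) ⟶ X) :
    X.residueField (ctr ξ) ⟶ .of Ω :=
  X.descResidueField (Scheme.stalkClosedPointTo ξ)

lemma ev_fromSpecResidueField {X : Scheme.{u}} {Ω : Type u} [Field Ω] (ξ : Spec (.of Ω) ⟶ X) :
    Spec.map (ev ξ) ≫ X.fromSpecResidueField (ctr ξ) = ξ :=
  Scheme.descResidueField_stalkClosedPointTo_fromSpecResidueField Ω X ξ

lemma ev_comp {X Y : Scheme.{u}} {Ω : Type u} [Field Ω] (ξ : Spec (.of Ω) ⟶ X) (f : X ⟶ Y) :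
    ev (ξ ≫ f) = f.residueFieldMap (ctr ξ) ≫ ev ξ :=
  Scheme.descResidueField_stalkClosedPointTo_comp f ξ

lemma fieldPt_eq {X : Scheme.{u}} {Ω : Type u} [Field Ω] (x : X) (σ : X.residueField x ⟶ .of Ω)
    (ξ : Spec (.of Ω) ⟶ X) (hξ : ξ = Spec.map σ ≫ X.fromSpecResidueField x) :
    ∃ e : ctr ξ = x, ev ξ = (X.residueFieldCongr e).hom ≫ σ := by
  have h := (Scheme.SpecToEquivOfField Ω X).right_inv ⟨x, σ⟩
  have h2 : (Scheme.SpecToEquivOfField Ω X) ξ = ⟨x, σ⟩ := by
    rw [hξ]; exact h
  exact Scheme.SpecToEquivOfField_eq_iff.mp h2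


/-- For a cartesian square `P = X ×_S Y` and `t : P`, any subfield of `κ(t)` containing the images of `κ(fst t)`
and `κ(snd t)` is all of `κ(t)`. -/
theorem mem_of_isPullback {P X Y S : Scheme.{u}} {fst : P ⟶ X} {snd : P ⟶ Y} {f : X ⟶ S} {g : Y ⟶ S}
    (h : IsPullback fst snd f g) (t : P) (E : Subfield (P.residueField t))
    (hX : ∀ a, fst.residueFieldMap t a ∈ E) (hY : ∀ b, snd.residueFieldMap t b ∈ E) :
    ∀ z, z ∈ E := by
  let ιE : ↥E →+* P.residueField t := E.subtype
  let αX : X.residueField (fst t) ⟶ CommRingCat.of ↥E :=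
    CommRingCat.ofHom ((fst.residueFieldMap t).hom.codRestrict E hX)
  let αY : Y.residueField (snd t) ⟶ CommRingCat.of ↥E :=
    CommRingCat.ofHom ((snd.residueFieldMap t).hom.codRestrict E hY)
  have hαX : αX ≫ CommRingCat.ofHom ιE = fst.residueFieldMap t := by ext; rfl
  have hαY : αY ≫ CommRingCat.ofHom ιE = snd.residueFieldMap t := by ext; rfl
  let a' : Spec (.of ↥E) ⟶ X := Spec.map αX ≫ X.fromSpecResidueField (fst t)
  let b' : Spec (.of ↥E) ⟶ Y := Spec.map αY ≫ Y.fromSpecResidueField (snd t)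
  have ha' : Spec.map (CommRingCat.ofHom ιE) ≫ a' = P.fromSpecResidueField t ≫ fst := by
    rw [← Category.assoc, ← Spec.map_comp, hαX,
      Scheme.Hom.SpecMap_residueFieldMap_fromSpecResidueField]
  have hb' : Spec.map (CommRingCat.ofHom ιE) ≫ b' = P.fromSpecResidueField t ≫ snd := by
    rw [← Category.assoc, ← Spec.map_comp, hαY,
      Scheme.Hom.SpecMap_residueFieldMap_fromSpecResidueField]
  haveI := epi_specMap_of_field ιE
  have hab : a' ≫ f = b' ≫ g := by
    rw [← cancel_epi (Spec.map (CommRingCat.ofHom ιE)), ← Category.assoc, ha', ← Category.assoc, hb',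
      Category.assoc, Category.assoc, h.w]
  obtain ⟨c, hc1, hc2⟩ : ∃ c : Spec (.of ↥E) ⟶ P, c ≫ fst = a' ∧ c ≫ snd = b' :=
    ⟨h.lift a' b' hab, h.lift_fst _ _ _, h.lift_snd _ _ _⟩
  have hc : Spec.map (CommRingCat.ofHom ιE) ≫ c = P.fromSpecResidueField t := by
    apply h.hom_ext
    · rw [Category.assoc, hc1, ha']
    · rw [Category.assoc, hc2, hb']
  have h1 := ev_fromSpecResidueField c
  have h2 : P.fromSpecResidueField t =
      Spec.map (ev c ≫ CommRingCat.ofHom ιE) ≫ P.fromSpecResidueField (ctr c) := by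
    rw [Spec.map_comp, Category.assoc, h1, hc]
  have h3 : (⟨t, 𝟙 _⟩ : Σ x, P.residueField x ⟶ .of (P.residueField t)) =
      ⟨ctr c, ev c ≫ CommRingCat.ofHom ιE⟩ := by
    apply (Scheme.SpecToEquivOfField (P.residueField t) P).symm.injective
    show Spec.map (𝟙 _) ≫ P.fromSpecResidueField t =
      Spec.map (ev c ≫ CommRingCat.ofHom ιE) ≫ P.fromSpecResidueField (ctr c)
    rw [Spec.map_id, Category.id_comp]; exact h2
  obtain ⟨e, he⟩ := Scheme.SpecToEquivOfField_eq_iff.mp h3
  intro z
  have hz : z = ιE ((ev c) ((P.residueFieldCongr e).hom z)) := by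
    have := congr($he z)
    simpa using this
  rw [hz]; exact Subtype.property _

/-- For a cartesian square `P = X ×_S Y` and a field valued point `ξ : Spec Ω ⟶ P`, any subfield of `Ω` containing
the images of the residue fields of the two projections of `ξ` contains the image of the residue field of `ξ`. -/
theorem mem_of_isPullback_fieldPt {P X Y S : Scheme.{u}} {fst : P ⟶ X} {snd : P ⟶ Y} {f : X ⟶ S}
    {g : Y ⟶ S} (h : IsPullback fst snd f g) {Ω : Type u} [Field Ω] (ξ : Spec (.of Ω) ⟶ P)
    (E : Subfield Ω) (hX : ∀ a, ev (ξ ≫ fst) a ∈ E) (hY : ∀ b, ev (ξ ≫ snd) b ∈ E) :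
    ∀ z, ev ξ z ∈ E := by
  have key := mem_of_isPullback h (ctr ξ) (E.comap (ev ξ).hom) ?_ ?_
  · intro z; exact key z
  · intro a
    have := hX a
    rw [ev_comp] at this
    exact this
  · intro b
    have := hY b
    rw [ev_comp] at this
    exact this

/-- For a field valued point of an affine scheme given by a surjective ring map, the residue field embedding is
surjective. -/
theorem ev_surjective_of_specMap {R : CommRingCat.{u}} {Ω : Type u} [Field Ω]
    (ζ : Spec (.of Ω) ⟶ Spec R) (φ : R ⟶ .of Ω) (hζ : ζ = Spec.map φ)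
    (hφ : Function.Surjective φ.hom) : Function.Surjective (ev ζ).hom := by
  subst hζ
  intro y
  obtain ⟨x, rfl⟩ := hφ y
  have h1 := Scheme.germ_stalkClosedPointTo_Spec φ
  have h2 := Scheme.residue_descResidueField (Scheme.stalkClosedPointTo (Spec.map φ))
  refine ⟨(Spec R).residue _ ((Spec R).presheaf.germ ⊤ _ trivial ((Scheme.ΓSpecIso R).inv x)), ?_⟩
  have h3 : ((Scheme.ΓSpecIso R).inv ≫ (Spec R).presheaf.germ ⊤ _ trivial ≫ (Spec R).residue _ ≫
      ev (Spec.map φ)) = φ := by
    rw [show (Spec R).residue _ ≫ ev (Spec.map φ) = Scheme.stalkClosedPointTo (Spec.map φ) from h2, h1,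
      Iso.inv_hom_id_assoc]
  exact congr($h3 x)

/-- If `ξ ≫ π` is `Spec` of a surjective ring map (onto the field `Ω`), then `π` induces an isomorphism of residue
fields at the centre of `ξ`. -/
theorem isIso_residueFieldMap_of_comp_specMap {Y : Scheme.{u}} {R : CommRingCat.{u}} {Ω : Type u} [Field Ω]
    (ξ : Spec (.of Ω) ⟶ Y) (π : Y ⟶ Spec R) (φ : R ⟶ .of Ω) (h : ξ ≫ π = Spec.map φ)
    (hφ : Function.Surjective φ.hom) : IsIso (π.residueFieldMap (ctr ξ)) := by
  have hs := ev_surjective_of_specMap (ξ ≫ π) φ h hφ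
  rw [ConcreteCategory.isIso_iff_bijective]
  refine ⟨(π.residueFieldMap (ctr ξ)).hom.injective, fun y => ?_⟩
  obtain ⟨z, hz⟩ := hs ((ev ξ) y)
  refine ⟨z, (ev ξ).hom.injective ?_⟩
  rw [ev_comp] at hz
  exact hz

end Groth.Agent.Lib.Seat32.ResFieldGen
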