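import Mathlib

/-!
# Free composita and transcendence degree (seat 32)

Pure field theory used for residue fields of points of fibre products.
* `isAlgebraic_adjoin_of_gen`: if `M` is generated as a field by `F` and the image of `L`, and `L` is algebraic over
  `K[t]`, then `M` is algebraic over `F[t]`.
* `exists_free_compositum`: given `L/K`, `L₁ = K₁·L`, `L₂ = K₂·L` all of the same finite transcendence degree `r`,
  there are an algebraically closed `Ω` and embeddings of `L₁`, `L₂` agreeing on `L` such that a transcendence basis of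
  `L/K` stays algebraically independent over a subfield of `Ω` containing the images of `K₁` and `K₂`.
-/

set_option autoImplicit false
set_option linter.style.haveILetI false
universe u

open Algebra Cardinal

namespace Groth.Agent.Lib.Seat32.TrdegFree

theorem isAlgebraic_adjoin_of_gen {K L F M : Type*} [Field K] [Field L] [Field F] [Field M]
    [Algebra K L] [Algebra K F] [Algebra F M] [Algebra L M] [Algebra K M]
    [IsScalarTower K F M] [IsScalarTower K L M]
    (hgen : ∀ E : Subfield M, (∀ a : F, algebraMap F M a ∈ E) → (∀ b : L, algebraMap L M b ∈ E) →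
      ∀ z : M, z ∈ E)
    {ι : Type*} (t : ι → L) [Algebra.IsAlgebraic (Algebra.adjoin K (Set.range t)) L] :
    Algebra.IsAlgebraic (Algebra.adjoin F (Set.range (algebraMap L M ∘ t))) M := by
  set s := Set.range (algebraMap L M ∘ t) with hs
  rw [← IntermediateField.isAlgebraic_adjoin_iff_top]
  have hmem : ∀ x : L, x ∈ Algebra.adjoin K (Set.range t) →
      algebraMap L M x ∈ IntermediateField.adjoin F s := by
    intro x hx
    induction hx using Algebra.adjoin_induction with
    | mem x hx =>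
      obtain ⟨i, rfl⟩ := hx
      exact IntermediateField.subset_adjoin F s ⟨i, rfl⟩
    | algebraMap r =>
      rw [← IsScalarTower.algebraMap_apply K L M, IsScalarTower.algebraMap_apply K F M]
      exact (IntermediateField.adjoin F s).algebraMap_mem _
    | add x y _ _ hx hy => rw [map_add]; exact add_mem hx hy
    | mul x y _ _ hx hy => rw [map_mul]; exact mul_mem hx hy
  constructor
  intro z
  have key := hgen (algebraicClosure (IntermediateField.adjoin F s) M).toSubfield ?_ ?_ z
  · exact mem_algebraicClosure_iff.1 key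
  · intro a
    show algebraMap F M a ∈ algebraicClosure (IntermediateField.adjoin F s) M
    rw [mem_algebraicClosure_iff]
    exact isAlgebraic_algebraMap
      (⟨algebraMap F M a, (IntermediateField.adjoin F s).algebraMap_mem a⟩ : IntermediateField.adjoin F s)
  · intro b
    show algebraMap L M b ∈ algebraicClosure (IntermediateField.adjoin F s) M
    rw [mem_algebraicClosure_iff]
    let f : Algebra.adjoin K (Set.range t) →+* IntermediateField.adjoin F s :=
      RingHom.codRestrict ((algebraMap L M).comp (Algebra.adjoin K (Set.range t)).val.toRingHom)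
        (IntermediateField.adjoin F s) (fun x => hmem x.1 x.2)
    have hf : Function.Injective f := by
      intro x y hxy
      have : algebraMap L M x.1 = algebraMap L M y.1 := congrArg Subtype.val hxy
      exact Subtype.ext ((algebraMap L M).injective this)
    exact (Algebra.IsAlgebraic.isAlgebraic (R := Algebra.adjoin K (Set.range t)) b).ringHom_of_comp_eq
      f (algebraMap L M) hf (by ext x; rfl)


theorem isAlgebraic_map_of_adjoin {K A F₀ M : Type*} [CommRing K] [CommRing A] [Algebra K A]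
    [Field F₀] [Field M] [Algebra F₀ M]
    (F' : IntermediateField F₀ M) (g : A →+* M) (hg : Function.Injective g) (s : Set A)
    (hK : ∀ r : K, g (algebraMap K A r) ∈ F') (hs : ∀ x ∈ s, g x ∈ F') (a : A)
    (ha : IsAlgebraic (Algebra.adjoin K s) a) : IsAlgebraic F' (g a) := by
  have hmem : ∀ x : A, x ∈ Algebra.adjoin K s → g x ∈ F' := by
    intro x hx
    induction hx using Algebra.adjoin_induction with
    | mem x hx => exact hs x hx
    | algebraMap r => exact hK r
    | add x y _ _ hx hy => rw [map_add]; exact add_mem hx hy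
    | mul x y _ _ hx hy => rw [map_mul]; exact mul_mem hx hy
  let f : Algebra.adjoin K s →+* F' :=
    RingHom.codRestrict (g.comp (Algebra.adjoin K s).val.toRingHom) F' (fun x => hmem x.1 x.2)
  have hf : Function.Injective f := by
    intro x y hxy
    have : g x.1 = g y.1 := congrArg Subtype.val hxy
    exact Subtype.ext (hg this)
  exact ha.ringHom_of_comp_eq f g hf (by ext x; rfl)


section
variable {K L K₁ K₂ L₁ L₂ : Type u} [Field K] [Field L] [Field K₁] [Field K₂] [Field L₁] [Field L₂]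
    [Algebra K L] [Algebra K K₁] [Algebra K K₂] [Algebra K₁ L₁] [Algebra K₂ L₂] [Algebra L L₁] [Algebra L L₂]
    [Algebra K L₁] [Algebra K L₂] [IsScalarTower K K₁ L₁] [IsScalarTower K L L₁]
    [IsScalarTower K K₂ L₂] [IsScalarTower K L L₂]

/-- Step 2: the transcendence basis of `L/K` stays one of `L₁/K₁`. -/
theorem isTranscendenceBasis_of_gen {ι : Type u} [Finite ι] (t : ι → L) (ht : IsTranscendenceBasis K t)
    (hgen₁ : ∀ E : Subfield L₁, (∀ a : K₁, algebraMap K₁ L₁ a ∈ E) → (∀ b : L, algebraMap L L₁ b ∈ E) →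
      ∀ z, z ∈ E)
    (h : Algebra.trdeg K₁ L₁ = Algebra.trdeg K L) :
    IsTranscendenceBasis K₁ (algebraMap L L₁ ∘ t) := by
  haveI := ht.isAlgebraic
  haveI := isAlgebraic_adjoin_of_gen (K := K) hgen₁ t
  refine Algebra.IsAlgebraic.isTranscendenceBasis_of_le_trdeg_of_finite K₁ (algebraMap L L₁ ∘ t) ?_
  rw [h, ← ht.cardinalMk_eq_trdeg]

/-- Step 4 (Lem-A). -/
theorem algebraicIndependent_of_tower {ι ι₂ : Type u} (t : ι → L) (ht : IsTranscendenceBasis K t)
    (ht₂ : AlgebraicIndependent K₂ (algebraMap L L₂ ∘ t))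
    (B : ι₂ → K₂) (hB : AlgebraicIndependent K B) :
    AlgebraicIndependent L (algebraMap K₂ L₂ ∘ B) := by
  have h1 : AlgebraicIndependent K (Sum.elim (algebraMap L L₂ ∘ t) (algebraMap K₂ L₂ ∘ B)) :=
    hB.sumElim_comp ht₂
  have h2 : AlgebraicIndependent K (Sum.elim (algebraMap K₂ L₂ ∘ B) (algebraMap L L₂ ∘ t)) := by
    have := h1.comp Sum.swap Sum.swap_leftInverse.injective
    rwa [Sum.elim_swap] at this
  have h3 := (AlgebraicIndependent.sumElim_iff.mp h2).2
  let φ : L →ₐ[K] L₂ := IsScalarTower.toAlgHom K L L₂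
  have hφ : Function.Injective φ := (algebraMap L L₂).injective
  rw [show Set.range (algebraMap L L₂ ∘ t) = φ '' Set.range t from Set.range_comp _ _,
    ← AlgHom.map_adjoin] at h3
  let e := (Algebra.adjoin K (Set.range t)).equivMapOfInjective φ hφ
  have h4 : AlgebraicIndependent (Algebra.adjoin K (Set.range t)) (algebraMap K₂ L₂ ∘ B) :=
    AlgebraicIndependent.of_ringHom_of_comp_eq e (RingHom.id L₂) h3 e.injective (by ext x; rfl)
  haveI := ht.isAlgebraic
  exact h4.extendScalars L

theorem exists_free_compositum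
    (hgen₁ : ∀ E : Subfield L₁, (∀ a : K₁, algebraMap K₁ L₁ a ∈ E) → (∀ b : L, algebraMap L L₁ b ∈ E) →
      ∀ z, z ∈ E)
    (hgen₂ : ∀ E : Subfield L₂, (∀ a : K₂, algebraMap K₂ L₂ a ∈ E) → (∀ b : L, algebraMap L L₂ b ∈ E) →
      ∀ z, z ∈ E)
    (r : ℕ) (hr : Algebra.trdeg K L = r) (hr₁ : Algebra.trdeg K₁ L₁ = r) (hr₂ : Algebra.trdeg K₂ L₂ = r) :
    ∃ (ι : Type u) (_ : Finite ι) (t : ι → L) (_ : IsTranscendenceBasis K t)
      (Ω : Type u) (_ : Field Ω) (σ₁ : L₁ →+* Ω) (σ₂ : L₂ →+* Ω) (E : Subfield Ω),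
      σ₁.comp (algebraMap L L₁) = σ₂.comp (algebraMap L L₂) ∧
      (∀ a : K₁, σ₁ (algebraMap K₁ L₁ a) ∈ E) ∧ (∀ a : K₂, σ₂ (algebraMap K₂ L₂ a) ∈ E) ∧
      AlgebraicIndependent E (fun i => σ₁ (algebraMap L L₁ (t i))) := by
  obtain ⟨ι, t, ht⟩ := exists_isTranscendenceBasis' K L
  have hcard : #ι = r := by rw [ht.cardinalMk_eq_trdeg, hr]
  haveI : Finite ι := by
    rw [← Cardinal.lt_aleph0_iff_finite, hcard]; exact Cardinal.natCast_lt_aleph0
  have ht₁ : IsTranscendenceBasis K₁ (algebraMap L L₁ ∘ t) :=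
    isTranscendenceBasis_of_gen t ht hgen₁ (hr₁.trans hr.symm)
  have ht₂ : IsTranscendenceBasis K₂ (algebraMap L L₂ ∘ t) :=
    isTranscendenceBasis_of_gen t ht hgen₂ (hr₂.trans hr.symm)
  obtain ⟨ι₂, B, hB⟩ := exists_isTranscendenceBasis' K K₂
  have hb : AlgebraicIndependent L (algebraMap K₂ L₂ ∘ B) :=
    algebraicIndependent_of_tower t ht ht₂.1 B hB.1
  set b : ι₂ → L₂ := algebraMap K₂ L₂ ∘ B with hbdef
  -- the big field
  let P₁ := MvPolynomial ι₂ L₁
  let Q₁ := FractionRing P₁
  let Ω := AlgebraicClosure Q₁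
  have hinjP : Function.Injective (algebraMap P₁ Ω) := by
    rw [IsScalarTower.algebraMap_eq P₁ Q₁ Ω]
    exact (algebraMap Q₁ Ω).injective.comp (IsFractionRing.injective P₁ Q₁)
  let Y : ι₂ → Ω := fun j => algebraMap P₁ Ω (MvPolynomial.X j)
  have hY : AlgebraicIndependent L₁ Y :=
    (MvPolynomial.algebraicIndependent_X ι₂ L₁).map' (f := IsScalarTower.toAlgHom L₁ P₁ Ω) hinjP
  -- the second embedding
  let F₂ := IntermediateField.adjoin L (Set.range b)
  let eqv := hb.aevalEquivField
  let g₀ : MvPolynomial ι₂ L →+* Ω := (algebraMap P₁ Ω).comp (MvPolynomial.map (algebraMap L L₁))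
  have hg₀ : Function.Injective g₀ :=
    hinjP.comp (MvPolynomial.map_injective _ (algebraMap L L₁).injective)
  let ψ : FractionRing (MvPolynomial ι₂ L) →+* Ω := IsFractionRing.lift hg₀
  let τ : F₂ →+* Ω := ψ.comp (eqv.symm : F₂ →+* FractionRing (MvPolynomial ι₂ L))
  letI algF₂Ω : Algebra F₂ Ω := τ.toAlgebra
  haveI hF₂alg : Algebra.IsAlgebraic F₂ L₂ := by
    constructor
    intro z
    have key := hgen₂ (algebraicClosure F₂ L₂).toSubfield ?_ ?_ z
    · exact mem_algebraicClosure_iff.1 key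
    · intro a
      show algebraMap K₂ L₂ a ∈ algebraicClosure F₂ L₂
      rw [mem_algebraicClosure_iff]
      refine isAlgebraic_map_of_adjoin (K := K) F₂ (algebraMap K₂ L₂) (algebraMap K₂ L₂).injective
        (Set.range B) ?_ ?_ a (hB.isAlgebraic.isAlgebraic a)
      · intro c
        rw [← IsScalarTower.algebraMap_apply K K₂ L₂, IsScalarTower.algebraMap_apply K L L₂]
        exact F₂.algebraMap_mem _
      · rintro _ ⟨j, rfl⟩
        exact IntermediateField.subset_adjoin L _ ⟨j, rfl⟩
    · intro c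
      show algebraMap L L₂ c ∈ algebraicClosure F₂ L₂
      rw [mem_algebraicClosure_iff]
      exact isAlgebraic_algebraMap (⟨algebraMap L L₂ c, F₂.algebraMap_mem c⟩ : F₂)
  haveI : Module.IsTorsionFree F₂ Ω := DivisionSemiring.to_moduleIsTorsionFree
  haveI : Module.IsTorsionFree F₂ L₂ := DivisionSemiring.to_moduleIsTorsionFree
  let σ₂' : L₂ →ₐ[F₂] Ω := IsAlgClosed.lift
  let σ₁ : L₁ →+* Ω := algebraMap L₁ Ω
  let σ₂ : L₂ →+* Ω := σ₂'.toRingHom
  have hσ₂τ : ∀ y : F₂, σ₂ (y : L₂) = τ y := fun y => σ₂'.commutes y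
  have hP1 : ∀ a : L, σ₂ (algebraMap L L₂ a) = σ₁ (algebraMap L L₁ a) := by
    intro a
    have h1 : σ₂ (algebraMap L L₂ a) = τ (algebraMap L F₂ a) := hσ₂τ (algebraMap L F₂ a)
    rw [h1]
    show ψ (eqv.symm (algebraMap L F₂ a)) = _
    rw [AlgEquiv.commutes, IsScalarTower.algebraMap_apply L (MvPolynomial ι₂ L) (FractionRing _)]
    show IsFractionRing.lift hg₀ _ = _
    rw [IsFractionRing.lift_algebraMap]
    show algebraMap P₁ Ω (MvPolynomial.map (algebraMap L L₁) (algebraMap L (MvPolynomial ι₂ L) a)) = _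
    rw [MvPolynomial.algebraMap_eq, MvPolynomial.map_C, ← MvPolynomial.algebraMap_eq,
      ← IsScalarTower.algebraMap_apply]
  have hP2 : ∀ j, σ₂ (b j) = Y j := by
    intro j
    have hbj : b j ∈ F₂ := IntermediateField.subset_adjoin L _ ⟨j, rfl⟩
    have h1 : σ₂ (b j) = τ ⟨b j, hbj⟩ := hσ₂τ ⟨b j, hbj⟩
    rw [h1]
    have h2 : eqv (algebraMap (MvPolynomial ι₂ L) (FractionRing (MvPolynomial ι₂ L)) (MvPolynomial.X j)) =
        ⟨b j, hbj⟩ := by
      apply Subtype.ext
      rw [AlgebraicIndependent.aevalEquivField_algebraMap_apply_coe, MvPolynomial.aeval_X]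
    show ψ (eqv.symm ⟨b j, hbj⟩) = _
    rw [← h2, AlgEquiv.symm_apply_apply]
    show IsFractionRing.lift hg₀ _ = _
    rw [IsFractionRing.lift_algebraMap]
    show algebraMap P₁ Ω (MvPolynomial.map (algebraMap L L₁) (MvPolynomial.X j)) = _
    rw [MvPolynomial.map_X]
  -- the final independence
  have ht₁' : AlgebraicIndependent K₁ (algebraMap L L₁ ∘ t) := ht₁.1
  have h5 : AlgebraicIndependent K₁ (Sum.elim Y (algebraMap L₁ Ω ∘ (algebraMap L L₁ ∘ t))) :=
    ht₁'.sumElim_comp hY
  have h5' : AlgebraicIndependent K₁ (Sum.elim (algebraMap L₁ Ω ∘ (algebraMap L L₁ ∘ t)) Y) := by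
    have := h5.comp Sum.swap Sum.swap_leftInverse.injective
    rwa [Sum.elim_swap] at this
  have h6 := (AlgebraicIndependent.sumElim_iff.mp h5').2
  have h7 : AlgebraicIndependent (IntermediateField.adjoin K₁ (Set.range Y))
      (algebraMap L₁ Ω ∘ (algebraMap L L₁ ∘ t)) :=
    IntermediateField.algebraicIndependent_adjoin_iff.mpr h6
  set F₀ := IntermediateField.adjoin K₁ (Set.range Y) with hF₀
  have h8 : AlgebraicIndependent (algebraicClosure F₀ Ω) (algebraMap L₁ Ω ∘ (algebraMap L L₁ ∘ t)) :=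
    h7.algebraicClosure
  refine ⟨ι, inferInstance, t, ht, Ω, inferInstance, σ₁, σ₂, (algebraicClosure F₀ Ω).toSubfield, ?_, ?_, ?_, ?_⟩
  · ext a
    exact (hP1 a).symm
  · intro a
    show algebraMap L₁ Ω (algebraMap K₁ L₁ a) ∈ algebraicClosure F₀ Ω
    rw [← IsScalarTower.algebraMap_apply K₁ L₁ Ω, mem_algebraicClosure_iff]
    exact isAlgebraic_algebraMap (⟨algebraMap K₁ Ω a, F₀.algebraMap_mem a⟩ : F₀)
  · intro u
    show σ₂ (algebraMap K₂ L₂ u) ∈ algebraicClosure F₀ Ω
    rw [mem_algebraicClosure_iff]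
    refine isAlgebraic_map_of_adjoin (K := K) F₀ (σ₂.comp (algebraMap K₂ L₂))
      (σ₂.comp (algebraMap K₂ L₂)).injective (Set.range B) ?_ ?_ u (hB.isAlgebraic.isAlgebraic u)
    · intro c
      show σ₂ (algebraMap K₂ L₂ (algebraMap K K₂ c)) ∈ F₀
      rw [← IsScalarTower.algebraMap_apply K K₂ L₂, IsScalarTower.algebraMap_apply K L L₂, hP1]
      show algebraMap L₁ Ω (algebraMap L L₁ (algebraMap K L c)) ∈ F₀
      rw [← IsScalarTower.algebraMap_apply K L L₁, IsScalarTower.algebraMap_apply K K₁ L₁,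
        ← IsScalarTower.algebraMap_apply K₁ L₁ Ω]
      exact F₀.algebraMap_mem _
    · rintro _ ⟨j, rfl⟩
      show σ₂ (b j) ∈ F₀
      rw [hP2]
      exact IntermediateField.subset_adjoin K₁ _ ⟨j, rfl⟩
  · exact h8

end

end Groth.Agent.Lib.Seat32.TrdegFree
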