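import Groth.Agent.Lib.Helper20AWNRing
import Groth.Agent.Lib.Helper20AWN
import Groth.Agent.Lib.Helper11SN

set_option autoImplicit false
universe u

open CategoryTheory CategoryTheory.Limits AlgebraicGeometry TensorProduct
open Groth.Agent.Lib.Helper20.AWN

namespace Groth.Agent.Lib.Seat33.AWNRing

instance isUnivHomeo_isStableUnderBaseChange :
    (FlatMor.IsUnivHomeo.{u}).IsStableUnderBaseChange := by
  unfold FlatMor.IsUnivHomeo
  infer_instance

instance isUnivHomeo_respectsIso : (FlatMor.IsUnivHomeo.{u}).RespectsIso := by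
  unfold FlatMor.IsUnivHomeo
  infer_instance

section Basics

variable {A B C W : Type u} [CommRing A] [CommRing B] [CommRing C] [CommRing W]

theorem UH_of_bijective (e : A →+* B) (he : Function.Bijective e) : UH e := by
  refine ⟨RingHom.isIntegral_of_surjective e he.2, ?_, ?_⟩
  · intro P
    let e' : A ≃+* B := RingEquiv.ofBijective e he
    refine ⟨PrimeSpectrum.comap (e'.symm : B →+* A) P, ?_⟩
    rw [← PrimeSpectrum.comap_comp_apply]
    have : (e'.symm : B →+* A).comp e = RingHom.id A := by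
      ext a
      exact e'.symm_apply_apply a
    rw [this, PrimeSpectrum.comap_id]
  · intro K _ χ₁ χ₂ h
    refine RingHom.ext fun b => ?_
    obtain ⟨a, rfl⟩ := he.2 b
    exact RingHom.congr_fun h a

/-- base change of `UH`. -/
theorem UH_includeRight [Algebra A W] [Algebra A B] (h : UH (algebraMap A W)) :
    UH ((Algebra.TensorProduct.includeRight : B →ₐ[A] W ⊗[A] B) : B →+* W ⊗[A] B) := by
  rw [← isUnivHomeo_iff_UH] at h ⊢
  have h1 : FlatMor.IsUnivHomeo (pullback.snd (Spec.map (CommRingCat.ofHom (algebraMap A W)))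
      (Spec.map (CommRingCat.ofHom (algebraMap A B)))) :=
    MorphismProperty.pullback_snd _ _ h
  have e : (pullbackSpecIso A W B).inv ≫ pullback.snd _ _ =
      Spec.map (CommRingCat.ofHom
        ((Algebra.TensorProduct.includeRight : B →ₐ[A] W ⊗[A] B) : B →+* W ⊗[A] B)) :=
    pullbackSpecIso_inv_snd ..
  rw [← e]
  exact (MorphismProperty.cancel_left_of_respectsIso _ _ _).mpr h1

/-- ring maps from a `UH`-algebra into `awn B` are determined by their restriction. -/
theorem hom_ext_awn (ψ : A →+* C) (h : UH ψ) (g₁ g₂ : C →+* awn B)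
    (e : g₁.comp ψ = g₂.comp ψ) : g₁ = g₂ := by
  refine RingHom.ext fun c => Subtype.ext (funext fun q => ?_)
  have := h.2.2 (AlgebraicClosure q.asIdeal.ResidueField)
    ((Pi.evalRingHom (fun p : PrimeSpectrum B => AlgebraicClosure p.asIdeal.ResidueField) q).comp
      ((awn B).subtype.comp g₁))
    ((Pi.evalRingHom (fun p : PrimeSpectrum B => AlgebraicClosure p.asIdeal.ResidueField) q).comp
      ((awn B).subtype.comp g₂))
    (by rw [RingHom.comp_assoc, RingHom.comp_assoc, RingHom.comp_assoc, RingHom.comp_assoc, e])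
  exact RingHom.congr_fun this c

end Basics

section AwnMap

variable {A B C : Type u} [CommRing A] [CommRing B] [CommRing C]

/-- The comparison map out of the base change of `awn A`. -/
theorem exists_tensor_cmp [Algebra A B] :
    letI : Algebra A (awn A) := (toAwn A).toAlgebra
    ∃ χ : awn A ⊗[A] B →+* awn B,
      χ.comp ((Algebra.TensorProduct.includeRight : B →ₐ[A] awn A ⊗[A] B) : B →+* awn A ⊗[A] B) =
        toAwn B ∧ UH χ := by
  letI : Algebra A (awn A) := (toAwn A).toAlgebra
  have hUH : UH ((Algebra.TensorProduct.includeRight : B →ₐ[A] awn A ⊗[A] B) :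
      B →+* awn A ⊗[A] B) := UH_includeRight (UH_toAwn A)
  obtain ⟨χ, hχ, -⟩ := (isRingAWN_toAwn B).2 (awn A ⊗[A] B) _ ((isUnivHomeo_iff_UH _).mpr hUH)
  refine ⟨χ, hχ, UH_of_comp_of_UH _ χ hUH ?_⟩
  rw [hχ]
  exact UH_toAwn B

theorem existsUnique_awnMap (ρ : A →+* B) :
    ∃! g : awn A →+* awn B, g.comp (toAwn A) = (toAwn B).comp ρ := by
  letI : Algebra A B := ρ.toAlgebra
  letI : Algebra A (awn A) := (toAwn A).toAlgebra
  obtain ⟨χ, hχ, -⟩ := exists_tensor_cmp (A := A) (B := B)
  refine ⟨χ.comp (Algebra.TensorProduct.includeLeftRingHom), ?_, ?_⟩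
  · refine RingHom.ext fun a => ?_
    have h1 : (Algebra.TensorProduct.includeLeftRingHom : awn A →+* awn A ⊗[A] B) (toAwn A a) =
        ((Algebra.TensorProduct.includeRight : B →ₐ[A] awn A ⊗[A] B) : B →+* awn A ⊗[A] B)
          (ρ a) := by
      have e1 := (Algebra.TensorProduct.includeLeft : awn A →ₐ[A] awn A ⊗[A] B).commutes a
      have e2 := (Algebra.TensorProduct.includeRight : B →ₐ[A] awn A ⊗[A] B).commutes a
      exact e1.trans e2.symm
    simp only [RingHom.comp_apply]
    rw [h1]
    exact RingHom.congr_fun hχ (ρ a)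
  · intro g hg
    apply hom_ext_awn (toAwn A) (UH_toAwn A)
    rw [hg]
    refine RingHom.ext fun a => ?_
    have h1 : (Algebra.TensorProduct.includeLeftRingHom : awn A →+* awn A ⊗[A] B) (toAwn A a) =
        ((Algebra.TensorProduct.includeRight : B →ₐ[A] awn A ⊗[A] B) : B →+* awn A ⊗[A] B)
          (ρ a) := by
      have e1 := (Algebra.TensorProduct.includeLeft : awn A →ₐ[A] awn A ⊗[A] B).commutes a
      have e2 := (Algebra.TensorProduct.includeRight : B →ₐ[A] awn A ⊗[A] B).commutes a
      exact e1.trans e2.symm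
    simp only [RingHom.comp_apply]
    rw [h1]
    exact (RingHom.congr_fun hχ (ρ a)).symm

/-- functoriality of `awn`. -/
noncomputable def awnMap (ρ : A →+* B) : awn A →+* awn B := (existsUnique_awnMap ρ).exists.choose

theorem awnMap_comp_toAwn (ρ : A →+* B) : (awnMap ρ).comp (toAwn A) = (toAwn B).comp ρ :=
  (existsUnique_awnMap ρ).exists.choose_spec

theorem awnMap_toAwn (ρ : A →+* B) (a : A) : awnMap ρ (toAwn A a) = toAwn B (ρ a) :=
  RingHom.congr_fun (awnMap_comp_toAwn ρ) a

theorem awnMap_unique (ρ : A →+* B) (g : awn A →+* awn B)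
    (hg : g.comp (toAwn A) = (toAwn B).comp ρ) : g = awnMap ρ :=
  (existsUnique_awnMap ρ).unique hg (awnMap_comp_toAwn ρ)

theorem awnMap_id : awnMap (RingHom.id A) = RingHom.id (awn A) :=
  (awnMap_unique _ _ (by rw [RingHom.id_comp, RingHom.comp_id])).symm

theorem awnMap_comp (ρ : A →+* B) (σ : B →+* C) :
    awnMap (σ.comp ρ) = (awnMap σ).comp (awnMap ρ) := by
  symm
  apply awnMap_unique
  rw [RingHom.comp_assoc, awnMap_comp_toAwn, ← RingHom.comp_assoc, awnMap_comp_toAwn,
    RingHom.comp_assoc]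

end AwnMap


section Loc

variable {A B : Type u} [CommRing A] [CommRing B]

/-- `awn` commutes with localization away from an element. -/
theorem isLocalization_awnMap [Algebra A B] (f : A) [IsLocalization.Away f B] :
    letI := (awnMap (algebraMap A B)).toAlgebra
    IsLocalization.Away (toAwn A f) (awn B) := by
  letI : Algebra A (awn A) := (toAwn A).toAlgebra
  letI : Algebra (awn A) (awn B) := (awnMap (algebraMap A B)).toAlgebra
  have hloc : IsLocalization (Algebra.algebraMapSubmonoid (awn A) (Submonoid.powers f))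
      (awn A ⊗[A] B) := IsLocalization.tensor B (Submonoid.powers f)
  have hpow : Algebra.algebraMapSubmonoid (awn A) (Submonoid.powers f) =
      Submonoid.powers (toAwn A f) := Submonoid.map_powers _ _
  rw [hpow] at hloc
  have hT : HTop.IsAWNRing (awn A ⊗[A] B) :=
    @Groth.Agent.Lib.Helper11.isAWNRing_away (awn A) _ (awn A ⊗[A] B) _ _ (toAwn A f) hloc
      (isAWNRing_of_isRingAWN _ (isRingAWN_toAwn A))
  obtain ⟨χ, hχ, hχUH⟩ := exists_tensor_cmp (A := A) (B := B)
  haveI : IsReduced (awn B) := isReduced_of_isRingAWN _ (isRingAWN_toAwn B)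
  have hbij : Function.Bijective χ := bijective_of_UH_of_isAWNRing χ hχUH hT
  have hmap : χ.comp (Algebra.TensorProduct.includeLeftRingHom) = awnMap (algebraMap A B) := by
    apply awnMap_unique
    refine RingHom.ext fun a => ?_
    have h1 : (Algebra.TensorProduct.includeLeftRingHom : awn A →+* awn A ⊗[A] B) (toAwn A a) =
        ((Algebra.TensorProduct.includeRight : B →ₐ[A] awn A ⊗[A] B) : B →+* awn A ⊗[A] B)
          (algebraMap A B a) := by
      have e1 := (Algebra.TensorProduct.includeLeft : awn A →ₐ[A] awn A ⊗[A] B).commutes a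
      have e2 := (Algebra.TensorProduct.includeRight : B →ₐ[A] awn A ⊗[A] B).commutes a
      exact e1.trans e2.symm
    simp only [RingHom.comp_apply]
    rw [h1]
    exact RingHom.congr_fun hχ (algebraMap A B a)
  let e : (awn A ⊗[A] B) ≃ₐ[awn A] awn B :=
    AlgEquiv.ofBijective
      { χ with
        commutes' := fun w => by
          have := RingHom.congr_fun hmap w
          simpa [RingHom.algebraMap_toAlgebra] using this } hbij
  exact IsLocalization.isLocalization_of_algEquiv (Submonoid.powers (toAwn A f)) e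

end Loc

section Transport

variable {A B W W' : Type u} [CommRing A] [CommRing B] [CommRing W] [CommRing W']

theorem isRingAWN_comp_ringEquiv (φ : A →+* W) (h : HTop.IsRingAWN φ) (e : W ≃+* W') :
    HTop.IsRingAWN ((e : W →+* W').comp φ) := by
  have hφ : UH φ := (isUnivHomeo_iff_UH φ).mp h.1
  refine ⟨(isUnivHomeo_iff_UH _).mpr (UH_comp φ _ hφ (UH_of_bijective _ e.bijective)), ?_⟩
  intro C _ ψ hψ
  obtain ⟨χ, hχ, huniq⟩ := h.2 C ψ hψ
  refine ⟨(e : W →+* W').comp χ, by show ((e : W →+* W').comp χ).comp ψ = _; rw [RingHom.comp_assoc, hχ], ?_⟩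
  intro χ' hχ'
  have hχ'' : χ'.comp ψ = (e : W →+* W').comp φ := hχ'
  have h1 : ((e.symm : W' →+* W).comp χ').comp ψ = φ := by
    rw [RingHom.comp_assoc, hχ'']
    ext a
    simp
  have h2 := huniq _ h1
  rw [← h2]
  ext c
  simp

theorem isRingAWN_ringEquiv_comp (φ : A →+* W) (h : HTop.IsRingAWN φ) (e : B ≃+* A) :
    HTop.IsRingAWN (φ.comp (e : B →+* A)) := by
  have hφ : UH φ := (isUnivHomeo_iff_UH φ).mp h.1
  have he : UH (e : B →+* A) := UH_of_bijective _ e.bijective
  have hes : UH (e.symm : A →+* B) := UH_of_bijective _ e.symm.bijective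
  refine ⟨(isUnivHomeo_iff_UH _).mpr (UH_comp _ φ he hφ), ?_⟩
  intro C _ ψ hψ
  have hψ' : UH ψ := (isUnivHomeo_iff_UH ψ).mp hψ
  obtain ⟨χ, hχ, huniq⟩ := h.2 C (ψ.comp (e.symm : A →+* B))
    ((isUnivHomeo_iff_UH _).mpr (UH_comp _ ψ hes hψ'))
  refine ⟨χ, ?_, ?_⟩
  · show χ.comp ψ = _
    rw [← hχ, RingHom.comp_assoc, RingHom.comp_assoc]
    congr 1
    ext b
    simp
  · intro χ' hχ'
    have hχ'' : χ'.comp ψ = φ.comp (e : B →+* A) := hχ'
    apply huniq
    show χ'.comp (ψ.comp (e.symm : A →+* B)) = φ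
    rw [← RingHom.comp_assoc, hχ'', RingHom.comp_assoc]
    ext a
    simp

end Transport

end Groth.Agent.Lib.Seat33.AWNRing
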