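import Groth.Agent.Lib.Seat33AWNRing

set_option autoImplicit false
universe u

open CategoryTheory CategoryTheory.Limits AlgebraicGeometry TensorProduct Opposite
open Groth.Agent.Lib.Helper20.AWN Groth.Agent.Lib.Seat33.AWNRing
open AlgebraicGeometry.Scheme AlgebraicGeometry.Scheme.AffineZariskiSite

namespace Groth.Agent.Lib.Seat33.AWNSch

variable (X : Scheme.{u})

/-- The presheaf `U ↦ Γ(X, U)^awn`. -/
noncomputable def awnDiagram : X.Opensᵒᵖ ⥤ CommRingCat.{u} where
  obj U := .of (awn Γ(X, U.unop))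
  map i := CommRingCat.ofHom (awnMap (X.presheaf.map i).hom)
  map_id U := by
    rw [X.presheaf.map_id]
    change CommRingCat.ofHom (awnMap (RingHom.id _)) = _
    rw [awnMap_id]
    rfl
  map_comp i j := by
    rw [X.presheaf.map_comp, CommRingCat.hom_comp, awnMap_comp]
    rfl

/-- The structure map `O_X ⟶ awnDiagram`. -/
noncomputable def awnDiagramMap : X.presheaf ⟶ awnDiagram X where
  app U := CommRingCat.ofHom (toAwn Γ(X, U.unop))
  naturality {U V} i := by
    ext x
    exact (awnMap_toAwn (X.presheaf.map i).hom x).symm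

lemma coequifibered_awnDiagramMap :
    ((toOpensFunctor X).op.whiskerLeft (awnDiagramMap X)).Coequifibered := by
  refine coequifibered_iff_forall_isLocalizationAway.mpr fun U r ↦ ?_
  letI : Algebra Γ(X, U.1) Γ(X, X.basicOpen r) :=
    (X.presheaf.map (homOfLE (X.basicOpen_le r)).op).hom.toAlgebra
  have : IsLocalization.Away r Γ(X, X.basicOpen r) := U.2.isLocalization_basicOpen _
  exact isLocalization_awnMap (A := Γ(X, U.1)) (B := Γ(X, X.basicOpen r)) r

/-- The gluing data. -/
noncomputable def awnGlueData := relativeGluingData (coequifibered_awnDiagramMap X)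

instance : ((awnGlueData X).functor ⋙ Scheme.forget).IsLocallyDirected :=
  Cover.RelativeGluingData.instIsLocallyDirectedI₀CompFunctorForgetOfIsThin ..

/-- The absolute weak normalization of a scheme. -/
noncomputable def awnSch : Scheme.{u} := (awnGlueData X).glued

/-- The open cover of `awnSch X` by the `Spec (Γ(X, U)^awn)`. -/
noncomputable def awnCover : (awnSch X).OpenCover := (awnGlueData X).cover

/-- The structure morphism. -/
noncomputable def fromAwn : awnSch X ⟶ X := (awnGlueData X).toBase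

@[reassoc]
lemma ι_fromAwn (U : X.affineOpens) :
    (awnCover X).f U ≫ fromAwn X =
      Spec.map ((awnDiagramMap X).app (.op U.1)) ≫ U.2.fromSpec :=
  colimit.ι_desc _ _

lemma fromAwn_preimage (U : X.affineOpens) :
    fromAwn X ⁻¹ᵁ U = ((awnCover X).f U).opensRange := by
  simpa using! (awnGlueData X).toBase_preimage_eq_opensRange_ι U

instance isAffineHom_fromAwn : IsAffineHom (fromAwn X) where
  isAffine_preimage U hU := by
    rw [fromAwn_preimage X ⟨U, hU⟩]
    have : IsAffine ((awnCover X).X ⟨U, hU⟩) :=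
      inferInstanceAs (IsAffine (Spec ((awnDiagram X).obj (op U))))
    exact isAffineOpen_opensRange ((awnCover X).f ⟨U, hU⟩)

instance isUnivHomeo_isZariskiLocalAtTarget : IsZariskiLocalAtTarget FlatMor.IsUnivHomeo.{u} := by
  unfold FlatMor.IsUnivHomeo
  apply universally_isZariskiLocalAtTarget
  intro X Y f ι U hU H
  simp_rw [topologically, morphismRestrict_base] at H
  exact (hU.isHomeomorph_iff_restrictPreimage f.continuous).mpr H

set_option backward.isDefEq.respectTransparency false in
theorem isUnivHomeo_fromAwn : FlatMor.IsUnivHomeo (fromAwn X) := by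
  rw [IsZariskiLocalAtTarget.iff_of_iSup_eq_top (P := FlatMor.IsUnivHomeo) _
    (iSup_affineOpens_eq_top _)]
  intro U
  let e := IsOpenImmersion.isoOfRangeEq (fromAwn X ⁻¹ᵁ U).ι ((awnCover X).f U)
      (by simpa using congr($(fromAwn_preimage X U).1))
  rw [← MorphismProperty.cancel_left_of_respectsIso FlatMor.IsUnivHomeo e.inv,
    ← MorphismProperty.cancel_right_of_respectsIso FlatMor.IsUnivHomeo _ U.2.isoSpec.hom]
  convert! (isRingAWN_toAwn Γ(X, U.1)).1
  rw [← cancel_mono U.2.fromSpec]
  simp [IsAffineOpen.isoSpec_hom, e, ι_fromAwn]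
  rfl

section UnivHomeo

variable {X} {Y : Scheme.{u}} (π : Y ⟶ X)

theorem isHomeomorph_of_isUnivHomeo (h : FlatMor.IsUnivHomeo π) : IsHomeomorph π.base :=
  MorphismProperty.universally_le _ _ h

theorem isAffineHom_of_isUnivHomeo (h : FlatMor.IsUnivHomeo π) : IsAffineHom π := by
  have hh := isHomeomorph_of_isUnivHomeo π h
  apply isAffineHom_of_isInducing
  · exact hh.isInducing
  · rw [hh.surjective.range_eq]
    exact isClosed_univ

set_option backward.isDefEq.respectTransparency false in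
theorem isUnivHomeo_SpecMap_app (h : FlatMor.IsUnivHomeo π) [IsAffineHom π] {U : X.Opens}
    (hU : IsAffineOpen U) : FlatMor.IsUnivHomeo (Spec.map (π.app U)) := by
  have h1 : FlatMor.IsUnivHomeo (π ∣_ U) := IsZariskiLocalAtTarget.restrict h U
  rw [← MorphismProperty.cancel_left_of_respectsIso FlatMor.IsUnivHomeo
    (hU.preimage π).isoSpec.inv,
    ← MorphismProperty.cancel_right_of_respectsIso FlatMor.IsUnivHomeo _ hU.isoSpec.hom] at h1
  convert! h1
  rw [← cancel_mono hU.fromSpec]
  simp [IsAffineOpen.isoSpec_hom, IsAffineOpen.isoSpec_inv_ι_assoc,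
    ← IsAffineOpen.SpecMap_appLE_fromSpec π hU (hU.preimage π) le_rfl, Scheme.Hom.app_eq_appLE]

theorem UH_app (h : FlatMor.IsUnivHomeo π) [IsAffineHom π] {U : X.Opens}
    (hU : IsAffineOpen U) : UH (π.app U).hom :=
  (isUnivHomeo_iff_UH _).mp (isUnivHomeo_SpecMap_app π h hU)

end UnivHomeo

section UniversalProperty

variable {X} {Y : Scheme.{u}} (π : Y ⟶ X) (hπ : FlatMor.IsUnivHomeo π) [IsAffineHom π]

/-- the local comparison map `Γ(Y, π⁻¹U) → Γ(X, U)^awn`. -/
noncomputable def cmpApp {U : X.Opens} (hU : IsAffineOpen U) :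
    Γ(Y, π ⁻¹ᵁ U) →+* awn Γ(X, U) :=
  ((isRingAWN_toAwn Γ(X, U)).2 _ (π.app U).hom (isUnivHomeo_SpecMap_app π hπ hU)).exists.choose

lemma cmpApp_comp {U : X.Opens} (hU : IsAffineOpen U) :
    (cmpApp π hπ hU).comp (π.app U).hom = toAwn Γ(X, U) :=
  ((isRingAWN_toAwn Γ(X, U)).2 _ (π.app U).hom
    (isUnivHomeo_SpecMap_app π hπ hU)).exists.choose_spec

lemma cmpApp_unique {U : X.Opens} (hU : IsAffineOpen U) (g : Γ(Y, π ⁻¹ᵁ U) →+* awn Γ(X, U))
    (hg : g.comp (π.app U).hom = toAwn Γ(X, U)) : g = cmpApp π hπ hU :=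
  ((isRingAWN_toAwn Γ(X, U)).2 _ (π.app U).hom
    (isUnivHomeo_SpecMap_app π hπ hU)).unique hg (cmpApp_comp π hπ hU)

lemma cmpApp_naturality {U V : X.Opens} (hU : IsAffineOpen U) (hV : IsAffineOpen V) (hle : U ≤ V) :
    (awnMap (X.presheaf.map (homOfLE hle).op).hom).comp (cmpApp π hπ hV) =
      (cmpApp π hπ hU).comp (Y.presheaf.map (homOfLE (π.preimage_mono hle)).op).hom := by
  apply hom_ext_awn (π.app V).hom (UH_app π hπ hV)
  rw [RingHom.comp_assoc, cmpApp_comp, awnMap_comp_toAwn, RingHom.comp_assoc]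
  have h2 : (Y.presheaf.map (homOfLE (π.preimage_mono hle)).op).hom.comp (π.app V).hom =
      (π.app U).hom.comp (X.presheaf.map (homOfLE hle).op).hom := by
    have := π.naturality (homOfLE hle).op
    exact (congr($(this).hom)).symm
  rw [h2, ← RingHom.comp_assoc, cmpApp_comp]

set_option backward.defeqAttrib.useBackward true in
set_option backward.isDefEq.respectTransparency false in
/-- The morphism from the absolute weak normalization to a universal homeomorphism over `X`. -/
noncomputable def awnDesc : awnSch X ⟶ Y := by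
  refine colimit.desc _
    { pt := _
      ι.app U := Spec.map (CommRingCat.ofHom (cmpApp π hπ U.2)) ≫ (U.2.preimage π).fromSpec,
      ι.naturality := ?_ }
  intros U V i
  dsimp [awnGlueData, relativeGluingData]
  rw [Category.comp_id, ← Spec.map_comp_assoc, ← (V.2.preimage π).map_fromSpec (U.2.preimage π)
    (homOfLE (π.preimage_mono (Scheme.AffineZariskiSite.toOpens_mono i.le))).op,
    ← Spec.map_comp_assoc]
  congr 2
  ext1
  exact cmpApp_naturality π hπ U.2 V.2 (Scheme.AffineZariskiSite.toOpens_mono i.le)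

@[reassoc]
lemma ι_awnDesc (U : X.affineOpens) :
    (awnCover X).f U ≫ awnDesc π hπ =
      Spec.map (CommRingCat.ofHom (cmpApp π hπ U.2)) ≫ (U.2.preimage π).fromSpec :=
  colimit.ι_desc _ _

set_option backward.defeqAttrib.useBackward true in
set_option backward.isDefEq.respectTransparency false in
lemma awnDesc_comp : awnDesc π hπ ≫ π = fromAwn X := by
  refine (awnCover X).hom_ext _ _ fun (U : X.affineOpens) ↦ ?_
  rw [ι_awnDesc_assoc, ι_fromAwn, Category.assoc,
    ← IsAffineOpen.SpecMap_appLE_fromSpec π U.2 (U.2.preimage π) le_rfl,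
    ← Spec.map_comp_assoc]
  congr 2
  ext1
  rw [CommRingCat.hom_comp, ← Scheme.Hom.app_eq_appLE]
  exact cmpApp_comp π hπ U.2

include hπ in
set_option backward.defeqAttrib.useBackward true in
set_option backward.isDefEq.respectTransparency false in
lemma awnSch_hom_ext (h₁ h₂ : awnSch X ⟶ Y) (e₁ : h₁ ≫ π = fromAwn X)
    (e₂ : h₂ ≫ π = fromAwn X) : h₁ = h₂ := by
  refine (awnCover X).hom_ext _ _ fun (U : X.affineOpens) ↦ ?_
  have key : ∀ h : awnSch X ⟶ Y, h ≫ π = fromAwn X →
      (awnCover X).f U ≫ h = Spec.map (CommRingCat.ofHom (cmpApp π hπ U.2)) ≫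
        (U.2.preimage π).fromSpec := by
    intro h e
    have hrange : Set.range ((awnCover X).f U ≫ h) ⊆ Set.range (U.2.preimage π).fromSpec := by
      rw [IsAffineOpen.range_fromSpec]
      rintro _ ⟨z, rfl⟩
      show ((awnCover X).f U ≫ h) z ∈ π ⁻¹ᵁ U.1
      show π (((awnCover X).f U ≫ h) z) ∈ U.1
      rw [← Scheme.Hom.comp_apply, Category.assoc, e, ι_fromAwn]
      have : (Spec.map ((awnDiagramMap X).app (op U.1)) ≫ U.2.fromSpec) z ∈
          Set.range U.2.fromSpec := ⟨_, rfl⟩
      rwa [IsAffineOpen.range_fromSpec] at this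
    let l := IsOpenImmersion.lift (U.2.preimage π).fromSpec ((awnCover X).f U ≫ h) hrange
    have hl : l ≫ (U.2.preimage π).fromSpec = (awnCover X).f U ≫ h :=
      IsOpenImmersion.lift_fac _ _ _
    obtain ⟨γ, hγ⟩ : ∃ γ : Γ(Y, π ⁻¹ᵁ U.1) ⟶ (awnDiagram X).obj (op U.1), Spec.map γ = l :=
      ⟨Spec.preimage l, Spec.map_preimage l⟩
    rw [← hl, ← hγ]
    congr 2
    have h1 : Spec.map γ ≫ Spec.map (π.app U.1) = Spec.map ((awnDiagramMap X).app (op U.1)) := by
      rw [← cancel_mono U.2.fromSpec, Category.assoc, Scheme.Hom.app_eq_appLE,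
        IsAffineOpen.SpecMap_appLE_fromSpec π U.2 (U.2.preimage π) le_rfl, hγ, reassoc_of% hl,
        e, ι_fromAwn]
    rw [← Spec.map_comp] at h1
    have h2 := Spec.map_injective h1
    ext1
    exact cmpApp_unique π hπ U.2 _ congr($(h2).hom)
  rw [key h₁ e₁, key h₂ e₂]

end UniversalProperty

/-- **Existence of the absolute weak normalization of a scheme.** -/
theorem isAWNormalization_fromAwn : HTop.IsAWNormalization (fromAwn X) := by
  refine ⟨isUnivHomeo_fromAwn X, fun Y π hπ => ?_⟩
  have := isAffineHom_of_isUnivHomeo π hπ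
  exact ⟨awnDesc π hπ, awnDesc_comp π hπ,
    fun h hh => awnSch_hom_ext π hπ h _ hh (awnDesc_comp π hπ)⟩

end Groth.Agent.Lib.Seat33.AWNSch
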