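import Groth.Agent.Lib.Seat33AWNSch
import Groth.Agent.S7423
import Groth.Agent.S7420

set_option autoImplicit false
universe u

open CategoryTheory CategoryTheory.Limits AlgebraicGeometry TensorProduct Opposite
open Groth.Agent.Lib.Helper20.AWN Groth.Agent.Lib.Seat33.AWNRing
open AlgebraicGeometry.Scheme AlgebraicGeometry.Scheme.AffineZariskiSite

namespace Groth.Agent.Lib.Seat33.AWNSch

section Iso

variable {X Y : Scheme.{u}} (π : Y ⟶ X) (hπ : FlatMor.IsUnivHomeo π) [IsAffineHom π]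

lemma awnDesc_preimage (U : X.affineOpens) :
    awnDesc π hπ ⁻¹ᵁ (π ⁻¹ᵁ U.1) = ((awnCover X).f U).opensRange := by
  rw [← Scheme.Hom.comp_preimage, awnDesc_comp, fromAwn_preimage]

set_option backward.isDefEq.respectTransparency false in
theorem isIso_awnDesc_iff :
    IsIso (awnDesc π hπ) ↔ ∀ U : X.affineOpens, Function.Bijective (cmpApp π hπ U.2) := by
  have hcover : ⨆ U : X.affineOpens, π ⁻¹ᵁ U.1 = ⊤ := by
    rw [eq_top_iff]
    rintro y -
    have : π y ∈ (⨆ U : X.affineOpens, U.1 : X.Opens) := by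
      rw [iSup_affineOpens_eq_top]; trivial
    rw [TopologicalSpace.Opens.mem_iSup] at this
    obtain ⟨U, hU⟩ := this
    exact TopologicalSpace.Opens.mem_iSup.mpr ⟨U, hU⟩
  change MorphismProperty.isomorphisms Scheme (awnDesc π hπ) ↔ _
  rw [IsZariskiLocalAtTarget.iff_of_iSup_eq_top (P := MorphismProperty.isomorphisms Scheme) _ hcover]
  refine forall_congr' fun U => ?_
  let e := IsOpenImmersion.isoOfRangeEq (awnDesc π hπ ⁻¹ᵁ (π ⁻¹ᵁ U.1)).ι ((awnCover X).f U)
      (by simpa using congr($(awnDesc_preimage π hπ U).1))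
  rw [← MorphismProperty.cancel_left_of_respectsIso (MorphismProperty.isomorphisms Scheme) e.inv,
    ← MorphismProperty.cancel_right_of_respectsIso (MorphismProperty.isomorphisms Scheme) _
      (U.2.preimage π).isoSpec.hom]
  have h1 : Function.Bijective (cmpApp π hπ U.2) ↔
      IsIso (Spec.map (CommRingCat.ofHom (cmpApp π hπ U.2))) :=
    (isIso_SpecMap_iff (f := CommRingCat.ofHom (cmpApp π hπ U.2))).symm
  rw [h1]
  change IsIso _ ↔ _
  have : (e.inv ≫ (awnDesc π hπ ∣_ (π ⁻¹ᵁ U.1))) ≫ (U.2.preimage π).isoSpec.hom =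
      Spec.map (CommRingCat.ofHom (cmpApp π hπ U.2)) := by
    rw [← cancel_mono (U.2.preimage π).fromSpec]
    simp [IsAffineOpen.isoSpec_hom, e, ι_awnDesc]
  rw [this]

include hπ in
theorem bijective_cmpApp_iff (U : X.affineOpens) :
    Function.Bijective (cmpApp π hπ U.2) ↔ HTop.IsAWNRing Γ(Y, π ⁻¹ᵁ U.1) :=
  Groth.Agent.S7423.result (toAwn Γ(X, U.1)) (isRingAWN_toAwn _) (π.app U.1).hom
    (isUnivHomeo_SpecMap_app π hπ U.2) (cmpApp π hπ U.2) (cmpApp_comp π hπ U.2)

omit hπ in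
theorem forall_isAWNRing_preimage_iff :
    (∀ U : X.affineOpens, HTop.IsAWNRing Γ(Y, π ⁻¹ᵁ U.1)) ↔ HTop.IsAWN Y := by
  constructor
  · intro h y
    obtain ⟨_, ⟨U, hU, rfl⟩, hyU, -⟩ :=
      X.isBasis_affineOpens.exists_subset_of_mem_open (Set.mem_univ (π y)) isOpen_univ
    exact ⟨⟨π ⁻¹ᵁ U, hU.preimage π⟩, hyU, h ⟨U, hU⟩⟩
  · intro h U
    exact ((Groth.Agent.S7420.result Y).2.mp h) ⟨π ⁻¹ᵁ U.1, U.2.preimage π⟩

theorem isIso_awnDesc_iff_isAWN : IsIso (awnDesc π hπ) ↔ HTop.IsAWN Y := by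
  rw [isIso_awnDesc_iff, ← forall_isAWNRing_preimage_iff π]
  exact forall_congr' fun U => bijective_cmpApp_iff π hπ U

end Iso

section Main

variable (X : Scheme.{u})

theorem isUnivHomeo_id : FlatMor.IsUnivHomeo (𝟙 X) := by
  unfold FlatMor.IsUnivHomeo
  intro X' Y' i₁ i₂ f' h
  have : IsIso f' := h.isIso_fst_of_isIso
  exact f'.homeomorph.isHomeomorph

theorem awnDesc_id : awnDesc (𝟙 X) (isUnivHomeo_id X) = fromAwn X := by
  have := awnDesc_comp (𝟙 X) (isUnivHomeo_id X)
  rwa [Category.comp_id] at this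

theorem isIso_fromAwn_iff : IsIso (fromAwn X) ↔ HTop.IsAWN X := by
  rw [← awnDesc_id]
  exact isIso_awnDesc_iff_isAWN (𝟙 X) (isUnivHomeo_id X)

set_option backward.isDefEq.respectTransparency.types false in
set_option backward.defeqAttrib.useBackward true in
instance isReduced_awnSch : IsReduced (awnSch X) :=
  have (i : _) : IsReduced ((awnCover X).X i) := by
    have : _root_.IsReduced ((awnDiagram X).obj (.op i.1)) :=
      isReduced_of_isRingAWN _ (isRingAWN_toAwn Γ(X, i.1))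
    dsimp [awnCover, awnGlueData, relativeGluingData]
    infer_instance
  .of_openCover _ (awnCover X)

variable {X}

/-- transport of an absolute weak normalization along an isomorphism of the source. -/
theorem isAWNormalization_iso_comp {X' X'' : Scheme.{u}} (ν : X' ⟶ X)
    (hν : HTop.IsAWNormalization ν) (e : X'' ≅ X') : HTop.IsAWNormalization (e.hom ≫ ν) := by
  refine ⟨(MorphismProperty.cancel_left_of_respectsIso FlatMor.IsUnivHomeo e.hom ν).mpr hν.1,
    fun Y π hπ => ?_⟩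
  obtain ⟨h, hh, huniq⟩ := hν.2 Y π hπ
  refine ⟨e.hom ≫ h, by show (e.hom ≫ h) ≫ π = e.hom ≫ ν; rw [Category.assoc, hh],
    fun h' hh' => ?_⟩
  have hh'' : h' ≫ π = e.hom ≫ ν := hh'
  have : e.inv ≫ h' = h := huniq _ (by
    show (e.inv ≫ h') ≫ π = ν
    rw [Category.assoc, hh'', Iso.inv_hom_id_assoc])
  rw [← this, Iso.hom_inv_id_assoc]

/-- Two absolute weak normalizations are uniquely isomorphic. -/
theorem exists_iso_of_isAWNormalization {X' X'' : Scheme.{u}} (ν : X' ⟶ X) (ν' : X'' ⟶ X)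
    (hν : HTop.IsAWNormalization ν) (hν' : HTop.IsAWNormalization ν') :
    ∃ e : X'' ≅ X', e.hom ≫ ν = ν' := by
  obtain ⟨a, ha, -⟩ := hν.2 X'' ν' hν'.1
  obtain ⟨b, hb, -⟩ := hν'.2 X' ν hν.1
  obtain ⟨c, -, hc⟩ := hν.2 X' ν hν.1
  obtain ⟨d, -, hd⟩ := hν'.2 X'' ν' hν'.1
  refine ⟨⟨b, a, ?_, ?_⟩, hb⟩
  · rw [hd (b ≫ a) (by show (b ≫ a) ≫ ν' = ν'; rw [Category.assoc, ha, hb]),
      hd (𝟙 _) (Category.id_comp _)]
  · rw [hc (a ≫ b) (by show (a ≫ b) ≫ ν = ν; rw [Category.assoc, hb, ha]),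
      hc (𝟙 _) (Category.id_comp _)]

/-- A universal homeomorphism from a reduced scheme onto an absolutely weakly normal scheme is
an isomorphism. -/
theorem isIso_of_isUnivHomeo_of_isAWN {Y : Scheme.{u}} (π : Y ⟶ X) (hπ : FlatMor.IsUnivHomeo π)
    [IsReduced Y] (hX : HTop.IsAWN X) : IsIso π := by
  have := isAffineHom_of_isUnivHomeo π hπ
  change MorphismProperty.isomorphisms Scheme π
  rw [IsZariskiLocalAtTarget.iff_of_iSup_eq_top (P := MorphismProperty.isomorphisms Scheme) _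
    (iSup_affineOpens_eq_top X)]
  intro U
  change IsIso _
  have hU : HTop.IsAWNRing Γ(X, U.1) := ((Groth.Agent.S7420.result X).2.mp hX) U
  have hbij : Function.Bijective (π.app U.1).hom :=
    bijective_of_UH_of_isAWNRing _ (UH_app π hπ U.2) hU
  have hiso : IsIso (π.app U.1) := by
    rw [ConcreteCategory.isIso_iff_bijective]
    exact hbij
  exact (isIso_morphismRestrict_iff_isIso_app π U.2).mpr hiso

theorem isAWN_iff_isAWNormalization_id (X : Scheme.{u}) :
    HTop.IsAWN X ↔ HTop.IsAWNormalization (𝟙 X) := by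
  constructor
  · intro hX
    have : IsIso (fromAwn X) := (isIso_fromAwn_iff X).mpr hX
    have := isAWNormalization_iso_comp (fromAwn X) (isAWNormalization_fromAwn X)
      (asIso (fromAwn X)).symm
    simpa using this
  · intro h
    obtain ⟨e, he⟩ := exists_iso_of_isAWNormalization (𝟙 X) (fromAwn X) h
      (isAWNormalization_fromAwn X)
    rw [Category.comp_id] at he
    rw [← isIso_fromAwn_iff, ← he]
    infer_instance

theorem isAWN_iff_forall_isIso (X : Scheme.{u}) :
    HTop.IsAWN X ↔ ∀ (Y : Scheme.{u}) (π : Y ⟶ X), FlatMor.IsUnivHomeo π →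
      AlgebraicGeometry.IsReduced Y → IsIso π := by
  constructor
  · intro hX Y π hπ hY
    exact isIso_of_isUnivHomeo_of_isAWN π hπ hX
  · intro h
    rw [← isIso_fromAwn_iff]
    exact h _ (fromAwn X) (isUnivHomeo_fromAwn X) inferInstance

theorem isIso_iff_isAWN_of_isAWNormalization {X' Y : Scheme.{u}} (ν : X' ⟶ X)
    (hν : HTop.IsAWNormalization ν) (π : Y ⟶ X) (hπ : FlatMor.IsUnivHomeo π) (h : X' ⟶ Y)
    (hh : h ≫ π = ν) : IsIso h ↔ HTop.IsAWN Y := by
  have := isAffineHom_of_isUnivHomeo π hπ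
  obtain ⟨e, he⟩ := exists_iso_of_isAWNormalization ν (fromAwn X) hν (isAWNormalization_fromAwn X)
  have key : e.hom ≫ h = awnDesc π hπ := by
    apply awnSch_hom_ext π hπ _ _ _ (awnDesc_comp π hπ)
    rw [Category.assoc, hh, he]
  rw [← isIso_awnDesc_iff_isAWN π hπ, ← key]
  constructor
  · intro _; infer_instance
  · intro hI
    have : h = e.inv ≫ (e.hom ≫ h) := by simp
    rw [this]
    infer_instance

end Main

end Groth.Agent.Lib.Seat33.AWNSch
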