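import Mathlib
import Groth.Agent.Lib.Helper28Depth

/-!
# Generators of an ideal with a regular prefix (Kaplansky, Commutative Rings, Thm 124/125)

* `exists_add_notMem`: prime avoidance for cosets.
* `exists_generators_regular_prefix`: in a Noetherian ring, an ideal `J ≠ ⊤` of grade `j` generated by
  a list of `c` elements has `j ≤ c` and is generated by a list of `c` elements whose first `j` members
  form a regular sequence.
-/

set_option autoImplicit false
universe u

namespace Groth.Agent.Lib.Seat86.RegPrefix

open RingTheory.Sequence Groth.Agent.Lib.Helper28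

/-- **Prime avoidance for cosets** (Kaplansky, Thm 124): given finitely many primes such that each
prime containing `I` does not contain `x`, the coset `x + I` contains an element outside all of
them. -/
theorem exists_add_notMem {A : Type u} [CommRing A] (I : Ideal A) :
    ∀ (F : Finset (Ideal A)), (∀ p ∈ F, p.IsPrime) → ∀ x : A, (∀ p ∈ F, I ≤ p → x ∉ p) →
      ∃ y ∈ I, ∀ p ∈ F, x + y ∉ p := by
  classical
  intro F
  induction' hn : F.card with n ih generalizing F
  · intro _ x _
    rw [Finset.card_eq_zero] at hn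
    subst hn
    exact ⟨0, I.zero_mem, fun p hp => absurd hp (Finset.notMem_empty _)⟩
  · intro hprime x hF
    have hne : F.Nonempty := Finset.card_pos.mp (by omega)
    obtain ⟨p₀, hp₀, hmin⟩ := F.exists_minimal hne
    have hcard : (F.erase p₀).card = n := by rw [Finset.card_erase_of_mem hp₀, hn]; rfl
    obtain ⟨y', hy'I, hy'⟩ := ih (F.erase p₀) hcard
      (fun p hp => hprime p (Finset.mem_of_mem_erase hp)) x
      (fun p hp => hF p (Finset.mem_of_mem_erase hp))
    have hp₀prime : p₀.IsPrime := hprime p₀ hp₀
    by_cases hx : x + y' ∈ p₀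
    · by_cases hIp : I ≤ p₀
      · -- then `x ∉ p₀` but `x + y' ∈ p₀` and `y' ∈ I ≤ p₀`: contradiction
        exfalso
        apply hF p₀ hp₀ hIp
        have : x = (x + y') - y' := by ring
        rw [this]
        exact p₀.sub_mem hx (hIp hy'I)
      · obtain ⟨cI, hcI, hcI'⟩ := SetLike.not_le_iff_exists.mp hIp
        have hc : ∀ p ∈ F.erase p₀, ∃ c ∈ p, c ∉ p₀ := by
          intro p hp
          apply SetLike.not_le_iff_exists.mp
          intro hle
          have h2 : p ≠ p₀ := Finset.ne_of_mem_erase hp
          exact h2 (le_antisymm hle (hmin (Finset.mem_of_mem_erase hp) hle))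
        choose! c hc1 hc2 using hc
        let z : A := cI * ∏ p ∈ F.erase p₀, c p
        have hzI : z ∈ I := I.mul_mem_right _ hcI
        have hz0 : z ∉ p₀ := by
          intro hz
          rcases hp₀prime.mem_or_mem hz with h | h
          · exact hcI' h
          · obtain ⟨p, hp, hmem⟩ := (hp₀prime.prod_mem_iff).mp h
            exact hc2 p hp hmem
        have hz : ∀ p ∈ F.erase p₀, z ∈ p := by
          intro p hp
          apply Ideal.mul_mem_left
          exact Ideal.mem_of_dvd _ (Finset.dvd_prod_of_mem c hp) (hc1 p hp)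
        refine ⟨y' + z, I.add_mem hy'I hzI, ?_⟩
        intro p hp hmem
        by_cases h0 : p = p₀
        · subst h0
          have : z = (x + (y' + z)) - (x + y') := by ring
          exact hz0 (this ▸ Ideal.sub_mem _ hmem hx)
        · have hp' : p ∈ F.erase p₀ := Finset.mem_erase.mpr ⟨h0, hp⟩
          have : x + y' = (x + (y' + z)) - z := by ring
          exact hy' p hp' (this ▸ Ideal.sub_mem _ hmem (hz p hp'))
    · refine ⟨y', hy'I, ?_⟩
      intro p hp
      by_cases h0 : p = p₀
      · subst h0; exact hx
      · exact hy' p (Finset.mem_erase.mpr ⟨h0, hp⟩)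

section Main

variable {T : Type u} [CommRing T] [IsNoetherianRing T]

omit [IsNoetherianRing T] in
/-- elements of `ofList bs` kill the quotient by `ofList bs • ⊤` -/
lemma smul_quot_eq_zero (bs : List T) {r : T} (hr : r ∈ Ideal.ofList bs)
    (m : T ⧸ (Ideal.ofList bs • ⊤ : Submodule T T)) : r • m = 0 := by
  obtain ⟨t, rfl⟩ := Submodule.Quotient.mk_surjective _ m
  rw [← Submodule.Quotient.mk_smul, Submodule.Quotient.mk_eq_zero]
  exact Submodule.smul_mem_smul hr Submodule.mem_top

omit [IsNoetherianRing T] in
lemma smul_top_ne_top {J : Ideal T} (hJ : J ≠ ⊤) : J • (⊤ : Submodule T T) ≠ ⊤ := by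
  intro h
  apply hJ
  rw [eq_top_iff, ← h]
  exact Submodule.smul_le.mpr (fun r hr n _ => J.mul_mem_right n hr)

/-- the inductive step: a regular element in the coset `a + ofList as` modulo `bs` -/
lemma exists_regular_coset (J : Ideal T) (hJ : J ≠ ⊤) (bs : List T) (a : T) (as : List T)
    (hgen : Ideal.ofList (bs ++ a :: as) = J)
    (hdepth : 1 ≤ LocCoh.idealDepth J (T ⧸ (Ideal.ofList bs • ⊤ : Submodule T T))) :
    ∃ y ∈ Ideal.ofList as,
      IsSMulRegular (T ⧸ (Ideal.ofList bs • ⊤ : Submodule T T)) (a + y) := by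
  classical
  have hmem : ∀ r ∈ bs, r ∈ J := by
    intro r hr
    rw [← hgen]
    exact Ideal.subset_span (List.mem_append_left _ hr)
  have hIM := smul_top_quot_ofList_ne_top J (M := T) hmem (smul_top_ne_top hJ)
  obtain ⟨x, hxJ, hxreg⟩ := (one_le_idealDepth_iff hIM).mp hdepth
  set Mb := T ⧸ (Ideal.ofList bs • ⊤ : Submodule T T) with hMb
  have hfin : (associatedPrimes T Mb).Finite := associatedPrimes.finite T Mb
  -- an element outside all associated primes is regular
  have hregular : ∀ r : T, (∀ p ∈ associatedPrimes T Mb, r ∉ p) → IsSMulRegular Mb r := by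
    intro r hr
    rw [isSMulRegular_iff_right_eq_zero_of_smul]
    intro m hm
    by_contra hm0
    have : r ∈ ⋃ p ∈ associatedPrimes T Mb, (p : Set T) := by
      rw [biUnion_associatedPrimes_eq_zero_divisors]
      exact ⟨m, hm0, hm⟩
    obtain ⟨p, hp, hrp⟩ := Set.mem_iUnion₂.mp this
    exact hr p hp hrp
  have hxnot : ∀ p ∈ associatedPrimes T Mb, x ∉ p := by
    intro p hp hxp
    have : x ∈ ⋃ p ∈ associatedPrimes T Mb, (p : Set T) := Set.mem_iUnion₂.mpr ⟨p, hp, hxp⟩
    rw [biUnion_associatedPrimes_eq_zero_divisors] at this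
    obtain ⟨m, hm0, hm⟩ := this
    exact hm0 ((isSMulRegular_iff_right_eq_zero_of_smul.mp hxreg) m hm)
  -- coset avoidance
  have hJeq : J = Ideal.span {a} ⊔ (Ideal.ofList bs ⊔ Ideal.ofList as) := by
    rw [← hgen, Ideal.ofList_append, Ideal.ofList_cons]
    rw [sup_comm (Ideal.ofList bs), sup_assoc, sup_comm (Ideal.ofList as)]
  obtain ⟨y, hyI, hy⟩ := exists_add_notMem (Ideal.ofList bs ⊔ Ideal.ofList as) hfin.toFinset
    (fun p hp => (hfin.mem_toFinset.mp hp).isPrime) a (by
      intro p hp hle hap
      apply hxnot p (hfin.mem_toFinset.mp hp)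
      have : J ≤ p := by
        rw [hJeq]
        exact sup_le ((Ideal.span_singleton_le_iff_mem p).mpr hap) hle
      exact this hxJ)
  obtain ⟨yb, hyb, yr, hyr, rfl⟩ := Submodule.mem_sup.mp hyI
  refine ⟨yr, hyr, ?_⟩
  have hreg1 : IsSMulRegular Mb (a + (yb + yr)) :=
    hregular _ (fun p hp => hy p (hfin.mem_toFinset.mpr hp))
  rw [isSMulRegular_iff_right_eq_zero_of_smul] at hreg1 ⊢
  intro m hm
  apply hreg1 m
  have : (a + (yb + yr)) • m = (a + yr) • m + yb • m := by
    rw [← add_smul]
    congr 1
    ring
  rw [this, hm, smul_quot_eq_zero bs hyb, add_zero]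

/-- **Kaplansky, Thm 125.**  Let `J ≠ ⊤` be an ideal of grade `j` in a Noetherian ring, generated by
a list of length `c`.  Then for every `i ≤ j` there is a generating list `bs ++ as` of length `c` with
`bs` a weakly regular sequence of length `i`. -/
theorem exists_generators_weaklyRegular_prefix (J : Ideal T) (hJ : J ≠ ⊤) (j : ℕ)
    (hj : LocCoh.idealDepth J T = j) (c : ℕ) (ts₀ : List T) (hlen₀ : ts₀.length = c)
    (hgen₀ : Ideal.ofList ts₀ = J) :
    ∀ i : ℕ, i ≤ j → ∃ bs as : List T, bs.length = i ∧ (bs ++ as).length = c ∧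
      Ideal.ofList (bs ++ as) = J ∧ IsWeaklyRegular T bs := by
  intro i
  induction i with
  | zero =>
    intro _
    exact ⟨[], ts₀, rfl, by simpa using hlen₀, by simpa using hgen₀, IsWeaklyRegular.nil T T⟩
  | succ i ih =>
    intro hij
    obtain ⟨bs, as, hbl, hlen, hgen, hreg⟩ := ih (by omega)
    have hmem : ∀ r ∈ bs, r ∈ J := by
      intro r hr
      rw [← hgen]
      exact Ideal.subset_span (List.mem_append_left _ hr)
    have hIM : J • (⊤ : Submodule T T) ≠ ⊤ := smul_top_ne_top hJ
    have hd := idealDepth_quot_ofList_add_length J T hIM bs hmem hreg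
    rw [hj, hbl] at hd
    have hdepth : 1 ≤ LocCoh.idealDepth J (T ⧸ (Ideal.ofList bs • ⊤ : Submodule T T)) := by
      rw [Order.one_le_iff_ne_zero]
      intro h0
      rw [h0, zero_add] at hd
      have : i = j := by exact_mod_cast hd
      omega
    have hIM' := smul_top_quot_ofList_ne_top J (M := T) hmem hIM
    cases as with
    | nil =>
      exfalso
      obtain ⟨x, hxJ, hxreg⟩ := (one_le_idealDepth_iff hIM').mp hdepth
      have hx : x ∈ Ideal.ofList bs := by
        rw [← hgen] at hxJ
        simpa using hxJ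
      have h1 : x • (Submodule.Quotient.mk (1 : T) :
          T ⧸ (Ideal.ofList bs • ⊤ : Submodule T T)) = 0 := smul_quot_eq_zero bs hx _
      have h2 := (isSMulRegular_iff_right_eq_zero_of_smul.mp hxreg) _ h1
      rw [Submodule.Quotient.mk_eq_zero] at h2
      apply hIM
      rw [eq_top_iff]
      intro t _
      have h3 : (Ideal.ofList bs • ⊤ : Submodule T T) ≤ J • ⊤ :=
        Submodule.smul_mono_left (ofList_le_of_forall_mem hmem)
      have h4 : t • (1 : T) ∈ (J • ⊤ : Submodule T T) := Submodule.smul_mem _ t (h3 h2)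
      simpa using h4
    | cons a as =>
      obtain ⟨y, hy, hyreg⟩ := exists_regular_coset J hJ bs a as hgen hdepth
      refine ⟨bs ++ [a + y], as, by simp [hbl], ?_, ?_, ?_⟩
      · simpa using hlen
      · rw [← hgen]
        simp only [List.append_assoc, List.singleton_append, Ideal.ofList_append,
          Ideal.ofList_cons]
        congr 1
        apply le_antisymm
        · refine sup_le ?_ le_sup_right
          rw [Ideal.span_singleton_le_iff_mem]
          exact Ideal.add_mem _ (Ideal.mem_sup_left (Ideal.mem_span_singleton_self a))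
            (Ideal.mem_sup_right hy)
        · refine sup_le ?_ le_sup_right
          rw [Ideal.span_singleton_le_iff_mem]
          have h1 : a + y ∈ Ideal.span {a + y} ⊔ Ideal.ofList as :=
            Ideal.mem_sup_left (Ideal.mem_span_singleton_self _)
          have h2 : y ∈ Ideal.span {a + y} ⊔ Ideal.ofList as := Ideal.mem_sup_right hy
          have h3 := Ideal.sub_mem _ h1 h2
          rwa [add_sub_cancel_right] at h3
      · rw [isWeaklyRegular_append_iff]
        exact ⟨hreg, (isWeaklyRegular_singleton_iff _ _).mpr hyreg⟩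

end Main

end Groth.Agent.Lib.Seat86.RegPrefix
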