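/-
Seat33: an open whose traces on two closed subschemes are affine (matching lemma for Stacks 09NL).
-/
import Mathlib
import Groth.Agent.Lib.Seat86RegPrefix

set_option autoImplicit false
universe u

namespace Groth.Agent.Lib.Seat33.ClosedCover

open AlgebraicGeometry CategoryTheory CategoryTheory.Limits TopologicalSpace IsLocalRing Opposite

section Avoid

variable {Z : Scheme.{u}}

/-- the prime ideal of functions on `V` vanishing at `z ∈ V`. -/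
noncomputable def primeAt (V : Z.Opens) (z : Z) (hz : z ∈ V) : Ideal Γ(Z, V) :=
  Ideal.comap (Z.presheaf.germ V z hz).hom (maximalIdeal (Z.presheaf.stalk z))

instance (V : Z.Opens) (z : Z) (hz : z ∈ V) : (primeAt V z hz).IsPrime :=
  Ideal.comap_isPrime _ _

theorem mem_primeAt_iff (V : Z.Opens) (z : Z) (hz : z ∈ V) (s : Γ(Z, V)) :
    s ∈ primeAt V z hz ↔ z ∉ Z.basicOpen s := by
  rw [Scheme.mem_basicOpen Z s z hz]
  simp only [primeAt, Ideal.mem_comap, IsLocalRing.mem_maximalIdeal, mem_nonunits_iff]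

/-- prime avoidance at finitely many points of an open. -/
theorem exists_mem_ideal_basicOpen (V : Z.Opens) (I : Ideal Γ(Z, V)) (T₁ : Finset Z)
    (hT₁V : ∀ z ∈ T₁, z ∈ V) (h : ∀ z ∈ T₁, ∃ s ∈ I, z ∈ Z.basicOpen s) :
    ∃ s ∈ I, ∀ z ∈ T₁, z ∈ Z.basicOpen s := by
  classical
  obtain ⟨y, hy, hyF⟩ := Groth.Agent.Lib.Seat86.RegPrefix.exists_add_notMem I
    (T₁.attach.image fun z : {z // z ∈ T₁} => primeAt V z.1 (hT₁V z.1 z.2))
    (by
      intro p hp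
      obtain ⟨z, -, rfl⟩ := Finset.mem_image.1 hp
      infer_instance)
    0
    (by
      intro p hp hIp
      obtain ⟨z, -, rfl⟩ := Finset.mem_image.1 hp
      obtain ⟨s, hsI, hzs⟩ := h z.1 z.2
      exact absurd (hIp hsI) (by rw [mem_primeAt_iff]; exact not_not.2 hzs))
  refine ⟨y, hy, fun z hz => ?_⟩
  have := hyF (primeAt V z (hT₁V z hz)) (Finset.mem_image.2 ⟨⟨z, hz⟩, Finset.mem_attach _ _, rfl⟩)
  rw [zero_add, mem_primeAt_iff, not_not] at this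
  exact this

/-- coset prime avoidance at finitely many points of an open. -/
theorem exists_add_mem_basicOpen (V : Z.Opens) (I : Ideal Γ(Z, V)) (k : Γ(Z, V)) (T₁ : Finset Z)
    (hT₁V : ∀ z ∈ T₁, z ∈ V)
    (h : ∀ z ∈ T₁, (∀ s ∈ I, z ∉ Z.basicOpen s) → z ∈ Z.basicOpen k) :
    ∃ κ ∈ I, ∀ z ∈ T₁, z ∈ Z.basicOpen (k + κ) := by
  classical
  obtain ⟨y, hy, hyF⟩ := Groth.Agent.Lib.Seat86.RegPrefix.exists_add_notMem I
    (T₁.attach.image fun z : {z // z ∈ T₁} => primeAt V z.1 (hT₁V z.1 z.2))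
    (by
      intro p hp
      obtain ⟨z, -, rfl⟩ := Finset.mem_image.1 hp
      infer_instance)
    k
    (by
      intro p hp hIp
      obtain ⟨z, -, rfl⟩ := Finset.mem_image.1 hp
      rw [mem_primeAt_iff, not_not]
      apply h z.1 z.2
      intro s hs
      exact (mem_primeAt_iff V z.1 _ s).1 (hIp hs))
  refine ⟨y, hy, fun z hz => ?_⟩
  have := hyF (primeAt V z (hT₁V z hz)) (Finset.mem_image.2 ⟨⟨z, hz⟩, Finset.mem_attach _ _, rfl⟩)
  rw [mem_primeAt_iff, not_not] at this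
  exact this

/-- a basic open of an affine open containing finitely many points and missing a closed set. -/
theorem exists_basicOpen_disjoint {V : Z.Opens} (hV : IsAffineOpen V) (C : Set Z)
    (hC : IsClosed C) (T₁ : Finset Z) (hT₁V : ∀ z ∈ T₁, z ∈ V) (hT₁C : ∀ z ∈ T₁, z ∉ C) :
    ∃ s : Γ(Z, V), (∀ z ∈ T₁, z ∈ Z.basicOpen s) ∧ ∀ z ∈ Z.basicOpen s, z ∉ C := by
  let I : Ideal Γ(Z, V) :=
    { carrier := {s | ∀ z ∈ Z.basicOpen s, z ∉ C}
      zero_mem' := by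
        intro z hz
        rw [Scheme.basicOpen_zero] at hz
        exact absurd hz (by simp)
      add_mem' := by
        intro a b ha hb z hz hzC
        have hzV : z ∈ V := Z.basicOpen_le _ hz
        by_cases hza : z ∈ Z.basicOpen a
        · exact ha z hza hzC
        · by_cases hzb : z ∈ Z.basicOpen b
          · exact hb z hzb hzC
          · rw [← mem_primeAt_iff V z hzV] at hza hzb
            have := (primeAt V z hzV).add_mem hza hzb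
            rw [mem_primeAt_iff] at this
            exact this hz
      smul_mem' := by
        intro c a ha z hz
        rw [smul_eq_mul, Scheme.basicOpen_mul] at hz
        exact ha z hz.2 }
  obtain ⟨s, hsI, hs⟩ := exists_mem_ideal_basicOpen V I T₁ hT₁V (by
    intro z hz
    let Vc : Z.Opens := ⟨Cᶜ, hC.isOpen_compl⟩
    obtain ⟨f, hfV, hzf⟩ := hV.exists_basicOpen_le (V := Vc) ⟨z, hT₁C z hz⟩ (hT₁V z hz)
    exact ⟨f, fun w hw => hfV hw, hzf⟩)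
  exact ⟨s, hs, hsI⟩

end Avoid

section Matching

variable {Y Z₁ Z₂ : Scheme.{u}} (ι₁ : Z₁ ⟶ Y) (ι₂ : Z₂ ⟶ Y) [IsClosedImmersion ι₁]
  [IsClosedImmersion ι₂]

/-- the finitely many points of `Z₁` over a finite set of points of `Y`. -/
theorem exists_finset_preimage (T : Finset Y) :
    ∃ T₁ : Finset Z₁, ∀ z : Z₁, z ∈ T₁ ↔ ι₁ z ∈ T := by
  classical
  have hfin : (ι₁ ⁻¹' (T : Set Y)).Finite :=
    Set.Finite.preimage (ι₁.isClosedEmbedding.injective.injOn) T.finite_toSet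
  exact ⟨hfin.toFinset, fun z => by simp⟩

/-- **First round**: shrink `V₁` to a basic open whose points lying on `Z₂` lie in `V₂`. -/
theorem round1 (V₁ : Z₁.Opens) (hV₁ : IsAffineOpen V₁) (V₂ : Z₂.Opens) (T : Finset Y)
    (hT₁ : ∀ z : Z₁, ι₁ z ∈ T → z ∈ V₁) (hT₂ : ∀ z : Z₂, ι₂ z ∈ T → z ∈ V₂) :
    ∃ h₁ : Γ(Z₁, V₁), (∀ z : Z₁, ι₁ z ∈ T → z ∈ Z₁.basicOpen h₁) ∧
      ∀ z ∈ Z₁.basicOpen h₁, ∀ z' : Z₂, ι₂ z' = ι₁ z → z' ∈ V₂ := by
  obtain ⟨T₁, hT₁mem⟩ := exists_finset_preimage ι₁ T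
  let C₁ : Set Z₁ := ι₁ ⁻¹' (ι₂ '' ((V₂ : Set Z₂)ᶜ))
  have hC₁ : IsClosed C₁ :=
    (ι₂.isClosedEmbedding.isClosedMap _ V₂.isOpen.isClosed_compl).preimage ι₁.continuous
  obtain ⟨s, hs₁, hs₂⟩ := exists_basicOpen_disjoint hV₁ C₁ hC₁ T₁
    (fun z hz => hT₁ z ((hT₁mem z).1 hz))
    (by
      rintro z hz ⟨z', hz'V₂, hz'⟩
      apply hz'V₂
      apply hT₂ z'
      rw [hz']
      exact (hT₁mem z).1 hz)
  refine ⟨s, fun z hz => hs₁ z ((hT₁mem z).2 hz), fun z hz z' hzz' => ?_⟩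
  by_contra hz'
  exact hs₂ z hz ⟨z', hz', hzz'⟩

/-- **Second round**: a function on `V₁'` whose non-vanishing locus on `Z₁ ∩ Z₂` matches that of
`h₂`. -/
theorem round2 (V₁' : Z₁.Opens) (hV₁' : IsAffineOpen V₁') (V₂ : Z₂.Opens) (h₂ : Γ(Z₂, V₂))
    (T : Finset Y) (hT₁ : ∀ z : Z₁, ι₁ z ∈ T → z ∈ V₁')
    (hT₂ : ∀ z : Z₂, ι₂ z ∈ T → z ∈ Z₂.basicOpen h₂)
    (hR1 : ∀ z ∈ V₁', ∀ z' : Z₂, ι₂ z' = ι₁ z → z' ∈ V₂) :
    ∃ k₁ : Γ(Z₁, V₁'), (∀ z : Z₁, ι₁ z ∈ T → z ∈ Z₁.basicOpen k₁) ∧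
      ∀ z ∈ V₁', ∀ z' : Z₂, ι₂ z' = ι₁ z → (z ∈ Z₁.basicOpen k₁ ↔ z' ∈ Z₂.basicOpen h₂) := by
  obtain ⟨T₁, hT₁mem⟩ := exists_finset_preimage ι₁ T
  let p₁ : pullback ι₁ ι₂ ⟶ Z₁ := pullback.fst ι₁ ι₂
  let p₂ : pullback ι₁ ι₂ ⟶ Z₂ := pullback.snd ι₁ ι₂
  have hcond : ∀ p : ↥(pullback ι₁ ι₂), ι₁ (p₁ p) = ι₂ (p₂ p) := by
    intro p
    rw [← Scheme.Hom.comp_apply, ← Scheme.Hom.comp_apply, pullback.condition]
  have hle : p₁ ⁻¹ᵁ V₁' ≤ p₂ ⁻¹ᵁ V₂ := by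
    intro p hp
    exact hR1 (p₁ p) hp (p₂ p) (hcond p).symm
  let g₁ : Γ(pullback ι₁ ι₂, p₁ ⁻¹ᵁ V₁') := p₂.appLE V₂ (p₁ ⁻¹ᵁ V₁') hle h₂
  obtain ⟨k₀, hk₀⟩ := p₁.app_surjective V₁' hV₁' g₁
  let 𝔨 : Ideal Γ(Z₁, V₁') := RingHom.ker (p₁.app V₁').hom
  -- basic opens upstairs
  have hbo₁ : ∀ (k : Γ(Z₁, V₁')) (p : ↥(pullback ι₁ ι₂)),
      p ∈ (pullback ι₁ ι₂).basicOpen (p₁.app V₁' k) ↔ p₁ p ∈ Z₁.basicOpen k := by
    intro k p
    rw [← Scheme.Hom.preimage_basicOpen]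
    rfl
  have hbo₂ : ∀ p : ↥(pullback ι₁ ι₂), p ∈ (pullback ι₁ ι₂).basicOpen g₁ ↔
      p ∈ p₁ ⁻¹ᵁ V₁' ∧ p₂ p ∈ Z₂.basicOpen h₂ := by
    intro p
    simp only [g₁, Scheme.Hom.appLE, CommRingCat.comp_apply]
    rw [Scheme.basicOpen_res, ← Scheme.Hom.preimage_basicOpen]
    rfl
  -- points where the kernel vanishes lie on the pullback
  have hrange : ∀ z ∈ V₁', (∀ s ∈ 𝔨, z ∉ Z₁.basicOpen s) → z ∈ Set.range p₁ := by
    intro z hz hall
    by_contra hzr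
    let Vc : Z₁.Opens := ⟨(Set.range p₁)ᶜ, p₁.isClosedEmbedding.isClosed_range.isOpen_compl⟩
    obtain ⟨f, hfV, hzf⟩ := hV₁'.exists_basicOpen_le (V := Vc) ⟨z, hzr⟩ hz
    have hbot : (pullback ι₁ ι₂).basicOpen (p₁.app V₁' f) = ⊥ := by
      rw [← Scheme.Hom.preimage_basicOpen]
      ext p
      simp only [Opens.coe_bot, Set.mem_empty_iff_false, iff_false]
      intro hp
      exact hfV hp ⟨p, rfl⟩
    have hcomp : IsCompact ((p₁ ⁻¹ᵁ V₁' : (pullback ι₁ ι₂).Opens) : Set ↥(pullback ι₁ ι₂)) :=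
      (hV₁'.preimage p₁).isCompact
    obtain ⟨n, hn⟩ := (Scheme.isNilpotent_iff_basicOpen_eq_bot_of_isCompact hcomp _).2 hbot
    have hfn : f ^ n ∈ 𝔨 := by
      rw [RingHom.mem_ker, map_pow]
      exact hn
    apply hall (f ^ n) hfn
    rcases Nat.eq_zero_or_pos n with rfl | hpos
    · rw [pow_zero, Scheme.basicOpen_of_isUnit _ isUnit_one]
      exact hz
    · rw [Scheme.basicOpen_pow Z₁ f hpos]
      exact hzf
  obtain ⟨κ, hκ, hκT⟩ := exists_add_mem_basicOpen V₁' 𝔨 k₀ T₁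
    (fun z hz => hT₁ z ((hT₁mem z).1 hz))
    (by
      intro z hz hall
      have hzV : z ∈ V₁' := hT₁ z ((hT₁mem z).1 hz)
      obtain ⟨p, rfl⟩ := hrange z hzV hall
      rw [← hbo₁, hk₀, hbo₂]
      refine ⟨hzV, hT₂ _ ?_⟩
      rw [← hcond p]
      exact (hT₁mem _).1 hz)
  have hk : p₁.app V₁' (k₀ + κ) = g₁ := by
    rw [map_add, hk₀, (RingHom.mem_ker).1 hκ, add_zero]
  refine ⟨k₀ + κ, fun z hz => hκT z ((hT₁mem z).2 hz), ?_⟩
  intro z hz z' hzz'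
  obtain ⟨p, hp₁, hp₂⟩ := Scheme.Pullback.exists_preimage_pullback (f := ι₁) (g := ι₂) z z' hzz'.symm
  have hp₁' : p₁ p = z := hp₁
  have hp₂' : p₂ p = z' := hp₂
  rw [← hp₁', ← hbo₁, hk, hbo₂, hp₂']
  constructor
  · exact fun h => h.2
  · intro h
    refine ⟨?_, h⟩
    show p₁ p ∈ V₁'
    rw [hp₁']; exact hz

/-- **Matching lemma.**  Two closed immersions into `Y`, affine opens `V₁ ⊆ Z₁`, `V₂ ⊆ Z₂` containing
the points over a finite set `T`.  Then some open `V ⊆ Y` containing `T` has affine traces on both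
`Z₁` and `Z₂`. -/
theorem exists_open_affine_preimages (V₁ : Z₁.Opens) (hV₁ : IsAffineOpen V₁) (V₂ : Z₂.Opens)
    (hV₂ : IsAffineOpen V₂) (T : Finset Y) (hT₁ : ∀ z : Z₁, ι₁ z ∈ T → z ∈ V₁)
    (hT₂ : ∀ z : Z₂, ι₂ z ∈ T → z ∈ V₂) :
    ∃ V : Y.Opens, (∀ t ∈ T, t ∈ V) ∧ IsAffineOpen (ι₁ ⁻¹ᵁ V) ∧ IsAffineOpen (ι₂ ⁻¹ᵁ V) := by
  obtain ⟨h₁, hh₁T, hh₁R⟩ := round1 ι₁ ι₂ V₁ hV₁ V₂ T hT₁ hT₂
  obtain ⟨h₂, hh₂T, hh₂R⟩ := round1 ι₂ ι₁ V₂ hV₂ V₁ T hT₂ hT₁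
  have hV₁' : IsAffineOpen (Z₁.basicOpen h₁) := hV₁.basicOpen h₁
  have hV₂' : IsAffineOpen (Z₂.basicOpen h₂) := hV₂.basicOpen h₂
  obtain ⟨k₁, hk₁T, hk₁R⟩ := round2 ι₁ ι₂ (Z₁.basicOpen h₁) hV₁' V₂ h₂ T hh₁T hh₂T hh₁R
  obtain ⟨k₂, hk₂T, hk₂R⟩ := round2 ι₂ ι₁ (Z₂.basicOpen h₂) hV₂' V₁ h₁ T hh₂T hh₁T hh₂R
  let Cl : Set Y := ι₁ '' ((Z₁.basicOpen k₁ : Set Z₁)ᶜ) ∪ ι₂ '' ((Z₂.basicOpen k₂ : Set Z₂)ᶜ)
  have hCl : IsClosed Cl :=
    (ι₁.isClosedEmbedding.isClosedMap _ (Z₁.basicOpen k₁).isOpen.isClosed_compl).union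
      (ι₂.isClosedEmbedding.isClosedMap _ (Z₂.basicOpen k₂).isOpen.isClosed_compl)
  let V : Y.Opens := ⟨Clᶜ, hCl.isOpen_compl⟩
  have hpre₁ : ι₁ ⁻¹ᵁ V = Z₁.basicOpen k₁ := by
    ext z
    show ι₁ z ∈ Clᶜ ↔ z ∈ Z₁.basicOpen k₁
    constructor
    · intro hz
      by_contra hzk
      exact hz (Or.inl ⟨z, hzk, rfl⟩)
    · intro hz hzCl
      rcases hzCl with ⟨w, hw, hwz⟩ | ⟨z', hz', hz'z⟩
      · rw [ι₁.isClosedEmbedding.injective hwz] at hw
        exact hw hz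
      · have hzV₁' : z ∈ Z₁.basicOpen h₁ := Z₁.basicOpen_le k₁ hz
        have hz'V₂' : z' ∈ Z₂.basicOpen h₂ := (hk₁R z hzV₁' z' hz'z).1 hz
        exact hz' ((hk₂R z' hz'V₂' z hz'z.symm).2 hzV₁')
  have hpre₂ : ι₂ ⁻¹ᵁ V = Z₂.basicOpen k₂ := by
    ext z'
    show ι₂ z' ∈ Clᶜ ↔ z' ∈ Z₂.basicOpen k₂
    constructor
    · intro hz
      by_contra hzk
      exact hz (Or.inr ⟨z', hzk, rfl⟩)
    · intro hz' hzCl
      rcases hzCl with ⟨z, hz, hzz'⟩ | ⟨w, hw, hwz⟩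
      · have hz'V₂' : z' ∈ Z₂.basicOpen h₂ := Z₂.basicOpen_le k₂ hz'
        have hzV₁' : z ∈ Z₁.basicOpen h₁ := (hk₂R z' hz'V₂' z hzz').1 hz'
        exact hz ((hk₁R z hzV₁' z' hzz'.symm).2 hz'V₂')
      · rw [ι₂.isClosedEmbedding.injective hwz] at hw
        exact hw hz'
  refine ⟨V, ?_, ?_, ?_⟩
  · intro t ht htCl
    rcases htCl with ⟨w, hw, rfl⟩ | ⟨w, hw, rfl⟩
    · exact hw (hk₁T w ht)
    · exact hw (hk₂T w ht)
  · rw [hpre₁]; exact hV₁'.basicOpen k₁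
  · rw [hpre₂]; exact hV₂'.basicOpen k₂

end Matching

section Chevalley

/-- Chevalley's theorem (Stacks 05YU), as a hypothesis: the target of a surjective universally
closed morphism from an affine scheme is affine. -/
def ChevalleyHyp : Prop :=
  ∀ (X S : Scheme.{u}) (f : X ⟶ S) [IsAffine X] [Surjective f] [UniversallyClosed f], IsAffine S

variable {Y Z₁ Z₂ : Scheme.{u}} (ι₁ : Z₁ ⟶ Y) (ι₂ : Z₂ ⟶ Y) [IsClosedImmersion ι₁]
  [IsClosedImmersion ι₂]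

/-- an open whose traces on two closed subschemes covering `Y` are affine is affine. -/
theorem isAffineOpen_of_closedCover (hChev : ChevalleyHyp.{u})
    (hsurj : ∀ y : Y, y ∈ Set.range ι₁ ∪ Set.range ι₂) (V : Y.Opens)
    (h₁ : IsAffineOpen (ι₁ ⁻¹ᵁ V)) (h₂ : IsAffineOpen (ι₂ ⁻¹ᵁ V)) : IsAffineOpen V := by
  have : IsAffine (ι₁ ⁻¹ᵁ V).toScheme := h₁
  have : IsAffine (ι₂ ⁻¹ᵁ V).toScheme := h₂
  have hs : Surjective (coprod.desc (ι₁ ∣_ V) (ι₂ ∣_ V)) := by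
    constructor
    rintro ⟨v, hv⟩
    rcases hsurj v with ⟨z, rfl⟩ | ⟨z, rfl⟩
    · refine ⟨(coprod.inl : (ι₁ ⁻¹ᵁ V).toScheme ⟶ _) ⟨z, hv⟩, ?_⟩
      rw [← Scheme.Hom.comp_apply, coprod.inl_desc]
      apply Subtype.ext
      exact morphismRestrict_base_coe ι₁ V ⟨z, hv⟩
    · refine ⟨(coprod.inr : (ι₂ ⁻¹ᵁ V).toScheme ⟶ _) ⟨z, hv⟩, ?_⟩
      rw [← Scheme.Hom.comp_apply, coprod.inr_desc]
      apply Subtype.ext
      exact morphismRestrict_base_coe ι₂ V ⟨z, hv⟩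
  exact hChev _ _ (coprod.desc (ι₁ ∣_ V) (ι₂ ∣_ V))

end Chevalley

section Components

open Scheme.IdealSheafData

variable {X : Scheme.{u}} (T : Finset X)

/-- the points of `T` on the closed set `C` lie in an affine open of `C` with its reduced
structure. -/
def HasAffNbhd (C : Closeds X) : Prop :=
  ∃ V : (vanishingIdeal C).subscheme.Opens, IsAffineOpen V ∧
    ∀ t ∈ T, t ∈ C → t ∈ (vanishingIdeal C).subschemeι '' (V : Set _)

theorem hasAffNbhd_bot : HasAffNbhd T (⊥ : Closeds X) :=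
  ⟨⊥, isAffineOpen_bot _, fun t _ ht => absurd ht (Set.notMem_empty t)⟩

theorem mem_of_subschemeι_mem (C : Closeds X) (z : (vanishingIdeal C).subscheme) :
    (vanishingIdeal C).subschemeι z ∈ C := by
  have : (vanishingIdeal C).subschemeι z ∈ Set.range (vanishingIdeal C).subschemeι := ⟨z, rfl⟩
  rw [range_subschemeι, coe_support_vanishingIdeal] at this
  exact this

theorem exists_of_mem (C : Closeds X) (t : X) (ht : t ∈ C) :
    ∃ z : (vanishingIdeal C).subscheme, (vanishingIdeal C).subschemeι z = t := by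
  have : t ∈ Set.range (vanishingIdeal C).subschemeι := by
    rw [range_subschemeι, coe_support_vanishingIdeal]; exact ht
  exact this

theorem hasAffNbhd_sup (hChev : ChevalleyHyp.{u}) (C D : Closeds X) (hC : HasAffNbhd T C)
    (hD : HasAffNbhd T D) : HasAffNbhd T (C ⊔ D) := by
  obtain ⟨V₁, hV₁, hV₁T⟩ := hC
  obtain ⟨V₂, hV₂, hV₂T⟩ := hD
  have hle₁ : vanishingIdeal (C ⊔ D) ≤ vanishingIdeal C := vanishingIdeal_antimono le_sup_left
  have hle₂ : vanishingIdeal (C ⊔ D) ≤ vanishingIdeal D := vanishingIdeal_antimono le_sup_right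
  let ι₁ := inclusion hle₁
  let ι₂ := inclusion hle₂
  let ιY := (vanishingIdeal (C ⊔ D)).subschemeι
  have hι₁ : ∀ z, ιY (ι₁ z) = (vanishingIdeal C).subschemeι z := by
    intro z
    rw [← Scheme.Hom.comp_apply]
    exact congrArg (fun f : _ ⟶ X => f z) (inclusion_subschemeι hle₁)
  have hι₂ : ∀ z, ιY (ι₂ z) = (vanishingIdeal D).subschemeι z := by
    intro z
    rw [← Scheme.Hom.comp_apply]
    exact congrArg (fun f : _ ⟶ X => f z) (inclusion_subschemeι hle₂)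
  obtain ⟨TY, hTY⟩ := exists_finset_preimage ιY T
  obtain ⟨V, hVT, hVa₁, hVa₂⟩ := exists_open_affine_preimages ι₁ ι₂ V₁ hV₁ V₂ hV₂ TY
    (by
      intro z hz
      rw [hTY, hι₁] at hz
      obtain ⟨z₀, hz₀V, hz₀⟩ := hV₁T _ hz (mem_of_subschemeι_mem C z)
      rwa [← (vanishingIdeal C).subschemeι.isClosedEmbedding.injective hz₀])
    (by
      intro z hz
      rw [hTY, hι₂] at hz
      obtain ⟨z₀, hz₀V, hz₀⟩ := hV₂T _ hz (mem_of_subschemeι_mem D z)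
      rwa [← (vanishingIdeal D).subschemeι.isClosedEmbedding.injective hz₀])
  have hVa : IsAffineOpen V := by
    refine isAffineOpen_of_closedCover ι₁ ι₂ hChev ?_ V hVa₁ hVa₂
    intro y
    have hy : ιY y ∈ C ⊔ D := mem_of_subschemeι_mem (C ⊔ D) y
    rcases hy with hy | hy
    · obtain ⟨z, hz⟩ := exists_of_mem C _ hy
      left
      refine ⟨z, ιY.isClosedEmbedding.injective ?_⟩
      rw [hι₁, hz]
    · obtain ⟨z, hz⟩ := exists_of_mem D _ hy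
      right
      refine ⟨z, ιY.isClosedEmbedding.injective ?_⟩
      rw [hι₂, hz]
  refine ⟨V, hVa, fun t ht htCD => ?_⟩
  obtain ⟨y, hy⟩ := exists_of_mem (C ⊔ D) t htCD
  refine ⟨y, hVT y ?_, hy⟩
  rw [hTY]
  show ιY y ∈ T
  rw [hy]; exact ht

theorem hasAffNbhd_finsetSup (hChev : ChevalleyHyp.{u}) (𝒞 : Finset (Closeds X))
    (h : ∀ C ∈ 𝒞, HasAffNbhd T C) : HasAffNbhd T (𝒞.sup id) := by
  classical
  induction 𝒞 using Finset.induction_on with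
  | empty => exact hasAffNbhd_bot T
  | insert C 𝒞 _ ih =>
    rw [Finset.sup_insert]
    exact hasAffNbhd_sup T hChev _ _ (h C (Finset.mem_insert_self _ _))
      (ih fun D hD => h D (Finset.mem_insert_of_mem hD))

/-- from the reduced structure to the scheme itself, given that thickenings of affine schemes are
affine. -/
theorem exists_affineOpen_of_hasAffNbhd_top
    (hThick : ∀ {A B : Scheme.{u}} (t : A ⟶ B) [IsClosedImmersion t], Function.Surjective t →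
      ∀ [IsAffine A], IsAffine B)
    (h : HasAffNbhd T (⊤ : Closeds X)) : ∃ U : X.Opens, IsAffineOpen U ∧ ∀ t ∈ T, t ∈ U := by
  obtain ⟨V, hV, hVT⟩ := h
  let ι := (vanishingIdeal (⊤ : Closeds X)).subschemeι
  have hCl : IsClosed (ι '' ((V : Set _)ᶜ)) :=
    ι.isClosedEmbedding.isClosedMap _ V.isOpen.isClosed_compl
  let U : X.Opens := ⟨(ι '' ((V : Set _)ᶜ))ᶜ, hCl.isOpen_compl⟩
  have hpre : ι ⁻¹ᵁ U = V := by
    ext z
    show ι z ∈ (ι '' ((V : Set _)ᶜ))ᶜ ↔ z ∈ V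
    constructor
    · intro hz
      by_contra hzV
      exact hz ⟨z, hzV, rfl⟩
    · rintro hz ⟨w, hw, hwz⟩
      rw [ι.isClosedEmbedding.injective hwz] at hw
      exact hw hz
  refine ⟨U, ?_, ?_⟩
  · have : IsAffine (ι ⁻¹ᵁ U).toScheme := by
      rw [hpre]; exact hV
    refine hThick (ι ∣_ U) ?_
    rintro ⟨u, hu⟩
    obtain ⟨z, hz⟩ := exists_of_mem (⊤ : Closeds X) u trivial
    have hzU : z ∈ ι ⁻¹ᵁ U := by
      show ι z ∈ U
      rw [hz]; exact hu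
    refine ⟨⟨z, hzU⟩, Subtype.ext ?_⟩
    rw [morphismRestrict_base_coe]
    exact hz
  · intro t ht
    obtain ⟨z, hzV, hz⟩ := hVT t ht trivial
    rintro ⟨w, hw, hwz⟩
    rw [← hz] at hwz
    rw [ι.isClosedEmbedding.injective hwz] at hw
    exact hw hzV

/-- **Stacks 09NL** (modulo Chevalley and thickening hypotheses): if `X` has finitely many irreducible
components and the points of the finite set `T` on each component lie in an affine open of that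
component (reduced structure), then `T` lies in an affine open of `X`. -/
theorem exists_affineOpen_of_components (hChev : ChevalleyHyp.{u})
    (hThick : ∀ {A B : Scheme.{u}} (t : A ⟶ B) [IsClosedImmersion t], Function.Surjective t →
      ∀ [IsAffine A], IsAffine B)
    (hX : (irreducibleComponents (X : Type u)).Finite)
    (h : ∀ (Z : Set X) (hZ : Z ∈ irreducibleComponents (X : Type u)),
      HasAffNbhd T ⟨Z, isClosed_of_mem_irreducibleComponents Z hZ⟩) :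
    ∃ U : X.Opens, IsAffineOpen U ∧ ∀ t ∈ T, t ∈ U := by
  classical
  let 𝒞 : Finset (Closeds X) := hX.toFinset.attach.image fun Z =>
    ⟨Z.1, isClosed_of_mem_irreducibleComponents Z.1 (hX.mem_toFinset.1 Z.2)⟩
  have h𝒞 : ∀ C ∈ 𝒞, HasAffNbhd T C := by
    intro C hC
    obtain ⟨Z, -, rfl⟩ := Finset.mem_image.1 hC
    exact h Z.1 (hX.mem_toFinset.1 Z.2)
  have hsup := hasAffNbhd_finsetSup T hChev 𝒞 h𝒞
  have htop : 𝒞.sup id = ⊤ := by
    rw [eq_top_iff]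
    intro x _
    have hx : irreducibleComponent x ∈ irreducibleComponents (X : Type u) :=
      irreducibleComponent_mem_irreducibleComponents x
    have hmem : (⟨irreducibleComponent x, isClosed_of_mem_irreducibleComponents _ hx⟩ : Closeds X)
        ∈ 𝒞 := Finset.mem_image.2 ⟨⟨_, hX.mem_toFinset.2 hx⟩, Finset.mem_attach _ _, rfl⟩
    exact (Finset.le_sup (f := id) hmem) mem_irreducibleComponent
  rw [htop] at hsup
  exact exists_affineOpen_of_hasAffNbhd_top T hThick hsup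

end Components

end Groth.Agent.Lib.Seat33.ClosedCover
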