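/-
Seat33: finitely many points with Noetherian local rings of dimension at most one on a separated
scheme with locally finitely many irreducible components lie in a common affine open
(Stacks 09NN), modulo Chevalley's theorem (Stacks 05YU) and "thickenings of affines are affine".
-/
import Mathlib
import Groth.Agent.Lib.Seat33AffNbhdInt
import Groth.Agent.Lib.Seat33ClosedCover
import Groth.Agent.Lib.Helper10RedInd

set_option autoImplicit false
universe u

namespace Groth.Agent.Lib.Seat33.AffNbhd

open AlgebraicGeometry CategoryTheory CategoryTheory.Limits TopologicalSpace Opposite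
open Scheme.IdealSheafData Groth.Agent.Lib.Seat33.ClosedCover

section Component

variable {Y : Scheme.{u}} (Z : Set Y) (hZ : Z ∈ irreducibleComponents (Y : Type u))

/-- the closed set underlying an irreducible component. -/
abbrev comp : Closeds Y := ⟨Z, isClosed_of_mem_irreducibleComponents Z hZ⟩

theorem irreducibleSpace_comp : IrreducibleSpace ↥(vanishingIdeal (comp Z hZ)).subscheme :=
  Subtype.irreducibleSpace (s := ((vanishingIdeal (comp Z hZ)).support : Set Y))
    (by rw [coe_support_vanishingIdeal]; exact hZ.1)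

theorem isIntegral_comp : IsIntegral (vanishingIdeal (comp Z hZ)).subscheme := by
  have := irreducibleSpace_comp Z hZ
  have := Groth.Agent.Lib.Helper10.RedInd.isReduced_subscheme_vanishingIdeal (comp Z hZ)
  exact isIntegral_of_irreducibleSpace_of_isReduced _

theorem isSeparated_subscheme [Y.IsSeparated] (I : Y.IdealSheafData) : I.subscheme.IsSeparated := by
  constructor
  rw [← terminal.comp_from I.subschemeι]
  infer_instance

theorem isSeparated_opens {X : Scheme.{u}} [X.IsSeparated] (U : X.Opens) :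
    U.toScheme.IsSeparated := by
  constructor
  rw [← terminal.comp_from U.ι]
  infer_instance

end Component

/-- the quasi-compact case. -/
theorem exists_affineOpen_of_finite_components (hChev : ChevalleyHyp.{u})
    (hThick : ∀ {A B : Scheme.{u}} (t : A ⟶ B) [IsClosedImmersion t], Function.Surjective t →
      ∀ [IsAffine A], IsAffine B)
    {Y : Scheme.{u}} [Y.IsSeparated] (hY : (irreducibleComponents (Y : Type u)).Finite)
    (T : Finset Y)
    (hT : ∀ t ∈ T, IsNoetherianRing (Y.presheaf.stalk t) ∧ ringKrullDim (Y.presheaf.stalk t) ≤ 1) :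
    ∃ U : Y.Opens, IsAffineOpen U ∧ ∀ t ∈ T, t ∈ U := by
  refine exists_affineOpen_of_components T hChev hThick hY ?_
  intro Z hZ
  have hint := isIntegral_comp Z hZ
  have hsep := isSeparated_subscheme (vanishingIdeal (comp Z hZ))
  let ι := (vanishingIdeal (comp Z hZ)).subschemeι
  obtain ⟨TZ, hTZ⟩ := exists_finset_preimage ι T
  obtain ⟨V, hV, -, hVT⟩ := Groth.Agent.Lib.Seat33.AffNbhdInt.exists_affine_of_integral
    (X := (vanishingIdeal (comp Z hZ)).subscheme) TZ (by
      intro z hz
      obtain ⟨hN, hd⟩ := hT (ι z) ((hTZ z).1 hz)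
      have hsurj : Function.Surjective (ι.stalkMap z).hom := ι.stalkMap_surjective z
      exact ⟨isNoetherianRing_of_surjective _ _ _ hsurj,
        (ringKrullDim_le_of_surjective _ hsurj).trans hd⟩)
  refine ⟨V, hV, fun t ht htZ => ?_⟩
  obtain ⟨z, hz⟩ := exists_of_mem (comp Z hZ) t htZ
  refine ⟨z, hVT z ?_, hz⟩
  rw [hTZ]
  show ι z ∈ T
  rw [hz]; exact ht

/-- **Stacks 09NN** modulo Chevalley. -/
theorem exists_affineOpen (hChev : ChevalleyHyp.{u})
    (hThick : ∀ {A B : Scheme.{u}} (t : A ⟶ B) [IsClosedImmersion t], Function.Surjective t →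
      ∀ [IsAffine A], IsAffine B)
    (X : Scheme.{u}) [X.IsSeparated]
    (hirr : ∀ U : X.Opens, IsCompact (U : Set X) → (irreducibleComponents (U : Set X)).Finite)
    (s : Finset X)
    (hs : ∀ x ∈ s, IsNoetherianRing (X.presheaf.stalk x) ∧ ringKrullDim (X.presheaf.stalk x) ≤ 1) :
    ∃ U : X.Opens, IsAffineOpen U ∧ ∀ x ∈ s, x ∈ U := by
  classical
  -- a quasi-compact open containing the points
  have hex : ∀ x : X, ∃ W : X.Opens, IsAffineOpen W ∧ x ∈ W := by
    intro x
    obtain ⟨_, ⟨W, hW, rfl⟩, hxW, -⟩ :=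
      X.isBasis_affineOpens.exists_subset_of_mem_open (Set.mem_univ x) isOpen_univ
    exact ⟨W, hW, hxW⟩
  choose W hW hxW using hex
  let X₀ : X.Opens := ⨆ x ∈ s, W x
  have hX₀c : IsCompact (X₀ : Set X) := by
    have : (X₀ : Set X) = ⋃ x ∈ s, (W x : Set X) := by
      simp only [X₀, Opens.coe_iSup]
    rw [this]
    exact s.isCompact_biUnion fun x _ => (hW x).isCompact
  have hsX₀ : ∀ x ∈ s, x ∈ X₀ := by
    intro x hx
    simp only [X₀, Opens.mem_iSup]
    exact ⟨x, hx, hxW x⟩
  have hsep : X₀.toScheme.IsSeparated := isSeparated_opens X₀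
  have hfin : (irreducibleComponents (X₀.toScheme : Type u)).Finite := hirr X₀ hX₀c
  let T : Finset X₀.toScheme := s.attach.image fun x => ⟨x.1, hsX₀ x.1 x.2⟩
  obtain ⟨U', hU', hU'T⟩ := exists_affineOpen_of_finite_components hChev hThick hfin T (by
    intro t ht
    obtain ⟨x, -, rfl⟩ := Finset.mem_image.1 ht
    obtain ⟨hN, hd⟩ := hs x.1 x.2
    let e := (X₀.stalkIso ⟨x.1, hsX₀ x.1 x.2⟩).commRingCatIsoToRingEquiv
    exact ⟨isNoetherianRing_of_ringEquiv _ e.symm, (ringKrullDim_eq_of_ringEquiv e).le.trans hd⟩)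
  refine ⟨X₀.ι ''ᵁ U', hU'.image_of_isOpenImmersion X₀.ι, fun x hx => ?_⟩
  exact ⟨⟨x, hsX₀ x hx⟩, hU'T _ (Finset.mem_image.2 ⟨⟨x, hx⟩, Finset.mem_attach _ _, rfl⟩), rfl⟩

end Groth.Agent.Lib.Seat33.AffNbhd
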