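import Mathlib
import Groth.Agent.Lib.Helper10ClosureProd

set_option autoImplicit false
universe u
open CategoryTheory CategoryTheory.Limits AlgebraicGeometry

namespace Groth.Agent.Lib.Seat33.ClosureComp

/-- general topological/scheme-theoretic statement: over a field-like base `B`, if
`M : P₁ ⟶ pullback f' g'` has range the "product set" of `range i₁` and `range i₂`, and
`M ≫ c = d ≫ i` then `c` maps `closure(range i₁) × closure(range i₂)` into `closure (range i)`. -/
theorem mem_closure_of_mem_closure {X' Y' B W P₁ Q : Scheme.{u}} (f' : X' ⟶ B) (g' : Y' ⟶ B)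
    [IsIntegral B] [Subsingleton B]
    (A₁ : Set ↥X') (A₂ : Set ↥Y') (M : P₁ ⟶ pullback f' g')
    (hM : Set.range ⇑M = pullback.fst f' g' ⁻¹' A₁ ∩ pullback.snd f' g' ⁻¹' A₂)
    (c : pullback f' g' ⟶ W) (d : P₁ ⟶ Q) (i : Q ⟶ W) (hc : M ≫ c = d ≫ i)
    (p : ↑(pullback f' g')) (h₁ : pullback.fst f' g' p ∈ closure A₁)
    (h₂ : pullback.snd f' g' p ∈ closure A₂) : c p ∈ closure (Set.range ⇑i) := by
  have hcl := Groth.Agent.Lib.Helper10.ClosureProd.closure_inter_preimage
    (IsPullback.of_hasPullback f' g') A₁ A₂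
  have hp : p ∈ closure (Set.range ⇑M) := by
    rw [hM]
    show p ∈ closure ((pullback.fst f' g').base ⁻¹' A₁ ∩ (pullback.snd f' g').base ⁻¹' A₂)
    rw [hcl]
    exact ⟨h₁, h₂⟩
  have h3 : c p ∈ closure (⇑c '' Set.range ⇑M) :=
    image_closure_subset_closure_image c.continuous ⟨p, hp, rfl⟩
  refine closure_mono ?_ h3
  rintro _ ⟨_, ⟨w, rfl⟩, rfl⟩
  refine ⟨d w, ?_⟩
  rw [← Scheme.Hom.comp_apply, ← Scheme.Hom.comp_apply, hc]

end Groth.Agent.Lib.Seat33.ClosureComp
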