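/-
Seat33: descent data relative to a finite locally free surjective morphism are effective when
orbits lie in affine opens (Stacks, Groupoids: descent along finite locally free morphisms), via
the quotient of the finite locally free equivalence relation attached to the descent datum.
-/
import Mathlib
import Groth.Prelude.Def_Desc
import Groth.Prelude.Def_Grpd
import Groth.Agent.S4085
import Groth.Agent.S4086

set_option autoImplicit false
set_option linter.style.haveILetI false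
set_option linter.unusedSectionVars false
universe u
open CategoryTheory CategoryTheory.Limits AlgebraicGeometry TopologicalSpace Opposite

namespace Groth.Agent.Lib.Seat33.DescGrpd

open Desc

variable {X Y : Scheme.{u}} {p : X ⟶ Y} (D : Desc.SchDD p)

/-- the gluing bijections only depend on the points up to propositional equality. -/
theorem φ_congr {T : Scheme.{u}} {x₀ x₀' x₁ x₁' : T ⟶ X} (h₀ : x₀ = x₀') (h₁ : x₁ = x₁')
    (h : x₀ ≫ p = x₁ ≫ p) (h' : x₀' ≫ p = x₁' ≫ p) (v : Lifts D.obj x₀) (v' : Lifts D.obj x₀')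
    (hv : v.1 = v'.1) : (D.φ x₀ x₁ h v).1 = (D.φ x₀' x₁' h' v').1 := by
  subst h₀ h₁
  have : v = v' := Subtype.ext hv
  subst this
  rfl

/-- the arrows of the equivalence relation of a descent datum: `V ×_Y X`. -/
noncomputable abbrev R : Scheme.{u} := pullback (D.obj.hom ≫ p) p

/-- the source map. -/
noncomputable abbrev s : R D ⟶ D.obj.left := pullback.fst (D.obj.hom ≫ p) p

/-- the second projection. -/
noncomputable abbrev x₁ : R D ⟶ X := pullback.snd (D.obj.hom ≫ p) p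

theorem cond : (s D ≫ D.obj.hom) ≫ p = x₁ D ≫ p := by
  rw [Category.assoc]; exact pullback.condition

theorem cond' : s D ≫ D.obj.hom ≫ p = x₁ D ≫ p := pullback.condition

theorem comp_cond {T : Scheme.{u}} (ρ : T ⟶ R D) :
    ((ρ ≫ s D) ≫ D.obj.hom) ≫ p = (ρ ≫ x₁ D) ≫ p := by
  simp only [Category.assoc]; rw [cond' D]

/-- the target map, as a point over the second projection. -/
noncomputable def tL : Lifts D.obj (x₁ D) := D.φ (s D ≫ D.obj.hom) (x₁ D) (cond D) ⟨s D, rfl⟩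

/-- the target map. -/
noncomputable def t : R D ⟶ D.obj.left := (tL D).1

@[reassoc (attr := simp)]
theorem t_hom : t D ≫ D.obj.hom = x₁ D := (tL D).2

/-- the target map on points. -/
theorem lift_t {T : Scheme.{u}} (v : T ⟶ D.obj.left) (x : T ⟶ X)
    (h : (v ≫ D.obj.hom) ≫ p = x ≫ p) :
    pullback.lift v x ((Category.assoc _ _ _).symm.trans h) ≫ t D =
      (D.φ (v ≫ D.obj.hom) x h ⟨v, rfl⟩).1 := by
  set g : T ⟶ R D := pullback.lift v x ((Category.assoc _ _ _).symm.trans h) with hg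
  have h1 : g ≫ s D = v := pullback.lift_fst _ _ _
  have h2 : g ≫ x₁ D = x := pullback.lift_snd _ _ _
  have h' : (g ≫ (s D ≫ D.obj.hom)) ≫ p = (g ≫ x₁ D) ≫ p := by
    simp only [Category.assoc]; rw [cond' D]
  have h3 := D.φ_natural g (s D ≫ D.obj.hom) (x₁ D) (cond D) h' ⟨s D, rfl⟩ ⟨g ≫ s D, by simp⟩ rfl
  refine Eq.trans h3.symm ?_
  exact φ_congr D (by rw [← Category.assoc, h1]) h2 _ _ _ _ h1

theorem comp_t_eq {T : Scheme.{u}} (ρ : T ⟶ R D) :
    ρ ≫ t D = (D.φ ((ρ ≫ s D) ≫ D.obj.hom) (ρ ≫ x₁ D) (comp_cond D ρ) ⟨ρ ≫ s D, rfl⟩).1 := by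
  rw [← lift_t]
  congr 1
  apply pullback.hom_ext
  · rw [pullback.lift_fst]
  · rw [pullback.lift_snd]

theorem hom_ext_R {T : Scheme.{u}} {a b : T ⟶ R D} (h1 : a ≫ s D = b ≫ s D)
    (h2 : a ≫ x₁ D = b ≫ x₁ D) : a = b := pullback.hom_ext h1 h2

/-- the identity. -/
noncomputable def e : D.obj.left ⟶ R D :=
  pullback.lift (𝟙 _) D.obj.hom (by rw [Category.id_comp])

@[reassoc (attr := simp)] theorem e_s : e D ≫ s D = 𝟙 _ := pullback.lift_fst _ _ _
@[reassoc (attr := simp)] theorem e_x₁ : e D ≫ x₁ D = D.obj.hom := pullback.lift_snd _ _ _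

/-- the inverse. -/
noncomputable def i : R D ⟶ R D :=
  pullback.lift (t D) (s D ≫ D.obj.hom) (by rw [t_hom_assoc, Category.assoc, cond'])

@[reassoc (attr := simp)] theorem i_s : i D ≫ s D = t D := pullback.lift_fst _ _ _
@[reassoc (attr := simp)] theorem i_x₁ : i D ≫ x₁ D = s D ≫ D.obj.hom := pullback.lift_snd _ _ _

theorem c_cond : (pullback.snd (s D) (t D) ≫ s D) ≫ D.obj.hom ≫ p =
    (pullback.fst (s D) (t D) ≫ x₁ D) ≫ p := by
  rw [Category.assoc, cond', ← t_hom_assoc, ← pullback.condition_assoc, cond', Category.assoc]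

/-- the composition. -/
noncomputable def c : pullback (s D) (t D) ⟶ R D :=
  pullback.lift (pullback.snd _ _ ≫ s D) (pullback.fst _ _ ≫ x₁ D) (c_cond D)

@[reassoc (attr := simp)] theorem c_s : c D ≫ s D = pullback.snd _ _ ≫ s D :=
  pullback.lift_fst _ _ _
@[reassoc (attr := simp)] theorem c_x₁ : c D ≫ x₁ D = pullback.fst _ _ ≫ x₁ D :=
  pullback.lift_snd _ _ _

theorem e_t : e D ≫ t D = 𝟙 _ := by
  rw [comp_t_eq]
  have h1 := D.φ_self D.obj.hom ⟨𝟙 _, Category.id_comp _⟩
  refine Eq.trans ?_ (congrArg Subtype.val h1)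
  exact φ_congr D (by rw [e_s, Category.id_comp]) (e_x₁ D) _ _ _ _ (e_s D)

theorem i_t : i D ≫ t D = s D := by
  rw [comp_t_eq]
  have h1 := D.φ_comp (s D ≫ D.obj.hom) (x₁ D) (s D ≫ D.obj.hom) (cond D) (cond D).symm ⟨s D, rfl⟩
  have h2 := D.φ_self (s D ≫ D.obj.hom) ⟨s D, rfl⟩
  rw [h2] at h1
  refine Eq.trans ?_ (congrArg Subtype.val h1)
  exact φ_congr D (by rw [i_s, t_hom]) (i_x₁ D) _ _ _ _ (i_s D)

theorem comp_t {T : Scheme.{u}} (α β : T ⟶ R D) (h : α ≫ s D = β ≫ t D) :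
    (pullback.lift α β h ≫ c D) ≫ t D = α ≫ t D := by
  rw [comp_t_eq, comp_t_eq D α]
  have hβ := comp_t_eq D β
  have hαβ : (β ≫ x₁ D) ≫ p = (α ≫ x₁ D) ≫ p :=
    calc (β ≫ x₁ D) ≫ p = ((β ≫ t D) ≫ D.obj.hom) ≫ p := by
          rw [Category.assoc β (t D), t_hom]
      _ = ((α ≫ s D) ≫ D.obj.hom) ≫ p := by rw [h]
      _ = (α ≫ x₁ D) ≫ p := comp_cond D α
  have h1 := D.φ_comp ((β ≫ s D) ≫ D.obj.hom) (β ≫ x₁ D) (α ≫ x₁ D) (comp_cond D β) hαβ
    ⟨β ≫ s D, rfl⟩
  have e1 : (pullback.lift α β h ≫ c D) ≫ s D = β ≫ s D := by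
    rw [Category.assoc, c_s, pullback.lift_snd_assoc]
  have e2 : (pullback.lift α β h ≫ c D) ≫ x₁ D = α ≫ x₁ D := by
    rw [Category.assoc, c_x₁, pullback.lift_fst_assoc]
  refine Eq.trans (φ_congr D (by rw [e1]) e2 _ ((comp_cond D β).trans hαβ) _
    ⟨β ≫ s D, rfl⟩ e1) ?_
  refine Eq.trans (congrArg Subtype.val h1).symm ?_
  refine φ_congr D ?_ rfl _ _ _ _ ?_
  · rw [h, Category.assoc, t_hom]
  · show (D.φ _ _ _ _).1 = α ≫ s D
    rw [h, hβ]

theorem lift_c_s {T : Scheme.{u}} (α β : T ⟶ R D) (h : α ≫ s D = β ≫ t D) :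
    (pullback.lift α β h ≫ c D) ≫ s D = β ≫ s D := by
  rw [Category.assoc, c_s, pullback.lift_snd_assoc]

theorem lift_c_x₁ {T : Scheme.{u}} (α β : T ⟶ R D) (h : α ≫ s D = β ≫ t D) :
    (pullback.lift α β h ≫ c D) ≫ x₁ D = α ≫ x₁ D := by
  rw [Category.assoc, c_x₁, pullback.lift_fst_assoc]

/-- **The equivalence relation of a descent datum**, as a groupoid scheme over `Y`. -/
noncomputable def grpd : Grpd.GroupoidScheme Y where
  U := D.obj.left
  R := R D
  pU := D.obj.hom ≫ p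
  pR := s D ≫ D.obj.hom ≫ p
  s := s D
  t := t D
  e := e D
  i := i D
  c := c D
  s_over := rfl
  t_over := by rw [t_hom_assoc, cond']
  comp_s := fun α β h => lift_c_s D α β h
  comp_t := fun α β h => comp_t D α β h
  assoc := fun α β γ h₁ h₂ => by
    apply hom_ext_R
    · rw [lift_c_s, lift_c_s, lift_c_s]
    · rw [lift_c_x₁, lift_c_x₁, lift_c_x₁]
  e_s := e_s D
  e_t := e_t D
  comp_e := fun α => by
    apply hom_ext_R
    · rw [lift_c_s, Category.assoc, Category.assoc, e_s, Category.comp_id]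
    · rw [lift_c_x₁]
  e_comp := fun α => by
    apply hom_ext_R
    · rw [lift_c_s]
    · rw [lift_c_x₁, Category.assoc, Category.assoc, e_x₁, t_hom]
  i_s := i_s D
  i_t := i_t D
  comp_i := fun α => by
    apply hom_ext_R
    · rw [lift_c_s, Category.assoc, i_s, Category.assoc, Category.assoc, e_s, Category.comp_id]
    · rw [lift_c_x₁, Category.assoc, Category.assoc, e_x₁, t_hom]
  i_comp := fun α => by
    apply hom_ext_R
    · rw [lift_c_s, Category.assoc, Category.assoc, e_s, Category.comp_id]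
    · rw [lift_c_x₁, Category.assoc, i_x₁, Category.assoc, Category.assoc, e_x₁]

theorem p_hom_t (ρ : R D) : p (D.obj.hom (t D ρ)) = p (D.obj.hom (s D ρ)) := by
  have h1 : (t D ≫ D.obj.hom ≫ p) ρ = (s D ≫ D.obj.hom ≫ p) ρ := by
    rw [t_hom_assoc, cond']
  simpa only [Scheme.Hom.comp_apply] using h1

theorem mono_j : Mono (grpd D).j := by
  have key : ∀ {T : Scheme.{u}} (a b : T ⟶ R D),
      a ≫ pullback.lift (t D) (s D) ((grpd D).t_over.trans (grpd D).s_over.symm) =
        b ≫ pullback.lift (t D) (s D) ((grpd D).t_over.trans (grpd D).s_over.symm) → a = b := by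
    intro T a b hab
    have h1 : a ≫ t D = b ≫ t D := by
      have := congrArg (· ≫ pullback.fst _ _) hab
      simp only [Category.assoc, pullback.lift_fst] at this
      exact this
    have h2 : a ≫ s D = b ≫ s D := by
      have := congrArg (· ≫ pullback.snd _ _) hab
      simp only [Category.assoc, pullback.lift_snd] at this
      exact this
    apply hom_ext_R D h2
    rw [← t_hom, ← Category.assoc, h1, Category.assoc]
  exact ⟨fun a b h => key a b h⟩

/-- a morphism of descent data whose underlying morphism of schemes is an isomorphism is an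
isomorphism. -/
theorem isIso_of_isIso_left {D D' : Desc.SchDD p} (f : D ⟶ D') [IsIso f.hom.left] : IsIso f := by
  haveI : IsIso ((Over.forget X).map f.hom) := ‹IsIso f.hom.left›
  haveI : IsIso f.hom := isIso_of_reflects_iso f.hom (Over.forget X)
  refine ⟨⟨⟨inv f.hom, ?_⟩, ?_, ?_⟩⟩
  · intro T x₀ x₁ h v w hw
    have hv : v.1 = w.1 ≫ f.hom.left := by
      rw [hw, Category.assoc, ← Over.comp_left, IsIso.inv_hom_id, Over.id_left, Category.comp_id]
    have := f.comm x₀ x₁ h w v hv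
    rw [this, Category.assoc, ← Over.comp_left, IsIso.hom_inv_id, Over.id_left, Category.comp_id]
  · apply Desc.SchDD.hom_ext
    exact IsIso.hom_inv_id f.hom
  · apply Desc.SchDD.hom_ext
    exact IsIso.inv_hom_id f.hom

section Effective

variable [Surjective p] [IsFinite p] [Flat p] [LocallyOfFinitePresentation p]

theorem isFinLocFree_s : Mor2.IsFinLocFree (grpd D).s :=
  ⟨inferInstanceAs (IsFinite (pullback.fst (D.obj.hom ≫ p) p)),
    inferInstanceAs (Flat (pullback.fst (D.obj.hom ≫ p) p)),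
    inferInstanceAs (LocallyOfFinitePresentation (pullback.fst (D.obj.hom ≫ p) p))⟩

/-- **Effectivity of descent data along a finite locally free surjective morphism**, when the
orbits of the associated equivalence relation lie in affine opens. -/
theorem effective (hb : ∀ x : D.obj.left, ∃ V : D.obj.left.Opens, IsAffineOpen V ∧
      (t D).base '' ((s D).base ⁻¹' {x}) ⊆ (V : Set D.obj.left)) :
    ∃ W : Over Y, Nonempty ((Desc.toDD p).obj W ≅ D) := by
  have key : ∃ (W : Scheme.{u}) (q : D.obj.left ⟶ W) (w : t D ≫ q = s D ≫ q),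
      Nonempty (IsColimit (Cofork.ofπ q w)) ∧ Surjective q ∧ IsPullback (t D) (s D) q q ∧
        IsFinite q ∧ Flat q := by
    haveI := mono_j D
    obtain ⟨W, q, w, ⟨hcol⟩, -, hqsurj, -, -, -, -⟩ :=
      Groth.Agent.S4085.result Y (grpd D) (isFinLocFree_s D) hb
    obtain ⟨hpb, hqfin, hqflat, -⟩ :=
      Groth.Agent.S4086.result Y (grpd D) (isFinLocFree_s D) hb W q w hcol
    exact ⟨W, q, w, ⟨hcol⟩, hqsurj, hpb, hqfin, hqflat⟩
  obtain ⟨W, q, w', ⟨hcol⟩, hqsurj, hpb', hqfin, hqflat⟩ := key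
  -- the structure morphism of the quotient
  have hcoeq : t D ≫ (D.obj.hom ≫ p) = s D ≫ (D.obj.hom ≫ p) := by
    rw [t_hom_assoc, cond']
  obtain ⟨r, hr⟩ : ∃ r : W ⟶ Y, q ≫ r = D.obj.hom ≫ p :=
    ⟨Cofork.IsColimit.desc hcol (D.obj.hom ≫ p) hcoeq, Cofork.IsColimit.π_desc hcol⟩
  -- the comparison morphism
  obtain ⟨θ, hθ⟩ : ∃ θ : D.obj.left ⟶ pullback p r, θ = pullback.lift D.obj.hom q hr.symm :=
    ⟨_, rfl⟩
  have hθ1 : θ ≫ pullback.fst p r = D.obj.hom := by rw [hθ, pullback.lift_fst]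
  have hθ2 : θ ≫ pullback.snd p r = q := by rw [hθ, pullback.lift_snd]
  -- `θ` is an isomorphism, by descent along the base change of `q`
  have hκcond : (t D ≫ θ) ≫ pullback.snd p r = s D ≫ q := by
    rw [Category.assoc, hθ2, w']
  obtain ⟨κ, hκ⟩ : ∃ κ : R D ⟶ pullback (pullback.snd p r) q,
      κ = pullback.lift (t D ≫ θ) (s D) hκcond := ⟨_, rfl⟩
  have hκ1 : κ ≫ pullback.fst (pullback.snd p r) q = t D ≫ θ := by rw [hκ, pullback.lift_fst]
  have hκ2 : κ ≫ pullback.snd (pullback.snd p r) q = s D := by rw [hκ, pullback.lift_snd]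
  have hψcond : pullback.snd (pullback.snd p r) q ≫ D.obj.hom ≫ p =
      (pullback.fst (pullback.snd p r) q ≫ pullback.fst p r) ≫ p := by
    rw [← hr, ← pullback.condition_assoc, Category.assoc, pullback.condition]
  obtain ⟨ψ, hψ⟩ : ∃ ψ : pullback (pullback.snd p r) q ⟶ R D,
      ψ = pullback.lift (pullback.snd _ _) (pullback.fst _ _ ≫ pullback.fst p r) hψcond :=
    ⟨_, rfl⟩
  have hψ1 : ψ ≫ s D = pullback.snd _ _ := by rw [hψ, pullback.lift_fst]
  have hψ2 : ψ ≫ x₁ D = pullback.fst _ _ ≫ pullback.fst p r := by rw [hψ, pullback.lift_snd]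
  have hκψ : κ ≫ ψ = 𝟙 _ := by
    apply hom_ext_R
    · rw [Category.assoc, hψ1, hκ2, Category.id_comp]
    · rw [Category.assoc, hψ2, ← Category.assoc, hκ1, Category.assoc, hθ1, t_hom,
        Category.id_comp]
  have hψκ : ψ ≫ κ = 𝟙 _ := by
    apply pullback.hom_ext
    · rw [Category.assoc, hκ1, Category.id_comp]
      apply pullback.hom_ext
      · rw [Category.assoc, Category.assoc, hθ1, t_hom, hψ2]
      · rw [Category.assoc, Category.assoc, hθ2, w', ← Category.assoc, hψ1, pullback.condition]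
    · rw [Category.assoc, hκ2, hψ1, Category.id_comp]
  haveI : IsIso κ := ⟨ψ, hκψ, hψκ⟩
  have hsq : IsPullback κ (t D) (pullback.fst (pullback.snd p r) q) θ := by
    refine IsPullback.of_right ?_ hκ1 (IsPullback.of_hasPullback (pullback.snd p r) q).flip
    rw [hκ2, hθ2]
    exact hpb'.flip
  haveI := hqfin
  haveI := hqflat
  have hQ : (@Surjective ⊓ @Flat ⊓ @QuasiCompact : MorphismProperty Scheme.{u})
      (pullback.fst (pullback.snd p r) q) :=
    ⟨⟨inferInstance, inferInstance⟩, inferInstance⟩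
  have hθiso : IsIso θ :=
    MorphismProperty.of_isPullback_of_descendsAlong (P := MorphismProperty.isomorphisms Scheme.{u})
      (Q := @Surjective ⊓ @Flat ⊓ @QuasiCompact) hsq hQ (inferInstanceAs (IsIso κ))
  -- the isomorphism of descent data
  have clean : ∀ {T : Scheme.{u}} (x₀ x₁' : T ⟶ X) (h : x₀ ≫ p = x₁' ≫ p) (v : Lifts D.obj x₀),
      (D.φ x₀ x₁' h v).1 ≫ q = v.1 ≫ q := by
    intro T x₀ x₁' h v
    have hv : (v.1 ≫ D.obj.hom) ≫ p = x₁' ≫ p := by rw [v.2]; exact h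
    have h1 := lift_t D v.1 x₁' hv
    have h2 : (D.φ (v.1 ≫ D.obj.hom) x₁' hv ⟨v.1, rfl⟩).1 = (D.φ x₀ x₁' h v).1 :=
      φ_congr D v.2 rfl _ _ _ _ rfl
    rw [← h2, ← h1, Category.assoc, w', pullback.lift_fst_assoc]
  have comp1 : ∀ {T : Scheme.{u}} (x₀ x₁' : T ⟶ X) (h : x₀ ≫ p = x₁' ≫ p) (v : Lifts D.obj x₀),
      (D.φ x₀ x₁' h v).1 ≫ θ ≫ pullback.fst p r = x₁' := by
    intro T x₀ x₁' h v
    rw [hθ1]; exact (D.φ x₀ x₁' h v).2
  have comp2 : ∀ {T : Scheme.{u}} (x₀ x₁' : T ⟶ X) (h : x₀ ≫ p = x₁' ≫ p) (v : Lifts D.obj x₀),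
      (D.φ x₀ x₁' h v).1 ≫ θ ≫ pullback.snd p r = v.1 ≫ θ ≫ pullback.snd p r := by
    intro T x₀ x₁' h v
    rw [hθ2]; exact clean x₀ x₁' h v
  let Φ : D ⟶ (Desc.toDD p).obj (Over.mk r) :=
    ⟨Over.homMk θ hθ1, by
      intro T x₀ x₁' h v w hw
      have hw' : w.1 = v.1 ≫ θ := hw
      show (Desc.canMap p (Over.mk r) x₀ x₁' h w).1 = (D.φ x₀ x₁' h v).1 ≫ θ
      rw [Desc.canMap_val]
      apply pullback.hom_ext
      · exact (pullback.lift_fst _ _ _).trans
          ((comp1 x₀ x₁' h v).symm.trans (Category.assoc _ _ _).symm)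
      · refine (pullback.lift_snd _ _ _).trans ?_
        refine Eq.trans ?_ ((comp2 x₀ x₁' h v).symm.trans (Category.assoc _ _ _).symm)
        exact (congrArg (· ≫ pullback.snd p r) hw').trans (Category.assoc _ _ _)⟩
  haveI : IsIso Φ.hom.left := hθiso
  haveI : IsIso Φ := isIso_of_isIso_left Φ
  exact ⟨Over.mk r, ⟨(asIso Φ).symm⟩⟩

/-- the version with the hypothesis on finite sets of points over a common point of the base. -/
theorem effective_of_finsets
    (hV : ∀ (y : Y) (S : Finset ↑(D.obj.left)), (∀ v ∈ S, p (D.obj.hom v) = y) →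
      ∃ U : D.obj.left.Opens, IsAffineOpen U ∧ ∀ v ∈ S, v ∈ U) :
    ∃ W : Over Y, Nonempty ((Desc.toDD p).obj W ≅ D) := by
  classical
  apply effective D
  intro x
  have hfin : ((t D).base '' ((s D).base ⁻¹' {x})).Finite :=
    ((s D).finite_preimage_singleton x).image _
  obtain ⟨U, hU, hsub⟩ := hV (p (D.obj.hom x)) hfin.toFinset (by
    intro v hv
    rw [Set.Finite.mem_toFinset] at hv
    obtain ⟨ρ, hρ, rfl⟩ := hv
    have hρ' : s D ρ = x := hρ
    rw [← hρ']
    exact p_hom_t D ρ)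
  exact ⟨U, hU, fun v hv => hsub v (by rwa [Set.Finite.mem_toFinset])⟩

end Effective

end Groth.Agent.Lib.Seat33.DescGrpd
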