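import Mathlib
import Groth.Prelude.Def_Grpd

/-!
# Orbits of a groupoid scheme with finite source and target
-/

set_option autoImplicit false
universe u

open CategoryTheory CategoryTheory.Limits AlgebraicGeometry

namespace Groth.Agent.Lib.Seat33.GrpdOrbit

variable {S : Scheme.{u}} (G : Grpd.GroupoidScheme S)

theorem c_comp_s : G.c ≫ G.s = pullback.snd G.s G.t ≫ G.s := by
  have h := G.comp_s (pullback.fst G.s G.t) (pullback.snd G.s G.t) pullback.condition
  have h1 : pullback.lift (pullback.fst G.s G.t) (pullback.snd G.s G.t) pullback.condition =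
      𝟙 (pullback G.s G.t) := by
    apply pullback.hom_ext <;> simp
  rwa [h1, Category.id_comp] at h

theorem c_comp_t : G.c ≫ G.t = pullback.fst G.s G.t ≫ G.t := by
  have h := G.comp_t (pullback.fst G.s G.t) (pullback.snd G.s G.t) pullback.condition
  have h1 : pullback.lift (pullback.fst G.s G.t) (pullback.snd G.s G.t) pullback.condition =
      𝟙 (pullback G.s G.t) := by
    apply pullback.hom_ext <;> simp
  rwa [h1, Category.id_comp] at h

/-- Composition of arrows at the level of points. -/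
theorem exists_comp (r' r : G.R) (h : G.s r' = G.t r) :
    ∃ r'' : G.R, G.s r'' = G.s r ∧ G.t r'' = G.t r' := by
  obtain ⟨p, hp1, hp2⟩ := Scheme.Pullback.exists_preimage_pullback (f := G.s) (g := G.t) r' r h
  refine ⟨G.c p, ?_, ?_⟩
  · rw [← Scheme.Hom.comp_apply, c_comp_s, Scheme.Hom.comp_apply, hp2]
  · rw [← Scheme.Hom.comp_apply, c_comp_t, Scheme.Hom.comp_apply, hp1]

/-- In the fibre of a locally quasi-finite morphism there are no nontrivial specializations. -/
theorem eq_of_specializes_of_fibre {X Y : Scheme.{u}} (f : X ⟶ Y) [LocallyQuasiFinite f]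
    {a b : X} (hab : a ⤳ b) (h : f a = f b) : a = b := by
  have hd : _root_.IsDiscrete (f ⁻¹' {f b}) := f.isDiscrete_preimage_singleton (f b)
  have : DiscreteTopology ↥(f ⁻¹' {f b}) := hd.to_subtype
  let a' : ↥(f ⁻¹' {f b}) := ⟨a, h⟩
  let b' : ↥(f ⁻¹' {f b}) := ⟨b, rfl⟩
  have h' : a' ⤳ b' := Topology.IsInducing.subtypeVal.specializes_iff.mp hab
  exact congrArg Subtype.val h'.eq

/-- With finite source and target, distinct points in the same orbit are not related by
specialization. -/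
theorem not_specializes_of_finite [IsFinite G.s] [IsFinite G.t] (r : G.R)
    (hne : G.s r ≠ G.t r) : ¬ (G.s r ⤳ G.t r) := by
  intro hsp
  -- the orbit of `u₀ = s r`
  let u₀ := G.s r
  let O : Set G.U := G.t '' (G.s ⁻¹' {u₀})
  have hO : O.Finite := (G.s.finite_preimage_singleton u₀).image _
  let B : Set G.U := {v | v ∈ O ∧ ∃ r' : G.R, G.s r' = v ∧ G.t r' ≠ v ∧ v ⤳ G.t r'}
  have hB : B.Finite := hO.subset fun v hv => hv.1
  have hBne : B.Nonempty := by
    refine ⟨u₀, ⟨G.e u₀, ?_, ?_⟩, r, rfl, hne.symm, hsp⟩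
    · change G.s (G.e u₀) = u₀
      rw [← Scheme.Hom.comp_apply, G.e_s]; rfl
    · rw [← Scheme.Hom.comp_apply, G.e_t]; rfl
  let _ := specializationPreorder G.U
  obtain ⟨v, ⟨hvO, r₀, hr₀s, hr₀t, hr₀sp⟩, hvmin⟩ := hB.exists_minimal hBne
  -- lift the specialization along the closed map `s`
  have hsp' : G.s r₀ ⤳ G.t r₀ := by rw [hr₀s]; exact hr₀sp
  obtain ⟨r₁, hr₁, hr₁s⟩ := G.s.isClosedMap.specializingMap hsp'
  have h12 : G.t r₀ ⤳ G.t r₁ := hr₁.map G.t.continuous
  have hne12 : G.t r₁ ≠ G.t r₀ := by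
    intro heq
    have : r₀ = r₁ := eq_of_specializes_of_fibre G.t hr₁ heq.symm
    apply hr₀t
    rw [← hr₀s, this, hr₁s, ← this]
  -- `t r₀` is in the orbit
  obtain ⟨ρ, hρs, rfl⟩ := hvO
  obtain ⟨ρ', hρ's, hρ't⟩ := exists_comp G r₀ ρ hr₀s
  have hmem : G.t r₀ ∈ B := by
    refine ⟨⟨ρ', ?_, hρ't⟩, r₁, hr₁s, hne12, h12⟩
    change G.s ρ' = u₀
    rw [hρ's]; exact hρs
  have h1 : G.t r₀ ≤ G.t ρ := hr₀sp
  have h2 : G.t ρ ≤ G.t r₀ := hvmin hmem h1
  have h1' : G.t ρ ⤳ G.t r₀ := h1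
  have h2' : G.t r₀ ⤳ G.t ρ := h2
  exact hr₀t (h2'.antisymm h1').eq

end Groth.Agent.Lib.Seat33.GrpdOrbit
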