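/-
Seat33: the orbits of the equivalence relation of a descent datum relative to a finite morphism
`p : X ⟶ Y` have at most `d` points when the geometric fibres of `p` have at most `d` points.
-/
import Mathlib
import Groth.Agent.Lib.Seat33DescGrpd
import Groth.Agent.Lib.Helper11KPts
import Groth.Agent.Lib.Seat33GrpdOrbit

set_option autoImplicit false
set_option linter.style.haveILetI false
set_option linter.unusedSectionVars false
universe u
open CategoryTheory CategoryTheory.Limits AlgebraicGeometry TopologicalSpace Opposite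

namespace Groth.Agent.Lib.Seat33.DescCount

open Desc Groth.Agent.Lib.Seat33.DescGrpd

/-- every point of a scheme finite over an algebraically closed field is the image of a section. -/
theorem exists_section_of_finite {K : Type u} [Field K] [IsAlgClosed K] {F : Scheme.{u}}
    (f : F ⟶ Spec (CommRingCat.of K)) [IsFinite f] (z : F) :
    ∃ σ : Spec (CommRingCat.of K) ⟶ F, σ ≫ f = 𝟙 _ ∧ ∀ t, σ t = z := by
  have hcl : IsClosed ({z} : Set F) := by
    rw [← closure_eq_iff_isClosed]
    apply Set.Subset.antisymm _ subset_closure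
    intro z' hz'
    have h1 : z ⤳ z' := specializes_iff_mem_closure.2 hz'
    have h2 : f z = f z' := Subsingleton.elim _ _
    exact (Groth.Agent.Lib.Seat33.GrpdOrbit.eq_of_specializes_of_fibre f h1 h2).symm
  obtain ⟨σ, hσ1, hσ2⟩ :=
    Groth.Agent.Lib.Helper11KPts.exists_point_of_closedPoint (k := K) (K := K) f z hcl
  refine ⟨σ, ?_, hσ2⟩
  rw [hσ1]
  have : algebraMap K K = RingHom.id K := rfl
  rw [this]
  exact Spec.map_id _

variable {X Y : Scheme.{u}} {p : X ⟶ Y} (D : Desc.SchDD p) [IsFinite p]

/-- **Orbits have at most `d` points** when geometric fibres of `p` do: every orbit is in the range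
of a `d`-tuple of points over the same point of `Y`. -/
theorem exists_fin_orbit (d : ℕ)
    (hfib : ∀ (k : Type u) [Field k] [IsAlgClosed k] (y : Spec (CommRingCat.of k) ⟶ Y),
      Set.encard {x : Spec (CommRingCat.of k) ⟶ X | x ≫ p = y} ≤ d) (x : D.obj.left) :
    ∃ v : Fin d → D.obj.left, (∀ i, p (D.obj.hom (v i)) = p (D.obj.hom x)) ∧
      (t D).base '' ((s D).base ⁻¹' {x}) ⊆ Set.range v := by
  classical
  obtain ⟨K, hKf, hKac, xbar, hxbar⟩ : ∃ (K : Type u) (_ : Field K) (_ : IsAlgClosed K)
      (xbar : Spec (CommRingCat.of K) ⟶ D.obj.left), ∀ t, xbar t = x := by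
    refine ⟨AlgebraicClosure (D.obj.left.residueField x), inferInstance, inferInstance,
      Spec.map (CommRingCat.ofHom (algebraMap (D.obj.left.residueField x)
        (AlgebraicClosure (D.obj.left.residueField x)))) ≫ D.obj.left.fromSpecResidueField x, ?_⟩
    intro t
    rw [Scheme.Hom.comp_apply]
    exact Scheme.fromSpecResidueField_apply x _
  obtain ⟨ybar, hybar⟩ : ∃ ybar : Spec (CommRingCat.of K) ⟶ Y, ybar = xbar ≫ D.obj.hom ≫ p :=
    ⟨_, rfl⟩
  -- the geometric fibre
  obtain ⟨m, hm⟩ : ∃ m : pullback ybar p ⟶ R D, m = pullback.lift (pullback.fst ybar p ≫ xbar)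
      (pullback.snd ybar p) (by rw [Category.assoc, ← hybar]; exact pullback.condition) :=
    ⟨_, rfl⟩
  have hm1 : m ≫ s D = pullback.fst ybar p ≫ xbar := by rw [hm, pullback.lift_fst]
  have hm2 : m ≫ x₁ D = pullback.snd ybar p := by rw [hm, pullback.lift_snd]
  have hsq : IsPullback m (pullback.fst ybar p) (s D) xbar := by
    refine IsPullback.of_right ?_ hm1 (IsPullback.of_hasPullback (D.obj.hom ≫ p) p).flip
    rw [hm2, ← hybar]
    exact (IsPullback.of_hasPullback ybar p).flip
  -- sections through every point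
  have hsec : ∀ z : ↑(pullback ybar p), ∃ σ : Spec (CommRingCat.of K) ⟶ pullback ybar p,
      σ ≫ pullback.fst ybar p = 𝟙 _ ∧ ∀ t, σ t = z :=
    fun z => exists_section_of_finite (pullback.fst ybar p) z
  choose σ hσ1 hσ2 using hsec
  set S : Set (Spec (CommRingCat.of K) ⟶ X) := {x' | x' ≫ p = ybar} with hSdef
  have hS : S.encard ≤ d := hfib K ybar
  obtain ⟨hSfin, hScard⟩ := Set.encard_le_coe_iff_finite_ncard_le.1 hS
  let φ : ↑(pullback ybar p) → S := fun z => ⟨σ z ≫ pullback.snd ybar p, by
    show (σ z ≫ pullback.snd ybar p) ≫ p = ybar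
    rw [Category.assoc, ← pullback.condition, ← Category.assoc, hσ1, Category.id_comp]⟩
  have hφ : Function.Injective φ := by
    intro z z' h
    have h1 : σ z ≫ pullback.snd ybar p = σ z' ≫ pullback.snd ybar p := congrArg Subtype.val h
    have h2 : σ z = σ z' := by
      apply pullback.hom_ext
      · rw [hσ1, hσ1]
      · exact h1
    have pt : ↑(Spec (CommRingCat.of K)) := IsLocalRing.closedPoint K
    rw [← hσ2 z pt, ← hσ2 z' pt, h2]
  haveI : Finite S := hSfin.to_subtype
  haveI : Finite ↑(pullback ybar p) := Finite.of_injective φ hφ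
  have hcard : Nat.card ↑(pullback ybar p) ≤ d := by
    refine (Nat.card_le_card_of_injective φ hφ).trans ?_
    rw [Nat.card_coe_set_eq]
    exact hScard
  -- the enumeration
  let e := Finite.equivFin ↑(pullback ybar p)
  let v : Fin d → D.obj.left := fun i =>
    if h : i.1 < Nat.card ↑(pullback ybar p) then t D (m (e.symm ⟨i.1, h⟩)) else x
  have hsm : ∀ z : ↑(pullback ybar p), s D (m z) = x := by
    intro z
    rw [← Scheme.Hom.comp_apply, hm1, Scheme.Hom.comp_apply, hxbar]
  refine ⟨v, ?_, ?_⟩
  · intro i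
    by_cases h : i.1 < Nat.card ↑(pullback ybar p)
    · simp only [v, dif_pos h]
      rw [p_hom_t, hsm]
    · simp only [v, dif_neg h]
  · rintro _ ⟨ρ, hρ, rfl⟩
    have hρ' : s D ρ = x := hρ
    have pt : ↑(Spec (CommRingCat.of K)) := IsLocalRing.closedPoint K
    obtain ⟨z, hz, -⟩ := Scheme.exists_preimage_of_isPullback hsq ρ pt (by rw [hρ', hxbar])
    have hlt : (e z).1 < d := lt_of_lt_of_le (e z).2 hcard
    refine ⟨⟨(e z).1, hlt⟩, ?_⟩
    simp only [v, dif_pos (e z).2]
    show t D (m (e.symm ⟨(e z).1, (e z).2⟩)) = t D ρ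
    rw [Fin.eta, Equiv.symm_apply_apply, hz]

end Groth.Agent.Lib.Seat33.DescCount
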