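import Mathlib
import Groth.Agent.Lib.Helper18FinFlat2
import Groth.Agent.Lib.Helper18FittSh5
import Groth.Agent.Lib.Helper13AffBC
import Groth.Agent.Lib.Helper23PB

/-!
# Fitting ideals of finite morphisms (seat 33)

For a finite morphism `f : X ⟶ Y`, `fitMor f r : Y.IdealSheafData` is the `r`-th Fitting ideal of `f_* O_X`.
* `fitMor_comap`: compatible with base change.
* `fitMor_iso_comp`: invariant under isomorphisms of the source.
* `fitMor_zero_of_section`: `fitMor f 0 = ⊥` when `f` has a section.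
* `fitMor_mono`, `exists_notMem_support_fitMor`.
* `isFinLocFreeOfDeg_of_fitMor`: if `fitMor f k = ⊥` for `k < d` and `= ⊤` for `k ≥ d` then `f` is
  finite locally free of degree `d`.
-/

set_option autoImplicit false
set_option linter.style.haveILetI false
universe u
open CategoryTheory CategoryTheory.Limits AlgebraicGeometry TopologicalSpace Opposite

namespace Groth.Agent.Lib.Seat33.FitMor

open Groth.Agent.Helper18Fitt Groth.Agent.Helper18FittSh Groth.Agent.Helper18FinFlat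
open Groth.Agent.Lib.Helper23.QCohLocal Groth.Agent.Lib.Helper2.FinPushFP

variable {X Y : Scheme.{u}} (f : X ⟶ Y)

/-- `f_* O_X`. -/
noncomputable abbrev pushO : Y.Modules :=
  (Scheme.Modules.pushforward f).obj (Coh.structureModule X)

/-- The `r`-th Fitting ideal of `f_* O_X`. -/
noncomputable def fitMor (r : ℕ) : Y.IdealSheafData := Fitt.sheafIdeal (pushO f) r

theorem isQCoh_pushO [QuasiCompact f] [QuasiSeparated f] : Coh.IsQCoh (pushO f) :=
  isQuasicoherent_pushforward f _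

theorem isFT_pushO [IsFinite f] : CohB1.IsFT (pushO f) := by
  haveI : SheafOfModules.IsFinitePresentation (R := X.ringCatSheaf) (Coh.structureModule X) :=
    isFinitePresentation_structureModule X
  exact (isFiniteType_pushforward_iff f _).1 inferInstance

/-- sections of isomorphic modules are linearly equivalent. -/
noncomputable def sectionsEquiv {M N : Y.Modules} (e : M ≅ N) (U : Y.Opens) :
    Γ(M, U) ≃ₗ[Γ(Y, U)] Γ(N, U) where
  toFun x := e.hom.app U x
  invFun y := e.inv.app U y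
  map_add' x y := map_add _ x y
  map_smul' r x := Scheme.Modules.Hom.app_smul e.hom r x
  left_inv x := by
    change (e.hom.app U ≫ e.inv.app U) x = x
    rw [← Scheme.Modules.Hom.comp_app, e.hom_inv_id]
    rfl
  right_inv x := by
    change (e.inv.app U ≫ e.hom.app U) x = x
    rw [← Scheme.Modules.Hom.comp_app, e.inv_hom_id]
    rfl

/-- Fitting ideal sheaves of isomorphic modules agree. -/
theorem sheafIdeal_congr {M N : Y.Modules} (e : M ≅ N) (r : ℕ) :
    Fitt.sheafIdeal M r = Fitt.sheafIdeal N r := by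
  unfold Fitt.sheafIdeal
  congr 1
  funext U
  exact fitt_congr' (sectionsEquiv e U.1) r

/-- **Base change** for Fitting ideals of finite morphisms. -/
theorem fitMor_comap [IsFinite f] {X' Y' : Scheme.{u}} (g : Y' ⟶ Y) (g' : X' ⟶ X) (f' : X' ⟶ Y')
    (h : IsPullback g' f' f g) (r : ℕ) : (fitMor f r).comap g = fitMor f' r := by
  unfold fitMor
  rw [main_S8872 g (pushO f) (isQCoh_pushO f) (isFT_pushO f) r]
  haveI := Groth.Agent.Helper13AffBC.isIso_bcMap f g g' f' h (Coh.structureModule X)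
  exact sheafIdeal_congr (asIso (Groth.Agent.Helper13AffBC.bcMap f g g' f' h _) ≪≫
    (Scheme.Modules.pushforward f').mapIso (Groth.Agent.Lib.Helper23.PB.pullbackUnitIso g')) r

/-- the affine values of `fitMor`. -/
theorem fitMor_ideal [IsFinite f] (r : ℕ) (V : Y.affineOpens) :
    letI : Algebra Γ(Y, V.1) Γ(X, f ⁻¹ᵁ V.1) := (f.app V.1).hom.toAlgebra
    (fitMor f r).ideal V = Fitt.ideal Γ(Y, V.1) Γ(X, f ⁻¹ᵁ V.1) r := by
  letI : Algebra Γ(Y, V.1) Γ(X, f ⁻¹ᵁ V.1) := (f.app V.1).hom.toAlgebra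
  show (fitMor f r).ideal V = Fitt.ideal Γ(Y, V.1) Γ(X, f ⁻¹ᵁ V.1) r
  haveI : (pushO f).IsQuasicoherent := isQCoh_pushO f
  rw [fitMor, sheafIdeal_ideal (pushO f) r (finite_sections (pushO f) (isFT_pushO f)) V]
  exact fitt_congr' (pushEquiv f V.1) r

theorem fitMor_iso_comp [IsFinite f] {X' : Scheme.{u}} (θ : X' ⟶ X) [IsIso θ] (r : ℕ) :
    fitMor (θ ≫ f) r = fitMor f r := by
  have h : IsPullback θ (θ ≫ f) f (𝟙 Y) := IsPullback.of_horiz_isIso ⟨by simp⟩
  rw [← fitMor_comap f (𝟙 Y) θ (θ ≫ f) h r, Scheme.IdealSheafData.comap_id]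

theorem fitMor_mono [IsFinite f] {k k' : ℕ} (h : k ≤ k') : fitMor f k ≤ fitMor f k' := by
  intro V
  rw [fitMor_ideal, fitMor_ideal]
  letI : Algebra Γ(Y, V.1) Γ(X, f ⁻¹ᵁ V.1) := (f.app V.1).hom.toAlgebra
  haveI : Module.Finite Γ(Y, V.1) Γ(X, f ⁻¹ᵁ V.1) := by
    have := f.finite_app V.1 V.2
    exact this
  exact fitt_mono h

theorem exists_notMem_support_fitMor [IsFinite f] (y : Y) : ∃ r, y ∉ (fitMor f r).support :=
  main_S8877 Y (pushO f) (isQCoh_pushO f) (isFT_pushO f) y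

/-- if `f` has a section then the zeroth Fitting ideal of `f_* O_X` vanishes. -/
theorem fitMor_zero_of_section [IsFinite f] (σ : Y ⟶ X) (hσ : σ ≫ f = 𝟙 Y) : fitMor f 0 = ⊥ := by
  rw [eq_bot_iff]
  intro V
  rw [fitMor_ideal, Scheme.IdealSheafData.ideal_bot]
  letI : Algebra Γ(Y, V.1) Γ(X, f ⁻¹ᵁ V.1) := (f.app V.1).hom.toAlgebra
  have hle : V.1 ≤ σ ⁻¹ᵁ (f ⁻¹ᵁ V.1) := by
    intro y hy
    show f (σ y) ∈ V.1
    have : f (σ y) = y := by
      rw [← Scheme.Hom.comp_apply, hσ]; rfl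
    rwa [this]
  let ψ : Γ(X, f ⁻¹ᵁ V.1) →+* Γ(Y, V.1) := (σ.appLE (f ⁻¹ᵁ V.1) V.1 hle).hom
  have hψ : ∀ a : Γ(Y, V.1), ψ (algebraMap Γ(Y, V.1) Γ(X, f ⁻¹ᵁ V.1) a) = a := by
    intro a
    have h1 : f.app V.1 ≫ σ.appLE (f ⁻¹ᵁ V.1) V.1 hle = (σ ≫ f).appLE V.1 V.1 hle := by
      rw [Scheme.Hom.comp_appLE, Scheme.Hom.app_eq_appLE, Scheme.Hom.appLE_comp_appLE]
    have h2 : (σ ≫ f).appLE V.1 V.1 hle = 𝟙 _ := by
      have : ∀ (g : Y ⟶ Y) (hg : g = 𝟙 Y) (e : V.1 ≤ g ⁻¹ᵁ V.1), g.appLE V.1 V.1 e = 𝟙 _ := by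
        rintro g rfl e
        exact (Category.id_comp _).trans (Y.presheaf.map_id (op V.1))
      exact this _ hσ _
    have h3 := congrArg (fun φ => φ.hom a) (h1.trans h2)
    exact h3
  let L : Γ(X, f ⁻¹ᵁ V.1) →ₗ[Γ(Y, V.1)] Γ(Y, V.1) :=
    { toFun := ψ
      map_add' := map_add ψ
      map_smul' := fun a x => by
        rw [Algebra.smul_def, map_mul, hψ]
        rfl }
  have hL : Function.Surjective L := fun a => ⟨algebraMap _ _ a, hψ a⟩
  refine (fitt_le_of_surjective' L hL 0).trans ?_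
  exact ((fitt_of_basis (Module.Basis.singleton (Fin 1) Γ(Y, V.1)) 0).1 Nat.zero_lt_one).le

/-- a finite morphism whose Fitting ideals jump from `⊥` to `⊤` at `d` is finite locally free of
degree `d`. -/
theorem isFinLocFreeOfDeg_of_fitMor [IsFinite f] (d : ℕ) (h1 : ∀ k, k < d → fitMor f k = ⊥)
    (h2 : ∀ k, d ≤ k → fitMor f k = ⊤) : Mor2.IsFinLocFreeOfDeg d f := by
  rw [main_S19692]
  refine ⟨inferInstance, ?_⟩
  rw [main_S8875 Y (pushO f) (isQCoh_pushO f) (isFT_pushO f) d]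
  exact ⟨h1, h2⟩

end Groth.Agent.Lib.Seat33.FitMor
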