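import Mathlib
import Groth.Prelude.Def_HTop

/-!
# Valuation rings from specializations, and the valuative lifting property `HTop.HasValLift`

* `exists_valuationRing_of_specializes`: a specialization `w' ⤳ w` in a scheme `P` is realized by a
  valuation subring of the residue field of `w'`.
* `exists_extVal_of_specializes`: for `g : Spec V ⟶ T`, `f : X ⟶ T` and a specialization in the fibre
  product lying over (generic point) ⤳ (closed point) of `Spec V`, there is an extension of
  valuation rings `V ⟶ W` with a lift `Spec W ⟶ X`.
-/

set_option autoImplicit false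
universe w u

open CategoryTheory CategoryTheory.Limits AlgebraicGeometry IsLocalRing

namespace Groth.Agent.Lib.Seat33.VLift

/-- A specialization `w' ⤳ w` in a scheme is realized by a morphism from the spectrum of a
valuation subring of the residue field of `w'`. -/
theorem exists_valuationRing_of_specializes {P : Scheme.{u}} {w' w : P} (h : w' ⤳ w) :
    ∃ (A : ValuationSubring (P.residueField w')) (l : Spec (CommRingCat.of A) ⟶ P),
      Spec.map (CommRingCat.ofHom (algebraMap A (P.residueField w'))) ≫ l =
        P.fromSpecResidueField w' ∧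
      l (closedPoint A) = w := by
  let φ : P.presheaf.stalk w ⟶ P.residueField w' :=
    P.presheaf.stalkSpecializes h ≫ P.residue w'
  obtain ⟨A, hA, hA_local⟩ := exists_factor_valuationRing φ.hom
  let ψ : P.presheaf.stalk w ⟶ CommRingCat.of A :=
    CommRingCat.ofHom (φ.hom.codRestrict _ hA)
  refine ⟨A, Spec.map ψ ≫ P.fromSpecStalk w, ?_, ?_⟩
  · rw [Scheme.fromSpecResidueField, ← Scheme.SpecMap_stalkSpecializes_fromSpecStalk h,
      ← Spec.map_comp_assoc, ← Spec.map_comp_assoc]
    rfl
  · rw [Scheme.Hom.comp_apply]
    have : Spec.map ψ (closedPoint A) = closedPoint (P.presheaf.stalk w) :=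
      comap_closedPoint (S := A) (φ.hom.codRestrict A.toSubring hA)
    rw [this, P.fromSpecStalk_closedPoint]

/-- For `g : Spec V ⟶ T` (`V` a valuation ring), `f : X ⟶ T` and a specialization `w' ⤳ w` in the fibre
product lying over (generic point) ⤳ (closed point) of `Spec V`, there is an extension of valuation
rings `φ : V ⟶ W` and a lift `g' : Spec W ⟶ X` of `Spec φ ≫ g`, sending the closed point to the image
of `w`. -/
theorem exists_extVal_of_specializes {T X : Scheme.{u}} (V : CommRingCat.{u}) [IsDomain V]
    [ValuationRing V] (g : Spec V ⟶ T) (f : X ⟶ T) {w' w : ↑(pullback g f)} (h : w' ⤳ w)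
    (hw' : ((pullback.fst g f) w' : PrimeSpectrum V).asIdeal = ⊥)
    (hw : (pullback.fst g f) w = closedPoint V) :
    ∃ (W : CommRingCat.{u}) (_ : IsDomain W) (_ : ValuationRing W) (φ : V ⟶ W),
      HTop.IsExtVal V W φ ∧ ∃ g' : Spec W ⟶ X, g' ≫ f = Spec.map φ ≫ g ∧
        g' (closedPoint W) = pullback.snd g f w := by
  obtain ⟨A, l, hl₁, hl₂⟩ := exists_valuationRing_of_specializes h
  let q : Spec (CommRingCat.of A) ⟶ Spec V := l ≫ pullback.fst g f
  let φ : V ⟶ CommRingCat.of A := Spec.preimage q
  have hφ : Spec.map φ = q := Spec.map_preimage q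
  refine ⟨CommRingCat.of A, inferInstanceAs (IsDomain A), inferInstanceAs (ValuationRing A), φ,
    ⟨?_, ?_⟩, l ≫ pullback.snd g f, ?_, ?_⟩
  · -- injective
    rw [RingHom.injective_iff_ker_eq_bot]
    let pt : Spec ((pullback g f).residueField w') := closedPoint ((pullback g f).residueField w')
    let η : Spec (CommRingCat.of A) :=
      Spec.map (CommRingCat.ofHom (algebraMap A ((pullback g f).residueField w'))) pt
    have hη : (η : PrimeSpectrum A).asIdeal = ⊥ := by
      change Ideal.comap (algebraMap A ((pullback g f).residueField w'))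
        (maximalIdeal ((pullback g f).residueField w')) = ⊥
      rw [IsLocalRing.maximalIdeal_eq_bot, ← RingHom.ker_eq_comap_bot,
        ← RingHom.injective_iff_ker_eq_bot]
      exact Subtype.val_injective
    have h1 : (Spec.map φ) η = (pullback.fst g f) w' := by
      rw [hφ]
      change (l ≫ pullback.fst g f) (Spec.map _ pt) = _
      rw [Scheme.Hom.comp_apply, ← Scheme.Hom.comp_apply _ l, hl₁,
        Scheme.fromSpecResidueField_apply]
    have h2 : ((Spec.map φ) η : PrimeSpectrum V).asIdeal = Ideal.comap φ.hom ⊥ := by
      rw [← hη]; rfl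
    rw [RingHom.ker_eq_comap_bot, ← h2, h1, hw']
  · -- local
    have : IsLocalRing (CommRingCat.of A) := inferInstanceAs (IsLocalRing A)
    rw [isLocalHom_iff_comap_closedPoint]
    change (Spec.map φ) (closedPoint A) = _
    rw [hφ, Scheme.Hom.comp_apply, hl₂, hw]
  · rw [Category.assoc, ← pullback.condition, ← Category.assoc, hφ]
  · rw [Scheme.Hom.comp_apply]
    congr 1

/-- In the situation of `exists_valuationRing_of_specializes`, the generic point of the valuation
ring goes to the generic point of the specialization. -/
theorem apply_of_asIdeal_eq_bot {P : Scheme.{u}} {w' : P}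
    (A : ValuationSubring (P.residueField w')) (l : Spec (CommRingCat.of A) ⟶ P)
    (hl : Spec.map (CommRingCat.ofHom (algebraMap A (P.residueField w'))) ≫ l =
        P.fromSpecResidueField w')
    (η : Spec (CommRingCat.of A)) (hη : (η : PrimeSpectrum A).asIdeal = ⊥) : l η = w' := by
  let pt : Spec (P.residueField w') := closedPoint (P.residueField w')
  have h1 : η = Spec.map (CommRingCat.ofHom (algebraMap A (P.residueField w'))) pt := by
    apply PrimeSpectrum.ext
    rw [hη]
    symm
    change Ideal.comap (algebraMap A (P.residueField w')) (maximalIdeal (P.residueField w')) = ⊥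
    rw [IsLocalRing.maximalIdeal_eq_bot, ← RingHom.ker_eq_comap_bot,
      ← RingHom.injective_iff_ker_eq_bot]
    exact Subtype.val_injective
  rw [h1, ← Scheme.Hom.comp_apply, hl, Scheme.fromSpecResidueField_apply]

end Groth.Agent.Lib.Seat33.VLift
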