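import Mathlib
import Groth.Prelude.Def_HTop
import Groth.Agent.S7467

/-!
# A flat quasi-compact covering of an affine scheme is refined by a standard V covering
-/

set_option autoImplicit false
universe w u

open CategoryTheory CategoryTheory.Limits AlgebraicGeometry

namespace Groth.Agent.Lib.Seat33.FpqcV

/-- A quasi-compact family of flat morphisms with affine target `S` is refined by a standard V
covering of `S` (indexed by some `Fin n`). -/
theorem exists_isStandardV_refining {S : Scheme.{u}} [IsAffine S] (𝒱 : PreZeroHypercover.{w} S)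
    [QuasiCompactCover 𝒱] (hflat : ∀ i, Flat (𝒱.f i)) :
    ∃ F : PreZeroHypercover.{0} S, HTop.IsStandardV F ∧
      ∀ j : F.I₀, ∃ (i : 𝒱.I₀) (h : F.X j ⟶ 𝒱.X i), h ≫ 𝒱.f i = F.f j := by
  obtain ⟨n, a, V, hV, hU⟩ := QuasiCompactCover.exists_isAffineOpen_of_isCompact 𝒱
    (U := (⊤ : S.Opens)) isCompact_univ
  let F : PreZeroHypercover.{0} S :=
    { I₀ := Fin n
      X := fun i => ((V i : (𝒱.X (a i)).Opens) : Scheme.{u})
      f := fun i => (V i).ι ≫ 𝒱.f (a i) }
  refine ⟨F, ?_, fun j => ⟨a j, (V j).ι, rfl⟩⟩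
  refine Groth.Agent.S7467.result F (inferInstanceAs (Finite (Fin n))) (fun j => hV j)
    (fun j => ?_) (fun t => ?_)
  · have : Flat (𝒱.f (a j)) := hflat (a j)
    exact inferInstanceAs (Flat ((V j).ι ≫ 𝒱.f (a j)))
  · have ht : t ∈ ((⊤ : S.Opens) : Set S) := trivial
    rw [← hU] at ht
    obtain ⟨i, y, hy, rfl⟩ := Set.mem_iUnion.mp ht
    refine ⟨i, ⟨y, hy⟩, ?_⟩
    change ((V i).ι ≫ 𝒱.f (a i)) ⟨y, hy⟩ = _
    rw [Scheme.Hom.comp_apply]
    rfl

end Groth.Agent.Lib.Seat33.FpqcV
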