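import Mathlib
import Groth.Prelude.Def_BlowUp2
import Groth.Agent.Lib.Helper2Div
import Groth.Agent.Lib.Helper13WeakAss

/-!
# Generic points and closures of retrocompact opens (seat 33)

* `notMem_support_of_mem_closure_compl`: a point without proper generizations which lies in the closure of
  the complement of the support of a finite type ideal sheaf lies in that complement.
-/

set_option autoImplicit false
set_option linter.style.haveILetI false
universe u
open CategoryTheory CategoryTheory.Limits AlgebraicGeometry TopologicalSpace Opposite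

namespace Groth.Agent.Lib.Seat33.GenClosure

open Groth.Agent.Lib.Helper2

theorem exists_notMem_forall_le_of_fg {B : Type u} [CommRing B] {p : Ideal B}
    (hp : p ∈ minimalPrimes B) {I : Ideal B} (hI : I.FG) (hIp : I ≤ p) :
    ∃ s ∉ p, ∀ q : Ideal B, q.IsPrime → s ∉ q → I ≤ q := by
  classical
  haveI : p.IsPrime := hp.1.1
  obtain ⟨F, rfl⟩ := hI
  induction F using Finset.induction_on with
  | empty =>
    refine ⟨1, fun h => (Ideal.IsPrime.ne_top ‹_›) (p.eq_top_of_isUnit_mem h isUnit_one), ?_⟩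
    intro q _ _
    simp
  | insert a F _ ih =>
    rw [Finset.coe_insert, Ideal.span_insert, sup_le_iff, Ideal.span_singleton_le_iff_mem] at hIp
    obtain ⟨s₁, hs₁, h₁⟩ := ih hIp.2
    obtain ⟨s₂, hs₂, n, h₂⟩ := Groth.Agent.Helper13WeakAss.exists_notMem_mul_pow_mem
      (I := ⊥) hp hIp.1
    refine ⟨s₁ * s₂, fun h => (Ideal.IsPrime.mem_or_mem ‹_› h).elim hs₁ hs₂, ?_⟩
    intro q hq hsq
    rw [Finset.coe_insert, Ideal.span_insert, sup_le_iff, Ideal.span_singleton_le_iff_mem]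
    have hs₁q : s₁ ∉ q := fun h => hsq (q.mul_mem_right _ h)
    have hs₂q : s₂ ∉ q := fun h => hsq (q.mul_mem_left _ h)
    refine ⟨?_, h₁ q hq hs₁q⟩
    have h3 : s₂ * a ^ n ∈ q := by
      rw [Ideal.mem_bot] at h₂
      rw [h₂]; exact q.zero_mem
    rcases hq.mem_or_mem h3 with h | h
    · exact absurd h hs₂q
    · exact hq.mem_of_pow_mem n h

variable {X : Scheme.{u}}

theorem mem_support_iff_le_primeIdealOf (I : X.IdealSheafData) (x : X) (V : X.affineOpens)
    (hxV : x ∈ V.1) :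
    x ∈ I.support ↔ I.ideal V ≤ (V.2.primeIdealOf ⟨x, hxV⟩).asIdeal := by
  rw [Scheme.IdealSheafData.mem_support_iff_of_mem (U := V) hxV, Scheme.mem_zeroLocus_iff]
  constructor
  · intro h f hf
    by_contra hfp
    exact h f hf ((mem_basicOpen_iff_notMem_primeIdealOf V.2 x hxV f).mpr hfp)
  · intro h f hf hxf
    exact (mem_basicOpen_iff_notMem_primeIdealOf V.2 x hxV f).mp hxf (h hf)

/-- The prime ideal of a point without proper generizations is a minimal prime. -/
theorem primeIdealOf_mem_minimalPrimes {V : X.Opens} (hV : IsAffineOpen V) (η : X)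
    (hηV : η ∈ V) (hη : ∀ y : X, y ⤳ η → y = η) :
    (hV.primeIdealOf ⟨η, hηV⟩).asIdeal ∈ minimalPrimes Γ(X, V) := by
  refine ⟨⟨(hV.primeIdealOf ⟨η, hηV⟩).isPrime, bot_le⟩, ?_⟩
  rintro q ⟨hq, -⟩ hle
  let q' : Spec Γ(X, V) := ⟨q, hq⟩
  have h1 : q' ⤳ hV.primeIdealOf ⟨η, hηV⟩ :=
    (PrimeSpectrum.le_iff_specializes q' (hV.primeIdealOf ⟨η, hηV⟩)).mp hle
  have h2 : hV.fromSpec q' ⤳ hV.fromSpec (hV.primeIdealOf ⟨η, hηV⟩) :=
    h1.map hV.fromSpec.continuous
  rw [hV.fromSpec_primeIdealOf] at h2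
  have h3 := hη _ h2
  have h4 : q' = hV.primeIdealOf ⟨η, hηV⟩ := by
    apply hV.fromSpec.isOpenEmbedding.injective
    rw [hV.fromSpec_primeIdealOf]
    exact h3
  rw [← h4]

/-- A point without proper generizations lying in the closure of the (retrocompact) open complement of
the support of a finite type ideal sheaf lies in that complement. -/
theorem notMem_support_of_mem_closure_compl (I : X.IdealSheafData)
    (hI : BlowUp.IsFiniteTypeIdeal I) (x : X) (hgen : ∀ y : X, y ⤳ x → y = x)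
    (hx : x ∈ closure ((I.support : Set X)ᶜ)) : x ∉ I.support := by
  intro hxs
  obtain ⟨A, hA, hxA, -⟩ := exists_isAffineOpen_mem_and_subset (x := x) (U := ⊤) trivial
  have hmin := primeIdealOf_mem_minimalPrimes hA x hxA hgen
  have hle := (mem_support_iff_le_primeIdealOf I x ⟨A, hA⟩ hxA).1 hxs
  obtain ⟨s, hs, hsq⟩ := exists_notMem_forall_le_of_fg hmin (hI ⟨A, hA⟩) hle
  have hxO : x ∈ X.basicOpen s := (mem_basicOpen_iff_notMem_primeIdealOf hA x hxA s).mpr hs
  have hO : ((X.basicOpen s : X.Opens) : Set X) ⊆ I.support := by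
    intro y hy
    have hyA : y ∈ A := X.basicOpen_le s hy
    rw [SetLike.mem_coe, mem_support_iff_le_primeIdealOf I y ⟨A, hA⟩ hyA]
    exact hsq _ (hA.primeIdealOf ⟨y, hyA⟩).isPrime
      ((mem_basicOpen_iff_notMem_primeIdealOf hA y hyA s).mp hy)
  obtain ⟨y, hy1, hy2⟩ := mem_closure_iff.1 hx (X.basicOpen s) (X.basicOpen s).isOpen hxO
  exact hy2 (hO hy1)

/-- In a quasi-separated scheme, a point without proper generizations outside an affine open `A` has an
affine open neighbourhood disjoint from `A`. -/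
theorem exists_isAffineOpen_disjoint [QuasiSeparatedSpace X] {A : X.Opens} (hA : IsAffineOpen A)
    (x : X) (hgen : ∀ y : X, y ⤳ x → y = x) (hxA : x ∉ A) :
    ∃ B : X.Opens, IsAffineOpen B ∧ x ∈ B ∧ Disjoint A B := by
  obtain ⟨B₀, hB₀, hxB₀, -⟩ := exists_isAffineOpen_mem_and_subset (x := x) (U := ⊤) trivial
  have hc : IsCompact ((A : Set X) ∩ B₀) :=
    QuasiSeparatedSpace.inter_isCompact A.1 B₀.1 A.isOpen hA.isCompact B₀.isOpen hB₀.isCompact
  have hpre : hB₀.fromSpec ⁻¹' ((A : Set X) ∩ B₀) = hB₀.fromSpec ⁻¹' (A : Set X) := by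
    ext q
    simp only [Set.mem_preimage, Set.mem_inter_iff, SetLike.mem_coe, and_iff_left_iff_imp]
    intro _
    have : hB₀.fromSpec q ∈ Set.range hB₀.fromSpec := ⟨q, rfl⟩
    rwa [hB₀.range_fromSpec] at this
  have hc' : IsCompact (hB₀.fromSpec ⁻¹' (A : Set X)) := by
    rw [← hpre]
    refine (hB₀.fromSpec.isOpenEmbedding.isInducing.isCompact_preimage_iff ?_).2 hc
    rw [hB₀.range_fromSpec]
    exact Set.inter_subset_right
  have ho' : IsOpen (hB₀.fromSpec ⁻¹' (A : Set X)) := A.isOpen.preimage hB₀.fromSpec.continuous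
  obtain ⟨J, hJ, hJ'⟩ := PrimeSpectrum.isCompact_isOpen_iff_ideal.1 ⟨hc', ho'⟩
  have hmin := primeIdealOf_mem_minimalPrimes hB₀ x hxB₀ hgen
  have hle : J ≤ (hB₀.primeIdealOf ⟨x, hxB₀⟩).asIdeal := by
    by_contra hcon
    have h1 : hB₀.primeIdealOf ⟨x, hxB₀⟩ ∈ (PrimeSpectrum.zeroLocus (J : Set Γ(X, B₀)))ᶜ := hcon
    rw [hJ'] at h1
    have h2 : hB₀.fromSpec (hB₀.primeIdealOf ⟨x, hxB₀⟩) ∈ A := h1
    rw [hB₀.fromSpec_primeIdealOf] at h2
    exact hxA h2
  obtain ⟨s, hs, hsq⟩ := exists_notMem_forall_le_of_fg hmin hJ hle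
  refine ⟨X.basicOpen s, hB₀.basicOpen s,
    (mem_basicOpen_iff_notMem_primeIdealOf hB₀ x hxB₀ s).mpr hs, ?_⟩
  rw [← Opens.coe_disjoint, Set.disjoint_left]
  intro y hyA hys
  have hyB₀ : y ∈ B₀ := X.basicOpen_le s hys
  have h1 := hsq _ (hB₀.primeIdealOf ⟨y, hyB₀⟩).isPrime
    ((mem_basicOpen_iff_notMem_primeIdealOf hB₀ y hyB₀ s).mp hys)
  have h2 : hB₀.primeIdealOf ⟨y, hyB₀⟩ ∈ hB₀.fromSpec ⁻¹' (A : Set X) := by
    show hB₀.fromSpec (hB₀.primeIdealOf ⟨y, hyB₀⟩) ∈ A
    rw [hB₀.fromSpec_primeIdealOf]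
    exact hyA
  rw [← hJ'] at h2
  exact h2 h1

/-- In a quasi-separated scheme, finitely many points without proper generizations lie in a common
affine open. -/
theorem exists_isAffineOpen_of_finite_generic [QuasiSeparatedSpace X] (T : Set X) (hT : T.Finite)
    (hgen : ∀ x ∈ T, ∀ y : X, y ⤳ x → y = x) : ∃ A : X.Opens, IsAffineOpen A ∧ T ⊆ A := by
  induction T, hT using Set.Finite.induction_on with
  | empty => exact ⟨⊥, isAffineOpen_bot X, Set.empty_subset _⟩
  | @insert x T _ _ ih =>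
    obtain ⟨A, hA, hTA⟩ := ih (fun y hy => hgen y (Set.mem_insert_of_mem _ hy))
    by_cases hxA : x ∈ A
    · exact ⟨A, hA, Set.insert_subset hxA hTA⟩
    · obtain ⟨B, hB, hxB, hAB⟩ := exists_isAffineOpen_disjoint hA x
        (hgen x (Set.mem_insert _ _)) hxA
      refine ⟨A ⊔ B, hA.sup_of_disjoint hB hAB, Set.insert_subset ?_ ?_⟩
      · exact (le_sup_right : B ≤ A ⊔ B) hxB
      · exact hTA.trans (le_sup_left : A ≤ A ⊔ B)

end Groth.Agent.Lib.Seat33.GenClosure
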