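import Mathlib
import Groth.Prelude.Def_Grpd
import Groth.Agent.Lib.Seat33FitMor

/-!
# The Fitting stratification of a finite groupoid scheme (seat 33)

* `mul`: composition of `T`-points of a groupoid scheme, with its calculus.
* `shear`: the isomorphism `R ×_{s,U,s} R ≅ R ×_{s,U,t} R`, `(a, b) ↦ (a ∘ b⁻¹, b)` over the second factor.
* `fitMor_comap_s_eq_t`: the Fitting ideals of `s_* O_R` are `R`-invariant.
-/

set_option autoImplicit false
set_option linter.style.haveILetI false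
universe u
open CategoryTheory CategoryTheory.Limits AlgebraicGeometry TopologicalSpace Opposite

namespace Groth.Agent.Lib.Seat33.GrpdFit

open Groth.Agent.Lib.Seat33.FitMor

variable {S : Scheme.{u}} (G : Grpd.GroupoidScheme S)

section pts
variable {T : Scheme.{u}}

/-- composition of `T`-points. -/
noncomputable def mul (α β : T ⟶ G.R) (h : α ≫ G.s = β ≫ G.t) : T ⟶ G.R :=
  pullback.lift α β h ≫ G.c

theorem mul_s (α β : T ⟶ G.R) (h : α ≫ G.s = β ≫ G.t) : mul G α β h ≫ G.s = β ≫ G.s :=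
  G.comp_s α β h

theorem mul_t (α β : T ⟶ G.R) (h : α ≫ G.s = β ≫ G.t) : mul G α β h ≫ G.t = α ≫ G.t :=
  G.comp_t α β h

theorem mul_assoc (α β γ : T ⟶ G.R) (h₁ : α ≫ G.s = β ≫ G.t) (h₂ : β ≫ G.s = γ ≫ G.t)
    (h₃ : mul G α β h₁ ≫ G.s = γ ≫ G.t) (h₄ : α ≫ G.s = mul G β γ h₂ ≫ G.t) :
    mul G (mul G α β h₁) γ h₃ = mul G α (mul G β γ h₂) h₄ :=
  G.assoc α β γ h₁ h₂

theorem mul_congr {α α' β β' : T ⟶ G.R} (hα : α = α') (hβ : β = β') (h : α ≫ G.s = β ≫ G.t)
    (h' : α' ≫ G.s = β' ≫ G.t) : mul G α β h = mul G α' β' h' := by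
  subst hα hβ
  rfl

theorem mul_e (α ε : T ⟶ G.R) (hε : ε = α ≫ G.s ≫ G.e) (h : α ≫ G.s = ε ≫ G.t) :
    mul G α ε h = α := by
  subst hε
  exact G.comp_e α

theorem e_mul (α ε : T ⟶ G.R) (hε : ε = α ≫ G.t ≫ G.e) (h : ε ≫ G.s = α ≫ G.t) :
    mul G ε α h = α := by
  subst hε
  exact G.e_comp α

theorem mul_inv (α : T ⟶ G.R) (h : α ≫ G.s = (α ≫ G.i) ≫ G.t) :
    mul G α (α ≫ G.i) h = α ≫ G.t ≫ G.e :=
  G.comp_i α

theorem inv_mul (α : T ⟶ G.R) (h : (α ≫ G.i) ≫ G.s = α ≫ G.t) :
    mul G (α ≫ G.i) α h = α ≫ G.s ≫ G.e :=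
  G.i_comp α

theorem comp_mul {T' : Scheme.{u}} (γ : T' ⟶ T) (α β : T ⟶ G.R) (h : α ≫ G.s = β ≫ G.t)
    (h' : (γ ≫ α) ≫ G.s = (γ ≫ β) ≫ G.t) :
    γ ≫ mul G α β h = mul G (γ ≫ α) (γ ≫ β) h' := by
  unfold mul
  rw [← Category.assoc]
  congr 1
  apply pullback.hom_ext
  · rw [Category.assoc, pullback.lift_fst, pullback.lift_fst]
  · rw [Category.assoc, pullback.lift_snd, pullback.lift_snd]

end pts

section shear

theorem shear_cond₁ : pullback.fst G.s G.s ≫ G.s = (pullback.snd G.s G.s ≫ G.i) ≫ G.t := by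
  rw [Category.assoc, G.i_t]
  exact pullback.condition

theorem shear_cond₂ :
    mul G (pullback.fst G.s G.s) (pullback.snd G.s G.s ≫ G.i) (shear_cond₁ G) ≫ G.s =
      pullback.snd G.s G.s ≫ G.t := by
  rw [mul_s, Category.assoc, G.i_s]

/-- `(a, b) ↦ (a ∘ b⁻¹, b)`, from `{s a = s b}` to `{s a' = t b'}`. -/
noncomputable def shearHom : pullback G.s G.s ⟶ pullback G.s G.t :=
  pullback.lift (mul G (pullback.fst G.s G.s) (pullback.snd G.s G.s ≫ G.i) (shear_cond₁ G))
    (pullback.snd G.s G.s) (shear_cond₂ G)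

/-- `(a', b') ↦ (a' ∘ b', b')`. -/
noncomputable def shearInv : pullback G.s G.t ⟶ pullback G.s G.s :=
  pullback.lift (mul G (pullback.fst G.s G.t) (pullback.snd G.s G.t) pullback.condition)
    (pullback.snd G.s G.t) (mul_s G _ _ _)

@[reassoc (attr := simp)]
theorem shearHom_snd : shearHom G ≫ pullback.snd G.s G.t = pullback.snd G.s G.s :=
  pullback.lift_snd _ _ _

@[reassoc (attr := simp)]
theorem shearInv_snd : shearInv G ≫ pullback.snd G.s G.s = pullback.snd G.s G.t :=
  pullback.lift_snd _ _ _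

theorem shearHom_fst : shearHom G ≫ pullback.fst G.s G.t =
    mul G (pullback.fst G.s G.s) (pullback.snd G.s G.s ≫ G.i) (shear_cond₁ G) :=
  pullback.lift_fst _ _ _

theorem shearInv_fst : shearInv G ≫ pullback.fst G.s G.s =
    mul G (pullback.fst G.s G.t) (pullback.snd G.s G.t) pullback.condition :=
  pullback.lift_fst _ _ _

theorem shearHom_shearInv : shearHom G ≫ shearInv G = 𝟙 _ := by
  apply pullback.hom_ext
  · rw [Category.assoc, shearInv_fst, Category.id_comp]
    have h1 : (shearHom G ≫ pullback.fst G.s G.t) ≫ G.s = (shearHom G ≫ pullback.snd G.s G.t) ≫ G.t := by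
      rw [Category.assoc, Category.assoc, pullback.condition]
    rw [comp_mul G (shearHom G) _ _ _ h1]
    have hc : (pullback.snd G.s G.s ≫ G.i) ≫ G.s = pullback.snd G.s G.s ≫ G.t := by
      rw [Category.assoc, G.i_s]
    rw [mul_congr G (shearHom_fst G) (shearHom_snd G) h1 (shear_cond₂ G)]
    rw [mul_assoc G _ _ _ (shear_cond₁ G) hc (shear_cond₂ G)
      (by rw [mul_t]; exact shear_cond₁ G)]
    have h2 : mul G (pullback.snd G.s G.s ≫ G.i) (pullback.snd G.s G.s) hc =
        pullback.fst G.s G.s ≫ G.s ≫ G.e := by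
      rw [inv_mul, ← Category.assoc, ← pullback.condition, Category.assoc]
    exact mul_e G _ _ h2 _
  · rw [Category.assoc, shearInv_snd, shearHom_snd, Category.id_comp]

theorem shearInv_shearHom : shearInv G ≫ shearHom G = 𝟙 _ := by
  apply pullback.hom_ext
  · rw [Category.assoc, shearHom_fst, Category.id_comp]
    have h1 : (shearInv G ≫ pullback.fst G.s G.s) ≫ G.s =
        (shearInv G ≫ pullback.snd G.s G.s ≫ G.i) ≫ G.t := by
      rw [Category.assoc, Category.assoc, Category.assoc, G.i_t, pullback.condition]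
    rw [comp_mul G (shearInv G) _ _ _ h1]
    have hc : pullback.snd G.s G.t ≫ G.s = (pullback.snd G.s G.t ≫ G.i) ≫ G.t := by
      rw [Category.assoc, G.i_t]
    have hs2 : shearInv G ≫ pullback.snd G.s G.s ≫ G.i = pullback.snd G.s G.t ≫ G.i := by
      rw [← Category.assoc, shearInv_snd]
    have h3 : mul G (pullback.fst G.s G.t) (pullback.snd G.s G.t) pullback.condition ≫ G.s =
        (pullback.snd G.s G.t ≫ G.i) ≫ G.t := by
      rw [mul_s]; exact hc
    rw [mul_congr G (shearInv_fst G) hs2 h1 h3]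
    rw [mul_assoc G _ _ _ pullback.condition hc h3 (by rw [mul_t]; exact pullback.condition)]
    have h2 : mul G (pullback.snd G.s G.t) (pullback.snd G.s G.t ≫ G.i) hc =
        pullback.fst G.s G.t ≫ G.s ≫ G.e := by
      rw [mul_inv, ← Category.assoc, ← pullback.condition, Category.assoc]
    exact mul_e G _ _ h2 _
  · rw [Category.assoc, shearHom_snd, shearInv_snd, Category.id_comp]

instance : IsIso (shearHom G) := ⟨shearInv G, shearHom_shearInv G, shearInv_shearHom G⟩

end shear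

/-- **The Fitting ideals of `s_* O_R` are `R`-invariant.** -/
theorem fitMor_comap_s_eq_t [IsFinite G.s] (r : ℕ) :
    (fitMor G.s r).comap G.s = (fitMor G.s r).comap G.t := by
  rw [fitMor_comap G.s G.s _ _ (IsPullback.of_hasPullback G.s G.s) r,
    fitMor_comap G.s G.t _ _ (IsPullback.of_hasPullback G.s G.t) r,
    ← shearHom_snd G, fitMor_iso_comp]

section ideal
variable {X Y : Scheme.{u}}

theorem comap_subschemeι_self (I : X.IdealSheafData) : I.comap I.subschemeι = ⊥ := by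
  rw [eq_bot_iff, ← Scheme.IdealSheafData.le_map_iff_comap_le, Scheme.IdealSheafData.map_bot,
    Scheme.IdealSheafData.ker_subschemeι]

theorem comap_bot (f : X ⟶ Y) : (⊥ : Y.IdealSheafData).comap f = ⊥ :=
  (Scheme.IdealSheafData.map_gc f).l_bot

theorem comap_eq_top_of_forall_notMem (I : Y.IdealSheafData) (f : X ⟶ Y)
    (h : ∀ x, f x ∉ I.support) : I.comap f = ⊤ := by
  rw [← Scheme.IdealSheafData.support_eq_bot_iff, Scheme.IdealSheafData.support_comap]
  ext x
  simp only [Closeds.coe_preimage, Set.mem_preimage, SetLike.mem_coe, Closeds.coe_bot,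
    Set.mem_empty_iff_false, iff_false]
  exact h x

theorem subschemeι_eq_of_eq {I J : X.IdealSheafData} (h : I = J) :
    (eqToHom (congrArg Scheme.IdealSheafData.subscheme h)) ≫ J.subschemeι = I.subschemeι := by
  subst h
  simp

/-- two closed subschemes with the same pulled-back ideal have isomorphic pullbacks. -/
theorem exists_iso_of_comap_eq (I : Y.IdealSheafData) (f g : X ⟶ Y) (h : I.comap f = I.comap g) :
    ∃ φ : pullback f I.subschemeι ≅ pullback g I.subschemeι,
      φ.hom ≫ pullback.fst g I.subschemeι = pullback.fst f I.subschemeι := by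
  refine ⟨(I.comapIso f).symm ≪≫ eqToIso (congrArg Scheme.IdealSheafData.subscheme h) ≪≫
    I.comapIso g, ?_⟩
  simp only [Iso.trans_hom, Iso.symm_hom, eqToIso.hom, Category.assoc,
    Scheme.IdealSheafData.comapIso_hom_fst]
  rw [subschemeι_eq_of_eq h, Scheme.IdealSheafData.comapIso_inv_subschemeι]

end ideal

section strata
variable [IsFinite G.s]

/-- the `r`-th stratum ideal `Z_r = Fit_r(s_* O_R)`. -/
noncomputable abbrev Z (r : ℕ) : G.U.IdealSheafData := fitMor G.s r

theorem Z_zero : Z G 0 = ⊥ := fitMor_zero_of_section G.s G.e G.e_s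

theorem Z_mono : Monotone (Z G) := fun _ _ h => fitMor_mono G.s h

theorem iInter_support_Z : (⋂ r, ((Z G r).support : Set G.U)) = ∅ := by
  rw [Set.eq_empty_iff_forall_notMem]
  intro y hy
  obtain ⟨r, hr⟩ := exists_notMem_support_fitMor G.s y
  exact hr (Set.mem_iInter.1 hy r)

/-- base change of `s` along `g : T ⟶ U` is finite locally free of degree `r + 1` provided `g` kills `Z_r`
and avoids the support of `Z_{r+1}`. -/
theorem isFinLocFreeOfDeg_of_comap {T : Scheme.{u}} (g : T ⟶ G.U) (r : ℕ)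
    (h1 : (Z G r).comap g = ⊥) (h2 : ∀ x, g x ∉ (Z G (r + 1)).support) :
    Mor2.IsFinLocFreeOfDeg (r + 1) (pullback.snd G.s g) := by
  have hbc : ∀ k, fitMor (pullback.snd G.s g) k = (Z G k).comap g := fun k =>
    (fitMor_comap G.s g _ _ (IsPullback.of_hasPullback G.s g) k).symm
  apply isFinLocFreeOfDeg_of_fitMor
  · intro k hk
    rw [hbc, eq_bot_iff, ← h1]
    exact Scheme.IdealSheafData.comap_mono g (Z_mono G (Nat.lt_succ_iff.mp hk))
  · intro k hk
    rw [hbc, eq_top_iff, ← comap_eq_top_of_forall_notMem (Z G (r + 1)) g h2]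
    exact Scheme.IdealSheafData.comap_mono g (Z_mono G hk)

theorem isFinLocFreeOfDeg_stratum (r : ℕ) :
    Mor2.IsFinLocFreeOfDeg (r + 1) (pullback.snd G.s
      (((Z G r).subschemeι ⁻¹ᵁ (Z G (r + 1)).support.compl).ι ≫ (Z G r).subschemeι)) := by
  apply isFinLocFreeOfDeg_of_comap
  · rw [Scheme.IdealSheafData.comap_comp, comap_subschemeι_self, comap_bot]
  · intro x
    exact x.2

theorem main : ∃ Z : ℕ → G.U.IdealSheafData, Z 0 = ⊥ ∧ Monotone Z ∧
    (⋂ r, ((Z r).support : Set G.U)) = ∅ ∧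
    (∀ r, ∃ φ : pullback G.s (Z r).subschemeι ≅ pullback G.t (Z r).subschemeι,
      φ.hom ≫ pullback.fst G.t (Z r).subschemeι = pullback.fst G.s (Z r).subschemeι) ∧
    ∀ r, Mor2.IsFinLocFreeOfDeg (r + 1) (pullback.snd G.s
      (((Z r).subschemeι ⁻¹ᵁ (Z (r + 1)).support.compl).ι ≫ (Z r).subschemeι)) :=
  ⟨Z G, Z_zero G, Z_mono G, iInter_support_Z G,
    fun r => exists_iso_of_comap_eq _ _ _ (fitMor_comap_s_eq_t G r),
    isFinLocFreeOfDeg_stratum G⟩

end strata

end Groth.Agent.Lib.Seat33.GrpdFit
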