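import Mathlib
import Groth.Prelude.Def_Grpd
import Groth.Agent.Lib.Helper18Grpd1
import Groth.Agent.Lib.Helper10ClosureProd
import Groth.Agent.S7462

set_option autoImplicit false
universe u
open CategoryTheory CategoryTheory.Limits AlgebraicGeometry
open Groth.Agent.Helper18Grpd

namespace Groth.Agent.Lib.Seat33.GrpdField

section Hom

variable {S : Scheme.{u}} {G₁ G₂ : Grpd.GroupoidScheme S} (a : Grpd.GroupoidScheme.Hom G₁ G₂)

/-- a morphism of groupoid schemes is compatible with `cmp` on `T`-points. -/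
theorem hom_cmp {T : Scheme.{u}} (α β : T ⟶ G₁.R) (h : α ≫ G₁.s = β ≫ G₁.t) :
    cmp G₁ α β h ≫ a.fR = cmp G₂ (α ≫ a.fR) (β ≫ a.fR)
      (by rw [Category.assoc, Category.assoc, a.comm_s, a.comm_t, ← Category.assoc,
        ← Category.assoc, h]) :=
  a.comm_c α β h

/-- an idempotent arrow is an identity. -/
theorem eq_e_of_cmp_self {G : Grpd.GroupoidScheme S} {T : Scheme.{u}} (ε : T ⟶ G.R)
    (h : ε ≫ G.s = ε ≫ G.t) (hε : cmp G ε ε h = ε) : ε = ε ≫ G.s ≫ G.e := by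
  have h2 : (ε ≫ G.i) ≫ G.s = cmp G ε ε h ≫ G.t := by rw [inv_s, cmp_t]
  have h1 := cmp_inv_cmp ε ε h h2
  rw [cmp_congr rfl hε h2 (by rw [inv_s])] at h1
  rw [i_cmp] at h1
  exact h1.symm

/-- a morphism of groupoid schemes preserves identities. -/
theorem hom_e : G₁.e ≫ a.fR = a.fU ≫ G₂.e := by
  have he : cmp G₁ G₁.e G₁.e (by rw [G₁.e_s, G₁.e_t]) = G₁.e := by
    have := e_cmp (G := G₁) G₁.e
    rw [cmp_congr (G := G₁) (α := G₁.e ≫ G₁.t ≫ G₁.e) (α' := G₁.e) (β := G₁.e) (β' := G₁.e)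
      (by rw [← Category.assoc, G₁.e_t, Category.id_comp]) rfl _ (by rw [G₁.e_s, G₁.e_t])] at this
    exact this
  have h1 := hom_cmp a G₁.e G₁.e (by rw [G₁.e_s, G₁.e_t])
  rw [he] at h1
  have h2 := eq_e_of_cmp_self (G₁.e ≫ a.fR)
    (by rw [Category.assoc, Category.assoc, a.comm_s, a.comm_t, ← Category.assoc, ← Category.assoc,
      G₁.e_s, G₁.e_t]) h1.symm
  rw [h2, Category.assoc, ← Category.assoc a.fR, a.comm_s, Category.assoc,
    ← Category.assoc G₁.e, G₁.e_s, Category.id_comp]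

/-- uniqueness of right inverses. -/
theorem eq_inv_of_cmp_eq {G : Grpd.GroupoidScheme S} {T : Scheme.{u}} (α β : T ⟶ G.R)
    (h : α ≫ G.s = β ≫ G.t) (hαβ : cmp G α β h = α ≫ G.t ≫ G.e) : β = α ≫ G.i := by
  have h4 := cmp_inv_cmp α β h (by rw [inv_s, cmp_t])
  rw [← h4, cmp_congr rfl hαβ _ (by simp [G.i_s, G.e_t])]
  have h5 := cmp_e (G := G) (α ≫ G.i)
  refine Eq.trans (cmp_congr rfl ?_ _ _) h5
  rw [Category.assoc, ← Category.assoc G.i, G.i_s]

/-- a morphism of groupoid schemes preserves inverses. -/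
theorem hom_i : G₁.i ≫ a.fR = a.fR ≫ G₂.i := by
  have hc : (𝟙 G₁.R) ≫ G₁.s = G₁.i ≫ G₁.t := by rw [G₁.i_t, Category.id_comp]
  have h1 := hom_cmp a (𝟙 G₁.R) G₁.i hc
  have h2 : cmp G₁ (𝟙 G₁.R) G₁.i hc = G₁.t ≫ G₁.e := by
    have := cmp_i (G := G₁) (𝟙 G₁.R)
    rw [cmp_congr (G := G₁) rfl (Category.id_comp _) _ hc] at this
    rw [this, Category.id_comp]
  rw [h2] at h1
  have h3 : (G₁.t ≫ G₁.e) ≫ a.fR = a.fR ≫ G₂.t ≫ G₂.e := by
    rw [Category.assoc, hom_e, ← Category.assoc, ← a.comm_t, Category.assoc]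
  rw [h3] at h1
  have hs : a.fR ≫ G₂.s = (G₁.i ≫ a.fR) ≫ G₂.t := by
    rw [Category.assoc, a.comm_s, a.comm_t, ← Category.assoc, G₁.i_t]
  refine eq_inv_of_cmp_eq a.fR (G₁.i ≫ a.fR) hs ?_
  rw [h1]
  exact cmp_congr (Category.id_comp _).symm rfl _ _

end Hom

section Maps

variable {S : Scheme.{u}} (G : Grpd.GroupoidScheme S)

theorem c_eq : G.c = cmp G (pullback.fst G.s G.t) (pullback.snd G.s G.t) pullback.condition := by
  unfold Groth.Agent.Helper18Grpd.cmp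
  have : pullback.lift (pullback.fst G.s G.t) (pullback.snd G.s G.t) pullback.condition = 𝟙 _ := by
    apply pullback.hom_ext <;> simp
  rw [this, Category.id_comp]

variable {G} in
theorem comp_c {T : Scheme.{u}} (m : T ⟶ pullback G.s G.t) :
    m ≫ G.c = cmp G (m ≫ pullback.fst G.s G.t) (m ≫ pullback.snd G.s G.t)
      (by rw [Category.assoc, Category.assoc, pullback.condition]) := by
  conv_lhs => rw [c_eq G]
  rw [precomp_cmp]

theorem c_t : G.c ≫ G.t = pullback.fst G.s G.t ≫ G.t := by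
  rw [c_eq, cmp_t]

theorem c_s : G.c ≫ G.s = pullback.snd G.s G.t ≫ G.s := by
  rw [c_eq, cmp_s]

/-- `(g, h) ↦ (g, gh)` -/
noncomputable def θ : pullback G.s G.t ⟶ pullback G.t G.t :=
  pullback.lift (pullback.fst G.s G.t) G.c (c_t G).symm

/-- `(g, m) ↦ (g, g⁻¹m)` -/
noncomputable def θinv : pullback G.t G.t ⟶ pullback G.s G.t :=
  pullback.lift (pullback.fst G.t G.t) (divMap G) (divMap_t G).symm

@[reassoc (attr := simp)]
theorem θ_fst : θ G ≫ pullback.fst G.t G.t = pullback.fst G.s G.t := pullback.lift_fst _ _ _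

@[reassoc (attr := simp)]
theorem θ_snd : θ G ≫ pullback.snd G.t G.t = G.c := pullback.lift_snd _ _ _

@[reassoc (attr := simp)]
theorem θinv_fst : θinv G ≫ pullback.fst G.s G.t = pullback.fst G.t G.t := pullback.lift_fst _ _ _

@[reassoc (attr := simp)]
theorem θinv_snd : θinv G ≫ pullback.snd G.s G.t = divMap G := pullback.lift_snd _ _ _

theorem θ_θinv : θ G ≫ θinv G = 𝟙 _ := by
  apply pullback.hom_ext
  · simp
  · rw [Category.assoc, θinv_snd, comp_divMap, Category.id_comp]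
    have h1 : (θ G ≫ pullback.fst G.t G.t) ≫ G.i = pullback.fst G.s G.t ≫ G.i := by rw [θ_fst]
    have h2 : θ G ≫ pullback.snd G.t G.t =
        cmp G (pullback.fst G.s G.t) (pullback.snd G.s G.t) pullback.condition := by
      rw [θ_snd, c_eq]
    rw [cmp_congr h1 h2 _ (by rw [inv_s, cmp_t])]
    exact cmp_inv_cmp _ _ _ _

theorem θinv_θ : θinv G ≫ θ G = 𝟙 _ := by
  apply pullback.hom_ext
  · simp
  · rw [Category.assoc, θ_snd, comp_c, Category.id_comp]
    have h2 : θinv G ≫ pullback.snd G.s G.t =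
        cmp G (pullback.fst G.t G.t ≫ G.i) (pullback.snd G.t G.t) (div_cond G) := by
      rw [θinv_snd]; rfl
    rw [cmp_congr (θinv_fst G) h2 _ (by rw [cmp_t, inv_t])]
    exact cmp_cmp_inv _ _ pullback.condition _ _

instance : IsIso (θ G) := ⟨θinv G, θ_θinv G, θinv_θ G⟩

/-- `(g, h) ↦ (gh, h⁻¹)` -/
noncomputable def φ : pullback G.s G.t ⟶ pullback G.s G.t :=
  pullback.lift G.c (pullback.snd G.s G.t ≫ G.i) (by rw [c_s, inv_t])

@[reassoc (attr := simp)]
theorem φ_fst : φ G ≫ pullback.fst G.s G.t = G.c := pullback.lift_fst _ _ _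

@[reassoc (attr := simp)]
theorem φ_snd : φ G ≫ pullback.snd G.s G.t = pullback.snd G.s G.t ≫ G.i := pullback.lift_snd _ _ _

theorem φ_c : φ G ≫ G.c = pullback.fst G.s G.t := by
  rw [comp_c]
  have h1 : φ G ≫ pullback.fst G.s G.t =
      cmp G (pullback.fst G.s G.t) (pullback.snd G.s G.t) pullback.condition := by
    rw [φ_fst, c_eq]
  rw [cmp_congr h1 (φ_snd G) _ (by rw [cmp_s, inv_t])]
  rw [cmp_assoc _ _ _ pullback.condition (by rw [inv_t])]
  have h3 : cmp G (pullback.snd G.s G.t) (pullback.snd G.s G.t ≫ G.i) (by rw [inv_t]) =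
      pullback.fst G.s G.t ≫ G.s ≫ G.e := by
    rw [cmp_i, ← Category.assoc, ← pullback.condition, Category.assoc]
  rw [cmp_congr rfl h3 _ (by simp [G.e_t])]
  exact cmp_e _

/-- `(g, h) ↦ (g⁻¹, gh)` -/
noncomputable def ψ : pullback G.s G.t ⟶ pullback G.s G.t :=
  pullback.lift (pullback.fst G.s G.t ≫ G.i) G.c (by rw [c_t, inv_s])

@[reassoc (attr := simp)]
theorem ψ_fst : ψ G ≫ pullback.fst G.s G.t = pullback.fst G.s G.t ≫ G.i := pullback.lift_fst _ _ _

@[reassoc (attr := simp)]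
theorem ψ_snd : ψ G ≫ pullback.snd G.s G.t = G.c := pullback.lift_snd _ _ _

theorem ψ_c : ψ G ≫ G.c = pullback.snd G.s G.t := by
  rw [comp_c]
  have h2 : ψ G ≫ pullback.snd G.s G.t =
      cmp G (pullback.fst G.s G.t) (pullback.snd G.s G.t) pullback.condition := by
    rw [ψ_snd, c_eq]
  rw [cmp_congr (ψ_fst G) h2 _ (by rw [inv_s, cmp_t])]
  exact cmp_inv_cmp _ _ _ _

end Maps

section Main

variable (S : Scheme.{u}) (G₁ G₂ : Grpd.GroupoidScheme S) (a : Grpd.GroupoidScheme.Hom G₁ G₂)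
  [IsIso a.fU] (k : Type u) [Field k] (eU : G₂.U ≅ Spec (CommRingCat.of k))

include eU in
/-- A morphism of groupoid schemes over (the spectrum of) a field which is an isomorphism on
objects has closed image on arrows as soon as this image is locally closed. -/
theorem isClosed_range_of_isLocallyClosed (hlc : IsLocallyClosed (Set.range ⇑a.fR)) :
    IsClosed (Set.range ⇑a.fR) := by
  have hI : IsIntegral G₂.U := by
    have : IsIntegral (Spec (CommRingCat.of k)) := inferInstance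
    have : Nonempty G₂.U := ⟨eU.inv (IsLocalRing.closedPoint k)⟩
    exact isIntegral_of_isOpenImmersion eU.hom
  have hS : Subsingleton G₂.U := (eU.hom.homeomorph.injective).subsingleton
  set W : Set G₂.R := Set.range ⇑a.fR with hW
  set Z : Set G₂.R := closure W with hZ
  suffices h : Z ⊆ W by
    have : W = Z := Set.Subset.antisymm subset_closure h
    rw [this]; exact isClosed_closure
  -- the open `O` with `O ∩ Z = W`
  have hO : IsOpen (coborder W) := hlc.isOpen_coborder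
  have hOZ : coborder W ∩ Z = W := coborder_inter_closure
  -- `W` and `Z` are stable under the inverse
  have hiW : Set.MapsTo ⇑G₂.i W W := by
    rintro _ ⟨r, rfl⟩
    refine ⟨G₁.i r, ?_⟩
    rw [← Scheme.Hom.comp_apply, ← Scheme.Hom.comp_apply, hom_i]
  have hiZ : ∀ x ∈ Z, G₂.i x ∈ Z := fun x hx => map_mem_closure G₂.i.continuous hx hiW
  -- `Z` is stable under composition
  have hcZ : ∀ p : ↑(pullback G₂.s G₂.t), pullback.fst G₂.s G₂.t p ∈ Z →
      pullback.snd G₂.s G₂.t p ∈ Z → G₂.c p ∈ Z :=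
    fun p h₁ h₂ => Groth.Agent.S7462.result S G₁ G₂ a k eU p h₁ h₂
  -- the comparison map of composable pairs
  let M : pullback G₁.s G₁.t ⟶ pullback G₂.s G₂.t :=
    pullback.map G₁.s G₁.t G₂.s G₂.t a.fR a.fR a.fU a.comm_s.symm a.comm_t.symm
  have hM : Set.range ⇑M = pullback.fst G₂.s G₂.t ⁻¹' W ∩ pullback.snd G₂.s G₂.t ⁻¹' W :=
    Scheme.Pullback.range_map _ _ _ _ _ _ _ _ _
  have hc : M ≫ G₂.c = G₁.c ≫ a.fR := by
    have h := a.comm_c (pullback.fst G₁.s G₁.t) (pullback.snd G₁.s G₁.t) pullback.condition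
    have e1 : pullback.lift (pullback.fst G₁.s G₁.t) (pullback.snd G₁.s G₁.t) pullback.condition =
        𝟙 _ := by
      apply pullback.hom_ext <;> simp
    rw [e1, Category.id_comp] at h
    rw [h]
  intro z hz
  -- Step 1: a point `p₀ = (z, w₀)` with `w₀ ∈ W`
  obtain ⟨w₀, hw₀⟩ : W.Nonempty := closure_nonempty_iff.mp ⟨z, hz⟩
  obtain ⟨p₀, hp₀1, hp₀2⟩ := Scheme.Pullback.exists_preimage_pullback (f := G₂.s) (g := G₂.t)
    z w₀ (Subsingleton.elim _ _)
  have hcp₀ : G₂.c p₀ ∈ Z := hcZ p₀ (hp₀1 ▸ hz) (hp₀2 ▸ subset_closure hw₀)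
  -- Step 2: move to `R ×_{t,t} R` and use openness of the second projection on fibres
  let V₁ : Set ↑(pullback G₂.s G₂.t) := pullback.snd G₂.s G₂.t ⁻¹' coborder W
  have hV₁ : IsOpen V₁ := hO.preimage (pullback.snd G₂.s G₂.t).continuous
  have hp₀V : p₀ ∈ V₁ := by
    show pullback.snd G₂.s G₂.t p₀ ∈ coborder W
    rw [hp₀2]; exact subset_coborder hw₀
  let V₁' : Set ↑(pullback G₂.t G₂.t) := ⇑(θ G₂) '' V₁
  have hV₁' : IsOpen V₁' := (θ G₂).homeomorph.isOpenMap _ hV₁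
  have hopen := Groth.Agent.Lib.Helper10.ClosureProd.isOpen_image_inter_fibre
    (IsPullback.of_hasPullback G₂.t G₂.t) z V₁' hV₁'
  have hmem : G₂.c p₀ ∈ (pullback.snd G₂.t G₂.t).base '' (V₁' ∩ (pullback.fst G₂.t G₂.t).base ⁻¹' {z}) := by
    refine ⟨θ G₂ p₀, ⟨⟨p₀, hp₀V, rfl⟩, ?_⟩, ?_⟩
    · show pullback.fst G₂.t G₂.t (θ G₂ p₀) = z
      rw [← Scheme.Hom.comp_apply, θ_fst, hp₀1]
    · show pullback.snd G₂.t G₂.t (θ G₂ p₀) = G₂.c p₀
      rw [← Scheme.Hom.comp_apply, θ_snd]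
  obtain ⟨_, ⟨_, ⟨⟨p, hpV, rfl⟩, hq1⟩, rfl⟩, hqW⟩ := mem_closure_iff.mp hcp₀ _ hopen hmem
  have hp1 : pullback.fst G₂.s G₂.t p = z := by
    have : pullback.fst G₂.t G₂.t (θ G₂ p) = z := hq1
    rwa [← Scheme.Hom.comp_apply, θ_fst] at this
  have hpc : G₂.c p ∈ W := by
    have : pullback.snd G₂.t G₂.t (θ G₂ p) ∈ W := hqW
    rwa [← Scheme.Hom.comp_apply, θ_snd] at this
  have hpO : pullback.snd G₂.s G₂.t p ∈ coborder W := hpV
  -- Step 3: the second component of `p` lies in `Z`, hence in `W`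
  have hp2Z : pullback.snd G₂.s G₂.t p ∈ Z := by
    have h1 : pullback.fst G₂.s G₂.t (ψ G₂ p) ∈ Z := by
      rw [← Scheme.Hom.comp_apply, ψ_fst, Scheme.Hom.comp_apply, hp1]
      exact hiZ z hz
    have h2 : pullback.snd G₂.s G₂.t (ψ G₂ p) ∈ Z := by
      rw [← Scheme.Hom.comp_apply, ψ_snd]
      exact subset_closure hpc
    have := hcZ _ h1 h2
    rwa [← Scheme.Hom.comp_apply, ψ_c] at this
  have hp2W : pullback.snd G₂.s G₂.t p ∈ W := by
    rw [← hOZ]; exact ⟨hpO, hp2Z⟩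
  -- Step 4: `z = (z h) h⁻¹` comes from `G₁`
  have hφ : φ G₂ p ∈ Set.range ⇑M := by
    rw [hM]
    refine ⟨?_, ?_⟩
    · show pullback.fst G₂.s G₂.t (φ G₂ p) ∈ W
      rw [← Scheme.Hom.comp_apply, φ_fst]
      exact hpc
    · show pullback.snd G₂.s G₂.t (φ G₂ p) ∈ W
      rw [← Scheme.Hom.comp_apply, φ_snd, Scheme.Hom.comp_apply]
      exact hiW hp2W
  obtain ⟨q, hq⟩ := hφ
  refine ⟨G₁.c q, ?_⟩
  rw [← Scheme.Hom.comp_apply, ← hc, Scheme.Hom.comp_apply, hq, ← Scheme.Hom.comp_apply, φ_c, hp1]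

end Main

end Groth.Agent.Lib.Seat33.GrpdField
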