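import Mathlib
import Groth.Prelude.Def_Grpd
import Groth.Agent.Lib.Seat33GrpdField
import Groth.Agent.Lib.Helper20SmoothDescSch

set_option autoImplicit false
universe u
open CategoryTheory CategoryTheory.Limits AlgebraicGeometry TopologicalSpace
open Groth.Agent.Helper18Grpd

namespace Groth.Agent.Lib.Seat33.GrpdSmooth

section BC

variable {X Y Y' P : Scheme.{u}}

/-- smooth locus is insensitive to an isomorphism of the target -/
theorem smoothLocus_comp_iso (f : X ⟶ Y) [LocallyOfFinitePresentation f] (e : Y ⟶ Y') [IsIso e] :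
    ((f ≫ e).smoothLocus : Set X) = (f.smoothLocus : Set X) := by
  ext x
  refine Iff.trans ?_
    (RingHom.FormallySmooth.respectsIso.cancel_left_isIso (e.stalkMap (f x)) (f.stalkMap x))
  rw [← CommRingCat.hom_comp, ← Scheme.Hom.stalkMap_comp]
  rfl

/-- Points over the smooth locus lie in the smooth locus of the base change
(as `Helper25.SmUnit.mem_smoothLocus_pullback_snd`). -/
theorem mem_smoothLocus_pullback_snd (f : X ⟶ Y) [LocallyOfFinitePresentation f] (g : Y' ⟶ Y)
    (w : ↑(pullback f g)) (hw : pullback.fst f g w ∈ f.smoothLocus) :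
    w ∈ (pullback.snd f g).smoothLocus := by
  obtain ⟨U, hxU, hU⟩ := Groth.Agent.Lib.Helper20.FlatDesc.exists_smooth_nbhd f _ hw
  have hE : Smooth (((pullback.fst f g) ⁻¹ᵁ U).ι ≫ pullback.snd f g) :=
    MorphismProperty.of_isPullback (P := @Smooth)
      ((isPullback_morphismRestrict (pullback.fst f g) U).paste_vert
        (IsPullback.of_hasPullback f g)) hU
  exact Groth.Agent.Lib.Helper20.FlatDesc.formallySmooth_stalkMap_of_nbhd _ w
    ((pullback.fst f g) ⁻¹ᵁ U) hxU

/-- For a cartesian square with `g` flat, the smooth locus of the base change `q` of `f` is the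
preimage of the smooth locus of `f`. -/
theorem mem_smoothLocus_iff_of_isPullback {p : P ⟶ X} {q : P ⟶ Y'} {f : X ⟶ Y} {g : Y' ⟶ Y}
    (h : IsPullback p q f g) [LocallyOfFinitePresentation f] [Flat g] (w : P) :
    haveI : LocallyOfFinitePresentation q := MorphismProperty.of_isPullback h inferInstance
    w ∈ q.smoothLocus ↔ p w ∈ f.smoothLocus := by
  have : LocallyOfFinitePresentation q := MorphismProperty.of_isPullback h inferInstance
  have e1 : h.isoPullback.hom ≫ pullback.snd f g = q := h.isoPullback_hom_snd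
  have e2 : h.isoPullback.hom ≫ pullback.fst f g = p := h.isoPullback_hom_fst
  have hmem : w ∈ q.smoothLocus ↔ h.isoPullback.hom w ∈ (pullback.snd f g).smoothLocus := by
    rw [← Scheme.Hom.mem_preimage, Scheme.Hom.preimage_smoothLocus_eq]
    simp only [e1]
  rw [hmem]
  have hp : p w = pullback.fst f g (h.isoPullback.hom w) := by
    rw [← Scheme.Hom.comp_apply, e2]
  rw [hp]
  exact ⟨fun H => Groth.Agent.Lib.Helper20.FlatDesc.formallySmooth_stalkMap_of_flat_baseChange
    f g _ H, fun H => mem_smoothLocus_pullback_snd f g _ H⟩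

end BC

section Grpd

open Groth.Agent.Lib.Seat33.GrpdField

variable {S : Scheme.{u}} (G : Grpd.GroupoidScheme S)

/-- the inverse is an involution. -/
theorem i_i : G.i ≫ G.i = 𝟙 _ := by
  have h : G.i ≫ G.s = (𝟙 G.R) ≫ G.t := by rw [G.i_s, Category.id_comp]
  have h1 : cmp G G.i (𝟙 _) h = G.i ≫ G.t ≫ G.e := by
    have := i_cmp (G := G) (𝟙 G.R)
    rw [← Category.assoc, G.i_t]
    refine (Eq.trans (cmp_congr (Category.id_comp _).symm rfl _ _) this).trans ?_
    rw [Category.id_comp]
  exact (eq_inv_of_cmp_eq G.i (𝟙 _) h h1).symm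

instance : IsIso G.i := ⟨G.i, i_i G, i_i G⟩

variable [IsIntegral G.U] [Subsingleton G.U] [LocallyOfFinitePresentation G.t]

/-- homogeneity of the smooth locus of `t` under left translations. -/
theorem c_mem_smoothLocus_iff (p : ↑(pullback G.s G.t)) :
    G.c p ∈ G.t.smoothLocus ↔ pullback.snd G.s G.t p ∈ G.t.smoothLocus := by
  -- `fst_P` is the base change of `t` along `s`
  have h1 := mem_smoothLocus_iff_of_isPullback (IsPullback.of_hasPullback G.s G.t).flip p
  -- `fst_Q` is the base change of `t` along `t`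
  have h2 := mem_smoothLocus_iff_of_isPullback (IsPullback.of_hasPullback G.t G.t).flip (θ G p)
  rw [← h1]
  have e2 : pullback.snd G.t G.t (θ G p) = G.c p := by
    rw [← Scheme.Hom.comp_apply, θ_snd]
  rw [e2] at h2
  rw [← h2]
  -- transport along the iso θ
  have : LocallyOfFinitePresentation (pullback.fst G.t G.t) := inferInstance
  have h3 : (θ G) ⁻¹ᵁ (pullback.fst G.t G.t).smoothLocus = (θ G ≫ pullback.fst G.t G.t).smoothLocus :=
    Scheme.Hom.preimage_smoothLocus_eq _ _
  have h4 : θ G p ∈ (pullback.fst G.t G.t).smoothLocus ↔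
      p ∈ (θ G ≫ pullback.fst G.t G.t).smoothLocus := by
    rw [← h3]; rfl
  rw [h4]
  simp only [θ_fst]

/-- A groupoid scheme over a field whose target map has a smooth point has smooth target map. -/
theorem smooth_t_of_nonempty (h : (G.t.smoothLocus : Set G.R).Nonempty) : Smooth G.t := by
  rw [← Scheme.Hom.smoothLocus_eq_top_iff, eq_top_iff]
  rintro r -
  obtain ⟨h₀, hh₀⟩ := h
  obtain ⟨p', hp'1, hp'2⟩ := Scheme.Pullback.exists_preimage_pullback (f := G.s) (g := G.t)
    r (G.i h₀) (Subsingleton.elim _ _)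
  have e1 : G.c (φ G p') = r := by rw [← Scheme.Hom.comp_apply, φ_c, hp'1]
  have e2 : pullback.snd G.s G.t (φ G p') = h₀ := by
    rw [← Scheme.Hom.comp_apply, φ_snd, Scheme.Hom.comp_apply, hp'2, ← Scheme.Hom.comp_apply, i_i]
    rfl
  rw [← e1, c_mem_smoothLocus_iff, e2]
  exact hh₀

omit [IsIntegral G.U] [Subsingleton G.U] [LocallyOfFinitePresentation G.t] in
theorem smooth_s_of_smooth_t [Smooth G.t] : Smooth G.s := by
  rw [← G.i_t]
  infer_instance

end Grpd

section Main

variable (S : Scheme.{u}) (G : Grpd.GroupoidScheme S)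

/-- S7455 -/
theorem smooth_of_perfectField_of_isReduced (k : Type u) [Field k] [PerfectField k]
    (eU : G.U ≅ Spec (CommRingCat.of k)) [LocallyOfFiniteType G.s] [LocallyOfFiniteType G.t]
    [IsReduced G.R] : Smooth G.s ∧ Smooth G.t := by
  have hI : IsIntegral G.U := by
    have : IsIntegral (Spec (CommRingCat.of k)) := inferInstance
    have : Nonempty G.U := ⟨eU.inv (IsLocalRing.closedPoint k)⟩
    exact isIntegral_of_isOpenImmersion eU.hom
  have hS : Subsingleton G.U := (eU.hom.homeomorph.injective).subsingleton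
  have hN : IsLocallyNoetherian G.U := isLocallyNoetherian_of_isOpenImmersion eU.hom
  have ht : Smooth G.t := by
    by_cases hR : Nonempty G.R
    · apply smooth_t_of_nonempty
      have hd := (G.t ≫ eU.hom).dense_smoothLocus_of_perfectField
      rw [smoothLocus_comp_iso] at hd
      exact hd.nonempty
    · rw [← Scheme.Hom.smoothLocus_eq_top_iff, eq_top_iff]
      intro r
      exact (hR ⟨r⟩).elim
  exact ⟨smooth_s_of_smooth_t G, ht⟩

end Main

end Groth.Agent.Lib.Seat33.GrpdSmooth
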