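import Mathlib

/-!
# Gluing and locality of quasi-coherent ideal sheaves (seat 33)

* `eq_bot_of_forall_comap_ι`: an ideal sheaf vanishing on an open cover vanishes.
* `comap_inf_of_isOpenImmersion`, `comap_iSup`, `ker_comap_self`.
* `exists_glue`: ideal sheaves on a pairwise disjoint open cover glue.
* `comap_comap_preimage`: restriction of `I.comap g` over `g⁻¹ V` in terms of the restriction of `I` to `V`.
-/

set_option autoImplicit false
set_option linter.style.haveILetI false
universe u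
open CategoryTheory CategoryTheory.Limits AlgebraicGeometry TopologicalSpace Opposite

namespace Groth.Agent.Lib.Seat33.IdealGlue

variable {X Y : Scheme.{u}}

theorem comap_bot (f : X ⟶ Y) : (⊥ : Y.IdealSheafData).comap f = ⊥ :=
  (Scheme.IdealSheafData.map_gc f).l_bot

theorem comap_iSup {ι : Type*} (I : ι → Y.IdealSheafData) (f : X ⟶ Y) :
    (⨆ i, I i).comap f = ⨆ i, (I i).comap f :=
  (Scheme.IdealSheafData.map_gc f).l_iSup

theorem ker_comap_self (h : X ⟶ Y) : h.ker.comap h = ⊥ := by
  rw [eq_bot_iff, ← Scheme.IdealSheafData.le_map_iff_comap_le, Scheme.IdealSheafData.map_bot]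

theorem comap_subschemeι_self (I : X.IdealSheafData) : I.comap I.subschemeι = ⊥ := by
  rw [eq_bot_iff, ← Scheme.IdealSheafData.le_map_iff_comap_le, Scheme.IdealSheafData.map_bot,
    Scheme.IdealSheafData.ker_subschemeι]

theorem comap_eq_bot_iff (I : Y.IdealSheafData) (f : X ⟶ Y) : I.comap f = ⊥ ↔ I ≤ f.ker := by
  rw [eq_bot_iff, ← Scheme.IdealSheafData.le_map_iff_comap_le, Scheme.IdealSheafData.map_bot]

theorem comap_eq_top_of_forall_notMem (I : Y.IdealSheafData) (f : X ⟶ Y)
    (h : ∀ x, f x ∉ I.support) : I.comap f = ⊤ := by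
  rw [← Scheme.IdealSheafData.support_eq_bot_iff, Scheme.IdealSheafData.support_comap]
  ext x
  simp only [Closeds.coe_preimage, Set.mem_preimage, SetLike.mem_coe, Closeds.coe_bot,
    Set.mem_empty_iff_false, iff_false]
  exact h x

/-- an ideal sheaf vanishing on an open cover vanishes. -/
theorem eq_bot_of_forall_comap_ι {ι : Type*} (I : X.IdealSheafData) (O : ι → X.Opens)
    (hO : IsOpenCover O) (h : ∀ n, I.comap (O n).ι = ⊥) : I = ⊥ := by
  rw [eq_bot_iff]
  have h1 := Scheme.Hom.iInf_ker_openCover_map_comp (𝟙 X) (X.openCoverOfIsOpenCover O hO)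
  rw [Scheme.Hom.ker_eq_bot_of_isIso] at h1
  rw [← h1]
  refine le_iInf fun n => ?_
  have := (comap_eq_bot_iff I (O n).ι).1 (h n)
  have e : (X.openCoverOfIsOpenCover O hO).f n ≫ 𝟙 X = (O n).ι := Category.comp_id _
  rw [e]
  exact this

theorem comap_inf_of_isOpenImmersion (I J : Y.IdealSheafData) (f : X ⟶ Y) [IsOpenImmersion f] :
    (I ⊓ J).comap f = I.comap f ⊓ J.comap f := by
  ext U : 2
  rw [Scheme.IdealSheafData.ideal_inf, Pi.inf_apply,
    Scheme.IdealSheafData.ideal_comap_of_isOpenImmersion,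
    Scheme.IdealSheafData.ideal_comap_of_isOpenImmersion,
    Scheme.IdealSheafData.ideal_comap_of_isOpenImmersion,
    Scheme.IdealSheafData.ideal_inf, Pi.inf_apply, Ideal.comap_inf]

/-- **Gluing** ideal sheaves along a pairwise disjoint open cover. -/
theorem exists_glue {ι : Type*} (V : ι → X.Opens) (hV : IsOpenCover V)
    (hdisj : ∀ m n, m ≠ n → Disjoint (V m) (V n)) (J : ι → X.IdealSheafData) :
    ∃ I : X.IdealSheafData, ∀ n, I.comap (V n).ι = (J n).comap (V n).ι := by
  classical
  let Vc : ι → X.Opens := fun n => ⨆ (m : ι) (_ : m ≠ n), V m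
  have hVc : ∀ n, ((Vc n : X.Opens) : Set X) = ((V n : Set X))ᶜ := by
    intro n
    ext x
    simp only [Vc, Opens.coe_iSup, Set.mem_iUnion, SetLike.mem_coe, Set.mem_compl_iff, exists_prop]
    constructor
    · rintro ⟨m, hmn, hxm⟩ hxn
      exact (Opens.coe_disjoint.2 (hdisj m n hmn)).le_bot ⟨hxm, hxn⟩
    · intro hxn
      have hx : x ∈ ⨆ i, V i := hV.symm ▸ (show x ∈ (⊤ : X.Opens) from trivial)
      obtain ⟨m, hm⟩ := Opens.mem_iSup.1 hx
      exact ⟨m, fun h => hxn (h ▸ hm), hm⟩
  have hrange : ∀ n, Set.range (Vc n).ι = ((V n : Set X))ᶜ := fun n => by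
    rw [Scheme.Opens.range_ι, hVc]
  have hcl : ∀ n, IsClosedImmersion (Vc n).ι := fun n =>
    .of_isPreimmersion _ (by rw [hrange]; exact (V n).isOpen.isClosed_compl)
  let c : ι → X.IdealSheafData := fun n => (Vc n).ι.ker
  have hc1 : ∀ n, (c n).comap (V n).ι = ⊤ := by
    intro n
    apply comap_eq_top_of_forall_notMem
    intro x hx
    haveI := hcl n
    have h1 : ((V n).ι x : X) ∈ closure (Set.range (Vc n).ι) := by
      rw [← Scheme.Hom.support_ker]; exact hx
    rw [hrange, (V n).isOpen.isClosed_compl.closure_eq] at h1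
    exact h1 x.2
  have hc2 : ∀ m n, m ≠ n → (c m).comap (V n).ι = ⊥ := by
    intro m n hmn
    have hle : V n ≤ Vc m := le_iSup₂_of_le n hmn.symm le_rfl
    have h1 : (V n).ι = X.homOfLE hle ≫ (Vc m).ι := (X.homOfLE_ι hle).symm
    rw [h1, Scheme.IdealSheafData.comap_comp, ker_comap_self, comap_bot]
  refine ⟨⨆ m, J m ⊓ c m, fun n => ?_⟩
  rw [comap_iSup]
  apply le_antisymm
  · refine iSup_le fun m => ?_
    rw [comap_inf_of_isOpenImmersion]
    by_cases hmn : m = n
    · subst hmn; exact inf_le_left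
    · rw [hc2 m n hmn]; simp
  · refine le_trans ?_ (le_iSup _ n)
    rw [comap_inf_of_isOpenImmersion, hc1 n]; simp

/-- restriction of `I.comap g` over `g⁻¹ V` only depends on the restriction of `I` to `V`. -/
theorem comap_comap_preimage (I J : Y.IdealSheafData) (V : Y.Opens)
    (h : I.comap V.ι = J.comap V.ι) (g : X ⟶ Y) :
    (I.comap g).comap (g ⁻¹ᵁ V).ι = (J.comap g).comap (g ⁻¹ᵁ V).ι := by
  rw [← Scheme.IdealSheafData.comap_comp, ← Scheme.IdealSheafData.comap_comp,
    ← morphismRestrict_ι, Scheme.IdealSheafData.comap_comp, Scheme.IdealSheafData.comap_comp, h]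

end Groth.Agent.Lib.Seat33.IdealGlue
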