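import Mathlib
import Groth.Prelude.Def_Grpd
import Groth.Prelude.Def_Mor2
import Groth.Agent.Lib.Seat33GrpdFit
import Groth.Agent.Lib.Seat33IdealGlue
import Groth.Agent.Lib.Seat33GrpdOrbit
import Groth.Agent.Lib.Seat33GrpdSmooth

/-!
# The open dense finite locally free locus of a finite groupoid (seat 33)

Topological recursion `C`, `Wn` and the assembly of the invariant thickening `W' ⊆ W`.
-/

set_option autoImplicit false
set_option linter.style.haveILetI false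
set_option linter.unusedSectionVars false
universe u
open CategoryTheory CategoryTheory.Limits AlgebraicGeometry TopologicalSpace Opposite

namespace Groth.Agent.Lib.Seat33.GrpdStrat

open Groth.Agent.Lib.Seat33.GrpdFit Groth.Agent.Lib.Seat33.FitMor Groth.Agent.Lib.Seat33.IdealGlue
open Groth.Agent.Lib.Seat33.GrpdOrbit

variable {S : Scheme.{u}} (G : Grpd.GroupoidScheme S)

section top

theorem s_e_apply (u : G.U) : G.s (G.e u) = u := by
  rw [← Scheme.Hom.comp_apply, G.e_s]; rfl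

theorem t_e_apply (u : G.U) : G.t (G.e u) = u := by
  rw [← Scheme.Hom.comp_apply, G.e_t]; rfl

theorem s_i_apply (r : G.R) : G.s (G.i r) = G.t r := by
  rw [← Scheme.Hom.comp_apply, G.i_s]

theorem t_i_apply (r : G.R) : G.t (G.i r) = G.s r := by
  rw [← Scheme.Hom.comp_apply, G.i_t]

/-- the saturation `t(s⁻¹ A)` of a subset of `U`. -/
def sat (A : Set G.U) : Set G.U := G.t '' (G.s ⁻¹' A)

/-- `R`-invariant subsets of `U`. -/
def Inv (A : Set G.U) : Prop := G.s ⁻¹' A = G.t ⁻¹' A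

theorem subset_sat (A : Set G.U) : A ⊆ sat G A := fun u hu =>
  ⟨G.e u, by simpa [s_e_apply] using hu, t_e_apply G u⟩

theorem sat_mono {A B : Set G.U} (h : A ⊆ B) : sat G A ⊆ sat G B :=
  Set.image_mono (Set.preimage_mono h)

theorem inv_sat (A : Set G.U) : Inv G (sat G A) := by
  ext ρ
  constructor
  · rintro ⟨r, hr, hrt⟩
    obtain ⟨r'', h1, h2⟩ := exists_comp G ρ r hrt.symm
    exact ⟨r'', by simpa [h1] using hr, h2⟩
  · rintro ⟨r, hr, hrt⟩
    obtain ⟨r'', h1, h2⟩ := exists_comp G (G.i ρ) r (by rw [s_i_apply, hrt])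
    exact ⟨r'', by simpa [h1] using hr, by rw [h2, t_i_apply]⟩

theorem Inv.union {A B : Set G.U} (hA : Inv G A) (hB : Inv G B) : Inv G (A ∪ B) := by
  unfold Inv at *
  rw [Set.preimage_union, Set.preimage_union, hA, hB]

theorem Inv.compl {A : Set G.U} (hA : Inv G A) : Inv G Aᶜ := by
  unfold Inv at *
  rw [Set.preimage_compl, Set.preimage_compl, hA]

theorem inv_empty : Inv G ∅ := rfl

theorem Inv.mem_iff {A : Set G.U} (hA : Inv G A) (r : G.R) : G.s r ∈ A ↔ G.t r ∈ A :=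
  Set.ext_iff.1 hA r

theorem isClosed_sat [IsFinite G.t] {A : Set G.U} (hA : IsClosed A) : IsClosed (sat G A) :=
  G.t.isClosedMap _ (hA.preimage G.s.continuous)

variable (Zs : ℕ → Set G.U)

/-- the closed sets removed at stage `n`. -/
def C : ℕ → Set G.U
  | 0 => ∅
  | n + 1 => C n ∪ sat G (closure ((Zs (n + 1) ∪ C n)ᶜ))

/-- the `n`-th open piece. -/
def Wn (n : ℕ) : Set G.U := (Zs (n + 1) ∪ C G Zs n)ᶜ

theorem C_succ (n : ℕ) : C G Zs (n + 1) = C G Zs n ∪ sat G (closure (Wn G Zs n)) := rfl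

theorem C_mono {m n : ℕ} (h : m ≤ n) : C G Zs m ⊆ C G Zs n := by
  induction n, h using Nat.le_induction with
  | base => exact subset_rfl
  | succ n _ ih => exact ih.trans (by rw [C_succ]; exact Set.subset_union_left)

theorem isClosed_C [IsFinite G.t] (n : ℕ) : IsClosed (C G Zs n) := by
  induction n with
  | zero => exact isClosed_empty
  | succ n ih => exact ih.union (isClosed_sat G isClosed_closure)

theorem inv_C (n : ℕ) : Inv G (C G Zs n) := by
  induction n with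
  | zero => exact inv_empty G
  | succ n ih => exact ih.union G (inv_sat G _)

theorem isOpen_Wn [IsFinite G.t] (hZ : ∀ n, IsClosed (Zs n)) (n : ℕ) : IsOpen (Wn G Zs n) :=
  ((hZ (n + 1)).union (isClosed_C G Zs n)).isOpen_compl

theorem inv_Wn (hZi : ∀ n, Inv G (Zs n)) (n : ℕ) : Inv G (Wn G Zs n) :=
  ((hZi (n + 1)).union G (inv_C G Zs n)).compl G

theorem Wn_subset_C_succ (n : ℕ) : Wn G Zs n ⊆ C G Zs (n + 1) := by
  rw [C_succ]
  exact (subset_closure.trans (subset_sat G _)).trans Set.subset_union_right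

theorem compl_Zs_subset_C (h0 : Zs 0 = Set.univ) (n : ℕ) : (Zs n)ᶜ ⊆ C G Zs n := by
  induction n with
  | zero => rw [h0, Set.compl_univ]; exact Set.empty_subset _
  | succ n ih =>
    intro u hu
    by_cases hC : u ∈ C G Zs n
    · exact C_mono G Zs (Nat.le_succ n) hC
    · apply Wn_subset_C_succ
      intro h
      rcases h with h | h
      · exact hu h
      · exact hC h

theorem Wn_subset_Zs (h0 : Zs 0 = Set.univ) (n : ℕ) : Wn G Zs n ⊆ Zs n := by
  intro u hu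
  by_contra h
  exact hu (Or.inr (compl_Zs_subset_C G Zs h0 n h))

theorem Wn_disjoint_Zs_succ (n : ℕ) : Disjoint (Wn G Zs n) (Zs (n + 1)) := by
  rw [Set.disjoint_left]
  intro u hu h
  exact hu (Or.inl h)

theorem Wn_disjoint {m n : ℕ} (h : m ≠ n) : Disjoint (Wn G Zs m) (Wn G Zs n) := by
  wlog hlt : m < n generalizing m n
  · exact (this h.symm (lt_of_le_of_ne (not_lt.mp hlt) h.symm)).symm
  rw [Set.disjoint_left]
  intro u hum hun
  exact hun (Or.inr (C_mono G Zs hlt (Wn_subset_C_succ G Zs m hum)))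

theorem C_subset_sat_closure (n : ℕ) : C G Zs n ⊆ sat G (closure (⋃ m, Wn G Zs m)) := by
  induction n with
  | zero => exact Set.empty_subset _
  | succ n ih =>
    rw [C_succ]
    exact Set.union_subset ih (sat_mono G (closure_mono (Set.subset_iUnion _ n)))

theorem univ_subset_sat_closure (h0 : Zs 0 = Set.univ) (hI : (⋂ n, Zs n) = ∅) (u : G.U) :
    u ∈ sat G (closure (⋃ m, Wn G Zs m)) := by
  have : ∃ n, u ∉ Zs n := by
    by_contra hcon
    have hcon' : ∀ n, u ∈ Zs n := fun n => by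
      by_contra h
      exact hcon ⟨n, h⟩
    have : u ∈ ⋂ n, Zs n := Set.mem_iInter.2 hcon'
    rw [hI] at this
    exact this
  obtain ⟨n, hn⟩ := this
  exact C_subset_sat_closure G Zs n (compl_Zs_subset_C G Zs h0 n hn)

end top

section local_target

variable {X Y : Scheme.{u}}

/-- the restriction of `pullback.snd σ g` over an open `O` is the pullback along `O.ι ≫ g`. -/
theorem isFinLocFree_restrict_iff {T : Scheme.{u}} (σ : X ⟶ Y) (g : T ⟶ Y) (O : T.Opens) :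
    Mor2.IsFinLocFree (pullback.snd σ g ∣_ O) ↔ Mor2.IsFinLocFree (pullback.snd σ (O.ι ≫ g)) := by
  have h1 : IsPullback ((pullback.snd σ g ⁻¹ᵁ O).ι ≫ pullback.fst σ g) (pullback.snd σ g ∣_ O)
      σ (O.ι ≫ g) :=
    ((isPullback_morphismRestrict (pullback.snd σ g) O).paste_vert
      (IsPullback.of_hasPullback σ g).flip).flip
  have h2 : h1.isoPullback.hom ≫ pullback.snd σ (O.ι ≫ g) = pullback.snd σ g ∣_ O :=
    h1.isoPullback_hom_snd
  unfold Mor2.IsFinLocFree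
  rw [← h2, MorphismProperty.cancel_left_of_respectsIso (P := @IsFinite),
    MorphismProperty.cancel_left_of_respectsIso (P := @Flat),
    MorphismProperty.cancel_left_of_respectsIso (P := @LocallyOfFinitePresentation)]

theorem isFinLocFree_of_cover {T : Scheme.{u}} (σ : X ⟶ Y) (g : T ⟶ Y) {ι : Type*}
    (O : ι → T.Opens) (hO : IsOpenCover O)
    (h : ∀ n, Mor2.IsFinLocFree (pullback.snd σ ((O n).ι ≫ g))) :
    Mor2.IsFinLocFree (pullback.snd σ g) := by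
  have h' : ∀ n, Mor2.IsFinLocFree (pullback.snd σ g ∣_ O n) := fun n =>
    (isFinLocFree_restrict_iff σ g (O n)).2 (h n)
  refine ⟨?_, ?_, ?_⟩
  · rw [IsZariskiLocalAtTarget.iff_of_iSup_eq_top (P := @IsFinite) O hO]
    exact fun n => (h' n).1
  · rw [IsZariskiLocalAtTarget.iff_of_iSup_eq_top (P := @Flat) O hO]
    exact fun n => (h' n).2.1
  · rw [IsZariskiLocalAtTarget.iff_of_iSup_eq_top (P := @LocallyOfFinitePresentation) O hO]
    exact fun n => (h' n).2.2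

end local_target

section assemble

variable {G}
variable (Zi : ℕ → G.U.IdealSheafData) (W : G.U.Opens) (W' : (W : Scheme.{u}).IdealSheafData)
  (Wo : ℕ → G.U.Opens) (V : ℕ → (W : Scheme.{u}).Opens) (hVW : ∀ n, V n = W.ι ⁻¹ᵁ Wo n)
  (hV : IsOpenCover V)
  (hW' : ∀ n, W'.comap (V n).ι = ((Zi n).comap W.ι).comap (V n).ι)

include hW' in
theorem comap_restrict {T : Scheme.{u}} (g : T ⟶ W) (n : ℕ) :
    (W'.comap g).comap (g ⁻¹ᵁ V n).ι = ((Zi n).comap (g ≫ W.ι)).comap (g ⁻¹ᵁ V n).ι := by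
  rw [comap_comap_preimage W' ((Zi n).comap W.ι) (V n) (hW' n) g,
    Scheme.IdealSheafData.comap_comp (Zi n) g W.ι]

include hV hW' in
theorem comap_eq_bot_transfer (σ τ : G.R ⟶ G.U) {T : Scheme.{u}} (a : T ⟶ G.R) (q₁ q₂ : T ⟶ W)
    (h₁ : q₁ ≫ W.ι = a ≫ σ) (h₂ : q₂ ≫ W.ι = a ≫ τ)
    (hστ : ∀ n, (Zi n).comap σ = (Zi n).comap τ)
    (hinv : ∀ n, q₁ ⁻¹ᵁ V n = q₂ ⁻¹ᵁ V n)
    (h : W'.comap q₁ = ⊥) : W'.comap q₂ = ⊥ := by
  apply eq_bot_of_forall_comap_ι _ (fun n => q₂ ⁻¹ᵁ V n) (q₂.iSup_preimage_eq_top hV)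
  intro n
  rw [comap_restrict Zi W W' V hW' q₂ n, h₂, Scheme.IdealSheafData.comap_comp (Zi n) a τ, ← hστ,
    ← Scheme.IdealSheafData.comap_comp (Zi n) a σ, ← h₁, ← hinv n,
    ← comap_restrict Zi W W' V hW' q₁ n, h, IdealGlue.comap_bot]

include hVW hV hW' in
theorem exists_hom_pullback (σ τ : G.R ⟶ G.U)
    (hστ : ∀ n, (Zi n).comap σ = (Zi n).comap τ)
    (hW : ∀ r : G.R, σ r ∈ W → τ r ∈ W)
    (hWo : ∀ (n : ℕ) (r : G.R), σ r ∈ Wo n ↔ τ r ∈ Wo n) :
    ∃ ψ : pullback σ (W'.subschemeι ≫ W.ι) ⟶ pullback τ (W'.subschemeι ≫ W.ι),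
      ψ ≫ pullback.fst τ (W'.subschemeι ≫ W.ι) = pullback.fst σ (W'.subschemeι ≫ W.ι) := by
  obtain ⟨ι', hι'⟩ : ∃ ι' : W'.subscheme ⟶ G.U, ι' = W'.subschemeι ≫ W.ι := ⟨_, rfl⟩
  rw [← hι']
  obtain ⟨a, ha⟩ : ∃ a, a = pullback.fst σ ι' := ⟨_, rfl⟩
  obtain ⟨b, hb⟩ : ∃ b, b = pullback.snd σ ι' := ⟨_, rfl⟩
  obtain ⟨q₁, hq₁d⟩ : ∃ q₁ : pullback σ ι' ⟶ W, q₁ = b ≫ W'.subschemeι := ⟨_, rfl⟩
  have h₁ : q₁ ≫ W.ι = a ≫ σ := by
    rw [hq₁d, Category.assoc, ← hι', ha, hb, pullback.condition]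
  have hσa : ∀ x, σ (a x) = W.ι (q₁ x) := fun x => by
    rw [← Scheme.Hom.comp_apply, ← Scheme.Hom.comp_apply, h₁]
  have hr : Set.range (a ≫ τ) ⊆ Set.range W.ι := by
    rintro _ ⟨x, rfl⟩
    rw [Scheme.Opens.range_ι]
    show (a ≫ τ) x ∈ W
    rw [Scheme.Hom.comp_apply]
    apply hW
    rw [hσa]
    exact (q₁ x).2
  obtain ⟨q₂, h₂⟩ : ∃ q₂ : pullback σ ι' ⟶ W, q₂ ≫ W.ι = a ≫ τ :=
    ⟨IsOpenImmersion.lift W.ι (a ≫ τ) hr, IsOpenImmersion.lift_fac _ _ _⟩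
  have hτa : ∀ x, τ (a x) = W.ι (q₂ x) := fun x => by
    rw [← Scheme.Hom.comp_apply, ← Scheme.Hom.comp_apply, h₂]
  have hinv : ∀ n, q₁ ⁻¹ᵁ V n = q₂ ⁻¹ᵁ V n := by
    intro n
    ext x
    rw [hVW n]
    show W.ι (q₁ x) ∈ Wo n ↔ W.ι (q₂ x) ∈ Wo n
    rw [← hσa, ← hτa]
    exact hWo n (a x)
  have hq₁ : W'.comap q₁ = ⊥ := by
    rw [hq₁d, Scheme.IdealSheafData.comap_comp, IdealGlue.comap_subschemeι_self,
      IdealGlue.comap_bot]
  have hq₂ : W'.comap q₂ = ⊥ :=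
    comap_eq_bot_transfer Zi W W' V hV hW' σ τ a q₁ q₂ h₁ h₂ hστ hinv hq₁
  have hker : W'.subschemeι.ker ≤ q₂.ker := by
    rw [Scheme.IdealSheafData.ker_subschemeι]
    exact (comap_eq_bot_iff _ _).1 hq₂
  obtain ⟨b', hb'⟩ : ∃ b' : pullback σ ι' ⟶ W'.subscheme, b' ≫ W'.subschemeι = q₂ :=
    ⟨IsClosedImmersion.lift W'.subschemeι q₂ hker, IsClosedImmersion.lift_fac _ _ _⟩
  refine ⟨pullback.lift a b' ?_, ?_⟩
  · rw [← h₂, ← hb', Category.assoc]
    subst hι'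
    rfl
  · rw [pullback.lift_fst, ha]

include hVW hV hW' in
theorem exists_iso_pullback (σ τ : G.R ⟶ G.U)
    (hστ : ∀ n, (Zi n).comap σ = (Zi n).comap τ)
    (hW : ∀ r : G.R, σ r ∈ W ↔ τ r ∈ W)
    (hWo : ∀ (n : ℕ) (r : G.R), σ r ∈ Wo n ↔ τ r ∈ Wo n) :
    ∃ φ : pullback σ (W'.subschemeι ≫ W.ι) ≅ pullback τ (W'.subschemeι ≫ W.ι),
      φ.hom ≫ pullback.fst τ (W'.subschemeι ≫ W.ι) = pullback.fst σ (W'.subschemeι ≫ W.ι) := by
  obtain ⟨ψ₁, h₁⟩ := exists_hom_pullback Zi W W' Wo V hVW hV hW' σ τ hστ (fun r => (hW r).1) hWo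
  obtain ⟨ψ₂, h₂⟩ := exists_hom_pullback Zi W W' Wo V hVW hV hW' τ σ (fun n => (hστ n).symm)
    (fun r => (hW r).2) (fun n r => (hWo n r).symm)
  refine ⟨⟨ψ₁, ψ₂, ?_, ?_⟩, h₁⟩
  · rw [← cancel_mono (pullback.fst σ (W'.subschemeι ≫ W.ι)), Category.assoc, h₂, h₁,
      Category.id_comp]
  · rw [← cancel_mono (pullback.fst τ (W'.subschemeι ≫ W.ι)), Category.assoc, h₁, h₂,
      Category.id_comp]

include hVW hV hW' in
theorem isFinLocFree_pullback_snd (σ : G.R ⟶ G.U)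
    (hσ : ∀ {T : Scheme.{u}} (g : T ⟶ G.U) (r : ℕ), (Zi r).comap g = ⊥ →
      (∀ x, g x ∉ (Zi (r + 1)).support) → Mor2.IsFinLocFreeOfDeg (r + 1) (pullback.snd σ g))
    (hdisj : ∀ n, ∀ x ∈ Wo n, x ∉ (Zi (n + 1)).support) :
    Mor2.IsFinLocFree (pullback.snd σ (W'.subschemeι ≫ W.ι)) := by
  apply isFinLocFree_of_cover σ _ (fun n => W'.subschemeι ⁻¹ᵁ V n)
    (W'.subschemeι.iSup_preimage_eq_top hV)
  intro n
  refine (hσ _ n ?_ ?_).1
  · rw [Scheme.IdealSheafData.comap_comp, ← comap_restrict Zi W W' V hW' W'.subschemeι n,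
      IdealGlue.comap_subschemeι_self, IdealGlue.comap_bot]
  · intro x
    apply hdisj n
    have hx : W'.subschemeι x.1 ∈ V n := x.2
    have hx' : W'.subschemeι x.1 ∈ W.ι ⁻¹ᵁ Wo n := (hVW n) ▸ hx
    exact hx'

include hVW hV hW' in
theorem support_eq_top (hsub : ∀ n, ∀ x ∈ Wo n, x ∈ (Zi n).support) : W'.support = ⊤ := by
  rw [eq_top_iff]
  intro x _
  have hx : x ∈ ⨆ n, V n := hV.symm ▸ (show x ∈ (⊤ : (W : Scheme.{u}).Opens) from trivial)
  obtain ⟨n, hn⟩ := Opens.mem_iSup.1 hx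
  have h1 : (⟨x, hn⟩ : V n) ∈ (W'.comap (V n).ι).support := by
    rw [hW' n, ← Scheme.IdealSheafData.comap_comp, Scheme.IdealSheafData.support_comap]
    show ((V n).ι ≫ W.ι) ⟨x, hn⟩ ∈ (Zi n).support
    apply hsub n
    have : x ∈ W.ι ⁻¹ᵁ Wo n := hVW n ▸ hn
    exact this
  rw [Scheme.IdealSheafData.support_comap] at h1
  exact h1

end assemble

section main

variable [IsFinite G.s] [IsFinite G.t]

theorem fitMor_t (k : ℕ) : fitMor G.t k = Z G k := by
  have h : G.t = G.i ≫ G.s := G.i_s.symm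
  haveI : IsIso G.i := inferInstance
  have := fitMor_iso_comp G.s G.i k
  rw [← h] at this
  exact this

/-- base change of `t` along `g : T ⟶ U` is finite locally free of degree `r + 1` provided `g` kills
`Z_r` and avoids the support of `Z_{r+1}`. -/
theorem isFinLocFreeOfDeg_of_comap_t {T : Scheme.{u}} (g : T ⟶ G.U) (r : ℕ)
    (h1 : (Z G r).comap g = ⊥) (h2 : ∀ x, g x ∉ (Z G (r + 1)).support) :
    Mor2.IsFinLocFreeOfDeg (r + 1) (pullback.snd G.t g) := by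
  have hbc : ∀ k, fitMor (pullback.snd G.t g) k = (Z G k).comap g := fun k => by
    rw [← fitMor_t G k]
    exact (fitMor_comap G.t g _ _ (IsPullback.of_hasPullback G.t g) k).symm
  apply isFinLocFreeOfDeg_of_fitMor
  · intro k hk
    rw [hbc, eq_bot_iff, ← h1]
    exact Scheme.IdealSheafData.comap_mono g (Z_mono G (Nat.lt_succ_iff.mp hk))
  · intro k hk
    rw [hbc, eq_top_iff, ← IdealGlue.comap_eq_top_of_forall_notMem (Z G (r + 1)) g h2]
    exact Scheme.IdealSheafData.comap_mono g (Z_mono G hk)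

/-- the supports of the Fitting strata. -/
def Zs (n : ℕ) : Set G.U := ((Z G n).support : Set G.U)

theorem isClosed_Zs (n : ℕ) : IsClosed (Zs G n) := (Z G n).support.isClosed

theorem inv_Zs (n : ℕ) : Inv G (Zs G n) := by
  have h := congrArg (fun I : G.R.IdealSheafData => (I.support : Set G.R)) (fitMor_comap_s_eq_t G n)
  simp only [Scheme.IdealSheafData.support_comap, Closeds.coe_preimage] at h
  exact h

theorem Zs_zero : Zs G 0 = Set.univ := by
  unfold Zs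
  rw [Z_zero, Scheme.IdealSheafData.support_bot]
  rfl

theorem iInter_Zs : (⋂ n, Zs G n) = ∅ := iInter_support_Z G

/-- the open pieces. -/
def Wo (n : ℕ) : G.U.Opens := ⟨Wn G (Zs G) n, isOpen_Wn G (Zs G) (isClosed_Zs G) n⟩

/-- the open dense invariant subscheme. -/
def W : G.U.Opens := ⨆ n, Wo G n

/-- the pieces as opens of `W`. -/
def V (n : ℕ) : ((W G : G.U.Opens) : Scheme.{u}).Opens := (W G).ι ⁻¹ᵁ Wo G n

theorem isOpenCover_V : IsOpenCover (V G) := by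
  unfold IsOpenCover V
  rw [← Scheme.Hom.preimage_iSup]
  exact (W G).ι_preimage_self

theorem disjoint_V (m n : ℕ) (h : m ≠ n) : Disjoint (V G m) (V G n) := by
  rw [← Opens.coe_disjoint, Set.disjoint_left]
  intro x hm hn
  exact (Set.disjoint_left.1 (Wn_disjoint G (Zs G) h)) hm hn

theorem mem_Wo_iff (n : ℕ) (r : G.R) : G.s r ∈ Wo G n ↔ G.t r ∈ Wo G n :=
  (inv_Wn G (Zs G) (inv_Zs G) n).mem_iff G r

theorem mem_W_iff (r : G.R) : G.s r ∈ W G ↔ G.t r ∈ W G := by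
  unfold W
  rw [Opens.mem_iSup, Opens.mem_iSup]
  exact exists_congr fun n => mem_Wo_iff G n r

theorem coe_W : ((W G : G.U.Opens) : Set G.U) = ⋃ n, Wn G (Zs G) n := by
  unfold W
  rw [Opens.coe_iSup]
  rfl

theorem main : ∃ (W : G.U.Opens) (W' : (↑W : Scheme.{u}).IdealSheafData),
    G.s ⁻¹ᵁ W = G.t ⁻¹ᵁ W ∧ W'.support = ⊤ ∧
    (∃ φ : pullback G.s (W'.subschemeι ≫ W.ι) ≅ pullback G.t (W'.subschemeι ≫ W.ι),
      φ.hom ≫ pullback.fst G.t (W'.subschemeι ≫ W.ι) = pullback.fst G.s (W'.subschemeι ≫ W.ι)) ∧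
    (∀ u : G.U, ∃ r : G.R, G.t r = u ∧ G.s r ∈ closure (W : Set G.U)) ∧
    Mor2.IsFinLocFree (pullback.snd G.s (W'.subschemeι ≫ W.ι)) ∧
    Mor2.IsFinLocFree (pullback.snd G.t (W'.subschemeι ≫ W.ι)) := by
  obtain ⟨W', hW'⟩ := exists_glue (V G) (isOpenCover_V G) (disjoint_V G)
    (fun n => (Z G n).comap (W G).ι)
  have hdisj : ∀ n, ∀ x ∈ Wo G n, x ∉ (Z G (n + 1)).support := fun n x hx h =>
    Set.disjoint_left.1 (Wn_disjoint_Zs_succ G (Zs G) n) hx h
  have hsub : ∀ n, ∀ x ∈ Wo G n, x ∈ (Z G n).support := fun n x hx =>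
    Wn_subset_Zs G (Zs G) (Zs_zero G) n hx
  refine ⟨W G, W', ?_, ?_, ?_, ?_, ?_, ?_⟩
  · ext r
    exact mem_W_iff G r
  · exact support_eq_top (Z G) (W G) W' (Wo G) (V G) (fun _ => rfl) (isOpenCover_V G) hW' hsub
  · exact exists_iso_pullback (Z G) (W G) W' (Wo G) (V G) (fun _ => rfl) (isOpenCover_V G) hW'
      G.s G.t (fitMor_comap_s_eq_t G) (mem_W_iff G) (mem_Wo_iff G)
  · intro u
    obtain ⟨r, hr, hru⟩ := univ_subset_sat_closure G (Zs G) (Zs_zero G) (iInter_Zs G) u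
    refine ⟨r, hru, ?_⟩
    rw [coe_W]
    exact hr
  · exact isFinLocFree_pullback_snd (Z G) (W G) W' (Wo G) (V G) (fun _ => rfl) (isOpenCover_V G)
      hW' G.s (fun g r h1 h2 => isFinLocFreeOfDeg_of_comap G g r h1 h2) hdisj
  · exact isFinLocFree_pullback_snd (Z G) (W G) W' (Wo G) (V G) (fun _ => rfl) (isOpenCover_V G)
      hW' G.t (fun g r h1 h2 => isFinLocFreeOfDeg_of_comap_t G g r h1 h2) hdisj

end main

end Groth.Agent.Lib.Seat33.GrpdStrat
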