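import Mathlib
import Groth.Agent.Lib.Seat19InvOpen
import Groth.Agent.Lib.Seat33GrpdStrat

/-!
# Invariant affine opens of a finite groupoid that is finite locally free over a thickening (seat 33)

`exists_invariant_affine_of_thickening`: let `s` be finite, `c : U' ⟶ W` a surjective closed immersion onto an
open `W ⊆ U` such that the base change of `s` to `U'` is finite locally free. A finite set of points whose
orbits lie in an affine open `A ⊆ W` is contained in an `R`-invariant affine open `V ⊆ A`.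
-/

set_option autoImplicit false
set_option linter.style.haveILetI false
set_option linter.unusedSectionVars false
universe u
open CategoryTheory CategoryTheory.Limits AlgebraicGeometry TopologicalSpace Opposite

namespace Groth.Agent.Lib.Seat33.GrpdInvAff

open Groth.Agent.Lib.Seat19.GrpdPts Groth.Agent.Lib.Seat19.InvOpen


variable {S : Scheme.{u}} (G : Grpd.GroupoidScheme S)

theorem isFinLocFree_restrict {X Y : Scheme.{u}} (f : X ⟶ Y) (h : Mor2.IsFinLocFree f) (O : Y.Opens) :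
    Mor2.IsFinLocFree (f ∣_ O) := by
  obtain ⟨h1, h2, h3⟩ := h
  exact ⟨IsZariskiLocalAtTarget.restrict h1 O, IsZariskiLocalAtTarget.restrict h2 O,
    IsZariskiLocalAtTarget.restrict h3 O⟩

/-- **The norm construction.** Let `s` be finite, `ι' : U' ⟶ U` with the base change of `s` to `U'`
finite locally free, `f` a function on an open `A` with `D(f)` contained in the saturated interior of `A`,
and `O' = ι'⁻¹ D(f)` affine. Then there is a function `N` on `O'` whose nonvanishing locus consists of the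
points `x'` all of whose translates lie in `D(f)`. -/
theorem norm_core [IsFinite G.s] {U' : Scheme.{u}} (ι' : U' ⟶ G.U)
    (hflf : Mor2.IsFinLocFree (pullback.snd G.s ι'))
    (A : G.U.Opens) (f : Γ(G.U, A)) (hfA : ((G.U.basicOpen f : G.U.Opens) : Set G.U) ⊆ sat G A)
    (hO' : IsAffineOpen (ι' ⁻¹ᵁ G.U.basicOpen f)) :
    ∃ N : Γ(((ι' ⁻¹ᵁ G.U.basicOpen f : U'.Opens) : Scheme.{u}), ⊤),
      ∀ x' : (ι' ⁻¹ᵁ G.U.basicOpen f : U'.Opens),
        x' ∈ ((ι' ⁻¹ᵁ G.U.basicOpen f : U'.Opens) : Scheme.{u}).basicOpen N ↔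
          ∀ r : G.R, G.s r = ι' x'.1 → G.t r ∈ G.U.basicOpen f := by
  set V₁ : G.U.Opens := G.U.basicOpen f with hV₁def
  set O' : U'.Opens := ι' ⁻¹ᵁ V₁ with hO'def
  haveI : IsAffine (O' : Scheme.{u}) := hO'
  have hφ : Mor2.IsFinLocFree (pullback.snd G.s (O'.ι ≫ ι')) :=
    (Groth.Agent.Lib.Seat33.GrpdStrat.isFinLocFree_restrict_iff G.s ι' O').1
      (isFinLocFree_restrict _ hflf O')
  obtain ⟨P, φ, a, hPdef⟩ : ∃ (P : Scheme.{u}) (φ : P ⟶ O') (a : P ⟶ G.R),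
      IsPullback a φ G.s (O'.ι ≫ ι') ∧ Mor2.IsFinLocFree φ :=
    ⟨_, _, _, IsPullback.of_hasPullback _ _, hφ⟩
  obtain ⟨hpb, hφ'⟩ := hPdef
  haveI : IsFinite φ := hφ'.1
  haveI : Flat φ := hφ'.2.1
  haveI : LocallyOfFinitePresentation φ := hφ'.2.2
  haveI : IsAffine P := isAffine_of_isAffineHom φ
  have hsa : ∀ y : P, G.s (a y) = ι' (φ y).1 := fun y => by
    rw [← Scheme.Hom.comp_apply, hpb.w, Scheme.Hom.comp_apply, Scheme.Hom.comp_apply]
    rfl
  have hsaV₁ : ∀ y : P, G.s (a y) ∈ V₁ := fun y => by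
    rw [hsa]
    exact (φ y).2
  have hτ : (⊤ : P.Opens) ≤ (a ≫ G.t) ⁻¹ᵁ A := by
    intro y _
    show (a ≫ G.t) y ∈ A
    rw [Scheme.Hom.comp_apply]
    exact (hfA (hsaV₁ y)) (a y) rfl
  let g : Γ(P, ⊤) := ((a ≫ G.t).appLE A ⊤ hτ).hom f
  have hg : ∀ y : P, y ∈ P.basicOpen g ↔ G.t (a y) ∈ V₁ := by
    intro y
    have h1 : P.basicOpen g = ⊤ ⊓ (a ≫ G.t) ⁻¹ᵁ (G.U.basicOpen f) :=
      Scheme.basicOpen_appLE (a ≫ G.t) ⊤ A hτ f
    rw [h1]
    constructor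
    · rintro ⟨-, h⟩
      have h' : (a ≫ G.t) y ∈ V₁ := h
      rwa [Scheme.Hom.comp_apply] at h'
    · intro h
      refine ⟨trivial, ?_⟩
      show (a ≫ G.t) y ∈ V₁
      rwa [Scheme.Hom.comp_apply]
  obtain ⟨N, hN⟩ := exists_norm_affine φ g
  refine ⟨N, fun x' => (hN x').trans ?_⟩
  constructor
  · intro h r hr
    have hcond : G.s r = (O'.ι ≫ ι') x' := by
      rw [hr, Scheme.Hom.comp_apply]
      rfl
    obtain ⟨y, hy1, hy2⟩ := Scheme.exists_preimage_of_isPullback hpb r x' hcond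
    have := (hg y).1 (h y hy2)
    rwa [hy1] at this
  · intro h y hy
    apply (hg y).2
    apply h (a y)
    rw [hsa, hy]

/-- `norm_core` with the opens given up to propositional equality. -/
theorem norm_core' [IsFinite G.s] {U' : Scheme.{u}} (ι' : U' ⟶ G.U)
    (hflf : Mor2.IsFinLocFree (pullback.snd G.s ι'))
    (A : G.U.Opens) (f : Γ(G.U, A)) (V₁ : G.U.Opens) (hV₁ : V₁ = G.U.basicOpen f)
    (hfA : (V₁ : Set G.U) ⊆ sat G A) (O' : U'.Opens) (hO'eq : O' = ι' ⁻¹ᵁ V₁)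
    (hO' : IsAffineOpen O') :
    ∃ N : Γ((O' : Scheme.{u}), ⊤), ∀ x' : O', x' ∈ (O' : Scheme.{u}).basicOpen N ↔
      ∀ r : G.R, G.s r = ι' x'.1 → G.t r ∈ V₁ := by
  subst hV₁
  subst hO'eq
  exact norm_core G ι' hflf A f hfA hO'

theorem exists_invariant_affine_of_thickening [IsFinite G.s] (W : G.U.Opens) {U' : Scheme.{u}}
    (c : U' ⟶ W) [IsClosedImmersion c] (hc : Function.Surjective c)
    (hflf : Mor2.IsFinLocFree (pullback.snd G.s (c ≫ W.ι)))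
    (A : G.U.Opens) (hA : IsAffineOpen A) (hAW : A ≤ W)
    (T : Set G.U) (hT : T.Finite) (hTA : ∀ u ∈ T, ∀ r : G.R, G.s r = u → G.t r ∈ A) :
    ∃ V : G.U.Opens, IsAffineOpen V ∧ T ⊆ V ∧ V ≤ A ∧ G.s ⁻¹ᵁ V = G.t ⁻¹ᵁ V := by
  classical
  let W'' : G.U.Opens := ⟨sat G A, isOpen_sat G A.2⟩
  set O : Set G.U := G.t '' (G.s ⁻¹' T) with hOdef
  have hOfin : O.Finite :=
    (hT.preimage' fun u _ => G.s.finite_preimage_singleton u).image _
  have hOW'' : O ⊆ W'' := by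
    rintro _ ⟨r, hr, rfl⟩
    exact orbit_subset_sat G A (G.s r) (hTA _ hr) r rfl
  have hOA : O ⊆ A := fun x hx => sat_subset G A (hOW'' hx)
  obtain ⟨f, hfW'', hOf⟩ := exists_basicOpen_finite hA W'' O hOfin hOA hOW''
  set V₁ : G.U.Opens := G.U.basicOpen f with hV₁def
  have hV₁ : IsAffineOpen V₁ := hA.basicOpen f
  have hV₁A : V₁ ≤ A := G.U.basicOpen_le f
  have hV₁W : V₁ ≤ W := hV₁A.trans hAW
  set V₁w : (W : Scheme.{u}).Opens := W.ι ⁻¹ᵁ V₁ with hV₁wdef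
  have hV₁w : IsAffineOpen V₁w :=
    hV₁.preimage_of_isOpenImmersion W.ι (by rw [Scheme.Opens.opensRange_ι]; exact hV₁W)
  set O' : U'.Opens := c ⁻¹ᵁ V₁w with hO'def
  have hO' : IsAffineOpen O' := hV₁w.preimage c
  haveI : IsAffine (O' : Scheme.{u}) := hO'
  haveI : IsAffine (V₁w : Scheme.{u}) := hV₁w
  -- the finite locally free morphism over `O'`
  obtain ⟨ι', hι'⟩ : ∃ ι' : U' ⟶ G.U, ι' = c ≫ W.ι := ⟨_, rfl⟩
  rw [← hι'] at hflf
  have hφ : Mor2.IsFinLocFree (pullback.snd G.s (O'.ι ≫ ι')) :=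
    (Groth.Agent.Lib.Seat33.GrpdStrat.isFinLocFree_restrict_iff G.s ι' O').1 (isFinLocFree_restrict _ hflf O')
  obtain ⟨P, φ, a, hPdef⟩ : ∃ (P : Scheme.{u}) (φ : P ⟶ O') (a : P ⟶ G.R),
      IsPullback a φ G.s (O'.ι ≫ ι') ∧ Mor2.IsFinLocFree φ :=
    ⟨_, _, _, IsPullback.of_hasPullback _ _, hφ⟩
  obtain ⟨hpb, hφ'⟩ := hPdef
  haveI : IsFinite φ := hφ'.1
  haveI : Flat φ := hφ'.2.1
  haveI : LocallyOfFinitePresentation φ := hφ'.2.2
  haveI : IsAffine P := isAffine_of_isAffineHom φ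
  have hιpt : ∀ x' : U', ι' x' = (c x').1 := fun x' => by
    rw [hι', Scheme.Hom.comp_apply]; rfl
  have hsa : ∀ y : P, G.s (a y) = (c (φ y).1).1 := fun y => by
    rw [← Scheme.Hom.comp_apply, hpb.w, Scheme.Hom.comp_apply, Scheme.Hom.comp_apply, hιpt]
    rfl
  have hsaV₁ : ∀ y : P, G.s (a y) ∈ V₁ := fun y => by
    rw [hsa]
    exact (φ y).2
  have hτ : (⊤ : P.Opens) ≤ (a ≫ G.t) ⁻¹ᵁ A := by
    intro y _
    show (a ≫ G.t) y ∈ A
    rw [Scheme.Hom.comp_apply]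
    exact (hfW'' (hsaV₁ y)) (a y) rfl
  let g : Γ(P, ⊤) := ((a ≫ G.t).appLE A ⊤ hτ).hom f
  have hg : ∀ y : P, y ∈ P.basicOpen g ↔ G.t (a y) ∈ V₁ := by
    intro y
    have h1 : P.basicOpen g = ⊤ ⊓ (a ≫ G.t) ⁻¹ᵁ (G.U.basicOpen f) :=
      Scheme.basicOpen_appLE (a ≫ G.t) ⊤ A hτ f
    rw [h1]
    constructor
    · rintro ⟨-, h⟩
      have h' : (a ≫ G.t) y ∈ V₁ := h
      rwa [Scheme.Hom.comp_apply] at h'
    · intro h
      refine ⟨trivial, ?_⟩
      show (a ≫ G.t) y ∈ V₁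
      rwa [Scheme.Hom.comp_apply]
  obtain ⟨N, hN⟩ := exists_norm_affine φ g
  -- lift the norm to `V₁w`
  have hsurj : Function.Surjective (c ∣_ V₁w).appTop :=
    (IsClosedImmersion.isAffine_surjective_of_isAffine (c ∣_ V₁w)).2
  obtain ⟨N', hN'⟩ := hsurj N
  have hNN' : ∀ x' : O', x' ∈ (O' : Scheme.{u}).basicOpen N ↔
      (c ∣_ V₁w) x' ∈ (V₁w : Scheme.{u}).basicOpen N' := by
    intro x'
    rw [← hN']
    have := Scheme.preimage_basicOpen_top (c ∣_ V₁w) N'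
    rw [← this]
    rfl
  let V : G.U.Opens := W.ι ''ᵁ (V₁w.ι ''ᵁ ((V₁w : Scheme.{u}).basicOpen N'))
  have hVaff : IsAffineOpen V :=
    ((isAffineOpen_top (V₁w : Scheme.{u})).basicOpen N' |>.image_of_isOpenImmersion V₁w.ι)
      |>.image_of_isOpenImmersion W.ι
  have hcres : ∀ x' : O', ((c ∣_ V₁w) x').1 = c x'.1 := fun x' =>
    morphismRestrict_base_coe c V₁w x'
  have hVsat : (V : Set G.U) = sat G (V₁ : Set G.U) := by
    ext x
    constructor
    · rintro ⟨w, ⟨z, hz, rfl⟩, rfl⟩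
      obtain ⟨x', hx'⟩ := hc (V₁w.ι z)
      have hx'O : x' ∈ O' := by
        show c x' ∈ V₁w
        rw [hx']; exact z.2
      have hz' : (c ∣_ V₁w) ⟨x', hx'O⟩ = z := Subtype.ext ((hcres _).trans hx')
      have h1 := (hN ⟨x', hx'O⟩).1 ((hNN' ⟨x', hx'O⟩).2 (hz' ▸ hz))
      intro r hr
      have hcond : G.s r = (O'.ι ≫ ι') ⟨x', hx'O⟩ := by
        rw [hr, Scheme.Hom.comp_apply, hιpt]
        show W.ι (V₁w.ι z) = _
        rw [← hx']
        rfl
      obtain ⟨y, hy1, hy2⟩ := Scheme.exists_preimage_of_isPullback hpb r ⟨x', hx'O⟩ hcond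
      have := (hg y).1 (h1 y hy2)
      rwa [hy1] at this
    · intro hx
      have hxV₁ : x ∈ V₁ := sat_subset G _ hx
      obtain ⟨x', hx'⟩ := hc ⟨x, hV₁W hxV₁⟩
      have hx'O : x' ∈ O' := by
        show c x' ∈ V₁w
        rw [hx']; exact hxV₁
      refine ⟨(c ∣_ V₁w) ⟨x', hx'O⟩ |>.1, ⟨(c ∣_ V₁w) ⟨x', hx'O⟩, ?_, rfl⟩, ?_⟩
      · apply (hNN' ⟨x', hx'O⟩).1
        apply (hN ⟨x', hx'O⟩).2
        intro y hy
        apply (hg y).2
        apply hx (a y)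
        rw [hsa, hy, hx']
      · show W.ι ((c ∣_ V₁w) ⟨x', hx'O⟩).1 = x
        rw [hcres, hx']
        rfl
  refine ⟨V, hVaff, ?_, ?_, ?_⟩
  · intro u hu
    show u ∈ (V : Set G.U)
    rw [hVsat]
    intro r hr
    exact hOf ⟨r, by rw [Set.mem_preimage, hr]; exact hu, rfl⟩
  · intro x hx
    have : x ∈ sat G (V₁ : Set G.U) := hVsat ▸ hx
    exact hV₁A (sat_subset G _ this)
  · ext ρ
    show G.s ρ ∈ (V : Set G.U) ↔ G.t ρ ∈ (V : Set G.U)
    rw [hVsat]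
    exact s_mem_sat_iff G _ ρ

end Groth.Agent.Lib.Seat33.GrpdInvAff
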