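import Mathlib
import Groth.Agent.Lib.Seat33GrpdStrat
import Groth.Agent.Lib.Seat33GenClosure

/-!
# Finite groupoids of finite presentation: the thickening `W' ⊆ W` is of finite presentation and `W`
contains the points whose orbits consist of generic points (seat 33)
-/

set_option autoImplicit false
set_option linter.style.haveILetI false
set_option linter.unusedSectionVars false
universe u
open CategoryTheory CategoryTheory.Limits AlgebraicGeometry TopologicalSpace Opposite

namespace Groth.Agent.Lib.Seat33.GrpdStrat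

open Groth.Agent.Lib.Seat33.GrpdFit Groth.Agent.Lib.Seat33.FitMor Groth.Agent.Lib.Seat33.IdealGlue
open Groth.Agent.Lib.Seat33.GrpdOrbit Groth.Agent.Lib.Seat33.GenClosure

section lfp
variable {X Y : Scheme.{u}}

/-- a closed subscheme whose ideal is finitely generated on affine opens is locally of finite
presentation. -/
theorem locallyOfFinitePresentation_subschemeι (K : X.IdealSheafData)
    (hK : BlowUp.IsFiniteTypeIdeal K) : LocallyOfFinitePresentation K.subschemeι := by
  rw [HasRingHomProperty.iff_exists_appLE (P := @LocallyOfFinitePresentation)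
    (RingHom.finitePresentation_stableUnderComposition.stableUnderCompositionWithLocalizationAway
      RingHom.finitePresentation_holdsForLocalizationAway).left]
  intro x
  obtain ⟨_, ⟨U, hU, rfl⟩, hxU, -⟩ := X.isBasis_affineOpens.exists_subset_of_mem_open
    (Set.mem_univ (K.subschemeι x)) isOpen_univ
  refine ⟨⟨U, hU⟩, ⟨K.subschemeι ⁻¹ᵁ U, hU.preimage K.subschemeι⟩, hxU, le_rfl, ?_⟩
  rw [← Scheme.Hom.app_eq_appLE]
  refine RingHom.FinitePresentation.of_surjective _ (K.subschemeι_app_surjective ⟨U, hU⟩) ?_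
  rw [K.ker_subschemeι_app ⟨U, hU⟩]
  exact hK ⟨U, hU⟩

theorem lfp_comap (I : Y.IdealSheafData) (g : X ⟶ Y) (h : LocallyOfFinitePresentation I.subschemeι) :
    LocallyOfFinitePresentation (I.comap g).subschemeι := by
  rw [← Scheme.IdealSheafData.comapIso_hom_fst]
  infer_instance

theorem lfp_of_cover (I : X.IdealSheafData) {ι : Type*} (V : ι → X.Opens) (hV : IsOpenCover V)
    (h : ∀ n, LocallyOfFinitePresentation (I.comap (V n).ι).subschemeι) :
    LocallyOfFinitePresentation I.subschemeι := by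
  rw [IsZariskiLocalAtTarget.iff_of_iSup_eq_top (P := @LocallyOfFinitePresentation) V hV]
  intro n
  have h1 : IsPullback (I.subschemeι ∣_ V n) (I.subschemeι ⁻¹ᵁ V n).ι (V n).ι I.subschemeι :=
    isPullback_morphismRestrict I.subschemeι (V n)
  have h2 : h1.isoPullback.hom ≫ pullback.fst (V n).ι I.subschemeι = I.subschemeι ∣_ V n :=
    h1.isoPullback_hom_fst
  rw [← h2, ← Scheme.IdealSheafData.comapIso_inv_subschemeι]
  haveI := h n
  infer_instance

end lfp

variable {S : Scheme.{u}} (G : Grpd.GroupoidScheme S)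

section main2

variable [IsFinite G.s] [IsFinite G.t] [LocallyOfFinitePresentation G.s]

theorem isFiniteTypeIdeal_Z (n : ℕ) : BlowUp.IsFiniteTypeIdeal (Z G n) := by
  apply Groth.Agent.Helper18FittSh.main_S8873
  haveI : SheafOfModules.IsFinitePresentation (R := G.R.ringCatSheaf) (Coh.structureModule G.R) :=
    Groth.Agent.Helper18FinFlat.isFinitePresentation_structureModule G.R
  exact (Groth.Agent.Lib.Helper2.FinPushFP.isFinitePresentation_pushforward_iff G.s _).1 inferInstance

theorem Zs_antitone : Antitone (Zs G) := fun _ _ h =>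
  Scheme.IdealSheafData.support_antitone (Z_mono G h)

theorem C_subset_iUnion (n : ℕ) :
    C G (Zs G) n ⊆ ⋃ m, ⋃ (_ : m < n), sat G (closure (Wn G (Zs G) m)) := by
  induction n with
  | zero => exact Set.empty_subset _
  | succ n ih =>
    rw [C_succ]
    refine Set.union_subset (ih.trans ?_) ?_
    · refine Set.iUnion_subset fun m => Set.iUnion_subset fun hm => ?_
      exact Set.subset_iUnion₂_of_subset m (Nat.lt_succ_of_lt hm) subset_rfl
    · exact Set.subset_iUnion₂_of_subset n (Nat.lt_succ_self n) subset_rfl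

/-- points whose orbits consist of points without proper generizations lie in `W`. -/
theorem mem_W_of_generic (u : G.U)
    (hu : ∀ r : G.R, G.s r = u → ∀ x : G.U, x ⤳ G.t r → x = G.t r) : u ∈ W G := by
  classical
  have hex : ∃ m, u ∉ Zs G m := by
    by_contra hcon
    have hcon' : ∀ n, u ∈ Zs G n := fun n => by
      by_contra h
      exact hcon ⟨n, h⟩
    have : u ∈ ⋂ n, Zs G n := Set.mem_iInter.2 hcon'
    rw [iInter_Zs] at this
    exact this
  have hm0 : Nat.find hex ≠ 0 := by
    intro h0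
    have := Nat.find_spec hex
    rw [h0, Zs_zero] at this
    exact this trivial
  obtain ⟨n, hn⟩ := Nat.exists_eq_succ_of_ne_zero hm0
  have hun1 : u ∉ Zs G (n + 1) := by
    have := Nat.find_spec hex
    rwa [hn] at this
  have hun : u ∈ Zs G n := by
    by_contra h
    have := Nat.find_min' hex h
    omega
  have hW : u ∈ Wn G (Zs G) n := by
    intro h
    rcases h with h | h
    · exact hun1 h
    · obtain ⟨m, hm⟩ := Set.mem_iUnion.1 (C_subset_iUnion G n h)
      obtain ⟨hmn, ρ, hρ, hρu⟩ := Set.mem_iUnion.1 hm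
      -- `u' = s ρ` is in the orbit of `u`
      have hgen : ∀ y : G.U, y ⤳ G.s ρ → y = G.s ρ := by
        have := hu (G.i ρ) (by rw [s_i_apply, hρu])
        rwa [t_i_apply] at this
      have hcl : G.s ρ ∈ closure (((Z G (m + 1)).support : Set G.U)ᶜ) := by
        refine closure_mono ?_ hρ
        intro y hy hyZ
        exact hy (Or.inl hyZ)
      have h1 : G.s ρ ∉ (Z G (m + 1)).support :=
        notMem_support_of_mem_closure_compl _ (isFiniteTypeIdeal_Z G (m + 1)) _ hgen hcl
      have h2 : G.t ρ ∈ Zs G (m + 1) := by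
        rw [hρu]
        exact Zs_antitone G (Nat.succ_le_of_lt hmn) hun
      exact h1 (((inv_Zs G (m + 1)).mem_iff G ρ).2 h2)
  rw [← SetLike.mem_coe, coe_W]
  exact Set.mem_iUnion.2 ⟨n, hW⟩

theorem main2 : ∃ (W : G.U.Opens) (W' : (↑W : Scheme.{u}).IdealSheafData),
    G.s ⁻¹ᵁ W = G.t ⁻¹ᵁ W ∧ W'.support = ⊤ ∧
    (∃ φ : pullback G.s (W'.subschemeι ≫ W.ι) ≅ pullback G.t (W'.subschemeι ≫ W.ι),
      φ.hom ≫ pullback.fst G.t (W'.subschemeι ≫ W.ι) = pullback.fst G.s (W'.subschemeι ≫ W.ι)) ∧
    (∀ u : G.U, ∃ r : G.R, G.t r = u ∧ G.s r ∈ closure (W : Set G.U)) ∧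
    Mor2.IsFinLocFree (pullback.snd G.s (W'.subschemeι ≫ W.ι)) ∧
    Mor2.IsFinLocFree (pullback.snd G.t (W'.subschemeι ≫ W.ι)) ∧
    LocallyOfFinitePresentation W'.subschemeι ∧
    ∀ u : G.U, (∀ r : G.R, G.s r = u → ∀ x : G.U, x ⤳ G.t r → x = G.t r) → u ∈ W := by
  obtain ⟨W', hW'⟩ := exists_glue (V G) (isOpenCover_V G) (disjoint_V G)
    (fun n => (Z G n).comap (W G).ι)
  have hdisj : ∀ n, ∀ x ∈ Wo G n, x ∉ (Z G (n + 1)).support := fun n x hx h =>
    Set.disjoint_left.1 (Wn_disjoint_Zs_succ G (Zs G) n) hx h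
  have hsub : ∀ n, ∀ x ∈ Wo G n, x ∈ (Z G n).support := fun n x hx =>
    Wn_subset_Zs G (Zs G) (Zs_zero G) n hx
  refine ⟨W G, W', ?_, ?_, ?_, ?_, ?_, ?_, ?_, ?_⟩
  · ext r
    exact mem_W_iff G r
  · exact support_eq_top (Z G) (W G) W' (Wo G) (V G) (fun _ => rfl) (isOpenCover_V G) hW' hsub
  · exact exists_iso_pullback (Z G) (W G) W' (Wo G) (V G) (fun _ => rfl) (isOpenCover_V G) hW'
      G.s G.t (fitMor_comap_s_eq_t G) (mem_W_iff G) (mem_Wo_iff G)
  · intro u
    obtain ⟨r, hr, hru⟩ := univ_subset_sat_closure G (Zs G) (Zs_zero G) (iInter_Zs G) u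
    refine ⟨r, hru, ?_⟩
    rw [coe_W]
    exact hr
  · exact isFinLocFree_pullback_snd (Z G) (W G) W' (Wo G) (V G) (fun _ => rfl) (isOpenCover_V G)
      hW' G.s (fun g r h1 h2 => isFinLocFreeOfDeg_of_comap G g r h1 h2) hdisj
  · exact isFinLocFree_pullback_snd (Z G) (W G) W' (Wo G) (V G) (fun _ => rfl) (isOpenCover_V G)
      hW' G.t (fun g r h1 h2 => isFinLocFreeOfDeg_of_comap_t G g r h1 h2) hdisj
  · apply lfp_of_cover W' (V G) (isOpenCover_V G)
    intro n
    rw [hW' n]
    exact lfp_comap _ _ (lfp_comap _ _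
      (locallyOfFinitePresentation_subschemeι _ (isFiniteTypeIdeal_Z G n)))
  · exact mem_W_of_generic G

end main2

end Groth.Agent.Lib.Seat33.GrpdStrat
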