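import Mathlib
import Groth.Agent.Lib.Seat33GrpdStrat2
import Groth.Agent.Lib.Seat33GrpdInvAff

/-!
# Invariant affine thickenings around generic orbits of a finite groupoid of finite presentation (seat 33)
-/

set_option autoImplicit false
set_option linter.style.haveILetI false
set_option linter.unusedSectionVars false
universe u
open CategoryTheory CategoryTheory.Limits AlgebraicGeometry TopologicalSpace Opposite

namespace Groth.Agent.Lib.Seat33.GrpdStrat

open Groth.Agent.Lib.Seat33.GrpdFit Groth.Agent.Lib.Seat33.FitMor Groth.Agent.Lib.Seat33.IdealGlue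
open Groth.Agent.Lib.Seat33.GrpdOrbit Groth.Agent.Lib.Seat33.GenClosure
open Groth.Agent.Lib.Seat33.GrpdInvAff

variable {S : Scheme.{u}} (G : Grpd.GroupoidScheme S)

section main3

variable [IsFinite G.s] [IsFinite G.t] [LocallyOfFinitePresentation G.s]

theorem main3 [QuasiSeparatedSpace G.U] (m : ℕ) (u : Fin m → G.U)
    (hu : ∀ i (r : G.R), G.s r = u i → ∀ x : G.U, x ⤳ G.t r → x = G.t r) :
    ∃ (V : G.U.Opens) (V' : (↑V : Scheme.{u}).IdealSheafData), IsAffineOpen V ∧ (∀ i, u i ∈ V) ∧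
      G.s ⁻¹ᵁ V = G.t ⁻¹ᵁ V ∧ V'.support = ⊤ ∧ LocallyOfFinitePresentation V'.subschemeι ∧
      (∃ φ : pullback G.s (V'.subschemeι ≫ V.ι) ≅ pullback G.t (V'.subschemeι ≫ V.ι),
        φ.hom ≫ pullback.fst G.t (V'.subschemeι ≫ V.ι) = pullback.fst G.s (V'.subschemeι ≫ V.ι)) ∧
      Mor2.IsFinLocFree (pullback.snd G.s (V'.subschemeι ≫ V.ι)) ∧
      Mor2.IsFinLocFree (pullback.snd G.t (V'.subschemeι ≫ V.ι)) := by
  classical
  obtain ⟨W', hW'⟩ := exists_glue (V G) (isOpenCover_V G) (disjoint_V G)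
    (fun n => (Z G n).comap (W G).ι)
  have hdisj : ∀ n, ∀ x ∈ Wo G n, x ∉ (Z G (n + 1)).support := fun n x hx h =>
    Set.disjoint_left.1 (Wn_disjoint_Zs_succ G (Zs G) n) hx h
  have hsub : ∀ n, ∀ x ∈ Wo G n, x ∈ (Z G n).support := fun n x hx =>
    Wn_subset_Zs G (Zs G) (Zs_zero G) n hx
  have hsupp : W'.support = ⊤ :=
    support_eq_top (Z G) (W G) W' (Wo G) (V G) (fun _ => rfl) (isOpenCover_V G) hW' hsub
  have hflf : Mor2.IsFinLocFree (pullback.snd G.s (W'.subschemeι ≫ (W G).ι)) :=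
    isFinLocFree_pullback_snd (Z G) (W G) W' (Wo G) (V G) (fun _ => rfl) (isOpenCover_V G)
      hW' G.s (fun g r h1 h2 => isFinLocFreeOfDeg_of_comap G g r h1 h2) hdisj
  have hlfp : LocallyOfFinitePresentation W'.subschemeι := by
    apply lfp_of_cover W' (V G) (isOpenCover_V G)
    intro n
    rw [hW' n]
    exact lfp_comap _ _ (lfp_comap _ _
      (locallyOfFinitePresentation_subschemeι _ (isFiniteTypeIdeal_Z G n)))
  -- the points and their orbits
  set T : Set G.U := Set.range u with hTdef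
  have hT : T.Finite := Set.finite_range u
  have hTW : ∀ i, u i ∈ W G := fun i => mem_W_of_generic G (u i) (hu i)
  set O : Set G.U := G.t '' (G.s ⁻¹' T) with hOdef
  have hOfin : O.Finite :=
    (hT.preimage' fun u _ => G.s.finite_preimage_singleton u).image _
  have hOW : O ⊆ W G := by
    rintro _ ⟨r, ⟨i, hi⟩, rfl⟩
    exact (mem_W_iff G r).1 (by rw [← hi]; exact hTW i)
  have hOgen : ∀ x ∈ O, ∀ y : G.U, y ⤳ x → y = x := by
    rintro _ ⟨r, ⟨i, hi⟩, rfl⟩ y hy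
    exact hu i r hi.symm y hy
  -- an affine open of `W` containing the orbits
  haveI : QuasiSeparatedSpace ((W G : G.U.Opens) : Scheme.{u}) :=
    quasiSeparatedSpace_of_quasiSeparated (W G).ι
  obtain ⟨Aw, hAw, hOAw⟩ := exists_isAffineOpen_of_finite_generic
    (X := ((W G : G.U.Opens) : Scheme.{u})) ((W G).ι ⁻¹' O)
    (hOfin.preimage (W G).ι.isOpenEmbedding.injective.injOn) (by
      intro x hx y hy
      apply (W G).ι.isOpenEmbedding.injective
      exact hOgen _ hx _ (hy.map (W G).ι.continuous))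
  let A : G.U.Opens := (W G).ι ''ᵁ Aw
  have hA : IsAffineOpen A := hAw.image_of_isOpenImmersion (W G).ι
  have hAW : A ≤ W G := by
    rintro _ ⟨x, -, rfl⟩
    exact x.2
  have hOA : O ⊆ A := fun x hx => ⟨⟨x, hOW hx⟩, hOAw (by exact hx), rfl⟩
  have hcsurj : Function.Surjective W'.subschemeι := by
    rw [← Set.range_eq_univ, Scheme.IdealSheafData.range_subschemeι, hsupp]
    rfl
  obtain ⟨Vv, hVaff, hTV, hVA, hVinv⟩ := exists_invariant_affine_of_thickening G (W G)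
    W'.subschemeι hcsurj hflf A hA hAW T hT
    (fun u hu r hr => hOA ⟨r, by rw [Set.mem_preimage, hr]; exact hu, rfl⟩)
  have hVW : Vv ≤ W G := hVA.trans hAW
  have hVmem : ∀ r : G.R, G.s r ∈ Vv ↔ G.t r ∈ Vv := fun r => by
    have := congrArg (fun O : G.R.Opens => r ∈ O) hVinv
    exact iff_of_eq this
  -- the restricted thickening
  let h : (Vv : Scheme.{u}) ⟶ (W G : G.U.Opens) := G.U.homOfLE hVW
  have hh : h ≫ (W G).ι = Vv.ι := G.U.homOfLE_ι hVW
  let V' : (Vv : Scheme.{u}).IdealSheafData := W'.comap h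
  let Wo' : ℕ → G.U.Opens := fun n => Vv ⊓ Wo G n
  let Vn : ℕ → (Vv : Scheme.{u}).Opens := fun n => Vv.ι ⁻¹ᵁ Wo' n
  have hVn : IsOpenCover Vn := by
    unfold IsOpenCover
    rw [eq_top_iff]
    intro x _
    have hx : x.1 ∈ W G := hVW x.2
    obtain ⟨n, hn⟩ := Opens.mem_iSup.1 hx
    exact Opens.mem_iSup.2 ⟨n, ⟨x.2, hn⟩⟩
  have hV' : ∀ n, V'.comap (Vn n).ι = ((Z G n).comap Vv.ι).comap (Vn n).ι := by
    intro n
    have hr : Set.range ((Vn n).ι ≫ h) ⊆ Set.range (V G n).ι := by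
      rintro _ ⟨x, rfl⟩
      rw [Scheme.Opens.range_ι]
      have hx : Vv.ι x.1 ∈ Wo' n := x.2
      show (W G).ι (((Vn n).ι ≫ h) x) ∈ Wo G n
      rw [← Scheme.Hom.comp_apply, Category.assoc, hh]
      exact hx.2
    obtain ⟨k, hk⟩ : ∃ k : ((Vn n : (Vv : Scheme.{u}).Opens) : Scheme.{u}) ⟶
        ((V G n : ((W G : G.U.Opens) : Scheme.{u}).Opens) : Scheme.{u}),
        k ≫ (V G n).ι = (Vn n).ι ≫ h :=
      ⟨IsOpenImmersion.lift (V G n).ι ((Vn n).ι ≫ h) hr, IsOpenImmersion.lift_fac _ _ _⟩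
    show (W'.comap h).comap (Vn n).ι = _
    rw [← Scheme.IdealSheafData.comap_comp, ← hk, Scheme.IdealSheafData.comap_comp, hW' n,
      ← Scheme.IdealSheafData.comap_comp, ← Scheme.IdealSheafData.comap_comp,
      ← Scheme.IdealSheafData.comap_comp, hk, Category.assoc, hh]
  have hWo' : ∀ (n : ℕ) (r : G.R), G.s r ∈ Wo' n ↔ G.t r ∈ Wo' n := fun n r =>
    and_congr (hVmem r) (mem_Wo_iff G n r)
  have hdisj' : ∀ n, ∀ x ∈ Wo' n, x ∉ (Z G (n + 1)).support := fun n x hx => hdisj n x hx.2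
  have hsub' : ∀ n, ∀ x ∈ Wo' n, x ∈ (Z G n).support := fun n x hx => hsub n x hx.2
  refine ⟨Vv, V', hVaff, fun i => hTV ⟨i, rfl⟩, hVinv, ?_, ?_, ?_, ?_, ?_⟩
  · exact support_eq_top (Z G) Vv V' Wo' Vn (fun _ => rfl) hVn hV' hsub'
  · exact lfp_comap _ _ hlfp
  · exact exists_iso_pullback (Z G) Vv V' Wo' Vn (fun _ => rfl) hVn hV'
      G.s G.t (fitMor_comap_s_eq_t G) hVmem hWo'
  · exact isFinLocFree_pullback_snd (Z G) Vv V' Wo' Vn (fun _ => rfl) hVn
      hV' G.s (fun g r h1 h2 => isFinLocFreeOfDeg_of_comap G g r h1 h2) hdisj'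
  · exact isFinLocFree_pullback_snd (Z G) Vv V' Wo' Vn (fun _ => rfl) hVn
      hV' G.t (fun g r h1 h2 => isFinLocFreeOfDeg_of_comap_t G g r h1 h2) hdisj'

end main3

end Groth.Agent.Lib.Seat33.GrpdStrat
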