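import Mathlib
import Groth.Prelude.Def_Grpd
import Groth.Agent.Lib.Helper18Grpd1
import Groth.Agent.Lib.Helper25Cartier
import Groth.Agent.Lib.Seat33GrpdSmooth

/-!
# Seat33GrpdCartier: Cartier's theorem for groupoid schemes over a field of characteristic zero

Let `(U, R, s, t, c, e, i)` be a groupoid scheme with `U = Spec K`, `K` a field of characteristic
zero, `s`, `t` locally of finite type.  Regard `R` as a `K`-scheme through `s`.  Left translation by
a dual-number point `v` of `R` at `e` with `s ∘ v` constant is an infinitesimal automorphism of the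
`K`-scheme `R`; hence every tangent vector at `e` extends to a vector field, and the ring-level
Cartier lemma of `Helper25Cartier` gives a reduced open neighbourhood of `e`.  Homogeneity
(`Seat33GrpdSmooth.smooth_t_of_nonempty`) then gives smoothness of `s` and `t`.
-/

set_option autoImplicit false
set_option linter.style.haveILetI false
universe u v w
open CategoryTheory AlgebraicGeometry Limits TrivSqZeroExt
open Groth.Agent.Helper18Grpd Groth.Agent.Lib.Helper25.Cart

namespace Groth.Agent.Lib.Seat33.GrpdCartier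

section EpsRing

variable {R : Type v} [CommRing R] {R' : Type w} [CommRing R']

/-- Functoriality of dual numbers for plain ring homomorphisms. -/
def epsRing (f : R →+* R') : Eps R →+* Eps R' where
  toFun z := inl (f z.fst) + inr (f z.snd)
  map_one' := by ext <;> simp
  map_mul' x y := by
    ext <;> simp [mul_comm]
  map_zero' := by ext <;> simp
  map_add' x y := by
    ext <;> simp

@[simp] theorem fst_epsRing (f : R →+* R') (z : Eps R) : (epsRing f z).fst = f z.fst := by
  simp [epsRing]

@[simp] theorem snd_epsRing (f : R →+* R') (z : Eps R) : (epsRing f z).snd = f z.snd := by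
  simp [epsRing]

end EpsRing

section Main

variable {S : Scheme.{u}} (G : Grpd.GroupoidScheme S) {K : Type u} [Field K]
variable (eU : G.U ≅ Spec (CommRingCat.of K))
variable {B : Type u} [CommRing B] [Algebra K B]
variable (i : Spec (CommRingCat.of B) ⟶ G.R) [IsOpenImmersion i]
variable (hi : i ≫ G.s ≫ eU.hom = Spec.map (CommRingCat.ofHom (algebraMap K B)))
variable (e : B →ₐ[K] K)
variable (he : Spec.map (CommRingCat.ofHom (e : B →+* K)) ≫ i = eU.inv ≫ G.e)

include hi he in
/-- Tangent vectors (vertical for `s`) at the identity of a groupoid scheme over a field extend to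
`s`-linear vector fields on an affine neighbourhood (left translation by the dual-number point). -/
theorem exists_derivation_of_grpd (ξ : B →ₗ[K] K) (hξ : IsPtDer e ξ) :
    ∃ D : Derivation K B B, ∀ b, e (D b) = ξ b := by
  obtain ⟨τ, hτ⟩ : ∃ τ : B →ₐ[K] Eps K, τ = tauHom e ξ hξ := ⟨_, rfl⟩
  -- the `t`-structure of `B`
  obtain ⟨tB, htB'⟩ : ∃ tB : K →+* B, Spec.map (CommRingCat.ofHom tB) = i ≫ G.t ≫ eU.hom :=
    ⟨(Spec.preimage (i ≫ G.t ≫ eU.hom)).hom, Spec.map_preimage _⟩
  obtain ⟨pr, hpr⟩ : ∃ pr : Eps B →ₐ[K] B, pr = fstHom K B B := ⟨_, rfl⟩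
  obtain ⟨inc, hinc⟩ : ∃ inc : B →ₐ[K] Eps B, inc = inlAlgHom K B B := ⟨_, rfl⟩
  -- `e ∘ tB = id`
  have hetB : ∀ x : K, e (tB x) = x := by
    have h1 : CommRingCat.ofHom tB ≫ CommRingCat.ofHom (e : B →+* K) = 𝟙 _ := by
      apply Spec.map_injective
      rw [Spec.map_comp, htB', ← Category.assoc, he, Spec.map_id]
      simp only [Category.assoc]
      rw [← Category.assoc G.e, G.e_t, Category.id_comp, Iso.inv_hom_id]
    intro x
    have := congrArg (fun f => f.hom x) h1
    simpa using this
  -- the two points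
  obtain ⟨v, hv⟩ : ∃ v : Spec (CommRingCat.of (Eps K)) ⟶ G.R,
      v = Spec.map (CommRingCat.ofHom (τ : B →+* Eps K)) ≫ i := ⟨_, rfl⟩
  obtain ⟨a, ha⟩ : ∃ a : Spec (CommRingCat.of (Eps B)) ⟶ G.R,
      a = Spec.map (CommRingCat.ofHom (epsRing tB)) ≫ v := ⟨_, rfl⟩
  obtain ⟨b, hb⟩ : ∃ b : Spec (CommRingCat.of (Eps B)) ⟶ G.R,
      b = Spec.map (CommRingCat.ofHom (inc : B →+* Eps B)) ≫ i := ⟨_, rfl⟩
  have hvs : v ≫ G.s ≫ eU.hom = Spec.map (CommRingCat.ofHom (algebraMap K (Eps K))) := by
    rw [hv, Category.assoc, hi, ← Spec.map_comp, ← CommRingCat.ofHom_comp]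
    congr 2
    exact τ.comp_algebraMap
  have hvs' : v ≫ G.s = Spec.map (CommRingCat.ofHom (algebraMap K (Eps K))) ≫ eU.inv := by
    rw [← hvs]
    simp only [Category.assoc, Iso.hom_inv_id, Category.comp_id]
  have has : a ≫ G.s ≫ eU.hom =
      Spec.map (CommRingCat.ofHom ((inc : B →+* Eps B).comp tB)) := by
    rw [ha, Category.assoc, hvs, ← Spec.map_comp]
    congr 1
    ext x
    · simp [hinc, algebraMap_eq_inl']
    · simp [hinc, algebraMap_eq_inl']
  have hbt : b ≫ G.t ≫ eU.hom =
      Spec.map (CommRingCat.ofHom ((inc : B →+* Eps B).comp tB)) := by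
    rw [hb, Category.assoc, ← htB', ← Spec.map_comp]
    rfl
  have hab : a ≫ G.s = b ≫ G.t := by
    rw [← cancel_mono eU.hom, Category.assoc, Category.assoc, has, hbt]
  have hbs : b ≫ G.s ≫ eU.hom = Spec.map (CommRingCat.ofHom (algebraMap K (Eps B))) := by
    rw [hb, Category.assoc, hi, ← Spec.map_comp, ← CommRingCat.ofHom_comp]
    congr 2
    exact inc.comp_algebraMap
  obtain ⟨w, hw⟩ : ∃ w : Spec (CommRingCat.of (Eps B)) ⟶ G.R, w = cmp G a b hab := ⟨_, rfl⟩
  -- restriction of `w` along `ε ↦ 0` is `i`
  have hprv : Spec.map (CommRingCat.ofHom (pr : Eps B →+* B)) ≫ w = i := by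
    rw [hw, precomp_cmp]
    have h1 : Spec.map (CommRingCat.ofHom (pr : Eps B →+* B)) ≫ a = i ≫ G.t ≫ G.e := by
      rw [ha, hv, ← Category.assoc, ← Category.assoc, ← Spec.map_comp, ← Spec.map_comp]
      have h2 : CommRingCat.ofHom (τ : B →+* Eps K) ≫ CommRingCat.ofHom (epsRing tB) ≫
          CommRingCat.ofHom (pr : Eps B →+* B) =
          CommRingCat.ofHom (e : B →+* K) ≫ CommRingCat.ofHom tB := by
        ext x
        simp [hτ, hpr]
      rw [h2, Spec.map_comp, Category.assoc, he, htB']
      simp only [Category.assoc, Iso.hom_inv_id_assoc]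
    have h3 : Spec.map (CommRingCat.ofHom (pr : Eps B →+* B)) ≫ b = i := by
      rw [hb, ← Category.assoc, ← Spec.map_comp]
      have h4 : CommRingCat.ofHom (inc : B →+* Eps B) ≫ CommRingCat.ofHom (pr : Eps B →+* B) =
          𝟙 _ := by
        ext x
        simp [hinc, hpr]
      rw [h4, Spec.map_id, Category.id_comp]
    refine (cmp_congr h1 h3 _ (by
      rw [Category.assoc, Category.assoc, G.e_s, Category.comp_id])).trans ?_
    exact e_cmp i
  -- `w` factors through the open immersion
  have hrange : Set.range w.base ⊆ Set.range i.base := by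
    rintro _ ⟨z, rfl⟩
    obtain ⟨y, rfl⟩ := spec_fst_surjective (K := K) (B := B) z
    have h3 := congrArg (fun f : Spec (CommRingCat.of B) ⟶ G.R => f.base y) hprv
    rw [hpr] at h3
    exact ⟨y, h3.symm⟩
  obtain ⟨lft, hlft⟩ : ∃ lft : Spec (CommRingCat.of (Eps B)) ⟶ Spec (CommRingCat.of B),
      lft ≫ i = w := ⟨IsOpenImmersion.lift i w hrange, IsOpenImmersion.lift_fac _ _ _⟩
  obtain ⟨φ₀, hφ₀'⟩ : ∃ φ₀ : CommRingCat.of B ⟶ CommRingCat.of (Eps B), Spec.map φ₀ = lft :=
    ⟨Spec.preimage lft, Spec.map_preimage _⟩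
  have halg : CommRingCat.ofHom (algebraMap K B) ≫ φ₀ =
      CommRingCat.ofHom (algebraMap K (Eps B)) := by
    apply Spec.map_injective
    rw [Spec.map_comp, hφ₀', ← hi, ← Category.assoc, hlft, ← hbs, hw, ← Category.assoc, cmp_s,
      Category.assoc]
  let φ : B →ₐ[K] Eps B :=
    { φ₀.hom with
      commutes' := fun r => by
        have := congrArg (fun f => f.hom r) halg
        simpa using this }
  have hφfst : ∀ b, (φ b).fst = b := by
    have h1 : φ₀ ≫ CommRingCat.ofHom (pr : Eps B →+* B) = 𝟙 _ := by
      apply Spec.map_injective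
      rw [Spec.map_comp, hφ₀', Spec.map_id]
      rw [← cancel_mono i, Category.assoc, hlft, Category.id_comp]
      exact hprv
    intro b
    have := congrArg (fun f => f.hom b) h1
    simp only [CommRingCat.hom_comp, CommRingCat.hom_ofHom, RingHom.coe_comp, Function.comp_apply,
      CommRingCat.hom_id, RingHom.id_apply] at this
    rw [hpr] at this
    exact this
  have hφe : ∀ b, epsMap e (φ b) = τ b := by
    have hev : Spec.map (CommRingCat.ofHom ((epsMap e : Eps B →ₐ[K] Eps K) : Eps B →+* Eps K)) ≫ w
        = v := by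
      rw [hw, precomp_cmp]
      have h1 : Spec.map (CommRingCat.ofHom ((epsMap e : Eps B →ₐ[K] Eps K) : Eps B →+* Eps K)) ≫ a
          = v := by
        rw [ha, ← Category.assoc, ← Spec.map_comp]
        have h2 : CommRingCat.ofHom (epsRing tB) ≫
            CommRingCat.ofHom ((epsMap e : Eps B →ₐ[K] Eps K) : Eps B →+* Eps K) = 𝟙 _ := by
          refine CommRingCat.hom_ext (RingHom.ext fun x => ?_)
          apply TrivSqZeroExt.ext
          · simp [hetB]
          · simp [hetB]
        rw [h2, Spec.map_id, Category.id_comp]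
      have h3 : Spec.map (CommRingCat.ofHom ((epsMap e : Eps B →ₐ[K] Eps K) : Eps B →+* Eps K)) ≫ b
          = v ≫ G.s ≫ G.e := by
        rw [hb, ← Category.assoc, ← Spec.map_comp, ← Category.assoc v, hvs']
        have h4 : CommRingCat.ofHom (inc : B →+* Eps B) ≫
            CommRingCat.ofHom ((epsMap e : Eps B →ₐ[K] Eps K) : Eps B →+* Eps K) =
            CommRingCat.ofHom (e : B →+* K) ≫ CommRingCat.ofHom (algebraMap K (Eps K)) := by
          ext x
          · simp [hinc, algebraMap_eq_inl']
          · simp [hinc, algebraMap_eq_inl']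
        rw [h4, Spec.map_comp, Category.assoc, he, Category.assoc]
      refine (cmp_congr h1 h3 _ (by
        rw [Category.assoc, Category.assoc, G.e_t, Category.comp_id])).trans ?_
      exact cmp_e v
    have h3 : φ₀ ≫ CommRingCat.ofHom ((epsMap e : Eps B →ₐ[K] Eps K) : Eps B →+* Eps K) =
        CommRingCat.ofHom (τ : B →+* Eps K) := by
      apply Spec.map_injective
      rw [Spec.map_comp, hφ₀', ← cancel_mono i, Category.assoc, hlft, ← hv]
      exact hev
    intro b
    have := congrArg (fun f => f.hom b) h3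
    simp only [CommRingCat.hom_comp, CommRingCat.hom_ofHom, RingHom.coe_comp,
      Function.comp_apply] at this
    exact this
  refine ⟨derOfHom φ hφfst, fun b => ?_⟩
  rw [derOfHom_apply]
  have := congrArg TrivSqZeroExt.snd (hφe b)
  simpa [hτ] using this

end Main

section Local

variable {S : Scheme.{u}} (G : Grpd.GroupoidScheme S) {K : Type u} [Field K] [CharZero K]
variable (eU : G.U ≅ Spec (CommRingCat.of K)) [LocallyOfFiniteType G.s]

include eU in
/-- A groupoid scheme over a field of characteristic zero with `s` locally of finite type has a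
nonempty reduced open subscheme of arrows (a neighbourhood of the identity). -/
theorem exists_reduced_nhd_e :
    ∃ (V : Scheme.{u}) (j : V ⟶ G.R), IsOpenImmersion j ∧ IsReduced V ∧ Nonempty V := by
  set e₀ : G.R := (eU.inv ≫ G.e).base (IsLocalRing.closedPoint K) with he₀
  obtain ⟨_, ⟨U, hU, rfl⟩, heU, -⟩ :=
    G.R.isBasis_affineOpens.exists_subset_of_mem_open (Set.mem_univ e₀) isOpen_univ
  haveI : LocallyOfFiniteType (G.s ≫ eU.hom) := inferInstance
  haveI : IsLocallyNoetherian G.R := LocallyOfFiniteType.isLocallyNoetherian (G.s ≫ eU.hom)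
  haveI : IsNoetherianRing Γ(G.R, U) := IsLocallyNoetherian.component_noetherian ⟨U, hU⟩
  let B : Type u := Γ(G.R, U)
  let i : Spec (CommRingCat.of B) ⟶ G.R := hU.fromSpec
  haveI : IsOpenImmersion i := inferInstanceAs (IsOpenImmersion hU.fromSpec)
  let ψ : CommRingCat.of K ⟶ CommRingCat.of B := Spec.preimage (i ≫ G.s ≫ eU.hom)
  letI : Algebra K B := ψ.hom.toAlgebra
  have hi : i ≫ G.s ≫ eU.hom = Spec.map (CommRingCat.ofHom (algebraMap K B)) := by
    have : CommRingCat.ofHom (algebraMap K B) = ψ := rfl
    rw [this]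
    exact (Spec.map_preimage _).symm
  have hrange : Set.range (eU.inv ≫ G.e).base ⊆ Set.range i.base := by
    rintro _ ⟨x, rfl⟩
    have hx : x = IsLocalRing.closedPoint K :=
      Subsingleton.elim (α := PrimeSpectrum K) _ _
    rw [hx]
    have : Set.range i.base = U := hU.range_fromSpec
    rw [this]
    exact heU
  let l := IsOpenImmersion.lift i (eU.inv ≫ G.e) hrange
  have hl : l ≫ i = eU.inv ≫ G.e := IsOpenImmersion.lift_fac _ _ _
  let e₁ : CommRingCat.of B ⟶ CommRingCat.of K := Spec.preimage l
  have he₁ : Spec.map e₁ = l := Spec.map_preimage _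
  have hcomm : ψ ≫ e₁ = 𝟙 _ := by
    apply Spec.map_injective
    rw [Spec.map_comp, he₁, Spec.map_preimage, ← Category.assoc, hl, Spec.map_id]
    simp only [Category.assoc]
    rw [← Category.assoc G.e, G.e_s, Category.id_comp, Iso.inv_hom_id]
  let e : B →ₐ[K] K :=
    { e₁.hom with
      commutes' := fun r => by
        have := congrArg (fun f => f.hom r) hcomm
        simp only [CommRingCat.hom_comp, RingHom.coe_comp, Function.comp_apply,
          CommRingCat.hom_id, RingHom.id_apply] at this
        exact this }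
  have he : Spec.map (CommRingCat.ofHom (e : B →+* K)) ≫ i = eU.inv ≫ G.e := by
    have : CommRingCat.ofHom (e : B →+* K) = e₁ := rfl
    rw [this, he₁, hl]
  obtain ⟨s, hs1, hs⟩ := exists_annihilator_nilradical e
    (fun ξ hξ => exists_derivation_of_grpd G eU i hi e he ξ hξ)
  have hred := isReduced_away_of_annihilates s hs
  refine ⟨Spec (CommRingCat.of (Localization.Away s)),
    Spec.map (CommRingCat.ofHom (algebraMap B (Localization.Away s))) ≫ i, inferInstance,
    inferInstance, ?_⟩
  have hnt : Nontrivial (Localization.Away s) := by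
    by_contra hcon
    rw [not_nontrivial_iff_subsingleton] at hcon
    have h0 : (algebraMap B (Localization.Away s)) s = 0 := Subsingleton.elim _ _
    have hu : IsUnit ((algebraMap B (Localization.Away s)) s) :=
      IsLocalization.Away.algebraMap_isUnit s
    rw [h0] at hu
    have h01 : (0 : Localization.Away s) = 1 := Subsingleton.elim _ _
    -- `0` is a unit in the zero ring: derive that `s` is nilpotent, hence `e s = 0`
    have hs0 : ∃ n : ℕ, s ^ n = 0 := by
      have hz : (algebraMap B (Localization.Away s)) 1 = 0 := Subsingleton.elim _ _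
      obtain ⟨⟨_, n, rfl⟩, hn⟩ := (IsLocalization.map_eq_zero_iff (Submonoid.powers s)
        (Localization.Away s) (1 : B)).mp hz
      exact ⟨n, by simpa using hn⟩
    obtain ⟨n, hn⟩ := hs0
    have : (e s) ^ n = 0 := by rw [← map_pow, hn, map_zero]
    rw [hs1, one_pow] at this
    exact one_ne_zero this
  exact inferInstance

end Local

section Final

variable (S : Scheme.{u}) (G : Grpd.GroupoidScheme S)

/-- S7454: a groupoid scheme over a field of characteristic zero with `s`, `t` locally of finite
type has smooth source and target maps. -/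
theorem smooth_of_charZero (k : Type u) [Field k] [CharZero k]
    (eU : G.U ≅ Spec (CommRingCat.of k)) [LocallyOfFiniteType G.s] [LocallyOfFiniteType G.t] :
    Smooth G.s ∧ Smooth G.t := by
  have hI : IsIntegral G.U := by
    have : IsIntegral (Spec (CommRingCat.of k)) := inferInstance
    have : Nonempty G.U := ⟨eU.inv (IsLocalRing.closedPoint k)⟩
    exact isIntegral_of_isOpenImmersion eU.hom
  have hS : Subsingleton G.U := (eU.hom.homeomorph.injective).subsingleton
  have hN : IsLocallyNoetherian G.U := isLocallyNoetherian_of_isOpenImmersion eU.hom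
  have ht : Smooth G.t := by
    apply GrpdSmooth.smooth_t_of_nonempty
    obtain ⟨V, j, hj, hV, hne⟩ := exists_reduced_nhd_e G eU
    have hd := (j ≫ G.t ≫ eU.hom).dense_smoothLocus_of_perfectField
    obtain ⟨v', hv'⟩ := hd.nonempty
    refine ⟨j v', ?_⟩
    have h1 : v' ∈ j ⁻¹ᵁ (G.t ≫ eU.hom).smoothLocus := by
      rw [Scheme.Hom.preimage_smoothLocus_eq]
      exact hv'
    have h2 : j v' ∈ ((G.t ≫ eU.hom).smoothLocus : Set G.R) := h1
    rw [GrpdSmooth.smoothLocus_comp_iso] at h2
    exact h2
  exact ⟨GrpdSmooth.smooth_s_of_smooth_t G, ht⟩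

end Final

end Groth.Agent.Lib.Seat33.GrpdCartier
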