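import Mathlib
import Groth.Prelude.Def_Grpd
import Groth.Agent.Lib.Helper18Grpd1

/-!
# Seat33GrpdRestrict: restriction of a groupoid scheme along `g : U' ⟶ U`

For a groupoid scheme `(U, R, s, t, c)` over `S` and a morphism `g : U' ⟶ U`, the restriction is
the groupoid scheme `(U', R', s', t', c')` with `R' = (U' ×_{g,U,t} R) ×_{s∘pr,U,g} U'`,
`t'` the projection to the first factor `U'` and `s'` the projection to the last factor `U'`.
A `T`-point of `R'` is a triple `(x, α, y)` with `x y : T ⟶ U'`, `α : T ⟶ R`, `t ∘ α = g ∘ x`,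
`s ∘ α = g ∘ y`; composition is `(x, α, y) ∘ (y, β, z) = (x, α ∘ β, z)`.
-/

set_option autoImplicit false
universe u
open CategoryTheory CategoryTheory.Limits AlgebraicGeometry
open Groth.Agent.Helper18Grpd

namespace Groth.Agent.Lib.Seat33.GrpdRestrict

variable {S : Scheme.{u}} (G : Grpd.GroupoidScheme S) {U' : Scheme.{u}} (g : U' ⟶ G.U)

/-- arrows of the restriction -/
noncomputable abbrev R' : Scheme.{u} := pullback (pullback.snd g G.t ≫ G.s) g

/-- target of the restriction -/
noncomputable def t' : R' G g ⟶ U' := pullback.fst (pullback.snd g G.t ≫ G.s) g ≫ pullback.fst g G.t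

/-- source of the restriction -/
noncomputable def s' : R' G g ⟶ U' := pullback.snd (pullback.snd g G.t ≫ G.s) g

/-- the map to the arrows of `G` -/
noncomputable def b : R' G g ⟶ G.R := pullback.fst (pullback.snd g G.t ≫ G.s) g ≫ pullback.snd g G.t

theorem t'_g : t' G g ≫ g = b G g ≫ G.t := by
  unfold t' b
  rw [Category.assoc, Category.assoc, pullback.condition]

theorem s'_g : s' G g ≫ g = b G g ≫ G.s := by
  unfold s' b
  rw [← pullback.condition, Category.assoc]

variable {G g}

/-- the `T`-point `(x, α, y)` of `R'` -/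
noncomputable def lift {T : Scheme.{u}} (x : T ⟶ U') (α : T ⟶ G.R) (y : T ⟶ U')
    (h1 : α ≫ G.t = x ≫ g) (h2 : α ≫ G.s = y ≫ g) : T ⟶ R' G g :=
  pullback.lift (pullback.lift x α h1.symm) y (by
    rw [← Category.assoc, pullback.lift_snd, h2])

section
variable {T : Scheme.{u}} (x : T ⟶ U') (α : T ⟶ G.R) (y : T ⟶ U')
  (h1 : α ≫ G.t = x ≫ g) (h2 : α ≫ G.s = y ≫ g)

@[reassoc (attr := simp)]
theorem lift_t' : lift x α y h1 h2 ≫ t' G g = x := by
  unfold lift t'
  rw [← Category.assoc, pullback.lift_fst, pullback.lift_fst]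

@[reassoc (attr := simp)]
theorem lift_b : lift x α y h1 h2 ≫ b G g = α := by
  unfold lift b
  rw [← Category.assoc, pullback.lift_fst, pullback.lift_snd]

@[reassoc (attr := simp)]
theorem lift_s' : lift x α y h1 h2 ≫ s' G g = y := by
  unfold lift s'
  rw [pullback.lift_snd]

end

theorem hom_ext {T : Scheme.{u}} {f f' : T ⟶ R' G g} (ht : f ≫ t' G g = f' ≫ t' G g)
    (hb : f ≫ b G g = f' ≫ b G g) (hs : f ≫ s' G g = f' ≫ s' G g) : f = f' := by
  unfold t' at ht
  unfold b at hb
  unfold s' at hs
  apply pullback.hom_ext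
  · apply pullback.hom_ext
    · simpa only [Category.assoc] using ht
    · simpa only [Category.assoc] using hb
  · exact hs

variable (G g)

/-- identity of the restriction -/
noncomputable def e' : U' ⟶ R' G g :=
  lift (𝟙 _) (g ≫ G.e) (𝟙 _) (by rw [Category.assoc, G.e_t, Category.comp_id, Category.id_comp])
    (by rw [Category.assoc, G.e_s, Category.comp_id, Category.id_comp])

/-- inverse of the restriction -/
noncomputable def i' : R' G g ⟶ R' G g :=
  lift (s' G g) (b G g ≫ G.i) (t' G g) (by rw [Category.assoc, G.i_t, s'_g])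
    (by rw [Category.assoc, G.i_s, t'_g])

theorem c'_cond : (pullback.fst (s' G g) (t' G g) ≫ b G g) ≫ G.s =
    (pullback.snd (s' G g) (t' G g) ≫ b G g) ≫ G.t := by
  rw [Category.assoc, ← s'_g, Category.assoc, ← t'_g, ← Category.assoc, ← Category.assoc,
    pullback.condition]

/-- composition of the restriction -/
noncomputable def c' : pullback (s' G g) (t' G g) ⟶ R' G g :=
  lift (pullback.fst (s' G g) (t' G g) ≫ t' G g)
    (cmp G (pullback.fst (s' G g) (t' G g) ≫ b G g) (pullback.snd (s' G g) (t' G g) ≫ b G g)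
      (c'_cond G g))
    (pullback.snd (s' G g) (t' G g) ≫ s' G g)
    (by rw [cmp_t, Category.assoc, Category.assoc, t'_g])
    (by rw [cmp_s, Category.assoc, Category.assoc, s'_g])

theorem e'_b : e' G g ≫ b G g = g ≫ G.e := lift_b _ _ _ _ _
theorem e'_t' : e' G g ≫ t' G g = 𝟙 _ := lift_t' _ _ _ _ _
theorem e'_s' : e' G g ≫ s' G g = 𝟙 _ := lift_s' _ _ _ _ _
theorem i'_b : i' G g ≫ b G g = b G g ≫ G.i := lift_b _ _ _ _ _
theorem i'_t' : i' G g ≫ t' G g = s' G g := lift_t' _ _ _ _ _
theorem i'_s' : i' G g ≫ s' G g = t' G g := lift_s' _ _ _ _ _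

variable {G g}

theorem cond_b {T : Scheme.{u}} (α β : T ⟶ R' G g) (h : α ≫ s' G g = β ≫ t' G g) :
    (α ≫ b G g) ≫ G.s = (β ≫ b G g) ≫ G.t := by
  rw [Category.assoc, ← s'_g, Category.assoc, ← t'_g, ← Category.assoc, ← Category.assoc, h]

theorem lift_c'_b {T : Scheme.{u}} (α β : T ⟶ R' G g) (h : α ≫ s' G g = β ≫ t' G g) :
    (pullback.lift α β h ≫ c' G g) ≫ b G g = cmp G (α ≫ b G g) (β ≫ b G g) (cond_b α β h) := by
  unfold c'
  rw [Category.assoc, lift_b, precomp_cmp]
  refine cmp_congr ?_ ?_ _ _
  · rw [← Category.assoc, pullback.lift_fst]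
  · rw [← Category.assoc, pullback.lift_snd]

theorem lift_c'_t' {T : Scheme.{u}} (α β : T ⟶ R' G g) (h : α ≫ s' G g = β ≫ t' G g) :
    (pullback.lift α β h ≫ c' G g) ≫ t' G g = α ≫ t' G g := by
  unfold c'
  rw [Category.assoc, lift_t', ← Category.assoc, pullback.lift_fst]

theorem lift_c'_s' {T : Scheme.{u}} (α β : T ⟶ R' G g) (h : α ≫ s' G g = β ≫ t' G g) :
    (pullback.lift α β h ≫ c' G g) ≫ s' G g = β ≫ s' G g := by
  unfold c'
  rw [Category.assoc, lift_s', ← Category.assoc, pullback.lift_snd]

variable (G g)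

/-- The restriction of the groupoid scheme `G` along `g : U' ⟶ G.U`. -/
noncomputable def restrict : Grpd.GroupoidScheme S where
  U := U'
  R := R' G g
  pU := g ≫ G.pU
  pR := b G g ≫ G.pR
  s := s' G g
  t := t' G g
  e := e' G g
  i := i' G g
  c := c' G g
  s_over := by rw [← Category.assoc, s'_g, Category.assoc, G.s_over]
  t_over := by rw [← Category.assoc, t'_g, Category.assoc, G.t_over]
  comp_s := fun α β h => lift_c'_s' α β h
  comp_t := fun α β h => lift_c'_t' α β h
  assoc := fun α β γ h₁ h₂ => by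
    apply hom_ext
    · rw [lift_c'_t', lift_c'_t', lift_c'_t']
    · refine (lift_c'_b _ _ _).trans ?_
      refine Eq.trans ?_ (lift_c'_b _ _ _).symm
      have e1 := lift_c'_b α β h₁
      have e2 := lift_c'_b β γ h₂
      refine (cmp_congr e1 rfl _ ((cmp_s _ _ (cond_b α β h₁)).trans (cond_b β γ h₂))).trans ?_
      refine Eq.trans ?_ (cmp_congr rfl e2 _
        ((cond_b α β h₁).trans (cmp_t _ _ (cond_b β γ h₂)).symm)).symm
      exact cmp_assoc _ _ _ _ _
    · rw [lift_c'_s', lift_c'_s', lift_c'_s']
  e_s := e'_s' G g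
  e_t := e'_t' G g
  comp_e := fun α => by
    apply hom_ext
    · rw [lift_c'_t']
    · refine (lift_c'_b _ _ _).trans ?_
      have e1 : (α ≫ s' G g ≫ e' G g) ≫ b G g = (α ≫ b G g) ≫ G.s ≫ G.e := by
        simp only [Category.assoc, e'_b]
        rw [← Category.assoc (s' G g), s'_g, Category.assoc]
      exact (cmp_congr rfl e1 _ (by simp [G.e_t])).trans (cmp_e _)
    · rw [lift_c'_s']
      simp only [Category.assoc, e'_s', Category.comp_id]
  e_comp := fun α => by
    apply hom_ext
    · rw [lift_c'_t']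
      simp only [Category.assoc, e'_t', Category.comp_id]
    · refine (lift_c'_b _ _ _).trans ?_
      have e1 : (α ≫ t' G g ≫ e' G g) ≫ b G g = (α ≫ b G g) ≫ G.t ≫ G.e := by
        simp only [Category.assoc, e'_b]
        rw [← Category.assoc (t' G g), t'_g, Category.assoc]
      exact (cmp_congr e1 rfl _ (by simp [G.e_s])).trans (e_cmp _)
    · rw [lift_c'_s']
  i_s := i'_s' G g
  i_t := i'_t' G g
  comp_i := fun α => by
    apply hom_ext
    · rw [lift_c'_t']
      simp only [Category.assoc, e'_t', Category.comp_id]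
    · refine (lift_c'_b _ _ _).trans ?_
      have e1 : (α ≫ i' G g) ≫ b G g = (α ≫ b G g) ≫ G.i := by
        simp only [Category.assoc, i'_b]
      refine (cmp_congr rfl e1 _ (by rw [inv_t])).trans ?_
      rw [cmp_i]
      simp only [Category.assoc, e'_b]
      rw [← Category.assoc (t' G g), t'_g]
      simp only [Category.assoc]
    · rw [lift_c'_s']
      simp only [Category.assoc, i'_s', e'_s', Category.comp_id]
  i_comp := fun α => by
    apply hom_ext
    · rw [lift_c'_t']
      simp only [Category.assoc, i'_t', e'_t', Category.comp_id]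
    · refine (lift_c'_b _ _ _).trans ?_
      have e1 : (α ≫ i' G g) ≫ b G g = (α ≫ b G g) ≫ G.i := by
        simp only [Category.assoc, i'_b]
      refine (cmp_congr e1 rfl _ (by rw [inv_s])).trans ?_
      rw [i_cmp]
      simp only [Category.assoc, e'_b]
      rw [← Category.assoc (s' G g), s'_g]
      simp only [Category.assoc]
    · rw [lift_c'_s']
      simp only [Category.assoc, e'_s', Category.comp_id]

/-- The canonical morphism from the restriction to `G`. -/
noncomputable def restrictHom : Grpd.GroupoidScheme.Hom (restrict G g) G where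
  fU := g
  fR := b G g
  fU_over := rfl
  comm_s := (s'_g G g).symm
  comm_t := (t'_g G g).symm
  comm_c := fun α β h => lift_c'_b α β h

@[simp] theorem restrict_U : (restrict G g).U = U' := rfl
@[simp] theorem restrict_R : (restrict G g).R = R' G g := rfl
@[simp] theorem restrict_s : (restrict G g).s = s' G g := rfl
@[simp] theorem restrict_t : (restrict G g).t = t' G g := rfl
@[simp] theorem restrict_e : (restrict G g).e = e' G g := rfl

/-- The projection `R' ⟶ R` is flat when `g` is flat. -/
instance flat_b [Flat g] : Flat (b G g) := by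
  unfold b
  have h1 : Flat (pullback.snd g G.t) := inferInstance
  have h2 : Flat (pullback.fst (pullback.snd g G.t ≫ G.s) g) := inferInstance
  infer_instance

end Groth.Agent.Lib.Seat33.GrpdRestrict
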