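import Mathlib
import Groth.Prelude.Def_Grpd
import Groth.Agent.Lib.Helper18Grpd1
import Groth.Agent.Lib.Helper25TensorDomain
import Groth.Agent.Lib.Seat33GrpdRestrict
import Groth.Agent.S7493
import Groth.Agent.S1888

/-!
# Seat33GrpdIrr: irreducible components of a groupoid scheme over a field

For a groupoid scheme `(U, R, s, t, c)` with `U` the spectrum of a field, every point of `R` lies on
exactly one irreducible component, and every local ring of `R` has exactly one minimal prime.
-/

set_option autoImplicit false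
universe u
open CategoryTheory CategoryTheory.Limits AlgebraicGeometry
open Groth.Agent.Helper18Grpd

namespace Groth.Agent.Lib.Seat33.GrpdIrr

section Top

/-- Uniqueness of the irreducible component through a point descends along a continuous
generalizing map. -/
theorem unique_component_of_generalizingMap {X' X : Type*} [TopologicalSpace X']
    [TopologicalSpace X] [QuasiSober X] (p : X' → X) (hp : Continuous p) (hg : GeneralizingMap p)
    (x' : X')
    (huniq : ∀ N₁ ∈ irreducibleComponents X', ∀ N₂ ∈ irreducibleComponents X',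
      x' ∈ N₁ → x' ∈ N₂ → N₁ = N₂)
    {M₁ M₂ : Set X} (h₁ : M₁ ∈ irreducibleComponents X) (h₂ : M₂ ∈ irreducibleComponents X)
    (hx₁ : p x' ∈ M₁) (hx₂ : p x' ∈ M₂) : M₁ = M₂ := by
  have key : ∀ M ∈ irreducibleComponents X, p x' ∈ M →
      ∃ N ∈ irreducibleComponents X', x' ∈ N ∧ M = closure (p '' N) := by
    intro M hM hxM
    have hMcl := isClosed_of_mem_irreducibleComponents _ hM
    let gm := hM.1.genericPoint
    have hgm : IsGenericPoint gm M := hM.1.isGenericPoint_genericPoint hMcl
    obtain ⟨ζ, hζ, hζp⟩ := hg (hgm.specializes hxM)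
    obtain ⟨N, hN, hsub⟩ := exists_mem_irreducibleComponents_subset_of_isIrreducible
      (closure ({ζ} : Set X')) isIrreducible_singleton.closure
    refine ⟨N, hN, hsub hζ.mem_closure, ?_⟩
    have hirr : IsIrreducible (closure (p '' N)) :=
      (hN.1.image _ hp.continuousOn).closure
    have hle : M ⊆ closure (p '' N) := by
      rw [← hgm.def]
      apply closure_mono
      rw [Set.singleton_subset_iff, ← hζp]
      exact ⟨ζ, hsub (subset_closure rfl), rfl⟩
    exact le_antisymm hle (hM.2 hirr hle)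
  obtain ⟨N₁, hN₁, hx'₁, e₁⟩ := key M₁ h₁ hx₁
  obtain ⟨N₂, hN₂, hx'₂, e₂⟩ := key M₂ h₂ hx₂
  rw [e₁, e₂, huniq N₁ hN₁ N₂ hN₂ hx'₁ hx'₂]

/-- Uniqueness of the irreducible component through a point is transported by homeomorphisms. -/
theorem unique_component_of_homeomorph {X : Type*} [TopologicalSpace X] (φ : X ≃ₜ X) (x : X)
    (huniq : ∀ N₁ ∈ irreducibleComponents X, ∀ N₂ ∈ irreducibleComponents X,
      x ∈ N₁ → x ∈ N₂ → N₁ = N₂)
    {M₁ M₂ : Set X} (h₁ : M₁ ∈ irreducibleComponents X) (h₂ : M₂ ∈ irreducibleComponents X)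
    (hx₁ : φ x ∈ M₁) (hx₂ : φ x ∈ M₂) : M₁ = M₂ := by
  have hmem : ∀ M ∈ irreducibleComponents X, φ ⁻¹' M ∈ irreducibleComponents X := by
    intro M hM
    have h1 : IsIrreducible (φ ⁻¹' M) := by
      rw [← φ.image_symm]
      exact hM.1.image _ φ.symm.continuous.continuousOn
    refine ⟨h1, ?_⟩
    intro N hN hle
    have h2 : IsIrreducible (φ '' N) := hN.image _ φ.continuous.continuousOn
    have h3 : M ⊆ φ '' N := by
      intro y hy
      refine ⟨φ.symm y, hle ?_, by simp⟩
      simpa using hy
    have h4 := hM.2 h2 h3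
    intro y hy
    exact h4 ⟨y, hy, rfl⟩
  have := huniq _ (hmem M₁ h₁) _ (hmem M₂ h₂) hx₁ hx₂
  have h5 : φ '' (φ ⁻¹' M₁) = φ '' (φ ⁻¹' M₂) := by rw [this]
  rwa [φ.image_preimage, φ.image_preimage] at h5

end Top

section Stalk

/-- If a point of a scheme lies on a unique irreducible component, its local ring has a unique
minimal prime. -/
theorem minimalPrimes_stalk_subsingleton_of_unique (X : Scheme.{u}) (x : X)
    (huniq' : ∀ M₁ ∈ irreducibleComponents X, ∀ M₂ ∈ irreducibleComponents X,
      x ∈ M₁ → x ∈ M₂ → M₁ = M₂) :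
    (minimalPrimes (X.presheaf.stalk x)).Subsingleton := by
  intro p₁ hp₁ p₂ hp₂
  let j := X.fromSpecStalk x
  have hj : Topology.IsEmbedding j := j.isEmbedding
  have key : ∀ p ∈ minimalPrimes (X.presheaf.stalk x), ∀ M ∈ irreducibleComponents X,
      x ∈ M → (∀ M' ∈ irreducibleComponents X, x ∈ M' → M' = M) →
      ∃ Q : ↥(Spec (X.presheaf.stalk x)), IsGenericPoint (j Q) M ∧ Q.asIdeal = p := by
    intro p hp M hM hxM huniq
    have hpp : p.IsPrime := hp.1.1
    let P : ↥(Spec (X.presheaf.stalk x)) :=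
      (⟨p, hpp⟩ : PrimeSpectrum (X.presheaf.stalk x))
    have hPx : j P ⤳ x := by
      have : j P ∈ Set.range j := ⟨P, rfl⟩
      rw [Scheme.range_fromSpecStalk] at this
      exact this
    obtain ⟨M', hM', hsub⟩ := exists_mem_irreducibleComponents_subset_of_isIrreducible
      (closure ({j P} : Set X)) isIrreducible_singleton.closure
    have hM'M : M' = M := huniq M' hM' (hsub hPx.mem_closure)
    rw [hM'M] at hsub
    have hMcl := isClosed_of_mem_irreducibleComponents _ hM
    let gm := hM.1.genericPoint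
    have hgm : IsGenericPoint gm M := hM.1.isGenericPoint_genericPoint hMcl
    have hgx : gm ⤳ x := hgm.specializes hxM
    have : gm ∈ Set.range j := by rw [Scheme.range_fromSpecStalk]; exact hgx
    obtain ⟨Q, hQ⟩ := this
    refine ⟨Q, by rw [hQ]; exact hgm, ?_⟩
    have hQP : Q ⤳ P := by
      rw [← hj.isInducing.specializes_iff, hQ]
      exact hgm.specializes (hsub (subset_closure rfl))
    have hle : Q.asIdeal ≤ p := (PrimeSpectrum.le_iff_specializes Q P).mpr hQP
    exact le_antisymm hle (hp.2 ⟨Q.isPrime, bot_le⟩ hle)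
  let M := irreducibleComponent x
  have hM : M ∈ irreducibleComponents X := irreducibleComponent_mem_irreducibleComponents x
  have hxM : x ∈ M := mem_irreducibleComponent
  have huniq : ∀ M' ∈ irreducibleComponents X, x ∈ M' → M' = M :=
    fun M' hM' hx' => huniq' M' hM' M hM hx' hxM
  obtain ⟨Q₁, hQ₁, rfl⟩ := key p₁ hp₁ M hM hxM huniq
  obtain ⟨Q₂, hQ₂, rfl⟩ := key p₂ hp₂ M hM hxM huniq
  rw [hj.injective (hQ₁.eq hQ₂)]

end Stalk

section AlgClosed

variable {S : Scheme.{u}} (G : Grpd.GroupoidScheme S) {k : Type u} [Field k]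
  (eU : G.U ≅ Spec (CommRingCat.of k))

/-- an irreducible closed subset is the range of a closed immersion from an irreducible scheme -/
theorem exists_hom_range_eq (X : Scheme.{u}) (Z : Set X) (hZ : IsIrreducible Z)
    (hcl : IsClosed Z) :
    ∃ (Z' : Scheme.{u}) (i : Z' ⟶ X), IrreducibleSpace Z' ∧ IsClosedImmersion i ∧
      Set.range i = Z := by
  let I := Scheme.IdealSheafData.vanishingIdeal ⟨Z, hcl⟩
  have hr : Set.range I.subschemeι = Z := by
    rw [Scheme.IdealSheafData.range_subschemeι, Scheme.IdealSheafData.coe_support_vanishingIdeal]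
    rfl
  refine ⟨I.subscheme, I.subschemeι, ?_, inferInstance, hr⟩
  have h1 : IrreducibleSpace Z := Subtype.irreducibleSpace hZ
  let e : I.subscheme ≃ₜ Set.range I.subschemeι :=
    I.subschemeι.isEmbedding.toHomeomorph
  have h2 : IrreducibleSpace (Set.range I.subschemeι) := by rw [hr]; exact h1
  exact e.irreducibleSpace_iff.mpr h2

include eU in
/-- Over an algebraically closed field, exactly one irreducible component of `R` passes through
the identity. -/
theorem unique_component_e [IsAlgClosed k] (u : G.U) {X Y : Set G.R}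
    (hX : X ∈ irreducibleComponents G.R) (hY : Y ∈ irreducibleComponents G.R)
    (heX : G.e u ∈ X) (heY : G.e u ∈ Y) : X = Y := by
  have hS : Subsingleton G.U := (eU.hom.homeomorph.injective).subsingleton
  obtain ⟨X', iX, hX'irr, hX'cl, hX'r⟩ := exists_hom_range_eq G.R X hX.1
    (isClosed_of_mem_irreducibleComponents _ hX)
  obtain ⟨Y', iY, hY'irr, hY'cl, hY'r⟩ := exists_hom_range_eq G.R Y hY.1
    (isClosed_of_mem_irreducibleComponents _ hY)
  have hgi : GeometricallyIrreducible (iX ≫ G.s) := by
    have h1 : GeometricallyIrreducible ((iX ≫ G.s) ≫ eU.hom) :=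
      Groth.Agent.Lib.Helper25.TensorDomain.geometricallyIrreducible_of_isAlgClosed _
    exact (MorphismProperty.cancel_right_of_respectsIso @GeometricallyIrreducible
      (iX ≫ G.s) eU.hom).mp h1
  have huo : UniversallyOpen (iX ≫ G.s) := by
    have h1 : UniversallyOpen ((iX ≫ G.s) ≫ eU.hom) := inferInstance
    exact (MorphismProperty.cancel_right_of_respectsIso @UniversallyOpen
      (iX ≫ G.s) eU.hom).mp h1
  have hP : IrreducibleSpace ↥(pullback (iX ≫ G.s) (iY ≫ G.t)) := inferInstance
  let mp : pullback (iX ≫ G.s) (iY ≫ G.t) ⟶ pullback G.s G.t :=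
    pullback.map (iX ≫ G.s) (iY ≫ G.t) G.s G.t iX iY (𝟙 _) (by simp) (by simp)
  have hrange : Set.range mp = pullback.fst G.s G.t ⁻¹' X ∩ pullback.snd G.s G.t ⁻¹' Y := by
    rw [Scheme.Pullback.range_map, hX'r, hY'r]
  set A : Set G.R := G.c '' (pullback.fst G.s G.t ⁻¹' X ∩ pullback.snd G.s G.t ⁻¹' Y) with hA
  have hAirr : IsIrreducible A := by
    rw [hA, ← hrange, ← Set.image_univ]
    exact ((IrreducibleSpace.isIrreducible_univ _).image _ mp.continuous.continuousOn).image _
      G.c.continuous.continuousOn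
  have hXA : X ⊆ A := by
    intro x hx
    let σ : G.R ⟶ pullback G.s G.t := pullback.lift (𝟙 _) (G.s ≫ G.e)
      (by rw [Category.id_comp, Category.assoc, G.e_t, Category.comp_id])
    refine ⟨σ x, ⟨?_, ?_⟩, ?_⟩
    · show pullback.fst G.s G.t (σ x) ∈ X
      rw [← Scheme.Hom.comp_apply, pullback.lift_fst]
      exact hx
    · show pullback.snd G.s G.t (σ x) ∈ Y
      rw [← Scheme.Hom.comp_apply, pullback.lift_snd, Scheme.Hom.comp_apply,
        Subsingleton.elim (G.s x) u]
      exact heY
    · rw [← Scheme.Hom.comp_apply]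
      have : σ ≫ G.c = 𝟙 _ := by
        have := G.comp_e (𝟙 G.R)
        simpa only [Category.id_comp] using this
      rw [this]
      rfl
  have hYA : Y ⊆ A := by
    intro y hy
    let σ : G.R ⟶ pullback G.s G.t := pullback.lift (G.t ≫ G.e) (𝟙 _)
      (by rw [Category.id_comp, Category.assoc, G.e_s, Category.comp_id])
    refine ⟨σ y, ⟨?_, ?_⟩, ?_⟩
    · show pullback.fst G.s G.t (σ y) ∈ X
      rw [← Scheme.Hom.comp_apply, pullback.lift_fst, Scheme.Hom.comp_apply,
        Subsingleton.elim (G.t y) u]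
      exact heX
    · show pullback.snd G.s G.t (σ y) ∈ Y
      rw [← Scheme.Hom.comp_apply, pullback.lift_snd]
      exact hy
    · rw [← Scheme.Hom.comp_apply]
      have : σ ≫ G.c = 𝟙 _ := by
        have := G.e_comp (𝟙 G.R)
        simpa only [Category.id_comp] using this
      rw [this]
      rfl
  have h1 : X = A := le_antisymm hXA (hX.2 hAirr hXA)
  have h2 : Y = A := le_antisymm hYA (hY.2 hAirr hYA)
  rw [h1, h2]

end AlgClosed

section Main

variable (S : Scheme.{u}) (G : Grpd.GroupoidScheme S) (k : Type u) [Field k]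
  (eU : G.U ≅ Spec (CommRingCat.of k))

include eU in
/-- Over an algebraically closed field, a point of `R` at which `s` and `t` induce isomorphisms of
residue fields lies on a unique irreducible component. -/
theorem unique_component_of_rational [IsAlgClosed k] (r : G.R)
    (hs : IsIso (G.s.residueFieldMap r)) (ht : IsIso (G.t.residueFieldMap r))
    {M₁ M₂ : Set G.R} (h₁ : M₁ ∈ irreducibleComponents G.R) (h₂ : M₂ ∈ irreducibleComponents G.R)
    (hx₁ : r ∈ M₁) (hx₂ : r ∈ M₂) : M₁ = M₂ := by
  obtain ⟨φ, hφ⟩ := Groth.Agent.S1888.result S G k eU r hs ht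
  refine unique_component_of_homeomorph φ.hom.homeomorph
    (G.e (eU.inv (IsLocalRing.closedPoint k)))
    (fun N₁ hN₁ N₂ hN₂ h1 h2 => unique_component_e G eU _ hN₁ hN₂ h1 h2) h₁ h₂ ?_ ?_
  · show φ.hom _ ∈ M₁
    rw [hφ]; exact hx₁
  · show φ.hom _ ∈ M₂
    rw [hφ]; exact hx₂

include eU in
/-- Every point of the arrows of a groupoid scheme over a field lies on a unique irreducible
component. -/
theorem unique_component (r : G.R)
    {M₁ M₂ : Set G.R} (h₁ : M₁ ∈ irreducibleComponents G.R) (h₂ : M₂ ∈ irreducibleComponents G.R)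
    (hx₁ : r ∈ M₁) (hx₂ : r ∈ M₂) : M₁ = M₂ := by
  obtain ⟨k', hk'f, hk'c, hk'a, r', hr', hs', ht'⟩ := Groth.Agent.S7493.result S G k eU r
  letI := hk'f
  letI := hk'a
  have := hk'c
  let g : Spec (CommRingCat.of k') ⟶ G.U := Spec.map (CommRingCat.ofHom (algebraMap k k')) ≫ eU.inv
  have hflat : Flat g := by
    have h1 : Flat (Spec.map (CommRingCat.ofHom (algebraMap k k'))) := by
      rw [HasRingHomProperty.Spec_iff (P := @Flat)]
      rw [CommRingCat.hom_ofHom, RingHom.flat_algebraMap_iff]
      infer_instance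
    infer_instance
  have hgen : GeneralizingMap (GrpdRestrict.b G g) := Flat.generalizingMap _
  have hr'' : GrpdRestrict.b G g r' = r := hr'
  subst hr''
  refine unique_component_of_generalizingMap (GrpdRestrict.b G g)
    (GrpdRestrict.b G g).continuous hgen r' ?_ h₁ h₂ hx₁ hx₂
  intro N₁ hN₁ N₂ hN₂ h1 h2
  exact unique_component_of_rational S (GrpdRestrict.restrict G g) k' (Iso.refl _) r' hs' ht'
    hN₁ hN₂ h1 h2

/-- S1882. -/
theorem main :
    (∀ r : G.R, (minimalPrimes (G.R.presheaf.stalk r)).Subsingleton) ∧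
      ∃! Z : Set G.R, Z ∈ irreducibleComponents (G.R : Type u) ∧
        G.e (eU.inv (IsLocalRing.closedPoint k)) ∈ Z := by
  refine ⟨fun r => minimalPrimes_stalk_subsingleton_of_unique G.R r
    (fun M₁ hM₁ M₂ hM₂ h1 h2 => unique_component S G k eU r hM₁ hM₂ h1 h2), ?_⟩
  refine ⟨irreducibleComponent (G.e (eU.inv (IsLocalRing.closedPoint k))),
    ⟨irreducibleComponent_mem_irreducibleComponents _, mem_irreducibleComponent⟩, ?_⟩
  rintro Z ⟨hZ, heZ⟩
  exact unique_component S G k eU _ hZ (irreducibleComponent_mem_irreducibleComponents _) heZ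
    mem_irreducibleComponent

end Main

end Groth.Agent.Lib.Seat33.GrpdIrr
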