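import Mathlib
import Groth.Agent.Lib.Helper6Chevalley

/-!
# Seat33TwoFields: two field structures on a finite type domain

* `isIntegral_of_field_of_finiteType`: if `B` is a domain of finite type over a field `k₁` and
  `φ : k₂ →+* B` is a ring homomorphism from a field, then every `φ a` is integral over `k₁`.
  (Chevalley: if `b = φ a` were transcendental the image of `Spec B → 𝔸¹` would contain a nonempty
  open, but it misses the zeros of `Tⁿ - 1` for all `n`.)
* `eq_algebraMap_of_retraction`: if moreover `k₂ = k₁ = k`, and `ε : B →+* k` is a common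
  retraction of `algebraMap k B` and `φ`, then `φ = algebraMap k B`.
-/

set_option autoImplicit false
universe u
open Polynomial

namespace Groth.Agent.Lib.Seat33.TwoFields

variable {k₁ : Type u} [Field k₁]

/-- A nonzero polynomial over a field misses a prime containing `Tⁿ - 1` for suitable `n`. -/
theorem exists_prime_X_pow_sub_one (f : k₁[X]) (hf : f ≠ 0) :
    ∃ (n : ℕ) (p : Ideal k₁[X]), 0 < n ∧ p.IsPrime ∧ (X ^ n - 1 : k₁[X]) ∈ p ∧ f ∉ p := by
  classical
  obtain ⟨n, hn, hnk⟩ : ∃ n : ℕ, f.natDegree < n ∧ ((n : ℕ) : k₁) ≠ 0 := by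
    by_cases h : ((f.natDegree + 1 : ℕ) : k₁) = 0
    · refine ⟨f.natDegree + 2, by omega, ?_⟩
      have : ((f.natDegree + 2 : ℕ) : k₁) = ((f.natDegree + 1 : ℕ) : k₁) + 1 := by
        push_cast; ring
      rw [this, h, zero_add]
      exact one_ne_zero
    · exact ⟨f.natDegree + 1, by omega, h⟩
  have hsep : (X ^ n - 1 : k₁[X]).Separable := by
    have := separable_X_pow_sub_C (1 : k₁) hnk one_ne_zero
    simpa using this
  have hrad : IsRadical (X ^ n - 1 : k₁[X]) := hsep.squarefree.isRadical
  by_contra hcon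
  push_neg at hcon
  have hmem : f ∈ (Ideal.span {(X ^ n - 1 : k₁[X])}).radical := by
    rw [Ideal.radical_eq_sInf, Ideal.mem_sInf]
    rintro p ⟨hle, hp⟩
    by_contra hfp
    exact hfp (hcon n p (by omega) hp (hle (Ideal.subset_span rfl)))
  obtain ⟨N, hN⟩ := hmem
  rw [Ideal.mem_span_singleton] at hN
  have hdvd : (X ^ n - 1 : k₁[X]) ∣ f := hrad N f hN
  have hdeg := natDegree_le_of_dvd hdvd hf
  have : (X ^ n - 1 : k₁[X]).natDegree = n := by
    have := natDegree_X_pow_sub_C (R := k₁) (n := n) (r := 1)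
    simpa using this
  omega

variable {B : Type u} [CommRing B] [IsDomain B] [Algebra k₁ B] [Algebra.FiniteType k₁ B]
  {k₂ : Type*} [Field k₂]

/-- In a domain of finite type over a field `k₁`, the image of any field is integral over `k₁`. -/
theorem isIntegral_of_field_of_finiteType (φ : k₂ →+* B) (a : k₂) : IsIntegral k₁ (φ a) := by
  by_contra hint
  set b := φ a with hb
  have htr : Transcendental k₁ b := fun h => hint h.isIntegral
  have hinj : Function.Injective (aeval (R := k₁) b) := transcendental_iff_injective.mp htr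
  let ψ : k₁[X] →+* B := (aeval (R := k₁) b).toRingHom
  have hψ : ψ.FiniteType := by
    have h1 : (ψ.comp (algebraMap k₁ k₁[X])).FiniteType := by
      have : ψ.comp (algebraMap k₁ k₁[X]) = algebraMap k₁ B := by
        ext x
        simp [ψ]
      rw [this]
      exact RingHom.finiteType_algebraMap.mpr inferInstance
    exact RingHom.FiniteType.of_comp_finiteType h1
  have hbot : (⊥ : Ideal B).IsPrime := Ideal.isPrime_bot
  have hcomap : (⊥ : Ideal B).comap ψ = ⊥ := by
    rw [← RingHom.ker_eq_comap_bot]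
    exact (RingHom.injective_iff_ker_eq_bot ψ).mp hinj
  obtain ⟨f, hf, hall⟩ := Groth.Agent.Lib.Helper6.exists_forall_prime_of_finiteType ψ hψ ⊥
    (fun p _ => by rw [hcomap]; exact bot_le)
  rw [hcomap, Ideal.mem_bot] at hf
  obtain ⟨n, p, hn, hp, hQ, hfp⟩ := exists_prime_X_pow_sub_one f hf
  obtain ⟨q', hq', hq'p⟩ := hall p hp hfp
  have hmem : b ^ n - 1 ∈ q' := by
    have h1 : ψ (X ^ n - 1) ∈ q' := by
      have : (X ^ n - 1 : k₁[X]) ∈ q'.comap ψ := by rw [hq'p]; exact hQ
      exact this
    simpa [ψ] using h1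
  have hb' : b ^ n - 1 = φ (a ^ n - 1) := by simp [hb]
  by_cases ha : a ^ n - 1 = 0
  · -- `b` is a root of `Tⁿ - 1`
    apply hint
    refine ⟨X ^ n - 1, monic_X_pow_sub_C (1 : k₁) (by omega), ?_⟩
    have : b ^ n - 1 = 0 := by rw [hb', ha, map_zero]
    simpa using this
  · have hu : IsUnit (b ^ n - 1) := by
      rw [hb']
      exact (IsUnit.mk0 _ ha).map φ
    exact hq'.ne_top (Ideal.eq_top_of_isUnit_mem _ hmem hu)

/-- Two field structures `k → B` on a finite type `k`-domain with a common retraction agree. -/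
theorem eq_algebraMap_of_retraction {k : Type u} [Field k] {B : Type u} [CommRing B] [IsDomain B]
    [Algebra k B] [Algebra.FiniteType k B] (φ : k →+* B) (ε : B →+* k)
    (h₁ : ∀ a, ε (algebraMap k B a) = a) (h₂ : ∀ a, ε (φ a) = a) (a : k) :
    φ a = algebraMap k B a := by
  have hint : IsIntegral k (φ a) := isIntegral_of_field_of_finiteType φ a
  let εA : B →ₐ[k] k := { ε with commutes' := fun r => h₁ r }
  have hirr : Irreducible (minpoly k (φ a)) := minpoly.irreducible hint
  have hroot : (minpoly k (φ a)).IsRoot a := by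
    have h3 : aeval (εA (φ a)) (minpoly k (φ a)) = 0 := by
      rw [aeval_algHom_apply, minpoly.aeval, map_zero]
    have h4 : εA (φ a) = a := h₂ a
    rw [h4] at h3
    rwa [IsRoot, ← coe_aeval_eq_eval]
  have hdeg := degree_eq_one_of_irreducible_of_root hirr hroot
  obtain ⟨c, hc⟩ := minpoly.mem_range_of_degree_eq_one k (φ a) hdeg
  have : c = a := by
    have h5 := congrArg ε hc
    rw [h₁, h₂] at h5
    exact h5
  rw [← hc, this]

end Groth.Agent.Lib.Seat33.TwoFields
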