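import Mathlib
import Groth.Prelude.Def_Grpd
import Groth.Agent.Lib.Seat33GrpdIrr
import Groth.Agent.Lib.Seat33TwoFields
import Groth.Agent.Lib.Seat94LocIntegral
import Groth.Agent.Lib.Helper6RelGal
import Groth.Agent.S7518

/-!
# Seat33GrpdDim: a groupoid scheme over a field and its stabilizer have the same dimension

`(U, R, s, t, c)` groupoid scheme, `U = Spec k`, `s`, `t` locally of finite type.  An irreducible
affine open neighbourhood `Spec B` of the identity point exists (unique irreducible component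
through it).  On `B / nilradical` (a finite type `k`-domain via `s`) the two field structures
`s♯, t♯ : k → B` have the common retraction `e♯`, so they agree; hence `Spec (B / nilradical)`
maps to the stabilizer.  Together with `localDim = dim` (S7518) this gives
`dim R ≤ dim Spec B ≤ dim stabilizer ≤ dim R`.
-/

set_option autoImplicit false
set_option linter.style.haveILetI false
universe u
open CategoryTheory CategoryTheory.Limits AlgebraicGeometry TopologicalSpace

namespace Groth.Agent.Lib.Seat33.GrpdDim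

section Top

/-- Uniqueness of the irreducible component through a point passes to open subspaces. -/
theorem unique_component_of_isOpenEmbedding {X' X : Type*} [TopologicalSpace X']
    [TopologicalSpace X] (p : X' → X) (hp : Topology.IsOpenEmbedding p) (x' : X')
    (huniq : ∀ M₁ ∈ irreducibleComponents X, ∀ M₂ ∈ irreducibleComponents X,
      p x' ∈ M₁ → p x' ∈ M₂ → M₁ = M₂) :
    ∀ N₁ ∈ irreducibleComponents X', ∀ N₂ ∈ irreducibleComponents X',
      x' ∈ N₁ → x' ∈ N₂ → N₁ = N₂ := by
  have key : ∀ N ∈ irreducibleComponents X', x' ∈ N →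
      ∃ M ∈ irreducibleComponents X, p x' ∈ M ∧ N = p ⁻¹' M := by
    intro N hN hx
    have h1 : IsIrreducible (p '' N) := hN.1.image _ hp.continuous.continuousOn
    obtain ⟨M, hM, hsub⟩ := exists_mem_irreducibleComponents_subset_of_isIrreducible _ h1
    refine ⟨M, hM, hsub ⟨x', hx, rfl⟩, ?_⟩
    have h2 : IsIrreducible (p ⁻¹' M) :=
      ⟨⟨x', hsub ⟨x', hx, rfl⟩⟩, hM.1.isPreirreducible.preimage hp⟩
    have h3 : N ⊆ p ⁻¹' M := fun y hy => hsub ⟨y, hy, rfl⟩
    exact le_antisymm h3 (hN.2 h2 h3)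
  intro N₁ hN₁ N₂ hN₂ h1 h2
  obtain ⟨M₁, hM₁, hx₁, rfl⟩ := key N₁ hN₁ h1
  obtain ⟨M₂, hM₂, hx₂, rfl⟩ := key N₂ hN₂ h2
  rw [huniq M₁ hM₁ M₂ hM₂ hx₁ hx₂]

end Top

section Nhd

/-- A point of a locally Noetherian scheme lying on a unique irreducible component has an
irreducible affine open neighbourhood. -/
theorem exists_irreducible_affine_nhd (X : Scheme.{u}) [IsLocallyNoetherian X] (x : X)
    (huniq : ∀ M₁ ∈ irreducibleComponents X, ∀ M₂ ∈ irreducibleComponents X,
      x ∈ M₁ → x ∈ M₂ → M₁ = M₂) :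
    ∃ V : X.Opens, IsAffineOpen V ∧ x ∈ V ∧ IsIrreducible (V : Set X) := by
  obtain ⟨_, ⟨V₀, hV₀, rfl⟩, hxV₀, -⟩ :=
    X.isBasis_affineOpens.exists_subset_of_mem_open (Set.mem_univ x) isOpen_univ
  haveI : IsNoetherianRing Γ(X, V₀) := IsLocallyNoetherian.component_noetherian ⟨V₀, hV₀⟩
  haveI : NoetherianSpace ↥V₀ := noetherianSpace_of_isAffineOpen V₀ hV₀
  have hemb : Topology.IsOpenEmbedding (Subtype.val : ↥V₀ → X) := V₀.isOpen.isOpenEmbedding_subtypeVal
  obtain ⟨W, hWo, hxW, hWirr⟩ := Groth.Agent.Lib.Seat94.LocIntegral.exists_open_preirreducible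
    (T := ↥V₀) ⟨x, hxV₀⟩
    (unique_component_of_isOpenEmbedding Subtype.val hemb ⟨x, hxV₀⟩ huniq)
  have hW'o : IsOpen (Subtype.val '' W) := hemb.isOpenMap W hWo
  have hW'irr : IsPreirreducible (Subtype.val '' W) :=
    hWirr.image _ continuous_subtype_val.continuousOn
  obtain ⟨_, ⟨V, hV, rfl⟩, hxV, hVW⟩ :=
    X.isBasis_affineOpens.exists_subset_of_mem_open (⟨⟨x, hxV₀⟩, hxW, rfl⟩ : x ∈ Subtype.val '' W)
      hW'o
  exact ⟨V, hV, hxV, ⟨x, hxV⟩, hW'irr.open_subset V.isOpen hVW⟩

end Nhd

section Main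

open Groth.Agent.Lib.Seat33.TwoFields

variable {S : Scheme.{u}} (G : Grpd.GroupoidScheme S) {k : Type u} [Field k]
  (eU : G.U ≅ Spec (CommRingCat.of k))

/-- the ring-level core: `s♯` and `t♯` agree modulo the nilradical on an irreducible affine
neighbourhood of the identity. -/
theorem sub_mem_nilradical {B : Type u} [CommRing B] (hN : (nilradical B).IsPrime)
    (φ₁ φ₂ : k →+* B) (hφ₁ : φ₁.FiniteType) (ε : B →+* k) (h₁ : ∀ a, ε (φ₁ a) = a)
    (h₂ : ∀ a, ε (φ₂ a) = a) (a : k) : φ₁ a - φ₂ a ∈ nilradical B := by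
  letI : Algebra k B := φ₁.toAlgebra
  have hft : Algebra.FiniteType k B := hφ₁
  let B' := B ⧸ nilradical B
  haveI : IsDomain B' := Ideal.Quotient.isDomain _
  haveI : Algebra.FiniteType k B' :=
    Algebra.FiniteType.of_surjective (Ideal.Quotient.mkₐ k (nilradical B))
      (Ideal.Quotient.mkₐ_surjective k _)
  have hker : nilradical B ≤ RingHom.ker ε := by
    intro x hx
    obtain ⟨n, hn⟩ := (mem_nilradical.mp hx : IsNilpotent x)
    rw [RingHom.mem_ker]
    have : (ε x) ^ n = 0 := by rw [← map_pow, hn, map_zero]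
    exact pow_eq_zero_iff (n := n) (fun h0 => by subst h0; simp at this) |>.mp this
  let ε' : B' →+* k := Ideal.Quotient.lift (nilradical B) ε (fun x hx => hker hx)
  have key := eq_algebraMap_of_retraction (k := k) (B := B')
    ((Ideal.Quotient.mk (nilradical B)).comp φ₂) ε'
    (fun a => by
      change ε' (Ideal.Quotient.mk _ (φ₁ a)) = a
      rw [Ideal.Quotient.lift_mk]; exact h₁ a)
    (fun a => by
      change ε' (Ideal.Quotient.mk _ (φ₂ a)) = a
      rw [Ideal.Quotient.lift_mk]; exact h₂ a) a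
  have key' : Ideal.Quotient.mk (nilradical B) (φ₂ a) = Ideal.Quotient.mk (nilradical B) (φ₁ a) :=
    key
  rw [← Ideal.Quotient.eq]
  exact key'.symm

include eU in
/-- an irreducible affine open neighbourhood of the identity is, up to nilpotents, contained in
the stabilizer -/
theorem exists_hom_stabilizer [LocallyOfFiniteType G.s] (V : G.R.Opens) (hV : IsAffineOpen V)
    (heV : G.e (eU.inv (IsLocalRing.closedPoint k)) ∈ V) (hirr : IsIrreducible (V : Set G.R)) :
    ∃ (Z : Scheme.{u}) (ℓ : Z ⟶ G.stabilizer), Topology.IsEmbedding ℓ ∧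
      Set.range (ℓ ≫ pullback.fst G.j G.diag) = V := by
  let B : Type u := Γ(G.R, V)
  let i : Spec (CommRingCat.of B) ⟶ G.R := hV.fromSpec
  haveI : IsOpenImmersion i := inferInstanceAs (IsOpenImmersion hV.fromSpec)
  have hri : Set.range i = V := hV.range_fromSpec
  -- the two field structures and the retraction
  obtain ⟨φ₁, hφ₁⟩ : ∃ φ₁ : k →+* B, Spec.map (CommRingCat.ofHom φ₁) = i ≫ G.s ≫ eU.hom :=
    ⟨(Spec.preimage (i ≫ G.s ≫ eU.hom)).hom, Spec.map_preimage _⟩
  obtain ⟨φ₂, hφ₂⟩ : ∃ φ₂ : k →+* B, Spec.map (CommRingCat.ofHom φ₂) = i ≫ G.t ≫ eU.hom :=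
    ⟨(Spec.preimage (i ≫ G.t ≫ eU.hom)).hom, Spec.map_preimage _⟩
  have hrange : Set.range (eU.inv ≫ G.e) ⊆ Set.range i := by
    rintro _ ⟨x, rfl⟩
    have hx : x = IsLocalRing.closedPoint k := Subsingleton.elim (α := PrimeSpectrum k) _ _
    rw [hx, hri]
    exact heV
  obtain ⟨ε, hε⟩ : ∃ ε : B →+* k, Spec.map (CommRingCat.ofHom ε) ≫ i = eU.inv ≫ G.e :=
    ⟨(Spec.preimage (IsOpenImmersion.lift i (eU.inv ≫ G.e) hrange)).hom, by
      rw [CommRingCat.ofHom_hom, Spec.map_preimage, IsOpenImmersion.lift_fac]⟩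
  have h₁ : ∀ a, ε (φ₁ a) = a := by
    have h : CommRingCat.ofHom φ₁ ≫ CommRingCat.ofHom ε = 𝟙 _ := by
      apply Spec.map_injective
      rw [Spec.map_comp, hφ₁, ← Category.assoc, hε, Spec.map_id]
      simp only [Category.assoc]
      rw [← Category.assoc G.e, G.e_s, Category.id_comp, Iso.inv_hom_id]
    intro a
    have := congrArg (fun f => f.hom a) h
    simpa using this
  have h₂ : ∀ a, ε (φ₂ a) = a := by
    have h : CommRingCat.ofHom φ₂ ≫ CommRingCat.ofHom ε = 𝟙 _ := by
      apply Spec.map_injective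
      rw [Spec.map_comp, hφ₂, ← Category.assoc, hε, Spec.map_id]
      simp only [Category.assoc]
      rw [← Category.assoc G.e, G.e_t, Category.id_comp, Iso.inv_hom_id]
    intro a
    have := congrArg (fun f => f.hom a) h
    simpa using this
  have hft : φ₁.FiniteType := by
    have h : LocallyOfFiniteType (Spec.map (CommRingCat.ofHom φ₁)) := by
      rw [hφ₁]; infer_instance
    rw [HasRingHomProperty.Spec_iff (P := @LocallyOfFiniteType)] at h
    exact h
  have hN : (nilradical B).IsPrime := by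
    rw [← PrimeSpectrum.irreducibleSpace_iff_isPrime_nilradical]
    exact Groth.Agent.Lib.Helper6.RelGal.irreducibleSpace_of_isInducing i
      i.isOpenEmbedding.isInducing (hri ▸ hirr)
  have hsub := sub_mem_nilradical hN φ₁ φ₂ hft ε h₁ h₂
  -- the reduced neighbourhood
  let π : CommRingCat.of B ⟶ CommRingCat.of (B ⧸ nilradical B) :=
    CommRingCat.ofHom (Ideal.Quotient.mk (nilradical B))
  let ι : Spec (CommRingCat.of (B ⧸ nilradical B)) ⟶ G.R := Spec.map π ≫ i
  have hst : ι ≫ G.s = ι ≫ G.t := by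
    rw [← cancel_mono eU.hom]
    simp only [ι, Category.assoc]
    rw [← hφ₁, ← hφ₂, ← Spec.map_comp, ← Spec.map_comp]
    congr 1
    ext a
    have := hsub a
    change Ideal.Quotient.mk (nilradical B) (φ₁ a) = Ideal.Quotient.mk (nilradical B) (φ₂ a)
    rw [Ideal.Quotient.eq]
    exact this
  have hcond : ι ≫ G.j = (ι ≫ G.s) ≫ G.diag := by
    unfold Grpd.GroupoidScheme.j Grpd.GroupoidScheme.diag
    apply pullback.hom_ext
    · simp only [Category.assoc, pullback.lift_fst, Category.comp_id]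
      exact hst.symm
    · simp only [Category.assoc, pullback.lift_snd, Category.comp_id]
  let ℓ : Spec (CommRingCat.of (B ⧸ nilradical B)) ⟶ G.stabilizer :=
    pullback.lift ι (ι ≫ G.s) hcond
  have hℓ : ℓ ≫ pullback.fst G.j G.diag = ι := pullback.lift_fst _ _ _
  have hπhomeo : IsHomeomorph (Spec.map π) := by
    have hsurj : Function.Surjective (Ideal.Quotient.mk (nilradical B)) :=
      Ideal.Quotient.mk_surjective
    have hcl : Topology.IsClosedEmbedding (Spec.map π) :=
      PrimeSpectrum.isClosedEmbedding_comap_of_surjective _ _ hsurj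
    refine (isHomeomorph_iff_isEmbedding_surjective).mpr ⟨hcl.isEmbedding, ?_⟩
    intro x
    have hx : x ∈ Set.range (PrimeSpectrum.comap (Ideal.Quotient.mk (nilradical B))) := by
      rw [range_comap_of_surjective _ _ hsurj, Ideal.mk_ker]
      exact fun y hy => nilradical_le_prime x.asIdeal hy
    exact hx
  have hιemb : Topology.IsEmbedding ι := by
    have : Topology.IsEmbedding ⇑(Spec.map π ≫ i) := by
      rw [Scheme.Hom.comp_base, TopCat.coe_comp]
      exact i.isEmbedding.comp hπhomeo.isEmbedding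
    exact this
  refine ⟨_, ℓ, ?_, ?_⟩
  · have h1 : Topology.IsEmbedding (⇑(pullback.fst G.j G.diag) ∘ ⇑ℓ) := by
      have : ⇑(ℓ ≫ pullback.fst G.j G.diag) = ⇑(pullback.fst G.j G.diag) ∘ ⇑ℓ := rfl
      rw [← this, hℓ]
      exact hιemb
    exact Topology.IsEmbedding.of_comp ℓ.continuous (pullback.fst G.j G.diag).continuous h1
  · rw [hℓ]
    change Set.range ⇑(Spec.map π ≫ i) = _
    rw [Scheme.Hom.comp_base, TopCat.coe_comp, Set.range_comp, hπhomeo.surjective.range_eq,
      Set.image_univ, hri]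

/-- the stabilizer is (topologically) a subspace of `R` -/
theorem isEmbedding_stabilizer : Topology.IsEmbedding (pullback.fst G.j G.diag) := by
  have h1 : IsImmersion G.diag := by
    unfold Grpd.GroupoidScheme.diag
    exact inferInstanceAs (IsImmersion (pullback.diagonal G.pU))
  have h2 : IsImmersion (pullback.fst G.j G.diag) := inferInstance
  exact (pullback.fst G.j G.diag).isEmbedding

variable (S)

include eU in
/-- S1883 -/
theorem main [LocallyOfFiniteType G.s] [LocallyOfFiniteType G.t] :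
    topologicalKrullDim G.R = topologicalKrullDim G.stabilizer := by
  apply le_antisymm
  · set e₀ := G.e (eU.inv (IsLocalRing.closedPoint k)) with he₀
    haveI : LocallyOfFiniteType (G.s ≫ eU.hom) := inferInstance
    haveI : IsLocallyNoetherian G.R := LocallyOfFiniteType.isLocallyNoetherian (G.s ≫ eU.hom)
    obtain ⟨V, hV, heV, hirr⟩ := exists_irreducible_affine_nhd G.R e₀
      (fun M₁ hM₁ M₂ hM₂ h1 h2 => GrpdIrr.unique_component S G k eU e₀ hM₁ hM₂ h1 h2)
    obtain ⟨Z, ℓ, hℓ, hrange⟩ := exists_hom_stabilizer G eU V hV heV hirr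
    have h1 : topologicalKrullDim G.R ≤ topologicalKrullDim (V : Set G.R) := by
      rw [← (Groth.Agent.S7518.result S G k eU).2 e₀]
      unfold FlatMor.localDim
      exact iInf_le _ (⟨⟨V.1, V.2⟩, heV⟩ : {U : TopologicalSpace.Opens G.R // e₀ ∈ U})
    have hemb : Topology.IsEmbedding ⇑(ℓ ≫ pullback.fst G.j G.diag) := by
      rw [Scheme.Hom.comp_base, TopCat.coe_comp]
      exact (isEmbedding_stabilizer G).comp hℓ
    have h2 : topologicalKrullDim (V : Set G.R) = topologicalKrullDim Z := by
      let h : Z ≃ₜ Set.range ⇑(ℓ ≫ pullback.fst G.j G.diag) := hemb.toHomeomorph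
      have h3 : topologicalKrullDim Z =
          topologicalKrullDim (Set.range ⇑(ℓ ≫ pullback.fst G.j G.diag)) :=
        IsHomeomorph.topologicalKrullDim_eq h h.isHomeomorph
      rw [h3, hrange]
    exact h1.trans (h2.le.trans hℓ.isInducing.topologicalKrullDim_le)
  · exact (isEmbedding_stabilizer G).isInducing.topologicalKrullDim_le

end Main

end Groth.Agent.Lib.Seat33.GrpdDim
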