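import Mathlib
import Groth.Agent.Lib.Seat33GrpdAffThick

/-!
# Invariant affine basic opens for a finite groupoid immersed in an affine scheme (seat 33)

`main4`: for a groupoid with `s, t` finite and of finite presentation, an immersion `j : U ⟶ Spec A`, an ideal
`I` with `j(U) ∩ V(I) = ∅` and `V(I) ∪ j(U)` closed, and finitely many points with generic orbits, there is
`h ∈ I` with `j⁻¹ D(h)` an `R`-invariant affine open containing these points.
-/

set_option autoImplicit false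
set_option linter.style.haveILetI false
set_option linter.unusedSectionVars false
universe u
open CategoryTheory CategoryTheory.Limits AlgebraicGeometry TopologicalSpace Opposite

namespace Groth.Agent.Lib.Seat33.GrpdImmAff

open Groth.Agent.Lib.Seat19.GrpdPts Groth.Agent.Lib.Seat33.GrpdInvAff

/-- Prime avoidance: an ideal not contained in any of finitely many primes has an element outside all of them. -/
theorem exists_mem_notMem_of_finite {A : Type*} [CommRing A] (J : Ideal A) (T : Set (PrimeSpectrum A))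
    (hT : T.Finite) (hJ : ∀ p ∈ T, ¬ ((J : Set A) ⊆ p.asIdeal)) :
    ∃ h ∈ J, ∀ p ∈ T, h ∉ p.asIdeal := by
  classical
  rcases T.eq_empty_or_nonempty with hTe | ⟨p₀, hp₀⟩
  · exact ⟨0, J.zero_mem, fun p hp => by rw [hTe] at hp; exact hp.elim⟩
  have hnot : ¬ ((J : Set A) ⊆ ⋃ p ∈ (↑hT.toFinset : Set (PrimeSpectrum A)), (p.asIdeal : Set A)) := by
    intro hsub
    obtain ⟨p, hp, hle⟩ := (Ideal.subset_union_prime (f := fun p : PrimeSpectrum A => p.asIdeal)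
      p₀ p₀ (fun p _ _ _ => p.isPrime)).mp hsub
    exact hJ p ((Set.Finite.mem_toFinset _).mp hp) hle
  obtain ⟨h, hhJ, hhT⟩ := Set.not_subset.mp hnot
  refine ⟨h, hhJ, fun p hp hmem => hhT ?_⟩
  simp only [Set.mem_iUnion]
  exact ⟨p, by rw [Finset.mem_coe, Set.Finite.mem_toFinset]; exact hp, hmem⟩

/-- A function on the basic open `D(h)` of `Spec A` has the same nonvanishing locus there as some `a ∈ A`. -/
theorem exists_basicOpen_eq {A : Type u} [CommRing A] (h : A) (Dh : (Spec (CommRingCat.of A)).Opens)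
    (hDh : Dh = PrimeSpectrum.basicOpen h) (M : Γ((Dh : Scheme.{u}), ⊤)) :
    ∃ a : A, ∀ p : Dh, p ∈ (Dh : Scheme.{u}).basicOpen M ↔ a ∉ p.1.asIdeal := by
  have hDh' : Dh = (Spec (CommRingCat.of A)).basicOpen ((Scheme.ΓSpecIso (CommRingCat.of A)).inv h) := by
    rw [hDh]; exact (basicOpen_eq_of_affine (R := CommRingCat.of A) h).symm
  subst hDh'
  obtain ⟨aΓ, haΓ⟩ := (isAffineOpen_top (Spec (CommRingCat.of A))).basicOpen_basicOpen_is_basicOpen
    ((Scheme.ΓSpecIso (CommRingCat.of A)).inv h) ((Scheme.Opens.topIso _).hom M)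
  refine ⟨(Scheme.ΓSpecIso (CommRingCat.of A)).hom aΓ, fun p => ?_⟩
  have h1 := Scheme.Opens.ι_image_basicOpen_topIso_inv _ ((Scheme.Opens.topIso _).hom M)
  rw [Iso.hom_inv_id_apply, ← haΓ, basicOpen_eq_of_affine' aΓ] at h1
  constructor
  · intro hp
    have h2 : (Scheme.Opens.ι _) p ∈ (Scheme.Opens.ι _) ''ᵁ
        (Scheme.basicOpen _ M) := ⟨p, hp, rfl⟩
    rw [h1] at h2
    exact h2
  · intro hp
    have h2 : (Scheme.Opens.ι _) p ∈ (Scheme.Opens.ι _) ''ᵁ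
        (Scheme.basicOpen _ M) := by
      rw [h1]; exact hp
    obtain ⟨q, hq, hqp⟩ := h2
    have : q = p := (Scheme.Opens.ι _).isOpenEmbedding.injective hqp
    rwa [this] at hq

variable {S : Scheme.{u}} (G : Grpd.GroupoidScheme S)

theorem main4 [IsFinite G.s] [LocallyOfFinitePresentation G.s] [IsFinite G.t]
    [LocallyOfFinitePresentation G.t] (m : ℕ) (u : Fin m → G.U)
    (hu : ∀ i (r : G.R), G.s r = u i → ∀ x : G.U, x ⤳ G.t r → x = G.t r)
    (A : Type u) [CommRing A] (j : G.U ⟶ Spec (CommRingCat.of A)) [IsImmersion j] (I : Ideal A)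
    (hI : ∀ x : G.U, j x ∉ PrimeSpectrum.zeroLocus (I : Set A))
    (hcl : IsClosed (PrimeSpectrum.zeroLocus (I : Set A) ∪ Set.range j)) :
    ∃ h ∈ I, IsAffineOpen (j ⁻¹ᵁ PrimeSpectrum.basicOpen h) ∧
      (∀ i, u i ∈ j ⁻¹ᵁ PrimeSpectrum.basicOpen h) ∧
      G.s ⁻¹ᵁ (j ⁻¹ᵁ PrimeSpectrum.basicOpen h) = G.t ⁻¹ᵁ (j ⁻¹ᵁ PrimeSpectrum.basicOpen h) := by
  classical
  haveI : QuasiSeparatedSpace G.U := quasiSeparatedSpace_of_quasiSeparated j
  obtain ⟨V, V', hVaff, huV, hVinv, hV'supp, -, -, hflf, -⟩ :=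
    Groth.Agent.Lib.Seat33.GrpdStrat.main3 G m u hu
  haveI : IsAffine (V : Scheme.{u}) := hVaff
  haveI : IsAffine V'.subscheme := isAffine_of_isAffineHom V'.subschemeι
  obtain ⟨ι', hι'⟩ : ∃ ι' : V'.subscheme ⟶ G.U, ι' = V'.subschemeι ≫ V.ι := ⟨_, rfl⟩
  rw [← hι'] at hflf
  have hι'V : ∀ x', ι' x' ∈ V := fun x' => by
    rw [hι', Scheme.Hom.comp_apply]
    exact (V'.subschemeι x').2
  have hι'surj : ∀ x ∈ V, ∃ x', ι' x' = x := by
    intro x hx
    have h1 : (⟨x, hx⟩ : V) ∈ Set.range V'.subschemeι := by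
      rw [Scheme.IdealSheafData.range_subschemeι, hV'supp]
      trivial
    obtain ⟨x', hx'⟩ := h1
    refine ⟨x', ?_⟩
    rw [hι', Scheme.Hom.comp_apply, hx']
    rfl
  have hinv : ∀ r : G.R, G.s r ∈ V ↔ G.t r ∈ V := fun r => by
    have := congr(r ∈ $hVinv)
    exact this.to_iff
  -- the orbit of the points
  set O : Set G.U := G.t '' (G.s ⁻¹' Set.range u) with hOdef
  have hOfin : O.Finite :=
    ((Set.finite_range u).preimage' fun x _ => G.s.finite_preimage_singleton x).image _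
  have hOV : O ⊆ V := by
    rintro _ ⟨r, ⟨i, hi⟩, rfl⟩
    exact (hinv r).1 (hi ▸ huV i)
  -- the ideal
  set C : Set (PrimeSpectrum A) := j '' ((V : Set G.U)ᶜ) with hCdef
  set J : Ideal A := I ⊓ PrimeSpectrum.vanishingIdeal C with hJdef
  have hemb : Topology.IsEmbedding j := j.isEmbedding
  have hclC : closure C ⊆ PrimeSpectrum.zeroLocus (I : Set A) ∪ C := by
    intro p hp
    have h1 : p ∈ PrimeSpectrum.zeroLocus (I : Set A) ∪ Set.range j :=
      closure_minimal (fun q hq => Or.inr (Set.image_subset_range _ _ hq)) hcl hp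
    rcases h1 with h1 | ⟨x, rfl⟩
    · exact Or.inl h1
    · right
      have h2 : x ∈ closure ((V : Set G.U)ᶜ) := by
        rw [hemb.isInducing.closure_eq_preimage_closure_image]
        exact hp
      have h3 : IsClosed ((V : Set G.U)ᶜ) := V.2.isClosed_compl
      rw [h3.closure_eq] at h2
      exact ⟨x, h2, rfl⟩
  have hOJ : ∀ p ∈ j '' O, ¬ ((J : Set A) ⊆ p.asIdeal) := by
    rintro _ ⟨o, ho, rfl⟩ hle
    have h1 : j o ∈ PrimeSpectrum.zeroLocus (J : Set A) := (PrimeSpectrum.mem_zeroLocus _ _).mpr hle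
    rw [hJdef, PrimeSpectrum.zeroLocus_inf, PrimeSpectrum.zeroLocus_vanishingIdeal_eq_closure] at h1
    rcases h1 with h1 | h1
    · exact hI o h1
    · rcases hclC h1 with h2 | ⟨x, hx, hxo⟩
      · exact hI o h2
      · exact hx (hemb.injective hxo ▸ hOV ho)
  obtain ⟨h, hhJ, hhO⟩ := exists_mem_notMem_of_finite J (j '' O) (hOfin.image _) hOJ
  have hhI : h ∈ I := hhJ.1
  have hhC : ∀ x : G.U, x ∉ V → h ∈ (j x).asIdeal := fun x hx =>
    (PrimeSpectrum.mem_vanishingIdeal _ _).1 hhJ.2 (j x) ⟨x, hx, rfl⟩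
  have hhV : ∀ x : G.U, h ∉ (j x).asIdeal → x ∈ V := fun x hx => by
    by_contra hxV
    exact hx (hhC x hxV)
  -- the basic open
  obtain ⟨hΓ, hhΓ⟩ : ∃ hΓ : Γ(Spec (CommRingCat.of A), ⊤),
      hΓ = (Scheme.ΓSpecIso (CommRingCat.of A)).inv h := ⟨_, rfl⟩
  obtain ⟨Dh, hDhdef⟩ : ∃ Dh : (Spec (CommRingCat.of A)).Opens,
      Dh = (Spec (CommRingCat.of A)).basicOpen hΓ := ⟨_, rfl⟩
  have hDh : Dh = PrimeSpectrum.basicOpen h := by
    rw [hDhdef, hhΓ]; exact basicOpen_eq_of_affine (R := CommRingCat.of A) h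
  have hmemDh : ∀ p : Spec (CommRingCat.of A), p ∈ Dh ↔ h ∉ p.asIdeal := fun p => by
    rw [hDh]; exact Iff.rfl
  have hDhaff : IsAffineOpen Dh := by
    rw [hDhdef]; exact (isAffineOpen_top _).basicOpen hΓ
  -- the function `f` on `V`
  have eV : V ≤ j ⁻¹ᵁ ⊤ := fun _ _ => trivial
  obtain ⟨V₁, hV₁def⟩ : ∃ V₁ : G.U.Opens, V₁ = j ⁻¹ᵁ Dh := ⟨_, rfl⟩
  have hmemV₁ : ∀ x : G.U, x ∈ V₁ ↔ h ∉ (j x).asIdeal := fun x => by
    rw [hV₁def]; exact hmemDh (j x)
  have hV₁V : V₁ ≤ V := fun x hx => hhV x ((hmemV₁ x).1 hx)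
  set f : Γ(G.U, V) := (j.appLE ⊤ V eV).hom hΓ with hfdef
  have hV₁ : V₁ = G.U.basicOpen f := by
    have h1 := Scheme.basicOpen_appLE j V ⊤ eV hΓ
    rw [hfdef]
    refine Eq.trans ?_ h1.symm
    rw [← hDhdef, ← hV₁def]
    exact (inf_eq_right.2 hV₁V).symm
  have hfA : (V₁ : Set G.U) ⊆ sat G V := by
    intro x hx r hr
    exact (hinv r).1 (hr ▸ hV₁V hx)
  -- the closed immersion
  obtain ⟨ψ, hψdef⟩ : ∃ ψ : V'.subscheme ⟶ Spec (CommRingCat.of A), ψ = ι' ≫ j := ⟨_, rfl⟩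
  haveI : IsImmersion ι' := by rw [hι']; infer_instance
  haveI : IsImmersion ψ := by rw [hψdef]; infer_instance
  have hψpt : ∀ x', ψ x' = j (ι' x') := fun x' => by rw [hψdef, Scheme.Hom.comp_apply]
  have hO'eq : ψ ⁻¹ᵁ Dh = ι' ⁻¹ᵁ V₁ := by rw [hψdef, hV₁def]; rfl
  have hO' : IsAffineOpen (ψ ⁻¹ᵁ Dh) := hDhaff.preimage ψ
  obtain ⟨N, hN⟩ := norm_core' G ι' hflf V f V₁ hV₁ hfA (ψ ⁻¹ᵁ Dh) hO'eq hO'
  have hκrange : Set.range (ψ ∣_ Dh) =
      Dh.ι ⁻¹' (PrimeSpectrum.zeroLocus (I : Set A) ∪ Set.range j) := by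
    ext p
    constructor
    · rintro ⟨x', rfl⟩
      right
      refine ⟨ι' x'.1, ?_⟩
      show _ = ((ψ ∣_ Dh) x').1
      rw [morphismRestrict_base_coe, hψpt]
    · rintro (hp | ⟨x, hx⟩)
      · exfalso
        exact (hmemDh _).1 p.2 (((PrimeSpectrum.mem_zeroLocus _ _).1 hp) hhI)
      · have hx1 : j x = p.1 := hx
        have hxV : x ∈ V := hhV x (by rw [hx1]; exact (hmemDh _).1 p.2)
        obtain ⟨x', hx'⟩ := hι'surj x hxV
        have hx'O : x' ∈ ψ ⁻¹ᵁ Dh := by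
          show ψ x' ∈ Dh
          rw [hψpt, hx', hx1]; exact p.2
        refine ⟨⟨x', hx'O⟩, Subtype.ext ?_⟩
        rw [morphismRestrict_base_coe, hψpt, hx', hx1]
  haveI : IsClosedImmersion (ψ ∣_ Dh) := IsClosedImmersion.of_isPreimmersion _
    (by rw [hκrange]; exact hcl.preimage Dh.ι.continuous)
  haveI : IsAffine (Dh : Scheme.{u}) := hDhaff
  obtain ⟨M, hM⟩ := (IsClosedImmersion.isAffine_surjective_of_isAffine (ψ ∣_ Dh)).2 N
  have hNM : ∀ x' : (ψ ⁻¹ᵁ Dh : V'.subscheme.Opens),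
      x' ∈ Scheme.basicOpen _ N ↔ (ψ ∣_ Dh) x' ∈ Scheme.basicOpen _ M := by
    intro x'
    rw [← hM, ← Scheme.preimage_basicOpen_top (ψ ∣_ Dh) M]
    rfl
  obtain ⟨a, ha⟩ := exists_basicOpen_eq h Dh hDh M
  have hkey : ∀ x : G.U, h * a ∉ (j x).asIdeal ↔ x ∈ sat G (V₁ : Set G.U) := by
    intro x
    have hprime := (j x).isPrime
    constructor
    · intro hx
      have hxh : h ∉ (j x).asIdeal := fun hh => hx (Ideal.mul_mem_right _ _ hh)
      have hxa : a ∉ (j x).asIdeal := fun ha' => hx (Ideal.mul_mem_left _ _ ha')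
      have hxV : x ∈ V := hhV x hxh
      obtain ⟨x', hx'⟩ := hι'surj x hxV
      have hx'O : x' ∈ ψ ⁻¹ᵁ Dh := by
        show ψ x' ∈ Dh
        rw [hψpt, hx']; exact (hmemDh _).2 hxh
      have hz : ((ψ ∣_ Dh) ⟨x', hx'O⟩).1 = j x := by
        rw [morphismRestrict_base_coe, hψpt, hx']
      have h1 : (ψ ∣_ Dh) ⟨x', hx'O⟩ ∈ Scheme.basicOpen _ M := (ha _).2 (by rw [hz]; exact hxa)
      have h2 := (hN ⟨x', hx'O⟩).1 ((hNM _).2 h1)
      intro r hr
      exact h2 r (by rw [hr, hx'])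
    · intro hx
      have hxV₁ : x ∈ V₁ := sat_subset G _ hx
      have hxh : h ∉ (j x).asIdeal := (hmemV₁ x).1 hxV₁
      have hxV : x ∈ V := hhV x hxh
      obtain ⟨x', hx'⟩ := hι'surj x hxV
      have hx'O : x' ∈ ψ ⁻¹ᵁ Dh := by
        show ψ x' ∈ Dh
        rw [hψpt, hx']; exact (hmemDh _).2 hxh
      have hz : ((ψ ∣_ Dh) ⟨x', hx'O⟩).1 = j x := by
        rw [morphismRestrict_base_coe, hψpt, hx']
      have h2 : (⟨x', hx'O⟩ : (ψ ⁻¹ᵁ Dh : V'.subscheme.Opens)) ∈ Scheme.basicOpen _ N :=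
        (hN ⟨x', hx'O⟩).2 (fun r hr => hx r (by rw [hr, hx']))
      have h1 := (hNM _).1 h2
      have hxa : a ∉ (j x).asIdeal := by
        have := (ha _).1 h1
        rwa [hz] at this
      intro hmem
      rcases hprime.mem_or_mem hmem with h3 | h3
      · exact hxh h3
      · exact hxa h3
  refine ⟨h * a, I.mul_mem_right a hhI, ?_, ?_, ?_⟩
  · have hle : j ⁻¹ᵁ PrimeSpectrum.basicOpen (h * a) ≤ V := fun x hx =>
      hhV x (fun hh => hx (Ideal.mul_mem_right _ _ hh))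
    have h1 := Scheme.basicOpen_appLE j V ⊤ eV ((Scheme.ΓSpecIso (CommRingCat.of A)).inv (h * a))
    rw [basicOpen_eq_of_affine, inf_eq_right.2 hle] at h1
    rw [← h1]
    exact hVaff.basicOpen _
  · intro i
    show h * a ∉ (j (u i)).asIdeal
    rw [hkey]
    intro r hr
    exact (hmemV₁ _).2 (hhO _ ⟨G.t r, ⟨r, ⟨i, hr.symm⟩, rfl⟩, rfl⟩)
  · ext ρ
    show h * a ∉ (j (G.s ρ)).asIdeal ↔ h * a ∉ (j (G.t ρ)).asIdeal
    rw [hkey, hkey]
    exact s_mem_sat_iff G _ ρ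

end Groth.Agent.Lib.Seat33.GrpdImmAff
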