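/-
Seat33: finite groupoids on separated locally Noetherian schemes: a point whose orbit consists of
points of codimension at most one lies in an invariant affine open (Stacks, Groupoids, finite
groupoids), given that the finite orbit lies in an affine open.
-/
import Mathlib
import Groth.Agent.Lib.Seat33GrpdImmAff
import Groth.Agent.Lib.Seat33GrpdStrat2
import Groth.Agent.Lib.Seat33GrpdRestrict

set_option autoImplicit false
set_option linter.style.haveILetI false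
set_option linter.unusedSectionVars false
universe u
open CategoryTheory CategoryTheory.Limits AlgebraicGeometry TopologicalSpace Opposite

namespace Groth.Agent.Lib.Seat33.GrpdDimOne

open Groth.Agent.Lib.Seat19.GrpdPts Groth.Agent.Lib.Seat33.GrpdOrbit

variable {S : Scheme.{u}} (G : Grpd.GroupoidScheme S)

section Generic

/-- a strict generization of a point of codimension at most one is a maximal point. -/
theorem eq_of_specializes_of_dim_le_one {X : Scheme.{u}} {u' z y : X}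
    (hdim : ringKrullDim (X.presheaf.stalk u') ≤ 1) (hz : z ⤳ u') (hzu : z ≠ u') (hy : y ⤳ z) :
    y = z := by
  by_contra hyz
  have h1 : u' < z := ⟨hz, fun h => hzu (hz.antisymm h).eq⟩
  have h2 : z < y := ⟨hy, fun h => hyz (hy.antisymm h).eq⟩
  have h3 := Order.coheight_add_one_le h1
  have h4 := Order.coheight_add_one_le h2
  rw [ringKrullDim_stalk_eq_coheight] at hdim
  have h5 : Order.coheight u' ≤ 1 := by exact_mod_cast hdim
  have h6 : Order.coheight y + 1 + 1 ≤ 1 := (add_le_add_left h4 1).trans (h3.trans h5)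
  have h7 : (2 : ℕ∞) ≤ Order.coheight y + 1 + 1 := by
    rw [add_assoc]
    exact le_add_self
  have : (2 : ℕ∞) ≤ 1 := h7.trans h6
  exact absurd this (by decide)

/-- **Orbits of codimension-one points outside the generic stratum are generic in the
complement.** -/
theorem eq_of_specializes_of_notMem [IsFinite G.s] [IsFinite G.t] (W : G.U.Opens)
    (hWgen : ∀ u : G.U, (∀ r : G.R, G.s r = u → ∀ x : G.U, x ⤳ G.t r → x = G.t r) → u ∈ W)
    (u : G.U) (hdim : ∀ r : G.R, G.s r = u → ringKrullDim (G.U.presheaf.stalk (G.t r)) ≤ 1)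
    (r₀ : G.R) (hr₀ : G.s r₀ = u) (z : G.U) (hzW : z ∉ W) (hz : z ⤳ G.t r₀) : z = G.t r₀ := by
  by_contra hne
  apply hzW
  apply hWgen
  intro r hr x hx
  -- lift `z ⤳ t r₀` along the closed map `s`
  have hsp : G.s r ⤳ G.t r₀ := by rw [hr]; exact hz
  -- an arrow from `t r₀` ... we use the inverse of `r₀` composed suitably: work with `i r₀`
  -- `s (i r₀) = t r₀`
  have hsi : G.s (G.i r₀) = G.t r₀ := s_i G r₀
  obtain ⟨r', hrr', hr's⟩ := G.s.isClosedMap.specializingMap hsp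
  -- `t r ⤳ t r'`, and `t r'` is in the orbit of `u`
  have htt : G.t r ⤳ G.t r' := hrr'.map G.t.continuous
  -- `s r' = t r₀ = t r₀`, compose `r'` with `r₀`
  obtain ⟨ρ, hρs, hρt⟩ := Groth.Agent.Lib.Seat33.GrpdOrbit.exists_comp G r' r₀ hr's
  have hdim' : ringKrullDim (G.U.presheaf.stalk (G.t r')) ≤ 1 := by
    rw [← hρt]
    exact hdim ρ (hρs.trans hr₀)
  by_cases heq : G.t r = G.t r'
  · -- then `z` is in the orbit of `u`, and `z ⤳ t r₀` forces `z = t r₀`
    exfalso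
    -- an arrow from `t r₀` to `z`: `ρ' = i r ∘ ρ`, with `s ρ' = u`... use `not_specializes_of_finite`
    have hsir : G.s (G.i r) = G.t r := s_i G r
    have htir : G.t (G.i r) = G.s r := t_i G r
    -- compose `i r` after `ρ` : `s (i r) = t r = t r' = t ρ`
    obtain ⟨ρ', hρ's, hρ't⟩ := Groth.Agent.Lib.Seat33.GrpdOrbit.exists_comp G (G.i r) ρ
      (by rw [hsir, heq, hρt])
    -- `s ρ' = s ρ = u`, `t ρ' = s r = z`; and `r₀` from `u` to `t r₀`
    -- arrow from `z` to `t r₀`: `r₀ ∘ i ρ'`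
    obtain ⟨σ, hσs, hσt⟩ := Groth.Agent.Lib.Seat33.GrpdOrbit.exists_comp G r₀ (G.i ρ')
      (by rw [hr₀, t_i G ρ', hρ's, hρs, hr₀])
    have hσs' : G.s σ = z := by rw [hσs, s_i G ρ', hρ't, htir, hr]
    apply not_specializes_of_finite G σ
    · rw [hσs', hσt]; exact hne
    · rw [hσs', hσt]; exact hz
  · -- `t r` is a strict generization of the codimension-one point `t r'`
    exact eq_of_specializes_of_dim_le_one hdim' htt heq hx

end Generic

section Affine

open Groth.Agent.Lib.Seat19.InvOpen Groth.Agent.Lib.Seat33.GrpdInvAff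

/-- an open of an affine open `O` which is affine locally on `O` is affine. -/
theorem isAffineOpen_of_locally {X : Scheme.{u}} (O V : X.Opens) (hO : IsAffineOpen O) (hVO : V ≤ O)
    (h : ∀ y ∈ O, ∃ N : X.Opens, IsAffineOpen N ∧ y ∈ N ∧ N ≤ O ∧ IsAffineOpen (V ⊓ N)) :
    IsAffineOpen V := by
  haveI : IsAffine (O : Scheme.{u}) := hO
  have hhom : IsAffineHom (X.homOfLE hVO) := by
    apply isAffineHom_of_forall_exists_isAffineOpen
    intro y
    obtain ⟨N, hN, hyN, hNO, hVN⟩ := h y.1 y.2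
    refine ⟨O.ι ⁻¹ᵁ N, hyN, hN.preimage_of_isOpenImmersion O.ι
      (by rw [Scheme.Opens.opensRange_ι]; exact hNO), ?_⟩
    have h1 : X.homOfLE hVO ⁻¹ᵁ (O.ι ⁻¹ᵁ N) = V.ι ⁻¹ᵁ N := by
      rw [← Scheme.Hom.comp_preimage, Scheme.homOfLE_ι]
    rw [h1, ← V.ι.isAffineOpen_iff_of_isOpenImmersion, V.ι.image_preimage_eq_opensRange_inf,
      Scheme.Opens.opensRange_ι]
    exact hVN
  exact isAffine_of_isAffineHom (X.homOfLE hVO)

variable [IsFinite G.s]

/-- **The trace of a saturation on an affine open of the finite locally free locus is affine.** -/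
theorem exists_isAffineOpen_inter_sat (W : G.U.Opens) {U' : Scheme.{u}}
    (c : U' ⟶ W) [IsClosedImmersion c] (hc : Function.Surjective c)
    (hflf : Mor2.IsFinLocFree (pullback.snd G.s (c ≫ W.ι)))
    (A : G.U.Opens) (f : Γ(G.U, A)) (hfA : ((G.U.basicOpen f : G.U.Opens) : Set G.U) ⊆ sat G A)
    (N : G.U.Opens) (hN : IsAffineOpen N) (hNW : N ≤ W) (hNf : N ≤ G.U.basicOpen f) :
    ∃ V : G.U.Opens, IsAffineOpen V ∧
      (V : Set G.U) = (N : Set G.U) ∩ sat G ((G.U.basicOpen f : G.U.Opens) : Set G.U) := by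
  classical
  set V₁ : G.U.Opens := G.U.basicOpen f with hV₁def
  set V₁w : (W : Scheme.{u}).Opens := W.ι ⁻¹ᵁ N with hV₁wdef
  have hV₁w : IsAffineOpen V₁w :=
    hN.preimage_of_isOpenImmersion W.ι (by rw [Scheme.Opens.opensRange_ι]; exact hNW)
  set O' : U'.Opens := c ⁻¹ᵁ V₁w with hO'def
  have hO' : IsAffineOpen O' := hV₁w.preimage c
  haveI : IsAffine (O' : Scheme.{u}) := hO'
  haveI : IsAffine (V₁w : Scheme.{u}) := hV₁w
  obtain ⟨ι', hι'⟩ : ∃ ι' : U' ⟶ G.U, ι' = c ≫ W.ι := ⟨_, rfl⟩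
  rw [← hι'] at hflf
  have hφ : Mor2.IsFinLocFree (pullback.snd G.s (O'.ι ≫ ι')) :=
    (Groth.Agent.Lib.Seat33.GrpdStrat.isFinLocFree_restrict_iff G.s ι' O').1
      (isFinLocFree_restrict _ hflf O')
  obtain ⟨P, φ, a, hPdef⟩ : ∃ (P : Scheme.{u}) (φ : P ⟶ O') (a : P ⟶ G.R),
      IsPullback a φ G.s (O'.ι ≫ ι') ∧ Mor2.IsFinLocFree φ :=
    ⟨_, _, _, IsPullback.of_hasPullback _ _, hφ⟩
  obtain ⟨hpb, hφ'⟩ := hPdef
  haveI : IsFinite φ := hφ'.1
  haveI : Flat φ := hφ'.2.1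
  haveI : LocallyOfFinitePresentation φ := hφ'.2.2
  haveI : IsAffine P := isAffine_of_isAffineHom φ
  have hιpt : ∀ x' : U', ι' x' = (c x').1 := fun x' => by
    rw [hι', Scheme.Hom.comp_apply]; rfl
  have hsa : ∀ y : P, G.s (a y) = (c (φ y).1).1 := fun y => by
    rw [← Scheme.Hom.comp_apply, hpb.w, Scheme.Hom.comp_apply, Scheme.Hom.comp_apply, hιpt]
    rfl
  have hsaN : ∀ y : P, G.s (a y) ∈ N := fun y => by
    rw [hsa]
    exact (φ y).2
  have hτ : (⊤ : P.Opens) ≤ (a ≫ G.t) ⁻¹ᵁ A := by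
    intro y _
    show (a ≫ G.t) y ∈ A
    rw [Scheme.Hom.comp_apply]
    exact (hfA (hNf (hsaN y))) (a y) rfl
  let g : Γ(P, ⊤) := ((a ≫ G.t).appLE A ⊤ hτ).hom f
  have hg : ∀ y : P, y ∈ P.basicOpen g ↔ G.t (a y) ∈ V₁ := by
    intro y
    have h1 : P.basicOpen g = ⊤ ⊓ (a ≫ G.t) ⁻¹ᵁ (G.U.basicOpen f) :=
      Scheme.basicOpen_appLE (a ≫ G.t) ⊤ A hτ f
    rw [h1]
    constructor
    · rintro ⟨-, h⟩
      have h' : (a ≫ G.t) y ∈ V₁ := h
      rwa [Scheme.Hom.comp_apply] at h'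
    · intro h
      refine ⟨trivial, ?_⟩
      show (a ≫ G.t) y ∈ V₁
      rwa [Scheme.Hom.comp_apply]
  obtain ⟨M, hM⟩ := exists_norm_affine φ g
  -- lift the norm to `V₁w`
  have hsurj : Function.Surjective (c ∣_ V₁w).appTop :=
    (IsClosedImmersion.isAffine_surjective_of_isAffine (c ∣_ V₁w)).2
  obtain ⟨M', hM'⟩ := hsurj M
  have hMM' : ∀ x' : O', x' ∈ (O' : Scheme.{u}).basicOpen M ↔
      (c ∣_ V₁w) x' ∈ (V₁w : Scheme.{u}).basicOpen M' := by
    intro x'
    rw [← hM']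
    have := Scheme.preimage_basicOpen_top (c ∣_ V₁w) M'
    rw [← this]
    rfl
  let V : G.U.Opens := W.ι ''ᵁ (V₁w.ι ''ᵁ ((V₁w : Scheme.{u}).basicOpen M'))
  have hVaff : IsAffineOpen V :=
    ((isAffineOpen_top (V₁w : Scheme.{u})).basicOpen M' |>.image_of_isOpenImmersion V₁w.ι)
      |>.image_of_isOpenImmersion W.ι
  have hcres : ∀ x' : O', ((c ∣_ V₁w) x').1 = c x'.1 := fun x' =>
    morphismRestrict_base_coe c V₁w x'
  refine ⟨V, hVaff, ?_⟩
  ext x
  constructor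
  · rintro ⟨w, ⟨z, hz, rfl⟩, rfl⟩
    obtain ⟨x', hx'⟩ := hc (V₁w.ι z)
    have hx'O : x' ∈ O' := by
      show c x' ∈ V₁w
      rw [hx']; exact z.2
    have hz' : (c ∣_ V₁w) ⟨x', hx'O⟩ = z := Subtype.ext ((hcres _).trans hx')
    have h1 := (hM ⟨x', hx'O⟩).1 ((hMM' ⟨x', hx'O⟩).2 (hz' ▸ hz))
    refine ⟨z.2, ?_⟩
    intro r hr
    have hcond : G.s r = (O'.ι ≫ ι') ⟨x', hx'O⟩ := by
      rw [hr, Scheme.Hom.comp_apply, hιpt]
      show W.ι (V₁w.ι z) = _
      rw [← hx']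
      rfl
    obtain ⟨y, hy1, hy2⟩ := Scheme.exists_preimage_of_isPullback hpb r ⟨x', hx'O⟩ hcond
    have := (hg y).1 (h1 y hy2)
    rwa [hy1] at this
  · rintro ⟨hxN, hx⟩
    obtain ⟨x', hx'⟩ := hc ⟨x, hNW hxN⟩
    have hx'O : x' ∈ O' := by
      show c x' ∈ V₁w
      rw [hx']; exact hxN
    refine ⟨(c ∣_ V₁w) ⟨x', hx'O⟩ |>.1, ⟨(c ∣_ V₁w) ⟨x', hx'O⟩, ?_, rfl⟩, ?_⟩
    · apply (hMM' ⟨x', hx'O⟩).1
      apply (hM ⟨x', hx'O⟩).2
      intro y hy
      apply (hg y).2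
      apply hx (a y)
      rw [hsa, hy, hx']
    · show W.ι ((c ∣_ V₁w) ⟨x', hx'O⟩).1 = x
      rw [hcres, hx']
      rfl

end Affine

section Restrict

open Groth.Agent.Lib.Seat33.GrpdRestrict

theorem lfp_of_isLocallyNoetherian {X Y : Scheme.{u}} (f : X ⟶ Y) [LocallyOfFiniteType f]
    [IsLocallyNoetherian Y] : LocallyOfFinitePresentation f := by
  rw [HasRingHomProperty.iff_appLE (P := @LocallyOfFinitePresentation)]
  intro U V e
  have h1 := (HasRingHomProperty.iff_appLE (P := @LocallyOfFiniteType)).1 ‹_› U V e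
  haveI : IsNoetherianRing Γ(Y, U.1) := IsLocallyNoetherian.component_noetherian U
  exact RingHom.FinitePresentation.of_finiteType.1 h1

theorem isClosedImmersion_of_surjective {X Y : Scheme.{u}} (k : X ⟶ Y) [IsImmersion k]
    (hk : Function.Surjective k) : IsClosedImmersion k :=
  IsClosedImmersion.of_isPreimmersion k (by rw [hk.range_eq]; exact isClosed_univ)

variable {U' : Scheme.{u}} (g : U' ⟶ G.U) [IsImmersion g]

/-- points of the restricted arrow scheme. -/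
theorem exists_point_R' (z' : U') (r : G.R) (z : U') (ht : g z' = G.t r) (hs : G.s r = g z) :
    ∃ ρ : R' G g, t' G g ρ = z' ∧ b G g ρ = r ∧ s' G g ρ = z := by
  obtain ⟨y, hy1, hy2⟩ := Scheme.exists_preimage_of_isPullback
    (IsPullback.of_hasPullback g G.t) z' r ht
  have hcond : (pullback.snd g G.t ≫ G.s) y = g z := by
    rw [Scheme.Hom.comp_apply, hy2, hs]
  obtain ⟨ρ, hρ1, hρ2⟩ := Scheme.exists_preimage_of_isPullback
    (IsPullback.of_hasPullback (pullback.snd g G.t ≫ G.s) g) y z hcond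
  refine ⟨ρ, ?_, ?_, hρ2⟩
  · show (pullback.fst (pullback.snd g G.t ≫ G.s) g ≫ pullback.fst g G.t) ρ = z'
    rw [Scheme.Hom.comp_apply, hρ1, hy1]
  · show (pullback.fst (pullback.snd g G.t ≫ G.s) g ≫ pullback.snd g G.t) ρ = r
    rw [Scheme.Hom.comp_apply, hρ1, hy2]

theorem isFinite_t' [IsFinite G.t]
    (hinv : ∀ r : G.R, G.t r ∈ Set.range g → G.s r ∈ Set.range g) : IsFinite (t' G g) := by
  have hsurj : Function.Surjective (pullback.fst (pullback.snd g G.t ≫ G.s) g) := by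
    intro y
    have h1 : G.t (pullback.snd g G.t y) ∈ Set.range g := by
      refine ⟨pullback.fst g G.t y, ?_⟩
      rw [← Scheme.Hom.comp_apply, ← Scheme.Hom.comp_apply, pullback.condition]
    obtain ⟨z, hz⟩ := hinv _ h1
    have hcond : (pullback.snd g G.t ≫ G.s) y = g z := by
      rw [Scheme.Hom.comp_apply, hz]
    obtain ⟨ρ, hρ1, -⟩ := Scheme.exists_preimage_of_isPullback
      (IsPullback.of_hasPullback (pullback.snd g G.t ≫ G.s) g) y z hcond
    exact ⟨ρ, hρ1⟩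
  haveI : IsClosedImmersion (pullback.fst (pullback.snd g G.t ≫ G.s) g) :=
    isClosedImmersion_of_surjective _ hsurj
  show IsFinite (pullback.fst (pullback.snd g G.t ≫ G.s) g ≫ pullback.fst g G.t)
  infer_instance

theorem isFinite_s' [IsFinite G.s]
    (hinv : ∀ r : G.R, G.s r ∈ Set.range g → G.t r ∈ Set.range g) : IsFinite (s' G g) := by
  let p := pullback.snd g G.t
  let k := pullback.snd p (pullback.fst G.s g)
  have hsurj : Function.Surjective k := by
    intro x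
    have h1 : G.s (pullback.fst G.s g x) ∈ Set.range g := by
      refine ⟨pullback.snd G.s g x, ?_⟩
      rw [← Scheme.Hom.comp_apply, ← Scheme.Hom.comp_apply, pullback.condition]
    obtain ⟨z', hz'⟩ := hinv _ h1
    obtain ⟨y, -, hy2⟩ := Scheme.exists_preimage_of_isPullback
      (IsPullback.of_hasPullback g G.t) z' (pullback.fst G.s g x) hz'
    obtain ⟨w, -, hw2⟩ := Scheme.exists_preimage_of_isPullback
      (IsPullback.of_hasPullback p (pullback.fst G.s g)) y x hy2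
    exact ⟨w, hw2⟩
  haveI : IsClosedImmersion k := isClosedImmersion_of_surjective _ hsurj
  have h2 : s' G g = (pullbackRightPullbackFstIso G.s g p).inv ≫ k ≫ pullback.snd G.s g := by
    rw [Iso.eq_inv_comp]
    exact pullbackRightPullbackFstIso_hom_snd G.s g p
  rw [h2]
  infer_instance

end Restrict

section Main

open Groth.Agent.Lib.Seat33.GrpdRestrict Groth.Agent.Lib.Seat19.InvOpen
open Groth.Agent.Lib.Seat33.GrpdInvAff Scheme.IdealSheafData

variable [IsFinite G.s] [IsFinite G.t]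

/-- the case of a point outside the generic stratum. -/
theorem exists_invariant_affine_of_notMem [IsLocallyNoetherian G.U]
    (W : G.U.Opens) (hWinv : G.s ⁻¹ᵁ W = G.t ⁻¹ᵁ W) {U'' : Scheme.{u}} (c : U'' ⟶ W)
    [IsClosedImmersion c] (hc : Function.Surjective c)
    (hflf : Mor2.IsFinLocFree (pullback.snd G.s (c ≫ W.ι)))
    (hWgen : ∀ u : G.U, (∀ r : G.R, G.s r = u → ∀ x : G.U, x ⤳ G.t r → x = G.t r) → u ∈ W)
    (u : G.U) (hdim : ∀ r : G.R, G.s r = u → ringKrullDim (G.U.presheaf.stalk (G.t r)) ≤ 1)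
    (huW : u ∉ W) (U₁ : G.U.Opens) (hU₁ : IsAffineOpen U₁)
    (hTU₁ : ∀ r : G.R, G.s r = u → G.t r ∈ U₁) :
    ∃ V : G.U.Opens, IsAffineOpen V ∧ u ∈ V ∧ G.s ⁻¹ᵁ V = G.t ⁻¹ᵁ V := by
  classical
  -- the orbit
  set T : Set G.U := G.t '' (G.s ⁻¹' {u}) with hTdef
  have hTfin : T.Finite :=
    ((Set.finite_singleton u).preimage' fun x _ => G.s.finite_preimage_singleton x).image _
  have hinvW : ∀ r : G.R, G.s r ∈ W ↔ G.t r ∈ W := fun r => by
    have := congr(r ∈ $hWinv)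
    exact this.to_iff
  have hTorb : ∀ x ∈ T, ∀ r : G.R, G.s r = x → G.t r ∈ T := by
    rintro _ ⟨r₀, hr₀, rfl⟩ r hr
    obtain ⟨σ, hσs, hσt⟩ := Groth.Agent.Lib.Seat33.GrpdOrbit.exists_comp G r r₀ hr
    exact ⟨σ, hσs.trans hr₀, hσt⟩
  have huT : u ∈ T := ⟨G.e u, s_e G u, t_e G u⟩
  have hTW : ∀ x ∈ T, x ∉ W := by
    rintro _ ⟨r₀, hr₀, rfl⟩ h
    have hr₀' : G.s r₀ = u := hr₀
    exact huW (hr₀' ▸ (hinvW r₀).2 h)
  have hTmax : ∀ x ∈ T, ∀ z : G.U, z ∉ W → z ⤳ x → z = x := by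
    rintro _ ⟨r₀, hr₀, rfl⟩ z hzW hz
    exact eq_of_specializes_of_notMem G W hWgen u hdim r₀ hr₀ z hzW hz
  have hTU₁' : T ⊆ U₁ := by
    rintro _ ⟨r₀, hr₀, rfl⟩
    exact hTU₁ r₀ hr₀
  -- the saturated interior of `U₁`
  let U₂ : G.U.Opens := ⟨sat G U₁, isOpen_sat G U₁.2⟩
  have hU₂U₁ : U₂ ≤ U₁ := sat_subset G _
  have hinvU₂ : ∀ r : G.R, G.s r ∈ U₂ ↔ G.t r ∈ U₂ := s_mem_sat_iff G _
  have hTU₂ : T ⊆ U₂ := by
    intro x hx r hr
    exact hTU₁' (hTorb x hx r hr)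
  -- the reduced closed subscheme `U₂ ∖ W` of `U₂`
  let C : Closeds U₂.toScheme :=
    ⟨((U₂.ι ⁻¹ᵁ W : U₂.toScheme.Opens) : Set U₂.toScheme)ᶜ, (U₂.ι ⁻¹ᵁ W).2.isClosed_compl⟩
  obtain ⟨IZ, hIZ⟩ : ∃ IZ : U₂.toScheme.IdealSheafData, IZ = vanishingIdeal C := ⟨_, rfl⟩
  have hgZrange : Set.range IZ.subschemeι = (C : Set U₂.toScheme) := by
    rw [IZ.range_subschemeι, hIZ, coe_support_vanishingIdeal]
  obtain ⟨g, hg⟩ : ∃ g : IZ.subscheme ⟶ G.U, g = IZ.subschemeι ≫ U₂.ι := ⟨_, rfl⟩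
  haveI : IsImmersion g := by rw [hg]; infer_instance
  have hgpt : ∀ z, g z = (IZ.subschemeι z).1 := fun z => by
    rw [hg, Scheme.Hom.comp_apply]; rfl
  have hrange : ∀ x : G.U, x ∈ Set.range g ↔ x ∈ U₂ ∧ x ∉ W := by
    intro x
    constructor
    · rintro ⟨z, rfl⟩
      rw [hgpt]
      have h1 : IZ.subschemeι z ∈ (C : Set U₂.toScheme) := hgZrange ▸ Set.mem_range_self z
      exact ⟨(IZ.subschemeι z).2, h1⟩
    · rintro ⟨hx2, hxW⟩
      have h1 : (⟨x, hx2⟩ : U₂.toScheme) ∈ Set.range IZ.subschemeι := by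
        rw [hgZrange]; exact hxW
      obtain ⟨z, hz⟩ := h1
      exact ⟨z, by rw [hgpt, hz]⟩
  have hginj : Function.Injective g := g.isEmbedding.injective
  have hinvZ : ∀ r : G.R, G.s r ∈ Set.range g ↔ G.t r ∈ Set.range g := fun r => by
    rw [hrange, hrange, hinvU₂ r, hinvW r]
  -- the restricted groupoid
  haveI : IsLocallyNoetherian IZ.subscheme := LocallyOfFiniteType.isLocallyNoetherian g
  haveI hfs : IsFinite (s' G g) := isFinite_s' G g fun r => (hinvZ r).1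
  haveI hft : IsFinite (t' G g) := isFinite_t' G g fun r => (hinvZ r).2
  haveI hlfps : LocallyOfFinitePresentation (s' G g) := lfp_of_isLocallyNoetherian _
  haveI hlfpt : LocallyOfFinitePresentation (t' G g) := lfp_of_isLocallyNoetherian _
  haveI : IsFinite (restrict G g).s := hfs
  haveI : IsFinite (restrict G g).t := hft
  haveI : LocallyOfFinitePresentation (restrict G g).s := hlfps
  haveI : LocallyOfFinitePresentation (restrict G g).t := hlfpt
  -- the immersion into `Spec Γ(U₁)`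
  obtain ⟨j, hj⟩ : ∃ j : IZ.subscheme ⟶ Spec Γ(G.U, U₁),
      j = IZ.subschemeι ≫ G.U.homOfLE hU₂U₁ ≫ hU₁.isoSpec.hom := ⟨_, rfl⟩
  haveI : IsImmersion j := by rw [hj]; infer_instance
  have hjg : j ≫ hU₁.fromSpec = g := by
    rw [hj, hg, ← hU₁.isoSpec_inv_ι]
    simp only [Category.assoc, Iso.hom_inv_id_assoc, Scheme.homOfLE_ι]
  have hjpt : ∀ z, hU₁.fromSpec (j z) = g z := fun z => by
    rw [← Scheme.Hom.comp_apply, hjg]
  have hfsinj : Function.Injective hU₁.fromSpec := hU₁.fromSpec.isOpenEmbedding.injective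
  -- the ideal of the complement of `U₂`
  set K : Set (PrimeSpectrum Γ(G.U, U₁)) := hU₁.fromSpec ⁻¹' ((U₂ : Set G.U)ᶜ) with hKdef
  have hKcl : IsClosed K := U₂.2.isClosed_compl.preimage hU₁.fromSpec.continuous
  set I : Ideal Γ(G.U, U₁) := PrimeSpectrum.vanishingIdeal K with hIdef
  have hzI : PrimeSpectrum.zeroLocus (I : Set Γ(G.U, U₁)) = K := by
    rw [hIdef, PrimeSpectrum.zeroLocus_vanishingIdeal_eq_closure, hKcl.closure_eq]
  have hI : ∀ z : IZ.subscheme, j z ∉ PrimeSpectrum.zeroLocus (I : Set Γ(G.U, U₁)) := by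
    intro z hz
    rw [hzI] at hz
    have h1 : hU₁.fromSpec (j z) ∉ U₂ := hz
    rw [hjpt] at h1
    exact h1 ((hrange _).1 ⟨z, rfl⟩).1
  have hcl : IsClosed (PrimeSpectrum.zeroLocus (I : Set Γ(G.U, U₁)) ∪ Set.range j) := by
    have h1 : PrimeSpectrum.zeroLocus (I : Set Γ(G.U, U₁)) ∪ Set.range j =
        hU₁.fromSpec ⁻¹' (((U₂ ⊓ W : G.U.Opens) : Set G.U)ᶜ) := by
      rw [hzI]
      ext p
      constructor
      · rintro (hp | ⟨z, rfl⟩)
        · exact fun h => hp h.1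
        · intro h
          have h2 : hU₁.fromSpec (j z) ∈ W := h.2
          rw [hjpt] at h2
          exact ((hrange _).1 ⟨z, rfl⟩).2 h2
      · intro hp
        by_cases h2 : hU₁.fromSpec p ∈ U₂
        · right
          have h3 : hU₁.fromSpec p ∉ W := fun h => hp ⟨h2, h⟩
          obtain ⟨z, hz⟩ := (hrange _).2 ⟨h2, h3⟩
          exact ⟨z, hfsinj (by rw [hjpt, hz])⟩
        · left
          exact h2
    rw [h1]
    exact (U₂ ⊓ W).2.isClosed_compl.preimage hU₁.fromSpec.continuous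
  -- the points
  have hTZfin : (g ⁻¹' T).Finite := hTfin.preimage hginj.injOn
  let e := hTZfin.toFinset.equivFin
  let pts : Fin hTZfin.toFinset.card → IZ.subscheme := fun i => (e.symm i).1
  have hpts : ∀ i, g (pts i) ∈ T := fun i => by
    have := (e.symm i).2
    rw [Set.Finite.mem_toFinset] at this
    exact this
  have hptssurj : ∀ z : IZ.subscheme, g z ∈ T → ∃ i, pts i = z := by
    intro z hz
    have hz' : z ∈ hTZfin.toFinset := by rw [Set.Finite.mem_toFinset]; exact hz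
    refine ⟨e ⟨z, hz'⟩, ?_⟩
    show (e.symm (e ⟨z, hz'⟩)).1 = z
    rw [Equiv.symm_apply_apply]
  have hu : ∀ i (ρ : (restrict G g).R), (restrict G g).s ρ = pts i →
      ∀ x : (restrict G g).U, x ⤳ (restrict G g).t ρ → x = (restrict G g).t ρ := by
    intro i ρ hρ x hx
    have h1 : G.s (b G g ρ) = g (pts i) := by
      rw [← Scheme.Hom.comp_apply, ← s'_g, Scheme.Hom.comp_apply]
      exact congrArg g hρ
    have h2 : G.t (b G g ρ) = g (t' G g ρ) := by
      rw [← Scheme.Hom.comp_apply, ← t'_g, Scheme.Hom.comp_apply]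
    have h3 : G.t (b G g ρ) ∈ T := hTorb _ (hpts i) _ h1
    have h4 : g x ⤳ g (t' G g ρ) := hx.map g.continuous
    have h5 : g x ∉ W := ((hrange _).1 ⟨x, rfl⟩).2
    rw [← h2] at h4
    have h6 := hTmax _ h3 (g x) h5 h4
    exact hginj (h6.trans h2)
  haveI hjimm : @IsImmersion (restrict G g).U (Spec (CommRingCat.of Γ(G.U, U₁))) j :=
    ‹IsImmersion j›
  obtain ⟨h, hhI, hOaff, hptsO, hOinv⟩ :=
    Groth.Agent.Lib.Seat33.GrpdImmAff.main4 (restrict G g) _ pts hu Γ(G.U, U₁) j I hI hcl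
  -- the basic open of `U₁`
  set O : G.U.Opens := G.U.basicOpen h with hOdef
  have hO : IsAffineOpen O := hU₁.basicOpen h
  have hOU₁ : O ≤ U₁ := G.U.basicOpen_le h
  have hmemO : ∀ p : Spec Γ(G.U, U₁), hU₁.fromSpec p ∈ O ↔ h ∉ p.asIdeal := by
    intro p
    have h1 := hU₁.fromSpec_preimage_basicOpen h
    have h2 : p ∈ hU₁.fromSpec ⁻¹ᵁ G.U.basicOpen h ↔ p ∈ PrimeSpectrum.basicOpen h := by
      rw [h1]; exact Iff.rfl
    exact h2
  have hOU₂ : O ≤ U₂ := by
    intro x hx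
    by_contra hx2
    obtain ⟨p, hp⟩ : ∃ p, hU₁.fromSpec p = x := by
      have : x ∈ Set.range hU₁.fromSpec := by rw [hU₁.range_fromSpec]; exact hOU₁ hx
      exact this
    have hpK : p ∈ K := by
      show hU₁.fromSpec p ∉ U₂
      rw [hp]; exact hx2
    have h1 : h ∈ p.asIdeal := (PrimeSpectrum.mem_vanishingIdeal _ _).1 hhI p hpK
    exact (hmemO p).1 (hp ▸ hx) h1
  have hgO : ∀ z : IZ.subscheme, g z ∈ O ↔ z ∈ j ⁻¹ᵁ PrimeSpectrum.basicOpen h := by
    intro z
    rw [← hjpt, hmemO]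
    exact Iff.rfl
  have hTO : T ⊆ O := by
    intro x hx
    obtain ⟨z, hz⟩ := (hrange x).2 ⟨hTU₂ hx, hTW x hx⟩
    obtain ⟨i, hi⟩ := hptssurj z (hz ▸ hx)
    have h1 : g z ∈ O := by
      rw [hgO, ← hi]
      exact hptsO i
    rw [← hz]
    exact h1
  -- invariance of `O ∖ W`
  have hOWinv : ∀ r : G.R, G.s r ∈ O → G.s r ∉ W → G.t r ∈ O := by
    intro r hrO hrW
    obtain ⟨z, hz⟩ := (hrange _).2 ⟨hOU₂ hrO, hrW⟩
    obtain ⟨z', hz'⟩ := (hinvZ r).1 ⟨z, hz⟩
    obtain ⟨ρ, hρ1, hρ2, hρ3⟩ := exists_point_R' G g z' r z hz' hz.symm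
    have h1 : ρ ∈ (restrict G g).s ⁻¹ᵁ (j ⁻¹ᵁ PrimeSpectrum.basicOpen h) := by
      show s' G g ρ ∈ j ⁻¹ᵁ PrimeSpectrum.basicOpen h
      rw [hρ3, ← hgO, hz]; exact hrO
    rw [hOinv] at h1
    have h2 : t' G g ρ ∈ j ⁻¹ᵁ PrimeSpectrum.basicOpen h := h1
    rw [hρ1, ← hgO, hz'] at h2
    exact h2
  -- the saturation
  let V : G.U.Opens := ⟨sat G O, isOpen_sat G O.2⟩
  have hVO : V ≤ O := sat_subset G _
  have hOWV : ∀ x ∈ O, x ∉ W → x ∈ V := by
    intro x hxO hxW r hr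
    exact hOWinv r (hr ▸ hxO) (hr ▸ hxW)
  refine ⟨V, ?_, ?_, ?_⟩
  · apply isAffineOpen_of_locally O V hO hVO
    intro y hyO
    by_cases hyV : y ∈ V
    · obtain ⟨f, hfV, hyf⟩ := exists_basicOpen_finite hO V {y} (Set.finite_singleton y)
        (by simpa using hyO) (by simpa using hyV)
      refine ⟨G.U.basicOpen f, hO.basicOpen f, hyf rfl, G.U.basicOpen_le f, ?_⟩
      rw [inf_eq_right.2 hfV]
      exact hO.basicOpen f
    · have hyW : y ∈ W := by
        by_contra hyW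
        exact hyV (hOWV y hyO hyW)
      obtain ⟨f, hfW, hyf⟩ := exists_basicOpen_finite hO W {y} (Set.finite_singleton y)
        (by simpa using hyO) (by simpa using hyW)
      obtain ⟨V', hV', hV'eq⟩ := exists_isAffineOpen_inter_sat G W c hc hflf U₁ h hOU₂
        (G.U.basicOpen f) (hO.basicOpen f) hfW (G.U.basicOpen_le f)
      refine ⟨G.U.basicOpen f, hO.basicOpen f, hyf rfl, G.U.basicOpen_le f, ?_⟩
      have h1 : V ⊓ G.U.basicOpen f = V' := by
        apply SetLike.coe_injective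
        rw [hV'eq]
        exact Set.inter_comm _ _
      rw [h1]; exact hV'
  · intro r hr
    exact hTO ⟨r, hr, rfl⟩
  · ext ρ
    show G.s ρ ∈ sat G (O : Set G.U) ↔ G.t ρ ∈ sat G (O : Set G.U)
    exact s_mem_sat_iff G _ ρ

/-- **Points of codimension at most one lie in invariant affine opens** (for a finite groupoid on
a locally Noetherian scheme in which finite sets of such points lie in affine opens). -/
theorem main5 [IsLocallyNoetherian G.U] (u : G.U)
    (hdim : ∀ r : G.R, G.s r = u → ringKrullDim (G.U.presheaf.stalk (G.t r)) ≤ 1)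
    (hAff : ∀ s : Finset G.U, (∀ x ∈ s, ringKrullDim (G.U.presheaf.stalk x) ≤ 1) →
      ∃ V : G.U.Opens, IsAffineOpen V ∧ ∀ x ∈ s, x ∈ V) :
    ∃ W : G.U.Opens, IsAffineOpen W ∧ u ∈ W ∧ G.s ⁻¹ᵁ W = G.t ⁻¹ᵁ W := by
  classical
  haveI : LocallyOfFinitePresentation G.s := lfp_of_isLocallyNoetherian _
  haveI : LocallyOfFinitePresentation G.t := lfp_of_isLocallyNoetherian _
  set T : Set G.U := G.t '' (G.s ⁻¹' {u}) with hTdef
  have hTfin : T.Finite :=
    ((Set.finite_singleton u).preimage' fun x _ => G.s.finite_preimage_singleton x).image _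
  obtain ⟨U₁, hU₁, hTU₁⟩ := hAff hTfin.toFinset (by
    intro x hx
    rw [Set.Finite.mem_toFinset] at hx
    obtain ⟨r, hr, rfl⟩ := hx
    exact hdim r hr)
  have hTU₁' : T ⊆ U₁ := fun x hx => hTU₁ x (by rw [Set.Finite.mem_toFinset]; exact hx)
  obtain ⟨W, W', hWinv, hW'supp, -, -, hflf, -, -, hWgen⟩ :=
    Groth.Agent.Lib.Seat33.GrpdStrat.main2 G
  have hc : Function.Surjective W'.subschemeι := by
    intro x
    have h1 : x ∈ Set.range W'.subschemeι := by
      rw [W'.range_subschemeι, hW'supp]; trivial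
    exact h1
  have hinvW : ∀ r : G.R, G.s r ∈ W ↔ G.t r ∈ W := fun r => by
    have := congr(r ∈ $hWinv)
    exact this.to_iff
  by_cases huW : u ∈ W
  · have hTW : T ⊆ W := by
      rintro _ ⟨r, hr, rfl⟩
      have hr' : G.s r = u := hr
      exact (hinvW r).1 (hr' ▸ huW)
    obtain ⟨f, hfW, hTf⟩ := exists_basicOpen_finite hU₁ W T hTfin hTU₁' hTW
    obtain ⟨V, hV, huV, -, hVinv⟩ := exists_invariant_affine_of_thickening G W W'.subschemeι hc
      hflf (G.U.basicOpen f) (hU₁.basicOpen f) hfW {u} (Set.finite_singleton u) (by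
        rintro _ rfl r hr
        exact hTf ⟨r, hr, rfl⟩)
    exact ⟨V, hV, huV rfl, hVinv⟩
  · exact exists_invariant_affine_of_notMem G W hWinv W'.subschemeι hc hflf hWgen u hdim huW U₁
      hU₁ (fun r hr => hTU₁' ⟨r, hr, rfl⟩)

end Main

end Groth.Agent.Lib.Seat33.GrpdDimOne
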