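import Mathlib
import Groth.Prelude.Def_Grpd
import Groth.Agent.Lib.Seat33GrpdIrr
import Groth.Agent.Lib.Helper6RelGal
import Groth.Agent.Lib.Seat33GrpdSmooth

/-!
# Seat33GrpdGeomIrr: the identity component of a groupoid scheme over a field is geometrically
irreducible

Let `(U, R, s, t, c)` be a groupoid scheme with `U = Spec k`.  Regard `R` as a `k`-scheme through
`s`.  For a field extension `K/k` the one-sided base change `R_K = R ×_{s,k} K` receives a flat
surjection from the restriction `R'` of the groupoid to `Spec K`, so every point of `R_K` lies on a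
unique irreducible component.  For `K = k^s` the Galois group permutes transitively the components
of `R_K` over a given component of `R` and fixes the base change of the identity point; hence the
preimage of the identity component is irreducible.
-/

set_option autoImplicit false
set_option linter.style.haveILetI false
universe u
open CategoryTheory CategoryTheory.Limits AlgebraicGeometry
open Groth.Agent.Helper18Grpd

namespace Groth.Agent.Lib.Seat33.GrpdGeomIrr

open Groth.Agent.Lib.Seat33.GrpdIrr Groth.Agent.Lib.Seat33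

variable {S : Scheme.{u}} (G : Grpd.GroupoidScheme S) {k : Type u} [Field k]
  (eU : G.U ≅ Spec (CommRingCat.of k)) (K : Type u) [Field K] [Algebra k K]

/-- `Spec K ⟶ U` -/
noncomputable def gK : Spec (CommRingCat.of K) ⟶ G.U :=
  Spec.map (CommRingCat.ofHom (algebraMap k K)) ≫ eU.inv

instance : Flat (gK G eU K) := by
  have h1 : Flat (Spec.map (CommRingCat.ofHom (algebraMap k K))) := by
    rw [HasRingHomProperty.Spec_iff (P := @Flat)]
    rw [CommRingCat.hom_ofHom, RingHom.flat_algebraMap_iff]
    infer_instance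
  unfold gK
  infer_instance

instance : Surjective (gK G eU K) := by
  have h1 : Surjective (Spec.map (CommRingCat.ofHom (algebraMap k K))) := by
    refine ⟨fun x => ⟨IsLocalRing.closedPoint K, Subsingleton.elim (α := PrimeSpectrum k) _ _⟩⟩
  unfold gK
  infer_instance

section Over

variable [hOver : G.R.Over (Spec (CommRingCat.of k))]
  (hOv : (G.R ↘ Spec (CommRingCat.of k)) = G.s ≫ eU.hom)

/-- `R' ⟶ R ×_{s,U,g} Spec K` -/
noncomputable def q₁ : GrpdRestrict.R' G (gK G eU K) ⟶ pullback G.s (gK G eU K) :=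
  pullback.map (pullback.snd (gK G eU K) G.t ≫ G.s) (gK G eU K) G.s (gK G eU K)
    (pullback.snd (gK G eU K) G.t) (𝟙 _) (𝟙 _) (by simp) (by simp)

include hOv in
theorem q₂_cond : G.s ≫ eU.hom = 𝟙 _ ≫ (G.R ↘ Spec (CommRingCat.of k)) := by
  rw [hOv, Category.id_comp]

/-- `R ×_{s,U,g} Spec K ≅ R_K` -/
noncomputable def q₂ : pullback G.s (gK G eU K) ⟶ Curv2.bc k G.R K :=
  pullback.map G.s (gK G eU K) (G.R ↘ Spec (CommRingCat.of k))
    (Spec.map (CommRingCat.ofHom (algebraMap k K)))
    (𝟙 _) (𝟙 _) eU.hom (q₂_cond G eU hOv) (by simp [gK])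

instance : IsIso (q₂ G eU K hOv) := by
  unfold q₂
  infer_instance

theorem flat_q₁ : Flat (q₁ G eU K) := by
  have h : Flat (pullback.snd (gK G eU K) G.t) := inferInstance
  exact MorphismProperty.pullbackMap (P := @Flat) h (inferInstance : Flat (𝟙 _)) rfl
    (Category.id_comp _).symm

theorem surjective_q₁ : Surjective (q₁ G eU K) := by
  have h : Surjective (pullback.snd (gK G eU K) G.t) := inferInstance
  exact MorphismProperty.pullbackMap (P := @Surjective) h (inferInstance : Surjective (𝟙 _)) rfl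
    (Category.id_comp _).symm

/-- the flat surjection `R' ⟶ R_K` -/
noncomputable def q : GrpdRestrict.R' G (gK G eU K) ⟶ Curv2.bc k G.R K :=
  q₁ G eU K ≫ q₂ G eU K hOv

theorem generalizingMap_q : GeneralizingMap (q G eU K hOv) := by
  have := flat_q₁ G eU K
  have : Flat (q G eU K hOv) := by unfold q; infer_instance
  exact Flat.generalizingMap _

theorem surjective_q : Function.Surjective (q G eU K hOv) := by
  have := surjective_q₁ G eU K
  have : Surjective (q G eU K hOv) := by unfold q; infer_instance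
  exact (q G eU K hOv).surjective

/-- the point of `Spec K` -/
noncomputable def ptK : ↥(Spec (CommRingCat.of K)) := IsLocalRing.closedPoint K

/-- the point of `Spec k` -/
noncomputable def ptk : ↥(Spec (CommRingCat.of k)) := IsLocalRing.closedPoint k

instance : Subsingleton ↥(Spec (CommRingCat.of K)) :=
  inferInstanceAs (Subsingleton (PrimeSpectrum K))

include hOv in
theorem eK_cond : (gK G eU K ≫ G.e) ≫ (G.R ↘ Spec (CommRingCat.of k)) =
    𝟙 _ ≫ Spec.map (CommRingCat.ofHom (algebraMap k K)) := by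
  rw [hOv, Category.assoc, ← Category.assoc G.e, G.e_s, Category.id_comp, Category.id_comp]
  unfold gK
  rw [Category.assoc, Iso.inv_hom_id, Category.comp_id]

/-- the base change of the identity section -/
noncomputable def eK : Spec (CommRingCat.of K) ⟶ Curv2.bc k G.R K :=
  pullback.lift (gK G eU K ≫ G.e) (𝟙 _) (eK_cond G eU K hOv)

theorem eK_fst : eK G eU K hOv ≫ Curv2.bcFst k G.R K = gK G eU K ≫ G.e :=
  pullback.lift_fst _ _ _

theorem eK_snd : eK G eU K hOv ≫ Curv2.bcSnd k G.R K = 𝟙 _ :=
  pullback.lift_snd _ _ _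

variable (S)

include hOv in
/-- every point of the one-sided base change `R_K` lies on a unique irreducible component -/
theorem unique_component_RK (w : Curv2.bc k G.R K) {M₁ M₂ : Set (Curv2.bc k G.R K)}
    (h₁ : M₁ ∈ irreducibleComponents (Curv2.bc k G.R K))
    (h₂ : M₂ ∈ irreducibleComponents (Curv2.bc k G.R K))
    (hx₁ : w ∈ M₁) (hx₂ : w ∈ M₂) : M₁ = M₂ := by
  obtain ⟨w', rfl⟩ := surjective_q G eU K hOv w
  refine unique_component_of_generalizingMap (q G eU K hOv) (q G eU K hOv).continuous
    (generalizingMap_q G eU K hOv) w' ?_ h₁ h₂ hx₁ hx₂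
  intro N₁ hN₁ N₂ hN₂ h1 h2
  exact unique_component S (GrpdRestrict.restrict G (gK G eU K)) K (Iso.refl _) w' hN₁ hN₂ h1 h2

section Galois

open Groth.Agent.Lib.Helper6.GalAct Groth.Agent.Lib.Helper6.RelGal

variable {S}

/-- the Galois action fixes the base change of the identity point -/
theorem galAct_eK (σ : K ≃ₐ[k] K) :
    Curv2.galAct k G.R K σ (eK G eU K hOv (ptK K)) = eK G eU K hOv (ptK K) := by
  have hσ : Spec.map (CommRingCat.ofHom (σ : K →ₐ[k] K).toRingHom) ≫
      Spec.map (CommRingCat.ofHom (algebraMap k K)) =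
      Spec.map (CommRingCat.ofHom (algebraMap k K)) := by
    rw [← Spec.map_comp, ← CommRingCat.ofHom_comp, AlgHom.toRingHom_eq_coe,
      AlgHom.comp_algebraMap]
  have h : eK G eU K hOv ≫ Curv2.galAct k G.R K σ =
      Spec.map (CommRingCat.ofHom (σ : K →ₐ[k] K).toRingHom) ≫ eK G eU K hOv := by
    apply pullback.hom_ext
    · have h1 := galAct_fst k G.R K σ
      rw [Category.assoc, Category.assoc]
      change eK G eU K hOv ≫ Curv2.galAct k G.R K σ ≫ Curv2.bcFst k G.R K =
        _ ≫ eK G eU K hOv ≫ Curv2.bcFst k G.R K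
      rw [h1, eK_fst]
      unfold gK
      rw [← Category.assoc, ← Category.assoc, hσ]
    · have h1 := galAct_snd k G.R K σ
      rw [Category.assoc, Category.assoc]
      change eK G eU K hOv ≫ Curv2.galAct k G.R K σ ≫ Curv2.bcSnd k G.R K =
        _ ≫ eK G eU K hOv ≫ Curv2.bcSnd k G.R K
      rw [h1, ← Category.assoc, eK_snd, Category.id_comp, Category.comp_id]
  have h2 := congrArg (fun f : Spec (CommRingCat.of K) ⟶ Curv2.bc k G.R K => f (ptK K)) h
  simp only [Scheme.Hom.comp_apply] at h2
  rw [h2]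
  congr 1
  exact Subsingleton.elim _ _

variable (S)

include hOv in
/-- the preimage in `R_{k^s}` of the irreducible component of `R` through the identity is
irreducible -/
theorem isIrreducible_preimage_component (Z : Set G.R) (hZ : Z ∈ irreducibleComponents G.R)
    (he : G.e (eU.inv (ptk (k := k))) ∈ Z) :
    IsIrreducible ((Curv2.bcFst k G.R (SeparableClosure k)) ⁻¹' Z) := by
  set K := SeparableClosure k with hK
  set p := Curv2.bcFst k G.R K with hp
  set e₀ := G.e (eU.inv (ptk (k := k))) with he₀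
  set eK₀ : Curv2.bc k G.R K := eK G eU K hOv (ptK K) with heK₀
  have hpe : p eK₀ = e₀ := by
    rw [heK₀, hp, ← Scheme.Hom.comp_apply, eK_fst]
    unfold gK
    rw [he₀, Scheme.Hom.comp_apply, Scheme.Hom.comp_apply]
    congr 2
    exact Subsingleton.elim _ _
  set W₀ : Set (Curv2.bc k G.R K) := irreducibleComponent eK₀ with hW₀
  have hW₀mem : W₀ ∈ irreducibleComponents (Curv2.bc k G.R K) :=
    irreducibleComponent_mem_irreducibleComponents _
  have himg : ∀ W ∈ irreducibleComponents (Curv2.bc k G.R K), ∀ w ∈ W, p w ∈ Z → p '' W = Z := by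
    intro W hW w hw hpw
    have h1 : p '' W ∈ irreducibleComponents G.R := image_mem_irreducibleComponents k G.R K W hW
    exact unique_component S G k eU (p w) h1 hZ ⟨w, hw, rfl⟩ hpw
  have hW₀Z : p '' W₀ = Z := himg W₀ hW₀mem eK₀ mem_irreducibleComponent (hpe ▸ he)
  have heq : p ⁻¹' Z = W₀ := by
    apply Set.Subset.antisymm
    · intro w hw
      set W := irreducibleComponent w with hWdef
      have hWmem : W ∈ irreducibleComponents (Curv2.bc k G.R K) :=
        irreducibleComponent_mem_irreducibleComponents _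
      have hWZ : p '' W = Z := himg W hWmem w mem_irreducibleComponent hw
      obtain ⟨σ, hσ⟩ := exists_galAct_image_eq k G.R K W₀ W hW₀mem hWmem (hW₀Z.trans hWZ.symm)
      have heW : eK₀ ∈ W := by
        rw [← hσ]
        exact ⟨eK₀, mem_irreducibleComponent, galAct_eK G eU K hOv σ⟩
      have : W = W₀ :=
        unique_component_RK S G eU K hOv eK₀ hWmem hW₀mem heW mem_irreducibleComponent
      rw [← this]
      exact mem_irreducibleComponent
    · intro w hw
      rw [← hW₀Z]
      exact ⟨w, hw, rfl⟩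
  rw [heq]
  exact isIrreducible_irreducibleComponent

end Galois

end Over

section Final

open Groth.Agent.Lib.Helper6.GalAct Groth.Agent.Lib.Helper6.RelGal

variable (S)

/-- the `s`-half of S7516 -/
theorem geometricallyIrreducible_s (Z : Scheme.{u}) (ι : Z ⟶ G.R) [IsClosedImmersion ι]
    (hZ : Set.range ⇑ι ∈ irreducibleComponents ↥G.R)
    (he : G.e (eU.inv (IsLocalRing.closedPoint k)) ∈ Set.range ⇑ι) :
    GeometricallyIrreducible (ι ≫ G.s ≫ eU.hom) := by
  letI : G.R.Over (Spec (CommRingCat.of k)) := ⟨G.s ≫ eU.hom⟩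
  exact geometricallyIrreducible_of_preimage k G.R Z ι (SeparableClosure k)
    (isIrreducible_preimage_component S G eU rfl (Set.range ⇑ι) hZ he)

/-- S7516 -/
theorem main (Z : Scheme.{u}) (ι : Z ⟶ G.R) [IsClosedImmersion ι]
    (hZ : Set.range ⇑ι ∈ irreducibleComponents ↥G.R)
    (he : G.e (eU.inv (IsLocalRing.closedPoint k)) ∈ Set.range ⇑ι) :
    GeometricallyIrreducible (ι ≫ G.s ≫ eU.hom) ∧ GeometricallyIrreducible (ι ≫ G.t ≫ eU.hom) := by
  refine ⟨geometricallyIrreducible_s S G eU Z ι hZ he, ?_⟩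
  have hi : IsIso G.i := ⟨G.i, GrpdSmooth.i_i G, GrpdSmooth.i_i G⟩
  have hrange : Set.range ⇑(ι ≫ G.i) = G.i '' Set.range ⇑ι := by
    rw [Scheme.Hom.comp_base, TopCat.coe_comp, Set.range_comp]
  have hZ' : Set.range ⇑(ι ≫ G.i) ∈ irreducibleComponents ↥G.R := by
    rw [hrange]
    let φ : G.R ≃ₜ G.R := G.i.homeomorph
    have h1 : IsIrreducible (φ '' Set.range ⇑ι) := hZ.1.image _ φ.continuous.continuousOn
    refine ⟨h1, ?_⟩
    intro N hN hle
    have h2 : IsIrreducible (φ.symm '' N) := hN.image _ φ.symm.continuous.continuousOn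
    have h3 : Set.range ⇑ι ⊆ φ.symm '' N := by
      intro y hy
      exact ⟨φ y, hle ⟨y, hy, rfl⟩, by simp⟩
    have h4 := hZ.2 h2 h3
    intro y hy
    obtain ⟨z, hz⟩ := h4 ⟨y, hy, rfl⟩
    refine ⟨ι z, ⟨z, rfl⟩, ?_⟩
    change φ (ι z) = y
    rw [hz]
    simp
  have he' : G.e (eU.inv (IsLocalRing.closedPoint k)) ∈ Set.range ⇑(ι ≫ G.i) := by
    rw [hrange]
    refine ⟨_, he, ?_⟩
    rw [← Scheme.Hom.comp_apply]
    have : G.e ≫ G.i = G.e := by
      have h1 := cmp_i (G := G) G.e
      have h2 : G.e ≫ G.t ≫ G.e = G.e := by rw [← Category.assoc, G.e_t, Category.id_comp]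
      rw [h2] at h1
      have h3 := e_cmp (G := G) (G.e ≫ G.i)
      have h4 : (G.e ≫ G.i) ≫ G.t ≫ G.e = G.e := by
        rw [Category.assoc, ← Category.assoc G.i, G.i_t, ← Category.assoc, G.e_s, Category.id_comp]
      rw [← h3]
      refine (cmp_congr h4 rfl _ _).trans h1
    rw [this]
  have := geometricallyIrreducible_s S G eU Z (ι ≫ G.i) hZ' he'
  have h5 : (ι ≫ G.i) ≫ G.s ≫ eU.hom = ι ≫ G.t ≫ eU.hom := by
    rw [Category.assoc, ← Category.assoc G.i, G.i_s]
  rwa [h5] at this

end Final

end Groth.Agent.Lib.Seat33.GrpdGeomIrr
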