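import Mathlib
import Groth.Prelude.Def_Grpd
import Groth.Agent.Lib.Helper18Grpd1

set_option autoImplicit false
universe u
open CategoryTheory CategoryTheory.Limits AlgebraicGeometry
open Groth.Agent.Helper18Grpd

namespace Groth.Agent.Lib.Seat33.SubGrpd

variable {S : Scheme.{u}} (G : Grpd.GroupoidScheme S) {Z : Scheme.{u}} (ι : Z ⟶ G.R) [Mono ι]
  (e' : G.U ⟶ Z) (he : e' ≫ ι = G.e) (i' : Z ⟶ Z) (hi : i' ≫ ι = ι ≫ G.i)
  (c' : pullback (ι ≫ G.s) (ι ≫ G.t) ⟶ Z)
  (hc : c' ≫ ι = pullback.map (ι ≫ G.s) (ι ≫ G.t) G.s G.t ι ι (𝟙 _) (by simp) (by simp) ≫ G.c)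

omit [Mono ι] in
include hc in
theorem lift_c'_ι {T : Scheme.{u}} (α β : T ⟶ Z) (h : α ≫ ι ≫ G.s = β ≫ ι ≫ G.t) :
    (pullback.lift α β h ≫ c') ≫ ι =
      cmp G (α ≫ ι) (β ≫ ι) (by simpa only [Category.assoc] using h) := by
  rw [Category.assoc, hc, ← Category.assoc]
  unfold Groth.Agent.Helper18Grpd.cmp
  congr 1
  apply pullback.hom_ext
  · rw [Category.assoc, pullback.lift_fst, pullback.lift_fst, pullback.lift_fst_assoc]
  · rw [Category.assoc, pullback.lift_snd, pullback.lift_snd, pullback.lift_snd_assoc]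

/-- The groupoid scheme structure induced on a monomorphism `ι : Z ⟶ R` through which identity,
inverse and composition factor. -/
noncomputable def sub : Grpd.GroupoidScheme S where
  U := G.U
  R := Z
  pU := G.pU
  pR := ι ≫ G.pR
  s := ι ≫ G.s
  t := ι ≫ G.t
  e := e'
  i := i'
  c := c'
  s_over := by rw [Category.assoc, G.s_over]
  t_over := by rw [Category.assoc, G.t_over]
  comp_s := fun α β h => by
    rw [← Category.assoc _ ι, lift_c'_ι G ι c' hc α β h, cmp_s, Category.assoc]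
  comp_t := fun α β h => by
    rw [← Category.assoc _ ι, lift_c'_ι G ι c' hc α β h, cmp_t, Category.assoc]
  assoc := fun α β γ h₁ h₂ => by
    rw [← cancel_mono ι]
    refine (lift_c'_ι G ι c' hc _ _ _).trans ?_
    refine Eq.trans ?_ (lift_c'_ι G ι c' hc _ _ _).symm
    have e1 := lift_c'_ι G ι c' hc α β h₁
    have e2 := lift_c'_ι G ι c' hc β γ h₂
    have h₁' : (α ≫ ι) ≫ G.s = (β ≫ ι) ≫ G.t := by simpa only [Category.assoc] using h₁
    have h₂' : (β ≫ ι) ≫ G.s = (γ ≫ ι) ≫ G.t := by simpa only [Category.assoc] using h₂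
    refine (cmp_congr e1 rfl _ ((cmp_s _ _ h₁').trans h₂')).trans ?_
    refine Eq.trans ?_ (cmp_congr rfl e2 _ (h₁'.trans (cmp_t _ _ h₂').symm)).symm
    exact cmp_assoc _ _ _ _ _
  e_s := by rw [← Category.assoc, he, G.e_s]
  e_t := by rw [← Category.assoc, he, G.e_t]
  comp_e := fun α => by
    rw [← cancel_mono ι]
    refine (lift_c'_ι G ι c' hc _ _ _).trans ?_
    have e1 : (α ≫ (ι ≫ G.s) ≫ e') ≫ ι = (α ≫ ι) ≫ G.s ≫ G.e := by
      simp only [Category.assoc, he]
    exact (cmp_congr rfl e1 _ (by simp [G.e_t])).trans (cmp_e _)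
  e_comp := fun α => by
    rw [← cancel_mono ι]
    refine (lift_c'_ι G ι c' hc _ _ _).trans ?_
    have e1 : (α ≫ (ι ≫ G.t) ≫ e') ≫ ι = (α ≫ ι) ≫ G.t ≫ G.e := by
      simp only [Category.assoc, he]
    exact (cmp_congr e1 rfl _ (by simp [G.e_s])).trans (e_cmp _)
  i_s := by rw [← Category.assoc, hi, Category.assoc, G.i_s]
  i_t := by rw [← Category.assoc, hi, Category.assoc, G.i_t]
  comp_i := fun α => by
    rw [← cancel_mono ι]
    refine (lift_c'_ι G ι c' hc _ _ _).trans ?_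
    have e1 : (α ≫ i') ≫ ι = (α ≫ ι) ≫ G.i := by
      simp only [Category.assoc, hi]
    refine (cmp_congr rfl e1 _ (by rw [inv_t])).trans ?_
    rw [cmp_i]
    simp only [Category.assoc, he]
  i_comp := fun α => by
    rw [← cancel_mono ι]
    refine (lift_c'_ι G ι c' hc _ _ _).trans ?_
    have e1 : (α ≫ i') ≫ ι = (α ≫ ι) ≫ G.i := by
      simp only [Category.assoc, hi]
    refine (cmp_congr e1 rfl _ (by rw [inv_s])).trans ?_
    rw [i_cmp]
    simp only [Category.assoc, he]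

/-- The inclusion of the sub-groupoid. -/
noncomputable def subHom : Grpd.GroupoidScheme.Hom (sub G ι e' he i' hi c' hc) G where
  fU := 𝟙 _
  fR := ι
  fU_over := Category.id_comp _
  comm_s := (Category.comp_id _).symm
  comm_t := (Category.comp_id _).symm
  comm_c := fun α β h => lift_c'_ι G ι c' hc α β h

include hc in
theorem subLift_comm_c {G₁ : Grpd.GroupoidScheme S} (f : Grpd.GroupoidScheme.Hom G₁ G)
    (τ : G₁.R ⟶ Z) (hτ : τ ≫ ι = f.fR) {T : Scheme.{u}} (α β : T ⟶ G₁.R)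
    (h : α ≫ G₁.s = β ≫ G₁.t) (h' : (α ≫ τ) ≫ ι ≫ G.s = (β ≫ τ) ≫ ι ≫ G.t) :
    (pullback.lift α β h ≫ G₁.c) ≫ τ =
      pullback.lift (f := ι ≫ G.s) (g := ι ≫ G.t) (α ≫ τ) (β ≫ τ) h' ≫ c' := by
  rw [← cancel_mono ι, Category.assoc, hτ]
  refine (f.comm_c α β h).trans ?_
  refine Eq.trans ?_ (lift_c'_ι G ι c' hc _ _ _).symm
  unfold Groth.Agent.Helper18Grpd.cmp
  congr 1
  apply pullback.hom_ext
  · rw [pullback.lift_fst, pullback.lift_fst, Category.assoc, hτ]
  · rw [pullback.lift_snd, pullback.lift_snd, Category.assoc, hτ]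

/-- A morphism of groupoid schemes into `G` whose arrow component factors through `ι` lifts to the
sub-groupoid. -/
noncomputable def subLiftHom {G₁ : Grpd.GroupoidScheme S} (f : Grpd.GroupoidScheme.Hom G₁ G)
    (τ : G₁.R ⟶ Z) (hτ : τ ≫ ι = f.fR) :
    Grpd.GroupoidScheme.Hom G₁ (sub G ι e' he i' hi c' hc) where
  fU := f.fU
  fR := τ
  fU_over := f.fU_over
  comm_s := by
    change τ ≫ ι ≫ G.s = G₁.s ≫ f.fU
    rw [← f.comm_s, ← hτ, Category.assoc]
  comm_t := by
    change τ ≫ ι ≫ G.t = G₁.t ≫ f.fU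
    rw [← f.comm_t, ← hτ, Category.assoc]
  comm_c := fun α β h => subLift_comm_c G ι c' hc f τ hτ α β h _

end Groth.Agent.Lib.Seat33.SubGrpd
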