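import Mathlib
import Groth.Prelude.Def_Grpd
import Groth.Agent.Lib.Seat33SubGrpd
import Groth.Agent.Lib.Seat33GrpdField

set_option autoImplicit false
universe u
open CategoryTheory CategoryTheory.Limits AlgebraicGeometry TopologicalSpace
open Groth.Agent.Helper18Grpd

namespace Groth.Agent.Lib.Seat33.GrpdImage

section General

variable {X Y Z : Scheme.{u}}

/-- `f.toImage` is scheme-theoretically dominant for quasi-compact `f`. -/
theorem isSchemeTheoreticallyDominant_toImage (h : X ⟶ Y) [QuasiCompact h] :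
    IsSchemeTheoreticallyDominant h.toImage := by
  refine ⟨?_⟩
  have hcov : ⨆ U : Y.affineOpens, (h.imageι ⁻¹ᵁ U.1) = ⊤ := by
    rw [← Scheme.Hom.preimage_iSup, iSup_affineOpens_eq_top]
    rfl
  refine Scheme.IdealSheafData.ext_of_iSup_eq_top
    (fun U : Y.affineOpens => ⟨h.imageι ⁻¹ᵁ U.1, U.2.preimage h.imageι⟩) hcov fun U => ?_
  rw [Scheme.IdealSheafData.ideal_bot, Pi.bot_apply, eq_bot_iff]
  refine (h.toImage.ideal_ker_le _).trans ?_
  rw [le_bot_iff, ← RingHom.injective_iff_ker_eq_bot]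
  exact h.toImage_app_injective U

theorem ker_le_ker_comp (f : X ⟶ Y) (g : Y ⟶ Z) : g.ker ≤ (f ≫ g).ker := by
  rw [Scheme.Hom.ker_comp, ← Scheme.IdealSheafData.map_bot g]
  exact Scheme.IdealSheafData.map_mono g bot_le

theorem ker_comp_of_dominant (f : X ⟶ Y) [IsSchemeTheoreticallyDominant f] (g : Y ⟶ Z) :
    (f ≫ g).ker = g.ker := by
  rw [Scheme.Hom.ker_comp, f.ker_eq_bot, Scheme.IdealSheafData.map_bot]

/-- product of two scheme-theoretically dominant quasi-compact morphisms over a field-like base. -/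
theorem isSchemeTheoreticallyDominant_pullback_map {B B' X₁ Y₁ X₂ Y₂ : Scheme.{u}}
    [IsIntegral B'] [Subsingleton B']
    (f₁ : X₁ ⟶ B) (g₁ : Y₁ ⟶ B) (f₂ : X₂ ⟶ B') (g₂ : Y₂ ⟶ B') (a : X₁ ⟶ X₂) (b : Y₁ ⟶ Y₂)
    (e : B ⟶ B') [Mono e] (h₁ : f₁ ≫ e = a ≫ f₂) (h₂ : g₁ ≫ e = b ≫ g₂)
    [IsSchemeTheoreticallyDominant a] [QuasiCompact a]
    [IsSchemeTheoreticallyDominant b] [QuasiCompact b] :
    IsSchemeTheoreticallyDominant (pullback.map f₁ g₁ f₂ g₂ a b e h₁ h₂) := by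
  -- first factor: `a × id`
  let Ta : pullback f₁ g₁ ⟶ pullback f₂ (b ≫ g₂) :=
    pullback.map f₁ g₁ f₂ (b ≫ g₂) a (𝟙 _) e h₁ (by rw [h₂, Category.id_comp])
  let Tb : pullback f₂ (b ≫ g₂) ⟶ pullback f₂ g₂ :=
    pullback.map f₂ (b ≫ g₂) f₂ g₂ (𝟙 _) b (𝟙 _) (by simp) (by simp)
  have hTa_snd : Ta ≫ pullback.snd f₂ (b ≫ g₂) = pullback.snd f₁ g₁ := by
    dsimp only [Ta]; rw [pullback.lift_snd, Category.comp_id]
  have hTa_fst : Ta ≫ pullback.fst f₂ (b ≫ g₂) = pullback.fst f₁ g₁ ≫ a := by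
    dsimp only [Ta]; rw [pullback.lift_fst]
  have hTb_fst : Tb ≫ pullback.fst f₂ g₂ = pullback.fst f₂ (b ≫ g₂) := by
    dsimp only [Tb]; rw [pullback.lift_fst, Category.comp_id]
  have hTb_snd : Tb ≫ pullback.snd f₂ g₂ = pullback.snd f₂ (b ≫ g₂) ≫ b := by
    dsimp only [Tb]; rw [pullback.lift_snd]
  have hT : pullback.map f₁ g₁ f₂ g₂ a b e h₁ h₂ = Ta ≫ Tb := by
    apply pullback.hom_ext
    · rw [Category.assoc, hTb_fst, hTa_fst, pullback.lift_fst]
    · rw [Category.assoc, hTb_snd, ← Category.assoc, hTa_snd, pullback.lift_snd]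
  -- `Ta` is a base change of `a`
  have hbig : IsPullback (pullback.snd f₁ g₁) (pullback.fst f₁ g₁) (b ≫ g₂) (a ≫ f₂) := by
    have h0 : IsPullback (pullback.fst f₁ g₁) (pullback.snd f₁ g₁) (f₁ ≫ e) (g₁ ≫ e) :=
      ⟨⟨by rw [pullback.condition_assoc]⟩, ⟨pullbackIsPullbackOfCompMono f₁ g₁ e⟩⟩
    rw [h₁, h₂] at h0
    exact h0.flip
  have hleft : IsPullback Ta (pullback.fst f₁ g₁) (pullback.fst f₂ (b ≫ g₂)) a := by
    refine IsPullback.of_right (h₁₂ := pullback.snd f₂ (b ≫ g₂)) (h₂₂ := f₂) ?_ hTa_fst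
      (IsPullback.of_hasPullback f₂ (b ≫ g₂)).flip
    rw [hTa_snd]
    exact hbig
  have : IsSchemeTheoreticallyDominant Ta :=
    IsSchemeTheoreticallyDominant.of_isPullback hleft.flip
  -- `Tb` is a base change of `b`
  have hleft' : IsPullback Tb (pullback.snd f₂ (b ≫ g₂)) (pullback.snd f₂ g₂) b := by
    refine IsPullback.of_right (h₁₂ := pullback.fst f₂ g₂) (h₂₂ := g₂) ?_ hTb_snd
      (IsPullback.of_hasPullback f₂ g₂)
    rw [hTb_fst]
    exact IsPullback.of_hasPullback f₂ (b ≫ g₂)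
  have : IsSchemeTheoreticallyDominant Tb :=
    IsSchemeTheoreticallyDominant.of_isPullback hleft'.flip
  rw [hT]
  infer_instance

end General

section Main

open Groth.Agent.Lib.Seat33.GrpdField Groth.Agent.Lib.Seat33.SubGrpd

variable (S : Scheme.{u}) (G₁ G₂ : Grpd.GroupoidScheme S) (f : Grpd.GroupoidScheme.Hom G₁ G₂)

/-- Data version: over a field, the scheme-theoretic image `Z` of a quasi-compact morphism of
groupoid schemes (iso on objects) carries lifts of identity, inverse and composition. -/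
theorem exists_image_data [IsIso f.fU] [QuasiCompact f.fR] (k : Type u) [Field k]
    (eU : G₂.U ≅ Spec (CommRingCat.of k)) :
    ∃ (Z : Scheme.{u}) (ι : Z ⟶ G₂.R) (_ : IsClosedImmersion ι) (τ : G₁.R ⟶ Z)
      (_ : τ ≫ ι = f.fR) (e' : G₂.U ⟶ Z)
      (_ : e' ≫ ι = G₂.e) (i' : Z ⟶ Z) (_ : i' ≫ ι = ι ≫ G₂.i)
      (c' : pullback (ι ≫ G₂.s) (ι ≫ G₂.t) ⟶ Z)
      (_ : c' ≫ ι = pullback.map (ι ≫ G₂.s) (ι ≫ G₂.t) G₂.s G₂.t ι ι (𝟙 _) (by simp) (by simp) ≫
        G₂.c), ι.ker = f.fR.ker := by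
  have hI : IsIntegral G₂.U := by
    have : IsIntegral (Spec (CommRingCat.of k)) := inferInstance
    have : Nonempty G₂.U := ⟨eU.inv (IsLocalRing.closedPoint k)⟩
    exact isIntegral_of_isOpenImmersion eU.hom
  have hS : Subsingleton G₂.U := (eU.hom.homeomorph.injective).subsingleton
  let ι : f.fR.image ⟶ G₂.R := f.fR.imageι
  let τ : G₁.R ⟶ f.fR.image := f.fR.toImage
  have hτι : τ ≫ ι = f.fR := f.fR.toImage_imageι
  have hιker : ι.ker = f.fR.ker := Scheme.IdealSheafData.ker_subschemeι _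
  have hτdom : IsSchemeTheoreticallyDominant τ := isSchemeTheoreticallyDominant_toImage f.fR
  have hτqc : QuasiCompact τ := inferInstance
  -- identity
  let e' : G₂.U ⟶ f.fR.image := inv f.fU ≫ G₁.e ≫ τ
  have he : e' ≫ ι = G₂.e := by
    simp only [e', Category.assoc, hτι, hom_e, IsIso.inv_hom_id_assoc]
  -- inverse
  have hi_ker : ι.ker ≤ (ι ≫ G₂.i).ker := by
    rw [← ker_comp_of_dominant τ (ι ≫ G₂.i), ← Category.assoc, hτι, ← hom_i, hιker]
    exact ker_le_ker_comp _ _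
  let i' : f.fR.image ⟶ f.fR.image := IsClosedImmersion.lift ι (ι ≫ G₂.i) hi_ker
  have hi : i' ≫ ι = ι ≫ G₂.i := IsClosedImmersion.lift_fac _ _ _
  -- composition
  let N : pullback (ι ≫ G₂.s) (ι ≫ G₂.t) ⟶ pullback G₂.s G₂.t :=
    pullback.map (ι ≫ G₂.s) (ι ≫ G₂.t) G₂.s G₂.t ι ι (𝟙 _) (by simp) (by simp)
  have h1 : G₁.s ≫ f.fU = τ ≫ ι ≫ G₂.s := by rw [← Category.assoc, hτι, f.comm_s]
  have h2 : G₁.t ≫ f.fU = τ ≫ ι ≫ G₂.t := by rw [← Category.assoc, hτι, f.comm_t]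
  let T : pullback G₁.s G₁.t ⟶ pullback (ι ≫ G₂.s) (ι ≫ G₂.t) :=
    pullback.map G₁.s G₁.t (ι ≫ G₂.s) (ι ≫ G₂.t) τ τ f.fU h1 h2
  have hTdom : IsSchemeTheoreticallyDominant T :=
    isSchemeTheoreticallyDominant_pullback_map _ _ _ _ τ τ f.fU h1 h2
  let M : pullback G₁.s G₁.t ⟶ pullback G₂.s G₂.t :=
    pullback.map G₁.s G₁.t G₂.s G₂.t f.fR f.fR f.fU f.comm_s.symm f.comm_t.symm
  have hTN : T ≫ N = M := by
    apply pullback.hom_ext
    · dsimp only [T, N, M]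
      rw [Category.assoc, pullback.lift_fst, pullback.lift_fst_assoc, pullback.lift_fst,
        Category.assoc, hτι]
    · dsimp only [T, N, M]
      rw [Category.assoc, pullback.lift_snd, pullback.lift_snd_assoc, pullback.lift_snd,
        Category.assoc, hτι]
  have hMc : M ≫ G₂.c = G₁.c ≫ f.fR := by
    have h := f.comm_c (pullback.fst G₁.s G₁.t) (pullback.snd G₁.s G₁.t) pullback.condition
    have e1 : pullback.lift (pullback.fst G₁.s G₁.t) (pullback.snd G₁.s G₁.t) pullback.condition =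
        𝟙 _ := by
      apply pullback.hom_ext <;> simp
    rw [e1, Category.id_comp] at h
    rw [h]
  have hc_ker : ι.ker ≤ (N ≫ G₂.c).ker := by
    rw [← ker_comp_of_dominant T (N ≫ G₂.c), ← Category.assoc, hTN, hMc, hιker]
    exact ker_le_ker_comp _ _
  let c' : pullback (ι ≫ G₂.s) (ι ≫ G₂.t) ⟶ f.fR.image :=
    IsClosedImmersion.lift ι (N ≫ G₂.c) hc_ker
  have hc : c' ≫ ι = N ≫ G₂.c := IsClosedImmersion.lift_fac _ _ _
  exact ⟨f.fR.image, ι, inferInstance, τ, hτι, e', he, i', hi, c', hc, hιker⟩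

/-- Over a field, the scheme-theoretic image of a quasi-compact morphism of groupoid schemes
(iso on objects) is a sub-groupoid scheme. -/
theorem exists_image_subgroupoid [IsIso f.fU] [QuasiCompact f.fR] (k : Type u) [Field k]
    (eU : G₂.U ≅ Spec (CommRingCat.of k)) :
    ∃ (G' : Grpd.GroupoidScheme S) (ψ : Grpd.GroupoidScheme.Hom G' G₂), IsIso ψ.fU ∧
      IsClosedImmersion ψ.fR ∧ ψ.fR.ker = f.fR.ker := by
  obtain ⟨Z, ι, hιc, τ, hτι, e', he, i', hi, c', hc, hιker⟩ := exists_image_data S G₁ G₂ f k eU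
  refine ⟨sub G₂ ι e' he i' hi c' hc, subHom G₂ ι e' he i' hi c' hc, ?_, ?_, ?_⟩
  · change IsIso (𝟙 G₂.U)
    infer_instance
  · change IsClosedImmersion ι
    infer_instance
  · exact hιker

end Main

end Groth.Agent.Lib.Seat33.GrpdImage
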