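import Mathlib
import Groth.Prelude.Def_Grpd

set_option autoImplicit false
universe u
open CategoryTheory CategoryTheory.Limits AlgebraicGeometry

namespace Groth.Agent.Lib.Seat33.PairGrpd

variable {S U : Scheme.{u}} (pU : U ⟶ S)

/-- composition on the pair groupoid: `((a,b),(b,c)) ↦ (a,c)`. -/
noncomputable def pairC :
    pullback (pullback.snd pU pU) (pullback.fst pU pU) ⟶ pullback pU pU :=
  pullback.lift (pullback.fst _ _ ≫ pullback.fst pU pU) (pullback.snd _ _ ≫ pullback.snd pU pU) (by
    rw [Category.assoc, Category.assoc, pullback.condition, ← Category.assoc, pullback.condition,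
      Category.assoc, pullback.condition])

@[reassoc (attr := simp)]
theorem pairC_fst : pairC pU ≫ pullback.fst pU pU = pullback.fst _ _ ≫ pullback.fst pU pU :=
  pullback.lift_fst _ _ _

@[reassoc (attr := simp)]
theorem pairC_snd : pairC pU ≫ pullback.snd pU pU = pullback.snd _ _ ≫ pullback.snd pU pU :=
  pullback.lift_snd _ _ _

/-- The pair groupoid `(U, U ×_S U, pr₁, pr₀, pr₀₂)` of `U` over `S`: an arrow `(a, b)` goes
from `b` to `a`. -/
noncomputable def pairGrpd : Grpd.GroupoidScheme S where
  U := U
  R := pullback pU pU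
  pU := pU
  pR := pullback.fst pU pU ≫ pU
  s := pullback.snd pU pU
  t := pullback.fst pU pU
  e := pullback.lift (𝟙 U) (𝟙 U) rfl
  i := pullback.lift (pullback.snd pU pU) (pullback.fst pU pU) pullback.condition.symm
  c := pairC pU
  s_over := pullback.condition.symm
  t_over := rfl
  comp_s := fun α β h => by
    simp only [Category.assoc, pairC_snd, pullback.lift_snd_assoc]
  comp_t := fun α β h => by
    simp only [Category.assoc, pairC_fst, pullback.lift_fst_assoc]
  assoc := fun α β γ h₁ h₂ => by
    apply pullback.hom_ext <;>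
    simp only [Category.assoc, pairC_fst, pairC_snd, pullback.lift_fst_assoc,
      pullback.lift_snd_assoc]
  e_s := pullback.lift_snd _ _ _
  e_t := pullback.lift_fst _ _ _
  comp_e := fun α => by
    apply pullback.hom_ext <;>
    simp only [Category.assoc, pairC_fst, pairC_snd, pullback.lift_fst_assoc,
      pullback.lift_snd_assoc, pullback.lift_snd, Category.comp_id]
  e_comp := fun α => by
    apply pullback.hom_ext <;>
    simp only [Category.assoc, pairC_fst, pairC_snd, pullback.lift_fst_assoc,
      pullback.lift_snd_assoc, pullback.lift_fst, Category.comp_id]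
  i_s := pullback.lift_snd _ _ _
  i_t := pullback.lift_fst _ _ _
  comp_i := fun α => by
    apply pullback.hom_ext <;>
    simp only [Category.assoc, pairC_fst, pairC_snd, pullback.lift_fst_assoc,
      pullback.lift_snd_assoc, pullback.lift_fst, pullback.lift_snd, Category.comp_id]
  i_comp := fun α => by
    apply pullback.hom_ext <;>
    simp only [Category.assoc, pairC_fst, pairC_snd, pullback.lift_fst_assoc,
      pullback.lift_snd_assoc, pullback.lift_fst, pullback.lift_snd, Category.comp_id]

variable (G : Grpd.GroupoidScheme S)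

theorem j_fst : G.j ≫ pullback.fst G.pU G.pU = G.t := pullback.lift_fst _ _ _

theorem j_snd : G.j ≫ pullback.snd G.pU G.pU = G.s := pullback.lift_snd _ _ _

theorem j_comm_c {T : Scheme.{u}} (α β : T ⟶ G.R) (h : α ≫ G.s = β ≫ G.t)
    (h' : (α ≫ G.j) ≫ pullback.snd G.pU G.pU = (β ≫ G.j) ≫ pullback.fst G.pU G.pU) :
    (pullback.lift α β h ≫ G.c) ≫ G.j =
      pullback.lift (f := pullback.snd G.pU G.pU) (g := pullback.fst G.pU G.pU)
        (α ≫ G.j) (β ≫ G.j) h' ≫ pairC G.pU := by
  apply pullback.hom_ext
  · rw [Category.assoc, j_fst, G.comp_t, Category.assoc, pairC_fst, pullback.lift_fst_assoc,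
      Category.assoc, j_fst]
  · rw [Category.assoc, j_snd, G.comp_s, Category.assoc, pairC_snd, pullback.lift_snd_assoc,
      Category.assoc, j_snd]

/-- `j = (t, s)` as a morphism of groupoid schemes to the pair groupoid. -/
noncomputable def jHom : Grpd.GroupoidScheme.Hom G (pairGrpd G.pU) where
  fU := 𝟙 _
  fR := G.j
  fU_over := Category.id_comp _
  comm_s := (j_snd G).trans (Category.comp_id _).symm
  comm_t := (j_fst G).trans (Category.comp_id _).symm
  comm_c := fun α β h => j_comm_c G α β h _

end Groth.Agent.Lib.Seat33.PairGrpd
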