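import Mathlib
import Groth.Prelude.Def_Grpd
import Groth.Agent.Lib.Seat33PairGrpd
import Groth.Agent.Lib.Seat33GrpdRedCl
import Groth.Agent.Lib.Seat33GrpdImage

set_option autoImplicit false
universe u
open CategoryTheory CategoryTheory.Limits AlgebraicGeometry TopologicalSpace

namespace Groth.Agent.Lib.Seat33.PairGrpd

open Groth.Agent.Lib.Seat33.SubGrpd

variable (S : Scheme.{u}) (G : Grpd.GroupoidScheme S)

theorem pullback_map_id {X Y B : Scheme.{u}} (f : X ⟶ B) (g : Y ⟶ B) (h₁ h₂) :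
    pullback.map f g f g (𝟙 _) (𝟙 _) (𝟙 _) h₁ h₂ = 𝟙 _ := by
  apply pullback.hom_ext
  · rw [pullback.lift_fst, Category.comp_id, Category.id_comp]
  · rw [pullback.lift_snd, Category.comp_id, Category.id_comp]

/-- `j` of a sub-groupoid of the pair groupoid is the inclusion. -/
theorem sub_pair_j {U : Scheme.{u}} (pU : U ⟶ S) {Z : Scheme.{u}} (ι : Z ⟶ (pairGrpd pU).R)
    [Mono ι] (e' he i' hi c' hc) :
    (sub (pairGrpd pU) ι e' he i' hi c' hc).j = ι := by
  apply pullback.hom_ext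
  · exact pullback.lift_fst _ _ _
  · exact pullback.lift_snd _ _ _

/-- S7503. -/
theorem exists_reduced_pair_subgroupoid (k : Type u) [Field k] [PerfectField k]
    (eU : G.U ≅ Spec (CommRingCat.of k)) :
    ∃ (G' : Grpd.GroupoidScheme S) (ψ : G'.U ≅ G.U) (hψ : ψ.hom ≫ G.pU = G'.pU),
      IsReduced G'.R ∧ IsClosedImmersion G'.j ∧
      Set.range ⇑(G'.j ≫ pullback.map G'.pU G'.pU G.pU G.pU ψ.hom ψ.hom (𝟙 S)
        ((Category.comp_id _).trans hψ.symm) ((Category.comp_id _).trans hψ.symm)) =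
        closure (Set.range ⇑G.j) := by
  have : IsIso (jHom G).fU := by change IsIso (𝟙 G.U); infer_instance
  obtain ⟨Z, ι, hιc, e', he, i', hi, c', hc, hZred, hι⟩ :=
    Groth.Agent.Lib.Seat33.GrpdRedCl.exists_reduced_closure_data S G (pairGrpd G.pU) (jHom G) k eU
  refine ⟨sub (pairGrpd G.pU) ι e' he i' hi c' hc, Iso.refl _, Category.id_comp _, hZred, ?_, ?_⟩
  · rw [sub_pair_j]
    exact hιc
  · rw [sub_pair_j]
    erw [pullback_map_id G.pU G.pU, Category.comp_id]
    exact hι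

theorem quasiCompact_j [IsAffine G.U] [CompactSpace G.R] : QuasiCompact G.j := by
  have h1 : QuasiCompact (G.j ≫ pullback.fst G.pU G.pU) := by
    rw [j_fst]; infer_instance
  exact QuasiCompact.of_comp G.j (pullback.fst G.pU G.pU)

/-- S7509. -/
theorem exists_image_pair_subgroupoid (k : Type u) [Field k]
    (eU : G.U ≅ Spec (CommRingCat.of k)) [CompactSpace G.R] :
    ∃ (G' : Grpd.GroupoidScheme S) (φ : Grpd.GroupoidScheme.Hom G G'), IsIso φ.fU ∧
      IsClosedImmersion G'.j ∧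
      G'.j.ker = (G.j ≫ pullback.map G.pU G.pU G'.pU G'.pU φ.fU φ.fU (𝟙 S)
        ((Category.comp_id _).trans φ.fU_over.symm)
        ((Category.comp_id _).trans φ.fU_over.symm)).ker := by
  have : IsIso (jHom G).fU := by change IsIso (𝟙 G.U); infer_instance
  have : IsAffine G.U := .of_isIso eU.hom
  have : QuasiCompact (jHom G).fR := quasiCompact_j S G
  obtain ⟨Z, ι, hιc, τ, hτι, e', he, i', hi, c', hc, hιker⟩ :=
    Groth.Agent.Lib.Seat33.GrpdImage.exists_image_data S G (pairGrpd G.pU) (jHom G) k eU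
  refine ⟨sub (pairGrpd G.pU) ι e' he i' hi c' hc,
    subLiftHom (pairGrpd G.pU) ι e' he i' hi c' hc (jHom G) τ hτι, ?_, ?_, ?_⟩
  · change IsIso (𝟙 G.U)
    infer_instance
  · rw [sub_pair_j]
    exact hιc
  · rw [sub_pair_j]
    erw [pullback_map_id G.pU G.pU, Category.comp_id]
    exact hιker

end Groth.Agent.Lib.Seat33.PairGrpd
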