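import Mathlib
import Groth.Prelude.Def_HTop
import Groth.Agent.Lib.Seat33VLift

/-!
# V coverings versus the valuative lifting property

* `exists_lift_of_closedPoint_mem`: a morphism from a local scheme factors through any open
  containing the image of the closed point.
* `hasValLift_of_isVCover`: a V covering has the valuative lifting property.
* `isVCover_singleton_of_hasValLift`: for a quasi-compact morphism the converse holds.
-/

set_option autoImplicit false
universe w w' u

open CategoryTheory CategoryTheory.Limits AlgebraicGeometry IsLocalRing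

namespace Groth.Agent.Lib.Seat33.VSingle

/-- A morphism from the spectrum of a local ring factors through any open containing the image of
the closed point. -/
theorem exists_lift_of_closedPoint_mem {T : Scheme.{u}} (V : CommRingCat.{u}) [IsLocalRing V]
    (k : Spec V ⟶ T) (U : T.Opens) (hc : k (closedPoint V) ∈ U) :
    ∃ l : Spec V ⟶ (U : Scheme.{u}), l ≫ U.ι = k := by
  have hrange : Set.range k ⊆ Set.range U.ι := by
    rw [Scheme.Opens.range_ι]
    rintro _ ⟨y, rfl⟩
    have hy : y ⤳ closedPoint V := specializes_closedPoint (R := V) y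
    exact (hy.map k.continuous).mem_open U.2 hc
  exact ⟨IsOpenImmersion.lift U.ι k hrange, IsOpenImmersion.lift_fac _ _ _⟩

/-- A V covering has the valuative lifting property. -/
theorem hasValLift_of_isVCover {T : Scheme.{u}} (E : PreZeroHypercover.{w} T)
    (hE : HTop.IsVCover E) : HTop.HasValLift E := by
  intro V _ _ g
  obtain ⟨U, hU, hx, -⟩ := TopologicalSpace.Opens.isBasis_iff_nbhd.mp T.isBasis_affineOpens
    (TopologicalSpace.Opens.mem_top (g (closedPoint V)))
  obtain ⟨l, hl⟩ := exists_lift_of_closedPoint_mem V g U hx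
  obtain ⟨F, hF, hFE⟩ := hE ⟨U, hU⟩
  obtain ⟨W, hWd, hWv, φ, hφ, j, g', hg'⟩ := hF.lift V l
  obtain ⟨i, h, hh⟩ := hFE j
  refine ⟨W, hWd, hWv, φ, hφ, i, g' ≫ h, ?_⟩
  rw [Category.assoc, hh, ← Category.assoc, hg', Category.assoc]
  congr 1

/-- For a quasi-compact morphism, the valuative lifting property implies that the one-member
family is a V covering. -/
theorem isVCover_singleton_of_hasValLift {X Y : Scheme.{u}} (f : X ⟶ Y) [QuasiCompact f]
    (hf : HTop.HasValLift (PreZeroHypercover.singleton.{w} f)) :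
    HTop.IsVCover (PreZeroHypercover.singleton.{w} f) := by
  intro U
  have hc : IsCompact ((f ⁻¹ᵁ (U : Y.Opens) : X.Opens) : Set X) :=
    f.isCompact_preimage U.2.isCompact
  obtain ⟨Us, hUs, hUf, hUeq⟩ := X.isBasis_affineOpens.exists_finite_of_isCompact hc
  have : Finite ↥Us := hUf
  obtain ⟨n, ⟨e⟩⟩ := Finite.exists_equiv_fin ↥Us
  have hle : ∀ i : Fin n, ((e.symm i : ↥Us) : X.Opens) ≤ f ⁻¹ᵁ (U : Y.Opens) := by
    intro i
    rw [hUeq]
    exact le_sSup (e.symm i).2
  let F : PreZeroHypercover.{0} ((U : Y.Opens) : Scheme.{u}) :=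
    { I₀ := Fin n
      X := fun i => (((e.symm i : ↥Us) : X.Opens) : Scheme.{u})
      f := fun i => X.homOfLE (hle i) ≫ (f ∣_ (U : Y.Opens)) }
  refine ⟨F, ⟨U.2, inferInstanceAs (Finite (Fin n)), fun i => hUs (e.symm i).2, ?_⟩, ?_⟩
  · intro V _ _ l
    obtain ⟨W, hWd, hWv, φ, hφ, j, g', hg'⟩ := hf V (l ≫ (U : Y.Opens).ι)
    let g'' : Spec W ⟶ X := g'
    have hg'' : g'' ≫ f = Spec.map φ ≫ l ≫ (U : Y.Opens).ι := hg'
    have hmem : g'' (closedPoint W) ∈ f ⁻¹ᵁ (U : Y.Opens) := by
      change f (g'' (closedPoint W)) ∈ (U : Y.Opens)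
      rw [← Scheme.Hom.comp_apply, hg'', ← Category.assoc, Scheme.Hom.comp_apply]
      have : (U : Y.Opens).ι ((Spec.map φ ≫ l) (closedPoint W)) ∈ Set.range (U : Y.Opens).ι :=
        ⟨_, rfl⟩
      rwa [Scheme.Opens.range_ι] at this
    rw [hUeq] at hmem
    obtain ⟨W', hW', hmemW'⟩ : ∃ W' ∈ Us, g'' (closedPoint W) ∈ W' := by
      simpa [TopologicalSpace.Opens.mem_sSup] using hmem
    obtain ⟨i, hi⟩ : ∃ i : Fin n, ((e.symm i : ↥Us) : X.Opens) = W' :=
      ⟨e ⟨W', hW'⟩, by simp⟩
    subst hi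
    obtain ⟨k, hk⟩ := exists_lift_of_closedPoint_mem W g'' _ hmemW'
    refine ⟨W, hWd, hWv, φ, hφ, i, k, ?_⟩
    change k ≫ X.homOfLE (hle i) ≫ (f ∣_ (U : Y.Opens)) = _
    rw [← cancel_mono (U : Y.Opens).ι, Category.assoc, Category.assoc, morphismRestrict_ι,
      Scheme.homOfLE_ι_assoc, ← Category.assoc, hk, hg'', Category.assoc]
  · intro i
    refine ⟨PUnit.unit, Scheme.Opens.ι ((e.symm i : ↥Us) : X.Opens), ?_⟩
    change Scheme.Opens.ι ((e.symm i : ↥Us) : X.Opens) ≫ f =
      (X.homOfLE (hle i) ≫ (f ∣_ (U : Y.Opens))) ≫ _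
    rw [Category.assoc, morphismRestrict_ι, Scheme.homOfLE_ι_assoc]

/-- The valuative lifting property of a family implies that specializations lift along every base
change, to some member of the family. -/
theorem exists_specializes_of_hasValLift_family {T : Scheme.{u}} (E : PreZeroHypercover.{w} T)
    (hE : HTop.HasValLift E) {Z : Scheme.{u}} (g : Z ⟶ T) {z' z : Z} (hz : z' ⤳ z) :
    ∃ (j : E.I₀) (w' w : ↑(pullback g (E.f j))), w' ⤳ w ∧ pullback.fst g (E.f j) w' = z' ∧
      pullback.fst g (E.f j) w = z := by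
  obtain ⟨A, l, hl₁, hl₂⟩ := VLift.exists_valuationRing_of_specializes hz
  have : IsDomain (CommRingCat.of A) := inferInstanceAs (IsDomain A)
  have : ValuationRing (CommRingCat.of A) := inferInstanceAs (ValuationRing A)
  obtain ⟨W, hWd, hWv, φ, ⟨hφi, hφl⟩, j, g', hg'⟩ := hE (CommRingCat.of A) (l ≫ g)
  let m : Spec W ⟶ pullback g (E.f j) :=
    pullback.lift (Spec.map φ ≫ l) g' (by rw [Category.assoc, hg'])
  let ηW : Spec W := (⟨⊥, Ideal.isPrime_bot⟩ : PrimeSpectrum W)
  refine ⟨j, m ηW, m (closedPoint W), ?_, ?_, ?_⟩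
  · exact (specializes_closedPoint (R := W) ηW).map m.continuous
  · rw [← Scheme.Hom.comp_apply, pullback.lift_fst, Scheme.Hom.comp_apply]
    have h1 : ((Spec.map φ) ηW : PrimeSpectrum A).asIdeal = ⊥ := by
      change Ideal.comap φ.hom ⊥ = ⊥
      rw [← RingHom.ker_eq_comap_bot, ← RingHom.injective_iff_ker_eq_bot]
      exact hφi
    exact VLift.apply_of_asIdeal_eq_bot A l hl₁ _ h1
  · rw [← Scheme.Hom.comp_apply, pullback.lift_fst, Scheme.Hom.comp_apply]
    have : (Spec.map φ) (closedPoint W) = closedPoint A :=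
      (isLocalHom_iff_comap_closedPoint φ.hom).1 hφl
    rw [this, hl₂]

/-- The valuative lifting property implies that specializations lift along every base change. -/
theorem exists_specializes_of_hasValLift {X Y : Scheme.{u}} (f : X ⟶ Y)
    (hf : HTop.HasValLift (PreZeroHypercover.singleton.{w} f)) {Z : Scheme.{u}} (g : Z ⟶ Y)
    {z' z : Z} (hz : z' ⤳ z) :
    ∃ w' w : ↑(pullback g f), w' ⤳ w ∧ pullback.fst g f w' = z' ∧ pullback.fst g f w = z := by
  obtain ⟨j, w', w, h⟩ := exists_specializes_of_hasValLift_family _ hf g hz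
  exact ⟨w', w, h⟩

/-- If specializations lift along the base change of `f` to every valuation ring, then `f` has the
valuative lifting property. -/
theorem hasValLift_singleton_of_exists_specializes {X Y : Scheme.{u}} (f : X ⟶ Y)
    (H : ∀ (Z : Scheme.{u}) (g : Z ⟶ Y) (z' z : Z), z' ⤳ z →
      ∃ w' w : ↑(pullback g f), w' ⤳ w ∧ pullback.fst g f w' = z' ∧ pullback.fst g f w = z) :
    HTop.HasValLift (PreZeroHypercover.singleton.{w} f) := by
  intro V _ _ g
  let η : Spec V := (⟨⊥, Ideal.isPrime_bot⟩ : PrimeSpectrum V)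
  obtain ⟨w', w, hw, hw', hwc⟩ := H (Spec V) g η (closedPoint V)
    (specializes_closedPoint (R := V) η)
  obtain ⟨W, hWd, hWv, φ, hφ, g', hg', -⟩ :=
    VLift.exists_extVal_of_specializes V g f hw (by rw [hw']) hwc
  exact ⟨W, hWd, hWv, φ, hφ, PUnit.unit, g', hg'⟩

/-- The valuative lifting property of a one-member family does not depend on the universe of the
index type. -/
theorem hasValLift_singleton_univ {X Y : Scheme.{u}} (f : X ⟶ Y)
    (hf : HTop.HasValLift (PreZeroHypercover.singleton.{w} f)) :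
    HTop.HasValLift (PreZeroHypercover.singleton.{w'} f) := by
  intro V _ _ g
  obtain ⟨W, hWd, hWv, φ, hφ, j, g', hg'⟩ := hf V g
  exact ⟨W, hWd, hWv, φ, hφ, PUnit.unit, g', hg'⟩

/-- The valuative lifting property of a family implies that every specialization of the base lifts
to a specialization in some member of the family. -/
theorem exists_specializes_lift_of_hasValLift {T : Scheme.{u}} (E : PreZeroHypercover.{w} T)
    (hE : HTop.HasValLift E) {s' s : T} (hs : s' ⤳ s) :
    ∃ (j : E.I₀) (t' t : E.X j), t' ⤳ t ∧ E.f j t' = s' ∧ E.f j t = s := by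
  obtain ⟨j, w', w, hw, hw', hw''⟩ := exists_specializes_of_hasValLift_family E hE (𝟙 T) hs
  refine ⟨j, pullback.snd (𝟙 T) (E.f j) w', pullback.snd (𝟙 T) (E.f j) w,
    hw.map (pullback.snd (𝟙 T) (E.f j)).continuous, ?_, ?_⟩
  · rw [← Scheme.Hom.comp_apply, ← pullback.condition, Scheme.Hom.comp_apply, hw']
    rfl
  · rw [← Scheme.Hom.comp_apply, ← pullback.condition, Scheme.Hom.comp_apply, hw'']
    rfl

end Groth.Agent.Lib.Seat33.VSingle
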