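import Mathlib
import Groth.Prelude.Def_HTop

/-!
# Cartesian squares of sections from two covering families (helper82)

Abstract part: in any category `C` with a presheaf `P`, a square `E, Z, X, Y` behaving like the
fibre square of a closed immersion `i : Z ⟶ Y` and a covering morphism `f : X ⟶ Y`, such that `P`
has the sheaf property for the two-member family `{f, i}` and is separated for the two-member family
`{Δ, q}` on the self-product `X ×_Y X` (`Δ` the diagonal, `q` the inverse image of `Z`), turns the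
square into a cartesian square of sets of sections.
-/

set_option autoImplicit false
universe w v u

open CategoryTheory CategoryTheory.Limits Opposite

namespace Groth.Agent.Lib.Seat82.HSquare

/-- A two-element index type. -/
inductive Two : Type
  | l
  | r

instance : Finite Two :=
  Finite.intro (n := 2)
    { toFun := fun t => match t with | .l => 0 | .r => 1
      invFun := fun k => if k = 0 then .l else .r
      left_inv := fun t => by cases t <;> simp
      right_inv := fun k => by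
        fin_cases k <;> simp }

variable {C : Type u} [Category.{v} C]

/-- The two objects of a two-member family. -/
def Two.obj (X Z : C) : Two → C
  | .l => X
  | .r => Z

/-- The two morphisms of a two-member family. -/
def Two.hom {X Z Y : C} (f : X ⟶ Y) (i : Z ⟶ Y) : (j : Two) → (Two.obj X Z j ⟶ Y)
  | .l => f
  | .r => i

/-- Separatedness for a two-member family, spelled out. -/
theorem eq_of_isSeparatedFor_two (P : Cᵒᵖ ⥤ Type w) {X Z Y : C} (f : X ⟶ Y) (i : Z ⟶ Y)
    (h : Presieve.IsSeparatedFor P (Presieve.ofArrows (Two.obj X Z) (Two.hom f i)))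
    (s₁ s₂ : P.obj (op Y)) (hf : P.map f.op s₁ = P.map f.op s₂)
    (hi : P.map i.op s₁ = P.map i.op s₂) : s₁ = s₂ := by
  refine h (fun W g _ => P.map g.op s₁) s₁ s₂ (fun W g _ => rfl) ?_
  rintro W g ⟨j⟩
  cases j
  · exact hf.symm
  · exact hi.symm

theorem map_comp_op (P : Cᵒᵖ ⥤ Type w) {A B D : C} (a : A ⟶ B) (b : B ⟶ D) (s : P.obj (op D)) :
    P.map (a ≫ b).op s = P.map a.op (P.map b.op s) := by
  simp

/-- The abstract cartesian-square lemma. -/
theorem existsUnique_of_covers (P : Cᵒᵖ ⥤ Type w) {E Z X Y Pb Q : C}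
    (e : E ⟶ X) (π : E ⟶ Z) (f : X ⟶ Y) (i : Z ⟶ Y) [Mono i]
    (liftE : ∀ {W : C} (a : W ⟶ X) (r : W ⟶ Z), a ≫ f = r ≫ i →
      ∃ c : W ⟶ E, c ≫ e = a ∧ c ≫ π = r)
    (p₁ p₂ : Pb ⟶ X) (hp : p₁ ≫ f = p₂ ≫ f)
    (liftP : ∀ {W : C} (a b : W ⟶ X), a ≫ f = b ≫ f → ∃ c : W ⟶ Pb, c ≫ p₁ = a ∧ c ≫ p₂ = b)
    (Δ : X ⟶ Pb) (hΔ₁ : Δ ≫ p₁ = 𝟙 X) (hΔ₂ : Δ ≫ p₂ = 𝟙 X)
    (q : Q ⟶ Pb) (r : Q ⟶ Z) (hq : q ≫ p₁ ≫ f = r ≫ i)
    (h1 : Presieve.IsSheafFor P (Presieve.ofArrows (Two.obj X Z) (Two.hom f i)))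
    (h2 : Presieve.IsSeparatedFor P (Presieve.ofArrows (Two.obj X Q) (Two.hom Δ q)))
    (t : P.obj (op Z)) (s' : P.obj (op X)) (hts : P.map π.op t = P.map e.op s') :
    ∃! s : P.obj (op Y), P.map i.op s = t ∧ P.map f.op s = s' := by
  -- the two pullbacks of `s'` to the self-product agree
  have key : P.map p₁.op s' = P.map p₂.op s' := by
    apply eq_of_isSeparatedFor_two P Δ q h2
    · rw [← map_comp_op, ← map_comp_op, hΔ₁, hΔ₂]
    · obtain ⟨a₁, ha₁, ha₁'⟩ := liftE (q ≫ p₁) r (by rw [Category.assoc, hq])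
      obtain ⟨a₂, ha₂, ha₂'⟩ := liftE (q ≫ p₂) r (by rw [Category.assoc, ← hp, hq])
      have h₁ : P.map q.op (P.map p₁.op s') = P.map r.op t := by
        rw [← map_comp_op, ← ha₁, map_comp_op, ← hts, ← map_comp_op, ha₁']
      have h₂ : P.map q.op (P.map p₂.op s') = P.map r.op t := by
        rw [← map_comp_op, ← ha₂, map_comp_op, ← hts, ← map_comp_op, ha₂']
      rw [h₁, h₂]
  rw [Presieve.isSheafFor_arrows_iff] at h1
  let x : (j : Two) → P.obj (op (Two.obj X Z j)) := fun j =>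
    match j with
    | .l => s'
    | .r => t
  have hx : Presieve.Arrows.Compatible P (Two.hom f i) x := by
    intro j k W gj gk hjk
    cases j <;> cases k
    · -- both through `X`
      obtain ⟨a, rfl⟩ : ∃ a : W ⟶ X, a = gj := ⟨gj, rfl⟩
      obtain ⟨b, rfl⟩ : ∃ b : W ⟶ X, b = gk := ⟨gk, rfl⟩
      obtain ⟨c, hc₁, hc₂⟩ := liftP a b hjk
      change P.map a.op s' = P.map b.op s'
      rw [← hc₁, ← hc₂, map_comp_op, map_comp_op, key]
    · obtain ⟨a, rfl⟩ : ∃ a : W ⟶ X, a = gj := ⟨gj, rfl⟩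
      obtain ⟨b, rfl⟩ : ∃ b : W ⟶ Z, b = gk := ⟨gk, rfl⟩
      obtain ⟨c, hc₁, hc₂⟩ := liftE a b hjk
      change P.map a.op s' = P.map b.op t
      rw [← hc₁, ← hc₂, map_comp_op, map_comp_op, hts]
    · obtain ⟨a, rfl⟩ : ∃ a : W ⟶ Z, a = gj := ⟨gj, rfl⟩
      obtain ⟨b, rfl⟩ : ∃ b : W ⟶ X, b = gk := ⟨gk, rfl⟩
      obtain ⟨c, hc₁, hc₂⟩ := liftE b a hjk.symm
      change P.map a.op t = P.map b.op s'
      rw [← hc₁, ← hc₂, map_comp_op, map_comp_op, hts]
    · obtain ⟨a, rfl⟩ : ∃ a : W ⟶ Z, a = gj := ⟨gj, rfl⟩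
      obtain ⟨b, rfl⟩ : ∃ b : W ⟶ Z, b = gk := ⟨gk, rfl⟩
      have : a = b := (cancel_mono i).1 hjk
      change P.map a.op t = P.map b.op t
      rw [this]
  obtain ⟨s, hs, hsu⟩ := h1 x hx
  refine ⟨s, ⟨hs .r, hs .l⟩, fun s₂ hs₂ => hsu s₂ ?_⟩
  intro j
  cases j
  · exact hs₂.2
  · exact hs₂.1

/-- If the image in the base category of a family over `S` is covering for a precoverage `K`, a sheaf
for the topology generated by `K` restricted to `Over S` satisfies the sheaf condition for it. -/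
theorem isSheafFor_ofArrows_over {S : C} (K : Precoverage C) {I : Type*} {W : Over S}
    (Y : I → Over S) (g : ∀ j, Y j ⟶ W)
    (hg : Presieve.ofArrows (fun j => (Y j).left) (fun j => (g j).left) ∈ K W.left)
    (P : (Over S)ᵒᵖ ⥤ Type w) (hP : Presieve.IsSheaf (K.toGrothendieck.over S) P) :
    Presieve.IsSheafFor P (Presieve.ofArrows Y g) := by
  rw [Presieve.isSheafFor_iff_generate]
  apply hP
  rw [GrothendieckTopology.mem_over_iff]
  change Sieve.overEquiv W (Sieve.ofArrows _ _) ∈ _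
  rw [Sieve.overEquiv_ofArrows]
  exact Precoverage.generate_mem_toGrothendieck hg

end Groth.Agent.Lib.Seat82.HSquare
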