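import Mathlib
import Groth.Prelude.Def_HTop
import Groth.Agent.Lib.Seat33VSingle
import Groth.Agent.Lib.Seat82HSquare

/-!
# Finite families of proper morphisms as h and ph coverings (helper82)

* `hasValLift_of_universallyClosed`: a jointly surjective family of universally closed morphisms has
  the valuative lifting property.
* `isVCover_of_hasValLift`: a finite family of quasi-compact morphisms with the valuative lifting
  property is a V covering.
* `isHCover_of_proper`: a finite jointly surjective family of proper morphisms of finite presentation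
  is an h covering.
* `isProper_coprodDesc`: the morphism from a binary coproduct induced by two proper morphisms is
  proper.
* `isPhCover_two`: a jointly surjective pair of proper morphisms is a ph covering.
-/

set_option autoImplicit false
universe w u

open CategoryTheory CategoryTheory.Limits AlgebraicGeometry IsLocalRing

namespace Groth.Agent.Lib.Seat82.HCover

open Groth.Agent.Lib.Seat33 Groth.Agent.Lib.Seat82.HSquare

/-- A jointly surjective family of universally closed morphisms has the valuative lifting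
property. -/
theorem hasValLift_of_universallyClosed {T : Scheme.{u}} (E : PreZeroHypercover.{w} T)
    (hcl : ∀ j, UniversallyClosed (E.f j)) (hsurj : ∀ t : T, ∃ j, t ∈ Set.range (E.f j)) :
    HTop.HasValLift E := by
  intro V _ _ g
  let η : Spec V := (⟨⊥, Ideal.isPrime_bot⟩ : PrimeSpectrum V)
  obtain ⟨j, y, hy⟩ := hsurj (g η)
  obtain ⟨w', hw'₁, hw'₂⟩ := Scheme.Pullback.exists_preimage_pullback (f := g) (g := E.f j) η y hy.symm
  have := hcl j
  have hspec : SpecializingMap (pullback.fst g (E.f j)) :=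
    (pullback.fst g (E.f j)).isClosedMap.specializingMap
  obtain ⟨w, hw, hwz⟩ := hspec (a := w') (b := closedPoint V)
    (by rw [hw'₁]; exact specializes_closedPoint (R := V) η)
  obtain ⟨W, hWd, hWv, φ, hφ, g', hg', -⟩ :=
    VLift.exists_extVal_of_specializes V g (E.f j) hw (by rw [hw'₁]) hwz
  exact ⟨W, hWd, hWv, φ, hφ, j, g', hg'⟩

/-- A finite cover by affine opens of the preimage of an affine open under a quasi-compact
morphism. -/
theorem exists_fin_affine_cover {X T : Scheme.{u}} (f : X ⟶ T) [QuasiCompact f]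
    (U : T.affineOpens) :
    ∃ (n : ℕ) (W : Fin n → X.Opens), (∀ l, IsAffineOpen (W l)) ∧
      (∀ l, W l ≤ f ⁻¹ᵁ (U : T.Opens)) ∧ ∀ x ∈ f ⁻¹ᵁ (U : T.Opens), ∃ l, x ∈ W l := by
  have hc : IsCompact ((f ⁻¹ᵁ (U : T.Opens) : X.Opens) : Set X) :=
    f.isCompact_preimage U.2.isCompact
  obtain ⟨Us, hUs, hUf, hUeq⟩ := X.isBasis_affineOpens.exists_finite_of_isCompact hc
  have : Finite ↥Us := hUf
  obtain ⟨n, ⟨e⟩⟩ := Finite.exists_equiv_fin ↥Us
  refine ⟨n, fun l => ((e.symm l : ↥Us) : X.Opens), fun l => hUs (e.symm l).2, fun l => ?_,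
    fun x hx => ?_⟩
  · rw [hUeq]
    exact le_sSup (e.symm l).2
  · rw [hUeq] at hx
    obtain ⟨W', hW', hmemW'⟩ : ∃ W' ∈ Us, x ∈ W' := by
      simpa [TopologicalSpace.Opens.mem_sSup] using hx
    exact ⟨e ⟨W', hW'⟩, by simpa using hmemW'⟩

/-- A finite family of quasi-compact morphisms with the valuative lifting property is a V
covering. -/
theorem isVCover_of_hasValLift {T : Scheme.{u}} (E : PreZeroHypercover.{w} T) [Finite E.I₀]
    (hqc : ∀ j, QuasiCompact (E.f j)) (hE : HTop.HasValLift E) : HTop.IsVCover E := by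
  intro U
  obtain ⟨m, ⟨eI⟩⟩ := Finite.exists_equiv_fin E.I₀
  have H : ∀ k : Fin m, ∃ (n : ℕ) (W : Fin n → (E.X (eI.symm k)).Opens), (∀ l, IsAffineOpen (W l)) ∧
      (∀ l, W l ≤ (E.f (eI.symm k)) ⁻¹ᵁ (U : T.Opens)) ∧
      ∀ x ∈ (E.f (eI.symm k)) ⁻¹ᵁ (U : T.Opens), ∃ l, x ∈ W l := fun k => by
    have := hqc (eI.symm k)
    exact exists_fin_affine_cover (E.f (eI.symm k)) U
  choose n W hWaff hWle hWcov using H
  let F : PreZeroHypercover.{0} ((U : T.Opens) : Scheme.{u}) :=
    { I₀ := Σ k : Fin m, Fin (n k)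
      X := fun p => ((W p.1 p.2 : (E.X (eI.symm p.1)).Opens) : Scheme.{u})
      f := fun p => (E.X (eI.symm p.1)).homOfLE (hWle p.1 p.2) ≫ (E.f (eI.symm p.1) ∣_ (U : T.Opens)) }
  refine ⟨F, ⟨U.2, inferInstanceAs (Finite (Σ k : Fin m, Fin (n k))), fun p => hWaff p.1 p.2, ?_⟩,
    ?_⟩
  · intro V _ _ l
    obtain ⟨W', hWd, hWv, φ, hφ, j, g', hg'⟩ := hE V (l ≫ (U : T.Opens).ι)
    obtain ⟨k, rfl⟩ : ∃ k, eI.symm k = j := ⟨eI j, by simp⟩
    let c₀ : Spec W' := closedPoint W'
    have hmem : g' c₀ ∈ (E.f (eI.symm k)) ⁻¹ᵁ (U : T.Opens) := by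
      change (E.f (eI.symm k)) (g' c₀) ∈ (U : T.Opens)
      rw [← Scheme.Hom.comp_apply, hg', ← Category.assoc, Scheme.Hom.comp_apply]
      have : (U : T.Opens).ι ((Spec.map φ ≫ l) c₀) ∈ Set.range (U : T.Opens).ι :=
        ⟨_, rfl⟩
      rwa [Scheme.Opens.range_ι] at this
    obtain ⟨l₀, hl₀⟩ := hWcov k _ hmem
    obtain ⟨c, hc⟩ := VSingle.exists_lift_of_closedPoint_mem W' g' _ hl₀
    refine ⟨W', hWd, hWv, φ, hφ, ⟨k, l₀⟩, c, ?_⟩
    change c ≫ (E.X (eI.symm k)).homOfLE (hWle k l₀) ≫ (E.f (eI.symm k) ∣_ (U : T.Opens)) = _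
    rw [← cancel_mono (U : T.Opens).ι, Category.assoc, Category.assoc, morphismRestrict_ι,
      Scheme.homOfLE_ι_assoc, ← Category.assoc, hc, hg', Category.assoc]
  · intro p
    refine ⟨eI.symm p.1, Scheme.Opens.ι (W p.1 p.2), ?_⟩
    change Scheme.Opens.ι (W p.1 p.2) ≫ E.f (eI.symm p.1) =
      ((E.X (eI.symm p.1)).homOfLE (hWle p.1 p.2) ≫ (E.f (eI.symm p.1) ∣_ (U : T.Opens))) ≫ _
    rw [Category.assoc, morphismRestrict_ι, Scheme.homOfLE_ι_assoc]

/-- A finite jointly surjective family of proper morphisms of finite presentation is an h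
covering. -/
theorem isHCover_of_proper {T : Scheme.{u}} (E : PreZeroHypercover.{w} T) [Finite E.I₀]
    (hp : ∀ j, IsProper (E.f j)) (hfp : ∀ j, LocallyOfFinitePresentation (E.f j))
    (hsurj : ∀ t : T, ∃ j, t ∈ Set.range (E.f j)) : HTop.IsHCover E := by
  refine ⟨hfp, isVCover_of_hasValLift E (fun j => ?_) (hasValLift_of_universallyClosed E (fun j => ?_) hsurj)⟩
  · have := hp j
    infer_instance
  · have := hp j
    infer_instance

/-- The two-member family of morphisms with a common target. -/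
def twoFamily {T X₁ X₂ : Scheme.{u}} (f₁ : X₁ ⟶ T) (f₂ : X₂ ⟶ T) : PreZeroHypercover.{0} T where
  I₀ := Two
  X := Two.obj X₁ X₂
  f := Two.hom f₁ f₂

instance {T X₁ X₂ : Scheme.{u}} (f₁ : X₁ ⟶ T) (f₂ : X₂ ⟶ T) : Finite (twoFamily f₁ f₂).I₀ :=
  inferInstanceAs (Finite Two)

theorem twoFamily_presieve₀ {T X₁ X₂ : Scheme.{u}} (f₁ : X₁ ⟶ T) (f₂ : X₂ ⟶ T) :
    (twoFamily f₁ f₂).presieve₀ = Presieve.ofArrows (Two.obj X₁ X₂) (Two.hom f₁ f₂) := rfl

/-- A jointly surjective pair of proper morphisms of finite presentation is an h covering. -/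
theorem isHCover_two {T X₁ X₂ : Scheme.{u}} (f₁ : X₁ ⟶ T) (f₂ : X₂ ⟶ T) [IsProper f₁] [IsProper f₂]
    [LocallyOfFinitePresentation f₁] [LocallyOfFinitePresentation f₂]
    (hsurj : ∀ t : T, t ∈ Set.range f₁ ∨ t ∈ Set.range f₂) :
    HTop.IsHCover (twoFamily f₁ f₂) := by
  apply isHCover_of_proper
  · rintro (_ | _)
    · exact ‹IsProper f₁›
    · exact ‹IsProper f₂›
  · rintro (_ | _)
    · exact ‹LocallyOfFinitePresentation f₁›
    · exact ‹LocallyOfFinitePresentation f₂›
  · intro t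
    rcases hsurj t with h | h
    · exact ⟨Two.l, h⟩
    · exact ⟨Two.r, h⟩

theorem two_mem_hPrecoverage {T X₁ X₂ : Scheme.{u}} (f₁ : X₁ ⟶ T) (f₂ : X₂ ⟶ T) [IsProper f₁]
    [IsProper f₂] [LocallyOfFinitePresentation f₁] [LocallyOfFinitePresentation f₂]
    (hsurj : ∀ t : T, t ∈ Set.range f₁ ∨ t ∈ Set.range f₂) :
    Presieve.ofArrows (Two.obj X₁ X₂) (Two.hom f₁ f₂) ∈ HTop.hPrecoverage T := by
  rw [← twoFamily_presieve₀, HTop.presieve₀_mem_hPrecoverage_iff]
  exact isHCover_two f₁ f₂ hsurj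

end Groth.Agent.Lib.Seat82.HCover
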