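import Mathlib
import Groth.Prelude.Def_HTop
import Groth.Agent.Lib.Seat82HCover

/-!
# A jointly surjective pair of proper morphisms is a ph covering (helper82)

* `isProper_coprodMap`, `isProper_coprodDesc`: coproducts of two proper morphisms are proper.
* `isPhCover_two`: a jointly surjective pair of proper morphisms is a ph covering.
-/

set_option autoImplicit false
universe w u

open CategoryTheory CategoryTheory.Limits AlgebraicGeometry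

namespace Groth.Agent.Lib.Seat82.PhCover

open Groth.Agent.Lib.Seat82.HSquare Groth.Agent.Lib.Seat82.HCover

theorem isPullback_coprodMap {X₁ X₂ Y₁ Y₂ : Scheme.{u}} (g₁ : X₁ ⟶ Y₁) (g₂ : X₂ ⟶ Y₂) :
    IsPullback (coprod.inl : X₁ ⟶ X₁ ⨿ X₂) g₁ (coprod.map g₁ g₂) coprod.inl ∧
      IsPullback (coprod.inr : X₂ ⟶ X₁ ⨿ X₂) g₂ (coprod.map g₁ g₂) coprod.inr := by
  have hVK := FinitaryExtensive.vanKampen _ (coprodIsCoprod Y₁ Y₂)
  rw [BinaryCofan.isVanKampen_iff] at hVK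
  exact (hVK (BinaryCofan.mk coprod.inl coprod.inr) g₁ g₂ (coprod.map g₁ g₂)
    (coprod.inl_map g₁ g₂).symm (coprod.inr_map g₁ g₂).symm).1 ⟨coprodIsCoprod X₁ X₂⟩

theorem isProper_coprodMap {X₁ X₂ Y₁ Y₂ : Scheme.{u}} (g₁ : X₁ ⟶ Y₁) (g₂ : X₂ ⟶ Y₂) [IsProper g₁]
    [IsProper g₂] : IsProper (coprod.map g₁ g₂) := by
  apply IsZariskiLocalAtTarget.of_openCover (P := @IsProper) (coprodOpenCover.{u, 0} Y₁ Y₂)
  rintro (⟨⟩ | ⟨⟩)
  · have h := (isPullback_coprodMap g₁ g₂).1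
    have e : pullback.snd (coprod.map g₁ g₂) (coprod.inl : Y₁ ⟶ Y₁ ⨿ Y₂) =
        h.isoPullback.inv ≫ g₁ := by
      rw [Iso.eq_inv_comp]; exact h.isoPullback_hom_snd
    change IsProper (pullback.snd (coprod.map g₁ g₂) (coprod.inl : Y₁ ⟶ Y₁ ⨿ Y₂))
    rw [e]; infer_instance
  · have h := (isPullback_coprodMap g₁ g₂).2
    have e : pullback.snd (coprod.map g₁ g₂) (coprod.inr : Y₂ ⟶ Y₁ ⨿ Y₂) =
        h.isoPullback.inv ≫ g₂ := by
      rw [Iso.eq_inv_comp]; exact h.isoPullback_hom_snd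
    change IsProper (pullback.snd (coprod.map g₁ g₂) (coprod.inr : Y₂ ⟶ Y₁ ⨿ Y₂))
    rw [e]; infer_instance

theorem isProper_coprodDesc {X₁ X₂ Y : Scheme.{u}} (g₁ : X₁ ⟶ Y) (g₂ : X₂ ⟶ Y) [IsProper g₁]
    [IsProper g₂] : IsProper (coprod.desc g₁ g₂) := by
  have e : coprod.desc g₁ g₂ = coprod.map g₁ g₂ ≫ coprod.desc (𝟙 Y) (𝟙 Y) := by
    rw [coprod.map_desc, Category.comp_id, Category.comp_id]
  have := isProper_coprodMap g₁ g₂
  have : IsFinite (coprod.desc (𝟙 Y) (𝟙 Y)) := inferInstance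
  rw [e]; infer_instance

theorem surjective_coprodDesc {X₁ X₂ Y : Scheme.{u}} (g₁ : X₁ ⟶ Y) (g₂ : X₂ ⟶ Y)
    (hsurj : ∀ t : Y, t ∈ Set.range g₁ ∨ t ∈ Set.range g₂) : Surjective (coprod.desc g₁ g₂) := by
  refine ⟨fun t => ?_⟩
  rcases hsurj t with ⟨x, rfl⟩ | ⟨x, rfl⟩
  · exact ⟨(coprod.inl : X₁ ⟶ X₁ ⨿ X₂) x, by rw [← Scheme.Hom.comp_apply, coprod.inl_desc]⟩
  · exact ⟨(coprod.inr : X₂ ⟶ X₁ ⨿ X₂) x, by rw [← Scheme.Hom.comp_apply, coprod.inr_desc]⟩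

theorem mem_range_morphismRestrict {X T : Scheme.{u}} (f : X ⟶ T) (U : T.Opens)
    (t : ↥((U : T.Opens) : Scheme.{u})) (h : U.ι t ∈ Set.range f) : t ∈ Set.range (f ∣_ U) := by
  obtain ⟨x, hx⟩ := h
  have hxU : x ∈ f ⁻¹ᵁ U := by
    change f x ∈ U
    rw [hx]; exact t.2
  obtain ⟨x', rfl⟩ : ∃ x' : ↥((f ⁻¹ᵁ U : X.Opens) : Scheme.{u}), (f ⁻¹ᵁ U).ι x' = x := by
    have : x ∈ Set.range (f ⁻¹ᵁ U).ι := by rw [Scheme.Opens.range_ι]; exact hxU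
    exact this
  refine ⟨x', U.ι.isOpenEmbedding.injective ?_⟩
  rw [← Scheme.Hom.comp_apply, morphismRestrict_ι, Scheme.Hom.comp_apply, hx]

theorem exists_homOfLE_eq {X : Scheme.{u}} {W A : X.Opens} (h : W ≤ A)
    (y : ↥((A : X.Opens) : Scheme.{u})) (hy : A.ι y ∈ W) :
    ∃ y' : ↥((W : X.Opens) : Scheme.{u}), X.homOfLE h y' = y := by
  have : A.ι y ∈ Set.range W.ι := by rw [Scheme.Opens.range_ι]; exact hy
  obtain ⟨y', hy'⟩ := this
  refine ⟨y', A.ι.isOpenEmbedding.injective ?_⟩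
  rw [← Scheme.Hom.comp_apply, Scheme.homOfLE_ι, hy']

theorem ι_mem {X : Scheme.{u}} (A : X.Opens) (y : ↥((A : X.Opens) : Scheme.{u})) : A.ι y ∈ A := by
  have : A.ι y ∈ Set.range A.ι := ⟨y, rfl⟩
  rwa [Scheme.Opens.range_ι] at this

/-- A jointly surjective pair of proper morphisms is a ph covering. -/
theorem isPhCover_two {T X₁ X₂ : Scheme.{u}} (f₁ : X₁ ⟶ T) (f₂ : X₂ ⟶ T) [IsProper f₁] [IsProper f₂]
    (hsurj : ∀ t : T, t ∈ Set.range f₁ ∨ t ∈ Set.range f₂) :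
    HTop.IsPhCover (twoFamily f₁ f₂) := by
  refine ⟨?_, fun U => ?_⟩
  · rintro (_ | _)
    · exact inferInstanceAs (LocallyOfFiniteType f₁)
    · exact inferInstanceAs (LocallyOfFiniteType f₂)
  obtain ⟨n₁, W₁, hW₁aff, hW₁le, hW₁cov⟩ := exists_fin_affine_cover f₁ U
  obtain ⟨n₂, W₂, hW₂aff, hW₂le, hW₂cov⟩ := exists_fin_affine_cover f₂ U
  let g₁ := f₁ ∣_ (U : T.Opens)
  let g₂ := f₂ ∣_ (U : T.Opens)
  let F : PreZeroHypercover.{0} ((U : T.Opens) : Scheme.{u}) :=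
    { I₀ := Fin n₁ ⊕ Fin n₂
      X := fun j => match j with
        | .inl l => ((W₁ l : X₁.Opens) : Scheme.{u})
        | .inr l => ((W₂ l : X₂.Opens) : Scheme.{u})
      f := fun j => match j with
        | .inl l => X₁.homOfLE (hW₁le l) ≫ g₁
        | .inr l => X₂.homOfLE (hW₂le l) ≫ g₂ }
  refine ⟨F, ⟨U.2, inferInstanceAs (Finite (Fin n₁ ⊕ Fin n₂)), ?_, ?_⟩, ?_⟩
  · rintro (l | l)
    · exact hW₁aff l
    · exact hW₂aff l
  · have hs : ∀ t : ((U : T.Opens) : Scheme.{u}), t ∈ Set.range g₁ ∨ t ∈ Set.range g₂ := by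
      intro t
      rcases hsurj ((U : T.Opens).ι t) with h | h
      · exact Or.inl (mem_range_morphismRestrict f₁ _ t h)
      · exact Or.inr (mem_range_morphismRestrict f₂ _ t h)
    refine ⟨_, coprod.desc g₁ g₂, fun j => match j with
        | .inl l => X₁.homOfLE (hW₁le l) ≫ coprod.inl
        | .inr l => X₂.homOfLE (hW₂le l) ≫ coprod.inr,
      isProper_coprodDesc g₁ g₂, surjective_coprodDesc g₁ g₂ hs, ?_, ?_, ?_⟩
    · rintro (l | l)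
      · exact inferInstanceAs (IsOpenImmersion (X₁.homOfLE (hW₁le l) ≫ coprod.inl))
      · exact inferInstanceAs (IsOpenImmersion (X₂.homOfLE (hW₂le l) ≫ coprod.inr))
    · rintro (l | l)
      · change (X₁.homOfLE (hW₁le l) ≫ coprod.inl) ≫ coprod.desc g₁ g₂ = X₁.homOfLE (hW₁le l) ≫ g₁
        rw [Category.assoc, coprod.inl_desc]
      · change (X₂.homOfLE (hW₂le l) ≫ coprod.inr) ≫ coprod.desc g₁ g₂ = X₂.homOfLE (hW₂le l) ≫ g₂
        rw [Category.assoc, coprod.inr_desc]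
    · intro x
      obtain ⟨(y | y), rfl⟩ := (coprodMk _ _).surjective x
      · obtain ⟨l, hl⟩ := hW₁cov _ (ι_mem _ y)
        obtain ⟨y', hy'⟩ := exists_homOfLE_eq (hW₁le l) y hl
        refine ⟨.inl l, y', ?_⟩
        change (X₁.homOfLE (hW₁le l) ≫ coprod.inl) y' = _
        rw [coprodMk_inl, Scheme.Hom.comp_apply, hy']
      · obtain ⟨l, hl⟩ := hW₂cov _ (ι_mem _ y)
        obtain ⟨y', hy'⟩ := exists_homOfLE_eq (hW₂le l) y hl
        refine ⟨.inr l, y', ?_⟩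
        change (X₂.homOfLE (hW₂le l) ≫ coprod.inr) y' = _
        rw [coprodMk_inr, Scheme.Hom.comp_apply, hy']
  · rintro (l | l)
    · refine ⟨Two.l, Scheme.Opens.ι (W₁ l), ?_⟩
      change Scheme.Opens.ι (W₁ l) ≫ f₁ = (X₁.homOfLE (hW₁le l) ≫ g₁) ≫ _
      rw [Category.assoc, morphismRestrict_ι, Scheme.homOfLE_ι_assoc]
    · refine ⟨Two.r, Scheme.Opens.ι (W₂ l), ?_⟩
      change Scheme.Opens.ι (W₂ l) ≫ f₂ = (X₂.homOfLE (hW₂le l) ≫ g₂) ≫ _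
      rw [Category.assoc, morphismRestrict_ι, Scheme.homOfLE_ι_assoc]

theorem two_mem_phPrecoverage {T X₁ X₂ : Scheme.{u}} (f₁ : X₁ ⟶ T) (f₂ : X₂ ⟶ T) [IsProper f₁]
    [IsProper f₂] (hsurj : ∀ t : T, t ∈ Set.range f₁ ∨ t ∈ Set.range f₂) :
    Presieve.ofArrows (Two.obj X₁ X₂) (Two.hom f₁ f₂) ∈ HTop.phPrecoverage T := by
  rw [← twoFamily_presieve₀, HTop.presieve₀_mem_phPrecoverage_iff]
  exact isPhCover_two f₁ f₂ hsurj

end Groth.Agent.Lib.Seat82.PhCover
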