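import Mathlib
import Groth.Prelude.Def_CohB1
import Groth.Agent.Lib.Seat92ChowCover

/-!
# Chow's lemma over a general base, without density

`Covers f C`: the subset `C ⊆ X` is in the image of a proper `X`-scheme which is quasi-projective
over `S` (in the strong sense).  Such sets are closed under finite unions (disjoint unions of
quasi-projective schemes are quasi-projective), and induction on the number of members of a
quasi-projective open cover shows `Covers f univ`.
-/

set_option autoImplicit false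
set_option linter.style.haveILetI false
universe u
open CategoryTheory CategoryTheory.Limits AlgebraicGeometry TopologicalSpace

namespace Groth.Agent.Lib.Seat92.ChowUnion

open Groth.Agent.Lib.Seat92.ChowSec Groth.Agent.Lib.Seat92.ChowImm
  Groth.Agent.Lib.Seat92.ChowCover

section Top

variable {T : Type*} [TopologicalSpace T]

lemma isCompact_finset_inf [QuasiSeparatedSpace T] {ι : Type*} (s : Finset ι) (hs : s.Nonempty)
    (W : ι → Opens T) (h : ∀ i ∈ s, IsCompact (W i : Set T)) :
    IsCompact ((s.inf W : Opens T) : Set T) := by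
  classical
  induction hs using Finset.Nonempty.cons_induction with
  | singleton a => simpa using h a (Finset.mem_singleton_self a)
  | cons a s ha hs ih =>
    rw [Finset.inf_cons, Opens.coe_inf]
    exact QuasiSeparatedSpace.inter_isCompact _ _ (W a).isOpen (h a (Finset.mem_cons_self a s))
      (s.inf W).isOpen (ih fun i hi => h i (Finset.mem_cons_of_mem hi))

lemma mem_finset_inf_id (s : Finset (Opens T)) (x : T) (h : ∀ A ∈ s, x ∈ A) : x ∈ s.inf id := by
  classical
  induction s using Finset.induction_on with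
  | empty => trivial
  | insert a s ha ih =>
    rw [Finset.inf_insert]
    exact ⟨h a (Finset.mem_insert_self _ _), ih fun A hA => h A (Finset.mem_insert_of_mem hA)⟩

end Top

variable {X S : Scheme.{u}}

/-- `C ⊆ X` lies in the image of a proper `X`-scheme which is quasi-projective over `S`. -/
def Covers (f : X ⟶ S) (C : Set X) : Prop :=
  ∃ (X' : Scheme.{u}) (π : X' ⟶ X), IsProper π ∧ Imm (π ≫ f) ∧ C ⊆ Set.range π

lemma Covers.mono {f : X ⟶ S} {C C' : Set X} (h : C' ⊆ C) (hC : Covers f C) : Covers f C' := by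
  obtain ⟨X', π, h1, h2, h3⟩ := hC
  exact ⟨X', π, h1, h2, h.trans h3⟩

lemma covers_empty (f : X ⟶ S) : Covers f ∅ := by
  haveI : IsClosedImmersion (Scheme.emptyTo X) :=
    IsClosedImmersion.of_isPreimmersion _ (by
      have : Set.range (Scheme.emptyTo X) = ∅ := Set.range_eq_empty _
      rw [this]; exact isClosed_empty)
  refine ⟨∅, Scheme.emptyTo X, inferInstance, ?_, Set.empty_subset _⟩
  exact ⟨0, (Scheme.emptyTo X ≫ f) ≫ sec 0 0 S, inferInstance, by
    rw [Category.assoc, sec_toBase, Category.comp_id]⟩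

lemma Covers.union {f : X ⟶ S} {C₁ C₂ : Set X} (h₁ : Covers f C₁) (h₂ : Covers f C₂) :
    Covers f (C₁ ∪ C₂) := by
  obtain ⟨X₁, π₁, hπ₁, hI₁, hC₁⟩ := h₁
  obtain ⟨X₂, π₂, hπ₂, hI₂, hC₂⟩ := h₂
  let π : X₁ ⨿ X₂ ⟶ X := coprod.desc π₁ π₂
  have hI : Imm (π ≫ f) := by
    refine Imm.of_isCompl (π ≫ f) coprod.inl coprod.inr (isCompl_opensRange_inl_inr X₁ X₂) ?_ ?_
    · rwa [← Category.assoc, coprod.inl_desc]
    · rwa [← Category.assoc, coprod.inr_desc]
  obtain ⟨N, θ, hθ, hθf⟩ := hI
  haveI : IsProper (CohB1.ProjSpaceOver.toBase N S) := Groth.Agent.S9705.isProper_toBase N S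
  let ψ : X₁ ⨿ X₂ ⟶ pullback f (CohB1.ProjSpaceOver.toBase N S) := pullback.lift π θ hθf.symm
  have hψ₁ : ψ ≫ pullback.fst f (CohB1.ProjSpaceOver.toBase N S) = π := pullback.lift_fst _ _ _
  have hψ₂ : ψ ≫ pullback.snd f (CohB1.ProjSpaceOver.toBase N S) = θ := pullback.lift_snd _ _ _
  haveI : IsImmersion ψ := by
    haveI : IsImmersion (ψ ≫ pullback.snd f (CohB1.ProjSpaceOver.toBase N S)) := by
      rw [hψ₂]; exact hθ
    exact IsImmersion.of_comp ψ (pullback.snd f (CohB1.ProjSpaceOver.toBase N S))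
  haveI : IsProper (coprod.inl ≫ ψ) := by
    haveI : IsProper ((coprod.inl ≫ ψ) ≫ pullback.fst f (CohB1.ProjSpaceOver.toBase N S)) := by
      rw [Category.assoc, hψ₁, coprod.inl_desc]; exact hπ₁
    exact IsProper.of_comp (coprod.inl ≫ ψ) (pullback.fst f (CohB1.ProjSpaceOver.toBase N S))
  haveI : IsProper (coprod.inr ≫ ψ) := by
    haveI : IsProper ((coprod.inr ≫ ψ) ≫ pullback.fst f (CohB1.ProjSpaceOver.toBase N S)) := by
      rw [Category.assoc, hψ₁, coprod.inr_desc]; exact hπ₂
    exact IsProper.of_comp (coprod.inr ≫ ψ) (pullback.fst f (CohB1.ProjSpaceOver.toBase N S))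
  have hcover : ∀ y : (X₁ ⨿ X₂ : Scheme.{u}), y ∈ Set.range (coprod.inl : X₁ ⟶ X₁ ⨿ X₂) ∨
      y ∈ Set.range (coprod.inr : X₂ ⟶ X₁ ⨿ X₂) := by
    intro y
    have : y ∈ (coprod.inl : X₁ ⟶ X₁ ⨿ X₂).opensRange ⊔ (coprod.inr : X₂ ⟶ X₁ ⨿ X₂).opensRange := by
      rw [(isCompl_opensRange_inl_inr X₁ X₂).sup_eq_top]; trivial
    exact this
  have hrange : Set.range ψ = Set.range (coprod.inl ≫ ψ) ∪ Set.range (coprod.inr ≫ ψ) := by
    apply Set.Subset.antisymm
    · rintro _ ⟨y, rfl⟩
      rcases hcover y with ⟨y₁, rfl⟩ | ⟨y₂, rfl⟩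
      · exact Or.inl ⟨y₁, rfl⟩
      · exact Or.inr ⟨y₂, rfl⟩
    · rintro _ (⟨y, rfl⟩ | ⟨y, rfl⟩)
      · exact ⟨_, rfl⟩
      · exact ⟨_, rfl⟩
  haveI : IsClosedImmersion ψ := by
    apply IsClosedImmersion.of_isPreimmersion
    rw [hrange]
    exact (coprod.inl ≫ ψ).isClosedMap.isClosed_range.union
      (coprod.inr ≫ ψ).isClosedMap.isClosed_range
  have hπ : IsProper π := by
    rw [← hψ₁]; infer_instance
  refine ⟨X₁ ⨿ X₂, π, hπ, ⟨N, θ, hθ, hθf⟩, ?_⟩
  rintro x (hx | hx)
  · obtain ⟨y, rfl⟩ := hC₁ hx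
    exact ⟨(coprod.inl : X₁ ⟶ X₁ ⨿ X₂) y, by
      rw [← Scheme.Hom.comp_apply, coprod.inl_desc]⟩
  · obtain ⟨y, rfl⟩ := hC₂ hx
    exact ⟨(coprod.inr : X₂ ⟶ X₁ ⨿ X₂) y, by
      rw [← Scheme.Hom.comp_apply, coprod.inr_desc]⟩

lemma Covers.biUnion {f : X ⟶ S} {ι : Type*} (s : Finset ι) (C : ι → Set X)
    (h : ∀ i ∈ s, Covers f (C i)) : Covers f (⋃ i ∈ s, C i) := by
  classical
  induction s using Finset.induction_on with
  | empty => simpa using covers_empty f
  | insert a s ha ih =>
    rw [Finset.set_biUnion_insert]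
    exact (h a (Finset.mem_insert_self _ _)).union
      (ih fun i hi => h i (Finset.mem_insert_of_mem hi))

lemma Covers.of_closedImmersion {f : X ⟶ S} {Z : Scheme.{u}} (ι : Z ⟶ X) [IsClosedImmersion ι]
    (h : Covers (ι ≫ f) Set.univ) : Covers f (Set.range ι) := by
  obtain ⟨Z', π, hπ, hI, hC⟩ := h
  refine ⟨Z', π ≫ ι, inferInstance, by rwa [Category.assoc], ?_⟩
  rintro _ ⟨z, rfl⟩
  obtain ⟨z', rfl⟩ := hC (Set.mem_univ z)
  exact ⟨z', rfl⟩

lemma exists_mem_of_mem_finset_sup_id {T : Type*} [TopologicalSpace T] (s : Finset (Opens T))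
    (x : T) (h : x ∈ s.sup id) : ∃ A ∈ s, x ∈ A := by
  classical
  induction s using Finset.induction_on with
  | empty => exact absurd h (by simp)
  | insert a s ha ih =>
    rw [Finset.sup_insert] at h
    rcases h with h | h
    · exact ⟨a, Finset.mem_insert_self _ _, h⟩
    · obtain ⟨A, hA, hxA⟩ := ih h
      exact ⟨A, Finset.mem_insert_of_mem hA, hxA⟩

lemma covers_of_isEmpty (f : X ⟶ S) [IsEmpty X] (C : Set X) : Covers f C :=
  (covers_empty f).mono (fun x _ => isEmptyElim x)

/-- A scheme `X`, separated over `S`, with a finite cover by quasi-compact opens which are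
quasi-projective over `S`, is dominated by a proper surjective `X' ⟶ X` with `X'`
quasi-projective over `S`. -/
theorem covers_univ_of_cover : ∀ (m : ℕ) {X : Scheme.{u}} (f : X ⟶ S) [IsSeparated f]
    [QuasiSeparatedSpace X] (s : Finset X.Opens), s.card ≤ m → s.sup id = ⊤ →
    (∀ A ∈ s, IsCompact (A : Set X) ∧ ImmOpen f A) → Covers f Set.univ := by
  intro m
  induction m with
  | zero =>
    intro X f _ _ s hcard hcov hs
    have hs0 : s = ∅ := Finset.card_eq_zero.1 (Nat.le_zero.1 hcard)
    subst hs0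
    haveI : IsEmpty X := ⟨fun x => by
      have : x ∈ (⊤ : X.Opens) := trivial
      rw [← hcov] at this
      exact this⟩
    exact covers_of_isEmpty f _
  | succ m ih =>
    intro X f _ _ s hcard hcov hs
    classical
    rcases s.eq_empty_or_nonempty with rfl | hne
    · haveI : IsEmpty X := ⟨fun x => by
        have : x ∈ (⊤ : X.Opens) := trivial
        rw [← hcov] at this
        exact this⟩
      exact covers_of_isEmpty f _
    · have hUc : IsCompact ((s.inf id : X.Opens) : Set X) :=
        isCompact_finset_inf s hne id (fun A hA => (hs A hA).1)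
      obtain ⟨N, X', π, j, hj, hjπ, hπ, hiso, -⟩ :=
        Groth.Agent.Lib.Seat92.ChowCore.chow_core (f := f) (U := s.inf id) hUc s hne id
          (fun A hA => Finset.inf_le hA) hcov (fun A hA => (hs A hA).2)
      have hU : Covers f ((s.inf id : X.Opens) : Set X) := by
        refine ⟨X', π, hπ, ⟨N, j, hj, hjπ⟩, ?_⟩
        intro x hx
        haveI := hiso
        obtain ⟨z, hz⟩ := (π ∣_ (s.inf id)).homeomorph.surjective ⟨x, hx⟩
        refine ⟨z.1, ?_⟩
        rw [← morphismRestrict_base_coe π (s.inf id) z]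
        exact congrArg Subtype.val hz
      have hA : ∀ A ∈ s, Covers f ((A : Set X)ᶜ) := by
        intro A hA
        let Zc : Closeds X := ⟨(A : Set X)ᶜ, A.isOpen.isClosed_compl⟩
        let I := Scheme.IdealSheafData.vanishingIdeal Zc
        have hr : Set.range I.subschemeι = (A : Set X)ᶜ := by
          rw [I.range_subschemeι, Scheme.IdealSheafData.coe_support_vanishingIdeal]
          rfl
        rw [← hr]
        apply Covers.of_closedImmersion
        haveI : QuasiSeparatedSpace I.subscheme :=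
          quasiSeparatedSpace_of_quasiSeparated I.subschemeι
        refine ih (I.subschemeι ≫ f) ((s.erase A).image (fun B => I.subschemeι ⁻¹ᵁ B)) ?_ ?_ ?_
        · refine Finset.card_image_le.trans ?_
          rw [Finset.card_erase_of_mem hA]
          omega
        · rw [eq_top_iff]
          intro z _
          have hz : I.subschemeι z ∈ (s.sup id : X.Opens) := by rw [hcov]; trivial
          obtain ⟨B, hB, hzB⟩ := exists_mem_of_mem_finset_sup_id s _ hz
          have hBA : B ≠ A := by
            rintro rfl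
            have : I.subschemeι z ∈ (B : Set X)ᶜ := by rw [← hr]; exact ⟨z, rfl⟩
            exact this hzB
          have hmem : I.subschemeι ⁻¹ᵁ B ∈ (s.erase A).image (fun B => I.subschemeι ⁻¹ᵁ B) :=
            Finset.mem_image_of_mem _ (Finset.mem_erase.2 ⟨hBA, hB⟩)
          exact (Finset.le_sup (f := id) hmem : I.subschemeι ⁻¹ᵁ B ≤ _) hzB
        · intro B' hB'
          obtain ⟨B, hB, rfl⟩ := Finset.mem_image.1 hB'
          have hBs := Finset.mem_of_mem_erase hB
          constructor
          · exact QuasiCompact.isCompact_preimage (f := I.subschemeι) _ B.isOpen (hs B hBs).1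
          · have h1 : (I.subschemeι ⁻¹ᵁ B).ι ≫ I.subschemeι ≫ f =
                (I.subschemeι ∣_ B) ≫ B.ι ≫ f := by
              rw [← Category.assoc, ← morphismRestrict_ι, Category.assoc]
            show Imm ((I.subschemeι ⁻¹ᵁ B).ι ≫ I.subschemeι ≫ f)
            rw [h1]
            exact Imm.comp (I.subschemeι ∣_ B) (hs B hBs).2
      have hall : Covers f (((s.inf id : X.Opens) : Set X) ∪ ⋃ A ∈ s, (A : Set X)ᶜ) :=
        hU.union (Covers.biUnion s _ hA)
      refine hall.mono ?_
      intro x _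
      by_cases hx : ∀ A ∈ s, x ∈ A
      · exact Or.inl (mem_finset_inf_id s x hx)
      · push Not at hx
        obtain ⟨A, hA, hxA⟩ := hx
        exact Or.inr (Set.mem_biUnion hA hxA)

/-- Chow's lemma for a separated morphism locally of finite type with quasi-compact
quasi-separated source, over an arbitrary base. -/
theorem chow_general (f : X ⟶ S) [IsSeparated f] [LocallyOfFiniteType f] [CompactSpace X]
    [QuasiSeparatedSpace X] :
    ∃ (n : ℕ) (X' : Scheme.{u}) (π : X' ⟶ X) (j : X' ⟶ CohB1.ProjSpaceOver n S),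
      IsImmersion j ∧ j ≫ CohB1.ProjSpaceOver.toBase n S = π ≫ f ∧ IsProper π ∧
      Function.Surjective π := by
  obtain ⟨s, hcov, hs⟩ := exists_finset_affine f
  obtain ⟨X', π, hπ, ⟨n, j, hj, hjπ⟩, hsurj⟩ := covers_univ_of_cover s.card f s le_rfl hcov
    (fun A hA => by
      obtain ⟨hA1, B, hB, hAB⟩ := hs A hA
      exact ⟨hA1.isCompact, immOpen_of_isAffineOpen hA1 hB hAB⟩)
  exact ⟨n, X', π, j, hj, hjπ, hπ, fun x => hsurj (Set.mem_univ x)⟩

end Groth.Agent.Lib.Seat92.ChowUnion
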