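import Mathlib
import Groth.Prelude.Def_HTop
import Groth.Agent.Lib.Seat92ChowUnion
import Groth.Agent.Lib.Seat82PhCover
import Groth.Agent.S9705

/-!
# Local factorisation through a family, and ph coverings (helper33)

* `LocFacAt p E y`: the morphism `p : Y ⟶ T` factors, on an open neighbourhood of `y`, through a
  member of the family `E` over `T`.
* `PhFac p E`: for `p : X ⟶ T` there is a proper surjective `q : W ⟶ X` such that `q ≫ p`
  factors Zariski locally on `W` through members of `E`.  For affine `X` this is the same as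
  the existence of a standard ph covering of `X` refining `E` over `p`
  (`PhFac.exists_isStandardPh`, `phFac_of_isStandardPh`).
* `PhFac.of_cover`: the composition lemma (compactification via Chow's lemma).
-/

set_option autoImplicit false
universe w w' u

open CategoryTheory CategoryTheory.Limits AlgebraicGeometry

namespace Groth.Agent.Lib.Seat33.PhCalc

variable {T : Scheme.{u}}

/-- `p : Y ⟶ T` factors on an open neighbourhood of `y` through a member of the family `E`. -/
def LocFacAt {Y : Scheme.{u}} (p : Y ⟶ T) (E : PreZeroHypercover.{w} T) (y : Y) : Prop :=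
  ∃ (i : E.I₀) (N : Scheme.{u}) (n : N ⟶ Y) (_ : IsOpenImmersion n) (h : N ⟶ E.X i),
    y ∈ Set.range n ∧ h ≫ E.f i = n ≫ p

theorem LocFacAt.comp {Y Y' : Scheme.{u}} {p : Y ⟶ T} {E : PreZeroHypercover.{w} T}
    (r : Y' ⟶ Y) (y' : Y') (h : LocFacAt p E (r y')) : LocFacAt (r ≫ p) E y' := by
  obtain ⟨i, N, n, hn, h, ⟨x, hx⟩, e⟩ := h
  obtain ⟨z, hz1, hz2⟩ := Scheme.Pullback.exists_preimage_pullback (f := r) (g := n) y' x hx.symm
  exact ⟨i, pullback r n, pullback.fst r n, inferInstance, pullback.snd r n ≫ h, ⟨z, hz1⟩, by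
    rw [Category.assoc, e, ← Category.assoc, ← pullback.condition, Category.assoc]⟩

theorem LocFacAt.of_isOpenImmersion {Y N' : Scheme.{u}} {p : Y ⟶ T}
    {E : PreZeroHypercover.{w} T} (m : N' ⟶ Y) [IsOpenImmersion m] (y' : N')
    (h : LocFacAt (m ≫ p) E y') : LocFacAt p E (m y') := by
  obtain ⟨i, N, n, hn, h, ⟨x, hx⟩, e⟩ := h
  exact ⟨i, N, n ≫ m, inferInstance, h, ⟨x, by rw [Scheme.Hom.comp_apply, hx]⟩, by
    rw [e, Category.assoc]⟩

theorem LocFacAt.of_factor {Y : Scheme.{u}} {p : Y ⟶ T} {E : PreZeroHypercover.{w} T}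
    (i : E.I₀) (h : Y ⟶ E.X i) (e : h ≫ E.f i = p) (y : Y) : LocFacAt p E y :=
  ⟨i, Y, 𝟙 Y, inferInstance, h, ⟨y, rfl⟩, by rw [e, Category.id_comp]⟩

theorem LocFacAt.bind {Y : Scheme.{u}} {E : PreZeroHypercover.{w} T}
    {F : ∀ i, PreZeroHypercover.{w'} (E.X i)} {i : E.I₀} {p : Y ⟶ E.X i} {y : Y}
    (h : LocFacAt p (F i) y) : LocFacAt (p ≫ E.f i) (E.bind F) y := by
  obtain ⟨j, N, n, hn, h, hy, e⟩ := h
  refine ⟨⟨i, j⟩, N, n, hn, h, hy, ?_⟩
  change h ≫ (F i).f j ≫ E.f i = n ≫ p ≫ E.f i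
  rw [← Category.assoc, e, Category.assoc]

theorem LocFacAt.congr {Y : Scheme.{u}} {p p' : Y ⟶ T} {E : PreZeroHypercover.{w} T} {y : Y}
    (e : p = p') (h : LocFacAt p E y) : LocFacAt p' E y := e ▸ h

/-- There is a proper surjective `q : W ⟶ X` such that `q ≫ p` factors Zariski locally on `W`
through members of `E`. -/
def PhFac {X : Scheme.{u}} (p : X ⟶ T) (E : PreZeroHypercover.{w} T) : Prop :=
  ∃ (W : Scheme.{u}) (q : W ⟶ X), IsProper q ∧ Surjective q ∧ ∀ w : W, LocFacAt (q ≫ p) E w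

theorem PhFac.congr {X : Scheme.{u}} {p p' : X ⟶ T} {E : PreZeroHypercover.{w} T}
    (e : p = p') (h : PhFac p E) : PhFac p' E := e ▸ h

theorem PhFac.comp {X X' : Scheme.{u}} {p : X ⟶ T} {E : PreZeroHypercover.{w} T}
    (r : X' ⟶ X) (h : PhFac p E) : PhFac (r ≫ p) E := by
  obtain ⟨W, q, hq, hs, hloc⟩ := h
  refine ⟨pullback q r, pullback.snd q r, inferInstance, inferInstance, fun z => ?_⟩
  have := LocFacAt.comp (pullback.fst q r) z (hloc _)
  refine this.congr ?_
  rw [← Category.assoc, pullback.condition, Category.assoc]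

theorem PhFac.bind {X : Scheme.{u}} {E : PreZeroHypercover.{w} T}
    {F : ∀ i, PreZeroHypercover.{w'} (E.X i)} {i : E.I₀} {p : X ⟶ E.X i}
    (h : PhFac p (F i)) : PhFac (p ≫ E.f i) (E.bind F) := by
  obtain ⟨W, q, hq, hs, hloc⟩ := h
  refine ⟨W, q, hq, hs, fun z => ?_⟩
  have := (hloc z).bind (E := E)
  exact this.congr (Category.assoc _ _ _)

/-- From a standard ph covering refining `E` over `p` to `PhFac`. -/
theorem phFac_of_isStandardPh {X : Scheme.{u}} {p : X ⟶ T} {E : PreZeroHypercover.{w} T}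
    (F : PreZeroHypercover.{w'} X) (hF : HTop.IsStandardPh F) (h : HTop.RefinesOver p F E) :
    PhFac p E := by
  obtain ⟨U, f, ι, hf, hs, hι, hιf, hcov⟩ := hF.exists_proper
  refine ⟨U, f, hf, hs, fun x => ?_⟩
  obtain ⟨j, y, rfl⟩ := hcov x
  obtain ⟨i, g, hg⟩ := h j
  have := hι j
  refine LocFacAt.of_isOpenImmersion (ι j) y ?_
  refine LocFacAt.of_factor i g ?_ y
  rw [hg, ← hιf j, Category.assoc]

/-- For affine `X`, `PhFac p E` gives a standard ph covering of `X` refining `E` over `p`. -/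
theorem PhFac.exists_isStandardPh {X : Scheme.{u}} [IsAffine X] {p : X ⟶ T}
    {E : PreZeroHypercover.{w} T} (h : PhFac p E) :
    ∃ F : PreZeroHypercover.{0} X, HTop.IsStandardPh F ∧ HTop.RefinesOver p F E := by
  obtain ⟨W, q, hq, hs, hloc⟩ := h
  choose i N n hn h hy e using hloc
  have hA : ∀ x : W, ∃ A : W.Opens, IsAffineOpen A ∧ x ∈ A ∧ A ≤ (n x).opensRange := by
    intro x
    have := hn x
    obtain ⟨A, hA, hxA, hAle⟩ := TopologicalSpace.Opens.isBasis_iff_nbhd.mp
      W.isBasis_affineOpens (show x ∈ (n x).opensRange from hy x)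
    exact ⟨A, hA, hxA, hAle⟩
  choose A hAaff hxA hAle using hA
  have : CompactSpace W := QuasiCompact.compactSpace_of_compactSpace q
  obtain ⟨t, ht⟩ := isCompact_univ.elim_finite_subcover (fun x : W => ((A x : W.Opens) : Set W))
    (fun x => (A x).isOpen) (fun x _ => Set.mem_iUnion.mpr ⟨x, hxA x⟩)
  let F : PreZeroHypercover.{0} X :=
    { I₀ := Fin t.card
      X := fun k => ((A (t.equivFin.symm k).1 : W.Opens) : Scheme.{u})
      f := fun k => (A (t.equivFin.symm k).1).ι ≫ q }
  refine ⟨F, ⟨inferInstance, inferInstanceAs (Finite (Fin t.card)), fun k => hAaff _, ?_⟩, ?_⟩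
  · refine ⟨W, q, fun k => (A (t.equivFin.symm k).1).ι, hq, hs, fun k => inferInstance,
      fun k => rfl, fun x => ?_⟩
    obtain ⟨y, hy1, hy2⟩ := Set.mem_iUnion₂.mp (ht (Set.mem_univ x))
    refine ⟨t.equivFin ⟨y, hy1⟩, ?_⟩
    rw [Scheme.Opens.range_ι]
    simpa using hy2
  · intro k
    set x := (t.equivFin.symm k).1 with hx
    have := hn x
    have hle : Set.range (A x).ι ⊆ Set.range (n x) := by
      rw [Scheme.Opens.range_ι]
      exact hAle x
    refine ⟨i x, IsOpenImmersion.lift (n x) (A x).ι hle ≫ h x, ?_⟩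
    change _ = ((A x).ι ≫ q) ≫ p
    rw [Category.assoc, e x, ← Category.assoc, IsOpenImmersion.lift_fac, Category.assoc]

/-- Compactification of a proper surjective morphism over an open subscheme: for an open immersion
`ι : X ⟶ U` and a proper surjective `g : V ⟶ X` with `V` quasi-compact quasi-separated, there are a
proper `q : Z ⟶ U`, an open immersion `a : V' ⟶ Z` and `π : V' ⟶ V` with `a ≫ q = π ≫ g ≫ ι`, such
that every point of `Z` over `ι(X)` lies in the range of `a`, and `q` covers `ι(X)`. -/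
theorem exists_compactification {U X V : Scheme.{u}} [QuasiSeparatedSpace U] (ι : X ⟶ U)
    [IsOpenImmersion ι] (g : V ⟶ X) [IsProper g] [Surjective g] [CompactSpace V]
    [QuasiSeparatedSpace V] :
    ∃ (Z V' : Scheme.{u}) (q : Z ⟶ U) (a : V' ⟶ Z) (π : V' ⟶ V), IsProper q ∧ IsOpenImmersion a ∧
      a ≫ q = π ≫ g ≫ ι ∧ (∀ z : Z, q z ∈ Set.range ι → z ∈ Set.range a) ∧
      Set.range ι ⊆ Set.range q := by
  obtain ⟨n, V', π, i, hi, hiπ, hπ, hπs⟩ :=
    Groth.Agent.Lib.Seat92.ChowUnion.chow_general (g ≫ ι)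
  have : IsProper (CohB1.ProjSpaceOver.toBase n U) := Groth.Agent.S9705.isProper_toBase n U
  have : QuasiSeparatedSpace (CohB1.ProjSpaceOver n U) :=
    quasiSeparatedSpace_of_quasiSeparated (CohB1.ProjSpaceOver.toBase n U)
  have : CompactSpace V' := QuasiCompact.compactSpace_of_compactSpace π
  have : QuasiCompact i := inferInstance
  have hq : i.toImage ≫ i.imageι ≫ CohB1.ProjSpaceOver.toBase n U = π ≫ g ≫ ι := by
    rw [← Category.assoc, Scheme.Hom.toImage_imageι, hiπ]
  refine ⟨i.image, V', i.imageι ≫ CohB1.ProjSpaceOver.toBase n U, i.toImage, π, inferInstance,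
    inferInstance, hq, ?_, ?_⟩
  · -- the key point
    intro z hz
    obtain ⟨x, hx⟩ := hz
    set q := i.imageι ≫ CohB1.ProjSpaceOver.toBase n U with hqdef
    -- the base change of `q` to `X`
    let a' : V' ⟶ pullback q ι := pullback.lift i.toImage (π ≫ g) (by rw [hq, Category.assoc])
    have ha'1 : a' ≫ pullback.fst q ι = i.toImage := pullback.lift_fst _ _ _
    have ha'2 : a' ≫ pullback.snd q ι = π ≫ g := pullback.lift_snd _ _ _
    have : IsProper (a' ≫ pullback.snd q ι) := by rw [ha'2]; infer_instance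
    have : IsProper a' := IsProper.of_comp a' (pullback.snd q ι)
    have hclosed : IsClosed (Set.range a') := a'.isClosedMap.isClosed_range
    obtain ⟨z', hz'1, hz'2⟩ := Scheme.Pullback.exists_preimage_pullback (f := q) (g := ι) z x hx.symm
    have hz'mem : z' ∈ closure (Set.range a') := by
      rw [mem_closure_iff]
      intro O hO hzO
      have hopen : IsOpen ((pullback.fst q ι) '' O) :=
        (pullback.fst q ι).isOpenEmbedding.isOpenMap _ hO
      have hdense : DenseRange i.toImage := i.toImage.denseRange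
      obtain ⟨v, hv⟩ := hdense.exists_mem_open hopen ⟨_, ⟨z', hzO, rfl⟩⟩
      obtain ⟨o, hoO, ho⟩ := hv
      have : o = a' v := by
        apply (pullback.fst q ι).isOpenEmbedding.injective
        rw [ho, ← Scheme.Hom.comp_apply, ha'1]
      exact ⟨o, hoO, ⟨v, this.symm⟩⟩
    rw [hclosed.closure_eq] at hz'mem
    obtain ⟨v, rfl⟩ := hz'mem
    exact ⟨v, by rw [← hz'1, ← Scheme.Hom.comp_apply, ha'1]⟩
  · rintro _ ⟨x, rfl⟩
    obtain ⟨v, rfl⟩ := ‹Surjective g›.surj x
    obtain ⟨v', rfl⟩ := hπs v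
    refine ⟨i.toImage v', ?_⟩
    rw [← Scheme.Hom.comp_apply, hq]
    rfl

open Groth.Agent.Lib.Seat82.PhCover in
/-- Surjective compactification with local factorisation: in the situation of
`exists_compactification`, if `g ≫ ι ≫ p` factors locally through `E`, there is a proper surjective
`q : Z ⟶ U` such that `q ≫ p` factors locally through `E` at all points over `ι(X)`. -/
theorem exists_proper_surjective_locFac {U X V : Scheme.{u}} [QuasiSeparatedSpace U] (p : U ⟶ T)
    (E : PreZeroHypercover.{w} T) (ι : X ⟶ U) [IsOpenImmersion ι] (g : V ⟶ X) [IsProper g]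
    [Surjective g] [CompactSpace V] [QuasiSeparatedSpace V]
    (hloc : ∀ v : V, LocFacAt (g ≫ ι ≫ p) E v) :
    ∃ (Z : Scheme.{u}) (q : Z ⟶ U), IsProper q ∧ Surjective q ∧
      ∀ z : Z, q z ∈ Set.range ι → LocFacAt (q ≫ p) E z := by
  obtain ⟨Z, V', q, a, π, hq, ha, haq, hrange, hcov⟩ := exists_compactification ι g
  let C : TopologicalSpace.Closeds U :=
    ⟨(Set.range ι)ᶜ, ι.isOpenEmbedding.isOpen_range.isClosed_compl⟩
  let I := Scheme.IdealSheafData.vanishingIdeal C
  let c : I.subscheme ⟶ U := I.subschemeι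
  have hc : Set.range c = (Set.range ι)ᶜ := by
    rw [Scheme.IdealSheafData.range_subschemeι, Scheme.IdealSheafData.coe_support_vanishingIdeal]
    rfl
  refine ⟨Z ⨿ I.subscheme, coprod.desc q c, isProper_coprodDesc q c,
    surjective_coprodDesc q c ?_, ?_⟩
  · intro t
    by_cases ht : t ∈ Set.range ι
    · exact Or.inl (hcov ht)
    · right; rw [hc]; exact ht
  · intro z hz
    obtain ⟨(z | z), rfl⟩ := (coprodMk _ _).surjective z
    · rw [coprodMk_inl] at hz ⊢
      rw [← Scheme.Hom.comp_apply, coprod.inl_desc] at hz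
      obtain ⟨v, rfl⟩ := hrange z hz
      rw [← Scheme.Hom.comp_apply]
      refine LocFacAt.of_isOpenImmersion (a ≫ coprod.inl) v ?_
      have := LocFacAt.comp π v (hloc (π v))
      refine this.congr ?_
      rw [Category.assoc, ← Category.assoc coprod.inl, coprod.inl_desc, ← Category.assoc a, haq]
      simp only [Category.assoc]
    · exfalso
      rw [coprodMk_inr, ← Scheme.Hom.comp_apply, coprod.inr_desc] at hz
      have : c z ∈ Set.range c := ⟨z, rfl⟩
      rw [hc] at this
      exact this hz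

/-- Finitely many compactifications at once (fibre product over `U`). -/
theorem exists_proper_surjective_locFac_finset {U : Scheme.{u}} [QuasiSeparatedSpace U]
    (p : U ⟶ T) (E : PreZeroHypercover.{w} T) {J : Type w'} (X V : J → Scheme.{u})
    (ι : ∀ j, X j ⟶ U) [∀ j, IsOpenImmersion (ι j)] (g : ∀ j, V j ⟶ X j) [∀ j, IsProper (g j)]
    [∀ j, Surjective (g j)] [∀ j, CompactSpace (V j)] [∀ j, QuasiSeparatedSpace (V j)]
    (hloc : ∀ j (v : V j), LocFacAt (g j ≫ ι j ≫ p) E v) (s : Finset J) :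
    ∃ (W : Scheme.{u}) (q : W ⟶ U), IsProper q ∧ Surjective q ∧
      ∀ z : W, (∃ j ∈ s, q z ∈ Set.range (ι j)) → LocFacAt (q ≫ p) E z := by
  classical
  induction s using Finset.induction_on with
  | empty =>
    exact ⟨U, 𝟙 U, inferInstance, inferInstance,
      fun z ⟨j, hj, _⟩ => absurd hj (Finset.notMem_empty j)⟩
  | insert j s hjs ih =>
    obtain ⟨W, q, hq, hs, hW⟩ := ih
    obtain ⟨Z, r, hr, hrs, hZ⟩ := exists_proper_surjective_locFac p E (ι j) (g j) (hloc j)
    refine ⟨pullback q r, pullback.fst q r ≫ q, inferInstance, inferInstance, ?_⟩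
    rintro z ⟨k, hk, hz⟩
    rw [Finset.mem_insert] at hk
    rcases hk with rfl | hk
    · have h1 : r (pullback.snd q r z) ∈ Set.range (ι k) := by
        rw [← Scheme.Hom.comp_apply, ← pullback.condition]; exact hz
      have := LocFacAt.comp (pullback.snd q r) z (hZ _ h1)
      refine this.congr ?_
      rw [← Category.assoc, ← pullback.condition]
    · have h1 : q (pullback.fst q r z) ∈ Set.range (ι k) := by
        rw [← Scheme.Hom.comp_apply]; exact hz
      have := LocFacAt.comp (pullback.fst q r) z (hW _ ⟨k, hk, h1⟩)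
      exact this.congr (Category.assoc _ _ _).symm

/-- The composition lemma for `PhFac`: if `f : U ⟶ X` is proper surjective, `U` is covered by
finitely many quasi-compact quasi-separated opens `Y j`, and `PhFac` holds for each
`Y j ⟶ U ⟶ X ⟶ T`, then it holds for `X ⟶ T`. -/
theorem PhFac.of_cover {X U : Scheme.{u}} {p : X ⟶ T} {E : PreZeroHypercover.{w} T} (f : U ⟶ X)
    [IsProper f] [Surjective f] [QuasiSeparatedSpace U] {J : Type w'} [Finite J]
    (Y : J → Scheme.{u}) [∀ j, CompactSpace (Y j)] [∀ j, QuasiSeparatedSpace (Y j)]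
    (ι : ∀ j, Y j ⟶ U) [∀ j, IsOpenImmersion (ι j)] (hcov : ∀ x : U, ∃ j, x ∈ Set.range (ι j))
    (h : ∀ j, PhFac (ι j ≫ f ≫ p) E) : PhFac p E := by
  choose V g hg hgs hloc using h
  have := hg
  have := hgs
  have : ∀ j, CompactSpace (V j) := fun j => QuasiCompact.compactSpace_of_compactSpace (g j)
  have : ∀ j, QuasiSeparatedSpace (V j) := fun j => quasiSeparatedSpace_of_quasiSeparated (g j)
  cases nonempty_fintype J
  obtain ⟨W, q, hq, hs, hW⟩ := exists_proper_surjective_locFac_finset (f ≫ p) E Y V ι g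
    (fun j v => hloc j v) Finset.univ
  refine ⟨W, q ≫ f, inferInstance, inferInstance, fun z => ?_⟩
  obtain ⟨j, hj⟩ := hcov (q z)
  exact (hW z ⟨j, Finset.mem_univ j, hj⟩).congr (Category.assoc _ _ _).symm

theorem nonempty_hom_of_refinesOver_id {F : PreZeroHypercover.{w'} T}
    {E : PreZeroHypercover.{w} T} (h : HTop.RefinesOver (𝟙 T) F E) : Nonempty (F.Hom E) := by
  choose i g hg using h
  exact ⟨⟨i, g, fun j => by rw [hg j, Category.comp_id]⟩⟩

/-- An open covering of `T` satisfies `PhFac` for the identity. -/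
theorem phFac_openCover (𝒰 : T.OpenCover) : PhFac (𝟙 T) 𝒰.toPreZeroHypercover := by
  refine ⟨T, 𝟙 T, inferInstance, inferInstance, fun t => ?_⟩
  obtain ⟨i, y, rfl⟩ := 𝒰.exists_eq t
  refine LocFacAt.of_isOpenImmersion (𝒰.f i) y ?_
  exact LocFacAt.of_factor (E := 𝒰.toPreZeroHypercover) i (𝟙 _) (by simp) y

/-- `PhFac` can be checked on the members of a standard ph covering. -/
theorem phFac_of_isStandardPh_of_forall {X : Scheme.{u}} {p : X ⟶ T}
    (E : PreZeroHypercover.{w'} X) (hE : HTop.IsStandardPh E) (G : PreZeroHypercover.{w} T)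
    (h : ∀ j, PhFac (E.f j ≫ p) G) : PhFac p G := by
  obtain ⟨U, f, ι, hf, hs, hι, hιf, hcov⟩ := hE.exists_proper
  have := hE.isAffine
  have := hE.finite_index
  have := hE.isAffine_obj
  have : QuasiSeparatedSpace U := quasiSeparatedSpace_of_quasiSeparated f
  exact PhFac.of_cover f E.X ι hcov (fun j => (h j).congr (by rw [← hιf j, Category.assoc]))

/-- A ph covering pulled back to an affine scheme satisfies `PhFac`. -/
theorem phFac_of_isPhCover {X : Scheme.{u}} [IsAffine X] (g : X ⟶ T)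
    (E : PreZeroHypercover.{w} T) (hE : HTop.IsPhCover E) : PhFac g E := by
  have hA : ∀ x : X, ∃ (V : T.Opens) (A : X.Opens), IsAffineOpen V ∧ IsAffineOpen A ∧ x ∈ A ∧
      A ≤ g ⁻¹ᵁ V := by
    intro x
    obtain ⟨V, hV, hxV, -⟩ := TopologicalSpace.Opens.isBasis_iff_nbhd.mp
      T.isBasis_affineOpens (show g x ∈ (⊤ : T.Opens) from trivial)
    obtain ⟨A, hA, hxA, hAle⟩ := TopologicalSpace.Opens.isBasis_iff_nbhd.mp
      X.isBasis_affineOpens (show x ∈ g ⁻¹ᵁ V from hxV)
    exact ⟨V, A, hV, hA, hxA, hAle⟩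
  choose V A hV hAaff hxA hAle using hA
  obtain ⟨t, ht⟩ := isCompact_univ.elim_finite_subcover (fun x : X => ((A x : X.Opens) : Set X))
    (fun x => (A x).isOpen) (fun x _ => Set.mem_iUnion.mpr ⟨x, hxA x⟩)
  have : ∀ j : t, CompactSpace ((A j.1 : X.Opens) : Scheme.{u}) := fun j =>
    haveI : IsAffine ((A j.1 : X.Opens) : Scheme.{u}) := hAaff j.1
    inferInstance
  have : ∀ j : t, QuasiSeparatedSpace ((A j.1 : X.Opens) : Scheme.{u}) := fun j =>
    haveI : IsAffine ((A j.1 : X.Opens) : Scheme.{u}) := hAaff j.1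
    inferInstance
  refine PhFac.of_cover (𝟙 X) (J := t) (fun j => ((A j.1 : X.Opens) : Scheme.{u}))
    (fun j => (A j.1).ι) ?_ ?_
  · intro x
    obtain ⟨y, hy1, hy2⟩ := Set.mem_iUnion₂.mp (ht (Set.mem_univ x))
    refine ⟨⟨y, hy1⟩, ?_⟩
    rw [Scheme.Opens.range_ι]
    exact hy2
  · intro j
    obtain ⟨F, hF, hFr⟩ := hE.2 ⟨V j.1, hV j.1⟩
    have h1 : PhFac (V j.1).ι E := phFac_of_isStandardPh F hF hFr
    have hle : Set.range ((A j.1).ι ≫ g) ⊆ Set.range (V j.1).ι := by
      rw [Scheme.Opens.range_ι]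
      rintro _ ⟨y, rfl⟩
      have : (A j.1).ι y ∈ A j.1 := by
        have : (A j.1).ι y ∈ Set.range (A j.1).ι := ⟨y, rfl⟩
        rwa [Scheme.Opens.range_ι] at this
      exact hAle j.1 this
    have h2 := h1.comp (IsOpenImmersion.lift (V j.1).ι ((A j.1).ι ≫ g) hle)
    refine h2.congr ?_
    rw [IsOpenImmersion.lift_fac, Category.id_comp]

end Groth.Agent.Lib.Seat33.PhCalc
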