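import Mathlib
import Groth.Prelude.Def_HTop

/-!
# Checking sheaf conditions through the finest topology making a presheaf a sheaf

For a presheaf `F` of types on the category of schemes, `JF F` is the finest Grothendieck topology
for which `F` is a sheaf: a sieve `S` on `X` is covering iff `F` satisfies the sheaf condition for
every pullback of `S`.  If `F` is a Zariski sheaf, then:
* membership in `JF F` is local on affine opens of the target (`mem_JF_of_forall_affineOpens`);
* the universal sheaf condition need only be tested on affine schemes (`mem_JF_of_forall_isAffine`).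
-/

set_option autoImplicit false
universe w w' u

open CategoryTheory CategoryTheory.Limits AlgebraicGeometry

namespace Groth.Agent.Lib.Seat33.SheafLocal

variable (F : Scheme.{u}ᵒᵖ ⥤ Type w)

/-- The finest topology on schemes for which `F` is a sheaf. -/
abbrev JF : GrothendieckTopology Scheme.{u} := Sheaf.finestTopologySingle F

theorem mem_JF_iff {X : Scheme.{u}} (S : Sieve X) :
    S ∈ JF F X ↔ ∀ (Y : Scheme.{u}) (f : Y ⟶ X), Presieve.IsSheafFor F (S.pullback f).arrows :=
  Iff.rfl

theorem isSheafFor_of_mem {X : Scheme.{u}} {S : Sieve X} (h : S ∈ JF F X) :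
    Presieve.IsSheafFor F S.arrows := by
  have := h X (𝟙 X)
  rwa [Sieve.pullback_id] at this

theorem isSheafFor_of_generate_mem {X : Scheme.{u}} {R : Presieve X}
    (h : Sieve.generate R ∈ JF F X) : Presieve.IsSheafFor F R := by
  rw [Presieve.isSheafFor_iff_generate]
  exact isSheafFor_of_mem F h

variable {F}

theorem zariski_le (hzar : Presieve.IsSheaf Scheme.zariskiTopology F) :
    Scheme.zariskiTopology ≤ JF F :=
  fun _ _ hS _ f => hzar _ (Scheme.zariskiTopology.pullback_stable f hS)

/-- Membership in `JF F` can be checked on the affine opens of the target. -/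
theorem mem_JF_of_forall_affineOpens (hzar : Presieve.IsSheaf Scheme.zariskiTopology F)
    {X : Scheme.{u}} (S : Sieve X)
    (h : ∀ U : X.affineOpens, S.pullback (U : X.Opens).ι ∈ JF F ((U : X.Opens) : Scheme.{u})) :
    S ∈ JF F X := by
  let 𝒰 : X.OpenCover := X.openCoverOfIsOpenCover (fun U : X.affineOpens => (U : X.Opens))
    (iSup_affineOpens_eq_top X)
  refine (JF F).transitive (zariski_le hzar _ 𝒰.mem_grothendieckTopology) S ?_
  rintro Y f ⟨Z, g, k, ⟨U⟩, rfl⟩
  rw [Sieve.pullback_comp]
  exact (JF F).pullback_stable g (h U)

/-- The universal sheaf condition defining `JF F` need only be tested on affine schemes. -/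
theorem mem_JF_of_forall_isAffine (hzar : Presieve.IsSheaf Scheme.zariskiTopology F)
    {T : Scheme.{u}} (S : Sieve T)
    (H : ∀ (Y : Scheme.{u}) [IsAffine Y] (f : Y ⟶ T),
      Presieve.IsSheafFor F (S.pullback f).arrows) : S ∈ JF F T := by
  intro Y f
  refine Y.affineOneHypercover.isSheafFor_sieve_of_pullback hzar (fun i => ?_) (fun i j k => ?_)
  · rw [← Sieve.pullback_comp]
    have : IsAffine (Y.affineOneHypercover.X i) :=
      inferInstanceAs (IsAffine (Y.affineCover.X i))
    exact H _ _
  · rw [← Sieve.pullback_comp]
    have : IsAffine (Y.affineOneHypercover.Y k) :=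
      inferInstanceAs (IsAffine
        ((pullback (Y.affineCover.f i) (Y.affineCover.f j)).affineCover.X k))
    exact (H _ _).isSeparatedFor

end Groth.Agent.Lib.Seat33.SheafLocal
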