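import Mathlib
import Groth.Prelude.Def_HTop
import Groth.Agent.Lib.Seat33SheafLocal

/-!
# The sheaf condition for ph coverings

If `F` is a Zariski sheaf with the sheaf property for every proper surjective morphism, then the
sieve generated by any ph covering is covering for the finest topology making `F` a sheaf; in
particular `F` has the sheaf property for every ph covering.
-/

set_option autoImplicit false
universe w w' u

open CategoryTheory CategoryTheory.Limits AlgebraicGeometry

namespace Groth.Agent.Lib.Seat33.PhSheaf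

open SheafLocal

variable {F : Scheme.{u}ᵒᵖ ⥤ Type w}

/-- The sieve generated by a proper surjective morphism is covering for `JF F`. -/
theorem generate_singleton_mem_JF
    (h₂ : ∀ (U V : Scheme.{u}) (f : V ⟶ U), IsProper f → Surjective f →
      Presieve.IsSheafFor F (Presieve.singleton f))
    {T U : Scheme.{u}} (f : U ⟶ T) [IsProper f] [Surjective f] :
    Sieve.generate (Presieve.singleton f) ∈ JF F T := by
  intro Y g
  rw [← Sieve.pullbackArrows_comm, Presieve.pullback_singleton,
    ← Presieve.isSheafFor_iff_generate]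
  exact h₂ _ _ _ inferInstance inferInstance

/-- The sieve generated by a standard ph covering is covering for `JF F`. -/
theorem generate_mem_JF_of_isStandardPh (hzar : Presieve.IsSheaf Scheme.zariskiTopology F)
    (h₂ : ∀ (U V : Scheme.{u}) (f : V ⟶ U), IsProper f → Surjective f →
      Presieve.IsSheafFor F (Presieve.singleton f))
    {T : Scheme.{u}} (E : PreZeroHypercover.{w'} T) (hE : HTop.IsStandardPh E) :
    Sieve.generate E.presieve₀ ∈ JF F T := by
  obtain ⟨U, f, ι, hprop, hsurj, hopen, hι, hcov⟩ := hE.exists_proper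
  refine (JF F).transitive (generate_singleton_mem_JF h₂ f) _ ?_
  rintro Y k ⟨Z, a, b, ⟨⟩, rfl⟩
  let 𝒱 : U.OpenCover := Scheme.Cover.mkOfCovers E.I₀ E.X ι
    (fun x => by
      obtain ⟨j, y, hy⟩ := hcov x
      exact ⟨j, y, hy⟩) hopen
  have h𝒱 : Sieve.ofArrows 𝒱.X 𝒱.f ∈ JF F U := zariski_le hzar _ 𝒱.mem_grothendieckTopology
  refine (JF F).superset_covering ?_ ((JF F).pullback_stable a h𝒱)
  rintro Z' c ⟨W, d, e, ⟨j⟩, hde⟩
  change Sieve.generate E.presieve₀ (c ≫ a ≫ f)
  let j' : E.I₀ := j
  let d' : Z' ⟶ E.X j' := d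
  have hde' : d' ≫ ι j' = c ≫ a := hde
  refine ⟨_, d', E.f j', ⟨j'⟩, ?_⟩
  rw [← hι j', ← Category.assoc, hde', Category.assoc]

/-- The sieve generated by a ph covering is covering for `JF F`. -/
theorem generate_mem_JF_of_isPhCover (hzar : Presieve.IsSheaf Scheme.zariskiTopology F)
    (h₂ : ∀ (U V : Scheme.{u}) (f : V ⟶ U), IsProper f → Surjective f →
      Presieve.IsSheafFor F (Presieve.singleton f))
    {X : Scheme.{u}} (E : PreZeroHypercover.{w'} X) (hE : HTop.IsPhCover E) :
    Sieve.generate E.presieve₀ ∈ JF F X := by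
  apply mem_JF_of_forall_affineOpens hzar
  intro U
  obtain ⟨G, hG, hGE⟩ := hE.2 U
  refine (JF F).superset_covering ?_ (generate_mem_JF_of_isStandardPh hzar h₂ G hG)
  rw [Sieve.generate_le_iff]
  rintro Z g ⟨j⟩
  obtain ⟨i, h, hh⟩ := hGE j
  exact ⟨_, h, E.f i, ⟨i⟩, hh⟩

/-- A Zariski sheaf with the sheaf property for proper surjective morphisms has the sheaf property
for all ph coverings. -/
theorem isPhSheaf_of_zariski_of_proper_surjective
    (hzar : Presieve.IsSheaf Scheme.zariskiTopology F)
    (h₂ : ∀ (U V : Scheme.{u}) (f : V ⟶ U), IsProper f → Surjective f →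
      Presieve.IsSheafFor F (Presieve.singleton f)) : HTop.IsPhSheaf F := by
  intro X R hR
  rw [HTop.phPrecoverage, PreZeroHypercoverFamily.mem_precoverage_iff] at hR
  obtain ⟨E, hE, rfl⟩ := hR
  exact isSheafFor_of_generate_mem F (generate_mem_JF_of_isPhCover hzar h₂ E hE)

end Groth.Agent.Lib.Seat33.PhSheaf
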