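import Mathlib

set_option autoImplicit false
universe u
open CategoryTheory CategoryTheory.Limits AlgebraicGeometry


namespace Groth.Agent.Lib.Seat33.PreRel

/-- A formally unramified, locally finite type morphism that is injective on geometric points
is a monomorphism. -/
theorem mono_of_unramified_of_injective_points {R P : Scheme.{u}} (j : R ⟶ P)
    [FormallyUnramified j] [LocallyOfFiniteType j]
    (h : ∀ (k : Type u) [Field k] [IsAlgClosed k],
      Function.Injective (fun r : Spec (CommRingCat.of k) ⟶ R => r ≫ j)) : Mono j := by
  have hsurj : (pullback.diagonal j).opensRange = ⊤ := by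
    rw [eq_top_iff]
    rintro z -
    let κ := (pullback j j).residueField z
    let k := AlgebraicClosure κ
    let g : Spec (CommRingCat.of k) ⟶ pullback j j :=
      Spec.map (CommRingCat.ofHom (algebraMap κ k)) ≫ (pullback j j).fromSpecResidueField z
    have hg : g = (g ≫ pullback.fst j j) ≫ pullback.diagonal j := by
      have h12 : g ≫ pullback.fst j j = g ≫ pullback.snd j j := by
        apply h k
        simp only [Category.assoc, pullback.condition]
      apply pullback.hom_ext
      · simp
      · simp [h12]
    obtain ⟨x⟩ : Nonempty (Spec (CommRingCat.of k)) := inferInstance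
    have hx : g.base x = z := by
      simp only [g, Scheme.Hom.comp_base, TopCat.hom_comp, ContinuousMap.comp_apply]
      exact (pullback j j).fromSpecResidueField_apply z _
    refine ⟨(g ≫ pullback.fst j j).base x, ?_⟩
    have := congrArg (fun f => f.base x) hg
    simp only [Scheme.Hom.comp_base, TopCat.hom_comp, ContinuousMap.comp_apply] at this hx ⊢
    rw [← this, hx]
  have : IsIso (pullback.diagonal j) :=
    isIso_of_isOpenImmersion_of_opensRange_eq_top _ hsurj
  have : IsIso (pullback.fst j j) := by
    have h1 : pullback.diagonal j ≫ pullback.fst j j = 𝟙 _ := pullback.diagonal_fst j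
    have : IsIso (pullback.diagonal j ≫ pullback.fst j j) := by rw [h1]; infer_instance
    exact IsIso.of_isIso_comp_left (pullback.diagonal j) _
  exact IsKernelPair.mono_of_isIso_fst (IsPullback.of_hasPullback j j)

end Groth.Agent.Lib.Seat33.PreRel
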