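import Mathlib
import Groth.Agent.Lib.Helper2BddFib

/-!
# Residue degrees on finite schemes over a field (seat 33)

* `sum_finrank_quot_le`: for a finite `K`-algebra `B`, `Σ_𝔭 [B/𝔭 : K] ≤ [B : K]`.
* `Γevaluation_surjective`, `ker_Γevaluation_injective`: evaluation maps of an affine (Artinian) scheme.
* `bijective_toResidueField`: `K → κ(y)` is bijective for `y ∈ Spec K`, `K` a field.
* `residueDegree_eq`: residue degree of `T → Spec K` at `x` is `[Γ(T)/𝔭_x : K]`.
* `finsum_residueDegree_le`: `Σ_x [κ(x):K] ≤ n` for `T → Spec K` finite of degree `≤ n`.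
-/

set_option autoImplicit false
universe u
open CategoryTheory CategoryTheory.Limits AlgebraicGeometry

namespace Groth.Agent.Lib.Seat33.ResDeg
open Groth.Agent.Lib.Helper2.BddFib

theorem sum_finrank_quot_le (K : Type*) [Field K] (B : Type*) [CommRing B] [Algebra K B]
    [Module.Finite K B] [Fintype (PrimeSpectrum B)] :
    ∑ p : PrimeSpectrum B, Module.finrank K (B ⧸ p.asIdeal) ≤ Module.finrank K B := by
  have hart : IsArtinianRing B := IsArtinianRing.of_finite K B
  let I : PrimeSpectrum B → Ideal B := fun p => p.asIdeal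
  have hcop : Pairwise (fun p q : PrimeSpectrum B => IsCoprime (I p) (I q)) := by
    intro p q hpq
    have hp : (I p).IsMaximal := IsArtinianRing.isMaximal_of_isPrime (I p)
    have hq : (I q).IsMaximal := IsArtinianRing.isMaximal_of_isPrime (I q)
    rw [Ideal.isCoprime_iff_sup_eq]
    exact Ideal.IsMaximal.coprime_of_ne hp hq (fun h => hpq (PrimeSpectrum.ext h))
  let φ : B →ₗ[K] (∀ p : PrimeSpectrum B, B ⧸ I p) :=
    LinearMap.pi fun p => (Ideal.Quotient.mkₐ K (I p)).toLinearMap
  have hφ : Function.Surjective φ := by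
    intro y
    obtain ⟨x, hx⟩ := Ideal.quotientInfToPiQuotient_surj hcop y
    obtain ⟨b, rfl⟩ := Ideal.Quotient.mk_surjective x
    refine ⟨b, ?_⟩
    rw [← hx]
    rfl
  have h1 := LinearMap.finrank_le_finrank_of_surjective hφ
  rw [Module.finrank_pi_fintype] at h1
  exact h1

/-- On an affine scheme with Artinian ring of global sections, evaluation at a point is surjective. -/
theorem Γevaluation_surjective {T : Scheme.{u}} [IsAffine T] [IsArtinianRing Γ(T, ⊤)] (x : T) :
    Function.Surjective (T.Γevaluation x).hom := by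
  have hU : IsAffineOpen (⊤ : T.Opens) := isAffineOpen_top T
  letI := T.presheaf.algebra_section_stalk (U := ⊤) ⟨x, trivial⟩
  have hloc := hU.isLocalization_stalk ⟨x, trivial⟩
  have hker : (RingHom.ker (T.Γevaluation x).hom).IsMaximal := by
    have : (RingHom.ker (T.Γevaluation x).hom).IsPrime := RingHom.ker_isPrime _
    exact IsArtinianRing.isMaximal_of_isPrime _
  intro z
  obtain ⟨w, rfl⟩ := IsLocalRing.residue_surjective z
  obtain ⟨⟨b, s⟩, hbs⟩ := IsLocalization.surj (hU.primeIdealOf ⟨x, trivial⟩).asIdeal.primeCompl w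
  have hunit : IsUnit (algebraMap Γ(T, ⊤) (T.presheaf.stalk x) s) :=
    IsLocalization.map_units _ s
  have hs : (T.Γevaluation x).hom s ≠ 0 := by
    have : IsUnit ((T.residue x).hom (algebraMap Γ(T, ⊤) (T.presheaf.stalk x) s)) := hunit.map _
    exact this.ne_zero
  have hs' : (s : Γ(T, ⊤)) ∉ RingHom.ker (T.Γevaluation x).hom := hs
  obtain ⟨s', i, hi, hs''⟩ := hker.exists_inv hs'
  refine ⟨b * s', ?_⟩
  have h1 : (T.Γevaluation x).hom s' * (T.Γevaluation x).hom s = 1 := by
    have := congrArg (T.Γevaluation x).hom hs''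
    rw [map_add, map_mul, map_one, (RingHom.mem_ker).mp hi, add_zero] at this
    exact this
  have h2 : (T.residue x).hom w * (T.Γevaluation x).hom s = (T.Γevaluation x).hom b := by
    have := congrArg (T.residue x).hom hbs
    rw [map_mul] at this
    exact this
  rw [map_mul, ← h2, mul_assoc, mul_comm ((T.Γevaluation x).hom s), h1, mul_one]
  rfl

theorem ker_Γevaluation_injective {T : Scheme.{u}} [IsAffine T] :
    Function.Injective (fun x : T => RingHom.ker (T.Γevaluation x).hom) := by
  intro x y hxy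
  have h : ∀ s : Γ(T, ⊤), x ∈ T.basicOpen s ↔ y ∈ T.basicOpen s := by
    intro s
    rw [← Scheme.evaluation_ne_zero_iff_mem_basicOpen (U := ⊤) T x trivial,
      ← Scheme.evaluation_ne_zero_iff_mem_basicOpen (U := ⊤) T y trivial]
    have := congrArg (fun I : Ideal Γ(T, ⊤) => s ∈ I) hxy
    simp only [RingHom.mem_ker] at this
    exact not_congr (Iff.of_eq this)
  have hbasis := isBasis_basicOpen T
  have hinsep : Inseparable x y := by
    rw [inseparable_iff_forall_isOpen]
    intro U hUo
    constructor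
    · intro hx
      obtain ⟨_, ⟨_, ⟨s, rfl⟩, rfl⟩, hxs, hsU⟩ := hbasis.exists_subset_of_mem_open hx hUo
      exact hsU ((h s).mp hxs)
    · intro hy
      obtain ⟨_, ⟨_, ⟨s, rfl⟩, rfl⟩, hys, hsU⟩ := hbasis.exists_subset_of_mem_open hy hUo
      exact hsU ((h s).mpr hys)
  exact hinsep.eq

/-- For a field `K`, the canonical map from `K` to the residue field at a point of `Spec K` is bijective. -/
theorem bijective_toResidueField (K : Type u) [Field K] (y : Spec (CommRingCat.of K)) :
    Function.Bijective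
      ((Scheme.ΓSpecIso (CommRingCat.of K)).inv ≫ (Spec (CommRingCat.of K)).Γevaluation y).hom := by
  constructor
  · exact RingHom.injective _
  · have hart : IsArtinianRing Γ(Spec (CommRingCat.of K), ⊤) := by
      let e : K ≃+* Γ(Spec (CommRingCat.of K), ⊤) :=
        (Scheme.ΓSpecIso (CommRingCat.of K)).symm.commRingCatIsoToRingEquiv
      exact e.isArtinianRing
    have h1 := Γevaluation_surjective (T := Spec (CommRingCat.of K)) y
    have h2 : Function.Surjective (Scheme.ΓSpecIso (CommRingCat.of K)).inv.hom :=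
      (ConcreteCategory.bijective_of_isIso (Scheme.ΓSpecIso (CommRingCat.of K)).inv).2
    exact h1.comp h2

theorem residueDegree_eq (K : Type u) [Field K] {T : Scheme.{u}} [IsAffine T]
    (p : T ⟶ Spec (CommRingCat.of K)) [IsArtinianRing Γ(T, ⊤)] (x : T) :
    letI : Algebra K Γ(T, ⊤) := (sm K p).toAlgebra
    p.residueDegree x = Module.finrank K (Γ(T, ⊤) ⧸ RingHom.ker (T.Γevaluation x).hom) := by
  letI : Algebra K Γ(T, ⊤) := (sm K p).toAlgebra
  letI := (p.residueFieldMap x).hom.toAlgebra
  show Module.finrank ((Spec (CommRingCat.of K)).residueField (p x)) (T.residueField x) = _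
  symm
  let i : K ≃+* (Spec (CommRingCat.of K)).residueField (p x) :=
    RingEquiv.ofBijective _ (bijective_toResidueField K (p x))
  let j : (Γ(T, ⊤) ⧸ RingHom.ker (T.Γevaluation x).hom) ≃+* T.residueField x :=
    RingHom.quotientKerEquivOfSurjective (Γevaluation_surjective x)
  refine Algebra.finrank_eq_of_equiv_equiv i j ?_
  ext k
  have := Scheme.Γevaluation_naturality_apply p x ((Scheme.ΓSpecIso (CommRingCat.of K)).inv.hom k)
  exact this

open _root_.BddFib in
theorem finsum_residueDegree_le (K : Type u) [Field K] {T : Scheme.{u}}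
    (p : T ⟶ Spec (CommRingCat.of K)) (n : ℕ) (h : FiniteOfDegLE (CommRingCat.of K) p n) :
    Finite T ∧ ∑ᶠ x : T, p.residueDegree x ≤ n := by
  have hfin := (finite_discrete_of_fdl K p n h).1
  refine ⟨hfin, ?_⟩
  rw [fdl_iff] at h
  letI : Algebra K Γ(T, ⊤) := (sm K p).toAlgebra
  obtain ⟨haff, hfinm, hrk⟩ := h
  have hart : IsArtinianRing Γ(T, ⊤) := IsArtinianRing.of_finite K _
  classical
  have := Fintype.ofFinite T
  have := Fintype.ofFinite (PrimeSpectrum Γ(T, ⊤))
  rw [finsum_eq_sum_of_fintype]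
  let ψ : T → PrimeSpectrum Γ(T, ⊤) := fun x => ⟨RingHom.ker (T.Γevaluation x).hom, RingHom.ker_isPrime _⟩
  have hψ : Function.Injective ψ := by
    intro x y hxy
    exact ker_Γevaluation_injective (congrArg PrimeSpectrum.asIdeal hxy)
  calc ∑ x : T, p.residueDegree x
      = ∑ x : T, Module.finrank K (Γ(T, ⊤) ⧸ (ψ x).asIdeal) :=
        Finset.sum_congr rfl (fun x _ => residueDegree_eq K p x)
    _ = ∑ q ∈ Finset.univ.image ψ, Module.finrank K (Γ(T, ⊤) ⧸ q.asIdeal) :=
        (Finset.sum_image (f := fun q : PrimeSpectrum Γ(T, ⊤) => Module.finrank K (Γ(T, ⊤) ⧸ q.asIdeal))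
          (g := ψ) (s := Finset.univ) (fun a _ b _ hab => hψ hab)).symm
    _ ≤ ∑ q : PrimeSpectrum Γ(T, ⊤), Module.finrank K (Γ(T, ⊤) ⧸ q.asIdeal) :=
        Finset.sum_le_sum_of_subset (Finset.subset_univ _)
    _ ≤ Module.finrank K Γ(T, ⊤) := sum_finrank_quot_le K _
    _ ≤ n := hrk

end Groth.Agent.Lib.Seat33.ResDeg
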