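import Mathlib
import Groth.Prelude.Def_HTop
import Groth.Prelude.Def_SGA1
import Groth.Agent.Lib.Seat33VSingle
import Groth.Agent.S7469

/-!
# V coverings are universally submersive
-/

set_option autoImplicit false
universe w u

open CategoryTheory CategoryTheory.Limits AlgebraicGeometry IsLocalRing

namespace Groth.Agent.Lib.Seat33.Submersive

/-- For a quasi-compact morphism to the spectrum of a ring, the image of a closed set is closed as
soon as it is stable under specialization. -/
theorem isClosed_image_of_stableUnderSpecialization_Spec {X : Scheme.{u}} {S : CommRingCat.{u}}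
    (f : X ⟶ Spec S) [QuasiCompact f] (Z : Set X) (hZ : IsClosed Z)
    (H : StableUnderSpecialization (f '' Z)) : IsClosed (f '' Z) := by
  wlog hX : ∃ R, X = Spec R
  · obtain ⟨R, g, hg⟩ := compactSpace_iff_exists.mp (QuasiCompact.compactSpace_of_compactSpace f)
    have inst : QuasiCompact (g ≫ f) := HasAffineProperty.iff_of_isAffine.mpr (by infer_instance)
    have := this (g ≫ f) (g ⁻¹' Z) (hZ.preimage g.continuous)
    simp_rw [Scheme.Hom.comp_base, TopCat.comp_app, ← Set.image_image,
      Set.image_preimage_eq _ hg] at this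
    exact this H ⟨_, rfl⟩
  obtain ⟨R, rfl⟩ := hX
  obtain ⟨φ, rfl⟩ := Spec.homEquiv.symm.surjective f
  exact PrimeSpectrum.isClosed_image_of_stableUnderSpecialization φ.hom Z hZ H

/-- For a quasi-compact morphism to an affine scheme, the image of a closed set is closed as
soon as it is stable under specialization. -/
theorem isClosed_image_of_stableUnderSpecialization {X Y : Scheme.{u}} [IsAffine Y]
    (f : X ⟶ Y) [QuasiCompact f] (Z : Set X) (hZ : IsClosed Z)
    (H : StableUnderSpecialization (f '' Z)) : IsClosed (f '' Z) := by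
  have h1 : IsClosed ((f ≫ Y.isoSpec.hom) '' Z) := by
    apply isClosed_image_of_stableUnderSpecialization_Spec _ Z hZ
    have : (f ≫ Y.isoSpec.hom) '' Z = Y.isoSpec.hom '' (f '' Z) := by
      rw [Set.image_image]; rfl
    rw [this]
    exact (Y.isoSpec.hom.homeomorph.isClosedMap.specializingMap).stableUnderSpecialization_image H
  have h2 : (f ≫ Y.isoSpec.hom) '' Z = Y.isoSpec.hom '' (f '' Z) := by
    rw [Set.image_image]; rfl
  rw [h2] at h1
  exact (Y.isoSpec.hom.homeomorph.isClosed_image).1 h1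

/-- For a ring map, every point in the closure of the image of a closed set is a specialization
of a point of that image. -/
theorem exists_specializes_of_mem_closure_comap {R S : Type*} [CommRing R] [CommRing S]
    (f : R →+* S) (Z : Set (PrimeSpectrum S)) (hZ : IsClosed Z) (p : PrimeSpectrum R)
    (hp : p ∈ closure (PrimeSpectrum.comap f '' Z)) :
    ∃ q ∈ Z, PrimeSpectrum.comap f q ⤳ p := by
  obtain ⟨I, rfl⟩ := (PrimeSpectrum.isClosed_iff_zeroLocus_ideal Z).mp hZ
  rw [PrimeSpectrum.closure_image_comap_zeroLocus] at hp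
  obtain ⟨q, hqI, hq, hqle⟩ := p.asIdeal.exists_ideal_comap_le_prime I hp
  exact ⟨⟨q, hq⟩, hqI, (PrimeSpectrum.le_iff_specializes ⟨q.comap f, inferInstance⟩ p).mp hqle⟩

/-- For a quasi-compact morphism to the spectrum of a ring, every point in the closure of the image
of a closed set is a specialization of a point of that image. -/
theorem exists_specializes_of_mem_closure_Spec {X : Scheme.{u}} {S : CommRingCat.{u}}
    (f : X ⟶ Spec S) [QuasiCompact f] (Z : Set X) (hZ : IsClosed Z) (y : Spec S)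
    (hy : y ∈ closure (f '' Z)) : ∃ z ∈ Z, f z ⤳ y := by
  obtain ⟨R, g, hg⟩ := compactSpace_iff_exists.mp (QuasiCompact.compactSpace_of_compactSpace f)
  obtain ⟨φ, hφ⟩ := Spec.homEquiv.symm.surjective (g ≫ f)
  have h1 : f '' Z = PrimeSpectrum.comap φ.hom '' (g ⁻¹' Z) := by
    have : (g ≫ f) '' (g ⁻¹' Z) = f '' Z := by
      rw [Scheme.Hom.comp_base, TopCat.coe_comp, Set.image_comp, Set.image_preimage_eq _ hg]
    rw [← this, ← hφ]
    rfl
  rw [h1] at hy
  obtain ⟨q, hq, hqy⟩ := exists_specializes_of_mem_closure_comap φ.hom _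
    (hZ.preimage g.continuous) y hy
  refine ⟨g q, hq, ?_⟩
  have : f (g q) = PrimeSpectrum.comap φ.hom q := by
    rw [← Scheme.Hom.comp_apply, ← hφ]
    rfl
  rw [this]
  exact hqy

/-- For a quasi-compact morphism to an affine scheme, every point in the closure of the image
of a closed set is a specialization of a point of that image. -/
theorem exists_specializes_of_mem_closure {X Y : Scheme.{u}} [IsAffine Y]
    (f : X ⟶ Y) [QuasiCompact f] (Z : Set X) (hZ : IsClosed Z) (y : Y)
    (hy : y ∈ closure (f '' Z)) : ∃ z ∈ Z, f z ⤳ y := by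
  have h2 : (f ≫ Y.isoSpec.hom) '' Z = Y.isoSpec.hom '' (f '' Z) := by
    rw [Set.image_image]; rfl
  have h1 : Y.isoSpec.hom y ∈ closure ((f ≫ Y.isoSpec.hom) '' Z) := by
    rw [h2]
    exact image_closure_subset_closure_image Y.isoSpec.hom.continuous ⟨y, hy, rfl⟩
  obtain ⟨z, hz, hzy⟩ := exists_specializes_of_mem_closure_Spec _ Z hZ _ h1
  refine ⟨z, hz, ?_⟩
  rw [Scheme.Hom.comp_apply] at hzy
  exact (Y.isoSpec.hom.homeomorph.isInducing.specializes_iff).1 hzy

/-- A subset of an affine scheme which is stable under specialization and is the union of the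
images of its (closed) preimages under finitely many quasi-compact morphisms is closed. -/
theorem isClosed_of_finite_family {Y : Scheme.{u}} [IsAffine Y] {ι : Type*} [Finite ι]
    (T : ι → Scheme.{u}) (q : ∀ j, T j ⟶ Y) [∀ j, QuasiCompact (q j)] (S' : Set Y)
    (hcl : ∀ j, IsClosed ((q j) ⁻¹' S')) (hsurj : ∀ s ∈ S', ∃ (j : ι) (t : T j), q j t = s)
    (hstab : StableUnderSpecialization S') : IsClosed S' := by
  have hS : S' = ⋃ j, (q j) '' ((q j) ⁻¹' S') := by
    apply subset_antisymm
    · intro s hs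
      obtain ⟨j, t, rfl⟩ := hsurj s hs
      exact Set.mem_iUnion.2 ⟨j, t, hs, rfl⟩
    · exact Set.iUnion_subset fun j => Set.image_preimage_subset _ _
  rw [← closure_subset_iff_isClosed]
  intro y hy
  rw [hS, closure_iUnion_of_finite] at hy
  obtain ⟨j, hj⟩ := Set.mem_iUnion.1 hy
  obtain ⟨z, hz, hzy⟩ := exists_specializes_of_mem_closure (q j) _ (hcl j) y hj
  exact hstab hzy hz

/-- Every base change of the morphism `∐ E.X ⟶ X` attached to a V covering is surjective. -/
theorem surjective_of_isVCover {X : Scheme.{u}} (E : PreZeroHypercover.{u} X)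
    (hE : HTop.IsVCover E) {X' Y' : Scheme.{u}} (i₁ : X' ⟶ ∐ E.X) (i₂ : Y' ⟶ X) (f' : X' ⟶ Y')
    (P : IsPullback f' i₁ i₂ (Sigma.desc E.f)) : Function.Surjective f' := by
  intro y
  have hE' := VSingle.hasValLift_of_isVCover E hE
  obtain ⟨W, hWd, hWv, φ, hφ, j, g', hg'⟩ :=
    hE' (Y'.residueField y) (Y'.fromSpecResidueField y ≫ i₂)
  let m : Spec W ⟶ X' := P.lift (Spec.map φ ≫ Y'.fromSpecResidueField y) (g' ≫ Sigma.ι E.X j)
    (by rw [Category.assoc, Category.assoc, Sigma.ι_desc, hg'])
  refine ⟨m (closedPoint W), ?_⟩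
  rw [← Scheme.Hom.comp_apply, P.lift_fst, Scheme.Hom.comp_apply,
    Scheme.fromSpecResidueField_apply]

/-- Local form: on an affine scheme, a set whose preimages under the members of a standard V
covering are all closed is closed. -/
theorem isClosed_of_isStandardV {Y : Scheme.{u}} (G : PreZeroHypercover.{w} Y)
    (hG : HTop.IsStandardV G) (S' : Set Y) (hcl : ∀ j, IsClosed ((G.f j) ⁻¹' S')) :
    IsClosed S' := by
  have := hG.isAffine
  have := hG.finite_index
  have : ∀ j, IsAffine (G.X j) := hG.isAffine_obj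
  have hq : ∀ j, QuasiCompact (G.f j) := fun j => inferInstance
  refine isClosed_of_finite_family G.X G.f S' hcl ?_ ?_
  · intro s hs
    obtain ⟨j, t', t, -, -, ht⟩ :=
      VSingle.exists_specializes_lift_of_hasValLift G hG.lift (specializes_rfl (x := s))
    exact ⟨j, t, ht⟩
  · intro s' s hs hs'
    obtain ⟨j, t', t, htt, ht', ht⟩ := VSingle.exists_specializes_lift_of_hasValLift G hG.lift hs
    have h1 : t' ∈ (G.f j) ⁻¹' S' := by
      change G.f j t' ∈ S'
      rw [ht']; exact hs'
    have h2 : t ∈ (G.f j) ⁻¹' S' := (hcl j).stableUnderSpecialization htt h1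
    rw [← ht]
    exact h2

/-- For a V covering `E` of `X` and any base change `f'` of `∐ E.X ⟶ X`, a set with closed
preimage under `f'` is closed. -/
theorem isClosed_of_isClosed_preimage {X : Scheme.{u}} (E : PreZeroHypercover.{u} X)
    (hE : HTop.IsVCover E) {X' Y' : Scheme.{u}} (i₁ : X' ⟶ ∐ E.X) (i₂ : Y' ⟶ X) (f' : X' ⟶ Y')
    (P : IsPullback f' i₁ i₂ (Sigma.desc E.f)) (S : Set Y') (hS : IsClosed (f' ⁻¹' S)) :
    IsClosed S := by
  have key : ∀ y : Y', ∃ (U : X.affineOpens) (U' : Y'.affineOpens), y ∈ (U' : Y'.Opens) ∧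
      (U' : Y'.Opens) ≤ i₂ ⁻¹ᵁ (U : X.Opens) := by
    intro y
    obtain ⟨U, hU, hx, -⟩ := TopologicalSpace.Opens.isBasis_iff_nbhd.mp X.isBasis_affineOpens
      (TopologicalSpace.Opens.mem_top (i₂ y))
    obtain ⟨U', hU', hy, hle⟩ := TopologicalSpace.Opens.isBasis_iff_nbhd.mp Y'.isBasis_affineOpens
      (show y ∈ i₂ ⁻¹ᵁ U from hx)
    exact ⟨⟨U, hU⟩, ⟨U', hU'⟩, hy, hle⟩
  choose U U' hyU' hle using key
  have hcov : TopologicalSpace.IsOpenCover (fun y => (U' y : Y'.Opens)) := by
    rw [TopologicalSpace.IsOpenCover, eq_top_iff]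
    intro y _
    exact TopologicalSpace.Opens.mem_iSup.2 ⟨y, hyU' y⟩
  rw [hcov.isClosed_iff_coe_preimage]
  intro y
  have : IsAffine ((U' y : Y'.Opens) : Scheme.{u}) := (U' y).2
  have hr : Set.range ((U' y : Y'.Opens).ι ≫ i₂) ⊆ Set.range (U y : X.Opens).ι := by
    rw [Scheme.Opens.range_ι]
    rintro _ ⟨t, rfl⟩
    rw [Scheme.Hom.comp_apply]
    exact hle y t.2
  let r : ((U' y : Y'.Opens) : Scheme.{u}) ⟶ ((U y : X.Opens) : Scheme.{u}) :=
    IsOpenImmersion.lift (U y : X.Opens).ι ((U' y : Y'.Opens).ι ≫ i₂) hr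
  have hrι : r ≫ (U y : X.Opens).ι = (U' y : Y'.Opens).ι ≫ i₂ := IsOpenImmersion.lift_fac _ _ _
  obtain ⟨F, hF, hFE⟩ := hE (U y)
  have hG := Groth.Agent.S7469.result r F hF
  let S' : Set ↥((U' y : Y'.Opens) : Scheme.{u}) := (U' y : Y'.Opens).ι ⁻¹' S
  suffices hS' : IsClosed S' from hS'
  refine isClosed_of_isStandardV (F.pullback₁ r) hG S' (fun j => ?_)
  obtain ⟨i, h, hh⟩ := hFE j
  let m : pullback r (F.f j) ⟶ X' :=
    P.lift (pullback.fst r (F.f j) ≫ (U' y : Y'.Opens).ι)
      (pullback.snd r (F.f j) ≫ h ≫ Sigma.ι E.X i) (by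
        rw [Category.assoc, Category.assoc, Category.assoc, Sigma.ι_desc, hh, ← hrι,
          ← Category.assoc, ← Category.assoc, pullback.condition])
  have hm : m ≫ f' = pullback.fst r (F.f j) ≫ (U' y : Y'.Opens).ι := P.lift_fst _ _ _
  have : ((F.pullback₁ r).f j) ⁻¹' S' = m ⁻¹' (f' ⁻¹' S) := by
    ext t
    change (U' y : Y'.Opens).ι (pullback.fst r (F.f j) t) ∈ S ↔ f' (m t) ∈ S
    rw [← Scheme.Hom.comp_apply, ← Scheme.Hom.comp_apply, hm]
  rw [this]
  exact hS.preimage m.continuous

/-- A V covering (indexed in the universe of the schemes) is universally submersive. -/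
theorem univSubmersive_sigmaDesc {X : Scheme.{u}} (E : PreZeroHypercover.{u} X)
    (hE : HTop.IsVCover E) : SGA1.UnivSubmersive (Sigma.desc E.f) := by
  intro X' Y' i₁ i₂ f' P
  change Topology.IsQuotientMap f'
  rw [Topology.isQuotientMap_iff_isClosed]
  exact ⟨surjective_of_isVCover E hE i₁ i₂ f' P, fun S =>
    ⟨fun hS => hS.preimage f'.continuous, isClosed_of_isClosed_preimage E hE i₁ i₂ f' P S⟩⟩

end Groth.Agent.Lib.Seat33.Submersive
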