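import Mathlib
import Groth.Prelude.Def_HTop
import Groth.Agent.Lib.Seat33SheafLocal
import Groth.Agent.S7469
import Groth.Agent.S7473

/-!
# The sheaf condition for V coverings

* standard V coverings are V coverings, and are stable under re-indexing and base change;
* if `F` is a Zariski sheaf with the sheaf property for standard V coverings (indexed in the
  universe of the schemes) then the sieve generated by any V covering is covering for the finest
  topology making `F` a sheaf; in particular `F` has the sheaf property for every V covering.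
-/

set_option autoImplicit false
universe w w' w'' u

open CategoryTheory CategoryTheory.Limits AlgebraicGeometry

namespace Groth.Agent.Lib.Seat33.VSheaf

open SheafLocal

theorem isStandardV_reindex {T : Scheme.{u}} (E : PreZeroHypercover.{w'} T)
    (hE : HTop.IsStandardV E) {ι : Type w''} (e : ι ≃ E.I₀) : HTop.IsStandardV (E.reindex e) := by
  have := hE.finite_index
  refine ⟨hE.isAffine, Finite.of_equiv _ e.symm, fun j => hE.isAffine_obj (e j), ?_⟩
  intro V _ _ g
  obtain ⟨W, hWd, hWv, φ, hφ, j, g', hg'⟩ := hE.lift V g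
  refine ⟨W, hWd, hWv, φ, hφ, e.symm j, ?_⟩
  change ∃ g'' : Spec W ⟶ E.X (e (e.symm j)), g'' ≫ E.f (e (e.symm j)) = _
  rw [e.apply_symm_apply]
  exact ⟨g', hg'⟩

/-- A standard V covering can be re-indexed in any universe. -/
theorem exists_isStandardV_univ {T : Scheme.{u}} (E : PreZeroHypercover.{w'} T)
    (hE : HTop.IsStandardV E) :
    ∃ E' : PreZeroHypercover.{w''} T, HTop.IsStandardV E' ∧ E'.presieve₀ = E.presieve₀ ∧
      ∀ j : E'.I₀, ∃ (i : E.I₀) (h : E'.X j ⟶ E.X i), h ≫ E.f i = E'.f j := by
  have := hE.finite_index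
  obtain ⟨n, ⟨e⟩⟩ := Finite.exists_equiv_fin E.I₀
  let e' : ULift.{w''} (Fin n) ≃ E.I₀ := Equiv.ulift.trans e.symm
  exact ⟨E.reindex e', isStandardV_reindex E hE e', E.presieve₀_reindex e',
    fun j => ⟨e' j, 𝟙 _, Category.id_comp _⟩⟩

theorem isStandardV_pullback₂ {T T' : Scheme.{u}} [IsAffine T'] (g : T' ⟶ T)
    (E : PreZeroHypercover.{w'} T) (hE : HTop.IsStandardV E) :
    HTop.IsStandardV (E.pullback₂ g) := by
  have := hE.isAffine
  refine ⟨inferInstance, hE.finite_index, fun j => ?_, ?_⟩
  · have := hE.isAffine_obj j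
    exact inferInstanceAs (IsAffine (pullback (E.f j) g))
  · intro V _ _ k
    obtain ⟨W, hWd, hWv, φ, hφ, j, g', hg'⟩ := hE.lift V (k ≫ g)
    refine ⟨W, hWd, hWv, φ, hφ, j, pullback.lift g' (Spec.map φ ≫ k) ?_, ?_⟩
    · rw [Category.assoc, hg']
    · exact pullback.lift_snd _ _ _

/-- A standard V covering is a V covering. -/
theorem isVCover_of_isStandardV {T : Scheme.{u}} (E : PreZeroHypercover.{w'} T)
    (hE : HTop.IsStandardV E) : HTop.IsVCover E := by
  intro U
  have : IsAffine ((U : T.Opens) : Scheme.{u}) := U.2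
  have h1 := Groth.Agent.S7469.result (U : T.Opens).ι E hE
  obtain ⟨E', hE', -, href⟩ := exists_isStandardV_univ.{w', 0} (E.pullback₁ (U : T.Opens).ι) h1
  refine ⟨E', hE', fun j => ?_⟩
  obtain ⟨i, h, hh⟩ := href j
  let i' : E.I₀ := i
  let h' : E'.X j ⟶ pullback (U : T.Opens).ι (E.f i') := h
  have hh' : h' ≫ pullback.fst (U : T.Opens).ι (E.f i') = E'.f j := hh
  refine ⟨i', h' ≫ pullback.snd (U : T.Opens).ι (E.f i'), ?_⟩
  rw [Category.assoc, ← pullback.condition, ← Category.assoc, hh']

variable {F : Scheme.{u}ᵒᵖ ⥤ Type w}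

/-- If `F` is a Zariski sheaf with the sheaf property for standard V coverings, then the sieve
generated by a standard V covering is covering for the finest topology making `F` a sheaf. -/
theorem generate_mem_JF_of_isStandardV (hzar : Presieve.IsSheaf Scheme.zariskiTopology F)
    (hstd : ∀ (T : Scheme.{u}) (E : PreZeroHypercover.{u} T), HTop.IsStandardV E →
      Presieve.IsSheafFor F E.presieve₀)
    {T : Scheme.{u}} (E : PreZeroHypercover.{w'} T) (hE : HTop.IsStandardV E) :
    Sieve.generate E.presieve₀ ∈ JF F T := by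
  apply mem_JF_of_forall_isAffine hzar
  intro Y _ f
  rw [← Sieve.pullbackArrows_comm, ← PreZeroHypercover.presieve₀_pullback₁,
    ← Presieve.isSheafFor_iff_generate]
  obtain ⟨E', hE', heq, -⟩ := exists_isStandardV_univ.{w', u} (E.pullback₂ f)
    (isStandardV_pullback₂ f E hE)
  rw [← heq]
  exact hstd Y E' hE'

/-- If `F` is a Zariski sheaf with the sheaf property for standard V coverings, then the sieve
generated by a V covering is covering for the finest topology making `F` a sheaf. -/
theorem generate_mem_JF_of_isVCover (hzar : Presieve.IsSheaf Scheme.zariskiTopology F)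
    (hstd : ∀ (T : Scheme.{u}) (E : PreZeroHypercover.{u} T), HTop.IsStandardV E →
      Presieve.IsSheafFor F E.presieve₀)
    {X : Scheme.{u}} (E : PreZeroHypercover.{w'} X) (hE : HTop.IsVCover E) :
    Sieve.generate E.presieve₀ ∈ JF F X := by
  apply mem_JF_of_forall_affineOpens hzar
  intro U
  obtain ⟨G, hG, hGE⟩ := hE U
  refine (JF F).superset_covering ?_ (generate_mem_JF_of_isStandardV hzar hstd G hG)
  rw [Sieve.generate_le_iff]
  rintro Z g ⟨j⟩
  obtain ⟨i, h, hh⟩ := hGE j
  exact ⟨_, h, E.f i, ⟨i⟩, hh⟩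

/-- If `F` is a Zariski sheaf with the sheaf property for standard V coverings, then `F` has the
sheaf property for all V coverings. -/
theorem isVSheaf_of_zariski_of_standardV (hzar : Presieve.IsSheaf Scheme.zariskiTopology F)
    (hstd : ∀ (T : Scheme.{u}) (E : PreZeroHypercover.{u} T), HTop.IsStandardV E →
      Presieve.IsSheafFor F E.presieve₀) : HTop.IsVSheaf F := by
  intro X R hR
  rw [HTop.vPrecoverage, PreZeroHypercoverFamily.mem_precoverage_iff] at hR
  obtain ⟨E, hE, rfl⟩ := hR
  exact isSheafFor_of_generate_mem F (generate_mem_JF_of_isVCover hzar hstd E hE)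

theorem isSheaf_zariski_of_isVSheaf (hF : HTop.IsVSheaf F) :
    Presieve.IsSheaf Scheme.zariskiTopology F := by
  rw [Precoverage.isSheaf_toGrothendieck_iff_of_isStableUnderBaseChange]
  intro X R hR
  apply hF
  have h1 : R ∈ Scheme.fpqcPrecoverage X := Scheme.zariskiPrecoverage_le_fpqcPrecoverage _ hR
  rw [Precoverage.mem_iff_exists_zeroHypercover] at h1
  obtain ⟨𝒰, rfl⟩ := h1
  exact (HTop.presieve₀_mem_vPrecoverage_iff _).2 (Groth.Agent.S7473.result 𝒰)

theorem isSheafFor_of_isVSheaf_of_isStandardV (hF : HTop.IsVSheaf F) {T : Scheme.{u}}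
    (E : PreZeroHypercover.{w'} T) (hE : HTop.IsStandardV E) :
    Presieve.IsSheafFor F E.presieve₀ :=
  hF _ ((HTop.presieve₀_mem_vPrecoverage_iff _).2 (isVCover_of_isStandardV E hE))

/-- The coproduct of the members of a standard V covering is, on its own, a standard V covering. -/
theorem isStandardV_singleton_sigmaDesc {T : Scheme.{u}} (E : PreZeroHypercover.{u} T)
    (hE : HTop.IsStandardV E) :
    HTop.IsStandardV (PreZeroHypercover.singleton.{w'} (Sigma.desc E.f)) := by
  have := hE.finite_index
  have : ∀ j, IsAffine (E.X j) := hE.isAffine_obj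
  refine ⟨hE.isAffine, inferInstanceAs (Finite PUnit), fun _ => inferInstanceAs (IsAffine (∐ E.X)), ?_⟩
  intro V _ _ g
  obtain ⟨W, hWd, hWv, φ, hφ, j, g', hg'⟩ := hE.lift V g
  refine ⟨W, hWd, hWv, φ, hφ, PUnit.unit, g' ≫ Sigma.ι E.X j, ?_⟩
  change (g' ≫ Sigma.ι E.X j) ≫ Sigma.desc E.f = _
  rw [Category.assoc, Sigma.ι_desc, hg']

/-- For a Zariski sheaf, the sheaf property for one-member standard V coverings implies the sheaf
property for all standard V coverings. -/
theorem isSheafFor_standardV_of_singleton (hzar : Presieve.IsSheaf Scheme.zariskiTopology F)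
    (hsingle : ∀ (U V : Scheme.{u}) (f : V ⟶ U),
      HTop.IsStandardV (PreZeroHypercover.singleton.{w'} f) →
      Presieve.IsSheafFor F (Presieve.singleton f))
    (T : Scheme.{u}) (E : PreZeroHypercover.{u} T) (hE : HTop.IsStandardV E) :
    Presieve.IsSheafFor F E.presieve₀ := by
  have := hE.finite_index
  have : PreservesLimitsOfShape (Discrete (E.I₀ × E.I₀)) F :=
    preservesLimitsOfShape_discrete_of_isSheaf_zariskiTopology hzar
  have : PreservesLimitsOfShape (Discrete E.I₀) F :=
    preservesLimitsOfShape_discrete_of_isSheaf_zariskiTopology hzar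
  change Presieve.IsSheafFor F (.ofArrows E.X E.f)
  rw [← Presieve.isSheafFor_sigmaDesc_iff E.f (coproductIsCoproduct _)
    (FinitaryExtensive.isVanKampen_finiteCoproducts (coproductIsCoproduct _)).isUniversal]
  exact hsingle _ _ _ (isStandardV_singleton_sigmaDesc E hE)

end Groth.Agent.Lib.Seat33.VSheaf
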