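import Mathlib
import Groth.Agent.Lib.Helper14FTDimB

/-!
# Algebraic independence from a codimension-two component (seat 34)

* `isAlgebraic_quotient_of_relation`: a bivariate relation `H(g₁, g₀) = 0` gives algebraicity of
  `g₀` modulo any prime containing `g₁`.
* `not_relation_of_height_two`: if a minimal prime over `(g₀, g₁)` in a finite type domain over a
  field has height two, then `g₁` is transcendental over `k` and there is no relation.
* `isAlgebraic_leadingCoeff`: algebraicity over `R₁[x]` of a polynomial in `L[x]` forces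
  algebraicity of its lex-leading coefficient over `R₁`.
-/

set_option autoImplicit false

namespace Groth.Agent.Lib.Seat34.AlgIndep

open Polynomial

universe u

section Relation

variable {k A : Type*} [Field k] [CommRing A] [IsDomain A] [Algebra k A]

theorem eq_zero_of_isAlgebraic_of_not_isUnit {b : A} (hb : IsAlgebraic k b) (hnu : ¬ IsUnit b) :
    b = 0 := by
  by_contra h0
  exact hnu (IsArtinianRing.isUnit_of_isIntegral_of_nonZeroDivisor hb.isIntegral
    (mem_nonZeroDivisors_of_ne_zero h0))

/-- A nonzero bivariate relation `H(g₁, g₀) = 0` (with `g₁ ≠ 0`) makes `g₀` algebraic over `k`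
modulo any prime containing `g₁`. -/
theorem isAlgebraic_quotient_of_relation (g0 g1 : A) (h1 : g1 ≠ 0)
    (H : (k[X])[X]) (hH0 : H ≠ 0)
    (hH : eval₂ ((aeval g1 : k[X] →ₐ[k] A) : k[X] →+* A) g0 H = 0)
    (q : Ideal A) [q.IsPrime] (hq : g1 ∈ q) :
    IsAlgebraic k (Ideal.Quotient.mk q g0) := by
  set φ : k[X] →+* A := ((aeval g1 : k[X] →ₐ[k] A) : k[X] →+* A) with hφ
  have hirr : Irreducible (C (X : k[X]) : (k[X])[X]) := (prime_C_iff.mpr prime_X).irreducible
  obtain ⟨e, H', hndvd, hHeq⟩ := WfDvdMonoid.max_power_factor hH0 hirr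
  have hφX : φ X = g1 := by simp [hφ]
  have hH' : eval₂ φ g0 H' = 0 := by
    rw [hHeq, eval₂_mul, eval₂_pow, eval₂_C, hφX] at hH
    exact (mul_eq_zero.mp hH).resolve_left (pow_ne_zero _ h1)
  rw [C_dvd_iff_dvd_coeff] at hndvd
  push Not at hndvd
  obtain ⟨i, hi⟩ := hndvd
  rw [X_dvd_iff] at hi
  refine ⟨H'.map (constantCoeff : k[X] →+* k), ?_, ?_⟩
  · intro h0
    apply hi
    have := congrArg (fun p => coeff p i) h0
    simpa [coeff_map] using this
  · have hcomp : (Ideal.Quotient.mk q).comp φ
        = (algebraMap k (A ⧸ q)).comp (constantCoeff : k[X] →+* k) := by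
      ext r
      · simp [hφ]
      · simp only [RingHom.comp_apply, hφX, constantCoeff_apply, coeff_X_zero, map_zero]
        exact Ideal.Quotient.eq_zero_iff_mem.mpr hq
    rw [aeval_def, eval₂_map, ← hcomp, ← hom_eval₂, hH', map_zero]

end Relation


section Height

variable {k A : Type u} [Field k] [CommRing A] [IsDomain A] [Algebra k A] [Algebra.FiniteType k A]

theorem height_eq_two_of_dim (k : Type u) {A : Type u} [Field k] [CommRing A] [IsDomain A]
    [Algebra k A] [Algebra.FiniteType k A] (p : Ideal A) [p.IsPrime]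
    (hdim : ringKrullDim (A ⧸ p) + 2 = ringKrullDim A) : p.height = 2 := by
  obtain ⟨m, c, hc, hA, hht, hq⟩ :=
    Groth.Agent.Lib.Helper14.FTDim.exists_dim_height (k := k) A p
  rw [hA, hq] at hdim
  have h1 : ((m - c : ℕ) : WithBot ℕ∞) + 2 = ((m - c + 2 : ℕ) : WithBot ℕ∞) := by
    push_cast
    rfl
  rw [h1] at hdim
  have h2 : m - c + 2 = m := by exact_mod_cast hdim
  have h3 : c = 2 := by omega
  rw [hht, h3]
  rfl

theorem not_relation_of_height_two (g0 g1 : A) (p : Ideal A)
    (hp : p ∈ (Ideal.span {g0, g1}).minimalPrimes) (hht : p.height = 2) :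
    Transcendental k g1 ∧ ∀ H : (k[X])[X], H ≠ 0 →
      eval₂ ((aeval g1 : k[X] →ₐ[k] A) : k[X] →+* A) g0 H ≠ 0 := by
  have hpprime : p.IsPrime := hp.1.1
  have hle : Ideal.span {g0, g1} ≤ p := hp.1.2
  have hg0p : g0 ∈ p := hle (Ideal.subset_span (by simp))
  have hg1p : g1 ∈ p := hle (Ideal.subset_span (by simp))
  have : IsNoetherianRing A := Algebra.FiniteType.isNoetherianRing k A
  have htr : Transcendental k g1 := by
    intro halg
    have hg1 : g1 = 0 := eq_zero_of_isAlgebraic_of_not_isUnit halg
      (fun hu => hpprime.ne_top (Ideal.eq_top_of_isUnit_mem _ hg1p hu))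
    have hspan : Ideal.span {g0, g1} = Ideal.span {g0} := by
      rw [hg1]
      apply le_antisymm
      · rw [Ideal.span_le]
        rintro x (rfl | rfl)
        · exact Ideal.subset_span rfl
        · exact Ideal.zero_mem _
      · exact Ideal.span_mono (by simp)
    rw [hspan] at hp
    have := Ideal.height_le_one_of_isPrincipal_of_mem_minimalPrimes (Ideal.span {g0}) p hp
    rw [hht] at this
    exact absurd this (by decide)
  refine ⟨htr, fun H hH0 hH => ?_⟩
  have hg1ne : g1 ≠ 0 := by
    rintro rfl
    exact htr (isAlgebraic_zero)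
  obtain ⟨q, hq, hqp⟩ := Ideal.exists_minimalPrimes_le (I := Ideal.span {g1}) (J := p)
    (by rw [Ideal.span_le]; rintro x rfl; exact hg1p)
  have hqprime : q.IsPrime := hq.1.1
  have hg1q : g1 ∈ q := hq.1.2 (Ideal.subset_span rfl)
  have hqht : q.height ≤ 1 :=
    Ideal.height_le_one_of_isPrincipal_of_mem_minimalPrimes (Ideal.span {g1}) q hq
  have halg := isAlgebraic_quotient_of_relation g0 g1 hg1ne H hH0 hH q hg1q
  have hnu : ¬ IsUnit (Ideal.Quotient.mk q g0) := by
    intro hu
    obtain ⟨b, hb⟩ := isUnit_iff_exists_inv.mp hu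
    obtain ⟨b, rfl⟩ := Ideal.Quotient.mk_surjective b
    rw [← map_mul, ← map_one (Ideal.Quotient.mk q), Ideal.Quotient.eq] at hb
    have h1 : g0 * b - 1 ∈ p := hqp hb
    have h2 : g0 * b ∈ p := p.mul_mem_right _ hg0p
    have h3 : (1 : A) ∈ p := by
      have := p.sub_mem h2 h1
      simpa using this
    exact hpprime.ne_top ((Ideal.eq_top_iff_one _).mpr h3)
  have hg0q : g0 ∈ q :=
    Ideal.Quotient.eq_zero_iff_mem.mp (eq_zero_of_isAlgebraic_of_not_isUnit halg hnu)
  have hspanq : Ideal.span {g0, g1} ≤ q := by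
    rw [Ideal.span_le]
    rintro x (rfl | rfl)
    · exact hg0q
    · exact hg1q
  have hpq : p ≤ q := hp.2 ⟨hqprime, hspanq⟩ hqp
  have := (Ideal.height_mono hpq).trans hqht
  rw [hht] at this
  exact absurd this (by decide)

end Height


section LeadingCoeff

open MvPolynomial

attribute [local instance] MvPolynomial.algebraMvPolynomial

variable {k L R₁ : Type*} [Field k] [Field L] [Algebra k L] [CommRing R₁] [IsDomain R₁]
  [Algebra k R₁] [Algebra R₁ L] [IsScalarTower k R₁ L]

/-- If `z ∈ L[x]` is algebraic over `R₁[x]`, then its lex-leading coefficient is algebraic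
over `R₁`. -/
theorem isAlgebraic_leadingCoeff_of_isAlgebraic (hinj : Function.Injective (algebraMap R₁ L))
    {n : ℕ} (z : MvPolynomial (Fin n) L) (halg : IsAlgebraic (MvPolynomial (Fin n) R₁) z) :
    IsAlgebraic R₁ (MonomialOrder.lex.leadingCoeff z) := by
  obtain ⟨d, hd0, hint⟩ := halg.exists_integral_multiple
  rw [Algebra.smul_def, MvPolynomial.algebraMap_def] at hint
  set θd := MvPolynomial.map (algebraMap R₁ L) d with hθd
  have hθd0 : θd ≠ 0 := by
    intro h0
    apply hd0
    apply MvPolynomial.map_injective _ hinj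
    rw [← hθd, h0, map_zero]
  have hcoef := (MvPolynomial.isIntegral_iff_isIntegral_coeff.mp hint)
    (MonomialOrder.lex.degree θd + MonomialOrder.lex.degree z)
  rw [MonomialOrder.coeff_mul_of_degree_add] at hcoef
  have hlc : MonomialOrder.lex.leadingCoeff θd
      = algebraMap R₁ L (d.coeff (MonomialOrder.lex.degree θd)) := by
    rw [MonomialOrder.leadingCoeff, hθd, MvPolynomial.coeff_map]
  have hlc0 : MonomialOrder.lex.leadingCoeff θd ≠ 0 :=
    MonomialOrder.leadingCoeff_ne_zero_iff.mpr hθd0
  have h1 : IsAlgebraic R₁ (MonomialOrder.lex.leadingCoeff θd * MonomialOrder.lex.leadingCoeff z) :=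
    hcoef.isAlgebraic
  have h2 : IsAlgebraic R₁ (MonomialOrder.lex.leadingCoeff θd)⁻¹ := by
    rw [hlc]
    exact (isAlgebraic_algebraMap _).inv
  have h3 := h2.mul h1
  rwa [← mul_assoc, inv_mul_cancel₀ hlc0, one_mul] at h3

omit [IsDomain R₁] in
/-- Lifting an algebraic relation over `adjoin k S` inside `Frac(L[x])` to one over `R₁[x]`. -/
theorem isAlgebraic_of_isAlgebraic_adjoin {n : ℕ} (z : MvPolynomial (Fin n) L)
    (S : Set (FractionRing (MvPolynomial (Fin n) L)))
    (hS : ∀ s ∈ S, ∃ r : MvPolynomial (Fin n) R₁,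
      algebraMap (MvPolynomial (Fin n) L) (FractionRing (MvPolynomial (Fin n) L))
        (MvPolynomial.map (algebraMap R₁ L) r) = s)
    (halg : IsAlgebraic (Algebra.adjoin k S)
      (algebraMap (MvPolynomial (Fin n) L) (FractionRing (MvPolynomial (Fin n) L)) z)) :
    IsAlgebraic (MvPolynomial (Fin n) R₁) z := by
  let Θ : MvPolynomial (Fin n) R₁ →ₐ[k] FractionRing (MvPolynomial (Fin n) L) :=
    (IsScalarTower.toAlgHom k (MvPolynomial (Fin n) L) (FractionRing (MvPolynomial (Fin n) L))).comp
      (MvPolynomial.mapAlgHom (IsScalarTower.toAlgHom k R₁ L))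
  let Θr : MvPolynomial (Fin n) R₁ →+* FractionRing (MvPolynomial (Fin n) L) := Θ.toRingHom
  have hle : Algebra.adjoin k S ≤ Θ.range := by
    rw [Algebra.adjoin_le_iff]
    intro s hs
    obtain ⟨r, hr⟩ := hS s hs
    exact ⟨r, hr⟩
  obtain ⟨q, hq0, hqz⟩ := halg
  have hlifts : q.map (algebraMap (Algebra.adjoin k S) (FractionRing (MvPolynomial (Fin n) L)))
      ∈ Polynomial.lifts Θr := by
    rw [Polynomial.lifts_iff_coeff_lifts]
    intro i
    rw [Polynomial.coeff_map]
    exact hle (q.coeff i).2
  obtain ⟨q', hq'⟩ := hlifts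
  have hq'0 : q' ≠ 0 := by
    rintro rfl
    apply hq0
    have hinj' : Function.Injective
        (algebraMap (Algebra.adjoin k S) (FractionRing (MvPolynomial (Fin n) L))) :=
      Subtype.val_injective
    apply Polynomial.map_injective _ hinj'
    rw [← hq', Polynomial.map_zero, map_zero]
  refine ⟨q', hq'0, ?_⟩
  have h1 : Polynomial.eval₂ Θr
      (algebraMap (MvPolynomial (Fin n) L) (FractionRing (MvPolynomial (Fin n) L)) z) q' = 0 := by
    rw [Polynomial.eval₂_eq_eval_map]
    have : Polynomial.map Θr q'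
        = q.map (algebraMap (Algebra.adjoin k S) (FractionRing (MvPolynomial (Fin n) L))) := hq'
    rw [this, ← Polynomial.eval₂_eq_eval_map]
    exact hqz
  have hΘcomp : Θr
      = (algebraMap (MvPolynomial (Fin n) L) (FractionRing (MvPolynomial (Fin n) L))).comp
          (MvPolynomial.map (algebraMap R₁ L)) := by
    ext r <;> rfl
  rw [hΘcomp, ← Polynomial.hom_eval₂] at h1
  have h2 := (IsFractionRing.injective (MvPolynomial (Fin n) L)
    (FractionRing (MvPolynomial (Fin n) L))) (h1.trans (map_zero _).symm)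
  rw [Polynomial.aeval_def, MvPolynomial.algebraMap_def]
  exact h2

end LeadingCoeff


section LexLeading

open scoped MonomialOrder

theorem leadingCoeff_sum_C_mul_X {L : Type*} [Field L] {n : ℕ} (a : Fin (n + 1) → L)
    (h0 : a 0 ≠ 0) :
    MonomialOrder.lex.leadingCoeff (∑ i, MvPolynomial.C (a i) * MvPolynomial.X i : MvPolynomial (Fin (n + 1)) L) = a 0 := by
  classical
  rw [Fin.sum_univ_succ]
  have hf : (MvPolynomial.C (a 0) * MvPolynomial.X 0 : MvPolynomial (Fin (n + 1)) L) = MvPolynomial.monomial (Finsupp.single 0 1) (a 0) :=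
    MvPolynomial.C_mul_X_eq_monomial
  have hdegf : MonomialOrder.lex.degree (MvPolynomial.C (a 0) * MvPolynomial.X 0 : MvPolynomial (Fin (n + 1)) L)
      = Finsupp.single 0 1 := by
    rw [hf, MonomialOrder.degree_monomial, if_neg h0]
  have hlt : MonomialOrder.lex.degree
      (∑ i : Fin n, MvPolynomial.C (a i.succ) * MvPolynomial.X i.succ : MvPolynomial (Fin (n + 1)) L)
        ≺[MonomialOrder.lex] MonomialOrder.lex.degree
          (MvPolynomial.C (a 0) * MvPolynomial.X 0 : MvPolynomial (Fin (n + 1)) L) := by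
    rw [hdegf]
    have hpos : (0 : Fin (n + 1) →₀ ℕ) ≺[MonomialOrder.lex] Finsupp.single 0 1 := by
      rw [MonomialOrder.lex_lt_iff]
      have : toLex (0 : Fin (n + 1) →₀ ℕ) ≤ toLex (Finsupp.single 0 1) := bot_le
      refine lt_of_le_of_ne this ?_
      intro h
      have h2 : (0 : Fin (n + 1) →₀ ℕ) = Finsupp.single 0 1 := toLex.injective h
      have := congrArg (fun f => f 0) h2
      simp at this
    rw [MonomialOrder.degree_lt_iff hpos]
    intro c hc
    have hc' := MvPolynomial.support_sum hc
    rw [Finset.mem_biUnion] at hc'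
    obtain ⟨i, -, hi⟩ := hc'
    rw [MvPolynomial.C_mul_X_eq_monomial] at hi
    have hci : c = Finsupp.single i.succ 1 := by
      have := MvPolynomial.support_monomial_subset hi
      simpa using this
    rw [hci, MonomialOrder.lex_lt_iff, Finsupp.Lex.single_lt_iff]
    exact Fin.succ_pos i
  rw [MonomialOrder.leadingCoeff_add_of_lt hlt, hf, MonomialOrder.leadingCoeff_monomial]

end LexLeading


section Main

attribute [local instance] MvPolynomial.algebraMvPolynomial

variable {k L : Type*} [Field k] [Field L] [Algebra k L]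

theorem algebraicIndependent_X_frac (n : ℕ) :
    AlgebraicIndependent k (fun i : Fin n =>
      algebraMap (MvPolynomial (Fin n) L) (FractionRing (MvPolynomial (Fin n) L))
        (MvPolynomial.X i)) := by
  have h := MvPolynomial.algebraicIndependent_X (Fin n) L
  have h2 := h.map' (f := IsScalarTower.toAlgHom L (MvPolynomial (Fin n) L)
    (FractionRing (MvPolynomial (Fin n) L)))
    (IsFractionRing.injective (MvPolynomial (Fin n) L) (FractionRing (MvPolynomial (Fin n) L)))
  exact AlgebraicIndependent.restrictScalars (K := L) (algebraMap k L).injective h2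

/-- `η = g₁` is transcendental over `k[x]`. -/
theorem transcendental_C_frac (n : ℕ) (g1 : L) (h1 : Transcendental k g1) :
    Transcendental (Algebra.adjoin k (Set.range (fun i : Fin n =>
      algebraMap (MvPolynomial (Fin n) L) (FractionRing (MvPolynomial (Fin n) L))
        (MvPolynomial.X i))))
      (algebraMap (MvPolynomial (Fin n) L) (FractionRing (MvPolynomial (Fin n) L))
        (MvPolynomial.C g1)) := by
  intro halg
  have h2 : IsAlgebraic (MvPolynomial (Fin n) k) (MvPolynomial.C g1 : MvPolynomial (Fin n) L) := by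
    refine isAlgebraic_of_isAlgebraic_adjoin (k := k) (R₁ := k) (MvPolynomial.C g1) _ ?_ halg
    rintro s ⟨i, rfl⟩
    exact ⟨MvPolynomial.X i, by rw [MvPolynomial.map_X]⟩
  have h3 := isAlgebraic_leadingCoeff_of_isAlgebraic (algebraMap k L).injective _ h2
  rw [MonomialOrder.leadingCoeff_C] at h3
  exact h1 h3

/-- `ξ = Σ aᵢ xᵢ` is transcendental over `k[x, g₁]` when there is no relation between `g₁`
and `a₀`. -/
theorem transcendental_xi_frac (n : ℕ) (a : Fin (n + 1) → L) (g1 : L) (h1 : Transcendental k g1)
    (hrel : ∀ H : (k[X])[X], H ≠ 0 →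
      eval₂ ((aeval g1 : k[X] →ₐ[k] L) : k[X] →+* L) (a 0) H ≠ 0) :
    Transcendental (Algebra.adjoin k (Set.range (fun o : Option (Fin (n + 1)) =>
      o.elim (algebraMap (MvPolynomial (Fin (n + 1)) L)
          (FractionRing (MvPolynomial (Fin (n + 1)) L)) (MvPolynomial.C g1))
        (fun i => algebraMap (MvPolynomial (Fin (n + 1)) L)
          (FractionRing (MvPolynomial (Fin (n + 1)) L)) (MvPolynomial.X i)))))
      (algebraMap (MvPolynomial (Fin (n + 1)) L) (FractionRing (MvPolynomial (Fin (n + 1)) L))
        (∑ i, MvPolynomial.C (a i) * MvPolynomial.X i)) := by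
  intro halg
  have h0 : a 0 ≠ 0 := by
    have := hrel X X_ne_zero
    rwa [eval₂_X] at this
  let alg1 : Algebra k[X] L := ((aeval g1 : k[X] →ₐ[k] L) : k[X] →+* L).toAlgebra
  have hamap : ∀ r : k[X], algebraMap k[X] L r = aeval g1 r := fun r => rfl
  have : IsScalarTower k k[X] L := IsScalarTower.of_algebraMap_eq (fun r => by
    rw [hamap, Polynomial.algebraMap_apply, Algebra.algebraMap_self_apply, aeval_C])
  have hinj : Function.Injective (algebraMap k[X] L) := transcendental_iff_injective.mp h1
  have h2 : IsAlgebraic (MvPolynomial (Fin (n + 1)) k[X])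
      (∑ i, MvPolynomial.C (a i) * MvPolynomial.X i : MvPolynomial (Fin (n + 1)) L) := by
    refine isAlgebraic_of_isAlgebraic_adjoin (k := k) (R₁ := k[X]) _ _ ?_ halg
    rintro s ⟨o, rfl⟩
    cases o with
    | none =>
      refine ⟨MvPolynomial.C X, ?_⟩
      rw [MvPolynomial.map_C, hamap, aeval_X]
      rfl
    | some i =>
      refine ⟨MvPolynomial.X i, ?_⟩
      rw [MvPolynomial.map_X]
      rfl
  have h3 := isAlgebraic_leadingCoeff_of_isAlgebraic hinj _ h2
  rw [leadingCoeff_sum_C_mul_X a h0] at h3
  obtain ⟨H, hH0, hH⟩ := h3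
  exact hrel H hH0 (by rwa [aeval_def] at hH)

theorem algebraicIndependent_sumElim_frac (n : ℕ) (a : Fin (n + 1) → L) (g1 : L)
    (h1 : Transcendental k g1)
    (hrel : ∀ H : (k[X])[X], H ≠ 0 →
      eval₂ ((aeval g1 : k[X] →ₐ[k] L) : k[X] →+* L) (a 0) H ≠ 0) :
    AlgebraicIndependent k (Sum.elim
      (fun i : Fin (n + 1) => algebraMap (MvPolynomial (Fin (n + 1)) L)
          (FractionRing (MvPolynomial (Fin (n + 1)) L)) (MvPolynomial.X i))
      ![algebraMap (MvPolynomial (Fin (n + 1)) L) (FractionRing (MvPolynomial (Fin (n + 1)) L))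
          (∑ i, MvPolynomial.C (a i) * MvPolynomial.X i),
        algebraMap (MvPolynomial (Fin (n + 1)) L) (FractionRing (MvPolynomial (Fin (n + 1)) L))
          (MvPolynomial.C g1)]) := by
  have hX := algebraicIndependent_X_frac (k := k) (L := L) (n + 1)
  have hη := (hX.option_iff_transcendental _).mpr (transcendental_C_frac (n + 1) g1 h1)
  have hξ := (hη.option_iff_transcendental _).mpr (transcendental_xi_frac n a g1 h1 hrel)
  let f : Fin (n + 1) ⊕ Fin 2 → Option (Option (Fin (n + 1))) :=
    Sum.elim (fun i => some (some i)) ![none, some none]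
  have hf : Function.Injective f := by
    rintro (i | i) (j | j) h
    · simpa [f] using h
    · fin_cases j <;> simp [f] at h
    · fin_cases i <;> simp [f] at h
    · fin_cases i <;> fin_cases j <;> simp [f] at h ⊢
  have h := hξ.comp f hf
  convert h using 1
  ext (i | j)
  · rfl
  · fin_cases j <;> rfl

end Main


section Final

theorem exists_algebraicIndependent_of_codim_two {k A : Type u} [Field k] [CommRing A] [IsDomain A]
    [Algebra k A] [Algebra.FiniteType k A] (m : ℕ) (g : Fin (m + 2) → A)
    (p : Ideal A) (hp : p ∈ (Ideal.span {g 0, g 1}).minimalPrimes)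
    (hdim : ringKrullDim (A ⧸ p) + 2 = ringKrullDim A) :
    ∃ c : Fin (m + 2) → k,
      AlgebraicIndependent k
        (Sum.elim
          (fun i : Fin (m + 2) => algebraMap (MvPolynomial (Fin (m + 2)) (FractionRing A))
            (FractionRing (MvPolynomial (Fin (m + 2)) (FractionRing A))) (MvPolynomial.X i))
          ![∑ i, algebraMap A (FractionRing (MvPolynomial (Fin (m + 2)) (FractionRing A))) (g i) *
              algebraMap (MvPolynomial (Fin (m + 2)) (FractionRing A))
                (FractionRing (MvPolynomial (Fin (m + 2)) (FractionRing A))) (MvPolynomial.X i),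
            algebraMap A (FractionRing (MvPolynomial (Fin (m + 2)) (FractionRing A)))
              (∑ i, c i • g i)]) := by
  have hpprime : p.IsPrime := hp.1.1
  have hht := height_eq_two_of_dim k p hdim
  obtain ⟨htr, hrelA⟩ := not_relation_of_height_two (k := k) (g 0) (g 1) p hp hht
  have hιinj : Function.Injective (algebraMap A (FractionRing A)) :=
    IsFractionRing.injective A (FractionRing A)
  have h1 : Transcendental k (algebraMap A (FractionRing A) (g 1)) :=
    (transcendental_algebraMap_iff hιinj).mpr htr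
  have hrel : ∀ H : (k[X])[X], H ≠ 0 →
      eval₂ ((aeval (algebraMap A (FractionRing A) (g 1)) : k[X] →ₐ[k] FractionRing A) :
        k[X] →+* FractionRing A) (algebraMap A (FractionRing A) (g 0)) H ≠ 0 := by
    intro H hH0 hH
    apply hrelA H hH0
    apply hιinj
    rw [map_zero, hom_eval₂]
    have hcomp : (algebraMap A (FractionRing A)).comp
        ((aeval (g 1) : k[X] →ₐ[k] A) : k[X] →+* A)
        = ((aeval (algebraMap A (FractionRing A) (g 1)) : k[X] →ₐ[k] FractionRing A) :
          k[X] →+* FractionRing A) := by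
      ext r
      · simp [IsScalarTower.algebraMap_apply k A (FractionRing A)]
      · simp
    rw [hcomp]
    exact hH
  refine ⟨Pi.single 1 1, ?_⟩
  have key := algebraicIndependent_sumElim_frac (k := k) (L := FractionRing A) (m + 1)
    (fun i => algebraMap A (FractionRing A) (g i)) (algebraMap A (FractionRing A) (g 1)) h1 hrel
  have hE0 : ∀ a : A, algebraMap A (FractionRing (MvPolynomial (Fin (m + 2)) (FractionRing A))) a
      = algebraMap (MvPolynomial (Fin (m + 2)) (FractionRing A))
          (FractionRing (MvPolynomial (Fin (m + 2)) (FractionRing A)))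
          (MvPolynomial.C (algebraMap A (FractionRing A) a)) := by
    intro a
    rw [IsScalarTower.algebraMap_apply A (MvPolynomial (Fin (m + 2)) (FractionRing A))
      (FractionRing (MvPolynomial (Fin (m + 2)) (FractionRing A))), MvPolynomial.algebraMap_apply]
  have hsum : (∑ i, (Pi.single 1 1 : Fin (m + 2) → k) i • g i) = g 1 := by
    rw [Finset.sum_eq_single (1 : Fin (m + 2))]
    · rw [Pi.single_eq_same, one_smul]
    · intro b _ hb
      rw [Pi.single_eq_of_ne hb, zero_smul]
    · intro h
      exact absurd (Finset.mem_univ _) h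
  have hE1 : (∑ i, algebraMap A (FractionRing (MvPolynomial (Fin (m + 2)) (FractionRing A))) (g i) *
      algebraMap (MvPolynomial (Fin (m + 2)) (FractionRing A))
        (FractionRing (MvPolynomial (Fin (m + 2)) (FractionRing A))) (MvPolynomial.X i))
      = algebraMap (MvPolynomial (Fin (m + 2)) (FractionRing A))
        (FractionRing (MvPolynomial (Fin (m + 2)) (FractionRing A)))
        (∑ i, MvPolynomial.C (algebraMap A (FractionRing A) (g i)) * MvPolynomial.X i) := by
    rw [map_sum]
    refine Finset.sum_congr rfl fun i _ => ?_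
    rw [map_mul, hE0]
  rw [hsum, hE1, hE0]
  exact key

end Final

end Groth.Agent.Lib.Seat34.AlgIndep
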