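import Groth.Agent.Lib.Seat34StalkIdeal

/-!
# Multiplicity of an ideal sheaf along an integral effective Cartier divisor (seat 34)

For an integral effective Cartier divisor with ideal sheaf `E` and any ideal sheaf `Z`:

* `le_pow_of_stalkIdeal_le`: `Z ≤ E ^ n` can be tested at the stalk of a single point of the support
  of `E` (powers of `E` are primary and the support of `E` is irreducible).
* `exists_bound`: the `n` with `Z ≤ E ^ n` are bounded as soon as some stalk of `Z` at a point of the
  support of `E` is nonzero (Krull's intersection theorem).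
* `exists_eq_prod_pow`: an effective Cartier divisor whose support is contained in a finite union of
  integral effective Cartier divisors is a product of powers of them.
-/

set_option autoImplicit false
universe u
open CategoryTheory CategoryTheory.Limits AlgebraicGeometry TopologicalSpace

namespace Groth.Agent.Lib.Seat34.CartierMult

open Groth.Agent.Lib.Seat48.EffCartier Groth.Agent.Lib.Seat34.ExtendCartier
open Groth.Agent.Lib.Seat34.StalkIdeal Groth.Agent.Lib.Seat34.CartierDecompAlg

variable {X : Scheme.{u}}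

theorem isIrreducible_support (E : X.IdealSheafData) [IsIntegral E.subscheme] :
    IsIrreducible (E.support : Set X) := by
  rw [← Scheme.IdealSheafData.range_subschemeι, ← Set.image_univ]
  exact (IrreducibleSpace.isIrreducible_univ E.subscheme).image _
    E.subschemeι.continuous.continuousOn

/-- Test `Z ≤ E ^ n` on an affine open at the stalk of one point of the support of `E`. -/
theorem ideal_le_pow_of_stalkIdeal_le (E : X.IdealSheafData) [IsIntegral E.subscheme]
    (hE : BlowUp.IsEffCartierIdeal E) (Z : X.IdealSheafData) (n : ℕ) (V : X.affineOpens) (x : X)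
    (hxV : x ∈ V.1) (hx : x ∈ E.support) (h : stalkIdeal Z x ≤ stalkIdeal E x ^ n) :
    Z.ideal V ≤ E.ideal V ^ n := by
  have hV : IsAffineOpen V.1 := V.2
  have hP : (E.ideal V).IsPrime := ideal_isPrime_of_mem_support E V x hxV hx
  intro a ha
  let _ : Algebra Γ(X, V.1) (X.presheaf.stalk x) := X.presheaf.algebra_section_stalk ⟨x, hxV⟩
  have hloc : IsLocalization.AtPrime (X.presheaf.stalk x) (hV.primeIdealOf ⟨x, hxV⟩).asIdeal :=
    hV.isLocalization_stalk ⟨x, hxV⟩
  have h1 : algebraMap Γ(X, V.1) (X.presheaf.stalk x) a ∈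
      (E.ideal V ^ n).map (algebraMap Γ(X, V.1) (X.presheaf.stalk x)) := by
    rw [Ideal.map_pow]
    have h2 : stalkIdeal E x = (E.ideal V).map (algebraMap Γ(X, V.1) (X.presheaf.stalk x)) :=
      stalkIdeal_eq E V x hxV
    rw [← h2]
    apply h
    rw [stalkIdeal_eq Z V x hxV]
    exact Ideal.mem_map_of_mem _ ha
  obtain ⟨b, hbP, hab⟩ := exists_mul_mem_pow_of_map_mem (E.ideal V)
    (hV.primeIdealOf ⟨x, hxV⟩).asIdeal ((mem_support_iff_le_primeIdealOf E V x hxV).mp hx)
    (X.presheaf.stalk x) n a h1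
  rw [hV.mem_ideal_iff]
  intro y hyV
  let _ : Algebra Γ(X, V.1) (X.presheaf.stalk y) := X.presheaf.algebra_section_stalk ⟨y, hyV⟩
  have hlocy : IsLocalization.AtPrime (X.presheaf.stalk y) (hV.primeIdealOf ⟨y, hyV⟩).asIdeal :=
    hV.isLocalization_stalk ⟨y, hyV⟩
  obtain ⟨g, hg, hgE⟩ := EffAt.exists_stalk_generator (hE y) V hyV
  exact map_mem_map_pow_of_mul_mem (E.ideal V) (hV.primeIdealOf ⟨y, hyV⟩).asIdeal
    (X.presheaf.stalk y) g hg hgE n a b hab hbP

/-- `Z ≤ E ^ n` can be tested at the stalk of one point of the support of `E`. -/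
theorem le_pow_of_stalkIdeal_le (E : X.IdealSheafData) [IsIntegral E.subscheme]
    (hE : BlowUp.IsEffCartierIdeal E) (Z : X.IdealSheafData) (n : ℕ) (x : X)
    (hx : x ∈ E.support) (h : stalkIdeal Z x ≤ stalkIdeal E x ^ n) : Z ≤ E ^ n := by
  intro V'
  rw [Scheme.IdealSheafData.ideal_pow, Pi.pow_apply]
  rcases ideal_isPrime_or_eq_top E V' with hP | htop
  · obtain ⟨x', hx'V', hx'⟩ := exists_point_of_prime V' (E.ideal V')
    have hx'E : x' ∈ E.support := (mem_support_iff_le_primeIdealOf E V' x' hx'V').mpr hx'.ge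
    obtain ⟨V, hxV⟩ := exists_affine x
    obtain ⟨x'', hx''E, hx''V, hx''V'⟩ :=
      (isIrreducible_support E).2 V.1 V'.1 V.1.isOpen V'.1.isOpen ⟨x, hx, hxV⟩ ⟨x', hx'E, hx'V'⟩
    have hA := ideal_le_pow_of_stalkIdeal_le E hE Z n V x hxV hx h
    have hst : stalkIdeal Z x'' ≤ stalkIdeal E x'' ^ n := by
      rw [stalkIdeal_eq Z V x'' hx''V, stalkIdeal_eq E V x'' hx''V, ← Ideal.map_pow]
      exact Ideal.map_mono hA
    exact ideal_le_pow_of_stalkIdeal_le E hE Z n V' x'' hx''V' hx''E hst
  · rw [htop, Ideal.top_pow]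
    exact le_top

theorem stalkIdeal_le_pow_of_le (E Z : X.IdealSheafData) (n : ℕ) (x : X) (h : Z ≤ E ^ n) :
    stalkIdeal Z x ≤ stalkIdeal E x ^ n := by
  rw [← stalkIdeal_pow]
  exact stalkIdeal_mono h x

/-- The exponents `n` with `Z ≤ E ^ n` are bounded if a stalk of `Z` on the support of `E` is
nonzero. -/
theorem exists_bound [IsLocallyNoetherian X] (E Z : X.IdealSheafData) (x : X) (hx : x ∈ E.support)
    (hZ : stalkIdeal Z x ≠ ⊥) : ∃ B : ℕ, ∀ n, Z ≤ E ^ n → n ≤ B := by
  by_contra hcon
  push Not at hcon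
  apply hZ
  have hne : stalkIdeal E x ≠ ⊤ := (mem_support_iff_stalkIdeal_ne_top E x).mp hx
  rw [eq_bot_iff, ← Ideal.iInf_pow_eq_bot_of_isLocalRing (stalkIdeal E x) hne]
  refine le_iInf fun n => ?_
  obtain ⟨m, hm, hnm⟩ := hcon n
  exact (stalkIdeal_le_pow_of_le E Z m x hm).trans (Ideal.pow_le_pow_right hnm.le)

/-- Maximal exponent. -/
theorem exists_max_exponent [IsLocallyNoetherian X] (E Z : X.IdealSheafData) (x : X)
    (hx : x ∈ E.support) (hZ : stalkIdeal Z x ≠ ⊥) :
    ∃ m : ℕ, Z ≤ E ^ m ∧ ¬ Z ≤ E ^ (m + 1) := by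
  classical
  obtain ⟨B, hB⟩ := exists_bound E Z x hx hZ
  have h0 : Z ≤ E ^ 0 := by
    rw [pow_zero]
    exact le_top
  refine ⟨Nat.findGreatest (fun n => Z ≤ E ^ n) B,
    Nat.findGreatest_spec (P := fun n => Z ≤ E ^ n) (Nat.zero_le B) h0, ?_⟩
  intro h
  have h1 := hB _ h
  have h2 := Nat.le_findGreatest (P := fun n => Z ≤ E ^ n) h1 h
  omega

/-- The stalks of an effective Cartier ideal sheaf are nonzero. -/
theorem stalkIdeal_ne_bot {D : X.IdealSheafData} (hD : BlowUp.IsEffCartierIdeal D) (x : X) :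
    stalkIdeal D x ≠ ⊥ := by
  obtain ⟨f, hf, hfD⟩ := exists_stalkIdeal_eq_span hD x
  rw [hfD]
  intro h
  rw [Ideal.span_singleton_eq_bot] at h
  subst h
  exact zero_notMem_nonZeroDivisors hf

theorem exists_mem_support (E : X.IdealSheafData) [IsIntegral E.subscheme] :
    ∃ x, x ∈ E.support := by
  obtain ⟨z⟩ : Nonempty E.subscheme := inferInstance
  refine ⟨E.subschemeι z, ?_⟩
  rw [← SetLike.mem_coe, ← Scheme.IdealSheafData.range_subschemeι]
  exact ⟨z, rfl⟩

/-- Two integral effective Cartier divisors with the same stalk at a common point are equal. -/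
theorem eq_of_stalkIdeal_eq (E E' : X.IdealSheafData) [IsIntegral E.subscheme]
    [IsIntegral E'.subscheme] (hE : BlowUp.IsEffCartierIdeal E) (hE' : BlowUp.IsEffCartierIdeal E')
    (x : X) (hx : x ∈ E.support) (hx' : x ∈ E'.support) (h : stalkIdeal E x = stalkIdeal E' x) :
    E = E' := by
  apply le_antisymm
  · have := le_pow_of_stalkIdeal_le E' hE' E 1 x hx' (by rw [pow_one, h])
    rwa [pow_one] at this
  · have := le_pow_of_stalkIdeal_le E hE E' 1 x hx (by rw [pow_one, h])
    rwa [pow_one] at this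

/-- An effective Cartier divisor whose support is contained in a finite union of integral effective
Cartier divisors is a product of powers of these. -/
theorem exists_eq_prod_pow [IsLocallyNoetherian X] (D : X.IdealSheafData)
    (hD : BlowUp.IsEffCartierIdeal D) (r : ℕ) (Ds : Fin r → X.IdealSheafData)
    (hDs : ∀ i, BlowUp.IsEffCartierIdeal (Ds i)) (hint : ∀ i, IsIntegral (Ds i).subscheme)
    (hsub : (D.support : Set X) ⊆ ⋃ i, ((Ds i).support : Set X)) :
    ∃ a : Fin r → ℕ, D = ∏ i, Ds i ^ a i := by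
  classical
  have hne : ∀ i, ∃ x, x ∈ (Ds i).support := fun i => by
    have := hint i
    exact exists_mem_support (Ds i)
  choose pt hpt using hne
  have hmax : ∀ i, ∃ m : ℕ, D ≤ Ds i ^ m ∧ ¬ D ≤ Ds i ^ (m + 1) := fun i =>
    exists_max_exponent (Ds i) D (pt i) (hpt i) (stalkIdeal_ne_bot hD _)
  choose m hm1 hm2 using hmax
  let rep : Fin r → Prop := fun i => ∀ j, j < i → Ds j ≠ Ds i
  have hrep : ∀ j, ∃ i, Ds i = Ds j ∧ rep i := by
    intro j
    have hex : ∃ i, Ds i = Ds j := ⟨j, rfl⟩
    obtain ⟨i, hi, hmin⟩ := WellFounded.has_min (wellFounded_lt (α := Fin r))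
      {i | Ds i = Ds j} hex
    refine ⟨i, hi, fun j' hj' heq => hmin j' (heq.trans hi) hj'⟩
  refine ⟨fun i => if rep i then m i else 0, ext_stalkIdeal fun x => ?_⟩
  rw [stalkIdeal_prod]
  simp_rw [stalkIdeal_pow]
  obtain ⟨f, hf, hfD⟩ := exists_stalkIdeal_eq_span hD x
  have hg : ∀ i, ∃ g : X.presheaf.stalk x, g ∈ nonZeroDivisors (X.presheaf.stalk x) ∧
      stalkIdeal (Ds i) x = Ideal.span {g} := fun i => exists_stalkIdeal_eq_span (hDs i) x
  choose g hgn hgE using hg
  let T : Finset (Fin r) := Finset.univ.filter (fun i => rep i ∧ x ∈ (Ds i).support)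
  have hT : ∀ i, i ∈ T ↔ rep i ∧ x ∈ (Ds i).support := fun i => by
    simp only [T, Finset.mem_filter, Finset.mem_univ, true_and]
  have key : Ideal.span {f} = Ideal.span {∏ i ∈ T, g i ^ (if rep i then m i else 0)} := by
    apply span_eq_span_prod_pow f g _ T
    · intro i _
      exact hgn i
    · intro i hi
      have := hint i
      rw [← hgE i]
      exact stalkIdeal_isPrime (Ds i) x ((hT i).mp hi).2
    · intro i hi j hj hij heq
      have := hint i
      have := hint j
      have hEq : Ds i = Ds j := eq_of_stalkIdeal_eq (Ds i) (Ds j) (hDs i) (hDs j) x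
        ((hT i).mp hi).2 ((hT j).mp hj).2 (by rw [hgE i, hgE j, heq])
      rcases lt_or_gt_of_ne hij with hlt | hlt
      · exact ((hT j).mp hj).1 i hlt hEq
      · exact ((hT i).mp hi).1 j hlt hEq.symm
    · intro i hi
      rw [if_pos ((hT i).mp hi).1]
      have h1 := stalkIdeal_le_pow_of_le (Ds i) D (m i) x (hm1 i)
      rw [hfD, hgE i, Ideal.span_singleton_pow, Ideal.span_singleton_le_iff_mem] at h1
      exact h1
    · intro i hi hmem
      rw [if_pos ((hT i).mp hi).1] at hmem
      have := hint i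
      apply hm2 i
      apply le_pow_of_stalkIdeal_le (Ds i) (hDs i) D (m i + 1) x ((hT i).mp hi).2
      rw [hfD, hgE i, Ideal.span_singleton_pow, Ideal.span_singleton_le_iff_mem]
      exact hmem
    · intro Q hQ hfQ
      obtain ⟨y, -, hy⟩ := exists_point_of_prime_stalk x Q
      have hyD : y ∈ D.support := by
        rw [← hy D, hfD, Ideal.span_singleton_le_iff_mem]
        exact hfQ
      obtain ⟨j, hj⟩ := Set.mem_iUnion.mp (hsub hyD)
      obtain ⟨i, hij, hi⟩ := hrep j
      have hyi : y ∈ (Ds i).support := by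
        rw [hij]
        exact hj
      have hle : stalkIdeal (Ds i) x ≤ Q := (hy (Ds i)).mpr hyi
      refine ⟨i, (hT i).mpr ⟨hi, ?_⟩, ?_⟩
      · rw [mem_support_iff_stalkIdeal_ne_top]
        intro htop
        rw [htop] at hle
        exact hQ.ne_top (top_le_iff.mp hle)
      · rw [hgE i, Ideal.span_singleton_le_iff_mem] at hle
        exact hle
  rw [hfD, key, ← Ideal.prod_span_singleton]
  rw [← Finset.prod_subset (Finset.subset_univ T)]
  · refine Finset.prod_congr rfl fun i _ => ?_
    rw [hgE i, Ideal.span_singleton_pow]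
  · intro i _ hiT
    rw [hT i, not_and_or] at hiT
    rcases hiT with h | h
    · rw [if_neg h, pow_zero]
    · rw [mem_support_iff_stalkIdeal_ne_top, not_not] at h
      rw [h, Ideal.top_pow, Ideal.one_eq_top]

end Groth.Agent.Lib.Seat34.CartierMult
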