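import Groth.Agent.Lib.Seat34PointDim
import Groth.Agent.Lib.Seat34CartierMult

/-!
# Closed subschemes covered by integral effective Cartier divisors up to codimension two (seat 34)

`Setup X` bundles: an ideal sheaf `Z`, a family `D i` of integral effective Cartier ideal sheaves and
a closed set `Z'` all of whose maximal points have local rings of dimension at least two, such that
the support of `Z` is contained in `Z' ∪ ⋃ i, supp (D i)`.
-/

set_option autoImplicit false
universe u
open CategoryTheory CategoryTheory.Limits AlgebraicGeometry TopologicalSpace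

namespace Groth.Agent.Lib.Seat34.CartierCodim

open Groth.Agent.Lib.Seat48.EffCartier Groth.Agent.Lib.Seat34.ExtendCartier
open Groth.Agent.Lib.Seat34.StalkIdeal Groth.Agent.Lib.Seat34.CartierDecompAlg
open Groth.Agent.Lib.Seat34.PointDim Groth.Agent.Lib.Seat34.CartierMult

variable {X : Scheme.{u}}

theorem pow_le_pow_of_le (E : X.IdealSheafData) {m n : ℕ} (h : n ≤ m) : E ^ m ≤ E ^ n := by
  rw [le_iff_forall_stalkIdeal_le]
  intro x
  rw [stalkIdeal_pow, stalkIdeal_pow]
  exact Ideal.pow_le_pow_right h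

/-- Rewriting a product of powers of principal stalk ideals. -/
theorem prod_stalkIdeal_pow_eq (F : Finset X.IdealSheafData) (n : X.IdealSheafData → ℕ) (x : X)
    (g : X.IdealSheafData → X.presheaf.stalk x)
    (hg : ∀ E ∈ F, stalkIdeal E x = Ideal.span {g E})
    [DecidablePred fun E : X.IdealSheafData => x ∈ E.support] :
    ∏ E ∈ F, stalkIdeal E x ^ n E =
      Ideal.span {∏ E ∈ F.filter (fun E : X.IdealSheafData => x ∈ E.support), g E ^ n E} := by
  rw [← Ideal.prod_span_singleton, ← Finset.prod_subset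
    (Finset.filter_subset (fun E : X.IdealSheafData => x ∈ E.support) F)]
  · refine Finset.prod_congr rfl fun E hE => ?_
    rw [hg E (Finset.mem_of_mem_filter E hE), Ideal.span_singleton_pow]
  · intro E hE hET
    have hx : x ∉ E.support := fun hx => hET (Finset.mem_filter.mpr ⟨hE, hx⟩)
    rw [mem_support_iff_stalkIdeal_ne_top, not_not] at hx
    rw [hx, Ideal.top_pow, Ideal.one_eq_top]

/-- For an integral effective Cartier divisor through a point whose local ring has dimension at most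
one, the stalk ideal is the maximal ideal. -/
theorem stalkIdeal_eq_maximalIdeal [IsLocallyNoetherian X] (E : X.IdealSheafData)
    [IsIntegral E.subscheme] (hE : BlowUp.IsEffCartierIdeal E) (z : X) (hz : z ∈ E.support)
    (hdim : (IsLocalRing.maximalIdeal (X.presheaf.stalk z)).height ≤ 1) :
    stalkIdeal E z = IsLocalRing.maximalIdeal (X.presheaf.stalk z) := by
  obtain ⟨g, hg, hgE⟩ := exists_stalkIdeal_eq_span hE z
  have hprime : (stalkIdeal E z).IsPrime := stalkIdeal_isPrime E z hz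
  have hle : stalkIdeal E z ≤ IsLocalRing.maximalIdeal (X.presheaf.stalk z) :=
    IsLocalRing.le_maximalIdeal hprime.ne_top
  by_contra hne
  have hlt : stalkIdeal E z < IsLocalRing.maximalIdeal (X.presheaf.stalk z) :=
    lt_of_le_of_ne hle hne
  have h1 := Ideal.height_strict_mono_of_isPrime hlt
  have h2 : (1 : ℕ∞) ≤ (stalkIdeal E z).height := by
    rw [hgE]
    exact Ideal.one_le_height_span_singleton_of_mem_nonZeroDivisors hg
  exact absurd (lt_of_lt_of_le h1 hdim) (not_lt.mpr h2)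

/-- Two ideal sheaves `A ≤ B` with the same stalk at `z` agree on an affine open neighbourhood. -/
theorem exists_affine_ideal_eq [IsLocallyNoetherian X] (A B : X.IdealSheafData) (hAB : A ≤ B)
    (z : X) (h : stalkIdeal A z = stalkIdeal B z) :
    ∃ V : X.affineOpens, z ∈ V.1 ∧ A.ideal V = B.ideal V := by
  obtain ⟨V₀, hzV₀⟩ := exists_affine z
  have hV₀ : IsAffineOpen V₀.1 := V₀.2
  have hN : IsNoetherianRing Γ(X, V₀.1) := IsLocallyNoetherian.component_noetherian V₀
  let _ : Algebra Γ(X, V₀.1) (X.presheaf.stalk z) := X.presheaf.algebra_section_stalk ⟨z, hzV₀⟩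
  have hloc : IsLocalization.AtPrime (X.presheaf.stalk z) (hV₀.primeIdealOf ⟨z, hzV₀⟩).asIdeal :=
    hV₀.isLocalization_stalk ⟨z, hzV₀⟩
  have h1 : ∀ j ∈ B.ideal V₀, ∃ s, s ∉ (hV₀.primeIdealOf ⟨z, hzV₀⟩).asIdeal ∧
      s * j ∈ A.ideal V₀ := by
    intro j hj
    have hj' : algebraMap Γ(X, V₀.1) (X.presheaf.stalk z) j ∈
        (A.ideal V₀).map (algebraMap Γ(X, V₀.1) (X.presheaf.stalk z)) := by
      have e1 : stalkIdeal A z = (A.ideal V₀).map (algebraMap Γ(X, V₀.1) (X.presheaf.stalk z)) :=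
        stalkIdeal_eq A V₀ z hzV₀
      have e2 : stalkIdeal B z = (B.ideal V₀).map (algebraMap Γ(X, V₀.1) (X.presheaf.stalk z)) :=
        stalkIdeal_eq B V₀ z hzV₀
      rw [← e1, h, e2]
      exact Ideal.mem_map_of_mem _ hj
    obtain ⟨⟨⟨i, hi⟩, ⟨u, hu⟩⟩, hiu⟩ := (IsLocalization.mem_map_algebraMap_iff
      (hV₀.primeIdealOf ⟨z, hzV₀⟩).asIdeal.primeCompl (X.presheaf.stalk z)).mp hj'
    simp only at hiu
    rw [← map_mul] at hiu
    obtain ⟨⟨v, hv⟩, hv2⟩ := (IsLocalization.eq_iff_exists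
      (hV₀.primeIdealOf ⟨z, hzV₀⟩).asIdeal.primeCompl (X.presheaf.stalk z)).mp hiu
    simp only at hv2
    refine ⟨v * u, fun hmem => ?_, ?_⟩
    · rcases Ideal.IsPrime.mem_or_mem inferInstance hmem with h | h
      · exact hv h
      · exact hu h
    · have : v * u * j = v * i := by
        rw [← hv2]
        ring
      rw [this]
      exact Ideal.mul_mem_left _ _ hi
  obtain ⟨s, hs, hsB⟩ := Groth.Agent.Lib.Seat34.ExtendCartierAlg.exists_notMem_forall_mul_mem
    (B.ideal V₀) (IsNoetherian.noetherian _) (A.ideal V₀) _ h1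
  refine ⟨X.affineBasicOpen s, (mem_basicOpen_iff_notMem_primeIdealOf hV₀ z hzV₀ s).mpr hs, ?_⟩
  have hloc2 := hV₀.isLocalization_basicOpen s
  rw [← A.map_ideal_basicOpen V₀ s, ← B.map_ideal_basicOpen V₀ s]
  apply le_antisymm (Ideal.map_mono (hAB V₀))
  rw [Ideal.map_le_iff_le_comap]
  intro j hj
  rw [Ideal.mem_comap]
  have hsu : IsUnit (algebraMap Γ(X, V₀.1) Γ(X, X.basicOpen s) s) :=
    IsLocalization.Away.algebraMap_isUnit s
  have h2 : algebraMap Γ(X, V₀.1) Γ(X, X.basicOpen s) (s * j) ∈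
      (A.ideal V₀).map (algebraMap Γ(X, V₀.1) Γ(X, X.basicOpen s)) :=
    Ideal.mem_map_of_mem _ (hsB j hj)
  rw [map_mul] at h2
  exact (Ideal.unit_mul_mem_iff_mem _ hsu).mp h2

/-- The data of the decomposition problem. -/
structure Setup (X : Scheme.{u}) where
  Z : X.IdealSheafData
  I : Type u
  D : I → X.IdealSheafData
  hD : ∀ i, BlowUp.IsEffCartierIdeal (D i)
  hDint : ∀ i, IsIntegral (D i).subscheme
  Z' : Set X
  hZ' : IsClosed Z'
  hcodim : ∀ z ∈ Z', (∀ y ∈ Z', y ⤳ z → y = z) →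
    (2 : WithBot ℕ∞) ≤ ringKrullDim (X.presheaf.stalk z)
  hcover : (Z.support : Set X) ⊆ Z' ∪ ⋃ i, ((D i).support : Set X)

namespace Setup

variable (S : Setup X)

theorem two_le_of_mem (z : X) (hz : z ∈ S.Z') :
    (2 : WithBot ℕ∞) ≤ ringKrullDim (X.presheaf.stalk z) := by
  obtain ⟨z', hz'Z, hz'z, hmax⟩ := exists_maximal_point_specializing S.Z' S.hZ' z hz
  exact (S.hcodim z' hz'Z hmax).trans (ringKrullDim_stalk_le_of_specializes hz'z)

theorem one_le_dim [IsLocallyNoetherian X] (x : X) (hx : x ∈ S.Z.support) :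
    (1 : WithBot ℕ∞) ≤ ringKrullDim (X.presheaf.stalk x) := by
  rcases S.hcover hx with h | h
  · refine le_trans ?_ (S.two_le_of_mem x h)
    norm_num
  · obtain ⟨i, hi⟩ := Set.mem_iUnion.mp h
    obtain ⟨g, hg, hgE⟩ := exists_stalkIdeal_eq_span (S.hD i) x
    have hne : stalkIdeal (S.D i) x ≠ ⊤ := (mem_support_iff_stalkIdeal_ne_top (S.D i) x).mp hi
    have hle : Ideal.span {g} ≤ IsLocalRing.maximalIdeal (X.presheaf.stalk x) := by
      rw [← hgE]
      exact IsLocalRing.le_maximalIdeal hne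
    have h1 : (1 : ℕ∞) ≤ (IsLocalRing.maximalIdeal (X.presheaf.stalk x)).height :=
      (Ideal.one_le_height_span_singleton_of_mem_nonZeroDivisors hg).trans (Ideal.height_mono hle)
    rw [← IsLocalRing.maximalIdeal_height_eq_ringKrullDim]
    exact_mod_cast h1

theorem one_le_height [IsLocallyNoetherian X] (x : X) (Q : Ideal (X.presheaf.stalk x)) [Q.IsPrime]
    (h : stalkIdeal S.Z x ≤ Q) : 1 ≤ Q.height := by
  obtain ⟨y, -, hy, hdim⟩ := exists_point_of_prime_stalk' x Q
  have h1 := S.one_le_dim y ((hy S.Z).mp h)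
  rw [hdim] at h1
  exact_mod_cast h1

theorem stalkIdeal_ne_bot [IsLocallyNoetherian X] (x : X) : stalkIdeal S.Z x ≠ ⊥ := by
  intro h
  obtain ⟨Q, hQ⟩ := Ideal.nonempty_minimalPrimes
    (bot_ne_top : (⊥ : Ideal (X.presheaf.stalk x)) ≠ ⊤)
  have hQp : Q.IsPrime := hQ.1.1
  have h1 := S.one_le_height x Q (h ▸ bot_le)
  have h2 : Q.height = 0 := Ideal.height_eq_zero_iff.mpr hQ
  rw [h2] at h1
  exact absurd h1 (by norm_num)

/-- The members of the family whose ideal contains `Z`. -/
def members : Set X.IdealSheafData := {E | (∃ i, S.D i = E) ∧ S.Z ≤ E}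

theorem members_effCartier {E : X.IdealSheafData} (hE : E ∈ S.members) :
    BlowUp.IsEffCartierIdeal E := by
  obtain ⟨⟨i, rfl⟩, -⟩ := hE
  exact S.hD i

theorem members_integral {E : X.IdealSheafData} (hE : E ∈ S.members) :
    IsIntegral E.subscheme := by
  obtain ⟨⟨i, rfl⟩, -⟩ := hE
  exact S.hDint i

theorem ideal_mem_minimalPrimes [IsLocallyNoetherian X] {E : X.IdealSheafData}
    (hE : E ∈ S.members) (V : X.affineOpens) (hP : (E.ideal V).IsPrime) :
    E.ideal V ∈ (S.Z.ideal V).minimalPrimes := by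
  have hEC := S.members_effCartier hE
  have hV : IsAffineOpen V.1 := V.2
  have hN : IsNoetherianRing Γ(X, V.1) := IsLocallyNoetherian.component_noetherian V
  refine ⟨⟨hP, hE.2 V⟩, ?_⟩
  rintro Q' ⟨hQ'p, hZQ'⟩ hQ'P
  by_contra hnot
  have hlt : Q' < E.ideal V := lt_of_le_of_ne hQ'P (fun h => hnot h.ge)
  obtain ⟨ξ, hξV, hξ⟩ := exists_point_of_prime V (E.ideal V)
  have hP1 : (E.ideal V).height ≤ 1 := by
    obtain ⟨g, hg, hgE⟩ := exists_stalkIdeal_eq_span hEC ξ
    let _ : Algebra Γ(X, V.1) (X.presheaf.stalk ξ) := X.presheaf.algebra_section_stalk ⟨ξ, hξV⟩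
    have hloc : IsLocalization.AtPrime (X.presheaf.stalk ξ) (hV.primeIdealOf ⟨ξ, hξV⟩).asIdeal :=
      hV.isLocalization_stalk ⟨ξ, hξV⟩
    have hmax : stalkIdeal E ξ = IsLocalRing.maximalIdeal (X.presheaf.stalk ξ) := by
      rw [stalkIdeal_eq _ V ξ hξV, ← hξ]
      exact IsLocalization.AtPrime.map_eq_maximalIdeal (hV.primeIdealOf ⟨ξ, hξV⟩).asIdeal
        (X.presheaf.stalk ξ)
    have hm1 : (IsLocalRing.maximalIdeal (X.presheaf.stalk ξ)).height ≤ 1 := by
      apply Ideal.height_le_one_of_isPrincipal_of_mem_minimalPrimes (Ideal.span {g})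
      rw [← hgE, hmax, Ideal.minimalPrimes_eq_subsingleton_self]
      exact Set.mem_singleton _
    have h1 := ringKrullDim_stalk_eq_height V ξ hξV
    rw [← IsLocalRing.maximalIdeal_height_eq_ringKrullDim, hξ] at h1
    rw [← WithBot.coe_eq_coe.mp h1]
    exact hm1
  have hQ'0 : Q'.height = 0 := by
    have h2 := Ideal.height_strict_mono_of_isPrime hlt
    exact Order.lt_one_iff.mp (lt_of_lt_of_le h2 hP1)
  obtain ⟨y, hyV, hy⟩ := exists_point_of_prime V Q'
  have hyZ : y ∈ S.Z.support := (mem_support_iff_le_primeIdealOf _ V y hyV).mpr (hy ▸ hZQ')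
  have h1 := S.one_le_dim y hyZ
  rw [ringKrullDim_stalk_eq_height V y hyV, hy, hQ'0] at h1
  exact absurd h1 (by norm_num)

theorem members_finite [IsNoetherian X] : S.members.Finite := by
  classical
  obtain ⟨t, ht⟩ := isCompact_univ.elim_finite_subcover
    (fun V : X.affineOpens => (V.1 : Set X)) (fun V => V.1.isOpen)
    (fun x _ => by
      obtain ⟨V, hxV⟩ := exists_affine x
      exact Set.mem_iUnion.mpr ⟨V, hxV⟩)
  apply Set.Finite.of_finite_image
    (f := fun (E : X.IdealSheafData) (V : t) => E.ideal V.1)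
  · apply Set.Finite.subset (Set.Finite.pi
      (t := fun V : t => insert ⊤ (S.Z.ideal V.1).minimalPrimes) (fun V => ?_))
    · rintro _ ⟨E, hE, rfl⟩ V _
      have := S.members_integral hE
      rcases ideal_isPrime_or_eq_top E V.1 with h | h
      · exact Set.mem_insert_of_mem _ (S.ideal_mem_minimalPrimes hE V.1 h)
      · simp only [h]
        exact Set.mem_insert _ _
    · have : IsNoetherianRing Γ(X, V.1.1) := IsLocallyNoetherian.component_noetherian V.1
      exact (Ideal.finite_minimalPrimes_of_isNoetherianRing _ _).insert _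
  · intro E _ E' _ h
    apply ext_stalkIdeal
    intro x
    obtain ⟨V, hVt, hxV⟩ : ∃ V ∈ t, x ∈ V.1 := by
      simpa using ht (Set.mem_univ x)
    rw [stalkIdeal_eq E V x hxV, stalkIdeal_eq E' V x hxV]
    have h1 : E.ideal V = E'.ideal V := congrFun h ⟨V, hVt⟩
    rw [h1]

theorem exists_exponent [IsLocallyNoetherian X] {E : X.IdealSheafData} (hE : E ∈ S.members) :
    ∃ m : ℕ, S.Z ≤ E ^ m ∧ ¬ S.Z ≤ E ^ (m + 1) := by
  have := S.members_integral hE
  obtain ⟨x, hx⟩ := exists_mem_support E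
  exact exists_max_exponent E S.Z x hx (S.stalkIdeal_ne_bot x)

/-- `Z` is contained in the product of the powers of the members. -/
theorem le_prod [IsLocallyNoetherian X] (F : Finset X.IdealSheafData)
    (hF : ∀ E ∈ F, E ∈ S.members) (n : X.IdealSheafData → ℕ)
    (hn : ∀ E ∈ F, S.Z ≤ E ^ n E) : S.Z ≤ ∏ E ∈ F, E ^ n E := by
  classical
  rw [le_iff_forall_stalkIdeal_le]
  intro x c hc
  rw [stalkIdeal_prod]
  simp_rw [stalkIdeal_pow]
  have hg : ∀ E : X.IdealSheafData, ∃ g : X.presheaf.stalk x, E ∈ S.members →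
      (g ∈ nonZeroDivisors (X.presheaf.stalk x) ∧ stalkIdeal E x = Ideal.span {g}) := by
    intro E
    by_cases hE : E ∈ S.members
    · obtain ⟨g, hg1, hg2⟩ := exists_stalkIdeal_eq_span (S.members_effCartier hE) x
      exact ⟨g, fun _ => ⟨hg1, hg2⟩⟩
    · exact ⟨1, fun h => absurd h hE⟩
  choose g hg using hg
  rw [prod_stalkIdeal_pow_eq F n x g (fun E hE => (hg E (hF E hE)).2)]
  apply mem_span_prod_pow g n c
  · intro E hE
    exact (hg E (hF E (Finset.mem_of_mem_filter E hE))).1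
  · intro E hE
    have hEm := hF E (Finset.mem_of_mem_filter E hE)
    have := S.members_integral hEm
    rw [← (hg E hEm).2]
    exact stalkIdeal_isPrime E x (Finset.mem_filter.mp hE).2
  · intro E hE E' hE' hne heq
    have hEm := hF E (Finset.mem_of_mem_filter E hE)
    have hEm' := hF E' (Finset.mem_of_mem_filter E' hE')
    have := S.members_integral hEm
    have := S.members_integral hEm'
    apply hne
    apply eq_of_stalkIdeal_eq E E' (S.members_effCartier hEm) (S.members_effCartier hEm') x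
      (Finset.mem_filter.mp hE).2 (Finset.mem_filter.mp hE').2
    rw [(hg E hEm).2, (hg E' hEm').2, heq]
  · intro E hE
    have hEF := Finset.mem_of_mem_filter E hE
    have h1 := stalkIdeal_le_pow_of_le E S.Z (n E) x (hn E hEF)
    rw [(hg E (hF E hEF)).2, Ideal.span_singleton_pow] at h1
    exact h1 hc

/-- At a point of the support of `Z` whose local ring has dimension at most one, `Z` and the product
of the powers of the members (with maximal exponents) have the same stalk. -/
theorem stalkIdeal_eq_of_height_le_one [IsLocallyNoetherian X] (F : Finset X.IdealSheafData)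
    (hF : ∀ E, E ∈ F ↔ E ∈ S.members) (n : X.IdealSheafData → ℕ)
    (hn : ∀ E ∈ F, S.Z ≤ E ^ n E ∧ ¬ S.Z ≤ E ^ (n E + 1)) (z : X) (hz : z ∈ S.Z.support)
    (hdim : (IsLocalRing.maximalIdeal (X.presheaf.stalk z)).height ≤ 1) :
    stalkIdeal S.Z z = stalkIdeal (∏ E ∈ F, E ^ n E) z := by
  classical
  -- `z` is not in `Z'`
  have hzZ' : z ∉ S.Z' := by
    intro h
    have h2 := S.two_le_of_mem z h
    rw [← IsLocalRing.maximalIdeal_height_eq_ringKrullDim] at h2
    have h3 : (2 : ℕ∞) ≤ (IsLocalRing.maximalIdeal (X.presheaf.stalk z)).height := by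
      have : ((2 : ℕ∞) : WithBot ℕ∞) ≤
          ((IsLocalRing.maximalIdeal (X.presheaf.stalk z)).height : WithBot ℕ∞) := by
        simpa using h2
      exact WithBot.coe_le_coe.mp this
    exact absurd (h3.trans hdim) (by norm_num)
  obtain ⟨i, hi⟩ : ∃ i, z ∈ (S.D i).support := by
    rcases S.hcover hz with h | h
    · exact absurd h hzZ'
    · exact Set.mem_iUnion.mp h
  have hint := S.hDint i
  have hEm : stalkIdeal (S.D i) z = IsLocalRing.maximalIdeal (X.presheaf.stalk z) :=
    stalkIdeal_eq_maximalIdeal (S.D i) (S.hD i) z hi hdim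
  obtain ⟨g, hg, hgE⟩ := exists_stalkIdeal_eq_span (S.hD i) z
  obtain ⟨k, hk1, hk2⟩ := exists_max_exponent (S.D i) S.Z z hi (S.stalkIdeal_ne_bot z)
  -- the stalk of `Z` is `(g ^ k)`
  have hJle : stalkIdeal S.Z z ≤ Ideal.span {g ^ k} := by
    have := stalkIdeal_le_pow_of_le (S.D i) S.Z k z hk1
    rwa [hgE, Ideal.span_singleton_pow] at this
  have hJnot : ¬ stalkIdeal S.Z z ≤ Ideal.span {g ^ (k + 1)} := by
    intro h
    apply hk2
    apply le_pow_of_stalkIdeal_le (S.D i) (S.hD i) S.Z (k + 1) z hi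
    rwa [hgE, Ideal.span_singleton_pow]
  obtain ⟨c, hcJ, hcnot⟩ := SetLike.not_le_iff_exists.mp hJnot
  obtain ⟨u, hu⟩ := Ideal.mem_span_singleton.mp (hJle hcJ)
  have hunit : IsUnit u := by
    by_contra hnu
    have hum : u ∈ IsLocalRing.maximalIdeal (X.presheaf.stalk z) :=
      (IsLocalRing.mem_maximalIdeal u).mpr hnu
    rw [← hEm, hgE] at hum
    obtain ⟨v, hv⟩ := Ideal.mem_span_singleton.mp hum
    apply hcnot
    rw [Ideal.mem_span_singleton]
    exact ⟨v, by rw [hu, hv]; ring⟩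
  have hJ : stalkIdeal S.Z z = Ideal.span {g ^ k} := by
    apply le_antisymm hJle
    rw [Ideal.span_singleton_le_iff_mem]
    obtain ⟨u', rfl⟩ := hunit
    have : g ^ k = c * ↑u'⁻¹ := by
      rw [hu, mul_assoc, Units.mul_inv, mul_one]
    rw [this]
    exact Ideal.mul_mem_right _ _ hcJ
  have hk0 : k ≠ 0 := by
    rintro rfl
    rw [pow_zero, Ideal.span_singleton_one] at hJ
    exact (mem_support_iff_stalkIdeal_ne_top S.Z z).mp hz hJ
  have hmem : S.D i ∈ S.members := by
    refine ⟨⟨i, rfl⟩, hk1.trans ?_⟩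
    have := pow_le_pow_of_le (S.D i) (Nat.one_le_iff_ne_zero.mpr hk0)
    rwa [pow_one] at this
  have hiF : S.D i ∈ F := (hF _).mpr hmem
  have hnk : n (S.D i) = k := by
    obtain ⟨h1, h2⟩ := hn _ hiF
    rcases lt_trichotomy (n (S.D i)) k with hlt | heq | hgt
    · exact absurd (hk1.trans (pow_le_pow_of_le (S.D i) hlt)) h2
    · exact heq
    · exact absurd (h1.trans (pow_le_pow_of_le (S.D i) hgt)) hk2
  rw [stalkIdeal_prod, Finset.prod_eq_single_of_mem (S.D i) hiF, stalkIdeal_pow, hnk, hgE,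
    Ideal.span_singleton_pow, hJ]
  intro E' hE'F hne
  have hE'm := (hF E').mp hE'F
  have := S.members_integral hE'm
  rw [stalkIdeal_pow]
  have hz' : z ∉ E'.support := by
    intro hzE'
    apply hne
    apply eq_of_stalkIdeal_eq E' (S.D i) (S.members_effCartier hE'm) (S.hD i) z hzE' hi
    rw [hEm]
    exact stalkIdeal_eq_maximalIdeal E' (S.members_effCartier hE'm) z hzE' hdim
  rw [mem_support_iff_stalkIdeal_ne_top, not_not] at hz'
  rw [hz', Ideal.top_pow, Ideal.one_eq_top]

theorem main [IsNoetherian X] :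
    ∃ a : S.I →₀ ℕ, S.Z ≤ a.prod (fun i n => S.D i ^ n) ∧
      ∃ U : X.Opens, (a.prod (fun i n => S.D i ^ n)).comap U.ι = S.Z.comap U.ι ∧
        ∀ z ∈ (S.Z.support : Set X) \ (U : Set X),
          (∀ y ∈ (S.Z.support : Set X) \ (U : Set X), y ⤳ z → y = z) →
          (2 : WithBot ℕ∞) ≤ ringKrullDim (X.presheaf.stalk z) := by
  classical
  have hfin := S.members_finite
  have hF : ∀ E, E ∈ hfin.toFinset ↔ E ∈ S.members := fun E => hfin.mem_toFinset
  have hex : ∀ E : X.IdealSheafData, ∃ m : ℕ, E ∈ S.members →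
      (S.Z ≤ E ^ m ∧ ¬ S.Z ≤ E ^ (m + 1)) := by
    intro E
    by_cases hE : E ∈ S.members
    · obtain ⟨m, hm⟩ := S.exists_exponent hE
      exact ⟨m, fun _ => hm⟩
    · exact ⟨0, fun h => absurd h hE⟩
  choose n hn using hex
  have hidx : ∀ E : hfin.toFinset, ∃ i, S.D i = E.1 := fun E => ((hF E.1).mp E.2).1
  choose idx hidx using hidx
  have ha : (∑ E ∈ hfin.toFinset.attach, Finsupp.single (idx E) (n E.1)).prod
      (fun i k => S.D i ^ k) = ∏ E ∈ hfin.toFinset, E ^ n E := by
    rw [← Finsupp.prod_finsetSum_index (h := fun i k => S.D i ^ k) (fun i => pow_zero _)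
      (fun i b₁ b₂ => pow_add _ _ _)]
    rw [← Finset.prod_attach hfin.toFinset (fun E => E ^ n E)]
    refine Finset.prod_congr rfl fun E _ => ?_
    rw [Finsupp.prod_single_index (h := fun i k => S.D i ^ k) (pow_zero _), hidx E]
  have hZP : S.Z ≤ ∏ E ∈ hfin.toFinset, E ^ n E :=
    S.le_prod hfin.toFinset (fun E hE => (hF E).mp hE) n (fun E hE => (hn E ((hF E).mp hE)).1)
  refine ⟨∑ E ∈ hfin.toFinset.attach, Finsupp.single (idx E) (n E.1), ?_, ?_⟩
  · rw [ha]
    exact hZP
  · rw [ha]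
    have hU : ∀ x, x ∈ (⨆ V : {V : X.affineOpens //
          S.Z.ideal V = (∏ E ∈ hfin.toFinset, E ^ n E).ideal V}, V.1.1 : X.Opens) ↔
        ∃ V : X.affineOpens, x ∈ V.1 ∧
          S.Z.ideal V = (∏ E ∈ hfin.toFinset, E ^ n E).ideal V := by
      intro x
      simp only [Opens.mem_iSup]
      constructor
      · rintro ⟨⟨V, hV⟩, hx⟩
        exact ⟨V, hx, hV⟩
      · rintro ⟨V, hx, hV⟩
        exact ⟨⟨V, hV⟩, hx⟩
    refine ⟨⨆ V : {V : X.affineOpens //
      S.Z.ideal V = (∏ E ∈ hfin.toFinset, E ^ n E).ideal V}, V.1.1, ?_, ?_⟩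
    · have key : ∀ V₀ : X.affineOpens, V₀.1 ≤ (⨆ V : {V : X.affineOpens //
          S.Z.ideal V = (∏ E ∈ hfin.toFinset, E ^ n E).ideal V}, V.1.1 : X.Opens) →
          (∏ E ∈ hfin.toFinset, E ^ n E).ideal V₀ = S.Z.ideal V₀ := by
        intro V₀ hV₀U
        rw [V₀.2.ideal_ext_iff]
        intro x hx
        obtain ⟨V, hxV, hV⟩ := (hU x).mp (hV₀U hx)
        rw [← stalkIdeal_eq _ V₀ x hx, ← stalkIdeal_eq S.Z V₀ x hx, stalkIdeal_eq _ V x hxV,
          stalkIdeal_eq S.Z V x hxV, hV]
      apply Scheme.IdealSheafData.ext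
      funext W
      rw [Scheme.IdealSheafData.ideal_comap_of_isOpenImmersion,
        Scheme.IdealSheafData.ideal_comap_of_isOpenImmersion, key _ (Scheme.Opens.ι_image_le _ W.1)]
    · intro z hz _
      by_contra hlt
      have hdim : (IsLocalRing.maximalIdeal (X.presheaf.stalk z)).height ≤ 1 := by
        rw [← IsLocalRing.maximalIdeal_height_eq_ringKrullDim] at hlt
        have h3 : ¬ (2 : ℕ∞) ≤ (IsLocalRing.maximalIdeal (X.presheaf.stalk z)).height := by
          intro h4
          apply hlt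
          have : ((2 : ℕ∞) : WithBot ℕ∞) ≤
              ((IsLocalRing.maximalIdeal (X.presheaf.stalk z)).height : WithBot ℕ∞) :=
            WithBot.coe_le_coe.mpr h4
          simpa using this
        have h4 : (IsLocalRing.maximalIdeal (X.presheaf.stalk z)).height < 1 + 1 := by
          rw [one_add_one_eq_two]
          exact not_le.mp h3
        exact (ENat.lt_add_one_iff (by norm_num)).mp h4
      have hst := S.stalkIdeal_eq_of_height_le_one hfin.toFinset hF n
        (fun E hE => hn E ((hF E).mp hE)) z hz.1 hdim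
      obtain ⟨V, hzV, hV⟩ := exists_affine_ideal_eq S.Z _ hZP z hst
      exact hz.2 ((hU z).mpr ⟨V, hzV, hV⟩)

end Setup

end Groth.Agent.Lib.Seat34.CartierCodim
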