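import Mathlib

/-!
# Principal prime ideals generated by nonzerodivisors (seat 34)

Ring level lemmas for decomposing locally principal ideals along principal primes.

* `mem_span_pow_of_mul_mem`: `(g ^ n)` is `(g)`-primary for `g` a nonzerodivisor with `(g)` prime.
* `span_eq_of_le`: inclusion between principal primes generated by nonzerodivisors is equality.
* `mem_span_prod_pow`: an element of all `(g i ^ a i)` (pairwise distinct principal primes) is in
  `(∏ g i ^ a i)`.
* `span_eq_span_prod_pow`: in a Noetherian local ring, a nonzerodivisor whose zero locus is covered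
  by finitely many distinct principal primes (nonzerodivisor generators) with exact multiplicities
  `a i` generates the ideal `(∏ g i ^ a i)`.
* `map_mem_map_pow_of_mul_mem`: primary property after localizing.
-/

set_option autoImplicit false

namespace Groth.Agent.Lib.Seat34.CartierDecompAlg

open nonZeroDivisors

variable {S : Type*} [CommRing S]

theorem mem_span_pow_of_mul_mem {g : S} (hg : g ∈ S⁰) (hp : (Ideal.span {g}).IsPrime) :
    ∀ (n : ℕ) (a b : S), a * b ∈ Ideal.span {g ^ n} → b ∉ Ideal.span {g} →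
      a ∈ Ideal.span {g ^ n} := by
  intro n
  induction n with
  | zero =>
    intro a b _ _
    rw [pow_zero, Ideal.span_singleton_one]
    exact Submodule.mem_top
  | succ n ih =>
    intro a b hab hb
    have hab' : a * b ∈ Ideal.span {g ^ n} := by
      rw [Ideal.mem_span_singleton] at hab ⊢
      exact dvd_trans (pow_dvd_pow g (Nat.le_succ n)) hab
    obtain ⟨c, hc⟩ := Ideal.mem_span_singleton.mp (ih a b hab' hb)
    obtain ⟨d, hd⟩ := Ideal.mem_span_singleton.mp hab
    have h1 : g ^ n * (c * b - g * d) = 0 := by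
      have : g ^ n * (c * b - g * d) = (g ^ n * c) * b - g ^ (n + 1) * d := by ring
      rw [this, ← hc, hd, sub_self]
    have h2 : c * b - g * d = 0 :=
      (mem_nonZeroDivisors_iff.mp (pow_mem hg n)).1 _ h1
    have h3 : c * b ∈ Ideal.span {g} := by
      rw [sub_eq_zero] at h2
      rw [h2]
      exact Ideal.mul_mem_right _ _ (Ideal.mem_span_singleton_self g)
    rcases hp.mem_or_mem h3 with h | h
    · obtain ⟨e, he⟩ := Ideal.mem_span_singleton.mp h
      rw [Ideal.mem_span_singleton]
      exact ⟨e, by rw [hc, he]; ring⟩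
    · exact absurd h hb

theorem span_eq_of_le {g g' : S} (hg : g ∈ S⁰) (hp : (Ideal.span {g}).IsPrime)
    (hp' : (Ideal.span {g'}).IsPrime) (hle : Ideal.span {g} ≤ Ideal.span {g'}) :
    Ideal.span {g} = Ideal.span {g'} := by
  refine le_antisymm hle ?_
  rw [Ideal.span_singleton_le_iff_mem]
  obtain ⟨u, hu⟩ := Ideal.mem_span_singleton.mp (hle (Ideal.mem_span_singleton_self g))
  have h1 : g' * u ∈ Ideal.span {g} := by
    rw [← hu]
    exact Ideal.mem_span_singleton_self g
  rcases hp.mem_or_mem h1 with h | h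
  · exact h
  · exfalso
    obtain ⟨v, hv⟩ := Ideal.mem_span_singleton.mp h
    have h2 : g * (1 - g' * v) = 0 := by
      have : g * (1 - g' * v) = g - g' * (g * v) := by ring
      rw [this, ← hv, ← hu, sub_self]
    have h3 : 1 - g' * v = 0 := (mem_nonZeroDivisors_iff.mp hg).1 _ h2
    apply hp'.ne_top
    rw [Ideal.eq_top_iff_one, Ideal.mem_span_singleton]
    exact ⟨v, by rw [sub_eq_zero] at h3; exact h3⟩

theorem mem_span_prod_pow {ι : Type*} [DecidableEq ι] (g : ι → S) (a : ι → ℕ) (c : S) :
    ∀ T : Finset ι, (∀ i ∈ T, g i ∈ S⁰) → (∀ i ∈ T, (Ideal.span {g i}).IsPrime) →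
      (∀ i ∈ T, ∀ j ∈ T, i ≠ j → Ideal.span {g i} ≠ Ideal.span {g j}) →
      (∀ i ∈ T, c ∈ Ideal.span {g i ^ a i}) → c ∈ Ideal.span {∏ i ∈ T, g i ^ a i} := by
  intro T
  induction T using Finset.induction_on generalizing c with
  | empty =>
    intro _ _ _ _
    rw [Finset.prod_empty, Ideal.span_singleton_one]
    exact Submodule.mem_top
  | insert i₀ T hi₀ ih =>
    intro hnzd hprime hdist hc
    have hcT := ih c (fun i hi => hnzd i (Finset.mem_insert_of_mem hi))
      (fun i hi => hprime i (Finset.mem_insert_of_mem hi))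
      (fun i hi j hj => hdist i (Finset.mem_insert_of_mem hi) j (Finset.mem_insert_of_mem hj))
      (fun i hi => hc i (Finset.mem_insert_of_mem hi))
    obtain ⟨d, hd⟩ := Ideal.mem_span_singleton.mp hcT
    have hp₀ := hprime i₀ (Finset.mem_insert_self i₀ T)
    have hnot : (∏ i ∈ T, g i ^ a i) ∉ Ideal.span {g i₀} := by
      intro hmem
      obtain ⟨i, hi, hmem'⟩ := (hp₀.prod_mem_iff).mp hmem
      have hgi : g i ∈ Ideal.span {g i₀} := hp₀.mem_of_pow_mem _ hmem'
      have hle : Ideal.span {g i} ≤ Ideal.span {g i₀} := by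
        rw [Ideal.span_singleton_le_iff_mem]
        exact hgi
      have heq := span_eq_of_le (hnzd i (Finset.mem_insert_of_mem hi))
        (hprime i (Finset.mem_insert_of_mem hi)) hp₀ hle
      refine hdist i (Finset.mem_insert_of_mem hi) i₀ (Finset.mem_insert_self i₀ T) ?_ heq
      rintro rfl
      exact hi₀ hi
    have hd' : d ∈ Ideal.span {g i₀ ^ a i₀} := by
      apply mem_span_pow_of_mul_mem (hnzd i₀ (Finset.mem_insert_self i₀ T)) hp₀ (a i₀) d
        (∏ i ∈ T, g i ^ a i) _ hnot
      rw [mul_comm, ← hd]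
      exact hc i₀ (Finset.mem_insert_self i₀ T)
    obtain ⟨e, he⟩ := Ideal.mem_span_singleton.mp hd'
    rw [Finset.prod_insert hi₀, Ideal.mem_span_singleton]
    exact ⟨e, by rw [hd, he]; ring⟩

theorem span_eq_span_prod_pow [IsNoetherianRing S] [IsLocalRing S] {ι : Type*} [DecidableEq ι]
    (f : S) (g : ι → S) (a : ι → ℕ) (T : Finset ι)
    (hnzd : ∀ i ∈ T, g i ∈ S⁰) (hprime : ∀ i ∈ T, (Ideal.span {g i}).IsPrime)
    (hdist : ∀ i ∈ T, ∀ j ∈ T, i ≠ j → Ideal.span {g i} ≠ Ideal.span {g j})
    (hmem : ∀ i ∈ T, f ∈ Ideal.span {g i ^ a i})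
    (hexact : ∀ i ∈ T, f ∉ Ideal.span {g i ^ (a i + 1)})
    (hcover : ∀ Q : Ideal S, Q.IsPrime → f ∈ Q → ∃ i ∈ T, g i ∈ Q) :
    Ideal.span {f} = Ideal.span {∏ i ∈ T, g i ^ a i} := by
  classical
  have h1 := mem_span_prod_pow g a f T hnzd hprime hdist hmem
  obtain ⟨u, hu⟩ := Ideal.mem_span_singleton.mp h1
  have hu_not : ∀ i ∈ T, u ∉ Ideal.span {g i} := by
    intro i hi hmemu
    apply hexact i hi
    obtain ⟨v, hv⟩ := Ideal.mem_span_singleton.mp hmemu
    rw [Ideal.mem_span_singleton]
    refine ⟨(∏ j ∈ T.erase i, g j ^ a j) * v, ?_⟩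
    rw [hu, ← Finset.mul_prod_erase T _ hi, hv]
    ring
  have hunit : IsUnit u := by
    by_contra hnu
    have hne : Ideal.span {u} ≠ ⊤ := by
      rwa [Ne, Ideal.span_singleton_eq_top]
    obtain ⟨Q, hQ⟩ := Ideal.nonempty_minimalPrimes hne
    have hQp : Q.IsPrime := hQ.1.1
    have huQ : u ∈ Q := hQ.1.2 (Ideal.mem_span_singleton_self u)
    have hfQ : f ∈ Q := by
      rw [hu]
      exact Ideal.mul_mem_left _ _ huQ
    obtain ⟨i, hi, hgiQ⟩ := hcover Q hQp hfQ
    have hle : Ideal.span {g i} ≤ Q := by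
      rw [Ideal.span_singleton_le_iff_mem]
      exact hgiQ
    have hQh : Q.height ≤ 1 :=
      Ideal.height_le_one_of_isPrincipal_of_mem_minimalPrimes (Ideal.span {u}) Q hQ
    have hpi := hprime i hi
    have heq : Ideal.span {g i} = Q := by
      by_contra hneq
      have hlt : Ideal.span {g i} < Q := lt_of_le_of_ne hle hneq
      have hQfin : Q.FiniteHeight := inferInstance
      have h2 := Ideal.height_strict_mono_of_isPrime hlt
      have h3 : 1 ≤ (Ideal.span {g i}).height :=
        Ideal.one_le_height_span_singleton_of_mem_nonZeroDivisors (hnzd i hi)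
      have h4 : (Ideal.span {g i}).height < 1 := lt_of_lt_of_le h2 hQh
      exact absurd h3 (not_le.mpr h4)
    exact hu_not i hi (heq ▸ huQ)
  obtain ⟨u', rfl⟩ := hunit
  rw [hu]
  exact Ideal.span_singleton_mul_right_unit u'.isUnit _

section Localization

variable {A : Type*} [CommRing A]

/-- Primary property of `P ^ n` seen in a localization where `P` becomes principal generated by a
nonzerodivisor. -/
theorem map_mem_map_pow_of_mul_mem (P : Ideal A) [hP : P.IsPrime] (p : Ideal A) [p.IsPrime]
    (S : Type*) [CommRing S] [Algebra A S] [IsLocalization.AtPrime S p]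
    (g : S) (hg : g ∈ S⁰) (hPg : P.map (algebraMap A S) = Ideal.span {g})
    (n : ℕ) (a b : A) (hab : a * b ∈ P ^ n) (hb : b ∉ P) :
    algebraMap A S a ∈ (P ^ n).map (algebraMap A S) := by
  by_cases hPp : P ≤ p
  · have hdisj : Disjoint (p.primeCompl : Set A) (P : Set A) := by
      rw [Set.disjoint_left]
      intro r hr hrP
      exact hr (hPp hrP)
    have hprime : (P.map (algebraMap A S)).IsPrime :=
      IsLocalization.isPrime_of_isPrime_disjoint p.primeCompl S P hP hdisj
    have hcomap : (P.map (algebraMap A S)).comap (algebraMap A S) = P :=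
      IsLocalization.under_map_of_isPrime_disjoint p.primeCompl S hP hdisj
    rw [Ideal.map_pow, hPg, Ideal.span_singleton_pow]
    rw [hPg] at hprime hcomap
    apply mem_span_pow_of_mul_mem hg hprime n _ (algebraMap A S b)
    · rw [← map_mul, ← Ideal.span_singleton_pow, ← hPg, ← Ideal.map_pow]
      exact Ideal.mem_map_of_mem _ hab
    · intro hmem
      apply hb
      rw [← hcomap]
      exact hmem
  · obtain ⟨c, hcP, hcp⟩ := SetLike.not_le_iff_exists.mp hPp
    have hcu : IsUnit (algebraMap A S c) := IsLocalization.map_units S (⟨c, hcp⟩ : p.primeCompl)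
    have htop : P.map (algebraMap A S) = ⊤ :=
      Ideal.eq_top_of_isUnit_mem _ (Ideal.mem_map_of_mem _ hcP) hcu
    rw [Ideal.map_pow, htop, Ideal.top_pow]
    exact Submodule.mem_top

/-- If `a` lies in `P ^ n` after localizing at a prime `p ⊇ P`, some multiple `a * b` with `b ∉ P`
lies in `P ^ n`. -/
theorem exists_mul_mem_pow_of_map_mem (P : Ideal A) (p : Ideal A) [p.IsPrime] (hPp : P ≤ p)
    (S : Type*) [CommRing S] [Algebra A S] [IsLocalization.AtPrime S p] (n : ℕ) (a : A)
    (ha : algebraMap A S a ∈ (P ^ n).map (algebraMap A S)) : ∃ b, b ∉ P ∧ a * b ∈ P ^ n := by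
  obtain ⟨⟨⟨i, hi⟩, ⟨s, hs⟩⟩, his⟩ := (IsLocalization.mem_map_algebraMap_iff p.primeCompl S).mp ha
  simp only at his
  rw [← map_mul] at his
  obtain ⟨⟨s', hs'⟩, hs2⟩ := (IsLocalization.eq_iff_exists p.primeCompl S).mp his
  simp only at hs2
  refine ⟨s * s', fun hmem => ?_, ?_⟩
  · rcases Ideal.IsPrime.mem_or_mem inferInstance (hPp hmem) with h | h
    · exact hs h
    · exact hs' h
  · have : a * (s * s') = s' * i := by
      rw [← hs2]
      ring
    rw [this]
    exact Ideal.mul_mem_left _ _ hi

end Localization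

end Groth.Agent.Lib.Seat34.CartierDecompAlg
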