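import Mathlib

/-!
# The local rings of a closed subscheme (seat 8)

For a quasi-coherent ideal sheaf `𝓘` on `X` with closed subscheme `ι : Z ⟶ X`, a point `d` of `Z` and an
affine open `U` of `X` containing `ι d`, the stalk map `O_{X, ι d} ⟶ O_{Z, d}` is surjective with kernel
generated by `𝓘(U)`.
-/

set_option autoImplicit false
universe u

open CategoryTheory Limits AlgebraicGeometry

namespace Groth.Agent.Lib.Seat8.SubStalk

variable {X : Scheme.{u}} (𝓘 : X.IdealSheafData)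

theorem stalkMap_subschemeι_surjective (d : 𝓘.subscheme) :
    Function.Surjective (𝓘.subschemeι.stalkMap d).hom :=
  𝓘.subschemeι.stalkMap_surjective d

theorem ker_stalkMap_subschemeι (d : 𝓘.subscheme) (U : X.affineOpens)
    (hxU : 𝓘.subschemeι d ∈ U.1) :
    RingHom.ker (𝓘.subschemeι.stalkMap d).hom =
      (𝓘.ideal U).map (X.presheaf.germ U.1 (𝓘.subschemeι d) hxU).hom := by
  have hU : IsAffineOpen U.1 := U.2
  have hV : IsAffineOpen (𝓘.subschemeι ⁻¹ᵁ U.1) := hU.preimage 𝓘.subschemeι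
  have hdV : d ∈ 𝓘.subschemeι ⁻¹ᵁ U.1 := hxU
  -- localization structures
  let _ : Algebra Γ(X, U.1) (X.presheaf.stalk (𝓘.subschemeι d)) :=
    TopCat.Presheaf.algebra_section_stalk X.presheaf (⟨𝓘.subschemeι d, hxU⟩ : U.1)
  have hlocX : IsLocalization.AtPrime (X.presheaf.stalk (𝓘.subschemeι d))
      (hU.primeIdealOf ⟨_, hxU⟩).asIdeal := hU.isLocalization_stalk ⟨_, hxU⟩
  let _ : Algebra Γ(𝓘.subscheme, 𝓘.subschemeι ⁻¹ᵁ U.1) (𝓘.subscheme.presheaf.stalk d) :=
    TopCat.Presheaf.algebra_section_stalk 𝓘.subscheme.presheaf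
      (⟨d, hdV⟩ : (𝓘.subschemeι ⁻¹ᵁ U.1 : 𝓘.subscheme.Opens))
  have hlocZ : IsLocalization.AtPrime (𝓘.subscheme.presheaf.stalk d)
      (hV.primeIdealOf ⟨d, hdV⟩).asIdeal := hV.isLocalization_stalk ⟨d, hdV⟩
  have hcomm : ∀ a : Γ(X, U.1), (𝓘.subschemeι.stalkMap d).hom
      (algebraMap Γ(X, U.1) (X.presheaf.stalk (𝓘.subschemeι d)) a) =
      algebraMap Γ(𝓘.subscheme, 𝓘.subschemeι ⁻¹ᵁ U.1) (𝓘.subscheme.presheaf.stalk d)
        ((𝓘.subschemeι.app U.1).hom a) := fun a =>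
    Scheme.Hom.germ_stalkMap_apply 𝓘.subschemeι U.1 d hxU a
  have hker : RingHom.ker (𝓘.subschemeι.app U.1).hom = 𝓘.ideal U :=
    Scheme.IdealSheafData.ker_subschemeι_app 𝓘 U
  apply le_antisymm
  · intro s hs
    rw [RingHom.mem_ker] at hs
    obtain ⟨⟨a, u⟩, hau⟩ := IsLocalization.surj (hU.primeIdealOf ⟨_, hxU⟩).asIdeal.primeCompl s
    have h1 : (𝓘.subschemeι.stalkMap d).hom
        (algebraMap Γ(X, U.1) (X.presheaf.stalk (𝓘.subschemeι d)) a) = 0 := by
      rw [← hau, map_mul, hs, zero_mul]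
    rw [hcomm] at h1
    obtain ⟨⟨v', hv'⟩, hv'a⟩ := (IsLocalization.map_eq_zero_iff
      (hV.primeIdealOf ⟨d, hdV⟩).asIdeal.primeCompl (𝓘.subscheme.presheaf.stalk d) _).1 h1
    obtain ⟨v, rfl⟩ := 𝓘.subschemeι_app_surjective U v'
    have hvp : v ∉ (hU.primeIdealOf ⟨_, hxU⟩).asIdeal := by
      intro hv
      apply hv'
      have h2 : ¬ IsUnit (algebraMap Γ(X, U.1) (X.presheaf.stalk (𝓘.subschemeι d)) v) := by
        rw [IsLocalization.AtPrime.isUnit_to_map_iff (X.presheaf.stalk (𝓘.subschemeι d))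
          (hU.primeIdealOf ⟨_, hxU⟩).asIdeal]
        exact fun h => h hv
      have h3 : ¬ IsUnit ((𝓘.subschemeι.stalkMap d).hom
          (algebraMap Γ(X, U.1) (X.presheaf.stalk (𝓘.subschemeι d)) v)) := by
        intro h
        exact h2 ((isUnit_map_iff (𝓘.subschemeι.stalkMap d).hom _).1 h)
      rw [hcomm] at h3
      rw [IsLocalization.AtPrime.isUnit_to_map_iff (𝓘.subscheme.presheaf.stalk d)
          (hV.primeIdealOf ⟨d, hdV⟩).asIdeal] at h3
      simpa using h3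
    have hva : v * a ∈ 𝓘.ideal U := by
      rw [← hker, RingHom.mem_ker, map_mul]
      exact hv'a
    have hu1 : IsUnit (algebraMap Γ(X, U.1) (X.presheaf.stalk (𝓘.subschemeι d)) u.1) :=
      IsLocalization.map_units _ u
    have hu2 : IsUnit (algebraMap Γ(X, U.1) (X.presheaf.stalk (𝓘.subschemeι d)) v) :=
      IsLocalization.map_units _ (⟨v, hvp⟩ : (hU.primeIdealOf ⟨_, hxU⟩).asIdeal.primeCompl)
    have h4 : s * (algebraMap Γ(X, U.1) (X.presheaf.stalk (𝓘.subschemeι d)) u.1 *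
        algebraMap Γ(X, U.1) (X.presheaf.stalk (𝓘.subschemeι d)) v) ∈
        (𝓘.ideal U).map (algebraMap Γ(X, U.1) (X.presheaf.stalk (𝓘.subschemeι d))) := by
      rw [← mul_assoc, hau, ← map_mul, mul_comm a v]
      exact Ideal.mem_map_of_mem _ hva
    exact (Ideal.mul_unit_mem_iff_mem _ (hu1.mul hu2)).1 h4
  · rw [Ideal.map_le_iff_le_comap]
    intro a ha
    rw [Ideal.mem_comap, RingHom.mem_ker]
    have := hcomm a
    rw [show (𝓘.subschemeι.app U.1).hom a = 0 from by rw [← RingHom.mem_ker, hker]; exact ha,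
      map_zero] at this
    exact this

end Groth.Agent.Lib.Seat8.SubStalk
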