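import Groth.Agent.S1700
import Groth.Agent.S1573
import Groth.Agent.Lib.Seat8SubStalk

/-!
# Effective Cartier divisors supported on the complement of a dense open with affine inclusion (seat 34)

* `eq_maximalIdeal_of_isAssociatedPrime_of_isReduced`: in a reduced local ring whose maximal ideal is
  an associated prime, every prime ideal is the maximal ideal.
* `isReduced_stalk_vanishingIdeal`: the local rings of the reduced induced closed subscheme are
  reduced.
* `exists_effCartier_compl`: on a Noetherian scheme `X`, if `U` is a dense open with affine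
  inclusion and the local rings outside `U` are UFDs, then the vanishing ideal of `X \ U` is an
  effective Cartier divisor with support `X \ U`.
-/

set_option autoImplicit false
universe u
open CategoryTheory CategoryTheory.Limits AlgebraicGeometry TopologicalSpace

namespace Groth.Agent.Lib.Seat34.ComplCartier

/-- In a reduced local ring whose maximal ideal is an associated prime (of the ring), every prime
ideal equals the maximal ideal. -/
theorem eq_maximalIdeal_of_isAssociatedPrime_of_isReduced {R : Type*} [CommRing R] [IsLocalRing R]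
    [IsReduced R] (h : IsAssociatedPrime (IsLocalRing.maximalIdeal R) R) (P : Ideal R)
    [hP : P.IsPrime] : P = IsLocalRing.maximalIdeal R := by
  obtain ⟨x, hx⟩ := h.2
  have hx0 : x ≠ 0 := by
    rintro rfl
    apply (IsLocalRing.maximalIdeal.isMaximal R).ne_top
    rw [hx]
    have : Submodule.colon (⊥ : Submodule R R) {(0 : R)} = ⊤ := by
      ext r
      simp [Submodule.mem_colon_singleton]
    rw [this, Ideal.radical_top]
  obtain ⟨P₀, hP₀, hxP₀⟩ : ∃ P₀ ∈ minimalPrimes R, x ∉ P₀ := by
    by_contra! hall
    apply hx0
    have hmem : x ∈ sInf (minimalPrimes R) := by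
      rw [Ideal.mem_sInf]
      intro Q hQ
      exact hall Q hQ
    rw [minimalPrimes, Ideal.sInf_minimalPrimes] at hmem
    have h0 : (⊥ : Ideal R).radical = ⊥ := by
      have := nilradical_eq_zero R
      rwa [nilradical] at this
    rw [h0] at hmem
    simpa using hmem
  have hP₀' : P₀.IsPrime := hP₀.1.1
  have hle : IsLocalRing.maximalIdeal R ≤ P₀ := by
    intro r hr
    rw [hx] at hr
    obtain ⟨n, hn⟩ := hr
    rw [Submodule.mem_colon_singleton, Submodule.mem_bot] at hn
    have hmul : r ^ n * x ∈ P₀ := by
      rw [← smul_eq_mul, hn]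
      exact P₀.zero_mem
    rcases hP₀'.mem_or_mem hmul with h | h
    · exact hP₀'.mem_of_pow_mem _ h
    · exact absurd h hxP₀
  have hPm : P ≤ IsLocalRing.maximalIdeal R := IsLocalRing.le_maximalIdeal hP.ne_top
  have hPP₀ : P ≤ P₀ := hPm.trans hle
  have hP₀P : P₀ ≤ P := hP₀.2 ⟨hP, bot_le⟩ hPP₀
  exact le_antisymm hPm (hle.trans hP₀P)

variable {X : Scheme.{u}}

/-- The local rings of the reduced induced closed subscheme structure are reduced. -/
theorem isReduced_stalk_vanishingIdeal (Z : Closeds X)
    (z : (Scheme.IdealSheafData.vanishingIdeal Z).subscheme) :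
    IsReduced ((Scheme.IdealSheafData.vanishingIdeal Z).subscheme.presheaf.stalk z) := by
  obtain ⟨V, hV, hxV, -⟩ := exists_isAffineOpen_mem_and_subset
    (x := (Scheme.IdealSheafData.vanishingIdeal Z).subschemeι z) (U := ⊤) trivial
  have hker := Seat8.SubStalk.ker_stalkMap_subschemeι (Scheme.IdealSheafData.vanishingIdeal Z) z
    ⟨V, hV⟩ hxV
  have hsurj := Seat8.SubStalk.stalkMap_subschemeι_surjective
    (Scheme.IdealSheafData.vanishingIdeal Z) z
  rw [← RingHom.ker_isRadical_iff_reduced_of_surjective hsurj, hker]
  let _ : Algebra Γ(X, V)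
      (X.presheaf.stalk ((Scheme.IdealSheafData.vanishingIdeal Z).subschemeι z)) :=
    TopCat.Presheaf.algebra_section_stalk X.presheaf
      (⟨(Scheme.IdealSheafData.vanishingIdeal Z).subschemeι z, hxV⟩ : V)
  have hloc : IsLocalization.AtPrime
      (X.presheaf.stalk ((Scheme.IdealSheafData.vanishingIdeal Z).subschemeι z))
      (hV.primeIdealOf ⟨_, hxV⟩).asIdeal := hV.isLocalization_stalk ⟨_, hxV⟩
  have hrad : ((Scheme.IdealSheafData.vanishingIdeal Z).ideal ⟨V, hV⟩).IsRadical := by
    rw [Scheme.IdealSheafData.vanishingIdeal_ideal]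
    exact PrimeSpectrum.isRadical_vanishingIdeal _
  change (((Scheme.IdealSheafData.vanishingIdeal Z).ideal ⟨V, hV⟩).map (algebraMap Γ(X, V)
    (X.presheaf.stalk ((Scheme.IdealSheafData.vanishingIdeal Z).subschemeι z)))).IsRadical
  rw [← hrad.radical, IsLocalization.map_radical (hV.primeIdealOf ⟨_, hxV⟩).asIdeal.primeCompl]
  exact Ideal.radical_isRadical _

/-- On a Noetherian scheme, if `U` is a dense open whose inclusion is affine and the local rings at
the points outside `U` are unique factorisation domains, then the vanishing ideal of the complement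
of `U` is the ideal of an effective Cartier divisor with support the complement of `U`. -/
theorem exists_effCartier_compl (X : Scheme.{u}) [IsNoetherian X] (U : X.Opens) [IsAffineHom U.ι]
    (hdense : Dense (U : Set X))
    (hufd : ∀ x : X, x ∉ U →
      IsDomain (X.presheaf.stalk x) ∧ UniqueFactorizationMonoid (X.presheaf.stalk x)) :
    ∃ 𝓘 : X.IdealSheafData, BlowUp.IsEffCartierIdeal 𝓘 ∧ (𝓘.support : Set X) = (U : Set X)ᶜ := by
  let Z : Closeds X := ⟨(U : Set X)ᶜ, U.isOpen.isClosed_compl⟩
  have hsupp : ((Scheme.IdealSheafData.vanishingIdeal Z).support : Set X) = (U : Set X)ᶜ :=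
    Scheme.IdealSheafData.coe_support_vanishingIdeal Z
  refine ⟨Scheme.IdealSheafData.vanishingIdeal Z, ?_, hsupp⟩
  have hmem : ∀ z : (Scheme.IdealSheafData.vanishingIdeal Z).subscheme,
      (Scheme.IdealSheafData.vanishingIdeal Z).subschemeι z ∉ U := by
    intro z
    have h : (Scheme.IdealSheafData.vanishingIdeal Z).subschemeι z ∈
        ((Scheme.IdealSheafData.vanishingIdeal Z).support : Set X) := by
      rw [← Scheme.IdealSheafData.range_subschemeι]
      exact ⟨z, rfl⟩
    rw [hsupp] at h
    exact h
  have hind : Topology.IsInducing (Scheme.IdealSheafData.vanishingIdeal Z).subschemeι :=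
    (Scheme.IdealSheafData.vanishingIdeal Z).subschemeι.isEmbedding.isInducing
  apply Groth.Agent.S1700.result X (Scheme.IdealSheafData.vanishingIdeal Z)
  · intro z hz z' hz'
    have hred := isReduced_stalk_vanishingIdeal Z z
    have hrange := Scheme.range_fromSpecStalk
      (X := (Scheme.IdealSheafData.vanishingIdeal Z).subscheme) (x := z)
    obtain ⟨p, hp⟩ : z' ∈ Set.range
        ((Scheme.IdealSheafData.vanishingIdeal Z).subscheme.fromSpecStalk z) := by
      rw [hrange]
      exact hz'
    have hpm : p = IsLocalRing.closedPoint _ := by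
      apply PrimeSpectrum.ext
      exact eq_maximalIdeal_of_isAssociatedPrime_of_isReduced hz p.asIdeal
    rw [← hp, hpm, Scheme.fromSpecStalk_closedPoint]
  · intro z hz
    refine (Groth.Agent.S1573.result X U ((Scheme.IdealSheafData.vanishingIdeal Z).subschemeι z)
      (hmem z) ?_).2 hdense
    intro y hyU hy
    have hy' : y ∈ Set.range (Scheme.IdealSheafData.vanishingIdeal Z).subschemeι := by
      rw [Scheme.IdealSheafData.range_subschemeι, hsupp]
      exact hyU
    obtain ⟨z', rfl⟩ := hy'
    rw [hind.specializes_iff] at hy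
    rw [hz z' hy]
  · intro x hx
    apply hufd
    have hx' : x ∈ ((Scheme.IdealSheafData.vanishingIdeal Z).support : Set X) := hx
    rw [hsupp] at hx'
    exact hx'

end Groth.Agent.Lib.Seat34.ComplCartier
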