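import Mathlib

/-!
# Derivations and heights in characteristic zero (seat 34)

* `notMem_minimalPrimes_of_derivation`: if a derivation `D` (over a field of characteristic zero)
  preserves the ideal `I` and `D x = 1`, then `x` lies in no minimal prime over `I`.
* `card_le_height_of_derivations`: if `D i (x j) = δ_ij`, a prime containing `x t` for `t ∈ T`
  has height at least `T.card`.
-/

set_option autoImplicit false
set_option linter.style.haveILetI false

namespace Groth.Agent.Lib.Seat34.DerivHeight

variable {k R : Type*} [Field k] [CharZero k] [CommRing R] [Algebra k R]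

theorem notMem_minimalPrimes_of_derivation (D : Derivation k R R) (I : Ideal R)
    (hDI : ∀ r ∈ I, D r ∈ I) (x : R) (hx : D x = 1) {p : Ideal R} (hp : p ∈ I.minimalPrimes) :
    x ∉ p := by
  classical
  intro hxp
  have hmem : x ∈ ⋃ p ∈ I.minimalPrimes, (p : Set R) := Set.mem_biUnion hp hxp
  rw [Ideal.iUnion_minimalPrimes] at hmem
  obtain ⟨y, hy, n, hn⟩ := hmem
  have H : ∃ N : ℕ, ∃ s : R, s ∉ I.radical ∧ s * x ^ N ∈ I := by
    refine ⟨n, y ^ n, fun h => hy ?_, ?_⟩
    · exact Ideal.radical_idem I ▸ ⟨n, h⟩
    · rw [mul_comm, ← mul_pow]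
      exact hn
  obtain ⟨s, hs, hsN⟩ := Nat.find_spec H
  cases hN : Nat.find H with
  | zero =>
    rw [hN, pow_zero, mul_one] at hsN
    exact hs (Ideal.le_radical hsN)
  | succ N' =>
    rw [hN] at hsN
    have h1 : D (s * x ^ (N' + 1)) ∈ I := hDI _ hsN
    have h2 : D (s * x ^ (N' + 1)) = ((N' + 1 : ℕ) : R) * s * x ^ N' + x ^ (N' + 1) * D s := by
      rw [Derivation.leibniz, Derivation.leibniz_pow, hx]
      simp only [smul_eq_mul, Nat.add_sub_cancel, mul_one, nsmul_eq_mul]
      ring
    have h3 : s * (((N' + 1 : ℕ) : R) * s * x ^ N' + x ^ (N' + 1) * D s) ∈ I :=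
      I.mul_mem_left s (h2 ▸ h1)
    have h4 : ((N' + 1 : ℕ) : R) * (s ^ 2 * x ^ N') ∈ I := by
      have : ((N' + 1 : ℕ) : R) * (s ^ 2 * x ^ N') =
          s * (((N' + 1 : ℕ) : R) * s * x ^ N' + x ^ (N' + 1) * D s) -
            D s * (s * x ^ (N' + 1)) := by ring
      rw [this]
      exact I.sub_mem h3 (I.mul_mem_left _ hsN)
    have hunit : IsUnit ((N' + 1 : ℕ) : R) := by
      have : ((N' + 1 : ℕ) : R) = algebraMap k R ((N' + 1 : ℕ) : k) := by simp
      rw [this]
      exact (IsUnit.mk0 _ (Nat.cast_ne_zero.mpr (Nat.succ_ne_zero N'))).map _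
    have h5 : s ^ 2 * x ^ N' ∈ I := (Ideal.unit_mul_mem_iff_mem I hunit).mp h4
    refine Nat.find_min H (m := N') (by omega) ⟨s ^ 2, fun h => hs ?_, h5⟩
    exact Ideal.radical_idem I ▸ ⟨2, h⟩

theorem card_le_height_of_derivations {ι : Type*} [DecidableEq ι] (x : ι → R)
    (D : ι → Derivation k R R) (hD : ∀ i j, D i (x j) = if i = j then 1 else 0)
    (T : Finset ι) : ∀ (P : Ideal R) [P.IsPrime], (∀ t ∈ T, x t ∈ P) → (T.card : ℕ∞) ≤ P.height := by
  induction T using Finset.induction_on with
  | empty => intro P _ _; simp
  | insert t₀ T ht₀ ih =>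
    intro P _ hP
    set I : Ideal R := Ideal.span (x '' (T : Set ι)) with hI
    have hIP : I ≤ P := by
      rw [hI, Ideal.span_le]
      rintro _ ⟨t, ht, rfl⟩
      exact hP t (Finset.mem_insert_of_mem ht)
    obtain ⟨p, hp, hpP⟩ := Ideal.exists_minimalPrimes_le hIP
    haveI : p.IsPrime := hp.1.1
    have hxp : ∀ t ∈ T, x t ∈ p := fun t ht => hp.1.2 (Ideal.subset_span ⟨t, ht, rfl⟩)
    have h1 : (T.card : ℕ∞) ≤ p.height := ih p hxp
    have hDI : ∀ r ∈ I, D t₀ r ∈ I := by
      intro r hr
      rw [hI] at hr
      induction hr using Submodule.span_induction with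
      | mem r hr =>
        obtain ⟨t, ht, rfl⟩ := hr
        have hne : t₀ ≠ t := fun h => ht₀ (h ▸ ht)
        rw [hD, if_neg hne]
        exact zero_mem _
      | zero => rw [map_zero]; exact zero_mem _
      | add a b _ _ ha hb => rw [map_add]; exact add_mem ha hb
      | smul a r hr ih' =>
        rw [smul_eq_mul, Derivation.leibniz]
        refine add_mem (I.smul_mem a ih') ?_
        rw [smul_eq_mul]
        exact I.mul_mem_right _ hr
    have hnot : x t₀ ∉ p :=
      notMem_minimalPrimes_of_derivation (D t₀) I hDI (x t₀) (by rw [hD, if_pos rfl]) hp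
    have hlt : p < P := lt_of_le_of_ne hpP fun h =>
      hnot (h ▸ hP t₀ (Finset.mem_insert_self t₀ T))
    have h2 := Ideal.height_add_one_le_of_lt_of_isPrime hlt
    rw [Finset.card_insert_of_notMem ht₀]
    push_cast
    have h3 : (T.card : ℕ∞) + 1 ≤ p.height + 1 := by gcongr
    exact h3.trans h2

section Main

universe u

variable {k R : Type u} [Field k] [CommRing R] [Algebra k R] [IsLocalRing R]

open IsLocalRing

/-- The retraction `R → k` of a local `k`-algebra with residue field `k`. -/
noncomputable def retr (hres : Function.Surjective (algebraMap k (ResidueField R))) : R →+* k :=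
  ((RingEquiv.ofBijective (algebraMap k (ResidueField R))
    ⟨(algebraMap k (ResidueField R)).injective, hres⟩).symm : ResidueField R →+* k).comp (residue R)

theorem algebraMap_retr (hres : Function.Surjective (algebraMap k (ResidueField R))) (r : R) :
    algebraMap k (ResidueField R) (retr hres r) = residue R r := by
  unfold retr
  exact (RingEquiv.ofBijective (algebraMap k (ResidueField R))
    ⟨(algebraMap k (ResidueField R)).injective, hres⟩).apply_symm_apply (residue R r)

theorem retr_algebraMap (hres : Function.Surjective (algebraMap k (ResidueField R))) (a : k) :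
    retr hres (algebraMap k R a) = a := by
  apply (algebraMap k (ResidueField R)).injective
  rw [algebraMap_retr]
  rfl

theorem sub_retr_mem (hres : Function.Surjective (algebraMap k (ResidueField R))) (r : R) :
    r - algebraMap k R (retr hres r) ∈ maximalIdeal R := by
  rw [← IsLocalRing.residue_eq_zero_iff, map_sub, sub_eq_zero]
  have h : residue R (algebraMap k R (retr hres r)) =
      algebraMap k (ResidueField R) (retr hres r) := rfl
  rw [h, algebraMap_retr]

theorem retr_eq_zero (hres : Function.Surjective (algebraMap k (ResidueField R))) {x : R}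
    (hx : x ∈ maximalIdeal R) : retr hres x = 0 := by
  apply (algebraMap k (ResidueField R)).injective
  rw [algebraMap_retr, map_zero]
  exact (IsLocalRing.residue_eq_zero_iff x).mpr hx

/-- The `k`-derivation `R → m/m²`, `r ↦ r - c(r)`. -/
noncomputable def cotDer (hres : Function.Surjective (algebraMap k (ResidueField R))) :
    Derivation k R (maximalIdeal R).Cotangent where
  toFun r := (maximalIdeal R).toCotangent ⟨r - algebraMap k R (retr hres r), sub_retr_mem hres r⟩
  map_add' a b := by
    rw [← map_add]
    congr 1
    ext
    simp only [map_add, Submodule.coe_add]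
    ring
  map_smul' t r := by
    rw [RingHom.id_apply, ← LinearMap.map_smul_of_tower]
    congr 1
    ext
    rw [Submodule.coe_smul_of_tower]
    simp only [Algebra.smul_def, map_mul, retr_algebraMap]
    ring
  map_one_eq_zero' := by
    change (maximalIdeal R).toCotangent ⟨1 - algebraMap k R (retr hres 1), _⟩ = 0
    rw [Ideal.toCotangent_eq_zero]
    simp
  leibniz' a b := by
    change (maximalIdeal R).toCotangent ⟨a * b - algebraMap k R (retr hres (a * b)), _⟩ =
      a • (maximalIdeal R).toCotangent ⟨b - algebraMap k R (retr hres b), _⟩ +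
      b • (maximalIdeal R).toCotangent ⟨a - algebraMap k R (retr hres a), _⟩
    rw [← map_smul, ← map_smul, ← map_add, Ideal.toCotangent_eq]
    have h : (a * b - algebraMap k R (retr hres (a * b))) -
        (a * (b - algebraMap k R (retr hres b)) + b * (a - algebraMap k R (retr hres a))) =
        -((a - algebraMap k R (retr hres a)) * (b - algebraMap k R (retr hres b))) := by
      rw [map_mul, map_mul]
      ring
    change (a * b - algebraMap k R (retr hres (a * b))) -
        (a * (b - algebraMap k R (retr hres b)) + b * (a - algebraMap k R (retr hres a))) ∈ _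
    rw [h, pow_two]
    exact neg_mem (Ideal.mul_mem_mul (sub_retr_mem hres a) (sub_retr_mem hres b))

theorem cotDer_apply_of_mem (hres : Function.Surjective (algebraMap k (ResidueField R))) {x : R}
    (hx : x ∈ maximalIdeal R) : cotDer hres x = (maximalIdeal R).toCotangent ⟨x, hx⟩ := by
  change (maximalIdeal R).toCotangent ⟨x - algebraMap k R (retr hres x), _⟩ = _
  congr 1
  ext
  simp [retr_eq_zero hres hx]

variable [CharZero k] [IsNoetherianRing R]

/-- **Regularity from free differentials in characteristic zero.** -/
theorem isRegularLocalRing_of_kaehler_free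
    (hres : Function.Surjective (algebraMap k (ResidueField R)))
    (n : ℕ) (e : KaehlerDifferential k R ≃ₗ[R] (Fin n → R)) :
    IsRegularLocalRing R ∧ ringKrullDim R = n := by
  classical
  -- differentials of elements of `m` span
  let v : maximalIdeal R → KaehlerDifferential k R := fun x => KaehlerDifferential.D k R x
  have hv : Submodule.span R (Set.range v) = ⊤ := by
    rw [eq_top_iff, ← KaehlerDifferential.span_range_derivation k R]
    apply Submodule.span_mono
    rintro _ ⟨r, rfl⟩
    refine ⟨⟨r - algebraMap k R (retr hres r), sub_retr_mem hres r⟩, ?_⟩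
    simp [v]
  haveI : Module.Free R (KaehlerDifferential k R) := Module.Free.of_equiv e.symm
  haveI : Module.Finite R (KaehlerDifferential k R) := Module.Finite.equiv e.symm
  haveI : Module.FinitePresentation R (KaehlerDifferential k R) :=
    Module.finitePresentation_of_projective R _
  obtain ⟨κ, a, b, hb⟩ := Module.exists_basis_of_span_of_flat v hv
  haveI : Finite κ := Module.Finite.finite_basis b
  letI : Fintype κ := Fintype.ofFinite κ
  have hcard : Fintype.card κ = n := by
    have h1 := b.indexEquiv ((Pi.basisFun R (Fin n)).map e.symm)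
    rw [Fintype.card_congr h1, Fintype.card_fin]
  let x : κ → R := fun i => (a i : R)
  let Dd : κ → Derivation k R R := fun i => (b.coord i).compDer (KaehlerDifferential.D k R)
  have hD : ∀ i j, Dd i (x j) = if i = j then 1 else 0 := by
    intro i j
    change b.coord i (KaehlerDifferential.D k R (a j)) = _
    have h1 : KaehlerDifferential.D k R (a j : R) = b j := (hb j).symm
    rw [h1, Module.Basis.coord_apply, Module.Basis.repr_self, Finsupp.single_apply]
    by_cases h : i = j
    · rw [if_pos h, if_pos h.symm]
    · rw [if_neg h, if_neg (Ne.symm h)]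
  have hht : (n : ℕ∞) ≤ (maximalIdeal R).height := by
    have h1 := card_le_height_of_derivations x Dd hD Finset.univ (maximalIdeal R)
      (fun t _ => (a t).2)
    rwa [Finset.card_univ, hcard] at h1
  -- the `x i` generate the maximal ideal
  have hgen : Ideal.span (Set.range x) = maximalIdeal R := by
    apply le_antisymm
    · rw [Ideal.span_le]
      rintro _ ⟨i, rfl⟩
      exact (a i).2
    · refine Submodule.le_of_le_smul_of_le_jacobson_bot
        ((isNoetherianRing_iff_ideal_fg R).mp inferInstance _)
        (IsLocalRing.maximalIdeal_le_jacobson ⊥) ?_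
      intro y hy
      let L := (cotDer hres).liftKaehlerDifferential
      have h1 : L (KaehlerDifferential.D k R y) = (maximalIdeal R).toCotangent ⟨y, hy⟩ := by
        rw [Derivation.liftKaehlerDifferential_comp_D, cotDer_apply_of_mem hres hy]
      have h2 : L (KaehlerDifferential.D k R y) = (maximalIdeal R).toCotangent
          (∑ i, b.repr (KaehlerDifferential.D k R y) i • a i) := by
        conv_lhs => rw [← b.sum_repr (KaehlerDifferential.D k R y)]
        rw [map_sum, map_sum]
        refine Finset.sum_congr rfl fun i _ => ?_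
        rw [map_smul, map_smul, hb i, Derivation.liftKaehlerDifferential_comp_D,
          cotDer_apply_of_mem hres (a i).2]
      rw [h1, Ideal.toCotangent_eq] at h2
      have h3 : y = (y - ((∑ i, b.repr (KaehlerDifferential.D k R y) i • a i :
          maximalIdeal R) : R)) + ((∑ i, b.repr (KaehlerDifferential.D k R y) i • a i :
          maximalIdeal R) : R) := by ring
      rw [h3]
      refine Submodule.add_mem_sup ?_ ?_ |> fun h => by rwa [sup_comm]
      · rw [smul_eq_mul, ← pow_two]
        exact h2
      · rw [Submodule.coe_sum]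
        refine Submodule.sum_mem _ fun i _ => ?_
        rw [Submodule.coe_smul, smul_eq_mul]
        exact Ideal.mul_mem_left _ _ (Ideal.subset_span ⟨i, rfl⟩)
  have hspan : (maximalIdeal R).spanFinrank ≤ n := by
    rw [← hgen]
    calc (Ideal.span (Set.range x)).spanFinrank ≤ (Set.range x).ncard :=
          Submodule.spanFinrank_span_le_ncard_of_finite (Set.finite_range x)
      _ ≤ Fintype.card κ := by
          rw [← Set.image_univ, ← Nat.card_eq_fintype_card, ← Set.ncard_univ]
          exact Set.ncard_image_le Set.finite_univ
      _ = n := hcard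
  have hdim_ge : (n : WithBot ℕ∞) ≤ ringKrullDim R := by
    rw [← IsLocalRing.maximalIdeal_height_eq_ringKrullDim]
    exact_mod_cast hht
  have hspan' : ((maximalIdeal R).spanFinrank : WithBot ℕ∞) ≤ (n : WithBot ℕ∞) := by
    exact_mod_cast hspan
  refine ⟨IsRegularLocalRing.of_spanFinrank_maximalIdeal_le R (hspan'.trans hdim_ge),
    le_antisymm ?_ hdim_ge⟩
  exact (ringKrullDim_le_spanFinrank_maximalIdeal R).trans hspan'

end Main

end Groth.Agent.Lib.Seat34.DerivHeight
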