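import Mathlib

/-!
# Valuation subrings of algebraically closed fields (seat 34)

For a valuation subring `V` of an algebraically closed field `Ω`:
* `mem_of_isIntegral`: elements integral over `V` lie in `V`;
* `exists_root_residue_eq`: a root of the reduction of a monic polynomial over `V` lifts to a root;
* `isAlgClosed_residueField`: the residue field of `V` is algebraically closed.
-/

set_option autoImplicit false

namespace Groth.Agent.Lib.Seat34.ValSub

open Polynomial IsLocalRing

variable {Ω : Type*} [Field Ω] (V : ValuationSubring Ω)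

theorem mem_of_isIntegral {x : Ω} (hx : IsIntegral V x) : x ∈ V := by
  obtain ⟨y, hy⟩ := (IsIntegrallyClosed.isIntegral_iff (R := V) (K := Ω)).mp hx
  rw [← hy]
  exact y.2

theorem residue_eval (P : V[X]) (a : V) :
    residue V (P.eval a) = (P.map (residue V)).eval (residue V a) :=
  (eval_map_apply (residue V) a).symm

variable [IsAlgClosed Ω]

theorem exists_root_residue_eq (P : V[X]) (hP : P.Monic) (β : ResidueField V)
    (hβ : (P.map (residue V)).eval β = 0) :
    ∃ a : V, P.eval a = 0 ∧ residue V a = β := by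
  obtain ⟨a₀, ha₀⟩ := residue_surjective β
  set Pt := P.comp (X + C a₀) with hPt
  have hmon : Pt.Monic := hP.comp_X_add_C a₀
  have hc0 : Pt.coeff 0 ∈ maximalIdeal V := by
    rw [coeff_zero_eq_eval_zero, hPt, eval_comp, ← residue_eq_zero_iff, residue_eval]
    simpa [ha₀] using hβ
  set PΩ := Pt.map (algebraMap V Ω) with hPΩ
  have hmonΩ : PΩ.Monic := hmon.map _
  have hsplit : PΩ.Splits := IsAlgClosed.splits PΩ
  have hcoeff := hsplit.coeff_zero_eq_prod_roots_of_monic hmonΩ
  have hv0 : V.valuation (PΩ.coeff 0) < 1 := by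
    rw [hPΩ, coeff_map]
    exact (V.valuation_lt_one_iff _).mp hc0
  have hvprod : V.valuation PΩ.roots.prod < 1 := by
    rw [hcoeff, map_mul, map_pow, Valuation.map_neg, map_one, one_pow, one_mul] at hv0
    exact hv0
  have hroots_le : ∀ y ∈ PΩ.roots, V.valuation y ≤ 1 := by
    intro y hy
    rw [V.valuation_le_one_iff]
    refine mem_of_isIntegral V ⟨Pt, hmon, ?_⟩
    rw [eval₂_eq_eval_map]
    exact (mem_roots'.mp hy).2
  obtain ⟨y, hy, hylt⟩ : ∃ y ∈ PΩ.roots, V.valuation y < 1 := by
    by_contra hcon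
    push Not at hcon
    have hall : ∀ z ∈ PΩ.roots.map V.valuation, z = 1 := by
      intro z hz
      obtain ⟨y, hy, rfl⟩ := Multiset.mem_map.mp hz
      exact le_antisymm (hroots_le y hy) (hcon y hy)
    rw [map_multiset_prod, Multiset.prod_eq_one hall] at hvprod
    exact lt_irrefl _ hvprod
  have hyV : y ∈ V := (V.valuation_le_one_iff y).mp (hroots_le y hy)
  have hym : (⟨y, hyV⟩ : V) ∈ maximalIdeal V := (V.valuation_lt_one_iff _).mpr hylt
  refine ⟨⟨y, hyV⟩ + a₀, ?_, ?_⟩
  · have h1 : Pt.eval (⟨y, hyV⟩ : V) = 0 := by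
      apply Subtype.val_injective
      have h2 : ((Pt.eval (⟨y, hyV⟩ : V) : V) : Ω) = PΩ.eval y := by
        rw [hPΩ]
        exact (eval_map_apply (algebraMap V Ω) (⟨y, hyV⟩ : V)).symm
      rw [h2]
      exact (mem_roots'.mp hy).2
    rw [hPt, eval_comp] at h1
    simpa using h1
  · rw [map_add, ha₀, (residue_eq_zero_iff _).mpr hym, zero_add]

theorem isAlgClosed_residueField : IsAlgClosed (ResidueField V) := by
  apply IsAlgClosed.of_exists_root
  intro p hp hirr
  have hlift : p ∈ lifts (residue V) := by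
    rw [mem_lifts]
    exact map_surjective _ residue_surjective p
  obtain ⟨P, hPmap, hdeg, hPmon⟩ := lifts_and_degree_eq_and_monic hlift hp
  have hdeg0 : (P.map (algebraMap V Ω)).degree ≠ 0 := by
    rw [degree_map_eq_of_injective (FaithfulSMul.algebraMap_injective V Ω), hdeg]
    exact (degree_pos_of_irreducible hirr).ne'
  obtain ⟨x, hx⟩ := IsAlgClosed.exists_root _ hdeg0
  have hxV : x ∈ V := mem_of_isIntegral V ⟨P, hPmon, by rw [eval₂_eq_eval_map]; exact hx⟩
  refine ⟨residue V ⟨x, hxV⟩, ?_⟩
  rw [← hPmap, ← residue_eval]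
  have h1 : P.eval (⟨x, hxV⟩ : V) = 0 := by
    apply Subtype.val_injective
    have h2 : ((P.eval (⟨x, hxV⟩ : V) : V) : Ω) = (P.map (algebraMap V Ω)).eval x :=
      (eval_map_apply (algebraMap V Ω) (⟨x, hxV⟩ : V)).symm
    rw [h2]
    exact hx
  rw [h1, map_zero]

end Groth.Agent.Lib.Seat34.ValSub
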