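import Mathlib
import Groth.Agent.Lib.Seat34ValSub

/-!
# Unramified extensions of a discretely valued field inside a valuation subring (seat 34)

Setting: `K` a field, `Ω` an algebraically closed algebraic extension, `V` a valuation subring of
`Ω`, `ϖ : K` whose image `π` has `v π < 1`.  An intermediate field `L` is `Good` if it is separable
over `K`, its value group is generated by `v π`, and the residues of `L ∩ V` lie in the range of a
fixed ring hom `σ : k' → κ_V`.  By Zorn there is a maximal good `L`; its residue field is all of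
`range σ`, and `L ∩ V` is a discrete valuation ring with uniformizer `π`.
-/

set_option autoImplicit false

namespace Groth.Agent.Lib.Seat34.DvrExt

open Polynomial IsLocalRing IntermediateField

variable {K Ω k' : Type*} [Field K] [Field Ω] [Algebra K Ω] [Field k']
variable (V : ValuationSubring Ω) (ϖ : K) (σ : k' →+* ResidueField V)

/-- The valuation subring `L ∩ V` of an intermediate field `L`. -/
abbrev DL (L : IntermediateField K Ω) : ValuationSubring L := V.comap (algebraMap L Ω)

/-- The inclusion `L ∩ V → V`. -/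
def ιD (L : IntermediateField K Ω) : DL V L →+* V :=
  ((algebraMap L Ω).comp (DL V L).subtype).codRestrict V (fun x => x.2)

@[simp] theorem ιD_coe (L : IntermediateField K Ω) (x : DL V L) :
    ((ιD V L x : V) : Ω) = ((x : L) : Ω) := rfl

theorem ιD_injective (L : IntermediateField K Ω) : Function.Injective (ιD V L) := by
  intro x y h
  have h1 : ((x : L) : Ω) = ((y : L) : Ω) := congrArg (fun z : V => (z : Ω)) h
  exact Subtype.ext (Subtype.ext h1)

theorem isUnit_DL_iff (L : IntermediateField K Ω) (x : DL V L) :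
    IsUnit x ↔ V.valuation ((x : L) : Ω) = 1 := by
  constructor
  · intro h
    have h1 : IsUnit (ιD V L x) := h.map (ιD V L)
    exact (V.valuation_eq_one_iff _).mp h1
  · intro h
    have hx0 : ((x : L) : Ω) ≠ 0 := by
      intro h0
      rw [h0, map_zero] at h
      exact zero_ne_one h
    have hxL0 : (x : L) ≠ 0 := by
      intro h0
      apply hx0
      rw [h0]; rfl
    have hinv : V.valuation (((x : L)⁻¹ : L) : Ω) ≤ 1 := by
      have : (((x : L)⁻¹ : L) : Ω) = (((x : L) : Ω))⁻¹ := rfl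
      rw [this, map_inv₀, h, inv_one]
    have hmem : ((x : L)⁻¹ : L) ∈ DL V L := (V.valuation_le_one_iff _).mp hinv
    refine isUnit_iff_exists_inv.mpr ⟨⟨(x : L)⁻¹, hmem⟩, ?_⟩
    apply Subtype.ext
    exact mul_inv_cancel₀ hxL0

instance isLocalHom_ιD (L : IntermediateField K Ω) : IsLocalHom (ιD V L) := by
  constructor
  intro x hx
  rw [isUnit_DL_iff]
  exact (V.valuation_eq_one_iff _).mp hx

/-- The induced map on residue fields. -/
noncomputable def τ (L : IntermediateField K Ω) : ResidueField (DL V L) →+* ResidueField V :=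
  ResidueField.map (ιD V L)

theorem τ_residue (L : IntermediateField K Ω) (x : DL V L) :
    τ V L (residue _ x) = residue V (ιD V L x) :=
  ResidueField.map_residue _ _

/-- Goodness of an intermediate field. -/
structure Good (L : IntermediateField K Ω) : Prop where
  sep : ∀ x ∈ L, IsSeparable K x
  val : ∀ x ∈ L, x ≠ 0 → ∃ n : ℤ, V.valuation x = V.valuation (algebraMap K Ω ϖ) ^ n
  res : ∀ x ∈ L, ∀ hx : x ∈ V, residue V ⟨x, hx⟩ ∈ σ.range

theorem good_bot
    (hval : ∀ x : K, x ≠ 0 →
      ∃ n : ℤ, V.valuation (algebraMap K Ω x) = V.valuation (algebraMap K Ω ϖ) ^ n)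
    (hres : ∀ x : K, ∀ hx : algebraMap K Ω x ∈ V, residue V ⟨_, hx⟩ ∈ σ.range) :
    Good V ϖ σ (⊥ : IntermediateField K Ω) := by
  refine ⟨?_, ?_, ?_⟩
  · intro x hx
    obtain ⟨y, rfl⟩ := IntermediateField.mem_bot.mp hx
    exact isSeparable_algebraMap y
  · intro x hx hx0
    obtain ⟨y, rfl⟩ := IntermediateField.mem_bot.mp hx
    exact hval y (fun h => hx0 (by rw [h, map_zero]))
  · intro x hx hxV
    obtain ⟨y, rfl⟩ := IntermediateField.mem_bot.mp hx
    exact hres y hxV

theorem good_sSup (c : Set (IntermediateField K Ω)) (hc : IsChain (· ≤ ·) c) (hne : c.Nonempty)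
    (hgood : ∀ L ∈ c, Good V ϖ σ L) : Good V ϖ σ (sSup c) := by
  have key : ∀ x ∈ sSup c, ∃ L ∈ c, x ∈ L := by
    intro x hx
    have := hne.to_subtype
    rw [sSup_eq_iSup', ← SetLike.mem_coe,
      coe_iSup_of_directed hc.directedOn.directed_val, Set.mem_iUnion] at hx
    obtain ⟨⟨L, hL⟩, hxL⟩ := hx
    exact ⟨L, hL, hxL⟩
  refine ⟨?_, ?_, ?_⟩
  · intro x hx
    obtain ⟨L, hL, hxL⟩ := key x hx
    exact (hgood L hL).sep x hxL
  · intro x hx
    obtain ⟨L, hL, hxL⟩ := key x hx
    exact (hgood L hL).val x hxL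
  · intro x hx
    obtain ⟨L, hL, hxL⟩ := key x hx
    exact (hgood L hL).res x hxL

theorem exists_maximal_good (h0 : Good V ϖ σ (⊥ : IntermediateField K Ω)) :
    ∃ L : IntermediateField K Ω, Maximal (Good V ϖ σ) L := by
  have ih : ∀ c ⊆ {L : IntermediateField K Ω | Good V ϖ σ L}, IsChain (· ≤ ·) c → ∀ y ∈ c,
      ∃ ub ∈ {L : IntermediateField K Ω | Good V ϖ σ L}, ∀ z ∈ c, z ≤ ub := by
    intro c hcs hc y hy
    exact ⟨sSup c, good_sSup V ϖ σ c hc ⟨y, hy⟩ (fun L hL => hcs hL), fun z hz => le_sSup hz⟩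
  obtain ⟨m, -, hm⟩ := zorn_le_nonempty₀ {L : IntermediateField K Ω | Good V ϖ σ L} ih ⊥ h0
  exact ⟨m, hm⟩


section DVR

variable {V ϖ σ}
variable {L : IntermediateField K Ω}

theorem val_pos (hπ0 : ϖ ≠ 0) : 0 < V.valuation (algebraMap K Ω ϖ) := by
  rw [zero_lt_iff, Ne, Valuation.zero_iff]
  exact fun h => hπ0 ((map_eq_zero _).mp h)

theorem exists_nat_pow (hL : Good V ϖ σ L) (hπ1 : V.valuation (algebraMap K Ω ϖ) < 1)
    (hπ0 : ϖ ≠ 0) (x : DL V L) (hx : x ≠ 0) :
    ∃ n : ℕ, V.valuation ((x : L) : Ω) = V.valuation (algebraMap K Ω ϖ) ^ n := by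
  have hx0 : ((x : L) : Ω) ≠ 0 := by
    intro h0
    apply hx
    apply Subtype.ext
    apply Subtype.ext
    exact h0
  obtain ⟨n, hn⟩ := hL.val _ (x : L).2 hx0
  have hle : V.valuation ((x : L) : Ω) ≤ 1 := (V.valuation_le_one_iff _).mpr x.2
  have hn0 : 0 ≤ n := by
    by_contra hneg
    have := one_lt_zpow_of_neg₀ (val_pos (V := V) hπ0) hπ1 (not_le.mp hneg)
    rw [← hn] at this
    exact absurd hle (not_le.mpr this)
  refine ⟨n.toNat, ?_⟩
  rw [hn, ← zpow_natCast, Int.toNat_of_nonneg hn0]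

/-- The uniformizer of `L ∩ V`. -/
def πD (L : IntermediateField K Ω) (hπ1 : V.valuation (algebraMap K Ω ϖ) < 1) : DL V L :=
  ⟨algebraMap K L ϖ, (V.valuation_le_one_iff _).mp hπ1.le⟩

theorem πD_coe (hπ1 : V.valuation (algebraMap K Ω ϖ) < 1) :
    (((πD L hπ1 : DL V L) : L) : Ω) = algebraMap K Ω ϖ := rfl

theorem associated_pow (hL : Good V ϖ σ L) (hπ1 : V.valuation (algebraMap K Ω ϖ) < 1)
    (hπ0 : ϖ ≠ 0) (x : DL V L) (hx : x ≠ 0) : ∃ n : ℕ, Associated (πD L hπ1 ^ n) x := by
  obtain ⟨n, hn⟩ := exists_nat_pow hL hπ1 hπ0 x hx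
  refine ⟨n, ?_⟩
  have hπL0 : (algebraMap K L ϖ) ≠ 0 := fun h => hπ0 ((map_eq_zero _).mp h)
  set u : L := (x : L) / (algebraMap K L ϖ) ^ n with hu
  have hvu : V.valuation ((u : L) : Ω) = 1 := by
    have h1 : ((u : L) : Ω) = ((x : L) : Ω) / (algebraMap K Ω ϖ) ^ n := rfl
    rw [h1, map_div₀, map_pow, hn]
    exact div_self (pow_ne_zero _ (val_pos (V := V) hπ0).ne')
  have humem : u ∈ DL V L := (V.valuation_le_one_iff _).mp hvu.le
  have hunit : IsUnit (⟨u, humem⟩ : DL V L) := (isUnit_DL_iff V L _).mpr hvu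
  refine ⟨hunit.unit, ?_⟩
  apply Subtype.ext
  change (algebraMap K L ϖ) ^ n * u = (x : L)
  rw [hu, mul_div_cancel₀ _ (pow_ne_zero _ hπL0)]

theorem irreducible_πD (hL : Good V ϖ σ L) (hπ1 : V.valuation (algebraMap K Ω ϖ) < 1)
    (hπ0 : ϖ ≠ 0) : Irreducible (πD L hπ1 : DL V L) := by
  have hpos := val_pos (V := V) (K := K) (Ω := Ω) hπ0
  rw [irreducible_iff]
  constructor
  · rw [isUnit_DL_iff, πD_coe]
    exact hπ1.ne
  · intro a b hab
    have hπD0 : (πD L hπ1 : DL V L) ≠ 0 := by
      intro h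
      have h1 : (((πD L hπ1 : DL V L) : L) : Ω) = 0 := by rw [h]; rfl
      rw [πD_coe] at h1
      exact hπ0 ((map_eq_zero _).mp h1)
    have ha0 : a ≠ 0 := by
      rintro rfl
      exact hπD0 (by rw [hab, zero_mul])
    have hb0 : b ≠ 0 := by
      rintro rfl
      exact hπD0 (by rw [hab, mul_zero])
    obtain ⟨i, hi⟩ := exists_nat_pow hL hπ1 hπ0 a ha0
    obtain ⟨j, hj⟩ := exists_nat_pow hL hπ1 hπ0 b hb0
    have hv : V.valuation (algebraMap K Ω ϖ) ^ 1 = V.valuation (algebraMap K Ω ϖ) ^ (i + j) := by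
      rw [pow_one, pow_add, ← hi, ← hj, ← map_mul, ← πD_coe (L := L) hπ1, hab]
      rfl
    have hij : 1 = i + j := pow_right_injective₀ hpos hπ1.ne hv
    rcases Nat.eq_zero_or_pos i with h | h
    · left
      rw [isUnit_DL_iff, hi, h, pow_zero]
    · right
      have : j = 0 := by omega
      rw [isUnit_DL_iff, hj, this, pow_zero]

theorem isDiscreteValuationRing_DL (hL : Good V ϖ σ L)
    (hπ1 : V.valuation (algebraMap K Ω ϖ) < 1) (hπ0 : ϖ ≠ 0) :
    IsDiscreteValuationRing (DL V L) :=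
  IsDiscreteValuationRing.ofHasUnitMulPowIrreducibleFactorization
    ⟨πD L hπ1, irreducible_πD hL hπ1 hπ0, fun hx => associated_pow hL hπ1 hπ0 _ hx⟩

end DVR


section Ext

variable {V ϖ σ}
variable {L : IntermediateField K Ω}

/-- The algebra structure `κ_{L ∩ V} → κ_V`. -/
@[instance_reducible]
noncomputable def algτ (V : ValuationSubring Ω) (L : IntermediateField K Ω) :
    Algebra (ResidueField (DL V L)) (ResidueField V) := (τ V L).toAlgebra

attribute [local instance] algτ

theorem algebraMap_eq_τ :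
    algebraMap (ResidueField (DL V L)) (ResidueField V) = τ V L := rfl

theorem residue_comp_ιD :
    (residue V).comp (ιD V L) = (τ V L).comp (residue (DL V L)) := by
  ext x
  exact (τ_residue V L x).symm

theorem coe_eval_map_ιD (Q : (DL V L)[X]) (a : V) :
    (((Q.map (ιD V L)).eval a : V) : Ω) = aeval (a : Ω) (Q.map (DL V L).subtype) := by
  have h1 : (((Q.map (ιD V L)).eval a : V) : Ω) = V.subtype ((Q.map (ιD V L)).eval a) := rfl
  rw [h1, eval_map, hom_eval₂, aeval_def, eval₂_map]
  rfl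

theorem residue_eval_map_ιD (Q : (DL V L)[X]) (a : V) :
    residue V ((Q.map (ιD V L)).eval a)
      = aeval (residue V a) (Q.map (residue (DL V L))) := by
  rw [ValSub.residue_eval, Polynomial.map_map, residue_comp_ιD, ← Polynomial.map_map,
    aeval_def, eval₂_eq_eval_map, algebraMap_eq_τ]

theorem exists_root_of_lift [IsAlgClosed Ω] (α : ResidueField V)
    (P : (DL V L)[X]) (hP : P.Monic)
    (hPmap : P.map (residue (DL V L)) = minpoly (ResidueField (DL V L)) α) :
    ∃ a : V, (P.map (ιD V L)).eval a = 0 ∧ residue V a = α := by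
  refine ValSub.exists_root_residue_eq V (P.map (ιD V L)) (hP.map _) α ?_
  rw [Polynomial.map_map, residue_comp_ιD, ← Polynomial.map_map, hPmap]
  have := minpoly.aeval (ResidueField (DL V L)) α
  rwa [aeval_def, eval₂_eq_eval_map, algebraMap_eq_τ] at this

omit [Field k'] in
theorem isSeparable_of_aeval_derivative_ne_zero {F E : Type*} [Field F] [Field E] [Algebra F E]
    (a : E) (P : F[X]) (h0 : aeval a P = 0) (h1 : aeval a (derivative P) ≠ 0) :
    IsSeparable F a := by
  have hP0 : P ≠ 0 := by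
    rintro rfl
    simp at h1
  have hint : IsIntegral F a := (IsAlgebraic.isIntegral ⟨P, hP0, h0⟩)
  obtain ⟨H, hH⟩ := minpoly.dvd F a h0
  have hirr := minpoly.irreducible hint
  unfold IsSeparable
  rw [separable_iff_derivative_ne_zero hirr]
  intro hd
  apply h1
  rw [hH, derivative_mul, hd, zero_mul, zero_add, map_mul, minpoly.aeval, zero_mul]

theorem isSeparable_over_K_of_over_L (hL : Good V ϖ σ L) (a : Ω) (ha : IsSeparable L a) :
    IsSeparable K a := by
  have hle : L ≤ separableClosure K Ω := fun x hx => mem_separableClosure_iff.mpr (hL.sep x hx)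
  have : Algebra.IsSeparable K L := (le_separableClosure_iff K Ω L).mp hle
  exact IsSeparable.of_algebra_isSeparable_of_isSeparable K ha

theorem exists_sep_root [IsAlgClosed Ω] [Algebra.IsAlgebraic K Ω] (hL : Good V ϖ σ L)
    (hπ1 : V.valuation (algebraMap K Ω ϖ) < 1) (hπ0 : ϖ ≠ 0)
    (α : ResidueField V) (hint : IsIntegral (ResidueField (DL V L)) α) :
    ∃ (P : (DL V L)[X]) (a : V), P.Monic ∧
      P.map (residue (DL V L)) = minpoly (ResidueField (DL V L)) α ∧
      (P.map (ιD V L)).eval a = 0 ∧ residue V a = α ∧ IsSeparable K (a : Ω) := by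
  set Pbar := minpoly (ResidueField (DL V L)) α with hPbar
  have hmon : Pbar.Monic := minpoly.monic hint
  have hirr : Irreducible Pbar := minpoly.irreducible hint
  have hsurj : Function.Surjective (residue (DL V L)) := residue_surjective
  have lift_monic : ∀ g : (ResidueField (DL V L))[X], g.Monic →
      ∃ G : (DL V L)[X], G.map (residue _) = g ∧ G.degree = g.degree ∧ G.Monic := by
    intro g hg
    have : g ∈ lifts (residue (DL V L)) := by
      rw [mem_lifts]
      exact map_surjective _ hsurj g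
    exact lifts_and_degree_eq_and_monic this hg
  rcases CharP.exists' K with hchar | ⟨p, hp, hcharp⟩
  · -- characteristic zero
    obtain ⟨P, hPmap, -, hPmon⟩ := lift_monic Pbar hmon
    obtain ⟨a, ha0, haα⟩ := exists_root_of_lift α P hPmon hPmap
    refine ⟨P, a, hPmon, hPmap, ha0, haα, ?_⟩
    have : Algebra.IsSeparable K Ω := inferInstance
    exact Algebra.IsSeparable.isSeparable K _
  · -- characteristic p
    have hpD : ((p : ℕ) : DL V L) = 0 := by
      apply ιD_injective V L
      apply Subtype.ext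
      rw [map_natCast, map_zero]
      have : CharP Ω p := charP_of_injective_algebraMap (algebraMap K Ω).injective p
      have h1 : (((p : ℕ) : V) : Ω) = ((p : ℕ) : Ω) := rfl
      rw [h1]
      exact CharP.cast_eq_zero Ω p
    have : CharP (ResidueField (DL V L)) p := by
      rw [CharP.charP_iff_prime_eq_zero hp.out]
      have : ((p : ℕ) : ResidueField (DL V L)) = residue _ ((p : ℕ) : DL V L) :=
        (map_natCast _ _).symm
      rw [this, hpD, map_zero]
    rcases separable_or p hirr with hsep | ⟨-, g, hgirr, hg⟩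
    · obtain ⟨P, hPmap, -, hPmon⟩ := lift_monic Pbar hmon
      obtain ⟨a, ha0, haα⟩ := exists_root_of_lift α P hPmon hPmap
      refine ⟨P, a, hPmon, hPmap, ha0, haα, ?_⟩
      apply isSeparable_over_K_of_over_L hL
      apply isSeparable_of_aeval_derivative_ne_zero (a : Ω) (P.map (DL V L).subtype)
      · rw [← coe_eval_map_ιD, ha0]
        rfl
      · rw [derivative_map, ← coe_eval_map_ιD]
        intro h0
        have h1 : ((derivative P).map (ιD V L)).eval a = 0 := Subtype.ext h0
        have h2 := residue_eval_map_ιD (derivative P) a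
        rw [h1, map_zero, haα, ← derivative_map, hPmap] at h2
        exact hsep.aeval_derivative_ne_zero (minpoly.aeval _ _) h2.symm
    · -- inseparable residue polynomial
      have hp0 : 0 < p := hp.out.pos
      have hgmon : g.Monic := (monic_expand_iff hp0).mp (hg ▸ hmon)
      obtain ⟨G, hGmap, hGdeg, hGmon⟩ := lift_monic g hgmon
      set P : (DL V L)[X] := expand (DL V L) p G + C (πD L hπ1) * X with hPdef
      have hGnat : 0 < G.natDegree := by
        have : G.natDegree = g.natDegree := natDegree_eq_of_degree_eq hGdeg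
        rw [this]
        exact hgirr.natDegree_pos
      have hexpmon : (expand (DL V L) p G).Monic := (monic_expand_iff hp0).mpr hGmon
      have hPmon : P.Monic := by
        apply Monic.add_of_left hexpmon
        calc degree (C (πD L hπ1) * X) ≤ 1 := degree_C_mul_X_le _
          _ < degree (expand (DL V L) p G) := by
              rw [degree_eq_natDegree hexpmon.ne_zero, natDegree_expand]
              have h2 : 2 ≤ p := hp.out.two_le
              have : 2 ≤ G.natDegree * p := by nlinarith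
              exact_mod_cast this
      have hresπ : residue (DL V L) (πD L hπ1) = 0 := by
        rw [residue_eq_zero_iff, mem_maximalIdeal, mem_nonunits_iff, isUnit_DL_iff, πD_coe]
        exact hπ1.ne
      have hPmap : P.map (residue _) = Pbar := by
        rw [hPdef, Polynomial.map_add, map_expand, hGmap, hg, Polynomial.map_mul, map_C, hresπ,
          map_zero, zero_mul, add_zero]
      obtain ⟨a, ha0, haα⟩ := exists_root_of_lift α P hPmon hPmap
      refine ⟨P, a, hPmon, hPmap, ha0, haα, ?_⟩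
      apply isSeparable_over_K_of_over_L hL
      apply isSeparable_of_aeval_derivative_ne_zero (a : Ω) (P.map (DL V L).subtype)
      · rw [← coe_eval_map_ιD, ha0]
        rfl
      · have hder : derivative P = C (πD L hπ1) := by
          rw [hPdef, derivative_add, derivative_expand, derivative_C_mul, derivative_X, mul_one]
          have : ((p : ℕ) : (DL V L)[X]) = 0 := by
            rw [← map_natCast (C : DL V L →+* (DL V L)[X]), hpD, map_zero]
          rw [this, zero_mul, mul_zero, zero_add]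
        rw [derivative_map, hder, map_C, aeval_C]
        intro h0
        have h1 : algebraMap K Ω ϖ = 0 := h0
        exact hπ0 ((map_eq_zero _).mp h1)

theorem exists_normalize (Q : (L : Type _)[X]) (hQ : Q ≠ 0) :
    ∃ c : L, c ≠ 0 ∧ ∃ Q₁ : (DL V L)[X], Q = C c * Q₁.map (DL V L).subtype ∧
      Q₁.map (residue (DL V L)) ≠ 0 ∧ Q₁.degree = Q.degree := by
  classical
  have hne : Q.support.Nonempty := support_nonempty.mpr hQ
  obtain ⟨i₀, hi₀, hmax⟩ := Finset.exists_max_image Q.support
    (fun i => V.valuation ((Q.coeff i : L) : Ω)) hne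
  set c := Q.coeff i₀ with hc
  have hc0 : c ≠ 0 := mem_support_iff.mp hi₀
  have hcΩ : ((c : L) : Ω) ≠ 0 := fun h => hc0 (Subtype.ext h)
  have hvc : V.valuation ((c : L) : Ω) ≠ 0 := by
    rw [Ne, Valuation.zero_iff]
    exact hcΩ
  have hQ'lifts : C c⁻¹ * Q ∈ lifts (DL V L).subtype := by
    rw [lifts_iff_coeff_lifts]
    intro n
    rw [coeff_C_mul]
    have hmem : c⁻¹ * Q.coeff n ∈ DL V L := by
      rw [ValuationSubring.mem_comap, ← V.valuation_le_one_iff]
      by_cases hn : n ∈ Q.support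
      · have h1 := hmax n hn
        have h2 : algebraMap L Ω (c⁻¹ * Q.coeff n) = ((c : L) : Ω)⁻¹ * ((Q.coeff n : L) : Ω) := rfl
        rw [h2, map_mul, map_inv₀]
        exact inv_mul_le_one_of_le₀ h1 zero_le
      · rw [notMem_support_iff.mp hn, mul_zero, map_zero, map_zero]
        exact zero_le
    exact ⟨⟨_, hmem⟩, rfl⟩
  obtain ⟨Q₁, hQ₁map, hQ₁deg⟩ := exists_degree_eq_of_mem_lifts hQ'lifts
  refine ⟨c, hc0, Q₁, ?_, ?_, ?_⟩
  · rw [hQ₁map, ← mul_assoc, ← C_mul, mul_inv_cancel₀ hc0, C_1, one_mul]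
  · intro h
    have h1 : (Q₁.coeff i₀ : L) = 1 := by
      have := congrArg (fun q => coeff q i₀) hQ₁map
      simp only [coeff_map, coeff_C_mul] at this
      rw [← hc, inv_mul_cancel₀ hc0] at this
      exact this
    have h2 : Q₁.coeff i₀ = 1 := Subtype.ext h1
    have h3 := congrArg (fun q => coeff q i₀) h
    simp only [coeff_map, coeff_zero, h2, map_one] at h3
    exact one_ne_zero h3
  · rw [hQ₁deg, degree_C_mul (inv_ne_zero hc0)]

theorem eval_unit_of_degree_lt (α : ResidueField V) (Q₁ : (DL V L)[X])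
    (hQ₁ : Q₁.map (residue (DL V L)) ≠ 0)
    (hdeg : (Q₁.map (residue (DL V L))).degree < (minpoly (ResidueField (DL V L)) α).degree)
    (a : V) (haα : residue V a = α) :
    V.valuation (aeval (a : Ω) (Q₁.map (DL V L).subtype)) = 1 := by
  rw [← coe_eval_map_ιD, ← V.valuation_eq_one_iff]
  by_contra hnu
  have h1 : (Q₁.map (ιD V L)).eval a ∈ maximalIdeal V := hnu
  rw [← residue_eq_zero_iff, residue_eval_map_ιD, haα] at h1
  exact absurd (minpoly.degree_le_of_ne_zero _ _ hQ₁ h1) (not_le.mpr hdeg)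

theorem residue_eval_mem_range (hL : Good V ϖ σ L) (Q₁ : (DL V L)[X]) (a : V)
    (ha : residue V a ∈ σ.range) : residue V ((Q₁.map (ιD V L)).eval a) ∈ σ.range := by
  rw [eval_eq_sum_range, map_sum]
  refine Subring.sum_mem _ fun i _ => ?_
  rw [map_mul, map_pow, coeff_map]
  refine Subring.mul_mem _ ?_ (Subring.pow_mem _ ha _)
  exact hL.res _ (Q₁.coeff i : L).2 (Q₁.coeff i).2

theorem exists_repr (a : Ω) (P : (L : Type _)[X]) (hP : P.Monic) (hroot : aeval a P = 0)
    (y : Ω) (hy : y ∈ L⟮a⟯) : ∃ Q : (L : Type _)[X], Q.degree < P.degree ∧ y = aeval a Q := by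
  have halg : IsAlgebraic L a := ⟨P, hP.ne_zero, hroot⟩
  have h1 : y ∈ (L⟮a⟯).toSubalgebra := hy
  rw [adjoin_simple_toSubalgebra_of_isAlgebraic halg, Algebra.adjoin_singleton_eq_range_aeval] at h1
  obtain ⟨Q₀, rfl⟩ := h1
  refine ⟨Q₀ %ₘ P, degree_modByMonic_lt _ hP, ?_⟩
  exact (aeval_modByMonic_eq_self_of_root hroot).symm

theorem exists_good_extension [IsAlgClosed Ω] [Algebra.IsAlgebraic K Ω] (hL : Good V ϖ σ L)
    (hπ1 : V.valuation (algebraMap K Ω ϖ) < 1) (hπ0 : ϖ ≠ 0)
    (α : ResidueField V) (hα : α ∈ σ.range) (hint : IsIntegral (ResidueField (DL V L)) α) :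
    ∃ L' : IntermediateField K Ω, L ≤ L' ∧ Good V ϖ σ L' ∧
      ∃ a : V, (a : Ω) ∈ L' ∧ residue V a = α := by
  obtain ⟨P, a, hPmon, hPmap, ha0, haα, hasep⟩ := exists_sep_root hL hπ1 hπ0 α hint
  set PL : (L : Type _)[X] := P.map (DL V L).subtype with hPL
  have hPLmon : PL.Monic := hPmon.map _
  have hPLroot : aeval (a : Ω) PL = 0 := by
    rw [hPL, ← coe_eval_map_ιD, ha0]
    rfl
  have hdegP : PL.degree = (minpoly (ResidueField (DL V L)) α).degree := by
    rw [hPL, hPmon.degree_map, ← hPmap, hPmon.degree_map]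
  -- the key description of nonzero elements of `L(a)`
  have key : ∀ y ∈ L⟮(a : Ω)⟯, y ≠ 0 → ∃ c : L, c ≠ 0 ∧ ∃ z : V,
      y = (c : Ω) * (z : Ω) ∧ V.valuation (z : Ω) = 1 ∧ residue V z ∈ σ.range := by
    intro y hy hy0
    obtain ⟨Q, hQdeg, rfl⟩ := exists_repr (a : Ω) PL hPLmon hPLroot y hy
    have hQ0 : Q ≠ 0 := by
      rintro rfl
      exact hy0 (map_zero _)
    obtain ⟨c, hc0, Q₁, hQeq, hQ₁ne, hQ₁deg⟩ := exists_normalize (V := V) Q hQ0
    refine ⟨c, hc0, (Q₁.map (ιD V L)).eval a, ?_, ?_, ?_⟩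
    · rw [coe_eval_map_ιD, hQeq, map_mul, aeval_C]
      rfl
    · rw [coe_eval_map_ιD]
      apply eval_unit_of_degree_lt α Q₁ hQ₁ne _ a haα
      calc (Q₁.map (residue (DL V L))).degree ≤ Q₁.degree := degree_map_le
        _ = Q.degree := hQ₁deg
        _ < PL.degree := hQdeg
        _ = _ := hdegP
    · exact residue_eval_mem_range hL Q₁ a (haα ▸ hα)
  refine ⟨(L⟮(a : Ω)⟯).restrictScalars K, ?_, ⟨?_, ?_, ?_⟩, a, ?_, haα⟩
  · intro x hx
    rw [mem_restrictScalars]
    exact IntermediateField.algebraMap_mem (L⟮(a : Ω)⟯) (⟨x, hx⟩ : L)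
  · -- separability
    have hle : (L⟮(a : Ω)⟯).restrictScalars K ≤ separableClosure K Ω := by
      rw [restrictScalars_adjoin_eq_sup, sup_le_iff, adjoin_simple_le_iff]
      exact ⟨fun x hx => mem_separableClosure_iff.mpr (hL.sep x hx),
        mem_separableClosure_iff.mpr hasep⟩
    intro x hx
    exact mem_separableClosure_iff.mp (hle hx)
  · -- valuation
    intro y hy hy0
    rw [mem_restrictScalars] at hy
    obtain ⟨c, hc0, z, rfl, hz, -⟩ := key y hy hy0
    have hcΩ : ((c : L) : Ω) ≠ 0 := fun h => hc0 (Subtype.ext h)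
    obtain ⟨n, hn⟩ := hL.val _ c.2 hcΩ
    exact ⟨n, by rw [map_mul, hz, mul_one, hn]⟩
  · -- residues
    intro y hy hyV
    rw [mem_restrictScalars] at hy
    by_cases hy0 : y = 0
    · subst hy0
      have : (⟨0, hyV⟩ : V) = 0 := rfl
      rw [this, map_zero]
      exact Subring.zero_mem _
    · obtain ⟨c, hc0, z, rfl, hz, hzres⟩ := key y hy hy0
      have hcV : ((c : L) : Ω) ∈ V := by
        rw [← V.valuation_le_one_iff]
        have := (V.valuation_le_one_iff _).mpr hyV
        rwa [map_mul, hz, mul_one] at this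
      have : (⟨(c : Ω) * (z : Ω), hyV⟩ : V) = ⟨(c : Ω), hcV⟩ * z := Subtype.ext rfl
      rw [this, map_mul]
      exact Subring.mul_mem _ (hL.res _ c.2 hcV) hzres
  · rw [mem_restrictScalars]
    exact mem_adjoin_simple_self L (a : Ω)

/-- For a maximal good field, every element of `range σ` integral over the residue field of
`L ∩ V` is the residue of an element of `L ∩ V`. -/
theorem exists_residue_eq_of_maximal [IsAlgClosed Ω] [Algebra.IsAlgebraic K Ω]
    (hL : Maximal (Good V ϖ σ) L)
    (hπ1 : V.valuation (algebraMap K Ω ϖ) < 1) (hπ0 : ϖ ≠ 0)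
    (α : ResidueField V) (hα : α ∈ σ.range) (hint : IsIntegral (ResidueField (DL V L)) α) :
    ∃ x : DL V L, residue V (ιD V L x) = α := by
  obtain ⟨L', hle, hgood, a, haL', haα⟩ := exists_good_extension hL.prop hπ1 hπ0 α hα hint
  have heq : L = L' := hL.eq_of_le hgood hle
  subst heq
  exact ⟨⟨⟨(a : Ω), haL'⟩, a.2⟩, haα⟩

theorem isIntegral_of_poly (α : ResidueField V) (P₀ : V[X]) (hP₀ : P₀.Monic)
    (hcoef : ∀ i, ((P₀.coeff i : V) : Ω) ∈ L) (hroot : (P₀.map (residue V)).eval α = 0) :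
    IsIntegral (ResidueField (DL V L)) α := by
  have hl : P₀ ∈ lifts (ιD V L) := by
    rw [lifts_iff_coeff_lifts]
    intro n
    exact ⟨⟨⟨_, hcoef n⟩, (P₀.coeff n).2⟩, Subtype.ext rfl⟩
  obtain ⟨Q, hQmap, -, hQmon⟩ := lifts_and_degree_eq_and_monic hl hP₀
  refine ⟨Q.map (residue (DL V L)), hQmon.map _, ?_⟩
  rw [eval₂_eq_eval_map, algebraMap_eq_τ, Polynomial.map_map, ← residue_comp_ιD,
    ← Polynomial.map_map, hQmap]
  exact hroot

theorem exists_residue_equiv (hL : Good V ϖ σ L)
    (hsurj : ∀ β : k', ∃ x : DL V L, residue V (ιD V L x) = σ β) :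
    ∃ e : ResidueField (DL V L) ≃+* k',
      ∀ x : DL V L, σ (e (residue (DL V L) x)) = residue V (ιD V L x) := by
  have hσinj : Function.Injective σ := σ.injective
  have hex : ∀ ξ : ResidueField (DL V L), ∃ β : k', σ β = τ V L ξ := by
    intro ξ
    obtain ⟨x, rfl⟩ := residue_surjective ξ
    rw [τ_residue]
    exact hL.res _ (x : L).2 x.2
  choose g hg using hex
  let G : ResidueField (DL V L) →+* k' :=
    { toFun := g
      map_one' := hσinj (by rw [hg, map_one, map_one])
      map_mul' := fun a b => hσinj (by rw [hg, map_mul, map_mul, hg, hg])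
      map_zero' := hσinj (by rw [hg, map_zero, map_zero])
      map_add' := fun a b => hσinj (by rw [hg, map_add, map_add, hg, hg]) }
  have hGbij : Function.Bijective G := by
    refine ⟨G.injective, fun β => ?_⟩
    obtain ⟨x, hx⟩ := hsurj β
    refine ⟨residue _ x, hσinj ?_⟩
    change σ (g (residue _ x)) = σ β
    rw [hg, τ_residue, hx]
  refine ⟨RingEquiv.ofBijective G hGbij, fun x => ?_⟩
  change σ (g (residue _ x)) = _
  rw [hg, τ_residue]

end Ext

section Main

variable {V ϖ σ}

attribute [local instance] algτ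

theorem exists_good_dvr [IsAlgClosed Ω] [Algebra.IsAlgebraic K Ω]
    (hπ1 : V.valuation (algebraMap K Ω ϖ) < 1) (hπ0 : ϖ ≠ 0)
    (hval : ∀ x : K, x ≠ 0 →
      ∃ n : ℤ, V.valuation (algebraMap K Ω x) = V.valuation (algebraMap K Ω ϖ) ^ n)
    (hres : ∀ x : K, ∀ hx : algebraMap K Ω x ∈ V, residue V ⟨_, hx⟩ ∈ σ.range)
    (hintg : ∀ β : k', ∃ P₀ : V[X], P₀.Monic ∧
      (∀ i, ∃ c : K, algebraMap K Ω c = ((P₀.coeff i : V) : Ω)) ∧
      (P₀.map (residue V)).eval (σ β) = 0) :
    ∃ L : IntermediateField K Ω, Good V ϖ σ L ∧ IsDiscreteValuationRing (DL V L) ∧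
      Irreducible (πD L hπ1) ∧
      ∃ e : ResidueField (DL V L) ≃+* k',
        ∀ x : DL V L, σ (e (residue (DL V L) x)) = residue V (ιD V L x) := by
  obtain ⟨L, hL⟩ := exists_maximal_good V ϖ σ (good_bot V ϖ σ hval hres)
  refine ⟨L, hL.prop, isDiscreteValuationRing_DL hL.prop hπ1 hπ0, irreducible_πD hL.prop hπ1 hπ0,
    exists_residue_equiv hL.prop fun β => ?_⟩
  obtain ⟨P₀, hP₀, hcoef, hroot⟩ := hintg β
  have hint : IsIntegral (ResidueField (DL V L)) (σ β) := by
    refine isIntegral_of_poly (σ β) P₀ hP₀ (fun i => ?_) hroot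
    obtain ⟨c, hc⟩ := hcoef i
    rw [← hc]
    exact L.algebraMap_mem c
  exact exists_residue_eq_of_maximal hL hπ1 hπ0 (σ β) ⟨β, rfl⟩ hint

end Main

end Groth.Agent.Lib.Seat34.DvrExt
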