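import Mathlib
import Groth.Agent.Lib.Seat34DvrExt

/-!
# DVR extensions with prescribed algebraic residue field (seat 34)

`exists_dvr_extension`: for a DVR `O` with residue field `k` and an algebraic extension `k'/k` there
is a DVR `O_L ⊇ O` of ramification index one with residue field `k'`, all of whose elements are
separable over `Frac O`.
-/

set_option autoImplicit false

namespace Groth.Agent.Lib.Seat34.DvrExt

open Polynomial IsLocalRing IntermediateField

universe u

section Concrete

variable (O : Type u) [CommRing O] [IsDomain O] [IsDiscreteValuationRing O]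

/-- Domination data: a valuation subring of the algebraic closure dominating `O`. -/
theorem exists_dominating :
    ∃ V : ValuationSubring (AlgebraicClosure (FractionRing O)),
      (∀ a : O, algebraMap (FractionRing O) (AlgebraicClosure (FractionRing O))
        (algebraMap O (FractionRing O) a) ∈ V) ∧
      ∀ a : O, V.valuation (algebraMap (FractionRing O) (AlgebraicClosure (FractionRing O))
        (algebraMap O (FractionRing O) a)) = 1 → IsUnit a := by
  set K := FractionRing O
  set Ω := AlgebraicClosure K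
  let i : O →+* Ω := (algebraMap K Ω).comp (algebraMap O K)
  have hi : Function.Injective i :=
    (algebraMap K Ω).injective.comp (IsFractionRing.injective O K)
  obtain ⟨V, hle, hloc⟩ := LocalSubring.exists_le_valuationSubring (LocalSubring.range i)
  have hiV : ∀ a : O, i a ∈ V := fun a => hle ⟨a, rfl⟩
  refine ⟨V, hiV, fun a ha => ?_⟩
  have hia0 : i a ≠ 0 := by
    intro h0
    have : V.valuation (i a) = 1 := ha
    rw [h0, map_zero] at this
    exact zero_ne_one this
  have hinvV : (i a)⁻¹ ∈ V := by
    rw [← V.valuation_le_one_iff, map_inv₀]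
    have : V.valuation (i a) = 1 := ha
    rw [this, inv_one]
  have hu : IsUnit (Subring.inclusion hle ⟨i a, ⟨a, rfl⟩⟩) := by
    refine isUnit_iff_exists_inv.mpr ⟨⟨(i a)⁻¹, hinvV⟩, Subtype.ext ?_⟩
    exact mul_inv_cancel₀ hia0
  have hu' := hloc.map_nonunit _ hu
  obtain ⟨⟨b', ⟨b, rfl⟩⟩, hb⟩ := isUnit_iff_exists_inv.mp hu'
  have h1 : i a * i b = 1 := congrArg Subtype.val hb
  rw [← map_mul, ← map_one i] at h1
  exact .of_mul_eq_one b (hi h1)

set_option maxHeartbeats 1000000 in
theorem exists_dvr_extension (k' : Type u) [Field k'] [Algebra (ResidueField O) k']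
    [Algebra.IsAlgebraic (ResidueField O) k'] :
    ∃ (OL : Type u) (_ : CommRing OL) (_ : IsDomain OL) (_ : IsDiscreteValuationRing OL)
      (φ : O →+* OL),
      Function.Injective φ ∧ IsLocalHom φ ∧
      Ideal.map φ (maximalIdeal O) = maximalIdeal OL ∧
      (∃ e : ResidueField OL ≃+* k',
        ∀ a : O, e (residue OL (φ a)) = algebraMap (ResidueField O) k' (residue O a)) ∧
      ∀ x : OL, ∃ p : Polynomial O, (p.map (algebraMap O (FractionRing O))).Separable ∧
        Polynomial.eval₂ φ x p = 0 := by
  classical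
  obtain ⟨V, hiV, hunit⟩ := exists_dominating O
  set K := FractionRing O with hK
  set Ω := AlgebraicClosure K with hΩ
  let i : O →+* Ω := (algebraMap K Ω).comp (algebraMap O K)
  have hi : Function.Injective i :=
    (algebraMap K Ω).injective.comp (IsFractionRing.injective O K)
  let ιO : O →+* V := i.codRestrict V hiV
  have hιO : IsLocalHom ιO := ⟨fun a ha => hunit a ((V.valuation_eq_one_iff _).mp ha)⟩
  obtain ⟨ϖ, hϖ⟩ := IsDiscreteValuationRing.exists_irreducible O
  set πK : K := algebraMap O K ϖ with hπK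
  have hπ0 : πK ≠ 0 := by
    intro h
    exact hϖ.ne_zero ((map_eq_zero_iff _ (IsFractionRing.injective O K)).mp h)
  have hπ1 : V.valuation (algebraMap K Ω πK) < 1 :=
    lt_of_le_of_ne ((V.valuation_le_one_iff _).mpr (hiV ϖ)) (fun h => hϖ.not_isUnit (hunit ϖ h))
  have hvunit : ∀ u : Oˣ, V.valuation (i u) = 1 := fun u =>
    (V.valuation_eq_one_iff (ιO u)).mp (u.isUnit.map ιO)
  have hvO : ∀ a : O, a ≠ 0 →
      ∃ n : ℕ, V.valuation (i a) = V.valuation (algebraMap K Ω πK) ^ n := by
    intro a ha
    obtain ⟨n, u, rfl⟩ := IsDiscreteValuationRing.eq_unit_mul_pow_irreducible ha hϖ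
    refine ⟨n, ?_⟩
    rw [map_mul, map_mul, hvunit, one_mul, map_pow, map_pow]
    rfl
  have hval : ∀ x : K, x ≠ 0 →
      ∃ n : ℤ, V.valuation (algebraMap K Ω x) = V.valuation (algebraMap K Ω πK) ^ n := by
    intro x hx
    rcases ValuationRing.isInteger_or_isInteger O x with ⟨a, rfl⟩ | ⟨a, ha⟩
    · have ha0 : a ≠ 0 := by
        rintro rfl
        exact hx (map_zero _)
      obtain ⟨n, hn⟩ := hvO a ha0
      exact ⟨n, by rw [zpow_natCast]; exact hn⟩
    · have ha0 : a ≠ 0 := by
        rintro rfl
        rw [map_zero] at ha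
        exact hx (inv_eq_zero.mp ha.symm)
      obtain ⟨n, hn⟩ := hvO a ha0
      refine ⟨-n, ?_⟩
      have h1 : algebraMap K Ω x = (i a)⁻¹ := by
        change _ = (algebraMap K Ω (algebraMap O K a))⁻¹
        rw [ha, map_inv₀, inv_inv]
      rw [h1, map_inv₀, hn, zpow_neg, zpow_natCast]
  have hmemO : ∀ x : K, algebraMap K Ω x ∈ V → ∃ a : O, algebraMap O K a = x := by
    intro x hx
    rcases ValuationRing.isInteger_or_isInteger O x with ⟨a, ha⟩ | ⟨a, ha⟩
    · exact ⟨a, ha⟩
    · by_cases hx0 : x = 0
      · exact ⟨0, by rw [hx0, map_zero]⟩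
      have hxΩ0 : algebraMap K Ω x ≠ 0 := fun h => hx0 ((map_eq_zero _).mp h)
      have hvx0 : V.valuation (algebraMap K Ω x) ≠ 0 := by
        rw [Ne, Valuation.zero_iff]
        exact hxΩ0
      have h3 : i a = (algebraMap K Ω x)⁻¹ := by
        change algebraMap K Ω (algebraMap O K a) = _
        rw [ha, map_inv₀]
      have hv1 : V.valuation (i a) = 1 := by
        have h1 : V.valuation (i a) ≤ 1 := (V.valuation_le_one_iff _).mpr (hiV a)
        have h2 : V.valuation (algebraMap K Ω x) ≤ 1 := (V.valuation_le_one_iff _).mpr hx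
        rw [h3, map_inv₀] at h1 ⊢
        have h4 : 1 ≤ V.valuation (algebraMap K Ω x) :=
          (inv_le_one₀ (zero_lt_iff.mpr hvx0)).mp h1
        rw [le_antisymm h2 h4, inv_one]
      obtain ⟨u, rfl⟩ := hunit a hv1
      refine ⟨((u⁻¹ : Oˣ) : O), ?_⟩
      have h5 : algebraMap O K ((u⁻¹ : Oˣ) : O) * algebraMap O K (u : O) = 1 := by
        rw [← map_mul, Units.inv_mul, map_one]
      rw [ha] at h5
      have h6 := congrArg (· * x) h5
      simp only [mul_assoc, inv_mul_cancel₀ hx0, mul_one, one_mul] at h6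
      exact h6
  -- the residue side
  let algk : Algebra (ResidueField O) (ResidueField V) := (ResidueField.map ιO).toAlgebra
  have : IsAlgClosed (ResidueField V) := ValSub.isAlgClosed_residueField V
  let σ₀ : k' →ₐ[ResidueField O] ResidueField V := IsAlgClosed.lift
  let σ : k' →+* ResidueField V := σ₀.toRingHom
  have hσ₀ : ∀ a : O, σ (algebraMap (ResidueField O) k' (residue O a)) = residue V (ιO a) := by
    intro a
    change σ₀ (algebraMap (ResidueField O) k' (residue O a)) = _
    rw [σ₀.commutes]
    rfl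
  have hres : ∀ x : K, ∀ hx : algebraMap K Ω x ∈ V, residue V ⟨_, hx⟩ ∈ σ.range := by
    intro x hx
    obtain ⟨a, rfl⟩ := hmemO x hx
    exact ⟨algebraMap (ResidueField O) k' (residue O a), hσ₀ a⟩
  have hintg : ∀ β : k', ∃ P₀ : V[X], P₀.Monic ∧
      (∀ n, ∃ c : K, algebraMap K Ω c = ((P₀.coeff n : V) : Ω)) ∧
      (P₀.map (residue V)).eval (σ β) = 0 := by
    intro β
    have hβ : IsIntegral (ResidueField O) β := Algebra.IsIntegral.isIntegral β
    have hμ : (minpoly (ResidueField O) β).Monic := minpoly.monic hβ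
    have hl : minpoly (ResidueField O) β ∈ lifts (residue O) := by
      rw [mem_lifts]
      exact map_surjective _ residue_surjective _
    obtain ⟨M, hMmap, -, hMmon⟩ := lifts_and_degree_eq_and_monic hl hμ
    refine ⟨M.map ιO, hMmon.map _, fun n => ⟨algebraMap O K (M.coeff n), ?_⟩, ?_⟩
    · rw [coeff_map]
      rfl
    · rw [Polynomial.map_map, ← ResidueField.map_comp_residue, ← Polynomial.map_map, hMmap]
      have h1 : aeval (σ₀ β) (minpoly (ResidueField O) β) = 0 := by
        rw [aeval_algHom_apply, minpoly.aeval, map_zero]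
      rwa [aeval_def, eval₂_eq_eval_map] at h1
  obtain ⟨L, hgood, hdvr, hirr, e, he⟩ :=
    exists_good_dvr (V := V) (ϖ := πK) (σ := σ) hπ1 hπ0 hval hres hintg
  let φ : O →+* DL V L :=
    ((algebraMap K L).comp (algebraMap O K)).codRestrict (DL V L) (fun a => hiV a)
  have hφcoe : ∀ a : O, (((φ a : DL V L) : L) : Ω) = i a := fun a => rfl
  have hφι : ∀ a : O, ιD V L (φ a) = ιO a := fun a => Subtype.ext rfl
  refine ⟨DL V L, inferInstance, inferInstance, hdvr, φ, ?_, ?_, ?_, ⟨e, ?_⟩, ?_⟩
  · intro a b hab
    apply hi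
    rw [← hφcoe a, ← hφcoe b, hab]
  · refine ⟨fun a ha => ?_⟩
    rw [isUnit_DL_iff] at ha
    exact hunit a ha
  · have hφϖ : φ ϖ = πD L hπ1 := Subtype.ext (Subtype.ext rfl)
    rw [hϖ.maximalIdeal_eq, Ideal.map_span, Set.image_singleton, hφϖ, hirr.maximalIdeal_eq]
  · intro a
    apply σ.injective
    rw [he, hφι, hσ₀]
  · intro x
    have hsep : IsSeparable K (((x : L) : Ω)) := hgood.sep _ (x : L).2
    have hint : IsIntegral K (((x : L) : Ω)) := hsep.isIntegral
    refine ⟨IsLocalization.integerNormalization (nonZeroDivisors O) (minpoly K ((x : L) : Ω)),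
      ?_, ?_⟩
    · obtain ⟨b, hbM, hb⟩ := IsLocalization.integerNormalization_spec (nonZeroDivisors O)
        (minpoly K ((x : L) : Ω))
      rw [hb, Algebra.smul_def]
      refine Separable.unit_mul ?_ hsep
      have hb0 : algebraMap O K b ≠ 0 := by
        intro h0
        exact nonZeroDivisors.ne_zero hbM
          ((map_eq_zero_iff _ (IsFractionRing.injective O K)).mp h0)
      have : algebraMap O K[X] b = C (algebraMap O K b) := rfl
      rw [this]
      exact (isUnit_C).mpr (IsUnit.mk0 _ hb0)
    · have hψinj : Function.Injective ((algebraMap L Ω).comp (DL V L).subtype) :=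
        (algebraMap L Ω).injective.comp Subtype.val_injective
      apply hψinj
      rw [map_zero, hom_eval₂]
      have h0 : eval₂ (algebraMap K Ω) ((x : L) : Ω) (minpoly K ((x : L) : Ω)) = 0 :=
        minpoly.aeval K _
      exact IsLocalization.integerNormalization_eval₂_eq_zero (nonZeroDivisors O)
        (algebraMap K Ω) _ h0

end Concrete

end Groth.Agent.Lib.Seat34.DvrExt
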