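import Mathlib

/-!
# Principal ideals in a UFD from saturation and local principality (seat 34)

* `exists_span_singleton_of_saturated`: in a Noetherian UFD `R`, an ideal `I` which is saturated
  with respect to an ideal `J` (`(I : J) = I`) and which is locally principal (generated by a nonzero
  element) at every prime not containing `J` is principal, generated by a nonzero element.
* `exists_span_singleton_of_saturated_localization`: the same for `I R_p` where `A` is a Noetherian
  ring, `R = A_p` is a UFD, and saturation and local principality are known on `A`.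
-/

set_option autoImplicit false

namespace Groth.Agent.Lib.Seat34.ExtendCartierAlg

theorem exists_span_singleton_of_saturated {R : Type*} [CommRing R] [IsDomain R]
    [IsNoetherianRing R] [UniqueFactorizationMonoid R] (I J : Ideal R)
    (hsat : ∀ a : R, (∀ c ∈ J, c * a ∈ I) → a ∈ I)
    (hloc : ∀ P : Ideal R, P.IsPrime → ¬ J ≤ P →
      ∃ f ∈ I, f ≠ 0 ∧ ∀ a ∈ I, ∃ s, s ∉ P ∧ ∃ b, s * a = b * f) :
    ∃ g : R, g ≠ 0 ∧ I = Ideal.span {g} := by
  classical
  obtain ⟨_⟩ : Nonempty (NormalizedGCDMonoid R) := inferInstance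
  -- `I` contains a nonzero element
  have hI0 : ∃ f ∈ I, f ≠ 0 := by
    by_cases hJ : J = ⊥
    · refine ⟨1, hsat 1 (fun c hc => ?_), one_ne_zero⟩
      rw [hJ, Ideal.mem_bot] at hc
      rw [hc, zero_mul]
      exact I.zero_mem
    · obtain ⟨f, hf, hf0, -⟩ := hloc ⊥ Ideal.isPrime_bot (fun h => hJ (le_bot_iff.mp h))
      exact ⟨f, hf, hf0⟩
  obtain ⟨S, hS⟩ := (IsNoetherian.noetherian I : I.FG)
  have hSI : ∀ s ∈ S, s ∈ I := fun s hs => hS ▸ Ideal.subset_span hs
  have hSne : ∃ x ∈ S, (id x : R) ≠ 0 := by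
    by_contra! hall
    obtain ⟨f, hf, hf0⟩ := hI0
    apply hf0
    have : I = ⊥ := by
      rw [← hS, Ideal.span_eq_bot]
      intro x hx
      exact hall x hx
    rw [this] at hf
    exact hf
  have hSnonempty : S.Nonempty := by
    obtain ⟨x, hx, -⟩ := hSne
    exact ⟨x, hx⟩
  obtain ⟨s', hs', hgcd⟩ := Finset.extract_gcd (id : R → R) hSnonempty
  have hg0 : S.gcd id ≠ 0 := Finset.gcd_ne_zero_iff.mpr hSne
  have hIle : I ≤ Ideal.span {S.gcd id} := by
    rw [← hS, Ideal.span_le]
    intro x hx
    rw [SetLike.mem_coe, Ideal.mem_span_singleton]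
    exact Finset.gcd_dvd (f := id) hx
  refine ⟨S.gcd id, hg0, le_antisymm hIle ?_⟩
  rw [Ideal.span_singleton_le_iff_mem]
  by_contra hgI
  -- an associated prime of `R ⧸ I` containing `(I : g)`
  have hne : (Ideal.Quotient.mk I (S.gcd id)) ≠ 0 := by
    rwa [Ne, Ideal.Quotient.eq_zero_iff_mem]
  obtain ⟨P, hPass, hPle⟩ := exists_le_isAssociatedPrime_of_isNoetherianRing R
    (Ideal.Quotient.mk I (S.gcd id)) hne
  rw [isAssociatedPrime_iff] at hPass
  obtain ⟨hPprime, y, hPy⟩ := hPass
  obtain ⟨y, rfl⟩ := Ideal.Quotient.mk_surjective y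
  have hmemP : ∀ r : R, r ∈ P ↔ r * y ∈ I := by
    intro r
    rw [hPy, Submodule.mem_colon_singleton, Submodule.mem_bot]
    change Ideal.Quotient.mk I (r * y) = 0 ↔ _
    rw [Ideal.Quotient.eq_zero_iff_mem]
  have hcolon : ∀ r : R, r * S.gcd id ∈ I → r ∈ P := by
    intro r hr
    apply hPle
    rw [Submodule.mem_colon_singleton, Submodule.mem_bot]
    change Ideal.Quotient.mk I (r * S.gcd id) = 0
    rwa [Ideal.Quotient.eq_zero_iff_mem]
  have hyI : y ∉ I := by
    intro hy
    apply hPprime.ne_top
    rw [Ideal.eq_top_iff_one, hmemP, one_mul]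
    exact hy
  by_cases hJP : J ≤ P
  · exact hyI (hsat y (fun c hc => (hmemP c).mp (hJP hc)))
  · obtain ⟨f, hfI, hf0, hf⟩ := hloc P hPprime hJP
    obtain ⟨f', hf'⟩ : S.gcd id ∣ f := by
      have := hIle hfI
      rwa [Ideal.mem_span_singleton] at this
    have hf'P : f' ∈ P := by
      apply hcolon
      rw [mul_comm, ← hf']
      exact hfI
    have hf'0 : f' ≠ 0 := by
      rintro rfl
      rw [mul_zero] at hf'
      exact hf0 hf'
    -- a prime factor of `f'` lying in `P`
    obtain ⟨π, hπ, hπf', hπP⟩ : ∃ π : R, Prime π ∧ π ∣ f' ∧ π ∈ P := by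
      obtain ⟨fs, hfs, u, hu⟩ := UniqueFactorizationMonoid.exists_prime_factors f' hf'0
      have hprod : fs.prod ∈ P := by
        have h1 : fs.prod * (u : R) ∈ P := by rwa [hu]
        rcases hPprime.mem_or_mem h1 with h | h
        · exact h
        · exact absurd (Ideal.eq_top_of_isUnit_mem _ h u.isUnit) hPprime.ne_top
      obtain ⟨π, hπfs, hπP⟩ := (hPprime.multiset_prod_mem_iff_exists_mem fs).mp hprod
      refine ⟨π, hfs π hπfs, ?_, hπP⟩
      rw [← hu]
      exact Dvd.dvd.mul_right (Multiset.dvd_prod hπfs) _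
    -- `π` divides every `s' x`
    have hπs' : ∀ x ∈ S, π ∣ s' x := by
      intro x hx
      obtain ⟨s, hsP, b, hsb⟩ := hf x (hSI x hx)
      have h1 : s * s' x = b * f' := by
        have hx' : x = S.gcd id * s' x := hs' x hx
        have h2 : S.gcd id * (s * s' x) = S.gcd id * (b * f') := by
          calc S.gcd id * (s * s' x) = s * (S.gcd id * s' x) := by ring
            _ = s * x := by rw [← hx']
            _ = b * f := hsb
            _ = b * (S.gcd id * f') := by rw [hf']
            _ = S.gcd id * (b * f') := by ring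
        exact mul_left_cancel₀ hg0 h2
      have h3 : π ∣ s * s' x := by
        rw [h1]
        exact Dvd.dvd.mul_left hπf' b
      rcases hπ.dvd_or_dvd h3 with h | h
      · exfalso
        apply hsP
        obtain ⟨k, rfl⟩ := h
        exact P.mul_mem_right _ hπP
      · exact h
    have : π ∣ S.gcd s' := Finset.dvd_gcd hπs'
    rw [hgcd] at this
    exact hπ.not_isUnit (isUnit_of_dvd_one this)

/-- A finitely generated ideal all of whose elements are moved into `Q` by some element outside the
prime `p` is moved into `Q` by a single element outside `p`. -/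
theorem exists_notMem_forall_mul_mem {A : Type*} [CommRing A] (I : Ideal A) (hI : I.FG)
    (Q : Ideal A) (p : Ideal A) [p.IsPrime] (h : ∀ i ∈ I, ∃ u, u ∉ p ∧ u * i ∈ Q) :
    ∃ f, f ∉ p ∧ ∀ i ∈ I, f * i ∈ Q := by
  classical
  obtain ⟨s, rfl⟩ := hI
  have key : ∀ t : Finset A, (∀ i ∈ t, ∃ u, u ∉ p ∧ u * i ∈ Q) →
      ∃ f, f ∉ p ∧ ∀ i ∈ t, f * i ∈ Q := by
    intro t
    induction t using Finset.induction_on with
    | empty =>
      intro _
      exact ⟨1, fun h1 => Ideal.IsPrime.ne_top' ((Ideal.eq_top_iff_one p).mpr h1), by simp⟩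
    | insert a t _ ih =>
      intro ht
      obtain ⟨f, hf, hft⟩ := ih (fun i hi => ht i (Finset.mem_insert_of_mem hi))
      obtain ⟨u, hu, hua⟩ := ht a (Finset.mem_insert_self a t)
      refine ⟨u * f, fun hmem => ?_, ?_⟩
      · rcases Ideal.IsPrime.mem_or_mem inferInstance hmem with h1 | h1
        · exact hu h1
        · exact hf h1
      · intro i hi
        rcases Finset.mem_insert.mp hi with rfl | hi
        · have : u * f * i = f * (u * i) := by ring
          rw [this]
          exact Q.mul_mem_left _ hua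
        · have : u * f * i = u * (f * i) := by ring
          rw [this]
          exact Q.mul_mem_left _ (hft i hi)
  obtain ⟨f, hf, hfs⟩ := key s (fun i hi => h i (Ideal.subset_span hi))
  refine ⟨f, hf, fun i hi => ?_⟩
  induction hi using Submodule.span_induction with
  | mem x hx => exact hfs x hx
  | zero => simp
  | add x y _ _ hx hy =>
    rw [mul_add]
    exact Q.add_mem hx hy
  | smul a x _ hx =>
    have : f * (a • x) = a * (f * x) := by
      simp only [smul_eq_mul]
      ring
    rw [this]
    exact Q.mul_mem_left _ hx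

theorem exists_span_singleton_of_saturated_localization {A : Type*} [CommRing A]
    [IsNoetherianRing A] (p : Ideal A) [p.IsPrime] (R : Type*) [CommRing R] [Algebra A R]
    [IsLocalization.AtPrime R p] [IsDomain R] [UniqueFactorizationMonoid R] (I J : Ideal A)
    (hsat : ∀ a : A, (∀ c ∈ J, c * a ∈ I) → a ∈ I)
    (hloc : ∀ q : Ideal A, q.IsPrime → q ≤ p → ¬ J ≤ q →
      ∃ f ∈ I, (∀ t : A, t * f = 0 → ∃ s, s ∉ q ∧ s * t = 0) ∧
        ∀ a ∈ I, ∃ s, s ∉ q ∧ ∃ b, s * a = b * f) :
    ∃ g : R, g ∈ nonZeroDivisors R ∧ I.map (algebraMap A R) = Ideal.span {g} := by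
  have hN : IsNoetherianRing R := IsLocalization.isNoetherianRing p.primeCompl R inferInstance
  suffices h : ∃ g : R, g ≠ 0 ∧ I.map (algebraMap A R) = Ideal.span {g} by
    obtain ⟨g, hg0, hg⟩ := h
    exact ⟨g, mem_nonZeroDivisors_of_ne_zero hg0, hg⟩
  apply exists_span_singleton_of_saturated (I.map (algebraMap A R)) (J.map (algebraMap A R))
  · -- saturation
    intro a' ha'
    obtain ⟨a, ⟨t, ht⟩, rfl⟩ := IsLocalization.exists_mk'_eq p.primeCompl a'
    have h1 : ∀ c ∈ J, ∃ u, u ∉ p ∧ u * c ∈ (Submodule.colon (I : Submodule A A) {a} : Ideal A) := by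
      intro c hc
      have h2 : algebraMap A R c * IsLocalization.mk' R a (⟨t, ht⟩ : p.primeCompl) ∈
          I.map (algebraMap A R) := ha' _ (Ideal.mem_map_of_mem _ hc)
      have h3 : algebraMap A R (c * a) ∈ I.map (algebraMap A R) := by
        have : algebraMap A R (c * a) = algebraMap A R t *
            (algebraMap A R c * IsLocalization.mk' R a (⟨t, ht⟩ : p.primeCompl)) := by
          rw [map_mul]
          have := IsLocalization.mk'_spec' R a (⟨t, ht⟩ : p.primeCompl)
          simp only at this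
          rw [← this]
          ring
        rw [this]
        exact Ideal.mul_mem_left _ _ h2
      obtain ⟨⟨⟨i, hi⟩, ⟨u, hu⟩⟩, hiu⟩ := (IsLocalization.mem_map_algebraMap_iff p.primeCompl R).mp h3
      simp only at hiu
      rw [← map_mul] at hiu
      obtain ⟨⟨v, hv⟩, hv2⟩ := (IsLocalization.eq_iff_exists p.primeCompl R).mp hiu
      simp only at hv2
      refine ⟨v * u, fun hmem => ?_, ?_⟩
      · rcases Ideal.IsPrime.mem_or_mem inferInstance hmem with h | h
        · exact hv h
        · exact hu h
      · rw [Submodule.mem_colon_singleton, smul_eq_mul]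
        have : v * u * c * a = v * i := by
          rw [← hv2]
          ring
        rw [this]
        exact Ideal.mul_mem_left _ _ hi
    obtain ⟨w, hw, hwJ⟩ := exists_notMem_forall_mul_mem J (IsNoetherian.noetherian J) _ p h1
    have h4 : w * a ∈ I := by
      apply hsat
      intro c hc
      have := hwJ c hc
      rw [Submodule.mem_colon_singleton, smul_eq_mul] at this
      have e : c * (w * a) = w * c * a := by ring
      rw [e]
      exact this
    have hwu : IsUnit (algebraMap A R w) := IsLocalization.map_units R (⟨w, hw⟩ : p.primeCompl)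
    have h5 : algebraMap A R a ∈ I.map (algebraMap A R) := by
      have h6 : algebraMap A R (w * a) ∈ I.map (algebraMap A R) := Ideal.mem_map_of_mem _ h4
      rw [map_mul] at h6
      exact (Ideal.unit_mul_mem_iff_mem _ hwu).mp h6
    rw [IsLocalization.mk'_eq_mul_mk'_one]
    exact Ideal.mul_mem_right _ _ h5
  · -- local principality
    intro P hP hJP
    have hq : (P.comap (algebraMap A R)).IsPrime := Ideal.comap_isPrime _ P
    have hqp : P.comap (algebraMap A R) ≤ p := by
      intro r hr
      by_contra hrp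
      have hru : IsUnit (algebraMap A R r) := IsLocalization.map_units R (⟨r, hrp⟩ : p.primeCompl)
      exact hP.ne_top (Ideal.eq_top_of_isUnit_mem _ hr hru)
    have hJq : ¬ J ≤ P.comap (algebraMap A R) := fun h => hJP (Ideal.map_le_iff_le_comap.mpr h)
    obtain ⟨f, hfI, hfnzd, hf⟩ := hloc _ hq hqp hJq
    refine ⟨algebraMap A R f, Ideal.mem_map_of_mem _ hfI, ?_, ?_⟩
    · intro h0
      obtain ⟨⟨t, ht⟩, ht2⟩ := (IsLocalization.map_eq_zero_iff p.primeCompl R f).mp h0
      simp only at ht2
      obtain ⟨s, hs, hst⟩ := hfnzd t ht2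
      have : s * t ∈ P.comap (algebraMap A R) := by
        rw [hst]
        exact Ideal.zero_mem _
      rcases hq.mem_or_mem this with h | h
      · exact hs h
      · exact ht (hqp h)
    · intro a' ha'
      obtain ⟨⟨⟨i, hi⟩, ⟨u, hu⟩⟩, hiu⟩ := (IsLocalization.mem_map_algebraMap_iff p.primeCompl R).mp ha'
      simp only at hiu
      obtain ⟨s, hs, b, hsb⟩ := hf i hi
      have huu : IsUnit (algebraMap A R u) := IsLocalization.map_units R (⟨u, hu⟩ : p.primeCompl)
      obtain ⟨uu, huu'⟩ := huu
      refine ⟨algebraMap A R s, hs, algebraMap A R b * ↑uu⁻¹, ?_⟩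
      have h1 : a' = algebraMap A R i * ↑uu⁻¹ := by
        rw [← hiu, ← huu', mul_assoc, Units.mul_inv, mul_one]
      rw [h1]
      calc algebraMap A R s * (algebraMap A R i * ↑uu⁻¹)
          = algebraMap A R (s * i) * ↑uu⁻¹ := by rw [map_mul]; ring
        _ = algebraMap A R (b * f) * ↑uu⁻¹ := by rw [hsb]
        _ = algebraMap A R b * ↑uu⁻¹ * algebraMap A R f := by rw [map_mul]; ring

/-- Elementwise form of "`I S` is generated by a nonzerodivisor" for `S = A_q`. -/
theorem exists_elementwise_of_map_eq_span {A : Type*} [CommRing A] (q : Ideal A) [q.IsPrime]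
    (S : Type*) [CommRing S] [Algebra A S] [IsLocalization.AtPrime S q] (I : Ideal A) (g : S)
    (hg : g ∈ nonZeroDivisors S) (hI : I.map (algebraMap A S) = Ideal.span {g}) :
    ∃ f ∈ I, (∀ t : A, t * f = 0 → ∃ s, s ∉ q ∧ s * t = 0) ∧
      ∀ a ∈ I, ∃ s, s ∉ q ∧ ∃ b, s * a = b * f := by
  have hgI : g ∈ I.map (algebraMap A S) := by
    rw [hI]
    exact Ideal.mem_span_singleton_self g
  obtain ⟨⟨⟨f, hf⟩, ⟨t, ht⟩⟩, hft⟩ := (IsLocalization.mem_map_algebraMap_iff q.primeCompl S).mp hgI
  simp only at hft
  have htu : IsUnit (algebraMap A S t) := IsLocalization.map_units S (⟨t, ht⟩ : q.primeCompl)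
  have hfnzd : algebraMap A S f ∈ nonZeroDivisors S := by
    rw [← hft]
    exact mul_mem hg htu.mem_nonZeroDivisors
  have hspan : Ideal.span {g} = Ideal.span {algebraMap A S f} := by
    rw [← hft]
    exact (Ideal.span_singleton_mul_right_unit htu g).symm
  refine ⟨f, hf, ?_, ?_⟩
  · intro t' ht'
    have h1 : algebraMap A S t' = 0 := by
      have : algebraMap A S t' * algebraMap A S f = 0 := by
        rw [← map_mul, ht', map_zero]
      exact (mem_nonZeroDivisors_iff_right.mp hfnzd) _ this
    obtain ⟨⟨s, hs⟩, hs2⟩ := (IsLocalization.map_eq_zero_iff q.primeCompl S t').mp h1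
    exact ⟨s, hs, hs2⟩
  · intro a ha
    have h1 : algebraMap A S a ∈ Ideal.span {algebraMap A S f} := by
      rw [← hspan, ← hI]
      exact Ideal.mem_map_of_mem _ ha
    obtain ⟨c, hc⟩ := Ideal.mem_span_singleton'.mp h1
    obtain ⟨⟨b, ⟨t', ht'⟩⟩, hbt⟩ := IsLocalization.surj q.primeCompl c
    simp only at hbt
    have h2 : algebraMap A S (a * t') = algebraMap A S (b * f) := by
      rw [map_mul, map_mul, ← hc, ← hbt]
      ring
    obtain ⟨⟨u, hu⟩, hu2⟩ := (IsLocalization.eq_iff_exists q.primeCompl S).mp h2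
    simp only at hu2
    refine ⟨u * t', fun hmem => ?_, u * b, ?_⟩
    · rcases Ideal.IsPrime.mem_or_mem inferInstance hmem with h | h
      · exact hu h
      · exact ht' h
    · calc u * t' * a = u * (a * t') := by ring
        _ = u * (b * f) := hu2
        _ = u * b * f := by ring

end Groth.Agent.Lib.Seat34.ExtendCartierAlg
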