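import Mathlib
import Groth.Prelude.Def_BlowUp2
import Groth.Agent.Lib.Helper20RelCartier

/-!
# Effective Cartier ideal sheaves: pointwise form, flat pullback and fppf descent (seat 48)

Namespace `Groth.Agent.Lib.Seat48.EffCartier`.
* `exists_away_principal`: algebra. `A ⟶ B` flat with open map on spectra, `J B = (g)` with `g` a
  nonzerodivisor, `q` a prime of `B`: there are `s`, `f ∈ J` with `s ∉ q ∩ A`, `J A_s = (f)` and `f` a
  nonzerodivisor of `A_s`.
* `EffAt I x`: `I` is generated by one nonzerodivisor on some affine open neighbourhood of `x`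
  (`BlowUp.IsEffCartierIdeal I ↔ ∀ x, EffAt I x` by `Iff.rfl`).
* `EffAt.comap` (flat pullback), `EffAt.of_comap` (descent along flat + locally finitely presented),
  `isEffCartierIdeal_of_comap` (global form, with surjectivity).
-/

set_option autoImplicit false
universe u
open CategoryTheory AlgebraicGeometry

namespace Groth.Agent.Lib.Seat48.EffCartier

open nonZeroDivisors
open Groth.Agent.Lib.Helper20

/-- step 1: a generator of `J B = (g)` coming from `J`, up to a factor outside a given prime. -/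
theorem exists_mem_map_eq_mul {A B : Type u} [CommRing A] [CommRing B] [Algebra A B]
    (J : Ideal A) (g : B) (hg : g ∈ B⁰) (hJ : J.map (algebraMap A B) = Ideal.span {g})
    (q : PrimeSpectrum B) :
    ∃ (f : A) (c : B), f ∈ J ∧ c ∉ q.asIdeal ∧ algebraMap A B f = c * g := by
  by_contra hcon
  push Not at hcon
  have hle : J.map (algebraMap A B) ≤ q.asIdeal * Ideal.span {g} := by
    rw [Ideal.map_le_iff_le_comap]
    intro f hf
    have h1 : algebraMap A B f ∈ Ideal.span {g} := hJ ▸ Ideal.mem_map_of_mem _ hf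
    obtain ⟨c, hc⟩ := Ideal.mem_span_singleton'.1 h1
    refine Ideal.mem_mul_span_singleton.2 ⟨c, ?_, hc⟩
    by_contra hcq'
    exact hcon f c hf hcq' hc.symm
  have h2 : g ∈ q.asIdeal * Ideal.span {g} := hle (hJ ▸ Ideal.mem_span_singleton_self g)
  obtain ⟨c, hcq, hc⟩ := Ideal.mem_mul_span_singleton.1 h2
  have h3 : (c - 1) * g = 0 := by rw [sub_mul, hc, one_mul, sub_self]
  have h4 : c - 1 = 0 := (mem_nonZeroDivisors_iff_right.1 hg) _ h3
  have h5 : c = 1 := sub_eq_zero.1 h4
  exact q.isPrime.ne_top ((Ideal.eq_top_iff_one _).2 (h5 ▸ hcq))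

/-- step 3: the localized map `A_s ⟶ B_{c φ(s)}` is faithfully flat when `D(s) ⊆ φ^*(D(c))`. -/
theorem away_principal {A B : Type u} [CommRing A] [CommRing B] [Algebra A B] [Module.Flat A B]
    (J : Ideal A) (g : B) (hg : g ∈ B⁰) (hJ : J.map (algebraMap A B) = Ideal.span {g})
    (f s : A) (c : B) (hfc : algebraMap A B f = c * g)
    (hsub : (PrimeSpectrum.basicOpen s : Set (PrimeSpectrum A)) ⊆
      PrimeSpectrum.comap (algebraMap A B) '' (PrimeSpectrum.basicOpen c : Set (PrimeSpectrum B)))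
    (A' : Type u) [CommRing A'] [Algebra A A'] [IsLocalization.Away s A'] :
    algebraMap A A' f ∈ A'⁰ ∧ J.map (algebraMap A A') = Ideal.span {algebraMap A A' f} := by
  let t : B := c * algebraMap A B s
  let B' := Localization.Away t
  have htu : IsUnit (algebraMap B B' t) := IsLocalization.Away.algebraMap_isUnit t
  have hcu : IsUnit (algebraMap B B' c) := by
    rw [map_mul] at htu
    exact isUnit_of_mul_isUnit_left htu
  have hsu : IsUnit (((algebraMap B B').comp (algebraMap A B)) s) := by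
    rw [map_mul] at htu
    exact isUnit_of_mul_isUnit_right htu
  let ψ : A' →+* B' := IsLocalization.Away.lift s hsu
  let _ : Algebra A' B' := ψ.toAlgebra
  have hψ : ∀ a : A, ψ (algebraMap A A' a) = algebraMap B B' (algebraMap A B a) :=
    fun a => IsLocalization.Away.lift_eq s hsu a
  have : IsScalarTower A A' B' := IsScalarTower.of_algebraMap_eq (fun a => by
    rw [IsScalarTower.algebraMap_apply A B B']
    exact (hψ a).symm)
  have : Module.Flat B B' := IsLocalization.flat B' (Submonoid.powers t)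
  have : Module.Flat A B' := Module.Flat.trans A B B'
  have : Module.Flat A' B' := (Module.flat_iff_of_isLocalization A' (Submonoid.powers s) B').2 inferInstance
  -- surjectivity on spectra
  have hsurj : Function.Surjective (PrimeSpectrum.comap (algebraMap A' B')) := by
    intro p'
    have hp0 : PrimeSpectrum.comap (algebraMap A A') p' ∈
        (PrimeSpectrum.basicOpen s : Set (PrimeSpectrum A)) := by
      rw [← PrimeSpectrum.localization_away_comap_range A' s]
      exact ⟨p', rfl⟩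
    obtain ⟨q', hq'c, hq'⟩ := hsub hp0
    have hq't : q' ∈ (PrimeSpectrum.basicOpen t : Set (PrimeSpectrum B)) := by
      show t ∉ q'.asIdeal
      intro ht
      rcases q'.isPrime.mem_or_mem ht with h | h
      · exact hq'c h
      · have : s ∈ (PrimeSpectrum.comap (algebraMap A B) q').asIdeal := h
        rw [hq'] at this
        exact hp0 this
    rw [← PrimeSpectrum.localization_away_comap_range B' t] at hq't
    obtain ⟨q'', hq''⟩ := hq't
    refine ⟨q'', PrimeSpectrum.localization_comap_injective A' (Submonoid.powers s) ?_⟩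
    rw [← hq', ← hq'']
    ext a
    simp only [PrimeSpectrum.comap_asIdeal, Ideal.mem_comap]
    rw [← IsScalarTower.algebraMap_apply A A' B', IsScalarTower.algebraMap_apply A B B']
  have : Module.FaithfullyFlat A' B' := Module.FaithfullyFlat.of_comap_surjective hsurj
  have hinj : Function.Injective (algebraMap A' B') := FaithfulSMul.algebraMap_injective A' B'
  have hg' : algebraMap B B' g ∈ B'⁰ :=
    IsLocalization.map_nonZeroDivisors_le (Submonoid.powers t) B' (Submonoid.mem_map_of_mem _ hg)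
  have hf' : algebraMap A' B' (algebraMap A A' f) = algebraMap B B' c * algebraMap B B' g := by
    rw [← IsScalarTower.algebraMap_apply A A' B', IsScalarTower.algebraMap_apply A B B', hfc,
      map_mul]
  constructor
  · rw [mem_nonZeroDivisors_iff_right]
    intro x hx
    apply hinj
    have h1 : algebraMap A' B' x * (algebraMap B B' c * algebraMap B B' g) = 0 := by
      rw [← hf', ← map_mul, hx, map_zero]
    have h2 : algebraMap B B' c * algebraMap B B' g ∈ B'⁰ :=
      mul_mem hcu.mem_nonZeroDivisors hg'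
    rw [map_zero]
    exact (mem_nonZeroDivisors_iff_right.1 h2) _ h1
  · rw [← Ideal.comap_map_eq_self_of_faithfullyFlat (B := B') (J.map (algebraMap A A')),
      ← Ideal.comap_map_eq_self_of_faithfullyFlat (B := B') (Ideal.span {algebraMap A A' f})]
    congr 1
    rw [Ideal.map_map, Ideal.map_span, Set.image_singleton, hf',
      Ideal.span_singleton_mul_left_unit hcu]
    have : (algebraMap A' B').comp (algebraMap A A') = (algebraMap B B').comp (algebraMap A B) := by
      ext a
      simp only [RingHom.comp_apply]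
      rw [← IsScalarTower.algebraMap_apply A A' B', IsScalarTower.algebraMap_apply A B B']
    rw [this, ← Ideal.map_map, hJ, Ideal.map_span, Set.image_singleton]

/-- the algebra behind descent of effective Cartier ideals along flat open maps. -/
theorem exists_away_principal {A B : Type u} [CommRing A] [CommRing B] [Algebra A B]
    [Module.Flat A B] (hopen : IsOpenMap (PrimeSpectrum.comap (algebraMap A B)))
    (J : Ideal A) (g : B) (hg : g ∈ B⁰) (hJ : J.map (algebraMap A B) = Ideal.span {g})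
    (q : PrimeSpectrum B) :
    ∃ s f : A, algebraMap A B s ∉ q.asIdeal ∧ f ∈ J ∧
      ∀ (A' : Type u) [CommRing A'] [Algebra A A'] [IsLocalization.Away s A'],
        algebraMap A A' f ∈ A'⁰ ∧ J.map (algebraMap A A') = Ideal.span {algebraMap A A' f} := by
  obtain ⟨f, c, hfJ, hcq, hfc⟩ := exists_mem_map_eq_mul J g hg hJ q
  have hT : IsOpen (PrimeSpectrum.comap (algebraMap A B) ''
      (PrimeSpectrum.basicOpen c : Set (PrimeSpectrum B))) := hopen _ (PrimeSpectrum.basicOpen c).2
  have hp : PrimeSpectrum.comap (algebraMap A B) q ∈ PrimeSpectrum.comap (algebraMap A B) ''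
      (PrimeSpectrum.basicOpen c : Set (PrimeSpectrum B)) := ⟨q, hcq, rfl⟩
  obtain ⟨_, ⟨s, rfl⟩, hps, hsub⟩ :=
    PrimeSpectrum.isTopologicalBasis_basic_opens.exists_subset_of_mem_open hp hT
  exact ⟨s, f, hps, hfJ, fun A' _ _ _ => away_principal J g hg hJ f s c hfc hsub A'⟩

variable {X : Scheme.{u}}

/-- pointwise form of `BlowUp.IsEffCartierIdeal`. -/
def EffAt (I : X.IdealSheafData) (x : X) : Prop :=
  ∃ U : X.affineOpens, x ∈ U.1 ∧
    ∃ f : Γ(X, U.1), f ∈ Γ(X, U.1)⁰ ∧ I.ideal U = Ideal.span {f}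

theorem isEffCartierIdeal_iff_forall_effAt (I : X.IdealSheafData) :
    BlowUp.IsEffCartierIdeal I ↔ ∀ x, EffAt I x := Iff.rfl

/-- the local generator can be found on arbitrarily small affine opens. -/
theorem EffAt.exists_le {I : X.IdealSheafData} {x : X} (h : EffAt I x) (W : X.Opens)
    (hxW : x ∈ W) :
    ∃ (U : X.Opens) (hU : IsAffineOpen U), x ∈ U ∧ U ≤ W ∧
      ∃ f : Γ(X, U), f ∈ Γ(X, U)⁰ ∧ I.ideal ⟨U, hU⟩ = Ideal.span {f} := by
  obtain ⟨U', hxU', a, ha, hIa⟩ := h
  obtain ⟨r, hrW, hxr⟩ := U'.2.exists_basicOpen_le ⟨x, hxW⟩ hxU'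
  refine ⟨X.basicOpen r, U'.2.basicOpen r, hxr, hrW,
    (X.presheaf.map (homOfLE (X.basicOpen_le r)).op).hom a, ?_, ?_⟩
  · have inst := U'.2.isLocalization_basicOpen r
    have h1 : (X.presheaf.map (homOfLE (X.basicOpen_le r)).op).hom = algebraMap _ _ := rfl
    rw [h1]
    exact IsLocalization.map_nonZeroDivisors_le (.powers r) _ (Submonoid.mem_map_of_mem _ ha)
  · have h2 := I.map_ideal_basicOpen U' r
    rw [hIa, Ideal.map_span, Set.image_singleton] at h2
    exact h2.symm

/-- flat pullback, pointwise. -/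
theorem EffAt.comap {W V : Scheme.{u}} (ψ : W ⟶ V) [Flat ψ] (I : V.IdealSheafData) (w : W)
    (h : EffAt I (ψ w)) : EffAt (I.comap ψ) w := by
  obtain ⟨V₁, hvV₁, f, hf, hI⟩ := h
  obtain ⟨W₁, hW₁, hwW₁, hle⟩ :=
    exists_isAffineOpen_mem_and_subset (x := w) (U := ψ ⁻¹ᵁ V₁.1) hvV₁
  refine ⟨⟨W₁, hW₁⟩, hwW₁, (ψ.appLE V₁.1 W₁ hle).hom f, ?_, ?_⟩
  · exact RelCartier.mem_nonZeroDivisors_map_flat' _ (ψ.flat_appLE V₁.2 hW₁ hle) hf
  · rw [EffCartier.ideal_comap_eq_map ψ I hW₁ V₁.2 hle, hI, Ideal.map_span, Set.image_singleton]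

theorem mem_basicOpen_iff_notMem_primeIdealOf {U : X.Opens} (hU : IsAffineOpen U) (x : X)
    (hx : x ∈ U) (f : Γ(X, U)) :
    x ∈ X.basicOpen f ↔ f ∉ (hU.primeIdealOf ⟨x, hx⟩).asIdeal := by
  have h1 : hU.fromSpec (hU.primeIdealOf ⟨x, hx⟩) = x := hU.fromSpec_primeIdealOf ⟨x, hx⟩
  have h2 : hU.fromSpec ⁻¹ᵁ X.basicOpen f = PrimeSpectrum.basicOpen f :=
    hU.fromSpec_preimage_basicOpen f
  constructor
  · intro hxf
    have : hU.primeIdealOf ⟨x, hx⟩ ∈ hU.fromSpec ⁻¹ᵁ X.basicOpen f := by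
      show hU.fromSpec (hU.primeIdealOf ⟨x, hx⟩) ∈ X.basicOpen f
      rw [h1]; exact hxf
    rw [h2] at this
    exact this
  · intro hf
    have : hU.primeIdealOf ⟨x, hx⟩ ∈ hU.fromSpec ⁻¹ᵁ X.basicOpen f := by
      rw [h2]; exact hf
    have h3 : hU.fromSpec (hU.primeIdealOf ⟨x, hx⟩) ∈ X.basicOpen f := this
    rwa [h1] at h3

/-- descent along flat morphisms locally of finite presentation, pointwise. -/
theorem EffAt.of_comap {W V : Scheme.{u}} (ψ : W ⟶ V) [Flat ψ] [LocallyOfFinitePresentation ψ]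
    (I : V.IdealSheafData) (w : W) (h : EffAt (I.comap ψ) w) : EffAt I (ψ w) := by
  obtain ⟨V₀, hV₀, hvV₀, -⟩ :=
    exists_isAffineOpen_mem_and_subset (x := ψ w) (U := ⊤) (TopologicalSpace.Opens.mem_top _)
  obtain ⟨W₁, hW₁, hwW₁, hle, g, hg, hIg⟩ := h.exists_le (ψ ⁻¹ᵁ V₀) hvV₀
  have hfl := ψ.flat_appLE hV₀ hW₁ hle
  have hfp : (ψ.appLE V₀ W₁ hle).hom.FinitePresentation :=
    HasRingHomProperty.appLE (P := @LocallyOfFinitePresentation) ψ inferInstance ⟨V₀, hV₀⟩
      ⟨W₁, hW₁⟩ hle
  algebraize [(ψ.appLE V₀ W₁ hle).hom]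
  have hopen : IsOpenMap (PrimeSpectrum.comap (algebraMap Γ(V, V₀) Γ(W, W₁))) :=
    PrimeSpectrum.isOpenMap_comap_of_hasGoingDown_of_finitePresentation
  have hJ : (I.ideal ⟨V₀, hV₀⟩).map (algebraMap Γ(V, V₀) Γ(W, W₁)) = Ideal.span {g} := by
    rw [← hIg, EffCartier.ideal_comap_eq_map ψ I hW₁ hV₀ hle]
    rfl
  obtain ⟨s, f, hsq, hfJ, hA'⟩ := exists_away_principal hopen (I.ideal ⟨V₀, hV₀⟩) g hg hJ
    (hW₁.primeIdealOf ⟨w, hwW₁⟩)
  have inst := hV₀.isLocalization_basicOpen s
  obtain ⟨h1, h2⟩ := hA' Γ(V, V.basicOpen s)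
  refine ⟨⟨V.basicOpen s, hV₀.basicOpen s⟩, ?_, algebraMap Γ(V, V₀) Γ(V, V.basicOpen s) f, h1, ?_⟩
  · rw [mem_basicOpen_iff_notMem_primeIdealOf hV₀ (ψ w) (hle hwW₁),
      ← IsAffineOpen.comap_primeIdealOf_appLE V₀ hV₀ W₁ hW₁ hle hwW₁]
    exact hsq
  · rw [← h2]
    exact (I.map_ideal_basicOpen ⟨V₀, hV₀⟩ s).symm

/-- descent of effective Cartier ideals along flat, locally finitely presented, surjective
morphisms. -/
theorem isEffCartierIdeal_of_comap {W V : Scheme.{u}} (ψ : W ⟶ V) [Flat ψ]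
    [LocallyOfFinitePresentation ψ] [Surjective ψ] (I : V.IdealSheafData)
    (h : BlowUp.IsEffCartierIdeal (I.comap ψ)) : BlowUp.IsEffCartierIdeal I := by
  intro v
  obtain ⟨w, rfl⟩ := ψ.surjective v
  exact EffAt.of_comap ψ I w (h w)

/-- flat pullback of effective Cartier ideals. -/
theorem isEffCartierIdeal_comap {W V : Scheme.{u}} (ψ : W ⟶ V) [Flat ψ] (I : V.IdealSheafData)
    (h : BlowUp.IsEffCartierIdeal I) : BlowUp.IsEffCartierIdeal (I.comap ψ) :=
  fun w => EffAt.comap ψ I w (h (ψ w))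

end Groth.Agent.Lib.Seat48.EffCartier
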