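import Groth.Agent.S1570
import Groth.Agent.Lib.Seat48EffCartier
import Groth.Agent.Lib.Seat34ExtendCartierAlg

/-!
# Extending an effective Cartier divisor from an open across factorial points (seat 34)

* `comap_map_ι`: for a quasi-compact open `U` and an ideal sheaf `D` on `U`, the scheme theoretic
  closure `D.map U.ι` restricts to `D`.
* `EffAt.exists_stalk_generator`: an ideal sheaf which is effective Cartier at `x` has, for every
  affine open `V ∋ x`, stalk ideal generated by one nonzerodivisor.
* `exists_stalk_generator_of_ufd`: the stalk ideal of the scheme theoretic closure at a point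
  outside `U` whose local ring is a UFD is generated by one nonzerodivisor.
* `exists_extension`: the extension theorem.
-/

set_option autoImplicit false
universe u
open CategoryTheory CategoryTheory.Limits AlgebraicGeometry TopologicalSpace

namespace Groth.Agent.Lib.Seat34.ExtendCartier

open Groth.Agent.Lib.Seat48.EffCartier Groth.Agent.Lib.Seat34.ExtendCartierAlg

variable {X : Scheme.{u}}

/-- The scheme theoretic closure of a closed subscheme of a quasi-compact open restricts to the
closed subscheme. -/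
theorem comap_map_ι (U : X.Opens) [QuasiCompact U.ι] (D : U.toScheme.IdealSheafData) :
    (D.map U.ι).comap U.ι = D := by
  have H : IsPullback D.subschemeι (𝟙 D.subscheme) U.ι (D.subschemeι ≫ U.ι) :=
    ⟨⟨by simp⟩, ⟨PullbackCone.IsLimit.mk _ (fun s => s.snd)
      (fun s => by
        rw [← cancel_mono U.ι]
        simpa using s.condition.symm)
      (fun s => by simp)
      (fun s m _ h2 => by simpa using h2)⟩⟩
  apply Scheme.IdealSheafData.ext
  funext W
  rw [Scheme.IdealSheafData.map, Scheme.IdealSheafData.ideal_comap_of_isOpenImmersion,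
    ← Scheme.ker_ideal_of_isPullback_of_isOpenImmersion _ _ _ _ H W,
    Scheme.IdealSheafData.ker_subschemeι]

/-- the point of an affine open attached to a prime of its ring of sections -/
lemma exists_point_of_prime (V : X.affineOpens) (p : Ideal Γ(X, V.1)) [hp : p.IsPrime] :
    ∃ (y : X) (hy : y ∈ V.1), (V.2.primeIdealOf ⟨y, hy⟩).asIdeal = p := by
  have hV : IsAffineOpen V.1 := V.2
  let Q : PrimeSpectrum Γ(X, V.1) := ⟨p, hp⟩
  have hyV : hV.fromSpec Q ∈ V.1 := by
    have : hV.fromSpec Q ∈ Set.range hV.fromSpec := ⟨Q, rfl⟩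
    rw [hV.range_fromSpec] at this
    exact this
  have hQ : hV.primeIdealOf ⟨hV.fromSpec Q, hyV⟩ = Q := by
    apply hV.fromSpec.isOpenEmbedding.injective
    exact hV.fromSpec_primeIdealOf ⟨hV.fromSpec Q, hyV⟩
  exact ⟨_, hyV, by rw [hQ]⟩

/-- An ideal sheaf that is effective Cartier at `x` has principal stalk ideal generated by a
nonzerodivisor, computed from any affine open containing `x`. -/
theorem EffAt.exists_stalk_generator {I : X.IdealSheafData} {x : X} (h : EffAt I x)
    (V : X.affineOpens) (hxV : x ∈ V.1) :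
    ∃ g : X.presheaf.stalk x, g ∈ nonZeroDivisors (X.presheaf.stalk x) ∧
      (I.ideal V).map (X.presheaf.germ V.1 x hxV).hom = Ideal.span {g} := by
  obtain ⟨W, hW, hxW, hWV, f, hf, hIf⟩ := h.exists_le V.1 hxV
  refine ⟨X.presheaf.germ W x hxW f, ?_, ?_⟩
  · let _ : Algebra Γ(X, W) (X.presheaf.stalk x) := X.presheaf.algebra_section_stalk ⟨x, hxW⟩
    have hloc : IsLocalization.AtPrime (X.presheaf.stalk x) (hW.primeIdealOf ⟨x, hxW⟩).asIdeal :=
      hW.isLocalization_stalk ⟨x, hxW⟩
    exact IsLocalization.map_nonZeroDivisors_le (hW.primeIdealOf ⟨x, hxW⟩).asIdeal.primeCompl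
      (X.presheaf.stalk x) (Submonoid.mem_map_of_mem _ hf)
  · have hmap : (I.ideal V).map (X.presheaf.map (homOfLE hWV).op).hom = I.ideal ⟨W, hW⟩ :=
      I.map_ideal (U := ⟨W, hW⟩) (V := V) hWV
    have hgerm : (X.presheaf.germ V.1 x hxV).hom =
        (X.presheaf.germ W x hxW).hom.comp (X.presheaf.map (homOfLE hWV).op).hom := by
      rw [← CommRingCat.hom_comp, X.presheaf.germ_res (homOfLE hWV) x hxW]
    rw [hgerm, ← Ideal.map_map, hmap, hIf, Ideal.map_span, Set.image_singleton]

/-- Membership in an open `U`, for a point of an affine open `V`, in terms of the vanishing ideal of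
the complement of `U`. -/
theorem mem_iff_not_vanishingIdeal_le (U : X.Opens) (V : X.affineOpens) (y : X) (hyV : y ∈ V.1) :
    y ∈ U ↔ ¬ ((Scheme.IdealSheafData.vanishingIdeal
      ⟨(U : Set X)ᶜ, U.isOpen.isClosed_compl⟩).ideal V ≤ (V.2.primeIdealOf ⟨y, hyV⟩).asIdeal) := by
  have h1 : y ∈ (Scheme.IdealSheafData.vanishingIdeal
      ⟨(U : Set X)ᶜ, U.isOpen.isClosed_compl⟩).support ↔ y ∉ U := by
    rw [← SetLike.mem_coe, Scheme.IdealSheafData.coe_support_vanishingIdeal]
    rfl
  rw [← not_iff_not, not_not, ← h1, Scheme.IdealSheafData.mem_support_iff_of_mem (U := V) hyV,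
    Scheme.mem_zeroLocus_iff]
  constructor
  · intro h c hc
    by_contra hcq
    exact h c hc ((mem_basicOpen_iff_notMem_primeIdealOf V.2 y hyV c).mpr hcq)
  · intro h c hc hyc
    exact (mem_basicOpen_iff_notMem_primeIdealOf V.2 y hyV c).mp hyc (h hc)

/-- The stalk of the scheme theoretic closure of an effective Cartier divisor of an open `U`, at a
point outside `U` whose local ring is factorial, is generated by one nonzerodivisor. -/
theorem exists_stalk_generator_of_ufd [IsLocallyNoetherian X] (U : X.Opens)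
    (D : U.toScheme.IdealSheafData) (hD : BlowUp.IsEffCartierIdeal D) (x : X)
    (hdom : IsDomain (X.presheaf.stalk x))
    (hufd : UniqueFactorizationMonoid (X.presheaf.stalk x))
    (V : X.affineOpens) (hxV : x ∈ V.1) :
    ∃ g : X.presheaf.stalk x, g ∈ nonZeroDivisors (X.presheaf.stalk x) ∧
      ((D.map U.ι).ideal V).map (X.presheaf.germ V.1 x hxV).hom = Ideal.span {g} := by
  have hV : IsAffineOpen V.1 := V.2
  have hN : IsNoetherianRing Γ(X, V.1) := IsLocallyNoetherian.component_noetherian V
  let _ : Algebra Γ(X, V.1) (X.presheaf.stalk x) := X.presheaf.algebra_section_stalk ⟨x, hxV⟩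
  have hloc : IsLocalization.AtPrime (X.presheaf.stalk x) (hV.primeIdealOf ⟨x, hxV⟩).asIdeal :=
    hV.isLocalization_stalk ⟨x, hxV⟩
  have hcomap := comap_map_ι U D
  apply exists_span_singleton_of_saturated_localization (hV.primeIdealOf ⟨x, hxV⟩).asIdeal
    (X.presheaf.stalk x) ((D.map U.ι).ideal V)
    ((Scheme.IdealSheafData.vanishingIdeal ⟨(U : Set X)ᶜ, U.isOpen.isClosed_compl⟩).ideal V)
  · -- saturation
    intro a ha
    have hker : (D.map U.ι).ideal V = RingHom.ker ((D.subschemeι ≫ U.ι).app V.1).hom :=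
      Scheme.Hom.ker_apply _ V
    rw [hker, RingHom.mem_ker]
    suffices key : ∀ (z : D.subscheme) (hz : z ∈ (D.subschemeι ≫ U.ι) ⁻¹ᵁ V.1),
        D.subscheme.presheaf.germ _ z hz (((D.subschemeι ≫ U.ι).app V.1).hom a) = 0 from
      TopCat.Presheaf.section_ext D.subscheme.sheaf ((D.subschemeι ≫ U.ι) ⁻¹ᵁ V.1) _ _
        (fun z hz => (key z hz).trans (map_zero _).symm)
    intro z hz
    have hzV : (D.subschemeι ≫ U.ι) z ∈ V.1 := hz
    have hzU : (D.subschemeι ≫ U.ι) z ∈ U := (D.subschemeι z).2
    obtain ⟨c, hcJ, hcq⟩ := SetLike.not_le_iff_exists.mp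
      ((mem_iff_not_vanishingIdeal_le U V _ hzV).mp hzU)
    have hzc : (D.subschemeι ≫ U.ι) z ∈ X.basicOpen c :=
      (mem_basicOpen_iff_notMem_primeIdealOf hV _ hzV c).mpr hcq
    have hzc' : z ∈ D.subscheme.basicOpen (((D.subschemeι ≫ U.ι).app V.1).hom c) := by
      rw [← Scheme.preimage_basicOpen]
      exact hzc
    have hunit := (Scheme.mem_basicOpen _ _ z hz).mp hzc'
    have h0 : ((D.subschemeι ≫ U.ι).app V.1).hom (c * a) = 0 := by
      have := ha c hcJ
      rwa [hker, RingHom.mem_ker] at this
    have h1 : D.subscheme.presheaf.germ _ z hz (((D.subschemeι ≫ U.ι).app V.1).hom c) *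
        D.subscheme.presheaf.germ _ z hz (((D.subschemeι ≫ U.ι).app V.1).hom a) = 0 := by
      rw [← map_mul, ← map_mul, h0, map_zero]
    exact (hunit.mul_right_eq_zero).mp h1
  · -- local principality
    intro q hq hqp hJq
    obtain ⟨y, hyV, rfl⟩ := exists_point_of_prime V q
    have hyU : y ∈ U := (mem_iff_not_vanishingIdeal_le U V y hyV).mpr hJq
    have hEff : EffAt (D.map U.ι) y := by
      have h1 : EffAt ((D.map U.ι).comap U.ι) (⟨y, hyU⟩ : U.toScheme) := by
        rw [hcomap]
        exact hD _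
      exact EffAt.of_comap U.ι (D.map U.ι) ⟨y, hyU⟩ h1
    obtain ⟨g, hg, hgI⟩ := EffAt.exists_stalk_generator hEff V hyV
    let _ : Algebra Γ(X, V.1) (X.presheaf.stalk y) := X.presheaf.algebra_section_stalk ⟨y, hyV⟩
    have hlocy : IsLocalization.AtPrime (X.presheaf.stalk y) (hV.primeIdealOf ⟨y, hyV⟩).asIdeal :=
      hV.isLocalization_stalk ⟨y, hyV⟩
    exact exists_elementwise_of_map_eq_span (hV.primeIdealOf ⟨y, hyV⟩).asIdeal
      (X.presheaf.stalk y) _ g hg hgI

/-- Let `X` be locally Noetherian, `U` open and `D` an effective Cartier divisor on `U`. If the local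
rings of `X` at the points outside `U` are factorial, the scheme theoretic closure of `D` is an
effective Cartier divisor on `X` restricting to `D`. -/
theorem exists_extension [IsLocallyNoetherian X] (U : X.Opens) (D : U.toScheme.IdealSheafData)
    (hD : BlowUp.IsEffCartierIdeal D)
    (hufd : ∀ x : X, x ∉ U →
      IsDomain (X.presheaf.stalk x) ∧ UniqueFactorizationMonoid (X.presheaf.stalk x)) :
    ∃ D' : X.IdealSheafData, BlowUp.IsEffCartierIdeal D' ∧ D'.comap U.ι = D := by
  refine ⟨D.map U.ι, ?_, comap_map_ι U D⟩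
  apply Groth.Agent.S1570.result
  intro x _ V hxV
  by_cases hxU : x ∈ U
  · have hEff : EffAt (D.map U.ι) x := by
      have h1 : EffAt ((D.map U.ι).comap U.ι) (⟨x, hxU⟩ : U.toScheme) := by
        rw [comap_map_ι U D]
        exact hD _
      exact EffAt.of_comap U.ι (D.map U.ι) ⟨x, hxU⟩ h1
    exact EffAt.exists_stalk_generator hEff V hxV
  · obtain ⟨hdom, hu⟩ := hufd x hxU
    exact exists_stalk_generator_of_ufd U D hD x hdom hu V hxV

end Groth.Agent.Lib.Seat34.ExtendCartier
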