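import Mathlib
import Groth.Prelude.Def_Fitting
import Groth.Prelude.Def_FlatMod2
import Groth.Agent.Lib.Helper18FittSh5
import Groth.Agent.Lib.Helper20FormalPull
set_option backward.isDefEq.respectTransparency.types false

/-!
# The locally closed subscheme where a finite type module becomes locally free of rank `r` (seat 34)

Namespace `Groth.Agent.Lib.Seat34.FittStratum`.

* `isFinLocFreeOfRank_pullback_iff`: `f^*F` is locally free of rank `r` iff `Fitt_k(F)·O_T = 0` for `k < r` and
  `Fitt_r(F)·O_T = O_T`.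
* `exists_immersion_factors_iff`: the universal property of `V(Fitt_{<r}) ∖ V(Fitt_r)`.
-/

set_option autoImplicit false
set_option linter.style.haveILetI false
universe u
open CategoryTheory CategoryTheory.Limits AlgebraicGeometry TopologicalSpace

namespace Groth.Agent.Lib.Seat34.FittStratum

open Groth.Agent.Helper18FittSh

theorem isFinLocFreeOfRank_pullback_iff {X T : Scheme.{u}} (F : X.Modules) [F.IsQuasicoherent]
    (hF : CohB1.IsFT F) (r : ℕ) (f : T ⟶ X) :
    FlatMod.IsFinLocFreeOfRank r ((Scheme.Modules.pullback f).obj F) ↔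
      (∀ k, k < r → (Fitt.sheafIdeal F k).comap f = ⊥) ∧ (Fitt.sheafIdeal F r).comap f = ⊤ := by
  haveI : SheafOfModules.IsFiniteType (R := X.ringCatSheaf) F := hF
  have hft : CohB1.IsFT ((Scheme.Modules.pullback f).obj F) :=
    Groth.Agent.Lib.Helper20.FormalPull.isFiniteType_pullback f F
  have hq : Coh.IsQCoh F := inferInstance
  simp only [main_S8872 f F hq hF]
  constructor
  · intro h
    have := fitt_of_isFinLocFreeOfRank _ hft r h
    exact ⟨this.1, this.2 r le_rfl⟩
  · rintro ⟨h1, h2⟩
    exact isFinLocFreeOfRank_of_fitt _ hft r h1 h2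

theorem exists_immersion_factors_iff {X : Scheme.{u}} (F : X.Modules) [F.IsQuasicoherent]
    (hF : CohB1.IsFT F) (r : ℕ) :
    ∃ (Z : Scheme.{u}) (i : Z ⟶ X), IsImmersion i ∧ ∀ (T : Scheme.{u}) (f : T ⟶ X),
      (∃ g : T ⟶ Z, g ≫ i = f) ↔
        FlatMod.IsFinLocFreeOfRank r ((Scheme.Modules.pullback f).obj F) := by
  let U : X.Opens := ⟨((Fitt.sheafIdeal F r).support : Set X)ᶜ,
    (Fitt.sheafIdeal F r).support.isClosed.isOpen_compl⟩
  let 𝓘 : (U : Scheme.{u}).IdealSheafData := ⨆ k : Fin r, (Fitt.sheafIdeal F k).comap U.ι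
  refine ⟨𝓘.subscheme, 𝓘.subschemeι ≫ U.ι, inferInstance, fun T f => ?_⟩
  rw [isFinLocFreeOfRank_pullback_iff F hF r f]
  have hUtop : (Fitt.sheafIdeal F r).comap U.ι = ⊤ := by
    rw [← Scheme.IdealSheafData.support_eq_bot_iff, Scheme.IdealSheafData.support_comap]
    ext x
    simp only [TopologicalSpace.Closeds.coe_preimage, Set.mem_preimage, SetLike.mem_coe,
      TopologicalSpace.Closeds.coe_bot, Set.mem_empty_iff_false, iff_false]
    exact x.2
  have hker : 𝓘.subschemeι.ker = 𝓘 := Scheme.IdealSheafData.ker_subschemeι 𝓘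
  constructor
  · rintro ⟨g, rfl⟩
    constructor
    · intro k hk
      rw [Scheme.IdealSheafData.comap_comp, Scheme.IdealSheafData.comap_comp]
      have h1 : (Fitt.sheafIdeal F k).comap U.ι ≤ 𝓘 :=
        le_iSup (fun k : Fin r => (Fitt.sheafIdeal F k).comap U.ι) ⟨k, hk⟩
      have h2 : ((Fitt.sheafIdeal F k).comap U.ι).comap 𝓘.subschemeι = ⊥ := by
        rw [eq_bot_iff, ← Scheme.IdealSheafData.le_map_iff_comap_le, Scheme.IdealSheafData.map_bot,
          hker]
        exact h1
      rw [h2, Scheme.IdealSheafData.comap_bot]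
    · rw [Scheme.IdealSheafData.comap_comp, Scheme.IdealSheafData.comap_comp, hUtop,
        Scheme.IdealSheafData.comap_top, Scheme.IdealSheafData.comap_top]
  · rintro ⟨h1, h2⟩
    have hr : Set.range f ⊆ Set.range U.ι := by
      rw [Scheme.Opens.range_ι]
      rintro _ ⟨t, rfl⟩
      have h3 : ((Fitt.sheafIdeal F r).comap f).support = ⊥ := by
        rw [h2]
        exact Scheme.IdealSheafData.support_top
      rw [Scheme.IdealSheafData.support_comap] at h3
      intro hmem
      have h4 : t ∈ ((Fitt.sheafIdeal F r).support.preimage f.continuous) := hmem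
      rw [h3] at h4
      exact h4
    have hf' : IsOpenImmersion.lift U.ι f hr ≫ U.ι = f := IsOpenImmersion.lift_fac _ _ _
    have hle : 𝓘.subschemeι.ker ≤ (IsOpenImmersion.lift U.ι f hr).ker := by
      rw [hker, ← Scheme.IdealSheafData.map_bot, Scheme.IdealSheafData.le_map_iff_comap_le,
        (Scheme.IdealSheafData.map_gc (IsOpenImmersion.lift U.ι f hr)).l_iSup]
      apply iSup_le
      intro k
      rw [← Scheme.IdealSheafData.comap_comp, hf', h1 k k.2]
    exact ⟨IsClosedImmersion.lift 𝓘.subschemeι (IsOpenImmersion.lift U.ι f hr) hle, by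
      rw [← Category.assoc, IsClosedImmersion.lift_fac, hf']⟩

end Groth.Agent.Lib.Seat34.FittStratum
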