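import Mathlib
import Groth.Agent.S14271

/-!
# Hartogs-type extension across a closed set of "depth ≥ 2" (helper34)

For a scheme `X`, an open `U` with quasi-compact inclusion such that every point outside `U`
has a weakly regular pair in the maximal ideal of its local ring, the restriction
`Γ(X, V) → Γ(X, V ∩ U)` is bijective for every affine open `V`.
-/

set_option autoImplicit false
universe u

namespace Groth.Agent.Lib.Seat34.Hartogs

open AlgebraicGeometry CategoryTheory TopologicalSpace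
open scoped Pointwise

section Alg

variable {B : Type*} [CommRing B]

/-- If `y` is a nonzerodivisor modulo the nonzerodivisor `x`, the same holds modulo `x ^ k`. -/
theorem regular_pair_pow_left {x y : B} (hx : IsSMulRegular B x)
    (hxy : ∀ u v : B, y * u = x * v → ∃ w, u = x * w) (k : ℕ) :
    ∀ u v : B, y * u = x ^ k * v → ∃ w, u = x ^ k * w := by
  induction k with
  | zero => intro u v _; exact ⟨u, by simp⟩
  | succ k ih =>
    intro u v h
    obtain ⟨w, rfl⟩ := hxy u (x ^ k * v) (by rw [h]; ring)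
    have h2 : x * (y * w) = x * (x ^ k * v) := by linear_combination h
    have h3 : y * w = x ^ k * v := hx h2
    obtain ⟨w', rfl⟩ := ih w v h3
    exact ⟨w', by ring⟩

theorem regular_pair_pow {x y : B} (hx : IsSMulRegular B x)
    (hxy : ∀ u v : B, y * u = x * v → ∃ w, u = x * w) (k j : ℕ) :
    ∀ u v : B, y ^ j * u = x ^ k * v → ∃ w, u = x ^ k * w := by
  induction j with
  | zero => intro u v h; exact ⟨v, by simpa using h⟩
  | succ j ih =>
    intro u v h
    obtain ⟨w, hw⟩ := regular_pair_pow_left hx hxy k (y ^ j * u) v (by rw [← h]; ring)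
    exact ih u w hw

/-- A weakly regular pair gives the elementwise conditions. -/
theorem pair_of_isWeaklyRegular {a b : B} (h : RingTheory.Sequence.IsWeaklyRegular B [a, b]) :
    IsSMulRegular B a ∧ ∀ u v : B, b * u = a * v → ∃ w, u = a * w := by
  rw [RingTheory.Sequence.isWeaklyRegular_cons_iff] at h
  obtain ⟨h1, h2⟩ := h
  rw [RingTheory.Sequence.isWeaklyRegular_cons_iff] at h2
  obtain ⟨h2, -⟩ := h2
  refine ⟨h1, fun u v huv => ?_⟩
  have h3 : b • u ∈ (a • ⊤ : Submodule B B) := by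
    rw [smul_eq_mul, huv]
    exact Submodule.smul_mem_pointwise_smul v a ⊤ Submodule.mem_top
  have h4 := mem_of_isSMulRegular_quotient_of_smul_mem h2 h3
  obtain ⟨w, -, hw⟩ := (Submodule.mem_smul_pointwise_iff_exists _ _ _).mp h4
  exact ⟨w, by rw [← hw, smul_eq_mul]⟩

theorem mem_radical_map_of_mem_minimalPrimes {A S : Type*} [CommRing A] [CommRing S] [Algebra A S]
    (J p : Ideal A) [p.IsPrime] [IsLocalization.AtPrime S p] [IsLocalRing S]
    (hp : p ∈ J.minimalPrimes) (a : S) (ha : a ∈ IsLocalRing.maximalIdeal S) :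
    a ∈ (J.map (algebraMap A S)).radical := by
  rw [Ideal.radical_eq_sInf, Ideal.mem_sInf]
  rintro q ⟨hJq, hq⟩
  have h1 : J ≤ q.comap (algebraMap A S) := Ideal.map_le_iff_le_comap.mp hJq
  have h2 : q.comap (algebraMap A S) ≤ p := by
    have := IsLocalization.AtPrime.comap_maximalIdeal S p
    rw [← this]
    exact Ideal.comap_mono (IsLocalRing.le_maximalIdeal hq.ne_top)
  have hqc : (q.comap (algebraMap A S)).IsPrime := Ideal.comap_isPrime _ _
  have h3 : q.comap (algebraMap A S) = p := le_antisymm h2 (hp.2 ⟨hqc, h1⟩ h2)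
  have h4 : q = IsLocalRing.maximalIdeal S := by
    rw [← IsLocalization.map_comap p.primeCompl S q]
    change Ideal.map (algebraMap A S) (q.comap (algebraMap A S)) = _
    rw [h3, IsLocalization.AtPrime.map_eq_maximalIdeal]
  rw [h4]
  exact ha

/-- The algebraic core of the extension argument. -/
theorem alg_core {A S : Type*} [CommRing A] [CommRing S] [Algebra A S]
    (J p : Ideal A) [p.IsPrime] [IsLocalization.AtPrime S p] [IsLocalRing S]
    (hp : p ∈ J.minimalPrimes) (a b : S) (ha : a ∈ IsLocalRing.maximalIdeal S)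
    (hb : b ∈ IsLocalRing.maximalIdeal S) (hreg : IsSMulRegular S a)
    (hab : ∀ u v : S, b * u = a * v → ∃ w, u = a * w)
    (Rel : A → A → Prop) (hJ : ∀ g ∈ J, ∃ y, Rel g y)
    (hcross : ∀ g₁ y₁ g₂ y₂, Rel g₁ y₁ → Rel g₂ y₂ → g₂ * y₁ = g₁ * y₂) :
    ∃ g₁ y₁, Rel g₁ y₁ ∧ IsSMulRegular S (algebraMap A S g₁) ∧
      ∃ u, u ∉ p ∧ ∃ w, u * y₁ = g₁ * w := by
  obtain ⟨k, hk⟩ := mem_radical_map_of_mem_minimalPrimes J p hp a ha
  obtain ⟨l, hl⟩ := mem_radical_map_of_mem_minimalPrimes J p hp b hb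
  obtain ⟨⟨⟨g₁, hg₁⟩, u₁⟩, h1⟩ := (IsLocalization.mem_map_algebraMap_iff p.primeCompl S).mp hk
  obtain ⟨⟨⟨g₂, hg₂⟩, u₂⟩, h2⟩ := (IsLocalization.mem_map_algebraMap_iff p.primeCompl S).mp hl
  dsimp only at h1 h2
  obtain ⟨y₁, hy₁⟩ := hJ g₁ hg₁
  obtain ⟨y₂, hy₂⟩ := hJ g₂ hg₂
  have hc := hcross g₁ y₁ g₂ y₂ hy₁ hy₂
  have hu₁ : IsUnit (algebraMap A S u₁) := IsLocalization.map_units S u₁
  have hc' : b ^ l * (algebraMap A S u₂ * algebraMap A S y₁) =
      a ^ k * (algebraMap A S u₁ * algebraMap A S y₂) := by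
    have := congrArg (algebraMap A S) hc
    rw [map_mul, map_mul, ← h1, ← h2] at this
    linear_combination this
  obtain ⟨w₀, hw₀⟩ := regular_pair_pow hreg hab k l _ _ hc'
  obtain ⟨⟨w', u₃⟩, hw'⟩ := IsLocalization.surj p.primeCompl w₀
  dsimp only at hw'
  have h3 : algebraMap A S (u₁ * u₂ * u₃ * y₁) = algebraMap A S (g₁ * w') := by
    simp only [map_mul]
    rw [← h1, ← hw']
    linear_combination (algebraMap A S u₁ * algebraMap A S u₃) * hw₀
  obtain ⟨u₄, hu₄⟩ := (IsLocalization.eq_iff_exists p.primeCompl S).mp h3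
  refine ⟨g₁, y₁, hy₁, ?_, u₄ * (u₁ * u₂ * u₃), ?_, u₄ * w', ?_⟩
  · rw [← h1]
    exact (hreg.pow k).mul (hu₁.isSMulRegular S)
  · exact (u₄ * (u₁ * u₂ * u₃)).2
  · linear_combination hu₄

end Alg

section Geom

variable {X : Scheme.{u}}

theorem res_res {U₁ U₂ U₃ : X.Opens} (h₁ : U₁ ≤ U₂) (h₂ : U₂ ≤ U₃) (r : Γ(X, U₃)) :
    (X.presheaf.map (homOfLE h₁).op).hom ((X.presheaf.map (homOfLE h₂).op).hom r) =
      (X.presheaf.map (homOfLE (h₁.trans h₂)).op).hom r := by
  rw [← CommRingCat.comp_apply, ← Functor.map_comp]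
  rfl

theorem mem_basicOpen_pow {V : X.Opens} (x : X) (g : Γ(X, V)) (hx : x ∈ X.basicOpen g) (n : ℕ) :
    x ∈ X.basicOpen (g ^ n) := by
  have hxV : x ∈ V := X.basicOpen_le g hx
  rw [Scheme.mem_basicOpen _ _ _ hxV] at hx ⊢
  rw [map_pow]
  exact hx.pow n

/-- A section over a compact open `W` of an affine open `V` becomes, after multiplication
by a suitable function on `V` invertible at a given point of `W`, the restriction of a
section over `V`. -/
theorem exists_mul_eq_res {V W : X.Opens} (hV : IsAffineOpen V) (hWV : W ≤ V)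
    (hWc : IsCompact (W : Set X)) (s : Γ(X, W)) (x : X) (hx : x ∈ W) :
    ∃ g y : Γ(X, V), x ∈ X.basicOpen g ∧
      (X.presheaf.map (homOfLE hWV).op).hom y = (X.presheaf.map (homOfLE hWV).op).hom g * s := by
  obtain ⟨h, hle, hxh⟩ := hV.exists_basicOpen_le ⟨x, hx⟩ (hWV hx)
  have loc := hV.isLocalization_basicOpen h
  obtain ⟨⟨y, ⟨_, n, rfl⟩⟩, hy⟩ := IsLocalization.surj (Submonoid.powers h)
    ((X.presheaf.map (homOfLE hle).op).hom s)
  dsimp only at hy
  have hD' : X.basicOpen ((X.presheaf.map (homOfLE hWV).op).hom h) ≤ X.basicOpen h := by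
    rw [Scheme.basicOpen_res]; exact inf_le_right
  have e0 : (X.presheaf.map (homOfLE hle).op).hom
      ((X.presheaf.map (homOfLE hWV).op).hom (h ^ n) * s -
        (X.presheaf.map (homOfLE hWV).op).hom y) = 0 := by
    rw [map_sub, map_mul, res_res, res_res, sub_eq_zero, mul_comm]
    exact hy
  have key : (X.presheaf.map (homOfLE (X.basicOpen_le
      ((X.presheaf.map (homOfLE hWV).op).hom h))).op).hom
      ((X.presheaf.map (homOfLE hWV).op).hom (h ^ n) * s -
        (X.presheaf.map (homOfLE hWV).op).hom y) = 0 := by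
    rw [← res_res hD' hle, e0, map_zero]
  obtain ⟨k, hk⟩ := exists_pow_mul_eq_zero_of_res_basicOpen_eq_zero_of_isCompact X hWc _
    ((X.presheaf.map (homOfLE hWV).op).hom h) key
  refine ⟨h ^ (k + n), h ^ k * y, mem_basicOpen_pow x h hxh _, ?_⟩
  rw [map_mul, pow_add, map_mul, map_pow]
  linear_combination -hk

/-- Local step of `exists_mul_eq_zero_of_regular`. -/
theorem exists_mul_res_eq_zero_of_regular {V W : X.Opens} (hV : IsAffineOpen V) (hWV : W ≤ V)
    (x : X) (hxV : x ∈ V) (g₁ : Γ(X, V))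
    (hg₁ : IsSMulRegular (X.presheaf.stalk x) (X.presheaf.germ V x hxV g₁))
    (e : Γ(X, W)) (he : (X.presheaf.map (homOfLE hWV).op).hom g₁ * e = 0)
    (h : Γ(X, V)) (hle : X.basicOpen h ≤ W) :
    ∃ v : Γ(X, V), x ∈ X.basicOpen v ∧
      (X.presheaf.map (homOfLE hle).op).hom ((X.presheaf.map (homOfLE hWV).op).hom v * e) = 0 := by
  have loc := hV.isLocalization_basicOpen h
  obtain ⟨⟨e', ⟨_, n, rfl⟩⟩, he'⟩ := IsLocalization.surj (Submonoid.powers h)
    ((X.presheaf.map (homOfLE hle).op).hom e)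
  dsimp only at he'
  -- notation
  have halg : ∀ r : Γ(X, V), algebraMap Γ(X, V) Γ(X, X.basicOpen h) r =
      (X.presheaf.map (homOfLE (X.basicOpen_le h)).op).hom r := fun _ => rfl
  have he2 : algebraMap Γ(X, V) Γ(X, X.basicOpen h) g₁ *
      (X.presheaf.map (homOfLE hle).op).hom e = 0 := by
    have := congrArg (X.presheaf.map (homOfLE hle).op).hom he
    rw [map_mul, res_res, map_zero] at this
    exact this
  have h1 : (X.presheaf.map (homOfLE (X.basicOpen_le h)).op).hom (g₁ * e') = 0 := by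
    rw [← halg, map_mul, ← he']
    linear_combination (algebraMap Γ(X, V) Γ(X, X.basicOpen h) (h ^ n)) * he2
  obtain ⟨m, hm⟩ := exists_pow_mul_eq_zero_of_res_basicOpen_eq_zero_of_isAffineOpen X hV
    (g₁ * e') h h1
  have h2 : X.presheaf.germ V x hxV (h ^ m * e') = 0 := by
    apply hg₁
    dsimp only
    rw [smul_eq_mul, smul_eq_mul, mul_zero, ← map_mul]
    have : g₁ * (h ^ m * e') = h ^ m * (g₁ * e') := by ring
    rw [this, hm, map_zero]
  obtain ⟨O, hxO, iU, iV, hO⟩ := X.presheaf.germ_eq x hxV hxV (h ^ m * e') 0 (by rw [h2, map_zero])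
  rw [map_zero] at hO
  obtain ⟨v, hvO, hxv⟩ := hV.exists_basicOpen_le ⟨x, hxO⟩ hxV
  have h3 : (X.presheaf.map (homOfLE (X.basicOpen_le v)).op).hom (h ^ m * e') = 0 := by
    have : (X.presheaf.map (homOfLE (X.basicOpen_le v)).op).hom (h ^ m * e') =
        (X.presheaf.map (homOfLE hvO).op).hom ((X.presheaf.map iU.op).hom (h ^ m * e')) := by
      rw [← CommRingCat.comp_apply, ← Functor.map_comp]
      rfl
    rw [this]
    erw [hO]
    rw [map_zero]
  obtain ⟨k, hk⟩ := exists_pow_mul_eq_zero_of_res_basicOpen_eq_zero_of_isAffineOpen X hV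
    (h ^ m * e') v h3
  refine ⟨v ^ k, mem_basicOpen_pow x v hxv k, ?_⟩
  have hu : IsUnit (algebraMap Γ(X, V) Γ(X, X.basicOpen h) (h ^ n) *
      algebraMap Γ(X, V) Γ(X, X.basicOpen h) (h ^ m)) := by
    rw [← map_mul, ← pow_add]
    exact IsLocalization.map_units _ (⟨h ^ (n + m), n + m, rfl⟩ : Submonoid.powers h)
  apply hu.mul_left_cancel
  rw [mul_zero, map_mul, res_res, ← halg]
  have h4 := congrArg (algebraMap Γ(X, V) Γ(X, X.basicOpen h)) hk
  rw [map_mul, map_mul, map_zero] at h4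
  linear_combination (algebraMap Γ(X, V) Γ(X, X.basicOpen h) (h ^ m)) *
    (algebraMap Γ(X, V) Γ(X, X.basicOpen h) (v ^ k)) * he' + h4

/-- If `g₁` is a nonzerodivisor in the stalk at `x ∈ V` and kills the section `e` over the
compact open `W ≤ V`, then some function on `V` invertible at `x` kills `e`. -/
theorem exists_mul_eq_zero_of_regular {V W : X.Opens} (hV : IsAffineOpen V) (hWV : W ≤ V)
    (hWc : IsCompact (W : Set X))
    (x : X) (hxV : x ∈ V) (g₁ : Γ(X, V))
    (hg₁ : IsSMulRegular (X.presheaf.stalk x) (X.presheaf.germ V x hxV g₁))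
    (e : Γ(X, W)) (he : (X.presheaf.map (homOfLE hWV).op).hom g₁ * e = 0) :
    ∃ v : Γ(X, V), x ∈ X.basicOpen v ∧ (X.presheaf.map (homOfLE hWV).op).hom v * e = 0 := by
  classical
  choose h hle hmem using fun w : W => hV.exists_basicOpen_le w (hWV w.2)
  choose v hxv hv using fun w : W =>
    exists_mul_res_eq_zero_of_regular hV hWV x hxV g₁ hg₁ e he (h w) (hle w)
  obtain ⟨t, ht⟩ := hWc.elim_finite_subcover (fun w : W => (X.basicOpen (h w) : Set X))
    (fun w => (X.basicOpen (h w)).2) (fun y hy => Set.mem_iUnion.mpr ⟨⟨y, hy⟩, hmem ⟨y, hy⟩⟩)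
  refine ⟨∏ w ∈ t, v w, ?_, ?_⟩
  · rw [Scheme.mem_basicOpen _ _ _ hxV, map_prod, IsUnit.prod_iff]
    intro w _
    exact (Scheme.mem_basicOpen _ _ _ hxV).mp (hxv w)
  · apply TopCat.Sheaf.eq_of_locally_eq' X.sheaf (fun i : t => X.basicOpen (h i.1)) W
      (fun i => homOfLE (hle i.1))
    · intro y hy
      obtain ⟨w, hw⟩ := Set.mem_iUnion.mp (ht hy)
      obtain ⟨hwt, hyw⟩ := Set.mem_iUnion.mp hw
      exact Opens.mem_iSup.mpr ⟨⟨w, hwt⟩, hyw⟩
    · intro i
      have h1 := hv i.1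
      have h2 : (∏ w ∈ t, v w) = (∏ w ∈ t.erase i.1, v w) * v i.1 := by
        rw [mul_comm, Finset.mul_prod_erase t v i.2]
      change (X.presheaf.map (homOfLE (hle i.1)).op).hom _ =
        (X.presheaf.map (homOfLE (hle i.1)).op).hom 0
      rw [map_zero, h2, map_mul (X.presheaf.map (homOfLE hWV).op).hom, mul_assoc, map_mul, h1,
        mul_zero]

/-- **Hartogs**: surjectivity of restriction from an affine open `V` to `V ∩ U` when every point
outside `U` has a weakly regular pair in its maximal ideal (and restriction is injective). -/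
theorem surjective_res (U : X.Opens)
    (hZ : ∀ z : X, z ∉ U → ∃ a b : X.presheaf.stalk z,
      a ∈ IsLocalRing.maximalIdeal (X.presheaf.stalk z) ∧
      b ∈ IsLocalRing.maximalIdeal (X.presheaf.stalk z) ∧
      RingTheory.Sequence.IsWeaklyRegular (X.presheaf.stalk z) [a, b])
    {V W : X.Opens} (hV : IsAffineOpen V) (hWV : W ≤ V) (hWc : IsCompact (W : Set X))
    (hW : ∀ x ∈ V, x ∈ U → x ∈ W)
    (hinj : Function.Injective (X.presheaf.map (homOfLE hWV).op).hom) :
    Function.Surjective (X.presheaf.map (homOfLE hWV).op).hom := by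
  intro s
  let J : Ideal Γ(X, V) :=
    { carrier := {g | ∃ y, (X.presheaf.map (homOfLE hWV).op).hom y =
        (X.presheaf.map (homOfLE hWV).op).hom g * s}
      add_mem' := by
        rintro g g' ⟨y, hy⟩ ⟨y', hy'⟩
        exact ⟨y + y', by rw [map_add, map_add, hy, hy', add_mul]⟩
      zero_mem' := ⟨0, by rw [map_zero, zero_mul]⟩
      smul_mem' := by
        rintro c g ⟨y, hy⟩
        exact ⟨c * y, by rw [smul_eq_mul, map_mul, map_mul, hy, mul_assoc]⟩ }
  have hJmem : ∀ g, g ∈ J ↔ ∃ y, (X.presheaf.map (homOfLE hWV).op).hom y =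
        (X.presheaf.map (homOfLE hWV).op).hom g * s := fun _ => Iff.rfl
  suffices hJ : J = ⊤ by
    obtain ⟨y, hy⟩ := (hJmem 1).mp (hJ ▸ Submodule.mem_top)
    exact ⟨y, by rw [hy, map_one, one_mul]⟩
  by_contra hJ
  obtain ⟨m, hm, hJm⟩ := Ideal.exists_le_maximal J hJ
  obtain ⟨p, hp, -⟩ := Ideal.exists_minimalPrimes_le hJm
  have hpp : p.IsPrime := hp.1.1
  let y : PrimeSpectrum Γ(X, V) := ⟨p, hpp⟩
  have hx : hV.fromSpec y ∈ V := (hV.isoSpec.inv _).2
  let _ := TopCat.Presheaf.algebra_section_stalk X.presheaf ⟨hV.fromSpec y, hx⟩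
  have hloc : IsLocalization.AtPrime (X.presheaf.stalk (hV.fromSpec y)) p :=
    hV.isLocalization_stalk' y hx
  have hmem : ∀ v : Γ(X, V), hV.fromSpec y ∈ X.basicOpen v → v ∉ p := by
    intro v hv hvp
    rw [Scheme.mem_basicOpen _ _ _ hx] at hv
    exact (IsLocalization.AtPrime.isUnit_to_map_iff (X.presheaf.stalk (hV.fromSpec y)) p v).mp
      hv hvp
  by_cases hxU : hV.fromSpec y ∈ U
  · obtain ⟨g, y', hxg, hgy⟩ := exists_mul_eq_res hV hWV hWc s _ (hW _ hx hxU)
    exact hmem g hxg (hp.1.2 ((hJmem g).mpr ⟨y', hgy⟩))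
  · obtain ⟨a, b, ha, hb, hab⟩ := hZ _ hxU
    obtain ⟨hreg, hab'⟩ := pair_of_isWeaklyRegular hab
    obtain ⟨g₁, y₁, hy₁, hg₁reg, u, hu, w, huw⟩ := alg_core J p hp a b ha hb hreg hab'
      (fun g y => (X.presheaf.map (homOfLE hWV).op).hom y =
        (X.presheaf.map (homOfLE hWV).op).hom g * s) (fun g hg => (hJmem g).mp hg)
      (by
        intro g₁ y₁ g₂ y₂ h1 h2
        apply hinj
        rw [map_mul, map_mul, h1, h2]
        ring)
    have he : (X.presheaf.map (homOfLE hWV).op).hom g₁ *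
        ((X.presheaf.map (homOfLE hWV).op).hom u * s -
          (X.presheaf.map (homOfLE hWV).op).hom w) = 0 := by
      have := congrArg (X.presheaf.map (homOfLE hWV).op).hom huw
      rw [map_mul, map_mul] at this
      rw [hy₁] at this
      linear_combination this
    obtain ⟨v, hxv, hv⟩ := exists_mul_eq_zero_of_regular hV hWV hWc _ hx g₁ hg₁reg _ he
    have hvu : v * u ∈ J := (hJmem _).mpr ⟨v * w, by
      rw [map_mul, map_mul]
      linear_combination -hv⟩
    rcases hpp.mem_or_mem (hp.1.2 hvu) with h | h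
    · exact hmem v hxv h
    · exact hu h

end Geom

section Mor

open CategoryTheory.Limits

/-- If `j : T' ⟶ T` induces a bijection on global sections, then morphisms to an affine scheme
extend uniquely along `j`. -/
theorem existsUnique_comp_eq {T T' Z : Scheme.{u}} [IsAffine Z] (j : T' ⟶ T)
    (hj : Function.Bijective j.appTop.hom) (g' : T' ⟶ Z) : ∃! g : T ⟶ Z, j ≫ g = g' := by
  have hiso : IsIso j.appTop := (ConcreteCategory.isIso_iff_bijective _).mpr hj
  have hex : j ≫ (T.toSpecΓ ≫ Spec.map (g'.appTop ≫ inv j.appTop) ≫ inv Z.toSpecΓ) = g' := by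
    rw [← Category.assoc, Scheme.toSpecΓ_naturality, Category.assoc, ← Category.assoc (Spec.map _),
      ← Spec.map_comp, Category.assoc, IsIso.inv_hom_id, Category.comp_id, ← Category.assoc,
      ← Scheme.toSpecΓ_naturality, Category.assoc, IsIso.hom_inv_id, Category.comp_id]
  refine ⟨_, hex, fun g hg => ?_⟩
  apply ext_of_isAffine
  rw [← cancel_mono j.appTop, ← Scheme.Hom.comp_appTop, ← Scheme.Hom.comp_appTop, hg, hex]

variable {X : Scheme.{u}} (U : X.Opens) [QuasiCompact U.ι]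

omit [QuasiCompact U.ι] in
theorem regular_of_pair
    (hZ : ∀ z : X, z ∉ U → ∃ a b : X.presheaf.stalk z,
      a ∈ IsLocalRing.maximalIdeal (X.presheaf.stalk z) ∧
      b ∈ IsLocalRing.maximalIdeal (X.presheaf.stalk z) ∧
      RingTheory.Sequence.IsWeaklyRegular (X.presheaf.stalk z) [a, b]) :
    ∀ z : X, z ∉ U → ∃ a ∈ IsLocalRing.maximalIdeal (X.presheaf.stalk z),
      IsSMulRegular (X.presheaf.stalk z) a := by
  intro z hz
  obtain ⟨a, b, ha, -, hab⟩ := hZ z hz
  exact ⟨a, ha, (pair_of_isWeaklyRegular hab).1⟩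

/-- Restriction of functions from an affine open `V` to `V ∩ U` is bijective. -/
theorem bijective_ι_app
    (hZ : ∀ z : X, z ∉ U → ∃ a b : X.presheaf.stalk z,
      a ∈ IsLocalRing.maximalIdeal (X.presheaf.stalk z) ∧
      b ∈ IsLocalRing.maximalIdeal (X.presheaf.stalk z) ∧
      RingTheory.Sequence.IsWeaklyRegular (X.presheaf.stalk z) [a, b])
    (V : X.Opens) (hV : IsAffineOpen V) : Function.Bijective (U.ι.app V).hom := by
  have hdom := Groth.Agent.S14271.isSchemeTheoreticallyDominant_of_regular X U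
    (regular_of_pair U hZ)
  have hinj : Function.Injective (U.ι.app V).hom := by
    have h1 : U.ι.ker = ⊥ := U.ι.ker_eq_bot
    have h2 := congrArg (fun I => I.ideal ⟨V, hV⟩) h1
    dsimp only at h2
    rw [Scheme.Hom.ker_apply, Scheme.IdealSheafData.ideal_bot] at h2
    exact (RingHom.injective_iff_ker_eq_bot _).mpr h2
  refine ⟨hinj, ?_⟩
  rw [Scheme.Opens.ι_app] at hinj ⊢
  have hc : IsCompact ((U.ι ⁻¹ᵁ V : U.toScheme.Opens) : Set U) :=
    QuasiCompact.isCompact_preimage (f := U.ι) _ V.2 hV.isCompact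
  refine surjective_res U hZ hV _ ?_ ?_ hinj
  · exact hc.image U.ι.continuous
  · intro x hxV hxU
    exact ⟨⟨x, hxU⟩, hxV, rfl⟩

theorem bijective_morphismRestrict_appTop
    (hZ : ∀ z : X, z ∉ U → ∃ a b : X.presheaf.stalk z,
      a ∈ IsLocalRing.maximalIdeal (X.presheaf.stalk z) ∧
      b ∈ IsLocalRing.maximalIdeal (X.presheaf.stalk z) ∧
      RingTheory.Sequence.IsWeaklyRegular (X.presheaf.stalk z) [a, b])
    (V : X.Opens) (hV : IsAffineOpen V) : Function.Bijective (U.ι ∣_ V).appTop.hom := by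
  rw [morphismRestrict_appTop]
  have hV' : IsAffineOpen (V.ι ''ᵁ ⊤) := by rw [Scheme.Opens.ι_image_top]; exact hV
  have h1 := bijective_ι_app U hZ _ hV'
  have h2 : Function.Bijective (U.toScheme.presheaf.map
      (eqToHom (image_morphismRestrict_preimage U.ι V ⊤)).op).hom :=
    (ConcreteCategory.isIso_iff_bijective _).mp inferInstance
  exact h2.comp h1

omit [QuasiCompact U.ι] in
/-- Compatibility with `t` on the restricted open implies compatibility for every test scheme. -/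
theorem comp_eq_of_morphismRestrict {Y : Scheme.{u}} (t : (U : Scheme.{u}) ⟶ Y) (V : X.Opens)
    (sV : (V : Scheme.{u}) ⟶ Y) (hb : (U.ι ∣_ V) ≫ sV = (U.ι ⁻¹ᵁ V).ι ≫ t)
    {P : Scheme.{u}} (a : P ⟶ V) (b : P ⟶ U) (hab : a ≫ V.ι = b ≫ U.ι) : a ≫ sV = b ≫ t := by
  have hpb := isPullback_morphismRestrict U.ι V
  have h1 : hpb.lift a b hab ≫ (U.ι ∣_ V) = a := hpb.lift_fst _ _ _
  have h2 : hpb.lift a b hab ≫ (U.ι ⁻¹ᵁ V).ι = b := hpb.lift_snd _ _ _
  rw [← h1, Category.assoc, hb, ← Category.assoc, h2]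

/-- Local extension: over an affine open `V` of `X`, the `U`-section `t` of the affine `X`-scheme
`Y` extends uniquely to a `V`-section. -/
theorem local_existsUnique
    (hZ : ∀ z : X, z ∉ U → ∃ a b : X.presheaf.stalk z,
      a ∈ IsLocalRing.maximalIdeal (X.presheaf.stalk z) ∧
      b ∈ IsLocalRing.maximalIdeal (X.presheaf.stalk z) ∧
      RingTheory.Sequence.IsWeaklyRegular (X.presheaf.stalk z) [a, b])
    {Y : Scheme.{u}} (f : Y ⟶ X) [IsAffineHom f] (t : (U : Scheme.{u}) ⟶ Y) (ht : t ≫ f = U.ι)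
    (V : X.Opens) (hV : IsAffineOpen V) :
    ∃! sV : (V : Scheme.{u}) ⟶ Y, sV ≫ f = V.ι ∧ (U.ι ∣_ V) ≫ sV = (U.ι ⁻¹ᵁ V).ι ≫ t := by
  have hbij := bijective_morphismRestrict_appTop U hZ V hV
  have hYV : IsAffineOpen (f ⁻¹ᵁ V) := hV.preimage f
  have : IsAffine ((f ⁻¹ᵁ V : Y.Opens) : Scheme.{u}) := hYV
  have : IsAffine (V : Scheme.{u}) := hV
  have hle : U.ι ⁻¹ᵁ V ≤ t ⁻¹ᵁ (f ⁻¹ᵁ V) := by
    rw [← Scheme.Hom.comp_preimage, ht]
  have htV : t.resLE (f ⁻¹ᵁ V) (U.ι ⁻¹ᵁ V) hle ≫ (f ⁻¹ᵁ V).ι = (U.ι ⁻¹ᵁ V).ι ≫ t :=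
    Scheme.Hom.resLE_comp_ι _ _
  obtain ⟨g, hg, hguniq⟩ := existsUnique_comp_eq (U.ι ∣_ V) hbij
    (t.resLE (f ⁻¹ᵁ V) (U.ι ⁻¹ᵁ V) hle)
  dsimp only at hg hguniq
  refine ⟨g ≫ (f ⁻¹ᵁ V).ι, ⟨?_, ?_⟩, ?_⟩
  · have h1 : g ≫ (f ∣_ V) = 𝟙 _ := by
      apply (existsUnique_comp_eq (U.ι ∣_ V) hbij (U.ι ∣_ V)).unique
      · rw [← Category.assoc, hg, ← cancel_mono V.ι, Category.assoc, morphismRestrict_ι,
          ← Category.assoc, htV, Category.assoc, ht, morphismRestrict_ι]
      · rw [Category.comp_id]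
    rw [Category.assoc, ← morphismRestrict_ι, ← Category.assoc, h1, Category.id_comp]
  · rw [← Category.assoc, hg, htV]
  · rintro s' ⟨hs'1, hs'2⟩
    have hrange : Set.range s' ⊆ Set.range (f ⁻¹ᵁ V).ι := by
      rintro _ ⟨x, rfl⟩
      rw [Scheme.Opens.range_ι]
      change f (s' x) ∈ V
      rw [← Scheme.Hom.comp_apply, hs'1]
      exact x.2
    have hg' : IsOpenImmersion.lift (f ⁻¹ᵁ V).ι s' hrange ≫ (f ⁻¹ᵁ V).ι = s' :=
      IsOpenImmersion.lift_fac _ _ _
    have h3 : IsOpenImmersion.lift (f ⁻¹ᵁ V).ι s' hrange = g := by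
      apply hguniq
      rw [← cancel_mono (f ⁻¹ᵁ V).ι, Category.assoc, hg', hs'2, htV]
    rw [← hg', h3]

/-- **Hartogs extension of sections of affine morphisms.** -/
theorem exists_extension
    (hZ : ∀ z : X, z ∉ U → ∃ a b : X.presheaf.stalk z,
      a ∈ IsLocalRing.maximalIdeal (X.presheaf.stalk z) ∧
      b ∈ IsLocalRing.maximalIdeal (X.presheaf.stalk z) ∧
      RingTheory.Sequence.IsWeaklyRegular (X.presheaf.stalk z) [a, b])
    {Y : Scheme.{u}} (f : Y ⟶ X) [IsAffineHom f] (t : (U : Scheme.{u}) ⟶ Y) (ht : t ≫ f = U.ι) :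
    ∃ s : X ⟶ Y, s ≫ f = 𝟙 X ∧ U.ι ≫ s = t := by
  choose sV hsV huniq using fun V : X.affineOpens => local_existsUnique U hZ f t ht V.1 V.2
  have hcompat : ∀ (V₁ V₂ : X.affineOpens) (h : V₁ ≤ V₂), X.homOfLE h ≫ sV V₂ = sV V₁ := by
    intro V₁ V₂ h
    apply huniq V₁
    refine ⟨?_, ?_⟩
    · rw [Category.assoc, (hsV V₂).1, Scheme.homOfLE_ι]
    · rw [← Category.assoc]
      apply comp_eq_of_morphismRestrict U t V₂.1 (sV V₂) (hsV V₂).2
      rw [Category.assoc, Scheme.homOfLE_ι, morphismRestrict_ι]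
  let s : X ⟶ Y := X.directedAffineCover.glueMorphismsOfLocallyDirected (fun V => sV V)
    (fun {V₁ V₂} hij => hcompat V₁ V₂ (leOfHom hij))
  have hs : ∀ V : X.affineOpens, V.1.ι ≫ s = sV V := fun V =>
    X.directedAffineCover.map_glueMorphismsOfLocallyDirected _ _ V
  refine ⟨s, ?_, ?_⟩
  · apply X.directedAffineCover.hom_ext
    intro V
    change V.1.ι ≫ s ≫ f = V.1.ι ≫ 𝟙 X
    rw [← Category.assoc, hs V, Category.comp_id]
    exact (hsV V).1
  · apply (X.directedAffineCover.pullback₁ U.ι).hom_ext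
    intro V
    change pullback.fst U.ι V.1.ι ≫ U.ι ≫ s = pullback.fst U.ι V.1.ι ≫ t
    rw [← Category.assoc, pullback.condition, Category.assoc, hs V]
    exact comp_eq_of_morphismRestrict U t V.1 (sV V) (hsV V).2 _ _ pullback.condition.symm

end Mor

end Groth.Agent.Lib.Seat34.Hartogs
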