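import Mathlib.RingTheory.MvPolynomial.MonomialOrder
import Mathlib.RingTheory.MvPolynomial.Basic
import Mathlib.Data.Finsupp.MonomialOrder
import Mathlib.Algebra.Polynomial.AlgebraMap

/-!
# McCoy's theorem for multivariate polynomials (seat 34)

If `P * Q = 0` in `MvPolynomial σ R` and no nonzero scalar kills `P`, then `Q = 0`.
-/

set_option autoImplicit false

namespace Groth.Agent.Lib.Seat34.McCoyMv

open MvPolynomial
open scoped MonomialOrder

variable {σ : Type*} {R : Type*} [CommRing R]

/-- McCoy's theorem, multivariate version, for a given monomial order. -/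
theorem eq_zero_of_mul_eq_zero_of_smul (m : MonomialOrder σ) (P : MvPolynomial σ R)
    (h : ∀ r : R, r • P = 0 → r = 0) :
    ∀ Q : MvPolynomial σ R, P * Q = 0 → Q = 0 := by
  classical
  intro Q
  induction hd : m.toSyn (m.degree Q) using WellFoundedLT.induction generalizing Q with
  | ind e IHQ =>
  intro hQ
  subst hd
  -- it suffices to show all coefficients of `P` kill `Q`
  suffices hall : ∀ d, P.coeff d • Q = 0 by
    rw [← m.leadingCoeff_eq_zero_iff]
    apply h
    ext d
    have := congrArg (fun q => MvPolynomial.coeff (m.degree Q) q) (hall d)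
    simpa [MonomialOrder.leadingCoeff, mul_comm] using this
  by_contra hne
  push Not at hne
  -- the finite set of bad monomials
  let S : Finset (σ →₀ ℕ) := P.support.filter (fun d => P.coeff d • Q ≠ 0)
  have hS : S.Nonempty := by
    obtain ⟨d, hd⟩ := hne
    refine ⟨d, ?_⟩
    simp only [S, Finset.mem_filter, mem_support_iff]
    refine ⟨?_, hd⟩
    intro h0
    exact hd (by rw [h0, zero_smul])
  obtain ⟨l, hlS, hlmax⟩ := S.exists_max_image (fun d => m.toSyn d) hS
  have hl : P.coeff l • Q ≠ 0 := (Finset.mem_filter.mp hlS).2
  have IH : ∀ d, l ≺[m] d → P.coeff d • Q = 0 := by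
    intro d hd
    by_contra hbad
    have hdS : d ∈ S := by
      simp only [S, Finset.mem_filter, mem_support_iff]
      refine ⟨?_, hbad⟩
      intro h0
      exact hbad (by rw [h0, zero_smul])
    exact absurd (hlmax d hdS) (not_le.mpr hd)
  apply hl
  have hle : m.degree (P.coeff l • Q) ≼[m] m.degree Q := MonomialOrder.degree_smul_le
  rcases hle.lt_or_eq with hlt | heq
  · apply IHQ _ hlt (P.coeff l • Q) rfl
    rw [mul_smul_comm, hQ, smul_zero]
  · have heq' : m.degree (P.coeff l • Q) = m.degree Q := m.toSyn.injective heq
    suffices hcoef : P.coeff l * m.leadingCoeff Q = 0 by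
      have h3 : m.leadingCoeff (P.coeff l • Q) = 0 := by
        unfold MonomialOrder.leadingCoeff
        rw [heq', coeff_smul, smul_eq_mul]
        exact hcoef
      exact (m.leadingCoeff_eq_zero_iff).mp h3
    have hsum : (P * Q).coeff (l + m.degree Q) = P.coeff l * m.leadingCoeff Q := by
      rw [coeff_mul]
      apply Finset.sum_eq_single (l, m.degree Q)
      · rintro ⟨i, j⟩ hij hne'
        simp only [Finset.mem_antidiagonal] at hij
        rcases lt_trichotomy (m.toSyn i) (m.toSyn l) with hi | hi | hi
        · -- then j is bigger than degree Q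
          have hj : m.degree Q ≺[m] j := by
            by_contra hj
            rw [not_lt] at hj
            have h1 : m.toSyn (i + j) < m.toSyn (l + m.degree Q) := by
              rw [map_add, map_add]
              exact add_lt_add_of_lt_of_le hi hj
            rw [hij] at h1
            exact lt_irrefl _ h1
          rw [m.coeff_eq_zero_of_lt hj, mul_zero]
        · have hil : i = l := m.toSyn.injective hi
          subst hil
          have : j = m.degree Q := add_left_cancel hij
          subst this
          exact absurd rfl hne'
        · have := IH i hi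
          have h2 := congrArg (fun q => MvPolynomial.coeff j q) this
          simpa using h2
      · intro hnot
        simp at hnot
    rw [← hsum, hQ, coeff_zero]

/-- If the coefficients of `f` span the unit ideal, no nonzero scalar kills `f`. -/
theorem smul_eq_zero_imp_of_span_coeff_eq_top (f : MvPolynomial σ R)
    (hf : Ideal.span (Set.range f.coeff) = ⊤) (r : R) (hr : r • f = 0) : r = 0 := by
  have h1 : (1 : R) ∈ Ideal.span (Set.range f.coeff) := by rw [hf]; trivial
  have hker : Ideal.span (Set.range f.coeff) ≤ LinearMap.ker (LinearMap.mulLeft R r) := by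
    rw [Ideal.span_le]
    rintro _ ⟨d, rfl⟩
    have := congrArg (fun q => MvPolynomial.coeff d q) hr
    simpa using this
  have := hker h1
  simpa using this

/-- A polynomial whose coefficients span the unit ideal is a non-zero-divisor. -/
theorem mem_nonZeroDivisors_of_span_coeff_eq_top (m : MonomialOrder σ) (f : MvPolynomial σ R)
    (hf : Ideal.span (Set.range f.coeff) = ⊤) : f ∈ nonZeroDivisors (MvPolynomial σ R) := by
  rw [mem_nonZeroDivisors_iff_right]
  intro Q hQ
  rw [mul_comm] at hQ
  exact eq_zero_of_mul_eq_zero_of_smul m f (smul_eq_zero_imp_of_span_coeff_eq_top f hf) Q hQ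

end Groth.Agent.Lib.Seat34.McCoyMv
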