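import Mathlib.RingTheory.Ideal.AssociatedPrime.Basic
import Mathlib.RingTheory.Localization.AtPrime.Basic
import Mathlib.RingTheory.LocalRing.MaximalIdeal.Basic
import Mathlib.RingTheory.Spectrum.Prime.Topology
import Mathlib.RingTheory.Noetherian.Basic
import Mathlib.RingTheory.Localization.Submodule
import Mathlib.RingTheory.Localization.Ideal

/-!
# Ring-theoretic part of: embedded closed point gives a nilpotent section (seat 34)
-/

set_option autoImplicit false

namespace Groth.Agent.Lib.Seat34.NoEmbRing

/-- In a local ring whose maximal ideal is an associated prime and which has a prime other than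
the maximal ideal, there is a nonzero element of the maximal ideal killed by the maximal ideal. -/
theorem exists_killed_by_maximalIdeal {S : Type*} [CommRing S] [IsLocalRing S]
    [IsNoetherianRing S]
    (hass : IsAssociatedPrime (IsLocalRing.maximalIdeal S) S)
    (hq : ∃ q : Ideal S, q.IsPrime ∧ q ≠ IsLocalRing.maximalIdeal S) :
    ∃ s : S, s ≠ 0 ∧ s ∈ IsLocalRing.maximalIdeal S ∧
      ∀ b ∈ IsLocalRing.maximalIdeal S, b * s = 0 := by
  obtain ⟨-, s, hs⟩ := isAssociatedPrime_iff.mp hass
  have hmem : ∀ b : S, b ∈ IsLocalRing.maximalIdeal S ↔ b * s = 0 := by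
    intro b
    rw [hs, Submodule.mem_colon_singleton, Submodule.mem_bot, smul_eq_mul]
  have hs0 : s ≠ 0 := by
    rintro rfl
    have : (1 : S) ∈ IsLocalRing.maximalIdeal S := (hmem 1).mpr (by simp)
    exact (Ideal.ne_top_iff_one _).mp (IsLocalRing.maximalIdeal.isMaximal S).ne_top this
  refine ⟨s, hs0, ?_, fun b hb => (hmem b).mp hb⟩
  by_contra hsm
  have hunit : IsUnit s := by
    by_contra hu
    exact hsm ((IsLocalRing.mem_maximalIdeal s).mpr hu)
  have hbot : IsLocalRing.maximalIdeal S = ⊥ := by
    rw [eq_bot_iff]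
    intro b hb
    have := (hmem b).mp hb
    rw [Submodule.mem_bot]
    exact (hunit.mul_left_eq_zero).mp this
  obtain ⟨q, hqp, hqne⟩ := hq
  apply hqne
  have : q ≤ IsLocalRing.maximalIdeal S := IsLocalRing.le_maximalIdeal hqp.ne_top
  rw [hbot] at this ⊢
  exact le_bot_iff.mp this

/-- Spreading out: if `S` is the localization of a Noetherian ring `A` at the prime `p`, and the
maximal ideal of `S` is an associated prime of `S` while `S` has another prime, then there is
`a ∈ p` with nonzero image in `S` such that `p * a = 0` (in particular `a * a = 0`). -/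
theorem exists_spread {A S : Type*} [CommRing A] [IsNoetherianRing A] [CommRing S] [Algebra A S]
    (p : Ideal A) [p.IsPrime] [IsLocalization.AtPrime S p] [IsLocalRing S]
    (hass : IsAssociatedPrime (IsLocalRing.maximalIdeal S) S)
    (hq : ∃ q : Ideal S, q.IsPrime ∧ q ≠ IsLocalRing.maximalIdeal S) :
    ∃ a : A, algebraMap A S a ≠ 0 ∧ a ∈ p ∧ ∀ b ∈ p, b * a = 0 := by
  classical
  haveI : IsNoetherianRing S := IsLocalization.isNoetherianRing p.primeCompl S inferInstance
  obtain ⟨s, hs0, hsm, hkill⟩ := exists_killed_by_maximalIdeal hass hq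
  obtain ⟨a, u, hau⟩ := IsLocalization.exists_mk'_eq p.primeCompl s
  -- `algebraMap a = s * algebraMap u`
  have ha : algebraMap A S a = s * algebraMap A S u := by
    rw [← hau, IsLocalization.mk'_spec]
  have hu : IsUnit (algebraMap A S (u : A)) := IsLocalization.map_units S u
  have ha0 : algebraMap A S a ≠ 0 := by
    rw [ha]
    intro h0
    exact hs0 ((hu.mul_left_eq_zero).mp h0)
  have ham : algebraMap A S a ∈ IsLocalRing.maximalIdeal S := by
    rw [ha]
    exact Ideal.mul_mem_right _ _ hsm
  have hap : a ∈ p := (IsLocalization.AtPrime.to_map_mem_maximal_iff S p a).mp ham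
  have hkill' : ∀ b ∈ p, algebraMap A S (b * a) = 0 := by
    intro b hb
    have hbm : algebraMap A S b ∈ IsLocalRing.maximalIdeal S :=
      (IsLocalization.AtPrime.to_map_mem_maximal_iff S p b).mpr hb
    rw [map_mul, ha, ← mul_assoc, hkill _ hbm, zero_mul]
  -- generators of `p`
  obtain ⟨G, hG⟩ := (isNoetherianRing_iff_ideal_fg A).mp inferInstance p
  have hGp : ∀ g ∈ G, g ∈ p := fun g hg => hG ▸ Ideal.subset_span hg
  have hex : ∀ g : A, ∃ v : A, v ∈ p.primeCompl ∧ (g ∈ G → v * (g * a) = 0) := by
    intro g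
    by_cases hg : g ∈ G
    · obtain ⟨v, hv⟩ := (IsLocalization.map_eq_zero_iff p.primeCompl S (g * a)).mp
        (hkill' g (hGp g hg))
      exact ⟨v, v.2, fun _ => hv⟩
    · exact ⟨1, Submonoid.one_mem _, fun h => absurd h hg⟩
  choose v hvp hv using hex
  let w : A := ∏ g ∈ G, v g
  have hw : w ∈ p.primeCompl := Submonoid.prod_mem _ (fun g _ => hvp g)
  refine ⟨w * a, ?_, Ideal.mul_mem_left _ _ hap, ?_⟩
  · rw [map_mul]
    intro h0
    exact ha0 (((IsLocalization.map_units S ⟨w, hw⟩).mul_right_eq_zero).mp h0)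
  · intro b hb
    rw [← hG] at hb
    refine Submodule.span_induction (p := fun b _ => b * (w * a) = 0) ?_ ?_ ?_ ?_ hb
    · intro g hg
      obtain ⟨c, hc⟩ := Finset.dvd_prod_of_mem v hg
      have : w = v g * c := hc
      rw [this]
      calc g * (v g * c * a) = c * (v g * (g * a)) := by ring
        _ = 0 := by rw [hv g hg, mul_zero]
    · simp
    · intro x y _ _ hx hy
      rw [add_mul, hx, hy, add_zero]
    · intro r x _ hx
      rw [smul_eq_mul, mul_assoc, hx, mul_zero]

end Groth.Agent.Lib.Seat34.NoEmbRing
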