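import Mathlib
import Groth.Agent.Lib.Seat34NoEmbRing
import Groth.Agent.Lib.Helper23UnitStalk

/-!
# An embedded closed point of a Noetherian scheme yields a nilpotent global section (seat 34)
-/

set_option autoImplicit false
universe u

open CategoryTheory AlgebraicGeometry TopologicalSpace Opposite

namespace Groth.Agent.Lib.Seat34.NoEmb

open Groth.Agent.Lib.Seat34.NoEmbRing

variable {C : Scheme.{u}}

/-- A closed point `x` of a Noetherian scheme whose maximal ideal is an associated prime of the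
local ring, while the local ring has another prime, gives a nonzero global section of square zero. -/
theorem exists_nilpotent_section [IsNoetherian C] (x : C) (hx : IsClosed ({x} : Set C))
    (hass : IsAssociatedPrime (IsLocalRing.maximalIdeal (C.presheaf.stalk x)) (C.presheaf.stalk x))
    (hq : ∃ q : Ideal (C.presheaf.stalk x), q.IsPrime ∧ q ≠ IsLocalRing.maximalIdeal _) :
    ∃ t : Γ(C, ⊤), t ≠ 0 ∧ t * t = 0 := by
  obtain ⟨_, ⟨U, hU, rfl⟩, hxU, -⟩ :=
    C.isBasis_affineOpens.exists_subset_of_mem_open (Set.mem_univ x) isOpen_univ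
  have : IsNoetherianRing Γ(C, U) := IsLocallyNoetherian.component_noetherian ⟨U, hU⟩
  letI := C.presheaf.algebra_section_stalk (⟨x, hxU⟩ : U)
  have := hU.isLocalization_stalk ⟨x, hxU⟩
  obtain ⟨a, ha0, hap, hkill⟩ := exists_spread (hU.primeIdealOf ⟨x, hxU⟩).asIdeal hass hq
  have ha0' : C.presheaf.germ U x hxU a ≠ 0 := ha0
  have haa : a * a = 0 := hkill a hap
  -- the complement of the closed point
  let V : C.Opens := ⟨{x}ᶜ, hx.isOpen_compl⟩
  have hcover : (⊤ : C.Opens) ≤ U ⊔ V := by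
    intro z _
    by_cases hz : z = x
    · exact Or.inl (hz ▸ hxU)
    · exact Or.inr hz
  -- `a` vanishes away from `x`
  have hzero : C.presheaf.map (homOfLE (inf_le_left : U ⊓ V ≤ U)).op a = 0 := by
    apply TopCat.Presheaf.section_ext C.sheaf
    intro z hz
    show C.presheaf.germ (U ⊓ V) z hz (C.presheaf.map (homOfLE (inf_le_left : U ⊓ V ≤ U)).op a) =
      C.presheaf.germ (U ⊓ V) z hz 0
    have hzU : z ∈ U := hz.1
    have hzx : z ≠ x := hz.2
    rw [map_zero, TopCat.Presheaf.germ_res_apply C.presheaf (homOfLE (inf_le_left : U ⊓ V ≤ U)) z hz a]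
    -- find `g ∈ p` invertible at `z`
    have hnle : ¬ (hU.primeIdealOf ⟨x, hxU⟩).asIdeal ≤ (hU.primeIdealOf ⟨z, hzU⟩).asIdeal := by
      intro hle
      have hsp : hU.primeIdealOf ⟨x, hxU⟩ ⤳ hU.primeIdealOf ⟨z, hzU⟩ :=
        (PrimeSpectrum.le_iff_specializes _ _).mp hle
      have hsp' := hsp.map hU.fromSpec.continuous
      rw [hU.fromSpec_primeIdealOf, hU.fromSpec_primeIdealOf] at hsp'
      have : z ∈ closure ({x} : Set C) := (specializes_iff_mem_closure).mp hsp'
      rw [hx.closure_eq] at this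
      exact hzx this
    obtain ⟨g, hgp, hgz⟩ := SetLike.not_le_iff_exists.mp hnle
    letI := C.presheaf.algebra_section_stalk (⟨z, hzU⟩ : U)
    have := hU.isLocalization_stalk ⟨z, hzU⟩
    have hunit : IsUnit (C.presheaf.germ U z hzU g) :=
      IsLocalization.map_units (C.presheaf.stalk z)
        (⟨g, hgz⟩ : (hU.primeIdealOf ⟨z, hzU⟩).asIdeal.primeCompl)
    have h0 : C.presheaf.germ U z hzU g * C.presheaf.germ U z hzU a = 0 := by
      rw [← map_mul, hkill g hgp, map_zero]
    exact (hunit.mul_right_eq_zero).mp h0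
  -- glue `a` on `U` with `0` on `V`
  let x0 : (CommRingCat.of <| RingHom.eqLocus
      (RingHom.comp (C.sheaf.obj.map (homOfLE inf_le_left : U ⊓ V ⟶ U).op).hom
        (RingHom.fst (C.sheaf.obj.obj <| op U) (C.sheaf.obj.obj <| op V)))
      (RingHom.comp (C.sheaf.obj.map (homOfLE inf_le_right : U ⊓ V ⟶ V).op).hom
        (RingHom.snd (C.sheaf.obj.obj <| op U) (C.sheaf.obj.obj <| op V)))) :=
    ⟨(a, 0), by
      show C.presheaf.map (homOfLE (inf_le_left : U ⊓ V ≤ U)).op a =
        C.presheaf.map (homOfLE (inf_le_right : U ⊓ V ≤ V)).op 0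
      rw [hzero, map_zero]⟩
  let t0 : Γ(C, U ⊔ V) := (C.sheaf.objSupIsoProdEqLocus U V).inv x0
  have ht0U : C.presheaf.map (homOfLE (le_sup_left : U ≤ U ⊔ V)).op t0 = a :=
    TopCat.Sheaf.objSupIsoProdEqLocus_inv_fst C.sheaf U V x0
  have ht0V : C.presheaf.map (homOfLE (le_sup_right : V ≤ U ⊔ V)).op t0 = 0 :=
    TopCat.Sheaf.objSupIsoProdEqLocus_inv_snd C.sheaf U V x0
  let t : Γ(C, ⊤) := C.presheaf.map (homOfLE hcover).op t0
  have htU : C.presheaf.map (homOfLE (le_top : U ≤ ⊤)).op t = a := by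
    rw [← ht0U]
    show (C.presheaf.map (homOfLE hcover).op ≫ C.presheaf.map (homOfLE (le_top : U ≤ ⊤)).op) t0 = _
    rw [← Functor.map_comp]
    rfl
  have htV : C.presheaf.map (homOfLE (le_top : V ≤ ⊤)).op t = 0 := by
    rw [← ht0V]
    show (C.presheaf.map (homOfLE hcover).op ≫ C.presheaf.map (homOfLE (le_top : V ≤ ⊤)).op) t0 = _
    rw [← Functor.map_comp]
    rfl
  refine ⟨t, ?_, ?_⟩
  · intro ht
    apply ha0'
    rw [← htU, ht, map_zero, map_zero]
  · apply C.sheaf.eq_of_locally_eq₂ (homOfLE (le_top : U ≤ ⊤)) (homOfLE (le_top : V ≤ ⊤)) hcover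
    · show C.presheaf.map (homOfLE (le_top : U ≤ ⊤)).op (t * t) =
        C.presheaf.map (homOfLE (le_top : U ≤ ⊤)).op 0
      rw [map_mul, htU, haa, map_zero]
    · show C.presheaf.map (homOfLE (le_top : V ≤ ⊤)).op (t * t) =
        C.presheaf.map (homOfLE (le_top : V ≤ ⊤)).op 0
      rw [map_mul, htV, mul_zero, map_zero]

end Groth.Agent.Lib.Seat34.NoEmb
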