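import Groth.Agent.Lib.Seat34StalkIdeal

/-!
# Points, primes and dimensions of local rings (seat 34)

* `primeIdealOf_le_iff_specializes`: for two points of an affine open, `y ⤳ x` iff the prime of `y`
  is contained in the prime of `x`.
* `ringKrullDim_stalk_le_of_specializes`: the dimension of the local ring does not increase under
  generisation.
* `exists_point_of_prime_stalk'`: a prime `Q` of `O_{X,x}` is a generisation `y` of `x` with
  `dim O_{X,y} = height Q`.
* `exists_maximal_point_specializing`: every point of a closed set is a specialisation of a maximal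
  point of that closed set.
-/

set_option autoImplicit false
universe u
open CategoryTheory CategoryTheory.Limits AlgebraicGeometry TopologicalSpace

namespace Groth.Agent.Lib.Seat34.PointDim

open Groth.Agent.Lib.Seat34.ExtendCartier Groth.Agent.Lib.Seat34.StalkIdeal

variable {X : Scheme.{u}}

theorem specializes_of_primeIdealOf_le (V : X.affineOpens) (y x : X) (hyV : y ∈ V.1) (hxV : x ∈ V.1)
    (h : (V.2.primeIdealOf ⟨y, hyV⟩).asIdeal ≤ (V.2.primeIdealOf ⟨x, hxV⟩).asIdeal) : y ⤳ x := by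
  have hV : IsAffineOpen V.1 := V.2
  have hsp : hV.primeIdealOf ⟨y, hyV⟩ ⤳ hV.primeIdealOf ⟨x, hxV⟩ :=
    (PrimeSpectrum.le_iff_specializes _ _).mp h
  have := hsp.map hV.fromSpec.continuous
  rwa [hV.fromSpec_primeIdealOf ⟨y, hyV⟩, hV.fromSpec_primeIdealOf ⟨x, hxV⟩] at this

theorem primeIdealOf_le_of_specializes (V : X.affineOpens) (y x : X) (hyV : y ∈ V.1) (hxV : x ∈ V.1)
    (h : y ⤳ x) :
    (V.2.primeIdealOf ⟨y, hyV⟩).asIdeal ≤ (V.2.primeIdealOf ⟨x, hxV⟩).asIdeal := by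
  have hV : IsAffineOpen V.1 := V.2
  rw [PrimeSpectrum.asIdeal_le_asIdeal, PrimeSpectrum.le_iff_specializes]
  have h1 : (⟨y, hyV⟩ : V.1) ⤳ ⟨x, hxV⟩ := Topology.IsInducing.subtypeVal.specializes_iff.mp h
  exact h1.map hV.isoSpec.hom.continuous

theorem eq_of_primeIdealOf_eq (V : X.affineOpens) (y x : X) (hyV : y ∈ V.1) (hxV : x ∈ V.1)
    (h : V.2.primeIdealOf ⟨y, hyV⟩ = V.2.primeIdealOf ⟨x, hxV⟩) : y = x := by
  have h1 := V.2.fromSpec_primeIdealOf ⟨y, hyV⟩
  have h2 := V.2.fromSpec_primeIdealOf ⟨x, hxV⟩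
  rw [h] at h1
  exact h1.symm.trans h2

theorem ringKrullDim_stalk_eq_height (V : X.affineOpens) (x : X) (hxV : x ∈ V.1) :
    ringKrullDim (X.presheaf.stalk x) = (V.2.primeIdealOf ⟨x, hxV⟩).asIdeal.height := by
  have hV : IsAffineOpen V.1 := V.2
  let _ : Algebra Γ(X, V.1) (X.presheaf.stalk x) := X.presheaf.algebra_section_stalk ⟨x, hxV⟩
  have hloc : IsLocalization.AtPrime (X.presheaf.stalk x) (hV.primeIdealOf ⟨x, hxV⟩).asIdeal :=
    hV.isLocalization_stalk ⟨x, hxV⟩
  exact IsLocalization.AtPrime.ringKrullDim_eq_height _ _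

theorem ringKrullDim_stalk_le_of_specializes {y x : X} (h : y ⤳ x) :
    ringKrullDim (X.presheaf.stalk y) ≤ ringKrullDim (X.presheaf.stalk x) := by
  obtain ⟨V, hxV⟩ := exists_affine x
  have hyV : y ∈ V.1 := h.mem_open V.1.isOpen hxV
  rw [ringKrullDim_stalk_eq_height V x hxV, ringKrullDim_stalk_eq_height V y hyV]
  exact WithBot.coe_le_coe.mpr (Ideal.height_mono (primeIdealOf_le_of_specializes V y x hyV hxV h))

/-- A prime `Q` of the local ring at `x` is a generisation `y` of `x` with `dim O_y = height Q`. -/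
theorem exists_point_of_prime_stalk' (x : X) (Q : Ideal (X.presheaf.stalk x)) [hQ : Q.IsPrime] :
    ∃ y : X, y ⤳ x ∧ (∀ J : X.IdealSheafData, stalkIdeal J x ≤ Q ↔ y ∈ J.support) ∧
      ringKrullDim (X.presheaf.stalk y) = Q.height := by
  obtain ⟨V, hxV⟩ := exists_affine x
  have hV : IsAffineOpen V.1 := V.2
  let _ : Algebra Γ(X, V.1) (X.presheaf.stalk x) := X.presheaf.algebra_section_stalk ⟨x, hxV⟩
  have hloc : IsLocalization.AtPrime (X.presheaf.stalk x) (hV.primeIdealOf ⟨x, hxV⟩).asIdeal :=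
    hV.isLocalization_stalk ⟨x, hxV⟩
  have hqprime : (Q.comap (algebraMap Γ(X, V.1) (X.presheaf.stalk x))).IsPrime :=
    Ideal.comap_isPrime _ Q
  obtain ⟨y, hyV, hy⟩ :=
    exists_point_of_prime V (Q.comap (algebraMap Γ(X, V.1) (X.presheaf.stalk x)))
  refine ⟨y, ?_, fun J => ?_, ?_⟩
  · apply specializes_of_primeIdealOf_le V y x hyV hxV
    rw [hy]
    intro r hr
    by_contra hrp
    have hru : IsUnit (algebraMap Γ(X, V.1) (X.presheaf.stalk x) r) :=
      IsLocalization.map_units _ (⟨r, hrp⟩ : (hV.primeIdealOf ⟨x, hxV⟩).asIdeal.primeCompl)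
    exact hQ.ne_top (Ideal.eq_top_of_isUnit_mem _ hr hru)
  · rw [mem_support_iff_le_primeIdealOf J V y hyV, hy, stalkIdeal_eq J V x hxV]
    exact Ideal.map_le_iff_le_comap
  · rw [ringKrullDim_stalk_eq_height V y hyV, hy]
    exact congrArg _ (IsLocalization.height_under (hV.primeIdealOf ⟨x, hxV⟩).asIdeal.primeCompl Q)

/-- Every point of a closed subset is a specialisation of a maximal point of the closed subset. -/
theorem exists_maximal_point_specializing (Z' : Set X) (hZ' : IsClosed Z') (z : X) (hz : z ∈ Z') :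
    ∃ z' ∈ Z', z' ⤳ z ∧ ∀ y ∈ Z', y ⤳ z' → y = z' := by
  obtain ⟨V, hzV⟩ := exists_affine z
  have hV : IsAffineOpen V.1 := V.2
  have hmem : ∀ (w : X) (hwV : w ∈ V.1), w ∈ Z' ↔
      (Scheme.IdealSheafData.vanishingIdeal ⟨Z', hZ'⟩).ideal V ≤
        (hV.primeIdealOf ⟨w, hwV⟩).asIdeal := by
    intro w hwV
    rw [← mem_support_iff_le_primeIdealOf _ V w hwV, ← SetLike.mem_coe,
      Scheme.IdealSheafData.coe_support_vanishingIdeal]
    rfl
  obtain ⟨q, hq, hqz⟩ := Ideal.exists_minimalPrimes_le ((hmem z hzV).mp hz)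
  have hqprime : q.IsPrime := hq.1.1
  obtain ⟨z', hz'V, hz'⟩ := exists_point_of_prime V q
  refine ⟨z', (hmem z' hz'V).mpr (hz'.symm ▸ hq.1.2), ?_, ?_⟩
  · apply specializes_of_primeIdealOf_le V z' z hz'V hzV
    rw [hz']
    exact hqz
  · intro y hyZ hy
    have hyV : y ∈ V.1 := hy.mem_open V.1.isOpen hz'V
    have h1 := primeIdealOf_le_of_specializes V y z' hyV hz'V hy
    rw [hz'] at h1
    have h2 : q ≤ (hV.primeIdealOf ⟨y, hyV⟩).asIdeal :=
      hq.2 ⟨(hV.primeIdealOf ⟨y, hyV⟩).isPrime, (hmem y hyV).mp hyZ⟩ h1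
    apply eq_of_primeIdealOf_eq V y z' hyV hz'V
    apply PrimeSpectrum.ext
    rw [hz']
    exact le_antisymm h1 h2

end Groth.Agent.Lib.Seat34.PointDim
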