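import Groth.Agent.Lib.Seat34McCoyMv
import Mathlib.RingTheory.TensorProduct.MvPolynomial
import Mathlib.RingTheory.Flat.Tensor
import Mathlib.RingTheory.Flat.Basic
import Mathlib.LinearAlgebra.TensorProduct.RightExactness
import Mathlib.RingTheory.Ideal.Quotient.Operations

/-!
# The quotient of a polynomial ring by a primitive polynomial is flat (seat 34)
-/

set_option autoImplicit false

namespace Groth.Agent.Lib.Seat34.PrimitiveFlat

open MvPolynomial TensorProduct LinearMap
open Groth.Agent.Lib.Seat34.McCoyMv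

universe u v

variable {σ : Type v} {A : Type u} [CommRing A]

/-- Coefficients of the image polynomial still span the unit ideal. -/
theorem span_coeff_map_eq_top {B : Type*} [CommRing B] (φ : A →+* B) (f : MvPolynomial σ A)
    (hf : Ideal.span (Set.range f.coeff) = ⊤) :
    Ideal.span (Set.range (MvPolynomial.map φ f).coeff) = ⊤ := by
  have h1 : Ideal.map φ (Ideal.span (Set.range f.coeff)) = ⊤ := by rw [hf, Ideal.map_top]
  rw [Ideal.map_span] at h1
  rw [← h1]
  congr 1
  ext x
  constructor
  · rintro ⟨d, rfl⟩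
    exact ⟨f.coeff d, ⟨d, rfl⟩, (MvPolynomial.coeff_map φ f d).symm⟩
  · rintro ⟨_, ⟨d, rfl⟩, rfl⟩
    exact ⟨d, MvPolynomial.coeff_map φ f d⟩

/-- Multiplication by a primitive polynomial stays injective after any base change. -/
theorem lTensor_mulLeft_injective (m : MonomialOrder σ) (f : MvPolynomial σ A)
    (hf : Ideal.span (Set.range f.coeff) = ⊤) (B : Type*) [CommRing B] [Algebra A B] :
    Function.Injective (LinearMap.lTensor B (LinearMap.mulLeft A f)) := by
  let e := MvPolynomial.algebraTensorAlgEquiv (σ := σ) A B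
  have key : ∀ x : B ⊗[A] MvPolynomial σ A,
      e (LinearMap.lTensor B (LinearMap.mulLeft A f) x) =
        MvPolynomial.map (algebraMap A B) f * e x := by
    intro x
    induction x using TensorProduct.induction_on with
    | zero => simp
    | tmul b p =>
      simp only [LinearMap.lTensor_tmul, LinearMap.mulLeft_apply, e,
        MvPolynomial.algebraTensorAlgEquiv_tmul, map_mul]
      rw [mul_smul_comm]
    | add x y hx hy => rw [map_add, map_add, hx, hy, map_add, mul_add]
  rw [injective_iff_map_eq_zero]
  intro x hx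
  have h1 : MvPolynomial.map (algebraMap A B) f * e x = 0 := by rw [← key, hx, map_zero]
  have h2 : e x = 0 :=
    eq_zero_of_mul_eq_zero_of_smul m _
      (smul_eq_zero_imp_of_span_coeff_eq_top _ (span_coeff_map_eq_top _ f hf)) _ h1
  exact (map_eq_zero_iff e e.injective).mp h2

/-- The quotient of a polynomial ring by a primitive polynomial is flat over the base. -/
theorem flat_quotient_span_singleton (m : MonomialOrder σ) (f : MvPolynomial σ A)
    (hf : Ideal.span (Set.range f.coeff) = ⊤) :
    Module.Flat A (MvPolynomial σ A ⧸ Ideal.span ({f} : Set (MvPolynomial σ A))) := by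
  let μ : MvPolynomial σ A →ₗ[A] MvPolynomial σ A := LinearMap.mulLeft A f
  let π : MvPolynomial σ A →ₗ[A] MvPolynomial σ A ⧸ Ideal.span ({f} : Set (MvPolynomial σ A)) :=
    (Ideal.Quotient.mkₐ A (Ideal.span ({f} : Set (MvPolynomial σ A)))).toLinearMap
  have hπs : Function.Surjective π := Ideal.Quotient.mk_surjective
  have hex : Function.Exact μ π := by
    intro y
    constructor
    · intro hy
      have : y ∈ Ideal.span ({f} : Set (MvPolynomial σ A)) := Ideal.Quotient.eq_zero_iff_mem.mp hy
      obtain ⟨a, ha⟩ := Ideal.mem_span_singleton'.mp this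
      exact ⟨a, by simp only [μ, LinearMap.mulLeft_apply]; rw [mul_comm]; exact ha⟩
    · rintro ⟨a, rfl⟩
      apply Ideal.Quotient.eq_zero_iff_mem.mpr
      exact Ideal.mem_span_singleton'.mpr ⟨a, by simp only [μ, LinearMap.mulLeft_apply]; rw [mul_comm]⟩
  have hπμ : π ∘ₗ μ = 0 := LinearMap.ext fun y => hex.apply_apply_eq_zero y
  rw [Module.Flat.iff_rTensor_injective']
  intro I
  rw [injective_iff_map_eq_zero]
  intro z hz
  -- lift z to I ⊗ P
  obtain ⟨y, rfl⟩ := LinearMap.lTensor_surjective I hπs z
  -- the image of y in A ⊗ P dies in A ⊗ Q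
  have h1 : LinearMap.lTensor A π (LinearMap.rTensor (MvPolynomial σ A) I.subtype y) = 0 := by
    rw [← LinearMap.comp_apply, LinearMap.lTensor_comp_rTensor, ← LinearMap.rTensor_comp_lTensor,
      LinearMap.comp_apply]
    exact hz
  obtain ⟨p', hp'⟩ := (lTensor_exact A hex hπs _).mp h1
  -- p' dies in (A/I) ⊗ P
  let q : A →ₗ[A] A ⧸ I := (Ideal.Quotient.mkₐ A I).toLinearMap
  have hqs : Function.Surjective q := Ideal.Quotient.mk_surjective
  have hexq : Function.Exact I.subtype q := by
    intro a
    constructor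
    · intro ha
      exact ⟨⟨a, Ideal.Quotient.eq_zero_iff_mem.mp ha⟩, rfl⟩
    · rintro ⟨b, rfl⟩
      exact Ideal.Quotient.eq_zero_iff_mem.mpr b.2
  have hexq' := rTensor_exact (MvPolynomial σ A) hexq hqs
  have h2 : LinearMap.lTensor (A ⧸ I) μ (LinearMap.rTensor (MvPolynomial σ A) q p') = 0 := by
    rw [← LinearMap.comp_apply, LinearMap.lTensor_comp_rTensor, ← LinearMap.rTensor_comp_lTensor,
      LinearMap.comp_apply, hp']
    exact (hexq' _).mpr ⟨y, rfl⟩
  have h3 : LinearMap.rTensor (MvPolynomial σ A) q p' = 0 :=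
    (injective_iff_map_eq_zero _).mp (lTensor_mulLeft_injective m f hf (A ⧸ I)) _ h2
  obtain ⟨w, hw⟩ := (hexq' _).mp h3
  -- now y = μ w by flatness of P
  have hinj : Function.Injective (LinearMap.rTensor (MvPolynomial σ A) I.subtype) :=
    Module.Flat.rTensor_preserves_injective_linearMap _ Subtype.val_injective
  have h4 : y = LinearMap.lTensor I μ w := by
    apply hinj
    rw [← hp', ← hw, ← LinearMap.comp_apply, ← LinearMap.comp_apply,
      LinearMap.rTensor_comp_lTensor, LinearMap.lTensor_comp_rTensor]
  rw [h4, ← LinearMap.comp_apply, ← LinearMap.lTensor_comp, hπμ, LinearMap.lTensor_zero,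
    LinearMap.zero_apply]

end Groth.Agent.Lib.Seat34.PrimitiveFlat
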