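import Groth.Agent.Lib.Seat34TorsorFF

/-!
Helper library (helper34): points of pseudo-torsors; pushing a torsor along a homomorphism which
becomes an isomorphism after a base change `ξ`, and lifting sections over `ξ`.
-/

set_option autoImplicit false
universe u

open CategoryTheory MonoidalCategory CartesianMonoidalCategory MonObj AlgebraicGeometry Limits

namespace Groth.Agent.Lib.Seat34.TorsorGeneric

variable {S : Scheme.{u}}

section Points

variable {G X : Over S} [GrpObj G] (a : AlgGrp.Action G X)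

/-- Transitivity on points of a pseudo-torsor. -/
theorem exists_act_eq (h : NonAbH1.IsPseudoTorsorSch a) {T : Over S} (x y : T ⟶ X) :
    ∃ g : T ⟶ G, lift g y ≫ a.act = x := by
  have : IsIso (lift a.act (snd G X)) := h
  have h2 : inv (lift a.act (snd G X)) ≫ snd G X = snd X X := by
    rw [IsIso.inv_comp_eq, lift_snd]
  have h3 : inv (lift a.act (snd G X)) ≫ a.act = fst X X := by
    rw [IsIso.inv_comp_eq, lift_fst]
  refine ⟨lift x y ≫ inv (lift a.act (snd G X)) ≫ fst G X, ?_⟩
  have h4 : lift (lift x y ≫ inv (lift a.act (snd G X)) ≫ fst G X) y =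
      lift x y ≫ inv (lift a.act (snd G X)) := by
    apply CartesianMonoidalCategory.hom_ext
    · simp
    · simp [h2]
  rw [h4, Category.assoc, h3, lift_fst]

/-- Freeness on points of a pseudo-torsor. -/
theorem act_injective (h : NonAbH1.IsPseudoTorsorSch a) {T : Over S} (g₁ g₂ : T ⟶ G) (y : T ⟶ X)
    (e : lift g₁ y ≫ a.act = lift g₂ y ≫ a.act) : g₁ = g₂ := by
  have : IsIso (lift a.act (snd G X)) := h
  have h1 : ∀ g : T ⟶ G, lift g y ≫ lift a.act (snd G X) = lift (lift g y ≫ a.act) y := by
    intro g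
    apply CartesianMonoidalCategory.hom_ext <;> simp
  have h2 : lift g₁ y ≫ lift a.act (snd G X) = lift g₂ y ≫ lift a.act (snd G X) := by
    rw [h1, h1, e]
  have h3 : lift g₁ y = lift g₂ y := (cancel_mono _).mp h2
  have h4 := congrArg (· ≫ fst G X) h3
  simpa using h4

/-- The unit acts trivially on points. -/
theorem one_act_point {T : Over S} (y : T ⟶ X) :
    lift (toUnit T ≫ η[G]) y ≫ a.act = y := by
  have h1 : lift (toUnit T ≫ η[G]) y = lift (toUnit T) y ≫ (η[G] ▷ X) := by
    apply CartesianMonoidalCategory.hom_ext <;> simp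
  rw [h1, Category.assoc, a.one_act]
  simp

end Points

section Push

variable {G G' P P' : Over S} [GrpObj G] [GrpObj G'] (g : G ⟶ G')
  (a : AlgGrp.Action G P) (a' : AlgGrp.Action G' P')

theorem equivariant_point (f : P ⟶ P')
    (hf : a.act ≫ f = lift (fst G P ≫ g) (snd G P ≫ f) ≫ a'.act)
    {T : Over S} (h : T ⟶ G) (x : T ⟶ P) :
    (lift h x ≫ a.act) ≫ f = lift (h ≫ g) (x ≫ f) ≫ a'.act := by
  rw [Category.assoc, hf, ← Category.assoc, comp_lift]
  simp

omit [GrpObj G] [GrpObj G'] in
/-- If the base change of `g` along `ξ` is an isomorphism, `g` is bijective on points of objects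
lying over `ξ`. -/
theorem comp_bijective_of_isIso_pullback_map {S' : Scheme.{u}} (ξ : S' ⟶ S)
    (hg : IsIso ((Over.pullback ξ).map g)) (Z : Over S') :
    Function.Bijective (fun u : (Over.map ξ).obj Z ⟶ G => u ≫ g) := by
  let adj := Over.mapPullbackAdj ξ
  constructor
  · intro u₁ u₂ h
    have h1 : adj.homEquiv Z G u₁ ≫ (Over.pullback ξ).map g =
        adj.homEquiv Z G u₂ ≫ (Over.pullback ξ).map g := by
      rw [← adj.homEquiv_naturality_right, ← adj.homEquiv_naturality_right]
      exact congrArg _ h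
    exact (adj.homEquiv Z G).injective ((cancel_mono _).mp h1)
  · intro v
    refine ⟨(adj.homEquiv Z G).symm (adj.homEquiv Z G' v ≫ inv ((Over.pullback ξ).map g)), ?_⟩
    apply (adj.homEquiv Z G').injective
    show adj.homEquiv Z G' (_ ≫ g) = _
    rw [adj.homEquiv_naturality_right, Equiv.apply_symm_apply, Category.assoc, IsIso.inv_hom_id,
      Category.comp_id]

omit [GrpObj G] [GrpObj G'] in
/-- Bijectivity on points of a base-changed morphism, from bijectivity on points of the original
morphism. -/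
theorem comp_pullback_map_bijective {S₀ : Scheme.{u}} (f₀ : S ⟶ S₀) {H H' : Over S₀} (k : H ⟶ H')
    (W : Over S) (hb : Function.Bijective (fun v : (Over.map f₀).obj W ⟶ H => v ≫ k)) :
    Function.Bijective (fun u : W ⟶ (Over.pullback f₀).obj H => u ≫ (Over.pullback f₀).map k) := by
  let adj := Over.mapPullbackAdj f₀
  have key : (fun u : W ⟶ (Over.pullback f₀).obj H => u ≫ (Over.pullback f₀).map k) =
      (adj.homEquiv W H') ∘ (fun v : (Over.map f₀).obj W ⟶ H => v ≫ k) ∘
        (adj.homEquiv W H).symm := by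
    funext u
    simp only [Function.comp_apply]
    rw [adj.homEquiv_naturality_right, Equiv.apply_symm_apply]
  rw [key]
  exact (adj.homEquiv W H').bijective.comp (hb.comp (adj.homEquiv W H).symm.bijective)

variable [IsMonHom g]

/-- An equivariant morphism of pseudo-torsors along `g` is injective on points lying over `ξ`
when `g` is injective on such points. -/
theorem equivariant_injective' {S' : Scheme.{u}} (ξ : S' ⟶ S) (Z : Over S')
    (hg : Function.Injective (fun u : (Over.map ξ).obj Z ⟶ G => u ≫ g))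
    (hP : NonAbH1.IsPseudoTorsorSch a) (hP' : NonAbH1.IsPseudoTorsorSch a')
    (f : P ⟶ P') (hf : a.act ≫ f = lift (fst G P ≫ g) (snd G P ≫ f) ≫ a'.act)
    (x y : (Over.map ξ).obj Z ⟶ P) (e : x ≫ f = y ≫ f) : x = y := by
  obtain ⟨h₀, hh₀⟩ := exists_act_eq a hP x y
  have h1 : x ≫ f = lift (h₀ ≫ g) (y ≫ f) ≫ a'.act := by
    rw [← hh₀]; exact equivariant_point g a a' f hf h₀ y
  have h2 : y ≫ f = lift (toUnit _ ≫ η[G']) (y ≫ f) ≫ a'.act := (one_act_point a' _).symm
  have h3 : h₀ ≫ g = toUnit _ ≫ η[G'] := by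
    apply act_injective a' hP' _ _ (y ≫ f)
    rw [← h1, ← h2, e]
  have h4 : h₀ = toUnit _ ≫ η[G] := by
    apply hg
    show h₀ ≫ g = (toUnit _ ≫ η[G]) ≫ g
    rw [h3, Category.assoc, IsMonHom.one_hom]
  rw [← hh₀, h4]
  exact one_act_point a y

/-- An equivariant morphism of pseudo-torsors along `g` is injective on points lying over `ξ`
when the base change of `g` along `ξ` is an isomorphism. -/
theorem equivariant_injective {S' : Scheme.{u}} (ξ : S' ⟶ S)
    (hg : IsIso ((Over.pullback ξ).map g))
    (hP : NonAbH1.IsPseudoTorsorSch a) (hP' : NonAbH1.IsPseudoTorsorSch a')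
    (f : P ⟶ P') (hf : a.act ≫ f = lift (fst G P ≫ g) (snd G P ≫ f) ≫ a'.act)
    (Z : Over S') (x y : (Over.map ξ).obj Z ⟶ P) (e : x ≫ f = y ≫ f) : x = y :=
  equivariant_injective' g a a' ξ Z (comp_bijective_of_isIso_pullback_map g ξ hg Z).1 hP hP' f hf
    x y e

/-- Lifting sections over `ξ` along an equivariant morphism of torsors, when the homomorphism of
groups is bijective on points of schemes lying over `ξ`. The source torsor is supposed flat,
surjective and quasi-compact over the base (an fpqc covering of it). -/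
theorem hasSectionOver_of_bijective_points {S' : Scheme.{u}} (ξ : S' ⟶ S)
    (hg : ∀ Z : Over S', Function.Bijective (fun u : (Over.map ξ).obj Z ⟶ G => u ≫ g))
    (hP : NonAbH1.IsPseudoTorsorSch a) (hP' : NonAbH1.IsPseudoTorsorSch a')
    [Flat P.hom] [Surjective P.hom] [QuasiCompact P.hom]
    (hpush : NonAbH1.IsPushforwardAlongSch g a a')
    (hsec : NonAbH1.HasSectionOver P' ξ) : NonAbH1.HasSectionOver P ξ := by
  obtain ⟨f, hf⟩ := hpush
  obtain ⟨σ', hσ'⟩ := hsec
  let π : pullback P.hom ξ ⟶ S' := pullback.snd P.hom ξ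
  have : EffectiveEpi π := inferInstance
  let T : Over S' := Over.mk π
  let p : (Over.map ξ).obj T ⟶ P := Over.homMk (pullback.fst P.hom ξ)
    (by simp [T, π, pullback.condition])
  let σT : (Over.map ξ).obj T ⟶ P' := Over.homMk (π ≫ σ') (by simp [T, hσ'])
  obtain ⟨h', hh'⟩ := exists_act_eq a' hP' σT (p ≫ f)
  obtain ⟨h, hh⟩ := (hg T).2 h'
  have hh : h ≫ g = h' := hh
  let q : (Over.map ξ).obj T ⟶ P := lift h p ≫ a.act
  have hq : q ≫ f = σT := by
    rw [equivariant_point g a a' f hf h p, hh, hh']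
  have hdesc : ∀ {Z : Scheme.{u}} (g₁ g₂ : Z ⟶ pullback P.hom ξ), g₁ ≫ π = g₂ ≫ π →
      g₁ ≫ q.left = g₂ ≫ q.left := by
    intro Z g₁ g₂ e
    let Zo : Over S' := Over.mk (g₁ ≫ π)
    let r₁ : (Over.map ξ).obj Zo ⟶ (Over.map ξ).obj T := Over.homMk g₁ (by simp [Zo, T])
    let r₂ : (Over.map ξ).obj Zo ⟶ (Over.map ξ).obj T := Over.homMk g₂ (by simp [Zo, T, e])
    have h1 : r₁ ≫ q = r₂ ≫ q := by
      apply equivariant_injective' g a a' ξ Zo (hg Zo).1 hP hP' f hf
      have e1 : (r₁ ≫ q) ≫ f = r₁ ≫ σT := by rw [Category.assoc, hq]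
      have e2 : (r₂ ≫ q) ≫ f = r₂ ≫ σT := by rw [Category.assoc, hq]
      rw [e1, e2]
      ext
      simp [r₁, r₂, σT, reassoc_of% e]
    exact congrArg CommaMorphism.left h1
  refine ⟨EffectiveEpi.desc π q.left hdesc, ?_⟩
  rw [← cancel_epi π, ← Category.assoc, EffectiveEpi.fac]
  have := Over.w q
  simp only [Over.map_obj_hom, Over.mk_hom, T] at this
  exact this

/-- Lifting sections over `ξ` along an equivariant morphism of torsors, when the homomorphism of
groups becomes an isomorphism after base change along `ξ`. The source torsor is supposed flat,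
surjective and quasi-compact over the base (an fpqc covering of it). -/
theorem hasSectionOver_of_isIso_pullback_map {S' : Scheme.{u}} (ξ : S' ⟶ S)
    (hg : IsIso ((Over.pullback ξ).map g))
    (hP : NonAbH1.IsPseudoTorsorSch a) (hP' : NonAbH1.IsPseudoTorsorSch a')
    [Flat P.hom] [Surjective P.hom] [QuasiCompact P.hom]
    (hpush : NonAbH1.IsPushforwardAlongSch g a a')
    (hsec : NonAbH1.HasSectionOver P' ξ) : NonAbH1.HasSectionOver P ξ :=
  hasSectionOver_of_bijective_points g a a' ξ
    (fun Z => comp_bijective_of_isIso_pullback_map g ξ hg Z) hP hP' hpush hsec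

end Push

section Surj

theorem surjective_hom_of_grpObj (G : Over S) [GrpObj G] : Surjective G.hom := by
  constructor
  intro x
  refine ⟨η[G].left x, ?_⟩
  have h := Over.w η[G]
  rw [← Scheme.Hom.comp_apply, h]
  rfl

theorem surjective_of_isTorsorFor {G Q : Over S} [GrpObj G]
    (a : AlgGrp.Action G Q) (h : NonAbH1.IsTorsorFor Scheme.fppfPrecoverage a) :
    Surjective Q.hom := by
  obtain ⟨hpt, R, hR, hsec⟩ := h
  exact Groth.Agent.Lib.Helper12.of_mem_fpqcPrecoverage (P := @Surjective)
    inferInstance Q.hom R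
    (Scheme.fppfPrecoverage_le_fpqcPrecoverage S hR)
    (fun Y' f hf => Groth.Agent.Lib.Helper12.pullback_snd_of_hasSectionOver
      (P := @Surjective) a hpt (surjective_hom_of_grpObj G) f (hsec f hf))

end Surj

end Groth.Agent.Lib.Seat34.TorsorGeneric
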