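import Mathlib
import Groth.Agent.Lib.Seat34TorsorGeneric

/-!
Helper library (helper34): sections of a proper morphism over an integral scheme all of whose local
rings are valuation rings (e.g. the spectrum of a Dedekind domain) extend from the generic point.
-/

set_option autoImplicit false
universe u

open CategoryTheory AlgebraicGeometry Limits

namespace Groth.Agent.Lib.Seat34.ProperGeneric

theorem isDominant_fromSpecStalk_genericPoint (X : Scheme.{u}) [IsIntegral X] :
    IsDominant (X.fromSpecStalk (genericPoint X)) := by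
  constructor
  have h1 : Dense ({genericPoint X} : Set X) := by
    have := (genericPoint_spec X)
    rw [isGenericPoint_def] at this
    exact dense_iff_closure_eq.mpr this
  refine h1.mono ?_
  rintro _ rfl
  exact ⟨IsLocalRing.closedPoint _, Scheme.fromSpecStalk_closedPoint⟩

theorem opens_fromSpecStalkOfMem_specializes {X : Scheme.{u}} (U : X.Opens) {x y : X}
    (h : x ⤳ y) (hy : y ∈ U) :
    Spec.map (X.presheaf.stalkSpecializes h) ≫ U.fromSpecStalkOfMem y hy =
      U.fromSpecStalkOfMem x (h.mem_open U.2 hy) := by
  rw [← cancel_mono U.ι, Category.assoc, Scheme.Opens.fromSpecStalkOfMem_ι,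
    Scheme.Opens.fromSpecStalkOfMem_ι, Scheme.SpecMap_stalkSpecializes_fromSpecStalk]

/-- Valuative lift at a point whose local ring is a valuation ring. -/
theorem exists_lift_stalk {X Y : Scheme.{u}} [IsIntegral X] (p : Y ⟶ X) [UniversallyClosed p]
    (s : Spec X.functionField ⟶ Y) (hs : s ≫ p = X.fromSpecStalk (genericPoint X))
    (x : X) [ValuationRing (X.presheaf.stalk x)] :
    ∃ l : Spec (X.presheaf.stalk x) ⟶ Y,
      Spec.map (X.presheaf.stalkSpecializes (genericPoint_specializes x)) ≫ l = s ∧
        l ≫ p = X.fromSpecStalk x := by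
  have hE : ValuativeCriterion.Existence p := by
    have := (UniversallyClosed.eq_valuativeCriterion ▸ (inferInstance : UniversallyClosed p) :
      (ValuativeCriterion.Existence ⊓ @QuasiCompact) p)
    exact this.1
  let S : ValuativeCommSq p :=
    @ValuativeCommSq.mk _ _ p (X.presheaf.stalk x) _ inferInstance inferInstance X.functionField _ _
      inferInstance s (X.fromSpecStalk x)
      ⟨by
        rw [hs]
        exact (Scheme.SpecMap_stalkSpecializes_fromSpecStalk (genericPoint_specializes x)).symm⟩
  obtain ⟨⟨l⟩⟩ := hE S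
  exact ⟨l.l, l.fac_left, l.fac_right⟩

/-- Sections of a proper morphism over a separated integral scheme all of whose local rings are
valuation rings extend from the generic point. -/
theorem exists_section_of_isProper {X Y : Scheme.{u}} [IsIntegral X] [X.IsSeparated]
    (hval : ∀ x : X, ValuationRing (X.presheaf.stalk x)) (p : Y ⟶ X) [IsProper p]
    (s : Spec X.functionField ⟶ Y) (hs : s ≫ p = X.fromSpecStalk (genericPoint X)) :
    ∃ σ : X ⟶ Y, σ ≫ p = 𝟙 X := by
  have hs' : s ≫ p = X.fromSpecStalk (genericPoint X) ≫ 𝟙 X := by rw [hs, Category.comp_id]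
  let f := Scheme.RationalMap.ofFunctionField (𝟙 X) p s hs'
  have hf : f.fromFunctionField = s :=
    Scheme.RationalMap.fromFunctionField_ofFunctionField _ _ _ _
  have hdom : f.domain = ⊤ := by
    rw [eq_top_iff]
    intro x _
    have := hval x
    obtain ⟨l, hl1, hl2⟩ := exists_lift_stalk p s hs x
    have hl2' : l ≫ p = X.fromSpecStalk x ≫ 𝟙 X := by rw [hl2, Category.comp_id]
    rw [Scheme.RationalMap.mem_domain]
    refine ⟨Scheme.PartialMap.ofFromSpecStalk (𝟙 X) p l hl2',
      Scheme.PartialMap.mem_domain_ofFromSpecStalk _ _ _ _, ?_⟩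
    apply Scheme.RationalMap.eq_of_fromFunctionField_eq
    rw [hf, Scheme.RationalMap.fromFunctionField_toRationalMap]
    have h1 := Scheme.PartialMap.fromSpecStalkOfMem_ofFromSpecStalk (𝟙 X) p l hl2'
    rw [← hl1]
    conv_rhs => rw [← h1]
    simp only [Scheme.PartialMap.fromSpecStalkOfMem]
    rw [← Category.assoc, opens_fromSpecStalkOfMem_specializes]
  have hYsep : Y.IsSeparated := by
    constructor
    rw [show terminal.from Y = p ≫ terminal.from X from Subsingleton.elim _ _]
    infer_instance
  have hg : f.toPartialMap.fromFunctionField = s := by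
    have h1 := congrArg Scheme.RationalMap.fromFunctionField f.toRationalMap_toPartialMap
    rw [Scheme.RationalMap.fromFunctionField_toRationalMap, hf] at h1
    exact h1
  have key : ∀ (U : X.Opens) (_ : U = ⊤) (σ' : U.toScheme ⟶ Y), σ' ≫ p = U.ι →
      ∃ σ : X ⟶ Y, σ ≫ p = 𝟙 X := by
    rintro U rfl σ' h
    exact ⟨X.topIso.inv ≫ σ', by rw [Category.assoc, h, Scheme.toIso_inv_ι]⟩
  refine key f.toPartialMap.domain hdom f.toPartialMap.hom ?_
  have hη : genericPoint X ∈ f.toPartialMap.domain := by
    show genericPoint X ∈ f.domain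
    rw [hdom]; trivial
  have hdomi : IsDominant (f.toPartialMap.domain.fromSpecStalkOfMem (genericPoint X) hη) := by
    have : IsDominant (f.toPartialMap.domain.fromSpecStalkOfMem (genericPoint X) hη ≫
        f.toPartialMap.domain.ι) := by
      rw [Scheme.Opens.fromSpecStalkOfMem_ι]
      exact isDominant_fromSpecStalk_genericPoint X
    exact IsDominant.of_comp_of_isOpenImmersion _ f.toPartialMap.domain.ι
  refine ext_of_isDominant_of_isSeparated (terminal.from X) (Subsingleton.elim _ _)
    (f.toPartialMap.domain.fromSpecStalkOfMem (genericPoint X) hη) ?_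
  rw [Scheme.Opens.fromSpecStalkOfMem_ι, ← Category.assoc]
  have : f.toPartialMap.domain.fromSpecStalkOfMem (genericPoint X) hη ≫ f.toPartialMap.hom =
      f.toPartialMap.fromFunctionField := rfl
  rw [this, hg, hs]

end Groth.Agent.Lib.Seat34.ProperGeneric
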