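import Mathlib

/-!
# Quasi-sections over a Dedekind base (seat 34)

Pure commutative algebra behind `S7890`: for a finite type algebra `B` over a Dedekind domain `A`,
a maximal ideal `n` of `B` over a nonzero maximal ideal of `A`, and a prime `N ≤ n` lying over
`⊥`, there is a prime `N ≤ p₀ ≤ n` lying over `⊥` such that `B ⧸ p₀` is algebraic over `A`.

The proof combines Krull's principal ideal theorem, prime avoidance and the algebraic version of
Zariski's main theorem (`Algebra.ZariskisMainProperty.of_finiteType`).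
-/

set_option autoImplicit false
set_option linter.style.haveILetI false

namespace Groth.Agent.Lib.Seat34.QuasiSection

section Height

variable {D : Type*} [CommRing D] [IsDomain D]

/-- In a domain, a nonzero prime contained in a prime of height `≤ 1` is equal to it. -/
theorem eq_of_le_of_height_le_one {P Q : Ideal D} [P.IsPrime] [Q.IsPrime] (hPQ : P ≤ Q)
    (hP : P ≠ ⊥) (hQ : Q.height ≤ 1) : P = Q := by
  by_contra hne
  have hlt : P < Q := lt_of_le_of_ne hPQ hne
  have h1 := Ideal.height_add_one_le_of_lt_of_isPrime hlt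
  have h2 : P.height + 1 ≤ 1 := h1.trans hQ
  have h3 : P.height = 0 := by
    have : P.height + 1 ≤ 0 + 1 := by simpa using h2
    exact nonpos_iff_eq_zero.mp ((ENat.add_le_add_iff_right (by simp)).mp this)
  exact hP (Ideal.height_eq_zero_iff_eq_bot.mp h3)

variable [IsNoetherianRing D]

/-- If every nonzero prime below the prime `q` of the Noetherian domain `D` contains the nonzero
element `π ∈ q`, then `q` has height at most one. -/
theorem height_le_one_of_forall_mem (q : Ideal D) [q.IsPrime] (π : D) (hπ : π ≠ 0) (hπq : π ∈ q)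
    (h : ∀ P : Ideal D, P.IsPrime → P ≤ q → P ≠ ⊥ → π ∈ P) : q.height ≤ 1 := by
  classical
  set I : Ideal D := Ideal.span {π} with hI
  have hfin : I.minimalPrimes.Finite := Ideal.finite_minimalPrimes_of_isNoetherianRing D I
  have hht : ∀ Q ∈ I.minimalPrimes, Q.height ≤ 1 := fun Q hQ =>
    Ideal.height_le_one_of_isPrincipal_of_mem_minimalPrimes I Q hQ
  have hIq : I ≤ q := by
    rw [hI, Ideal.span_singleton_le_iff_mem]
    exact hπq
  by_cases hcase : ∃ Q ∈ I.minimalPrimes, q ≤ Q
  · obtain ⟨Q, hQ, hqQ⟩ := hcase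
    exact (Ideal.height_mono hqQ).trans (hht Q hQ)
  · exfalso
    have havoid : ¬ ((q : Set D) ⊆ ⋃ Q ∈ (hfin.toFinset : Set (Ideal D)), ((id Q : Ideal D) : Set D)) := by
      rw [Ideal.subset_union_prime (f := id) ⊥ ⊥ (fun Q hQ _ _ => by
        have : Q ∈ I.minimalPrimes := by simpa using hQ
        exact this.1.1)]
      rintro ⟨Q, hQ, hqQ⟩
      exact hcase ⟨Q, by simpa using hQ, hqQ⟩
    obtain ⟨t, htq, htn⟩ := Set.not_subset.mp havoid
    have htn' : ∀ Q ∈ I.minimalPrimes, t ∉ Q := by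
      intro Q hQ htQ
      apply htn
      simp only [Set.mem_iUnion]
      exact ⟨Q, by simpa using hQ, htQ⟩
    obtain ⟨Q₀, hQ₀, -⟩ := Ideal.exists_minimalPrimes_le hIq
    have ht0 : t ≠ 0 := by
      rintro rfl
      exact htn' Q₀ hQ₀ (zero_mem _)
    have hJq : Ideal.span {t} ≤ q := by
      rw [Ideal.span_singleton_le_iff_mem]
      exact htq
    obtain ⟨P, hP, hPq⟩ := Ideal.exists_minimalPrimes_le hJq
    haveI : P.IsPrime := hP.1.1
    have htP : t ∈ P := hP.1.2 (Ideal.mem_span_singleton_self t)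
    have hPht : P.height ≤ 1 :=
      Ideal.height_le_one_of_isPrincipal_of_mem_minimalPrimes (Ideal.span {t}) P hP
    have hPbot : P ≠ ⊥ := by
      rintro rfl
      exact ht0 (by simpa using htP)
    have hπP : π ∈ P := h P inferInstance hPq hPbot
    have hIP : I ≤ P := by
      rw [hI, Ideal.span_singleton_le_iff_mem]
      exact hπP
    obtain ⟨Q, hQ, hQP⟩ := Ideal.exists_minimalPrimes_le hIP
    haveI : Q.IsPrime := hQ.1.1
    have hQbot : Q ≠ ⊥ := by
      rintro rfl
      have : π ∈ (⊥ : Ideal D) := hQ.1.2 (Ideal.mem_span_singleton_self π)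
      exact hπ (by simpa using this)
    have hQeq : Q = P := eq_of_le_of_height_le_one hQP hQbot hPht
    exact htn' Q hQ (hQeq ▸ htP)

end Height

section Choose

variable {B : Type*} [CommRing B] [IsNoetherianRing B]

/-- A prime maximal among those between `N` and `n` not containing `π`. -/
theorem exists_maximal_prime_notMem (N n : Ideal B) [N.IsPrime] (hNn : N ≤ n) (π : B)
    (hπN : π ∉ N) :
    ∃ p₀ : Ideal B, p₀.IsPrime ∧ N ≤ p₀ ∧ p₀ ≤ n ∧ π ∉ p₀ ∧
      ∀ P : Ideal B, P.IsPrime → p₀ ≤ P → P ≤ n → π ∉ P → P = p₀ := by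
  let S : Set (Ideal B) := {P | P.IsPrime ∧ N ≤ P ∧ P ≤ n ∧ π ∉ P}
  have hS : S.Nonempty := ⟨N, inferInstance, le_rfl, hNn, hπN⟩
  obtain ⟨p₀, hp₀, hmax⟩ := set_has_maximal_iff_noetherian.mpr
    (inferInstance : IsNoetherian B B) S hS
  refine ⟨p₀, hp₀.1, hp₀.2.1, hp₀.2.2.1, hp₀.2.2.2, fun P hP h1 h2 h3 => ?_⟩
  have hPS : P ∈ S := ⟨hP, hp₀.2.1.trans h1, h2, h3⟩
  exact (eq_of_le_of_not_lt h1 (hmax P hPS)).symm

end Choose

section Main

variable {A B : Type*} [CommRing A] [IsDomain A] [IsNoetherianRing A] [Ring.DimensionLEOne A]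
  [CommRing B] [Algebra A B] [Algebra.FiniteType A B]

/-- **Existence of quasi-sections.** Let `B` be a finite type algebra over the Noetherian domain
`A` of dimension `≤ 1` (e.g. a Dedekind domain), `n` a maximal ideal of `B` lying over a nonzero prime of `A` and `N ≤ n` a prime lying over
`⊥`. Then there is a prime `N ≤ p₀ ≤ n` lying over `⊥` with `B ⧸ p₀` algebraic over `A`. -/
theorem exists_prime_isAlgebraic (N n : Ideal B) [N.IsPrime] [hnmax : n.IsMaximal] (hNn : N ≤ n)
    (hN : N.under A = ⊥) (hn0 : n.under A ≠ ⊥) :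
    ∃ p₀ : Ideal B, p₀.IsPrime ∧ N ≤ p₀ ∧ p₀ ≤ n ∧ p₀.under A = ⊥ ∧
      Algebra.IsAlgebraic A (B ⧸ p₀) := by
  classical
  haveI : IsNoetherianRing B := Algebra.FiniteType.isNoetherianRing A B
  set m : Ideal A := n.under A with hm
  haveI : m.IsPrime := inferInstance
  have hmmax : m.IsMaximal := Ring.DimensionLEOne.maximalOfPrime hn0 inferInstance
  obtain ⟨π, hπm, hπ0⟩ := Submodule.exists_mem_ne_zero_of_ne_bot hn0
  have hπn : algebraMap A B π ∈ n := hπm
  have hπN : algebraMap A B π ∉ N := fun h => hπ0 (by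
    have h' : π ∈ N.under A := h
    rw [hN] at h'
    simpa using h')
  obtain ⟨p₀, hp₀, hNp₀, hp₀n, hπp₀, hmax⟩ :=
    exists_maximal_prime_notMem N n hNn (algebraMap A B π) hπN
  haveI := hp₀
  have hp₀A : p₀.under A = ⊥ := by
    by_contra hne
    have hmax' : (p₀.under A).IsMaximal := Ring.DimensionLEOne.maximalOfPrime hne inferInstance
    have hle : p₀.under A ≤ m := Ideal.comap_mono hp₀n
    have heq : p₀.under A = m := hmax'.eq_of_le hmmax.ne_top hle
    exact hπp₀ (show π ∈ p₀.under A from heq ▸ hπm)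
  refine ⟨p₀, hp₀, hNp₀, hp₀n, hp₀A, ?_⟩
  -- the quotient
  let mk : B →+* (B ⧸ p₀) := Ideal.Quotient.mk p₀
  have hmk : Function.Surjective mk := Ideal.Quotient.mk_surjective
  have halg : ∀ a : A, algebraMap A (B ⧸ p₀) a = mk (algebraMap A B a) := fun a => rfl
  set q : Ideal (B ⧸ p₀) := n.map mk with hq
  have hqcomap : q.comap mk = n := by
    rw [hq, Ideal.comap_map_of_surjective mk hmk, ← RingHom.ker_eq_comap_bot, Ideal.mk_ker]
    exact sup_eq_left.mpr hp₀n
  haveI hqmax : q.IsMaximal := by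
    rcases Ideal.map_eq_top_or_isMaximal_of_surjective mk hmk hnmax with h | h
    · exfalso
      have : n = ⊤ := by rw [← hqcomap, hq, h, Ideal.comap_top]
      exact hnmax.ne_top this
    · exact h
  have hinj : Function.Injective (algebraMap A (B ⧸ p₀)) := by
    rw [injective_iff_map_eq_zero]
    intro a ha
    have h' : a ∈ p₀.under A := by
      change algebraMap A B a ∈ p₀
      rw [← Ideal.Quotient.eq_zero_iff_mem]
      exact ha
    rw [hp₀A] at h'
    simpa using h'
  set π' : B ⧸ p₀ := algebraMap A (B ⧸ p₀) π with hπ'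
  have hπ'0 : π' ≠ 0 := fun h => hπ0 (hinj (by rw [← hπ', h, map_zero]))
  have hπ'q : π' ∈ q := by
    rw [hπ', halg]
    exact Ideal.mem_map_of_mem mk hπn
  have hL3 : ∀ P : Ideal (B ⧸ p₀), P.IsPrime → P ≤ q → P ≠ ⊥ → π' ∈ P := by
    intro P hP hPq hPbot
    by_contra hπP
    have h1 : (P.comap mk).IsPrime := Ideal.comap_isPrime mk P
    have h2 : p₀ ≤ P.comap mk := by
      intro b hb
      rw [Ideal.mem_comap]
      have : mk b = 0 := Ideal.Quotient.eq_zero_iff_mem.mpr hb
      rw [this]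
      exact zero_mem _
    have h3 : P.comap mk ≤ n := by
      rw [← hqcomap]
      exact Ideal.comap_mono hPq
    have h4 : algebraMap A B π ∉ P.comap mk := fun h => hπP h
    have h5 := hmax _ h1 h2 h3 h4
    apply hPbot
    rw [← Ideal.map_comap_of_surjective mk hmk P, h5]
    exact Ideal.map_quotient_self p₀
  have hqht : q.height ≤ 1 := height_le_one_of_forall_mem q π' hπ'0 hπ'q hL3
  have hqunder : q.under A = m := by
    rw [hm, ← hqcomap]
    rfl
  set mD : Ideal (B ⧸ p₀) := m.map (algebraMap A (B ⧸ p₀)) with hmD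
  have hmDq : mD ≤ q := by
    rw [hmD, Ideal.map_le_iff_le_comap]
    exact hqunder.ge
  have hqmin : q ∈ mD.minimalPrimes := by
    refine ⟨⟨inferInstance, hmDq⟩, fun P hP hPq => ?_⟩
    haveI := hP.1
    have hPbot : P ≠ ⊥ := by
      rintro rfl
      have : π' ∈ (⊥ : Ideal (B ⧸ p₀)) := hP.2 (Ideal.mem_map_of_mem _ hπm)
      exact hπ'0 (by simpa using this)
    exact (eq_of_le_of_height_le_one hPq hPbot hqht).ge
  have hfin : mD.minimalPrimes.Finite :=
    Ideal.finite_minimalPrimes_of_isNoetherianRing (B ⧸ p₀) mD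
  let q' : PrimeSpectrum (B ⧸ p₀) := ⟨q, inferInstance⟩
  have hopen : IsOpen (X := PrimeSpectrum.comap (algebraMap A (B ⧸ p₀)) ⁻¹'
      {q'.comap (algebraMap A (B ⧸ p₀))}) {⟨q', rfl⟩} := by
    rw [isOpen_induced_iff]
    refine ⟨(⋃ Q ∈ {Q | Q ∈ mD.minimalPrimes ∧ Q ≠ q},
      PrimeSpectrum.zeroLocus ((Q : Ideal (B ⧸ p₀)) : Set (B ⧸ p₀)))ᶜ, ?_, ?_⟩
    · rw [isOpen_compl_iff]
      exact Set.Finite.isClosed_biUnion (hfin.subset fun Q hQ => hQ.1)
        fun Q _ => PrimeSpectrum.isClosed_zeroLocus _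
    · ext ⟨P, hP⟩
      simp only [Set.mem_preimage, Set.mem_compl_iff, Set.mem_iUnion, Set.mem_singleton_iff,
        Subtype.mk.injEq, PrimeSpectrum.mem_zeroLocus, SetLike.coe_subset_coe, Set.mem_ofPred_eq,
        exists_prop, not_exists, not_and]
      constructor
      · intro hno
        by_contra hne
        have hPm : P.asIdeal.under A = m := by
          have h1 : PrimeSpectrum.comap (algebraMap A (B ⧸ p₀)) P =
              q'.comap (algebraMap A (B ⧸ p₀)) := hP
          have h2 := congrArg PrimeSpectrum.asIdeal h1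
          exact h2.trans hqunder
        have hmP : mD ≤ P.asIdeal := by
          rw [hmD, Ideal.map_le_iff_le_comap]
          exact hPm.ge
        obtain ⟨Q, hQ, hQP⟩ := Ideal.exists_minimalPrimes_le hmP
        refine hno Q ⟨hQ, ?_⟩ hQP
        rintro rfl
        exact hne (PrimeSpectrum.ext (hqmax.eq_of_le P.2.ne_top hQP).symm)
      · rintro rfl Q ⟨hQ, hQne⟩ hQq
        exact hQne (le_antisymm hQq (hqmin.2 hQ.1 hQq))
  haveI : Algebra.QuasiFiniteAt A q'.asIdeal :=
    Algebra.QuasiFiniteAt.of_isOpen_singleton_fiber q' hopen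
  have hZ : Algebra.ZariskisMainProperty A q'.asIdeal :=
    Algebra.ZariskisMainProperty.of_finiteType q'.asIdeal
  obtain ⟨r, hrq, hrint, hr⟩ := Algebra.zariskisMainProperty_iff.mp hZ
  have hr0 : r ≠ 0 := fun h => hrq (h ▸ zero_mem _)
  constructor
  intro x
  obtain ⟨k, hk⟩ := hr x
  have h1 : IsAlgebraic A (r ^ k) := (hrint.pow k).isAlgebraic
  have h2 : IsAlgebraic A (r ^ k * x) := hk.isAlgebraic
  exact IsAlgebraic.of_mul (mem_nonZeroDivisors_of_ne_zero (pow_ne_zero k hr0)) h1 h2

end Main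

section Transfer

variable {A C : Type*} [CommRing A] [CommRing C] [Algebra A C]

/-- If `p₀` lies over `⊥` and `C ⧸ p₀` is algebraic over `A`, then the relative transcendence
degree of the quotients is zero (for whatever name `P` the prime below `p₀` has). -/
theorem trdeg_quotient_eq_zero (p₀ : Ideal C) (h0 : p₀.under A = ⊥)
    (halg : Algebra.IsAlgebraic A (C ⧸ p₀)) (P : Ideal A) [p₀.LiesOver P] :
    Algebra.trdeg (A ⧸ P) (C ⧸ p₀) = 0 := by
  have hP : P = ⊥ := by
    rw [← h0]
    exact Ideal.LiesOver.over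
  rw [trdeg_eq_zero_iff]
  have hinj : Function.Injective (algebraMap A (A ⧸ P)) := by
    rw [injective_iff_map_eq_zero]
    intro a ha
    have : a ∈ P := Ideal.Quotient.eq_zero_iff_mem.mp ha
    rw [hP] at this
    simpa using this
  exact Algebra.IsAlgebraic.extendScalars hinj

/-- In an algebraic extension of domains `A ⧸ P → C ⧸ px`, a prime above `px` lying over the same
prime `P` is equal to `px`. -/
theorem eq_of_le_of_trdeg_eq_zero (P : Ideal A) (px pz : Ideal C) [px.IsPrime]
    [px.LiesOver P] [pz.LiesOver P] (hle : px ≤ pz)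
    (h : Algebra.trdeg (A ⧸ P) (C ⧸ px) = 0) : pz = px := by
  rw [trdeg_eq_zero_iff] at h
  refine le_antisymm (fun c hc => ?_) hle
  by_contra hcx
  set J : Ideal (C ⧸ px) := pz.map (Ideal.Quotient.mk px) with hJ
  have hmk : Function.Surjective (Ideal.Quotient.mk px) := Ideal.Quotient.mk_surjective
  have hJcomap : J.comap (Ideal.Quotient.mk px) = pz := by
    rw [hJ, Ideal.comap_map_of_surjective _ hmk, ← RingHom.ker_eq_comap_bot, Ideal.mk_ker]
    exact sup_eq_left.mpr hle
  have hc0 : Ideal.Quotient.mk px c ≠ 0 := fun h0 => hcx (Ideal.Quotient.eq_zero_iff_mem.mp h0)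
  have hcJ : Ideal.Quotient.mk px c ∈ J := Ideal.mem_map_of_mem _ hc
  have hne := Ideal.comap_ne_bot_of_algebraic_mem (R := A ⧸ P) hc0 hcJ
    (Algebra.IsAlgebraic.isAlgebraic _)
  apply hne
  rw [eq_bot_iff]
  intro a ha
  obtain ⟨a, rfl⟩ := Ideal.Quotient.mk_surjective a
  rw [Ideal.mem_comap, Ideal.Quotient.algebraMap_mk_of_liesOver] at ha
  have h1 : algebraMap A C a ∈ pz := by
    rw [← hJcomap]
    exact ha
  have h2 : a ∈ P := by
    rw [(Ideal.LiesOver.over : P = pz.under A)]
    exact h1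
  rw [Ideal.mem_bot]
  exact Ideal.Quotient.eq_zero_iff_mem.mpr h2

end Transfer

end Groth.Agent.Lib.Seat34.QuasiSection
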