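import Groth.Agent.Lib.Seat34SekSuwaGeneric
import Groth.Agent.Lib.Helper12Act

/-!
Helper library (helper34): ring-valued points of `G_{λ,N}`, the unit `1 + λt` as a coordinate,
and triviality of actions by automorphisms of `G_{μ,p}` on `G_{λ,p}` (S14683).
-/

set_option autoImplicit false
universe u

open CategoryTheory AlgebraicGeometry SekSuwa MonoidalCategory CartesianMonoidalCategory MonObj
open scoped TensorProduct

namespace Groth.Agent.Lib.Seat34.SekSuwaAct

section Points

variable {R : Type u} [CommRing R]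

/-- `Spec C` as an object over `Spec R`. -/
noncomputable abbrev SpecO (C : Type u) [CommRing C] [Algebra R C] : Over (Spec (CommRingCat.of R)) :=
  (Spec (CommRingCat.of C)).asOver (Spec (CommRingCat.of R))

/-- the morphism over `Spec R` attached to an algebra map -/
noncomputable def pt {B C : Type u} [CommRing B] [CommRing C] [Algebra R B] [Algebra R C]
    (ξ : B →ₐ[R] C) : SpecO (R := R) C ⟶ SpecO (R := R) B :=
  (Spec.map (CommRingCat.ofHom ξ.toRingHom)).asOver (Spec (CommRingCat.of R))

theorem pt_comp {B C C' : Type u} [CommRing B] [CommRing C] [CommRing C'] [Algebra R B]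
    [Algebra R C] [Algebra R C'] (ξ : B →ₐ[R] C) (φ : C →ₐ[R] C') :
    pt φ ≫ pt ξ = pt (φ.comp ξ) := by
  apply Over.OverMorphism.ext
  change Spec.map _ ≫ Spec.map _ = Spec.map _
  rw [← Spec.map_comp]
  rfl

variable {B C : Type u} [CommRing B] [CommRing C] [Bialgebra R B] [Algebra R C]

/-- the algebra map attached to a point -/
noncomputable def ev (x : SpecO (R := R) C ⟶ SpecO (R := R) B) : B →ₐ[R] C :=
  (Spec.mapMulEquiv.symm x).ofConv

theorem pt_ev (x : SpecO (R := R) C ⟶ SpecO (R := R) B) : pt (ev x) = x :=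
  Spec.mapMulEquiv.apply_symm_apply x

theorem ev_pt (ξ : B →ₐ[R] C) : ev (pt ξ) = ξ := by
  have := Spec.mapMulEquiv.symm_apply_apply (WithConv.toConv ξ)
  exact congrArg WithConv.ofConv this

theorem ev_injective {x y : SpecO (R := R) C ⟶ SpecO (R := R) B} (h : ev x = ev y) : x = y := by
  rw [← pt_ev x, ← pt_ev y, h]

theorem ev_comp {C' : Type u} [CommRing C'] [Algebra R C'] (φ : C →ₐ[R] C')
    (x : SpecO (R := R) C ⟶ SpecO (R := R) B) : ev (pt φ ≫ x) = φ.comp (ev x) := by
  conv_lhs => rw [← pt_ev x, pt_comp, ev_pt]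

theorem ev_mul_of_grouplike (x y : SpecO (R := R) C ⟶ SpecO (R := R) B) (b : B)
    (hb : Coalgebra.comul (R := R) b = b ⊗ₜ[R] b) : ev (x * y) b = ev x b * ev y b := by
  unfold ev
  rw [map_mul, AlgHom.convMul_apply, hb, Algebra.TensorProduct.lift_tmul]

theorem ev_one_of_grouplike (b : B) (hb : Coalgebra.counit (R := R) b = 1) :
    ev (1 : SpecO (R := R) C ⟶ SpecO (R := R) B) b = 1 := by
  unfold ev
  rw [map_one]
  change (1 : WithConv (B →ₐ[R] C)) b = 1
  rw [AlgHom.convOne_apply, hb, map_one]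

end Points

section Upsilon

variable {R : Type u} [CommRing R] {lam : R} {N : ℕ} (h : DivCond lam N)

/-- algebra maps out of the coordinate ring of `G_{λ,N}` with prescribed value at `1 + λt`,
when `λ` is invertible -/
theorem exists_algHom_AK_of_pow (hN : 0 < N) {Γ : Type u} [CommRing Γ] [Algebra R Γ]
    (v : Γ) (hvN : v ^ N = 1) (hu : IsUnit (algebraMap R Γ lam)) :
    ∃ F : AK R lam N h →ₐ[R] Γ, F (1 + lam • AK.t) = v := by
  obtain ⟨ν', hν'⟩ := hu.exists_right_inv
  have hlb : lam • (ν' * (v - 1)) = v - 1 := by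
    rw [Algebra.smul_def, ← _root_.mul_assoc, hν', _root_.one_mul]
  have hbc : (1 + lam • (ν' * (v - 1))) * v ^ (N - 1) = 1 := by
    rw [hlb, add_sub_cancel, ← pow_succ', Nat.sub_add_cancel hN, hvN]
  let F₀ : A R lam →ₐ[R] Γ := A.lift R lam (ν' * (v - 1)) (v ^ (N - 1)) hbc
  have hgen : F₀ (kerGen lam N h) = 0 := by
    have h1 : F₀ (kerGen lam N h) = Polynomial.aeval (ν' * (v - 1)) (psiPoly lam N h) := by
      rw [kerGen, ← Polynomial.aeval_algHom_apply, A.lift_t]
    have h2 := aeval_psiPoly h (ν' * (v - 1))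
    rw [← Algebra.smul_def lam, hlb, add_sub_cancel, hvN, sub_self] at h2
    have h3 : ν' ^ N * (algebraMap R Γ (lam ^ N) *
        Polynomial.aeval (ν' * (v - 1)) (psiPoly lam N h)) = 0 := by rw [h2, mul_zero]
    rw [← _root_.mul_assoc, map_pow, ← mul_pow, mul_comm ν', hν', one_pow, _root_.one_mul] at h3
    rw [h1, h3]
  have hker : ∀ a ∈ kerIdeal lam N h, F₀ a = 0 := by
    intro a ha
    obtain ⟨d, rfl⟩ := Ideal.mem_span_singleton'.mp ha
    rw [map_mul, hgen, mul_zero]
  let F : AK R lam N h →ₐ[R] Γ := Ideal.Quotient.liftₐ (kerIdeal lam N h) F₀ hker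
  have hFt : F AK.t = ν' * (v - 1) := by
    show F₀ A.t = _
    exact A.lift_t _ _ hbc
  refine ⟨F, ?_⟩
  rw [map_add, map_one, map_smul, hFt, hlb, add_sub_cancel]

theorem algHom_AK_ext_of_u {Γ : Type u} [CommRing Γ] [Algebra R Γ]
    (F F' : AK R lam N h →ₐ[R] Γ) (hu : IsUnit (algebraMap R Γ lam))
    (e0 : F (1 + lam • AK.t) = F' (1 + lam • AK.t)) : F = F' := by
  have e1 : (1 + lam • (AK.t : AK R lam N h)) * AK.inv = 1 := by
    have := congrArg (AK.mkHom R lam N h) (A.u_mul_inv (R := R) (lam := lam))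
    rw [map_mul, map_one, A.u, map_add, map_one, map_smul] at this
    exact this
  have ht : F AK.t = F' AK.t := by
    have h1 : algebraMap R Γ lam * F AK.t = algebraMap R Γ lam * F' AK.t := by
      rw [map_add, map_add, map_one, map_one, map_smul, map_smul, Algebra.smul_def,
        Algebra.smul_def] at e0
      exact add_left_cancel e0
    exact hu.mul_left_cancel h1
  have hinv : F AK.inv = F' AK.inv := by
    have ef := congrArg F e1
    have eg := congrArg F' e1
    rw [map_mul, map_one] at ef eg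
    rw [e0] at ef
    calc F AK.inv = F AK.inv * (F' (1 + lam • AK.t) * F' AK.inv) := by rw [eg, _root_.mul_one]
      _ = (F' (1 + lam • AK.t) * F AK.inv) * F' AK.inv := by ring
      _ = _ := by rw [ef, _root_.one_mul]
  exact AK.algHom_ext ht hinv

variable {C : Type u} [CommRing C] [Algebra R C]

/-- the value of `1 + λt` at a `C`-valued point of `G_{λ,N}` -/
noncomputable def ups (x : SpecO (R := R) C ⟶ GK R lam N h) : C :=
  ev x (1 + lam • AK.t)

theorem ups_mul (x y : SpecO (R := R) C ⟶ GK R lam N h) : ups h (x * y) = ups h x * ups h y :=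
  ev_mul_of_grouplike x y _ (AK.uGL R lam N h).2.comul_eq_tmul_self

theorem ups_one : ups h (1 : SpecO (R := R) C ⟶ GK R lam N h) = 1 :=
  ev_one_of_grouplike _ (AK.uGL R lam N h).2.counit_eq_one

theorem ups_pow_N (x : SpecO (R := R) C ⟶ GK R lam N h) : ups h x ^ N = 1 := by
  unfold ups
  rw [← map_pow, AK.u_pow, map_one]

theorem ups_pow (x : SpecO (R := R) C ⟶ GK R lam N h) (n : ℕ) : ups h (x ^ n) = ups h x ^ n := by
  induction n with
  | zero => rw [pow_zero, pow_zero, ups_one]
  | succ n ih => rw [pow_succ, pow_succ, ups_mul, ih]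

theorem ups_comp {C' : Type u} [CommRing C'] [Algebra R C'] (φ : C →ₐ[R] C')
    (x : SpecO (R := R) C ⟶ GK R lam N h) : ups h (pt φ ≫ x) = φ (ups h x) := by
  unfold ups
  rw [ev_comp]
  rfl

theorem ups_injective (hu : IsUnit (algebraMap R C lam)) {x y : SpecO (R := R) C ⟶ GK R lam N h}
    (e : ups h x = ups h y) : x = y :=
  ev_injective (algHom_AK_ext_of_u h _ _ hu e)

theorem exists_ups_eq (hN : 0 < N) (hu : IsUnit (algebraMap R C lam)) (v : C) (hv : v ^ N = 1) :
    ∃ x : SpecO (R := R) C ⟶ GK R lam N h, ups h x = v := by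
  obtain ⟨F, hF⟩ := exists_algHom_AK_of_pow h hN v hv hu
  refine ⟨pt F, ?_⟩
  unfold ups
  rw [ev_pt, hF]

/-- points of `G_{λ,N}` with invertible `λ` are killed by `N` -/
theorem pow_N_eq_one (hu : IsUnit (algebraMap R C lam)) (x : SpecO (R := R) C ⟶ GK R lam N h) :
    x ^ N = 1 :=
  ups_injective h hu (by rw [ups_pow, ups_pow_N, ups_one])

end Upsilon

section Core

open Groth.Agent.Lib.Helper12

variable {R : Type u} [CommRing R] {p : ℕ} [hp : Fact p.Prime] {lam mu : R}
  (h₁ : DivCond lam p) (h₂ : DivCond mu p)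
  (a : AlgGrp.Action (GK R mu p h₂) (GK R lam p h₁))

/-- the character of `ℤ/p` attached to a `p`-th root of unity -/
noncomputable def chi {C : Type u} [CommRing C] (v : C) (hv : v ^ p = 1) :
    Multiplicative (ZMod p) →* C where
  toFun m := v ^ (Multiplicative.toAdd m).val
  map_one' := by
    rw [toAdd_one, ZMod.val_zero, pow_zero]
  map_mul' x y := by
    rw [toAdd_mul, ZMod.val_add, ← pow_add, pow_eq_pow_mod ((Multiplicative.toAdd x).val +
      (Multiplicative.toAdd y).val) hv]

theorem pt_id {C : Type u} [CommRing C] [Algebra R C] : pt (AlgHom.id R C) = 𝟙 (SpecO (R := R) C) := by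
  apply Over.OverMorphism.ext
  change Spec.map _ = 𝟙 _
  exact Spec.map_id _

variable {C : Type u} [CommRing C] [Algebra R C]

/-- the generator of the group algebra -/
noncomputable abbrev zz (C : Type u) [CommRing C] : MonoidAlgebra C (Multiplicative (ZMod p)) :=
  MonoidAlgebra.single (Multiplicative.ofAdd (1 : ZMod p)) 1

/-- the structure map of the group algebra -/
noncomputable abbrev ii (C : Type u) [CommRing C] [Algebra R C] :
    C →ₐ[R] MonoidAlgebra C (Multiplicative (ZMod p)) :=
  IsScalarTower.toAlgHom R C (MonoidAlgebra C (Multiplicative (ZMod p)))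

theorem isUnit_algebraMap_monoidAlgebra {G : Type} [Monoid G] {r : R}
    (hu : IsUnit (algebraMap R C r)) : IsUnit (algebraMap R (MonoidAlgebra C G) r) := by
  rw [IsScalarTower.algebraMap_apply R C (MonoidAlgebra C G)]
  exact hu.map _

/-- the evaluation map of the group algebra at a `p`-th root of unity -/
noncomputable def EE {C' : Type u} [CommRing C'] [Algebra R C'] (φ : C →ₐ[R] C') (v : C')
    (hv : v ^ p = 1) : MonoidAlgebra C (Multiplicative (ZMod p)) →ₐ[R] C' :=
  MonoidAlgebra.liftNCAlgHom φ (chi v hv) (fun _ _ => Commute.all _ _)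

theorem EE_single {C' : Type u} [CommRing C'] [Algebra R C'] (φ : C →ₐ[R] C') (v : C')
    (hv : v ^ p = 1) (m : Multiplicative (ZMod p)) (c : C) :
    EE φ v hv (MonoidAlgebra.single m c) = φ c * v ^ (Multiplicative.toAdd m).val := by
  unfold EE
  rw [MonoidAlgebra.coe_liftNCAlgHom, MonoidAlgebra.liftNC_single]
  rfl

theorem EE_comp_ii {C' : Type u} [CommRing C'] [Algebra R C'] (φ : C →ₐ[R] C') (v : C')
    (hv : v ^ p = 1) : (EE φ v hv).comp (ii (p := p) C) = φ := by
  ext c
  rw [AlgHom.comp_apply]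
  change EE φ v hv (algebraMap C _ c) = φ c
  rw [MonoidAlgebra.coe_algebraMap, Function.comp_apply, Algebra.algebraMap_self,
    RingHom.id_apply, EE_single, toAdd_one, ZMod.val_zero, pow_zero, _root_.mul_one]

theorem sum_single_coeff {G : Type} [Monoid G] [Fintype G]
    (f : MonoidAlgebra C G) : ∑ m : G, MonoidAlgebra.single m (f.coeff m) = f := by
  apply MonoidAlgebra.coeff_injective
  rw [MonoidAlgebra.coeff_sum]
  simp only [MonoidAlgebra.coeff_single]
  exact Finsupp.univ_sum_single f.coeff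

theorem EE_apply {C' : Type u} [CommRing C'] [Algebra R C'] (φ : C →ₐ[R] C') (v : C')
    (hv : v ^ p = 1) (f : MonoidAlgebra C (Multiplicative (ZMod p))) :
    EE φ v hv f = ∑ k : ZMod p, φ (f.coeff (Multiplicative.ofAdd k)) * v ^ k.val := by
  have hf : f = ∑ k : ZMod p, MonoidAlgebra.single (Multiplicative.ofAdd k)
      (f.coeff (Multiplicative.ofAdd k)) := by
    conv_lhs => rw [← sum_single_coeff f]
    exact Fintype.sum_equiv Multiplicative.toAdd _ _ (fun m => rfl)
  conv_lhs => rw [hf]
  rw [map_sum]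
  refine Finset.sum_congr rfl fun k _ => ?_
  rw [EE_single, toAdd_ofAdd]

/-- the universal point of `G_{λ,p}` over the group algebra -/
theorem exists_zpt (hl : IsUnit (algebraMap R C lam)) :
    ∃ z : SpecO (R := R) (MonoidAlgebra C (Multiplicative (ZMod p))) ⟶ GK R lam p h₁,
      ups h₁ z = zz (p := p) C :=
  exists_ups_eq h₁ hp.out.pos (isUnit_algebraMap_monoidAlgebra hl) _
    (Groth.Agent.Lib.Seat34.SekSuwaGeneric.single_one_pow (R := C) (N := p))

/-- the action of `g` on points is given by a universal element of the group algebra -/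
theorem formula (g : SpecO (R := R) C ⟶ GK R mu p h₂)
    (z : SpecO (R := R) (MonoidAlgebra C (Multiplicative (ZMod p))) ⟶ GK R lam p h₁)
    (hz : ups h₁ z = zz (p := p) C)
    {C' : Type u} [CommRing C'] [Algebra R C'] (φ : C →ₐ[R] C')
    (hl' : IsUnit (algebraMap R C' lam)) (x : SpecO (R := R) C' ⟶ GK R lam p h₁) :
    ups h₁ (lift (pt φ ≫ g) x ≫ a.act) =
      ∑ k : ZMod p, φ ((ups h₁ (lift (pt (ii (p := p) C) ≫ g) z ≫ a.act)).coeff
        (Multiplicative.ofAdd k)) * ups h₁ x ^ k.val := by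
  have hv := ups_pow_N h₁ x
  have e1 : pt (EE φ (ups h₁ x) hv) ≫ z = x := by
    apply ups_injective h₁ hl'
    rw [ups_comp, hz, EE_single, map_one, _root_.one_mul, toAdd_ofAdd, ZMod.val_one, pow_one]
  have e2 : pt (EE φ (ups h₁ x) hv) ≫ (pt (ii (p := p) C) ≫ g) = pt φ ≫ g := by
    rw [← Category.assoc, pt_comp, EE_comp_ii]
  have e3 := comp_lift_act a (pt (EE φ (ups h₁ x) hv)) (pt (ii (p := p) C) ≫ g) z
  rw [e1, e2] at e3
  rw [← e3, ups_comp, EE_apply]

section Idem

open GrpObj

variable (hmul : ∀ (T : Over (Spec (CommRingCat.of R))) (g : T ⟶ GK R mu p h₂)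
    (x y : T ⟶ GK R lam p h₁),
    lift g (x * y) ≫ a.act = (lift g x ≫ a.act) * (lift g y ≫ a.act))

include hmul in
theorem act_one_right {T : Over (Spec (CommRingCat.of R))} (g : T ⟶ GK R mu p h₂) :
    lift g (1 : T ⟶ GK R lam p h₁) ≫ a.act = 1 := by
  have h := hmul T g 1 1
  rw [_root_.mul_one] at h
  exact (left_eq_mul.mp h)

theorem eval_single_pow {A : Type} [AddCommGroup A] (s : A) (c : C) (n : ℕ) :
    algebraMap C (MonoidAlgebra C (Multiplicative A)) c *
      (MonoidAlgebra.single (Multiplicative.ofAdd s) (1 : C)) ^ n =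
    MonoidAlgebra.single (Multiplicative.ofAdd (n • s)) c := by
  rw [MonoidAlgebra.single_pow, one_pow, MonoidAlgebra.coe_algebraMap, Function.comp_apply,
    Algebra.algebraMap_self, RingHom.id_apply, MonoidAlgebra.single_mul_single, _root_.one_mul,
    _root_.mul_one, ofAdd_nsmul]

include hmul in
theorem sum_coeff_eq_one (hl : IsUnit (algebraMap R C lam)) (g : SpecO (R := R) C ⟶ GK R mu p h₂)
    (z : SpecO (R := R) (MonoidAlgebra C (Multiplicative (ZMod p))) ⟶ GK R lam p h₁)
    (hz : ups h₁ z = zz (p := p) C) :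
    ∑ k : ZMod p, (ups h₁ (lift (pt (ii (p := p) C) ≫ g) z ≫ a.act)).coeff
      (Multiplicative.ofAdd k) = 1 := by
  have h := formula h₁ h₂ a g z hz (AlgHom.id R C) hl 1
  rw [pt_id, Category.id_comp, act_one_right h₁ h₂ a hmul, ups_one] at h
  rw [h]
  refine Finset.sum_congr rfl fun k _ => ?_
  rw [one_pow, _root_.mul_one]
  rfl

include hmul in
theorem coeff_mul_coeff (hl : IsUnit (algebraMap R C lam)) (g : SpecO (R := R) C ⟶ GK R mu p h₂)
    (z : SpecO (R := R) (MonoidAlgebra C (Multiplicative (ZMod p))) ⟶ GK R lam p h₁)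
    (hz : ups h₁ z = zz (p := p) C) (i j : ZMod p) :
    (ups h₁ (lift (pt (ii (p := p) C) ≫ g) z ≫ a.act)).coeff (Multiplicative.ofAdd i) *
      (ups h₁ (lift (pt (ii (p := p) C) ≫ g) z ≫ a.act)).coeff (Multiplicative.ofAdd j) =
    if i = j then (ups h₁ (lift (pt (ii (p := p) C) ≫ g) z ≫ a.act)).coeff
      (Multiplicative.ofAdd i) else 0 := by
  generalize hE : (fun k : ZMod p => (ups h₁ (lift (pt (ii (p := p) C) ≫ g) z ≫ a.act)).coeff
      (Multiplicative.ofAdd k)) = e
  have hE' : ∀ k, (ups h₁ (lift (pt (ii (p := p) C) ≫ g) z ≫ a.act)).coeff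
      (Multiplicative.ofAdd k) = e k := fun k => congrFun hE k
  rw [hE', hE']
  -- the two-variable group algebra
  let φ₂ : C →ₐ[R] MonoidAlgebra C (Multiplicative (ZMod p × ZMod p)) :=
    IsScalarTower.toAlgHom R C _
  have hl₂ : IsUnit (algebraMap R (MonoidAlgebra C (Multiplicative (ZMod p × ZMod p))) lam) :=
    isUnit_algebraMap_monoidAlgebra hl
  have hpow : ∀ s : ZMod p × ZMod p,
      (MonoidAlgebra.single (Multiplicative.ofAdd s) (1 : C)) ^ p = 1 := by
    intro s
    rw [MonoidAlgebra.single_pow, one_pow, ← ofAdd_nsmul]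
    have : p • s = 0 := by
      ext
      · rw [Prod.smul_fst, nsmul_eq_mul, ZMod.natCast_self, zero_mul]; rfl
      · rw [Prod.smul_snd, nsmul_eq_mul, ZMod.natCast_self, zero_mul]; rfl
    rw [this]
    rfl
  obtain ⟨x₁, hx₁⟩ := exists_ups_eq h₁ hp.out.pos hl₂ _ (hpow (1, 0))
  obtain ⟨x₂, hx₂⟩ := exists_ups_eq h₁ hp.out.pos hl₂ _ (hpow (0, 1))
  have f1 := formula h₁ h₂ a g z hz φ₂ hl₂ x₁
  have f2 := formula h₁ h₂ a g z hz φ₂ hl₂ x₂
  have f12 := formula h₁ h₂ a g z hz φ₂ hl₂ (x₁ * x₂)
  rw [hmul, ups_mul, f1, f2, ups_mul, hx₁, hx₂] at f12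
  simp only [hE'] at f12
  have hφ₂ : ∀ c, φ₂ c = algebraMap C _ c := fun c => rfl
  simp only [hφ₂, MonoidAlgebra.single_mul_single, _root_.mul_one, ← ofAdd_add, Prod.mk_add_mk,
    _root_.add_zero, _root_.zero_add, eval_single_pow] at f12
  have key := congrArg (fun F => F.coeff (Multiplicative.ofAdd ((i, j) : ZMod p × ZMod p))) f12
  simp only [Finset.sum_mul_sum, MonoidAlgebra.single_mul_single, MonoidAlgebra.coeff_sum,
    MonoidAlgebra.coeff_single, Finsupp.coe_finsetSum, Finset.sum_apply,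
    Finsupp.single_apply] at key
  have hv : ∀ x : ZMod p, ((x.val : ℕ) : ZMod p) = x := fun x => ZMod.natCast_zmod_val x
  simp only [Prod.smul_mk, nsmul_one, hv, smul_zero, ← ofAdd_add, Prod.mk_add_mk, _root_.add_zero,
    _root_.zero_add, EmbeddingLike.apply_eq_iff_eq, Prod.mk.injEq] at key
  have hL : (∑ x : ZMod p, ∑ y : ZMod p, if x = i ∧ y = j then e x * e y else 0) = e i * e j := by
    rw [Finset.sum_eq_single i, Finset.sum_eq_single j]
    · rw [if_pos ⟨rfl, rfl⟩]
    · intro y _ hy
      rw [if_neg (fun h => hy h.2)]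
    · intro h; exact absurd (Finset.mem_univ _) h
    · intro x _ hx
      exact Finset.sum_eq_zero fun y _ => if_neg (fun h => hx h.1)
    · intro h; exact absurd (Finset.mem_univ _) h
  have hR : (∑ x : ZMod p, if x = i ∧ x = j then e x else 0) = if i = j then e i else 0 := by
    rw [Finset.sum_eq_single i]
    · by_cases hij : i = j
      · rw [if_pos ⟨rfl, hij⟩, if_pos hij]
      · rw [if_neg (fun h => hij h.2), if_neg hij]
    · intro x _ hx
      exact if_neg (fun h => hx h.1)
    · intro h; exact absurd (Finset.mem_univ _) h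
  rw [← hL, key, hR]

omit [Algebra R C] in
theorem idem_sum_pow (e s : ZMod p → C) (He1 : ∑ k, e k = 1)
    (He2 : ∀ i j, e i * e j = if i = j then e i else 0) (n : ℕ) :
    (∑ k, e k * s k) ^ n = ∑ k, e k * s k ^ n := by
  induction n with
  | zero =>
    simp only [pow_zero, _root_.mul_one, He1]
  | succ n ih =>
    rw [pow_succ, ih, Finset.sum_mul_sum]
    refine Finset.sum_congr rfl fun k _ => ?_
    rw [Finset.sum_eq_single k]
    · have := He2 k k
      rw [if_pos rfl] at this
      calc e k * s k ^ n * (e k * s k) = (e k * e k) * (s k ^ n * s k) := by ring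
        _ = e k * s k ^ (n + 1) := by rw [this, pow_succ]
    · intro j _ hj
      have := He2 k j
      rw [if_neg (fun h => hj h.symm)] at this
      calc e k * s k ^ n * (e j * s j) = (e k * e j) * (s k ^ n * s j) := by ring
        _ = 0 := by rw [this, zero_mul]
    · intro h; exact absurd (Finset.mem_univ _) h

include hmul in
/-- **Key lemma**: over a ring where `λ` and `μ` are invertible the action is trivial on points. -/
theorem act_eq_of_isUnit (hl : IsUnit (algebraMap R C lam)) (hm : IsUnit (algebraMap R C mu))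
    (g : SpecO (R := R) C ⟶ GK R mu p h₂) (x : SpecO (R := R) C ⟶ GK R lam p h₁) :
    lift g x ≫ a.act = x := by
  obtain ⟨z, hz⟩ := exists_zpt (p := p) h₁ (C := C) hl
  generalize hE : (fun k : ZMod p => (ups h₁ (lift (pt (ii (p := p) C) ≫ g) z ≫ a.act)).coeff
      (Multiplicative.ofAdd k)) = e
  have hE' : ∀ k, (ups h₁ (lift (pt (ii (p := p) C) ≫ g) z ≫ a.act)).coeff
      (Multiplicative.ofAdd k) = e k := fun k => congrFun hE k
  have He1 : ∑ k, e k = 1 := by
    have := sum_coeff_eq_one h₁ h₂ a hmul hl g z hz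
    simpa only [hE'] using this
  have He2 : ∀ i j, e i * e j = if i = j then e i else 0 := by
    intro i j
    have := coeff_mul_coeff h₁ h₂ a hmul hl g z hz i j
    simpa only [hE'] using this
  -- the formula for the action of `g`
  have F : ∀ y : SpecO (R := R) C ⟶ GK R lam p h₁,
      ups h₁ (lift g y ≫ a.act) = ∑ k, e k * ups h₁ y ^ k.val := by
    intro y
    have h := formula h₁ h₂ a g z hz (AlgHom.id R C) hl y
    rw [pt_id, Category.id_comp] at h
    rw [h]
    refine Finset.sum_congr rfl fun k _ => ?_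
    rw [hE']
    rfl
  have hv := ups_pow_N h₁ x
  -- the formula for the action of `g ^ n`
  have Fn : ∀ n : ℕ, ups h₁ (lift (g ^ n) x ≫ a.act) = ∑ k : ZMod p, e k * ups h₁ x ^ (k ^ n).val := by
    intro n
    induction n with
    | zero =>
      rw [pow_zero, act_one]
      simp only [pow_zero, ZMod.val_one, pow_one]
      rw [← Finset.sum_mul, He1, _root_.one_mul]
    | succ n ih =>
      rw [pow_succ', act_mul, F, ih]
      have h1 : ∀ m : ZMod p, (∑ k : ZMod p, e k * ups h₁ x ^ (k ^ n).val) ^ m.val =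
          ∑ k : ZMod p, e k * (ups h₁ x ^ (k ^ n).val) ^ m.val :=
        fun m => idem_sum_pow e _ He1 He2 m.val
      simp only [h1, Finset.mul_sum]
      rw [Finset.sum_comm]
      refine Finset.sum_congr rfl fun k _ => ?_
      rw [Finset.sum_eq_single k]
      · have := He2 k k
        rw [if_pos rfl] at this
        rw [← _root_.mul_assoc, this, ← pow_mul, pow_succ, ZMod.val_mul,
          ← pow_eq_pow_mod _ hv]
      · intro j _ hj
        have := He2 j k
        rw [if_neg hj] at this
        rw [← _root_.mul_assoc, this, zero_mul]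
      · intro h; exact absurd (Finset.mem_univ _) h
  have hgp : g ^ p = 1 := pow_N_eq_one h₂ hm g
  have h1 := Fn p
  rw [hgp, act_one] at h1
  simp only [ZMod.pow_card] at h1
  apply ups_injective h₁ hl
  rw [F]
  exact h1.symm

end Idem

end Core

section Reduce

open Groth.Agent.Lib.Helper24FlatTF Groth.Agent.Lib.Seat34.SekSuwaGeneric

variable {R : Type u} [CommRing R]

theorem eq_toSpecΓ_comp {X : Scheme.{u}} {B : Type u} [CommRing B]
    (w : X ⟶ Spec (CommRingCat.of B)) :
    w = X.toSpecΓ ≫ Spec.map (CommRingCat.ofHom (Phi w)) :=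
  Phi_injective (by rw [Phi_toSpecΓ_comp])

/-- Morphisms from a flat affine `R`-scheme to an affine scheme agree as soon as they agree on all
ring-valued points over which a given non-zero-divisor is invertible. -/
theorem left_ext_of_flat (P : Over (Spec (CommRingCat.of R))) [Flat P.hom] [IsAffine P.left]
    (r : R) (hr : r ∈ nonZeroDivisors R) {B : Type u} [CommRing B]
    (w w' : P.left ⟶ Spec (CommRingCat.of B))
    (H : ∀ (C : Type u) [CommRing C] [Algebra R C], IsUnit (algebraMap R C r) →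
      ∀ j : SpecO (R := R) C ⟶ P, j.left ≫ w = j.left ≫ w') : w = w' := by
  let Γ₀ := Γ(P.left, ⊤)
  let s : Γ₀ := Phi P.hom r
  have hs : s ∈ nonZeroDivisors Γ₀ := by
    refine mem_nonZeroDivisors_iff.mpr ⟨fun t ht => torsionFree P.hom r hr t ht, fun t ht => ?_⟩
    rw [mul_comm] at ht
    exact torsionFree P.hom r hr t ht
  let C := Localization.Away s
  let ψ : Γ₀ →+* C := algebraMap Γ₀ C
  have hψ : Function.Injective ψ :=
    IsLocalization.injective (M := Submonoid.powers s) C (Submonoid.powers_le.mpr hs)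
  let _ : Algebra R C := (ψ.comp (Phi P.hom)).toAlgebra
  have hunit : IsUnit (algebraMap R C r) := by
    change IsUnit (ψ (Phi P.hom r))
    exact IsLocalization.Away.algebraMap_isUnit s
  have hjw : (Spec.map (CommRingCat.ofHom ψ) ≫ inv P.left.toSpecΓ) ≫ P.hom =
      Spec.map (CommRingCat.ofHom (algebraMap R C)) := by
    conv_lhs => rw [eq_toSpecΓ_comp P.hom]
    rw [Category.assoc, IsIso.inv_hom_id_assoc, ← Spec.map_comp]
    rfl
  let j : SpecO (R := R) C ⟶ P := Over.homMk (Spec.map (CommRingCat.ofHom ψ) ≫ inv P.left.toSpecΓ) hjw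
  have key := H C hunit j
  change (Spec.map (CommRingCat.ofHom ψ) ≫ inv P.left.toSpecΓ) ≫ w =
    (Spec.map (CommRingCat.ofHom ψ) ≫ inv P.left.toSpecΓ) ≫ w' at key
  have e1 : ∀ w₀ : P.left ⟶ Spec (CommRingCat.of B),
      (Spec.map (CommRingCat.ofHom ψ) ≫ inv P.left.toSpecΓ) ≫ w₀ =
        Spec.map (CommRingCat.ofHom (ψ.comp (Phi w₀))) := by
    intro w₀
    conv_lhs => rw [eq_toSpecΓ_comp w₀]
    rw [Category.assoc, IsIso.inv_hom_id_assoc, ← Spec.map_comp]
    rfl
  rw [e1, e1] at key
  have key2 := Spec.map_injective key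
  have key3 : ψ.comp (Phi w) = ψ.comp (Phi w') := by
    have := congrArg CommRingCat.Hom.hom key2
    exact this
  apply Phi_injective
  ext b
  exact hψ (RingHom.congr_fun key3 b)

end Reduce

end Groth.Agent.Lib.Seat34.SekSuwaAct
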