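import Groth.Agent.Lib.Helper24GKInj
import Groth.Agent.Lib.Helper24GKFree

/-!
Helper library (helper34): the homomorphism `alphaN : G_{λ,N} ⟶ μ_N` is bijective on points of
schemes on which `λ` is invertible.
-/

set_option autoImplicit false
universe u

open CategoryTheory AlgebraicGeometry SekSuwa Groth.Agent.Lib.Helper24FlatTF

namespace Groth.Agent.Lib.Seat34.SekSuwaGeneric

variable {R : Type u} [CommRing R] {lam : R} {N : ℕ} (h : DivCond lam N)

theorem single_one_pow :
    (MonoidAlgebra.single (Multiplicative.ofAdd (1 : ZMod N)) (1 : R)) ^ N = 1 := by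
  rw [MonoidAlgebra.single_pow, one_pow, ← ofAdd_nsmul, nsmul_one, ZMod.natCast_self]
  rfl

/-- Algebra maps out of `R[ℤ/N]` lift uniquely along `alphaNHom` when `λ` is invertible. -/
theorem exists_algHom_AK (hN : 0 < N) {Γ : Type u} [CommRing Γ] [Algebra R Γ]
    (ν : MonoidAlgebra R (Multiplicative (ZMod N)) →ₐ[R] Γ) (hu : IsUnit (algebraMap R Γ lam)) :
    ∃ F : AK R lam N h →ₐ[R] Γ, ∀ x, F (alphaNHom R lam N h x) = ν x := by
  obtain ⟨μ, hμ⟩ := hu.exists_right_inv
  set v := ν (MonoidAlgebra.single (Multiplicative.ofAdd (1 : ZMod N)) 1) with hv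
  have hvN : v ^ N = 1 := by
    rw [hv, ← map_pow, single_one_pow, map_one]
  have hlb : lam • (μ * (v - 1)) = v - 1 := by
    rw [Algebra.smul_def, ← mul_assoc, hμ, one_mul]
  have hbc : (1 + lam • (μ * (v - 1))) * v ^ (N - 1) = 1 := by
    rw [hlb, add_sub_cancel, ← pow_succ', Nat.sub_add_cancel hN, hvN]
  let F₀ : A R lam →ₐ[R] Γ := A.lift R lam (μ * (v - 1)) (v ^ (N - 1)) hbc
  have hgen : F₀ (kerGen lam N h) = 0 := by
    have h1 : F₀ (kerGen lam N h) = Polynomial.aeval (μ * (v - 1)) (psiPoly lam N h) := by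
      rw [kerGen, ← Polynomial.aeval_algHom_apply, A.lift_t]
    have h2 := aeval_psiPoly h (μ * (v - 1))
    rw [← Algebra.smul_def lam, hlb, add_sub_cancel, hvN, sub_self] at h2
    have h3 : μ ^ N * (algebraMap R Γ (lam ^ N) *
        Polynomial.aeval (μ * (v - 1)) (psiPoly lam N h)) = 0 := by rw [h2, mul_zero]
    rw [← mul_assoc, map_pow, ← mul_pow, mul_comm μ, hμ, one_pow, one_mul] at h3
    rw [h1, h3]
  have hker : ∀ a ∈ kerIdeal lam N h, F₀ a = 0 := by
    intro a ha
    obtain ⟨d, rfl⟩ := Ideal.mem_span_singleton'.mp ha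
    rw [map_mul, hgen, mul_zero]
  let F : AK R lam N h →ₐ[R] Γ := Ideal.Quotient.liftₐ (kerIdeal lam N h) F₀ hker
  have hFt : F AK.t = μ * (v - 1) := by
    show F₀ A.t = _
    exact A.lift_t _ _ hbc
  refine ⟨F, ?_⟩
  have key : ∀ g : Multiplicative (ZMod N),
      F (alphaNHom R lam N h (MonoidAlgebra.single g 1)) = ν (MonoidAlgebra.single g 1) := by
    intro g
    have : NeZero N := ⟨hN.ne'⟩
    have hg : g = (Multiplicative.ofAdd (1 : ZMod N)) ^ (Multiplicative.toAdd g).val := by
      rw [← ofAdd_nsmul, nsmul_one, ZMod.natCast_zmod_val]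
      rfl
    have h1 : (MonoidAlgebra.single g (1 : R)) =
        (MonoidAlgebra.single (Multiplicative.ofAdd (1 : ZMod N)) (1 : R)) ^
          (Multiplicative.toAdd g).val := by
      rw [MonoidAlgebra.single_pow, one_pow, ← hg]
    rw [h1, map_pow, map_pow, map_pow, alphaNHom_single_one, map_add, map_one, map_smul, hFt, hlb,
      add_sub_cancel]
  intro x
  induction x using MonoidAlgebra.induction_on with
  | of g => exact key g
  | add a b ha hb => rw [map_add, map_add, map_add, ha, hb]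
  | smul r a ha => rw [map_smul, map_smul, map_smul, ha]

/-- Uniqueness of the lift along `alphaNHom` when `λ` is invertible. -/
theorem algHom_AK_ext {Γ : Type u} [CommRing Γ] [Algebra R Γ]
    (F F' : AK R lam N h →ₐ[R] Γ) (hu : IsUnit (algebraMap R Γ lam))
    (e : ∀ x, F (alphaNHom R lam N h x) = F' (alphaNHom R lam N h x)) : F = F' := by
  have e0 := e (MonoidAlgebra.single (Multiplicative.ofAdd (1 : ZMod N)) 1)
  rw [alphaNHom_single_one] at e0
  have e1 : (1 + lam • (AK.t : AK R lam N h)) * AK.inv = 1 := by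
    have := congrArg (AK.mkHom R lam N h) (A.u_mul_inv (R := R) (lam := lam))
    rw [map_mul, map_one, A.u, map_add, map_one, map_smul] at this
    exact this
  have ht : F AK.t = F' AK.t := by
    have h1 : algebraMap R Γ lam * F AK.t = algebraMap R Γ lam * F' AK.t := by
      rw [map_add, map_add, map_one, map_one, map_smul, map_smul, Algebra.smul_def,
        Algebra.smul_def] at e0
      exact add_left_cancel e0
    exact hu.mul_left_cancel h1
  have hinv : F AK.inv = F' AK.inv := by
    have ef := congrArg F e1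
    have eg := congrArg F' e1
    rw [map_mul, map_one] at ef eg
    rw [e0] at ef
    calc F AK.inv = F AK.inv * (F' (1 + lam • AK.t) * F' AK.inv) := by rw [eg, mul_one]
      _ = (F' (1 + lam • AK.t) * F AK.inv) * F' AK.inv := by ring
      _ = _ := by rw [ef, one_mul]
  exact AK.algHom_ext ht hinv

theorem Phi_toSpecΓ_comp {X : Scheme.{u}} {B : Type u} [CommRing B] (ψ : B →+* Γ(X, ⊤)) :
    Phi (X.toSpecΓ ≫ Spec.map (CommRingCat.ofHom ψ)) = ψ := by
  rw [Phi_comp]
  have h1 : Phi X.toSpecΓ = RingHom.id _ := by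
    unfold Phi
    rw [Scheme.toSpecΓ_appTop, Iso.inv_hom_id]
    rfl
  rw [h1, RingHom.id_comp]

/-- `alphaN` is bijective on points of schemes over `Spec R` on which `λ` is invertible. -/
theorem alphaN_comp_bijective (hN : 0 < N) (W : Over (Spec (CommRingCat.of R)))
    (hu : IsUnit (Phi W.hom lam)) :
    Function.Bijective (fun v : W ⟶ GK R lam N h => v ≫ alphaN R lam N h) := by
  let _ : Algebra R Γ(W.left, ⊤) := (Phi W.hom).toAlgebra
  have hw : ∀ {B : Type u} [CommRing B] [Algebra R B] (q : W.left ⟶ Spec (CommRingCat.of B)),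
      q ≫ Spec.map (CommRingCat.ofHom (algebraMap R B)) = W.hom →
      ∀ r : R, Phi q (algebraMap R B r) = algebraMap R Γ(W.left, ⊤) r := by
    intro B _ _ q hq r
    have := Phi_comp q (algebraMap R B)
    rw [hq] at this
    exact (RingHom.congr_fun this r).symm
  constructor
  · intro v₁ v₂ e
    have e' : v₁ ≫ alphaN R lam N h = v₂ ≫ alphaN R lam N h := e
    obtain ⟨f₁, hf₁⟩ : ∃ f₁ : W.left ⟶ Spec (CommRingCat.of (AK R lam N h)), f₁ = v₁.left :=
      ⟨_, rfl⟩
    obtain ⟨f₂, hf₂⟩ : ∃ f₂ : W.left ⟶ Spec (CommRingCat.of (AK R lam N h)), f₂ = v₂.left :=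
      ⟨_, rfl⟩
    have hw₁ : f₁ ≫ Spec.map (CommRingCat.ofHom (algebraMap R (AK R lam N h))) = W.hom := by
      rw [hf₁]; exact Over.w v₁
    have hw₂ : f₂ ≫ Spec.map (CommRingCat.ofHom (algebraMap R (AK R lam N h))) = W.hom := by
      rw [hf₂]; exact Over.w v₂
    have el : f₁ ≫ Spec.map (CommRingCat.ofHom ((alphaNHom R lam N h : _ →ₐc[R] AK R lam N h) :
          MonoidAlgebra R (Multiplicative (ZMod N)) →+* AK R lam N h)) =
        f₂ ≫ Spec.map (CommRingCat.ofHom ((alphaNHom R lam N h : _ →ₐc[R] AK R lam N h) :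
          MonoidAlgebra R (Multiplicative (ZMod N)) →+* AK R lam N h)) := by
      rw [hf₁, hf₂]
      exact congrArg (fun k => k.left) e'
    have eΦ := congrArg Phi el
    rw [Phi_comp, Phi_comp] at eΦ
    let F₁ : AK R lam N h →ₐ[R] Γ(W.left, ⊤) :=
      { Phi f₁ with commutes' := hw f₁ hw₁ }
    let F₂ : AK R lam N h →ₐ[R] Γ(W.left, ⊤) :=
      { Phi f₂ with commutes' := hw f₂ hw₂ }
    have hF : F₁ = F₂ := algHom_AK_ext h F₁ F₂ hu (fun x => RingHom.congr_fun eΦ x)
    apply Over.OverMorphism.ext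
    rw [← hf₁, ← hf₂]
    apply Phi_injective
    refine RingHom.ext fun x => ?_
    exact congrArg (fun k : AK R lam N h →ₐ[R] Γ(W.left, ⊤) => k x) hF
  · intro v'
    obtain ⟨f', hf'⟩ : ∃ f' : W.left ⟶
        Spec (CommRingCat.of (MonoidAlgebra R (Multiplicative (ZMod N)))), f' = v'.left := ⟨_, rfl⟩
    have hw' : f' ≫ Spec.map (CommRingCat.ofHom
        (algebraMap R (MonoidAlgebra R (Multiplicative (ZMod N))))) = W.hom := by
      rw [hf']; exact Over.w v'
    let ν : MonoidAlgebra R (Multiplicative (ZMod N)) →ₐ[R] Γ(W.left, ⊤) :=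
      { Phi f' with commutes' := hw f' hw' }
    obtain ⟨F, hF⟩ := exists_algHom_AK h hN ν hu
    have hcomm : (W.left.toSpecΓ ≫ Spec.map (CommRingCat.ofHom (F : AK R lam N h →+* Γ(W.left, ⊤)))) ≫
        (GK R lam N h).hom = W.hom := by
      apply Phi_injective
      show Phi ((W.left.toSpecΓ ≫ Spec.map (CommRingCat.ofHom
        (F : AK R lam N h →+* Γ(W.left, ⊤)))) ≫
        Spec.map (CommRingCat.ofHom (algebraMap R (AK R lam N h)))) = _
      rw [Phi_comp, Phi_toSpecΓ_comp]
      exact RingHom.ext fun r => F.commutes r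
    refine ⟨Over.homMk (W.left.toSpecΓ ≫ Spec.map (CommRingCat.ofHom
      (F : AK R lam N h →+* Γ(W.left, ⊤)))) hcomm, ?_⟩
    apply Over.OverMorphism.ext
    rw [← hf']
    apply Phi_injective
    show Phi ((W.left.toSpecΓ ≫ Spec.map (CommRingCat.ofHom
        (F : AK R lam N h →+* Γ(W.left, ⊤)))) ≫
      Spec.map (CommRingCat.ofHom ((alphaNHom R lam N h : _ →ₐc[R] AK R lam N h) :
          MonoidAlgebra R (Multiplicative (ZMod N)) →+* AK R lam N h))) = Phi f'
    rw [Phi_comp, Phi_toSpecΓ_comp]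
    exact RingHom.ext fun x => hF x

theorem Phi_precomp {X' Y : Scheme.{u}} {B : Type u} [CommRing B] (q : X' ⟶ Y)
    (f' : Y ⟶ Spec (CommRingCat.of B)) : Phi (q ≫ f') = q.appTop.hom.comp (Phi f') := by
  unfold Phi
  rw [Scheme.Hom.comp_appTop]
  rfl

/-- A non-zero-divisor of `R` becomes invertible at the generic point of an integral flat
`R`-scheme. -/
theorem isUnit_Phi_generic {X : Scheme.{u}} [IsIntegral X] (f : X ⟶ Spec (CommRingCat.of R))
    [Flat f] (a : R) (ha : a ∈ nonZeroDivisors R) :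
    IsUnit (Phi (X.fromSpecStalk (genericPoint X) ≫ f) a) := by
  rw [Phi_precomp]
  have h1 : Phi f a ≠ 0 := by
    intro h0
    have h2 : (1 : Γ(X, ⊤)) = 0 := torsionFree f a ha 1 (by rw [h0, zero_mul])
    exact one_ne_zero h2
  have h2 : X.presheaf.germ ⊤ (genericPoint X) trivial (Phi f a) ≠ 0 := by
    intro h0
    apply h1
    apply germ_injective_of_isIntegral X (U := ⊤) (genericPoint X) trivial
    rw [h0, map_zero]
  have h3 : IsUnit (X.presheaf.germ ⊤ (genericPoint X) trivial (Phi f a)) := by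
    have : IsUnit ((X.presheaf.germ ⊤ (genericPoint X) trivial (Phi f a) : X.functionField)) :=
      isUnit_iff_ne_zero.mpr h2
    exact this
  show IsUnit ((X.fromSpecStalk (genericPoint X)).appTop.hom (Phi f a))
  rw [Scheme.fromSpecStalk_appTop]
  simp only [CommRingCat.hom_comp, RingHom.coe_comp, Function.comp_apply]
  exact (h3.map _).map _

theorem isFinite_GK_hom (hN : 0 < N) : IsFinite (GK R lam N h).hom := by
  have := Groth.Agent.Lib.Helper24GKFree.finite hN h
  show IsFinite (Spec.map (CommRingCat.ofHom (algebraMap R (AK R lam N h))))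
  rw [IsFinite.SpecMap_iff]
  show (algebraMap R (AK R lam N h)).Finite
  rw [RingHom.finite_algebraMap]
  infer_instance

theorem flat_GK_hom (hN : 0 < N) : Flat (GK R lam N h).hom := by
  have := Groth.Agent.Lib.Helper24GKFree.free hN h
  show Flat (Spec.map (CommRingCat.ofHom (algebraMap R (AK R lam N h))))
  rw [Flat.SpecMap_iff]
  show (algebraMap R (AK R lam N h)).Flat
  rw [RingHom.flat_algebraMap_iff]
  infer_instance

end Groth.Agent.Lib.Seat34.SekSuwaGeneric
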