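import Groth.Agent.Lib.Seat34ExtendCartier
import Groth.Agent.Lib.Seat34CartierDecompAlg

/-!
# The stalk of an ideal sheaf (seat 34)

`stalkIdeal J x` is the ideal of the local ring `O_{X,x}` generated by the ideal sheaf `J`; it can be
computed from any affine open containing `x` (`stalkIdeal_eq`).

* `le_iff_forall_stalkIdeal_le`, `ext_stalkIdeal`: ideal sheaves are compared on stalks.
* `stalkIdeal_mul`, `stalkIdeal_pow`, `stalkIdeal_prod`, `stalkIdeal_top`.
* `mem_support_iff_stalkIdeal_ne_top`.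
* `exists_point_of_prime_stalk`: a prime `Q` of `O_{X,x}` is a generisation `y` of `x`, and
  `stalkIdeal J x ≤ Q ↔ y ∈ J.support`.
* `exists_stalkIdeal_eq_span`: for an effective Cartier ideal sheaf the stalk ideals are generated by
  one nonzerodivisor.
* `ideal_isPrime_or_eq_top`, `stalkIdeal_isPrime`: for an integral closed subscheme.
-/

set_option autoImplicit false
universe u
open CategoryTheory CategoryTheory.Limits AlgebraicGeometry TopologicalSpace

namespace Groth.Agent.Lib.Seat34.StalkIdeal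

open Groth.Agent.Lib.Seat48.EffCartier Groth.Agent.Lib.Seat34.ExtendCartier

variable {X : Scheme.{u}}

theorem map_germ_eq_of_le (J : X.IdealSheafData) {W V : X.affineOpens} (hWV : W ≤ V) (x : X)
    (hxW : x ∈ W.1) :
    (J.ideal V).map (X.presheaf.germ V.1 x (hWV hxW)).hom =
      (J.ideal W).map (X.presheaf.germ W.1 x hxW).hom := by
  have hWV' : W.1 ≤ V.1 := hWV
  have hmap : (J.ideal V).map (X.presheaf.map (homOfLE hWV').op).hom = J.ideal W :=
    J.map_ideal hWV
  have hgerm : (X.presheaf.germ V.1 x (hWV hxW)).hom =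
      (X.presheaf.germ W.1 x hxW).hom.comp (X.presheaf.map (homOfLE hWV').op).hom := by
    rw [← CommRingCat.hom_comp, X.presheaf.germ_res (homOfLE hWV') x hxW]
  rw [hgerm, ← Ideal.map_map, hmap]

theorem map_germ_eq (J : X.IdealSheafData) (V V' : X.affineOpens) (x : X) (hxV : x ∈ V.1)
    (hxV' : x ∈ V'.1) :
    (J.ideal V).map (X.presheaf.germ V.1 x hxV).hom =
      (J.ideal V').map (X.presheaf.germ V'.1 x hxV').hom := by
  obtain ⟨W, hW, hxW, hWle⟩ :=
    exists_isAffineOpen_mem_and_subset (x := x) (U := V.1 ⊓ V'.1) ⟨hxV, hxV'⟩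
  rw [map_germ_eq_of_le J (W := ⟨W, hW⟩) (V := V) (fun _ h => (hWle h).1) x hxW,
    map_germ_eq_of_le J (W := ⟨W, hW⟩) (V := V') (fun _ h => (hWle h).2) x hxW]

/-- The ideal of the local ring at `x` generated by the ideal sheaf `J`. -/
noncomputable def stalkIdeal (J : X.IdealSheafData) (x : X) : Ideal (X.presheaf.stalk x) :=
  ⨆ (V : X.affineOpens) (hxV : x ∈ V.1), (J.ideal V).map (X.presheaf.germ V.1 x hxV).hom

theorem stalkIdeal_eq (J : X.IdealSheafData) (V : X.affineOpens) (x : X) (hxV : x ∈ V.1) :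
    stalkIdeal J x = (J.ideal V).map (X.presheaf.germ V.1 x hxV).hom := by
  apply le_antisymm
  · exact iSup₂_le fun V' hxV' => (map_germ_eq J V' V x hxV' hxV).le
  · exact le_iSup₂_of_le V hxV le_rfl

theorem exists_affine (x : X) : ∃ V : X.affineOpens, x ∈ V.1 := by
  obtain ⟨V, hV, hxV, -⟩ := exists_isAffineOpen_mem_and_subset (x := x) (U := ⊤) trivial
  exact ⟨⟨V, hV⟩, hxV⟩

theorem stalkIdeal_mono {I J : X.IdealSheafData} (h : I ≤ J) (x : X) :
    stalkIdeal I x ≤ stalkIdeal J x := by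
  obtain ⟨V, hxV⟩ := exists_affine x
  rw [stalkIdeal_eq I V x hxV, stalkIdeal_eq J V x hxV]
  exact Ideal.map_mono (h V)

theorem le_iff_forall_stalkIdeal_le {I J : X.IdealSheafData} :
    I ≤ J ↔ ∀ x, stalkIdeal I x ≤ stalkIdeal J x := by
  refine ⟨fun h x => stalkIdeal_mono h x, fun h V => ?_⟩
  rw [V.2.ideal_le_iff]
  intro x hxV
  rw [← stalkIdeal_eq I V x hxV, ← stalkIdeal_eq J V x hxV]
  exact h x

theorem ext_stalkIdeal {I J : X.IdealSheafData} (h : ∀ x, stalkIdeal I x = stalkIdeal J x) :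
    I = J :=
  le_antisymm (le_iff_forall_stalkIdeal_le.mpr fun x => (h x).le)
    (le_iff_forall_stalkIdeal_le.mpr fun x => (h x).ge)

theorem stalkIdeal_mul (I J : X.IdealSheafData) (x : X) :
    stalkIdeal (I * J) x = stalkIdeal I x * stalkIdeal J x := by
  obtain ⟨V, hxV⟩ := exists_affine x
  rw [stalkIdeal_eq _ V x hxV, stalkIdeal_eq I V x hxV, stalkIdeal_eq J V x hxV,
    Scheme.IdealSheafData.ideal_mul, Pi.mul_apply, Ideal.map_mul]

theorem stalkIdeal_pow (I : X.IdealSheafData) (n : ℕ) (x : X) :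
    stalkIdeal (I ^ n) x = stalkIdeal I x ^ n := by
  obtain ⟨V, hxV⟩ := exists_affine x
  rw [stalkIdeal_eq _ V x hxV, stalkIdeal_eq I V x hxV,
    Scheme.IdealSheafData.ideal_pow, Pi.pow_apply, Ideal.map_pow]

theorem stalkIdeal_top (x : X) : stalkIdeal (⊤ : X.IdealSheafData) x = ⊤ := by
  obtain ⟨V, hxV⟩ := exists_affine x
  rw [stalkIdeal_eq _ V x hxV, Scheme.IdealSheafData.ideal_top, Pi.top_apply, Ideal.map_top]

theorem stalkIdeal_one (x : X) : stalkIdeal (1 : X.IdealSheafData) x = ⊤ :=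
  stalkIdeal_top x

theorem stalkIdeal_prod {ι : Type*} (s : Finset ι) (I : ι → X.IdealSheafData) (x : X) :
    stalkIdeal (∏ i ∈ s, I i) x = ∏ i ∈ s, stalkIdeal (I i) x := by
  classical
  induction s using Finset.induction_on with
  | empty =>
    rw [Finset.prod_empty, Finset.prod_empty, stalkIdeal_one, Ideal.one_eq_top]
  | insert i s hi ih =>
    rw [Finset.prod_insert hi, Finset.prod_insert hi, stalkIdeal_mul, ih]

theorem mem_support_iff_le_primeIdealOf (J : X.IdealSheafData) (V : X.affineOpens) (x : X)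
    (hxV : x ∈ V.1) :
    x ∈ J.support ↔ J.ideal V ≤ (V.2.primeIdealOf ⟨x, hxV⟩).asIdeal := by
  rw [Scheme.IdealSheafData.mem_support_iff_of_mem (U := V) hxV, Scheme.mem_zeroLocus_iff]
  constructor
  · intro h c hc
    by_contra hcq
    exact h c hc ((mem_basicOpen_iff_notMem_primeIdealOf V.2 x hxV c).mpr hcq)
  · intro h c hc hyc
    exact (mem_basicOpen_iff_notMem_primeIdealOf V.2 x hxV c).mp hyc (h hc)

theorem mem_support_iff_stalkIdeal_ne_top (J : X.IdealSheafData) (x : X) :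
    x ∈ J.support ↔ stalkIdeal J x ≠ ⊤ := by
  obtain ⟨V, hxV⟩ := exists_affine x
  have hV : IsAffineOpen V.1 := V.2
  let _ : Algebra Γ(X, V.1) (X.presheaf.stalk x) := X.presheaf.algebra_section_stalk ⟨x, hxV⟩
  have hloc : IsLocalization.AtPrime (X.presheaf.stalk x) (hV.primeIdealOf ⟨x, hxV⟩).asIdeal :=
    hV.isLocalization_stalk ⟨x, hxV⟩
  rw [mem_support_iff_le_primeIdealOf J V x hxV, stalkIdeal_eq J V x hxV]
  change _ ↔ (J.ideal V).map (algebraMap Γ(X, V.1) (X.presheaf.stalk x)) ≠ ⊤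
  rw [IsLocalization.map_algebraMap_ne_top_iff_disjoint
    (hV.primeIdealOf ⟨x, hxV⟩).asIdeal.primeCompl, Set.disjoint_left]
  constructor
  · intro h r hr hrJ
    exact hr (h hrJ)
  · intro h r hrJ
    by_contra hr
    exact h hr hrJ

/-- A prime of the local ring at `x` is a generisation `y` of `x`; the stalk at `x` of an ideal
sheaf is contained in the prime exactly when `y` lies in the support. -/
theorem exists_point_of_prime_stalk (x : X) (Q : Ideal (X.presheaf.stalk x)) [hQ : Q.IsPrime] :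
    ∃ y : X, y ⤳ x ∧ ∀ J : X.IdealSheafData, stalkIdeal J x ≤ Q ↔ y ∈ J.support := by
  obtain ⟨V, hxV⟩ := exists_affine x
  have hV : IsAffineOpen V.1 := V.2
  let _ : Algebra Γ(X, V.1) (X.presheaf.stalk x) := X.presheaf.algebra_section_stalk ⟨x, hxV⟩
  have hloc : IsLocalization.AtPrime (X.presheaf.stalk x) (hV.primeIdealOf ⟨x, hxV⟩).asIdeal :=
    hV.isLocalization_stalk ⟨x, hxV⟩
  have hqprime : (Q.comap (algebraMap Γ(X, V.1) (X.presheaf.stalk x))).IsPrime :=
    Ideal.comap_isPrime _ Q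
  obtain ⟨y, hyV, hy⟩ := exists_point_of_prime V (Q.comap (algebraMap Γ(X, V.1) (X.presheaf.stalk x)))
  refine ⟨y, ?_, fun J => ?_⟩
  · have hle : (hV.primeIdealOf ⟨y, hyV⟩).asIdeal ≤ (hV.primeIdealOf ⟨x, hxV⟩).asIdeal := by
      rw [hy]
      intro r hr
      by_contra hrp
      have hru : IsUnit (algebraMap Γ(X, V.1) (X.presheaf.stalk x) r) :=
        IsLocalization.map_units _ (⟨r, hrp⟩ : (hV.primeIdealOf ⟨x, hxV⟩).asIdeal.primeCompl)
      exact hQ.ne_top (Ideal.eq_top_of_isUnit_mem _ hr hru)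
    have hsp : hV.primeIdealOf ⟨y, hyV⟩ ⤳ hV.primeIdealOf ⟨x, hxV⟩ :=
      (PrimeSpectrum.le_iff_specializes _ _).mp hle
    have := hsp.map hV.fromSpec.continuous
    rwa [hV.fromSpec_primeIdealOf ⟨y, hyV⟩, hV.fromSpec_primeIdealOf ⟨x, hxV⟩] at this
  · rw [mem_support_iff_le_primeIdealOf J V y hyV, hy, stalkIdeal_eq J V x hxV]
    exact Ideal.map_le_iff_le_comap

/-- The stalk ideals of an effective Cartier ideal sheaf are generated by one nonzerodivisor. -/
theorem exists_stalkIdeal_eq_span {E : X.IdealSheafData} (hE : BlowUp.IsEffCartierIdeal E) (x : X) :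
    ∃ g : X.presheaf.stalk x, g ∈ nonZeroDivisors (X.presheaf.stalk x) ∧
      stalkIdeal E x = Ideal.span {g} := by
  obtain ⟨V, hxV⟩ := exists_affine x
  obtain ⟨g, hg, hgE⟩ := EffAt.exists_stalk_generator (hE x) V hxV
  exact ⟨g, hg, by rw [stalkIdeal_eq E V x hxV, hgE]⟩

/-- For an integral closed subscheme, the ideal on an affine open is prime or the unit ideal. -/
theorem ideal_isPrime_or_eq_top (E : X.IdealSheafData) [IsIntegral E.subscheme] (V : X.affineOpens) :
    (E.ideal V).IsPrime ∨ E.ideal V = ⊤ := by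
  by_cases hne : Nonempty ((E.subschemeι ⁻¹ᵁ V.1 : E.subscheme.Opens))
  · left
    have hdom : IsDomain Γ(E.subscheme, E.subschemeι ⁻¹ᵁ V.1) := inferInstance
    rw [← E.ker_subschemeι_app V]
    exact RingHom.ker_isPrime _
  · right
    have hbot : E.subschemeι ⁻¹ᵁ V.1 = ⊥ := by
      ext z
      simp only [Opens.coe_bot, Set.mem_empty_iff_false, iff_false]
      intro hz
      exact hne ⟨⟨z, hz⟩⟩
    have hsub : Subsingleton Γ(E.subscheme, E.subschemeι ⁻¹ᵁ V.1) := by
      rw [hbot]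
      infer_instance
    rw [← E.ker_subschemeι_app V, Ideal.eq_top_iff_one, RingHom.mem_ker]
    exact Subsingleton.elim _ _

theorem ideal_isPrime_of_mem_support (E : X.IdealSheafData) [IsIntegral E.subscheme]
    (V : X.affineOpens) (x : X) (hxV : x ∈ V.1) (hx : x ∈ E.support) : (E.ideal V).IsPrime := by
  rcases ideal_isPrime_or_eq_top E V with h | h
  · exact h
  · exfalso
    rw [mem_support_iff_le_primeIdealOf E V x hxV, h] at hx
    exact (V.2.primeIdealOf ⟨x, hxV⟩).isPrime.ne_top (top_le_iff.mp hx)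

theorem stalkIdeal_isPrime (E : X.IdealSheafData) [IsIntegral E.subscheme] (x : X)
    (hx : x ∈ E.support) : (stalkIdeal E x).IsPrime := by
  obtain ⟨V, hxV⟩ := exists_affine x
  have hV : IsAffineOpen V.1 := V.2
  let _ : Algebra Γ(X, V.1) (X.presheaf.stalk x) := X.presheaf.algebra_section_stalk ⟨x, hxV⟩
  have hloc : IsLocalization.AtPrime (X.presheaf.stalk x) (hV.primeIdealOf ⟨x, hxV⟩).asIdeal :=
    hV.isLocalization_stalk ⟨x, hxV⟩
  have hP := ideal_isPrime_of_mem_support E V x hxV hx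
  rw [stalkIdeal_eq E V x hxV]
  apply IsLocalization.isPrime_of_isPrime_disjoint (hV.primeIdealOf ⟨x, hxV⟩).asIdeal.primeCompl
    (X.presheaf.stalk x) (E.ideal V) hP
  rw [Set.disjoint_left]
  intro r hr hrE
  exact hr ((mem_support_iff_le_primeIdealOf E V x hxV).mp hx hrE)

end Groth.Agent.Lib.Seat34.StalkIdeal
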