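import Mathlib

/-!
# Freeness of a finite module over a Noetherian local ring from freeness of its thickenings (seat 34)

Namespace `Groth.Agent.Lib.Seat34.ThickFreeAlg`.

* `nonempty_basis_of_thickenings`: let `S` be a Noetherian local ring, `N` a finite `S`-module and `r : ℕ`.
  If for every `n` there is a local `S`-algebra `C` (with local structure map) whose structure map has kernel
  inside `𝔪^(n+1)` and such that `C ⊗[S] N` has a basis indexed by `Fin r`, then `N` has a basis indexed by `Fin r`.
-/

set_option autoImplicit false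
universe u
open TensorProduct

namespace Groth.Agent.Lib.Seat34.ThickFreeAlg

section

variable {S : Type u} [CommRing S] [IsLocalRing S]

/-- the rank of the fibre of `N` at the closed point, computed after a local base change `S → C` -/
theorem finrank_residueField_tensor (N : Type u) [AddCommGroup N] [Module S N] (r : ℕ)
    (C : Type u) [CommRing C] [IsLocalRing C] [Algebra S C] [IsLocalHom (algebraMap S C)]
    (b : Module.Basis (Fin r) C (C ⊗[S] N)) :
    Module.finrank (IsLocalRing.ResidueField S) (IsLocalRing.ResidueField S ⊗[S] N) = r := by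
  let k := IsLocalRing.ResidueField S
  let k' := IsLocalRing.ResidueField C
  have e1 : k' ⊗[k] (k ⊗[S] N) ≃ₗ[k'] k' ⊗[S] N :=
    AlgebraTensorModule.cancelBaseChange S k k' k' N
  have e2 : k' ⊗[C] (C ⊗[S] N) ≃ₗ[k'] k' ⊗[S] N :=
    AlgebraTensorModule.cancelBaseChange S C k' k' N
  have h1 : Module.finrank k' (k' ⊗[k] (k ⊗[S] N)) = Module.finrank k (k ⊗[S] N) :=
    Module.finrank_baseChange
  have : Module.Free C (C ⊗[S] N) := Module.Free.of_basis b
  have h2 : Module.finrank k' (k' ⊗[C] (C ⊗[S] N)) = Module.finrank C (C ⊗[S] N) :=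
    Module.finrank_baseChange
  have h3 : Module.finrank C (C ⊗[S] N) = r := by
    rw [Module.finrank_eq_card_basis b, Fintype.card_fin]
  rw [← h1, e1.finrank_eq, ← e2.finrank_eq, h2, h3]

/-- a surjective linear map between two modules with bases indexed by the same finite type is injective -/
theorem injective_of_surjective_of_bases {C : Type u} [CommRing C] {P Q : Type u} [AddCommGroup P]
    [Module C P] [AddCommGroup Q] [Module C Q] {ι : Type} [Fintype ι] (bP : Module.Basis ι C P)
    (bQ : Module.Basis ι C Q) (ψ : P →ₗ[C] Q) (hψ : Function.Surjective ψ) : Function.Injective ψ := by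
  let g : (ι → C) →ₗ[C] (ι → C) :=
    bQ.equivFun.toLinearMap ∘ₗ ψ ∘ₗ bP.equivFun.symm.toLinearMap
  have hg : Function.Surjective g :=
    bQ.equivFun.surjective.comp (hψ.comp bP.equivFun.symm.surjective)
  have hgi : Function.Injective g := OrzechProperty.injective_of_surjective_endomorphism g hg
  intro a b hab
  have h1 : g (bP.equivFun a) = g (bP.equivFun b) := by
    simp only [g, LinearMap.comp_apply, LinearEquiv.coe_coe, LinearEquiv.symm_apply_apply, hab]
  exact bP.equivFun.injective (hgi h1)

theorem nonempty_basis_of_thickenings [IsNoetherianRing S]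
    (N : Type u) [AddCommGroup N] [Module S N] [Module.Finite S N] (r : ℕ)
    (h : ∀ n : ℕ, ∃ (C : Type u) (_ : CommRing C) (_ : IsLocalRing C) (_ : Algebra S C),
      IsLocalHom (algebraMap S C) ∧
      RingHom.ker (algebraMap S C) ≤ IsLocalRing.maximalIdeal S ^ (n + 1) ∧
      Nonempty (Module.Basis (Fin r) C (C ⊗[S] N))) :
    Nonempty (Module.Basis (Fin r) S N) := by
  classical
  let k := IsLocalRing.ResidueField S
  obtain ⟨C₀, _, _, _, hloc₀, -, ⟨b₀⟩⟩ := h 0
  have hrk : Module.finrank k (k ⊗[S] N) = r := finrank_residueField_tensor N r C₀ b₀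
  let bk : Module.Basis (Fin r) k (k ⊗[S] N) := Module.finBasisOfFinrankEq k _ hrk
  have hsurj : Function.Surjective (TensorProduct.mk S k N 1) :=
    TensorProduct.mk_surjective S N k IsLocalRing.residue_surjective
  choose f hf using fun i => hsurj (bk i)
  have hspan : Submodule.span S (Set.range f) = ⊤ :=
    IsLocalRing.span_eq_top_of_tmul_eq_basis f bk hf
  let φ : (Fin r → S) →ₗ[S] N := Fintype.linearCombination S f
  have hφsurj : Function.Surjective φ := by
    rw [← LinearMap.range_eq_top, Fintype.range_linearCombination, hspan]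
  have hbot : (⨅ n : ℕ, IsLocalRing.maximalIdeal S ^ n : Ideal S) = ⊥ :=
    Ideal.iInf_pow_eq_bot_of_isLocalRing _ (IsLocalRing.maximalIdeal.isMaximal S).ne_top
  have hφinj : Function.Injective φ := by
    rw [injective_iff_map_eq_zero]
    intro v hv
    have hv' : ∀ i, v i ∈ (⨅ n : ℕ, IsLocalRing.maximalIdeal S ^ n : Ideal S) := by
      intro i
      rw [Ideal.mem_iInf]
      intro n
      obtain ⟨C, _, _, _, hloc, hker, ⟨b⟩⟩ := h n
      refine Ideal.pow_le_pow_right (Nat.le_succ n) (hker ?_)
      rw [RingHom.mem_ker]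
      let ψ : C ⊗[S] (Fin r → S) →ₗ[C] C ⊗[S] N := φ.baseChange C
      have hψsurj : Function.Surjective ψ := LinearMap.lTensor_surjective C hφsurj
      let b1 : Module.Basis (Fin r) C (C ⊗[S] (Fin r → S)) := (Pi.basisFun S (Fin r)).baseChange C
      have hψinj : Function.Injective ψ := injective_of_surjective_of_bases b1 b ψ hψsurj
      have h0 : (1 : C) ⊗ₜ[S] v = 0 := by
        apply hψinj
        rw [map_zero]
        show (φ.baseChange C) ((1 : C) ⊗ₜ[S] v) = 0
        rw [LinearMap.baseChange_tmul, hv, tmul_zero]
      have h1 := congrArg (fun t => b1.repr t i) h0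
      simp only [b1, Module.Basis.baseChange_repr_tmul, Pi.basisFun_repr, map_zero,
        Finsupp.coe_zero, Pi.zero_apply] at h1
      rw [Algebra.algebraMap_eq_smul_one]
      exact h1
    funext i
    have := hv' i
    rw [hbot] at this
    exact this
  exact ⟨Module.Basis.ofEquivFun (LinearEquiv.ofBijective φ ⟨hφinj, hφsurj⟩).symm⟩

end

end Groth.Agent.Lib.Seat34.ThickFreeAlg
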