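import Mathlib
import Groth.Prelude.Def_FSch3
import Groth.Prelude.Def_FlatMod2
import Groth.Prelude.Def_Coh
import Groth.Agent.Lib.Helper1Sky3
import Groth.Agent.Lib.Seat8SubStalk
import Groth.Agent.Lib.Helper2LocFree
import Groth.Agent.Lib.Helper2RankLoc
import Groth.Agent.Lib.Helper2FibreCrit2
import Groth.Agent.Lib.Helper23FinPres
import Groth.Agent.Lib.Seat34ThickFreeAlg
set_option backward.isDefEq.respectTransparency.types false

/-!
# Local freeness of a coherent module from local freeness of its infinitesimal thickenings (seat 34)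

Namespace `Groth.Agent.Lib.Seat34.ThickFree`.

* `exists_basis_stalk`: stalks of a finite locally free module of rank `n` have a basis indexed by `Fin n`.
* `stalkPullbackEquiv`: `(f^*E)_x ≃ O_{X,x} ⊗ E_{f x}`.
* `nonempty_basis_stalk_of_thickenings`: `X` locally Noetherian, `F` coherent, `x` in the support of `𝓘`;
  if all `F|_{V(𝓘^(n+1))}` are locally free of rank `r`, then `F_x` is free of rank `r`.
* `exists_restrict_iso_freeMod_of_basis_stalk`: a coherent module on a locally Noetherian scheme with `F_x` free of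
  rank `r` is free of rank `r` near `x`.
* `isFinLocFreeOfRank_of_thickenings`: EGA III 5.1-type statement over a complete base.
-/

set_option autoImplicit false
set_option linter.style.haveILetI false
universe u
open CategoryTheory CategoryTheory.Limits AlgebraicGeometry TopologicalSpace Opposite TensorProduct

namespace Groth.Agent.Lib.Seat34.ThickFree

open Groth.Agent.Lib.Helper1.StalkTensor Groth.Agent.Lib.Helper1.Sky
open Groth.Agent.Lib.Helper2.RankLoc Groth.Agent.Lib.Helper2.LocFree Groth.Agent.Lib.Helper2.FibreCrit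

variable {X Y : Scheme.{u}}

theorem isFinLocFree_of_rank {n : ℕ} {E : X.Modules} (hE : FlatMod.IsFinLocFreeOfRank n E) :
    FlatMod.IsFinLocFree E := fun x => by
  obtain ⟨U, hx, h⟩ := hE x
  exact ⟨U, n, hx, h⟩

/-- the stalks of a finite locally free module of rank `n` have a basis indexed by `Fin n` -/
theorem exists_basis_stalk {n : ℕ} (E : X.Modules) (hE : FlatMod.IsFinLocFreeOfRank n E) (z : X) :
    Nonempty (Module.Basis (Fin n) (X.presheaf.stalk z) (E.presheaf.stalk z)) := by
  haveI hfp : SheafOfModules.IsFinitePresentation (R := X.ringCatSheaf) E :=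
    isFP_of_isFinLocFree E (isFinLocFree_of_rank hE)
  haveI : E.IsQuasicoherent := inferInstance
  haveI : SheafOfModules.IsFiniteType (R := X.ringCatSheaf) E := inferInstance
  obtain ⟨U, hzU, ⟨e⟩⟩ := hE z
  obtain ⟨hfree, hrk⟩ := fibreRank_eq_of_restrict_iso_freeMod U.ι E e ⟨z, hzU⟩
  haveI : Module.Free (X.presheaf.stalk z) (E.presheaf.stalk z) := hfree
  haveI : Module.Finite (X.presheaf.stalk z) (E.presheaf.stalk z) := finite_stalk E z
  have h1 : Module.finrank (X.presheaf.stalk z) (E.presheaf.stalk z) = n :=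
    (Module.finrank_baseChange (R := IsLocalRing.ResidueField (X.presheaf.stalk z))
      (S := X.presheaf.stalk z) (M' := E.presheaf.stalk z)).symm.trans hrk
  exact ⟨Module.finBasisOfFinrankEq _ _ h1⟩

/-- The stalk of a pullback. -/
noncomputable def stalkPullbackEquiv (f : X ⟶ Y) (E : Y.Modules) (x : X) :
    letI : Algebra (Y.presheaf.stalk (f x)) (X.presheaf.stalk x) := (f.stalkMap x).hom.toAlgebra
    ((Scheme.Modules.pullback f).obj E).presheaf.stalk x ≃ₗ[X.presheaf.stalk x]
      (X.presheaf.stalk x) ⊗[Y.presheaf.stalk (f x)] (E.presheaf.stalk (f x)) :=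
  letI : Algebra (Y.presheaf.stalk (f x)) (X.presheaf.stalk x) := (f.stalkMap x).hom.toAlgebra
  ((stalkPullbackIso f x).app E).toLinearEquiv

/-- the data needed by the algebra lemma, at the image of a point of the `n`-th thickening -/
theorem thick_data (𝓘 : X.IdealSheafData) (F : X.Modules) (r n : ℕ)
    (h : FlatMod.IsFinLocFreeOfRank r ((Scheme.Modules.pullback (𝓘 ^ (n + 1)).subschemeι).obj F))
    (y : (𝓘 ^ (n + 1)).subscheme) :
    ∃ (C : Type u) (_ : CommRing C) (_ : IsLocalRing C)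
      (_ : Algebra (X.presheaf.stalk ((𝓘 ^ (n + 1)).subschemeι y)) C),
      IsLocalHom (algebraMap (X.presheaf.stalk ((𝓘 ^ (n + 1)).subschemeι y)) C) ∧
      RingHom.ker (algebraMap (X.presheaf.stalk ((𝓘 ^ (n + 1)).subschemeι y)) C) ≤
        IsLocalRing.maximalIdeal (X.presheaf.stalk ((𝓘 ^ (n + 1)).subschemeι y)) ^ (n + 1) ∧
      Nonempty (Module.Basis (Fin r) C
        (C ⊗[X.presheaf.stalk ((𝓘 ^ (n + 1)).subschemeι y)]
          (F.presheaf.stalk ((𝓘 ^ (n + 1)).subschemeι y)))) := by
  letI alg : Algebra (X.presheaf.stalk ((𝓘 ^ (n + 1)).subschemeι y))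
      ((𝓘 ^ (n + 1)).subscheme.presheaf.stalk y) :=
    ((𝓘 ^ (n + 1)).subschemeι.stalkMap y).hom.toAlgebra
  refine ⟨(𝓘 ^ (n + 1)).subscheme.presheaf.stalk y, inferInstance, inferInstance, alg, ?_, ?_, ?_⟩
  · exact inferInstanceAs (IsLocalHom ((𝓘 ^ (n + 1)).subschemeι.stalkMap y).hom)
  · obtain ⟨U, hU, hxU⟩ : ∃ U : X.Opens, IsAffineOpen U ∧ (𝓘 ^ (n + 1)).subschemeι y ∈ U := by
      obtain ⟨_, ⟨U, hU, rfl⟩, hxU, -⟩ :=
        X.isBasis_affineOpens.exists_subset_of_mem_open
          (Set.mem_univ ((𝓘 ^ (n + 1)).subschemeι y)) isOpen_univ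
      exact ⟨U, hU, hxU⟩
    have hk := Groth.Agent.Lib.Seat8.SubStalk.ker_stalkMap_subschemeι (𝓘 ^ (n + 1)) y ⟨U, hU⟩ hxU
    have hk' : RingHom.ker ((𝓘 ^ (n + 1)).subschemeι.stalkMap y).hom =
        ((𝓘.ideal ⟨U, hU⟩).map (X.presheaf.germ U _ hxU).hom) ^ (n + 1) := by
      rw [hk, Scheme.IdealSheafData.ideal_pow, Pi.pow_apply, Ideal.map_pow]
    change RingHom.ker ((𝓘 ^ (n + 1)).subschemeι.stalkMap y).hom ≤ _
    rw [hk']
    have hne : ((𝓘.ideal ⟨U, hU⟩).map (X.presheaf.germ U _ hxU).hom) ≠ ⊤ := by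
      intro htop
      have h2 : RingHom.ker ((𝓘 ^ (n + 1)).subschemeι.stalkMap y).hom = ⊤ := by
        rw [hk', htop, Ideal.top_pow]
      exact RingHom.ker_ne_top _ h2
    exact Ideal.pow_right_mono (IsLocalRing.le_maximalIdeal hne) _
  · obtain ⟨b⟩ := exists_basis_stalk _ h y
    exact ⟨b.map (stalkPullbackEquiv (𝓘 ^ (n + 1)).subschemeι F y)⟩

/-- `X` locally Noetherian, `F` coherent, `x` in the support of `𝓘`; if all `F|_{V(𝓘^(n+1))}` are locally free of
rank `r`, then `F_x` is free of rank `r`. -/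
theorem nonempty_basis_stalk_of_thickenings [IsLocallyNoetherian X] (𝓘 : X.IdealSheafData)
    (F : X.Modules) (hF : Coh.IsCoh F) (r : ℕ)
    (h : ∀ n : ℕ, FlatMod.IsFinLocFreeOfRank r
      ((Scheme.Modules.pullback (𝓘 ^ (n + 1)).subschemeι).obj F))
    (x : X) (hx : x ∈ 𝓘.support) :
    Nonempty (Module.Basis (Fin r) (X.presheaf.stalk x) (F.presheaf.stalk x)) := by
  haveI := hF.1
  haveI := hF.2
  haveI : Module.Finite (X.presheaf.stalk x) (F.presheaf.stalk x) := finite_stalk F x
  refine Groth.Agent.Lib.Seat34.ThickFreeAlg.nonempty_basis_of_thickenings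
    (F.presheaf.stalk x) r (fun n => ?_)
  have hx' : x ∈ Set.range (𝓘 ^ (n + 1)).subschemeι := by
    rw [Scheme.IdealSheafData.range_subschemeι, Scheme.IdealSheafData.support_pow_succ]
    exact hx
  obtain ⟨y, hy⟩ := hx'
  have := thick_data 𝓘 F r n (h n) y
  rw [hy] at this
  exact this

/-- a coherent module on a locally Noetherian scheme whose stalk at `x` is free of rank `r` is free of rank `r`
near `x`. -/
theorem exists_restrict_iso_freeMod_of_basis_stalk [IsLocallyNoetherian X] (F : X.Modules)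
    (hF : Coh.IsCoh F) (r : ℕ) (x : X)
    (b : Module.Basis (Fin r) (X.presheaf.stalk x) (F.presheaf.stalk x)) :
    ∃ D : X.Opens, x ∈ D ∧ Nonempty (F.restrict D.ι ≅ FlatMod.freeMod (D : Scheme.{u}) r) := by
  haveI := hF.1
  haveI := hF.2
  haveI : SheafOfModules.IsFinitePresentation (R := X.ringCatSheaf) F :=
    Groth.Agent.Lib.Helper23.FinType.isFinitePresentation_of_isFiniteType F
  haveI : Module.Free (X.presheaf.stalk x) (F.presheaf.stalk x) := Module.Free.of_basis b
  have hflat : FlatMod.IsFlatAt F x := by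
    unfold FlatMod.IsFlatAt
    infer_instance
  obtain ⟨D, m, hxD, ⟨e⟩⟩ := exists_restrict_iso_freeMod_of_isFlatAt F x hflat
  obtain ⟨-, hrk⟩ := fibreRank_eq_of_restrict_iso_freeMod D.ι F e ⟨x, hxD⟩
  have h1 : fibreRank F x = r := by
    unfold fibreRank
    rw [Module.finrank_baseChange, Module.finrank_eq_card_basis b, Fintype.card_fin]
  have hmr : m = r := hrk.symm.trans h1
  subst hmr
  exact ⟨D, hxD, ⟨e⟩⟩

/-- a nonempty closed subset of `Spec A` meets `V(I)` when `I` is contained in the Jacobson radical -/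
theorem exists_mem_zeroLocus_of_isClosed {A : Type u} [CommRing A] (I : Ideal A)
    (hI : I ≤ (⊥ : Ideal A).jacobson) (T : Set (PrimeSpectrum A)) (hT : IsClosed T)
    (hne : T.Nonempty) : ∃ p ∈ T, p ∈ PrimeSpectrum.zeroLocus (I : Set A) := by
  have hT' : T = PrimeSpectrum.zeroLocus (PrimeSpectrum.vanishingIdeal T : Set A) := by
    rw [PrimeSpectrum.zeroLocus_vanishingIdeal_eq_closure, hT.closure_eq]
  have hne_top : PrimeSpectrum.vanishingIdeal T ≠ ⊤ := by
    intro htop
    rw [htop] at hT'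
    rw [hT'] at hne
    simp at hne
  obtain ⟨m, hm, hle⟩ := Ideal.exists_le_maximal _ hne_top
  refine ⟨⟨m, hm.isPrime⟩, ?_, ?_⟩
  · rw [hT', PrimeSpectrum.mem_zeroLocus]
    exact hle
  · rw [PrimeSpectrum.mem_zeroLocus]
    exact hI.trans (sInf_le ⟨bot_le, hm⟩)

/-- the support of the ideal sheaf of `I` on `Spec A` contains `V(I)` -/
theorem mem_support_idealSpec {A : Type u} [CommRing A] (I : Ideal A)
    (p : ↥(Spec (CommRingCat.of A)))
    (hp : p ∈ (PrimeSpectrum.zeroLocus (I : Set A) : Set (PrimeSpectrum A))) :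
    p ∈ (FSch.idealSpec A I).support := by
  unfold FSch.idealSpec
  rw [← SetLike.mem_coe, Scheme.Hom.support_ker]
  apply subset_closure
  have h1 := _root_.range_comap_of_surjective (A ⧸ I) (Ideal.Quotient.mk I)
    Ideal.Quotient.mk_surjective
  rw [Ideal.mk_ker] at h1
  rw [← h1] at hp
  obtain ⟨q, rfl⟩ := hp
  exact ⟨q, rfl⟩

/-- **EGA III 5.1-type statement**: over an `I`-adically complete Noetherian ring, a coherent module on a proper
scheme whose restrictions to all infinitesimal neighbourhoods of the closed fibre are locally free of rank `r` is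
locally free of rank `r`. -/
theorem isFinLocFreeOfRank_of_thickenings (A : Type u) [CommRing A] [IsNoetherianRing A]
    (I : Ideal A) [IsAdicComplete I A] (X : Scheme.{u}) (f : X ⟶ Spec (CommRingCat.of A)) [IsProper f]
    (F : X.Modules) (hF : Coh.IsCoh F) (r : ℕ)
    (h : ∀ n : ℕ, FlatMod.IsFinLocFreeOfRank r
      ((Scheme.Modules.pullback (FSch.completionToX X ((FSch.idealSpec A I).comap f) n)).obj F)) :
    FlatMod.IsFinLocFreeOfRank r F := by
  haveI : IsLocallyNoetherian X := LocallyOfFiniteType.isLocallyNoetherian f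
  let W : Set X := {x | ∃ D : X.Opens, x ∈ D ∧
    Nonempty (F.restrict D.ι ≅ FlatMod.freeMod (D : Scheme.{u}) r)}
  have hWopen : IsOpen W := by
    rw [isOpen_iff_forall_mem_open]
    rintro x ⟨D, hxD, hD⟩
    exact ⟨D, fun y hy => ⟨D, hy, hD⟩, D.isOpen, hxD⟩
  have hZW : ∀ x, x ∈ ((FSch.idealSpec A I).comap f).support → x ∈ W := by
    intro x hx
    obtain ⟨b⟩ := nonempty_basis_stalk_of_thickenings ((FSch.idealSpec A I).comap f) F hF r h x hx
    exact exists_restrict_iso_freeMod_of_basis_stalk F hF r x b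
  suffices hW : ∀ x, x ∈ W from fun x => hW x
  by_contra hne
  push Not at hne
  obtain ⟨x₀, hx₀⟩ := hne
  have hclosed : IsClosed (f '' Wᶜ) := f.isClosedMap _ hWopen.isClosed_compl
  obtain ⟨p, ⟨x₁, hx₁, hfx₁⟩, hpI⟩ := exists_mem_zeroLocus_of_isClosed I
    (IsAdicComplete.le_jacobson_bot I) (f '' Wᶜ) hclosed ⟨f x₀, x₀, hx₀, rfl⟩
  apply hx₁
  apply hZW
  rw [Scheme.IdealSheafData.support_comap]
  show f x₁ ∈ (FSch.idealSpec A I).support
  rw [hfx₁]
  exact mem_support_idealSpec I p hpI

end Groth.Agent.Lib.Seat34.ThickFree
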