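import Mathlib
import Groth.Prelude.Def_NonAbH2
import Groth.Agent.Lib.Seat34Hartogs
import Groth.Agent.Lib.Seat30RegFibreSeq
import Groth.Agent.Lib.Helper12Torsor

/-!
# Restriction of torsors under finite locally free groups is fully faithful across
regular points of codimension ≥ 2 (helper34)
-/

set_option autoImplicit false
universe u

namespace Groth.Agent.Lib.Seat34.TorsorFF

open AlgebraicGeometry CategoryTheory CategoryTheory.Limits

section Alg

open IsLocalRing

/-- A regular local ring of dimension at least two has a weakly regular pair in its maximal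
ideal. -/
theorem exists_pair_of_isRegularLocalRing (R : Type u) [CommRing R] [IsRegularLocalRing R]
    (h2 : (2 : WithBot ℕ∞) ≤ ringKrullDim R) :
    ∃ a b : R, a ∈ maximalIdeal R ∧ b ∈ maximalIdeal R ∧
      RingTheory.Sequence.IsWeaklyRegular R [a, b] := by
  obtain ⟨d, hd⟩ := Groth.Agent.Lib.Helper5.exists_nat_ringKrullDim_eq R
  have hd2 : 2 ≤ d := by
    rw [hd] at h2
    exact_mod_cast h2
  let e : R ≃+* R ⧸ (⊥ : Ideal R) := (RingEquiv.quotientBot R).symm
  have : IsRegularLocalRing (R ⧸ (⊥ : Ideal R)) := IsRegularLocalRing.of_ringEquiv e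
  have hd' : ringKrullDim (R ⧸ (⊥ : Ideal R)) = d := by
    rw [← hd]
    exact (ringKrullDim_eq_of_ringEquiv e).symm
  obtain ⟨ys, hlen, hreg, ⟨φ⟩⟩ :=
    Groth.Agent.Lib.Seat30.RegFibreSeq.exists_regular_lift (⊥ : Ideal R) d hd'
  match ys, hlen with
  | [], hlen => simp at hlen; omega
  | [_], hlen => simp at hlen; omega
  | a :: b :: rest, hlen =>
    have hmem : ∀ c ∈ Ideal.ofList (a :: b :: rest), c ∈ maximalIdeal R := by
      intro c hc
      have h1 : c • (Submodule.Quotient.mk (1 : R ⧸ (⊥ : Ideal R)) :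
          (R ⧸ (⊥ : Ideal R)) ⧸ (Ideal.ofList (a :: b :: rest) • ⊤ :
            Submodule R (R ⧸ (⊥ : Ideal R)))) = 0 := by
        rw [← Submodule.Quotient.mk_smul, Submodule.Quotient.mk_eq_zero]
        exact Submodule.smul_mem_smul hc Submodule.mem_top
      have h2 : c • φ (Submodule.Quotient.mk (1 : R ⧸ (⊥ : Ideal R))) = 0 := by
        rw [← map_smul, h1, map_zero]
      have h3 : ∀ y : R ⧸ maximalIdeal R, c • y = 0 := by
        intro y
        obtain ⟨y', rfl⟩ := φ.surjective y
        obtain ⟨y'', rfl⟩ := Submodule.Quotient.mk_surjective _ y'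
        obtain ⟨r, rfl⟩ := Ideal.Quotient.mk_surjective y''
        have : (Submodule.Quotient.mk (Ideal.Quotient.mk (⊥ : Ideal R) r) :
          (R ⧸ (⊥ : Ideal R)) ⧸ (Ideal.ofList (a :: b :: rest) • ⊤ :
            Submodule R (R ⧸ (⊥ : Ideal R)))) =
            r • Submodule.Quotient.mk (1 : R ⧸ (⊥ : Ideal R)) := by
          rw [← Submodule.Quotient.mk_smul]
          congr 1
          rw [Algebra.smul_def, mul_one]
          rfl
        rw [this, map_smul, smul_comm, h2, smul_zero]
      have h4 := h3 (Ideal.Quotient.mk _ 1)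
      rw [← Ideal.Quotient.mk_eq_mk, ← Submodule.Quotient.mk_smul, Ideal.Quotient.mk_eq_mk,
        Ideal.Quotient.eq_zero_iff_mem, smul_eq_mul, mul_one] at h4
      exact h4
    have hR : RingTheory.Sequence.IsWeaklyRegular R (a :: b :: rest) :=
      ((Submodule.quotEquivOfEqBot (⊥ : Submodule R R) rfl).isWeaklyRegular_congr _).mp hreg
    rw [RingTheory.Sequence.isWeaklyRegular_cons_iff] at hR
    obtain ⟨ha, hR⟩ := hR
    rw [RingTheory.Sequence.isWeaklyRegular_cons_iff] at hR
    obtain ⟨hb, -⟩ := hR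
    refine ⟨a, b, hmem a (Ideal.subset_span (by simp)), hmem b (Ideal.subset_span (by simp)), ?_⟩
    rw [RingTheory.Sequence.isWeaklyRegular_cons_iff]
    refine ⟨ha, ?_⟩
    rw [RingTheory.Sequence.isWeaklyRegular_cons_iff]
    exact ⟨hb, RingTheory.Sequence.IsWeaklyRegular.nil _ _⟩

end Alg

section Depth

/-- Transfer of a weakly regular pair along a flat morphism. -/
theorem exists_pair_of_flat {Q X : Scheme.{u}} (π : Q ⟶ X) [Flat π] (q : Q)
    (h : ∃ a b : X.presheaf.stalk (π q),
      a ∈ IsLocalRing.maximalIdeal (X.presheaf.stalk (π q)) ∧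
      b ∈ IsLocalRing.maximalIdeal (X.presheaf.stalk (π q)) ∧
      RingTheory.Sequence.IsWeaklyRegular (X.presheaf.stalk (π q)) [a, b]) :
    ∃ a b : Q.presheaf.stalk q,
      a ∈ IsLocalRing.maximalIdeal (Q.presheaf.stalk q) ∧
      b ∈ IsLocalRing.maximalIdeal (Q.presheaf.stalk q) ∧
      RingTheory.Sequence.IsWeaklyRegular (Q.presheaf.stalk q) [a, b] := by
  obtain ⟨a, b, ha, hb, hab⟩ := h
  have hflat := Flat.stalkMap π q
  algebraize [(π.stalkMap q).hom]
  have h1 := RingTheory.Sequence.IsWeaklyRegular.of_flat (S := Q.presheaf.stalk q) hab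
  refine ⟨(π.stalkMap q).hom a, (π.stalkMap q).hom b,
    _root_.map_nonunit _ a ha, _root_.map_nonunit _ b hb, ?_⟩
  exact h1

end Depth

section Dominant

/-- Two morphisms over `X` into a separated `X`-scheme which agree on a scheme-theoretically
dominant source are equal. -/
theorem hom_ext_of_dominant {P Q X : Scheme.{u}} (p : P ⟶ X) (q : Q ⟶ X) [IsSeparated q]
    (α β : P ⟶ Q) (hα : α ≫ q = p) (hβ : β ≫ q = p) {P' : Scheme.{u}} (j : P' ⟶ P)
    [IsSchemeTheoreticallyDominant j] (h : j ≫ α = j ≫ β) : α = β := by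
  let X' : Over X := Over.mk p
  let Y' : Over X := Over.mk q
  let f' : X' ⟶ Y' := Over.homMk α hα
  let g' : X' ⟶ Y' := Over.homMk β hβ
  let U' : Over X := Over.mk (j ≫ p)
  let ι' : U' ⟶ X' := Over.homMk j rfl
  have : IsSeparated Y'.hom := ‹_›
  have hE : IsClosedImmersion (equalizer.ι f' g').left := inferInstance
  have hfac : (equalizer.lift ι' (by ext1; exact h : ι' ≫ f' = ι' ≫ g')).left ≫
      (equalizer.ι f' g').left = j := by
    rw [← Over.comp_left, equalizer.lift_ι]
    rfl
  have hker : (equalizer.ι f' g').left.ker = ⊥ := by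
    have h1 := Scheme.Hom.le_ker_comp
      (equalizer.lift ι' (by ext1; exact h : ι' ≫ f' = ι' ≫ g')).left (equalizer.ι f' g').left
    rw [hfac, j.ker_eq_bot] at h1
    exact le_bot_iff.1 h1
  have hiso : IsIso (equalizer.ι f' g').left := IsClosedImmersion.isIso_iff_ker_eq_bot.2 hker
  rw [← cancel_epi (equalizer.ι f' g').left]
  exact congr($(equalizer.condition f' g').left)

end Dominant

section Main

variable {X : Scheme.{u}} (U : X.Opens) [QuasiCompact U.ι]

/-- The preimage of `U` in a flat `X`-scheme inherits the hypotheses. -/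
theorem quasiCompact_preimage_ι {Q : Scheme.{u}} (π : Q ⟶ X) : QuasiCompact (π ⁻¹ᵁ U).ι :=
  MorphismProperty.of_isPullback (P := @QuasiCompact) (isPullback_morphismRestrict π U)
    inferInstance

omit [QuasiCompact U.ι] in
theorem pair_preimage
    (hZ : ∀ z : X, z ∉ U → ∃ a b : X.presheaf.stalk z,
      a ∈ IsLocalRing.maximalIdeal (X.presheaf.stalk z) ∧
      b ∈ IsLocalRing.maximalIdeal (X.presheaf.stalk z) ∧
      RingTheory.Sequence.IsWeaklyRegular (X.presheaf.stalk z) [a, b])
    {Q : Scheme.{u}} (π : Q ⟶ X) [Flat π] :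
    ∀ q : Q, q ∉ π ⁻¹ᵁ U → ∃ a b : Q.presheaf.stalk q,
      a ∈ IsLocalRing.maximalIdeal (Q.presheaf.stalk q) ∧
      b ∈ IsLocalRing.maximalIdeal (Q.presheaf.stalk q) ∧
      RingTheory.Sequence.IsWeaklyRegular (Q.presheaf.stalk q) [a, b] :=
  fun q hq => exists_pair_of_flat π q (hZ (π q) hq)

omit [QuasiCompact U.ι] in
theorem pullback_map_left_fst {A B : Over X} (γ : A ⟶ B) :
    ((Over.pullback U.ι).map γ).left ≫ pullback.fst B.hom U.ι =
      pullback.fst A.hom U.ι ≫ γ.left :=
  pullback.lift_fst _ _ _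

omit [QuasiCompact U.ι] in
theorem pullback_map_left_snd {A B : Over X} (γ : A ⟶ B) :
    ((Over.pullback U.ι).map γ).left ≫ pullback.snd B.hom U.ι = pullback.snd A.hom U.ι :=
  pullback.lift_snd _ _ _

/-- Base change to `U` is faithful on morphisms from a flat `X`-scheme to a separated one. -/
theorem pullback_map_injective
    (hZ : ∀ z : X, z ∉ U → ∃ a b : X.presheaf.stalk z,
      a ∈ IsLocalRing.maximalIdeal (X.presheaf.stalk z) ∧
      b ∈ IsLocalRing.maximalIdeal (X.presheaf.stalk z) ∧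
      RingTheory.Sequence.IsWeaklyRegular (X.presheaf.stalk z) [a, b])
    {A B : Over X} [Flat A.hom] [IsSeparated B.hom] (α β : A ⟶ B)
    (h : (Over.pullback U.ι).map α = (Over.pullback U.ι).map β) : α = β := by
  have hqc : QuasiCompact (A.hom ⁻¹ᵁ U).ι := quasiCompact_preimage_ι U A.hom
  have hdom : IsSchemeTheoreticallyDominant (A.hom ⁻¹ᵁ U).ι :=
    Groth.Agent.S14271.isSchemeTheoreticallyDominant_of_regular A.left (A.hom ⁻¹ᵁ U)
      (Groth.Agent.Lib.Seat34.Hartogs.regular_of_pair _ (pair_preimage U hZ A.hom))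
  have h1 : pullback.fst A.hom U.ι ≫ α.left = pullback.fst A.hom U.ι ≫ β.left := by
    rw [← pullback_map_left_fst, ← pullback_map_left_fst, h]
  have h3 : (A.hom ⁻¹ᵁ U).ι ≫ α.left = (A.hom ⁻¹ᵁ U).ι ≫ β.left := by
    rw [← pullbackRestrictIsoRestrict_inv_fst A.hom U, Category.assoc, Category.assoc, h1]
  ext1
  exact hom_ext_of_dominant A.hom B.hom α.left β.left (Over.w α) (Over.w β) (A.hom ⁻¹ᵁ U).ι h3

/-- Existence of an extension of a `U`-morphism between a flat and an affine `X`-scheme. -/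
theorem exists_pullback_map_eq
    (hZ : ∀ z : X, z ∉ U → ∃ a b : X.presheaf.stalk z,
      a ∈ IsLocalRing.maximalIdeal (X.presheaf.stalk z) ∧
      b ∈ IsLocalRing.maximalIdeal (X.presheaf.stalk z) ∧
      RingTheory.Sequence.IsWeaklyRegular (X.presheaf.stalk z) [a, b])
    {A B : Over X} [Flat A.hom] [IsAffineHom B.hom]
    (h' : (Over.pullback U.ι).obj A ⟶ (Over.pullback U.ι).obj B) :
    ∃ h : A ⟶ B, (Over.pullback U.ι).map h = h' := by
  have hqc : QuasiCompact (A.hom ⁻¹ᵁ U).ι := quasiCompact_preimage_ι U A.hom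
  have hcond : (A.hom ⁻¹ᵁ U).ι ≫ A.hom =
      ((pullbackRestrictIsoRestrict A.hom U).inv ≫ h'.left ≫ pullback.fst B.hom U.ι) ≫ B.hom := by
    have hw : h'.left ≫ pullback.snd B.hom U.ι = pullback.snd A.hom U.ι := Over.w h'
    rw [Category.assoc, Category.assoc, pullback.condition, reassoc_of% hw, ← pullback.condition,
      pullbackRestrictIsoRestrict_inv_fst_assoc]
  have haff : IsAffineHom (pullback.fst A.hom B.hom) :=
    MorphismProperty.pullback_fst (P := @IsAffineHom) _ _ inferInstance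
  obtain ⟨s, hs1, hs2⟩ := Groth.Agent.Lib.Seat34.Hartogs.exists_extension (A.hom ⁻¹ᵁ U)
    (pair_preimage U hZ A.hom) (pullback.fst A.hom B.hom)
    (pullback.lift (A.hom ⁻¹ᵁ U).ι
      ((pullbackRestrictIsoRestrict A.hom U).inv ≫ h'.left ≫ pullback.fst B.hom U.ι) hcond)
    (pullback.lift_fst _ _ _)
  have hw : (s ≫ pullback.snd A.hom B.hom) ≫ B.hom = A.hom := by
    rw [Category.assoc, ← pullback.condition, reassoc_of% hs1]
  refine ⟨Over.homMk (s ≫ pullback.snd A.hom B.hom) hw, ?_⟩
  ext1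
  apply pullback.hom_ext
  · have h1 : ((Over.pullback U.ι).map (Over.homMk (s ≫ pullback.snd A.hom B.hom) hw)).left ≫
        pullback.fst B.hom U.ι = pullback.fst A.hom U.ι ≫ s ≫ pullback.snd A.hom B.hom :=
      pullback_map_left_fst U _
    rw [h1, ← pullbackRestrictIsoRestrict_hom_ι A.hom U, Category.assoc, reassoc_of% hs2,
      pullback.lift_snd, Iso.hom_inv_id_assoc]
  · have h1 : ((Over.pullback U.ι).map (Over.homMk (s ≫ pullback.snd A.hom B.hom) hw)).left ≫
        pullback.snd B.hom U.ι = pullback.snd A.hom U.ι :=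
      pullback_map_left_snd U _
    rw [h1]
    exact (Over.w h').symm

end Main

section Torsor

open MonoidalCategory CartesianMonoidalCategory MonObj

theorem isFinite_of_isTorsorFor {S : Scheme.{u}} {G Q : Over S} [GrpObj G] [IsFinite G.hom]
    (a : AlgGrp.Action G Q) (h : NonAbH1.IsTorsorFor Scheme.fppfPrecoverage a) :
    IsFinite Q.hom := by
  obtain ⟨hpt, R, hR, hsec⟩ := h
  exact Groth.Agent.Lib.Helper12.of_mem_fpqcPrecoverage (P := @IsFinite)
    Groth.Agent.Lib.Helper12.descendsAlong_isFinite Q.hom R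
    (Scheme.fppfPrecoverage_le_fpqcPrecoverage S hR)
    (fun Y' f hf => Groth.Agent.Lib.Helper12.pullback_snd_of_hasSectionOver
      (P := @IsFinite) a hpt inferInstance f (hsec f hf))

theorem flat_of_isTorsorFor {S : Scheme.{u}} {G Q : Over S} [GrpObj G] [Flat G.hom]
    (a : AlgGrp.Action G Q) (h : NonAbH1.IsTorsorFor Scheme.fppfPrecoverage a) :
    Flat Q.hom := by
  obtain ⟨hpt, R, hR, hsec⟩ := h
  exact Groth.Agent.Lib.Helper12.of_mem_fpqcPrecoverage (P := @Flat)
    Groth.Agent.Lib.Helper12.descendsAlong_flat Q.hom R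
    (Scheme.fppfPrecoverage_le_fpqcPrecoverage S hR)
    (fun Y' f hf => Groth.Agent.Lib.Helper12.pullback_snd_of_hasSectionOver
      (P := @Flat) a hpt inferInstance f (hsec f hf))

theorem flat_tensorObj_hom {S : Scheme.{u}} (G Q : Over S) [Flat G.hom] [Flat Q.hom] :
    Flat (G ⊗ Q).hom := by
  rw [Over.tensorObj_hom]
  infer_instance

end Torsor

end Groth.Agent.Lib.Seat34.TorsorFF
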