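import Groth.Agent.Lib.Seat68InjOpenB
import Groth.Agent.Lib.Helper20FinHom
import Groth.Agent.Lib.Seat48EffCartier

/-!
# Finite birational morphisms onto normal schemes, and effective Cartier ideals that agree locally
(helper34)
-/

set_option autoImplicit false
universe u

open CategoryTheory CategoryTheory.Limits AlgebraicGeometry TopologicalSpace

namespace Groth.Agent.Lib.Seat34.WeilSplit

open Groth.Agent.Lib.Seat48.EffCartier

section Birational

variable {X Y : Scheme.{u}} [IsIntegral X] [IsIntegral Y]

/-- the stalk at (a point equal to) the generic point of an integral scheme is a field -/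
theorem isField_stalk_of_eq_genericPoint (y : Y) (hy : y = genericPoint Y) :
    IsField (Y.presheaf.stalk y) := by
  have hb := Groth.Agent.Lib.Seat68.InjOpenB.bijective_algebraMap_stalk_functionField Y y hy
  exact MulEquiv.isField (Field.toIsField Y.functionField)
    (RingEquiv.ofBijective (algebraMap (Y.presheaf.stalk y) Y.functionField) hb).toMulEquiv

theorem residue_bijective_of_isField {R : Type u} [CommRing R] [IsLocalRing R] (h : IsField R) :
    Function.Bijective (IsLocalRing.residue R) := by
  refine ⟨?_, IsLocalRing.residue_surjective⟩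
  rw [injective_iff_map_eq_zero]
  intro a ha
  have h1 : a ∈ IsLocalRing.maximalIdeal R := by
    rwa [← IsLocalRing.ker_residue, RingHom.mem_ker]
  rw [IsLocalRing.isField_iff_maximalIdeal_eq.mp h] at h1
  exact h1

/-- residue degree one at the generic point gives a bijective stalk map there -/
theorem bijective_stalkMap_of_residueDegree_eq_one (g : X ⟶ Y) [IsDominant g]
    (hdeg : g.residueDegree (genericPoint X) = 1) :
    Function.Bijective (g.stalkMap (genericPoint X)).hom := by
  have hgη : g (genericPoint X) = genericPoint Y := Groth.Agent.Lib.Seat68.InjOpenB.map_genericPoint g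
  have hF1 : IsField (X.presheaf.stalk (genericPoint X)) := isField_stalk_of_eq_genericPoint _ rfl
  have hF2 : IsField (Y.presheaf.stalk (g (genericPoint X))) := isField_stalk_of_eq_genericPoint _ hgη
  have hr1 := residue_bijective_of_isField hF1
  have hr2 := residue_bijective_of_isField hF2
  -- the residue field map is bijective
  have hres : Function.Bijective (g.residueFieldMap (genericPoint X)).hom := by
    let _ := (g.residueFieldMap (genericPoint X)).hom.toAlgebra
    have hfin : Module.finrank (Y.residueField (g (genericPoint X))) (X.residueField (genericPoint X)) = 1 := hdeg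
    refine ⟨(g.residueFieldMap (genericPoint X)).hom.injective, ?_⟩
    have h2 := Subalgebra.bot_eq_top_of_finrank_eq_one hfin
    exact Algebra.surjective_algebraMap_iff.mpr h2.symm
  have hsq := Scheme.residue_residueFieldMap g (genericPoint X)
  have hcomp : ∀ a, (X.residue (genericPoint X)).hom ((g.stalkMap (genericPoint X)).hom a) =
      (g.residueFieldMap (genericPoint X)).hom ((Y.residue (g (genericPoint X))).hom a) := by
    intro a
    have := congrArg (fun φ => φ.hom a) hsq
    simpa using this.symm
  constructor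
  · intro a b hab
    apply hr2.1
    apply hres.1
    change (g.residueFieldMap (genericPoint X)).hom ((Y.residue (g (genericPoint X))).hom a) =
      (g.residueFieldMap (genericPoint X)).hom ((Y.residue (g (genericPoint X))).hom b)
    rw [← hcomp, ← hcomp, hab]
  · intro c
    obtain ⟨b, hb⟩ := hres.2 ((X.residue (genericPoint X)).hom c)
    obtain ⟨a, ha⟩ := hr2.2 b
    refine ⟨a, ?_⟩
    apply hr1.1
    change (X.residue (genericPoint X)).hom ((g.stalkMap (genericPoint X)).hom a) =
      (X.residue (genericPoint X)).hom c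
    rw [hcomp]
    change (g.residueFieldMap (genericPoint X)).hom (IsLocalRing.residue _ a) = _
    rw [ha, hb]

/-- an integral dominant morphism of integral schemes onto a normal scheme that is bijective on
function fields is an isomorphism -/
theorem isIso_of_isIntegralHom_of_bijective (hY : Pi1.IsNormalScheme Y) (g : X ⟶ Y)
    [IsDominant g] [IsIntegralHom g]
    (hgen : Function.Bijective (g.stalkMap (genericPoint X)).hom) : IsIso g := by
  have h1 : IsIso g.fromNormalization :=
    Groth.Agent.Lib.Seat68.InjOpenB.isIso_fromNormalization hY g hgen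
  have h2 : IsIso g.toNormalization := inferInstance
  rw [← g.toNormalization_fromNormalization]
  infer_instance

end Birational

section Cartier

variable {Y : Scheme.{u}}

/-- away from its support an ideal sheaf is trivially effective Cartier -/
theorem effAt_of_notMem_support (I : Y.IdealSheafData) (y : Y) (hy : y ∉ I.support) : EffAt I y := by
  obtain ⟨U, hU, hyU, -⟩ :=
    exists_isAffineOpen_mem_and_subset (x := y) (U := ⊤) (Opens.mem_top _)
  have h1 : y ∉ Y.zeroLocus (U := U) (I.ideal ⟨U, hU⟩) := fun h =>
    hy ((Scheme.IdealSheafData.mem_support_iff_of_mem (U := ⟨U, hU⟩) hyU).mpr h)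
  rw [Scheme.mem_zeroLocus_iff] at h1
  push Not at h1
  obtain ⟨s, hs, hys⟩ := h1
  refine ⟨Y.affineBasicOpen (U := ⟨U, hU⟩) s, hys, 1, one_mem _, ?_⟩
  rw [Ideal.span_singleton_one, ← I.map_ideal_basicOpen ⟨U, hU⟩ s]
  have hmem : (Y.presheaf.map (homOfLE (Y.basicOpen_le s)).op).hom s ∈
      (I.ideal ⟨U, hU⟩).map (Y.presheaf.map (homOfLE (Y.basicOpen_le s)).op).hom :=
    Ideal.mem_map_of_mem _ hs
  have hunit : IsUnit ((Y.presheaf.map (homOfLE (Y.basicOpen_le s)).op).hom s) :=
    RingedSpace.isUnit_res_basicOpen Y.toRingedSpace s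
  exact Ideal.eq_top_of_isUnit_mem _ hmem hunit

theorem ker_eq_of_eq_comp_iso {A B C : CommRingCat.{u}} (f : A ⟶ C) (g : A ⟶ B) (ψ : B ⟶ C)
    [IsIso ψ] (h : f = g ≫ ψ) : RingHom.ker f.hom = RingHom.ker g.hom := by
  rw [h, CommRingCat.hom_comp]
  exact RingHom.ker_comp_of_injective _ (ConcreteCategory.bijective_of_isIso ψ).1

theorem ker_eq_of_eq_comp_iso' {A B C : CommRingCat.{u}} (f : A ⟶ C) (g : A ⟶ B) (ψ : B ⟶ C)
    (h : f = g ≫ ψ) (hψ : IsIso ψ) : RingHom.ker f.hom = RingHom.ker g.hom :=
  ker_eq_of_eq_comp_iso f g ψ h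

/-- if the closed subscheme of `I` is an open subscheme of a closed subscheme `P` of `Y` which is
effective Cartier at a point of `V(I)`, then so is `I` -/
theorem effAt_of_isOpenImmersion (I : Y.IdealSheafData) {P : Scheme.{u}} (i : P ⟶ Y)
    [IsClosedImmersion i] (e : I.subscheme ⟶ P) [IsOpenImmersion e]
    (he : e ≫ i = I.subschemeι) (y' : I.subscheme) (h : EffAt i.ker (I.subschemeι y')) :
    EffAt I (I.subschemeι y') := by
  -- an open of `Y` cutting out the range of `e`
  obtain ⟨W', hW'o, hW'⟩ := i.isClosedEmbedding.isInducing.isOpen_iff.mp e.opensRange.2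
  let W : Y.Opens := ⟨W', hW'o⟩
  have hWe : i ⁻¹ᵁ W = e.opensRange := Opens.ext hW'
  have hyW : I.subschemeι y' ∈ W := by
    have h1 : e y' ∈ i ⁻¹ᵁ W := by
      rw [hWe]
      exact ⟨y', rfl⟩
    have h2 : i (e y') = I.subschemeι y' := by
      rw [← he]
      rfl
    rw [← h2]
    exact h1
  obtain ⟨U, hU, hyU, hUW, a, ha, hIa⟩ := h.exists_le W hyW
  refine ⟨⟨U, hU⟩, hyU, a, ha, ?_⟩
  rw [← hIa, Scheme.Hom.ker_apply, ← Scheme.IdealSheafData.ker_subschemeι_app]
  have hle : i ⁻¹ᵁ U ≤ e.opensRange := by
    rw [← hWe]
    exact fun x hx => hUW hx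
  have hiso : IsIso (e.app (i ⁻¹ᵁ U)) := Scheme.Hom.isIso_app e _ hle
  have happ0 := Scheme.Hom.congr_app he.symm U
  rw [Scheme.Hom.comp_app] at happ0
  have happ := happ0.trans (Category.assoc _ _ _)
  refine ker_eq_of_eq_comp_iso' _ _ _ happ ?_
  refine @IsIso.comp_isIso' _ _ _ _ _ _ _ hiso ?_
  exact Functor.map_isIso _ _

end Cartier

end Groth.Agent.Lib.Seat34.WeilSplit
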