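import Mathlib
import Groth.Prelude.Def_Disc

/-!
# Associated primes of `ω = Hom_A(B, A)` for a finite map of Noetherian rings

Helper library of seat 35 for S2218.
-/

set_option autoImplicit false
universe u v

namespace Groth.Agent.Lib.Seat35.AssOmega

open Disc

section Functional

attribute [local instance] FractionRing.liftAlgebra

/-- A finite domain extension `M` of a Noetherian domain `D` admits a `D`-linear functional
`M → D` which does not vanish at `1`. -/
theorem exists_functional_one_ne_zero (D : Type u) (M : Type v) [CommRing D] [IsDomain D]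
    [IsNoetherianRing D] [CommRing M] [IsDomain M] [Algebra D M] [FaithfulSMul D M]
    [Module.Finite D M] : ∃ ψ : M →ₗ[D] D, ψ 1 ≠ 0 := by
  classical
  let K := FractionRing D
  let L := FractionRing M
  have h1 : (1 : L) ≠ 0 := one_ne_zero
  obtain ⟨φ, hφ⟩ : ∃ φ : Module.Dual K L, φ 1 ≠ 0 := by
    by_contra hcon
    push Not at hcon
    exact h1 ((Module.forall_dual_apply_eq_zero_iff K (1 : L)).mp hcon)
  let g : M →ₗ[D] K := (φ.restrictScalars D).comp ((Algebra.linearMap M L).restrictScalars D)
  have : Module.FinitePresentation D M := Module.finitePresentation_of_finite D M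
  obtain ⟨h, s, hs⟩ := Module.FinitePresentation.exists_lift_of_isLocalizedModule
    (nonZeroDivisors D) (Algebra.linearMap D K) g
  refine ⟨h, fun h0 => ?_⟩
  have h2 := LinearMap.congr_fun hs 1
  simp only [LinearMap.coe_comp, Function.comp_apply, h0, map_zero, LinearMap.smul_apply] at h2
  have h3 : g 1 = φ 1 := by
    simp [g]
  rw [h3] at h2
  have h4 : (s : D) • φ 1 = 0 := h2.symm
  rw [Algebra.smul_def, mul_eq_zero] at h4
  rcases h4 with h4 | h4
  · have : (s : D) = 0 := by
      apply IsFractionRing.injective D K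
      rw [h4, map_zero]
    exact nonZeroDivisors.coe_ne_zero s this
  · exact hφ h4

end Functional

variable {A : Type u} {B : Type v} [CommRing A] [CommRing B] [Algebra A B]

theorem algebraMap_smul_toLinearMap_apply (a : A) (φ : Omega A B) (x : B) :
    ((algebraMap A B a) • φ).toLinearMap x = a * φ.toLinearMap x := by
  rw [Omega.smul_toLinearMap_apply, ← Algebra.smul_def, map_smul, smul_eq_mul]

theorem smul_eq_zero_iff (b : B) (φ : Omega A B) :
    b • φ = 0 ↔ ∀ x, φ.toLinearMap (b * x) = 0 := by
  constructor
  · intro h x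
    have := congrArg (fun ψ : Omega A B => ψ.toLinearMap x) h
    simpa using this
  · intro h
    ext x
    simpa using h x

/-- First inclusion: the contraction of an associated prime of `ω` is an associated prime of `A`. -/
theorem comap_mem_of_mem [IsNoetherianRing A] [IsNoetherianRing B] [Module.Finite A B]
    {q : Ideal B} (hq : q ∈ associatedPrimes B (Omega A B)) :
    q.comap (algebraMap A B) ∈ associatedPrimes A A := by
  classical
  rw [AssociatedPrimes.mem_iff, isAssociatedPrime_iff] at hq ⊢
  obtain ⟨hqp, φ, hφ⟩ := hq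
  have hpp : (q.comap (algebraMap A B)).IsPrime := Ideal.comap_isPrime _ _
  refine ⟨hpp, ?_⟩
  obtain ⟨s, hs⟩ := (Module.Finite.fg_top : (⊤ : Submodule A B).FG)
  -- membership in p
  have hmem : ∀ a : A, a ∈ q.comap (algebraMap A B) ↔ ∀ b ∈ s, a * φ.toLinearMap b = 0 := by
    intro a
    rw [Ideal.mem_comap, hφ, Submodule.mem_colon_singleton, Submodule.mem_bot, smul_eq_zero_iff]
    constructor
    · intro h b _
      have := h b
      rwa [← Algebra.smul_def, map_smul, smul_eq_mul] at this
    · intro h x
      rw [← Algebra.smul_def, map_smul, smul_eq_mul]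
      have hx : x ∈ Submodule.span A (s : Set B) := by rw [hs]; trivial
      induction hx using Submodule.span_induction with
      | mem y hy => exact h y hy
      | zero => simp
      | add y z _ _ hy hz => rw [map_add, mul_add, hy, hz, add_zero]
      | smul c y _ hy => rw [map_smul, smul_eq_mul, mul_left_comm, hy, mul_zero]
  have hle : s.inf (fun b => Submodule.colon (⊥ : Submodule A A) {φ.toLinearMap b}) ≤
      q.comap (algebraMap A B) := by
    intro a ha
    rw [hmem]
    intro b hb
    have h1 : s.inf (fun b => Submodule.colon (⊥ : Submodule A A) {φ.toLinearMap b}) ≤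
        Submodule.colon (⊥ : Submodule A A) {φ.toLinearMap b} :=
      Finset.inf_le (f := fun b => Submodule.colon (⊥ : Submodule A A) {φ.toLinearMap b}) hb
    have := h1 ha
    rwa [Submodule.mem_colon_singleton, Submodule.mem_bot, smul_eq_mul] at this
  obtain ⟨b, hb, hb'⟩ := (Ideal.IsPrime.inf_le' hpp).mp hle
  refine ⟨φ.toLinearMap b, le_antisymm ?_ hb'⟩
  intro a ha
  rw [Submodule.mem_colon_singleton, Submodule.mem_bot, smul_eq_mul]
  exact (hmem a).mp ha b hb

/-- Second inclusion: a prime of `B` lying over an associated prime of `A` is an associated prime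
of `ω`. -/
theorem mem_of_comap_mem [IsNoetherianRing A] [IsNoetherianRing B] [Module.Finite A B]
    {q : Ideal B} [hqp : q.IsPrime] (hq : q.comap (algebraMap A B) ∈ associatedPrimes A A) :
    q ∈ associatedPrimes B (Omega A B) := by
  classical
  rw [AssociatedPrimes.mem_iff, isAssociatedPrime_iff] at hq ⊢
  obtain ⟨hpp, a0, ha0⟩ := hq
  refine ⟨hqp, ?_⟩
  have hker : ∀ a : A, a ∈ q.comap (algebraMap A B) ↔ a * a0 = 0 := by
    intro a
    rw [ha0, Submodule.mem_colon_singleton, Submodule.mem_bot, smul_eq_mul]
  -- the quotient rings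
  let D := A ⧸ q.comap (algebraMap A B)
  let M := B ⧸ q
  have : IsDomain D := Ideal.Quotient.isDomain _
  have : IsDomain M := Ideal.Quotient.isDomain _
  have : FaithfulSMul D M :=
    (faithfulSMul_iff_algebraMap_injective D M).mpr (Ideal.algebraMap_quotient_injective)
  have : Module.Finite A M := Module.Finite.of_surjective (Ideal.Quotient.mkₐ A q).toLinearMap
    (Ideal.Quotient.mkₐ_surjective A q)
  have : Module.Finite D M := Module.Finite.of_restrictScalars_finite A D M
  obtain ⟨ψ, hψ⟩ := exists_functional_one_ne_zero D M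
  -- the embedding `D → A`, `1 ↦ a0`
  let ι : D →ₗ[A] A := Submodule.liftQ (q.comap (algebraMap A B)) (LinearMap.toSpanSingleton A A a0)
    (fun a ha => by
      rw [LinearMap.mem_ker, LinearMap.toSpanSingleton_apply, smul_eq_mul]
      exact (hker a).mp ha)
  have hι : Function.Injective ι := by
    rw [← LinearMap.ker_eq_bot, Submodule.ker_liftQ_eq_bot']
    ext a
    rw [LinearMap.mem_ker, LinearMap.toSpanSingleton_apply, smul_eq_mul]
    exact hker a
  let φ : B →ₗ[A] A := ι.comp ((ψ.restrictScalars A).comp (Ideal.Quotient.mkₐ A q).toLinearMap)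
  refine ⟨⟨φ⟩, ?_⟩
  ext b
  rw [Submodule.mem_colon_singleton, Submodule.mem_bot, smul_eq_zero_iff]
  have hφ : ∀ x : B, φ x = ι (ψ (Ideal.Quotient.mk q x)) := fun x => rfl
  constructor
  · intro hb x
    have : Ideal.Quotient.mk q (b * x) = 0 :=
      Ideal.Quotient.eq_zero_iff_mem.mpr (q.mul_mem_right x hb)
    change φ (b * x) = 0
    rw [hφ, this, map_zero, map_zero]
  · intro h
    by_contra hb
    have hb0 : Ideal.Quotient.mk q b ≠ 0 := fun h0 => hb (Ideal.Quotient.eq_zero_iff_mem.mp h0)
    have hint : IsIntegral D (Ideal.Quotient.mk q b) := Algebra.IsIntegral.isIntegral _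
    have hne := Ideal.comap_ne_bot_of_integral_mem (I := Ideal.span {Ideal.Quotient.mk q b}) hb0
      (Ideal.subset_span rfl) hint
    obtain ⟨d, hd, hd0⟩ := Submodule.exists_mem_ne_zero_of_ne_bot hne
    rw [Ideal.mem_comap, Ideal.mem_span_singleton'] at hd
    obtain ⟨m, hm⟩ := hd
    obtain ⟨x, rfl⟩ := Ideal.Quotient.mk_surjective m
    have h1 := h x
    change φ (b * x) = 0 at h1
    rw [hφ] at h1
    have h2 : ψ (Ideal.Quotient.mk q (b * x)) = 0 := hι (by rw [h1, map_zero])
    rw [map_mul, mul_comm, hm, Algebra.algebraMap_eq_smul_one, map_smul, smul_eq_mul,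
      mul_eq_zero] at h2
    rcases h2 with h2 | h2
    · exact hd0 h2
    · exact hψ h2

end Groth.Agent.Lib.Seat35.AssOmega
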