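import Mathlib.RingTheory.Length
import Mathlib.RingTheory.Ideal.Quotient.Operations
import Mathlib.RingTheory.Coprime.Lemmas
import Mathlib.LinearAlgebra.Isomorphisms
import Mathlib.LinearAlgebra.Prod
import Mathlib.Tactic

/-!
# Lengths of cokernels (seat 35)

* `length_coker_comp`: for `β` injective, `ℓ(coker (β ∘ α)) = ℓ(coker α) + ℓ(coker β)`.
* `length_coker_prodMap_id`: `ℓ(coker (id × φ)) = ℓ(coker φ)`.
* `pairMap`: the map `A/(P) → A/(g) × A/(F)` for `P = g * F`; it is injective when `F`, `g` are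
  relatively prime in a decomposition monoid, and its cokernel has the length of `A/(F, g)`.
-/

set_option autoImplicit false
universe u v w x

namespace Groth.Agent.Lib.Seat35.CokerLen

section general

variable {R : Type u} [Ring R] {M : Type v} {N : Type w} {P : Type x}
  [AddCommGroup M] [Module R M] [AddCommGroup N] [Module R N] [AddCommGroup P] [Module R P]

theorem length_coker_comp (α : M →ₗ[R] N) (β : N →ₗ[R] P) (hβ : Function.Injective β) :
    Module.length R (P ⧸ LinearMap.range (β ∘ₗ α)) =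
      Module.length R (N ⧸ LinearMap.range α) + Module.length R (P ⧸ LinearMap.range β) := by
  have h1 : LinearMap.range α ≤ Submodule.comap β (LinearMap.range (β ∘ₗ α)) := by
    rintro _ ⟨m, rfl⟩
    exact ⟨m, rfl⟩
  have h2 : LinearMap.range (β ∘ₗ α) ≤ Submodule.comap (LinearMap.id : P →ₗ[R] P) (LinearMap.range β) := by
    rintro _ ⟨m, rfl⟩
    exact ⟨α m, rfl⟩
  let u : (N ⧸ LinearMap.range α) →ₗ[R] (P ⧸ LinearMap.range (β ∘ₗ α)) := Submodule.mapQ _ _ β h1
  let v : (P ⧸ LinearMap.range (β ∘ₗ α)) →ₗ[R] (P ⧸ LinearMap.range β) :=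
    Submodule.mapQ _ _ LinearMap.id h2
  have hu : ∀ n : N, u (Submodule.Quotient.mk n) = Submodule.Quotient.mk (β n) := fun n => rfl
  have hv : ∀ p : P, v (Submodule.Quotient.mk p) = Submodule.Quotient.mk p := fun p => rfl
  have hinj : Function.Injective u := by
    rw [← LinearMap.ker_eq_bot, LinearMap.ker_eq_bot']
    intro q hq
    obtain ⟨n, rfl⟩ := Submodule.Quotient.mk_surjective _ q
    rw [hu, Submodule.Quotient.mk_eq_zero] at hq
    obtain ⟨m, hm⟩ := hq
    rw [Submodule.Quotient.mk_eq_zero]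
    exact ⟨m, hβ hm⟩
  have hsurj : Function.Surjective v := by
    intro q
    obtain ⟨p, rfl⟩ := Submodule.Quotient.mk_surjective _ q
    exact ⟨Submodule.Quotient.mk p, hv p⟩
  have hex : Function.Exact u v := by
    intro q
    obtain ⟨p, rfl⟩ := Submodule.Quotient.mk_surjective _ q
    rw [hv, Submodule.Quotient.mk_eq_zero]
    constructor
    · rintro ⟨n, rfl⟩
      exact ⟨Submodule.Quotient.mk n, hu n⟩
    · rintro ⟨q', hq'⟩
      obtain ⟨n, rfl⟩ := Submodule.Quotient.mk_surjective _ q'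
      rw [hu, Submodule.Quotient.eq] at hq'
      obtain ⟨m, hm⟩ := hq'
      refine ⟨n - α m, ?_⟩
      have : β (α m) = β n - p := hm
      rw [map_sub, this]; abel
  exact Module.length_eq_add_of_exact u v hinj hsurj hex

theorem length_coker_prodMap_id (φ : N →ₗ[R] P) :
    Module.length R ((M × P) ⧸ LinearMap.range (LinearMap.prodMap (LinearMap.id : M →ₗ[R] M) φ)) =
      Module.length R (P ⧸ LinearMap.range φ) := by
  let s : (M × P) →ₗ[R] (P ⧸ LinearMap.range φ) := (LinearMap.range φ).mkQ ∘ₗ LinearMap.snd R M P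
  have hs : Function.Surjective s := by
    intro q
    obtain ⟨p, rfl⟩ := Submodule.Quotient.mk_surjective _ q
    exact ⟨(0, p), rfl⟩
  have hker : LinearMap.ker s = LinearMap.range (LinearMap.prodMap (LinearMap.id : M →ₗ[R] M) φ) := by
    ext ⟨m, p⟩
    simp only [LinearMap.mem_ker, LinearMap.mem_range, s, LinearMap.comp_apply, LinearMap.snd_apply,
      Submodule.mkQ_apply, Submodule.Quotient.mk_eq_zero, LinearMap.prodMap_apply, LinearMap.id_apply,
      Prod.exists, Prod.mk.injEq]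
    constructor
    · rintro ⟨n, hn⟩
      exact ⟨m, n, rfl, hn⟩
    · rintro ⟨_, n, -, hn⟩
      exact ⟨n, hn⟩
  exact ((Submodule.quotEquivOfEq _ _ hker.symm).trans (LinearMap.quotKerEquivOfSurjective s hs)).length_eq

end general

section pair

variable {A : Type u} [CommRing A]

/-- The diagonal map `A/(P) → A/(g) × A/(F)` when `P = g * F`. -/
noncomputable def pairMap (F g P : A) (hP : P = g * F) :
    (A ⧸ Ideal.span ({P} : Set A)) →ₗ[A] (A ⧸ Ideal.span ({g} : Set A)) × (A ⧸ Ideal.span ({F} : Set A)) :=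
  LinearMap.prod
    (Submodule.mapQ (Ideal.span ({P} : Set A)) (Ideal.span ({g} : Set A)) LinearMap.id
      (Ideal.span_singleton_le_span_singleton.mpr ⟨F, hP⟩))
    (Submodule.mapQ (Ideal.span ({P} : Set A)) (Ideal.span ({F} : Set A)) LinearMap.id
      (Ideal.span_singleton_le_span_singleton.mpr ⟨g, by rw [hP, mul_comm]⟩))

theorem pairMap_mk (F g P : A) (hP : P = g * F) (a : A) :
    pairMap F g P hP (Ideal.Quotient.mk _ a) = (Ideal.Quotient.mk _ a, Ideal.Quotient.mk _ a) := rfl

theorem pairMap_injective [IsDomain A] [DecompositionMonoid A] (F g P : A) (hP : P = g * F)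
    (hFg : IsRelPrime F g) : Function.Injective (pairMap F g P hP) := by
  rw [← LinearMap.ker_eq_bot, LinearMap.ker_eq_bot']
  intro q hq
  obtain ⟨a, rfl⟩ := Ideal.Quotient.mk_surjective q
  rw [pairMap_mk, Prod.mk_eq_zero, Ideal.Quotient.eq_zero_iff_mem, Ideal.Quotient.eq_zero_iff_mem,
    Ideal.mem_span_singleton, Ideal.mem_span_singleton] at hq
  obtain ⟨⟨c, rfl⟩, hF⟩ := hq
  obtain ⟨c', rfl⟩ := hFg.dvd_of_dvd_mul_left hF
  rw [Ideal.Quotient.eq_zero_iff_mem, Ideal.mem_span_singleton, hP]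
  exact ⟨c', by ring⟩

theorem length_coker_pairMap (F g P : A) (hP : P = g * F) :
    Module.length A (((A ⧸ Ideal.span ({g} : Set A)) × (A ⧸ Ideal.span ({F} : Set A))) ⧸
        LinearMap.range (pairMap F g P hP)) =
      Module.length A (A ⧸ Ideal.span ({F, g} : Set A)) := by
  let u₁ : (A ⧸ Ideal.span ({g} : Set A)) →ₗ[A] (A ⧸ Ideal.span ({F, g} : Set A)) :=
    Submodule.mapQ (Ideal.span ({g} : Set A)) (Ideal.span ({F, g} : Set A)) LinearMap.id
      (Ideal.span_mono (by simp))
  let u₂ : (A ⧸ Ideal.span ({F} : Set A)) →ₗ[A] (A ⧸ Ideal.span ({F, g} : Set A)) :=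
    Submodule.mapQ (Ideal.span ({F} : Set A)) (Ideal.span ({F, g} : Set A)) LinearMap.id
      (Ideal.span_mono (by simp))
  let s : ((A ⧸ Ideal.span ({g} : Set A)) × (A ⧸ Ideal.span ({F} : Set A))) →ₗ[A]
      (A ⧸ Ideal.span ({F, g} : Set A)) := LinearMap.coprod u₁ (-u₂)
  have hsmk : ∀ a b : A, s (Ideal.Quotient.mk _ a, Ideal.Quotient.mk _ b) =
      Ideal.Quotient.mk _ (a - b) := by
    intro a b
    simp only [s, LinearMap.coprod_apply, LinearMap.neg_apply, map_sub]
    rw [sub_eq_add_neg]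
    rfl
  have hs : Function.Surjective s := by
    intro q
    obtain ⟨a, rfl⟩ := Ideal.Quotient.mk_surjective q
    exact ⟨(Ideal.Quotient.mk _ a, Ideal.Quotient.mk _ 0), by rw [hsmk, sub_zero]⟩
  have hker : LinearMap.ker s = LinearMap.range (pairMap F g P hP) := by
    ext ⟨qa, qb⟩
    obtain ⟨a, rfl⟩ := Ideal.Quotient.mk_surjective qa
    obtain ⟨b, rfl⟩ := Ideal.Quotient.mk_surjective qb
    rw [LinearMap.mem_ker, hsmk, Ideal.Quotient.eq_zero_iff_mem, Ideal.mem_span_pair]
    constructor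
    · rintro ⟨c, d, hcd⟩
      refine ⟨Ideal.Quotient.mk _ (a - d * g), ?_⟩
      rw [pairMap_mk, Prod.mk.injEq, Ideal.Quotient.eq, Ideal.Quotient.eq,
        Ideal.mem_span_singleton, Ideal.mem_span_singleton]
      exact ⟨⟨-d, by ring⟩, ⟨c, by linear_combination -hcd⟩⟩
    · rintro ⟨q, hq⟩
      obtain ⟨e, rfl⟩ := Ideal.Quotient.mk_surjective q
      rw [pairMap_mk, Prod.mk.injEq, Ideal.Quotient.eq, Ideal.Quotient.eq,
        Ideal.mem_span_singleton, Ideal.mem_span_singleton] at hq
      obtain ⟨⟨d, hd⟩, ⟨c, hc⟩⟩ := hq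
      exact ⟨c, -d, by linear_combination hd - hc⟩
  exact ((Submodule.quotEquivOfEq _ _ hker.symm).trans (LinearMap.quotKerEquivOfSurjective s hs)).length_eq

end pair

end Groth.Agent.Lib.Seat35.CokerLen
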