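import Mathlib.RingTheory.Valuation.ValuationSubring
import Mathlib.RingTheory.Valuation.Discrete.IsDiscreteValuationRing
import Mathlib.Analysis.AbsoluteValue.Equivalence

/-!
# Weak approximation for finitely many discrete valuation subrings of a field (seat 35)

For a discrete valuation ring `A` with fraction field `K` we use the real absolute value
`|x| = 2 ^ (-v(x))` (`adicAbv` of the maximal ideal) and Mathlib's weak approximation theorem
`AbsoluteValue.denseRange_algebraMap_pi`.
-/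

set_option autoImplicit false
universe u

namespace Groth.Agent.Lib.Seat35.DVRApprox

open IsDedekindDomain IsDedekindDomain.HeightOneSpectrum NNReal

section single

variable (A : Type*) (K : Type*) [CommRing A] [IsDomain A] [IsDiscreteValuationRing A] [Field K]
  [Algebra A K] [IsFractionRing A K]

/-- The absolute value `2 ^ (-v)` on the fraction field of a discrete valuation ring. -/
noncomputable def abv : AbsoluteValue K ℝ :=
  (IsDiscreteValuationRing.maximalIdeal A).adicAbv (K := K) (b := 2) one_lt_two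

theorem abv_algebraMap_le_one (r : A) : abv A K (algebraMap A K r) ≤ 1 :=
  adicAbv_coe_le_one _ _ r

theorem abv_algebraMap_lt_one_iff (r : A) :
    abv A K (algebraMap A K r) < 1 ↔ r ∈ IsLocalRing.maximalIdeal A :=
  adicAbv_coe_lt_one_iff _ _ r

theorem abv_algebraMap_eq_one_iff (r : A) :
    abv A K (algebraMap A K r) = 1 ↔ IsUnit r := by
  rw [abv, adicAbv_coe_eq_one_iff]
  show r ∉ IsLocalRing.maximalIdeal A ↔ _
  rw [IsLocalRing.mem_maximalIdeal, mem_nonunits_iff, not_not]

theorem exists_lift_of_abv_le_one {x : K} (hx : abv A K x ≤ 1) : ∃ r : A, algebraMap A K r = x := by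
  apply IsDiscreteValuationRing.exists_lift_of_le_one
  have h : ((IsDiscreteValuationRing.maximalIdeal A).adicAbvDef (K := K) (b := 2) one_lt_two x : ℝ) ≤ 1 := hx
  rw [adicAbvDef] at h
  have h' : WithZeroMulInt.toNNReal (ne_zero_of_lt (one_lt_two : (1 : ℝ≥0) < 2))
      ((IsDiscreteValuationRing.maximalIdeal A).valuation K x) ≤ 1 := by exact_mod_cast h
  exact (WithZeroMulInt.toNNReal_le_one_iff one_lt_two).mp h'

theorem abv_le_one_iff (x : K) : abv A K x ≤ 1 ↔ ∃ r : A, algebraMap A K r = x :=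
  ⟨exists_lift_of_abv_le_one A K, by rintro ⟨r, rfl⟩; exact abv_algebraMap_le_one A K r⟩

theorem abv_lt_one_iff (x : K) :
    abv A K x < 1 ↔ ∃ r ∈ IsLocalRing.maximalIdeal A, algebraMap A K r = x := by
  constructor
  · intro hx
    obtain ⟨r, rfl⟩ := exists_lift_of_abv_le_one A K hx.le
    exact ⟨r, (abv_algebraMap_lt_one_iff A K r).mp hx, rfl⟩
  · rintro ⟨r, hr, rfl⟩
    exact (abv_algebraMap_lt_one_iff A K r).mpr hr

theorem abv_isNontrivial : (abv A K).IsNontrivial := by
  obtain ⟨ϖ, hϖ⟩ := IsDiscreteValuationRing.exists_irreducible A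
  refine ⟨algebraMap A K ϖ, ?_, ?_⟩
  · simpa using hϖ.ne_zero
  · refine ne_of_lt ((abv_algebraMap_lt_one_iff A K ϖ).mpr ?_)
    rw [IsLocalRing.mem_maximalIdeal, mem_nonunits_iff]
    exact hϖ.not_isUnit

/-- If `|d| < |ϖ ^ n|` then `ϖ ^ n - d = w ϖ ^ n` for a unit `w` of `A`. -/
theorem exists_unit_mul_zpow (ϖ : A) (hϖ : ϖ ≠ 0) (n : ℤ) (d : K)
    (hd : abv A K d < abv A K ((algebraMap A K ϖ) ^ n)) :
    ∃ w : Aˣ, (algebraMap A K ϖ) ^ n - d = algebraMap A K (w : A) * (algebraMap A K ϖ) ^ n := by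
  have hϖK : algebraMap A K ϖ ≠ 0 := by simpa using hϖ
  have hpow : (algebraMap A K ϖ) ^ n ≠ 0 := zpow_ne_zero _ hϖK
  have hpos : 0 < abv A K ((algebraMap A K ϖ) ^ n) := (abv A K).pos hpow
  have hq : abv A K (d / (algebraMap A K ϖ) ^ n) < 1 := by
    rw [map_div₀, div_lt_one hpos]
    exact hd
  obtain ⟨q, hqm, hq'⟩ := (abv_lt_one_iff A K _).mp hq
  have hu : IsUnit (1 - q) := IsLocalRing.isUnit_one_sub_self_of_mem_nonunits q hqm
  refine ⟨hu.unit, ?_⟩
  rw [IsUnit.unit_spec, map_sub, map_one, hq']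
  field_simp

end single

/-- Weak approximation for finitely many pairwise distinct discrete valuation subrings. -/
theorem exists_approx (K : Type u) [Field K] {r : ℕ} (O : Fin r → ValuationSubring K)
    (hO : ∀ i, IsDiscreteValuationRing (O i)) (hinj : Function.Injective O)
    (fs : Fin r → K) (ϖ : ∀ i, O i) (hϖ : ∀ i, ϖ i ≠ 0) (n : Fin r → ℤ) :
    ∃ f : K, ∀ i : Fin r, ∃ w : (O i)ˣ, f - fs i = ((w : O i) : K) * ((ϖ i : K) ^ (n i)) := by
  classical
  rcases isEmpty_or_nonempty (Fin r) with hempty | hne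
  · exact ⟨0, fun i => isEmptyElim i⟩
  let a : Fin r → AbsoluteValue K ℝ := fun i => abv (O i) K
  have hmem : ∀ i (x : K), a i x ≤ 1 ↔ x ∈ O i := by
    intro i x
    rw [abv_le_one_iff]
    constructor
    · rintro ⟨y, rfl⟩
      exact y.2
    · intro hx
      exact ⟨⟨x, hx⟩, rfl⟩
  have hnontriv : ∀ i, (a i).IsNontrivial := fun i => abv_isNontrivial (O i) K
  have hpair : Pairwise fun i j => ¬ (a i).IsEquiv (a j) := by
    intro i j hij heq
    apply hij
    apply hinj
    ext x
    rw [← hmem, ← hmem]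
    exact heq.le_one_iff
  have hdense := AbsoluteValue.denseRange_algebraMap_pi hnontriv hpair
  let z : (i : Fin r) → WithAbs (a i) := fun i => WithAbs.toAbs (a i) (fs i + (ϖ i : K) ^ (n i))
  let g : Fin r → ℝ := fun i => a i ((ϖ i : K) ^ (n i))
  have hg : ∀ i, 0 < g i := by
    intro i
    apply (a i).pos
    apply zpow_ne_zero
    exact_mod_cast hϖ i
  let ε : ℝ := Finset.univ.inf' Finset.univ_nonempty g
  have hε : 0 < ε := (Finset.lt_inf'_iff _).mpr fun i _ => hg i
  obtain ⟨f, hf⟩ := Metric.denseRange_iff.mp hdense z ε hε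
  rw [dist_pi_lt_iff hε] at hf
  refine ⟨f, fun i => ?_⟩
  have h1 : a i (fs i + (ϖ i : K) ^ (n i) - f) < g i := by
    refine lt_of_lt_of_le ?_ (Finset.inf'_le g (Finset.mem_univ i))
    have := hf i
    rw [dist_eq_norm, WithAbs.norm_eq_apply_ofAbs] at this
    exact this
  obtain ⟨w, hw⟩ := exists_unit_mul_zpow (O i) K (ϖ i) (hϖ i) (n i) _ h1
  refine ⟨w, ?_⟩
  have : f - fs i = (ϖ i : K) ^ (n i) - (fs i + (ϖ i : K) ^ (n i) - f) := by ring
  rw [this]
  exact hw

end Groth.Agent.Lib.Seat35.DVRApprox
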