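import Mathlib
import Groth.Agent.Lib.Helper22Milnor
import Groth.Agent.Lib.Helper22MilnorGlue
import Groth.Agent.Lib.Helper22MilnorFlat

/-!
# Milnor squares of algebras: base change identifications

Setting of `S6900`: a fibre square `B' = B ×_A A'` (with `A' → A` surjective) and a second fibre
square `D' = D ×_C C'` lying over it, with `C = D ⊗_B A = C' ⊗_{A'} A`.  We prove that
`D = D' ⊗_{B'} B` and `C' = D' ⊗_{B'} A'` (as `Algebra.IsPushout` statements).
-/

set_option autoImplicit false
set_option linter.unusedSectionVars false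
set_option linter.style.haveILetI false
universe u

open TensorProduct

noncomputable section

namespace Groth.Agent.Lib.Seat35.MilnorAlg

variable (B' B A' A : Type u) [CommRing B'] [CommRing B] [CommRing A'] [CommRing A]
    [Algebra B' B] [Algebra B' A'] [Algebra B A] [Algebra A' A] [Algebra B' A]
    [IsScalarTower B' B A] [IsScalarTower B' A' A]
    (D' D C' C : Type u) [CommRing D'] [CommRing D] [CommRing C'] [CommRing C]
    [Algebra D' D] [Algebra D' C'] [Algebra D C] [Algebra C' C] [Algebra D' C]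
    [IsScalarTower D' D C] [IsScalarTower D' C' C]
    [Algebra B' D'] [Algebra B D] [Algebra A' C'] [Algebra A C]
    [Algebra B' D] [IsScalarTower B' B D] [IsScalarTower B' D' D]
    [Algebra B' C'] [IsScalarTower B' A' C'] [IsScalarTower B' D' C']
    [Algebra B C] [IsScalarTower B A C] [IsScalarTower B D C]
    [Algebra A' C] [IsScalarTower A' A C] [IsScalarTower A' C' C]
    [Algebra.IsPushout B D A C] [Algebra.IsPushout A' C' A C]

/-- The glueing isomorphism `A ⊗_B D ≅ C ≅ A ⊗_{A'} C'`. -/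
def phi : A ⊗[B] D ≃ₗ[A] A ⊗[A'] C' :=
  haveI : Algebra.IsPushout B A D C := Algebra.IsPushout.symm inferInstance
  haveI : Algebra.IsPushout A' A C' C := Algebra.IsPushout.symm inferInstance
  (Algebra.IsPushout.equiv B A D C).toLinearEquiv ≪≫ₗ
    (Algebra.IsPushout.equiv A' A C' C).symm.toLinearEquiv

theorem phi_eq_iff (d : D) (c' : C') :
    phi B A' A D C' C ((1 : A) ⊗ₜ[B] d) = (1 : A) ⊗ₜ[A'] c' ↔
      algebraMap D C d = algebraMap C' C c' := by
  haveI : Algebra.IsPushout B A D C := Algebra.IsPushout.symm inferInstance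
  haveI : Algebra.IsPushout A' A C' C := Algebra.IsPushout.symm inferInstance
  have h1 : phi B A' A D C' C ((1 : A) ⊗ₜ[B] d) =
      (Algebra.IsPushout.equiv A' A C' C).symm (algebraMap D C d) := by
    change (Algebra.IsPushout.equiv A' A C' C).symm
      ((Algebra.IsPushout.equiv B A D C) ((1 : A) ⊗ₜ[B] d)) = _
    rw [Algebra.IsPushout.equiv_tmul, map_one, one_mul]
  rw [h1, AlgEquiv.symm_apply_eq, Algebra.IsPushout.equiv_tmul, map_one, one_mul]

/-- The comparison map `D' → D ×_φ C'`. -/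
def toGlue : D' →ₗ[B'] EtMil.glue B' (phi B A' A D C' C) :=
  LinearMap.codRestrict (EtMil.glue B' (phi B A' A D C' C))
    ((IsScalarTower.toAlgHom B' D' D).toLinearMap.prod (IsScalarTower.toAlgHom B' D' C').toLinearMap)
    (fun d' => by
      change phi B A' A D C' C ((1 : A) ⊗ₜ[B] (algebraMap D' D d')) =
        (1 : A) ⊗ₜ[A'] (algebraMap D' C' d')
      rw [phi_eq_iff, ← IsScalarTower.algebraMap_apply, ← IsScalarTower.algebraMap_apply])

theorem toGlue_fst (d' : D') :
    ((toGlue B' B A' A D' D C' C d' : EtMil.glue B' (phi B A' A D C' C)) : D × C').1 =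
      algebraMap D' D d' := rfl

theorem toGlue_snd (d' : D') :
    ((toGlue B' B A' A D' D C' C d' : EtMil.glue B' (phi B A' A D C' C)) : D × C').2 =
      algebraMap D' C' d' := rfl

theorem toGlue_bijective (hsq' : EtMil.IsFibreSquare D' D C' C) :
    Function.Bijective (toGlue B' B A' A D' D C' C) := by
  constructor
  · intro x y hxy
    have h1 := congrArg (fun z : EtMil.glue B' (phi B A' A D C' C) => (z : D × C').1) hxy
    have h2 := congrArg (fun z : EtMil.glue B' (phi B A' A D C' C) => (z : D × C').2) hxy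
    exact Groth.Agent.Lib.Helper22.fs_ext hsq' h1 h2
  · rintro ⟨⟨d, c'⟩, h⟩
    have h' : algebraMap D C d = algebraMap C' C c' := (phi_eq_iff B A' A D C' C d c').mp h
    obtain ⟨d', ⟨hd1, hd2⟩, _⟩ := hsq'.2 d c' h'
    exact ⟨d', Subtype.ext (Prod.ext hd1 hd2)⟩

/-- `D = B ⊗_{B'} D'`. -/
theorem isPushout_fst (hsq : EtMil.IsFibreSquare B' B A' A)
    (hsq' : EtMil.IsFibreSquare D' D C' C) : Algebra.IsPushout B' B D' D := by
  let ι : D' ≃ₗ[B'] EtMil.glue B' (phi B A' A D C' C) :=
    LinearEquiv.ofBijective _ (toGlue_bijective B' B A' A D' D C' C hsq')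
  let e : B ⊗[B'] D' ≃ₗ[B] D :=
    (AlgebraTensorModule.congr (LinearEquiv.refl B B) ι) ≪≫ₗ
      LinearEquiv.ofBijective _
        (Groth.Agent.Lib.Helper22.glue_fst_bijective (phi B A' A D C' C) hsq)
  refine ⟨IsBaseChange.of_equiv e fun d' => ?_⟩
  change (LinearMap.liftBaseChange B (EtMil.glueFst B' (phi B A' A D C' C)))
    ((1 : B) ⊗ₜ[B'] (toGlue B' B A' A D' D C' C d')) = algebraMap D' D d'
  rw [LinearMap.liftBaseChange_tmul, one_smul]
  rfl

/-- `C' = A' ⊗_{B'} D'`. -/
theorem isPushout_snd (hsq : EtMil.IsFibreSquare B' B A' A)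
    (hsq' : EtMil.IsFibreSquare D' D C' C) : Algebra.IsPushout B' A' D' C' := by
  let ι : D' ≃ₗ[B'] EtMil.glue B' (phi B A' A D C' C) :=
    LinearEquiv.ofBijective _ (toGlue_bijective B' B A' A D' D C' C hsq')
  let e : A' ⊗[B'] D' ≃ₗ[A'] C' :=
    (AlgebraTensorModule.congr (LinearEquiv.refl A' A') ι) ≪≫ₗ
      LinearEquiv.ofBijective _
        (Groth.Agent.Lib.Helper22.glue_snd_bijective (phi B A' A D C' C) hsq)
  refine ⟨IsBaseChange.of_equiv e fun d' => ?_⟩
  change (LinearMap.liftBaseChange A' (EtMil.glueSnd B' (phi B A' A D C' C)))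
    ((1 : A') ⊗ₜ[B'] (toGlue B' B A' A D' D C' C d')) = algebraMap D' C' d'
  rw [LinearMap.liftBaseChange_tmul, one_smul]
  rfl

end Groth.Agent.Lib.Seat35.MilnorAlg
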