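import Mathlib
import Groth.Agent.Lib.Seat35MilnorAlgA

/-!
# Milnor squares of algebras: transfer of properties, finite type and flat

Part B of the helper library for `S6900`.
-/

set_option autoImplicit false
set_option linter.unusedSectionVars false
set_option linter.style.haveILetI false
universe u

open TensorProduct

noncomputable section

namespace Groth.Agent.Lib.Seat35.MilnorAlg

section Transfer

variable (R S R' S' : Type u) [CommRing R] [CommRing S] [CommRing R'] [CommRing S']
  [Algebra R S] [Algebra R R'] [Algebra S S'] [Algebra R' S'] [Algebra R S']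
  [IsScalarTower R R' S'] [IsScalarTower R S S'] [Algebra.IsPushout R S R' S']

theorem finiteType_of_isPushout [Algebra.FiniteType R R'] : Algebra.FiniteType S S' :=
  Algebra.FiniteType.equiv inferInstance (Algebra.IsPushout.equiv R S R' S')

theorem flat_of_isPushout [Module.Flat R R'] : Module.Flat S S' :=
  Module.Flat.of_linearEquiv (Algebra.IsPushout.equiv R S R' S').symm.toLinearEquiv

theorem finitePresentation_of_isPushout [Algebra.FinitePresentation R R'] :
    Algebra.FinitePresentation S S' :=
  Algebra.FinitePresentation.equiv (Algebra.IsPushout.equiv R S R' S')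

theorem smooth_of_isPushout [Algebra.Smooth R R'] : Algebra.Smooth S S' :=
  Algebra.Smooth.of_equiv (Algebra.IsPushout.equiv R S R' S')

theorem etale_of_isPushout [Algebra.Etale R R'] : Algebra.Etale S S' :=
  Algebra.Etale.of_equiv (Algebra.IsPushout.equiv R S R' S')

/-- Flatness of the literal tensor product from flatness of the pushout. -/
theorem flat_tensor_of_isPushout [Module.Flat S S'] : Module.Flat S (S ⊗[R] R') :=
  Module.Flat.of_linearEquiv (Algebra.IsPushout.equiv R S R' S').toLinearEquiv

include R in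
/-- The image of `R'` spans `S'` over `S`. -/
theorem span_range_eq_top :
    Submodule.span S (Set.range (algebraMap R' S')) = ⊤ := by
  rw [eq_top_iff]
  intro c _
  obtain ⟨z, rfl⟩ := (Algebra.IsPushout.equiv R S R' S').surjective c
  clear * -
  induction z using TensorProduct.induction_on with
  | zero => rw [map_zero]; exact Submodule.zero_mem _
  | tmul s r =>
    rw [Algebra.IsPushout.equiv_tmul, ← Algebra.smul_def]
    exact Submodule.smul_mem _ _ (Submodule.subset_span ⟨r, rfl⟩)
  | add x y hx hy => rw [map_add]; exact Submodule.add_mem _ hx hy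

/-- Finite type: there is a finite subset `T` of `R'` such that for every subalgebra `E'` of `R'`
containing `T`, the quotient module `R' / E'` dies after base change to `S`. -/
theorem exists_finset_forall_one_tmul_mkQ_eq_zero [Algebra.FiniteType S S'] :
    ∃ T : Finset R', ∀ E' : Subalgebra R R', (T : Set R') ⊆ E' → ∀ x : R',
      ((1 : S) ⊗ₜ[R] ((Subalgebra.toSubmodule E').mkQ x) :
        S ⊗[R] (R' ⧸ Subalgebra.toSubmodule E')) = 0 := by
  classical
  obtain ⟨t, ht⟩ := (Algebra.FiniteType.out : (⊤ : Subalgebra S S').FG)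
  have hw : ∀ c : S', ∃ w : Finset R', c ∈ Submodule.span S (algebraMap R' S' '' (w : Set R')) := by
    intro c
    have hc : c ∈ Submodule.span S (Set.range (algebraMap R' S')) := by
      rw [span_range_eq_top R S R' S']; trivial
    obtain ⟨T, hT, hcT⟩ := Submodule.mem_span_finite_of_mem_span hc
    rw [← Set.image_univ] at hT
    obtain ⟨w, -, rfl⟩ := Finset.subset_set_image_iff.mp hT
    exact ⟨w, by rwa [Finset.coe_image] at hcT⟩
  choose w hw using hw
  refine ⟨t.biUnion w, fun E' hTE x => ?_⟩
  -- the algebra map `S ⊗ E' → S'`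
  let g : E' →ₐ[R] S' := (IsScalarTower.toAlgHom R R' S').comp E'.val
  let f : S ⊗[R] E' →ₐ[S] S' :=
    Algebra.TensorProduct.lift (Algebra.ofId S S') g (fun _ _ => Commute.all _ _)
  have hf : ∀ (s : S) (y : E'), f (s ⊗ₜ y) = algebraMap S S' s * algebraMap R' S' y := fun _ _ => rfl
  have hfsurj : Function.Surjective f := by
    rw [← AlgHom.range_eq_top, eq_top_iff, ← ht]
    refine Algebra.adjoin_le fun c hc => ?_
    have hsub : Submodule.span S (algebraMap R' S' '' (w c : Set R')) ≤
        Subalgebra.toSubmodule f.range := by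
      rw [Submodule.span_le]
      rintro _ ⟨y, hy, rfl⟩
      have hyE : y ∈ E' := hTE (by
        rw [Finset.coe_biUnion]
        exact Set.mem_biUnion hc hy)
      refine ⟨(1 : S) ⊗ₜ[R] (⟨y, hyE⟩ : E'), ?_⟩
      change f ((1 : S) ⊗ₜ[R] (⟨y, hyE⟩ : E')) = _
      rw [hf, map_one, one_mul]
    exact hsub (hw c)
  obtain ⟨z, hz⟩ := hfsurj (algebraMap R' S' x)
  -- `f = e ∘ (S ⊗ incl)`
  have hfe : ∀ z : S ⊗[R] E', f z =
      Algebra.IsPushout.equiv R S R' S' (LinearMap.lTensor S E'.val.toLinearMap z) := by
    intro z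
    induction z using TensorProduct.induction_on with
    | zero => simp
    | tmul s y =>
      rw [hf, LinearMap.lTensor_tmul, Algebra.IsPushout.equiv_tmul]
      rfl
    | add a b ha hb => rw [map_add, map_add, map_add, ha, hb]
  have h1 : LinearMap.lTensor S E'.val.toLinearMap z = (1 : S) ⊗ₜ[R] x := by
    apply (Algebra.IsPushout.equiv R S R' S').injective
    rw [← hfe, hz, Algebra.IsPushout.equiv_tmul, map_one, one_mul]
  have h2 : (Subalgebra.toSubmodule E').mkQ ∘ₗ E'.val.toLinearMap = 0 := by
    ext y
    simp only [LinearMap.comp_apply, LinearMap.zero_apply, Submodule.mkQ_apply]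
    exact (Submodule.Quotient.mk_eq_zero _).mpr y.2
  have h3 : LinearMap.lTensor S ((Subalgebra.toSubmodule E').mkQ) ((1 : S) ⊗ₜ[R] x) = 0 := by
    rw [← h1, ← LinearMap.comp_apply, ← LinearMap.lTensor_comp, h2, LinearMap.lTensor_zero,
      LinearMap.zero_apply]
  rwa [LinearMap.lTensor_tmul] at h3

end Transfer

section Main

variable (B' B A' A : Type u) [CommRing B'] [CommRing B] [CommRing A'] [CommRing A]
    [Algebra B' B] [Algebra B' A'] [Algebra B A] [Algebra A' A] [Algebra B' A]
    [IsScalarTower B' B A] [IsScalarTower B' A' A]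
    (D' D C' : Type u) [CommRing D'] [CommRing D] [CommRing C']
    [Algebra D' D] [Algebra D' C']
    [Algebra B' D'] [Algebra B D] [Algebra A' C']
    [Algebra B' D] [IsScalarTower B' B D] [IsScalarTower B' D' D]
    [Algebra B' C'] [IsScalarTower B' A' C'] [IsScalarTower B' D' C']
    [Algebra.IsPushout B' B D' D] [Algebra.IsPushout B' A' D' C']

/-- Finite type descends along a Milnor square. -/
theorem finiteType_of_fibreSquare (hsq : EtMil.IsFibreSquare B' B A' A)
    [Algebra.FiniteType B D] [Algebra.FiniteType A' C'] : Algebra.FiniteType B' D' := by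
  classical
  obtain ⟨T1, hT1⟩ := exists_finset_forall_one_tmul_mkQ_eq_zero B' B D' D
  obtain ⟨T2, hT2⟩ := exists_finset_forall_one_tmul_mkQ_eq_zero B' A' D' C'
  let E' : Subalgebra B' D' := Algebra.adjoin B' ((T1 ∪ T2 : Finset D') : Set D')
  have h1 : (T1 : Set D') ⊆ E' := fun x hx =>
    Algebra.subset_adjoin (by rw [Finset.coe_union]; exact Or.inl hx)
  have h2 : (T2 : Set D') ⊆ E' := fun x hx =>
    Algebra.subset_adjoin (by rw [Finset.coe_union]; exact Or.inr hx)
  have htop : E' = ⊤ := by
    rw [eq_top_iff]
    intro x _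
    have hq : (Subalgebra.toSubmodule E').mkQ x = 0 :=
      Groth.Agent.Lib.Helper22.fs_eq_zero_of_forall hsq
        (L' := D' ⧸ Subalgebra.toSubmodule E')
        (fun q => by
          obtain ⟨y, rfl⟩ := (Subalgebra.toSubmodule E').mkQ_surjective q
          exact hT2 E' h2 y) _ (hT1 E' h1 x)
    rw [Submodule.mkQ_apply, Submodule.Quotient.mk_eq_zero] at hq
    exact hq
  exact ⟨by rw [← htop]; exact ⟨T1 ∪ T2, rfl⟩⟩

/-- Flatness descends along a Milnor square. -/
theorem flat_of_fibreSquare (hsq : EtMil.IsFibreSquare B' B A' A)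
    [Module.Flat B D] [Module.Flat A' C'] : Module.Flat B' D' := by
  haveI : Module.Flat B (B ⊗[B'] D') := flat_tensor_of_isPushout B' B D' D
  haveI : Module.Flat A' (A' ⊗[B'] D') := flat_tensor_of_isPushout B' A' D' C'
  exact Groth.Agent.Lib.Helper22.fs_flat hsq

end Main

end Groth.Agent.Lib.Seat35.MilnorAlg
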