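import Mathlib
import Groth.Agent.Lib.Helper22SpreadIso
import Groth.Agent.Lib.Seat35MilnorAlgB

/-!
# Cancellation for algebras essentially of finite presentation (helper35)

If `R → S → S'` with `S` and `S'` both localizations of finitely presented `R`-algebras, then `S'`
is a localization of a finitely presented `S`-algebra.
-/

set_option autoImplicit false
set_option linter.unusedSectionVars false
set_option linter.style.haveILetI false
universe u

namespace Groth.Agent.Lib.Seat35.EssFPCancel

open Groth.Agent.Lib.Seat35.MilnorAlg

/-- **Cancellation.** `S`, `S'` essentially of finite presentation over `R` and `R → S → S'`: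
then `S'` is essentially of finite presentation over `S`. -/
theorem essFP_cancel {R S S' : Type u} [CommRing R] [CommRing S] [CommRing S']
    [Algebra R S] [Algebra S S'] [Algebra R S'] [IsScalarTower R S S']
    (hS : ∃ (S₀ : Type u) (_ : CommRing S₀) (_ : Algebra R S₀) (_ : Algebra S₀ S)
      (_ : IsScalarTower R S₀ S) (M : Submonoid S₀),
        Algebra.FinitePresentation R S₀ ∧ IsLocalization M S)
    (hS' : ∃ (S₀ : Type u) (_ : CommRing S₀) (_ : Algebra R S₀) (_ : Algebra S₀ S')
      (_ : IsScalarTower R S₀ S') (M : Submonoid S₀),
        Algebra.FinitePresentation R S₀ ∧ IsLocalization M S') :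
    ∃ (T : Type u) (_ : CommRing T) (_ : Algebra S T) (_ : Algebra T S')
      (_ : IsScalarTower S T S') (V : Submonoid T),
        Algebra.FinitePresentation S T ∧ IsLocalization V S' := by
  obtain ⟨S₀, _, _, _, _, W, hfp, hloc⟩ := hS
  obtain ⟨S₁, _, _, _, _, W', hfp', hloc'⟩ := hS'
  haveI := hfp
  haveI := hloc
  haveI := hfp'
  haveI := hloc'
  let ψ : S₀ →ₐ[R] S' := (IsScalarTower.toAlgHom R S S').comp (IsScalarTower.toAlgHom R S₀ S)
  obtain ⟨t, ht, φ, hφ⟩ := Groth.Agent.Lib.Helper22.SpreadIso.exists_lift_away W' ψ
  have htu : IsUnit (algebraMap S₁ S' t) := IsLocalization.map_units S' ⟨t, ht⟩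
  let χ : Localization.Away t →ₐ[S₁] S' :=
    IsLocalization.liftAlgHom (M := Submonoid.powers t) (f := Algebra.ofId S₁ S') (by
      rintro ⟨_, n, rfl⟩
      change IsUnit (algebraMap S₁ S' (t ^ n))
      rw [map_pow]
      exact htu.pow n)
  -- the algebra structures
  letI algCS' : Algebra (Localization.Away t) S' := χ.toRingHom.toAlgebra
  haveI tw1 : IsScalarTower S₁ (Localization.Away t) S' :=
    IsScalarTower.of_algebraMap_eq (fun x => (χ.commutes x).symm)
  letI algS₀C : Algebra S₀ (Localization.Away t) := φ.toRingHom.toAlgebra
  haveI tw2 : IsScalarTower R S₀ (Localization.Away t) :=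
    IsScalarTower.of_algebraMap_eq (fun r => (φ.commutes r).symm)
  letI algS₀S' : Algebra S₀ S' := ψ.toRingHom.toAlgebra
  haveI tw3 : IsScalarTower S₀ S S' := IsScalarTower.of_algebraMap_eq (fun x => rfl)
  haveI tw4 : IsScalarTower S₀ (Localization.Away t) S' :=
    IsScalarTower.of_algebraMap_eq (fun x => (hφ χ x).symm)
  -- finite presentation of `C` over `S₀`
  haveI fp1 : Algebra.FinitePresentation S₁ (Localization.Away t) :=
    IsLocalization.Away.finitePresentation t
  haveI fp2 : Algebra.FinitePresentation R (Localization.Away t) :=
    Algebra.FinitePresentation.trans R S₁ (Localization.Away t)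
  haveI fp3 : Algebra.FinitePresentation S₀ (Localization.Away t) :=
    Algebra.FinitePresentation.of_restrict_scalars_finitePresentation R S₀ (Localization.Away t)
  -- the localization `T`
  let WC : Submonoid (Localization.Away t) := Algebra.algebraMapSubmonoid (Localization.Away t) W
  let T := Localization WC
  letI algST : Algebra S T :=
    (IsLocalization.map (M := W) (T := WC) T (algebraMap S₀ (Localization.Away t))
      (Submonoid.le_comap_map W) : S →+* T).toAlgebra
  haveI tw5 : IsScalarTower S₀ S T := IsScalarTower.of_algebraMap_eq (fun x => by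
    have h := IsLocalization.map_eq (M := W) (S := S) (T := WC) (Q := T)
      (g := algebraMap S₀ (Localization.Away t)) (Submonoid.le_comap_map W) x
    exact (IsScalarTower.algebraMap_apply S₀ (Localization.Away t) T x).trans h.symm)
  haveI po : Algebra.IsPushout S₀ S (Localization.Away t) T :=
    (Algebra.isPushout_of_isLocalization W S (Localization.Away t) T).symm
  haveI fpT : Algebra.FinitePresentation S T :=
    finitePresentation_of_isPushout S₀ S (Localization.Away t) T
  -- the map `T → S'`
  have hunit : ∀ y : WC, IsUnit (algebraMap (Localization.Away t) S' y) := by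
    rintro ⟨_, w, hw, rfl⟩
    change IsUnit (algebraMap (Localization.Away t) S' (algebraMap S₀ (Localization.Away t) w))
    rw [← IsScalarTower.algebraMap_apply, IsScalarTower.algebraMap_apply S₀ S S']
    exact (IsLocalization.map_units S ⟨w, hw⟩).map _
  letI algTS' : Algebra T S' := (IsLocalization.lift (M := WC) hunit : T →+* S').toAlgebra
  haveI tw6 : IsScalarTower (Localization.Away t) T S' :=
    IsScalarTower.of_algebraMap_eq (fun x =>
      (IsLocalization.lift_eq (M := WC) (S := T) hunit x).symm)
  haveI tw7 : IsScalarTower S T S' := by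
    apply IsScalarTower.of_algebraMap_eq'
    apply IsLocalization.ringHom_ext W
    rw [← IsScalarTower.algebraMap_eq S₀ S S', RingHom.comp_assoc,
      ← IsScalarTower.algebraMap_eq S₀ S T,
      IsScalarTower.algebraMap_eq S₀ (Localization.Away t) T, ← RingHom.comp_assoc,
      ← IsScalarTower.algebraMap_eq (Localization.Away t) T S',
      ← IsScalarTower.algebraMap_eq S₀ (Localization.Away t) S']
  -- `S'` as a localization of `T`
  haveI l1 : IsLocalization (W'.map (algebraMap S₁ (Localization.Away t))) S' :=
    IsLocalization.isLocalization_of_submonoid_le (Localization.Away t) S' (Submonoid.powers t) W'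
      (Submonoid.powers_le.mpr ht)
  let N : Submonoid (Localization.Away t) :=
    (IsUnit.submonoid S').comap (algebraMap (Localization.Away t) S')
  haveI l2 : IsLocalization N S' := by
    refine IsLocalization.of_le (W'.map (algebraMap S₁ (Localization.Away t))) N ?_
      (fun r hr => hr)
    rintro _ ⟨w, hw, rfl⟩
    change IsUnit (algebraMap (Localization.Away t) S' (algebraMap S₁ (Localization.Away t) w))
    rw [← IsScalarTower.algebraMap_apply]
    exact IsLocalization.map_units S' ⟨w, hw⟩
  have hle : WC ≤ N := fun y hy => hunit ⟨y, hy⟩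
  haveI l3 : IsLocalization (N.map (algebraMap (Localization.Away t) T)) S' :=
    IsLocalization.isLocalization_of_submonoid_le T S' WC N hle
  exact ⟨T, inferInstance, algST, algTS', tw7, N.map (algebraMap (Localization.Away t) T), fpT, l3⟩

end Groth.Agent.Lib.Seat35.EssFPCancel
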