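import Mathlib
import Groth.Prelude.Def_FGA
import Groth.Prelude.Def_ArSurf

/-!
Helper library (seat 35): the cohomology groups `Coh.HH X M n` (as modules over a base ring), the
truncated Euler characteristic `FGA.eulerCharLE` and the degree `ArSurf.curveDeg` only depend on the
isomorphism class of the module.

(The linear equivalence is packaged in one theorem on purpose: every declaration that mentions both
`Coh.HH` and a freshly elaborated `Sheaf.H.map` is slow to check.)
-/

set_option autoImplicit false
universe u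
open CategoryTheory CategoryTheory.Limits AlgebraicGeometry Opposite TopologicalSpace

namespace Groth.Agent.Lib.Seat35.EulerIso

variable {X : Scheme.{u}}

/-- a morphism of modules commutes with multiplication by a global function -/
theorem smulAb_comm {M M' : X.Modules} (φ : M ⟶ M') (r : Coh.Γtop X) :
    Coh.smulAb M r ≫ (SheafOfModules.toSheaf X.ringCatSheaf).map φ =
      (SheafOfModules.toSheaf X.ringCatSheaf).map φ ≫ Coh.smulAb M' r := by
  ext U m
  exact (φ.val.app U).hom.map_smul (Coh.resTop X U r) m

/-- isomorphic modules have isomorphic cohomology (over the global functions) -/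
theorem nonempty_linearEquivΓ {M M' : X.Modules} (e : M ≅ M') (n : ℕ) :
    Nonempty (Coh.HH X M n ≃ₗ[Coh.Γtop X] Coh.HH X M' n) := by
  have hsm : ∀ {N N' : X.Modules} (φ : N ⟶ N') (r : Coh.Γtop X) (x : Coh.HH X N n),
      Sheaf.H.map ((SheafOfModules.toSheaf X.ringCatSheaf).map φ) n (r • x) =
        r • Sheaf.H.map ((SheafOfModules.toSheaf X.ringCatSheaf).map φ) n x := by
    intro N N' φ r x
    change Sheaf.H.map _ n (Sheaf.H.map (Coh.smulAb N r) n x) =
      Sheaf.H.map (Coh.smulAb N' r) n (Sheaf.H.map _ n x)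
    rw [← Sheaf.H.map_comp_apply, ← Sheaf.H.map_comp_apply, smulAb_comm]
  have h1 : (SheafOfModules.toSheaf X.ringCatSheaf).map e.hom ≫
      (SheafOfModules.toSheaf X.ringCatSheaf).map e.inv = 𝟙 _ :=
    ((SheafOfModules.toSheaf X.ringCatSheaf).mapIso e).hom_inv_id
  have h2 : (SheafOfModules.toSheaf X.ringCatSheaf).map e.inv ≫
      (SheafOfModules.toSheaf X.ringCatSheaf).map e.hom = 𝟙 _ :=
    ((SheafOfModules.toSheaf X.ringCatSheaf).mapIso e).inv_hom_id
  exact ⟨{
    toFun := Sheaf.H.map ((SheafOfModules.toSheaf X.ringCatSheaf).map e.hom) n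
    invFun := Sheaf.H.map ((SheafOfModules.toSheaf X.ringCatSheaf).map e.inv) n
    map_add' := fun x y => map_add _ x y
    map_smul' := fun r x => hsm e.hom r x
    left_inv := fun x => by
      change Sheaf.H.map _ n (Sheaf.H.map _ n x) = x
      rw [← Sheaf.H.map_comp_apply, h1, Sheaf.H.map_id_apply]
    right_inv := fun x => by
      change Sheaf.H.map _ n (Sheaf.H.map _ n x) = x
      rw [← Sheaf.H.map_comp_apply, h2, Sheaf.H.map_id_apply] }⟩

/-- isomorphic modules have isomorphic cohomology (over a base ring) -/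
theorem nonempty_linearEquiv (A : Type u) [CommRing A] (X : Scheme.{u})
    [X.Over (Spec (CommRingCat.of A))] {M M' : X.Modules} (e : M ≅ M') (n : ℕ) :
    Nonempty (Coh.HH X M n ≃ₗ[A] Coh.HH X M' n) := by
  obtain ⟨e'⟩ := nonempty_linearEquivΓ e n
  exact ⟨{
    toFun := e'
    invFun := e'.symm
    map_add' := fun x y => map_add _ x y
    map_smul' := fun r x => e'.map_smul (Coh.toGlobal (X ↘ Spec (CommRingCat.of A)) r) x
    left_inv := fun x => e'.left_inv x
    right_inv := fun x => e'.right_inv x }⟩

theorem finrank_HH_eq (k : Type u) [Field k] (X : Scheme.{u}) [X.Over (Spec (CommRingCat.of k))]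
    {M M' : X.Modules} (e : M ≅ M') (n : ℕ) :
    Module.finrank k (Coh.HH X M n) = Module.finrank k (Coh.HH X M' n) := by
  obtain ⟨e'⟩ := nonempty_linearEquiv k X e n
  exact e'.finrank_eq

theorem eulerCharLE_eq (k : Type u) [Field k] (X : Scheme.{u}) [X.Over (Spec (CommRingCat.of k))]
    {M M' : X.Modules} (e : M ≅ M') (d : ℕ) :
    FGA.eulerCharLE k X M d = FGA.eulerCharLE k X M' d := by
  unfold FGA.eulerCharLE
  refine Finset.sum_congr rfl fun i _ => ?_
  rw [finrank_HH_eq k X e i]

theorem curveDeg_eq (k : Type u) [Field k] (X : Scheme.{u}) [X.Over (Spec (CommRingCat.of k))]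
    {M M' : X.Modules} (e : M ≅ M') : ArSurf.curveDeg k X M = ArSurf.curveDeg k X M' := by
  unfold ArSurf.curveDeg
  rw [eulerCharLE_eq k X e 1]

theorem curveDeg_structure (k : Type u) [Field k] (X : Scheme.{u}) [X.Over (Spec (CommRingCat.of k))] :
    ArSurf.curveDeg k X (Coh.structureModule X) = 0 := by
  unfold ArSurf.curveDeg
  exact sub_self _

theorem curveDeg_eq_zero_of_iso (k : Type u) [Field k] (X : Scheme.{u})
    [X.Over (Spec (CommRingCat.of k))] {M : X.Modules} (e : M ≅ Coh.structureModule X) :
    ArSurf.curveDeg k X M = 0 := by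
  rw [curveDeg_eq k X e, curveDeg_structure]

end Groth.Agent.Lib.Seat35.EulerIso
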