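import Mathlib
import Groth.Prelude.Def_FlatCA

/-!
# Weakly associated primes: basic theory (Seat 6)

`FlatCA.weakAss R M` is the set of primes minimal over the annihilator of an element.
We prove: an elementwise characterization, compatibility with localization, behaviour in short
exact sequences / finite products, and pushforward along finite ring maps.
-/

set_option autoImplicit false

universe u v w

namespace Groth.Agent.Lib.Seat6.WeakAss

open FlatCA

section Basic

variable {R : Type u} [CommRing R] {M : Type v} [AddCommGroup M] [Module R M]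

theorem mem_ann_iff (m : M) (a : R) :
    a ∈ (Submodule.span R {m}).annihilator ↔ a • m = 0 :=
  Submodule.mem_annihilator_span_singleton m a

/-- `p` is minimal over `I` iff `I ≤ p` and every element of `p` is nilpotent modulo `I` locally
at `p`. -/
theorem mem_minimalPrimes_iff {I p : Ideal R} [hp : p.IsPrime] :
    I.IsMinimalPrime p ↔ I ≤ p ∧ ∀ x ∈ p, ∃ s ∉ p, ∃ n : ℕ, s * x ^ n ∈ I := by
  constructor
  · intro h
    refine ⟨h.1.2, fun x hx => ?_⟩
    classical
    let T : Submonoid R := p.primeCompl ⊔ Submonoid.powers x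
    by_contra hcon
    have hdisj : Disjoint (I : Set R) (T : Set R) := by
      rw [Set.disjoint_left]
      intro y hyI hyT
      obtain ⟨s, hs, t, ⟨n, rfl⟩, rfl⟩ := Submonoid.mem_sup.mp hyT
      exact hcon ⟨s, hs, n, hyI⟩
    obtain ⟨q, hq, hIq, hqT⟩ := Ideal.exists_le_prime_disjoint I T hdisj
    have hqp : q ≤ p := by
      intro y hy
      by_contra hyp
      exact Set.disjoint_left.mp hqT hy ((le_sup_left : p.primeCompl ≤ T) hyp)
    have hpq : p ≤ q := h.2 ⟨hq, hIq⟩ hqp
    exact Set.disjoint_left.mp hqT (hpq hx)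
      ((le_sup_right : Submonoid.powers x ≤ T) (Submonoid.mem_powers x))
  · rintro ⟨hI, h⟩
    refine ⟨⟨hp, hI⟩, fun q hq hqp x hx => ?_⟩
    obtain ⟨s, hs, n, hsn⟩ := h x hx
    have hq' := hq.1
    have h1 : s * x ^ n ∈ q := hq.2 hsn
    rcases hq'.mem_or_mem h1 with h2 | h2
    · exact absurd (hqp h2) hs
    · exact hq'.mem_of_pow_mem n h2

/-- Elementwise characterization of weakly associated primes. -/
theorem mem_weakAss_iff {p : Ideal R} [hp : p.IsPrime] :
    p ∈ weakAss R M ↔ ∃ m : M, (∀ a : R, a • m = 0 → a ∈ p) ∧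
      ∀ x ∈ p, ∃ s ∉ p, ∃ n : ℕ, (s * x ^ n) • m = 0 := by
  constructor
  · rintro ⟨m, hm⟩
    replace hm : (Submodule.span R {m}).annihilator.IsMinimalPrime p := hm
    rw [mem_minimalPrimes_iff] at hm
    refine ⟨m, fun a ha => hm.1 ((mem_ann_iff m a).2 ha), fun x hx => ?_⟩
    obtain ⟨s, hs, n, h⟩ := hm.2 x hx
    exact ⟨s, hs, n, (mem_ann_iff m _).1 h⟩
  · rintro ⟨m, h1, h2⟩
    refine ⟨m, ?_⟩
    show (Submodule.span R {m}).annihilator.IsMinimalPrime p
    refine mem_minimalPrimes_iff.2 ⟨fun a ha => h1 a ((mem_ann_iff m a).1 ha), fun x hx => ?_⟩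
    obtain ⟨s, hs, n, h⟩ := h2 x hx
    exact ⟨s, hs, n, (mem_ann_iff m _).2 h⟩

theorem isPrime_of_mem_weakAss {p : Ideal R} (h : p ∈ weakAss R M) : p.IsPrime := by
  obtain ⟨m, hm⟩ := h
  exact hm.1.1

/-- An injective linear map induces an inclusion of weakly associated primes. -/
theorem weakAss_subset_of_injective {N : Type w} [AddCommGroup N] [Module R N] (f : M →ₗ[R] N)
    (hf : Function.Injective f) : weakAss R M ⊆ weakAss R N := by
  intro p hp
  have := isPrime_of_mem_weakAss hp
  rw [mem_weakAss_iff] at hp ⊢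
  obtain ⟨m, h1, h2⟩ := hp
  refine ⟨f m, fun a ha => h1 a (hf (by rw [map_smul, ha, map_zero])), fun x hx => ?_⟩
  obtain ⟨s, hs, n, h⟩ := h2 x hx
  exact ⟨s, hs, n, by rw [← map_smul, h, map_zero]⟩

theorem weakAss_eq_of_linearEquiv {N : Type w} [AddCommGroup N] [Module R N] (e : M ≃ₗ[R] N) :
    weakAss R M = weakAss R N :=
  Set.Subset.antisymm (weakAss_subset_of_injective e.toLinearMap e.injective)
    (weakAss_subset_of_injective e.symm.toLinearMap e.symm.injective)

/-- Weakly associated primes in a short exact sequence (Stacks 0548). -/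
theorem weakAss_subset_union_of_exact {M' : Type w} {M'' : Type*} [AddCommGroup M'] [Module R M']
    [AddCommGroup M''] [Module R M''] (f : M' →ₗ[R] M) (g : M →ₗ[R] M'')
    (hf' : Function.Injective f) (hfg : Function.Exact f g) :
    weakAss R M ⊆ weakAss R M' ∪ weakAss R M'' := by
  intro p hp
  have hpp := isPrime_of_mem_weakAss hp
  rw [mem_weakAss_iff] at hp
  obtain ⟨m, h1, h2⟩ := hp
  by_cases hcase : ∀ a : R, a • g m = 0 → a ∈ p
  · right
    rw [mem_weakAss_iff]
    refine ⟨g m, hcase, fun x hx => ?_⟩
    obtain ⟨s, hs, n, h⟩ := h2 x hx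
    exact ⟨s, hs, n, by rw [← map_smul, h, map_zero]⟩
  · left
    push Not at hcase
    obtain ⟨a, ha, hap⟩ := hcase
    have : g (a • m) = 0 := by rw [map_smul, ha]
    obtain ⟨m', hm'⟩ := (hfg (a • m)).1 this
    rw [mem_weakAss_iff]
    refine ⟨m', fun b hb => ?_, fun x hx => ?_⟩
    · have : (b * a) • m = 0 := by
        rw [mul_smul, ← hm', ← map_smul, hb, map_zero]
      rcases hpp.mem_or_mem (h1 _ this) with h | h
      · exact h
      · exact absurd h hap
    · obtain ⟨s, hs, n, h⟩ := h2 x hx
      refine ⟨s, hs, n, hf' ?_⟩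
      rw [map_smul, hm', map_zero, smul_comm, h, smul_zero]

/-- Weakly associated primes of a finite power are weakly associated primes of the module. -/
theorem weakAss_pi_fin_subset (n : ℕ) : weakAss R (Fin n → M) ⊆ weakAss R M := by
  induction n with
  | zero =>
    intro p hp
    obtain ⟨m, hm⟩ := hp
    have hm0 : m = 0 := Subsingleton.elim _ _
    subst hm0
    have htop : (Submodule.span R {(0 : Fin 0 → M)}).annihilator = ⊤ := by
      simp
    rw [htop] at hm
    exact absurd (top_le_iff.mp hm.1.2) hm.1.1.ne_top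
  | succ n ih =>
    let f : M →ₗ[R] (Fin (n + 1) → M) := LinearMap.single R (fun _ => M) 0
    let g : (Fin (n + 1) → M) →ₗ[R] (Fin n → M) :=
      LinearMap.pi (fun i => LinearMap.proj (i.succ))
    have hf : Function.Injective f := by
      intro a b hab
      have := congrFun hab 0
      simpa [f] using this
    have hfg : Function.Exact f g := by
      intro x
      constructor
      · intro hx
        refine ⟨x 0, ?_⟩
        funext i
        refine Fin.cases ?_ (fun j => ?_) i
        · simp [f]
        · have : x j.succ = 0 := congrFun hx j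
          simp [f, this, Fin.succ_ne_zero]
      · rintro ⟨m, rfl⟩
        funext j
        simp [f, g, Fin.succ_ne_zero]
    intro p hp
    rcases weakAss_subset_union_of_exact f g hf hfg hp with h | h
    · exact h
    · exact ih h

end Basic

section Localization

variable {R : Type u} [CommRing R] (S : Submonoid R) (R' : Type v) [CommRing R'] [Algebra R R']
  [IsLocalization S R'] {M : Type w} {M' : Type*} [AddCommGroup M] [Module R M] [AddCommGroup M']
  [Module R M'] [Module R' M'] [IsScalarTower R R' M'] (f : M →ₗ[R] M') [IsLocalizedModule S f]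

include S in
theorem algebraMap_mem_of_mul_mem {p' : Ideal R'} [hp' : p'.IsPrime] {a' : R'} (t : S)
    (h : a' * algebraMap R R' t ∈ p') : a' ∈ p' := by
  rcases hp'.mem_or_mem h with h | h
  · exact h
  · exact absurd (p'.eq_top_of_isUnit_mem h (IsLocalization.map_units R' t)) hp'.ne_top

include S in
theorem notMem_comap_of_mem {p' : Ideal R'} [hp' : p'.IsPrime] (t : S) :
    (t : R) ∉ p'.comap (algebraMap R R') := fun h =>
  hp'.ne_top (p'.eq_top_of_isUnit_mem h (IsLocalization.map_units R' t))

include S f in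
/-- Weakly associated primes and localization (Stacks 05C9). -/
theorem mem_weakAss_localization_iff (p' : Ideal R') [hp' : p'.IsPrime] :
    p' ∈ weakAss R' M' ↔ p'.comap (algebraMap R R') ∈ weakAss R M := by
  have hpp : (p'.comap (algebraMap R R')).IsPrime := Ideal.comap_isPrime _ _
  rw [mem_weakAss_iff, mem_weakAss_iff]
  constructor
  · rintro ⟨m', h1, h2⟩
    obtain ⟨⟨m, t⟩, hmt⟩ := IsLocalizedModule.surj S f m'
    simp only at hmt
    refine ⟨m, fun a ha => ?_, fun x hx => ?_⟩
    · have h3 : (algebraMap R R' a * algebraMap R R' t) • m' = 0 := by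
        rw [mul_smul, algebraMap_smul, algebraMap_smul, ← Submonoid.smul_def, hmt, ← map_smul, ha,
          map_zero]
      exact algebraMap_mem_of_mul_mem S R' t (h1 _ h3)
    · obtain ⟨s', hs', n, h⟩ := h2 (algebraMap R R' x) hx
      obtain ⟨⟨a, u⟩, hau⟩ := IsLocalization.surj S s'
      simp only at hau
      have ha : a ∉ p'.comap (algebraMap R R') := by
        intro ha
        rw [Ideal.mem_comap, ← hau] at ha
        exact hs' (algebraMap_mem_of_mul_mem S R' u ha)
      have h5 : (a * x ^ n) • m' = 0 := by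
        rw [← algebraMap_smul R' (a * x ^ n) m', map_mul, map_pow, ← hau, mul_right_comm,
          mul_comm, mul_smul, h, smul_zero]
      have h4 : f ((a * x ^ n) • m) = 0 := by
        rw [map_smul, ← hmt, Submonoid.smul_def, smul_comm, h5, smul_zero]
      obtain ⟨c, hc⟩ := (IsLocalizedModule.eq_zero_iff S f).1 h4
      refine ⟨c * a, fun hca => ?_, n, ?_⟩
      · rcases hpp.mem_or_mem hca with h | h
        · exact notMem_comap_of_mem S R' c h
        · exact ha h
      · rw [mul_assoc, mul_smul]
        exact hc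
  · rintro ⟨m, h1, h2⟩
    refine ⟨f m, fun a' ha' => ?_, fun x' hx' => ?_⟩
    · obtain ⟨⟨a, u⟩, hau⟩ := IsLocalization.surj S a'
      simp only at hau
      have h3 : f (a • m) = 0 := by
        rw [map_smul, ← algebraMap_smul R' a (f m), ← hau, mul_comm, mul_smul, ha', smul_zero]
      obtain ⟨c, hc⟩ := (IsLocalizedModule.eq_zero_iff S f).1 h3
      have h4 : (c : R) * a ∈ p'.comap (algebraMap R R') := h1 _ (by rw [mul_smul]; exact hc)
      have h5 : a ∈ p'.comap (algebraMap R R') := by
        rcases hpp.mem_or_mem h4 with h | h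
        · exact absurd h (notMem_comap_of_mem S R' c)
        · exact h
      rw [Ideal.mem_comap, ← hau] at h5
      exact algebraMap_mem_of_mul_mem S R' u h5
    · obtain ⟨⟨x, u⟩, hxu⟩ := IsLocalization.surj S x'
      simp only at hxu
      have hx : x ∈ p'.comap (algebraMap R R') := by
        rw [Ideal.mem_comap, ← hxu]
        exact p'.mul_mem_right _ hx'
      obtain ⟨s, hs, n, h⟩ := h2 x hx
      refine ⟨algebraMap R R' s, hs, n, ?_⟩
      have hu : IsUnit ((algebraMap R R' u) ^ n) := (IsLocalization.map_units R' u).pow n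
      have h6 : ((algebraMap R R' u) ^ n) • ((algebraMap R R' s * x' ^ n) • f m) = 0 := by
        rw [← mul_smul, mul_left_comm, ← mul_pow, mul_comm (algebraMap R R' u), hxu, ← map_pow,
          ← map_mul, algebraMap_smul, ← map_smul, h, map_zero]
      obtain ⟨v, hv⟩ := hu
      rw [← hv] at h6
      have := congrArg (fun z => (↑v⁻¹ : R') • z) h6
      simpa [← mul_smul] using this

/-- `p` is weakly associated to `M` iff the maximal ideal of `R_p` is weakly associated to `M_p`. -/
theorem mem_weakAss_iff_maximalIdeal_localization (p : Ideal R) [hp : p.IsPrime]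
    (M : Type w) [AddCommGroup M] [Module R M] :
    p ∈ weakAss R M ↔ IsLocalRing.maximalIdeal (Localization.AtPrime p) ∈
      weakAss (Localization.AtPrime p) (LocalizedModule p.primeCompl M) := by
  rw [mem_weakAss_localization_iff p.primeCompl (Localization.AtPrime p)
    (LocalizedModule.mkLinearMap p.primeCompl M)]
  have : (IsLocalRing.maximalIdeal (Localization.AtPrime p)).comap
      (algebraMap R (Localization.AtPrime p)) = p := Localization.AtPrime.under_maximalIdeal
  rw [this]

end Localization

section Finite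

variable {R : Type u} {S : Type v} [CommRing R] [CommRing S] [Algebra R S]
  {N : Type w} [AddCommGroup N] [Module S N] [Module R N] [IsScalarTower R S N]

/-- If `K` is an ideal of a finite `R`-algebra `S` not contained in any prime of `S` over `p`,
then `K` contains the image of an element of `R` outside `p`. -/
theorem exists_notMem_algebraMap_mem [Algebra.IsIntegral R S] (p : Ideal R) [hp : p.IsPrime]
    (K : Ideal S) (hK : ∀ Q : Ideal S, Q.IsPrime → Q.comap (algebraMap R S) = p → ¬ K ≤ Q) :
    ∃ r : R, r ∉ p ∧ algebraMap R S r ∈ K := by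
  by_contra hcon
  push Not at hcon
  have hle : K.comap (algebraMap R S) ≤ p := by
    intro r hr
    by_contra hrp
    exact hcon r hrp hr
  obtain ⟨Q, hKQ, hQ, hQp⟩ := Ideal.exists_ideal_over_prime_of_isIntegral p K hle
  exact hK Q hQ hQp hKQ

/-- Pushforward of weakly associated primes along a finite ring map (Stacks 05C4, hard inclusion). -/
theorem comap_mem_weakAss_of_finite [Module.Finite R S] {q : Ideal S} (hq : q ∈ weakAss S N) :
    q.comap (algebraMap R S) ∈ weakAss R N := by
  classical
  have hqp : q.IsPrime := isPrime_of_mem_weakAss hq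
  set p : Ideal R := q.comap (algebraMap R S) with hp_def
  have hpp : p.IsPrime := Ideal.comap_isPrime _ _
  rw [mem_weakAss_iff] at hq ⊢
  obtain ⟨m, h1, h2⟩ := hq
  -- the other primes over `p`
  have hfin : (p.primesOver S).Finite := Algebra.QuasiFinite.finite_primesOver p
  let F : Finset (Ideal S) := hfin.toFinset.erase q
  have hF : ∀ Q ∈ F, Q.IsPrime ∧ Q.comap (algebraMap R S) = p ∧ Q ≠ q := by
    intro Q hQ
    rw [Finset.mem_erase, Set.Finite.mem_toFinset] at hQ
    exact ⟨hQ.2.1, hQ.2.2.over.symm, hQ.1⟩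
  -- prime avoidance
  have havoid : ¬ ((q : Set S) ⊆ ⋃ Q ∈ (F : Set (Ideal S)), (Q : Set S)) := by
    intro hsub
    have := (Ideal.subset_union_prime (s := F) (f := fun Q => Q) q q
      (fun Q hQ _ _ => (hF Q hQ).1)).1 hsub
    obtain ⟨Q, hQF, hqQ⟩ := this
    obtain ⟨hQ1, hQ2, hQ3⟩ := hF Q hQF
    exact hQ3 (Algebra.QuasiFinite.eq_of_le_of_under_eq (R := R) q Q hqQ
      (by rw [Ideal.under_def, Ideal.under_def, hQ2])).symm
  rw [Set.not_subset] at havoid
  obtain ⟨x, hxq, hxF⟩ := havoid
  have hxF' : ∀ Q ∈ F, x ∉ Q := by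
    intro Q hQ hxQ
    exact hxF (Set.mem_biUnion (Finset.mem_coe.2 hQ) hxQ)
  obtain ⟨y, hy, t, hyt⟩ := h2 x hxq
  refine ⟨y • m, fun a ha => ?_, fun f hf => ?_⟩
  · have h3 : (algebraMap R S a * y) • m = 0 := by
      rw [mul_smul, algebraMap_smul]; exact ha
    rcases hqp.mem_or_mem (h1 _ h3) with h | h
    · exact h
    · exact absurd h hy
  · obtain ⟨s, hs, n, hsn⟩ := h2 (algebraMap R S f) hf
    let z : N := (algebraMap R S f) ^ n • y • m
    let K : Ideal S := (Submodule.span S {z}).annihilator
    have hsK : s ∈ K := by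
      rw [mem_ann_iff]
      show s • (algebraMap R S f) ^ n • y • m = 0
      rw [← mul_smul, smul_comm, hsn, smul_zero]
    have hxK : x ^ t ∈ K := by
      rw [mem_ann_iff]
      show x ^ t • (algebraMap R S f) ^ n • y • m = 0
      rw [smul_comm, ← mul_smul (x ^ t), mul_comm, hyt, smul_zero]
    obtain ⟨r, hr, hrK⟩ := exists_notMem_algebraMap_mem p K (by
      intro Q hQ hQp hKQ
      by_cases hQq : Q = q
      · subst hQq
        exact hs (hKQ hsK)
      · have hQF : Q ∈ F := by
          rw [Finset.mem_erase, Set.Finite.mem_toFinset]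
          exact ⟨hQq, hQ, ⟨hQp.symm⟩⟩
        exact hxF' Q hQF (hQ.mem_of_pow_mem t (hKQ hxK)))
    refine ⟨r, hr, n, ?_⟩
    rw [mem_ann_iff] at hrK
    rw [mul_smul, ← algebraMap_smul S (f ^ n), map_pow, ← algebraMap_smul S r]
    exact hrK

end Finite

end Groth.Agent.Lib.Seat6.WeakAss
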