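import Mathlib
import Groth.Prelude.Def_FlatCA
import Groth.Agent.Lib.Seat6WeakAss

/-!
# Weakly associated primes and base change (Seat 6)

* `mem_weakAss_baseChange_of_flat`: for `A → B` flat, `p ∈ WeakAss_A(M)` and a prime `t` of `B`
  over `p` which is minimal among primes over `p` below it: `t ∈ WeakAss_B(B ⊗_A M)`.
* `comap_mem_weakAss_of_finite_flat`: for `A → B` finite flat, `t ∈ WeakAss_B(B ⊗_A M)` implies
  `t ∩ A ∈ WeakAss_A(M)`.
* `mem_weakAss_tensor_localization_iff`: localizing the algebra `B`.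
-/

set_option autoImplicit false

universe u v w

namespace Groth.Agent.Lib.Seat6.WeakAss

open FlatCA TensorProduct

section FlatUp

variable {A : Type u} {B : Type v} [CommRing A] [CommRing B] [Algebra A B]
  (M : Type w) [AddCommGroup M] [Module A M]

/-- For a flat `A`-algebra `B`, if `b ⊗ m = 0` in `B ⊗_A M` then `b ∈ Ann(m) B`. -/
theorem mem_map_ann_of_tmul_eq_zero [Module.Flat A B] (m : M) (b : B) (h : b ⊗ₜ[A] m = 0) :
    b ∈ ((Submodule.span A {m}).annihilator).map (algebraMap A B) := by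
  set I : Ideal A := (Submodule.span A {m}).annihilator with hI
  -- the injective map A/I → M
  let φ : (A ⧸ I) →ₗ[A] M := Submodule.liftQ I (LinearMap.toSpanSingleton A M m) (by
    intro a ha
    rw [LinearMap.mem_ker, LinearMap.toSpanSingleton_apply]
    exact (mem_ann_iff m a).1 ha)
  have hφ : Function.Injective φ := by
    rw [← LinearMap.ker_eq_bot, Submodule.ker_liftQ_eq_bot']
    ext a
    rw [LinearMap.mem_ker, LinearMap.toSpanSingleton_apply]
    exact (mem_ann_iff m a)
  have hinj : Function.Injective (LinearMap.lTensor B φ) :=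
    Module.Flat.lTensor_preserves_injective_linearMap φ hφ
  have h1 : (LinearMap.lTensor B φ) (b ⊗ₜ[A] (Submodule.Quotient.mk (1 : A) : A ⧸ I)) = 0 := by
    rw [LinearMap.lTensor_tmul]
    have : φ (Submodule.Quotient.mk (1 : A)) = m := by
      show (Submodule.liftQ I (LinearMap.toSpanSingleton A M m) _) (Submodule.Quotient.mk (1 : A)) = m
      rw [Submodule.liftQ_apply, LinearMap.toSpanSingleton_apply, one_smul]
    rw [this, h]
  have h2 : b ⊗ₜ[A] (Submodule.Quotient.mk (1 : A) : A ⧸ I) = 0 := hinj (by rw [h1, map_zero])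
  have h3 := congrArg (TensorProduct.tensorQuotEquivQuotSMul B I) h2
  rw [map_zero] at h3
  have h4 : (TensorProduct.tensorQuotEquivQuotSMul B I)
      (b ⊗ₜ[A] (Submodule.Quotient.mk (1 : A) : A ⧸ I)) =
      Submodule.Quotient.mk b := by
    have := TensorProduct.tensorQuotEquivQuotSMul_tmul_mk (M := B) I b (1 : A)
    simpa using this
  rw [h4, Submodule.Quotient.mk_eq_zero, Ideal.smul_top_eq_map] at h3
  exact h3

/-- Going up for weakly associated primes along a flat ring map, at primes which are minimal in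
their fibre (Stacks 05DB-type statement, the easy direction). -/
theorem mem_weakAss_baseChange_of_flat [Module.Flat A B] {p : Ideal A} (t : Ideal B)
    [ht : t.IsPrime] (htp : t.comap (algebraMap A B) = p)
    (hinc : ∀ t' : Ideal B, t'.IsPrime → t' ≤ t → t'.comap (algebraMap A B) = p → t' = t)
    (hp : p ∈ weakAss A M) : t ∈ weakAss B (B ⊗[A] M) := by
  obtain ⟨m, hm⟩ := hp
  set I : Ideal A := (Submodule.span A {m}).annihilator with hI
  replace hm : I.IsMinimalPrime p := hm
  refine ⟨(1 : B) ⊗ₜ[A] m, ?_⟩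
  show ((Submodule.span B {(1 : B) ⊗ₜ[A] m}).annihilator).IsMinimalPrime t
  have hIt : I.map (algebraMap A B) ≤ t := by
    rw [Ideal.map_le_iff_le_comap, htp]; exact hm.1.2
  have hJt : (Submodule.span B {(1 : B) ⊗ₜ[A] m}).annihilator ≤ t := by
    intro b hb
    rw [mem_ann_iff, TensorProduct.smul_tmul', smul_eq_mul, mul_one] at hb
    exact hIt (mem_map_ann_of_tmul_eq_zero M m b hb)
  refine ⟨⟨ht, hJt⟩, fun t' ht' ht't => ?_⟩
  have hIt' : I.map (algebraMap A B) ≤ t' := by
    refine le_trans ?_ ht'.2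
    rw [Ideal.map_le_iff_le_comap]
    intro a ha
    rw [Ideal.mem_comap, mem_ann_iff, algebraMap_smul, ← TensorProduct.tmul_smul,
      (mem_ann_iff m a).1 ha, TensorProduct.tmul_zero]
  have hpr : (t'.comap (algebraMap A B)).IsPrime := by
    have := ht'.1
    exact Ideal.comap_isPrime _ _
  have h1 : t'.comap (algebraMap A B) ≤ p := by
    rw [← htp]; exact Ideal.comap_mono ht't
  have h2 : p ≤ t'.comap (algebraMap A B) :=
    hm.2 ⟨hpr, Ideal.map_le_iff_le_comap.1 hIt'⟩ h1
  exact (hinc t' ht'.1 ht't (le_antisymm h1 h2)).ge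

end FlatUp

section FiniteFlat

variable {A : Type u} {B : Type v} [CommRing A] [CommRing B] [Algebra A B]
  (M : Type w) [AddCommGroup M] [Module A M]

/-- For a finite flat `A`-module `P` (here an algebra `B`), the weakly associated primes of
`B ⊗_A M` as an `A`-module are weakly associated primes of `M`. -/
theorem weakAss_tensor_subset_of_finite_flat [Module.Finite A B] [Module.Flat A B] :
    weakAss A (B ⊗[A] M) ⊆ weakAss A M := by
  classical
  intro p hp
  have hpp : p.IsPrime := isPrime_of_mem_weakAss hp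
  let Ap := Localization.AtPrime p
  -- localize `B ⊗ M`
  have hloc1 : IsLocalizedModule p.primeCompl (TensorProduct.mk A Ap (B ⊗[A] M) 1) :=
    (isLocalizedModule_iff_isBaseChange p.primeCompl Ap _).2 (TensorProduct.isBaseChange A _ Ap)
  have hcomap : (IsLocalRing.maximalIdeal Ap).comap (algebraMap A Ap) = p :=
    Localization.AtPrime.under_maximalIdeal
  have h1 : IsLocalRing.maximalIdeal Ap ∈ weakAss Ap (Ap ⊗[A] (B ⊗[A] M)) := by
    rw [mem_weakAss_localization_iff p.primeCompl Ap (TensorProduct.mk A Ap (B ⊗[A] M) 1), hcomap]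
    exact hp
  -- identify with a finite power of `Ap ⊗ M`
  let e1 : Ap ⊗[A] (B ⊗[A] M) ≃ₗ[Ap] (Ap ⊗[A] B) ⊗[Ap] (Ap ⊗[A] M) :=
    TensorProduct.AlgebraTensorModule.distribBaseChange A Ap B M
  have : Module.Free Ap (Ap ⊗[A] B) := Module.free_of_flat_of_isLocalRing
  let bas := Module.finBasis Ap (Ap ⊗[A] B)
  let e2 : (Ap ⊗[A] B) ≃ₗ[Ap] (Fin (Module.finrank Ap (Ap ⊗[A] B)) → Ap) := bas.equivFun
  let e3 : (Ap ⊗[A] B) ⊗[Ap] (Ap ⊗[A] M) ≃ₗ[Ap]
      (Fin (Module.finrank Ap (Ap ⊗[A] B)) → Ap) ⊗[Ap] (Ap ⊗[A] M) :=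
    LinearEquiv.rTensor (Ap ⊗[A] M) e2
  let e4 : (Fin (Module.finrank Ap (Ap ⊗[A] B)) → Ap) ⊗[Ap] (Ap ⊗[A] M) ≃ₗ[Ap]
      (Ap ⊗[A] M) ⊗[Ap] (Fin (Module.finrank Ap (Ap ⊗[A] B)) → Ap) := TensorProduct.comm _ _ _
  let e5 : (Ap ⊗[A] M) ⊗[Ap] (Fin (Module.finrank Ap (Ap ⊗[A] B)) → Ap) ≃ₗ[Ap]
      (Fin (Module.finrank Ap (Ap ⊗[A] B)) → (Ap ⊗[A] M)) :=
    TensorProduct.piScalarRight Ap Ap (Ap ⊗[A] M) _
  have h2 : IsLocalRing.maximalIdeal Ap ∈ weakAss Ap
      (Fin (Module.finrank Ap (Ap ⊗[A] B)) → (Ap ⊗[A] M)) := by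
    rw [← weakAss_eq_of_linearEquiv (((e1.trans e3).trans e4).trans e5)]
    exact h1
  have h3 : IsLocalRing.maximalIdeal Ap ∈ weakAss Ap (Ap ⊗[A] M) := weakAss_pi_fin_subset _ h2
  have hloc2 : IsLocalizedModule p.primeCompl (TensorProduct.mk A Ap M 1) :=
    (isLocalizedModule_iff_isBaseChange p.primeCompl Ap _).2 (TensorProduct.isBaseChange A _ Ap)
  rw [mem_weakAss_localization_iff p.primeCompl Ap (TensorProduct.mk A Ap M 1), hcomap] at h3
  exact h3

/-- Finite flat descent of weakly associated primes. -/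
theorem comap_mem_weakAss_of_finite_flat [Module.Finite A B] [Module.Flat A B] {t : Ideal B}
    (ht : t ∈ weakAss B (B ⊗[A] M)) : t.comap (algebraMap A B) ∈ weakAss A M :=
  weakAss_tensor_subset_of_finite_flat M (comap_mem_weakAss_of_finite ht)

end FiniteFlat

section LocalizeAlgebra

variable {A : Type u} {B : Type v} [CommRing A] [CommRing B] [Algebra A B]
  (S : Submonoid B) (B' : Type w) [CommRing B'] [Algebra B B'] [Algebra A B'] [IsScalarTower A B B']
  [IsLocalization S B'] (M : Type*) [AddCommGroup M] [Module A M]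

include S in
/-- Localizing the algebra: for `B' = S⁻¹B`, a prime `u'` of `B'` is weakly associated to
`B' ⊗_A M` iff its contraction to `B` is weakly associated to `B ⊗_A M`. -/
theorem mem_weakAss_tensor_localization_iff (u' : Ideal B') [hu' : u'.IsPrime] :
    u' ∈ weakAss B' (B' ⊗[A] M) ↔ u'.comap (algebraMap B B') ∈ weakAss B (B ⊗[A] M) := by
  have hloc : IsLocalizedModule S (TensorProduct.mk B B' (B ⊗[A] M) 1) :=
    (isLocalizedModule_iff_isBaseChange S B' _).2 (TensorProduct.isBaseChange B _ B')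
  rw [← mem_weakAss_localization_iff S B' (TensorProduct.mk B B' (B ⊗[A] M) 1)]
  rw [weakAss_eq_of_linearEquiv
    (TensorProduct.AlgebraTensorModule.cancelBaseChange A B B' B' M)]

end LocalizeAlgebra

end Groth.Agent.Lib.Seat6.WeakAss
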