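import Mathlib
import Groth.Prelude.Def_FlatCA
import Groth.Agent.Lib.Seat30FlatAt
import Groth.Agent.Lib.Seat6WeakAssBC
import Groth.Agent.Lib.Helper18StdEtaleCover

/-!
# Descent of flatness at primes (Seat 35)
-/

set_option autoImplicit false
set_option linter.unusedSectionVars false
set_option linter.style.haveILetI false

universe u

namespace Groth.Agent.Lib.Seat35.FlatDescent

open TensorProduct Groth.Agent.Lib.Seat30.FlatAt

section Torsion

variable {R S : Type u} [CommRing R] [CommRing S] [Algebra R S] (W : Submonoid S)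
  {M : Type u} [AddCommGroup M] [Module S M] [Module R M] [IsScalarTower R S M]

/-- Torsion criterion for flatness of a localized module over the base ring. -/
theorem flat_localizedModule_of_torsion
    (H : ∀ (N P : Type u) [AddCommGroup N] [AddCommGroup P] [Module R N] [Module R P]
      (ι : N →ₗ[R] P), Function.Injective ι → ∀ k : M ⊗[R] N, ι.lTensor M k = 0 →
        ∃ s : W, (s : S) • k = 0) : Module.Flat R (LocalizedModule W M) := by
  rw [Module.Flat.iff_lTensor_preserves_injective_linearMap'.{u}]
  intro N P _ _ _ _ ι hι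
  let g := LocalizedModule.mkLinearMap W M
  have h1 := IsLocalizedModule.map_lTensor (R := R) S W ι g
  rw [← AlgebraTensorModule.coe_lTensor (A := S), ← h1, map_injective_iff]
  rintro k ⟨v, hv⟩
  have hk : ι.lTensor M ((v : S) • k) = 0 := by
    have := map_smul (AlgebraTensorModule.lTensor S M ι) (v : S) k
    rw [AlgebraTensorModule.coe_lTensor] at this
    rw [this]
    exact hv
  obtain ⟨s, hs⟩ := H N P ι hι _ hk
  refine ⟨s * v, ?_⟩
  change ((s : S) * (v : S)) • k = 0
  rw [mul_smul]
  exact hs

end Torsion

section FlatAlgebra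

variable {R S B : Type u} [CommRing R] [CommRing S] [CommRing B] [Algebra R S] [Algebra S B]
  [Algebra R B] [IsScalarTower R S B] [Module.Flat S B]
  {M : Type u} [AddCommGroup M] [Module S M] [Module R M] [IsScalarTower R S M]

/-- If `B` is a flat `S`-algebra in which `q` does not generate the unit ideal and `B ⊗_S M` is
`R`-flat, then kernels of `M ⊗_R ι` (for `ι` injective) are killed by elements outside `q`. -/
theorem exists_smul_eq_zero_of_flat_algebra (q : Ideal S)
    (hq : q.map (algebraMap S B) ≠ ⊤) [Module.Flat R (B ⊗[S] M)]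
    {N P : Type u} [AddCommGroup N] [AddCommGroup P] [Module R N] [Module R P]
    (ι : N →ₗ[R] P) (hι : Function.Injective ι) (k : M ⊗[R] N) (hk : ι.lTensor M k = 0) :
    ∃ s : S, s ∉ q ∧ s • k = 0 := by
  let e := fun (Q : Type u) [AddCommGroup Q] [Module R Q] =>
    AlgebraTensorModule.assoc R S B B M Q
  have hnat : ∀ y : (B ⊗[S] M) ⊗[R] N,
      e P (ι.lTensor (B ⊗[S] M) y) =
        (AlgebraTensorModule.lTensor S M ι).lTensor B (e N y) := by
    intro y
    induction y with
    | zero => simp
    | add x y hx hy => simp only [map_add, hx, hy]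
    | tmul x n =>
      induction x with
      | zero => simp
      | add x y hx hy => simp only [TensorProduct.add_tmul, map_add, hx, hy]
      | tmul b m => simp [e]
  have hz : (1 : B) ⊗ₜ[S] k = 0 := by
    have h1 : ι.lTensor (B ⊗[S] M) ((e N).symm ((1 : B) ⊗ₜ[S] k)) = 0 := by
      apply (e P).injective
      rw [hnat, LinearEquiv.apply_symm_apply, map_zero, LinearMap.lTensor_tmul]
      have : (AlgebraTensorModule.lTensor S M ι) k = 0 := by
        rw [← hk]
        rfl
      rw [this, TensorProduct.tmul_zero]
    have h2 : (e N).symm ((1 : B) ⊗ₜ[S] k) = 0 :=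
      (Module.Flat.lTensor_preserves_injective_linearMap ι hι) (by rw [h1, map_zero])
    have := congrArg (e N) h2
    rwa [LinearEquiv.apply_symm_apply, map_zero] at this
  have h1 := Groth.Agent.Lib.Seat6.WeakAss.mem_map_ann_of_tmul_eq_zero (M ⊗[R] N) k (1 : B) hz
  by_contra hcon
  push Not at hcon
  apply hq
  rw [Ideal.eq_top_iff_one]
  have hle : (Submodule.span S {k}).annihilator ≤ q := by
    intro s hs
    by_contra hsq
    exact hsq (by
      by_contra h'
      exact absurd ((Submodule.mem_annihilator_span_singleton k s).1 hs) (hcon s h'))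
  exact Ideal.map_mono hle h1

end FlatAlgebra

section TransLoc

/-- Transitivity of flatness through a prime at which the intermediate ring is flat. -/
theorem flat_of_flat_of_localization_flat {R R' : Type u} [CommRing R] [CommRing R']
    [Algebra R R'] (p' : Ideal R') [p'.IsPrime] [Module.Flat R (Localization.AtPrime p')]
    (Y : Type u) [AddCommGroup Y] [Module R' Y] [Module R Y] [IsScalarTower R R' Y]
    [Module.Flat R' Y] (hbij : ∀ s ∉ p', Function.Bijective (fun y : Y => s • y)) :
    Module.Flat R Y := by
  haveI : IsLocalizedModule p'.primeCompl (LinearMap.id : Y →ₗ[R'] Y) :=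
    { map_units := fun s => (Module.End.isUnit_iff _).2 (hbij s s.2)
      surj := fun y => ⟨(y, 1), by simp⟩
      exists_of_eq := fun h => ⟨1, by simpa using h⟩ }
  haveI : IsLocalizedModule p'.primeCompl
      (TensorProduct.mk R' (Localization.AtPrime p') Y 1) :=
    (isLocalizedModule_iff_isBaseChange p'.primeCompl (Localization.AtPrime p') _).2
      (TensorProduct.isBaseChange R' Y (Localization.AtPrime p'))
  let e : Y ≃ₗ[R'] (Localization.AtPrime p') ⊗[R'] Y :=
    IsLocalizedModule.linearEquiv p'.primeCompl LinearMap.id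
      (TensorProduct.mk R' (Localization.AtPrime p') Y 1)
  haveI : Module.Flat R ((Localization.AtPrime p') ⊗[R'] Y) :=
    Module.Flat.trans R (Localization.AtPrime p') _
  exact Module.Flat.of_linearEquiv (e.restrictScalars R)

end TransLoc

section Main

open Groth.Agent.Lib.Helper18StdEtaleCover in
/-- Descent of flatness at primes over a pair of ideals. -/
theorem flatAt_descent {R S R' S' : Type u} [CommRing R] [CommRing S] [CommRing R'] [CommRing S']
    [Algebra R S] [Algebra R R'] [Algebra S S'] [Algebra R' S'] [Algebra R S'] [IsScalarTower R S S']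
    [IsScalarTower R R' S'] [Algebra.IsPushout R S R' S']
    (I : Ideal R) (I' : Ideal R') (hII' : I.map (algebraMap R R') ≤ I')
    {M M' : Type u} [AddCommGroup M] [Module S M] [Module R M] [IsScalarTower R S M]
    [AddCommGroup M'] [Module S' M'] [Module R' M'] [IsScalarTower R' S' M'] [Module S M']
    [IsScalarTower S S' M']
    (f : M →ₗ[S] M') (hf : IsBaseChange S' f) (J : Ideal S)
    (hsurj : ∀ (p : Ideal R) [p.IsPrime], I ≤ p →
      ∃ (p' : Ideal R') (_ : p'.IsPrime), I' ≤ p' ∧ p'.comap (algebraMap R R') = p)
    (hflat : ∀ (p' : Ideal R') [p'.IsPrime], I' ≤ p' → Module.Flat R (Localization.AtPrime p'))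
    (h : (∀ (q : Ideal S') [q.IsPrime],
      I'.map (algebraMap R' S') ⊔ J.map (algebraMap S S') ≤ q → FlatCA.FlatAt R' q M'))
    (q : Ideal S) [q.IsPrime] (hq : I.map (algebraMap R S) ⊔ J ≤ q) : FlatCA.FlatAt R q M := by
  have hIp : I ≤ q.comap (algebraMap R S) :=
    Ideal.map_le_iff_le_comap.1 (le_trans le_sup_left hq)
  obtain ⟨p', hp'prime, hI'p', hp'p⟩ := hsurj (q.comap (algebraMap R S)) hIp
  haveI := hp'prime
  obtain ⟨𝔔, h𝔔, h1, h2⟩ := exists_prime_tensor R S R' q p' (by
    rw [Ideal.under_def, Ideal.under_def, hp'p])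
  haveI := h𝔔
  let e : S ⊗[R] R' ≃ₐ[S] S' := Algebra.IsPushout.equiv R S R' S'
  let q' : Ideal S' := 𝔔.comap (e.symm : S' →+* S ⊗[R] R')
  haveI : q'.IsPrime := Ideal.comap_isPrime _ _
  have hq'S : q'.comap (algebraMap S S') = q := by
    rw [← h1]
    ext x
    simp only [q', Ideal.mem_comap]
    have : e.symm (algebraMap S S' x) = x ⊗ₜ[R] (1 : R') :=
      Algebra.IsPushout.equiv_symm_algebraMap_left R S R' S' x
    rw [show ((e.symm : S' →+* S ⊗[R] R') (algebraMap S S' x)) = e.symm (algebraMap S S' x)
      from rfl, this]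
    rfl
  have hq'R : q'.comap (algebraMap R' S') = p' := by
    rw [← h2]
    ext x
    simp only [q', Ideal.mem_comap]
    have : e.symm (algebraMap R' S' x) = (1 : S) ⊗ₜ[R] x :=
      Algebra.IsPushout.equiv_symm_algebraMap_right R S R' S' x
    rw [show ((e.symm : S' →+* S ⊗[R] R') (algebraMap R' S' x)) = e.symm (algebraMap R' S' x)
      from rfl, this]
    rfl
  have hq'cont : I'.map (algebraMap R' S') ⊔ J.map (algebraMap S S') ≤ q' := by
    refine sup_le ?_ ?_
    · rw [Ideal.map_le_iff_le_comap, hq'R]
      exact hI'p'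
    · rw [Ideal.map_le_iff_le_comap, hq'S]
      exact le_trans le_sup_right hq
  have hX' : Module.Flat R' (LocalizedModule q'.primeCompl M') := h q' hq'cont
  haveI : Module.Flat R (Localization.AtPrime p') := hflat p' hI'p'
  -- `B = S'_{q'}` is flat over `S`
  haveI : Algebra.IsPushout R R' S S' := Algebra.IsPushout.symm inferInstance
  haveI : Module.Flat R (LocalizedModule p'.primeCompl R') :=
    ‹Module.Flat R (Localization.AtPrime p')›
  have hSB : Module.Flat S (LocalizedModule q'.primeCompl S') :=
    flat_localizedModule_of_isBaseChange (R := R) (S := R') (R' := S) (S' := S')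
      (Algebra.linearMap R' S') (IsBaseChange.linearMap R' S') p'.primeCompl q'.primeCompl
      (fun s hs hmem => hs (by
        have : s ∈ q'.comap (algebraMap R' S') := hmem
        rwa [hq'R] at this))
  haveI : Module.Flat S (Localization.AtPrime q') := hSB
  -- `Y = B ⊗_S M` is isomorphic to `M'_{q'}`
  let e1 : (Localization.AtPrime q') ⊗[S'] (S' ⊗[S] M) ≃ₗ[Localization.AtPrime q']
      (Localization.AtPrime q') ⊗[S] M :=
    AlgebraTensorModule.cancelBaseChange S S' (Localization.AtPrime q') (Localization.AtPrime q') M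
  let e2 : (Localization.AtPrime q') ⊗[S'] (S' ⊗[S] M) ≃ₗ[Localization.AtPrime q']
      (Localization.AtPrime q') ⊗[S'] M' :=
    AlgebraTensorModule.congr (LinearEquiv.refl _ _) hf.equiv
  let e3 : LocalizedModule q'.primeCompl M' ≃ₗ[Localization.AtPrime q']
      (Localization.AtPrime q') ⊗[S'] M' := LocalizedModule.equivTensorProduct q'.primeCompl M'
  let eY : (Localization.AtPrime q') ⊗[S] M ≃ₗ[Localization.AtPrime q']
      LocalizedModule q'.primeCompl M' := e1.symm ≪≫ₗ e2 ≪≫ₗ e3.symm
  haveI : Module.Flat R' ((Localization.AtPrime q') ⊗[S] M) :=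
    Module.Flat.of_linearEquiv (eY.restrictScalars R')
  have hbij : ∀ s ∉ p', Function.Bijective
      (fun y : (Localization.AtPrime q') ⊗[S] M => s • y) := by
    intro s hs
    have hs' : algebraMap R' S' s ∈ q'.primeCompl := fun hmem => hs (by
      have : s ∈ q'.comap (algebraMap R' S') := hmem
      rwa [hq'R] at this)
    have hu : IsUnit (algebraMap R' (Localization.AtPrime q') s) := by
      rw [IsScalarTower.algebraMap_apply R' S' (Localization.AtPrime q')]
      exact IsLocalization.map_units (Localization.AtPrime q') ⟨_, hs'⟩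
    have hu2 := hu.map (algebraMap (Localization.AtPrime q')
      (Module.End (Localization.AtPrime q') ((Localization.AtPrime q') ⊗[S] M)))
    have hb := (Module.End.isUnit_iff _).1 hu2
    convert hb using 1
    ext y
    simp [algebraMap_smul]
  haveI : Module.Flat R ((Localization.AtPrime q') ⊗[S] M) :=
    flat_of_flat_of_localization_flat p' _ hbij
  -- conclusion
  have hqB : q.map (algebraMap S (Localization.AtPrime q')) ≠ ⊤ := by
    have hle : q.map (algebraMap S (Localization.AtPrime q')) ≤
        IsLocalRing.maximalIdeal (Localization.AtPrime q') := by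
      rw [Ideal.map_le_iff_le_comap]
      intro x hx
      rw [Ideal.mem_comap, IsScalarTower.algebraMap_apply S S' (Localization.AtPrime q'),
        IsLocalization.AtPrime.to_map_mem_maximal_iff (Localization.AtPrime q') q']
      rw [← hq'S] at hx
      exact hx
    intro htop
    rw [htop] at hle
    exact (IsLocalRing.maximalIdeal.isMaximal _).ne_top (top_le_iff.1 hle)
  refine flat_localizedModule_of_torsion q.primeCompl ?_
  intro N P _ _ _ _ ι hι k hk
  obtain ⟨s, hs, hsk⟩ := exists_smul_eq_zero_of_flat_algebra (B := Localization.AtPrime q') q hqB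
    ι hι k hk
  exact ⟨⟨s, hs⟩, hsk⟩

end Main

end Groth.Agent.Lib.Seat35.FlatDescent
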