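import Mathlib
import Groth.Agent.S0387

/-!
# Flat finite type + locally finitely presented ⇒ finitely presented

Setting: `R → S` flat of finite type, `R → ∏_{j} R_{𝔭_j}` injective for finitely many primes,
and every `S_𝔭` finitely presented over `R_𝔭`.  Then `S` is finitely presented over `R`.
The proof uses openness of the flat locus (prior `S0387`).
-/

set_option autoImplicit false
set_option linter.style.haveILetI false
universe u

namespace Groth.Agent.Lib.Seat35.FlatFP

open TensorProduct

/-- If `R → ∏_{p ∈ s} R_p` is injective (finitely many primes) and `N` is a flat `R`-module, an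
element of `N` that is killed, for each `p ∈ s`, by some element outside `p`, is zero. -/
theorem eq_zero_of_forall_exists_smul_eq_zero {R : Type u} [CommRing R]
    (s : Finset (PrimeSpectrum R))
    (hs : Function.Injective fun r : R => fun p : s =>
      algebraMap R (Localization.AtPrime p.1.asIdeal) r)
    {N : Type u} [AddCommGroup N] [Module R N] [Module.Flat R N] (x : N)
    (hx : ∀ p ∈ s, ∃ r : R, r ∉ p.asIdeal ∧ r • x = 0) : x = 0 := by
  classical
  let ι : R →ₗ[R] (∀ p : s, Localization.AtPrime p.1.asIdeal) :=
    LinearMap.pi fun p => Algebra.linearMap R (Localization.AtPrime p.1.asIdeal)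
  have hι : Function.Injective ι := hs
  have h1 : Function.Injective (ι.lTensor N) :=
    Module.Flat.lTensor_preserves_injective_linearMap ι hι
  have h2 : (ι.lTensor N) (x ⊗ₜ[R] (1 : R)) = 0 := by
    apply (TensorProduct.piRight R R N
      (fun p : s => Localization.AtPrime p.1.asIdeal)).injective
    rw [map_zero]
    funext p
    rw [LinearMap.lTensor_tmul, TensorProduct.piRight_apply, TensorProduct.piRightHom_tmul]
    obtain ⟨r, hr, hrx⟩ := hx p.1 p.2
    have hu : IsUnit (algebraMap R (Localization.AtPrime p.1.asIdeal) r) :=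
      IsLocalization.map_units _ (⟨r, hr⟩ : p.1.asIdeal.primeCompl)
    obtain ⟨u, hu'⟩ := hu
    have h1' : ι 1 p = r • ((↑u⁻¹ : Localization.AtPrime p.1.asIdeal)) := by
      change algebraMap R (Localization.AtPrime p.1.asIdeal) 1 = _
      rw [Algebra.smul_def, ← hu', Units.mul_inv, map_one]
    change x ⊗ₜ[R] (ι 1 p) = 0
    rw [h1', ← TensorProduct.smul_tmul, hrx, TensorProduct.zero_tmul]
  have h3 : x ⊗ₜ[R] (1 : R) = 0 := h1 (by rw [h2, map_zero])
  have := congrArg (TensorProduct.rid R N) h3
  simpa using this

/-- A localization (over `B`) of an `A`-flat `B`-module is `A`-flat. -/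
theorem flat_localizedModule_of_flat {A : Type u} {B : Type u} [CommRing A] [CommRing B]
    [Algebra A B] {M : Type u} [AddCommGroup M] [Module B M] [Module A M] [IsScalarTower A B M]
    (S : Submonoid B) [Module.Flat A M] :
    Module.Flat A (LocalizedModule S M) := by
  rw [Module.Flat.iff_lTensor_preserves_injective_linearMap]
  intro N N' _ _ _ _ f hf
  have h0 : Function.Injective (AlgebraTensorModule.lTensor B M f) := by
    rw [AlgebraTensorModule.coe_lTensor]
    exact Module.Flat.lTensor_preserves_injective_linearMap f hf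
  have h1 := IsLocalizedModule.map_injective S
    (AlgebraTensorModule.rTensor A N (LocalizedModule.mkLinearMap S M))
    (AlgebraTensorModule.rTensor A N' (LocalizedModule.mkLinearMap S M))
    (AlgebraTensorModule.lTensor B M f) h0
  rw [IsLocalizedModule.map_lTensor] at h1
  exact h1

/-- If `(I.map f)` is finitely generated, there is a finitely generated `J ≤ I` with the same
image ideal. -/
theorem exists_fg_le_map_eq {A B F : Type*} [CommRing A] [CommRing B] [FunLike F A B]
    [RingHomClass F A B] (f : F) (I : Ideal A)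
    (h : (I.map f).FG) : ∃ J : Ideal A, J.FG ∧ J ≤ I ∧ J.map f = I.map f := by
  classical
  change (Submodule.span B (f '' (I : Set A))).FG at h
  rw [Submodule.fg_span_iff_fg_span_finset_subset] at h
  obtain ⟨t, ht, hspan⟩ := h
  obtain ⟨t', ht', rfl⟩ := Finset.subset_set_image_iff.mp ht
  refine ⟨Ideal.span (t' : Set A), ⟨t', rfl⟩, Ideal.span_le.mpr ht', ?_⟩
  rw [Ideal.map_span, Ideal.map]
  change Submodule.span B _ = Submodule.span B _
  rw [hspan, Finset.coe_image]

/-- Local finite presentation at a prime `p` of `R` gives a finitely generated subideal of the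
kernel that agrees with the kernel after localizing at `p`. -/
theorem exists_fg_le_forall_exists_smul_mem {R P S : Type u} [CommRing R] [CommRing P]
    [CommRing S] [Algebra R P] [Algebra R S] [Algebra.FinitePresentation R P] (φ : P →ₐ[R] S)
    (hφ : Function.Surjective φ) (p : Ideal R) [p.IsPrime]
    (hloc : Algebra.FinitePresentation (Localization.AtPrime p)
      (Localization (Algebra.algebraMapSubmonoid S p.primeCompl))) :
    ∃ J : Ideal P, J.FG ∧ J ≤ RingHom.ker φ ∧
      ∀ x ∈ RingHom.ker φ, ∃ r : R, r ∉ p ∧ r • x ∈ J := by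
  haveI : Algebra.IsPushout R (Localization.AtPrime p) S
      (Localization (Algebra.algebraMapSubmonoid S p.primeCompl)) :=
    (Algebra.isPushout_of_isLocalization p.primeCompl (Localization.AtPrime p) S
      (Localization (Algebra.algebraMapSubmonoid S p.primeCompl))).symm
  have e : (Localization.AtPrime p) ⊗[R] S ≃ₐ[Localization.AtPrime p]
      (Localization (Algebra.algebraMapSubmonoid S p.primeCompl)) :=
    Algebra.IsPushout.equiv R (Localization.AtPrime p) S
      (Localization (Algebra.algebraMapSubmonoid S p.primeCompl))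
  haveI : Algebra.FinitePresentation (Localization.AtPrime p) ((Localization.AtPrime p) ⊗[R] S) :=
    Algebra.FinitePresentation.equiv e.symm
  let ψ : (Localization.AtPrime p) ⊗[R] P →ₐ[Localization.AtPrime p]
      (Localization.AtPrime p) ⊗[R] S :=
    Algebra.TensorProduct.map (AlgHom.id (Localization.AtPrime p) (Localization.AtPrime p)) φ
  have hψ : Function.Surjective ψ := by
    change Function.Surjective (TensorProduct.map
      (AlgHom.id R (Localization.AtPrime p)).toLinearMap φ.toLinearMap)
    exact TensorProduct.map_surjective Function.surjective_id hφ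
  have hker : RingHom.ker ψ = Ideal.map Algebra.TensorProduct.includeRight (RingHom.ker φ) :=
    Algebra.TensorProduct.lTensor_ker φ hφ
  have hfg : (RingHom.ker ψ).FG := Algebra.FinitePresentation.ker_fG_of_surjective ψ hψ
  rw [hker] at hfg
  obtain ⟨J, hJfg, hJle, hJmap⟩ := exists_fg_le_map_eq _ _ hfg
  refine ⟨J, hJfg, hJle, fun x hx => ?_⟩
  letI : Algebra P ((Localization.AtPrime p) ⊗[R] P) := Algebra.TensorProduct.rightAlgebra
  haveI : IsLocalization (Algebra.algebraMapSubmonoid P p.primeCompl)
      ((Localization.AtPrime p) ⊗[R] P) := IsLocalization.tensorRight (Localization.AtPrime p) p.primeCompl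
  have hx' : algebraMap P ((Localization.AtPrime p) ⊗[R] P) x ∈
      Ideal.map (algebraMap P ((Localization.AtPrime p) ⊗[R] P)) J := by
    have := Ideal.mem_map_of_mem
      (Algebra.TensorProduct.includeRight : P →ₐ[R] (Localization.AtPrime p) ⊗[R] P) hx
    rw [← hJmap] at this
    exact this
  rw [IsLocalization.mem_map_algebraMap_iff (Algebra.algebraMapSubmonoid P p.primeCompl)] at hx'
  obtain ⟨⟨⟨j, hj⟩, ⟨m, hm⟩⟩, h⟩ := hx'
  simp only at h
  rw [← map_mul, IsLocalization.eq_iff_exists (Algebra.algebraMapSubmonoid P p.primeCompl)] at h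
  obtain ⟨⟨c, hc⟩, h⟩ := h
  simp only at h
  obtain ⟨r1, hr1, rfl⟩ := hm
  obtain ⟨r2, hr2, rfl⟩ := hc
  refine ⟨r2 * r1, fun hmem => ?_, ?_⟩
  · rcases Ideal.IsPrime.mem_or_mem inferInstance hmem with h' | h'
    · exact hr2 h'
    · exact hr1 h'
  · have : (r2 * r1) • x = algebraMap R P r2 * (x * algebraMap R P r1) := by
      rw [Algebra.smul_def, map_mul]; ring
    rw [this, h]
    exact Ideal.mul_mem_left _ _ hj

/-- Flatness of `(P/J)_q` from flatness of `P/I` when `J ≤ I` agree at `q`. -/
theorem flat_localizedModule_quotient_of_le {R P : Type u} [CommRing R] [CommRing P]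
    [Algebra R P] (I J : Ideal P) (hJI : J ≤ I) (q : Ideal P) [q.IsPrime]
    (h : ∀ x ∈ I, ∃ c : P, c ∉ q ∧ c * x ∈ J) [Module.Flat R (P ⧸ I)] :
    Module.Flat R (LocalizedModule q.primeCompl (P ⧸ J)) := by
  haveI : Module.Flat R (LocalizedModule q.primeCompl (P ⧸ I)) :=
    flat_localizedModule_of_flat q.primeCompl
  let f : (P ⧸ J) →ₗ[P] (P ⧸ I) := Submodule.factor hJI
  have hf : Function.Surjective f := Submodule.factor_surjective hJI
  let ψ : LocalizedModule q.primeCompl (P ⧸ J) →ₗ[P] LocalizedModule q.primeCompl (P ⧸ I) :=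
    IsLocalizedModule.map q.primeCompl (LocalizedModule.mkLinearMap q.primeCompl (P ⧸ J))
      (LocalizedModule.mkLinearMap q.primeCompl (P ⧸ I)) f
  have hψs : Function.Surjective ψ :=
    IsLocalizedModule.map_surjective q.primeCompl _ _ f hf
  have hψi : Function.Injective ψ := by
    rw [injective_iff_map_eq_zero]
    intro z hz
    induction z using LocalizedModule.induction_on with
    | h m t =>
      obtain ⟨y, rfl⟩ := Submodule.Quotient.mk_surjective J m
      have h1 : ψ (LocalizedModule.mk (Submodule.Quotient.mk y) t) =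
          LocalizedModule.mk (f (Submodule.Quotient.mk y)) t := by
        change IsLocalizedModule.map q.primeCompl _ _ f _ = _
        rw [← LocalizedModule.map_mk]
        rfl
      rw [h1] at hz
      have h2 : f (Submodule.Quotient.mk y) = Submodule.Quotient.mk y := rfl
      rw [h2, ← LocalizedModule.zero_mk (1 : q.primeCompl), LocalizedModule.mk_eq] at hz
      obtain ⟨⟨u, hu⟩, hu'⟩ := hz
      simp only [one_smul, smul_zero, Submonoid.mk_smul] at hu'
      rw [← Submodule.Quotient.mk_smul, Submodule.Quotient.mk_eq_zero] at hu'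
      obtain ⟨c, hc, hcx⟩ := h _ hu'
      rw [← LocalizedModule.zero_mk (1 : q.primeCompl), LocalizedModule.mk_eq]
      refine ⟨⟨c * u, q.primeCompl.mul_mem hc hu⟩, ?_⟩
      simp only [one_smul, smul_zero, Submonoid.mk_smul]
      rw [← Submodule.Quotient.mk_smul, Submodule.Quotient.mk_eq_zero, smul_eq_mul, mul_assoc]
      exact hcx
  exact Module.Flat.of_linearEquiv
    ((LinearEquiv.ofBijective ψ ⟨hψi, hψs⟩).restrictScalars R)

section main

variable {R P S : Type u} [CommRing R] [CommRing P] [CommRing S] [Algebra R P] [Algebra R S]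

/-- Main lemma: the kernel of a surjection from a finitely presented algebra onto a flat algebra
that is locally finitely presented is finitely generated, provided `R` embeds into a finite
product of its local rings. -/
theorem ker_fg [Algebra.FinitePresentation R P] [Module.Flat R S] (φ : P →ₐ[R] S)
    (hφ : Function.Surjective φ) (s : Finset (PrimeSpectrum R))
    (hs : Function.Injective fun r : R => fun p : s =>
      algebraMap R (Localization.AtPrime p.1.asIdeal) r)
    (hloc : ∀ (p : Ideal R) [p.IsPrime],
      Algebra.FinitePresentation (Localization.AtPrime p)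
        (Localization (Algebra.algebraMapSubmonoid S p.primeCompl))) :
    (RingHom.ker φ).FG := by
  classical
  haveI : Module.Flat R (P ⧸ RingHom.ker φ) :=
    Module.Flat.of_linearEquiv (Ideal.quotientKerAlgEquivOfSurjective hφ).toLinearEquiv
  choose Jp hJp using fun p : PrimeSpectrum R =>
    exists_fg_le_forall_exists_smul_mem φ hφ p.asIdeal (hloc p.asIdeal)
  have key : ∀ q : Ideal P, q.IsPrime → ∃ g : P, g ∉ q ∧
      ((RingHom.ker φ).map (algebraMap P (Localization.Away g))).FG := by
    intro q hq
    haveI := hq
    let p0 : PrimeSpectrum R := ⟨q.comap (algebraMap R P), inferInstance⟩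
    let J : Ideal P := (insert p0 s).sup Jp
    have hJfg : J.FG := Submodule.fg_finset_sup _ _ fun p _ => (hJp p).1
    have hJle : J ≤ RingHom.ker φ := Finset.sup_le fun p _ => (hJp p).2.1
    have hJprop : ∀ p ∈ insert p0 s, ∀ x ∈ RingHom.ker φ, ∃ r : R, r ∉ p.asIdeal ∧ r • x ∈ J := by
      intro p hp x hx
      obtain ⟨r, hr, hrx⟩ := (hJp p).2.2 x hx
      exact ⟨r, hr, (Finset.le_sup (f := Jp) hp) hrx⟩
    haveI : Module.FinitePresentation P (P ⧸ J) :=
      Module.finitePresentation_of_surjective (Submodule.mkQ J) (Submodule.mkQ_surjective J)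
        (by rw [Submodule.ker_mkQ]; exact hJfg)
    have hopen : IsOpen {q' : PrimeSpectrum P |
        Module.Flat R (LocalizedModule q'.asIdeal.primeCompl (P ⧸ J))} :=
      Groth.Agent.S0387.result
    have hqU : (⟨q, hq⟩ : PrimeSpectrum P) ∈ {q' : PrimeSpectrum P |
        Module.Flat R (LocalizedModule q'.asIdeal.primeCompl (P ⧸ J))} := by
      change Module.Flat R (LocalizedModule q.primeCompl (P ⧸ J))
      refine flat_localizedModule_quotient_of_le (RingHom.ker φ) J hJle q fun x hx => ?_
      obtain ⟨r, hr, hrx⟩ := hJprop p0 (Finset.mem_insert_self _ _) x hx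
      refine ⟨algebraMap R P r, hr, ?_⟩
      rwa [← Algebra.smul_def]
    obtain ⟨_, ⟨g, rfl⟩, hgq, hgU⟩ :=
      PrimeSpectrum.isTopologicalBasis_basic_opens.exists_subset_of_mem_open hqU hopen
    refine ⟨g, hgq, ?_⟩
    have hpow : ∀ x ∈ RingHom.ker φ, ∃ n : ℕ, g ^ n * x ∈ J := by
      intro x hx
      suffices hrad : g ∈ (J.colon {x}).radical by
        obtain ⟨n, hn⟩ := hrad
        exact ⟨n, by simpa [Submodule.mem_colon_singleton] using hn⟩
      rw [Ideal.radical_eq_sInf, Submodule.mem_sInf]
      rintro q' ⟨hle, hq'⟩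
      by_contra hg
      haveI := hq'
      haveI : Module.Flat R (LocalizedModule (Ideal.primeCompl q') (P ⧸ J)) :=
        hgU (show (⟨q', hq'⟩ : PrimeSpectrum P) ∈ (PrimeSpectrum.basicOpen g : Set _) from hg)
      have hz : LocalizedModule.mkLinearMap (Ideal.primeCompl q') (P ⧸ J)
          (Submodule.Quotient.mk x) = 0 := by
        refine eq_zero_of_forall_exists_smul_eq_zero s hs _ fun p hp => ?_
        obtain ⟨r, hr, hrx⟩ := hJprop p (Finset.mem_insert_of_mem hp) x hx
        refine ⟨r, hr, ?_⟩
        rw [← LinearMap.map_smul_of_tower, ← Submodule.Quotient.mk_smul,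
          (Submodule.Quotient.mk_eq_zero J).mpr hrx, map_zero]
      rw [IsLocalizedModule.eq_zero_iff (Ideal.primeCompl q')] at hz
      obtain ⟨⟨c, hc⟩, hcx⟩ := hz
      rw [Submonoid.mk_smul, ← Submodule.Quotient.mk_smul, Submodule.Quotient.mk_eq_zero] at hcx
      exact hc (hle (Submodule.mem_colon_singleton.mpr hcx))
    have hmap : (RingHom.ker φ).map (algebraMap P (Localization.Away g)) =
        J.map (algebraMap P (Localization.Away g)) := by
      apply le_antisymm
      · rw [Ideal.map_le_iff_le_comap]
        intro x hx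
        obtain ⟨n, hn⟩ := hpow x hx
        rw [Ideal.mem_comap]
        have hu : IsUnit (algebraMap P (Localization.Away g) (g ^ n)) := by
          rw [map_pow]
          exact (IsLocalization.Away.algebraMap_isUnit g).pow n
        have := Ideal.mem_map_of_mem (algebraMap P (Localization.Away g)) hn
        rw [map_mul] at this
        exact (Ideal.unit_mul_mem_iff_mem _ hu).mp this
      · exact Ideal.map_mono hJle
    rw [hmap]
    exact hJfg.map _
  let t : Set P := {g | ((RingHom.ker φ).map (algebraMap P (Localization.Away g))).FG}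
  have ht : Ideal.span t = ⊤ := by
    by_contra hne
    obtain ⟨m, hm, hle⟩ := Ideal.exists_le_maximal _ hne
    obtain ⟨g, hg, hfg⟩ := key m hm.isPrime
    exact hg (hle (Ideal.subset_span hfg))
  exact Ideal.fg_of_localizationSpan t ht fun g => g.2

end main

end Groth.Agent.Lib.Seat35.FlatFP
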