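import Mathlib
import Groth.Agent.Lib.Seat35FlatFP

/-!
# Module version: flat finite module over a finitely presented algebra, locally finitely
presented, base ring embedding in a finite product of local rings ⇒ finitely presented.
-/

set_option autoImplicit false
set_option linter.style.haveILetI false
set_option linter.unusedSectionVars false
universe u

namespace Groth.Agent.Lib.Seat35.FlatFPMod

open Groth.Agent.Lib.Seat35.FlatFP

section extraction

variable {P : Type u} [CommRing P] {F : Type u} [AddCommGroup F] [Module P F]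

/-- If the localization of a submodule `K` at `T` is finitely generated, there is a finitely
generated `K' ≤ K` such that every element of `K` is pushed into `K'` by an element of `T`. -/
theorem exists_fg_le_forall_exists_smul_mem_of_localized_fg (T : Submonoid P)
    (K : Submodule P F) (h : (K.localized T).FG) :
    ∃ K' : Submodule P F, K'.FG ∧ K' ≤ K ∧ ∀ x ∈ K, ∃ c ∈ T, c • x ∈ K' := by
  classical
  have h1 : K.localized T = Submodule.span (Localization T)
      (LocalizedModule.mkLinearMap T F '' (K : Set F)) :=
    Submodule.localized'_eq_span _ _ _ _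
  rw [h1, Submodule.fg_span_iff_fg_span_finset_subset] at h
  obtain ⟨t, ht, hspan⟩ := h
  obtain ⟨t', ht', rfl⟩ := Finset.subset_set_image_iff.mp ht
  refine ⟨Submodule.span P (t' : Set F), ⟨t', rfl⟩, Submodule.span_le.mpr ht', fun x hx => ?_⟩
  have hx' : LocalizedModule.mkLinearMap T F x ∈ (Submodule.span P (t' : Set F)).localized T := by
    rw [Submodule.localized, Submodule.localized'_span, ← Finset.coe_image, ← hspan]
    exact Submodule.subset_span ⟨x, hx, rfl⟩
  rw [Submodule.localized, Submodule.mem_localized'] at hx'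
  obtain ⟨m, hm, c, hc⟩ := hx'
  rw [IsLocalizedModule.mk'_eq_iff, Submonoid.smul_def, ← map_smul,
    IsLocalizedModule.eq_iff_exists T] at hc
  obtain ⟨d, hd⟩ := hc
  refine ⟨(d : P) * (c : P), T.mul_mem d.2 c.2, ?_⟩
  have : ((d : P) * (c : P)) • x = d • (c : P) • x := by
    rw [mul_smul]; rfl
  rw [this, ← hd]
  exact Submodule.smul_mem _ _ hm

end extraction

section quotient

variable {R P : Type u} [CommRing R] [CommRing P] [Algebra R P]
  {F : Type u} [AddCommGroup F] [Module P F] [Module R F] [IsScalarTower R P F]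

/-- Flatness of `(F/K')_q` from flatness of `F/K` when `K' ≤ K` agree at `q`. -/
theorem flat_localizedModule_quotient_of_le (K K' : Submodule P F) (hle : K' ≤ K) (q : Ideal P)
    [q.IsPrime] (h : ∀ x ∈ K, ∃ c : P, c ∉ q ∧ c • x ∈ K') [Module.Flat R (F ⧸ K)] :
    Module.Flat R (LocalizedModule q.primeCompl (F ⧸ K')) := by
  haveI : Module.Flat R (LocalizedModule q.primeCompl (F ⧸ K)) :=
    flat_localizedModule_of_flat q.primeCompl
  let f : (F ⧸ K') →ₗ[P] (F ⧸ K) := Submodule.factor hle
  have hf : Function.Surjective f := Submodule.factor_surjective hle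
  let ψ : LocalizedModule q.primeCompl (F ⧸ K') →ₗ[P] LocalizedModule q.primeCompl (F ⧸ K) :=
    IsLocalizedModule.map q.primeCompl (LocalizedModule.mkLinearMap q.primeCompl (F ⧸ K'))
      (LocalizedModule.mkLinearMap q.primeCompl (F ⧸ K)) f
  have hψs : Function.Surjective ψ :=
    IsLocalizedModule.map_surjective q.primeCompl _ _ f hf
  have hψi : Function.Injective ψ := by
    rw [injective_iff_map_eq_zero]
    intro z hz
    induction z using LocalizedModule.induction_on with
    | h m t =>
      obtain ⟨y, rfl⟩ := Submodule.Quotient.mk_surjective K' m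
      have h1 : ψ (LocalizedModule.mk (Submodule.Quotient.mk y) t) =
          LocalizedModule.mk (f (Submodule.Quotient.mk y)) t := by
        change IsLocalizedModule.map q.primeCompl _ _ f _ = _
        rw [← LocalizedModule.map_mk]
        rfl
      rw [h1] at hz
      have h2 : f (Submodule.Quotient.mk y) = Submodule.Quotient.mk y := rfl
      rw [h2, ← LocalizedModule.zero_mk (1 : q.primeCompl), LocalizedModule.mk_eq] at hz
      obtain ⟨⟨u, hu⟩, hu'⟩ := hz
      simp only [one_smul, smul_zero, Submonoid.mk_smul] at hu'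
      rw [← Submodule.Quotient.mk_smul, Submodule.Quotient.mk_eq_zero] at hu'
      obtain ⟨c, hc, hcx⟩ := h _ hu'
      rw [← LocalizedModule.zero_mk (1 : q.primeCompl), LocalizedModule.mk_eq]
      refine ⟨⟨c * u, q.primeCompl.mul_mem hc hu⟩, ?_⟩
      simp only [one_smul, smul_zero, Submonoid.mk_smul]
      rw [← Submodule.Quotient.mk_smul, Submodule.Quotient.mk_eq_zero, mul_smul]
      exact hcx
  exact Module.Flat.of_linearEquiv
    ((LinearEquiv.ofBijective ψ ⟨hψi, hψs⟩).restrictScalars R)

end quotient

section main

variable {R P : Type u} [CommRing R] [CommRing P] [Algebra R P]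
  {F M : Type u} [AddCommGroup F] [Module P F] [Module R F] [IsScalarTower R P F]
  [AddCommGroup M] [Module P M] [Module R M] [IsScalarTower R P M]

/-- Local finite presentation at a prime `p` of `R` gives a finitely generated submodule of the
kernel that agrees with the kernel after localizing at `p`. -/
theorem exists_fg_le_forall_exists_smul_mem [Module.Finite P F] (π : F →ₗ[P] M)
    (hπ : Function.Surjective π) (p : Ideal R) [p.IsPrime]
    (hloc : Module.FinitePresentation
      (Localization (Algebra.algebraMapSubmonoid P p.primeCompl))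
      (LocalizedModule (Algebra.algebraMapSubmonoid P p.primeCompl) M)) :
    ∃ K' : Submodule P F, K'.FG ∧ K' ≤ LinearMap.ker π ∧
      ∀ x ∈ LinearMap.ker π, ∃ r : R, r ∉ p ∧ r • x ∈ K' := by
  set T := Algebra.algebraMapSubmonoid P p.primeCompl with hT
  let πT : LocalizedModule T F →ₗ[Localization T] LocalizedModule T M :=
    (IsLocalizedModule.map T (LocalizedModule.mkLinearMap T F) (LocalizedModule.mkLinearMap T M)
      π).extendScalarsOfIsLocalization T (Localization T)
  have hπT : Function.Surjective πT :=
    IsLocalizedModule.map_surjective T _ _ π hπ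
  have hfg : (LinearMap.ker πT).FG := Module.FinitePresentation.fg_ker πT hπT
  have hker : (LinearMap.ker π).localized T = LinearMap.ker πT :=
    LinearMap.localized'_ker_eq_ker_localizedMap (Localization T) T
      (LocalizedModule.mkLinearMap T F) (LocalizedModule.mkLinearMap T M) π
  rw [← hker] at hfg
  obtain ⟨K', hK'fg, hK'le, hK'⟩ :=
    exists_fg_le_forall_exists_smul_mem_of_localized_fg T (LinearMap.ker π) hfg
  refine ⟨K', hK'fg, hK'le, fun x hx => ?_⟩
  obtain ⟨c, ⟨r, hr, rfl⟩, hcx⟩ := hK' x hx
  exact ⟨r, hr, by rwa [algebraMap_smul] at hcx⟩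

/-- Main lemma (module version). -/
theorem ker_fg [Algebra.FinitePresentation R P] [Module.FinitePresentation P F] [Module.Flat R M]
    (π : F →ₗ[P] M) (hπ : Function.Surjective π) (s : Finset (PrimeSpectrum R))
    (hs : Function.Injective fun r : R => fun p : s =>
      algebraMap R (Localization.AtPrime p.1.asIdeal) r)
    (hloc : ∀ (p : Ideal R) [p.IsPrime], Module.FinitePresentation
      (Localization (Algebra.algebraMapSubmonoid P p.primeCompl))
      (LocalizedModule (Algebra.algebraMapSubmonoid P p.primeCompl) M)) :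
    (LinearMap.ker π).FG := by
  classical
  haveI : Module.Flat R (F ⧸ LinearMap.ker π) :=
    Module.Flat.of_linearEquiv ((π.quotKerEquivOfSurjective hπ).restrictScalars R)
  choose Kp hKp using fun p : PrimeSpectrum R =>
    exists_fg_le_forall_exists_smul_mem π hπ p.asIdeal (hloc p.asIdeal)
  have key : ∀ q : Ideal P, q.IsPrime → ∃ g : P, g ∉ q ∧
      ((LinearMap.ker π).localized (Submonoid.powers g)).FG := by
    intro q hq
    haveI := hq
    let p0 : PrimeSpectrum R := ⟨q.comap (algebraMap R P), inferInstance⟩
    let K' : Submodule P F := (insert p0 s).sup Kp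
    have hK'fg : K'.FG := Submodule.fg_finset_sup _ _ fun p _ => (hKp p).1
    have hK'le : K' ≤ LinearMap.ker π := Finset.sup_le fun p _ => (hKp p).2.1
    have hK'prop : ∀ p ∈ insert p0 s, ∀ x ∈ LinearMap.ker π,
        ∃ r : R, r ∉ p.asIdeal ∧ r • x ∈ K' := by
      intro p hp x hx
      obtain ⟨r, hr, hrx⟩ := (hKp p).2.2 x hx
      exact ⟨r, hr, (Finset.le_sup (f := Kp) hp) hrx⟩
    haveI : Module.FinitePresentation P (F ⧸ K') :=
      Module.finitePresentation_of_surjective (Submodule.mkQ K') (Submodule.mkQ_surjective K')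
        (by rw [Submodule.ker_mkQ]; exact hK'fg)
    have hopen : IsOpen {q' : PrimeSpectrum P |
        Module.Flat R (LocalizedModule q'.asIdeal.primeCompl (F ⧸ K'))} :=
      Groth.Agent.S0387.result
    have hqU : (⟨q, hq⟩ : PrimeSpectrum P) ∈ {q' : PrimeSpectrum P |
        Module.Flat R (LocalizedModule q'.asIdeal.primeCompl (F ⧸ K'))} := by
      change Module.Flat R (LocalizedModule q.primeCompl (F ⧸ K'))
      refine flat_localizedModule_quotient_of_le (LinearMap.ker π) K' hK'le q fun x hx => ?_
      obtain ⟨r, hr, hrx⟩ := hK'prop p0 (Finset.mem_insert_self _ _) x hx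
      refine ⟨algebraMap R P r, hr, ?_⟩
      rwa [algebraMap_smul]
    obtain ⟨_, ⟨g, rfl⟩, hgq, hgU⟩ :=
      PrimeSpectrum.isTopologicalBasis_basic_opens.exists_subset_of_mem_open hqU hopen
    refine ⟨g, hgq, ?_⟩
    have hpow : ∀ x ∈ LinearMap.ker π, ∃ n : ℕ, g ^ n • x ∈ K' := by
      intro x hx
      suffices hrad : g ∈ (K'.colon {x}).radical by
        obtain ⟨n, hn⟩ := hrad
        exact ⟨n, by simpa [Submodule.mem_colon_singleton] using hn⟩
      rw [Ideal.radical_eq_sInf, Submodule.mem_sInf]
      rintro q' ⟨hle, hq'⟩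
      by_contra hg
      haveI := hq'
      haveI : Module.Flat R (LocalizedModule (Ideal.primeCompl q') (F ⧸ K')) :=
        hgU (show (⟨q', hq'⟩ : PrimeSpectrum P) ∈ (PrimeSpectrum.basicOpen g : Set _) from hg)
      have hz : LocalizedModule.mkLinearMap (Ideal.primeCompl q') (F ⧸ K')
          (Submodule.Quotient.mk x) = 0 := by
        refine eq_zero_of_forall_exists_smul_eq_zero s hs _ fun p hp => ?_
        obtain ⟨r, hr, hrx⟩ := hK'prop p (Finset.mem_insert_of_mem hp) x hx
        refine ⟨r, hr, ?_⟩
        rw [← LinearMap.map_smul_of_tower, ← Submodule.Quotient.mk_smul,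
          (Submodule.Quotient.mk_eq_zero K').mpr hrx, map_zero]
      rw [IsLocalizedModule.eq_zero_iff (Ideal.primeCompl q')] at hz
      obtain ⟨⟨c, hc⟩, hcx⟩ := hz
      rw [Submonoid.mk_smul, ← Submodule.Quotient.mk_smul, Submodule.Quotient.mk_eq_zero] at hcx
      exact hc (hle (Submodule.mem_colon_singleton.mpr hcx))
    have hmap : (LinearMap.ker π).localized (Submonoid.powers g) =
        K'.localized (Submonoid.powers g) := by
      apply le_antisymm
      · rintro z ⟨m, hm, t, rfl⟩
        obtain ⟨n, hn⟩ := hpow m hm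
        refine ⟨g ^ n • m, hn,
          ⟨g ^ n, pow_mem (Submonoid.mem_powers g) n⟩ * t, ?_⟩
        exact IsLocalizedModule.mk'_cancel_left
          (f := LocalizedModule.mkLinearMap (Submonoid.powers g) F) m
          (⟨g ^ n, pow_mem (Submonoid.mem_powers g) n⟩ : Submonoid.powers g) t
      · rintro z ⟨m, hm, t, rfl⟩
        exact ⟨m, hK'le hm, t, rfl⟩
    rw [hmap]
    exact Submodule.localized_fg _ hK'fg
  let t : Set P := {g | ((LinearMap.ker π).localized (Submonoid.powers g)).FG}
  have ht : Ideal.span t = ⊤ := by
    by_contra hne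
    obtain ⟨m, hm, hle⟩ := Ideal.exists_le_maximal _ hne
    obtain ⟨g, hg, hfg⟩ := key m hm.isPrime
    exact hg (hle (Ideal.subset_span hfg))
  exact Submodule.of_localizationSpan t ht fun g => g.2

end main

end Groth.Agent.Lib.Seat35.FlatFPMod
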