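import Mathlib
import Groth.Agent.Lib.Helper5LocalFlat

/-!
# A Chevalley-type lemma for complete local rings (helper35)

`exists_mem_sup_pow_eq_sInf_sup_pow`: in a complete Noetherian local ring, for a nonempty family
`F` of ideals closed under binary intersection and every `n`, some `J ∈ F` has
`J + 𝔪ⁿ = (⋂ F) + 𝔪ⁿ`.
-/

set_option autoImplicit false
set_option linter.unusedSectionVars false
set_option linter.style.haveILetI false
universe u

namespace Groth.Agent.Lib.Seat35.FlatIdeal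

open IsLocalRing

section

variable (R : Type u) [CommRing R] [IsLocalRing R] [IsNoetherianRing R]

/-- Descending chain condition modulo `𝔪ⁿ`. -/
theorem exists_mem_forall_sup_pow_le (F : Set (Ideal R)) (hne : F.Nonempty)
    (hinf : ∀ J₁ ∈ F, ∀ J₂ ∈ F, J₁ ⊓ J₂ ∈ F) (n : ℕ) :
    ∃ Jn ∈ F, ∀ J ∈ F, Jn ⊔ maximalIdeal R ^ n ≤ J ⊔ maximalIdeal R ^ n := by
  set mn : Ideal R := maximalIdeal R ^ n with hmn
  have hfl : IsFiniteLength R (R ⧸ mn) :=
    Groth.Agent.Lib.Helper5.isFiniteLength_quotient_of_pow_le mn n le_rfl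
  have hart : IsArtinian R (R ⧸ mn) := (isFiniteLength_iff_isNoetherian_isArtinian.mp hfl).2
  let W : Set (Submodule R (R ⧸ mn)) := (fun J : Ideal R => Submodule.map (Submodule.mkQ mn) J) '' F
  have hW : W.Nonempty := hne.image _
  obtain ⟨N₀, ⟨Jn, hJn, rfl⟩, hmin⟩ := (IsWellFounded.wf (r := (· < ·))).has_min W hW
  refine ⟨Jn, hJn, ?_⟩
  intro J hJ
  have h1 : Submodule.map (Submodule.mkQ mn) (J ⊓ Jn) ≤ Submodule.map (Submodule.mkQ mn) Jn :=
    Submodule.map_mono inf_le_right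
  have h2 : ¬ Submodule.map (Submodule.mkQ mn) (J ⊓ Jn) < Submodule.map (Submodule.mkQ mn) Jn :=
    hmin _ ⟨J ⊓ Jn, hinf J hJ Jn hJn, rfl⟩
  have h3 : Submodule.map (Submodule.mkQ mn) Jn = Submodule.map (Submodule.mkQ mn) (J ⊓ Jn) :=
    le_antisymm (not_lt_iff_le_imp_ge.mp h2 h1) h1
  have h4 : Submodule.map (Submodule.mkQ mn) Jn ≤ Submodule.map (Submodule.mkQ mn) J :=
    h3.le.trans (Submodule.map_mono inf_le_left)
  have h5 := Submodule.comap_mono (f := Submodule.mkQ mn) h4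
  rw [Submodule.comap_map_mkQ, Submodule.comap_map_mkQ] at h5
  rw [sup_comm Jn, sup_comm J]
  exact h5

/-- Ideals of a Noetherian local ring are closed. -/
theorem mem_of_forall_mem_sup_pow (J : Ideal R) (x : R)
    (hx : ∀ i : ℕ, x ∈ J ⊔ maximalIdeal R ^ i) : x ∈ J := by
  have hK := Ideal.iInf_pow_smul_eq_bot_of_le_jacobson (maximalIdeal R) (M := R ⧸ J)
    (IsLocalRing.maximalIdeal_le_jacobson _)
  have h1 : (Ideal.Quotient.mk J x) ∈ (⨅ i : ℕ, maximalIdeal R ^ i • ⊤ : Submodule R (R ⧸ J)) := by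
    rw [Submodule.mem_iInf]
    intro i
    obtain ⟨j, hj, t, ht, rfl⟩ := Submodule.mem_sup.mp (hx i)
    rw [map_add, Ideal.Quotient.eq_zero_iff_mem.mpr hj, zero_add]
    have h2 : Ideal.Quotient.mk J t = t • (1 : R ⧸ J) := by
      rw [Algebra.smul_def, mul_one]
      rfl
    rw [h2]
    exact Submodule.smul_mem_smul ht trivial
  rw [hK] at h1
  exact Ideal.Quotient.eq_zero_iff_mem.mp ((Submodule.mem_bot R).mp h1)

variable [IsAdicComplete (maximalIdeal R) R]

/-- **Chevalley-type lemma.** -/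
theorem exists_mem_sup_pow_eq_sInf_sup_pow (F : Set (Ideal R)) (hne : F.Nonempty)
    (hinf : ∀ J₁ ∈ F, ∀ J₂ ∈ F, J₁ ⊓ J₂ ∈ F) (n : ℕ) :
    ∃ J ∈ F, J ⊔ maximalIdeal R ^ n = sInf F ⊔ maximalIdeal R ^ n := by
  choose Jc hJcF hJc using exists_mem_forall_sup_pow_le R F hne hinf
  refine ⟨Jc n, hJcF n, le_antisymm ?_ (sup_le_sup_right (sInf_le (hJcF n)) _)⟩
  intro x hx
  -- one step of the approximation
  have step : ∀ (j : ℕ) (y : R), y ∈ Jc j ⊔ maximalIdeal R ^ j →
      ∃ y' ∈ Jc (j + 1) ⊔ maximalIdeal R ^ (j + 1), y' - y ∈ maximalIdeal R ^ j := by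
    intro j y hy
    have h1 := hJc j (Jc (j + 1)) (hJcF (j + 1)) hy
    obtain ⟨y', hy', t, ht, rfl⟩ := Submodule.mem_sup.mp h1
    refine ⟨y', Submodule.mem_sup_left hy', ?_⟩
    rw [sub_add_cancel_left]
    exact neg_mem ht
  -- the sequence
  let s : (k : ℕ) → {y : R // y ∈ Jc (n + k) ⊔ maximalIdeal R ^ (n + k)} := fun k =>
    Nat.rec (motive := fun k => {y : R // y ∈ Jc (n + k) ⊔ maximalIdeal R ^ (n + k)}) ⟨x, hx⟩
      (fun k y => ⟨(step (n + k) y.1 y.2).choose, (step (n + k) y.1 y.2).choose_spec.1⟩) k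
  have hs0 : (s 0).1 = x := rfl
  have hs1 : ∀ k, (s (k + 1)).1 - (s k).1 ∈ maximalIdeal R ^ (n + k) := fun k =>
    (step (n + k) (s k).1 (s k).2).choose_spec.2
  have hsab : ∀ a b, a ≤ b → (s b).1 - (s a).1 ∈ maximalIdeal R ^ (n + a) := by
    intro a b hab
    induction b, hab using Nat.le_induction with
    | base => rw [sub_self]; exact zero_mem _
    | succ b hab ih =>
      have h1 := hs1 b
      have h2 : maximalIdeal R ^ (n + b) ≤ maximalIdeal R ^ (n + a) :=
        Ideal.pow_le_pow_right (by omega)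
      have h3 : (s (b + 1)).1 - (s a).1 = ((s (b + 1)).1 - (s b).1) + ((s b).1 - (s a).1) := by ring
      rw [h3]
      exact add_mem (h2 h1) ih
  -- the limit
  obtain ⟨L, hL⟩ := IsPrecomplete.prec' (I := maximalIdeal R) (M := R) (fun k => (s k).1) (by
    intro a b hab
    refine (SModEq.sub_mem.mpr ?_).symm
    rw [smul_eq_mul, Ideal.mul_top]
    exact Ideal.pow_le_pow_right (Nat.le_add_left a n) (hsab a b hab))
  have hL' : ∀ k, L - (s k).1 ∈ maximalIdeal R ^ k := by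
    intro k
    have := SModEq.sub_mem.mp (hL k).symm
    rw [smul_eq_mul, Ideal.mul_top] at this
    exact this
  -- `L ∈ sInf F`
  have hLF : L ∈ sInf F := by
    rw [Submodule.mem_sInf]
    intro J hJ
    apply mem_of_forall_mem_sup_pow R J L
    intro i
    have h1 : (s i).1 ∈ J ⊔ maximalIdeal R ^ (n + i) := hJc (n + i) J hJ (s i).2
    have h2 : J ⊔ maximalIdeal R ^ (n + i) ≤ J ⊔ maximalIdeal R ^ i :=
      sup_le_sup_left (Ideal.pow_le_pow_right (Nat.le_add_left i n)) _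
    have h3 : L = (s i).1 + (L - (s i).1) := by ring
    rw [h3]
    exact add_mem (h2 h1) (Submodule.mem_sup_right (hL' i))
  -- `x - L ∈ 𝔪ⁿ`
  have hxL : x - L ∈ maximalIdeal R ^ n := by
    have h1 : (s n).1 - (s 0).1 ∈ maximalIdeal R ^ (n + 0) := hsab 0 n (Nat.zero_le n)
    rw [hs0, add_zero] at h1
    have h2 := hL' n
    have h3 : x - L = -((s n).1 - x) - (L - (s n).1) := by ring
    rw [h3]
    exact sub_mem (neg_mem h1) h2
  have h4 : x = L + (x - L) := by ring
  rw [h4]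
  exact add_mem (Submodule.mem_sup_left hLF) (Submodule.mem_sup_right hxL)

end

end Groth.Agent.Lib.Seat35.FlatIdeal
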