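import Mathlib
import Groth.Agent.Lib.Seat35FlatIdealA
import Groth.Agent.Lib.Seat30FlatAt

/-!
# `TF` and localization / base change (helper35)

* `TF.localizedModule`: `TF I M → TF I M_W`.
* `tf_of_forall_flat_localizedModule`: if `M_q` is `R`-flat at all primes `q` of `S` over `V(𝔟)`
  then `TF 𝔟 M`.
* `flat_localizedModule_of_isBaseChange_of_tf`: base change along `R → R'` killing `I`.
-/

set_option autoImplicit false
set_option linter.unusedSectionVars false
set_option linter.style.haveILetI false
universe u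

namespace Groth.Agent.Lib.Seat35.FlatIdeal

open TensorProduct

section KerKilled

variable {R S : Type u} [CommRing R] [CommRing S] [Algebra R S] (W : Submonoid S)
  {M : Type u} [AddCommGroup M] [Module S M] [Module R M] [IsScalarTower R S M]
  {N P : Type u} [AddCommGroup N] [AddCommGroup P] [Module R N] [Module R P]

/-- If `M_W` is `TF I`, the kernel of `M ⊗ N → M ⊗ P` (for `N → P` injective, killed by `I`) is
`W`-torsion. -/
theorem exists_smul_eq_zero_of_lTensor_eq_zero_of_tf (I : Ideal R)
    (h : TF I (LocalizedModule W M)) (ι : N →ₗ[R] P) (hP : ∀ a ∈ I, ∀ p : P, a • p = 0)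
    (hι : Function.Injective ι) (k : M ⊗[R] N) (hk : ι.lTensor M k = 0) :
    ∃ s : W, (s : S) • k = 0 := by
  let g := LocalizedModule.mkLinearMap W M
  have h1 := IsLocalizedModule.map_lTensor (R := R) S W ι g
  have h2 : Function.Injective (AlgebraTensorModule.lTensor S (LocalizedModule W M) ι) :=
    h N P ι hP hι
  rw [← h1] at h2
  have h3 := (Groth.Agent.Lib.Seat30.FlatAt.map_injective_iff W _ _ _).mp h2 k ⟨1, by
    rw [one_smul]; exact hk⟩
  obtain ⟨s, hs⟩ := h3
  exact ⟨s, hs⟩

/-- `TF` passes to localizations of the module. -/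
theorem TF.localizedModule (I : Ideal R) (h : TF I M) : TF I (LocalizedModule W M) := by
  intro N P _ _ _ _ ι hP hι
  let g := LocalizedModule.mkLinearMap W M
  have h1 := IsLocalizedModule.map_lTensor (R := R) S W ι g
  have h2 : Function.Injective (IsLocalizedModule.map W (AlgebraTensorModule.rTensor R N g)
      (AlgebraTensorModule.rTensor R P g) (AlgebraTensorModule.lTensor S M ι)) := by
    rw [Groth.Agent.Lib.Seat30.FlatAt.map_injective_iff]
    rintro k ⟨s, hs⟩
    refine ⟨s, ?_⟩
    rw [Submonoid.smul_def] at hs ⊢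
    have h3 : (AlgebraTensorModule.lTensor S M ι) ((s : S) • k) = 0 := by
      rw [map_smul]; exact hs
    have h4 : ι.lTensor M ((s : S) • k) = 0 := h3
    exact (h N P ι hP hι) (by rw [map_zero]; exact h4)
  rw [h1] at h2
  exact h2

/-- Local-global principle: flatness at the primes of `S` over `V(𝔟)` gives `TF 𝔟`. -/
theorem tf_of_forall_flat_localizedModule (𝔟 : Ideal R)
    (h : ∀ (q : Ideal S) [q.IsPrime], 𝔟 ≤ q.comap (algebraMap R S) →
      Module.Flat R (LocalizedModule q.primeCompl M)) : TF 𝔟 M := by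
  intro N P _ _ _ _ ι hP hι
  have hN : ∀ a ∈ 𝔟, ∀ n : N, a • n = 0 := fun a ha n =>
    hι (by rw [map_smul, hP a ha, map_zero])
  rw [injective_iff_map_eq_zero]
  intro k hk
  let Ann : Ideal S := LinearMap.ker (LinearMap.toSpanSingleton S (M ⊗[R] N) k)
  have hAnn : ∀ s : S, s ∈ Ann ↔ s • k = 0 := fun s => by
    simp [Ann, LinearMap.mem_ker, LinearMap.toSpanSingleton_apply]
  by_contra hk0
  have hne : Ann ≠ ⊤ := by
    intro htop
    have h1 : (1 : S) ∈ Ann := htop ▸ Submodule.mem_top
    rw [hAnn, one_smul] at h1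
    exact hk0 h1
  obtain ⟨𝔫, h𝔫, hle⟩ := Ideal.exists_le_maximal Ann hne
  haveI := h𝔫.isPrime
  by_cases hb : 𝔟 ≤ 𝔫.comap (algebraMap R S)
  · haveI := h 𝔫 hb
    obtain ⟨s, hs⟩ := Groth.Agent.Lib.Seat30.FlatAt.exists_smul_eq_zero_of_lTensor_eq_zero
      𝔫.primeCompl ι hι k hk
    exact s.2 (hle ((hAnn _).mpr hs))
  · obtain ⟨a, ha, ha'⟩ := SetLike.not_le_iff_exists.mp hb
    have hall : ∀ k' : M ⊗[R] N, a • k' = 0 := by
      intro k'
      induction k' with
      | zero => simp
      | add x y hx hy => rw [smul_add, hx, hy, add_zero]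
      | tmul m n => rw [TensorProduct.smul_tmul', TensorProduct.smul_tmul, hN a ha, tmul_zero]
    have hak : (algebraMap R S a) • k = 0 := by
      rw [algebraMap_smul]
      exact hall k
    exact ha' (hle ((hAnn _).mpr hak))

end KerKilled

section Compare

variable {R S S' R' : Type u} [CommRing R] [CommRing R'] [CommRing S] [CommRing S']
  [Algebra R R'] [Algebra R S] [Algebra S S'] [Algebra R' S'] [Algebra R S']
  [IsScalarTower R S S'] [IsScalarTower R R' S'] [Algebra.IsPushout R S R' S']
  {M M' : Type u} [AddCommGroup M] [Module S M] [Module R M] [IsScalarTower R S M]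
  [AddCommGroup M'] [Module S' M'] [Module R' M'] [IsScalarTower R' S' M']
  [Module S M'] [IsScalarTower S S' M'] [Module R M'] [IsScalarTower R R' M'] [IsScalarTower R S M']
  (f : M →ₗ[S] M') (hf : IsBaseChange S' f)

open Groth.Agent.Lib.Seat30.FlatAt in
include hf in
/-- In a pushout square with `R → R'` killing `I`: if `M_W` is `TF I` and `W` maps into `V`, then
the localization `M'_V` of the base change `M'` is `R'`-flat. -/
theorem flat_localizedModule_of_isBaseChange_of_tf (I : Ideal R)
    (hI : I ≤ RingHom.ker (algebraMap R R'))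
    (W : Submonoid S) (V : Submonoid S') (hWV : ∀ s ∈ W, algebraMap S S' s ∈ V)
    (h : TF I (LocalizedModule W M)) : Module.Flat R' (LocalizedModule V M') := by
  rw [Module.Flat.iff_lTensor_preserves_injective_linearMap]
  intro N P _ _ _ _ ι hι
  let _ : Module R P := Module.compHom P (algebraMap R R')
  have : IsScalarTower R R' P := IsScalarTower.of_algebraMap_smul fun r x => rfl
  let _ : Module R N := Module.compHom N (algebraMap R R')
  have : IsScalarTower R R' N := IsScalarTower.of_algebraMap_smul fun r x => rfl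
  have hP : ∀ a ∈ I, ∀ p : P, a • p = 0 := by
    intro a ha p
    change (algebraMap R R' a) • p = 0
    rw [(RingHom.mem_ker).mp (hI ha), zero_smul]
  let g := LocalizedModule.mkLinearMap V M'
  have h1 := IsLocalizedModule.map_lTensor (R := R') S' V ι g
  rw [← AlgebraTensorModule.coe_lTensor (A := S'), ← h1, map_injective_iff]
  rintro k ⟨v, hv⟩
  have hk : ι.lTensor M' ((v : S') • k) = 0 := by
    have := map_smul (AlgebraTensorModule.lTensor S' M' ι) (v : S') k
    rw [AlgebraTensorModule.coe_lTensor] at this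
    rw [this]
    exact hv
  obtain ⟨k₀, hk₀⟩ := (cmp (R := R) R' f hf N).surjective ((v : S') • k)
  have hk₀' : ((ι.restrictScalars R).lTensor M) k₀ = 0 := by
    apply (cmp (R := R) R' f hf P).injective
    rw [map_zero, cmp_naturality, hk₀, hk]
  obtain ⟨s, hs⟩ := exists_smul_eq_zero_of_lTensor_eq_zero_of_tf W I h (ι.restrictScalars R) hP hι
    k₀ hk₀'
  refine ⟨⟨algebraMap S S' s * v, V.mul_mem (hWV s s.2) v.2⟩, ?_⟩
  change (algebraMap S S' s * (v : S')) • k = 0
  rw [mul_smul, ← hk₀, ← cmp_smul, hs, map_zero]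

end Compare

end Groth.Agent.Lib.Seat35.FlatIdeal
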