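import Mathlib

/-!
# Descent of flatness along an injective local homomorphism from a local ring with nilpotent
maximal ideal (helper35)

`flat_of_flat_baseChange_of_injective`: `A → A'` injective local homomorphism of local rings,
`𝔪_A` nilpotent, `Y` an `A`-module with `A' ⊗ Y` flat over `A'`.  Then `Y` is free over `A`.
-/

set_option autoImplicit false
set_option linter.unusedSectionVars false
set_option linter.style.haveILetI false
universe u

namespace Groth.Agent.Lib.Seat35.FlatIdeal

open TensorProduct IsLocalRing

/-- Nakayama for a nilpotent ideal (no finiteness). -/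
theorem eq_top_of_sup_smul_top_eq_top_of_isNilpotent {A : Type*} [CommRing A] {Y : Type*}
    [AddCommGroup Y] [Module A Y] (I : Ideal A) (hI : IsNilpotent I) (N : Submodule A Y)
    (h : N ⊔ I • ⊤ = ⊤) : N = ⊤ := by
  obtain ⟨n, hn⟩ := hI
  have key : ∀ j : ℕ, N ⊔ I ^ j • (⊤ : Submodule A Y) = ⊤ := by
    intro j
    induction j with
    | zero => simp
    | succ j ih =>
      have h2 : I • (⊤ : Submodule A Y) ≤ N ⊔ I ^ (j + 1) • ⊤ := by
        calc I • (⊤ : Submodule A Y) = I • (N ⊔ I ^ j • ⊤) := by rw [ih]
          _ = I • N ⊔ I • (I ^ j • ⊤) := Submodule.smul_sup _ _ _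
          _ ≤ N ⊔ I ^ (j + 1) • ⊤ := by
            refine sup_le_sup Submodule.smul_le_right ?_
            rw [← mul_smul, ← pow_succ']
      exact eq_top_iff.mpr (h.symm.le.trans (sup_le le_sup_left h2))
  have h1 := key n
  rw [hn, Ideal.zero_eq_bot, Submodule.bot_smul, sup_bot_eq] at h1
  exact h1

section

variable {A A' : Type u} [CommRing A] [CommRing A'] [IsLocalRing A] [IsLocalRing A']
  [Algebra A A'] [IsLocalHom (algebraMap A A')]

/-- Descent of flatness along an injective local homomorphism. -/
theorem free_of_flat_baseChange_of_injective (hinj : Function.Injective (algebraMap A A'))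
    (hnil : IsNilpotent (maximalIdeal A)) (Y : Type u) [AddCommGroup Y] [Module A Y]
    (h : Module.Flat A' (A' ⊗[A] Y)) : Module.Free A Y := by
  let k := ResidueField A
  let k' := ResidueField A'
  let ι := Module.Free.ChooseBasisIndex k (k ⊗[A] Y)
  let b : Module.Basis ι k (k ⊗[A] Y) := Module.Free.chooseBasis k (k ⊗[A] Y)
  have hsurj : Function.Surjective (TensorProduct.mk A k Y 1) :=
    TensorProduct.mk_surjective A Y k IsLocalRing.residue_surjective
  choose y hy using fun i => hsurj (b i)
  -- linear independence
  have hli : LinearIndependent A y := by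
    let y' : ι → A' ⊗[A] Y := fun i => 1 ⊗ₜ y i
    have hli' : LinearIndependent A' y' := by
      apply Module.IsLocalRing.linearIndependent_of_flat
      let e₁ : k' ⊗[A'] (A' ⊗[A] Y) ≃ₗ[k'] k' ⊗[A] Y :=
        AlgebraTensorModule.cancelBaseChange A A' k' k' Y
      let e₂ : k' ⊗[k] (k ⊗[A] Y) ≃ₗ[k'] k' ⊗[A] Y :=
        AlgebraTensorModule.cancelBaseChange A k k' k' Y
      let bb : Module.Basis ι k' (k' ⊗[k] (k ⊗[A] Y)) := Algebra.TensorProduct.basis k' b
      have hfam : (TensorProduct.mk A' k' (A' ⊗[A] Y) 1 ∘ y') =
          (e₁.symm.toLinearMap ∘ₗ e₂.toLinearMap) ∘ bb := by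
        ext i
        simp only [Function.comp_apply, LinearMap.coe_comp, LinearEquiv.coe_coe, y', bb,
          Algebra.TensorProduct.basis_apply, TensorProduct.mk_apply]
        rw [← hy i, LinearEquiv.eq_symm_apply]
        simp [e₁, e₂]
      rw [hfam]
      apply bb.linearIndependent.map'
      rw [LinearMap.ker_eq_bot]
      exact e₁.symm.injective.comp e₂.injective
    rw [linearIndependent_iff] at hli' ⊢
    intro l hl
    have h1 : Finsupp.linearCombination A' y' (l.mapRange (algebraMap A A') (map_zero _)) = 0 := by
      have h2 : Finsupp.linearCombination A' y' (l.mapRange (algebraMap A A') (map_zero _)) =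
          (1 : A') ⊗ₜ[A] (Finsupp.linearCombination A y l) := by
        rw [Finsupp.linearCombination_apply, Finsupp.linearCombination_apply,
          Finsupp.sum_mapRange_index (by intro i; rw [zero_smul])]
        rw [Finsupp.sum, Finsupp.sum, TensorProduct.tmul_sum]
        refine Finset.sum_congr rfl ?_
        intro i _
        simp only [y']
        rw [TensorProduct.smul_tmul', TensorProduct.tmul_smul, TensorProduct.smul_tmul',
          smul_eq_mul, mul_one, Algebra.algebraMap_eq_smul_one]
      rw [h2, hl, tmul_zero]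
    have h3 := hli' _ h1
    ext i
    apply hinj
    have h4 := DFunLike.congr_fun h3 i
    rw [Finsupp.mapRange_apply] at h4
    rw [h4, Finsupp.zero_apply, Finsupp.zero_apply, map_zero]
  -- spanning
  have hspan : ⊤ ≤ Submodule.span A (Set.range y) := by
    rw [top_le_iff]
    apply eq_top_of_sup_smul_top_eq_top_of_isNilpotent (maximalIdeal A) hnil
    rw [eq_top_iff]
    intro z _
    -- `1 ⊗ z` is a combination of the `b i`
    have hz : (1 : k) ⊗ₜ[A] z ∈ Submodule.span k (Set.range b) := by
      rw [b.span_eq]; trivial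
    obtain ⟨c, hc⟩ := (Finsupp.mem_span_range_iff_exists_finsupp).mp hz
    -- lift the coefficients
    choose a ha using fun i => IsLocalRing.residue_surjective (c i)
    let w : Y := c.sum fun i _ => a i • y i
    have hw : (1 : k) ⊗ₜ[A] w = (1 : k) ⊗ₜ[A] z := by
      rw [← hc]
      simp only [w, Finsupp.sum, TensorProduct.tmul_sum]
      refine Finset.sum_congr rfl ?_
      intro i _
      rw [TensorProduct.tmul_smul, ← ha i]
      have h5 : (1 : k) ⊗ₜ[A] y i = b i := hy i
      rw [h5]
      rw [← IsLocalRing.ResidueField.algebraMap_eq, algebraMap_smul]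
    have hzw : z - w ∈ (maximalIdeal A • ⊤ : Submodule A Y) := by
      have h6 : (1 : k) ⊗ₜ[A] (z - w) = 0 := by
        rw [tmul_sub, hw, sub_self]
      have h7 : (TensorProduct.quotTensorEquivQuotSMul Y (maximalIdeal A))
          ((1 : A ⧸ maximalIdeal A) ⊗ₜ[A] (z - w)) = 0 := by
        rw [show ((1 : A ⧸ maximalIdeal A) ⊗ₜ[A] (z - w)) = 0 from h6, map_zero]
      have h8 : (TensorProduct.quotTensorEquivQuotSMul Y (maximalIdeal A))
          ((1 : A ⧸ maximalIdeal A) ⊗ₜ[A] (z - w)) = Submodule.Quotient.mk (z - w) := by
        rw [← map_one (Ideal.Quotient.mk (maximalIdeal A)),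
          TensorProduct.quotTensorEquivQuotSMul_mk_tmul, one_smul]
      rw [h8] at h7
      exact (Submodule.Quotient.mk_eq_zero _).mp h7
    have hwmem : w ∈ Submodule.span A (Set.range y) := by
      apply Submodule.sum_mem
      intro i _
      exact Submodule.smul_mem _ _ (Submodule.subset_span ⟨i, rfl⟩)
    have h9 : z = w + (z - w) := by abel
    rw [h9]
    exact add_mem (Submodule.mem_sup_left hwmem) (Submodule.mem_sup_right hzw)
  exact Module.Free.of_basis (Module.Basis.mk hli hspan)

theorem flat_of_flat_baseChange_of_injective (hinj : Function.Injective (algebraMap A A'))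
    (hnil : IsNilpotent (maximalIdeal A)) (Y : Type u) [AddCommGroup Y] [Module A Y]
    (h : Module.Flat A' (A' ⊗[A] Y)) : Module.Flat A Y := by
  have := free_of_flat_baseChange_of_injective hinj hnil Y h
  infer_instance

end

end Groth.Agent.Lib.Seat35.FlatIdeal
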