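import Mathlib
import Groth.Agent.Lib.Seat35FlatIdealD
import Groth.Agent.Lib.Seat35FlatIdealE

/-!
# Flatness over the closed point descends to the contracted powers (helper35)

`flat_quotient_comap_pow_of_forall_flat`: for a local homomorphism `R → R'` of local rings and a
pushout square `S' = S ⊗ R'`, `M' = M ⊗ R'`: if `M'` is `R'`-flat at all primes of `S'` over `𝔪'`
then, with `J = φ⁻¹(𝔪'ⁿ)`, `M_q/JM_q` is flat over `R/J` for every prime `q` of `S`.
-/

set_option autoImplicit false
set_option linter.unusedSectionVars false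
set_option linter.style.haveILetI false
universe u

namespace Groth.Agent.Lib.Seat35.FlatIdeal

open TensorProduct IsLocalRing

section

variable {R S S' R' : Type u} [CommRing R] [CommRing R'] [CommRing S] [CommRing S']
  [IsLocalRing R] [IsLocalRing R']
  [Algebra R R'] [IsLocalHom (algebraMap R R')] [Algebra R S] [Algebra S S'] [Algebra R' S']
  [Algebra R S']
  [IsScalarTower R S S'] [IsScalarTower R R' S'] [Algebra.IsPushout R S R' S']
  {M M' : Type u} [AddCommGroup M] [Module S M] [Module R M] [IsScalarTower R S M]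
  [AddCommGroup M'] [Module S' M'] [Module R' M'] [IsScalarTower R' S' M']
  [Module S M'] [IsScalarTower S S' M'] [Module R M'] [IsScalarTower R R' M'] [IsScalarTower R S M']
  (f : M →ₗ[S] M') (hf : IsBaseChange S' f)

include hf in
theorem flat_quotient_comap_pow_of_forall_flat (n : ℕ) (hn : 0 < n)
    (H : ∀ (q' : Ideal S') [q'.IsPrime], q'.comap (algebraMap R' S') = maximalIdeal R' →
      Module.Flat R' (LocalizedModule q'.primeCompl M'))
    (W : Submonoid S) :
    Module.Flat (R ⧸ (maximalIdeal R' ^ n).comap (algebraMap R R'))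
      ((R ⧸ (maximalIdeal R' ^ n).comap (algebraMap R R')) ⊗[R] LocalizedModule W M) := by
  set J : Ideal R := (maximalIdeal R' ^ n).comap (algebraMap R R') with hJ
  -- (a) `TF (𝔪'ⁿ) M'`
  have hTF' : TF (maximalIdeal R' ^ n) M' := by
    apply tf_of_forall_flat_localizedModule (S := S')
    intro q' _ hq'
    apply H q'
    have h1 : maximalIdeal R' ≤ q'.comap (algebraMap R' S') :=
      Ideal.IsPrime.le_of_pow_le hq'
    exact ((IsLocalRing.maximalIdeal.isMaximal R').eq_of_le Ideal.IsPrime.ne_top' h1).symm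
  have hflat' : Module.Flat (R' ⧸ maximalIdeal R' ^ n) ((R' ⧸ maximalIdeal R' ^ n) ⊗[R'] M') :=
    flat_of_tf _ hTF'
  -- (b) the quotient rings
  let A := R ⧸ J
  let A' := R' ⧸ maximalIdeal R' ^ n
  letI : Algebra A A' := (Ideal.quotientMap (maximalIdeal R' ^ n) (algebraMap R R') le_rfl).toAlgebra
  have halg : ∀ a : R, algebraMap A A' (Ideal.Quotient.mk J a) =
      Ideal.Quotient.mk (maximalIdeal R' ^ n) (algebraMap R R' a) := fun a => rfl
  haveI : IsScalarTower R A A' := IsScalarTower.of_algebraMap_eq fun a => rfl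
  have hinj : Function.Injective (algebraMap A A') := Ideal.quotientMap_injective
  have hmn : maximalIdeal R' ^ n ≤ maximalIdeal R' := Ideal.pow_le_self hn.ne'
  have hJle : J ≤ maximalIdeal R := by
    intro a ha
    have h1 : algebraMap R R' a ∈ maximalIdeal R' := hmn ha
    rw [IsLocalRing.mem_maximalIdeal, mem_nonunits_iff] at h1 ⊢
    exact fun hu => h1 (hu.map _)
  have hmJ : maximalIdeal R ^ n ≤ J := by
    rw [hJ, ← Ideal.map_le_iff_le_comap, Ideal.map_pow]
    apply Ideal.pow_right_mono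
    rw [Ideal.map_le_iff_le_comap]
    intro a ha
    rw [Ideal.mem_comap]
    rw [IsLocalRing.mem_maximalIdeal, mem_nonunits_iff] at ha ⊢
    exact fun hu => ha (isUnit_of_map_unit (algebraMap R R') a hu)
  haveI : Nontrivial A := Ideal.Quotient.nontrivial_iff.mpr
    (fun h => (IsLocalRing.maximalIdeal.isMaximal R).ne_top (top_le_iff.mp (h ▸ hJle)))
  haveI : Nontrivial A' := Ideal.Quotient.nontrivial_iff.mpr
    (fun h => (IsLocalRing.maximalIdeal.isMaximal R').ne_top (top_le_iff.mp (h ▸ hmn)))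
  haveI : IsLocalRing A := IsLocalRing.of_surjective' (Ideal.Quotient.mk J) Ideal.Quotient.mk_surjective
  haveI : IsLocalRing A' := IsLocalRing.of_surjective' (Ideal.Quotient.mk (maximalIdeal R' ^ n))
    Ideal.Quotient.mk_surjective
  -- the maximal ideal of `A` is nilpotent
  have hmaxA : maximalIdeal A ≤ (maximalIdeal R).map (Ideal.Quotient.mk J) := by
    intro x hx
    obtain ⟨a, rfl⟩ := Ideal.Quotient.mk_surjective x
    apply Ideal.mem_map_of_mem
    rw [IsLocalRing.mem_maximalIdeal, mem_nonunits_iff] at hx ⊢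
    exact fun hu => hx (hu.map _)
  have hnil : IsNilpotent (maximalIdeal A) := by
    refine ⟨n, ?_⟩
    rw [Ideal.zero_eq_bot, eq_bot_iff]
    calc maximalIdeal A ^ n ≤ ((maximalIdeal R).map (Ideal.Quotient.mk J)) ^ n :=
          Ideal.pow_right_mono hmaxA n
      _ = (maximalIdeal R ^ n).map (Ideal.Quotient.mk J) := (Ideal.map_pow _ _ _).symm
      _ ≤ J.map (Ideal.Quotient.mk J) := Ideal.map_mono hmJ
      _ = ⊥ := by rw [Ideal.map_quotient_self]
  haveI : IsLocalHom (algebraMap A A') := by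
    constructor
    intro x hx
    by_contra hx'
    have h1 : x ∈ maximalIdeal A := hx'
    obtain ⟨k, hk⟩ := hnil
    have h2 : x ^ k = 0 := by
      have : x ^ k ∈ maximalIdeal A ^ k := Ideal.pow_mem_pow h1 k
      rw [hk] at this
      exact this
    have h3 : (algebraMap A A' x) ^ k = 0 := by rw [← map_pow, h2, map_zero]
    exact (hx.pow k).ne_zero h3
  -- (c) transport flatness to `A' ⊗[A] (A ⊗[R] M)`
  have hfR : IsBaseChange R' (f.restrictScalars R) :=
    Groth.Agent.Lib.Seat30.FlatAt.isBaseChange_restrictScalars f hf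
  let e1 : A' ⊗[A] (A ⊗[R] M) ≃ₗ[A'] A' ⊗[R] M := AlgebraTensorModule.cancelBaseChange R A A' A' M
  let e2 : A' ⊗[R'] (R' ⊗[R] M) ≃ₗ[A'] A' ⊗[R] M := AlgebraTensorModule.cancelBaseChange R R' A' A' M
  let e3 : A' ⊗[R'] (R' ⊗[R] M) ≃ₗ[A'] A' ⊗[R'] M' :=
    AlgebraTensorModule.congr (LinearEquiv.refl A' A') hfR.equiv
  have hflatA' : Module.Flat A' (A' ⊗[A] (A ⊗[R] M)) :=
    Module.Flat.of_linearEquiv (e1 ≪≫ₗ e2.symm ≪≫ₗ e3)
  have hflatA : Module.Flat A (A ⊗[R] M) :=
    flat_of_flat_baseChange_of_injective hinj hnil _ hflatA'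
  exact flat_of_tf J (TF.localizedModule W J (tf_of_flat J hflatA))

end

end Groth.Agent.Lib.Seat35.FlatIdeal
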