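import Mathlib

/-!
Helper library (seat 35): going-down for finite dominant morphisms of integral schemes onto a
normal scheme, in the form "generizations lift" (`GeneralizingMap`).

* `isIntegrallyClosed_of_stalks` : sections of an integral scheme with integrally closed local
  rings over a nonempty affine open form an integrally closed domain.
* `generalizingMap_of_isFinite` : the going-down theorem.
-/

set_option autoImplicit false
universe u
open CategoryTheory AlgebraicGeometry TopologicalSpace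

namespace Groth.Agent.Lib.Seat35.GoingDown

theorem isIntegrallyClosed_of_stalks {Y : Scheme.{u}} [IsIntegral Y] {U : Y.Opens}
    (hU : IsAffineOpen U) [Nonempty U]
    (hnor : ∀ q : Y, IsIntegrallyClosed (Y.presheaf.stalk q)) : IsIntegrallyClosed Γ(Y, U) := by
  refine IsIntegrallyClosed.of_localization_maximal fun p _ hp => ?_
  let y : PrimeSpectrum Γ(Y, U) := ⟨p, hp.isPrime⟩
  have hy : hU.fromSpec y ∈ U := by
    have := hU.range_fromSpec
    rw [← SetLike.mem_coe, ← this]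
    exact ⟨y, rfl⟩
  let := TopCat.Presheaf.algebra_section_stalk Y.presheaf ⟨hU.fromSpec y, hy⟩
  have : IsLocalization.AtPrime (Y.presheaf.stalk (hU.fromSpec y)) p :=
    hU.isLocalization_stalk' y hy
  have := hnor (hU.fromSpec y)
  exact IsIntegrallyClosed.of_equiv
    (IsLocalization.algEquiv p.primeCompl (Localization.AtPrime p)
      (Y.presheaf.stalk (hU.fromSpec y))).symm.toRingEquiv

/-- Going-down: a finite dominant morphism from an integral scheme to a normal integral scheme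
lifts generizations. -/
theorem generalizingMap_of_isFinite {X Y : Scheme.{u}} [IsIntegral X] [IsIntegral Y] (f : X ⟶ Y)
    [IsFinite f] [IsDominant f] (hnor : ∀ q : Y, IsIntegrallyClosed (Y.presheaf.stalk q)) :
    GeneralizingMap f := by
  intro x y' hy'
  -- an affine open neighbourhood of `f x`
  obtain ⟨_, ⟨U, hU0, rfl⟩, hfxU, -⟩ :=
    Y.isBasis_affineOpens.exists_subset_of_mem_open (Set.mem_univ (f x)) isOpen_univ
  have hU : IsAffineOpen U := hU0
  have hy'U : y' ∈ U := hy'.mem_open U.isOpen hfxU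
  have hW : IsAffineOpen (f ⁻¹ᵁ U) := hU.preimage f
  have hxW : x ∈ f ⁻¹ᵁ U := hfxU
  have : Nonempty U := ⟨⟨f x, hfxU⟩⟩
  have : Nonempty (f ⁻¹ᵁ U) := ⟨⟨x, hxW⟩⟩
  -- the ring map and its properties
  have hstd : IsSchemeTheoreticallyDominant f := IsSchemeTheoreticallyDominant.of_isDominant f
  have hinj : Function.Injective (f.appLE U (f ⁻¹ᵁ U) le_rfl).hom := by
    have := f.app_injective U
    rwa [Scheme.Hom.app_eq_appLE] at this
  have hfin : (f.appLE U (f ⁻¹ᵁ U) le_rfl).hom.Finite := by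
    have := f.finite_app U hU
    rwa [Scheme.Hom.app_eq_appLE] at this
  have : IsIntegrallyClosed Γ(Y, U) := isIntegrallyClosed_of_stalks hU hnor
  algebraize [(f.appLE U (f ⁻¹ᵁ U) le_rfl).hom]
  have : FaithfulSMul Γ(Y, U) Γ(X, f ⁻¹ᵁ U) :=
    (faithfulSMul_iff_algebraMap_injective _ _).mpr hinj
  have : Algebra.IsIntegral Γ(Y, U) Γ(X, f ⁻¹ᵁ U) := Algebra.IsIntegral.of_finite _ _
  have hgd : GeneralizingMap (PrimeSpectrum.comap (algebraMap Γ(Y, U) Γ(X, f ⁻¹ᵁ U))) :=
    Algebra.HasGoingDown.iff_generalizingMap_primeSpectrumComap.mp inferInstance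
  -- translate to prime spectra
  have hcomap : PrimeSpectrum.comap (algebraMap Γ(Y, U) Γ(X, f ⁻¹ᵁ U)) (hW.primeIdealOf ⟨x, hxW⟩) =
      hU.primeIdealOf ⟨f x, hfxU⟩ :=
    IsAffineOpen.comap_primeIdealOf_appLE U hU (f ⁻¹ᵁ U) hW le_rfl hxW
  have hspec : hU.primeIdealOf ⟨y', hy'U⟩ ⤳
      PrimeSpectrum.comap (algebraMap Γ(Y, U) Γ(X, f ⁻¹ᵁ U)) (hW.primeIdealOf ⟨x, hxW⟩) := by
    rw [hcomap]
    have h1 : (⟨y', hy'U⟩ : U) ⤳ ⟨f x, hfxU⟩ :=
      Topology.IsInducing.subtypeVal.specializes_iff.mp hy'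
    exact h1.map hU.isoSpec.hom.continuous
  obtain ⟨P, hPQ, hP⟩ := hgd hspec
  refine ⟨hW.fromSpec P, ?_, ?_⟩
  · have h2 := hPQ.map hW.fromSpec.continuous
    rwa [hW.fromSpec_primeIdealOf] at h2
  · have h3 : hU.fromSpec (Spec.map (f.appLE U (f ⁻¹ᵁ U) le_rfl) P) = f (hW.fromSpec P) :=
      congrArg (fun g : Spec Γ(X, f ⁻¹ᵁ U) ⟶ Y => g P)
        (IsAffineOpen.SpecMap_appLE_fromSpec f hU hW le_rfl)
    rw [← h3]
    have h4 : Spec.map (f.appLE U (f ⁻¹ᵁ U) le_rfl) P = hU.primeIdealOf ⟨y', hy'U⟩ := hP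
    rw [h4, hU.fromSpec_primeIdealOf]

end Groth.Agent.Lib.Seat35.GoingDown
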