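import Mathlib

/-!
# Base change of quotients `M / J^k M` (helper35)

* `quotMap`, `isBaseChange_quotMap`: if `f : M → M'` is a base change along `B → B'` and
  `P' = span (f '' P)` then `M / P → M' / P'` is a base change.
* `span_image_smul_top`: `span (f '' (I • ⊤)) = (I.map) • ⊤` for a base change `f`.
* `powQuotMap`, `isBaseChange_powQuotMap`: the case `P = J^k • ⊤`, `P' = (J B')^k • ⊤`.
-/

set_option autoImplicit false
set_option linter.style.haveILetI false
universe u

namespace Groth.Agent.Lib.Seat35.GrFlat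

open TensorProduct

section QuotBC

variable {B B' : Type u} [CommRing B] [CommRing B'] [Algebra B B']
  {M M' : Type u} [AddCommGroup M] [Module B M] [AddCommGroup M'] [Module B' M'] [Module B M']
  [IsScalarTower B B' M']

/-- The induced map on quotients. -/
noncomputable def quotMap (f : M →ₗ[B] M') (P : Submodule B M) (P' : Submodule B' M')
    (h : ∀ x ∈ P, f x ∈ P') : M ⧸ P →ₗ[B] M' ⧸ P' :=
  P.liftQ ((P'.mkQ.restrictScalars B) ∘ₗ f) (by
    intro x hx
    rw [LinearMap.mem_ker, LinearMap.comp_apply, LinearMap.restrictScalars_apply,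
      Submodule.mkQ_apply, Submodule.Quotient.mk_eq_zero]
    exact h x hx)

@[simp]
theorem quotMap_mk (f : M →ₗ[B] M') (P : Submodule B M) (P' : Submodule B' M')
    (h : ∀ x ∈ P, f x ∈ P') (x : M) :
    quotMap f P P' h (Submodule.Quotient.mk x) = Submodule.Quotient.mk (f x) := rfl

theorem isBaseChange_quotMap (f : M →ₗ[B] M') (hf : IsBaseChange B' f) (P : Submodule B M)
    (P' : Submodule B' M') (hP : P' = Submodule.span B' (f '' P)) :
    IsBaseChange B' (quotMap f P P' (fun x hx => by
      rw [hP]; exact Submodule.subset_span ⟨x, hx, rfl⟩)) := by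
  apply IsBaseChange.of_lift_unique
  intro Q iQ _ _ _ g
  letI iG : AddCommGroup Q := Module.addCommMonoidToAddCommGroup B'
  let g₁ : M →ₗ[B] Q := g ∘ₗ P.mkQ
  let g₂ : M' →ₗ[B'] Q := hf.lift g₁
  have hg₂ : ∀ x, g₂ (f x) = g (Submodule.Quotient.mk x) := fun x => hf.lift_eq g₁ x
  have hker : P' ≤ LinearMap.ker g₂ := by
    rw [hP, Submodule.span_le]
    rintro _ ⟨x, hx, rfl⟩
    change g₂ (f x) = 0
    rw [hg₂, (Submodule.Quotient.mk_eq_zero P).mpr hx, map_zero]
  refine ⟨P'.liftQ g₂ hker, ?_, ?_⟩
  · ext x
    change (P'.liftQ g₂ hker) (Submodule.Quotient.mk (f x)) = g (Submodule.Quotient.mk x)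
    rw [Submodule.liftQ_apply, hg₂]
  · intro g' hg'
    apply Submodule.linearMap_qext
    apply hf.algHom_ext'
    ext x
    change g' (Submodule.Quotient.mk (f x)) = (P'.liftQ g₂ hker) (Submodule.Quotient.mk (f x))
    rw [Submodule.liftQ_apply, hg₂, ← hg']
    rfl

theorem span_image_smul_top (f : M →ₗ[B] M') (hf : IsBaseChange B' f) (I : Ideal B) :
    Submodule.span B' (f '' ((I • (⊤ : Submodule B M) : Submodule B M) : Set M)) =
      (I.map (algebraMap B B')) • (⊤ : Submodule B' M') := by
  apply le_antisymm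
  · rw [Submodule.span_le]
    rintro _ ⟨x, hx, rfl⟩
    change f x ∈ (I.map (algebraMap B B')) • (⊤ : Submodule B' M')
    refine Submodule.smul_induction_on hx ?_ ?_
    · intro i hi m _
      rw [map_smul, ← algebraMap_smul B' i (f m)]
      exact Submodule.smul_mem_smul (Ideal.mem_map_of_mem _ hi) Submodule.mem_top
    · intro x y hx hy
      rw [map_add]
      exact add_mem hx hy
  · rw [Submodule.smul_le]
    intro r hr n hn
    clear hn
    induction n using hf.inductionOn with
    | zero => rw [smul_zero]; exact zero_mem _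
    | tmul m =>
      refine Submodule.span_induction (p := fun r _ => r • f m ∈
        Submodule.span B' (f '' ((I • (⊤ : Submodule B M) : Submodule B M) : Set M)))
        ?_ ?_ ?_ ?_ hr
      · rintro _ ⟨i, hi, rfl⟩
        rw [algebraMap_smul, ← map_smul]
        exact Submodule.subset_span ⟨i • m, Submodule.smul_mem_smul hi Submodule.mem_top, rfl⟩
      · rw [zero_smul]; exact zero_mem _
      · intro x y _ _ hx hy
        rw [add_smul]; exact add_mem hx hy
      · intro a x _ hx
        rw [smul_eq_mul, mul_smul]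
        exact Submodule.smul_mem _ a hx
    | smul b n ih =>
      rw [smul_comm]
      exact Submodule.smul_mem _ b ih
    | add n₁ n₂ h₁ h₂ =>
      rw [smul_add]; exact add_mem h₁ h₂

/-- The map `M / J^k M → M' / (J B')^k M'`. -/
noncomputable def powQuotMap (B' : Type u) [CommRing B'] [Algebra B B'] [Module B' M']
    [IsScalarTower B B' M'] (f : M →ₗ[B] M') (J : Ideal B) (k : ℕ) :
    M ⧸ (J ^ k • (⊤ : Submodule B M)) →ₗ[B]
      M' ⧸ ((J.map (algebraMap B B')) ^ k • (⊤ : Submodule B' M')) :=
  quotMap f _ _ (by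
    intro x hx
    refine Submodule.smul_induction_on hx ?_ ?_
    · intro i hi m _
      rw [map_smul, ← algebraMap_smul B' i (f m), ← Ideal.map_pow]
      exact Submodule.smul_mem_smul (Ideal.mem_map_of_mem _ hi) Submodule.mem_top
    · intro x y hx hy
      rw [map_add]
      exact add_mem hx hy)

@[simp]
theorem powQuotMap_mk (f : M →ₗ[B] M') (J : Ideal B) (k : ℕ) (x : M) :
    powQuotMap B' f J k (Submodule.Quotient.mk x) = Submodule.Quotient.mk (f x) := rfl

theorem isBaseChange_powQuotMap (f : M →ₗ[B] M') (hf : IsBaseChange B' f) (J : Ideal B) (k : ℕ) :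
    IsBaseChange B' (powQuotMap B' f J k) := by
  have h := isBaseChange_quotMap f hf (J ^ k • (⊤ : Submodule B M))
    ((J.map (algebraMap B B')) ^ k • (⊤ : Submodule B' M'))
    (by rw [span_image_smul_top f hf, Ideal.map_pow])
  exact h

end QuotBC

end Groth.Agent.Lib.Seat35.GrFlat
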