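import Mathlib
import Groth.Agent.Lib.Helper22FlatExact

/-!
# Flat graded pieces give flat truncations (helper35)

`flat_quot_pow_of_gr`: if all `J^k M / J^{k+1} M` are `A`-flat then all `M / J^k M` are `A`-flat.
-/

set_option autoImplicit false
set_option linter.style.haveILetI false
universe u

namespace Groth.Agent.Lib.Seat35.GrFlat

section Gr

variable {A B : Type u} [CommRing A] [CommRing B] [Algebra A B] (J : Ideal B)
  (M : Type u) [AddCommGroup M] [Module B M] [Module A M] [IsScalarTower A B M]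

theorem pow_succ_smul_top_le (k : ℕ) :
    J ^ (k + 1) • (⊤ : Submodule B M) ≤ J ^ k • (⊤ : Submodule B M) :=
  Submodule.smul_mono_left (Ideal.pow_le_pow_right (Nat.le_succ k))

/-- `J^k M / J^{k+1} M → M / J^{k+1} M`. -/
noncomputable def grIncl (k : ℕ) :
    (↥(J ^ k • (⊤ : Submodule B M)) ⧸
      Submodule.comap (J ^ k • (⊤ : Submodule B M)).subtype (J ^ (k + 1) • ⊤)) →ₗ[B]
      M ⧸ (J ^ (k + 1) • (⊤ : Submodule B M)) :=
  Submodule.liftQ _ ((J ^ (k + 1) • (⊤ : Submodule B M)).mkQ ∘ₗ
    (J ^ k • (⊤ : Submodule B M)).subtype) (by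
      intro x hx
      rw [Submodule.mem_comap] at hx
      rw [LinearMap.mem_ker, LinearMap.comp_apply, Submodule.mkQ_apply,
        Submodule.Quotient.mk_eq_zero]
      exact hx)

theorem grIncl_injective (k : ℕ) : Function.Injective (grIncl J M k) := by
  rw [← LinearMap.ker_eq_bot]
  unfold grIncl
  rw [Submodule.ker_liftQ_eq_bot']
  ext x
  rw [Submodule.mem_comap, LinearMap.mem_ker, LinearMap.comp_apply, Submodule.mkQ_apply,
    Submodule.Quotient.mk_eq_zero]

/-- `M / J^{k+1} M → M / J^k M`. -/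
noncomputable def grProj (k : ℕ) :
    M ⧸ (J ^ (k + 1) • (⊤ : Submodule B M)) →ₗ[B] M ⧸ (J ^ k • (⊤ : Submodule B M)) :=
  Submodule.factor (pow_succ_smul_top_le J M k)

theorem grProj_surjective (k : ℕ) : Function.Surjective (grProj J M k) :=
  Submodule.factor_surjective (pow_succ_smul_top_le J M k)

theorem gr_exact (k : ℕ) : Function.Exact (grIncl J M k) (grProj J M k) := by
  intro y
  constructor
  · intro hy
    obtain ⟨m, rfl⟩ := Submodule.Quotient.mk_surjective _ y
    have hm : m ∈ J ^ k • (⊤ : Submodule B M) := by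
      have : grProj J M k (Submodule.Quotient.mk m) = Submodule.Quotient.mk m := rfl
      rw [this, Submodule.Quotient.mk_eq_zero] at hy
      exact hy
    exact ⟨Submodule.Quotient.mk ⟨m, hm⟩, rfl⟩
  · rintro ⟨x, rfl⟩
    obtain ⟨⟨m, hm⟩, rfl⟩ := Submodule.Quotient.mk_surjective _ x
    change (Submodule.Quotient.mk m : M ⧸ (J ^ k • (⊤ : Submodule B M))) = 0
    rw [Submodule.Quotient.mk_eq_zero]
    exact hm

theorem flat_quot_pow_of_gr
    (hgr : ∀ k : ℕ, Module.Flat A
      (↥(J ^ k • (⊤ : Submodule B M)) ⧸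
        Submodule.comap (J ^ k • (⊤ : Submodule B M)).subtype (J ^ (k + 1) • ⊤))) (k : ℕ) :
    Module.Flat A (M ⧸ (J ^ k • (⊤ : Submodule B M))) := by
  induction k with
  | zero =>
    have : Subsingleton (M ⧸ (J ^ 0 • (⊤ : Submodule B M))) := by
      refine ⟨fun x y => ?_⟩
      obtain ⟨a, rfl⟩ := Submodule.Quotient.mk_surjective _ x
      obtain ⟨b, rfl⟩ := Submodule.Quotient.mk_surjective _ y
      rw [Submodule.Quotient.eq, pow_zero, Ideal.one_eq_top, Submodule.top_smul]
      exact Submodule.mem_top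
    infer_instance
  | succ k ih =>
    haveI := hgr k
    haveI := ih
    exact Groth.Agent.Lib.Helper22.flat_of_exact_of_flat_flat'
      ((grIncl J M k).restrictScalars A) ((grProj J M k).restrictScalars A)
      (grIncl_injective J M k) (grProj_surjective J M k) (gr_exact J M k)

end Gr

end Groth.Agent.Lib.Seat35.GrFlat
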