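import Mathlib
import Groth.Agent.Lib.Seat35FlatIdealA

/-!
# The Noetherian core: flatness modulo `I` from flatness of the truncations (helper35)

* `tf_of_forall_fg_ideal`: the ideal criterion for `TF I X`.
* `tf_of_forall_quot`: `S` Noetherian, `𝕁 ⊆ rad S`, `N` a finite `S`-module, `N → F k` surjective
  `R`-linear with kernel inside `𝕁^k N` and `TF I (F k)` for all `k`; then `TF I N` (Krull).
-/

set_option autoImplicit false
set_option linter.unusedSectionVars false
set_option linter.style.haveILetI false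
universe u

namespace Groth.Agent.Lib.Seat35.GrFlat

open TensorProduct Groth.Agent.Lib.Seat35.FlatIdeal

section Crit

variable {R : Type u} [CommRing R] (I : Ideal R) {X : Type u} [AddCommGroup X] [Module R X]

theorem tf_of_forall_fg_ideal
    (h : ∀ 𝔞 : Ideal (R ⧸ I), 𝔞.FG →
      Function.Injective ((𝔞.subtype.restrictScalars R).lTensor X)) : TF I X := by
  apply tf_of_flat
  rw [Module.Flat.iff_rTensor_injective]
  intro 𝔞 h𝔞
  rw [rTensor_baseChange_injective_iff, ← LinearMap.lTensor_inj_iff_rTensor_inj]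
  exact h 𝔞 h𝔞

end Crit

section Core

variable {R S : Type u} [CommRing R] [CommRing S] [Algebra R S] [IsNoetherianRing S]
  (I : Ideal R) (𝕁 : Ideal S) (h𝕁 : 𝕁 ≤ Ideal.jacobson ⊥)
  {N : Type u} [AddCommGroup N] [Module S N] [Module R N] [IsScalarTower R S N] [Module.Finite S N]
  (F : ℕ → Type u) [∀ k, AddCommGroup (F k)] [∀ k, Module R (F k)]
  (π : ∀ k, N →ₗ[R] F k) (hπ : ∀ k, Function.Surjective (π k))
  (hker : ∀ k x, π k x = 0 → x ∈ 𝕁 ^ k • (⊤ : Submodule S N))
  (hTF : ∀ k, TF I (F k))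

include h𝕁 hπ hker hTF in
theorem tf_of_forall_quot : TF I N := by
  apply tf_of_forall_fg_ideal
  intro 𝔞 h𝔞
  haveI : Module.Finite (R ⧸ I) 𝔞 := Module.Finite.iff_fg.mpr h𝔞
  haveI : Module.Finite R 𝔞 := Module.Finite.trans (R ⧸ I) 𝔞
  haveI : Module.Finite S (N ⊗[R] 𝔞) :=
    Module.Finite.equiv (AlgebraTensorModule.cancelBaseChange R S S N 𝔞)
  let ι : 𝔞 →ₗ[R] (R ⧸ I) := 𝔞.subtype.restrictScalars R
  have hι : Function.Injective ι := Subtype.val_injective
  have hP : ∀ a ∈ I, ∀ p : R ⧸ I, a • p = 0 := by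
    intro a ha p
    rw [Algebra.smul_def, Ideal.Quotient.algebraMap_eq, Ideal.Quotient.eq_zero_iff_mem.mpr ha,
      zero_mul]
  rw [injective_iff_map_eq_zero]
  intro x hx
  have hmem : ∀ k, x ∈ 𝕁 ^ k • (⊤ : Submodule S (N ⊗[R] 𝔞)) := by
    intro k
    have h1 : ι.lTensor (F k) ((π k).rTensor 𝔞 x) = 0 := by
      rw [← LinearMap.comp_apply, LinearMap.lTensor_comp_rTensor, ← LinearMap.rTensor_comp_lTensor,
        LinearMap.comp_apply, hx, map_zero]
    have h2 : (π k).rTensor 𝔞 x = 0 := (hTF k) 𝔞 (R ⧸ I) ι hP hι (by rw [h1, map_zero])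
    have hex := rTensor_exact 𝔞 (LinearMap.exact_subtype_ker_map (π k)) (hπ k)
    obtain ⟨w, rfl⟩ := (hex x).mp h2
    clear h1 h2 hx
    induction w with
    | zero => rw [map_zero]; exact zero_mem _
    | add a b ha hb => rw [map_add]; exact add_mem ha hb
    | tmul n a =>
      rw [LinearMap.rTensor_tmul]
      have hn : (n : N) ∈ 𝕁 ^ k • (⊤ : Submodule S N) := hker k n n.2
      change ((LinearMap.ker (π k)).subtype n) ⊗ₜ[R] a ∈ _
      rw [Submodule.subtype_apply]
      refine Submodule.smul_induction_on hn ?_ ?_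
      · intro j hj m _
        rw [← smul_tmul']
        exact Submodule.smul_mem_smul hj Submodule.mem_top
      · intro y z hy hz
        rw [add_tmul]
        exact add_mem hy hz
  have hK := Ideal.iInf_pow_smul_eq_bot_of_le_jacobson (M := N ⊗[R] 𝔞) 𝕁 h𝕁
  have hx' : x ∈ (⨅ i, 𝕁 ^ i • ⊤ : Submodule S (N ⊗[R] 𝔞)) := by
    rw [Submodule.mem_iInf]; exact hmem
  rw [hK] at hx'
  exact (Submodule.mem_bot S).mp hx'

end Core

end Groth.Agent.Lib.Seat35.GrFlat
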