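import Mathlib
import Groth.Agent.Lib.Seat35GrFlatC

/-!
# The Noetherian core, localized form (helper35)

`tf_localizedModule_of_forall_quot`: `S` Noetherian, `𝕄` a finite `S`-module, `𝕁₀ ⊆ q` prime; if
`(𝕄/𝕁₀^k 𝕄)_q` is `TF I` for all `k` then `𝕄_q` is `TF I`.
-/

set_option autoImplicit false
set_option linter.unusedSectionVars false
set_option linter.style.haveILetI false
universe u

namespace Groth.Agent.Lib.Seat35.GrFlat

open TensorProduct Groth.Agent.Lib.Seat35.FlatIdeal

section Loc

variable {R S : Type u} [CommRing R] [CommRing S] [Algebra R S] [IsNoetherianRing S]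
  (I : Ideal R) (𝕁₀ : Ideal S) (q : Ideal S) [q.IsPrime]
  (𝕄 : Type u) [AddCommGroup 𝕄] [Module S 𝕄] [Module R 𝕄] [IsScalarTower R S 𝕄]
  [Module.Finite S 𝕄]

theorem mkLinearMap_mem_of_mem (k : ℕ) (m : 𝕄) (hm : m ∈ 𝕁₀ ^ k • (⊤ : Submodule S 𝕄)) :
    LocalizedModule.mkLinearMap q.primeCompl 𝕄 m ∈
      (𝕁₀.map (algebraMap S (Localization.AtPrime q))) ^ k •
        (⊤ : Submodule (Localization.AtPrime q) (LocalizedModule q.primeCompl 𝕄)) := by
  refine Submodule.smul_induction_on hm ?_ ?_
  · intro j hj m' _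
    rw [map_smul, ← algebraMap_smul (Localization.AtPrime q) j, ← Ideal.map_pow]
    exact Submodule.smul_mem_smul (Ideal.mem_map_of_mem _ hj) Submodule.mem_top
  · intro x y hx hy
    rw [map_add]
    exact add_mem hx hy

theorem tf_localizedModule_of_forall_quot (h𝕁 : 𝕁₀ ≤ q)
    (hTF : ∀ k : ℕ, TF I (LocalizedModule q.primeCompl (𝕄 ⧸ (𝕁₀ ^ k • (⊤ : Submodule S 𝕄))))) :
    TF I (LocalizedModule q.primeCompl 𝕄) := by
  have hjac : 𝕁₀.map (algebraMap S (Localization.AtPrime q)) ≤
      Ideal.jacobson (⊥ : Ideal (Localization.AtPrime q)) := by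
    rw [IsLocalRing.jacobson_eq_maximalIdeal ⊥ bot_ne_top,
      ← IsLocalization.AtPrime.map_eq_maximalIdeal q (Localization.AtPrime q)]
    exact Ideal.map_mono h𝕁
  refine tf_of_forall_quot (S := Localization.AtPrime q) I
    (𝕁₀.map (algebraMap S (Localization.AtPrime q))) hjac
    (fun k => LocalizedModule q.primeCompl (𝕄 ⧸ (𝕁₀ ^ k • (⊤ : Submodule S 𝕄))))
    (fun k => (LocalizedModule.map q.primeCompl
      ((𝕁₀ ^ k • (⊤ : Submodule S 𝕄)).mkQ)).restrictScalars R) ?_ ?_ hTF
  · intro k y
    induction y using LocalizedModule.induction_on with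
    | h x s =>
      obtain ⟨m, rfl⟩ := Submodule.Quotient.mk_surjective _ x
      exact ⟨LocalizedModule.mk m s, by
        rw [LinearMap.restrictScalars_apply, LocalizedModule.map_mk]; rfl⟩
  · intro k x hx
    induction x using LocalizedModule.induction_on with
    | h m s =>
      rw [LinearMap.restrictScalars_apply, LocalizedModule.map_mk, Submodule.mkQ_apply,
        ← LocalizedModule.zero_mk 1, LocalizedModule.mk_eq] at hx
      obtain ⟨t, ht⟩ := hx
      rw [one_smul, smul_zero, smul_zero] at ht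
      have htm : (t : S) • m ∈ 𝕁₀ ^ k • (⊤ : Submodule S 𝕄) := by
        rw [← Submodule.Quotient.mk_eq_zero, Submodule.Quotient.mk_smul]
        exact ht
      have h1 := mkLinearMap_mem_of_mem 𝕁₀ q 𝕄 k _ htm
      have h2 : LocalizedModule.mk m s =
          (Localization.mk (1 : S) (t * s) : Localization.AtPrime q) •
            LocalizedModule.mkLinearMap q.primeCompl 𝕄 ((t : S) • m) := by
        rw [LocalizedModule.mkLinearMap_apply, LocalizedModule.mk_smul_mk, one_smul,
          mul_one]
        exact (LocalizedModule.mk_cancel_common_left t s m).symm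
      rw [h2]
      exact Submodule.smul_mem _ _ h1

end Loc

end Groth.Agent.Lib.Seat35.GrFlat
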