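import Mathlib
import Groth.Prelude.Def_FlatCA

/-!
# A local ring as a directed colimit of localizations of finitely generated subalgebras (seat 35)

For an `R`-algebra `R'` which is a local ring, the index type `Idx R R'` of finitely generated
`R`-subalgebras `A ⊆ R'`, the local rings `G A = A_{𝔪' ∩ A}`, their transition maps, and the proof
that `R'` is the directed colimit (`FlatCA.IsDirectedColimitRing`).  For Noetherian `R` all `G A`
are Noetherian local rings, and if `R → R'` is a local homomorphism so is `R → G A`.
-/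

set_option autoImplicit false
universe u

namespace Groth.Agent.Lib.Seat35.LocalColim

variable (R R' : Type u) [CommRing R] [CommRing R'] [Algebra R R'] [IsLocalRing R']

/-- finitely generated subalgebras -/
abbrev Idx : Type u := {A : Subalgebra R R' // A.FG}

variable {R R'}

/-- the contraction of the maximal ideal -/
def P (A : Idx R R') : Ideal A.1 := (IsLocalRing.maximalIdeal R').comap (algebraMap A.1 R')

instance (A : Idx R R') : (P A).IsPrime := by
  unfold P
  infer_instance

theorem mem_P (A : Idx R R') (x : A.1) : x ∈ P A ↔ (x : R') ∈ IsLocalRing.maximalIdeal R' :=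
  Iff.rfl

/-- the localized finitely generated subalgebra -/
abbrev G (A : Idx R R') : Type u := Localization.AtPrime (P A)

theorem P_eq_comap {A B : Idx R R'} (h : A ≤ B) :
    P A = (P B).comap (Subalgebra.inclusion (show A.1 ≤ B.1 from h)).toRingHom :=
  Ideal.ext fun _ => Iff.rfl

/-- transition maps -/
noncomputable def g (A B : Idx R R') (h : A ≤ B) : G A →+* G B :=
  Localization.localRingHom (P A) (P B) (Subalgebra.inclusion (show A.1 ≤ B.1 from h)).toRingHom
    (P_eq_comap h)

instance (A B : Idx R R') (h : A ≤ B) : IsLocalHom (g A B h) := by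
  unfold g
  infer_instance

theorem map_maximalIdeal_le (A B : Idx R R') (h : A ≤ B) :
    (IsLocalRing.maximalIdeal (G A)).map (g A B h) ≤ IsLocalRing.maximalIdeal (G B) := by
  rw [Ideal.map_le_iff_le_comap]
  intro x hx
  rw [Ideal.mem_comap, IsLocalRing.mem_maximalIdeal]
  intro hu
  exact (IsLocalRing.mem_maximalIdeal x).1 hx (isUnit_of_map_unit (g A B h) x hu)

/-- the structure map `G A → R'` -/
noncomputable def toTop (A : Idx R R') : G A →+* R' :=
  IsLocalization.lift (M := (P A).primeCompl) (g := algebraMap A.1 R') (fun y => by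
    have hy : (y : A.1) ∉ P A := y.2
    rw [mem_P] at hy
    by_contra hu
    exact hy ((IsLocalRing.mem_maximalIdeal _).2 hu))

theorem toTop_algebraMap (A : Idx R R') (x : A.1) :
    toTop A (algebraMap A.1 (G A) x) = (x : R') := by
  unfold toTop
  rw [IsLocalization.lift_eq]
  rfl

theorem toTop_comp_g (A B : Idx R R') (h : A ≤ B) : (toTop B).comp (g A B h) = toTop A := by
  apply IsLocalization.ringHom_ext (P A).primeCompl
  ext x
  simp only [RingHom.comp_apply]
  rw [toTop_algebraMap]
  unfold g
  rw [Localization.localRingHom_to_map, toTop_algebraMap]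
  rfl

theorem toTop_algebraMap_base (A : Idx R R') (r : R) :
    toTop A (algebraMap R (G A) r) = algebraMap R R' r := by
  rw [IsScalarTower.algebraMap_apply R A.1 (G A), toTop_algebraMap]
  rfl

theorem g_algebraMap_base (A B : Idx R R') (h : A ≤ B) :
    (g A B h).comp (algebraMap R (G A)) = algebraMap R (G B) := by
  ext r
  simp only [RingHom.comp_apply]
  rw [IsScalarTower.algebraMap_apply R A.1 (G A), IsScalarTower.algebraMap_apply R B.1 (G B)]
  unfold g
  rw [Localization.localRingHom_to_map]
  rfl

theorem toTop_injective (A : Idx R R') : Function.Injective (toTop A) := by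
  rw [injective_iff_map_eq_zero]
  intro x hx
  obtain ⟨a, s, rfl⟩ := IsLocalization.exists_mk'_eq (P A).primeCompl x
  have h1 : toTop A (IsLocalization.mk' (G A) a s) * toTop A (algebraMap A.1 (G A) s) =
      toTop A (algebraMap A.1 (G A) a) := by
    rw [← map_mul, IsLocalization.mk'_spec]
  rw [hx, zero_mul, toTop_algebraMap] at h1
  have ha : a = 0 := Subtype.ext h1.symm
  rw [ha, IsLocalization.mk'_zero]

theorem exists_toTop_eq (a : R') : ∃ (A : Idx R R') (x : G A), toTop A x = a := by
  let A : Idx R R' :=
    ⟨Algebra.adjoin R {a}, by simpa using Subalgebra.fg_adjoin_finset (R := R) ({a} : Finset R')⟩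
  let a' : A.1 := ⟨a, Algebra.subset_adjoin (Set.mem_singleton a)⟩
  exact ⟨A, algebraMap _ _ a', toTop_algebraMap A a'⟩

theorem algebraMap_mem_maximalIdeal (A : Idx R R') (x : A.1)
    (hx : (x : R') ∈ IsLocalRing.maximalIdeal R') :
    algebraMap A.1 (G A) x ∈ IsLocalRing.maximalIdeal (G A) := by
  rw [IsLocalization.AtPrime.to_map_mem_maximal_iff (G A) (P A)]
  exact hx

theorem mem_map_maximalIdeal_of_mem (a : R') (ha : a ∈ IsLocalRing.maximalIdeal R') :
    ∃ (A : Idx R R') (x : G A), x ∈ IsLocalRing.maximalIdeal (G A) ∧ toTop A x = a := by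
  let A : Idx R R' :=
    ⟨Algebra.adjoin R {a}, by simpa using Subalgebra.fg_adjoin_finset (R := R) ({a} : Finset R')⟩
  let a' : A.1 := ⟨a, Algebra.subset_adjoin (Set.mem_singleton a)⟩
  exact ⟨A, algebraMap _ _ a', algebraMap_mem_maximalIdeal A a' ha, toTop_algebraMap A a'⟩

theorem isDirectedColimitRing :
    letI : ∀ A : Idx R R', Algebra (G A) R' := fun A => (toTop A).toAlgebra
    FlatCA.IsDirectedColimitRing (G (R := R) (R' := R')) g R' := by
  let _ : ∀ A : Idx R R', Algebra (G A) R' := fun A => (toTop A).toAlgebra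
  refine ⟨⟨fun A B => ⟨⟨A.1 ⊔ B.1, A.2.sup B.2⟩, show A.1 ≤ A.1 ⊔ B.1 from le_sup_left,
      show B.1 ≤ A.1 ⊔ B.1 from le_sup_right⟩⟩,
    ⟨⟨⊥, Subalgebra.fg_bot⟩⟩, ?_, ?_, ?_, ?_, ?_⟩
  · intro A
    apply IsLocalization.ringHom_ext (P A).primeCompl
    ext x
    simp only [RingHom.comp_apply, RingHom.id_apply]
    unfold g
    rw [Localization.localRingHom_to_map]
    rfl
  · intro A B C hAB hBC
    apply IsLocalization.ringHom_ext (P A).primeCompl
    ext x
    simp only [RingHom.comp_apply]
    unfold g
    rw [Localization.localRingHom_to_map, Localization.localRingHom_to_map,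
      Localization.localRingHom_to_map]
    rfl
  · intro A B h
    exact toTop_comp_g A B h
  · intro a
    obtain ⟨A, x, hx⟩ := exists_toTop_eq (R := R) a
    exact ⟨A, x, hx⟩
  · intro A x hx
    refine ⟨A, le_rfl, ?_⟩
    have : x = 0 := toTop_injective A (by rw [map_zero]; exact hx)
    rw [this, map_zero]

instance [IsNoetherianRing R] (A : Idx R R') : IsNoetherianRing (G A) := by
  have : Algebra.FiniteType R A.1 := (Subalgebra.fg_iff_finiteType A.1).1 A.2
  have : IsNoetherianRing A.1 := Algebra.FiniteType.isNoetherianRing R A.1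
  exact IsLocalization.isNoetherianRing (P A).primeCompl (G A) inferInstance

theorem isLocalHom_algebraMap [IsLocalRing R] [IsLocalHom (algebraMap R R')] (A : Idx R R') :
    IsLocalHom (algebraMap R (G A)) := by
  refine ⟨fun r hr => ?_⟩
  have h1 : IsUnit (toTop A (algebraMap R (G A) r)) := hr.map (toTop A)
  rw [toTop_algebraMap_base] at h1
  exact isUnit_of_map_unit (algebraMap R R') r h1

end Groth.Agent.Lib.Seat35.LocalColim
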