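import Mathlib
import Groth.Prelude.Def_FlatCA
import Groth.Agent.S6926

/-!
# Instantiating the universal flattening statement at the standard pushout (seat 35)

`le_ker_of_forall_models`: in the situation of `S6926` (complete Noetherian local `R`, Noetherian
`S`, finite `M`, least flattening ideal `I`), if for *every* model `(Si, Mi)` of the base change
along a local homomorphism `R → R''` to a Noetherian local ring the module `Mi` is flat over `R''`
at all primes above the maximal ideal, then `I` maps to zero in `R''`.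
-/

set_option autoImplicit false
universe u
open TensorProduct

namespace Groth.Agent.Lib.Seat35.LocalColim

attribute [local instance] Algebra.TensorProduct.rightAlgebra

theorem le_ker_of_forall_models {R S R'' : Type u} [CommRing R] [IsLocalRing R]
    [IsNoetherianRing R] [IsAdicComplete (IsLocalRing.maximalIdeal R) R] [CommRing S]
    [IsNoetherianRing S] [CommRing R''] [IsLocalRing R''] [IsNoetherianRing R'']
    [Algebra R S] [Algebra R R''] [IsLocalHom (algebraMap R R'')]
    {M : Type u} [AddCommGroup M] [Module S M] [Module R M] [IsScalarTower R S M] [Module.Finite S M]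
    (I : Ideal R) (hIm : I ≤ IsLocalRing.maximalIdeal R)
    (hI : (∀ (q : Ideal S) [q.IsPrime], q.comap (algebraMap R S) = IsLocalRing.maximalIdeal R →
        Module.Flat (R ⧸ I) ((R ⧸ I) ⊗[R] LocalizedModule q.primeCompl M)))
    (hmin : ∀ J : Ideal R, (∀ (q : Ideal S) [q.IsPrime],
        q.comap (algebraMap R S) = IsLocalRing.maximalIdeal R →
        Module.Flat (R ⧸ J) ((R ⧸ J) ⊗[R] LocalizedModule q.primeCompl M)) → I ≤ J)
    (H : ∀ (Si Mi : Type u) [CommRing Si] [Algebra S Si] [Algebra R'' Si] [Algebra R Si]
      [IsScalarTower R S Si] [IsScalarTower R R'' Si] [Algebra.IsPushout R S R'' Si]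
      [AddCommGroup Mi] [Module Si Mi] [Module R'' Mi] [IsScalarTower R'' Si Mi] [Module S Mi]
      [IsScalarTower S Si Mi] (fi : M →ₗ[S] Mi), IsBaseChange Si fi →
      ∀ (q : Ideal Si) [q.IsPrime], q.comap (algebraMap R'' Si) = IsLocalRing.maximalIdeal R'' →
        FlatCA.FlatAt R'' q Mi) :
    I ≤ RingHom.ker (algebraMap R R'') := by
  have hfi : IsBaseChange (S ⊗[R] R'') (TensorProduct.mk S (S ⊗[R] R'') M 1) :=
    TensorProduct.isBaseChange S M (S ⊗[R] R'')
  exact (Groth.Agent.S6926.result (R := R) (S := S) (R' := R'') (S' := S ⊗[R] R'') (M := M)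
    (M' := (S ⊗[R] R'') ⊗[S] M) (TensorProduct.mk S (S ⊗[R] R'') M 1) hfi I hIm hI hmin).1
    (fun q' _ hq' => H (S ⊗[R] R'') ((S ⊗[R] R'') ⊗[S] M) _ hfi q' hq')

end Groth.Agent.Lib.Seat35.LocalColim
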