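import Mathlib
import Groth.Agent.Lib.Helper3FlatLocA

/-!
# Generic lemmas for descending flatness along directed colimits (helper52)

* `lTensor_eq_zero_stage`: tensor products commute with directed colimits, in the elementary form
  "a tensor over a stage that dies in the colimit dies at a later stage".
* `flat_localizedModule_of_locMap`, `flat_localizedModule_comap_of_locMap`: transfer of flatness at a
  prime along a module map which is a localization.
-/

set_option autoImplicit false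

namespace Groth.Agent.Lib.Seat52.FlatColim

open TensorProduct

section TC

variable {R : Type*} [CommRing R] {ι : Type*} [Preorder ι] [IsDirected ι (· ≤ ·)] [Nonempty ι]
  {G : ι → Type*} [∀ i, AddCommGroup (G i)] [∀ i, Module R (G i)]
  (f : ∀ i j, i ≤ j → G i →ₗ[R] G j)
  (hid : ∀ i x, f i i le_rfl x = x)
  (hcomp : ∀ i j k (hij : i ≤ j) (hjk : j ≤ k) x, f j k hjk (f i j hij x) = f i k (hij.trans hjk) x)
  {L : Type*} [AddCommGroup L] [Module R L] (α : ∀ i, G i →ₗ[R] L)
  (hα : ∀ i j (h : i ≤ j) x, α j (f i j h x) = α i x)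
  (hsurj : ∀ l, ∃ i x, α i x = l)
  (hinj : ∀ i x, α i x = 0 → ∃ j, ∃ h : i ≤ j, f i j h x = 0)
  (M : Type*) [AddCommGroup M] [Module R M]

include hid hcomp hα hsurj hinj in
/-- Tensor products commute with directed colimits (elementary form): if `z ∈ M ⊗ G i` dies in
`M ⊗ L`, where `L` is the colimit of the `G i`, then it dies in `M ⊗ G j` for some `j ≥ i`. -/
theorem lTensor_eq_zero_stage {i : ι} (z : M ⊗[R] G i) (hz : (α i).lTensor M z = 0) :
    ∃ j, ∃ h : i ≤ j, (f i j h).lTensor M z = 0 := by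
  classical
  have : DirectedSystem G (fun i j h => f i j h) :=
    ⟨fun i x => hid i x, fun k j i hij hjk x => hcomp _ _ _ hij hjk x⟩
  let Φ : Module.DirectLimit G f →ₗ[R] L := Module.DirectLimit.lift R ι G f α hα
  have hΦinj : Function.Injective Φ := by
    rw [injective_iff_map_eq_zero]
    intro y hy
    obtain ⟨i, x, rfl⟩ := Module.DirectLimit.exists_of y
    rw [Module.DirectLimit.lift_of] at hy
    obtain ⟨j, h, hj⟩ := hinj i x hy
    rw [← Module.DirectLimit.of_f (hij := h), hj, map_zero]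
  have hΦsurj : Function.Surjective Φ := by
    intro l
    obtain ⟨i, x, rfl⟩ := hsurj l
    exact ⟨Module.DirectLimit.of R ι G f i x, by rw [Module.DirectLimit.lift_of]⟩
  let Φe : Module.DirectLimit G f ≃ₗ[R] L := LinearEquiv.ofBijective Φ ⟨hΦinj, hΦsurj⟩
  have h1 : (α i).lTensor M z = Φe.toLinearMap.lTensor M
      ((Module.DirectLimit.of R ι G f i).lTensor M z) := by
    rw [← LinearMap.comp_apply, ← LinearMap.lTensor_comp]
    congr 2
    ext x
    change α i x = Φ (Module.DirectLimit.of R ι G f i x)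
    rw [Module.DirectLimit.lift_of]
  have h2 : (Module.DirectLimit.of R ι G f i).lTensor M z = 0 := by
    have hinj' : Function.Injective (Φe.toLinearMap.lTensor M) := by
      have : Φe.toLinearMap.lTensor M =
          (TensorProduct.congr (LinearEquiv.refl R M) Φe).toLinearMap := by
        ext; simp
      rw [this]
      exact LinearEquiv.injective _
    apply hinj'
    rw [← h1, hz, map_zero]
  have h3 : ∀ z' : M ⊗[R] G i,
      TensorProduct.directLimitRight f M ((Module.DirectLimit.of R ι G f i).lTensor M z') =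
      Module.DirectLimit.of R ι (fun i => M ⊗[R] G i) (fun i j h => (f i j h).lTensor M) i z' := by
    intro z'
    induction z' with
    | zero => simp
    | add a b ha hb => simp only [map_add, ha, hb]
    | tmul m x => simp
  have h4 := h3 z
  rw [h2, map_zero] at h4
  obtain ⟨j, h, hj⟩ := Module.DirectLimit.of.zero_exact h4.symm
  exact ⟨j, h, hj⟩

end TC

section LocMap

open Groth.Agent.Lib.Helper3.FlatLoc

variable {R₁ P₁ S₁ : Type*} [CommRing R₁] [CommRing P₁] [CommRing S₁]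
  [Algebra R₁ P₁] [Algebra R₁ S₁] [Algebra P₁ S₁]
  {N₁ M₁ : Type*} [AddCommGroup N₁] [Module P₁ N₁] [Module R₁ N₁] [IsScalarTower R₁ P₁ N₁]
  [AddCommGroup M₁] [Module S₁ M₁] [Module P₁ M₁] [Module R₁ M₁]
  [IsScalarTower P₁ S₁ M₁] [IsScalarTower R₁ S₁ M₁] [IsScalarTower R₁ P₁ M₁]
  (T₁ : Submonoid P₁) (q : Ideal S₁) [q.IsPrime]

omit [IsScalarTower P₁ S₁ M₁] [IsScalarTower R₁ S₁ M₁] [Module S₁ M₁] in
theorem lTensor_rTensor_comm (ψ₁ : N₁ →ₗ[P₁] M₁) (I : Ideal R₁) (y : N₁ ⊗[R₁] I) :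
    I.subtype.lTensor M₁ (AlgebraTensorModule.rTensor R₁ I ψ₁ y) =
      AlgebraTensorModule.rTensor R₁ R₁ ψ₁ (I.subtype.lTensor N₁ y) := by
  induction y with
  | zero => simp
  | add a b ha hb => simp only [map_add, ha, hb]
  | tmul n x => rfl

theorem lTensor_smul_left {X : Type*} [AddCommGroup X] [Module P₁ X] [Module R₁ X]
    [IsScalarTower R₁ P₁ X] (I : Ideal R₁) (p : P₁) (y : X ⊗[R₁] I) :
    I.subtype.lTensor X (p • y) = p • I.subtype.lTensor X y := by
  induction y with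
  | zero => simp
  | add a b ha hb => simp only [smul_add, map_add, ha, hb]
  | tmul n x => rfl

theorem algebraMap_smul_tmul (I : Ideal R₁) (p : P₁) (y : M₁ ⊗[R₁] I) :
    algebraMap P₁ S₁ p • y = p • y := by
  induction y with
  | zero => simp
  | add a b ha hb => simp only [smul_add, ha, hb]
  | tmul n x => rw [smul_tmul', smul_tmul', algebraMap_smul]

/-- If `ψ₁ : N₁ → M₁` is a localization (at a multiplicative set avoiding the prime `q`), then
flatness of `N₁` at the contraction of `q` gives flatness of `M₁` at `q`. -/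
theorem flat_localizedModule_of_locMap (ψ₁ : N₁ →ₗ[P₁] M₁) [IsLocalizedModule T₁ ψ₁]
    (hT : ∀ t ∈ T₁, algebraMap P₁ S₁ t ∉ q)
    (h : Module.Flat R₁ (LocalizedModule (q.comap (algebraMap P₁ S₁)).primeCompl N₁)) :
    Module.Flat R₁ (LocalizedModule q.primeCompl M₁) := by
  rw [flat_localizedModule_iff'] at h ⊢
  intro I z hz
  have hloc : IsLocalizedModule T₁ (AlgebraTensorModule.rTensor R₁ I ψ₁) := inferInstance
  have hloc' : IsLocalizedModule T₁ (AlgebraTensorModule.rTensor R₁ R₁ ψ₁) := inferInstance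
  obtain ⟨⟨z₀, t⟩, hzt⟩ := IsLocalizedModule.surj T₁ (AlgebraTensorModule.rTensor R₁ I ψ₁) z
  dsimp only at hzt
  have h1 : AlgebraTensorModule.rTensor R₁ R₁ ψ₁ (I.subtype.lTensor N₁ z₀) = 0 := by
    rw [← lTensor_rTensor_comm, ← hzt, Submonoid.smul_def, lTensor_smul_left, hz, smul_zero]
  obtain ⟨t', ht'⟩ := (IsLocalizedModule.eq_zero_iff T₁ (AlgebraTensorModule.rTensor R₁ R₁ ψ₁)).mp h1
  rw [Submonoid.smul_def, ← lTensor_smul_left] at ht'
  obtain ⟨p, hp, hpz⟩ := h I _ ht'
  refine ⟨algebraMap P₁ S₁ (p * (t' * t)), ?_, ?_⟩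
  · rw [map_mul, map_mul]
    exact q.primeCompl.mul_mem hp (q.primeCompl.mul_mem (hT _ t'.2) (hT _ t.2))
  · rw [algebraMap_smul_tmul, mul_smul, mul_smul, ← Submonoid.smul_def t z, hzt, ← map_smul,
      ← map_smul, hpz, map_zero]

/-- Conversely, if every element of `S₁` is a fraction of elements of `P₁` with denominator in the
multiplicative set, flatness of `M₁` at `q` gives flatness of `N₁` at the contraction of `q`. -/
theorem flat_localizedModule_comap_of_locMap (ψ₁ : N₁ →ₗ[P₁] M₁) [IsLocalizedModule T₁ ψ₁]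
    (hT : ∀ t ∈ T₁, algebraMap P₁ S₁ t ∉ q)
    (hS : ∀ s : S₁, ∃ t ∈ T₁, ∃ p : P₁, algebraMap P₁ S₁ t * s = algebraMap P₁ S₁ p)
    (h : Module.Flat R₁ (LocalizedModule q.primeCompl M₁)) :
    Module.Flat R₁ (LocalizedModule (q.comap (algebraMap P₁ S₁)).primeCompl N₁) := by
  rw [flat_localizedModule_iff'] at h ⊢
  intro I z₀ hz₀
  have hloc : IsLocalizedModule T₁ (AlgebraTensorModule.rTensor R₁ I ψ₁) := inferInstance
  have h1 : I.subtype.lTensor M₁ (AlgebraTensorModule.rTensor R₁ I ψ₁ z₀) = 0 := by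
    rw [lTensor_rTensor_comm, hz₀, map_zero]
  obtain ⟨s, hs, hsz⟩ := h I _ h1
  obtain ⟨t, ht, p, htp⟩ := hS s
  have hp : algebraMap P₁ S₁ p ∉ q := by
    rw [← htp]
    exact q.primeCompl.mul_mem (hT t ht) hs
  have h2 : AlgebraTensorModule.rTensor R₁ I ψ₁ (p • z₀) = 0 := by
    rw [map_smul, ← algebraMap_smul_tmul (S₁ := S₁) I p, ← htp, mul_smul, hsz, smul_zero]
  obtain ⟨t', ht'⟩ := (IsLocalizedModule.eq_zero_iff T₁ (AlgebraTensorModule.rTensor R₁ I ψ₁)).mp h2
  refine ⟨t' * p, ?_, ?_⟩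
  · change algebraMap P₁ S₁ (t' * p) ∉ q
    rw [map_mul]
    exact q.primeCompl.mul_mem (hT _ t'.2) hp
  · rw [mul_smul]
    exact ht'

end LocMap

section BCLoc

theorem smul_comm_of_towers {R₁ P : Type*} (P₁ : Type*) [CommRing R₁] [CommRing P] [CommRing P₁]
    [Algebra R₁ P₁] [Algebra P P₁] {N₁ : Type*} [AddCommGroup N₁] [Module P₁ N₁] [Module P N₁]
    [Module R₁ N₁] [IsScalarTower P P₁ N₁] [IsScalarTower R₁ P₁ N₁]
    (r : R₁) (p : P) (x : N₁) : r • p • x = p • r • x := by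
  rw [← algebraMap_smul P₁ r (p • x), ← algebraMap_smul P₁ p x, ← algebraMap_smul P₁ r x,
    ← algebraMap_smul P₁ p (algebraMap R₁ P₁ r • x), smul_smul, smul_smul, mul_comm]

/-- An `R`-base change `N → N₁` to `R₁`, where both modules also carry compatible structures over
a further ring `P`, as a `P`-linear equivalence `N ⊗[R] R₁ ≃ N₁`. -/
noncomputable def bcEquiv {R R₁ P : Type*} (P₁ : Type*) [CommRing R] [CommRing R₁] [CommRing P]
    [CommRing P₁] [Algebra R R₁] [Algebra R P] [Algebra R₁ P₁] [Algebra P P₁]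
    {N N₁ : Type*} [AddCommGroup N] [Module P N] [Module R N] [IsScalarTower R P N]
    [AddCommGroup N₁] [Module P₁ N₁] [Module P N₁] [Module R₁ N₁] [Module R N₁]
    [IsScalarTower P P₁ N₁] [IsScalarTower R₁ P₁ N₁] [IsScalarTower R P N₁] [IsScalarTower R R₁ N₁]
    (a : N →ₗ[P] N₁) (ha : IsBaseChange R₁ (a.restrictScalars R)) :
    N ⊗[R] R₁ ≃ₗ[P] N₁ :=
  AddEquiv.toLinearEquiv
    ((TensorProduct.comm R N R₁).trans (ha.equiv.restrictScalars R)).toAddEquiv (by
      intro p y
      induction y with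
      | zero => simp
      | add y₁ y₂ h₁ h₂ => simp only [smul_add, map_add, h₁, h₂]
      | tmul n r =>
        change ha.equiv (r ⊗ₜ[R] (p • n)) = p • ha.equiv (r ⊗ₜ[R] n)
        rw [IsBaseChange.equiv_tmul, IsBaseChange.equiv_tmul]
        change r • a (p • n) = p • r • a n
        rw [map_smul, smul_comm_of_towers P₁])

theorem bcEquiv_tmul {R R₁ P : Type*} (P₁ : Type*) [CommRing R] [CommRing R₁] [CommRing P]
    [CommRing P₁] [Algebra R R₁] [Algebra R P] [Algebra R₁ P₁] [Algebra P P₁]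
    {N N₁ : Type*} [AddCommGroup N] [Module P N] [Module R N] [IsScalarTower R P N]
    [AddCommGroup N₁] [Module P₁ N₁] [Module P N₁] [Module R₁ N₁] [Module R N₁]
    [IsScalarTower P P₁ N₁] [IsScalarTower R₁ P₁ N₁] [IsScalarTower R P N₁] [IsScalarTower R R₁ N₁]
    (a : N →ₗ[P] N₁) (ha : IsBaseChange R₁ (a.restrictScalars R)) (n : N)
    (r : R₁) : bcEquiv P₁ a ha (n ⊗ₜ[R] r) = r • a n := by
  change ha.equiv (r ⊗ₜ[R] n) = r • a n
  rw [IsBaseChange.equiv_tmul]
  rfl

variable {R R₁ P P₁ : Type*} [CommRing R] [CommRing R₁] [CommRing P] [CommRing P₁]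
  [Algebra R R₁] [Algebra R P] [Algebra R₁ P₁] [Algebra P P₁]

variable {N M N₁ M₁ : Type*} [AddCommGroup N] [Module P N] [Module R N] [IsScalarTower R P N]
  [AddCommGroup M] [Module P M] [Module R M] [IsScalarTower R P M]
  [AddCommGroup N₁] [Module P₁ N₁] [Module P N₁] [Module R₁ N₁] [Module R N₁]
  [IsScalarTower P P₁ N₁] [IsScalarTower R₁ P₁ N₁] [IsScalarTower R P N₁] [IsScalarTower R R₁ N₁]
  [AddCommGroup M₁] [Module P₁ M₁] [Module P M₁] [Module R₁ M₁] [Module R M₁]
  [IsScalarTower P P₁ M₁] [IsScalarTower R₁ P₁ M₁] [IsScalarTower R P M₁] [IsScalarTower R R₁ M₁]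

/-- Base change (along `R → R₁`) of a localization map of modules over an `R`-algebra `P` is again
a localization map. -/
theorem isLocalizedModule_baseChange (T : Submonoid P) (ψ : N →ₗ[P] M) [IsLocalizedModule T ψ]
    (a : N →ₗ[P] N₁) (ha : IsBaseChange R₁ (a.restrictScalars R))
    (b : M →ₗ[P] M₁) (hb : IsBaseChange R₁ (b.restrictScalars R))
    (ψ₁ : N₁ →ₗ[P₁] M₁) (hψ : ∀ n, ψ₁ (a n) = b (ψ n)) :
    IsLocalizedModule (T.map (algebraMap P P₁)) ψ₁ := by
  have key : ψ₁.restrictScalars P = (bcEquiv P₁ b hb).toLinearMap ∘ₗ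
      (AlgebraTensorModule.rTensor R R₁ ψ) ∘ₗ (bcEquiv P₁ a ha).symm.toLinearMap := by
    apply LinearMap.ext
    intro x
    obtain ⟨y, rfl⟩ := (bcEquiv P₁ a ha).surjective x
    simp only [LinearMap.coe_restrictScalars, LinearMap.comp_apply, LinearEquiv.coe_coe,
      LinearEquiv.symm_apply_apply]
    induction y with
    | zero => simp
    | add y₁ y₂ h₁ h₂ => simp only [map_add, h₁, h₂]
    | tmul n r =>
      rw [bcEquiv_tmul, AlgebraTensorModule.rTensor_tmul, bcEquiv_tmul, ← hψ,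
        LinearMap.map_smul_of_tower]
  have hP : IsLocalizedModule T (ψ₁.restrictScalars P) := by
    rw [key]
    infer_instance
  refine ⟨?_, ?_, ?_⟩
  · rintro ⟨_, p, hp, rfl⟩
    have h1 := hP.map_units ⟨p, hp⟩
    rw [Module.End.isUnit_iff] at h1 ⊢
    convert h1 using 1
    ext x
    simp
  · intro y
    obtain ⟨⟨x, t⟩, hxt⟩ := hP.surj y
    refine ⟨⟨x, ⟨algebraMap P P₁ t, t, t.2, rfl⟩⟩, ?_⟩
    change algebraMap P P₁ (t : P) • y = ψ₁ x
    rw [algebraMap_smul]
    exact hxt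
  · intro x₁ x₂ hx
    obtain ⟨c, hc⟩ := hP.exists_of_eq (x₁ := x₁) (x₂ := x₂) hx
    refine ⟨⟨algebraMap P P₁ c, c, c.2, rfl⟩, ?_⟩
    change algebraMap P P₁ (c : P) • x₁ = algebraMap P P₁ (c : P) • x₂
    rw [algebraMap_smul, algebraMap_smul]
    exact hc

end BCLoc

end Groth.Agent.Lib.Seat52.FlatColim
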