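import Mathlib
import Groth.Agent.Lib.Helper3FlatDescE
import Groth.Agent.Lib.Seat52FlatColimA

/-!
# Descent of flatness along a compact set of primes to a finitely generated subalgebra (helper52)

Compact-set version of `Helper3.FlatOpen.exists_fg_subalgebra_VA_eq_univ`, combined with the ideal of
the non-flat locus over the finitely generated subalgebra.
-/

set_option autoImplicit false
set_option linter.style.haveILetI false

universe u

namespace Groth.Agent.Lib.Seat52.FlatColim

open TensorProduct MvPolynomial Groth.Agent.Lib.Helper3.FlatLoc Groth.Agent.Lib.Helper3.FlatDesc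
  Groth.Agent.Lib.Helper3.FlatOpen

attribute [local instance] MvPolynomial.algebraMvPolynomial

section Compact

variable {Λ : Type u} [CommRing Λ]
  {σ ι κ : Type} [Finite σ] [Fintype ι] [DecidableEq ι] [Fintype κ]
  (w : κ → ι → MvPolynomial σ Λ)
  {R : Type u} [CommRing R] [Algebra Λ R]

/-- If the presented module over `R[X]` is `R`-flat at all points of a compact set `Z` of primes,
then there are a finitely generated subalgebra `A` of `R` and an ideal `𝔟` of `A[X]` such that the
presented module over `A[X]` is `A`-flat at all primes not containing `𝔟`, and no contraction of a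
point of `Z` contains `𝔟`. -/
theorem exists_fg_subalgebra_ideal_of_isCompact [IsNoetherianRing Λ]
    (Z : Set (PrimeSpectrum (MvPolynomial σ R))) (hZ : IsCompact Z)
    (hflat : ∀ Q ∈ Z, Module.Flat R (LocalizedModule Q.asIdeal.primeCompl
      ((ι → MvPolynomial σ R) ⧸ KT w (MvPolynomial σ R)))) :
    ∃ (A : Subalgebra Λ R) (_ : A.FG) (b : Ideal (MvPolynomial σ A)),
      (∀ (q : Ideal (MvPolynomial σ A)) [q.IsPrime], ¬ b ≤ q →
        Module.Flat A (LocalizedModule q.primeCompl
          ((ι → MvPolynomial σ A) ⧸ KT w (MvPolynomial σ A)))) ∧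
      ∀ Q ∈ Z, ¬ b ≤ Q.asIdeal.comap (algebraMap (MvPolynomial σ A) (MvPolynomial σ R)) := by
  classical
  have h1 : ∀ Q : PrimeSpectrum (MvPolynomial σ R), ∃ A : Subalgebra Λ R, A.FG ∧
      (Q ∈ Z → Q ∈ VA w A) := by
    intro Q
    by_cases hQ : Q ∈ Z
    · obtain ⟨A, hAfg, -, hA⟩ := exists_fg_subalgebra_flat w Q.asIdeal (hflat Q hQ) ∅
      exact ⟨A, hAfg, fun _ => hA⟩
    · exact ⟨⊥, Subalgebra.fg_bot, fun h => absurd h hQ⟩
  choose AQ hAQfg hAQ using h1
  obtain ⟨t, ht⟩ := hZ.elim_finite_subcover (fun Q => VA w (AQ Q))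
    (fun Q => isOpen_VA w _ (hAQfg Q)) (fun Q hQ => Set.mem_iUnion.mpr ⟨Q, hAQ Q hQ⟩)
  let A : Subalgebra Λ R := t.sup AQ
  have hAfg : A.FG := fg_finset_sup t AQ hAQfg
  have hAZ : ∀ Q ∈ Z, Q ∈ VA w A := by
    intro Q hQ
    obtain ⟨Q', hQ't, hQ'⟩ : ∃ Q' ∈ t, Q ∈ VA w (AQ Q') := by
      simpa using ht hQ
    exact VA_mono w (Finset.le_sup hQ't) hQ'
  obtain ⟨b, hb⟩ := exists_ideal_nonflat w A hAfg
  refine ⟨A, hAfg, b, ?_, ?_⟩
  · intro q _ hq
    by_contra hnf
    exact hq ((hb ⟨q, inferInstance⟩).mpr hnf)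
  · intro Q hQ hle
    exact (hb ⟨Q.asIdeal.comap (algebraMap (MvPolynomial σ A) (MvPolynomial σ R)),
      inferInstance⟩).mp hle (hAZ Q hQ)

end Compact

section Desc

/-- A localization map over `S₀` stays a localization map after restricting scalars along a
surjection `P → S₀`, for the preimage of the multiplicative set. -/
theorem isLocalizedModule_comap_of_surjective {P S₀ : Type*} [CommRing P] [CommRing S₀]
    [Algebra P S₀] (hf : Function.Surjective (algebraMap P S₀)) (Mon : Submonoid S₀)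
    {N M : Type*} [AddCommGroup N] [Module S₀ N] [Module P N] [IsScalarTower P S₀ N]
    [AddCommGroup M] [Module S₀ M] [Module P M] [IsScalarTower P S₀ M]
    (ψ : N →ₗ[S₀] M) [hψ : IsLocalizedModule Mon ψ] :
    IsLocalizedModule (Mon.comap (algebraMap P S₀)) (ψ.restrictScalars P) := by
  refine ⟨?_, ?_, ?_⟩
  · rintro ⟨t, ht⟩
    have h1 := hψ.map_units ⟨algebraMap P S₀ t, ht⟩
    rw [Module.End.isUnit_iff] at h1 ⊢
    convert h1 using 1
    ext x
    simp
  · intro y
    obtain ⟨⟨x, s⟩, hxs⟩ := hψ.surj y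
    obtain ⟨t, ht⟩ := hf s
    refine ⟨⟨x, ⟨t, by change algebraMap P S₀ t ∈ Mon; rw [ht]; exact s.2⟩⟩, ?_⟩
    change t • y = ψ x
    rw [← algebraMap_smul S₀ t y, ht]
    exact hxs
  · intro x₁ x₂ hx
    obtain ⟨c, hc⟩ := hψ.exists_of_eq (x₁ := x₁) (x₂ := x₂) hx
    obtain ⟨t, ht⟩ := hf c
    refine ⟨⟨t, by change algebraMap P S₀ t ∈ Mon; rw [ht]; exact c.2⟩, ?_⟩
    change t • x₁ = t • x₂
    rw [← algebraMap_smul S₀ t x₁, ← algebraMap_smul S₀ t x₂, ht]
    exact hc

/-- A finitely presented module over a localization `S` of `S₀` is the localization of a finitely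
presented `S₀`-module. -/
theorem exists_finitePresentation_isLocalizedModule {S₀ S : Type u} [CommRing S₀] [CommRing S]
    [Algebra S₀ S] (Mon : Submonoid S₀) [IsLocalization Mon S]
    (M : Type u) [AddCommGroup M] [Module S M] [Module S₀ M] [IsScalarTower S₀ S M]
    [Module.FinitePresentation S M] :
    ∃ (N : Type u) (_ : AddCommGroup N) (_ : Module S₀ N) (_ : Module.FinitePresentation S₀ N)
      (ψ : N →ₗ[S₀] M), IsLocalizedModule Mon ψ := by
  classical
  obtain ⟨k, m, π, g, hπ, hex⟩ := Module.FinitePresentation.exists_fin' S M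
  let v : Fin m → Fin k → S := fun j => g (Pi.single j 1)
  have hb : ∀ j, ∃ b : Mon, ∀ i, IsLocalization.IsInteger S₀ ((b : S₀) • v j i) := fun j =>
    IsLocalization.exist_integer_multiples_of_finite Mon (v j)
  choose b hb using hb
  choose u hu using hb
  -- `u j i : S₀` with `algebraMap (u j i) = b j • v j i`
  have hg : ∀ c : Fin m → S, g c = ∑ j, c j • v j := by
    intro c
    rw [LinearMap.pi_apply_eq_sum_univ g c]
    refine Finset.sum_congr rfl fun j _ => ?_
    have hsingle : (Pi.single j 1 : Fin m → S) = fun j' => if j = j' then 1 else 0 := by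
      funext j'
      simp [Pi.single_apply, eq_comm]
    rw [← hsingle]
  have hwT : ∀ j, wT u S j = algebraMap S₀ S (b j) • v j := by
    intro j
    ext i
    change algebraMap S₀ S (u j i) = algebraMap S₀ S (b j) • v j i
    rw [hu j i, Algebra.smul_def, smul_eq_mul]
  have hK : KT u S = LinearMap.ker π := by
    rw [LinearMap.exact_iff.mp hex]
    apply le_antisymm
    · rintro _ ⟨a, rfl⟩
      refine ⟨fun j => a j * algebraMap S₀ S (b j), ?_⟩
      rw [hg, WT_apply]
      refine Finset.sum_congr rfl fun j _ => ?_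
      rw [hwT, smul_smul]
    · rintro _ ⟨c, rfl⟩
      refine ⟨fun j => c j * IsLocalization.mk' S (1 : S₀) (b j), ?_⟩
      rw [hg, WT_apply]
      refine Finset.sum_congr rfl fun j _ => ?_
      rw [hwT, smul_smul, mul_assoc, IsLocalization.mk'_spec, map_one, mul_one]
  let e : ((Fin k → S) ⧸ KT u S) ≃ₗ[S] M :=
    (Submodule.quotEquivOfEq _ _ hK) ≪≫ₗ (LinearMap.quotKerEquivOfSurjective π hπ)
  let ψ : ((Fin k → S₀) ⧸ KT u S₀) →ₗ[S₀] M :=
    (e.toLinearMap.restrictScalars S₀) ∘ₗ Mmap u S₀ S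
  have hbc : IsBaseChange S ψ := (isBaseChange_Mmap u S₀ S).comp (IsBaseChange.ofEquiv e)
  have hfp : Module.FinitePresentation S₀ ((Fin k → S₀) ⧸ KT u S₀) := by
    refine Module.finitePresentation_of_free_of_surjective (KT u S₀).mkQ
      (Submodule.mkQ_surjective _) ?_
    rw [Submodule.ker_mkQ]
    change (LinearMap.range (WT u S₀)).FG
    rw [LinearMap.range_eq_map]
    exact Module.Finite.fg_top.map _
  exact ⟨_, inferInstance, inferInstance, hfp, ψ,
    (isLocalizedModule_iff_isBaseChange Mon S ψ).mpr hbc⟩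

end Desc

end Groth.Agent.Lib.Seat52.FlatColim
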