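import Mathlib
import Groth.Prelude.Def_FlatCA
import Groth.Agent.Lib.Seat52FlatColimB

/-!
# One level of the base change: comparing the model over `R₁[X]` with an arbitrary model of the
base change (helper52)
-/

set_option autoImplicit false
set_option linter.style.haveILetI false
set_option linter.unusedSectionVars false

universe u

namespace Groth.Agent.Lib.Seat52.FlatColim

open TensorProduct MvPolynomial Groth.Agent.Lib.Helper3.FlatLoc Groth.Agent.Lib.Helper3.FlatDesc
  Groth.Agent.Lib.Helper3.FlatOpen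

attribute [local instance] MvPolynomial.algebraMvPolynomial

section Level

variable (R S : Type u) [CommRing R] [CommRing S] [Algebra R S]
  {σ : Type} [Finite σ]
  [Algebra (MvPolynomial σ R) S] [IsScalarTower R (MvPolynomial σ R) S]
  (R₁ : Type u) [CommRing R₁] [Algebra R R₁]
  (S₁ : Type u) [CommRing S₁] [Algebra S S₁] [Algebra R₁ S₁] [Algebra R S₁]
  [IsScalarTower R S S₁] [IsScalarTower R R₁ S₁]

/-- The structure map `R₁[X] → S₁` of a base change `S₁` of the `R[X]`-algebra `S`. -/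
noncomputable def levelHom : MvPolynomial σ R₁ →ₐ[R₁] S₁ :=
  MvPolynomial.aeval (fun x => algebraMap S S₁ (algebraMap (MvPolynomial σ R) S (X x : MvPolynomial σ R)))

theorem levelHom_map (p : MvPolynomial σ R) :
    levelHom R S (σ := σ) R₁ S₁ (algebraMap (MvPolynomial σ R) (MvPolynomial σ R₁) p) =
      algebraMap S S₁ (algebraMap (MvPolynomial σ R) S p) := by
  have : ((levelHom R S (σ := σ) R₁ S₁).toRingHom.comp
      (algebraMap (MvPolynomial σ R) (MvPolynomial σ R₁))) =
      (algebraMap S S₁).comp (algebraMap (MvPolynomial σ R) S) := by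
    apply MvPolynomial.ringHom_ext
    · intro r
      simp only [RingHom.comp_apply, MvPolynomial.algebraMap_def, MvPolynomial.map_C]
      change levelHom R S R₁ S₁ (C (algebraMap R R₁ r)) = _
      rw [levelHom, MvPolynomial.aeval_C, ← IsScalarTower.algebraMap_apply R R₁ S₁,
        ← MvPolynomial.algebraMap_eq, ← IsScalarTower.algebraMap_apply R (MvPolynomial σ R) S,
        ← IsScalarTower.algebraMap_apply R S S₁]
    · intro x
      simp only [RingHom.comp_apply, MvPolynomial.algebraMap_def, MvPolynomial.map_X]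
      change levelHom R S R₁ S₁ (X x) = _
      rw [levelHom, MvPolynomial.aeval_X]
  exact RingHom.congr_fun this p

/-- Compatibility of the structure maps with a morphism of base changes. -/
theorem levelHom_comp {R₂ S₂ : Type u} [CommRing R₂] [Algebra R R₂] [CommRing S₂] [Algebra S S₂]
    [Algebra R₂ S₂] [Algebra R S₂] [IsScalarTower R S S₂] [IsScalarTower R R₂ S₂]
    (γ : R₁ →+* R₂) (Γ : S₁ →+* S₂)
    (hΓS : ∀ s, Γ (algebraMap S S₁ s) = algebraMap S S₂ s)
    (hΓR : ∀ r₁, Γ (algebraMap R₁ S₁ r₁) = algebraMap R₂ S₂ (γ r₁)) (p : MvPolynomial σ R₁) :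
    Γ (levelHom R S (σ := σ) R₁ S₁ p) = levelHom R S R₂ S₂ (MvPolynomial.map γ p) := by
  have : Γ.comp (levelHom R S (σ := σ) R₁ S₁).toRingHom =
      (levelHom R S (σ := σ) R₂ S₂).toRingHom.comp (MvPolynomial.map γ) := by
    apply MvPolynomial.ringHom_ext
    · intro r
      simp only [RingHom.comp_apply, MvPolynomial.map_C]
      change Γ (levelHom R S R₁ S₁ (C r)) = levelHom R S R₂ S₂ (C (γ r))
      rw [levelHom, levelHom, MvPolynomial.aeval_C, MvPolynomial.aeval_C, hΓR]
    · intro x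
      simp only [RingHom.comp_apply, MvPolynomial.map_X]
      change Γ (levelHom R S R₁ S₁ (X x)) = levelHom R S R₂ S₂ (X x)
      rw [levelHom, levelHom, MvPolynomial.aeval_X, MvPolynomial.aeval_X, hΓS]
  exact RingHom.congr_fun this p

/-- Every element of the base change `S₁` is a fraction of images of elements of `R₁[X]`, with
denominator coming from `T`. -/
theorem levelHom_fraction [Algebra.IsPushout R S R₁ S₁] (T : Submonoid (MvPolynomial σ R))
    (hTs : ∀ s : S, ∃ t ∈ T, ∃ p : MvPolynomial σ R,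
      algebraMap (MvPolynomial σ R) S t * s = algebraMap (MvPolynomial σ R) S p) (s₁ : S₁) :
    ∃ t ∈ T.map (algebraMap (MvPolynomial σ R) (MvPolynomial σ R₁)), ∃ p : MvPolynomial σ R₁,
      levelHom R S R₁ S₁ t * s₁ = levelHom R S R₁ S₁ p := by
  have hbc : IsBaseChange S (IsScalarTower.toAlgHom R R₁ S₁).toLinearMap :=
    Algebra.IsPushout.out
  refine hbc.inductionOn s₁ _ ?_ ?_ ?_ ?_
  · exact ⟨1, Submonoid.one_mem _, 0, by simp⟩
  · intro r₁
    refine ⟨1, Submonoid.one_mem _, C r₁, ?_⟩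
    rw [map_one, one_mul, levelHom, MvPolynomial.aeval_C]
    rfl
  · rintro s y ⟨t, ht, p, htp⟩
    obtain ⟨t₀, ht₀, p₀, htp₀⟩ := hTs s
    refine ⟨algebraMap _ _ t₀ * t, Submonoid.mul_mem _ ⟨t₀, ht₀, rfl⟩ ht,
      algebraMap _ _ p₀ * p, ?_⟩
    rw [map_mul, map_mul, levelHom_map, levelHom_map, ← htp, ← htp₀, map_mul, Algebra.smul_def]
    ring
  · rintro y₁ y₂ ⟨t₁, ht₁, p₁, h₁⟩ ⟨t₂, ht₂, p₂, h₂⟩
    refine ⟨t₁ * t₂, Submonoid.mul_mem _ ht₁ ht₂, t₂ * p₁ + t₁ * p₂, ?_⟩
    rw [map_mul, map_add, map_mul, map_mul, ← h₁, ← h₂]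
    ring

end Level

section LevelFlat

variable {Λ R S : Type u} [CommRing Λ] [CommRing R] [CommRing S] [Algebra Λ R] [Algebra R S]
  {σ ι κ : Type} [Finite σ] [Fintype ι] [DecidableEq ι] [Fintype κ]
  (w : κ → ι → MvPolynomial σ Λ)
  [Algebra (MvPolynomial σ R) S] [IsScalarTower R (MvPolynomial σ R) S]
  (T : Submonoid (MvPolynomial σ R))
  (hTu : ∀ t ∈ T, IsUnit (algebraMap (MvPolynomial σ R) S t))
  {M : Type u} [AddCommGroup M] [Module S M] [Module R M] [IsScalarTower R S M]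
  [Module (MvPolynomial σ R) M] [IsScalarTower (MvPolynomial σ R) S M]
  [IsScalarTower R (MvPolynomial σ R) M]
  (R₁ : Type u) [CommRing R₁] [Algebra R R₁] [Algebra Λ R₁] [IsScalarTower Λ R R₁]
  {S₁ M₁ : Type u} [CommRing S₁] [Algebra S S₁] [Algebra R₁ S₁] [Algebra R S₁]
  [IsScalarTower R S S₁] [IsScalarTower R R₁ S₁] [Algebra.IsPushout R S R₁ S₁]
  [AddCommGroup M₁] [Module S₁ M₁] [Module R₁ M₁] [IsScalarTower R₁ S₁ M₁] [Module S M₁]
  [IsScalarTower S S₁ M₁] (f₁ : M →ₗ[S] M₁) (hf₁ : IsBaseChange S₁ f₁)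

include hTu hf₁ in
/-- The comparison map from the model over `R₁[X]` to an arbitrary model `M₁` of the base change
is a localization map. -/
theorem exists_level_locMap
    (ψ : ((ι → MvPolynomial σ R) ⧸ KT w (MvPolynomial σ R)) →ₗ[MvPolynomial σ R] M)
    [IsLocalizedModule T ψ] :
    letI : Algebra (MvPolynomial σ R₁) S₁ := (levelHom R S (σ := σ) R₁ S₁).toRingHom.toAlgebra
    letI : Module (MvPolynomial σ R₁) M₁ :=
      Module.compHom M₁ (levelHom R S (σ := σ) R₁ S₁).toRingHom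
    ∃ ψ₁ : ((ι → MvPolynomial σ R₁) ⧸ KT w (MvPolynomial σ R₁)) →ₗ[MvPolynomial σ R₁] M₁,
      IsLocalizedModule (T.map (algebraMap (MvPolynomial σ R) (MvPolynomial σ R₁))) ψ₁ := by
  letI algP₁S₁ : Algebra (MvPolynomial σ R₁) S₁ := (levelHom R S (σ := σ) R₁ S₁).toRingHom.toAlgebra
  letI modP₁M₁ : Module (MvPolynomial σ R₁) M₁ :=
    Module.compHom M₁ (levelHom R S (σ := σ) R₁ S₁).toRingHom
  have hP₁ : ∀ (p : MvPolynomial σ R₁) (x : M₁), p • x = levelHom R S R₁ S₁ p • x := fun _ _ => rfl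
  haveI : IsScalarTower (MvPolynomial σ R₁) S₁ M₁ :=
    ⟨fun p s m => by
      rw [hP₁]
      change (levelHom R S R₁ S₁ p * s) • m = _
      rw [mul_smul]⟩
  haveI : IsScalarTower R₁ (MvPolynomial σ R₁) M₁ :=
    ⟨fun r p m => by
      rw [hP₁, hP₁, map_smul, smul_assoc]⟩
  letI modRM₁ : Module R M₁ := Module.compHom M₁ (algebraMap R R₁)
  have hR : ∀ (r : R) (x : M₁), r • x = algebraMap R R₁ r • x := fun _ _ => rfl
  haveI : IsScalarTower R R₁ M₁ :=
    ⟨fun r r₁ m => by rw [hR, Algebra.smul_def, mul_smul]⟩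
  haveI : IsScalarTower R S M₁ := by
    refine IsScalarTower.of_algebraMap_smul fun r x => ?_
    rw [hR, ← algebraMap_smul S₁ (algebraMap R S r) x, ← algebraMap_smul S₁ (algebraMap R R₁ r) x,
      ← IsScalarTower.algebraMap_apply R S S₁, ← IsScalarTower.algebraMap_apply R R₁ S₁]
  letI modPM₁ : Module (MvPolynomial σ R) M₁ :=
    Module.compHom M₁ (algebraMap (MvPolynomial σ R) (MvPolynomial σ R₁))
  have hP : ∀ (p : MvPolynomial σ R) (x : M₁),
      p • x = algebraMap (MvPolynomial σ R) (MvPolynomial σ R₁) p • x := fun _ _ => rfl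
  have hPS : ∀ (p : MvPolynomial σ R) (x : M₁),
      p • x = algebraMap (MvPolynomial σ R) S p • x := by
    intro p x
    rw [hP, hP₁, levelHom_map, algebraMap_smul]
  haveI : IsScalarTower (MvPolynomial σ R) (MvPolynomial σ R₁) M₁ :=
    ⟨fun p p₁ m => by rw [hP, Algebra.smul_def, mul_smul]⟩
  haveI : IsScalarTower R (MvPolynomial σ R) M₁ :=
    ⟨fun r p m => by
      rw [hPS, hPS, Algebra.smul_def r p, map_mul,
        ← IsScalarTower.algebraMap_apply R (MvPolynomial σ R) S, mul_smul, algebraMap_smul]⟩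
  let b : M →ₗ[MvPolynomial σ R] M₁ :=
    { toFun := f₁
      map_add' := f₁.map_add
      map_smul' := fun p m => by
        change f₁ (p • m) = p • f₁ m
        rw [hPS, ← algebraMap_smul S p m, map_smul] }
  have hb : IsBaseChange R₁ (b.restrictScalars R) := by
    haveI : Algebra.IsPushout R R₁ S S₁ := Algebra.IsPushout.symm inferInstance
    exact isBaseChange_restrictScalars_of_isPushout (A := R) (R := R₁) (PA := S) (PR := S₁) f₁ hf₁
  haveI := isScalarTower_mvPolynomial (σ := σ) Λ R R₁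
  let a := Mmap w (MvPolynomial σ R) (MvPolynomial σ R₁)
  have ha : IsBaseChange R₁ (a.restrictScalars R) :=
    isBaseChange_restrictScalars_of_isPushout _ (isBaseChange_Mmap w _ _)
  let ψ₁ := (isBaseChange_Mmap w (MvPolynomial σ R) (MvPolynomial σ R₁)).lift (b ∘ₗ ψ)
  exact ⟨ψ₁, isLocalizedModule_baseChange T ψ a ha b hb ψ₁
    (fun n => IsBaseChange.lift_eq _ _ n)⟩

include hTu hf₁ in
/-- Flatness of an arbitrary model `M₁` of the base change at a prime `q` of `S₁` is equivalent to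
flatness of the model over `R₁[X]` at the contraction of `q`. -/
theorem level_flatAt_iff
    (hTs : ∀ s : S, ∃ t ∈ T, ∃ p : MvPolynomial σ R,
      algebraMap (MvPolynomial σ R) S t * s = algebraMap (MvPolynomial σ R) S p)
    (ψ : ((ι → MvPolynomial σ R) ⧸ KT w (MvPolynomial σ R)) →ₗ[MvPolynomial σ R] M)
    [IsLocalizedModule T ψ] (q : Ideal S₁) [q.IsPrime] :
    FlatCA.FlatAt R₁ q M₁ ↔ Module.Flat R₁ (LocalizedModule
      (q.comap (levelHom R S (σ := σ) R₁ S₁).toRingHom).primeCompl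
      ((ι → MvPolynomial σ R₁) ⧸ KT w (MvPolynomial σ R₁))) := by
  letI algP₁S₁ : Algebra (MvPolynomial σ R₁) S₁ := (levelHom R S (σ := σ) R₁ S₁).toRingHom.toAlgebra
  letI modP₁M₁ : Module (MvPolynomial σ R₁) M₁ :=
    Module.compHom M₁ (levelHom R S (σ := σ) R₁ S₁).toRingHom
  have hP₁ : ∀ (p : MvPolynomial σ R₁) (x : M₁), p • x = levelHom R S R₁ S₁ p • x := fun _ _ => rfl
  haveI : IsScalarTower (MvPolynomial σ R₁) S₁ M₁ :=
    ⟨fun p s m => by
      rw [hP₁]
      change (levelHom R S R₁ S₁ p * s) • m = _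
      rw [mul_smul]⟩
  haveI : IsScalarTower R₁ (MvPolynomial σ R₁) M₁ :=
    ⟨fun r p m => by
      rw [hP₁, hP₁, map_smul, smul_assoc]⟩
  obtain ⟨ψ₁, hψ₁⟩ := exists_level_locMap w T hTu R₁ f₁ hf₁ ψ
  have hT : ∀ t ∈ T.map (algebraMap (MvPolynomial σ R) (MvPolynomial σ R₁)),
      algebraMap (MvPolynomial σ R₁) S₁ t ∉ q := by
    rintro _ ⟨t₀, ht₀, rfl⟩ hmem
    change levelHom R S R₁ S₁ (algebraMap _ _ t₀) ∈ q at hmem
    rw [levelHom_map] at hmem
    exact (Ideal.IsPrime.ne_top inferInstance)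
      (Ideal.eq_top_of_isUnit_mem _ hmem ((hTu t₀ ht₀).map (algebraMap S S₁)))
  have hS : ∀ s : S₁, ∃ t ∈ T.map (algebraMap (MvPolynomial σ R) (MvPolynomial σ R₁)),
      ∃ p : MvPolynomial σ R₁, algebraMap (MvPolynomial σ R₁) S₁ t * s =
        algebraMap (MvPolynomial σ R₁) S₁ p := fun s => levelHom_fraction R S R₁ S₁ T hTs s
  constructor
  · intro h
    exact flat_localizedModule_comap_of_locMap
      (T.map (algebraMap (MvPolynomial σ R) (MvPolynomial σ R₁))) q ψ₁ hT hS h
  · intro h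
    exact flat_localizedModule_of_locMap
      (T.map (algebraMap (MvPolynomial σ R) (MvPolynomial σ R₁))) q ψ₁ hT h

end LevelFlat

end Groth.Agent.Lib.Seat52.FlatColim
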