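import Mathlib
import Groth.Prelude.Def_FlatCA
import Groth.Agent.Lib.Seat52FlatColimA

/-!
# Ideals in a directed colimit of rings, and the tensor system `S ⊗[R] G i` (helper52)
-/

set_option autoImplicit false
set_option linter.style.haveILetI false
set_option linter.unusedSectionVars false

universe u

namespace Groth.Agent.Lib.Seat52.FlatColim

open TensorProduct

section IdealColim

variable {ι : Type*} [Preorder ι] [IsDirected ι (· ≤ ·)] [Nonempty ι]
  {C : ι → Type*} [∀ i, CommRing (C i)] (τ : ∀ i j, i ≤ j → C i →+* C j)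
  {C' : Type*} [CommRing C'] (α : ∀ i, C i →+* C')
  (hα : ∀ i j (h : i ≤ j) x, α j (τ i j h x) = α i x)
  (hsurj : ∀ c', ∃ i x, α i x = c')
  (hinj : ∀ i x, α i x = 0 → ∃ j, ∃ h : i ≤ j, τ i j h x = 0)
  (e : ∀ i, Ideal (C i)) (he : ∀ i j (h : i ≤ j), (e i).map (τ i j h) ≤ e j)

include hα hsurj hinj he in
/-- If compatible ideals of the stages of a directed colimit of rings generate the unit ideal of
the colimit, then one of them is already the unit ideal. -/
theorem exists_stage_eq_top (h1 : (⨆ i, (e i).map (α i)) = ⊤) : ∃ i, e i = ⊤ := by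
  have hmem : ∀ i j (h : i ≤ j) y, y ∈ e i → τ i j h y ∈ e j := fun i j h y hy =>
    he i j h (Ideal.mem_map_of_mem _ hy)
  let E : Ideal C' :=
    { carrier := {x' | ∃ i, ∃ y ∈ e i, α i y = x'}
      zero_mem' := by
        obtain ⟨i⟩ := ‹Nonempty ι›
        exact ⟨i, 0, (e i).zero_mem, map_zero _⟩
      add_mem' := by
        rintro _ _ ⟨i, y, hy, rfl⟩ ⟨j, y', hy', rfl⟩
        obtain ⟨k, hik, hjk⟩ := exists_ge_ge i j
        exact ⟨k, τ i k hik y + τ j k hjk y', (e k).add_mem (hmem _ _ _ _ hy) (hmem _ _ _ _ hy'),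
          by rw [map_add, hα, hα]⟩
      smul_mem' := by
        rintro c' _ ⟨j, y, hy, rfl⟩
        obtain ⟨i, c, rfl⟩ := hsurj c'
        obtain ⟨k, hik, hjk⟩ := exists_ge_ge i j
        exact ⟨k, τ i k hik c * τ j k hjk y, (e k).mul_mem_left _ (hmem _ _ _ _ hy),
          by rw [map_mul, hα, hα, smul_eq_mul]⟩ }
  have hle : (⨆ i, (e i).map (α i)) ≤ E := by
    refine iSup_le fun i => ?_
    rw [Ideal.map_le_iff_le_comap]
    intro y hy
    exact ⟨i, y, hy, rfl⟩
  have h1E : (1 : C') ∈ E := hle (h1 ▸ Submodule.mem_top)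
  obtain ⟨i, y, hy, hy1⟩ := h1E
  obtain ⟨j, h, hj⟩ := hinj i (y - 1) (by rw [map_sub, hy1, map_one, sub_self])
  refine ⟨j, (Ideal.eq_top_iff_one _).mpr ?_⟩
  rw [map_sub, map_one, sub_eq_zero] at hj
  rw [← hj]
  exact hmem _ _ _ _ hy

end IdealColim

section TensorSystem

variable {R S : Type u} [CommRing R] [CommRing S] [Algebra R S]
  {ι : Type u} [Preorder ι] (G : ι → Type u) [∀ i, CommRing (G i)] [∀ i, Algebra R (G i)]
  (g : ∀ i j, i ≤ j → G i →ₐ[R] G j)
  (R' : Type u) [CommRing R'] [Algebra R R'] [∀ i, Algebra (G i) R']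
  [∀ i, IsScalarTower R (G i) R']
  (S' : Type u) [CommRing S'] [Algebra S S'] [Algebra R' S'] [Algebra R S'] [IsScalarTower R S S']
  [IsScalarTower R R' S']

/-- The map from the `i`-th stage `S ⊗[R] G i` to the base change `S'` of `S` to the colimit. -/
noncomputable def stageHom (i : ι) : S ⊗[R] G i →ₐ[R] S' :=
  Algebra.TensorProduct.productMap (IsScalarTower.toAlgHom R S S')
    ((IsScalarTower.toAlgHom R R' S').comp (IsScalarTower.toAlgHom R (G i) R'))

theorem stageHom_tmul (i : ι) (s : S) (x : G i) :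
    stageHom G R' S' i (s ⊗ₜ[R] x) =
      algebraMap S S' s * algebraMap R' S' (algebraMap (G i) R' x) := by
  simp [stageHom]

/-- The transition maps of the tensor system. -/
noncomputable def stageMap (i j : ι) (h : i ≤ j) : S ⊗[R] G i →ₐ[R] S ⊗[R] G j :=
  Algebra.TensorProduct.map (AlgHom.id R S) (g i j h)

theorem stageMap_tmul (i j : ι) (h : i ≤ j) (s : S) (x : G i) :
    stageMap G g i j h (s ⊗ₜ[R] x) = s ⊗ₜ[R] g i j h x := by
  simp [stageMap]

theorem stageMap_eq_lTensor (i j : ι) (h : i ≤ j) (z : S ⊗[R] G i) :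
    stageMap G g i j h z = (g i j h).toLinearMap.lTensor S z := by
  induction z with
  | zero => simp
  | add a b ha hb => simp only [map_add, ha, hb]
  | tmul s x => simp [stageMap]

variable [Algebra.IsPushout R S R' S']

theorem stageHom_eq_equiv (i : ι) (z : S ⊗[R] G i) :
    stageHom G R' S' i z = Algebra.IsPushout.equiv R S R' S'
      ((IsScalarTower.toAlgHom R (G i) R').toLinearMap.lTensor S z) := by
  induction z with
  | zero => simp
  | add a b ha hb => simp only [map_add, ha, hb]
  | tmul s x =>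
    rw [stageHom_tmul, LinearMap.lTensor_tmul, Algebra.IsPushout.equiv_tmul]
    rfl

variable (hcolim : FlatCA.IsDirectedColimitRing G (fun i j h => (g i j h).toRingHom) R')

include hcolim in
theorem stageHom_stageMap (i j : ι) (h : i ≤ j) (z : S ⊗[R] G i) :
    stageHom G R' S' j (stageMap G g i j h z) = stageHom G R' S' i z := by
  obtain ⟨hdir, hne, hid, hcomp, hcompat, hsurj, hinj⟩ := hcolim
  induction z with
  | zero => simp
  | add a b ha hb => simp only [map_add, ha, hb]
  | tmul s x =>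
    rw [stageMap_tmul, stageHom_tmul, stageHom_tmul]
    congr 2
    exact RingHom.congr_fun (hcompat i j h) x

include hcolim in
theorem stageMap_self (i : ι) (z : S ⊗[R] G i) : stageMap G g i i le_rfl z = z := by
  obtain ⟨hdir, hne, hid, hcomp, hcompat, hsurj, hinj⟩ := hcolim
  induction z with
  | zero => simp
  | add a b ha hb => simp only [map_add, ha, hb]
  | tmul s x =>
    rw [stageMap_tmul]
    congr 1
    exact RingHom.congr_fun (hid i) x

include hcolim in
theorem stageMap_stageMap (i j k : ι) (hij : i ≤ j) (hjk : j ≤ k) (z : S ⊗[R] G i) :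
    stageMap G g j k hjk (stageMap G g i j hij z) = stageMap G g i k (hij.trans hjk) z := by
  obtain ⟨hdir, hne, hid, hcomp, hcompat, hsurj, hinj⟩ := hcolim
  induction z with
  | zero => simp
  | add a b ha hb => simp only [map_add, ha, hb]
  | tmul s x =>
    rw [stageMap_tmul, stageMap_tmul, stageMap_tmul]
    congr 1
    exact RingHom.congr_fun (hcomp i j k hij hjk) x

include hcolim in
theorem stageHom_surjective (c' : S') :
    ∃ i, ∃ x : S ⊗[R] G i, stageHom G R' S' i x = c' := by
  have hcolim' := hcolim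
  obtain ⟨hdir, hne, hid, hcomp, hcompat, hsurj, hinj⟩ := hcolim
  haveI := hdir
  haveI := hne
  obtain ⟨c'', rfl⟩ := (Algebra.IsPushout.equiv R S R' S').surjective c'
  induction c'' with
  | zero =>
    obtain ⟨i⟩ := hne
    exact ⟨i, 0, by simp⟩
  | add a b ha hb =>
    obtain ⟨i, x, hx⟩ := ha
    obtain ⟨j, y, hy⟩ := hb
    obtain ⟨k, hik, hjk⟩ := exists_ge_ge i j
    refine ⟨k, stageMap G g i k hik x + stageMap G g j k hjk y, ?_⟩
    rw [map_add, stageHom_stageMap G g R' S' hcolim', stageHom_stageMap G g R' S' hcolim', hx, hy,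
      map_add]
  | tmul s r' =>
    obtain ⟨i, x, rfl⟩ := hsurj r'
    exact ⟨i, s ⊗ₜ x, by rw [stageHom_tmul, Algebra.IsPushout.equiv_tmul]⟩

include hcolim in
theorem stageHom_eq_zero (i : ι) (z : S ⊗[R] G i) (hz : stageHom G R' S' i z = 0) :
    ∃ j, ∃ h : i ≤ j, stageMap G g i j h z = 0 := by
  obtain ⟨hdir, hne, hid, hcomp, hcompat, hsurj, hinj⟩ := hcolim
  haveI := hdir
  haveI := hne
  rw [stageHom_eq_equiv, EmbeddingLike.map_eq_zero_iff] at hz
  obtain ⟨j, h, hj⟩ := lTensor_eq_zero_stage (R := R) (G := G) (L := R')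
    (fun i j h => (g i j h).toLinearMap)
    (fun i x => RingHom.congr_fun (hid i) x)
    (fun i j k hij hjk x => RingHom.congr_fun (hcomp i j k hij hjk) x)
    (fun i => (IsScalarTower.toAlgHom R (G i) R').toLinearMap)
    (fun i j h x => RingHom.congr_fun (hcompat i j h) x)
    hsurj
    (fun i x hx => hinj i x hx) S z hz
  exact ⟨j, h, by rw [stageMap_eq_lTensor]; exact hj⟩

include hcolim in
/-- If compatible ideals of the stages `S ⊗[R] G i` generate the unit ideal of `S'`, one of them is
the unit ideal. -/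
theorem exists_stage_eq_top_tensor (e : ∀ i, Ideal (S ⊗[R] G i))
    (he : ∀ i j (h : i ≤ j), (e i).map (stageMap G g i j h).toRingHom ≤ e j)
    (h1 : (⨆ i, (e i).map (stageHom G R' S' i).toRingHom) = ⊤) : ∃ i, e i = ⊤ := by
  have hcolim' := hcolim
  obtain ⟨hdir, hne, hid, hcomp, hcompat, hsurj, hinj⟩ := hcolim
  haveI := hdir
  haveI := hne
  exact exists_stage_eq_top (fun i j h => (stageMap G g i j h).toRingHom)
    (fun i => (stageHom G R' S' i).toRingHom)
    (fun i j h x => stageHom_stageMap G g R' S' hcolim' i j h x)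
    (fun c' => stageHom_surjective G g R' S' hcolim' c')
    (fun i x hx => stageHom_eq_zero G g R' S' hcolim' i x hx) e he h1

end TensorSystem

end Groth.Agent.Lib.Seat52.FlatColim
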