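import Mathlib
import Groth.Prelude.Def_FlatCA
import Groth.Agent.Lib.Seat52FlatColimC
import Groth.Agent.Lib.Seat52FlatColimD

/-!
# Flatness along a closed subset descends to a stage of a directed colimit (helper52)

Assembly: `main_of_model` (the statement with explicit model data) and `main` (Stacks-style
statement for essentially finitely presented algebras).
-/

set_option autoImplicit false
set_option linter.style.haveILetI false
set_option linter.unusedSectionVars false

universe u

namespace Groth.Agent.Lib.Seat52.FlatColim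

open TensorProduct MvPolynomial Groth.Agent.Lib.Helper3.FlatLoc Groth.Agent.Lib.Helper3.FlatDesc
  Groth.Agent.Lib.Helper3.FlatOpen

attribute [local instance] MvPolynomial.algebraMvPolynomial
attribute [local instance] Algebra.TensorProduct.rightAlgebra

theorem main_of_model
    {Λ R S : Type u} [CommRing Λ] [IsNoetherianRing Λ] [CommRing R] [CommRing S] [Algebra Λ R]
    [Algebra R S]
    {σ ι' κ : Type} [Finite σ] [Fintype ι'] [DecidableEq ι'] [Fintype κ]
    (w : κ → ι' → MvPolynomial σ Λ)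
    [Algebra (MvPolynomial σ R) S] [IsScalarTower R (MvPolynomial σ R) S]
    (T : Submonoid (MvPolynomial σ R))
    (hTu : ∀ t ∈ T, IsUnit (algebraMap (MvPolynomial σ R) S t))
    (hTs : ∀ s : S, ∃ t ∈ T, ∃ p : MvPolynomial σ R,
      algebraMap (MvPolynomial σ R) S t * s = algebraMap (MvPolynomial σ R) S p)
    {M : Type u} [AddCommGroup M] [Module S M] [Module R M] [IsScalarTower R S M]
    [Module (MvPolynomial σ R) M] [IsScalarTower (MvPolynomial σ R) S M]
    [IsScalarTower R (MvPolynomial σ R) M]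
    (ψ : ((ι' → MvPolynomial σ R) ⧸ KT w (MvPolynomial σ R)) →ₗ[MvPolynomial σ R] M)
    [IsLocalizedModule T ψ]
    {ι : Type u} [Preorder ι] (G : ι → Type u) [∀ i, CommRing (G i)] [∀ i, Algebra R (G i)]
    [∀ i, Algebra Λ (G i)] [∀ i, IsScalarTower Λ R (G i)]
    (g : ∀ i j, i ≤ j → G i →ₐ[R] G j)
    (R' : Type u) [CommRing R'] [Algebra R R'] [Algebra Λ R'] [IsScalarTower Λ R R']
    [∀ i, Algebra (G i) R'] [∀ i, IsScalarTower R (G i) R']
    (hcolim : FlatCA.IsDirectedColimitRing G (fun i j h => (g i j h).toRingHom) R')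
    (Il : ∀ i, Ideal (G i)) (hIl : ∀ i j (h : i ≤ j), (Il i).map (g i j h).toRingHom ≤ Il j)
    {S' : Type u} [CommRing S'] [Algebra S S'] [Algebra R' S'] [Algebra R S'] [IsScalarTower R S S']
    [IsScalarTower R R' S'] [Algebra.IsPushout R S R' S']
    {M' : Type u} [AddCommGroup M'] [Module S' M'] [Module R' M'] [IsScalarTower R' S' M']
    [Module S M'] [IsScalarTower S S' M'] (f : M →ₗ[S] M') (hf : IsBaseChange S' f)
    (J : Ideal S)
    (h : ∀ (q' : Ideal S') [q'.IsPrime],
      (⨆ i, (Il i).map (algebraMap (G i) R')).map (algebraMap R' S') ⊔ J.map (algebraMap S S') ≤ q' →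
        FlatCA.FlatAt R' q' M') :
    ∃ i : ι, ∀ (Si Mi : Type u) [CommRing Si] [Algebra S Si] [Algebra (G i) Si] [Algebra R Si]
      [IsScalarTower R S Si] [IsScalarTower R (G i) Si] [Algebra.IsPushout R S (G i) Si]
      [AddCommGroup Mi] [Module Si Mi] [Module (G i) Mi] [IsScalarTower (G i) Si Mi] [Module S Mi]
      [IsScalarTower S Si Mi] (fi : M →ₗ[S] Mi), IsBaseChange Si fi →
      ∀ (q : Ideal Si) [q.IsPrime],
        (Il i).map (algebraMap (G i) Si) ⊔ J.map (algebraMap S Si) ≤ q →
          FlatCA.FlatAt (G i) q Mi := by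
  classical
  have hcolim' := hcolim
  obtain ⟨hdir, hne, hid, hcomp, hcompat, hsurj, hinj⟩ := hcolim
  haveI := hdir
  haveI := hne
  -- Step 1: the compact set of primes of `R'[X]` along which the model is flat
  let φ' : MvPolynomial σ R' →+* S' := (levelHom R S (σ := σ) R' S').toRingHom
  let a' : Ideal S' :=
    (⨆ i, (Il i).map (algebraMap (G i) R')).map (algebraMap R' S') ⊔ J.map (algebraMap S S')
  let Z : Set (PrimeSpectrum (MvPolynomial σ R')) :=
    PrimeSpectrum.comap φ' '' PrimeSpectrum.zeroLocus (a' : Set S')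
  have hZc : IsCompact Z :=
    ((PrimeSpectrum.isClosed_zeroLocus _).isCompact).image (PrimeSpectrum.continuous_comap φ')
  have hZflat : ∀ Q ∈ Z, Module.Flat R' (LocalizedModule Q.asIdeal.primeCompl
      ((ι' → MvPolynomial σ R') ⧸ KT w (MvPolynomial σ R'))) := by
    rintro _ ⟨q', hq', rfl⟩
    have h1 := h q'.asIdeal ((PrimeSpectrum.mem_zeroLocus _ _).mp hq')
    exact (level_flatAt_iff w T hTu R' f hf hTs ψ q'.asIdeal).mp h1
  -- Step 2: descent to a finitely generated subalgebra
  obtain ⟨A, hAfg, b, hbflat, hbZ⟩ := exists_fg_subalgebra_ideal_of_isCompact w Z hZc hZflat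
  -- Step 3: the finitely generated subalgebra lifts to a stage
  haveI : Algebra.FiniteType Λ A := (Subalgebra.fg_iff_finiteType A).mp hAfg
  haveI : Algebra.FinitePresentation Λ A :=
    Algebra.FinitePresentation.of_finiteType.mp inferInstance
  haveI : ∀ i, IsScalarTower Λ (G i) R' := fun i =>
    IsScalarTower.of_algebraMap_eq fun x => by
      rw [IsScalarTower.algebraMap_apply Λ R R', IsScalarTower.algebraMap_apply R (G i) R',
        ← IsScalarTower.algebraMap_apply Λ R (G i)]
  obtain ⟨i₀, ψA, hψA⟩ := exists_algHom_stage G (fun i j h => (g i j h).restrictScalars Λ) R'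
    (fun i j k hij hjk x => RingHom.congr_fun (hcomp i j k hij hjk) x)
    (fun i j h x => RingHom.congr_fun (hcompat i j h) x) hsurj hinj A A.val
  -- Step 4: the ideals of the stages
  let θ₀ : MvPolynomial σ A →+* S ⊗[R] G i₀ :=
    (levelHom R S (σ := σ) (G i₀) (S ⊗[R] G i₀)).toRingHom.comp (MvPolynomial.map ψA.toRingHom)
  let e : ∀ i, Ideal (S ⊗[R] G i) := fun i =>
    Ideal.span {x | ∃ (h : i₀ ≤ i) (c : MvPolynomial σ A), c ∈ b ∧
      x = stageMap G g i₀ i h (θ₀ c)} ⊔
    ((Il i).map (algebraMap (G i) (S ⊗[R] G i)) ⊔ J.map (algebraMap S (S ⊗[R] G i)))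
  have hmapR : ∀ i j (h : i ≤ j) (x : G i),
      stageMap G g i j h (algebraMap (G i) (S ⊗[R] G i) x) =
        algebraMap (G j) (S ⊗[R] G j) (g i j h x) := by
    intro i j h x
    change stageMap G g i j h (1 ⊗ₜ x) = 1 ⊗ₜ (g i j h x)
    rw [stageMap_tmul]
  have hmapS : ∀ i j (h : i ≤ j) (s : S),
      stageMap G g i j h (algebraMap S (S ⊗[R] G i) s) = algebraMap S (S ⊗[R] G j) s := by
    intro i j h s
    change stageMap G g i j h (s ⊗ₜ 1) = s ⊗ₜ 1
    rw [stageMap_tmul, map_one]
  have he : ∀ i j (h : i ≤ j), (e i).map (stageMap G g i j h).toRingHom ≤ e j := by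
    intro i j h
    rw [Ideal.map_sup, Ideal.map_sup]
    refine sup_le_sup ?_ (sup_le_sup ?_ ?_)
    · rw [Ideal.map_span, Ideal.span_le]
      rintro _ ⟨_, ⟨h₀, c, hc, rfl⟩, rfl⟩
      refine Ideal.subset_span ⟨h₀.trans h, c, hc, ?_⟩
      exact stageMap_stageMap G g R' hcolim' i₀ i j h₀ h _
    · rw [Ideal.map_map, Ideal.map_le_iff_le_comap]
      intro x hx
      rw [Ideal.mem_comap]
      change stageMap G g i j h (algebraMap (G i) (S ⊗[R] G i) x) ∈
        Ideal.map (algebraMap (G j) (S ⊗[R] G j)) (Il j)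
      rw [hmapR]
      exact Ideal.mem_map_of_mem _ (hIl i j h (Ideal.mem_map_of_mem _ hx))
    · rw [Ideal.map_map, Ideal.map_le_iff_le_comap]
      intro s hs
      rw [Ideal.mem_comap]
      change stageMap G g i j h (algebraMap S (S ⊗[R] G i) s) ∈
        Ideal.map (algebraMap S (S ⊗[R] G j)) J
      rw [hmapS]
      exact Ideal.mem_map_of_mem _ hs
  have hstR : ∀ i (x : G i), stageHom G R' S' i (algebraMap (G i) (S ⊗[R] G i) x) =
      algebraMap R' S' (algebraMap (G i) R' x) := by
    intro i x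
    change stageHom G R' S' i (1 ⊗ₜ x) = _
    rw [stageHom_tmul, map_one, one_mul]
  have hstS : ∀ i (s : S), stageHom G R' S' i (algebraMap S (S ⊗[R] G i) s) =
      algebraMap S S' s := by
    intro i s
    change stageHom G R' S' i (s ⊗ₜ 1) = _
    rw [stageHom_tmul, map_one, map_one, mul_one]
  have hF1 : ∀ c : MvPolynomial σ A,
      φ' (algebraMap (MvPolynomial σ A) (MvPolynomial σ R') c) = stageHom G R' S' i₀ (θ₀ c) := by
    intro c
    have h2 := levelHom_comp R S (σ := σ) (G i₀) (S ⊗[R] G i₀) (R₂ := R') (S₂ := S')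
      (algebraMap (G i₀) R') (stageHom G R' S' i₀).toRingHom (hstS i₀) (hstR i₀)
      (MvPolynomial.map ψA.toRingHom c)
    rw [MvPolynomial.map_map] at h2
    have h3 : (algebraMap (G i₀) R').comp ψA.toRingHom = algebraMap A R' := by
      ext x
      exact hψA x
    rw [h3] at h2
    rw [MvPolynomial.algebraMap_def]
    exact h2.symm
  have h1 : (⨆ i, (e i).map (stageHom G R' S' i).toRingHom) = ⊤ := by
    by_contra hne'
    obtain ⟨m, hm, hle⟩ := Ideal.exists_le_maximal _ hne'
    haveI := hm.isPrime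
    have hle_i : ∀ i, (e i).map (stageHom G R' S' i).toRingHom ≤ m :=
      fun i => (le_iSup (fun i => (e i).map (stageHom G R' S' i).toRingHom) i).trans hle
    have ha'm : a' ≤ m := by
      refine sup_le ?_ ?_
      · rw [Ideal.map_iSup]
        refine iSup_le fun i => ?_
        rw [Ideal.map_map, Ideal.map_le_iff_le_comap]
        intro x hx
        rw [Ideal.mem_comap]
        have h4 : stageHom G R' S' i (algebraMap (G i) (S ⊗[R] G i) x) ∈ m :=
          hle_i i (Ideal.mem_map_of_mem _ (Ideal.mem_sup_right (Ideal.mem_sup_left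
            (Ideal.mem_map_of_mem _ hx))))
        rwa [hstR] at h4
      · obtain ⟨i⟩ := hne
        rw [Ideal.map_le_iff_le_comap]
        intro s hs
        rw [Ideal.mem_comap]
        have h4 : stageHom G R' S' i (algebraMap S (S ⊗[R] G i) s) ∈ m :=
          hle_i i (Ideal.mem_map_of_mem _ (Ideal.mem_sup_right (Ideal.mem_sup_right
            (Ideal.mem_map_of_mem _ hs))))
        rwa [hstS] at h4
    have hQZ : (PrimeSpectrum.comap φ' ⟨m, inferInstance⟩) ∈ Z :=
      ⟨⟨m, inferInstance⟩, (PrimeSpectrum.mem_zeroLocus _ _).mpr ha'm, rfl⟩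
    apply hbZ _ hQZ
    intro c hc
    rw [Ideal.mem_comap]
    change φ' (algebraMap _ _ c) ∈ m
    rw [hF1]
    apply hle_i i₀
    apply Ideal.mem_map_of_mem
    apply Ideal.mem_sup_left
    apply Ideal.subset_span
    exact ⟨le_rfl, c, hc, (stageMap_self G g R' hcolim' i₀ _).symm⟩
  -- Step 5: a stage at which the ideal is the unit ideal
  obtain ⟨i₁, hi₁⟩ := exists_stage_eq_top_tensor G g R' S' hcolim' e he h1
  obtain ⟨i, hi₀i, hi₁i⟩ := exists_ge_ge i₀ i₁
  have hei : (1 : S ⊗[R] G i) ∈ e i := by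
    have h2 : (1 : S ⊗[R] G i₁) ∈ e i₁ := by rw [hi₁]; trivial
    have h3 := he i₁ i hi₁i (Ideal.mem_map_of_mem _ h2)
    rwa [AlgHom.toRingHom_eq_coe, RingHom.coe_coe, map_one] at h3
  refine ⟨i, ?_⟩
  intro Si Mi _ _ _ _ _ _ _ _ _ _ _ _ _ fi hfi q _ hq
  let Θ : S ⊗[R] G i →ₐ[R] Si :=
    Algebra.TensorProduct.productMap (IsScalarTower.toAlgHom R S Si)
      (IsScalarTower.toAlgHom R (G i) Si)
  have hΘS : ∀ s : S, Θ (algebraMap S (S ⊗[R] G i) s) = algebraMap S Si s := by
    intro s
    change Θ (s ⊗ₜ 1) = _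
    simp [Θ]
  have hΘR : ∀ x : G i, Θ (algebraMap (G i) (S ⊗[R] G i) x) = algebraMap (G i) Si x := by
    intro x
    change Θ (1 ⊗ₜ x) = _
    simp [Θ]
  -- some generator coming from `b` avoids `q`
  have hex : ∃ (h₀ : i₀ ≤ i) (c : MvPolynomial σ A), c ∈ b ∧
      Θ (stageMap G g i₀ i h₀ (θ₀ c)) ∉ q := by
    by_contra hcon
    push Not at hcon
    have hle : (e i).map Θ.toRingHom ≤ q := by
      rw [Ideal.map_sup, Ideal.map_sup]
      refine sup_le ?_ (sup_le ?_ ?_)
      · rw [Ideal.map_span, Ideal.span_le]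
        rintro _ ⟨_, ⟨h₀, c, hc, rfl⟩, rfl⟩
        exact hcon h₀ c hc
      · rw [Ideal.map_map, Ideal.map_le_iff_le_comap]
        intro x hx
        rw [Ideal.mem_comap]
        change Θ (algebraMap (G i) (S ⊗[R] G i) x) ∈ q
        rw [hΘR]
        exact hq (Ideal.mem_sup_left (Ideal.mem_map_of_mem _ hx))
      · rw [Ideal.map_map, Ideal.map_le_iff_le_comap]
        intro s hs
        rw [Ideal.mem_comap]
        change Θ (algebraMap S (S ⊗[R] G i) s) ∈ q
        rw [hΘS]
        exact hq (Ideal.mem_sup_right (Ideal.mem_map_of_mem _ hs))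
    have h2 := hle (Ideal.mem_map_of_mem _ hei)
    rw [AlgHom.toRingHom_eq_coe, RingHom.coe_coe, map_one] at h2
    exact (Ideal.IsPrime.ne_top inferInstance) ((Ideal.eq_top_iff_one q).mpr h2)
  obtain ⟨h₀, c, hc, hcq⟩ := hex
  -- Step 6: flatness over `A` at the contraction, then over `G i`, then for the model
  let βA : A →+* G i := (g i₀ i h₀).toRingHom.comp ψA.toRingHom
  letI algAG : Algebra A (G i) := βA.toAlgebra
  haveI : IsScalarTower Λ A (G i) := IsScalarTower.of_algebraMap_eq fun x => by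
    change algebraMap Λ (G i) x = g i₀ i h₀ (ψA (algebraMap Λ A x))
    rw [ψA.commutes, IsScalarTower.algebraMap_apply Λ R (G i₀), (g i₀ i h₀).commutes,
      ← IsScalarTower.algebraMap_apply]
  have hF2 : Θ (stageMap G g i₀ i h₀ (θ₀ c)) = levelHom R S (σ := σ) (G i) Si
      (algebraMap (MvPolynomial σ A) (MvPolynomial σ (G i)) c) := by
    have h2 := levelHom_comp R S (σ := σ) (G i₀) (S ⊗[R] G i₀) (R₂ := G i) (S₂ := Si)
      (g i₀ i h₀).toRingHom (Θ.toRingHom.comp (stageMap G g i₀ i h₀).toRingHom)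
      (fun s => by
        change Θ (stageMap G g i₀ i h₀ (algebraMap S (S ⊗[R] G i₀) s)) = _
        rw [hmapS, hΘS])
      (fun r₁ => by
        change Θ (stageMap G g i₀ i h₀ (algebraMap (G i₀) (S ⊗[R] G i₀) r₁)) = _
        rw [hmapR, hΘR]
        rfl)
      (MvPolynomial.map ψA.toRingHom c)
    rw [MvPolynomial.map_map] at h2
    rw [MvPolynomial.algebraMap_def]
    exact h2
  let Qi : Ideal (MvPolynomial σ (G i)) := q.comap (levelHom R S (σ := σ) (G i) Si).toRingHom
  have hQA : ¬ b ≤ Qi.comap (algebraMap (MvPolynomial σ A) (MvPolynomial σ (G i))) := by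
    intro hle
    apply hcq
    rw [hF2]
    exact hle hc
  have hflatA := hbflat (Qi.comap (algebraMap (MvPolynomial σ A) (MvPolynomial σ (G i)))) hQA
  have hflatG := flat_model_of_algebra w Qi hflatA
  exact (level_flatAt_iff w T hTu (G i) fi hfi hTs ψ q).mpr hflatG

/-- **Flatness along a closed subset descends to a stage of a directed colimit.** -/
theorem main {R S : Type u} [CommRing R] [CommRing S] [Algebra R S]
    (hS : FlatCA.EssFinitePresentation R S)
    {M : Type u} [AddCommGroup M] [Module S M] [Module R M] [IsScalarTower R S M]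
    [Module.FinitePresentation S M]
    {ι : Type u} [Preorder ι] (G : ι → Type u) [∀ i, CommRing (G i)] [∀ i, Algebra R (G i)]
    (g : ∀ i j, i ≤ j → G i →+* G j)
    (hgR : ∀ i j (h : i ≤ j), (g i j h).comp (algebraMap R (G i)) = algebraMap R (G j))
    (R' : Type u) [CommRing R'] [Algebra R R'] [∀ i, Algebra (G i) R']
    [∀ i, IsScalarTower R (G i) R']
    (hcolim : FlatCA.IsDirectedColimitRing G g R')
    (Il : ∀ i, Ideal (G i)) (hIl : ∀ i j (h : i ≤ j), (Il i).map (g i j h) ≤ Il j)
    {S' : Type u} [CommRing S'] [Algebra S S'] [Algebra R' S'] [Algebra R S'] [IsScalarTower R S S']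
    [IsScalarTower R R' S'] [Algebra.IsPushout R S R' S']
    {M' : Type u} [AddCommGroup M'] [Module S' M'] [Module R' M'] [IsScalarTower R' S' M']
    [Module S M'] [IsScalarTower S S' M'] (f : M →ₗ[S] M') (hf : IsBaseChange S' f)
    (J : Ideal S)
    (h : ∀ (q' : Ideal S') [q'.IsPrime],
      (⨆ i, (Il i).map (algebraMap (G i) R')).map (algebraMap R' S') ⊔ J.map (algebraMap S S') ≤ q' →
        FlatCA.FlatAt R' q' M') :
    ∃ i : ι, ∀ (Si Mi : Type u) [CommRing Si] [Algebra S Si] [Algebra (G i) Si] [Algebra R Si]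
      [IsScalarTower R S Si] [IsScalarTower R (G i) Si] [Algebra.IsPushout R S (G i) Si]
      [AddCommGroup Mi] [Module Si Mi] [Module (G i) Mi] [IsScalarTower (G i) Si Mi] [Module S Mi]
      [IsScalarTower S Si Mi] (fi : M →ₗ[S] Mi), IsBaseChange Si fi →
      ∀ (q : Ideal Si) [q.IsPrime],
        (Il i).map (algebraMap (G i) Si) ⊔ J.map (algebraMap S Si) ≤ q →
          FlatCA.FlatAt (G i) q Mi := by
  classical
  obtain ⟨S₀, _, _, _, _, Mon, hfp, hloc⟩ := hS
  letI modS₀M : Module S₀ M := Module.compHom M (algebraMap S₀ S)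
  haveI : IsScalarTower S₀ S M :=
    ⟨fun a s m => by
      change (a • s) • m = algebraMap S₀ S a • s • m
      rw [Algebra.smul_def, mul_smul]⟩
  obtain ⟨N₀, _, _, hN₀fp, ψ₀, hψ₀⟩ := exists_finitePresentation_isLocalizedModule (S := S) Mon M
  obtain ⟨n, fP, hfPsurj, hker⟩ := Algebra.FinitePresentation.out (R := R) (A := S₀)
  letI algPS₀ : Algebra (MvPolynomial (Fin n) R) S₀ := fP.toRingHom.toAlgebra
  haveI : IsScalarTower R (MvPolynomial (Fin n) R) S₀ :=
    .of_algebraMap_eq' fP.comp_algebraMap.symm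
  letI algPS : Algebra (MvPolynomial (Fin n) R) S :=
    ((algebraMap S₀ S).comp fP.toRingHom).toAlgebra
  haveI : IsScalarTower (MvPolynomial (Fin n) R) S₀ S := .of_algebraMap_eq' rfl
  haveI : IsScalarTower R (MvPolynomial (Fin n) R) S :=
    .of_algebraMap_eq fun r => by
      rw [IsScalarTower.algebraMap_apply (MvPolynomial (Fin n) R) S₀ S,
        ← IsScalarTower.algebraMap_apply R (MvPolynomial (Fin n) R) S₀,
        ← IsScalarTower.algebraMap_apply R S₀ S]
  -- `N₀` as a finitely presented module over the polynomial ring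
  letI modPN₀ : Module (MvPolynomial (Fin n) R) N₀ := Module.compHom N₀ fP.toRingHom
  haveI : IsScalarTower (MvPolynomial (Fin n) R) S₀ N₀ :=
    ⟨fun p s m => by
      change (fP p * s) • m = fP p • (s • m)
      rw [mul_smul]⟩
  haveI : Module.FinitePresentation (MvPolynomial (Fin n) R) S₀ :=
    Module.finitePresentation_of_surjective (Algebra.linearMap (MvPolynomial (Fin n) R) S₀)
      hfPsurj hker
  haveI : Module.FinitePresentation (MvPolynomial (Fin n) R) N₀ :=
    Module.FinitePresentation.trans (MvPolynomial (Fin n) R) N₀ S₀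
  obtain ⟨k, m, Λ, hΛ, w, ⟨e⟩⟩ := exists_model_equiv (R := R) (n := n) (M := N₀)
  haveI : Algebra.FiniteType ℤ Λ := (Subalgebra.fg_iff_finiteType Λ).mp hΛ
  haveI : IsNoetherianRing Λ := Algebra.FiniteType.isNoetherianRing ℤ Λ
  -- the polynomial ring acts on `M`
  letI modPM : Module (MvPolynomial (Fin n) R) M :=
    Module.compHom M (algebraMap (MvPolynomial (Fin n) R) S)
  haveI : IsScalarTower (MvPolynomial (Fin n) R) S M :=
    ⟨fun p s m => by
      change (p • s) • m = algebraMap (MvPolynomial (Fin n) R) S p • s • m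
      rw [Algebra.smul_def, mul_smul]⟩
  haveI : IsScalarTower (MvPolynomial (Fin n) R) S₀ M :=
    ⟨fun p s m => by
      change (algebraMap S₀ S (p • s)) • m =
        algebraMap (MvPolynomial (Fin n) R) S p • algebraMap S₀ S s • m
      rw [Algebra.smul_def, map_mul, mul_smul]
      rfl⟩
  haveI : IsScalarTower R (MvPolynomial (Fin n) R) M :=
    ⟨fun r p m => by
      change algebraMap (MvPolynomial (Fin n) R) S (r • p) • m =
        r • algebraMap (MvPolynomial (Fin n) R) S p • m
      rw [Algebra.smul_def r p, map_mul,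
        ← IsScalarTower.algebraMap_apply R (MvPolynomial (Fin n) R) S, mul_smul, algebraMap_smul]⟩
  -- the localization map from the model to `M`
  let T : Submonoid (MvPolynomial (Fin n) R) := Mon.comap (algebraMap (MvPolynomial (Fin n) R) S₀)
  haveI hψP : IsLocalizedModule T (ψ₀.restrictScalars (MvPolynomial (Fin n) R)) :=
    isLocalizedModule_comap_of_surjective hfPsurj Mon ψ₀
  let ψ : ((Fin k → MvPolynomial (Fin n) R) ⧸ KT w (MvPolynomial (Fin n) R)) →ₗ[
      MvPolynomial (Fin n) R] M :=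
    (ψ₀.restrictScalars (MvPolynomial (Fin n) R)) ∘ₗ e.toLinearMap
  haveI : IsLocalizedModule T ψ := inferInstance
  have hTu : ∀ t ∈ T, IsUnit (algebraMap (MvPolynomial (Fin n) R) S t) := by
    intro t ht
    rw [IsScalarTower.algebraMap_apply (MvPolynomial (Fin n) R) S₀ S]
    exact IsLocalization.map_units (M := Mon) S ⟨_, ht⟩
  have hTs : ∀ s : S, ∃ t ∈ T, ∃ p : MvPolynomial (Fin n) R,
      algebraMap (MvPolynomial (Fin n) R) S t * s = algebraMap (MvPolynomial (Fin n) R) S p := by
    intro s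
    obtain ⟨⟨a, d⟩, had⟩ := IsLocalization.surj Mon s
    obtain ⟨p, hp⟩ := hfPsurj a
    obtain ⟨t, ht⟩ := hfPsurj d
    refine ⟨t, ?_, p, ?_⟩
    · change algebraMap (MvPolynomial (Fin n) R) S₀ t ∈ Mon
      change fP t ∈ Mon
      rw [ht]
      exact d.2
    · rw [IsScalarTower.algebraMap_apply (MvPolynomial (Fin n) R) S₀ S,
        IsScalarTower.algebraMap_apply (MvPolynomial (Fin n) R) S₀ S]
      change algebraMap S₀ S (fP t) * s = algebraMap S₀ S (fP p)
      rw [ht, hp, mul_comm]
      exact had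
  -- structures over `Λ`
  let gA : ∀ i j, i ≤ j → G i →ₐ[R] G j := fun i j h =>
    { g i j h with commutes' := fun r => RingHom.congr_fun (hgR i j h) r }
  have hgA : (fun i j h => (gA i j h).toRingHom) = g := by
    funext i j h
    rfl
  exact main_of_model w T hTu hTs ψ G gA R' (hgA ▸ hcolim) Il (fun i j h => hIl i j h) f hf J h

end Groth.Agent.Lib.Seat52.FlatColim
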