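import Mathlib
import Groth.Agent.S6925
import Groth.Agent.S6927
import Groth.Agent.Lib.Seat35GrFlatA
import Groth.Agent.Lib.Seat35GrFlatD
import Groth.Agent.Lib.Seat35FlatIdealD
import Groth.Agent.Lib.Helper3FlatLocA

/-!
# Flatness along `V(𝕁)` from flatness of the truncations, over a complete local base (helper35)

`flat_localizedModule_of_flat_truncations`: `R` complete Noetherian local, `S` of finite type over
`R`, `M` a finite `S`-module, `𝕁 ⊆ S`; `R → R'` a local homomorphism, `S' = S ⊗ R'`,
`M' = M ⊗ R'`.  If all `M'/𝕁^k M'` are `R'`-flat then `M'` is `R'`-flat at every prime of `S'`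
containing `𝕁 S'` and lying over the maximal ideal of `R'`.
-/

set_option autoImplicit false
set_option linter.unusedSectionVars false
set_option linter.style.haveILetI false
universe u

namespace Groth.Agent.Lib.Seat35.GrFlat

open TensorProduct Groth.Agent.Lib.Seat35.FlatIdeal

theorem flat_localizedModule_of_flat_truncations
    {R S R' S' : Type u} [CommRing R] [IsLocalRing R] [IsNoetherianRing R]
    [IsAdicComplete (IsLocalRing.maximalIdeal R) R] [CommRing S] [CommRing R'] [IsLocalRing R']
    [CommRing S'] [Algebra R S] [Algebra.FiniteType R S] [Algebra R R']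
    [IsLocalHom (algebraMap R R')] [Algebra S S'] [Algebra R' S'] [Algebra R S']
    [IsScalarTower R S S'] [IsScalarTower R R' S'] [Algebra.IsPushout R S R' S']
    {M M' : Type u} [AddCommGroup M] [Module S M] [Module R M] [IsScalarTower R S M]
    [Module.Finite S M] [AddCommGroup M'] [Module S' M'] [Module R' M'] [IsScalarTower R' S' M']
    [Module S M'] [IsScalarTower S S' M']
    (f : M →ₗ[S] M') (hf : IsBaseChange S' f) (𝕁 : Ideal S)
    (hflat : ∀ k : ℕ, Module.Flat R'
      (M' ⧸ ((𝕁.map (algebraMap S S')) ^ k • (⊤ : Submodule S' M'))))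
    (q' : Ideal S') [q'.IsPrime]
    (hq' : q'.comap (algebraMap R' S') = IsLocalRing.maximalIdeal R')
    (h𝕁 : 𝕁.map (algebraMap S S') ≤ q') :
    Module.Flat R' (LocalizedModule q'.primeCompl M') := by
  classical
  let _ : Module R M' := Module.compHom M' (algebraMap R R')
  have : IsScalarTower R R' M' := IsScalarTower.of_algebraMap_smul fun r x => rfl
  have : IsScalarTower R S M' := by
    refine IsScalarTower.of_algebraMap_smul fun r x => ?_
    change algebraMap R S r • x = algebraMap R R' r • x
    rw [← algebraMap_smul S' (algebraMap R S r) x, ← algebraMap_smul S' (algebraMap R R' r) x,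
      ← IsScalarTower.algebraMap_apply R S S', ← IsScalarTower.algebraMap_apply R R' S']
  have hSN : IsNoetherianRing S := Algebra.FiniteType.isNoetherianRing R S
  have hex := fun k : ℕ =>
    Groth.Agent.S6925.result R S (M ⧸ (𝕁 ^ k • (⊤ : Submodule S M)))
  choose Ik hIkm hIk hIkmin using hex
  have hker : ∀ k, Ik k ≤ RingHom.ker (algebraMap R R') := by
    intro k
    refine (Groth.Agent.S6927.result (powQuotMap S' f 𝕁 k) (isBaseChange_powQuotMap f hf 𝕁 k)
      (Ik k) (hIkm k) (hIk k) (hIkmin k)).mp ?_
    intro q'' _ _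
    haveI := hflat k
    exact Groth.Agent.Lib.Helper3.FlatLoc.flat_localizedModule_of_flat q''.primeCompl
  have hI : (⨆ k, Ik k) ≤ RingHom.ker (algebraMap R R') := iSup_le hker
  let q : Ideal S := q'.comap (algebraMap S S')
  have hq : q.comap (algebraMap R S) = IsLocalRing.maximalIdeal R := by
    change (q'.comap (algebraMap S S')).comap (algebraMap R S) = _
    rw [Ideal.comap_comap, ← IsScalarTower.algebraMap_eq, IsScalarTower.algebraMap_eq R R' S',
      ← Ideal.comap_comap, hq']
    exact (Ideal.over_def (IsLocalRing.maximalIdeal R') (IsLocalRing.maximalIdeal R)).symm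
  have h𝕁q : 𝕁 ≤ q := Ideal.map_le_iff_le_comap.mp h𝕁
  have hTFk : ∀ k : ℕ, TF (⨆ k, Ik k)
      (LocalizedModule q.primeCompl (M ⧸ (𝕁 ^ k • (⊤ : Submodule S M)))) := fun k =>
    (tf_of_flat (Ik k) (hIk k q hq)).mono (le_iSup Ik k)
  have hTF := tf_localizedModule_of_forall_quot (⨆ k, Ik k) 𝕁 q M h𝕁q hTFk
  exact flat_localizedModule_of_isBaseChange_of_tf (R := R) (R' := R') f hf (⨆ k, Ik k) hI
    q.primeCompl q'.primeCompl (fun s hs => hs) hTF

end Groth.Agent.Lib.Seat35.GrFlat
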