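import Mathlib
import Groth.Agent.Lib.Helper3FlatLocA

/-!
# Descent of flatness at a point along a flat change of the upper ring (helper35)

`flat_localizedModule_descent`: `B → B'` flat, `M' = B' ⊗_B M`, `q'` a prime of `B'` over (a prime
containing) `q`.  If `M'_{q'}` is flat over `A` then `M_q` is flat over `A`.
-/

set_option autoImplicit false
set_option linter.unusedSectionVars false
set_option linter.style.haveILetI false
universe u

namespace Groth.Agent.Lib.Seat35.GrFlat

open TensorProduct Groth.Agent.Lib.Helper3.FlatLoc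

section Descent

variable {A B B' : Type u} [CommRing A] [CommRing B] [CommRing B'] [Algebra A B] [Algebra B B']
  [Algebra A B'] [IsScalarTower A B B'] [Module.Flat B B']
  {M M' : Type u} [AddCommGroup M] [Module B M] [Module A M] [IsScalarTower A B M]
  [AddCommGroup M'] [Module B' M'] [Module B M'] [Module A M'] [IsScalarTower B B' M']
  [IsScalarTower A B' M'] [IsScalarTower A B M']

theorem mem_map_of_smul_eq_zero {W W' : Type u} [AddCommGroup W] [Module B W] [AddCommGroup W']
    [Module B' W'] [Module B W'] [IsScalarTower B B' W'] (φ : W →ₗ[B] W') (hφ : IsBaseChange B' φ)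
    (z : W) (s' : B') (hs : s' • φ z = 0) :
    s' ∈ Ideal.map (algebraMap B B') (LinearMap.ker (LinearMap.toSpanSingleton B W z)) := by
  set 𝔞 : Ideal B := LinearMap.ker (LinearMap.toSpanSingleton B W z) with h𝔞
  have hex : Function.Exact 𝔞.subtype (LinearMap.toSpanSingleton B W z) :=
    LinearMap.exact_subtype_ker_map _
  have hex' := Module.Flat.lTensor_exact B' hex
  have h0 : (LinearMap.toSpanSingleton B W z).lTensor B' (s' ⊗ₜ[B] (1 : B)) = 0 := by
    rw [LinearMap.lTensor_tmul, LinearMap.toSpanSingleton_apply, one_smul]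
    apply hφ.equiv.injective
    rw [IsBaseChange.equiv_tmul, map_zero, hs]
  obtain ⟨u, hu⟩ := (hex' _).mp h0
  have key : ∀ u : B' ⊗[B] 𝔞, (TensorProduct.rid B B') (𝔞.subtype.lTensor B' u) ∈
      𝔞.map (algebraMap B B') := by
    intro u
    induction u with
    | zero => simp
    | add a b ha hb => rw [map_add, map_add]; exact add_mem ha hb
    | tmul b a =>
      rw [LinearMap.lTensor_tmul, TensorProduct.rid_tmul, Submodule.subtype_apply,
        Algebra.smul_def]
      exact Ideal.mul_mem_right _ _ (Ideal.mem_map_of_mem _ a.2)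
  have := key u
  rw [hu, TensorProduct.rid_tmul, one_smul] at this
  exact this

theorem flat_localizedModule_descent (f : M →ₗ[B] M') (hf : IsBaseChange B' f)
    (q : Ideal B) [q.IsPrime] (q' : Ideal B') [q'.IsPrime] (hqq' : q ≤ q'.comap (algebraMap B B'))
    (h : Module.Flat A (LocalizedModule q'.primeCompl M')) :
    Module.Flat A (LocalizedModule q.primeCompl M) := by
  rw [flat_localizedModule_iff] at h ⊢
  intro I hI z hz
  let φ : M ⊗[A] I →ₗ[B] M' ⊗[A] I :=
    AlgebraTensorModule.map f (LinearMap.id (R := A) (M := I))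
  have hφ : IsBaseChange B' φ := isBaseChange_tensorProduct_map B' hf
  have hnat : ∀ z : M ⊗[A] I, I.subtype.lTensor M' (φ z) =
      TensorProduct.map (f.restrictScalars A) LinearMap.id (I.subtype.lTensor M z) := by
    intro z
    induction z with
    | zero => simp
    | add a b ha hb => simp only [map_add, ha, hb]
    | tmul m i => rfl
  have hz' : I.subtype.lTensor M' (φ z) = 0 := by rw [hnat, hz, map_zero]
  obtain ⟨s', hs', hs'z⟩ := h I hI (φ z) hz'
  have hmem := mem_map_of_smul_eq_zero φ hφ z s' hs'z
  by_contra hcon
  push Not at hcon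
  have hle : LinearMap.ker (LinearMap.toSpanSingleton B (M ⊗[A] I) z) ≤ q := by
    intro s hs
    by_contra hsq
    exact hcon s hsq (by
      rw [LinearMap.mem_ker, LinearMap.toSpanSingleton_apply] at hs
      exact hs)
  have : s' ∈ q' := by
    have h1 : Ideal.map (algebraMap B B')
        (LinearMap.ker (LinearMap.toSpanSingleton B (M ⊗[A] I) z)) ≤ q' := by
      rw [Ideal.map_le_iff_le_comap]
      exact hle.trans hqq'
    exact h1 hmem
  exact hs' this

end Descent

end Groth.Agent.Lib.Seat35.GrFlat
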