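import Mathlib
import Groth.Agent.Lib.Helper3ModelMod

/-!
# Noetherian models of finitely presented modules containing given elements (helper35)

`exists_module_model_of_elements`: the Noetherian approximation `(R₀, S₀, M₀)` of a finitely
presented module `M` over a finitely presented `A`-algebra `B` (Helper3 `exists_module_model`)
can be chosen such that finitely many given elements of `B` come from `S₀`.  (Non-flat variant of
Seat56 `exists_flat_module_model_of_elements`, same proof.)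
-/

set_option autoImplicit false
set_option linter.style.haveILetI false

universe u

namespace Groth.Agent.Lib.Seat35.GrFlatModel

open TensorProduct

attribute [local instance] Algebra.TensorProduct.rightAlgebra

/-- **Noetherian approximation with prescribed elements.** -/
theorem exists_module_model_of_elements (R : Type u) [CommRing R]
    (S : Type u) [CommRing S] [Algebra R S] [Algebra.FinitePresentation R S]
    (M : Type u) [AddCommGroup M] [Module S M] [Module R M] [IsScalarTower R S M]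
    [Module.FinitePresentation S M] {k : ℕ} (b : Fin k → S) :
    ∃ (R₀ : Type u) (_ : CommRing R₀) (_ : Algebra R₀ R) (S₀ : Type u) (_ : CommRing S₀)
      (_ : Algebra R₀ S₀) (_ : Algebra S₀ S) (_ : Algebra R₀ S) (_ : IsScalarTower R₀ R S)
      (_ : IsScalarTower R₀ S₀ S) (M₀ : Type u) (_ : AddCommGroup M₀) (_ : Module S₀ M₀)
      (_ : Module R₀ M₀) (_ : IsScalarTower R₀ S₀ M₀) (_ : Module S₀ M) (_ : IsScalarTower S₀ S M)
      (f : M₀ →ₗ[S₀] M),
      Algebra.FiniteType ℤ R₀ ∧ Algebra.FiniteType R₀ S₀ ∧ Module.Finite S₀ M₀ ∧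
        Algebra.IsPushout R₀ R S₀ S ∧ IsBaseChange S f ∧
        ∀ j, b j ∈ Set.range (algebraMap S₀ S) := by
  classical
  obtain ⟨R₀, _, _, S₀, _, _, _, _, _, _, M₀, _, _, _, _, _, _, f, hR₀, hS₀, hM₀fin,
    hpush, hbc⟩ := Groth.Agent.Lib.Helper3.ModelMod.exists_module_model R S M
  -- every element of `S` is an `R`-combination of elements of `S₀`
  have hspan : ∀ x : S, ∃ l : S₀ →₀ R, x = l.sum fun s r => r • algebraMap S₀ S s := by
    intro x
    have hP : IsBaseChange R (IsScalarTower.toAlgHom R₀ S₀ S).toLinearMap := Algebra.IsPushout.out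
    refine hP.inductionOn x (fun x => ∃ l : S₀ →₀ R, x = l.sum fun s r => r • algebraMap S₀ S s)
      ⟨0, by simp⟩ ?_ ?_ ?_
    · intro s
      exact ⟨Finsupp.single s 1, by simp⟩
    · rintro r x ⟨l, rfl⟩
      refine ⟨r • l, ?_⟩
      rw [Finsupp.sum_smul_index' (fun s => by simp), Finsupp.smul_sum]
      simp only [smul_smul, smul_eq_mul]
    · rintro x y ⟨l₁, rfl⟩ ⟨l₂, rfl⟩
      refine ⟨l₁ + l₂, ?_⟩
      rw [Finsupp.sum_add_index' (fun s => by simp) (fun s r₁ r₂ => by rw [add_smul])]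
  choose l hl using fun j => hspan (b j)
  -- the index type
  let ι : Type u := Σ j : Fin k, ((l j).support : Set S₀)
  haveI : Fintype ι := inferInstance
  let r : ι → R := fun x => l x.1 x.2.1
  -- the enlarged base ring
  let R₁ := MvPolynomial ι R₀
  let φ : R₁ →ₐ[R₀] R := MvPolynomial.aeval r
  letI : Algebra R₁ R := φ.toRingHom.toAlgebra
  haveI : IsScalarTower R₀ R₁ R := IsScalarTower.of_algebraMap_eq' φ.comp_algebraMap.symm
  letI : Algebra R₁ S := ((algebraMap R S).comp (algebraMap R₁ R)).toAlgebra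
  haveI : IsScalarTower R₁ R S := IsScalarTower.of_algebraMap_eq fun _ => rfl
  haveI : IsScalarTower R₀ R₁ S := IsScalarTower.of_algebraMap_eq fun x => by
    rw [IsScalarTower.algebraMap_apply R₀ R S, IsScalarTower.algebraMap_apply R₀ R₁ R,
      ← IsScalarTower.algebraMap_apply R₁ R S]
  -- the enlarged algebra
  let S₁ := R₁ ⊗[R₀] S₀
  let ψ : S₁ →ₐ[R₀] S :=
    Algebra.TensorProduct.productMap (IsScalarTower.toAlgHom R₀ R₁ S) (IsScalarTower.toAlgHom R₀ S₀ S)
  letI : Algebra S₁ S := ψ.toRingHom.toAlgebra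
  have hψl : ∀ x : R₁, algebraMap S₁ S (x ⊗ₜ 1) = algebraMap R₁ S x := fun x =>
    Algebra.TensorProduct.productMap_left_apply _ _ x
  have hψr : ∀ x : S₀, algebraMap S₁ S (1 ⊗ₜ x) = algebraMap S₀ S x := fun x =>
    Algebra.TensorProduct.productMap_right_apply _ _ x
  haveI : IsScalarTower R₁ S₁ S := IsScalarTower.of_algebraMap_eq fun x => by
    change _ = algebraMap S₁ S (x ⊗ₜ 1)
    rw [hψl]
  haveI : IsScalarTower S₀ S₁ S := IsScalarTower.of_algebraMap_eq fun x => by
    change _ = algebraMap S₁ S (1 ⊗ₜ x)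
    rw [hψr]
  haveI : IsScalarTower R₀ S₁ S := IsScalarTower.of_algebraMap_eq' ψ.comp_algebraMap.symm
  have hpush₁ : Algebra.IsPushout R₁ R S₁ S :=
    (Algebra.IsPushout.comp_iff R₀ R₁ S₀ (S' := S₁) (T := R) (T' := S)).mp hpush
  -- the enlarged module
  let M₁ := S₁ ⊗[S₀] M₀
  letI : Module S₁ M := Module.compHom M (algebraMap S₁ S)
  haveI : IsScalarTower S₁ S M := ⟨fun x s m => by
    change (algebraMap S₁ S x * s) • m = algebraMap S₁ S x • (s • m)
    rw [mul_smul]⟩
  haveI : IsScalarTower S₀ S₁ M := ⟨fun x y m => by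
    change algebraMap S₁ S (x • y) • m = x • (algebraMap S₁ S y • m)
    rw [Algebra.smul_def, map_mul, mul_smul, ← IsScalarTower.algebraMap_apply S₀ S₁ S,
      algebraMap_smul]⟩
  have hb₁ : IsBaseChange S₁ (TensorProduct.mk S₀ S₁ M₀ 1) := TensorProduct.isBaseChange S₀ M₀ S₁
  let f₁ : M₁ →ₗ[S₁] M := hb₁.lift f
  have hf₁ : (f₁.restrictScalars S₀) ∘ₗ (TensorProduct.mk S₀ S₁ M₀ 1) = f := by
    ext x
    exact hb₁.lift_eq f x
  have hbc₁ : IsBaseChange S f₁ := by
    rw [← IsBaseChange.comp_iff hb₁, hf₁]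
    exact hbc
  have hfR₁ : Algebra.FiniteType ℤ R₁ := Algebra.FiniteType.trans (S := R₀) hR₀ inferInstance
  have hfS₁ : Algebra.FiniteType R₁ S₁ := inferInstance
  have hfM₁ : Module.Finite S₁ M₁ := inferInstance
  refine ⟨R₁, inferInstance, inferInstance, S₁, inferInstance, inferInstance, inferInstance,
    inferInstance, inferInstance, inferInstance, M₁, inferInstance, inferInstance, inferInstance,
    inferInstance, inferInstance, inferInstance, f₁, hfR₁, hfS₁, hfM₁,
    hpush₁, hbc₁, ?_⟩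
  intro j
  refine ⟨∑ s : ((l j).support : Set S₀), (MvPolynomial.X (⟨j, s⟩ : ι) : R₁) ⊗ₜ[R₀] (s.1 : S₀), ?_⟩
  rw [map_sum, hl j, Finsupp.sum, ← Finset.sum_coe_sort (l j).support]
  refine Finset.sum_congr rfl fun s _ => ?_
  have h1 : ((MvPolynomial.X (⟨j, s⟩ : ι) : R₁) ⊗ₜ[R₀] (s.1 : S₀) : S₁) =
      ((MvPolynomial.X (⟨j, s⟩ : ι) : R₁) ⊗ₜ[R₀] (1 : S₀)) * ((1 : R₁) ⊗ₜ[R₀] (s.1 : S₀)) := by
    rw [Algebra.TensorProduct.tmul_mul_tmul, mul_one, one_mul]
  rw [h1, map_mul, hψl, hψr, Algebra.smul_def]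
  congr 1
  change algebraMap R S (φ (MvPolynomial.X _)) = _
  rw [MvPolynomial.aeval_X]

end Groth.Agent.Lib.Seat35.GrFlatModel
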