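import Mathlib
import Groth.Agent.Lib.Seat35GrFlatE
import Groth.Agent.Lib.Seat35GrFlatF
import Groth.Agent.Lib.Helper3FlatBC
import Groth.Agent.Lib.Helper18Sch4

/-!
# Flatness along `V(J)` from flat truncations: assembling the squares (helper35)

`flat_localizedModule_of_model`: given a Noetherian model `(A₀, B₀, M₀, J₀)` of `(A, B, M, J)`, a
complete Noetherian local `A₀`-algebra `R` and a flat local `A`-algebra `A'` receiving `R`
(local homomorphism) whose maximal ideal lies over `q ∩ A`: if all `M/J^k M` are `A`-flat then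
`M_q` is `A`-flat.
-/

set_option autoImplicit false
set_option linter.unusedSectionVars false
set_option linter.style.haveILetI false
universe u

namespace Groth.Agent.Lib.Seat35.GrFlat

open TensorProduct

attribute [local instance] Algebra.TensorProduct.rightAlgebra

section Squares

variable {A₀ A B₀ B R A' : Type u} [CommRing A₀] [CommRing A] [CommRing B₀] [CommRing B]
    [Algebra A₀ A] [Algebra A₀ B₀] [Algebra B₀ B] [Algebra A₀ B] [Algebra A B]
    [IsScalarTower A₀ A B] [IsScalarTower A₀ B₀ B]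
    [CommRing R] [Algebra A₀ R]
    [CommRing A'] [Algebra A A'] [Algebra R A'] [Algebra A₀ A']
    [IsScalarTower A₀ A A'] [IsScalarTower A₀ R A']

variable (A₀ A B A') in
theorem tower_A₀_B_B' : IsScalarTower A₀ B (A' ⊗[A] B) :=
  IsScalarTower.of_algebraMap_eq (R := A₀) (S := B) (A := A' ⊗[A] B) fun a => by
    rw [Algebra.TensorProduct.algebraMap_apply, Algebra.TensorProduct.right_algebraMap_apply,
      IsScalarTower.algebraMap_apply A₀ A B, IsScalarTower.algebraMap_apply A₀ A A',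
      Algebra.algebraMap_eq_smul_one (algebraMap A₀ A a) (A := B),
      Algebra.algebraMap_eq_smul_one (algebraMap A₀ A a) (A := A'), TensorProduct.smul_tmul]

variable (A B₀ B A') in
/-- `B₀ → B → B' = A' ⊗ B`. -/
noncomputable abbrev algB₀B' : Algebra B₀ (A' ⊗[A] B) :=
  ((algebraMap B (A' ⊗[A] B)).comp (algebraMap B₀ B)).toAlgebra

attribute [local instance 10] algB₀B'
attribute [local instance] tower_A₀_B_B'

variable (A B₀ B A') in
theorem tower_B₀_B_B' : IsScalarTower B₀ B (A' ⊗[A] B) :=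
  IsScalarTower.of_algebraMap_eq (R := B₀) (S := B) (A := A' ⊗[A] B) fun _ => rfl

attribute [local instance] tower_B₀_B_B'

variable (A₀ A B₀ B A') in
theorem tower_A₀_B₀_B' : IsScalarTower A₀ B₀ (A' ⊗[A] B) :=
  IsScalarTower.of_algebraMap_eq (R := A₀) (S := B₀) (A := A' ⊗[A] B) fun a => by
    change algebraMap A₀ (A' ⊗[A] B) a = algebraMap B (A' ⊗[A] B) (algebraMap B₀ B (algebraMap A₀ B₀ a))
    rw [← IsScalarTower.algebraMap_apply A₀ B₀ B, ← IsScalarTower.algebraMap_apply A₀ B (A' ⊗[A] B)]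

attribute [local instance] tower_A₀_B₀_B'

variable (A₀ A B₀ B A') in
theorem pushout_A₀_A'_B₀_B' [Algebra.IsPushout A₀ A B₀ B] :
    Algebra.IsPushout A₀ A' B₀ (A' ⊗[A] B) := by
  exact (Algebra.IsPushout.comp_iff A₀ A B₀ (S' := B) (T := A') (T' := A' ⊗[A] B)).mpr inferInstance

variable (A₀ A B₀ B R A') in
/-- `S = R ⊗ B₀ → B' = A' ⊗ B`. -/
noncomputable def sToB' : R ⊗[A₀] B₀ →ₐ[A₀] A' ⊗[A] B :=
  Algebra.TensorProduct.lift (IsScalarTower.toAlgHom A₀ R (A' ⊗[A] B))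
    (IsScalarTower.toAlgHom A₀ B₀ (A' ⊗[A] B)) (fun _ _ => Commute.all _ _)

variable (A₀ A B₀ B R A') in
noncomputable abbrev algSB' : Algebra (R ⊗[A₀] B₀) (A' ⊗[A] B) :=
  (sToB' A₀ A B₀ B R A').toRingHom.toAlgebra

attribute [local instance 10] algSB'

variable (A₀ A B₀ B R A') in
theorem tower_R_S_B' : IsScalarTower R (R ⊗[A₀] B₀) (A' ⊗[A] B) :=
  IsScalarTower.of_algebraMap_eq (R := R) (S := R ⊗[A₀] B₀) (A := A' ⊗[A] B) fun r => by
    change _ = sToB' A₀ A B₀ B R A' (algebraMap R (R ⊗[A₀] B₀) r)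
    have h1 : algebraMap R (R ⊗[A₀] B₀) r = r ⊗ₜ[A₀] (1 : B₀) := by
      rw [Algebra.TensorProduct.algebraMap_apply, Algebra.algebraMap_self, RingHom.id_apply]
    rw [h1, sToB', Algebra.TensorProduct.lift_tmul, map_one, mul_one]
    rfl

variable (A₀ A B₀ B R A') in
theorem tower_B₀_S_B' : IsScalarTower B₀ (R ⊗[A₀] B₀) (A' ⊗[A] B) :=
  IsScalarTower.of_algebraMap_eq (R := B₀) (S := R ⊗[A₀] B₀) (A := A' ⊗[A] B) fun b => by
    change _ = sToB' A₀ A B₀ B R A' (algebraMap B₀ (R ⊗[A₀] B₀) b)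
    have h1 : algebraMap B₀ (R ⊗[A₀] B₀) b = (1 : R) ⊗ₜ[A₀] b :=
      Algebra.TensorProduct.right_algebraMap_apply b
    rw [h1, sToB', Algebra.TensorProduct.lift_tmul, map_one, one_mul]
    rfl

variable (A₀ A B₀ B R A') in
theorem tower_A₀_S_B' : IsScalarTower A₀ (R ⊗[A₀] B₀) (A' ⊗[A] B) :=
  IsScalarTower.of_algebraMap_eq (R := A₀) (S := R ⊗[A₀] B₀) (A := A' ⊗[A] B)
    fun a => ((sToB' A₀ A B₀ B R A').commutes a).symm

attribute [local instance] tower_R_S_B' tower_B₀_S_B' tower_A₀_S_B'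

variable (A₀ A B₀ B R A') in
theorem pushout_R_S_A'_B' [Algebra.IsPushout A₀ A B₀ B] :
    Algebra.IsPushout R (R ⊗[A₀] B₀) A' (A' ⊗[A] B) := by
  haveI := pushout_A₀_A'_B₀_B' A₀ A B₀ B A'
  have h : Algebra.IsPushout R A' (R ⊗[A₀] B₀) (A' ⊗[A] B) :=
    (Algebra.IsPushout.comp_iff A₀ R B₀ (S' := R ⊗[A₀] B₀) (T := A') (T' := A' ⊗[A] B)).mp
      inferInstance
  exact h.symm

variable (A₀ A B₀ B R A') in
theorem flat_B_B' [Module.Flat A A'] : Module.Flat B (A' ⊗[A] B) := by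
  have h : Algebra.IsPushout A B A' (A' ⊗[A] B) := Algebra.IsPushout.symm inferInstance
  exact Module.Flat.isBaseChange A B A' (A' ⊗[A] B) h.out

set_option maxHeartbeats 1000000 in
set_option synthInstance.maxHeartbeats 200000 in
theorem flat_localizedModule_of_model [Algebra.IsPushout A₀ A B₀ B] [Algebra.FiniteType A₀ B₀]
    [IsLocalRing R] [IsNoetherianRing R] [IsAdicComplete (IsLocalRing.maximalIdeal R) R]
    [IsLocalRing A'] [Module.Flat A A'] [IsLocalHom (algebraMap R A')]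
    {M₀ M : Type u} [AddCommGroup M₀] [Module B₀ M₀] [Module.Finite B₀ M₀]
    [AddCommGroup M] [Module B M] [Module A M] [IsScalarTower A B M] [Module B₀ M]
    [IsScalarTower B₀ B M]
    (f₀ : M₀ →ₗ[B₀] M) (hf₀ : IsBaseChange B f₀) (J₀ : Ideal B₀)
    (hflat : ∀ k : ℕ, Module.Flat A
      (M ⧸ ((J₀.map (algebraMap B₀ B)) ^ k • (⊤ : Submodule B M))))
    (q : Ideal B) [q.IsPrime] (hJq : J₀.map (algebraMap B₀ B) ≤ q)
    (hA' : (IsLocalRing.maximalIdeal A').comap (algebraMap A A') = q.comap (algebraMap A B)) :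
    Module.Flat A (LocalizedModule q.primeCompl M) := by
  classical
  haveI hpo := pushout_R_S_A'_B' A₀ A B₀ B R A'
  haveI hBB' := flat_B_B' A B A'
  -- the base change maps
  have hmk : IsBaseChange (A' ⊗[A] B) (TensorProduct.mk B (A' ⊗[A] B) M 1) :=
    TensorProduct.isBaseChange B M (A' ⊗[A] B)
  let h₀ : M₀ →ₗ[B₀] (A' ⊗[A] B) ⊗[B] M :=
    ((TensorProduct.mk B (A' ⊗[A] B) M 1).restrictScalars B₀) ∘ₗ f₀
  have hh₀ : IsBaseChange (A' ⊗[A] B) h₀ := IsBaseChange.comp hf₀ hmk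
  have hb : IsBaseChange (R ⊗[A₀] B₀) (TensorProduct.mk B₀ (R ⊗[A₀] B₀) M₀ 1) :=
    TensorProduct.isBaseChange B₀ M₀ (R ⊗[A₀] B₀)
  let g : (R ⊗[A₀] B₀) ⊗[B₀] M₀ →ₗ[R ⊗[A₀] B₀] (A' ⊗[A] B) ⊗[B] M := hb.lift h₀
  have hg₁ : (g.restrictScalars B₀) ∘ₗ (TensorProduct.mk B₀ (R ⊗[A₀] B₀) M₀ 1) = h₀ := by
    ext x
    exact hb.lift_eq h₀ x
  have hg : IsBaseChange (A' ⊗[A] B) g := by
    rw [← IsBaseChange.comp_iff hb, hg₁]
    exact hh₀
  -- the ideals
  have h𝕁eq : (J₀.map (algebraMap B₀ (R ⊗[A₀] B₀))).map (algebraMap (R ⊗[A₀] B₀) (A' ⊗[A] B)) =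
      (J₀.map (algebraMap B₀ B)).map (algebraMap B (A' ⊗[A] B)) := by
    rw [Ideal.map_map, Ideal.map_map, ← IsScalarTower.algebraMap_eq B₀ (R ⊗[A₀] B₀) (A' ⊗[A] B),
      ← IsScalarTower.algebraMap_eq B₀ B (A' ⊗[A] B)]
  -- flatness of the truncations over `A'`
  have hflat' : ∀ k : ℕ, Module.Flat A' (((A' ⊗[A] B) ⊗[B] M) ⧸
      (((J₀.map (algebraMap B₀ (R ⊗[A₀] B₀))).map
        (algebraMap (R ⊗[A₀] B₀) (A' ⊗[A] B))) ^ k •
          (⊤ : Submodule (A' ⊗[A] B) ((A' ⊗[A] B) ⊗[B] M)))) := by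
    intro k
    rw [h𝕁eq]
    have hb' := isBaseChange_powQuotMap (TensorProduct.mk B (A' ⊗[A] B) M 1) hmk
      (J₀.map (algebraMap B₀ B)) k
    have hb'' := Groth.Agent.Lib.Helper3.FlatLoc.isBaseChange_restrictScalars_of_isPushout
      (A := A) (R := A') (PA := B) (PR := A' ⊗[A] B) _ hb'
    haveI := hflat k
    exact Module.Flat.isBaseChange A A' _ _ hb''
  -- the prime `q'`
  obtain ⟨q', hq'prime, h1, h2⟩ := Groth.Agent.Lib.Helper18Sch4.exists_prime_tensor (R := A)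
    (A := A') (B := B) (IsLocalRing.maximalIdeal A') q hA'
  have hq'A : q'.comap (algebraMap A' (A' ⊗[A] B)) = IsLocalRing.maximalIdeal A' := by
    ext a
    rw [Ideal.mem_comap, Algebra.TensorProduct.algebraMap_apply, Algebra.algebraMap_self,
      RingHom.id_apply, h1]
  have hq'B : q'.comap (algebraMap B (A' ⊗[A] B)) = q := by
    ext b
    rw [Ideal.mem_comap, Algebra.TensorProduct.right_algebraMap_apply, h2]
  have h𝕁q' : (J₀.map (algebraMap B₀ (R ⊗[A₀] B₀))).map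
      (algebraMap (R ⊗[A₀] B₀) (A' ⊗[A] B)) ≤ q' := by
    rw [h𝕁eq, Ideal.map_le_iff_le_comap, hq'B]
    exact hJq
  have hX := flat_localizedModule_of_flat_truncations (R := R) (R' := A') g hg
    (J₀.map (algebraMap B₀ (R ⊗[A₀] B₀))) hflat' q' hq'A h𝕁q'
  have hXA : Module.Flat A (LocalizedModule q'.primeCompl ((A' ⊗[A] B) ⊗[B] M)) :=
    Module.Flat.trans A A' _
  exact flat_localizedModule_descent (A := A) (TensorProduct.mk B (A' ⊗[A] B) M 1) hmk q q'
    hq'B.ge hXA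


end Squares

end Groth.Agent.Lib.Seat35.GrFlat
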