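import Mathlib
import Groth.Agent.Lib.Helper19ComplNoeth
import Groth.Agent.Lib.Helper18Sch4

/-!
# A complete local cover of a prime (helper35)

`exists_complete_local_cover`: `A₀` Noetherian, `A` an `A₀`-algebra, `p` a prime of `A`.  There are
a complete Noetherian local `A₀`-algebra `R` (the completion of `(A₀)_{p₀}`) and a flat local
`A`-algebra `A'` (a localization of `A ⊗ R`) with a local homomorphism `R → A'` over `A₀` whose
maximal ideal lies over `p`.
-/

set_option autoImplicit false
set_option linter.unusedSectionVars false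
set_option linter.style.haveILetI false
universe u

namespace Groth.Agent.Lib.Seat35.GrFlat

open TensorProduct IsLocalRing

attribute [local instance] Algebra.TensorProduct.rightAlgebra

set_option maxHeartbeats 1000000 in
set_option synthInstance.maxHeartbeats 200000 in
theorem exists_complete_local_cover {A₀ A : Type u} [CommRing A₀] [IsNoetherianRing A₀]
    [CommRing A] [Algebra A₀ A] (p : Ideal A) [p.IsPrime] :
    ∃ (R : Type u) (_ : CommRing R) (_ : IsLocalRing R) (_ : IsNoetherianRing R)
      (_ : IsAdicComplete (maximalIdeal R) R) (_ : Algebra A₀ R)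
      (A' : Type u) (_ : CommRing A') (_ : IsLocalRing A') (_ : Algebra A A') (_ : Algebra R A')
      (_ : Algebra A₀ A') (_ : IsScalarTower A₀ A A') (_ : IsScalarTower A₀ R A'),
      Module.Flat A A' ∧ IsLocalHom (algebraMap R A') ∧
        (maximalIdeal A').comap (algebraMap A A') = p := by
  classical
  let p₀ : Ideal A₀ := p.comap (algebraMap A₀ A)
  haveI : p₀.IsPrime := Ideal.IsPrime.comap _
  haveI hRN : IsNoetherianRing
      (AdicCompletion (maximalIdeal (Localization.AtPrime p₀)) (Localization.AtPrime p₀)) :=
    Groth.Agent.Lib.Helper19.isNoetherianRing_adicCompletion _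
  have hflatR : Module.Flat A₀
      (AdicCompletion (maximalIdeal (Localization.AtPrime p₀)) (Localization.AtPrime p₀)) :=
    Module.Flat.trans A₀ (Localization.AtPrime p₀) _
  have hcomap : p.comap (algebraMap A₀ A) =
      (maximalIdeal (AdicCompletion (maximalIdeal (Localization.AtPrime p₀))
        (Localization.AtPrime p₀))).comap (algebraMap A₀ _) := by
    rw [IsScalarTower.algebraMap_eq A₀ (Localization.AtPrime p₀)
      (AdicCompletion (maximalIdeal (Localization.AtPrime p₀)) (Localization.AtPrime p₀)),
      ← Ideal.comap_comap, IsLocalRing.maximalIdeal_comap]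
    exact (IsLocalization.AtPrime.under_maximalIdeal (Localization.AtPrime p₀) p₀).symm
  obtain ⟨𝔫, h𝔫, h1, h2⟩ := Groth.Agent.Lib.Helper18Sch4.exists_prime_tensor (R := A₀) (A := A)
    (B := AdicCompletion (maximalIdeal (Localization.AtPrime p₀)) (Localization.AtPrime p₀))
    p (maximalIdeal _) hcomap
  have h𝔫c : Ideal.comap (algebraMap (A ⊗[A₀] AdicCompletion
      (maximalIdeal (Localization.AtPrime p₀)) (Localization.AtPrime p₀)) (Localization.AtPrime 𝔫))
      (maximalIdeal (Localization.AtPrime 𝔫)) = 𝔫 :=
    IsLocalization.AtPrime.under_maximalIdeal (Localization.AtPrime 𝔫) 𝔫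
  refine ⟨AdicCompletion (maximalIdeal (Localization.AtPrime p₀)) (Localization.AtPrime p₀),
    inferInstance, inferInstance, hRN, inferInstance, inferInstance,
    Localization.AtPrime 𝔫, inferInstance, inferInstance, inferInstance, inferInstance,
    inferInstance, inferInstance, inferInstance, ?_, ?_, ?_⟩
  · haveI : Module.Flat A (A ⊗[A₀] AdicCompletion (maximalIdeal (Localization.AtPrime p₀))
        (Localization.AtPrime p₀)) := inferInstance
    exact Module.Flat.trans A (A ⊗[A₀] AdicCompletion (maximalIdeal (Localization.AtPrime p₀))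
        (Localization.AtPrime p₀)) _
  · apply ((IsLocalRing.local_hom_TFAE _).out 0 4).mpr
    rw [IsScalarTower.algebraMap_eq _ (A ⊗[A₀] AdicCompletion
      (maximalIdeal (Localization.AtPrime p₀)) (Localization.AtPrime p₀)) (Localization.AtPrime 𝔫),
      ← Ideal.comap_comap, h𝔫c]
    ext r
    rw [Ideal.mem_comap, Algebra.TensorProduct.right_algebraMap_apply, h2]
  · rw [IsScalarTower.algebraMap_eq A (A ⊗[A₀] AdicCompletion
      (maximalIdeal (Localization.AtPrime p₀)) (Localization.AtPrime p₀)) (Localization.AtPrime 𝔫),
      ← Ideal.comap_comap, h𝔫c]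
    ext a
    rw [Ideal.mem_comap, Algebra.TensorProduct.algebraMap_apply, Algebra.algebraMap_self,
      RingHom.id_apply, h1]

end Groth.Agent.Lib.Seat35.GrFlat
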