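import Mathlib

/-!
# A uniform Artin–Rees vanishing for half exact functors killed by an ideal (seat 35)

Let `A` be a Noetherian ring, `I` an ideal.  Consider endofunctors `T` of `ModuleCat A` which are
half exact (exact in the middle on short exact sequences) and satisfy `T (a • 𝟙 X) = 0` for all
`a ∈ I` (class `HEK I T`).  For every finite `A`-module `M` there is a constant `c`, depending only
on `M` (not on `T`), such that `T (I ^ (n + c) M ⟶ I ^ n M) = 0` for all `n` and all such `T`.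

The proof is a dévissage: the property is stable under extensions (Artin–Rees), it holds for modules
killed by a power of `I`, and it passes from `M / a M` to `M` when `a ∈ I` is a nonzerodivisor on
`M`; Noetherian induction on the annihilator concludes.

Main results: `Q_of_finite`, `exists_Tm_subtype_eq_zero`.
-/

set_option autoImplicit false
universe u
open CategoryTheory

namespace Groth.Agent.Lib.Seat35.HalfExactAR

variable {A : Type u} [CommRing A]

/-- Half exact endofunctors of `ModuleCat A` on which the elements of `I` act by zero. -/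
structure HEK (I : Ideal A) (T : ModuleCat.{u} A ⥤ ModuleCat.{u} A) : Prop where
  exact : ∀ (S : ShortComplex (ModuleCat.{u} A)), S.ShortExact →
    ∀ y : T.obj S.X₂, (T.map S.g).hom y = 0 → ∃ x : T.obj S.X₁, (T.map S.f).hom x = y
  smul : ∀ (X : ModuleCat.{u} A) (a : A), a ∈ I → T.map (a • 𝟙 X) = 0

section Tm

variable (T : ModuleCat.{u} A ⥤ ModuleCat.{u} A)
variable {X Y Z : Type u} [AddCommGroup X] [Module A X] [AddCommGroup Y] [Module A Y]
  [AddCommGroup Z] [Module A Z]

/-- The functor applied to a linear map, as a linear map. -/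
noncomputable def Tm (f : X →ₗ[A] Y) :
    T.obj (ModuleCat.of A X) →ₗ[A] T.obj (ModuleCat.of A Y) :=
  (T.map (ModuleCat.ofHom f)).hom

theorem Tm_comp (g : Y →ₗ[A] Z) (f : X →ₗ[A] Y) : Tm T (g ∘ₗ f) = Tm T g ∘ₗ Tm T f := by
  unfold Tm
  rw [ModuleCat.ofHom_comp, T.map_comp, ModuleCat.hom_comp]

theorem Tm_comp_apply (g : Y →ₗ[A] Z) (f : X →ₗ[A] Y) (x : T.obj (ModuleCat.of A X)) :
    Tm T (g ∘ₗ f) x = Tm T g (Tm T f x) := by
  rw [Tm_comp]; rfl

variable {T} {I : Ideal A}

theorem Tm_exact (hT : HEK I T) (f : X →ₗ[A] Y) (g : Y →ₗ[A] Z) (hf : Function.Injective f)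
    (hg : Function.Surjective g) (hfg : Function.Exact f g) (y : T.obj (ModuleCat.of A Y))
    (hy : Tm T g y = 0) : ∃ x, Tm T f x = y := by
  let S : ShortComplex (ModuleCat.{u} A) :=
    ShortComplex.mk (ModuleCat.ofHom f) (ModuleCat.ofHom g) (by
      apply ModuleCat.hom_ext
      apply LinearMap.ext
      intro x
      exact hfg.apply_apply_eq_zero x)
  have hS : S.ShortExact :=
    { exact := by
        rw [ShortComplex.ShortExact.moduleCat_exact_iff_function_exact]
        exact hfg
      mono_f := (ModuleCat.mono_iff_injective _).2 hf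
      epi_g := (ModuleCat.epi_iff_surjective _).2 hg }
  exact hT.exact S hS y hy

theorem Tm_smul (hT : HEK I T) (a : A) (ha : a ∈ I) (f : X →ₗ[A] Y) : Tm T (a • f) = 0 := by
  have h1 : ModuleCat.ofHom (a • f) = (a • 𝟙 (ModuleCat.of A X)) ≫ ModuleCat.ofHom f := by
    apply ModuleCat.hom_ext
    apply LinearMap.ext
    intro x
    simp
  unfold Tm
  rw [h1, T.map_comp, hT.smul _ a ha, Limits.zero_comp]
  rfl

theorem Tm_zero (hT : HEK I T) : Tm T (0 : X →ₗ[A] Y) = 0 := by
  simpa using Tm_smul hT 0 I.zero_mem (0 : X →ₗ[A] Y)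

end Tm

/-- The inclusion `K ≤ L` is killed by every functor of the class. -/
def Z (I : Ideal A) {M : Type u} [AddCommGroup M] [Module A M] (K L : Submodule A M) : Prop :=
  ∀ (h : K ≤ L) (T : ModuleCat.{u} A ⥤ ModuleCat.{u} A), HEK I T →
    Tm T (Submodule.inclusion h) = 0

/-- Uniform Artin–Rees vanishing for `M`. -/
def Q (I : Ideal A) (M : Type u) [AddCommGroup M] [Module A M] : Prop :=
  ∃ c : ℕ, ∀ n : ℕ, Z I (I ^ (n + c) • ⊤ : Submodule A M) (I ^ n • ⊤)

theorem pow_smul_top_le (I : Ideal A) (M : Type u) [AddCommGroup M] [Module A M] (n c : ℕ) :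
    (I ^ (n + c) • ⊤ : Submodule A M) ≤ I ^ n • ⊤ :=
  Submodule.smul_mono_left (Ideal.pow_le_pow_right (Nat.le_add_right n c))

theorem Q_of_pow_smul_top_eq_bot {I : Ideal A} {M : Type u} [AddCommGroup M] [Module A M] (k : ℕ)
    (h : (I ^ k • ⊤ : Submodule A M) = ⊥) : Q I M := by
  refine ⟨k, fun n hle T hT => ?_⟩
  have h0 : Submodule.inclusion hle = 0 := by
    apply LinearMap.ext
    intro x
    have hx : (x : M) ∈ (I ^ k • ⊤ : Submodule A M) :=
      Submodule.smul_mono_left (Ideal.pow_le_pow_right (Nat.le_add_left k n)) x.2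
    rw [h, Submodule.mem_bot] at hx
    apply Subtype.ext
    simpa using hx
  rw [h0, Tm_zero hT]

section G

variable {I : Ideal A} {N₁ N₂ N₃ : Type u} [AddCommGroup N₁] [Module A N₁] [AddCommGroup N₂]
  [Module A N₂] [AddCommGroup N₃] [Module A N₃] (f : N₁ →ₗ[A] N₂) (g : N₂ →ₗ[A] N₃)

/-- `f⁻¹(I^m N₂)` -/
abbrev K (I : Ideal A) (m : ℕ) : Submodule A N₁ := (I ^ m • ⊤ : Submodule A N₂).comap f

/-- restriction of `f` to `f⁻¹(I^m N₂) → I^m N₂` -/
def fres (I : Ideal A) (m : ℕ) : K f I m →ₗ[A] (I ^ m • ⊤ : Submodule A N₂) :=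
  f.restrict (fun _ hx => hx)

theorem map_pow_smul_top_le (m : ℕ) :
    ∀ x ∈ (I ^ m • ⊤ : Submodule A N₂), g x ∈ (I ^ m • ⊤ : Submodule A N₃) := by
  intro x hx
  have h : (I ^ m • ⊤ : Submodule A N₂).map g ≤ I ^ m • ⊤ := by
    rw [Submodule.map_smul'']
    exact Submodule.smul_mono le_rfl le_top
  exact h ⟨x, hx, rfl⟩

/-- restriction of `g` to `I^m N₂ → I^m N₃` -/
def gres (I : Ideal A) (m : ℕ) : (I ^ m • ⊤ : Submodule A N₂) →ₗ[A] (I ^ m • ⊤ : Submodule A N₃) :=
  g.restrict (map_pow_smul_top_le g m)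

theorem fres_injective (hf : Function.Injective f) (m : ℕ) : Function.Injective (fres f I m) := by
  intro x y hxy
  apply Subtype.ext
  apply hf
  exact congrArg Subtype.val hxy

theorem gres_surjective (hg : Function.Surjective g) (m : ℕ) :
    Function.Surjective (gres g I m) := by
  intro y
  have h : (I ^ m • ⊤ : Submodule A N₃) = (I ^ m • ⊤ : Submodule A N₂).map g := by
    rw [Submodule.map_smul'', Submodule.map_top, LinearMap.range_eq_top.2 hg]
  have hy : (y : N₃) ∈ (I ^ m • ⊤ : Submodule A N₂).map g := h ▸ y.2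
  obtain ⟨x, hx, hxy⟩ := hy
  exact ⟨⟨x, hx⟩, Subtype.ext hxy⟩

theorem fres_gres_exact (hfg : Function.Exact f g) (m : ℕ) :
    Function.Exact (fres f I m) (gres g I m) := by
  intro y
  constructor
  · intro hy
    have hy' : g (y : N₂) = 0 := congrArg Subtype.val hy
    obtain ⟨x, hx⟩ := (hfg _).1 hy'
    refine ⟨⟨x, ?_⟩, Subtype.ext hx⟩
    show f x ∈ (I ^ m • ⊤ : Submodule A N₂)
    rw [hx]
    exact y.2
  · rintro ⟨x, rfl⟩
    apply Subtype.ext
    exact hfg.apply_apply_eq_zero (x : N₁)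

theorem exists_preimage (hf : Function.Injective f) (hg : Function.Surjective g)
    (hfg : Function.Exact f g) {c₃ : ℕ}
    (h₃ : ∀ n, Z I (I ^ (n + c₃) • ⊤ : Submodule A N₃) (I ^ n • ⊤))
    (T : ModuleCat.{u} A ⥤ ModuleCat.{u} A) (hT : HEK I T) (m : ℕ)
    (x : T.obj (ModuleCat.of A (I ^ (m + c₃) • ⊤ : Submodule A N₂))) :
    ∃ z : T.obj (ModuleCat.of A (K f I m)),
      Tm T (fres f I m) z = Tm T (Submodule.inclusion (pow_smul_top_le I N₂ m c₃)) x := by
  apply Tm_exact hT (fres f I m) (gres g I m) (fres_injective f hf m) (gres_surjective g hg m)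
    (fres_gres_exact f g hfg m)
  rw [← Tm_comp_apply]
  have e : gres g I m ∘ₗ Submodule.inclusion (pow_smul_top_le I N₂ m c₃) =
      Submodule.inclusion (pow_smul_top_le I N₃ m c₃) ∘ₗ gres g I (m + c₃) := rfl
  rw [e, Tm_comp_apply, h₃ m _ T hT]
  simp

theorem exists_comap_le [IsNoetherianRing A] [Module.Finite A N₂] (hf : Function.Injective f) :
    ∃ k : ℕ, ∀ n : ℕ, K f I (n + k) ≤ I ^ n • ⊤ := by
  obtain ⟨k, hk⟩ := Ideal.exists_pow_inf_eq_pow_smul I (LinearMap.range f)
  refine ⟨k, fun n x hx => ?_⟩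
  have h1 : f x ∈ (I ^ (n + k) • ⊤ ⊓ LinearMap.range f : Submodule A N₂) := ⟨hx, ⟨x, rfl⟩⟩
  rw [hk (n + k) (Nat.le_add_left k n), Nat.add_sub_cancel] at h1
  have h2 : f x ∈ (I ^ n • LinearMap.range f : Submodule A N₂) :=
    Submodule.smul_mono le_rfl inf_le_right h1
  rw [LinearMap.range_eq_map, ← Submodule.map_smul''] at h2
  obtain ⟨x', hx', e⟩ := h2
  exact hf e ▸ hx'

theorem Q_of_exact [IsNoetherianRing A] [Module.Finite A N₂] (hf : Function.Injective f)
    (hg : Function.Surjective g) (hfg : Function.Exact f g) (h₁ : Q I N₁) (h₃ : Q I N₃) :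
    Q I N₂ := by
  obtain ⟨c₁, h₁⟩ := h₁
  obtain ⟨c₃, h₃⟩ := h₃
  obtain ⟨k, hk⟩ := exists_comap_le (I := I) f hf
  refine ⟨c₁ + k + c₃, fun n => ?_⟩
  have e : n + (c₁ + k + c₃) = (n + c₁ + k) + c₃ := by omega
  rw [e]
  intro h T hT
  apply LinearMap.ext
  intro x
  obtain ⟨z, hz⟩ := exists_preimage f g hf hg hfg h₃ T hT (n + c₁ + k) x
  have h' : (I ^ (n + c₁ + k) • ⊤ : Submodule A N₂) ≤ I ^ n • ⊤ :=
    Submodule.smul_mono_left (Ideal.pow_le_pow_right (by omega))
  have e1 : Submodule.inclusion h =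
      Submodule.inclusion h' ∘ₗ Submodule.inclusion (pow_smul_top_le I N₂ (n + c₁ + k) c₃) := rfl
  rw [e1, Tm_comp_apply, ← hz, ← Tm_comp_apply]
  have e2 : Submodule.inclusion h' ∘ₗ fres f I (n + c₁ + k) =
      gres f I n ∘ₗ Submodule.inclusion (pow_smul_top_le I N₁ n c₁) ∘ₗ
        Submodule.inclusion (hk (n + c₁)) := rfl
  rw [e2, Tm_comp_apply, Tm_comp_apply, h₁ n _ T hT]
  simp

end G

theorem Q_of_nzd [IsNoetherianRing A] {I : Ideal A} {M M' : Type u} [AddCommGroup M] [Module A M]
    [AddCommGroup M'] [Module A M'] [Module.Finite A M] (a : A) (ha : a ∈ I)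
    (hnzd : ∀ m : M, a • m = 0 → m = 0) (g : M →ₗ[A] M') (hg : Function.Surjective g)
    (hag : Function.Exact (a • LinearMap.id : M →ₗ[A] M) g) (h' : Q I M') : Q I M := by
  have hf : Function.Injective (a • LinearMap.id : M →ₗ[A] M) := by
    intro x y hxy
    have h1 : a • (x - y) = 0 := by
      have : a • x = a • y := hxy
      rw [smul_sub, this, sub_self]
    exact sub_eq_zero.1 (hnzd _ h1)
  obtain ⟨c', h'⟩ := h'
  obtain ⟨k, hk⟩ := exists_comap_le (I := I) (a • LinearMap.id : M →ₗ[A] M) hf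
  refine ⟨k + c', fun n => ?_⟩
  have e : n + (k + c') = (n + k) + c' := by omega
  rw [e]
  intro h T hT
  apply LinearMap.ext
  intro x
  obtain ⟨z, hz⟩ := exists_preimage (a • LinearMap.id : M →ₗ[A] M) g hf hg hag h' T hT (n + k) x
  have hle : (I ^ (n + k) • ⊤ : Submodule A M) ≤ I ^ n • ⊤ := pow_smul_top_le I M n k
  have e1 : Submodule.inclusion h =
      Submodule.inclusion hle ∘ₗ Submodule.inclusion (pow_smul_top_le I M (n + k) c') := rfl
  rw [e1, Tm_comp_apply, ← hz, ← Tm_comp_apply]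
  have e2 : Submodule.inclusion hle ∘ₗ fres (a • LinearMap.id : M →ₗ[A] M) I (n + k) =
      a • Submodule.inclusion (hk n) := rfl
  rw [e2, Tm_smul hT a ha]
  simp

theorem Q_of_finite [IsNoetherianRing A] (I : Ideal A) (M : Type u) [AddCommGroup M] [Module A M]
    [Module.Finite A M] : Q I M := by
  suffices H : ∀ J : Ideal A, ∀ (M : Type u) [AddCommGroup M] [Module A M] [Module.Finite A M],
      (∀ x ∈ J, ∀ m : M, x • m = 0) → Q I M from
    H ⊥ M (fun x hx m => by rw [(Submodule.mem_bot A).1 hx, zero_smul])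
  intro J
  induction J using WellFoundedGT.induction with
  | ind J IH =>
    intro M _ _ hfin hJ
    refine IsNoetherianRing.induction_on_isQuotientEquivQuotientPrime A hfin
      (motive := fun N _ _ _ => (∀ x ∈ J, ∀ m : N, x • m = 0) → Q I N) ?_ ?_ ?_ hJ
    · intro N _ _ _ _ _
      refine Q_of_pow_smul_top_eq_bot 0 ?_
      exact Subsingleton.elim _ _
    · intro N _ _ _ p e hJN
      -- `p` kills `N`
      have hpN : ∀ x ∈ p.asIdeal, ∀ m : N, x • m = 0 := by
        intro x hx m
        apply e.injective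
        rw [map_smul, map_zero]
        obtain ⟨b, hb⟩ := Submodule.Quotient.mk_surjective p.asIdeal (e m)
        rw [← hb, ← Submodule.Quotient.mk_smul, Submodule.Quotient.mk_eq_zero, smul_eq_mul]
        exact p.asIdeal.mul_mem_right _ hx
      have hJp : J ≤ p.asIdeal := by
        intro x hx
        have h1 := hJN x hx (e.symm 1)
        have h2 : x • (1 : A ⧸ p.asIdeal) = 0 := by
          have := congrArg e h1
          rwa [map_smul, e.apply_symm_apply, map_zero] at this
        have h3 : x • (Submodule.Quotient.mk (1 : A) : A ⧸ p.asIdeal) = 0 := h2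
        rw [← Submodule.Quotient.mk_smul, Submodule.Quotient.mk_eq_zero, smul_eq_mul,
          mul_one] at h3
        exact h3
      by_cases hIp : I ≤ p.asIdeal
      · refine Q_of_pow_smul_top_eq_bot 1 ?_
        rw [pow_one, eq_bot_iff, Submodule.smul_le]
        intro r hr n _
        rw [hpN r (hIp hr) n]
        exact Submodule.zero_mem _
      · obtain ⟨a, haI, hap⟩ := SetLike.not_le_iff_exists.1 hIp
        have hnzd : ∀ m : N, a • m = 0 → m = 0 := by
          intro m hm
          apply e.injective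
          rw [map_zero]
          have h1 : a • e m = 0 := by rw [← map_smul, hm, map_zero]
          obtain ⟨b, hb⟩ := Submodule.Quotient.mk_surjective p.asIdeal (e m)
          rw [← hb, ← Submodule.Quotient.mk_smul, Submodule.Quotient.mk_eq_zero, smul_eq_mul] at h1
          rw [← hb, Submodule.Quotient.mk_eq_zero]
          exact (p.2.mem_or_mem h1).resolve_left hap
        let R : Submodule A N := LinearMap.range (a • LinearMap.id : N →ₗ[A] N)
        have hlt : J < p.asIdeal ⊔ Ideal.span {a} := by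
          refine lt_of_le_of_lt hJp ?_
          refine lt_of_le_of_ne le_sup_left ?_
          intro h
          apply hap
          rw [h]
          exact Ideal.mem_sup_right (Ideal.mem_span_singleton_self a)
        have hkill : ∀ x ∈ p.asIdeal ⊔ Ideal.span {a}, ∀ m : N ⧸ R, x • m = 0 := by
          intro x hx m
          obtain ⟨y, hy, z, hz, rfl⟩ := Submodule.mem_sup.1 hx
          obtain ⟨r, rfl⟩ := Ideal.mem_span_singleton'.1 hz
          obtain ⟨m, rfl⟩ := Submodule.Quotient.mk_surjective R m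
          rw [← Submodule.Quotient.mk_smul, Submodule.Quotient.mk_eq_zero, add_smul, hpN y hy m,
            zero_add, mul_smul, smul_comm]
          exact ⟨r • m, rfl⟩
        have hQ' : Q I (N ⧸ R) := IH _ hlt (N ⧸ R) hkill
        exact Q_of_nzd a haI hnzd R.mkQ R.mkQ_surjective (LinearMap.exact_map_mkQ_range _) hQ'
    · intro N₁ _ _ _ N₂ _ _ _ N₃ _ _ _ f g hf hg hfg h₁ h₃ hJ₂
      refine Q_of_exact f g hf hg hfg (h₁ ?_) (h₃ ?_)
      · intro x hx m
        apply hf
        rw [map_smul, hJ₂ x hx, map_zero]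
      · intro x hx m
        obtain ⟨m, rfl⟩ := hg m
        rw [← map_smul, hJ₂ x hx, map_zero]

/-- For a finite module `M` over a Noetherian ring there is `n > 0` such that every half exact
functor killed by `I` kills the inclusion `I ^ n M ⟶ M`. -/
theorem exists_Tm_subtype_eq_zero [IsNoetherianRing A] (I : Ideal A) (M : Type u) [AddCommGroup M]
    [Module A M] [Module.Finite A M] :
    ∃ n : ℕ, 0 < n ∧ ∀ T : ModuleCat.{u} A ⥤ ModuleCat.{u} A, HEK I T →
      Tm T (I ^ n • ⊤ : Submodule A M).subtype = 0 := by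
  obtain ⟨c, hc⟩ := Q_of_finite I M
  refine ⟨c + 1, Nat.succ_pos _, fun T hT => ?_⟩
  have h0 := hc 0
  have hle : (I ^ (c + 1) • ⊤ : Submodule A M) ≤ I ^ (0 + c) • ⊤ :=
    Submodule.smul_mono_left (Ideal.pow_le_pow_right (by omega))
  have hle2 : (I ^ (0 + c) • ⊤ : Submodule A M) ≤ I ^ 0 • ⊤ := pow_smul_top_le I M 0 c
  have e : (I ^ (c + 1) • ⊤ : Submodule A M).subtype =
      (I ^ 0 • ⊤ : Submodule A M).subtype ∘ₗ Submodule.inclusion hle2 ∘ₗ
        Submodule.inclusion hle := rfl
  rw [e, Tm_comp, Tm_comp, h0 hle2 T hT]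
  simp

end Groth.Agent.Lib.Seat35.HalfExactAR
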