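import Mathlib

/-!
# A lattice computation: Hom(ℤ^r, ℤ/δ) modulo the maps `x ↦ b(d,x) + (1-g) b(x,x)`

* `exists_adapted_basis`: for `d ∈ ℤ^r` (`r ≥ 1`) there is a basis `e` of `ℤ^r` with
  `d = gcd(d) • e 0`.
-/

namespace Groth.Agent.Lib.Seat35.Lattice

open Module

/-- The coordinates of a member of a basis of `ℤ^r` have gcd one. -/
theorem gcd_basis_apply {r : ℕ} (e : Basis (Fin r) ℤ (Fin r → ℤ)) (i : Fin r) :
    Finset.univ.gcd (e i) = 1 := by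
  classical
  have hdvd : ∀ k, Finset.univ.gcd (e i) ∣ e i k := fun k => Finset.gcd_dvd (Finset.mem_univ k)
  have h1 : (e.coord i) (e i) = 1 := by simp
  have h2 : e i = ∑ k, e i k • (fun j => if k = j then (1 : ℤ) else 0) := pi_eq_sum_univ (e i)
  rw [h2, map_sum] at h1
  have h3 : Finset.univ.gcd (e i) ∣ 1 := by
    rw [← h1]
    refine Finset.dvd_sum fun k _ => ?_
    rw [map_smul, smul_eq_mul]
    exact Dvd.dvd.mul_right (hdvd k) _
  have h4 := Int.isUnit_iff.mp (isUnit_of_dvd_one h3)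
  have h5 : normalize (Finset.univ.gcd (e i)) = Finset.univ.gcd (e i) := Finset.normalize_gcd
  rcases h4 with h4 | h4
  · exact h4
  · rw [h4] at h5
    exact absurd h5 (by decide)

/-- Every vector of `ℤ^r`, `r ≥ 1`, is its gcd times the first vector of a suitable basis. -/
theorem exists_adapted_basis {r : ℕ} (hr : 0 < r) (d : Fin r → ℤ) :
    ∃ e : Basis (Fin r) ℤ (Fin r → ℤ), d = Finset.univ.gcd d • e ⟨0, hr⟩ := by
  classical
  by_cases hd : d = 0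
  · refine ⟨Pi.basisFun ℤ (Fin r), ?_⟩
    have : Finset.univ.gcd d = 0 := Finset.gcd_eq_zero_iff.mpr fun x _ => by rw [hd]; rfl
    rw [this, zero_smul, hd]
  · obtain ⟨n, snf⟩ := (ℤ ∙ d).smithNormalForm (Pi.basisFun ℤ (Fin r))
    have hn : n = 1 := by
      have h1 : finrank ℤ (ℤ ∙ d) = n := by
        rw [finrank_eq_card_basis snf.bN, Fintype.card_fin]
      have h2 : finrank ℤ (ℤ ∙ d) = 1 := by
        rw [← (LinearEquiv.toSpanNonzeroSingleton ℤ (Fin r → ℤ) d hd).finrank_eq]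
        exact finrank_self ℤ
      omega
    subst hn
    -- d is a multiple of the basis vector `bM (f 0)`
    have hdN : d ∈ ℤ ∙ d := Submodule.mem_span_singleton_self d
    obtain ⟨m, hm⟩ : ∃ m : ℤ, d = m • snf.bM (snf.f 0) := by
      have h1 := snf.bN.sum_repr ⟨d, hdN⟩
      rw [Fin.sum_univ_one] at h1
      have h2 := congrArg Subtype.val h1
      simp only [Submodule.coe_smul] at h2
      rw [snf.snf, smul_smul] at h2
      exact ⟨_, h2.symm⟩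
    have hgcd : Finset.univ.gcd d = normalize m := by
      have h3 : Finset.univ.gcd d = Finset.univ.gcd (fun k => m * snf.bM (snf.f 0) k) := by
        congr 1
      rw [h3, Finset.gcd_mul_left, gcd_basis_apply, mul_one]
    -- sign
    have hsign : ∃ u : ℤˣ, normalize m = (u : ℤ) * m := by
      rcases le_total 0 m with h | h
      · exact ⟨1, by simp [Int.normalize_of_nonneg h]⟩
      · exact ⟨-1, by simp [Int.normalize_of_nonpos h]⟩
    obtain ⟨u, hu⟩ := hsign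
    let σ : Fin r ≃ Fin r := Equiv.swap (snf.f 0) ⟨0, hr⟩
    let e1 : Basis (Fin r) ℤ (Fin r → ℤ) := snf.bM.reindex σ
    let e2 : Basis (Fin r) ℤ (Fin r → ℤ) :=
      e1.unitsSMul (fun i => if i = ⟨0, hr⟩ then u else 1)
    refine ⟨e2, ?_⟩
    have he2 : e2 ⟨0, hr⟩ = (u : ℤ) • snf.bM (snf.f 0) := by
      simp only [e2, e1, Basis.unitsSMul_apply, if_true, Basis.reindex_apply, σ,
        Equiv.symm_swap, Equiv.swap_apply_right]
      rfl
    rw [hgcd, hu, he2, smul_smul]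
    have huu : (u : ℤ) * m * (u : ℤ) = m := by
      have : (u : ℤ) * (u : ℤ) = 1 := by
        rcases Int.units_eq_one_or u with h | h <;> simp [h]
      calc (u : ℤ) * m * u = m * ((u : ℤ) * u) := by ring
        _ = m := by rw [this, mul_one]
    rw [huu]
    exact hm

section Main

/-- The generating set: additive maps `x ↦ b(d,x) + (1-g) b(x,x)` modulo `δ`, `b` symmetric. -/
def genSet {r : ℕ} (δ : ℕ) (g : ℤ) (d : Fin r → ℤ) : Set ((Fin r → ℤ) →+ ZMod δ) :=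
  {φ | ∃ b : LinearMap.BilinForm ℤ (Fin r → ℤ), b.IsSymm ∧
    ∀ x, φ x = ((b d x + (1 - g) * b x x : ℤ) : ZMod δ)}

variable {r' : ℕ} (δ : ℕ) (g : ℤ)

/-- The additive map attached to a symmetric form. -/
def quadHom (hδ : (δ : ℤ) ∣ 2 * (g - 1)) (d : Fin (r' + 1) → ℤ)
    (b : LinearMap.BilinForm ℤ (Fin (r' + 1) → ℤ)) (hb : b.IsSymm) :
    (Fin (r' + 1) → ℤ) →+ ZMod δ :=
  AddMonoidHom.mk' (fun x => ((b d x + (1 - g) * b x x : ℤ) : ZMod δ)) (by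
    intro x y
    have h1 : b (x + y) (x + y) = b x x + b y y + 2 * b x y := by
      simp only [map_add, LinearMap.add_apply]
      rw [hb.eq y x]; ring
    obtain ⟨t, ht⟩ := hδ
    have h2 : (b d (x + y) + (1 - g) * b (x + y) (x + y) : ℤ) =
        (b d x + (1 - g) * b x x) + (b d y + (1 - g) * b y y) - (δ : ℤ) * (t * b x y) := by
      rw [h1, map_add]
      linear_combination (-(b x y)) * ht
    rw [h2]
    push_cast
    simp)

theorem quadHom_apply (hδ : (δ : ℤ) ∣ 2 * (g - 1)) (d : Fin (r' + 1) → ℤ)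
    (b : LinearMap.BilinForm ℤ (Fin (r' + 1) → ℤ)) (hb : b.IsSymm) (x : Fin (r' + 1) → ℤ) :
    quadHom δ g hδ d b hb x = ((b d x + (1 - g) * b x x : ℤ) : ZMod δ) := rfl

/-- Additive maps out of `ℤ^n` agreeing on a basis are equal. -/
theorem addMonoidHom_ext_basis {n : ℕ} {G : Type*} [AddCommGroup G]
    (e : Basis (Fin n) ℤ (Fin n → ℤ)) {φ ψ : (Fin n → ℤ) →+ G} (h : ∀ k, φ (e k) = ψ (e k)) :
    φ = ψ := by
  apply AddMonoidHom.toIntLinearMap_injective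
  exact e.ext fun k => h k

variable (e : Basis (Fin (r' + 1)) ℤ (Fin (r' + 1) → ℤ))

/-- Evaluate on the basis and reduce. -/
noncomputable def Psi (m₀ m₁ : ℕ) (h₀ : m₀ ∣ δ) (h₁ : m₁ ∣ δ) :
    ((Fin (r' + 1) → ℤ) →+ ZMod δ) →+ ZMod m₀ × (Fin r' → ZMod m₁) where
  toFun φ := ((ZMod.castHom h₀ (ZMod m₀)) (φ (e 0)),
    fun k => (ZMod.castHom h₁ (ZMod m₁)) (φ (e k.succ)))
  map_zero' := by
    refine Prod.ext ?_ (funext fun k => ?_)
    · simp only [AddMonoidHom.zero_apply, map_zero]; rfl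
    · simp only [AddMonoidHom.zero_apply, map_zero]; rfl
  map_add' φ ψ := by
    refine Prod.ext ?_ (funext fun k => ?_)
    · simp only [AddMonoidHom.add_apply, map_add]; rfl
    · simp only [AddMonoidHom.add_apply, map_add]; rfl

theorem Psi_fst (m₀ m₁ : ℕ) (h₀ : m₀ ∣ δ) (h₁ : m₁ ∣ δ) (φ : (Fin (r' + 1) → ℤ) →+ ZMod δ) :
    (Psi δ e m₀ m₁ h₀ h₁ φ).1 = (ZMod.castHom h₀ (ZMod m₀)) (φ (e 0)) := rfl

theorem Psi_snd (m₀ m₁ : ℕ) (h₀ : m₀ ∣ δ) (h₁ : m₁ ∣ δ) (φ : (Fin (r' + 1) → ℤ) →+ ZMod δ)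
    (k : Fin r') :
    (Psi δ e m₀ m₁ h₀ h₁ φ).2 k = (ZMod.castHom h₁ (ZMod m₁)) (φ (e k.succ)) := rfl

theorem cast_eq_of_castHom_eq_zero {m : ℕ} (hm : m ∣ δ) (x : ZMod δ)
    (hx : (ZMod.castHom hm (ZMod m)) x = 0) : ∃ y : ℤ, x = (((m : ℤ) * y : ℤ) : ZMod δ) := by
  obtain ⟨xt, rfl⟩ := ZMod.intCast_surjective x
  rw [map_intCast, ZMod.intCast_zmod_eq_zero_iff_dvd] at hx
  obtain ⟨y, rfl⟩ := hx
  exact ⟨y, rfl⟩

theorem Psi_surjective (m₀ m₁ : ℕ) (h₀ : m₀ ∣ δ) (h₁ : m₁ ∣ δ) :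
    Function.Surjective (Psi δ e m₀ m₁ h₀ h₁) := by
  rintro ⟨z₀, z⟩
  obtain ⟨w₀, hw₀⟩ := ZMod.ringHom_surjective (ZMod.castHom h₀ (ZMod m₀)) z₀
  choose w hw using fun k => ZMod.ringHom_surjective (ZMod.castHom h₁ (ZMod m₁)) (z k)
  refine ⟨(e.constr ℤ (Fin.cons w₀ w : Fin (r' + 1) → ZMod δ)).toAddMonoidHom, ?_⟩
  refine Prod.ext ?_ (funext fun k => ?_)
  · rw [Psi_fst]
    change (ZMod.castHom h₀ (ZMod m₀)) ((e.constr ℤ (Fin.cons w₀ w : Fin (r' + 1) → ZMod δ)) (e 0)) = z₀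
    rw [Basis.constr_basis, Fin.cons_zero, hw₀]
  · rw [Psi_snd]
    change (ZMod.castHom h₁ (ZMod m₁))
      ((e.constr ℤ (Fin.cons w₀ w : Fin (r' + 1) → ZMod δ)) (e k.succ)) = z k
    rw [Basis.constr_basis, Fin.cons_succ, hw]

theorem genSet_le_ker (D : ℤ) (d : Fin (r' + 1) → ℤ) (hd : d = D • e 0) (m₀ m₁ : ℕ)
    (h₀ : m₀ ∣ δ) (h₁ : m₁ ∣ δ) (hm₀ : (m₀ : ℤ) ∣ D + 1 - g) (hm₁D : (m₁ : ℤ) ∣ D)
    (hm₁g : (m₁ : ℤ) ∣ g - 1) :
    genSet δ g d ⊆ (Psi δ e m₀ m₁ h₀ h₁).ker := by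
  rintro φ ⟨b, -, hφ⟩
  rw [SetLike.mem_coe, AddMonoidHom.mem_ker]
  have hbd : ∀ x, b d x = D * b (e 0) x := by
    intro x; rw [hd, map_smul, LinearMap.smul_apply, smul_eq_mul]
  refine Prod.ext ?_ (funext fun k => ?_)
  · rw [Psi_fst, Prod.fst_zero]
    rw [hφ, map_intCast, ZMod.intCast_zmod_eq_zero_iff_dvd, hbd]
    have : D * b (e 0) (e 0) + (1 - g) * b (e 0) (e 0) = (D + 1 - g) * b (e 0) (e 0) := by ring
    rw [this]
    exact Dvd.dvd.mul_right hm₀ _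
  · rw [Psi_snd, Prod.snd_zero, Pi.zero_apply]
    rw [hφ, map_intCast, ZMod.intCast_zmod_eq_zero_iff_dvd, hbd]
    refine dvd_add (Dvd.dvd.mul_right hm₁D _) (Dvd.dvd.mul_right ?_ _)
    have : (1 - g) = -(g - 1) := by ring
    rw [this]
    exact (dvd_neg).mpr hm₁g

theorem ker_le_genSet (hδ : (δ : ℤ) ∣ 2 * (g - 1)) (D : ℤ) (d : Fin (r' + 1) → ℤ)
    (hd : d = D • e 0) (m₀ m₁ : ℕ) (h₀ : m₀ ∣ δ) (h₁ : m₁ ∣ δ)
    (α₀ β₀ : ℤ) (hB₀ : (m₀ : ℤ) = δ * α₀ + (D + 1 - g) * β₀)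
    (α₁ β₁ γ₁ : ℤ) (hB₁ : (m₁ : ℤ) = δ * α₁ + D * β₁ + (g - 1) * γ₁) :
    ((Psi δ e m₀ m₁ h₀ h₁).ker : Set _) ⊆ genSet δ g d := by
  classical
  intro φ hφ
  rw [SetLike.mem_coe, AddMonoidHom.mem_ker] at hφ
  have hφ0 : (ZMod.castHom h₀ (ZMod m₀)) (φ (e 0)) = 0 := congrArg Prod.fst hφ
  have hφk : ∀ k : Fin r', (ZMod.castHom h₁ (ZMod m₁)) (φ (e k.succ)) = 0 :=
    fun k => congrFun (congrArg Prod.snd hφ) k
  have hex : ∀ k : Fin (r' + 1), ∃ y : ℤ,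
      φ (e k) = ((((if k = 0 then m₀ else m₁ : ℕ) : ℤ) * y : ℤ) : ZMod δ) := by
    intro k
    refine Fin.cases ?_ (fun k => ?_) k
    · simpa using cast_eq_of_castHom_eq_zero δ h₀ _ hφ0
    · simpa [Fin.succ_ne_zero] using cast_eq_of_castHom_eq_zero δ h₁ _ (hφk k)
  choose ys hys using hex
  let Bd : Fin (r' + 1) → ℤ := fun k => if k = 0 then β₀ * ys 0 else -(γ₁ * ys k)
  let Ao : Fin (r' + 1) → ℤ := fun k => β₁ * ys k
  let Mx : Matrix (Fin (r' + 1)) (Fin (r' + 1)) ℤ := fun i j =>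
    if i = j then Bd i else if i = 0 then Ao j else if j = 0 then Ao i else 0
  have hMx : Mx.IsSymm := by
    apply Matrix.IsSymm.ext
    intro i j
    simp only [Mx]
    by_cases hij : i = j
    · subst hij; rfl
    · have hji : ¬ j = i := fun h => hij h.symm
      rw [if_neg hij, if_neg hji]
      by_cases hi : i = 0 <;> by_cases hj : j = 0 <;> simp [hi, hj]
  let b : LinearMap.BilinForm ℤ (Fin (r' + 1) → ℤ) := Matrix.toBilin e Mx
  have hb : b.IsSymm := (Matrix.isSymm_toBilin_iff_isSymm e).mpr hMx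
  have hbe : ∀ i j, b (e i) (e j) = Mx i j := by
    intro i j
    rw [← LinearMap.BilinForm.toMatrix_apply e b i j, LinearMap.BilinForm.toMatrix_toBilin]
  refine ⟨b, hb, ?_⟩
  have key : φ = quadHom δ g hδ d b hb := by
    apply addMonoidHom_ext_basis e
    intro k
    rw [quadHom_apply, hys k, hd, map_smul, LinearMap.smul_apply, smul_eq_mul, hbe, hbe,
      ZMod.intCast_eq_intCast_iff_dvd_sub]
    by_cases hk : k = 0
    · subst hk
      simp only [if_true, Mx, Bd]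
      refine ⟨-(α₀ * ys 0), ?_⟩
      rw [hB₀]; ring
    · have hk' : ¬ (0 : Fin (r' + 1)) = k := fun h => hk h.symm
      simp only [if_neg hk, if_neg hk', if_true, Mx, Bd, Ao]
      refine ⟨-(α₁ * ys k), ?_⟩
      rw [hB₁]; ring
  intro x
  rw [key]
  rfl

end Main

section Assemble

variable {r' : ℕ} (δ : ℕ) (g : ℤ)

/-- The subgroup generated by `genSet` is the kernel of `Psi` for an adapted basis. -/
theorem exists_closure_eq_ker (hδ : (δ : ℤ) ∣ 2 * (g - 1)) (d : Fin (r' + 1) → ℤ) :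
    ∃ (e : Basis (Fin (r' + 1)) ℤ (Fin (r' + 1) → ℤ))
      (h₀ : Int.gcd δ (Finset.univ.gcd d + 1 - g) ∣ δ)
      (h₁ : Int.gcd δ (Int.gcd (g - 1) (Finset.univ.gcd d)) ∣ δ),
      AddSubgroup.closure (genSet δ g d) = (Psi δ e _ _ h₀ h₁).ker := by
  obtain ⟨e, he⟩ := exists_adapted_basis (Nat.succ_pos r') d
  rw [Fin.mk_zero] at he
  set D := Finset.univ.gcd d with hD
  have h₀ : Int.gcd δ (D + 1 - g) ∣ δ :=
    Int.natCast_dvd_natCast.mp (Int.gcd_dvd_left (δ : ℤ) (D + 1 - g))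
  have h₁ : Int.gcd δ (Int.gcd (g - 1) D) ∣ δ :=
    Int.natCast_dvd_natCast.mp (Int.gcd_dvd_left (δ : ℤ) _)
  refine ⟨e, h₀, h₁, le_antisymm ?_ ?_⟩
  · rw [AddSubgroup.closure_le]
    refine genSet_le_ker δ g e D d he _ _ h₀ h₁ (Int.gcd_dvd_right _ _) ?_ ?_
    · exact (Int.gcd_dvd_right _ _).trans (Int.gcd_dvd_right _ _)
    · exact (Int.gcd_dvd_right _ _).trans (Int.gcd_dvd_left _ _)
  · intro φ hφ
    apply AddSubgroup.subset_closure
    refine ker_le_genSet δ g e hδ D d he _ _ h₀ h₁ _ _ (Int.gcd_eq_gcd_ab (δ : ℤ) (D + 1 - g))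
      (Int.gcdA (δ : ℤ) (Int.gcd (g - 1) D))
      (Int.gcdB (g - 1) D * Int.gcdB (δ : ℤ) (Int.gcd (g - 1) D))
      (Int.gcdA (g - 1) D * Int.gcdB (δ : ℤ) (Int.gcd (g - 1) D)) ?_ hφ
    rw [Int.gcd_eq_gcd_ab (δ : ℤ) (Int.gcd (g - 1) D)]
    have h2 := Int.gcd_eq_gcd_ab (g - 1) D
    rw [h2]
    ring

/-- The quotient of `Hom(ℤ^(r'+1), ℤ/δ)` by the subgroup generated by `genSet`. -/
theorem nonempty_quotient_equiv (hδ : (δ : ℤ) ∣ 2 * (g - 1)) (d : Fin (r' + 1) → ℤ) :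
    Nonempty ((((Fin (r' + 1) → ℤ) →+ ZMod δ) ⧸ AddSubgroup.closure (genSet δ g d)) ≃+
      (ZMod (Int.gcd δ (Finset.univ.gcd d + 1 - g)) ×
        (Fin r' → ZMod (Int.gcd δ (Int.gcd (g - 1) (Finset.univ.gcd d)))))) := by
  obtain ⟨e, h₀, h₁, hker⟩ := exists_closure_eq_ker δ g hδ d
  exact ⟨(QuotientAddGroup.quotientAddEquivOfEq hker).trans
    (QuotientAddGroup.quotientKerEquivOfSurjective _ (Psi_surjective δ e _ _ h₀ h₁))⟩

end Assemble

section Closure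

variable (δ : ℕ)

/-- Multiplication by `m`, as a map `ℤ/(δ/m) → ℤ/δ`. -/
noncomputable def mulHom {m : ℕ} (hm : m ∣ δ) : ZMod (δ / m) →+ ZMod δ :=
  ZMod.lift (δ / m) ⟨(Int.castAddHom (ZMod δ)).comp (AddMonoidHom.mulLeft (m : ℤ)), by
    simp only [AddMonoidHom.comp_apply, AddMonoidHom.coe_mulLeft, Int.coe_castAddHom]
    rw [← Nat.cast_mul, Nat.mul_div_cancel' hm, Int.cast_natCast, ZMod.natCast_self]⟩

theorem mulHom_intCast {m : ℕ} (hm : m ∣ δ) (x : ℤ) :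
    mulHom δ hm (x : ZMod (δ / m)) = (((m : ℤ) * x : ℤ) : ZMod δ) := by
  rw [mulHom, ZMod.lift_coe]
  rfl

theorem mulHom_injective (hδ0 : 0 < δ) {m : ℕ} (hm : m ∣ δ) :
    Function.Injective (mulHom δ hm) := by
  rw [mulHom, ZMod.lift_injective]
  intro x hx
  simp only [AddMonoidHom.comp_apply, AddMonoidHom.coe_mulLeft, Int.coe_castAddHom] at hx
  rw [ZMod.intCast_zmod_eq_zero_iff_dvd] at hx ⊢
  have hm0 : (m : ℤ) ≠ 0 := by
    intro h
    have : m = 0 := by exact_mod_cast h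
    rw [this, zero_dvd_iff] at hm
    omega
  have h1 : (δ : ℤ) = (m : ℤ) * ((δ / m : ℕ) : ℤ) := by
    rw [← Nat.cast_mul, Nat.mul_div_cancel' hm]
  rw [h1] at hx
  exact (mul_dvd_mul_iff_left hm0).mp hx

theorem castHom_mulHom {m : ℕ} (hm : m ∣ δ) (z : ZMod (δ / m)) :
    (ZMod.castHom hm (ZMod m)) (mulHom δ hm z) = 0 := by
  obtain ⟨x, rfl⟩ := ZMod.intCast_surjective z
  rw [mulHom_intCast, map_intCast, ZMod.intCast_zmod_eq_zero_iff_dvd]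
  exact dvd_mul_right _ _

theorem exists_mulHom_eq {m : ℕ} (hm : m ∣ δ) (y : ZMod δ)
    (hy : (ZMod.castHom hm (ZMod m)) y = 0) : ∃ z, mulHom δ hm z = y := by
  obtain ⟨t, rfl⟩ := cast_eq_of_castHom_eq_zero δ hm y hy
  exact ⟨(t : ZMod (δ / m)), mulHom_intCast δ hm t⟩

variable {r' : ℕ} (e : Basis (Fin (r' + 1)) ℤ (Fin (r' + 1) → ℤ))

/-- The parametrisation of the kernel of `Psi`. -/
noncomputable def Theta (m₀ m₁ : ℕ) (h₀ : m₀ ∣ δ) (h₁ : m₁ ∣ δ) :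
    ZMod (δ / m₀) × (Fin r' → ZMod (δ / m₁)) →+ ((Fin (r' + 1) → ℤ) →+ ZMod δ) :=
  AddMonoidHom.mk' (fun p => (e.constr ℤ (Fin.cons (mulHom δ h₀ p.1)
      (fun k => mulHom δ h₁ (p.2 k)) : Fin (r' + 1) → ZMod δ)).toAddMonoidHom) (by
    intro p q
    apply addMonoidHom_ext_basis e
    intro k
    simp only [AddMonoidHom.add_apply, LinearMap.toAddMonoidHom_coe, Basis.constr_basis]
    refine Fin.cases ?_ (fun k => ?_) k
    · simp only [Fin.cons_zero, Prod.fst_add, map_add]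
    · simp only [Fin.cons_succ, Prod.snd_add, Pi.add_apply, map_add])

theorem Theta_apply_zero (m₀ m₁ : ℕ) (h₀ : m₀ ∣ δ) (h₁ : m₁ ∣ δ)
    (p : ZMod (δ / m₀) × (Fin r' → ZMod (δ / m₁))) :
    Theta δ e m₀ m₁ h₀ h₁ p (e 0) = mulHom δ h₀ p.1 := by
  change (e.constr ℤ _) (e 0) = _
  rw [Basis.constr_basis, Fin.cons_zero]

theorem Theta_apply_succ (m₀ m₁ : ℕ) (h₀ : m₀ ∣ δ) (h₁ : m₁ ∣ δ)
    (p : ZMod (δ / m₀) × (Fin r' → ZMod (δ / m₁))) (k : Fin r') :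
    Theta δ e m₀ m₁ h₀ h₁ p (e k.succ) = mulHom δ h₁ (p.2 k) := by
  change (e.constr ℤ _) (e k.succ) = _
  rw [Basis.constr_basis, Fin.cons_succ]

theorem Theta_injective (hδ0 : 0 < δ) (m₀ m₁ : ℕ) (h₀ : m₀ ∣ δ) (h₁ : m₁ ∣ δ) :
    Function.Injective (Theta δ e m₀ m₁ h₀ h₁) := by
  intro p q hpq
  refine Prod.ext ?_ (funext fun k => ?_)
  · apply mulHom_injective δ hδ0 h₀
    rw [← Theta_apply_zero δ e m₀ m₁ h₀ h₁ p, ← Theta_apply_zero δ e m₀ m₁ h₀ h₁ q, hpq]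
  · apply mulHom_injective δ hδ0 h₁
    rw [← Theta_apply_succ δ e m₀ m₁ h₀ h₁ p, ← Theta_apply_succ δ e m₀ m₁ h₀ h₁ q, hpq]

theorem range_Theta (m₀ m₁ : ℕ) (h₀ : m₀ ∣ δ) (h₁ : m₁ ∣ δ) :
    (Theta δ e m₀ m₁ h₀ h₁).range = (Psi δ e m₀ m₁ h₀ h₁).ker := by
  apply le_antisymm
  · rintro _ ⟨p, rfl⟩
    rw [AddMonoidHom.mem_ker]
    refine Prod.ext ?_ (funext fun k => ?_)
    · rw [Psi_fst, Theta_apply_zero, castHom_mulHom]; rfl
    · rw [Psi_snd, Theta_apply_succ, castHom_mulHom]; rfl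
  · intro φ hφ
    rw [AddMonoidHom.mem_ker] at hφ
    have hφ0 : (ZMod.castHom h₀ (ZMod m₀)) (φ (e 0)) = 0 := congrArg Prod.fst hφ
    have hφk : ∀ k : Fin r', (ZMod.castHom h₁ (ZMod m₁)) (φ (e k.succ)) = 0 :=
      fun k => congrFun (congrArg Prod.snd hφ) k
    obtain ⟨z₀, hz₀⟩ := exists_mulHom_eq δ h₀ _ hφ0
    choose z hz using fun k => exists_mulHom_eq δ h₁ _ (hφk k)
    refine ⟨(z₀, z), ?_⟩
    apply addMonoidHom_ext_basis e
    intro k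
    refine Fin.cases ?_ (fun k => ?_) k
    · rw [Theta_apply_zero, hz₀]
    · rw [Theta_apply_succ, hz]

/-- The subgroup generated by `genSet`, for `δ > 0`. -/
theorem nonempty_closure_equiv (hδ0 : 0 < δ) (g : ℤ) (hδ : (δ : ℤ) ∣ 2 * (g - 1))
    (d : Fin (r' + 1) → ℤ) :
    Nonempty (AddSubgroup.closure (genSet δ g d) ≃+
      (ZMod (δ / Int.gcd δ (Finset.univ.gcd d + 1 - g)) ×
        (Fin r' → ZMod (δ / Int.gcd δ (Int.gcd (g - 1) (Finset.univ.gcd d)))))) := by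
  obtain ⟨e, h₀, h₁, hker⟩ := exists_closure_eq_ker δ g hδ d
  have h := (range_Theta δ e _ _ h₀ h₁).symm
  exact ⟨(AddEquiv.addSubgroupCongr (hker.trans h)).trans
    (AddMonoidHom.ofInjective (Theta_injective δ e hδ0 _ _ h₀ h₁)).symm⟩

end Closure

end Groth.Agent.Lib.Seat35.Lattice
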