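import Mathlib

/-!
Helper library (seat 35): maximal irreducible subsets of a closed subset `F` of a topological space
(the "irreducible components of `F`", as subsets of the ambient space), and a counting lemma for
closed generalizing maps (used for fibre components of finite morphisms onto normal schemes).
-/

set_option autoImplicit false
open TopologicalSpace

namespace Groth.Agent.Lib.Seat35.MaxIrr

variable {T : Type*} [TopologicalSpace T]

theorem isClosed_of_maximal {F : Set T} (hF : IsClosed F) {Z : Set T}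
    (hZ : Maximal (fun S : Set T => IsIrreducible S ∧ S ⊆ F) Z) : IsClosed Z := by
  rw [← closure_subset_iff_isClosed]
  exact hZ.2 ⟨hZ.1.1.closure, closure_minimal hZ.1.2 hF⟩ subset_closure

theorem exists_mem_of_irreducible_subset [NoetherianSpace T] {F : Set T} (hF : IsClosed F) :
    ∃ S : Set (Set T), S.Finite ∧ (∀ t ∈ S, IsClosed t) ∧ (∀ t ∈ S, IsIrreducible t) ∧
      (∀ t ∈ S, t ⊆ F) ∧ ∀ A : Set T, IsIrreducible A → A ⊆ F → ∃ t ∈ S, A ⊆ t := by
  obtain ⟨S, hSf, hSc, hSi, hSU⟩ := NoetherianSpace.exists_finite_set_isClosed_irreducible hF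
  refine ⟨S, hSf, hSc, hSi, fun t ht => ?_, fun A hA hAF => ?_⟩
  · rw [hSU]
    exact Set.subset_sUnion_of_mem ht
  · lift S to Finset (Set T) using hSf
    exact isIrreducible_iff_sUnion_isClosed.1 hA S hSc (hSU ▸ hAF)

theorem finite_maximal [NoetherianSpace T] {F : Set T} (hF : IsClosed F) :
    {Z : Set T | Maximal (fun S : Set T => IsIrreducible S ∧ S ⊆ F) Z}.Finite := by
  obtain ⟨S, hSf, -, hSi, hSF, hS⟩ := exists_mem_of_irreducible_subset hF
  refine hSf.subset fun Z hZ => ?_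
  obtain ⟨t, ht, hZt⟩ := hS Z hZ.1.1 hZ.1.2
  have : t ⊆ Z := hZ.2 ⟨hSi t ht, hSF t ht⟩ hZt
  rwa [hZt.antisymm this]

theorem exists_maximal_ge [NoetherianSpace T] {F : Set T} (hF : IsClosed F) {A : Set T}
    (hA : IsIrreducible A) (hAF : A ⊆ F) :
    ∃ Z, Maximal (fun S : Set T => IsIrreducible S ∧ S ⊆ F) Z ∧ A ⊆ Z := by
  obtain ⟨S, hSf, -, hSi, hSF, hS⟩ := exists_mem_of_irreducible_subset hF
  -- a maximal member of `S` among those containing `A`
  have hne : {t ∈ S | A ⊆ t}.Nonempty := by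
    obtain ⟨t, ht, hAt⟩ := hS A hA hAF
    exact ⟨t, ht, hAt⟩
  obtain ⟨t, ⟨⟨htS, hAt⟩, htmax⟩⟩ :=
    (hSf.subset (Set.sep_subset S _)).exists_maximal hne
  refine ⟨t, ⟨⟨hSi t htS, hSF t htS⟩, fun B hB htB => ?_⟩, hAt⟩
  obtain ⟨t', ht'S, hBt'⟩ := hS B hB.1 hB.2
  have h1 : t ≤ t' := htB.trans hBt'
  have h2 : t' ≤ t := htmax ⟨ht'S, hAt.trans h1⟩ h1
  exact hBt'.trans h2

variable {X Y : Type*} [TopologicalSpace X] [TopologicalSpace Y]

/-- For a closed, generalizing, continuous map `f : X → Y` from a Noetherian space to a quasi-sober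
space, a closed `F ⊆ Y` and a component `Z` of `F` through `f x`: some component `Z'` of `f ⁻¹' F`
through `x` maps onto `Z`. -/
theorem exists_maximal_image_eq [NoetherianSpace X] [QuasiSober Y] (f : X → Y) (hf : Continuous f)
    (hcl : IsClosedMap f) (hgen : GeneralizingMap f) {F : Set Y} (hF : IsClosed F) (x : X)
    {Z : Set Y} (hZ : Maximal (fun S : Set Y => IsIrreducible S ∧ S ⊆ F) Z) (hxZ : f x ∈ Z) :
    ∃ Z' : Set X, (Maximal (fun S : Set X => IsIrreducible S ∧ S ⊆ f ⁻¹' F) Z' ∧ x ∈ Z') ∧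
      f '' Z' = Z := by
  have hF' : IsClosed (f ⁻¹' F) := hF.preimage hf
  have hZcl : IsClosed Z := isClosed_of_maximal hF hZ
  obtain ⟨η, hη⟩ := QuasiSober.sober hZ.1.1 hZcl
  have hηZ : η ∈ Z := hη.mem
  have hηy : η ⤳ f x := by
    rw [specializes_iff_mem_closure, hη.def]
    exact hxZ
  obtain ⟨ξ, hξx, hξη⟩ := hgen hηy
  have hξF : ξ ∈ f ⁻¹' F := by
    change f ξ ∈ F
    rw [hξη]
    exact hZ.1.2 hηZ
  have hA : IsIrreducible (closure {ξ}) := isIrreducible_singleton.closure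
  have hAF : closure {ξ} ⊆ f ⁻¹' F :=
    closure_minimal (Set.singleton_subset_iff.mpr hξF) hF'
  obtain ⟨Z', hZ', hAZ'⟩ := exists_maximal_ge hF' hA hAF
  have hxZ' : x ∈ Z' := hAZ' (specializes_iff_mem_closure.mp hξx)
  have hξZ' : ξ ∈ Z' := hAZ' (subset_closure rfl)
  have hZ'cl : IsClosed Z' := isClosed_of_maximal hF' hZ'
  refine ⟨Z', ⟨hZ', hxZ'⟩, ?_⟩
  have himg_cl : IsClosed (f '' Z') := hcl Z' hZ'cl
  have himg_irr : IsIrreducible (f '' Z') := hZ'.1.1.image f hf.continuousOn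
  have himg_F : f '' Z' ⊆ F := by
    rintro _ ⟨z, hz, rfl⟩
    exact hZ'.1.2 hz
  have hZsub : Z ⊆ f '' Z' := by
    rw [← hη.def]
    exact closure_minimal (Set.singleton_subset_iff.mpr ⟨ξ, hξZ', hξη⟩) himg_cl
  exact (hZ.2 ⟨himg_irr, himg_F⟩ hZsub).antisymm hZsub

/-- For a closed, generalizing, continuous map `f : X → Y` from a Noetherian space to a quasi-sober
space and a closed `F ⊆ Y`: the number of components of `F` through `f x` is at most the number of
components of `f ⁻¹' F` through `x`. -/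
theorem ncard_le [NoetherianSpace X] [QuasiSober Y] (f : X → Y) (hf : Continuous f)
    (hcl : IsClosedMap f) (hgen : GeneralizingMap f) {F : Set Y} (hF : IsClosed F) (x : X) :
    {Z : Set Y | Maximal (fun S : Set Y => IsIrreducible S ∧ S ⊆ F) Z ∧ f x ∈ Z}.ncard ≤
      {Z : Set X | Maximal (fun S : Set X => IsIrreducible S ∧ S ⊆ f ⁻¹' F) Z ∧ x ∈ Z}.ncard := by
  have hF' : IsClosed (f ⁻¹' F) := hF.preimage hf
  have key : ∀ Z ∈ {Z : Set Y | Maximal (fun S : Set Y => IsIrreducible S ∧ S ⊆ F) Z ∧ f x ∈ Z},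
      ∃ Z' : Set X, (Maximal (fun S : Set X => IsIrreducible S ∧ S ⊆ f ⁻¹' F) Z' ∧ x ∈ Z') ∧
        f '' Z' = Z := by
    rintro Z ⟨hZ, hxZ⟩
    exact exists_maximal_image_eq f hf hcl hgen hF x hZ hxZ
  choose! g hg using key
  refine Set.ncard_le_ncard_of_injOn g (fun Z hZ => (hg Z hZ).1) ?_ ?_
  · intro Z₁ h₁ Z₂ h₂ h12
    rw [← (hg Z₁ h₁).2, ← (hg Z₂ h₂).2, h12]
  · exact (finite_maximal hF').subset fun Z hZ => hZ.1

end Groth.Agent.Lib.Seat35.MaxIrr
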