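import Mathlib
import Groth.Prelude.Def_EtMil
import Groth.Agent.S2021
import Groth.Agent.S6916

/-!
# Relative Milnor glueing: finiteness

Helper library of seat 35 for S6921.  In the relative situation `B' = B ×_A A'`, `B' → D'`,
`D = D' ⊗ B`, `C' = D' ⊗ A'`, `C = D' ⊗ A`, the map `D' → D ×_C C'` is surjective, the square
`D ×_C C' , D, C', C` is a fibre square, and hence glueing of finite modules is finite.
-/

set_option autoImplicit false
set_option linter.unusedSectionVars false
set_option linter.style.haveILetI false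
universe u

open TensorProduct

noncomputable section

namespace Groth.Agent.Lib.Seat35.MilnorRel

section FP

variable (D C' C : Type u) [CommRing D] [CommRing C'] [CommRing C] [Algebra D C] [Algebra C' C]

/-- The fibre product ring `D ×_C C'`. -/
def FP : Type u :=
  ↥(RingHom.eqLocus ((algebraMap D C).comp (RingHom.fst D C'))
    ((algebraMap C' C).comp (RingHom.snd D C')))

noncomputable instance : CommRing (FP D C' C) :=
  inferInstanceAs (CommRing ↥(RingHom.eqLocus ((algebraMap D C).comp (RingHom.fst D C'))
    ((algebraMap C' C).comp (RingHom.snd D C'))))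

/-- first projection -/
def FP.fst : FP D C' C →+* D :=
  (RingHom.fst D C').comp (Subring.subtype _)

/-- second projection -/
def FP.snd : FP D C' C →+* C' :=
  (RingHom.snd D C').comp (Subring.subtype _)

theorem FP.compat (x : FP D C' C) :
    algebraMap D C (FP.fst D C' C x) = algebraMap C' C (FP.snd D C' C x) := x.2

/-- constructor -/
def FP.mk (d : D) (c' : C') (h : algebraMap D C d = algebraMap C' C c') : FP D C' C :=
  ⟨(d, c'), h⟩

@[simp] theorem FP.fst_mk (d : D) (c' : C') (h : algebraMap D C d = algebraMap C' C c') :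
    FP.fst D C' C (FP.mk D C' C d c' h) = d := rfl

@[simp] theorem FP.snd_mk (d : D) (c' : C') (h : algebraMap D C d = algebraMap C' C c') :
    FP.snd D C' C (FP.mk D C' C d c' h) = c' := rfl

theorem FP.ext {x y : FP D C' C} (h1 : FP.fst D C' C x = FP.fst D C' C y)
    (h2 : FP.snd D C' C x = FP.snd D C' C y) : x = y :=
  Subtype.ext (Prod.ext h1 h2)

noncomputable instance : Algebra (FP D C' C) D := (FP.fst D C' C).toAlgebra
noncomputable instance : Algebra (FP D C' C) C' := (FP.snd D C' C).toAlgebra
noncomputable instance : Algebra (FP D C' C) C :=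
  ((algebraMap D C).comp (FP.fst D C' C)).toAlgebra

instance : IsScalarTower (FP D C' C) D C := IsScalarTower.of_algebraMap_eq (fun _ => rfl)
instance : IsScalarTower (FP D C' C) C' C :=
  IsScalarTower.of_algebraMap_eq (fun x => FP.compat D C' C x)

theorem FP.isFibreSquare (hs : Function.Surjective (algebraMap C' C)) :
    EtMil.IsFibreSquare (FP D C' C) D C' C := by
  refine ⟨hs, fun d c' h => ⟨FP.mk D C' C d c' h, ⟨rfl, rfl⟩, ?_⟩⟩
  rintro y ⟨h1, h2⟩
  exact FP.ext D C' C h1 h2

end FP

section Rel

variable (B' B A' A : Type u) [CommRing B'] [CommRing B] [CommRing A'] [CommRing A]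
    [Algebra B' B] [Algebra B' A'] [Algebra B A] [Algebra A' A] [Algebra B' A]
    [IsScalarTower B' B A] [IsScalarTower B' A' A]
    (D' D C' C : Type u) [CommRing D'] [CommRing D] [CommRing C'] [CommRing C]
    [Algebra B' D'] [Algebra B D] [Algebra A' C'] [Algebra A C]
    [Algebra D' D] [Algebra B' D] [IsScalarTower B' B D] [IsScalarTower B' D' D]
    [Algebra.IsPushout B' B D' D]
    [Algebra D' C'] [Algebra B' C'] [IsScalarTower B' A' C'] [IsScalarTower B' D' C']
    [Algebra.IsPushout B' A' D' C']
    [Algebra D' C] [Algebra B' C] [IsScalarTower B' A C] [IsScalarTower B' D' C]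
    [Algebra.IsPushout B' A D' C]
    [Algebra D C] [IsScalarTower D' D C] [Algebra B C] [IsScalarTower B A C] [IsScalarTower B D C]
    [Algebra C' C] [IsScalarTower D' C' C] [Algebra A' C] [IsScalarTower A' A C]
    [IsScalarTower A' C' C]

theorem key1 (x : B ⊗[B'] D') :
    Algebra.IsPushout.equiv B' A D' C ((IsScalarTower.toAlgHom B' B A).toLinearMap.rTensor D' x) =
      algebraMap D C (Algebra.IsPushout.equiv B' B D' D x) := by
  induction x using TensorProduct.induction_on with
  | zero => simp
  | tmul b d' =>
    rw [LinearMap.rTensor_tmul, Algebra.IsPushout.equiv_tmul, Algebra.IsPushout.equiv_tmul,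
      map_mul]
    congr 1
    · change algebraMap A C (algebraMap B A b) = algebraMap D C (algebraMap B D b)
      rw [← IsScalarTower.algebraMap_apply, ← IsScalarTower.algebraMap_apply]
    · rw [← IsScalarTower.algebraMap_apply]
  | add x y hx hy => rw [map_add, map_add, hx, hy, map_add, map_add]

theorem key2 (y : A' ⊗[B'] D') :
    Algebra.IsPushout.equiv B' A D' C ((IsScalarTower.toAlgHom B' A' A).toLinearMap.rTensor D' y) =
      algebraMap C' C (Algebra.IsPushout.equiv B' A' D' C' y) := by
  induction y using TensorProduct.induction_on with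
  | zero => simp
  | tmul a' d' =>
    rw [LinearMap.rTensor_tmul, Algebra.IsPushout.equiv_tmul, Algebra.IsPushout.equiv_tmul,
      map_mul]
    congr 1
    · change algebraMap A C (algebraMap A' A a') = algebraMap C' C (algebraMap A' C' a')
      rw [← IsScalarTower.algebraMap_apply, ← IsScalarTower.algebraMap_apply]
    · rw [← IsScalarTower.algebraMap_apply]
  | add x y hx hy => rw [map_add, map_add, hx, hy, map_add, map_add]

include B' A' A D' in
theorem surjective_C (hsq : EtMil.IsFibreSquare B' B A' A) :
    Function.Surjective (algebraMap C' C) := by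
  intro c
  have hs : Function.Surjective ((IsScalarTower.toAlgHom B' A' A).toLinearMap.rTensor D') :=
    LinearMap.rTensor_surjective D' hsq.1
  obtain ⟨y, hy⟩ := hs ((Algebra.IsPushout.equiv B' A D' C).symm c)
  refine ⟨Algebra.IsPushout.equiv B' A' D' C' y, ?_⟩
  rw [← key2 B' A' A D' C' C y, hy, AlgEquiv.apply_symm_apply]

theorem exists_lift (hsq : EtMil.IsFibreSquare B' B A' A) (d : D) (c' : C')
    (h : algebraMap D C d = algebraMap C' C c') :
    ∃ l : D', algebraMap D' D l = d ∧ algebraMap D' C' l = c' := by
  have hxy : (IsScalarTower.toAlgHom B' B A).toLinearMap.rTensor D'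
        ((Algebra.IsPushout.equiv B' B D' D).symm d) =
      (IsScalarTower.toAlgHom B' A' A).toLinearMap.rTensor D'
        ((Algebra.IsPushout.equiv B' A' D' C').symm c') := by
    apply (Algebra.IsPushout.equiv B' A D' C).injective
    rw [key1 B' B A D' D C, key2 B' A' A D' C' C, AlgEquiv.apply_symm_apply,
      AlgEquiv.apply_symm_apply, h]
  obtain ⟨l, hl1, hl2⟩ := Groth.Agent.S6916.result B' B A' A hsq D' _ _ hxy
  refine ⟨l, ?_, ?_⟩
  · have := congrArg (Algebra.IsPushout.equiv B' B D' D) hl1
    rwa [AlgEquiv.apply_symm_apply, Algebra.IsPushout.equiv_tmul, map_one, one_mul] at this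
  · have := congrArg (Algebra.IsPushout.equiv B' A' D' C') hl2
    rwa [AlgEquiv.apply_symm_apply, Algebra.IsPushout.equiv_tmul, map_one, one_mul] at this

/-- the ring map `D' → D ×_C C'` -/
def toFP : D' →+* FP D C' C where
  toFun l := FP.mk D C' C (algebraMap D' D l) (algebraMap D' C' l)
    (by rw [← IsScalarTower.algebraMap_apply, ← IsScalarTower.algebraMap_apply])
  map_one' := FP.ext D C' C (by simp) (by simp)
  map_mul' x y := FP.ext D C' C (by simp [map_mul]) (by simp [map_mul])
  map_zero' := FP.ext D C' C (by simp) (by simp)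
  map_add' x y := FP.ext D C' C (by simp [map_add]) (by simp [map_add])

@[simp] theorem fst_toFP (l : D') : FP.fst D C' C (toFP D' D C' C l) = algebraMap D' D l := rfl
@[simp] theorem snd_toFP (l : D') : FP.snd D C' C (toFP D' D C' C l) = algebraMap D' C' l := rfl

theorem toFP_surjective (hsq : EtMil.IsFibreSquare B' B A' A) :
    Function.Surjective (toFP D' D C' C) := by
  intro x
  obtain ⟨l, h1, h2⟩ := exists_lift B' B A' A D' D C' C hsq (FP.fst D C' C x) (FP.snd D C' C x)
    (FP.compat D C' C x)
  exact ⟨l, FP.ext D C' C h1 h2⟩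

theorem glue_finite (hsq : EtMil.IsFibreSquare B' B A' A)
    {N M' : Type u} [AddCommGroup N] [Module D N] [Module D' N] [IsScalarTower D' D N]
    [AddCommGroup M'] [Module C' M'] [Module D' M'] [IsScalarTower D' C' M']
    (φ : C ⊗[D] N ≃ₗ[C] C ⊗[C'] M')
    [Module.Finite D N] [Module.Finite C' M'] : Module.Finite D' ↥(EtMil.glue D' φ) := by
  letI : Module (FP D C' C) N := Module.compHom N (FP.fst D C' C)
  letI : Module (FP D C' C) M' := Module.compHom M' (FP.snd D C' C)
  haveI : IsScalarTower (FP D C' C) D N := ⟨fun a b n => by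
    change (FP.fst D C' C a * b) • n = FP.fst D C' C a • (b • n)
    rw [mul_smul]⟩
  haveI : IsScalarTower (FP D C' C) C' M' := ⟨fun a b n => by
    change (FP.snd D C' C a * b) • n = FP.snd D C' C a • (b • n)
    rw [mul_smul]⟩
  have hfs : EtMil.IsFibreSquare (FP D C' C) D C' C :=
    FP.isFibreSquare D C' C (surjective_C B' B A' A D' C' C hsq)
  have hfin : Module.Finite (FP D C' C) ↥(EtMil.glue (FP D C' C) φ) :=
    (Groth.Agent.S2021.result (FP D C' C) D C' C hfs N M' φ).1 inferInstance inferInstance
  letI : Algebra D' (FP D C' C) := (toFP D' D C' C).toAlgebra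
  have hsurj : Function.Surjective (algebraMap D' (FP D C' C)) :=
    toFP_surjective B' B A' A D' D C' C hsq
  haveI : IsScalarTower D' (FP D C' C) (N × M') := ⟨fun a b x => by
    refine Prod.ext ?_ ?_
    · change (FP.fst D C' C (toFP D' D C' C a * b)) • x.1 = a • (FP.fst D C' C b • x.1)
      rw [map_mul, mul_smul, fst_toFP, algebraMap_smul]
    · change (FP.snd D C' C (toFP D' D C' C a * b)) • x.2 = a • (FP.snd D C' C b • x.2)
      rw [map_mul, mul_smul, snd_toFP, algebraMap_smul]⟩
  rw [Module.Finite.iff_fg] at hfin ⊢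
  obtain ⟨S, hS⟩ := hfin
  refine ⟨S, ?_⟩
  rw [← Submodule.restrictScalars_span D' (FP D C' C) hsurj, hS]
  ext x
  rfl

end Rel

end Groth.Agent.Lib.Seat35.MilnorRel
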