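import Mathlib
import Groth.Agent.Lib.Seat35MilnorRel
import Groth.Agent.Lib.Helper22MilnorFlat

/-!
# Relative Milnor glueing: finite presentation

Helper library of seat 35 for S6922.
-/

set_option autoImplicit false
set_option linter.unusedSectionVars false
set_option linter.style.haveILetI false
universe u

open TensorProduct

noncomputable section

namespace Groth.Agent.Lib.Seat35.MilnorRel

section Generic

variable {R R' S S' : Type*} [CommRing R] [CommRing R'] [CommRing S] [CommRing S']
  [Algebra R R'] [Algebra R S] [Algebra R' S'] [Algebra S S'] [Algebra R S']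
  [IsScalarTower R R' S'] [IsScalarTower R S S'] [Algebra.IsPushout R S R' S']

/-- Naturality of `IsPushout.cancelBaseChange`. -/
theorem cancelBaseChange_symm_naturality
    {M₁ M₂ : Type*} [AddCommGroup M₁] [Module R' M₁] [Module R M₁] [IsScalarTower R R' M₁]
    [AddCommGroup M₂] [Module R' M₂] [Module R M₂] [IsScalarTower R R' M₂]
    (g : M₁ →ₗ[R'] M₂) (t : S ⊗[R] M₁) :
    g.lTensor S' ((Algebra.IsPushout.cancelBaseChange R S R' S' M₁).symm t) =
      (Algebra.IsPushout.cancelBaseChange R S R' S' M₂).symm ((g.restrictScalars R).lTensor S t) := by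
  induction t using TensorProduct.induction_on with
  | zero => simp
  | tmul s m =>
    rw [Algebra.IsPushout.cancelBaseChange_symm_tmul, LinearMap.lTensor_tmul, LinearMap.lTensor_tmul,
      Algebra.IsPushout.cancelBaseChange_symm_tmul]
    rfl
  | add x y hx hy => simp only [map_add, hx, hy]

include R S in
/-- If `f : F → L` is a surjection of `R'`-modules with `L` flat over `R`, then
`S' ⊗[R'] ker f → S' ⊗[R'] F` is injective, where `S' = S ⊗[R] R'`. -/
theorem lTensor_ker_subtype_injective_of_flat
    {F L : Type*} [AddCommGroup F] [Module R' F] [Module R F] [IsScalarTower R R' F]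
    [AddCommGroup L] [Module R' L] [Module R L] [IsScalarTower R R' L] [Module.Flat R L]
    (f : F →ₗ[R'] L) (hf : Function.Surjective f) :
    Function.Injective ((LinearMap.ker f).subtype.lTensor S') := by
  have h1 : Function.Injective (((LinearMap.ker f).subtype.restrictScalars R).lTensor S) :=
    LinearMap.lTensor_injective_of_exact_of_flat (f.restrictScalars R) hf
      ((LinearMap.ker f).subtype.restrictScalars R) (LinearMap.ker f).subtype_injective
      (LinearMap.exact_subtype_ker_map f) S
  intro x y hxy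
  obtain ⟨x', rfl⟩ := (Algebra.IsPushout.cancelBaseChange R S R' S' (LinearMap.ker f)).symm.surjective x
  obtain ⟨y', rfl⟩ := (Algebra.IsPushout.cancelBaseChange R S R' S' (LinearMap.ker f)).symm.surjective y
  rw [cancelBaseChange_symm_naturality, cancelBaseChange_symm_naturality] at hxy
  rw [h1 ((Algebra.IsPushout.cancelBaseChange R S R' S' F).symm.injective hxy)]

include R S in
/-- Relative version of `Helper22.finite_baseChange_ker_of_flat`. -/
theorem finite_baseChange_ker_of_flat_rel
    {F L : Type*} [AddCommGroup F] [Module R' F] [Module R F] [IsScalarTower R R' F]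
    [Module.Finite R' F]
    [AddCommGroup L] [Module R' L] [Module R L] [IsScalarTower R R' L] [Module.Flat R L]
    [Module.FinitePresentation S' (S' ⊗[R'] L)]
    (f : F →ₗ[R'] L) (hf : Function.Surjective f) :
    Module.Finite S' (S' ⊗[R'] (LinearMap.ker f)) := by
  have hinj : Function.Injective ((LinearMap.ker f).subtype.lTensor S') :=
    lTensor_ker_subtype_injective_of_flat (R := R) (S := S) f hf
  have hex : Function.Exact ((LinearMap.ker f).subtype.lTensor S') (f.lTensor S') :=
    lTensor_exact S' (LinearMap.exact_subtype_ker_map f) hf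
  have hsurj : Function.Surjective (f.baseChange S') := by
    rw [LinearMap.baseChange_eq_ltensor]
    exact LinearMap.lTensor_surjective S' hf
  have hfg : (LinearMap.ker (f.baseChange S')).FG :=
    Module.FinitePresentation.fg_ker (f.baseChange S') hsurj
  have hinj' : Function.Injective ((LinearMap.ker f).subtype.baseChange S') := by
    rw [LinearMap.baseChange_eq_ltensor]
    exact hinj
  have hrange : LinearMap.range ((LinearMap.ker f).subtype.baseChange S') =
      LinearMap.ker (f.baseChange S') := by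
    ext x
    rw [LinearMap.mem_range, LinearMap.mem_ker, LinearMap.baseChange_eq_ltensor,
      LinearMap.baseChange_eq_ltensor]
    exact ((hex x).symm)
  rw [← hrange] at hfg
  have : Module.Finite S' (LinearMap.range ((LinearMap.ker f).subtype.baseChange S')) :=
    Module.Finite.iff_fg.mpr hfg
  exact Module.Finite.equiv
    (LinearEquiv.ofInjective ((LinearMap.ker f).subtype.baseChange S') hinj').symm

end Generic

section Rel

variable (B' B A' A : Type u) [CommRing B'] [CommRing B] [CommRing A'] [CommRing A]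
    [Algebra B' B] [Algebra B' A'] [Algebra B A] [Algebra A' A] [Algebra B' A]
    [IsScalarTower B' B A] [IsScalarTower B' A' A]
    (D' D C' C : Type u) [CommRing D'] [CommRing D] [CommRing C'] [CommRing C]
    [Algebra B' D'] [Algebra B D] [Algebra A' C'] [Algebra A C]
    [Algebra D' D] [Algebra B' D] [IsScalarTower B' B D] [IsScalarTower B' D' D]
    [Algebra.IsPushout B' B D' D]
    [Algebra D' C'] [Algebra B' C'] [IsScalarTower B' A' C'] [IsScalarTower B' D' C']
    [Algebra.IsPushout B' A' D' C']
    [Algebra D' C] [Algebra B' C] [IsScalarTower B' A C] [IsScalarTower B' D' C]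
    [Algebra.IsPushout B' A D' C]
    [Algebra D C] [IsScalarTower D' D C] [Algebra B C] [IsScalarTower B A C] [IsScalarTower B D C]
    [Algebra C' C] [IsScalarTower D' C' C] [Algebra A' C] [IsScalarTower A' A C]
    [IsScalarTower A' C' C]

/-- Relative finiteness criterion: a `D'`-module `L'` with `D ⊗ L'` finite over `D` and `C' ⊗ L'`
finite over `C'` is finite over `D'`. -/
theorem finite_of_finite_baseChange (hsq : EtMil.IsFibreSquare B' B A' A)
    (L' : Type u) [AddCommGroup L'] [Module D' L'] [Module B' L'] [IsScalarTower B' D' L']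
    [Module.Finite D (D ⊗[D'] L')] [Module.Finite C' (C' ⊗[D'] L')] : Module.Finite D' L' := by
  obtain ⟨N1, hN1, h1⟩ := Groth.Agent.Lib.Helper22.exists_fg_forall_one_tmul_mkQ_eq_zero D' D L'
  obtain ⟨N2, hN2, h2⟩ := Groth.Agent.Lib.Helper22.exists_fg_forall_one_tmul_mkQ_eq_zero D' C' L'
  have hfg : (N1 ⊔ N2).FG := hN1.sup hN2
  have htop : N1 ⊔ N2 = ⊤ := by
    rw [eq_top_iff]
    intro l _
    have hA : ∀ q : L' ⧸ (N1 ⊔ N2), ((1 : A') ⊗ₜ[B'] q : A' ⊗[B'] (L' ⧸ (N1 ⊔ N2))) = 0 := by
      intro q
      obtain ⟨m, rfl⟩ := (N1 ⊔ N2).mkQ_surjective q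
      have := h2 (N1 ⊔ N2) le_sup_right m
      have h3 := congrArg (Algebra.IsPushout.cancelBaseChange B' A' D' C' (L' ⧸ (N1 ⊔ N2))) this
      rwa [Algebra.IsPushout.cancelBaseChange_tmul, map_zero] at h3
    have hB : ((1 : B) ⊗ₜ[B'] ((N1 ⊔ N2).mkQ l) : B ⊗[B'] (L' ⧸ (N1 ⊔ N2))) = 0 := by
      have := h1 (N1 ⊔ N2) le_sup_left l
      have h3 := congrArg (Algebra.IsPushout.cancelBaseChange B' B D' D (L' ⧸ (N1 ⊔ N2))) this
      rwa [Algebra.IsPushout.cancelBaseChange_tmul, map_zero] at h3
    have hq : (N1 ⊔ N2).mkQ l = 0 :=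
      Groth.Agent.Lib.Helper22.fs_eq_zero_of_forall hsq (L' := L' ⧸ (N1 ⊔ N2)) hA _ hB
    rwa [Submodule.mkQ_apply, Submodule.Quotient.mk_eq_zero] at hq
  rw [htop] at hfg
  exact ⟨hfg⟩

theorem glue_finitePresentation (hsq : EtMil.IsFibreSquare B' B A' A)
    {N M' : Type u} [AddCommGroup N] [Module D N] [Module D' N] [IsScalarTower D' D N]
    [AddCommGroup M'] [Module C' M'] [Module D' M'] [IsScalarTower D' C' M']
    (φ : C ⊗[D] N ≃ₗ[C] C ⊗[C'] M')
    [Module B N] [IsScalarTower B D N] [Module A' M'] [IsScalarTower A' C' M']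
    [Module.FinitePresentation D N] [Module.Flat B N] [Module.FinitePresentation C' M']
    [Module.Flat A' M'] :
    Module.FinitePresentation D' ↥(EtMil.glue D' φ) := by
  letI : Module (FP D C' C) N := Module.compHom N (FP.fst D C' C)
  letI : Module (FP D C' C) M' := Module.compHom M' (FP.snd D C' C)
  haveI : IsScalarTower (FP D C' C) D N := ⟨fun a b n => by
    change (FP.fst D C' C a * b) • n = FP.fst D C' C a • (b • n)
    rw [mul_smul]⟩
  haveI : IsScalarTower (FP D C' C) C' M' := ⟨fun a b n => by
    change (FP.snd D C' C a * b) • n = FP.snd D C' C a • (b • n)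
    rw [mul_smul]⟩
  have hfs : EtMil.IsFibreSquare (FP D C' C) D C' C :=
    FP.isFibreSquare D C' C (surjective_C B' B A' A D' C' C hsq)
  have hfinFP : Module.Finite (FP D C' C) ↥(EtMil.glue (FP D C' C) φ) :=
    (Groth.Agent.S2021.result (FP D C' C) D C' C hfs N M' φ).1 inferInstance inferInstance
  letI : Algebra D' (FP D C' C) := (toFP D' D C' C).toAlgebra
  have hsurj : Function.Surjective (algebraMap D' (FP D C' C)) :=
    toFP_surjective B' B A' A D' D C' C hsq
  have halg : ∀ d' : D', algebraMap D' (FP D C' C) d' = toFP D' D C' C d' := fun _ => rfl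
  -- the module `X` with its three module structures
  letI : Module D' ↥(EtMil.glue (FP D C' C) φ) :=
    Module.compHom _ (algebraMap D' (FP D C' C))
  haveI : IsScalarTower D' (FP D C' C) ↥(EtMil.glue (FP D C' C) φ) := ⟨fun a b x => by
    change (algebraMap D' (FP D C' C) a * b) • x = algebraMap D' (FP D C' C) a • (b • x)
    rw [mul_smul]⟩
  letI : Module B' ↥(EtMil.glue (FP D C' C) φ) :=
    Module.compHom _ (algebraMap B' D')
  haveI : IsScalarTower B' D' ↥(EtMil.glue (FP D C' C) φ) := ⟨fun a b x => by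
    rw [Algebra.smul_def, mul_smul]
    rfl⟩
  -- scalar towers for the rings
  haveI : IsScalarTower D' (FP D C' C) D := IsScalarTower.of_algebraMap_eq (fun _ => rfl)
  haveI : IsScalarTower D' (FP D C' C) C' := IsScalarTower.of_algebraMap_eq (fun _ => rfl)
  haveI : SMulCommClass D' (FP D C' C) D := ⟨fun a b d => by
    simp only [Algebra.smul_def]; ring⟩
  haveI : SMulCommClass D' (FP D C' C) C' := ⟨fun a b d => by
    simp only [Algebra.smul_def]; ring⟩
  haveI : TensorProduct.CompatibleSMul D' (FP D C' C) D ↥(EtMil.glue (FP D C' C) φ) :=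
    ⟨fun j d x => by
      obtain ⟨d', rfl⟩ := hsurj j
      rw [algebraMap_smul, algebraMap_smul, TensorProduct.smul_tmul]⟩
  haveI : TensorProduct.CompatibleSMul D' (FP D C' C) C' ↥(EtMil.glue (FP D C' C) φ) :=
    ⟨fun j d x => by
      obtain ⟨d', rfl⟩ := hsurj j
      rw [algebraMap_smul, algebraMap_smul, TensorProduct.smul_tmul]⟩
  -- base change isomorphisms
  let e1 : D ⊗[D'] ↥(EtMil.glue (FP D C' C) φ) ≃ₗ[D] N :=
    (TensorProduct.equivOfCompatibleSMul D' (FP D C' C) D D ↥(EtMil.glue (FP D C' C) φ)).symm ≪≫ₗ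
      LinearEquiv.ofBijective _ (Groth.Agent.Lib.Helper22.glue_fst_bijective φ hfs)
  let e2 : C' ⊗[D'] ↥(EtMil.glue (FP D C' C) φ) ≃ₗ[C'] M' :=
    (TensorProduct.equivOfCompatibleSMul D' (FP D C' C) C' C' ↥(EtMil.glue (FP D C' C) φ)).symm ≪≫ₗ
      LinearEquiv.ofBijective _ (Groth.Agent.Lib.Helper22.glue_snd_bijective φ hfs)
  haveI : Module.FinitePresentation D (D ⊗[D'] ↥(EtMil.glue (FP D C' C) φ)) :=
    Module.FinitePresentation.of_equiv e1.symm
  haveI : Module.FinitePresentation C' (C' ⊗[D'] ↥(EtMil.glue (FP D C' C) φ)) :=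
    Module.FinitePresentation.of_equiv e2.symm
  haveI : Module.Flat B (B ⊗[B'] ↥(EtMil.glue (FP D C' C) φ)) :=
    Module.Flat.of_linearEquiv
      ((Algebra.IsPushout.cancelBaseChange B' B D' D ↥(EtMil.glue (FP D C' C) φ)).symm ≪≫ₗ
        e1.restrictScalars B)
  haveI : Module.Flat A' (A' ⊗[B'] ↥(EtMil.glue (FP D C' C) φ)) :=
    Module.Flat.of_linearEquiv
      ((Algebra.IsPushout.cancelBaseChange B' A' D' C' ↥(EtMil.glue (FP D C' C) φ)).symm ≪≫ₗ
        e2.restrictScalars A')
  haveI : Module.Flat B' ↥(EtMil.glue (FP D C' C) φ) := Groth.Agent.Lib.Helper22.fs_flat hsq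
  -- finiteness over `D'`
  haveI : Module.Finite D' (FP D C' C) :=
    Module.Finite.of_surjective (Algebra.linearMap D' (FP D C' C)) hsurj
  haveI : Module.Finite D' ↥(EtMil.glue (FP D C' C) φ) :=
    Module.Finite.trans (FP D C' C) _
  obtain ⟨n, f, hf⟩ := Module.Finite.exists_fin' D' ↥(EtMil.glue (FP D C' C) φ)
  haveI : Module.Finite D (D ⊗[D'] (LinearMap.ker f)) :=
    finite_baseChange_ker_of_flat_rel (R := B') (S := B) f hf
  haveI : Module.Finite C' (C' ⊗[D'] (LinearMap.ker f)) :=
    finite_baseChange_ker_of_flat_rel (R := B') (S := A') f hf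
  have hK : Module.Finite D' (LinearMap.ker f) :=
    finite_of_finite_baseChange B' B A' A D' D C' hsq (LinearMap.ker f)
  have hX : Module.FinitePresentation D' ↥(EtMil.glue (FP D C' C) φ) :=
    Module.finitePresentation_of_surjective f hf (Module.Finite.iff_fg.mp hK)
  -- transfer to `glue D' φ`
  let e : ↥(EtMil.glue (FP D C' C) φ) ≃ₗ[D'] ↥(EtMil.glue D' φ) :=
    { toFun := fun x => ⟨x.1, x.2⟩
      invFun := fun x => ⟨x.1, x.2⟩
      left_inv := fun x => rfl
      right_inv := fun x => rfl
      map_add' := fun x y => rfl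
      map_smul' := fun d' x => by
        apply Subtype.ext
        refine Prod.ext ?_ ?_
        · change FP.fst D C' C (toFP D' D C' C d') • x.1.1 = d' • x.1.1
          rw [fst_toFP, algebraMap_smul]
        · change FP.snd D C' C (toFP D' D C' C d') • x.1.2 = d' • x.1.2
          rw [snd_toFP, algebraMap_smul] }
  exact Module.FinitePresentation.of_equiv e

end Rel

end Groth.Agent.Lib.Seat35.MilnorRel
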