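import Mathlib
import Groth.Agent.Lib.Seat35MilnorAlgB
import Groth.Agent.Lib.Seat35MilnorRelFP

/-!
# Milnor squares of algebras: finite presentation

Part C of the helper library for `S6900`.
-/

set_option autoImplicit false
set_option linter.unusedSectionVars false
set_option linter.style.haveILetI false
universe u

open TensorProduct

noncomputable section

namespace Groth.Agent.Lib.Seat35.MilnorAlg

section ModuleFP

/-- If `T = S' ⊗_{R'} L` with `L` a quotient ring of `R'`, and `T` is a finitely presented
`S`-algebra while `S'` is a finitely presented `S`-algebra, then `T` is a finitely presented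
`S'`-module. -/
theorem module_finitePresentation_tensor {R R' S S' L : Type u} [CommRing R] [CommRing R']
    [CommRing S] [CommRing S'] [CommRing L]
    [Algebra R R'] [Algebra R S] [Algebra R' S'] [Algebra S S'] [Algebra R S']
    [IsScalarTower R R' S'] [IsScalarTower R S S'] [Algebra.IsPushout R S R' S']
    [Algebra R L] [Algebra R' L] [IsScalarTower R R' L]
    (hsurj : Function.Surjective (algebraMap R' L))
    [Algebra.FinitePresentation S S'] [Algebra.FinitePresentation S (S ⊗[R] L)] :
    Module.FinitePresentation S' (S' ⊗[R'] L) := by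
  have e : S' ⊗[R'] L ≃ₐ[S] S ⊗[R] L := Algebra.IsPushout.cancelBaseChangeAlg R S R' S' L
  haveI : Algebra.FinitePresentation S (S' ⊗[R'] L) := Algebra.FinitePresentation.equiv e.symm
  have hs : Function.Surjective (algebraMap S' (S' ⊗[R'] L)) := by
    intro t
    induction t using TensorProduct.induction_on with
    | zero => exact ⟨0, map_zero _⟩
    | tmul q l =>
      obtain ⟨p, rfl⟩ := hsurj l
      refine ⟨q * algebraMap R' S' p, ?_⟩
      rw [Algebra.TensorProduct.algebraMap_apply, Algebra.algebraMap_self, RingHom.id_apply]
      have hp : algebraMap R' L p = p • (1 : L) := Algebra.algebraMap_eq_smul_one p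
      rw [hp, ← TensorProduct.smul_tmul, Algebra.smul_def, mul_comm]
    | add x y hx hy =>
      obtain ⟨a, rfl⟩ := hx
      obtain ⟨b, rfl⟩ := hy
      exact ⟨a + b, map_add _ _ _⟩
  have hker : (RingHom.ker (IsScalarTower.toAlgHom S S' (S' ⊗[R'] L)).toRingHom).FG :=
    Algebra.FinitePresentation.ker_fG_of_surjective _ hs
  refine Module.finitePresentation_of_surjective (Algebra.linearMap S' (S' ⊗[R'] L)) hs ?_
  exact hker

end ModuleFP

section RelFP

variable (B' B A' A : Type u) [CommRing B'] [CommRing B] [CommRing A'] [CommRing A]
    [Algebra B' B] [Algebra B' A'] [Algebra B A] [Algebra A' A] [Algebra B' A]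
    [IsScalarTower B' B A] [IsScalarTower B' A' A]
    (P' PB PA' : Type u) [CommRing P'] [CommRing PB] [CommRing PA']
    [Algebra B' P'] [Algebra B PB] [Algebra A' PA']
    [Algebra P' PB] [Algebra B' PB] [IsScalarTower B' B PB] [IsScalarTower B' P' PB]
    [Algebra.IsPushout B' B P' PB]
    [Algebra P' PA'] [Algebra B' PA'] [IsScalarTower B' A' PA'] [IsScalarTower B' P' PA']
    [Algebra.IsPushout B' A' P' PA']

/-- Relative finite presentation: the kernel of a surjection from `P'` onto a flat `B'`-algebra
whose base changes to `B` and `A'` are finitely presented is finitely generated. -/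
theorem ker_fg_of_fibreSquare (hsq : EtMil.IsFibreSquare B' B A' A)
    [Algebra.FinitePresentation B PB] [Algebra.FinitePresentation A' PA']
    (D' : Type u) [CommRing D'] [Algebra B' D'] [Module.Flat B' D']
    [Algebra.FinitePresentation B (B ⊗[B'] D')] [Algebra.FinitePresentation A' (A' ⊗[B'] D')]
    (f : P' →ₐ[B'] D') (hf : Function.Surjective f) : (RingHom.ker f).FG := by
  letI : Algebra P' D' := f.toRingHom.toAlgebra
  haveI : IsScalarTower B' P' D' := IsScalarTower.of_algebraMap_eq' f.comp_algebraMap.symm
  have hsurj : Function.Surjective (algebraMap P' D') := hf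
  haveI : Module.FinitePresentation PB (PB ⊗[P'] D') :=
    module_finitePresentation_tensor (R := B') (R' := P') (S := B) (S' := PB) hsurj
  haveI : Module.FinitePresentation PA' (PA' ⊗[P'] D') :=
    module_finitePresentation_tensor (R := B') (R' := P') (S := A') (S' := PA') hsurj
  let lin : P' →ₗ[P'] D' := Algebra.linearMap P' D'
  have hlin : Function.Surjective lin := hf
  haveI : Module.Finite PB (PB ⊗[P'] (LinearMap.ker lin)) :=
    Groth.Agent.Lib.Seat35.MilnorRel.finite_baseChange_ker_of_flat_rel
      (R := B') (R' := P') (S := B) (S' := PB) lin hlin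
  haveI : Module.Finite PA' (PA' ⊗[P'] (LinearMap.ker lin)) :=
    Groth.Agent.Lib.Seat35.MilnorRel.finite_baseChange_ker_of_flat_rel
      (R := B') (R' := P') (S := A') (S' := PA') lin hlin
  have hfin : Module.Finite P' (LinearMap.ker lin) :=
    Groth.Agent.Lib.Seat35.MilnorRel.finite_of_finite_baseChange B' B A' A P' PB PA' hsq
      (LinearMap.ker lin)
  have hfg : (LinearMap.ker lin).FG := Module.Finite.iff_fg.mp hfin
  exact hfg

end RelFP

section Main

attribute [local instance] MvPolynomial.algebraMvPolynomial

variable (B' B A' A : Type u) [CommRing B'] [CommRing B] [CommRing A'] [CommRing A]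
    [Algebra B' B] [Algebra B' A'] [Algebra B A] [Algebra A' A] [Algebra B' A]
    [IsScalarTower B' B A] [IsScalarTower B' A' A]
    (D' D C' : Type u) [CommRing D'] [CommRing D] [CommRing C']
    [Algebra D' D] [Algebra D' C']
    [Algebra B' D'] [Algebra B D] [Algebra A' C']
    [Algebra B' D] [IsScalarTower B' B D] [IsScalarTower B' D' D]
    [Algebra B' C'] [IsScalarTower B' A' C'] [IsScalarTower B' D' C']
    [Algebra.IsPushout B' B D' D] [Algebra.IsPushout B' A' D' C']

/-- Flat + finite presentation descends along a Milnor square. -/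
theorem finitePresentation_of_fibreSquare (hsq : EtMil.IsFibreSquare B' B A' A)
    [Module.Flat B D] [Algebra.FinitePresentation B D]
    [Module.Flat A' C'] [Algebra.FinitePresentation A' C'] :
    Algebra.FinitePresentation B' D' := by
  haveI : Module.Flat B' D' := flat_of_fibreSquare B' B A' A D' D C' hsq
  haveI : Algebra.FiniteType B' D' := finiteType_of_fibreSquare B' B A' A D' D C' hsq
  haveI : Algebra.FinitePresentation B (B ⊗[B'] D') :=
    Algebra.FinitePresentation.equiv (Algebra.IsPushout.equiv B' B D' D).symm
  haveI : Algebra.FinitePresentation A' (A' ⊗[B'] D') :=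
    Algebra.FinitePresentation.equiv (Algebra.IsPushout.equiv B' A' D' C').symm
  obtain ⟨n, f, hf⟩ := Algebra.FiniteType.iff_quotient_mvPolynomial''.mp
    (inferInstance : Algebra.FiniteType B' D')
  exact Algebra.FinitePresentation.of_surjective hf
    (ker_fg_of_fibreSquare B' B A' A (MvPolynomial (Fin n) B') (MvPolynomial (Fin n) B)
      (MvPolynomial (Fin n) A') hsq D' f hf)

end Main

end Groth.Agent.Lib.Seat35.MilnorAlg
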