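import Mathlib
import Groth.Agent.Lib.Seat35MilnorAlgC

/-!
# Milnor squares of algebras: smooth and étale

Part D of the helper library for `S6900`.
-/

set_option autoImplicit false
set_option linter.unusedSectionVars false
set_option linter.style.haveILetI false
universe u

open TensorProduct

noncomputable section

namespace Groth.Agent.Lib.Seat35.MilnorAlg

section Desc

/-- Smoothness of a "fibre" `κ ⊗_R S` can be tested after the base change `R → R₁` provided
`R₁ ⊗_R κ` is nonzero (faithfully flat descent along the field extension `κ → R₁ ⊗_R κ`). -/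
theorem smooth_tensor_of_nontrivial {R R1 S κ : Type u} [CommRing R] [CommRing R1] [CommRing S]
    [Field κ] [Algebra R R1] [Algebra R S] [Algebra R κ] [Algebra.Smooth R1 (R1 ⊗[R] S)]
    [Nontrivial (R1 ⊗[R] κ)] : Algebra.Smooth κ (κ ⊗[R] S) := by
  letI : Algebra κ (R1 ⊗[R] κ) := Algebra.TensorProduct.rightAlgebra
  haveI : Module.FaithfullyFlat κ (R1 ⊗[R] κ) := inferInstance
  haveI h1 : Algebra.Smooth (R1 ⊗[R] κ) ((R1 ⊗[R] κ) ⊗[R1] (R1 ⊗[R] S)) := inferInstance
  let e1 : (R1 ⊗[R] κ) ⊗[R1] (R1 ⊗[R] S) ≃ₐ[R1 ⊗[R] κ] (R1 ⊗[R] κ) ⊗[R] S :=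
    Algebra.TensorProduct.cancelBaseChange R R1 (R1 ⊗[R] κ) (R1 ⊗[R] κ) S
  let e2 : (R1 ⊗[R] κ) ⊗[κ] (κ ⊗[R] S) ≃ₐ[R1 ⊗[R] κ] (R1 ⊗[R] κ) ⊗[R] S :=
    Algebra.TensorProduct.cancelBaseChange R κ (R1 ⊗[R] κ) (R1 ⊗[R] κ) S
  haveI : Algebra.Smooth (R1 ⊗[R] κ) ((R1 ⊗[R] κ) ⊗[R] S) := Algebra.Smooth.of_equiv e1
  haveI : Algebra.Smooth (R1 ⊗[R] κ) ((R1 ⊗[R] κ) ⊗[κ] (κ ⊗[R] S)) :=
    Algebra.Smooth.of_equiv e2.symm
  exact Algebra.Smooth.of_smooth_tensorProduct_of_faithfullyFlat (R1 ⊗[R] κ)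

end Desc

section Main

variable (B' B A' A : Type u) [CommRing B'] [CommRing B] [CommRing A'] [CommRing A]
    [Algebra B' B] [Algebra B' A'] [Algebra B A] [Algebra A' A] [Algebra B' A]
    [IsScalarTower B' B A] [IsScalarTower B' A' A]
    (D' D C' : Type u) [CommRing D'] [CommRing D] [CommRing C']
    [Algebra D' D] [Algebra D' C']
    [Algebra B' D'] [Algebra B D] [Algebra A' C']
    [Algebra B' D] [IsScalarTower B' B D] [IsScalarTower B' D' D]
    [Algebra B' C'] [IsScalarTower B' A' C'] [IsScalarTower B' D' C']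
    [Algebra.IsPushout B' B D' D] [Algebra.IsPushout B' A' D' C']

/-- Smoothness descends along a Milnor square. -/
theorem smooth_of_fibreSquare (hsq : EtMil.IsFibreSquare B' B A' A)
    [Algebra.Smooth B D] [Algebra.Smooth A' C'] : Algebra.Smooth B' D' := by
  haveI : Module.Flat B' D' := flat_of_fibreSquare B' B A' A D' D C' hsq
  haveI : Algebra.FinitePresentation B' D' :=
    finitePresentation_of_fibreSquare B' B A' A D' D C' hsq
  haveI : Algebra.Smooth B (B ⊗[B'] D') :=
    Algebra.Smooth.of_equiv (Algebra.IsPushout.equiv B' B D' D).symm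
  haveI : Algebra.Smooth A' (A' ⊗[B'] D') :=
    Algebra.Smooth.of_equiv (Algebra.IsPushout.equiv B' A' D' C').symm
  refine Algebra.Smooth.of_formallySmooth_fiber fun p' hp' => ?_
  haveI := hp'
  suffices h : Algebra.Smooth p'.ResidueField (p'.ResidueField ⊗[B'] D') from h.1
  by_cases hA : Nontrivial (A' ⊗[B'] p'.ResidueField)
  · exact smooth_tensor_of_nontrivial (R := B') (R1 := A') (S := D') (κ := p'.ResidueField)
  · by_cases hB : Nontrivial (B ⊗[B'] p'.ResidueField)
    · exact smooth_tensor_of_nontrivial (R := B') (R1 := B) (S := D') (κ := p'.ResidueField)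
    · exfalso
      rw [not_nontrivial_iff_subsingleton] at hA hB
      have h0 : (1 : p'.ResidueField) = 0 :=
        Groth.Agent.Lib.Helper22.fs_eq_zero_of_forall hsq (L' := p'.ResidueField)
          (fun l => Subsingleton.elim _ _) 1 (Subsingleton.elim _ _)
      exact one_ne_zero h0

/-- Étaleness descends along a Milnor square. -/
theorem etale_of_fibreSquare (hsq : EtMil.IsFibreSquare B' B A' A)
    (C : Type u) [CommRing C] [Algebra D C] [Algebra C' C] [Algebra D' C]
    [IsScalarTower D' D C] [IsScalarTower D' C' C]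
    (hsq' : EtMil.IsFibreSquare D' D C' C)
    [Algebra.Etale B D] [Algebra.Etale A' C'] : Algebra.Etale B' D' := by
  haveI : Algebra.Smooth B D := (Algebra.Etale.iff_formallyUnramified_and_smooth.mp inferInstance).2
  haveI : Algebra.Smooth A' C' :=
    (Algebra.Etale.iff_formallyUnramified_and_smooth.mp inferInstance).2
  haveI : Algebra.FormallyUnramified B D :=
    (Algebra.Etale.iff_formallyUnramified_and_smooth.mp inferInstance).1
  haveI : Algebra.FormallyUnramified A' C' :=
    (Algebra.Etale.iff_formallyUnramified_and_smooth.mp inferInstance).1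
  haveI : Module.Flat B' D' := flat_of_fibreSquare B' B A' A D' D C' hsq
  haveI : Algebra.FinitePresentation B' D' :=
    finitePresentation_of_fibreSquare B' B A' A D' D C' hsq
  haveI : Algebra.FormallyUnramified B' D' := by
    constructor
    have e1 : D ⊗[D'] Ω[D'⁄B'] ≃ₗ[D] Ω[D⁄B] := KaehlerDifferential.tensorKaehlerEquiv B' B D' D
    have e2 : C' ⊗[D'] Ω[D'⁄B'] ≃ₗ[C'] Ω[C'⁄A'] :=
      KaehlerDifferential.tensorKaehlerEquiv B' A' D' C'
    haveI : Subsingleton (D ⊗[D'] Ω[D'⁄B']) := e1.subsingleton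
    haveI : Subsingleton (C' ⊗[D'] Ω[D'⁄B']) := e2.subsingleton
    refine ⟨fun x y => ?_⟩
    have h0 : x - y = 0 :=
      Groth.Agent.Lib.Helper22.fs_eq_zero_of_forall hsq' (L' := Ω[D'⁄B'])
        (fun l => Subsingleton.elim _ _) (x - y) (Subsingleton.elim _ _)
    exact sub_eq_zero.mp h0
  exact Algebra.Etale.of_formallyUnramified_of_flat

end Main

end Groth.Agent.Lib.Seat35.MilnorAlg
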