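import Mathlib
import Groth.Prelude.Def_Coh

/-!
Helper library (seat 35): the pullback of the structure sheaf is the structure sheaf,
`pullbackUnitIso f : f^* O_Y ≅ O_X` (same construction as in `Helper23PB`, with a small import
closure), and the pullback of a module which is trivial on an open `U` along a morphism landing in
`U` is trivial.
-/

set_option autoImplicit false
universe u
open CategoryTheory CategoryTheory.Limits AlgebraicGeometry TopologicalSpace Opposite

namespace Groth.Agent.Lib.Seat35.PullbackUnit

instance final_opensMap {X Y : Scheme.{u}} (f : X ⟶ Y) :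
    (TopologicalSpace.Opens.map f.base).Final := by
  apply Functor.final_of_exists_of_isFiltered
  · intro U
    exact ⟨⊤, ⟨homOfLE le_top⟩⟩
  · intro U V s s'
    exact ⟨V, 𝟙 V, Subsingleton.elim _ _⟩

instance isRightAdjoint_pushforward {X Y : Scheme.{u}} (f : X ⟶ Y) :
    (SheafOfModules.pushforward.{u} f.toRingCatSheafHom).IsRightAdjoint :=
  inferInstanceAs ((Scheme.Modules.pushforward f).IsRightAdjoint)

set_option backward.isDefEq.respectTransparency.types false in
theorem isIso_pullbackObjUnitToUnit {X Y : Scheme.{u}} (f : X ⟶ Y) :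
    IsIso (SheafOfModules.pullbackObjUnitToUnit.{u} f.toRingCatSheafHom) := by
  infer_instance

set_option backward.isDefEq.respectTransparency.types false in
noncomputable def pullbackUnitHom {X Y : Scheme.{u}} (f : X ⟶ Y) :
    (Scheme.Modules.pullback f).obj (Coh.structureModule Y) ⟶ Coh.structureModule X :=
  SheafOfModules.pullbackObjUnitToUnit.{u} f.toRingCatSheafHom

set_option backward.isDefEq.respectTransparency.types false in
instance {X Y : Scheme.{u}} (f : X ⟶ Y) : IsIso (pullbackUnitHom f) :=
  isIso_pullbackObjUnitToUnit f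

noncomputable def pullbackUnitIso {X Y : Scheme.{u}} (f : X ⟶ Y) :
    (Scheme.Modules.pullback f).obj (Coh.structureModule Y) ≅ Coh.structureModule X :=
  asIso (pullbackUnitHom f)

/-- If `M` is trivial on the open `U` of `Y` and `g : Z ⟶ Y` has image in `U`, then `g^* M` is
trivial. -/
theorem nonempty_pullback_iso_unit {Z Y : Scheme.{u}} (g : Z ⟶ Y) (M : Y.Modules) (U : Y.Opens)
    (hU : Set.range g ⊆ (U : Set Y)) (eU : M.restrict U.ι ≅ Coh.structureModule (U : Scheme.{u})) :
    Nonempty ((Scheme.Modules.pullback g).obj M ≅ Coh.structureModule Z) := by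
  have hrange : Set.range g ⊆ Set.range U.ι := by
    rw [Scheme.Opens.range_ι]
    exact hU
  let g' : Z ⟶ (U : Scheme.{u}) := IsOpenImmersion.lift U.ι g hrange
  have hg' : g' ≫ U.ι = g := IsOpenImmersion.lift_fac _ _ _
  let e2 : (Scheme.Modules.pullback g).obj M ≅ (Scheme.Modules.pullback (g' ≫ U.ι)).obj M :=
    (Scheme.Modules.pullbackCongr hg'.symm).app M
  let e3 : (Scheme.Modules.pullback (g' ≫ U.ι)).obj M ≅
      (Scheme.Modules.pullback g').obj ((Scheme.Modules.pullback U.ι).obj M) :=
    ((Scheme.Modules.pullbackComp g' U.ι).app M).symm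
  let e4 : (Scheme.Modules.pullback U.ι).obj M ≅ M.restrict U.ι :=
    ((Scheme.Modules.restrictFunctorIsoPullback U.ι).app M).symm
  let e5 : (Scheme.Modules.pullback g').obj ((Scheme.Modules.pullback U.ι).obj M) ≅
      (Scheme.Modules.pullback g').obj (Coh.structureModule (U : Scheme.{u})) :=
    (Scheme.Modules.pullback g').mapIso (e4 ≪≫ eU)
  exact ⟨e2 ≪≫ e3 ≪≫ e5 ≪≫ pullbackUnitIso g'⟩

end Groth.Agent.Lib.Seat35.PullbackUnit
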