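import Groth.Agent.Lib.Helper5RLR

/-!
# A regular local ring of dimension two is a unique factorisation domain (seat 35)

Elementary proof: if `A` is a Noetherian local domain and `x ∈ 𝔪` is such that `A/(x)` is a
principal ideal domain, then every prime ideal not containing `x` is principal (Nakayama), hence
`A` is factorial by Kaplansky's criterion.  For a regular local ring of dimension two take
`x ∈ 𝔪 ∖ 𝔪²`; then `A/(x)` is regular of dimension one, i.e. a discrete valuation ring (or a field).
-/

set_option autoImplicit false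
universe u

namespace Groth.Agent.Lib.Seat35.RLRUFD

open IsLocalRing

/-- A regular local ring of Krull dimension one is a principal ideal ring. -/
theorem isPrincipalIdealRing_of_dim_one (R : Type u) [CommRing R] [IsRegularLocalRing R]
    (h : ringKrullDim R = 1) : IsPrincipalIdealRing R := by
  have : IsDomain R := Groth.Agent.Lib.Helper5.isDomain_of_isRegularLocalRing R
  have h1 : Module.finrank (ResidueField R) (CotangentSpace R) = ringKrullDim R :=
    (IsRegularLocalRing.iff_finrank_cotangentSpace R).mp inferInstance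
  rw [h] at h1
  have h2 : Module.finrank (ResidueField R) (CotangentSpace R) ≤ 1 := by
    have : Module.finrank (ResidueField R) (CotangentSpace R) = 1 := by exact_mod_cast h1
    omega
  exact ((tfae_of_isNoetherianRing_of_isLocalRing_of_isDomain R).out 0 5).mpr h2

/-- Nakayama-type criterion: a Noetherian local domain `A` with a nonzero element `x` of the maximal
ideal such that `A/(x)` is a principal ideal domain is factorial. -/
theorem ufm_of_quotient_pid (A : Type u) [CommRing A] [IsDomain A] [IsLocalRing A] [IsNoetherianRing A]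
    (x : A) (hx : x ∈ maximalIdeal A) (hx0 : x ≠ 0) [IsDomain (A ⧸ Ideal.span ({x} : Set A))]
    [IsPrincipalIdealRing (A ⧸ Ideal.span ({x} : Set A))] : UniqueFactorizationMonoid A := by
  rw [UniqueFactorizationMonoid.iff_exists_prime_mem_of_isPrime]
  intro I hI0 hIp
  by_cases hxI : x ∈ I
  · refine ⟨x, hxI, ?_⟩
    rw [← Ideal.span_singleton_prime hx0, ← Ideal.Quotient.isDomain_iff_prime]
    infer_instance
  · -- the image of `I` in `A/(x)` is principal
    set π := Ideal.Quotient.mk (Ideal.span ({x} : Set A)) with hπ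
    obtain ⟨g, hg⟩ := (IsPrincipalIdealRing.principal (I.map π)).principal
    have hgmem : g ∈ I.map π := by rw [hg]; exact Submodule.mem_span_singleton_self g
    rw [Ideal.mem_map_iff_of_surjective π Ideal.Quotient.mk_surjective] at hgmem
    obtain ⟨f, hfI, hfg⟩ := hgmem
    have hle : I ≤ Ideal.span {f} ⊔ maximalIdeal A • I := by
      intro p hp
      have hp' : π p ∈ I.map π := Ideal.mem_map_of_mem π hp
      rw [hg] at hp'
      obtain ⟨c, hc⟩ := Submodule.mem_span_singleton.mp hp'
      obtain ⟨a, rfl⟩ := Ideal.Quotient.mk_surjective c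
      -- `p - a f ∈ (x)`
      have h1 : π (p - a * f) = 0 := by
        rw [map_sub, map_mul, hfg, ← hc]; simp [hπ]
      rw [hπ, Ideal.Quotient.eq_zero_iff_mem, Ideal.mem_span_singleton] at h1
      obtain ⟨b, hb⟩ := h1
      have hxb : x * b ∈ I := by
        rw [← hb]; exact I.sub_mem hp (I.mul_mem_left a hfI)
      have hbI : b ∈ I := (hIp.mem_or_mem hxb).resolve_left hxI
      have : p = a * f + x * b := by rw [← hb]; ring
      rw [this]
      refine Submodule.add_mem_sup (Ideal.mem_span_singleton.mpr ⟨a, by ring⟩) ?_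
      exact Submodule.smul_mem_smul hx hbI
    have hIf : I ≤ Ideal.span {f} :=
      Submodule.le_of_le_smul_of_le_jacobson_bot (IsNoetherian.noetherian I)
        (IsLocalRing.maximalIdeal_le_jacobson ⊥) hle
    have hIeq : I = Ideal.span {f} :=
      le_antisymm hIf ((Ideal.span_singleton_le_iff_mem I).mpr hfI)
    have hf0 : f ≠ 0 := by
      rintro rfl
      apply hI0
      rw [hIeq]; simp
    refine ⟨f, hfI, ?_⟩
    rw [← Ideal.span_singleton_prime hf0, ← hIeq]
    exact hIp

/-- A regular local ring of Krull dimension two is a unique factorisation domain. -/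
theorem ufm_of_isRegularLocalRing_dim_two (A : Type u) [CommRing A] [IsRegularLocalRing A]
    (hA : ringKrullDim A = 2) :
    ∃ _ : IsDomain A, UniqueFactorizationMonoid A := by
  have hdom : IsDomain A := Groth.Agent.Lib.Helper5.isDomain_of_isRegularLocalRing A
  refine ⟨hdom, ?_⟩
  have hdim0 : ringKrullDim A ≠ 0 := by rw [hA]; norm_num
  obtain ⟨x, hxm, hx2, -⟩ :=
    Groth.Agent.Lib.Helper5.exists_mem_maximalIdeal_not_mem_sq_not_mem_minimalPrimes (R := A) hdim0
  have hx0 : x ≠ 0 := by
    rintro rfl
    exact hx2 (Ideal.zero_mem _)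
  have hne : Ideal.span ({x} : Set A) ≠ ⊤ := by
    intro h
    have : maximalIdeal A = ⊤ := top_le_iff.mp (h ▸ (Ideal.span_singleton_le_iff_mem _).mpr hxm)
    exact (maximalIdeal.isMaximal A).ne_top this
  have : IsLocalRing (A ⧸ Ideal.span ({x} : Set A)) := Groth.Agent.Lib.Helper5.isLocalRing_quotient hne
  obtain ⟨hreg, hdim⟩ := Groth.Agent.Lib.Helper5.isRegularLocalRing_quotient_span_singleton hxm hx2
  have hd1 : ringKrullDim (A ⧸ Ideal.span ({x} : Set A)) = 1 := by
    obtain ⟨n, hn⟩ := Groth.Agent.Lib.Helper5.exists_nat_ringKrullDim_eq (A ⧸ Ideal.span ({x} : Set A))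
    rw [hA, hn] at hdim
    rw [hn]
    have : n + 1 = 2 := by exact_mod_cast hdim
    have : n = 1 := by omega
    rw [this]; rfl
  have : IsDomain (A ⧸ Ideal.span ({x} : Set A)) :=
    Groth.Agent.Lib.Helper5.isDomain_of_isRegularLocalRing _
  have : IsPrincipalIdealRing (A ⧸ Ideal.span ({x} : Set A)) :=
    isPrincipalIdealRing_of_dim_one _ hd1
  exact ufm_of_quotient_pid A x hxm hx0

end Groth.Agent.Lib.Seat35.RLRUFD
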