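import Mathlib
import Groth.Agent.Lib.Helper28DepthCM2

/-!
# Lifting a system of parameters from a Cohen–Macaulay localization (EGA IV 16.? / S5987)

* `exists_add_notMem_of_antichain`: coset prime avoidance for an antichain of primes.
* `exists_mul_pow_mem_of_mem_minimalPrimes`: `x ∈ q`, `q` minimal over `I` ⇒ `τ x^N ∈ I`, `τ ∉ q`.
-/

set_option autoImplicit false
universe u

namespace Groth.Agent.Lib.Seat35.SopLift

section Avoid

variable {R : Type*} [CommRing R]

/-- Coset prime avoidance for a finite antichain of primes: if no prime of `S` contains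
`(y) + 𝔟` then some `y + b`, `b ∈ 𝔟`, lies in no prime of `S`. -/
theorem exists_add_notMem_of_antichain (y : R) (𝔟 : Ideal R) (S : Set (Ideal R)) (hS : S.Finite)
    (hprime : ∀ q ∈ S, q.IsPrime) (hanti : ∀ q ∈ S, ∀ q' ∈ S, q ≤ q' → q = q')
    (hnot : ∀ q ∈ S, ¬ (Ideal.span {y} ⊔ 𝔟 ≤ q)) :
    ∃ b ∈ 𝔟, ∀ q ∈ S, y + b ∉ q := by
  classical
  let F2 : Finset (Ideal R) := hS.toFinset.filter (fun q => y ∉ q)
  let J : Ideal R := 𝔟 * ∏ q ∈ F2, q
  have hJb : J ≤ 𝔟 := Ideal.mul_le_left
  have hJq : ∀ q ∈ S, y ∉ q → J ≤ q := by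
    intro q hq hy
    have hqF : q ∈ F2 := by simp [F2, hq, hy]
    exact Ideal.mul_le_right.trans ((Ideal.prod_le_inf).trans (Finset.inf_le hqF))
  let S1 : Set (Ideal R) := {q | q ∈ S ∧ y ∈ q}
  have hS1 : S1.Finite := hS.subset fun q hq => hq.1
  have hnotJ : ¬ ((J : Set R) ⊆ ⋃ q ∈ S1, (q : Set R)) := by
    intro hsub
    rw [Ideal.subset_union_prime_finite hS1 (f := fun q => q) ⊥ ⊥
      (fun q hq _ _ => hprime q hq.1)] at hsub
    obtain ⟨q, ⟨hqS, hyq⟩, hJq'⟩ := hsub
    have hqp := hprime q hqS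
    rcases (hqp.mul_le).mp hJq' with h | h
    · apply hnot q hqS
      exact sup_le ((Ideal.span_singleton_le_iff_mem _).mpr hyq) h
    · obtain ⟨q', hq'F, hq'q⟩ := (Ideal.IsPrime.prod_le hqp).mp h
      have hq'S : q' ∈ S := by
        have := (Finset.mem_filter.mp hq'F).1
        exact hS.mem_toFinset.mp this
      have hyq' : y ∉ q' := (Finset.mem_filter.mp hq'F).2
      have := hanti q' hq'S q hqS hq'q
      rw [this] at hyq'
      exact hyq' hyq
  obtain ⟨b, hbJ, hb⟩ := Set.not_subset.mp hnotJ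
  refine ⟨b, hJb hbJ, fun q hqS hmem => ?_⟩
  by_cases hy : y ∈ q
  · apply hb
    simp only [Set.mem_iUnion, SetLike.mem_coe, exists_prop]
    refine ⟨q, ⟨hqS, hy⟩, ?_⟩
    have : b = (y + b) - y := by ring
    rw [this]
    exact q.sub_mem hmem hy
  · apply hy
    have : y = (y + b) - b := by ring
    rw [this]
    exact q.sub_mem hmem (hJq q hqS hy hbJ)

/-- If `q` is minimal over `I` and `x ∈ q` then `τ x^N ∈ I` for some `τ ∉ q`. -/
theorem exists_mul_pow_mem_of_mem_minimalPrimes {I q : Ideal R} (hq : q ∈ I.minimalPrimes)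
    {x : R} (hx : x ∈ q) : ∃ τ ∉ q, ∃ N : ℕ, τ * x ^ N ∈ I := by
  have hqp : q.IsPrime := hq.1.1
  have h1 := IsLocalization.AtPrime.radical_map_of_mem_minimalPrimes
    (Localization.AtPrime q) q I hq
  have h2 : algebraMap R (Localization.AtPrime q) x ∈
      (Ideal.map (algebraMap R (Localization.AtPrime q)) I).radical := by
    rw [h1]
    exact Ideal.mem_map_of_mem _ hx
  obtain ⟨N, hN⟩ := h2
  rw [← map_pow, IsLocalization.algebraMap_mem_map_algebraMap_iff q.primeCompl] at hN
  obtain ⟨τ, hτ, hmem⟩ := hN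
  exact ⟨τ, hτ, N, hmem⟩

end Avoid

section DimDrop

open scoped Pointwise

variable {A : Type*} [CommRing A]

/-- If `x` avoids all minimal primes over `I` then `dim A/(I + (x)) + 1 ≤ dim A/I`. -/
theorem ringKrullDim_quotient_sup_span_succ_le (I : Ideal A) (x : A)
    (hx : ∀ q ∈ I.minimalPrimes, x ∉ q) :
    ringKrullDim (A ⧸ (I ⊔ Ideal.span {x})) + 1 ≤ ringKrullDim (A ⧸ I) := by
  set xb : A ⧸ I := Ideal.Quotient.mk I x with hxb
  have hann : Module.annihilator (A ⧸ I) (A ⧸ I) = ⊥ := by
    rw [eq_bot_iff]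
    intro r hr
    have := Module.mem_annihilator.mp hr 1
    rwa [smul_eq_mul, mul_one] at this
  have hn : ∀ p ∈ (Module.annihilator (A ⧸ I) (A ⧸ I)).minimalPrimes, xb ∉ p := by
    intro p hp hxp
    rw [hann] at hp
    have hp' : p.comap (Ideal.Quotient.mk I) ∈ I.minimalPrimes := by
      rw [Ideal.minimalPrimes_eq_comap]
      exact ⟨p, hp, rfl⟩
    exact hx _ hp' hxp
  have h := Module.supportDim_quotSMulTop_succ_le_of_notMem_minimalPrimes (R := A ⧸ I)
    (M := A ⧸ I) (x := xb) hn
  rw [Module.supportDim_self_eq_ringKrullDim] at h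
  have h2 : Module.supportDim (A ⧸ I) (QuotSMulTop xb (A ⧸ I)) =
      ringKrullDim ((A ⧸ I) ⧸ (xb • (⊤ : Ideal (A ⧸ I)))) :=
    Module.supportDim_quotient_eq_ringKrullDim (xb • (⊤ : Ideal (A ⧸ I)))
  rw [h2] at h
  have h3 : xb • (⊤ : Ideal (A ⧸ I)) = Ideal.map (Ideal.Quotient.mk I) (Ideal.span {x}) := by
    rw [Ideal.map_span, Set.image_singleton, ← Submodule.ideal_span_singleton_smul, smul_eq_mul,
      Ideal.mul_top]
  have e1 : ((A ⧸ I) ⧸ (xb • (⊤ : Ideal (A ⧸ I)))) ≃+*
      ((A ⧸ I) ⧸ Ideal.map (Ideal.Quotient.mk I) (Ideal.span {x})) :=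
    Ideal.quotEquivOfEq h3
  rw [ringKrullDim_eq_of_ringEquiv (e1.trans (DoubleQuot.quotQuotEquivQuotSup I (Ideal.span {x})))]
    at h
  exact h

end DimDrop

section CM

open RingTheory.Sequence

variable {B : Type u} [CommRing B] [hB : LocCoh.IsCohenMacaulayLocalRing B]

omit hB in
theorem ofList_take_ofFn {s : ℕ} (t : Fin s → B) (i : Fin s) :
    Ideal.ofList ((List.ofFn t).take i) = Ideal.span (t '' {j | j < i}) := by
  unfold Ideal.ofList
  congr 1
  ext x
  simp only [Set.mem_ofPred_eq, List.mem_take_iff_getElem, List.getElem_ofFn, List.length_ofFn,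
    Set.mem_image]
  constructor
  · rintro ⟨j, hj, rfl⟩
    have hj' : j < s := lt_of_lt_of_le hj (min_le_right _ _)
    refine ⟨⟨j, hj'⟩, ?_, rfl⟩
    have : j < (i : ℕ) := lt_of_lt_of_le hj (min_le_left _ _)
    exact this
  · rintro ⟨j, hj, rfl⟩
    exact ⟨j, lt_min hj j.2, rfl⟩

/-- In a Cohen–Macaulay local ring, each member `t i` of a system of parameters avoids the minimal
primes over `(t_0, …, t_{i-1})`. -/
theorem sop_notMem_minimalPrimes (s : ℕ) (hs : ringKrullDim B = s) (t : Fin s → B)
    (ht : ∀ i, t i ∈ IsLocalRing.maximalIdeal B)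
    (hsop : ringKrullDim (B ⧸ Ideal.span (Set.range t)) = 0) (i : Fin s)
    (Q : Ideal B) (hQ : Q ∈ (Ideal.span (t '' {j | j < i})).minimalPrimes) : t i ∉ Q := by
  have hCM : LocCoh.IsCohenMacaulayModule B B := hB.supportDim_eq_depth
  set ts := List.ofFn t with hts
  have hmem : ∀ x ∈ ts, x ∈ IsLocalRing.maximalIdeal B := by
    intro x hx
    obtain ⟨j, rfl⟩ := (List.mem_ofFn' t x).mp hx
    exact ht j
  have hlist : Ideal.ofList ts = Ideal.span (Set.range t) := by
    unfold Ideal.ofList
    congr 1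
    ext x
    simp [hts, List.mem_ofFn']
  have hdim : Module.supportDim B (B ⧸ (Ideal.ofList ts • ⊤ : Submodule B B)) + ts.length =
      Module.supportDim B B := by
    have e1 : (Ideal.ofList ts • ⊤ : Submodule B B) = Ideal.span (Set.range t) := by
      rw [smul_eq_mul, Ideal.mul_top, hlist]
    have h1 : Module.supportDim B (B ⧸ (Ideal.ofList ts • ⊤ : Submodule B B)) =
        ringKrullDim (B ⧸ Ideal.span (Set.range t)) := by
      rw [Module.supportDim_eq_of_equiv (Submodule.quotEquivOfEq _ _ e1)]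
      exact Module.supportDim_quotient_eq_ringKrullDim _
    rw [h1, hsop, Module.supportDim_self_eq_ringKrullDim, hs, hts, List.length_ofFn, zero_add]
  have hreg : IsWeaklyRegular B ts :=
    Groth.Agent.Lib.Helper28.isWeaklyRegular_of_supportDim_add_length_eq ts B hCM hmem hdim
  have hi : (i : ℕ) < ts.length := by rw [hts, List.length_ofFn]; exact i.2
  have hr := hreg.regular_mod_prev i hi
  have hti : ts[(i : ℕ)] = t i := by simp [hts]
  rw [hti] at hr
  apply hr.notMem_of_mem_minimalPrimes
  have hann : Module.annihilator B (B ⧸ (Ideal.ofList (List.take (↑i) ts) • ⊤ : Submodule B B)) =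
      Ideal.span (t '' {j | j < i}) := by
    have := Ideal.annihilator_quotient (I := (Ideal.ofList (List.take (↑i) ts) • ⊤ : Ideal B))
    rw [this, smul_eq_mul, Ideal.mul_top, hts, ofList_take_ofFn]
  rw [hann]
  exact hQ

end CM

section Main

variable {A : Type u} [CommRing A] (p : Ideal A) [hp : p.IsPrime]

/-- Extension by zero of a finite family to `ℕ`. -/
noncomputable def text {s : ℕ} (t : Fin s → Localization.AtPrime p) (j : ℕ) : Localization.AtPrime p :=
  if h : j < s then t ⟨j, h⟩ else 0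

/-- The ideal `(t_0, …, t_{j-1})`. -/
noncomputable def Tid {s : ℕ} (t : Fin s → Localization.AtPrime p) (j : ℕ) :
    Ideal (Localization.AtPrime p) :=
  Ideal.span (text p t '' Set.Iio j)

theorem Iio_succ_eq (i : ℕ) : Set.Iio (i + 1) = insert i (Set.Iio i) := by
  ext j
  simp only [Set.mem_Iio, Set.mem_insert_iff]
  omega

theorem Tid_succ {s : ℕ} (t : Fin s → Localization.AtPrime p) (j : ℕ) :
    Tid p t (j + 1) = Ideal.span {text p t j} ⊔ Tid p t j := by
  unfold Tid
  rw [Iio_succ_eq, Set.image_insert_eq, Ideal.span_insert]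

theorem Tid_eq {s : ℕ} (t : Fin s → Localization.AtPrime p) (i : Fin s) :
    Tid p t i = Ideal.span (t '' {j | j < i}) := by
  unfold Tid
  congr 1
  ext z
  simp only [Set.mem_image, Set.mem_Iio, Set.mem_ofPred_eq]
  constructor
  · rintro ⟨j, hj, rfl⟩
    have hjs : j < s := lt_trans hj i.2
    exact ⟨⟨j, hjs⟩, hj, by simp [text, hjs]⟩
  · rintro ⟨j, hj, rfl⟩
    exact ⟨j, hj, by simp [text]⟩

theorem text_eq {s : ℕ} (t : Fin s → Localization.AtPrime p) (i : Fin s) : text p t i = t i := by
  simp [text]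

theorem Tid_le_maximalIdeal {s : ℕ} (t : Fin s → Localization.AtPrime p)
    (ht : ∀ i, t i ∈ IsLocalRing.maximalIdeal (Localization.AtPrime p)) (j : ℕ) :
    Tid p t j ≤ IsLocalRing.maximalIdeal (Localization.AtPrime p) := by
  unfold Tid
  rw [Ideal.span_le]
  rintro _ ⟨k, -, rfl⟩
  unfold text
  split_ifs with h
  · exact ht _
  · exact Ideal.zero_mem _

/-- The images of `x_0, …, x_{i-1}` generate `(t_0, …, t_{i-1})` in the localization. -/
theorem map_span_image {s : ℕ} (t : Fin s → Localization.AtPrime p) (x a : ℕ → A) (i : ℕ)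
    (h2 : ∀ j < i, a j ∉ p)
    (h3 : ∀ j < i, algebraMap A (Localization.AtPrime p) (x j) -
      algebraMap A (Localization.AtPrime p) (a j) * text p t j ∈ Tid p t j) :
    Ideal.map (algebraMap A (Localization.AtPrime p)) (Ideal.span (x '' Set.Iio i)) = Tid p t i := by
  induction i with
  | zero =>
    have : Set.Iio 0 = (∅ : Set ℕ) := by ext j; simp
    unfold Tid
    rw [this, Set.image_empty, Set.image_empty, Ideal.span_empty, Ideal.span_empty, Ideal.map_bot]
  | succ i ih =>
    have ih' := ih (fun j hj => h2 j (Nat.lt_succ_of_lt hj)) (fun j hj => h3 j (Nat.lt_succ_of_lt hj))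
    rw [Iio_succ_eq, Set.image_insert_eq, Ideal.span_insert, Ideal.map_sup, Ideal.map_span,
      Set.image_singleton, ih', Tid_succ]
    have hu : IsUnit (algebraMap A (Localization.AtPrime p) (a i)) :=
      IsLocalization.map_units (Localization.AtPrime p)
        (⟨a i, h2 i (Nat.lt_succ_self i)⟩ : p.primeCompl)
    have hτ := h3 i (Nat.lt_succ_self i)
    set X := algebraMap A (Localization.AtPrime p) (x i)
    set U := algebraMap A (Localization.AtPrime p) (a i)
    set T := text p t i
    apply le_antisymm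
    · refine sup_le ?_ le_sup_right
      rw [Ideal.span_singleton_le_iff_mem]
      have : X = (X - U * T) + U * T := by ring
      rw [this]
      refine Ideal.add_mem _ (Ideal.mem_sup_right hτ) (Ideal.mem_sup_left ?_)
      exact Ideal.mul_mem_left _ _ (Ideal.subset_span rfl)
    · refine sup_le ?_ le_sup_right
      rw [Ideal.span_singleton_le_iff_mem]
      obtain ⟨u, hu'⟩ := hu
      have : T = (↑u⁻¹ : Localization.AtPrime p) * X - ↑u⁻¹ * (X - U * T) := by
        rw [← hu']; ring_nf; rw [Units.inv_mul, one_mul]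
      rw [this]
      refine Ideal.sub_mem _ (Ideal.mem_sup_left ?_) (Ideal.mem_sup_right ?_)
      · exact Ideal.mul_mem_left _ _ (Ideal.subset_span rfl)
      · exact Ideal.mul_mem_left _ _ hτ

end Main

section Step

variable {A : Type u} [CommRing A] [IsNoetherianRing A] (p : Ideal A) [hp : p.IsPrime]
  [hCM : LocCoh.IsCohenMacaulayLocalRing (Localization.AtPrime p)]

/-- One step of the construction: the next element `x_i`. -/
theorem exists_next {s : ℕ} (hs : ringKrullDim (Localization.AtPrime p) = s)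
    (t : Fin s → Localization.AtPrime p)
    (ht : ∀ i, t i ∈ IsLocalRing.maximalIdeal (Localization.AtPrime p))
    (hsop : ringKrullDim (Localization.AtPrime p ⧸ Ideal.span (Set.range t)) = 0)
    (i : ℕ) (hi : i < s) (I : Ideal A)
    (hmap : Ideal.map (algebraMap A (Localization.AtPrime p)) I = Tid p t i) :
    ∃ xi ai : A, xi ∈ p ∧ ai ∉ p ∧
      algebraMap A (Localization.AtPrime p) xi -
        algebraMap A (Localization.AtPrime p) ai * text p t i ∈ Tid p t i ∧
      ∀ q ∈ I.minimalPrimes, xi ∉ q := by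
  classical
  set φ := algebraMap A (Localization.AtPrime p) with hφ
  have hti : text p t i = t ⟨i, hi⟩ := text_eq p t ⟨i, hi⟩
  have htm : text p t i ∈ Ideal.map φ p := by
    rw [IsLocalization.AtPrime.map_eq_maximalIdeal p (Localization.AtPrime p), hti]
    exact ht _
  obtain ⟨⟨⟨y, hy⟩, ⟨σ, hσ⟩⟩, hyσ⟩ :=
    (IsLocalization.mem_map_algebraMap_iff p.primeCompl (Localization.AtPrime p)).mp htm
  simp only at hyσ
  -- hyσ : text p t i * φ σ = φ y
  have hσu : IsUnit (φ σ) :=
    IsLocalization.map_units (Localization.AtPrime p) (⟨σ, hσ⟩ : p.primeCompl)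
  set K : Ideal A := Ideal.comap φ (Tid p t i) with hK
  set 𝔟 : Ideal A := p * Ideal.span {y} ⊔ K with h𝔟
  have hKp : K ≤ p := by
    have h1 : K ≤ Ideal.comap φ (IsLocalRing.maximalIdeal (Localization.AtPrime p)) :=
      Ideal.comap_mono (Tid_le_maximalIdeal p t ht i)
    have h2 : Ideal.comap φ (IsLocalRing.maximalIdeal (Localization.AtPrime p)) = p :=
      IsLocalization.AtPrime.under_maximalIdeal (Localization.AtPrime p) p
    rwa [h2] at h1
  -- no minimal prime of `I` contains `(y) + 𝔟`
  have hC : ∀ q ∈ I.minimalPrimes, ¬ (Ideal.span {y} ⊔ 𝔟 ≤ q) := by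
    intro q hq hle
    have hqp : q.IsPrime := hq.1.1
    have hyq : y ∈ q := hle (Ideal.mem_sup_left (Ideal.subset_span rfl))
    have hKq : K ≤ q := (le_sup_right.trans le_sup_right).trans hle
    by_cases hqlep : q ≤ p
    · -- Case A
      have hdisj : Disjoint (p.primeCompl : Set A) (q : Set A) := by
        rw [Set.disjoint_left]
        intro z hz hzq
        exact hz (hqlep hzq)
      set Q : Ideal (Localization.AtPrime p) := Ideal.map φ q with hQ
      have hunder : Q.under A = q :=
        IsLocalization.under_map_of_isPrime_disjoint p.primeCompl (Localization.AtPrime p) hqp hdisj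
      have hQmin : Q ∈ (Ideal.map φ I).minimalPrimes := by
        rw [IsLocalization.minimalPrimes_map p.primeCompl (Localization.AtPrime p) I]
        change Q.under A ∈ I.minimalPrimes
        rw [hunder]
        exact hq
      rw [hmap, Tid_eq p t ⟨i, hi⟩] at hQmin
      have hnot := sop_notMem_minimalPrimes s hs t ht hsop ⟨i, hi⟩ Q hQmin
      have hQp : Q.IsPrime := hQmin.1.1
      have hφy : φ y ∈ Q := Ideal.mem_map_of_mem _ hyq
      rw [← hyσ, hti] at hφy
      rcases hQp.mem_or_mem hφy with h | h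
      · exact hnot h
      · exact hQp.ne_top (Ideal.eq_top_of_isUnit_mem _ h hσu)
    · -- Case B
      obtain ⟨σ', hσ'q, hσ'p⟩ := Set.not_subset.mp hqlep
      obtain ⟨τ, hτq, N, hτN⟩ := exists_mul_pow_mem_of_mem_minimalPrimes hq hσ'q
      apply hτq
      apply hKq
      rw [hK, Ideal.mem_comap, ← hmap,
        IsLocalization.algebraMap_mem_map_algebraMap_iff p.primeCompl]
      refine ⟨σ' ^ N, Submonoid.pow_mem _ hσ'p N, ?_⟩
      rwa [mul_comm]
  have hanti : ∀ q ∈ I.minimalPrimes, ∀ q' ∈ I.minimalPrimes, q ≤ q' → q = q' :=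
    fun q hq q' hq' hqq' => le_antisymm hqq' (hq'.2 hq.1 hqq')
  obtain ⟨b, hb𝔟, hbq⟩ := exists_add_notMem_of_antichain y 𝔟 I.minimalPrimes
    (Ideal.finite_minimalPrimes_of_isNoetherianRing A I) (fun q hq => hq.1.1) hanti hC
  obtain ⟨b1, hb1, z, hz, rfl⟩ := Submodule.mem_sup.mp hb𝔟
  obtain ⟨π, hπ, rfl⟩ := Ideal.mem_mul_span_singleton.mp hb1
  refine ⟨y + (π * y + z), (1 + π) * σ, ?_, ?_, ?_, hbq⟩
  · exact p.add_mem hy (p.add_mem (p.mul_mem_left _ hy) (hKp hz))
  · intro h
    rcases hp.mem_or_mem h with h1 | h1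
    · apply hp.ne_top
      rw [Ideal.eq_top_iff_one]
      have : (1 : A) = (1 + π) - π := by ring
      rw [this]
      exact p.sub_mem h1 hπ
    · exact hσ h1
  · have hzT : φ z ∈ Tid p t i := hz
    have : φ (y + (π * y + z)) - φ ((1 + π) * σ) * text p t i = φ z := by
      simp only [map_add, map_mul, map_one]
      rw [← hyσ]; ring
    rw [this]
    exact hzT

end Step

section Induction

variable {A : Type u} [CommRing A] [IsNoetherianRing A] [IsLocalRing A] (p : Ideal A)
  [hp : p.IsPrime] [hCM : LocCoh.IsCohenMacaulayLocalRing (Localization.AtPrime p)]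

theorem exists_partial {s : ℕ} (hs : ringKrullDim (Localization.AtPrime p) = s)
    (t : Fin s → Localization.AtPrime p)
    (ht : ∀ i, t i ∈ IsLocalRing.maximalIdeal (Localization.AtPrime p))
    (hsop : ringKrullDim (Localization.AtPrime p ⧸ Ideal.span (Set.range t)) = 0)
    (i : ℕ) (hi : i ≤ s) :
    ∃ x a : ℕ → A, (∀ j < i, x j ∈ p) ∧ (∀ j < i, a j ∉ p) ∧
      (∀ j < i, algebraMap A (Localization.AtPrime p) (x j) -
        algebraMap A (Localization.AtPrime p) (a j) * text p t j ∈ Tid p t j) ∧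
      ringKrullDim (A ⧸ Ideal.span (x '' Set.Iio i)) + (i : WithBot ℕ∞) ≤ ringKrullDim A := by
  classical
  induction i with
  | zero =>
    refine ⟨fun _ => 0, fun _ => 0, fun j hj => absurd hj (Nat.not_lt_zero j),
      fun j hj => absurd hj (Nat.not_lt_zero j), fun j hj => absurd hj (Nat.not_lt_zero j), ?_⟩
    have h0 : Set.Iio 0 = (∅ : Set ℕ) := by ext j; simp
    rw [h0, Set.image_empty, Ideal.span_empty, Nat.cast_zero, add_zero]
    exact le_of_eq (ringKrullDim_eq_of_ringEquiv (RingEquiv.quotientBot A))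
  | succ i ih =>
    obtain ⟨x, a, h1, h2, h3, h4⟩ := ih (Nat.le_of_succ_le hi)
    have hmap := map_span_image p t x a i h2 h3
    obtain ⟨xi, ai, hxi, hai, hcong, havoid⟩ :=
      exists_next p hs t ht hsop i (Nat.lt_of_succ_le hi) (Ideal.span (x '' Set.Iio i)) hmap
    refine ⟨Function.update x i xi, Function.update a i ai, ?_, ?_, ?_, ?_⟩
    · intro j hj
      by_cases hji : j = i
      · subst hji; rw [Function.update_self]; exact hxi
      · rw [Function.update_of_ne hji]; exact h1 j (by omega)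
    · intro j hj
      by_cases hji : j = i
      · subst hji; rw [Function.update_self]; exact hai
      · rw [Function.update_of_ne hji]; exact h2 j (by omega)
    · intro j hj
      by_cases hji : j = i
      · subst hji; rw [Function.update_self, Function.update_self]; exact hcong
      · rw [Function.update_of_ne hji, Function.update_of_ne hji]; exact h3 j (by omega)
    · have himg : Function.update x i xi '' Set.Iio (i + 1) = insert xi (x '' Set.Iio i) := by
        rw [Iio_succ_eq, Set.image_insert_eq, Function.update_self]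
        congr 1
        apply Set.image_congr
        intro j hj
        exact Function.update_of_ne (ne_of_lt hj) _ _
      rw [himg, Ideal.span_insert, sup_comm]
      have hdrop := ringKrullDim_quotient_sup_span_succ_le (Ideal.span (x '' Set.Iio i)) xi havoid
      calc ringKrullDim (A ⧸ Ideal.span (x '' Set.Iio i) ⊔ Ideal.span {xi}) +
            ((i + 1 : ℕ) : WithBot ℕ∞)
          = (ringKrullDim (A ⧸ Ideal.span (x '' Set.Iio i) ⊔ Ideal.span {xi}) + 1) +
            (i : WithBot ℕ∞) := by
            push_cast; rw [add_assoc, add_comm (1 : WithBot ℕ∞)]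
        _ ≤ ringKrullDim (A ⧸ Ideal.span (x '' Set.Iio i)) + (i : WithBot ℕ∞) := by gcongr
        _ ≤ ringKrullDim A := h4

/-- Lifting a system of parameters of a Cohen–Macaulay localization `A_p` to part of a system of
parameters of the Noetherian local ring `A`. -/
theorem exists_lift_sop (s : ℕ) (hs : ringKrullDim (Localization.AtPrime p) = s)
    (t : Fin s → Localization.AtPrime p)
    (ht : ∀ i, t i ∈ IsLocalRing.maximalIdeal (Localization.AtPrime p))
    (hsop : ringKrullDim (Localization.AtPrime p ⧸ Ideal.span (Set.range t)) = 0) :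
    ∃ x a : Fin s → A, (∀ i, x i ∈ p) ∧ (∀ i, a i ∉ p) ∧
      ringKrullDim (A ⧸ Ideal.span (Set.range x)) + (s : WithBot ℕ∞) = ringKrullDim A ∧
      ∀ i : Fin s, algebraMap A (Localization.AtPrime p) (x i) -
          algebraMap A (Localization.AtPrime p) (a i) * t i ∈
        Ideal.span (t '' {j : Fin s | j < i}) := by
  classical
  obtain ⟨x, a, h1, h2, h3, h4⟩ := exists_partial p hs t ht hsop s le_rfl
  refine ⟨fun k => x k, fun k => a k, fun k => h1 k k.2, fun k => h2 k k.2, ?_, ?_⟩
  · have hrange : Set.range (fun k : Fin s => x k) = x '' Set.Iio s := by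
      ext z
      simp only [Set.mem_range, Set.mem_image, Set.mem_Iio]
      constructor
      · rintro ⟨k, rfl⟩; exact ⟨k, k.2, rfl⟩
      · rintro ⟨j, hj, rfl⟩; exact ⟨⟨j, hj⟩, rfl⟩
    rw [hrange]
    refine le_antisymm h4 ?_
    -- general lower bound
    let S : Finset A := Finset.univ.image (fun k : Fin s => x k)
    have hS : (S : Set A) = x '' Set.Iio s := by
      rw [← hrange]; simp [S]
    have hSm : (S : Set A) ⊆ IsLocalRing.maximalIdeal A := by
      rw [hS]
      rintro _ ⟨j, hj, rfl⟩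
      exact IsLocalRing.le_maximalIdeal hp.ne_top (h1 j hj)
    have hb := ringKrullDim_le_ringKrullDim_add_card hSm
    rw [hS] at hb
    have hcard : (S.card : WithBot ℕ∞) ≤ (s : WithBot ℕ∞) := by
      have : S.card ≤ s := by
        calc S.card ≤ (Finset.univ : Finset (Fin s)).card := Finset.card_image_le
          _ = s := by simp
      exact_mod_cast this
    calc ringKrullDim A ≤ ringKrullDim (A ⧸ Ideal.span (x '' Set.Iio s)) + (S.card : WithBot ℕ∞) := hb
      _ ≤ ringKrullDim (A ⧸ Ideal.span (x '' Set.Iio s)) + (s : WithBot ℕ∞) := by gcongr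
  · intro i
    have := h3 i i.2
    rw [text_eq, Tid_eq] at this
    exact this

end Induction

end Groth.Agent.Lib.Seat35.SopLift
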