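import Mathlib.Topology.KrullDimension
import Mathlib.Topology.Sober
import Mathlib.Tactic

/-!
# Topological Krull dimension through chains of specialisations (seat 35)

In a quasi-sober T0 space the irreducible closed subsets correspond to points, so the topological
Krull dimension is the Krull dimension of the specialisation order.
-/

set_option autoImplicit false

namespace Groth.Agent.Lib.Seat35.TopDim

attribute [local instance] specializationOrder

variable {T : Type*} [TopologicalSpace T] [QuasiSober T] [T0Space T]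

theorem topologicalKrullDim_eq_krullDim : topologicalKrullDim T = Order.krullDim T :=
  Order.krullDim_eq_of_orderIso irreducibleSetEquivPoints

theorem lt_of_specializes_of_ne {a b : T} (h : b ⤳ a) (hne : a ≠ b) : a < b :=
  lt_of_le_of_ne h hne

theorem two_le_of_chain {a b c : T} (hab : b ⤳ a) (hbc : c ⤳ b) (h1 : a ≠ b) (h2 : b ≠ c) :
    2 ≤ topologicalKrullDim T := by
  rw [topologicalKrullDim_eq_krullDim]
  have e1 := Order.height_add_one_le (lt_of_specializes_of_ne hab h1)
  have e2 := Order.height_add_one_le (lt_of_specializes_of_ne hbc h2)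
  have e3 : (2 : ℕ∞) ≤ Order.height c := by
    calc (2 : ℕ∞) = 0 + 1 + 1 := by norm_num
      _ ≤ Order.height a + 1 + 1 := by gcongr; exact zero_le
      _ ≤ Order.height b + 1 := by gcongr
      _ ≤ Order.height c := e2
  calc (2 : WithBot ℕ∞) = ((2 : ℕ∞) : WithBot ℕ∞) := rfl
    _ ≤ (Order.height c : WithBot ℕ∞) := by exact_mod_cast e3
    _ ≤ Order.krullDim T := Order.height_le_krullDim c

theorem three_le_of_chain {a b c d : T} (hab : b ⤳ a) (hbc : c ⤳ b) (hcd : d ⤳ c)
    (h1 : a ≠ b) (h2 : b ≠ c) (h3 : c ≠ d) : 3 ≤ topologicalKrullDim T := by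
  rw [topologicalKrullDim_eq_krullDim]
  have e1 := Order.height_add_one_le (lt_of_specializes_of_ne hab h1)
  have e2 := Order.height_add_one_le (lt_of_specializes_of_ne hbc h2)
  have e3 := Order.height_add_one_le (lt_of_specializes_of_ne hcd h3)
  have e4 : (3 : ℕ∞) ≤ Order.height d := by
    calc (3 : ℕ∞) = 0 + 1 + 1 + 1 := by norm_num
      _ ≤ Order.height a + 1 + 1 + 1 := by gcongr; exact zero_le
      _ ≤ Order.height b + 1 + 1 := by gcongr
      _ ≤ Order.height c + 1 := by gcongr
      _ ≤ Order.height d := e3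
  calc (3 : WithBot ℕ∞) = ((3 : ℕ∞) : WithBot ℕ∞) := rfl
    _ ≤ (Order.height d : WithBot ℕ∞) := by exact_mod_cast e4
    _ ≤ Order.krullDim T := Order.height_le_krullDim d

theorem exists_ne_of_one_le (h : 1 ≤ topologicalKrullDim T) (x : T) : ∃ y : T, y ≠ x := by
  by_contra hcon
  push Not at hcon
  have : Subsingleton T := ⟨fun a b => (hcon a).trans (hcon b).symm⟩
  rw [topologicalKrullDim_eq_krullDim] at h
  have h0 : Order.krullDim T ≤ 0 := Order.krullDim_nonpos_of_subsingleton
  have : (1 : WithBot ℕ∞) ≤ 0 := h.trans h0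
  exact absurd this (by norm_num)

end Groth.Agent.Lib.Seat35.TopDim
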