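import Mathlib
import Groth.Prelude.Def_FlatCA
import Groth.Agent.Lib.Seat6WeakAss

/-!
# Weakly associated primes and polynomial rings (Seat 35)

* `mccoy_inj`: a McCoy type lemma: if some coefficient of `g : R[X]` acts injectively on `N`,
  then `g` acts injectively on `PolynomialModule R N`.
* `comap_C_mem_weakAss`: if a prime `q` of `R[X]` is weakly associated to `M[X]`, then `q ∩ R` is
  weakly associated to `M`.
-/

set_option autoImplicit false

universe u v w

namespace Groth.Agent.Lib.Seat35.WeakAssPoly

open FlatCA Polynomial Groth.Agent.Lib.Seat6.WeakAss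

section McCoy

variable {R : Type u} [CommRing R] {N : Type v} [AddCommGroup N] [Module R N]

theorem coeff_smulR (r : R) (w : PolynomialModule R N) (n : ℕ) :
    (r • w).coeff n = r • w.coeff n := rfl

theorem C_smul_eq (r : R) (w : PolynomialModule R N) : (C r : R[X]) • w = r • w := by
  rw [← Polynomial.algebraMap_eq, algebraMap_smul]

/-- McCoy type lemma. -/
theorem mccoy_inj (g : R[X]) (j₀ : ℕ) (hinj : ∀ x : N, g.coeff j₀ • x = 0 → x = 0) :
    ∀ (d : ℕ) (w : PolynomialModule R N), (∀ n, d ≤ n → w.coeff n = 0) → g • w = 0 → w = 0 := by
  intro d
  induction d with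
  | zero =>
    intro w hw _
    apply PolynomialModule.coeff_injective
    ext n
    simpa using hw n (Nat.zero_le n)
  | succ d ih =>
    intro w hw hgw
    have key : ∀ i j, g.natDegree < j + i → g.coeff j • w = 0 := by
      intro i
      induction i with
      | zero =>
        intro j hj
        rw [Polynomial.coeff_eq_zero_of_natDegree_lt (by simpa using hj), zero_smul]
      | succ i ihi =>
        intro j hj
        by_cases hji : g.natDegree < j + i
        · exact ihi j hji
        · have hhigh : ∀ a, j < a → g.coeff a • w = 0 := fun a ha => ihi a (by omega)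
          -- coefficient `j + d` of `g • w`
          have hc : (g • w).coeff (j + d) = g.coeff j • w.coeff d := by
            rw [PolynomialModule.smul_apply]
            rw [Finset.sum_eq_single (j, d)]
            · rintro ⟨a, b⟩ hab hne
              rw [Finset.HasAntidiagonal.mem_antidiagonal] at hab
              simp only at hab ⊢
              rcases lt_trichotomy a j with h | h | h
              · rw [hw b (by omega), smul_zero]
              · exfalso
                apply hne
                subst h
                congr 1
                omega
              · have := congrArg (fun v : PolynomialModule R N => v.coeff b) (hhigh a h)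
                simpa [coeff_smulR] using this
            · intro h
              exact absurd (Finset.HasAntidiagonal.mem_antidiagonal.2 (rfl : (j, d).1 + (j, d).2 = j + d)) h
          rw [hgw] at hc
          have hv : g.coeff j • w = 0 := by
            apply ih
            · intro n hn
              rw [coeff_smulR]
              rcases Nat.eq_or_lt_of_le hn with h | h
              · subst h
                exact hc.symm
              · rw [hw n (by omega), smul_zero]
            · rw [smul_comm, hgw, smul_zero]
          exact hv
    have h0 : g.coeff j₀ • w = 0 := key (g.natDegree + 1) j₀ (by omega)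
    apply PolynomialModule.coeff_injective
    ext n
    have := congrArg (fun v : PolynomialModule R N => v.coeff n) h0
    simp only [coeff_smulR] at this
    simpa using hinj _ this

theorem mccoy_inj' (g : R[X]) (j₀ : ℕ) (hinj : ∀ x : N, g.coeff j₀ • x = 0 → x = 0)
    (w : PolynomialModule R N) (h : g • w = 0) : w = 0 := by
  refine mccoy_inj g j₀ hinj (w.coeff.support.sup id + 1) w (fun n hn => ?_) h
  by_contra hne
  have hmem : n ∈ w.coeff.support := Finsupp.mem_support_iff.2 hne
  have : id n ≤ w.coeff.support.sup id := Finset.le_sup hmem
  simp only [id] at this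
  omega

end McCoy

section PolyStep

variable {R : Type u} [CommRing R] {M : Type v} [AddCommGroup M] [Module R M]

/-- If a prime `q` of `R[X]` is weakly associated to `M[X]`, then `q ∩ R` is weakly associated
to `M`. -/
theorem comap_C_mem_weakAss (q : Ideal R[X]) [hq : q.IsPrime]
    (h : q ∈ weakAss R[X] (PolynomialModule R M)) :
    q.comap (C : R →+* R[X]) ∈ weakAss R M := by
  classical
  set p : Ideal R := q.comap C with hp
  have hpp : p.IsPrime := Ideal.comap_isPrime _ _
  rw [mem_weakAss_iff] at h ⊢
  obtain ⟨z, h1, h2⟩ := h
  let ℓ := LocalizedModule.mkLinearMap p.primeCompl M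
  -- elements outside `p` act injectively on `M_p`
  have hinjloc : ∀ a ∉ p, ∀ x : LocalizedModule p.primeCompl M, a • x = 0 → x = 0 := by
    intro a ha x hx
    have hu := IsLocalizedModule.map_units ℓ (⟨a, ha⟩ : p.primeCompl)
    have hb := (Module.End.isUnit_iff _).1 hu
    apply hb.1
    simpa using hx
  -- some coefficient of `z` survives in `M_p`
  obtain ⟨i, hi⟩ : ∃ i, ℓ (z.coeff i) ≠ 0 := by
    by_contra hcon
    push Not at hcon
    have hz : Finsupp.mapRange.linearMap ℓ z.coeff = 0 := by
      ext n
      simpa using hcon n
    obtain ⟨s, hs⟩ :=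
      (IsLocalizedModule.eq_zero_iff p.primeCompl (Finsupp.mapRange.linearMap ℓ)).1 hz
    have hsz : (C (s : R) : R[X]) • z = 0 := by
      rw [C_smul_eq]
      apply PolynomialModule.coeff_injective
      exact hs
    exact s.2 (h1 _ hsz)
  refine ⟨z.coeff i, fun a ha => ?_, fun x hx => ?_⟩
  · by_contra hap
    apply hi
    apply hinjloc a hap
    rw [← map_smul, ha, map_zero]
  · obtain ⟨g, hg, n, hgn⟩ := h2 (C x) hx
    obtain ⟨j₀, hj₀⟩ : ∃ j, g.coeff j ∉ p := by
      by_contra hcon
      push Not at hcon
      apply hg
      rw [g.as_sum_range_C_mul_X_pow]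
      exact Ideal.sum_mem _ fun j _ => Ideal.mul_mem_right _ _ (hcon j)
    set w : PolynomialModule R M := x ^ n • z with hw
    have hgw : g • w = 0 := by
      rw [hw, ← C_smul_eq, map_pow, ← mul_smul]
      exact hgn
    have hgw' : g • PolynomialModule.map R ℓ w = 0 := by
      have := PolynomialModule.map_smul R ℓ g w
      rw [hgw, map_zero, Algebra.algebraMap_self, Polynomial.map_id] at this
      exact this.symm
    have hw'0 : PolynomialModule.map R ℓ w = 0 := mccoy_inj' g j₀ (hinjloc _ hj₀) _ hgw'
    have hli : ℓ (x ^ n • z.coeff i) = 0 := by
      have := congrArg (fun v : PolynomialModule R (LocalizedModule p.primeCompl M) => v.coeff i)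
        hw'0
      simpa [PolynomialModule.map, coeff_smulR, hw] using this
    obtain ⟨s, hs⟩ := (IsLocalizedModule.eq_zero_iff p.primeCompl ℓ).1 hli
    exact ⟨s, s.2, n, by rw [mul_smul]; exact hs⟩

end PolyStep

end Groth.Agent.Lib.Seat35.WeakAssPoly
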