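import Mathlib
import Groth.Prelude.Def_FlatCA
import Groth.Agent.Lib.Seat6WeakAss
import Groth.Agent.Lib.Seat6WeakAssBC
import Groth.Agent.Lib.Seat35WeakAssPoly

/-!
# Weakly associated primes descend along field extensions (Seat 35)

For a field extension `K/k`, a `k`-algebra `R` and an `R`-module `M`: if a prime `q` of `R_K` is
weakly associated to `M_K`, then `q ∩ R` is weakly associated to `M` (`desc_field`).

* `Desc k K`: the descent property, stated for arbitrary pushouts and base changes.
* `desc_of_isFractionRing`: `K = Frac k[X]` (polynomial step `comap_C_mem_weakAss` + localization).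
* `desc_of_finite`: `K/k` finite (finite flat pushforward, Seat 6).
* `desc_trans`: towers; `desc_mid`: the common construction `R_L = L ⊗ R`, `M_L = R_L ⊗ M`.
* `comap_mem_weakAss_of_flat`: flat descent for elements defined downstairs (going down).
* `desc_of_forall_fg`: reduction to finitely generated subextensions.
* `desc_simple`, `desc_adjoin_finset`: induction over generators.
-/

set_option autoImplicit false
set_option linter.style.haveILetI false
set_option linter.unusedSectionVars false

universe u

namespace Groth.Agent.Lib.Seat35.WeakAssField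

open FlatCA Polynomial TensorProduct Groth.Agent.Lib.Seat6.WeakAss
open Groth.Agent.Lib.Seat35.WeakAssPoly

attribute [local instance] Polynomial.algebra

/-- The descent property for weakly associated primes along `k → K`. -/
def Desc (k K : Type u) [CommRing k] [CommRing K] [Algebra k K] : Prop :=
  ∀ (R : Type u) [CommRing R] [Algebra k R] (RK : Type u) [CommRing RK] [Algebra k RK]
    [Algebra K RK] [Algebra R RK] [IsScalarTower k K RK] [IsScalarTower k R RK]
    [Algebra.IsPushout k K R RK] (M : Type u) [AddCommGroup M] [Module R M] (MK : Type u)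
    [AddCommGroup MK] [Module RK MK] [Module R MK] [IsScalarTower R RK MK] (f : M →ₗ[R] MK)
    (_ : IsBaseChange RK f) (q : Ideal RK) [q.IsPrime] (_ : q ∈ weakAss RK MK),
    q.comap (algebraMap R RK) ∈ weakAss R M

section Frac

theorem desc_of_isFractionRing (k K : Type u) [Field k] [Field K] [Algebra k K] [Algebra k[X] K]
    [IsScalarTower k k[X] K] [IsFractionRing k[X] K] : Desc k K := by
  intro R _ _ RK _ _ _ _ _ _ _ M _ _ MK _ _ _ _ f hf q _ hq
  letI algkX : Algebra k[X] RK := ((algebraMap K RK).comp (algebraMap k[X] K)).toAlgebra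
  haveI : IsScalarTower k[X] K RK := IsScalarTower.of_algebraMap_eq' rfl
  let t : RK := algebraMap k[X] RK X
  letI algRX : Algebra R[X] RK := (Polynomial.aeval t : R[X] →ₐ[R] RK).toRingHom.toAlgebra
  have hRX : ∀ a : R[X], algebraMap R[X] RK a = Polynomial.aeval t a := fun a => rfl
  haveI : IsScalarTower R R[X] RK := IsScalarTower.of_algebraMap_eq' (by
    ext r
    simp [hRX])
  haveI : IsScalarTower k k[X] RK := IsScalarTower.of_algebraMap_eq' (by
    rw [IsScalarTower.algebraMap_eq k K RK, IsScalarTower.algebraMap_eq k k[X] K,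
      IsScalarTower.algebraMap_eq k[X] K RK, RingHom.comp_assoc])
  haveI : IsScalarTower k[X] R[X] RK := IsScalarTower.of_algebraMap_eq' (by
    apply Polynomial.ringHom_ext
    · intro c
      simp only [RingHom.comp_apply, Polynomial.algebraMap_def, coe_mapRingHom, map_C, hRX,
        aeval_C]
      rw [← Polynomial.algebraMap_eq, ← IsScalarTower.algebraMap_apply k k[X] RK,
        ← IsScalarTower.algebraMap_apply k R RK]
    · simp only [RingHom.comp_apply, Polynomial.algebraMap_def, coe_mapRingHom, map_X, hRX,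
        aeval_X]
      rfl)
  haveI : IsScalarTower k R[X] RK := IsScalarTower.of_algebraMap_eq' (by
    rw [IsScalarTower.algebraMap_eq k R RK, IsScalarTower.algebraMap_eq R R[X] RK,
      RingHom.comp_assoc, ← IsScalarTower.algebraMap_eq k R R[X]])
  have hpush : Algebra.IsPushout k[X] K R[X] RK :=
    (Algebra.IsPushout.comp_iff k k[X] R (T := K) (S' := R[X]) (T' := RK)).1 inferInstance
  have hloc : IsLocalization (Algebra.algebraMapSubmonoid R[X] (nonZeroDivisors k[X])) RK :=
    (Algebra.isLocalization_iff_isPushout (nonZeroDivisors k[X]) K).2 hpush.symm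
  letI modRX : Module R[X] MK := Module.compHom MK (algebraMap R[X] RK)
  have hsm : ∀ (a : R[X]) (m : MK), a • m = (algebraMap R[X] RK a) • m := fun a m => rfl
  haveI : IsScalarTower R[X] RK MK := ⟨fun a b m => by
    rw [hsm, Algebra.smul_def, mul_smul]⟩
  haveI : IsScalarTower R R[X] MK := ⟨fun r a m => by
    rw [hsm, hsm, Algebra.smul_def, map_mul, mul_smul,
      ← IsScalarTower.algebraMap_apply R R[X] RK, algebraMap_smul]⟩
  have hpoly : IsBaseChange R[X]
      (PolynomialModule.lsingle R 0 : M →ₗ[R] PolynomialModule R M) :=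
    IsBaseChange.of_equiv (PolynomialModule.polynomialTensorProductLEquivPolynomialModule R M)
      (fun x => by simp [PolynomialModule.polynomialTensorProductLEquivPolynomialModule])
  let F : PolynomialModule R M →ₗ[R[X]] MK := hpoly.lift f
  have hF : IsBaseChange RK F := IsBaseChange.of_comp hpoly (by
    have : (F.restrictScalars R) ∘ₗ PolynomialModule.lsingle R 0 = f := hpoly.lift_comp f
    rw [this]
    exact hf)
  haveI : IsLocalizedModule (Algebra.algebraMapSubmonoid R[X] (nonZeroDivisors k[X])) F :=
    (isLocalizedModule_iff_isBaseChange _ RK F).2 hF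
  have h1 := (mem_weakAss_localization_iff
    (Algebra.algebraMapSubmonoid R[X] (nonZeroDivisors k[X])) RK F q).1 hq
  have h2 := comap_C_mem_weakAss _ h1
  rw [Ideal.comap_comap] at h2
  have hcomp : (algebraMap R[X] RK).comp (C : R →+* R[X]) = algebraMap R RK :=
    (IsScalarTower.algebraMap_eq R R[X] RK).symm
  rw [hcomp] at h2
  exact h2

end Frac

section Finite

theorem desc_of_finite (k K : Type u) [Field k] [Field K] [Algebra k K] [Module.Finite k K] :
    Desc k K := by
  intro R _ _ RK _ _ _ _ _ _ hpo M _ _ MK _ _ _ _ f hf q _ hq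
  haveI : Algebra.IsPushout k R K RK := hpo.symm
  let e : R ⊗[k] K ≃ₐ[R] RK := Algebra.IsPushout.equiv k R K RK
  haveI : Module.Finite R RK := Module.Finite.equiv e.toLinearEquiv
  haveI : Module.Flat R RK := Module.Flat.of_linearEquiv e.toLinearEquiv.symm
  have h1 : q ∈ weakAss RK (RK ⊗[R] M) := by
    rw [weakAss_eq_of_linearEquiv hf.equiv]
    exact hq
  exact comap_mem_weakAss_of_finite_flat M h1

end Finite

section Tower

attribute [local instance] Algebra.TensorProduct.rightAlgebra

variable {k L K : Type u} [Field k] [Field L] [Field K] [Algebra k L] [Algebra L K] [Algebra k K]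
  [IsScalarTower k L K]

/-- The common construction for towers `k → L → K`. -/
theorem desc_mid (hkL : Desc k L)
    (R : Type u) [CommRing R] [Algebra k R] (RK : Type u) [CommRing RK] [Algebra k RK]
    [Algebra K RK] [Algebra R RK] [IsScalarTower k K RK] [IsScalarTower k R RK]
    [Algebra.IsPushout k K R RK] (M : Type u) [AddCommGroup M] [Module R M] (MK : Type u)
    [AddCommGroup MK] [Module RK MK] [Module R MK] [IsScalarTower R RK MK] (f : M →ₗ[R] MK)
    (hf : IsBaseChange RK f) (q : Ideal RK) [q.IsPrime]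
    (H : ∀ (RL : Type u) [CommRing RL] [Algebra L RL] [Algebra RL RK] [Algebra L RK]
        [IsScalarTower L K RK] [IsScalarTower L RL RK] [Algebra.IsPushout L K RL RK]
        (ML : Type u) [AddCommGroup ML] [Module RL ML] [Module RL MK] [IsScalarTower RL RK MK]
        (g : ML →ₗ[RL] MK) (_ : IsBaseChange RK g)
        (_ : ∀ (c : L) (m : M),
          (algebraMap K RK (algebraMap L K c)) • f m ∈ LinearMap.range g),
        q.comap (algebraMap RL RK) ∈ weakAss RL ML) :
    q.comap (algebraMap R RK) ∈ weakAss R M := by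
  letI algL : Algebra L RK := ((algebraMap K RK).comp (algebraMap L K)).toAlgebra
  haveI : IsScalarTower L K RK := IsScalarTower.of_algebraMap_eq' rfl
  haveI : IsScalarTower k L RK := IsScalarTower.of_algebraMap_eq' (by
    rw [IsScalarTower.algebraMap_eq k K RK, IsScalarTower.algebraMap_eq k L K,
      IsScalarTower.algebraMap_eq L K RK, RingHom.comp_assoc])
  let φ : L ⊗[k] R →ₐ[L] RK := Algebra.TensorProduct.lift (Algebra.ofId L RK)
    (IsScalarTower.toAlgHom k R RK) (fun _ _ => Commute.all _ _)
  letI algRL : Algebra (L ⊗[k] R) RK := φ.toRingHom.toAlgebra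
  have hφ : ∀ x, algebraMap (L ⊗[k] R) RK x = φ x := fun _ => rfl
  haveI : IsScalarTower L (L ⊗[k] R) RK := IsScalarTower.of_algebraMap_eq' (by
    ext c
    rw [RingHom.comp_apply, hφ]
    exact (φ.commutes c).symm)
  haveI : IsScalarTower R (L ⊗[k] R) RK := IsScalarTower.of_algebraMap_eq' (by
    ext r
    simp [hφ, φ, Algebra.TensorProduct.right_algebraMap_apply])
  haveI : IsScalarTower k (L ⊗[k] R) RK := IsScalarTower.of_algebraMap_eq' (by
    rw [IsScalarTower.algebraMap_eq k L RK, IsScalarTower.algebraMap_eq L (L ⊗[k] R) RK,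
      RingHom.comp_assoc, ← IsScalarTower.algebraMap_eq k L (L ⊗[k] R)])
  have hpush : Algebra.IsPushout L K (L ⊗[k] R) RK :=
    (Algebra.IsPushout.comp_iff k L R (T := K) (S' := L ⊗[k] R) (T' := RK)).1 inferInstance
  have hfL : IsBaseChange (L ⊗[k] R) (TensorProduct.mk R (L ⊗[k] R) M 1) :=
    TensorProduct.isBaseChange R M (L ⊗[k] R)
  letI modRL : Module (L ⊗[k] R) MK := Module.compHom MK (algebraMap (L ⊗[k] R) RK)
  have hsm : ∀ (a : L ⊗[k] R) (m : MK), a • m = (algebraMap (L ⊗[k] R) RK a) • m :=
    fun a m => rfl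
  haveI : IsScalarTower (L ⊗[k] R) RK MK := ⟨fun a b m => by
    rw [hsm, Algebra.smul_def, mul_smul]⟩
  haveI : IsScalarTower R (L ⊗[k] R) MK := ⟨fun r a m => by
    rw [hsm, hsm, Algebra.smul_def, map_mul, mul_smul,
      ← IsScalarTower.algebraMap_apply R (L ⊗[k] R) RK, algebraMap_smul]⟩
  let g : (L ⊗[k] R) ⊗[R] M →ₗ[L ⊗[k] R] MK := hfL.lift f
  have hg : IsBaseChange RK g := IsBaseChange.of_comp hfL (by
    have : (g.restrictScalars R) ∘ₗ (TensorProduct.mk R (L ⊗[k] R) M 1) = f := hfL.lift_comp f
    rw [this]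
    exact hf)
  have hrange : ∀ (c : L) (m : M),
      (algebraMap K RK (algebraMap L K c)) • f m ∈ LinearMap.range g := by
    intro c m
    refine ⟨(c ⊗ₜ[k] (1 : R)) ⊗ₜ[R] m, ?_⟩
    have h1 : ((c ⊗ₜ[k] (1 : R)) ⊗ₜ[R] m : (L ⊗[k] R) ⊗[R] M) =
        (c ⊗ₜ[k] (1 : R)) • (TensorProduct.mk R (L ⊗[k] R) M 1 m) := by
      simp [TensorProduct.smul_tmul']
    rw [h1, map_smul, hfL.lift_eq, hsm, hφ]
    simp [φ]
    rfl
  have h1 := H (L ⊗[k] R) ((L ⊗[k] R) ⊗[R] M) g hg hrange
  have h2 := hkL R (L ⊗[k] R) M ((L ⊗[k] R) ⊗[R] M) _ hfL _ h1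
  rw [Ideal.comap_comap, ← IsScalarTower.algebraMap_eq R (L ⊗[k] R) RK] at h2
  exact h2

theorem desc_trans (hkL : Desc k L) (hLK : Desc L K) : Desc k K := by
  intro R _ _ RK _ _ _ _ _ _ _ M _ _ MK _ _ _ _ f hf q _ hq
  refine desc_mid (K := K) hkL R RK M MK f hf q ?_
  intro RL _ _ _ _ _ _ _ ML _ _ _ _ g hg _
  exact hLK RL RK ML MK g hg q hq

end Tower

section FlatStep

variable {A B : Type u} [CommRing A] [CommRing B] [Algebra A B] [Module.Flat A B]
  {N : Type u} [AddCommGroup N] [Module A N] {N' : Type u} [AddCommGroup N'] [Module B N']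
  [Module A N'] [IsScalarTower A B N']

/-- Flat descent for elements defined downstairs: if `q` is minimal over the annihilator of
`g z` in a flat base change, then `q ∩ A` is minimal over the annihilator of `z`. -/
theorem comap_mem_weakAss_of_flat (g : N →ₗ[A] N') (hg : IsBaseChange B g) (q : Ideal B)
    (z : N) (hq : q ∈ (Submodule.span B {g z}).annihilator.minimalPrimes) :
    q.comap (algebraMap A B) ∈ weakAss A N := by
  refine ⟨z, ?_⟩
  set I : Ideal A := (Submodule.span A {z}).annihilator with hI
  have hann : (Submodule.span B {g z}).annihilator = I.map (algebraMap A B) := by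
    apply le_antisymm
    · intro b hb
      rw [mem_ann_iff] at hb
      apply mem_map_ann_of_tmul_eq_zero N z b
      apply hg.equiv.injective
      rw [hg.equiv_tmul, hb, map_zero]
    · rw [Ideal.map_le_iff_le_comap]
      intro a ha
      rw [Ideal.mem_comap, mem_ann_iff, algebraMap_smul, ← map_smul, (mem_ann_iff z a).1 ha,
        map_zero]
  rw [hann] at hq
  haveI : q.IsPrime := hq.1.1
  refine ⟨⟨Ideal.comap_isPrime _ _, Ideal.map_le_iff_le_comap.1 hq.1.2⟩, ?_⟩
  rintro p' ⟨hp', hIp'⟩ hle
  haveI := hp'
  haveI : q.LiesOver (q.comap (algebraMap A B)) := ⟨rfl⟩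
  obtain ⟨Q, hQq, hQ, hQo⟩ := Ideal.exists_ideal_le_liesOver_of_le (p := p') q hle
  have hQI : I.map (algebraMap A B) ≤ Q := by
    rw [Ideal.map_le_iff_le_comap]
    have : p' = Q.comap (algebraMap A B) := hQo.over
    rw [← this]
    exact hIp'
  have hqQ : q ≤ Q := hq.2 ⟨hQ, hQI⟩ hQq
  have hQeq : Q = q := le_antisymm hQq hqQ
  have : p' = Q.comap (algebraMap A B) := hQo.over
  rw [this, hQeq]

end FlatStep

section Fg

variable (k K : Type u) [Field k] [Field K] [Algebra k K]
  (R : Type u) [CommRing R] [Algebra k R] (RK : Type u) [CommRing RK] [Algebra k RK]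
  [Algebra K RK] [Algebra R RK] [IsScalarTower k K RK] [IsScalarTower k R RK]
  [Algebra.IsPushout k K R RK] (M : Type u) [AddCommGroup M] [Module R M] (MK : Type u)
  [AddCommGroup MK] [Module RK MK] [Module R MK] [IsScalarTower R RK MK] (f : M →ₗ[R] MK)

/-- Elements of `MK` which are of the form `c • f m` with `c` in the subfield generated by `S`. -/
def gens (S : Finset K) : Set MK :=
  {x | ∃ c ∈ IntermediateField.adjoin k (S : Set K), ∃ m : M, x = algebraMap K RK c • f m}

variable {k K R RK M MK f}

theorem gens_mono {S S' : Finset K} (h : S ⊆ S') :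
    AddSubmonoid.closure (gens k K R RK M MK f S) ≤
      AddSubmonoid.closure (gens k K R RK M MK f S') := by
  apply AddSubmonoid.closure_mono
  rintro x ⟨c, hc, m, rfl⟩
  exact ⟨c, IntermediateField.adjoin.mono k _ _ (by exact_mod_cast h) hc, m, rfl⟩

variable (k K R RK M MK f) in
/-- Every element of `MK` is defined over a finitely generated subextension. -/
theorem exists_finset_mem_closure (hf : IsBaseChange RK f) (z : MK) :
    ∃ S : Finset K, z ∈ AddSubmonoid.closure (gens k K R RK M MK f S) := by
  classical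
  let P : MK → Prop := fun z => ∃ S : Finset K, z ∈ AddSubmonoid.closure (gens k K R RK M MK f S)
  have hadd : ∀ z₁ z₂, P z₁ → P z₂ → P (z₁ + z₂) := by
    rintro z₁ z₂ ⟨S₁, h₁⟩ ⟨S₂, h₂⟩
    exact ⟨S₁ ∪ S₂, add_mem (gens_mono Finset.subset_union_left h₁)
      (gens_mono Finset.subset_union_right h₂)⟩
  have hzero : P 0 := ⟨∅, zero_mem _⟩
  have hK : ∀ (c : K) (z : MK), P z → P (algebraMap K RK c • z) := by
    rintro c z ⟨S, hS⟩
    refine ⟨insert c S, ?_⟩
    induction hS using AddSubmonoid.closure_induction with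
    | zero => rw [smul_zero]; exact zero_mem _
    | add x y _ _ hx hy => rw [smul_add]; exact add_mem hx hy
    | mem x hx =>
      obtain ⟨c', hc', m, rfl⟩ := hx
      apply AddSubmonoid.subset_closure
      refine ⟨c * c', mul_mem ?_ ?_, m, ?_⟩
      · exact IntermediateField.subset_adjoin k _ (by simp)
      · exact IntermediateField.adjoin.mono k _ _ (by simp) hc'
      · rw [map_mul, mul_smul]
  have hR : ∀ (r : R) (z : MK), P z → P (algebraMap R RK r • z) := by
    rintro r z ⟨S, hS⟩
    refine ⟨S, ?_⟩
    induction hS using AddSubmonoid.closure_induction with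
    | zero => rw [smul_zero]; exact zero_mem _
    | add x y _ _ hx hy => rw [smul_add]; exact add_mem hx hy
    | mem x hx =>
      obtain ⟨c', hc', m, rfl⟩ := hx
      apply AddSubmonoid.subset_closure
      refine ⟨c', hc', r • m, ?_⟩
      rw [smul_smul, mul_comm, ← smul_smul, algebraMap_smul RK r (f m), ← map_smul]
  have hRK : ∀ (r : RK) (z : MK), P z → P (r • z) := by
    intro r
    have hpo : IsBaseChange K (IsScalarTower.toAlgHom k R RK).toLinearMap :=
      Algebra.IsPushout.out
    refine hpo.inductionOn r (fun r => ∀ z : MK, P z → P (r • z)) ?_ ?_ ?_ ?_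
    · intro z _
      rw [zero_smul]
      exact hzero
    · intro r₀ z hz
      exact hR r₀ z hz
    · intro c r' ih z hz
      rw [Algebra.smul_def, mul_smul]
      exact hK c _ (ih z hz)
    · intro r₁ r₂ h₁ h₂ z hz
      rw [add_smul]
      exact hadd _ _ (h₁ z hz) (h₂ z hz)
  refine hf.inductionOn z P hzero ?_ (fun r z hz => hRK r z hz) hadd
  intro m
  refine ⟨∅, AddSubmonoid.subset_closure ⟨1, one_mem _, m, ?_⟩⟩
  rw [map_one, one_smul]

theorem desc_of_forall_fg
    (h : ∀ S : Finset K, ∃ (L : Type u) (_ : Field L) (_ : Algebra k L) (_ : Algebra L K)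
      (_ : IsScalarTower k L K), Desc k L ∧
        ((IntermediateField.adjoin k (S : Set K) : IntermediateField k K) : Set K) ⊆
          Set.range (algebraMap L K)) : Desc k K := by
  intro R _ _ RK _ _ _ _ _ _ _ M _ _ MK _ _ _ _ f hf q _ hq
  obtain ⟨z, hz⟩ := hq
  obtain ⟨S, hS⟩ := exists_finset_mem_closure k K R RK M MK f hf z
  obtain ⟨L, _, _, _, _, hL, hsub⟩ := h S
  refine desc_mid (L := L) (K := K) hL R RK M MK f hf q ?_
  intro RL _ _ _ _ _ _ hpo ML _ _ _ _ g hg hrange
  have hzr : z ∈ (LinearMap.range g).toAddSubmonoid := by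
    refine (AddSubmonoid.closure_le.2 ?_) hS
    rintro x ⟨c, hc, m, rfl⟩
    obtain ⟨c', rfl⟩ := hsub hc
    exact hrange c' m
  obtain ⟨z', hz'⟩ := hzr
  have hpo' : Algebra.IsPushout L RL K RK := hpo.symm
  have hbc : IsBaseChange RL (IsScalarTower.toAlgHom L K RK).toLinearMap := hpo'.out
  haveI : Module.Flat RL RK := Module.Flat.isBaseChange L RL K RK hbc
  rw [← hz'] at hz
  letI : Module RL MK := inferInstance
  exact comap_mem_weakAss_of_flat g hg q z' hz

end Fg

section FieldInduction

open IntermediateField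

variable (k K : Type u) [Field k] [Field K] [Algebra k K]

theorem desc_simple (E : IntermediateField k K) (x : K) : Desc E E⟮x⟯ := by
  by_cases hx : IsIntegral E x
  · haveI : FiniteDimensional E E⟮x⟯ := adjoin.finiteDimensional hx
    exact desc_of_finite _ _
  · have htr : Transcendental E x := fun h => hx h.isIntegral
    letI alg : Algebra (Polynomial E) E⟮x⟯ :=
      (Polynomial.aeval (AdjoinSimple.gen E x)).toRingHom.toAlgebra
    have halg : ∀ p : Polynomial E,
        algebraMap (Polynomial E) E⟮x⟯ p = Polynomial.aeval (AdjoinSimple.gen E x) p :=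
      fun _ => rfl
    haveI : IsScalarTower E (Polynomial E) E⟮x⟯ := IsScalarTower.of_algebraMap_eq' (by
      ext c
      simp [halg])
    haveI : FaithfulSMul (Polynomial E) E⟮x⟯ := by
      rw [faithfulSMul_iff_algebraMap_injective]
      rw [injective_iff_map_eq_zero]
      intro p hp
      rw [halg] at hp
      have h2 : Polynomial.aeval x p = 0 := by
        rw [← AdjoinSimple.coe_aeval_gen_apply, hp]
        rfl
      exact (transcendental_iff.1 htr) p h2
    haveI : IsFractionRing (Polynomial E) E⟮x⟯ := IsFractionRing.of_field _ _ (by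
      rintro ⟨z, hz⟩
      obtain ⟨r, s, hrs⟩ := (mem_adjoin_simple_iff E z).1 hz
      refine ⟨r, s, ?_⟩
      apply Subtype.ext
      rw [halg, halg]
      push_cast
      rw [AdjoinSimple.coe_aeval_gen_apply, AdjoinSimple.coe_aeval_gen_apply]
      exact hrs)
    exact desc_of_isFractionRing _ _

theorem desc_adjoin_finset (S : Finset K) : Desc k (adjoin k (S : Set K)) := by
  refine induction_on_adjoin_finset S (fun E => Desc k E) ?_ ?_
  · exact desc_of_finite _ _
  · intro E x _ hE
    have h2 : Desc E E⟮x⟯ := desc_simple k K E x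
    have h3 : Desc k E⟮x⟯ := desc_trans hE h2
    exact h3

end FieldInduction

section Main

variable (k K : Type u) [Field k] [Field K] [Algebra k K]

theorem desc_field : Desc k K := by
  apply desc_of_forall_fg
  intro S
  exact ⟨IntermediateField.adjoin k (S : Set K), inferInstance, inferInstance, inferInstance,
    inferInstance, desc_adjoin_finset k K S, fun c hc => ⟨⟨c, hc⟩, rfl⟩⟩

end Main

end Groth.Agent.Lib.Seat35.WeakAssField
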