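import Groth.Agent.Lib.Seat51T1Rigid

/-!
# First-order deformations of an affine scheme and algebra extensions (helper51)

For a field `k` and a `k`-algebra `B`: isomorphism classes of deformations of `Spec B` over the dual numbers
correspond to classes of `k`-algebra extensions of `B` by `B`.
-/

set_option autoImplicit false

universe u

namespace Seat51DefExal

open AlgebraicGeometry CategoryTheory Limits TensorProduct

/-- a square of rings with surjective legs `f`, `p` and `ker p ≤ (ker f) E` is a pushout -/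
lemma isPushout_of_surjective {R S E B : Type u} [CommRing R] [CommRing S] [CommRing E] [CommRing B]
    (f : R →+* S) (g : R →+* E) (p : E →+* B) (q : S →+* B)
    (comm : q.comp f = p.comp g) (hf : Function.Surjective f) (hp : Function.Surjective p)
    (hker : RingHom.ker p ≤ (RingHom.ker f).map g) :
    IsPushout (CommRingCat.ofHom f) (CommRingCat.ofHom g) (CommRingCat.ofHom q)
      (CommRingCat.ofHom p) := by
  have w : CommRingCat.ofHom f ≫ CommRingCat.ofHom q = CommRingCat.ofHom g ≫ CommRingCat.ofHom p := by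
    rw [← CommRingCat.ofHom_comp, ← CommRingCat.ofHom_comp, comm]
  have hle : ∀ s : PushoutCocone (CommRingCat.ofHom f) (CommRingCat.ofHom g),
      RingHom.ker p ≤ RingHom.ker s.inr.hom := by
    intro s
    refine hker.trans ?_
    rw [Ideal.map_le_iff_le_comap]
    intro r hr
    rw [Ideal.mem_comap, RingHom.mem_ker]
    have h1 := congrArg (fun t => t.hom r) s.condition
    simp only [CommRingCat.hom_comp, CommRingCat.hom_ofHom, RingHom.comp_apply] at h1
    rw [← h1, show f r = 0 from hr, map_zero]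
  refine IsPushout.of_isColimit (c := PushoutCocone.mk _ _ w) (PushoutCocone.IsColimit.mk w
    (fun s => CommRingCat.ofHom (p.liftOfSurjective hp ⟨s.inr.hom, hle s⟩)) ?_ ?_ ?_)
  · intro s
    ext c
    obtain ⟨r, rfl⟩ := hf c
    have h1 := congrArg (fun t => t.hom r) s.condition
    simp only [CommRingCat.hom_comp, CommRingCat.hom_ofHom, RingHom.comp_apply] at h1
    simp only [CommRingCat.hom_comp, CommRingCat.hom_ofHom, RingHom.comp_apply]
    have h2 : q (f r) = p (g r) := RingHom.congr_fun comm r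
    rw [h2, RingHom.liftOfSurjective_comp_apply]
    exact h1.symm
  · intro s
    ext c
    simp only [CommRingCat.hom_comp, CommRingCat.hom_ofHom, RingHom.comp_apply]
    rw [RingHom.liftOfSurjective_comp_apply]
  · intro s m _ hm
    ext b
    obtain ⟨c, rfl⟩ := hp b
    simp only [CommRingCat.hom_ofHom]
    rw [RingHom.liftOfSurjective_comp_apply]
    exact congrArg (fun t => t.hom c) hm

section Psi

variable {k : Type u} [Field k] {B : Type u} [CommRing B] [Algebra k B]

open DualNumber

/-- the element `ε` of an extension of `B` by `B` -/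
def epsOf (E : Exal.Ext k B B) : E.E := E.incl 1

lemma proj_incl (E : Exal.Ext k B B) (z : B) : E.proj (E.incl z) = 0 :=
  (E.isExtension.exact _).mpr ⟨z, rfl⟩

lemma epsOf_mul_self (E : Exal.Ext k B B) : epsOf E * epsOf E = 0 := by
  unfold epsOf
  rw [E.isExtension.mul_incl, proj_incl, zero_smul, map_zero]

lemma mul_epsOf (E : Exal.Ext k B B) (x : E.E) : x * epsOf E = E.incl (E.proj x) := by
  unfold epsOf
  rw [E.isExtension.mul_incl, smul_eq_mul, mul_one]

/-- the structure map `k[ε] → E` -/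
noncomputable def phiOf (E : Exal.Ext k B B) : DualNumber k →ₐ[k] E.E :=
  DualNumber.lift ⟨(Algebra.ofId k E.E, epsOf E), epsOf_mul_self E, fun _ => Commute.all _ _⟩

lemma phiOf_eps (E : Exal.Ext k B B) : phiOf E ε = epsOf E := DualNumber.lift_apply_eps _

lemma phiOf_apply (E : Exal.Ext k B B) (d : DualNumber k) :
    phiOf E d = algebraMap k E.E (TrivSqZeroExt.fst d) +
      algebraMap k E.E (TrivSqZeroExt.snd d) * epsOf E := rfl

lemma proj_phiOf (E : Exal.Ext k B B) (d : DualNumber k) :
    E.proj (phiOf E d) = algebraMap k B (TrivSqZeroExt.fst d) := by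
  rw [phiOf_apply, map_add, map_mul, AlgHom.commutes, AlgHom.commutes]
  unfold epsOf
  rw [proj_incl, mul_zero, add_zero]

lemma exists_normal_form (w : DualNumber k ⊗[k] B) :
    ∃ x y : B, w = (1 : DualNumber k) ⊗ₜ[k] x + (ε : DualNumber k) ⊗ₜ[k] y := by
  induction w using TensorProduct.induction_on with
  | zero => exact ⟨0, 0, by simp⟩
  | tmul d b =>
    refine ⟨TrivSqZeroExt.fst d • b, TrivSqZeroExt.snd d • b, ?_⟩
    conv_lhs => rw [← TrivSqZeroExt.inl_fst_add_inr_snd_eq d]
    rw [TensorProduct.add_tmul, DualNumber.inr_eq_smul_eps, TensorProduct.smul_tmul]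
    congr 1
    rw [← TrivSqZeroExt.algebraMap_eq_inl, Algebra.algebraMap_eq_smul_one, TensorProduct.smul_tmul]
  | add w₁ w₂ h₁ h₂ =>
    obtain ⟨x₁, y₁, rfl⟩ := h₁
    obtain ⟨x₂, y₂, rfl⟩ := h₂
    refine ⟨x₁ + x₂, y₁ + y₂, ?_⟩
    rw [TensorProduct.tmul_add, TensorProduct.tmul_add]
    abel

lemma flat_phiOf (E : Exal.Ext k B B) : (phiOf E).toRingHom.Flat := by
  letI : Algebra (DualNumber k) E.E := (phiOf E).toRingHom.toAlgebra
  haveI : IsScalarTower k (DualNumber k) E.E :=
    IsScalarTower.of_algebraMap_eq (fun c => ((phiOf E).commutes c).symm)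
  show Module.Flat (DualNumber k) E.E
  obtain ⟨σ, hσ⟩ := E.proj.toLinearMap.exists_rightInverse_of_surjective
    (LinearMap.range_eq_top.mpr E.isExtension.proj_surjective)
  have hσ' : ∀ b, E.proj (σ b) = b := fun b => LinearMap.congr_fun hσ b
  have hsmul : ∀ (d : DualNumber k) (x : E.E), d • x = phiOf E d * x := fun d x => rfl
  let Θ : DualNumber k ⊗[k] B →ₗ[DualNumber k] E.E :=
    TensorProduct.AlgebraTensorModule.lift
      (LinearMap.toSpanSingleton (DualNumber k) (B →ₗ[k] E.E) σ)
  have hΘ : ∀ x y : B, Θ ((1 : DualNumber k) ⊗ₜ[k] x + (ε : DualNumber k) ⊗ₜ[k] y) =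
      σ x + E.incl y := by
    intro x y
    rw [map_add]
    simp only [Θ, TensorProduct.AlgebraTensorModule.lift_tmul, LinearMap.toSpanSingleton_apply,
      LinearMap.smul_apply, one_smul]
    rw [hsmul, phiOf_eps, mul_comm, mul_epsOf, hσ']
  have hbij : Function.Bijective Θ := by
    constructor
    · rw [injective_iff_map_eq_zero]
      intro w hw
      obtain ⟨x, y, rfl⟩ := exists_normal_form w
      rw [hΘ] at hw
      have h1 := congrArg E.proj hw
      rw [map_add, hσ', proj_incl, add_zero, map_zero] at h1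
      subst h1
      rw [map_zero, zero_add] at hw
      have h2 : y = 0 := E.isExtension.incl_injective (by rw [hw, map_zero])
      subst h2
      simp
    · intro e
      obtain ⟨y, hy⟩ := (E.isExtension.exact (e - σ (E.proj e))).mp (by
        rw [map_sub, hσ', sub_self])
      refine ⟨(1 : DualNumber k) ⊗ₜ[k] E.proj e + (ε : DualNumber k) ⊗ₜ[k] y, ?_⟩
      rw [hΘ, hy]
      abel
  exact Module.Flat.of_linearEquiv (LinearEquiv.ofBijective Θ hbij).symm

lemma ker_proj_le (E : Exal.Ext k B B) :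
    RingHom.ker E.proj.toRingHom ≤
      (RingHom.ker (TrivSqZeroExt.fstHom k k k).toRingHom).map (phiOf E).toRingHom := by
  intro x hx
  obtain ⟨z, rfl⟩ := (E.isExtension.exact x).mp hx
  obtain ⟨z', rfl⟩ := E.isExtension.proj_surjective z
  rw [← mul_epsOf, ← phiOf_eps]
  apply Ideal.mul_mem_left
  apply Ideal.mem_map_of_mem
  rw [RingHom.mem_ker]
  rfl

lemma isPullback_psi (E : Exal.Ext k B B) :
    IsPullback (Spec.map (CommRingCat.ofHom E.proj.toRingHom))
      (Spec.map (CommRingCat.ofHom (algebraMap k B)))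
      (Spec.map (CommRingCat.ofHom (phiOf E).toRingHom))
      (Spec.map (CommRingCat.ofHom (TrivSqZeroExt.fstHom k k k).toRingHom)) := by
  apply isPullback_SpecMap_of_isPushout
  refine (isPushout_of_surjective (TrivSqZeroExt.fstHom k k k).toRingHom (phiOf E).toRingHom
    E.proj.toRingHom (algebraMap k B) ?_ ?_ E.isExtension.proj_surjective (ker_proj_le E)).flip
  · exact RingHom.ext fun d => (proj_phiOf E d).symm
  · intro c
    exact ⟨TrivSqZeroExt.inl c, rfl⟩

/-- the first-order deformation of `Spec B` attached to an extension of `B` by `B` -/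
noncomputable def psi (E : Exal.Ext k B B) :
    ArtFun.DefSch (Spec (CommRingCat.of B)) (Spec.map (CommRingCat.ofHom (algebraMap k B)))
      (ArtFun.Art.dual k k) where
  total := Spec (CommRingCat.of E.E)
  f := Spec.map (CommRingCat.ofHom (phiOf E).toRingHom)
  flat := Flat.SpecMap_iff.mpr (flat_phiOf E)
  i := Spec.map (CommRingCat.ofHom E.proj.toRingHom)
  isPullback := isPullback_psi E

lemma incl_eq (E : Exal.Ext k B B) (x : E.E) : E.incl (E.proj x) = x * phiOf E ε := by
  rw [phiOf_eps, mul_epsOf]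

lemma iso_psi_of_equiv {E E' : Exal.Ext k B B} (e : Exal.Ext.Equiv E E') :
    Nonempty ((psi E).Iso (psi E')) := by
  set θ := e.toAlgEquiv with hθ
  have h1 : (θ.symm : E'.E →ₐ[k] E.E).comp (phiOf E') = phiOf E := by
    apply DualNumber.algHom_ext
    rw [AlgHom.comp_apply, phiOf_eps, phiOf_eps]
    show θ.symm (E'.incl 1) = E.incl 1
    rw [AlgEquiv.symm_apply_eq]
    exact (e.apply_incl 1).symm
  have h1' : (θ.symm : E'.E →+* E.E).comp (phiOf E').toRingHom = (phiOf E).toRingHom :=
    congrArg AlgHom.toRingHom h1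
  have h2 : E.proj.toRingHom.comp (θ.symm : E'.E →+* E.E) = E'.proj.toRingHom := by
    ext y
    show E.proj (θ.symm y) = E'.proj y
    rw [← e.proj_apply, AlgEquiv.apply_symm_apply]
  have f1 : Spec.map (CommRingCat.ofHom (θ.symm : E'.E →+* E.E)) ≫
      Spec.map (CommRingCat.ofHom (phiOf E').toRingHom) =
      Spec.map (CommRingCat.ofHom (phiOf E).toRingHom) := by
    rw [← Spec.map_comp, ← CommRingCat.ofHom_comp, h1']
  have f2 : Spec.map (CommRingCat.ofHom E.proj.toRingHom) ≫
      Spec.map (CommRingCat.ofHom (θ.symm : E'.E →+* E.E)) =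
      Spec.map (CommRingCat.ofHom E'.proj.toRingHom) := by
    rw [← Spec.map_comp, ← CommRingCat.ofHom_comp, h2]
  have f3 : Spec.map (CommRingCat.ofHom (θ.symm : E'.E →+* E.E)) ≫
      Spec.map (CommRingCat.ofHom (θ : E.E →+* E'.E)) = 𝟙 (Spec (CommRingCat.of E.E)) := by
    rw [← Spec.map_comp, ← CommRingCat.ofHom_comp]
    have : (θ.symm : E'.E →+* E.E).comp (θ : E.E →+* E'.E) = RingHom.id _ := by
      ext x
      exact θ.symm_apply_apply x
    rw [this, CommRingCat.ofHom_id, Spec.map_id]
  have f4 : Spec.map (CommRingCat.ofHom (θ : E.E →+* E'.E)) ≫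
      Spec.map (CommRingCat.ofHom (θ.symm : E'.E →+* E.E)) = 𝟙 (Spec (CommRingCat.of E'.E)) := by
    rw [← Spec.map_comp, ← CommRingCat.ofHom_comp]
    have : (θ : E.E →+* E'.E).comp (θ.symm : E'.E →+* E.E) = RingHom.id _ := by
      ext x
      exact θ.apply_symm_apply x
    rw [this, CommRingCat.ofHom_id, Spec.map_id]
  exact ⟨⟨⟨Spec.map (CommRingCat.ofHom (θ.symm : E'.E →+* E.E)),
    Spec.map (CommRingCat.ofHom (θ : E.E →+* E'.E)), f3, f4⟩, f1, f2⟩⟩

lemma equiv_of_iso_psi {E E' : Exal.Ext k B B} (h : (psi E).Iso (psi E')) :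
    Nonempty (Exal.Ext.Equiv E E') := by
  let hom' : Spec (CommRingCat.of E.E) ⟶ Spec (CommRingCat.of E'.E) := h.iso.hom
  let inv' : Spec (CommRingCat.of E'.E) ⟶ Spec (CommRingCat.of E.E) := h.iso.inv
  set θ' : CommRingCat.of E'.E ⟶ CommRingCat.of E.E := Spec.preimage hom' with hθ'
  set ψ' : CommRingCat.of E.E ⟶ CommRingCat.of E'.E := Spec.preimage inv' with hψ'
  have hθψ : θ' ≫ ψ' = 𝟙 _ := by
    apply Spec.map_injective
    rw [Spec.map_comp, Spec.map_preimage, Spec.map_preimage, Spec.map_id]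
    exact h.iso.inv_hom_id
  have hψθ : ψ' ≫ θ' = 𝟙 _ := by
    apply Spec.map_injective
    rw [Spec.map_comp, Spec.map_preimage, Spec.map_preimage, Spec.map_id]
    exact h.iso.hom_inv_id
  have e1 : CommRingCat.ofHom (phiOf E').toRingHom ≫ θ' = CommRingCat.ofHom (phiOf E).toRingHom := by
    apply Spec.map_injective
    rw [Spec.map_comp, Spec.map_preimage]
    exact h.hom_f
  have e2 : θ' ≫ CommRingCat.ofHom E.proj.toRingHom = CommRingCat.ofHom E'.proj.toRingHom := by
    apply Spec.map_injective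
    rw [Spec.map_comp, Spec.map_preimage]
    exact h.i_hom
  have e1a : ∀ d, θ'.hom (phiOf E' d) = phiOf E d := fun d => congrArg (fun t => t.hom d) e1
  have e2a : ∀ y, E.proj (θ'.hom y) = E'.proj y := fun y => congrArg (fun t => t.hom y) e2
  have hθψa : ∀ y, ψ'.hom (θ'.hom y) = y := fun y => congrArg (fun t => t.hom y) hθψ
  have hψθa : ∀ x, θ'.hom (ψ'.hom x) = x := fun x => congrArg (fun t => t.hom x) hψθ
  have e1b : ∀ d, ψ'.hom (phiOf E d) = phiOf E' d := fun d => by rw [← e1a, hθψa]
  have e2b : ∀ x, E'.proj (ψ'.hom x) = E.proj x := fun x => by rw [← e2a, hψθa]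
  let re : E.E ≃+* E'.E := RingEquiv.ofRingHom ψ'.hom θ'.hom
    (RingHom.ext hθψa) (RingHom.ext hψθa)
  have hre : ∀ x, re x = ψ'.hom x := fun x => rfl
  refine ⟨⟨AlgEquiv.ofRingEquiv (f := re) ?_, ?_, ?_⟩⟩
  · intro c
    rw [hre, ← (phiOf E).commutes c, e1b, (phiOf E').commutes c]
  · intro x
    exact e2b x
  · intro z
    obtain ⟨x₀, rfl⟩ := E.isExtension.proj_surjective z
    show ψ'.hom (E.incl (E.proj x₀)) = E'.incl (E.proj x₀)
    rw [incl_eq, map_mul, e1b, ← e2b, incl_eq]

section ExtOf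

variable {R : Type u} [CommRing R] [Algebra k R] (φ : DualNumber k →ₐ[k] R)
  (π : R →ₐ[k] B) (hπ : Function.Surjective π)

lemma phi_eps_mul_self : φ ε * φ ε = 0 := by
  rw [← map_mul, DualNumber.eps_mul_eps, map_zero]

lemma extOf_wd (hker : ∀ y, π y = 0 → ∃ w, y = φ ε * w) (y y' : R) (h : π y = π y') :
    φ ε * y = φ ε * y' := by
  obtain ⟨w, hw⟩ := hker (y - y') (by rw [map_sub, h, sub_self])
  have : φ ε * (y - y') = 0 := by rw [hw, ← mul_assoc, phi_eps_mul_self, zero_mul]
  rwa [mul_sub, sub_eq_zero] at this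

/-- the underlying additive map `b ↦ ε b̃` -/
noncomputable def extOfIncl (hker : ∀ y, π y = 0 → ∃ w, y = φ ε * w) : B →+ R :=
  AddMonoidHom.mk' (fun b => φ ε * Function.surjInv hπ b) (fun b c => by
    rw [← mul_add]
    apply extOf_wd φ π hker
    rw [map_add, Function.surjInv_eq hπ, Function.surjInv_eq hπ, Function.surjInv_eq hπ])

lemma extOfIncl_apply (hker : ∀ y, π y = 0 → ∃ w, y = φ ε * w) (y : R) :
    extOfIncl φ π hπ hker (π y) = φ ε * y :=
  extOf_wd φ π hker _ _ (Function.surjInv_eq hπ (π y))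

lemma fst_eq_zero_of_mem_ker (d : DualNumber k)
    (hd : d ∈ LinearMap.ker (LinearMap.toSpanSingleton (DualNumber k) (DualNumber k ⧸ (⊥ : Ideal (DualNumber k)))
      (Ideal.Quotient.mk ⊥ (ε : DualNumber k)))) : TrivSqZeroExt.fst d = 0 := by
  rw [LinearMap.mem_ker, LinearMap.toSpanSingleton_apply] at hd
  change Ideal.Quotient.mk ⊥ (d * ε) = 0 at hd
  rw [Ideal.Quotient.eq_zero_iff_mem, Ideal.mem_bot] at hd
  have := congrArg TrivSqZeroExt.snd hd
  simpa using this

lemma isExtension_extOf (hflat : φ.toRingHom.Flat)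
    (hπφ : ∀ d, π (φ d) = algebraMap k B (TrivSqZeroExt.fst d))
    (hker : ∀ y, π y = 0 → ∃ w, y = φ ε * w) :
    Exal.IsExtension π (extOfIncl φ π hπ hker) := by
  refine ⟨hπ, ?_, ?_, ?_⟩
  · rw [injective_iff_map_eq_zero]
    intro b hb
    obtain ⟨y, rfl⟩ := hπ b
    rw [extOfIncl_apply] at hb
    letI : Algebra (DualNumber k) R := φ.toRingHom.toAlgebra
    haveI : Module.Flat (DualNumber k) R := hflat
    have hsmul : ∀ (d : DualNumber k) (x : R), d • x = φ d * x := fun d x => rfl
    have h1 : (ε : DualNumber k) • y ∈ ((⊥ : Ideal (DualNumber k)) • ⊤ : Submodule (DualNumber k) R) := by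
      rw [hsmul, hb]
      exact Submodule.zero_mem _
    have h2 := Seat51T1Rigid.mem_colon_smul_top (⊥ : Ideal (DualNumber k)) ε y h1
    refine Submodule.smul_induction_on h2 ?_ ?_
    · intro d hd m _
      rw [hsmul, map_mul, hπφ, fst_eq_zero_of_mem_ker d hd, map_zero, zero_mul]
    · intro x y hx hy
      rw [map_add, hx, hy, add_zero]
  · intro x
    constructor
    · intro hx
      obtain ⟨w, rfl⟩ := hker x hx
      exact ⟨π w, extOfIncl_apply φ π hπ hker w⟩
    · rintro ⟨b, rfl⟩
      obtain ⟨y, rfl⟩ := hπ b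
      rw [extOfIncl_apply, map_mul, hπφ]
      simp
  · intro x z
    obtain ⟨w, rfl⟩ := hπ z
    rw [smul_eq_mul, ← map_mul, extOfIncl_apply, extOfIncl_apply]
    ring

/-- a flat `k[ε]`-algebra `R` with `R/εR = B`, as an extension of `B` by `B` -/
noncomputable def extOf (hflat : φ.toRingHom.Flat)
    (hπφ : ∀ d, π (φ d) = algebraMap k B (TrivSqZeroExt.fst d))
    (hker : ∀ y, π y = 0 → ∃ w, y = φ ε * w) : Exal.Ext k B B where
  E := R
  proj := π
  incl := extOfIncl φ π hπ hker
  isExtension := isExtension_extOf φ π hπ hflat hπφ hker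

lemma phiOf_extOf (hflat : φ.toRingHom.Flat)
    (hπφ : ∀ d, π (φ d) = algebraMap k B (TrivSqZeroExt.fst d))
    (hker : ∀ y, π y = 0 → ∃ w, y = φ ε * w) :
    phiOf (extOf φ π hπ hflat hπφ hker) = φ := by
  apply DualNumber.algHom_ext
  rw [phiOf_eps]
  show extOfIncl φ π hπ hker 1 = φ ε
  have := extOfIncl_apply φ π hπ hker 1
  rwa [map_one, mul_one] at this

end ExtOf

lemma ker_fstHom_le : RingHom.ker (TrivSqZeroExt.fstHom k k k).toRingHom ≤
    Ideal.span {(ε : DualNumber k)} := by
  intro d hd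
  have h0 : TrivSqZeroExt.fst d = 0 := hd
  have h1 : d = algebraMap k (DualNumber k) (TrivSqZeroExt.snd d) * ε := by
    rw [← Algebra.smul_def, ← DualNumber.inr_eq_smul_eps]
    apply TrivSqZeroExt.ext
    · simpa using h0
    · simp
  rw [h1]
  exact Ideal.mul_mem_left _ _ (Ideal.mem_span_singleton_self _)

theorem exists_iso_psi_aux (X' : Scheme.{u}) (g : X' ⟶ Spec (CommRingCat.of (DualNumber k))) [Flat g]
    (i : Spec (CommRingCat.of B) ⟶ X')
    (hsq : IsPullback i (Spec.map (CommRingCat.ofHom (algebraMap k B))) g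
      (Spec.map (CommRingCat.ofHom (TrivSqZeroExt.fstHom k k k).toRingHom))) :
    ∃ (E : Exal.Ext k B B) (φ : Spec (CommRingCat.of E.E) ≅ X'),
      φ.hom ≫ g = Spec.map (CommRingCat.ofHom (phiOf E).toRingHom) ∧
      Spec.map (CommRingCat.ofHom E.proj.toRingHom) ≫ φ.hom = i := by
  set e : DualNumber k →ₐ[k] k := TrivSqZeroExt.fstHom k k k with he
  have hnil := Seat51TrivDef.isNilpotent_ker_fstHom k
  obtain ⟨hci, hX'aff⟩ := Seat51TrivDef.isAffine_of_isPullback e hnil
    (Spec.map (CommRingCat.ofHom (algebraMap k B))) g i hsq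
  set φA : DualNumber k →+* Γ(X', ⊤) :=
    (g.appTop).hom.comp (Scheme.ΓSpecIso (CommRingCat.of (DualNumber k))).inv.hom with hφA
  set φk : k →+* Γ(Spec (CommRingCat.of B), ⊤) :=
    ((Spec.map (CommRingCat.ofHom (algebraMap k B))).appTop).hom.comp
      (Scheme.ΓSpecIso (CommRingCat.of k)).inv.hom with hφk
  letI algk' : Algebra k Γ(X', ⊤) := (φA.comp (algebraMap k (DualNumber k))).toAlgebra
  have hflat : φA.Flat := by
    have h1 : RingHom.Flat (g.appTop).hom :=
      (HasRingHomProperty.iff_of_isAffine (P := @Flat)).mp inferInstance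
    have h2 : RingHom.Flat (Scheme.ΓSpecIso (CommRingCat.of (DualNumber k))).inv.hom :=
      RingHom.Flat.of_bijective (ConcreteCategory.bijective_of_isIso _)
    exact h2.comp h1
  have hπe : ∀ a : DualNumber k, i.appTop.hom (φA a) = φk (e a) := by
    intro a
    have h1 := congrArg (fun f => f.appTop) hsq.w
    simp only [Scheme.Hom.comp_appTop] at h1
    have h2 : (Scheme.ΓSpecIso (CommRingCat.of (DualNumber k))).inv ≫ g.appTop ≫ i.appTop =
        CommRingCat.ofHom e.toRingHom ≫ (Scheme.ΓSpecIso (CommRingCat.of k)).inv ≫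
          (Spec.map (CommRingCat.ofHom (algebraMap k B))).appTop := by
      rw [h1, ← Category.assoc, ← Scheme.ΓSpecIso_inv_naturality, Category.assoc]
    exact congrArg (fun f => f.hom a) h2
  set γ : Γ(Spec (CommRingCat.of B), ⊤) →+* B := (Scheme.ΓSpecIso (CommRingCat.of B)).hom.hom
    with hγ
  have hγbij : Function.Bijective γ := ConcreteCategory.bijective_of_isIso _
  have hnat : ∀ c : k, γ (φk c) = algebraMap k B c := by
    intro c
    have h1 := Scheme.ΓSpecIso_naturality (CommRingCat.ofHom (algebraMap k B))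
    have h2 : (Scheme.ΓSpecIso (CommRingCat.of k)).inv ≫
        (Spec.map (CommRingCat.ofHom (algebraMap k B))).appTop ≫
          (Scheme.ΓSpecIso (CommRingCat.of B)).hom = CommRingCat.ofHom (algebraMap k B) := by
      rw [h1, Iso.inv_hom_id_assoc]
    exact congrArg (fun f => f.hom c) h2
  let π : Γ(X', ⊤) →ₐ[k] B :=
    { γ.comp i.appTop.hom with
      commutes' := fun c => by
        show γ (i.appTop.hom (φA (algebraMap k (DualNumber k) c))) = algebraMap k B c
        rw [hπe, ← hnat]
        simp [he] }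
  have hπapp : ∀ y, π y = γ (i.appTop.hom y) := fun y => rfl
  have hπ : Function.Surjective π :=
    hγbij.2.comp (IsClosedImmersion.isAffine_surjective_of_isAffine i).2
  let φ : DualNumber k →ₐ[k] Γ(X', ⊤) := { φA with commutes' := fun c => rfl }
  have hφapp : ∀ d, φ d = φA d := fun d => rfl
  have hφflat : φ.toRingHom.Flat := hflat
  have hπφ : ∀ d, π (φ d) = algebraMap k B (TrivSqZeroExt.fst d) := by
    intro d
    rw [hπapp, hφapp, hπe, hnat]
    rfl
  have hker : ∀ y, π y = 0 → ∃ w, y = φ ε * w := by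
    intro y hy
    rw [hπapp] at hy
    have hy0 : i.appTop.hom y = 0 := hγbij.1 (by rw [hy, map_zero])
    have h1 := Seat51TrivDef.ker_le_of_isPullback e
      (Spec.map (CommRingCat.ofHom (algebraMap k B))) g i hsq hy0
    have h2 := Ideal.map_mono (f := φA) ker_fstHom_le h1
    rw [Ideal.map_span, Set.image_singleton] at h2
    obtain ⟨a, ha⟩ := Ideal.mem_span_singleton'.mp h2
    exact ⟨a, by rw [← ha, mul_comm]; rfl⟩
  refine ⟨extOf φ π hπ hφflat hπφ hker, X'.isoSpec.symm, ?_, ?_⟩
  · rw [phiOf_extOf]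
    show X'.isoSpec.inv ≫ g = Spec.map (CommRingCat.ofHom φ.toRingHom)
    rw [Iso.inv_comp_eq]
    exact Seat51TrivDef.eq_isoSpec_hom_comp g
  · show Spec.map (CommRingCat.ofHom π.toRingHom) ≫ X'.isoSpec.inv = i
    rw [Iso.comp_inv_eq, ← Scheme.isoSpec_hom_naturality, Scheme.isoSpec_Spec_hom, ← Spec.map_comp]
    rfl

variable (k B) in
theorem nonempty_equiv_exalcom :
    Nonempty ((ArtFun.defFunctor (Λ := k) (Spec (CommRingCat.of B))
      (Spec.map (CommRingCat.ofHom (algebraMap k B)))).obj (ArtFun.Art.dual k k) ≃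
        Exal.Exalcom k B B) := by
  let F : Exal.Exalcom k B B → Quotient (ArtFun.DefSch.setoid (Spec (CommRingCat.of B))
      (Spec.map (CommRingCat.ofHom (algebraMap k B))) (ArtFun.Art.dual k k)) :=
    Quotient.map' psi (fun E E' h => by
      obtain ⟨e⟩ := h
      exact iso_psi_of_equiv e)
  have hinj : Function.Injective F := by
    intro q q'
    induction q using Quotient.inductionOn with
    | h E =>
      induction q' using Quotient.inductionOn with
      | h E' =>
        intro h
        have h1 : Nonempty ((psi E).Iso (psi E')) := Quotient.exact h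
        obtain ⟨h2⟩ := h1
        exact Quotient.sound (equiv_of_iso_psi h2)
  have hsurj : Function.Surjective F := by
    intro q
    induction q using Quotient.inductionOn with
    | h ξ =>
      obtain ⟨E, φ, h1, h2⟩ := @exists_iso_psi_aux k _ B _ _ ξ.total ξ.f ξ.flat ξ.i ξ.isPullback
      refine ⟨Quotient.mk _ E, ?_⟩
      exact Quotient.sound ⟨⟨φ, h1, h2⟩⟩
  exact ⟨(Equiv.ofBijective F ⟨hinj, hsurj⟩).symm⟩

end Psi

end Seat51DefExal
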