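import Mathlib
import Groth.Prelude.Def_ArtFun4
import Groth.Agent.Lib.Seat51DefExal

/-!
# Deformations of an affine scheme from algebra data (helper36)

For `A : Art Λ k` and a `k`-algebra `B₀`, an `AlgDef B₀ A` is a flat `A`-algebra `B` with a surjection
`π : B → B₀` over `A.res` whose kernel is `m_A B`.  It gives a deformation `toDefSch` of `Spec B₀`
over `A` (prelude `ArtFun.DefSch`).

* `AlgDef.toDefSch`
* `AlgDef.isoOfRingEquiv`: an isomorphism of algebra data gives an isomorphism of deformations.
* `AlgDef.baseChangeIso`: a pushout square of algebra data computes `DefSch.baseChange`.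
* `AlgDef.exists_hom_of_iso`: an isomorphism of deformations gives a ring map of algebra data.
-/

set_option autoImplicit false

universe u

open CategoryTheory CategoryTheory.Limits AlgebraicGeometry ArtFun ArtFun.Art

namespace Groth.Agent.Lib.Seat36.DefAlg

variable {Λ k : Type u} [CommRing Λ] [Field k] [Algebra Λ k]
variable (B₀ : Type u) [CommRing B₀] [Algebra k B₀]

lemma cl_eq_of_iso {X : Scheme.{u}} {x : X ⟶ specPt k} {A : Art Λ k} {ξ ξ' : DefSch X x A}
    (e : ξ.Iso ξ') : ξ.cl = ξ'.cl :=
  Quotient.sound ⟨e⟩

lemma nonempty_iso_of_cl_eq {X : Scheme.{u}} {x : X ⟶ specPt k} {A : Art Λ k} {ξ ξ' : DefSch X x A}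
    (h : ξ.cl = ξ'.cl) : Nonempty (ξ.Iso ξ') :=
  Quotient.exact h

/-- algebra data of a deformation of `Spec B₀` over `A` -/
structure AlgDef (A : Art Λ k) where
  /-- the coordinate ring -/
  B : Type u
  [commRing : CommRing B]
  [algebra : Algebra A B]
  flat : Module.Flat A B
  /-- the reduction map -/
  π : B →+* B₀
  π_surj : Function.Surjective π
  π_alg : ∀ a : A, π (algebraMap A B a) = algebraMap k B₀ (A.res a)
  ker_π : RingHom.ker π ≤ (RingHom.ker A.res.toRingHom).map (algebraMap A B)

namespace AlgDef

variable {B₀} {A : Art Λ k}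

instance (D : AlgDef B₀ A) : CommRing D.B := D.commRing
instance (D : AlgDef B₀ A) : Algebra A D.B := D.algebra

lemma isPushout (D : AlgDef B₀ A) :
    IsPushout (CommRingCat.ofHom (algebraMap A D.B)) (CommRingCat.ofHom A.res.toRingHom)
      (CommRingCat.ofHom D.π) (CommRingCat.ofHom (algebraMap k B₀)) := by
  refine (Seat51DefExal.isPushout_of_surjective A.res.toRingHom (algebraMap A D.B) D.π
    (algebraMap k B₀) ?_ A.res_surjective D.π_surj D.ker_π).flip
  ext a
  exact (D.π_alg a).symm

/-- the deformation of `Spec B₀` attached to algebra data -/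
@[reducible] noncomputable def toDefSch (D : AlgDef B₀ A) :
    DefSch (Spec (CommRingCat.of B₀)) (Spec.map (CommRingCat.ofHom (algebraMap k B₀))) A where
  total := Spec (CommRingCat.of D.B)
  f := Spec.map (CommRingCat.ofHom (algebraMap A D.B))
  flat := by
    rw [Flat.SpecMap_iff]
    exact RingHom.flat_algebraMap_iff.mpr D.flat
  i := Spec.map (CommRingCat.ofHom D.π)
  isPullback := isPullback_SpecMap_of_isPushout _ _ _ _ D.isPushout

/-- an isomorphism of algebra data gives an isomorphism of deformations -/
noncomputable def isoOfRingEquiv (D D' : AlgDef B₀ A) (e : D.B ≃+* D'.B)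
    (he : ∀ a : A, e (algebraMap A D.B a) = algebraMap A D'.B a)
    (hπ : ∀ b : D.B, D'.π (e b) = D.π b) : D.toDefSch.Iso D'.toDefSch where
  iso :=
    { hom := Spec.map (CommRingCat.ofHom e.symm.toRingHom)
      inv := Spec.map (CommRingCat.ofHom e.toRingHom)
      hom_inv_id := by
        change Spec.map _ ≫ Spec.map _ = 𝟙 (Spec (CommRingCat.of D.B))
        rw [← Spec.map_comp, ← CommRingCat.ofHom_comp]
        have : e.symm.toRingHom.comp e.toRingHom = RingHom.id _ := by
          ext b; simp
        rw [this]
        exact Spec.map_id _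
      inv_hom_id := by
        change Spec.map _ ≫ Spec.map _ = 𝟙 (Spec (CommRingCat.of D'.B))
        rw [← Spec.map_comp, ← CommRingCat.ofHom_comp]
        have : e.toRingHom.comp e.symm.toRingHom = RingHom.id _ := by
          ext b; simp
        rw [this]
        exact Spec.map_id _ }
  hom_f := by
    change Spec.map _ ≫ Spec.map _ = Spec.map _
    rw [← Spec.map_comp, ← CommRingCat.ofHom_comp]
    congr 2
    ext a
    change e.symm (algebraMap A D'.B a) = algebraMap A D.B a
    rw [RingEquiv.symm_apply_eq, he]
  i_hom := by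
    change Spec.map _ ≫ Spec.map _ = Spec.map _
    rw [← Spec.map_comp, ← CommRingCat.ofHom_comp]
    congr 2
    ext b
    change D.π (e.symm b) = D'.π b
    rw [← hπ, RingEquiv.apply_symm_apply]

/-- a pushout square of algebra data computes the base change of deformations -/
noncomputable def baseChangeIso {A'' : Art Λ k} (g : A ⟶ A'') (D : AlgDef B₀ A) (D'' : AlgDef B₀ A'')
    (ψ : D.B →+* D''.B)
    (hπ : ∀ b : D.B, D''.π (ψ b) = D.π b)
    (hpo : IsPushout (CommRingCat.ofHom (algebraMap A D.B)) (CommRingCat.ofHom g.toAlgHom.toRingHom)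
      (CommRingCat.ofHom ψ) (CommRingCat.ofHom (algebraMap A'' D''.B))) :
    (D.toDefSch.baseChange g).Iso D''.toDefSch :=
  let pb := isPullback_SpecMap_of_isPushout _ _ _ _ hpo
  { iso := (IsPullback.of_hasPullback D.toDefSch.f (specMap g)).isoIsPullback _ _ pb
    hom_f := IsPullback.isoIsPullback_hom_snd _ _ _ _
    i_hom := by
      have hfst := IsPullback.isoIsPullback_hom_fst _ _
        (IsPullback.of_hasPullback D.toDefSch.f (specMap g)) pb
      have hsnd := IsPullback.isoIsPullback_hom_snd _ _
        (IsPullback.of_hasPullback D.toDefSch.f (specMap g)) pb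
      apply pb.hom_ext
      · rw [Category.assoc, hfst, DefSch.baseChange_i_fst]
        change Spec.map _ = Spec.map _ ≫ Spec.map _
        rw [← Spec.map_comp, ← CommRingCat.ofHom_comp]
        congr 2
        ext b
        exact (hπ b).symm
      · rw [Category.assoc, hsnd]
        exact (DefSch.baseChange_i_f D.toDefSch g).trans (DefSch.i_f D''.toDefSch).symm }

/-- an isomorphism of deformations gives a ring map of algebra data -/
theorem exists_hom_of_iso (D D' : AlgDef B₀ A) (E : D.toDefSch.Iso D'.toDefSch) :
    ∃ Φ : D'.B →+* D.B, (∀ a : A, Φ (algebraMap A D'.B a) = algebraMap A D.B a) ∧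
      ∀ b : D'.B, D.π (Φ b) = D'.π b := by
  let θ : CommRingCat.of D'.B ⟶ CommRingCat.of D.B := Spec.preimage E.iso.hom
  have hθ : Spec.map θ = E.iso.hom := Spec.map_preimage _
  refine ⟨θ.hom, ?_, ?_⟩
  · have h1 : Spec.map θ ≫ Spec.map (CommRingCat.ofHom (algebraMap A D'.B)) =
        Spec.map (CommRingCat.ofHom (algebraMap A D.B)) := by
      rw [hθ]; exact E.hom_f
    rw [← Spec.map_comp] at h1
    have h2 := Spec.map_injective h1
    intro a
    exact congrArg (fun t => t.hom a) h2
  · have h1 : Spec.map (CommRingCat.ofHom D.π) ≫ Spec.map θ =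
        Spec.map (CommRingCat.ofHom D'.π) := by
      rw [hθ]; exact E.i_hom
    rw [← Spec.map_comp] at h1
    have h2 := Spec.map_injective h1
    intro b
    exact congrArg (fun t => t.hom b) h2

end AlgDef

end Groth.Agent.Lib.Seat36.DefAlg
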