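/-
Seat36DenseSubmonoid (helper36): a dense, multiplicatively stable image of a morphism of finite type
into a group scheme locally of finite type over a field is everything (Chevalley + `U · U = G`).
-/
import Mathlib
import Groth.Agent.Lib.Helper25DenseMul
import Groth.Agent.Lib.Helper25TopGrp
import Groth.Agent.Lib.Helper25OrbitLC

set_option autoImplicit false
universe u
open CategoryTheory AlgebraicGeometry Limits TopologicalSpace MonoidalCategory
  CartesianMonoidalCategory MonObj Topology

namespace Groth.Agent.Lib.Seat36.DenseSubmonoid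

open Groth.Agent.Lib.Helper25.OrbitLC

/-- A dense locally constructible subset of a quasi-separated scheme has dense interior. -/
theorem dense_interior_of_isLocallyConstructible {X : Scheme.{u}} [QuasiSeparatedSpace X]
    {Z : Set X} (hZ : IsLocallyConstructible Z) (hd : Dense Z) : Dense (interior Z) := by
  rw [dense_iff_inter_open]
  intro U hU hUne
  obtain ⟨x, hx⟩ := hUne
  obtain ⟨_, ⟨(U' : X.Opens), hU'aff, rfl⟩, hxU', hU'U⟩ :=
    (X.isBasis_affineOpens).exists_subset_of_mem_open hx hU
  have hU'aff : IsAffineOpen U' := hU'aff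
  have hcons : IsConstructible (Z ∩ (U' : Set X)) :=
    hZ.inter_of_isOpen_isCompact U'.isOpen hU'aff.isCompact
  have hne : (Z ∩ (U' : Set X)).Nonempty := by
    obtain ⟨y, hy1, hy2⟩ := hd.inter_open_nonempty _ U'.isOpen ⟨x, hxU'⟩
    exact ⟨y, hy2, hy1⟩
  obtain ⟨V, hV, hVne, hVsub⟩ := (IsFinLC.of_isConstructible hcons).exists_isOpen hne
  have hsub : (U' : Set X) ⊆ closure (Z ∩ (U' : Set X)) := by
    have := hd.open_subset_closure_inter U'.isOpen
    rwa [Set.inter_comm] at this
  obtain ⟨y, hyV, hycl⟩ := hVne
  obtain ⟨w, hwV, hwZ, hwU'⟩ := mem_closure_iff.mp hycl V hV hyV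
  refine ⟨w, hU'U hwU', ?_⟩
  rw [mem_interior]
  refine ⟨V ∩ (U' : Set X), ?_, hV.inter U'.isOpen, hwV, hwU'⟩
  rintro z ⟨hzV, hzU'⟩
  exact (hVsub ⟨hzV, hsub hzU'⟩).1

variable (k : Type u) [Field k]

/-- A morphism of finite type `f : X ⟶ H` into a group scheme locally of finite type over a
field, with dense image stable under multiplication, is surjective. -/
theorem surjective_of_dense_of_mul (H X : Over (Spec (CommRingCat.of k))) [GrpObj H]
    [LocallyOfFiniteType H.hom] [LocallyOfFiniteType X.hom] [QuasiCompact X.hom]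
    (f : X ⟶ H) (hd : Dense (Set.range f.left))
    (hmul : ∃ r : X ⊗ X ⟶ X, r ≫ f = (fst X X ≫ f) * (snd X X ≫ f)) :
    Function.Surjective f.left := by
  have hHn : IsLocallyNoetherian H.left := LocallyOfFiniteType.isLocallyNoetherian H.hom
  have hXc : CompactSpace X.left := QuasiCompact.compactSpace_of_compactSpace X.hom
  have hlft : LocallyOfFiniteType f.left := by
    have : LocallyOfFiniteType (f.left ≫ H.hom) := by
      rw [Over.w]; infer_instance
    exact locallyOfFiniteType_of_comp f.left H.hom
  have hlfp : LocallyOfFinitePresentation f.left := inferInstance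
  have hqc : QuasiCompact f.left := inferInstance
  have hcons : IsLocallyConstructible (Set.range f.left) := by
    rw [← Set.image_univ]
    exact f.left.isLocallyConstructible_image IsLocallyConstructible.univ
  have hint := dense_interior_of_isLocallyConstructible hcons hd
  let U : H.left.Opens := ⟨interior (Set.range f.left), isOpen_interior⟩
  intro g
  obtain ⟨z, hz1, hz2, hz3⟩ := Groth.Agent.Lib.Helper25.DenseMul.exists_mul_eq k H U U hint hint g
  have hz : z ∈ Set.range (f ⊗ₘ f).left := by
    rw [Groth.Agent.Lib.Helper25.TopGrp.range_tensorHom]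
    have h1 : (fst H H).left z ∈ Set.range f.left :=
      interior_subset (s := Set.range f.left) hz1
    have h2 : (snd H H).left z ∈ Set.range f.left :=
      interior_subset (s := Set.range f.left) hz2
    exact ⟨h1, h2⟩
  obtain ⟨s, rfl⟩ := hz
  obtain ⟨r, hr⟩ := hmul
  refine ⟨r.left s, ?_⟩
  rw [← hz3]
  change (r ≫ f).left s = ((f ⊗ₘ f) ≫ μ[H]).left s
  rw [hr, Hom.mul_def]
  congr 3
end Groth.Agent.Lib.Seat36.DenseSubmonoid
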