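-- helper36: extending a DVR over k with separable residue field to a DVR over an arbitrary field
-- extension k'/k (localize k' ⊗_k R at a minimal prime over the uniformizer, kill ⋂ ϖⁿ).
import Mathlib
import Groth.Agent.Lib.Helper14GeomRed

set_option autoImplicit false
set_option linter.style.haveILetI false
set_option linter.unnecessarySimpa false
universe u
open IsLocalRing TensorProduct

namespace Groth.Agent.Lib.Seat36.FieldGonflement

section Generic

variable {B : Type u} [CommRing B] [IsLocalRing B] {π : B}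

theorem exists_unit_mul_pow' (hm : maximalIdeal B = Ideal.span {π})
    (hinf : ⨅ n : ℕ, Ideal.span {π ^ n} = (⊥ : Ideal B)) {x : B} (hx : x ≠ 0) :
    ∃ (n : ℕ) (v : Bˣ), x = v * π ^ n := by
  classical
  have hex : ∃ n : ℕ, x ∉ Ideal.span {π ^ n} := by
    by_contra hall
    push Not at hall
    have : x ∈ ⨅ n : ℕ, Ideal.span {π ^ n} := by
      rw [Ideal.mem_iInf]
      exact hall
    rw [hinf] at this
    exact hx this
  have hn0 : Nat.find hex ≠ 0 := by
    intro h0
    have := Nat.find_spec hex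
    rw [h0, pow_zero, Ideal.span_singleton_one] at this
    exact this trivial
  obtain ⟨n, hn⟩ : ∃ n, Nat.find hex = n + 1 := ⟨Nat.find hex - 1, by omega⟩
  have h1 : x ∈ Ideal.span {π ^ n} := by
    by_contra hcon
    have := Nat.find_min' hex hcon
    omega
  have h2 : x ∉ Ideal.span {π ^ (n + 1)} := hn ▸ Nat.find_spec hex
  rw [Ideal.mem_span_singleton'] at h1
  obtain ⟨y, hy⟩ := h1
  have hyu : IsUnit y := by
    by_contra hnu
    have hym : y ∈ maximalIdeal B := (mem_maximalIdeal y).mpr hnu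
    rw [hm, Ideal.mem_span_singleton'] at hym
    obtain ⟨z, hz⟩ := hym
    apply h2
    rw [Ideal.mem_span_singleton']
    refine ⟨z, ?_⟩
    rw [← hy, ← hz, pow_succ]
    ring
  obtain ⟨v, rfl⟩ := hyu
  exact ⟨n, v, hy.symm⟩

theorem isDomain_of_regular_span' (hπ : π ∈ nonZeroDivisors B)
    (hm : maximalIdeal B = Ideal.span {π})
    (hinf : ⨅ n : ℕ, Ideal.span {π ^ n} = (⊥ : Ideal B)) : IsDomain B := by
  have : NoZeroDivisors B := by
    refine ⟨fun {x y} hxy => ?_⟩
    by_contra hcon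
    push Not at hcon
    obtain ⟨a, v, rfl⟩ := exists_unit_mul_pow' hm hinf hcon.1
    obtain ⟨b, w, rfl⟩ := exists_unit_mul_pow' hm hinf hcon.2
    have h1 : π ^ (a + b) * ((v : B) * w) = 0 := by
      rw [← hxy, pow_add]
      ring
    have h2 : π ^ (a + b) ∈ nonZeroDivisors B := pow_mem hπ _
    have h3 : ((v : B) * w) = 0 := (mul_left_mem_nonZeroDivisors_eq_zero_iff h2).mp h1
    exact (v * w).ne_zero h3
  exact NoZeroDivisors.to_isDomain B

theorem isDiscreteValuationRing_of_regular_span' [IsDomain B] (hπ : π ∈ nonZeroDivisors B)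
    (hm : maximalIdeal B = Ideal.span {π})
    (hinf : ⨅ n : ℕ, Ideal.span {π ^ n} = (⊥ : Ideal B)) : IsDiscreteValuationRing B := by
  have hπ0 : π ≠ 0 := nonZeroDivisors.ne_zero hπ
  have hπnu : ¬ IsUnit π := by
    have : π ∈ maximalIdeal B := by
      rw [hm]
      exact Ideal.mem_span_singleton_self π
    exact (mem_maximalIdeal π).mp this
  apply IsDiscreteValuationRing.ofHasUnitMulPowIrreducibleFactorization
  refine ⟨π, ⟨hπnu, fun a b hab => ?_⟩, fun {x} hx => ?_⟩
  · by_contra hcon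
    push Not at hcon
    have ha : a ∈ maximalIdeal B := (mem_maximalIdeal a).mpr hcon.1
    have hb : b ∈ maximalIdeal B := (mem_maximalIdeal b).mpr hcon.2
    rw [hm, Ideal.mem_span_singleton'] at ha hb
    obtain ⟨a', rfl⟩ := ha
    obtain ⟨b', rfl⟩ := hb
    have h1 : π * 1 = π * (π * (a' * b')) := by
      rw [mul_one]
      conv_lhs => rw [hab]
      ring
    have h2 := mul_left_cancel₀ hπ0 h1
    exact hπnu (.of_mul_eq_one (a' * b') h2.symm)
  · obtain ⟨n, v, rfl⟩ := exists_unit_mul_pow' hm hinf hx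
    exact ⟨n, v, by rw [mul_comm]⟩

end Generic

section Quot

variable {C : Type u} [CommRing C] [IsLocalRing C] {π : C}

/-- In a local ring with maximal ideal `(π)`, `π` regular, the quotient by `⋂ (πⁿ)` is a DVR. -/
theorem quotient_iInf_span_pow (hπ : π ∈ nonZeroDivisors C)
    (hm : maximalIdeal C = Ideal.span {π}) (J : Ideal C)
    (hJ : J = ⨅ n : ℕ, Ideal.span {π ^ n}) :
    ∃ (_ : IsDomain (C ⧸ J)) (_ : IsDiscreteValuationRing (C ⧸ J)),
      maximalIdeal (C ⧸ J) = Ideal.span {Ideal.Quotient.mk J π} := by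
  have hJle : ∀ n : ℕ, J ≤ Ideal.span {π ^ n} := fun n => hJ ▸ iInf_le _ n
  have hJm : J ≤ maximalIdeal C := by
    rw [hm]
    simpa using hJle 1
  have hJtop : J ≠ ⊤ := fun h => (maximalIdeal.isMaximal C).ne_top (top_le_iff.mp (h ▸ hJm))
  haveI : Nontrivial (C ⧸ J) := Ideal.Quotient.nontrivial_iff.mpr hJtop
  haveI : IsLocalRing (C ⧸ J) :=
    IsLocalRing.of_surjective' (Ideal.Quotient.mk J) Ideal.Quotient.mk_surjective
  have hmq : maximalIdeal (C ⧸ J) = Ideal.span {Ideal.Quotient.mk J π} := by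
    apply le_antisymm
    · intro x hx
      obtain ⟨x, rfl⟩ := Ideal.Quotient.mk_surjective x
      have hxnu : ¬ IsUnit x := fun hu => (mem_maximalIdeal _).mp hx (hu.map _)
      have hxm : x ∈ maximalIdeal C := (mem_maximalIdeal x).mpr hxnu
      rw [hm, Ideal.mem_span_singleton'] at hxm
      obtain ⟨y, rfl⟩ := hxm
      rw [map_mul]
      exact Ideal.mul_mem_left _ _ (Ideal.mem_span_singleton_self _)
    · rw [Ideal.span_singleton_le_iff_mem, mem_maximalIdeal]
      intro hu
      obtain ⟨y, hy⟩ := hu.exists_right_inv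
      obtain ⟨y, rfl⟩ := Ideal.Quotient.mk_surjective y
      rw [← map_mul, ← map_one (Ideal.Quotient.mk J), Ideal.Quotient.eq] at hy
      have h1 : π * y - 1 ∈ maximalIdeal C := hJm hy
      have h2 : π * y ∈ maximalIdeal C := by
        rw [hm]
        exact Ideal.mul_mem_right _ _ (Ideal.mem_span_singleton_self π)
      have h3 : (1 : C) ∈ maximalIdeal C := by
        have := Ideal.sub_mem _ h2 h1
        simpa using this
      exact (maximalIdeal.isMaximal C).ne_top ((Ideal.eq_top_iff_one _).mpr h3)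
  have hreg : Ideal.Quotient.mk J π ∈ nonZeroDivisors (C ⧸ J) := by
    rw [mem_nonZeroDivisors_iff_right]
    intro x hx
    obtain ⟨x, rfl⟩ := Ideal.Quotient.mk_surjective x
    rw [← map_mul, Ideal.Quotient.eq_zero_iff_mem] at hx
    rw [Ideal.Quotient.eq_zero_iff_mem, hJ, Ideal.mem_iInf]
    intro n
    have h1 := hJle (n + 1) hx
    rw [Ideal.mem_span_singleton'] at h1 ⊢
    obtain ⟨y, hy⟩ := h1
    refine ⟨y, ?_⟩
    have h2 : (y * π ^ n - x) * π = 0 := by
      rw [sub_mul, sub_eq_zero, ← hy, pow_succ]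
      ring
    have h3 := (mem_nonZeroDivisors_iff_right.mp hπ) _ h2
    exact sub_eq_zero.mp h3
  have hinf : ⨅ n : ℕ, Ideal.span {(Ideal.Quotient.mk J π) ^ n} = (⊥ : Ideal (C ⧸ J)) := by
    rw [eq_bot_iff]
    intro x hx
    obtain ⟨x, rfl⟩ := Ideal.Quotient.mk_surjective x
    rw [Ideal.mem_iInf] at hx
    rw [Ideal.mem_bot, Ideal.Quotient.eq_zero_iff_mem, hJ, Ideal.mem_iInf]
    intro n
    have h1 := hx n
    rw [Ideal.mem_span_singleton'] at h1
    obtain ⟨y, hy⟩ := h1
    obtain ⟨y, rfl⟩ := Ideal.Quotient.mk_surjective y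
    rw [← map_pow, ← map_mul, Ideal.Quotient.eq] at hy
    have h2 := hJle n hy
    have h3 : y * π ^ n ∈ Ideal.span {π ^ n} :=
      Ideal.mul_mem_left _ _ (Ideal.mem_span_singleton_self _)
    have := Ideal.sub_mem _ h3 h2
    simpa using this
  haveI hdom : IsDomain (C ⧸ J) := isDomain_of_regular_span' hreg hmq hinf
  exact ⟨hdom, isDiscreteValuationRing_of_regular_span' hreg hmq hinf, hmq⟩

end Quot

section GeomRed

open Groth.Agent.Lib.Helper14.GeomRed

/-- Base change of a geometrically reduced algebra to a field extension is geometrically reduced. -/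
theorem isGeometricallyReduced_baseChange (k k' κ : Type u) [Field k] [Field k'] [Algebra k k']
    [CommRing κ] [Algebra k κ] [Algebra.IsGeometricallyReduced k κ] :
    Algebra.IsGeometricallyReduced k' (k' ⊗[k] κ) := by
  rw [Algebra.isGeometricallyReduced_field_iff]
  haveI : IsReduced (AlgebraicClosure k' ⊗[k] κ) :=
    isReduced_tensor_of_isGeometricallyReduced (k := k) (S := κ) (AlgebraicClosure k')
  let e := Algebra.TensorProduct.cancelBaseChange k k' (AlgebraicClosure k') (AlgebraicClosure k') κ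
  exact isReduced_of_injective e e.injective

/-- A localization of a geometrically reduced algebra over a field is geometrically reduced. -/
theorem isGeometricallyReduced_of_isLocalization (k' T T' : Type u) [Field k'] [CommRing T]
    [Algebra k' T] [Algebra.IsGeometricallyReduced k' T] (M : Submonoid T) [CommRing T']
    [Algebra T T'] [IsLocalization M T'] [Algebra k' T'] [IsScalarTower k' T T'] :
    Algebra.IsGeometricallyReduced k' T' := by
  rw [Algebra.isGeometricallyReduced_field_iff]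
  let K := AlgebraicClosure k'
  haveI h0 : IsReduced (K ⊗[k'] T) := (Algebra.isGeometricallyReduced_field_iff k' T).mp inferInstance
  haveI h1 : IsReduced (T ⊗[k'] K) :=
    isReduced_of_injective (Algebra.TensorProduct.comm k' T K) (Algebra.TensorProduct.comm k' T K).injective
  haveI h2 : IsReduced ((T ⊗[k'] K) ⊗[T] T') :=
    isReduced_localizationPreserves (Algebra.algebraMapSubmonoid (T ⊗[k'] K) M) _ h1
  haveI h3 : IsReduced (T' ⊗[T] (T ⊗[k'] K)) :=
    isReduced_of_injective (Algebra.TensorProduct.comm T T' (T ⊗[k'] K))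
      (Algebra.TensorProduct.comm T T' (T ⊗[k'] K)).injective
  let e := Algebra.TensorProduct.cancelBaseChange k' T T' T' K
  haveI h4 : IsReduced (T' ⊗[k'] K) := isReduced_of_injective e.symm e.symm.injective
  exact isReduced_of_injective (Algebra.TensorProduct.comm k' K T')
    (Algebra.TensorProduct.comm k' K T').injective

/-- If a local `k'`-algebra `B` maps to a nontrivial geometrically reduced `k'`-algebra killing the
maximal ideal, its residue field is geometrically reduced over `k'`. -/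
theorem isGeometricallyReduced_residue_of_algHom (k' B T' : Type u) [Field k'] [CommRing B]
    [IsLocalRing B] [Algebra k' B] [CommRing T'] [Nontrivial T'] [Algebra k' T']
    [Algebra.IsGeometricallyReduced k' T'] (ψ : B →ₐ[k'] T')
    (hψ : ∀ a ∈ maximalIdeal B, ψ a = 0) :
    Algebra.IsGeometricallyReduced k' (B ⧸ maximalIdeal B) := by
  have hinj : Function.Injective (Ideal.Quotient.liftₐ (maximalIdeal B) ψ hψ) := by
    refine RingHom.lift_injective_of_ker_le_ideal (maximalIdeal B) (f := ψ.toRingHom) hψ ?_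
    intro a ha
    rw [mem_maximalIdeal]
    intro hu
    have h1 : IsUnit (ψ a) := hu.map ψ
    have h2 : ψ a = 0 := ha
    rw [h2] at h1
    exact not_isUnit_zero h1
  exact Algebra.IsGeometricallyReduced.of_injective _ hinj

end GeomRed

section Main

open Groth.Agent.Lib.Helper14.GeomRed

set_option maxHeartbeats 1600000 in
/-- A DVR `R` over `k` with geometrically reduced residue field extends, for every field extension
`k'/k`, to a DVR `R'` over `k'` with geometrically reduced residue field, along a local injective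
homomorphism compatible with `k → k'`. -/
theorem exists_dvr_extension (k k' R : Type u) [Field k] [Field k'] [Algebra k k'] [CommRing R]
    [IsDomain R] [IsDiscreteValuationRing R] [Algebra k R]
    (hκ : Algebra.IsGeometricallyReduced k (R ⧸ maximalIdeal R)) :
    ∃ (R' : Type u) (_ : CommRing R') (_ : IsDomain R') (_ : IsDiscreteValuationRing R')
      (_ : Algebra k' R') (φ : R →+* R'), IsLocalHom φ ∧ Function.Injective φ ∧
      φ.comp (algebraMap k R) = (algebraMap k' R').comp (algebraMap k k') ∧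
      Algebra.IsGeometricallyReduced k' (R' ⧸ maximalIdeal R') := by
  classical
  obtain ⟨ϖ, hϖ⟩ := IsDiscreteValuationRing.exists_irreducible R
  have hmR : maximalIdeal R = Ideal.span {ϖ} := hϖ.maximalIdeal_eq
  -- the rings A = k' ⊗ R, T = k' ⊗ κ
  let g : R →ₐ[k] (R ⧸ maximalIdeal R) := Ideal.Quotient.mkₐ k (maximalIdeal R)
  have hg : Function.Surjective g := Ideal.Quotient.mkₐ_surjective k _
  let ρ : k' ⊗[k] R →ₐ[k] k' ⊗[k] (R ⧸ maximalIdeal R) :=
    Algebra.TensorProduct.map (AlgHom.id k k') g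
  have hρsurj : Function.Surjective ρ :=
    Algebra.TensorProduct.map_surjective (AlgHom.id k k') g Function.surjective_id hg
  have hρker : RingHom.ker ρ = Ideal.span {(1 : k') ⊗ₜ[k] ϖ} := by
    have h1 := Algebra.TensorProduct.lTensor_ker (A := k') g hg
    have h2 : RingHom.ker g = maximalIdeal R := Ideal.Quotient.mkₐ_ker k (maximalIdeal R)
    refine h1.trans ?_
    rw [h2, hmR, Ideal.map_span, Set.image_singleton]
    rfl
  have hρϖ : ρ ((1 : k') ⊗ₜ[k] ϖ) = 0 := by
    have : (1 : k') ⊗ₜ[k] ϖ ∈ RingHom.ker ρ := by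
      rw [hρker]; exact Ideal.mem_span_singleton_self _
    exact this
  haveI hTred : IsReduced (k' ⊗[k] (R ⧸ maximalIdeal R)) :=
    isReduced_tensor_of_isGeometricallyReduced (k := k) (S := R ⧸ maximalIdeal R) k'
  haveI hTgr : Algebra.IsGeometricallyReduced k' (k' ⊗[k] (R ⧸ maximalIdeal R)) :=
    isGeometricallyReduced_baseChange k k' (R ⧸ maximalIdeal R)
  -- a minimal prime of T
  obtain ⟨⟨𝔮, h𝔮⟩⟩ := Ideal.nonempty_minimalPrimes
    (I := (⊥ : Ideal (k' ⊗[k] (R ⧸ maximalIdeal R)))) bot_ne_top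
  haveI h𝔮p : 𝔮.IsPrime := h𝔮.1.1
  let 𝔓 : Ideal (k' ⊗[k] R) := 𝔮.comap ρ.toRingHom
  haveI h𝔓p : 𝔓.IsPrime := Ideal.IsPrime.comap _
  -- the localization of T at 𝔮 kills 𝔮
  have h𝔮map : 𝔮.map (algebraMap _ (Localization.AtPrime 𝔮)) = ⊥ := by
    rw [← IsLocalization.AtPrime.radical_map_of_mem_minimalPrimes (Localization.AtPrime 𝔮) 𝔮 ⊥ h𝔮,
      Ideal.map_bot]
    exact nilradical_eq_zero _
  -- C and its maximal ideal
  let ϖC : Localization.AtPrime 𝔓 := algebraMap (k' ⊗[k] R) _ ((1 : k') ⊗ₜ[k] ϖ)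
  have hϖ𝔓 : (1 : k') ⊗ₜ[k] ϖ ∈ 𝔓 := by
    change ρ ((1 : k') ⊗ₜ[k] ϖ) ∈ 𝔮
    rw [hρϖ]; exact 𝔮.zero_mem
  have hmC : maximalIdeal (Localization.AtPrime 𝔓) = Ideal.span {ϖC} := by
    rw [← Localization.AtPrime.map_eq_maximalIdeal]
    apply le_antisymm
    · rw [Ideal.map_le_iff_le_comap]
      intro x hx
      have hx' : ρ x ∈ 𝔮 := hx
      have h1 : algebraMap _ (Localization.AtPrime 𝔮) (ρ x) = 0 := by
        have : algebraMap _ (Localization.AtPrime 𝔮) (ρ x) ∈
            𝔮.map (algebraMap _ (Localization.AtPrime 𝔮)) := Ideal.mem_map_of_mem _ hx'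
        rw [h𝔮map] at this
        exact this
      obtain ⟨⟨s, hs⟩, hsx⟩ := (IsLocalization.map_eq_zero_iff 𝔮.primeCompl _ _).mp h1
      obtain ⟨s', rfl⟩ := hρsurj s
      have hs' : s' ∈ 𝔓.primeCompl := hs
      have h2 : s' * x ∈ RingHom.ker ρ := by
        rw [RingHom.mem_ker, map_mul]
        exact hsx
      rw [hρker, Ideal.mem_span_singleton'] at h2
      obtain ⟨a, ha⟩ := h2
      have hunit : IsUnit (algebraMap (k' ⊗[k] R) (Localization.AtPrime 𝔓) s') :=
        IsLocalization.map_units _ (⟨s', hs'⟩ : 𝔓.primeCompl)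
      rw [Ideal.mem_comap, Ideal.mem_span_singleton']
      refine ⟨((hunit.unit⁻¹ : (Localization.AtPrime 𝔓)ˣ) : Localization.AtPrime 𝔓) *
        algebraMap _ _ a, ?_⟩
      have h3 : algebraMap (k' ⊗[k] R) (Localization.AtPrime 𝔓) a * ϖC =
          algebraMap _ _ s' * algebraMap _ _ x := by
        rw [← map_mul, ← map_mul, ha]
      rw [mul_assoc, h3, ← mul_assoc, IsUnit.val_inv_mul, one_mul]
    · rw [Ideal.span_singleton_le_iff_mem]
      exact Ideal.mem_map_of_mem _ hϖ𝔓
  -- regularity of ϖ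
  have hϖA : (1 : k') ⊗ₜ[k] ϖ ∈ nonZeroDivisors (k' ⊗[k] R) := by
    rw [mem_nonZeroDivisors_iff_right]
    have hinj : Function.Injective (LinearMap.lTensor k' (LinearMap.mulRight k ϖ)) := by
      apply Module.Flat.lTensor_preserves_injective_linearMap
      intro a b hab
      exact mul_right_cancel₀ hϖ.ne_zero hab
    have h1 : ∀ x : k' ⊗[k] R,
        LinearMap.lTensor k' (LinearMap.mulRight k ϖ) x = x * ((1 : k') ⊗ₜ[k] ϖ) := by
      intro x
      induction x using TensorProduct.induction_on with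
      | zero => simp
      | tmul a b => simp [Algebra.TensorProduct.tmul_mul_tmul]
      | add a b ha hb => rw [map_add, ha, hb, add_mul]
    intro x hx
    apply hinj
    rw [h1, hx, map_zero]
  have hϖCreg : ϖC ∈ nonZeroDivisors (Localization.AtPrime 𝔓) :=
    IsLocalization.map_nonZeroDivisors_le 𝔓.primeCompl _ ⟨_, hϖA, rfl⟩
  -- the DVR
  obtain ⟨J, hJ⟩ : ∃ J : Ideal (Localization.AtPrime 𝔓), J = ⨅ n : ℕ, Ideal.span {ϖC ^ n} :=
    ⟨_, rfl⟩
  obtain ⟨hdom, hdvr, hmq⟩ := quotient_iInf_span_pow hϖCreg hmC J hJ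
  have hJle' : ∀ n : ℕ, J ≤ Ideal.span {ϖC ^ n} := fun n => hJ ▸ iInf_le _ n
  have hJle : J ≤ Ideal.span {ϖC} := by simpa using hJle' 1
  haveI hlocJ : IsLocalRing (Localization.AtPrime 𝔓 ⧸ J) :=
    @IsDiscreteValuationRing.toIsLocalRing _ _ hdom hdvr
  let φ : R →+* (Localization.AtPrime 𝔓 ⧸ J) :=
    (Ideal.Quotient.mk J).comp ((algebraMap (k' ⊗[k] R) (Localization.AtPrime 𝔓)).comp
      (Algebra.TensorProduct.includeRight : R →ₐ[k] k' ⊗[k] R).toRingHom)
  have hφϖ : φ ϖ = Ideal.Quotient.mk J ϖC := rfl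
  have hφϖm : φ ϖ ∈ maximalIdeal (Localization.AtPrime 𝔓 ⧸ J) := by
    rw [hmq, hφϖ]; exact Ideal.mem_span_singleton_self _
  have hφϖ0 : φ ϖ ≠ 0 := by
    rw [hφϖ, Ne, Ideal.Quotient.eq_zero_iff_mem]
    intro hmem
    have h1 : ϖC ∈ Ideal.span {ϖC ^ 2} := hJle' 2 hmem
    rw [Ideal.mem_span_singleton'] at h1
    obtain ⟨a, ha⟩ := h1
    have h2 : (a * ϖC - 1) * ϖC = 0 := by
      calc (a * ϖC - 1) * ϖC = a * ϖC ^ 2 - ϖC := by ring
        _ = 0 := by rw [ha, sub_self]
    have h3 := (mem_nonZeroDivisors_iff_right.mp hϖCreg) _ h2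
    have h4 : (1 : Localization.AtPrime 𝔓) ∈ maximalIdeal (Localization.AtPrime 𝔓) := by
      rw [hmC, Ideal.mem_span_singleton']
      exact ⟨a, sub_eq_zero.mp h3⟩
    exact (maximalIdeal.isMaximal _).ne_top ((Ideal.eq_top_iff_one _).mpr h4)
  refine ⟨Localization.AtPrime 𝔓 ⧸ J, inferInstance, hdom, hdvr, inferInstance, φ, ?_, ?_, ?_, ?_⟩
  · -- local
    refine ⟨fun a ha => ?_⟩
    by_contra hna
    have h1 : a ∈ maximalIdeal R := (mem_maximalIdeal a).2 hna
    rw [hmR, Ideal.mem_span_singleton'] at h1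
    obtain ⟨b, rfl⟩ := h1
    have h2 : φ (b * ϖ) ∈ maximalIdeal (Localization.AtPrime 𝔓 ⧸ J) := by
      rw [map_mul]
      exact Ideal.mul_mem_left _ _ hφϖm
    exact (mem_maximalIdeal _).1 h2 ha
  · -- injective
    rw [injective_iff_map_eq_zero]
    intro a ha
    by_contra ha0
    obtain ⟨n, u, rfl⟩ := IsDiscreteValuationRing.eq_unit_mul_pow_irreducible ha0 hϖ
    rw [map_mul, map_pow] at ha
    have h1 : IsUnit (φ (u : R)) := u.isUnit.map φ
    have h2 : φ ϖ ^ n = 0 := (h1.mul_right_eq_zero).mp ha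
    exact pow_ne_zero n hφϖ0 h2
  · -- compatibility with k → k'
    ext c
    simp only [RingHom.comp_apply, φ]
    change Ideal.Quotient.mk J (algebraMap _ _ ((1 : k') ⊗ₜ[k] (algebraMap k R c))) =
      Ideal.Quotient.mk J (algebraMap (k' ⊗[k] R) _ (algebraMap k' (k' ⊗[k] R) (algebraMap k k' c)))
    congr 2
    rw [Algebra.TensorProduct.algebraMap_apply, Algebra.algebraMap_self, RingHom.id_apply,
      Algebra.algebraMap_eq_smul_one (A := R) c, TensorProduct.tmul_smul, TensorProduct.smul_tmul',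
      ← Algebra.algebraMap_eq_smul_one]
  · -- residue field
    let ρ' : k' ⊗[k] R →ₐ[k'] k' ⊗[k] (R ⧸ maximalIdeal R) :=
      Algebra.TensorProduct.map (AlgHom.id k' k') g
    have hρ' : ∀ x, ρ' x = ρ x := fun x => rfl
    let χ : Localization.AtPrime 𝔓 →+* Localization.AtPrime 𝔮 :=
      Localization.localRingHom 𝔓 𝔮 ρ.toRingHom rfl
    have hχ : ∀ x, χ (algebraMap _ _ x) = algebraMap _ _ (ρ x) :=
      fun x => Localization.localRingHom_to_map 𝔓 𝔮 ρ.toRingHom rfl x
    have hχϖ : χ ϖC = 0 := by rw [hχ, hρϖ, map_zero]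
    let χₐ : Localization.AtPrime 𝔓 →ₐ[k'] Localization.AtPrime 𝔮 :=
      { χ with
        commutes' := by
          intro c
          change χ (algebraMap k' (Localization.AtPrime 𝔓) c) = _
          rw [IsScalarTower.algebraMap_apply k' (k' ⊗[k] R) (Localization.AtPrime 𝔓), hχ, ← hρ',
            ρ'.commutes]
          exact (IsScalarTower.algebraMap_apply k' (k' ⊗[k] (R ⧸ maximalIdeal R))
            (Localization.AtPrime 𝔮) c).symm }
    have hχJ : ∀ a ∈ J, χₐ a = 0 := by
      intro a ha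
      have := hJle ha
      rw [Ideal.mem_span_singleton'] at this
      obtain ⟨b, rfl⟩ := this
      change χ (b * ϖC) = 0
      rw [map_mul, hχϖ, mul_zero]
    haveI : Algebra.IsGeometricallyReduced k' (Localization.AtPrime 𝔮) :=
      isGeometricallyReduced_of_isLocalization k' (k' ⊗[k] (R ⧸ maximalIdeal R))
        (Localization.AtPrime 𝔮) 𝔮.primeCompl
    refine isGeometricallyReduced_residue_of_algHom k' (Localization.AtPrime 𝔓 ⧸ J)
      (Localization.AtPrime 𝔮) (Ideal.Quotient.liftₐ J χₐ hχJ) ?_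
    intro a ha
    rw [hmq, Ideal.mem_span_singleton'] at ha
    obtain ⟨b, rfl⟩ := ha
    have : Ideal.Quotient.liftₐ J χₐ hχJ (Ideal.Quotient.mk J ϖC) = 0 := hχϖ
    rw [map_mul, this, mul_zero]

end Main

end Groth.Agent.Lib.Seat36.FieldGonflement
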