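/-
Seat36WordBound (helper36): if every point of a quasi-compact `S`-group scheme `H` lies under a word
in `f : X ⟶ H` (`X`, `H` locally of finite presentation over `S`), then the lengths of the words
needed are bounded (compactness of the constructible topology on affine opens + Chevalley).
-/
import Mathlib
import Groth.Agent.Lib.Seat27Words
import Groth.Agent.Lib.Helper6LfpComp
import Groth.Agent.Lib.Seat82ConstructibleOpen

set_option autoImplicit false
universe u
open CategoryTheory AlgebraicGeometry Limits TopologicalSpace MonoidalCategory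
  CartesianMonoidalCategory MonObj Topology

namespace Groth.Agent.Lib.Seat36.WordBound

open Groth.Agent.Lib.Seat27.Words

/-- Finitely many members of a family of constructible sets covering a spectral space suffice. -/
theorem exists_finset_cover_of_isConstructible {X : Type*} [TopologicalSpace X] [CompactSpace X]
    [QuasiSober X] [PrespectralSpace X] [QuasiSeparatedSpace X] {J : Type*} (C : J → Set X)
    (hC : ∀ i, IsConstructible (C i)) (hcov : ∀ x, ∃ i, x ∈ C i) :
    ∃ t : Finset J, ∀ x, ∃ i : J, i ∈ t ∧ x ∈ C i := by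
  have hcomp : IsCompact (Set.univ : Set (WithConstructibleTopology X)) := isCompact_univ
  obtain ⟨t, ht⟩ := hcomp.elim_finite_subcover
    (fun i => (WithTopology.ofTopology ⁻¹' C i : Set (WithConstructibleTopology X)))
    (fun i => by
      rw [WithConstructibleTopology.isOpen_iff]
      exact (Groth.Agent.Lib.Seat82.ConstructibleOpen.isOpen_constructibleTopology_of_isConstructible
        (hC i)).1)
    (fun x _ => by
      obtain ⟨i, hi⟩ := hcov (WithTopology.ofTopology x)
      exact Set.mem_iUnion.mpr ⟨i, hi⟩)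
  refine ⟨t, fun x => ?_⟩
  have := ht (Set.mem_univ (WithTopology.toTopology _ x))
  simp only [Set.mem_iUnion] at this
  obtain ⟨i, hi, hx⟩ := this
  exact ⟨i, hi, hx⟩

/-- Images of morphisms locally of finite presentation are locally unions of constructible sets. -/
theorem exists_isConstructible_subset_range {Y Z : Scheme.{u}} (w : Y ⟶ Z)
    [LocallyOfFinitePresentation w] (U : Z.Opens) (hU : IsAffineOpen U) (y : Y) (hy : w y ∈ U) :
    ∃ C : Set ↥(U : Scheme.{u}), IsConstructible C ∧ (∃ c ∈ C, U.ι c = w y) ∧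
      ∀ c ∈ C, U.ι c ∈ Set.range w := by
  obtain ⟨_, ⟨(V : Y.Opens), hVaff, rfl⟩, hyV, hVU⟩ :=
    (Y.isBasis_affineOpens).exists_subset_of_mem_open (show y ∈ (w ⁻¹ᵁ U : Set Y) from hy)
      (w ⁻¹ᵁ U).isOpen
  have hVaff : IsAffineOpen V := hVaff
  have e : V ≤ w ⁻¹ᵁ U := hVU
  have : IsAffine (U : Scheme) := hU
  have : IsAffine (V : Scheme) := hVaff
  have hcomp : w.resLE U V e ≫ U.ι = V.ι ≫ w := Scheme.Hom.resLE_comp_ι w e
  have hpt : ∀ v : ↥(V : Scheme.{u}), U.ι ((w.resLE U V e) v) = w (V.ι v) := by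
    intro v
    rw [← Scheme.Hom.comp_apply, hcomp, Scheme.Hom.comp_apply]
  refine ⟨Set.range (w.resLE U V e), ?_, ?_, ?_⟩
  · rw [← Set.image_univ]
    exact (w.resLE U V e).isConstructible_image IsConstructible.univ
  · obtain ⟨v, hv⟩ : ∃ v : ↥(V : Scheme.{u}), V.ι v = y := ⟨⟨y, hyV⟩, rfl⟩
    exact ⟨_, ⟨v, rfl⟩, by rw [hpt, hv]⟩
  · rintro _ ⟨v, rfl⟩
    exact ⟨V.ι v, (hpt v).symm⟩

variable {S : Scheme.{u}} {X H : Over S} [GrpObj H]

/-- The point `h` lies under a word of length `m` in `f`. -/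
def Under (f : X ⟶ H) (m : ℕ) (h : H.left) : Prop :=
  ∃ (T : Over S) (p : T.left) (x : Fin m → (T ⟶ X)) (ε : Fin m → Bool),
    ((List.ofFn fun j : Fin m => if ε j then x j ≫ f else (x j ≫ f)⁻¹).prod : T ⟶ H).left.base p = h

theorem under_iff (f : X ⟶ H) (m : ℕ) (h : H.left) :
    Under f m h ↔ ∃ ε : Fin m → Bool, h ∈ Set.range (word f (proj (X := X) m) ε).left := by
  constructor
  · rintro ⟨T, p, x, ε, rfl⟩
    refine ⟨ε, (tup m x).left p, ?_⟩
    change ((tup m x) ≫ word f (proj (X := X) m) ε).left p = _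
    rw [tup_comp_word]
    rfl
  · rintro ⟨ε, q, rfl⟩
    exact ⟨pw X m, q, proj m, ε, rfl⟩

theorem locallyOfFinitePresentation_pw [LocallyOfFinitePresentation X.hom] (m : ℕ) :
    LocallyOfFinitePresentation (pw X m).hom := by
  induction m with
  | zero =>
    change LocallyOfFinitePresentation (𝟙_ (Over S)).hom
    rw [Over.tensorUnit_hom]
    have : IsOpenImmersion (𝟙 S) := inferInstance
    infer_instance
  | succ m ih =>
    change LocallyOfFinitePresentation (X ⊗ pw X m).hom
    rw [Over.tensorObj_hom]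
    infer_instance

/-- On an affine open, the lengths of the words needed are bounded. -/
theorem exists_bound_of_isAffineOpen [LocallyOfFinitePresentation X.hom]
    [LocallyOfFinitePresentation H.hom] (f : X ⟶ H) (U : H.left.Opens) (hU : IsAffineOpen U)
    (hsurj : ∀ h : H.left, ∃ n, Under f n h) :
    ∃ N : ℕ, ∀ h ∈ U, ∃ m ≤ N, Under f m h := by
  have : IsAffine (U : Scheme) := hU
  have key : ∀ u : ↥(U : Scheme.{u}), ∃ (n : ℕ) (C : Set ↥(U : Scheme.{u})),
      IsConstructible C ∧ u ∈ C ∧ ∀ c ∈ C, Under f n (U.ι c) := by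
    intro u
    obtain ⟨n, hn⟩ := hsurj (U.ι u)
    obtain ⟨ε, q, hq⟩ := (under_iff f n _).mp hn
    have hlfp : LocallyOfFinitePresentation (word f (proj (X := X) n) ε).left := by
      have h1 := locallyOfFinitePresentation_pw (X := X) n
      rw [← Over.w (word f (proj (X := X) n) ε)] at h1
      exact Groth.Agent.Lib.Helper6.locallyOfFinitePresentation_of_comp inferInstance h1
    have hq' : (word f (proj (X := X) n) ε).left q ∈ U := by
      rw [hq]; exact u.2
    obtain ⟨C, hC, ⟨c, hc, hcu⟩, hsub⟩ := exists_isConstructible_subset_range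
      (word f (proj (X := X) n) ε).left U hU q hq'
    refine ⟨n, C, hC, ?_, fun c hc => (under_iff f n _).mpr ⟨ε, hsub c hc⟩⟩
    have : c = u := U.ι.injective (hcu.trans hq)
    rwa [← this]
  choose n C hC hmem hsub using key
  obtain ⟨t, ht⟩ := exists_finset_cover_of_isConstructible C hC (fun u => ⟨u, hmem u⟩)
  refine ⟨t.sup n, fun h hh => ?_⟩
  obtain ⟨u, hut, hu⟩ := ht ⟨h, hh⟩
  exact ⟨n u, Finset.le_sup hut, hsub u _ hu⟩

/-- S6076. -/
theorem main [LocallyOfFinitePresentation X.hom] [LocallyOfFinitePresentation H.hom]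
    [CompactSpace H.left] (f : X ⟶ H) (hsurj : ∀ h : H.left, ∃ n, Under f n h) :
    ∃ N : ℕ, ∀ h : H.left, ∃ m ≤ N, Under f m h := by
  have hb : ∀ U : H.left.affineOpens, ∃ N : ℕ, ∀ h ∈ U.1, ∃ m ≤ N, Under f m h :=
    fun U => exists_bound_of_isAffineOpen f U.1 U.2 hsurj
  choose N hN using hb
  obtain ⟨t, ht⟩ := isCompact_univ.elim_finite_subcover
    (fun U : H.left.affineOpens => (U.1 : Set H.left)) (fun U => U.1.isOpen)
    (fun h _ => by
      obtain ⟨_, ⟨(U : H.left.Opens), hUaff, rfl⟩, hhU, -⟩ :=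
        (H.left.isBasis_affineOpens).exists_subset_of_mem_open (Set.mem_univ h) isOpen_univ
      exact Set.mem_iUnion.mpr ⟨⟨U, hUaff⟩, hhU⟩)
  refine ⟨t.sup N, fun h => ?_⟩
  have := ht (Set.mem_univ h)
  simp only [Set.mem_iUnion] at this
  obtain ⟨U, hUt, hhU⟩ := this
  obtain ⟨m, hm, hu⟩ := hN U h hhU
  exact ⟨m, hm.trans (Finset.le_sup hUt), hu⟩

end Groth.Agent.Lib.Seat36.WordBound
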