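/-
Seat36FinIndexWords (helper36): over an algebraically closed field, if a closed subgroup `H`
contained in the image of `f : X ⟶ G` has finite index in the group of rational points under words
in `f`, the closed subgroup generated by `f` is a finite union of translates of `H` and is the set
of points under words of one fixed length (SGA3 VIB 7.6-type statement).
-/
import Mathlib
import Groth.Agent.Lib.Seat27Words
import Groth.Agent.Lib.Seat27KPoints
import Groth.Agent.Lib.Seat36GenSubgroupConn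
import Groth.Agent.Lib.Seat36WordBound

set_option autoImplicit false
universe u
open CategoryTheory AlgebraicGeometry Limits TopologicalSpace MonoidalCategory
  CartesianMonoidalCategory MonObj

namespace Groth.Agent.Lib.Seat36.FinIndexWords

open Groth.Agent.Lib.Seat27.Words Groth.Agent.Lib.Seat27.KPoints
  Groth.Agent.Lib.Seat36.GenSubgroup Groth.Agent.Lib.Seat36.WordBound

section general

variable {S : Scheme.{u}} {G X : Over S} [GrpObj G]

/-- Left translation by a section. -/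
noncomputable def ltr (a : 𝟙_ (Over S) ⟶ G) : G ⟶ G := (λ_ G).inv ≫ (a ▷ G) ≫ μ[G]

theorem comp_ltr {T : Over S} (a : 𝟙_ (Over S) ⟶ G) (t : T ⟶ G) :
    t ≫ ltr a = (toUnit T ≫ a) * t := by
  have hl : (λ_ G).inv = lift (toUnit G) (𝟙 G) := by
    apply CartesianMonoidalCategory.hom_ext <;> simp
  rw [ltr, Hom.mul_def, hl, comp_lift_assoc, Category.comp_id,
    lift_whiskerRight_assoc, toUnit_unique (t ≫ toUnit G) (toUnit T)]

theorem ltr_comp_ltr (a b : 𝟙_ (Over S) ⟶ G) : ltr a ≫ ltr b = ltr (b * a) := by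
  have h1 := comp_ltr b (ltr a)
  have h2 := comp_ltr a (𝟙 G)
  have h3 := comp_ltr (b * a) (𝟙 G)
  rw [Category.id_comp] at h2 h3
  rw [h1, h2, h3, MonObj.comp_mul, _root_.mul_assoc]

theorem ltr_one : ltr (1 : 𝟙_ (Over S) ⟶ G) = 𝟙 G := by
  have h := comp_ltr (1 : 𝟙_ (Over S) ⟶ G) (𝟙 G)
  rw [Category.id_comp, MonObj.comp_one, _root_.one_mul] at h
  exact h

theorem isClosedMap_ltr (a : 𝟙_ (Over S) ⟶ G) : IsClosedMap (ltr a).left.base := by
  have h1 : ltr a ≫ ltr a⁻¹ = 𝟙 G := by rw [ltr_comp_ltr, inv_mul_cancel, ltr_one]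
  have h2 : ltr a⁻¹ ≫ ltr a = 𝟙 G := by rw [ltr_comp_ltr, mul_inv_cancel, ltr_one]
  have : IsIso (ltr a).left :=
    ⟨(ltr a⁻¹).left, by rw [← Over.comp_left, h1]; rfl, by rw [← Over.comp_left, h2]; rfl⟩
  exact (Scheme.Hom.homeomorph (ltr a).left).isClosedMap

/-- Postcomposition with a homomorphism as a monoid homomorphism on points. -/
def postcompHom {Γ : Over S} [GrpObj Γ] (i : Γ ⟶ G) [IsMonHom i] (T : Over S) :
    (T ⟶ Γ) →* (T ⟶ G) where
  toFun g := g ≫ i
  map_one' := MonObj.one_comp i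
  map_mul' g h := MonObj.mul_comp g h i

theorem word_comp_hom {Γ : Over S} [GrpObj Γ] (i : Γ ⟶ G) [IsMonHom i] (f' : X ⟶ Γ)
    {T : Over S} {n : ℕ} (x : Fin n → (T ⟶ X)) (ε : Fin n → Bool) :
    word (f' ≫ i) x ε = word f' x ε ≫ i := by
  unfold word
  have := map_list_prod (postcompHom i T)
    (List.ofFn fun j => if ε j then x j ≫ f' else (x j ≫ f')⁻¹)
  change (List.ofFn fun j => if ε j then x j ≫ f' else (x j ≫ f')⁻¹).prod ≫ i = _ at this
  rw [this, List.map_ofFn]
  congr 1
  congr 1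
  funext j
  simp only [Function.comp]
  split_ifs
  · change _ = (x j ≫ f') ≫ i
    rw [Category.assoc]
  · change _ = (x j ≫ f')⁻¹ ≫ i
    rw [GrpObj.inv_comp, Category.assoc]

/-- A point under a word in `f` lies in the image of any subgroup through which `f` factors. -/
theorem Under.mem_range {Γ : Over S} [GrpObj Γ] (i : Γ ⟶ G) [IsMonHom i] {f : X ⟶ G}
    (hf : ∃ f' : X ⟶ Γ, f' ≫ i = f) {m : ℕ} {g : G.left} (hg : Under f m g) :
    g ∈ Set.range i.left.base := by
  obtain ⟨f', rfl⟩ := hf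
  obtain ⟨T, p, x, ε, rfl⟩ := hg
  change (word (f' ≫ i) x ε).left.base p ∈ _
  rw [word_comp_hom]
  exact ⟨(word f' x ε).left.base p, rfl⟩

/-- Appending a trivial letter. -/
theorem Under.succ {f : X ⟶ G} (x₀ : 𝟙_ (Over S) ⟶ X) (hx₀ : x₀ ≫ f = 1) {m : ℕ} {g : G.left}
    (hg : Under f m g) : Under f (m + 1) g := by
  obtain ⟨T, p, x, ε, rfl⟩ := hg
  refine ⟨T, p, Fin.append x (fun _ : Fin 1 => toUnit T ≫ x₀),
    Fin.append ε (fun _ : Fin 1 => true), ?_⟩
  change (word f (Fin.append x (fun _ : Fin 1 => toUnit T ≫ x₀))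
    (Fin.append ε (fun _ : Fin 1 => true))).left.base p = (word f x ε).left.base p
  rw [word_append, word_one_true, Category.assoc, hx₀, MonObj.comp_one, _root_.mul_one]

theorem Under.mono {f : X ⟶ G} (x₀ : 𝟙_ (Over S) ⟶ X) (hx₀ : x₀ ≫ f = 1) {m n : ℕ} (hmn : m ≤ n)
    {g : G.left} (hg : Under f m g) : Under f n g := by
  induction n, hmn using Nat.le_induction with
  | base => exact hg
  | succ n _ ih => exact Under.succ x₀ hx₀ ih

/-- Translates of points of the image of `f` by a word in sections lie under words. -/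
theorem under_ltr {f : X ⟶ G} {n : ℕ} (x : Fin n → (𝟙_ (Over S) ⟶ X)) (ε : Fin n → Bool)
    (y : X.left) : Under f (n + 1) ((ltr (word f x ε)).left.base (f.left.base y)) := by
  refine ⟨X, y, Fin.append (fun j => toUnit X ≫ x j) (fun _ : Fin 1 => 𝟙 X),
    Fin.append ε (fun _ : Fin 1 => true), ?_⟩
  change (word f (Fin.append (fun j => toUnit X ≫ x j) (fun _ : Fin 1 => 𝟙 X))
    (Fin.append ε (fun _ : Fin 1 => true))).left.base y = (f ≫ ltr (word f x ε)).left.base y
  rw [word_append, word_one_true, Category.id_comp, comp_ltr, comp_word]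

end general

section field

variable {k : Type u} [Field k] {G X : Over (Spec (CommRingCat.of k))} [GrpObj G] {f : X ⟶ G}

/-- Every word morphism is a word in the sense of lists. -/
theorem IsWord.exists_word {T : Over (Spec (CommRingCat.of k))} {φ : T ⟶ G}
    (h : IsWord f T φ) :
    ∃ (n : ℕ) (x : Fin n → (T ⟶ X)) (ε : Fin n → Bool), φ = word f x ε := by
  induction h with
  | base => exact ⟨1, fun _ => 𝟙 X, fun _ => true, by rw [word_one_true, Category.id_comp]⟩
  | one => exact ⟨0, Fin.elim0, Fin.elim0, (word_zero f _ _).symm⟩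
  | mul _ _ ih ih' =>
    obtain ⟨n, x, ε, rfl⟩ := ih
    obtain ⟨n', x', ε', rfl⟩ := ih'
    exact ⟨n + n', Fin.append (fun j => fst _ _ ≫ x j) (fun j => snd _ _ ≫ x' j),
      Fin.append ε ε', by rw [word_append, comp_word, comp_word]⟩
  | inv _ ih =>
    obtain ⟨n, x, ε, rfl⟩ := ih
    exact ⟨n, _, _, word_inv f x ε⟩

theorem IsWord.locallyOfFiniteType [LocallyOfFiniteType X.hom]
    {T : Over (Spec (CommRingCat.of k))} {φ : T ⟶ G} (h : IsWord f T φ) :
    LocallyOfFiniteType T.hom := by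
  induction h with
  | base => infer_instance
  | one =>
    change LocallyOfFiniteType (𝟙 (Spec (CommRingCat.of k)))
    infer_instance
  | @mul T T' _ _ _ _ ih ih' =>
    change LocallyOfFiniteType (pullback.fst T.hom T'.hom ≫ T.hom)
    infer_instance
  | inv _ ih => exact ih

variable [IsAlgClosed k]

/-- A section of `G` whose point lies under a word is a word in sections of `X`. -/
theorem exists_word_of_under [LocallyOfFiniteType X.hom]
    (a : 𝟙_ (Over (Spec (CommRingCat.of k))) ⟶ G)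
    (p₀ : (𝟙_ (Over (Spec (CommRingCat.of k)))).left) {n : ℕ}
    (h : Under f n (a.left.base p₀)) :
    ∃ (x : Fin n → (𝟙_ (Over (Spec (CommRingCat.of k))) ⟶ X)) (ε : Fin n → Bool),
      a = word f x ε := by
  obtain ⟨ε, q, hq⟩ := (under_iff f n _).mp h
  have := locallyOfFiniteType_pw X n
  obtain ⟨s, hs⟩ := exists_lift_of_point (word f (proj (X := X) n) ε) a q p₀ hq
  exact ⟨fun j => s ≫ proj n j, ε, by rw [← hs, comp_word]⟩

/-- S6077. -/
theorem main [LocallyOfFiniteType G.hom] [LocallyOfFiniteType X.hom] [GeometricallyReduced X.hom]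
    (H : Over (Spec (CommRingCat.of k))) [GrpObj H]
    (h : H ⟶ G) [IsMonHom h] [IsClosedImmersion h.left]
    (hH : Set.range h.left.base ⊆ Set.range f.left.base)
    (Γ : Over (Spec (CommRingCat.of k))) [GrpObj Γ] (i : Γ ⟶ G) [IsMonHom i]
    [IsClosedImmersion i.left] (hf : ∃ f' : X ⟶ Γ, f' ≫ i = f)
    (hmin : ∀ (Γ' : Over (Spec (CommRingCat.of k))) (_ : GrpObj Γ') (i' : Γ' ⟶ G), IsMonHom i' →
      IsClosedImmersion i'.left → (∃ f'' : X ⟶ Γ', f'' ≫ i' = f) → ∃ j : Γ ⟶ Γ', j ≫ i' = i)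
    (F : Finset (𝟙_ (Over (Spec (CommRingCat.of k))) ⟶ G))
    (hF1 : ∀ a ∈ F, ∃ (n : ℕ) (p₀ : (𝟙_ (Over (Spec (CommRingCat.of k)))).left),
      Under f n (a.left.base p₀))
    (hF2 : ∀ g : 𝟙_ (Over (Spec (CommRingCat.of k))) ⟶ G,
      (∃ (n : ℕ) (p₀ : (𝟙_ (Over (Spec (CommRingCat.of k)))).left), Under f n (g.left.base p₀)) →
        ∃ a ∈ F, ∃ y : 𝟙_ (Over (Spec (CommRingCat.of k))) ⟶ H, g = a * (y ≫ h)) :
    (∃ m : ℕ, Set.range i.left.base = {g : G.left | Under f m g}) ∧
      Set.range i.left.base =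
        ⋃ a ∈ F, (fun z => (ltr a).left.base z) '' Set.range h.left.base := by
  set Y : Set G.left := ⋃ a ∈ F, (fun z => (ltr a).left.base z) '' Set.range h.left.base with hY
  have hYcl : IsClosed Y := by
    apply Set.Finite.isClosed_biUnion F.finite_toSet
    intro a _
    exact isClosedMap_ltr a _ (Scheme.Hom.isClosedEmbedding h.left).isClosed_range
  -- a section of `X` over the unit
  let pt : (𝟙_ (Over (Spec (CommRingCat.of k)))).left :=
    (IsLocalRing.closedPoint k : ↥(Spec (CommRingCat.of k)))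
  obtain ⟨x₀, hx₀⟩ : ∃ x₀ : 𝟙_ (Over (Spec (CommRingCat.of k))) ⟶ X, x₀ ≫ f = 1 := by
    have h1 : (η[G] : 𝟙_ _ ⟶ G).left.base pt ∈ Set.range f.left.base := by
      apply hH
      refine ⟨(η[H] : 𝟙_ _ ⟶ H).left.base pt, ?_⟩
      change (η[H] ≫ h).left.base pt = _
      rw [IsMonHom.one_hom]
    obtain ⟨y, hy⟩ := h1
    obtain ⟨s, hs⟩ := exists_lift_of_point f η[G] y pt hy
    exact ⟨s, hs⟩
  -- the elements of `F` are words in sections
  have hFw : ∀ a : ↥F, ∃ (n : ℕ) (x : Fin n → (𝟙_ (Over (Spec (CommRingCat.of k))) ⟶ X))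
      (ε : Fin n → Bool), (a : 𝟙_ (Over (Spec (CommRingCat.of k))) ⟶ G) = word f x ε := by
    intro a
    obtain ⟨n, p₀, hn⟩ := hF1 a.1 a.2
    obtain ⟨x, ε, hx⟩ := exists_word_of_under a.1 p₀ hn
    exact ⟨n, x, ε, hx⟩
  choose N xs εs hw using hFw
  -- `Y` lies under words of bounded length
  have hYsub : Y ⊆ {g : G.left | Under f (F.attach.sup N + 1) g} := by
    intro g hg
    simp only [hY, Set.mem_iUnion] at hg
    obtain ⟨a, ha, _, ⟨y, rfl⟩, rfl⟩ := hg
    obtain ⟨z, hz⟩ := hH ⟨y, rfl⟩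
    have h1 := under_ltr (f := f) (xs ⟨a, ha⟩) (εs ⟨a, ha⟩) z
    rw [← hw ⟨a, ha⟩, hz] at h1
    exact Under.mono x₀ hx₀
      (Nat.succ_le_succ (Finset.le_sup (f := N) (Finset.mem_attach F ⟨a, ha⟩))) h1
  -- the word points lie in `Y`
  have hwordY : wordSet f ⊆ Y := by
    rintro _ ⟨T, φ, hφ, t, rfl⟩
    have hlft := IsWord.locallyOfFiniteType hφ
    have hjac : JacobsonSpace T.left := LocallyOfFiniteType.jacobsonSpace T.hom
    have hcl : IsClosed (φ.left.base ⁻¹' Y) := hYcl.preimage φ.left.continuous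
    have hsub : closedPoints T.left ⊆ φ.left.base ⁻¹' Y := by
      intro c hc
      have hc' : IsClosed {c} := hc
      let s : 𝟙_ (Over (Spec (CommRingCat.of k))) ⟶ T :=
        Over.homMk (pointOfClosedPoint T.hom c hc') (by simp)
      have hsc : s.left.base pt = c := pointOfClosedPoint_apply T.hom c hc' _
      obtain ⟨n, x, ε, hφw⟩ := IsWord.exists_word hφ
      obtain ⟨a, ha, y, hay⟩ := hF2 (s ≫ φ) ⟨n, pt, T, c, x, ε, by
        change (word f x ε).left.base c = φ.left.base (s.left.base pt)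
        rw [hsc, hφw]⟩
      have h2 : s ≫ φ = (y ≫ h) ≫ ltr a := by
        rw [comp_ltr, hay, toUnit_unique (toUnit (𝟙_ _)) (𝟙 _), Category.id_comp]
      change φ.left.base c ∈ Y
      rw [← hsc]
      change (s ≫ φ).left.base pt ∈ Y
      rw [h2, hY]
      simp only [Set.mem_iUnion]
      exact ⟨a, ha, _, ⟨y.left.base pt, rfl⟩, rfl⟩
    have huniv : φ.left.base ⁻¹' Y = Set.univ := by
      apply Set.eq_univ_of_univ_subset
      rw [← closure_closedPoints (X := T.left)]
      exact closure_minimal hsub hcl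
    exact huniv.ge (Set.mem_univ t)
  obtain ⟨e, he⟩ := exists_iso_genSub Γ i hf hmin
  have hrange : Set.range i.left.base = closure (wordSet f) := by
    rw [← range_genι f, ← he]
    apply Set.Subset.antisymm
    · rintro _ ⟨z, rfl⟩
      exact ⟨e.hom.left.base z, rfl⟩
    · rintro _ ⟨z, rfl⟩
      refine ⟨e.inv.left.base z, ?_⟩
      change (e.inv ≫ e.hom ≫ genι f).left.base z = _
      rw [Iso.inv_hom_id_assoc]
  have h1 : Set.range i.left.base ⊆ Y := by
    rw [hrange]
    exact closure_minimal hwordY hYcl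
  have h2 : {g : G.left | Under f (F.attach.sup N + 1) g} ⊆ Set.range i.left.base :=
    fun g hg => Under.mem_range i hf hg
  exact ⟨⟨F.attach.sup N + 1, Set.Subset.antisymm (h1.trans hYsub) h2⟩,
    Set.Subset.antisymm h1 (hYsub.trans h2)⟩

end field

end Groth.Agent.Lib.Seat36.FinIndexWords
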