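/-
Seat36SepPoints (helper36): separable points of schemes over a field `k` (points with values in field
extensions `K/k` with `Algebra.IsGeometricallyReduced k K`).
* a reduced `k`-scheme with a dense set of separable points is geometrically reduced;
* a nonempty open of a geometrically reduced `k`-scheme contains a separable point;
* the reduced closure of the separable points is the unique geometrically reduced closed subscheme
  through which all separable points factor.
-/
import Mathlib
import Groth.Agent.Lib.Seat36FieldGonflement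
import Groth.Agent.Lib.Helper11RedCl
import Groth.Agent.Lib.Helper11FixAlg
import Groth.Agent.Lib.Helper14GeomRed

set_option autoImplicit false
universe u
open TensorProduct CategoryTheory AlgebraicGeometry Limits TopologicalSpace

namespace Groth.Agent.Lib.Seat36.SepPoints

attribute [local instance] Algebra.TensorProduct.rightAlgebra in
/-- If a `k`-algebra `A` embeds (jointly) into a family of separable field extensions of `k`, then
`A ⊗[k] K'` is reduced for every field extension `K'/k`. -/
theorem isReduced_tensor_of_jointly_injective {k A K' : Type u} [Field k] [CommRing A]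
    [Algebra k A] [Field K'] [Algebra k K']
    {ι : Type*} (κ : ι → Type u) [∀ c, Field (κ c)] [∀ c, Algebra k (κ c)]
    [∀ c, Algebra.IsGeometricallyReduced k (κ c)]
    (g : ∀ c, A →ₐ[k] κ c) (hinj : ∀ a : A, (∀ c, g c a = 0) → a = 0) :
    IsReduced (A ⊗[k] K') := by
  constructor
  intro z hz
  have hred : ∀ c, IsReduced (κ c ⊗[k] K') := by
    intro c
    have h1 : IsReduced (K' ⊗[k] κ c) :=
      Groth.Agent.Lib.Helper14.GeomRed.isReduced_tensor_of_isGeometricallyReduced K'
    exact isReduced_of_injective (Algebra.TensorProduct.comm k (κ c) K')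
      (Algebra.TensorProduct.comm k (κ c) K').injective
  refine Groth.Agent.Lib.Helper11FixAlg.eq_zero_of_forall_map_eq_zero (k := k) (B := K') (A := A)
    (P := A ⊗[k] K') (C := κ) (P' := fun c => κ c ⊗[k] K')
    (fun c => (g c).toRingHom)
    (fun c => (Algebra.TensorProduct.map (g c) (AlgHom.id k K')).toRingHom)
    ?_ ?_ hinj z ?_
  · intro c b
    simp [Algebra.TensorProduct.algebraMap_eq_includeRight] 
  · intro c a
    simp [Algebra.TensorProduct.algebraMap_apply]
  · intro c
    exact (hz.map _).eq_zero

/-- The closed point of `Spec K` (for a field `K`) maps under `Spec.map φ` to the kernel of `φ`. -/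
theorem specMap_closedPoint_asIdeal {A : CommRingCat.{u}} {K : Type u} [Field K]
    (φ : A ⟶ CommRingCat.of K) :
    ((Spec.map φ).base (IsLocalRing.closedPoint K)).asIdeal = RingHom.ker φ.hom := by
  change Ideal.comap φ.hom (IsLocalRing.maximalIdeal K) = _
  rw [IsLocalRing.maximalIdeal_eq_bot]
  rfl

/-- A reduced scheme over a field `k` with a dense set of separable points is geometrically
reduced. -/
theorem geometricallyReduced_of_dense_sepPoints {k : Type u} [Field k] {X : Scheme.{u}}
    [IsReduced X] (f : X ⟶ Spec (CommRingCat.of k)) {ι : Type*} (κ : ι → Type u)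
    [∀ c, Field (κ c)] [∀ c, Algebra k (κ c)] [∀ c, Algebra.IsGeometricallyReduced k (κ c)]
    (p : ∀ c, Spec (CommRingCat.of (κ c)) ⟶ X)
    (hp : ∀ c, p c ≫ f = Spec.map (CommRingCat.ofHom (algebraMap k (κ c))))
    (hd : Dense (Set.range fun c => (p c).base (IsLocalRing.closedPoint (κ c)))) :
    GeometricallyReduced f := by
  constructor
  rw [geometrically_iff_of_commRing_of_isClosedUnderIsomorphisms]
  intro K' _ _
  let 𝒰 := X.affineOpenCover
  have key : ∀ i : 𝒰.I₀,
      IsReduced (pullback (𝒰.f i ≫ f) (Spec.map (CommRingCat.ofHom (algebraMap k K')))) := by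
    intro i
    let ρ : CommRingCat.of k ⟶ 𝒰.X i := Spec.preimage (𝒰.f i ≫ f)
    have hρ : Spec.map ρ = 𝒰.f i ≫ f := Spec.map_preimage _
    let _ : Algebra k (𝒰.X i) := ρ.hom.toAlgebra
    have hρ' : Spec.map (CommRingCat.ofHom (algebraMap k (𝒰.X i))) = 𝒰.f i ≫ f := hρ
    rw [← hρ']
    have hXi : IsReduced (Spec (𝒰.X i)) := isReduced_of_isOpenImmersion (𝒰.f i)
    have hAred : _root_.IsReduced (𝒰.X i) := (affine_isReduced_iff _).mp hXi
    -- the subfamily of points landing in the chart
    let J := {c : ι // (p c).base (IsLocalRing.closedPoint (κ c)) ∈ Set.range (𝒰.f i).base}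
    have hrange : ∀ c : J, Set.range (p c.1).base ⊆ Set.range (𝒰.f i).base := by
      rintro c _ ⟨x, rfl⟩
      have hx : x = IsLocalRing.closedPoint (κ c.1) := Subsingleton.elim _ _
      rw [hx]
      exact c.2
    let l : ∀ c : J, Spec (CommRingCat.of (κ c.1)) ⟶ Spec (𝒰.X i) := fun c =>
      IsOpenImmersion.lift (𝒰.f i) (p c.1) (hrange c)
    have hl : ∀ c : J, l c ≫ 𝒰.f i = p c.1 := fun c => IsOpenImmersion.lift_fac _ _ _
    let φ : ∀ c : J, 𝒰.X i ⟶ CommRingCat.of (κ c.1) := fun c => Spec.preimage (l c)
    have hφ : ∀ c : J, Spec.map (φ c) = l c := fun c => Spec.map_preimage _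
    have hcomm : ∀ (c : J) (r : k), (φ c).hom (algebraMap k (𝒰.X i) r) = algebraMap k (κ c.1) r := by
      intro c r
      have h1 : Spec.map (CommRingCat.ofHom (algebraMap k (𝒰.X i)) ≫ φ c) =
          Spec.map (CommRingCat.ofHom (algebraMap k (κ c.1))) := by
        rw [Spec.map_comp, hφ, hρ', ← Category.assoc, hl, hp]
      have h2 := Spec.map_injective h1
      exact congrArg (fun ψ => ψ.hom r) h2
    let g : ∀ c : J, (𝒰.X i) →ₐ[k] κ c.1 := fun c => { (φ c).hom with commutes' := hcomm c }
    have hinj : ∀ a : 𝒰.X i, (∀ c, g c a = 0) → a = 0 := by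
      intro a ha
      by_contra hne
      have hnil : ¬ IsNilpotent a := fun h => hne (h.eq_zero)
      have hne' : (PrimeSpectrum.basicOpen a : Set (PrimeSpectrum (𝒰.X i))).Nonempty := by
        rw [Set.nonempty_iff_ne_empty]
        intro h0
        apply hnil
        rw [← PrimeSpectrum.basicOpen_eq_bot_iff]
        ext1
        simpa using h0
      have hopen : IsOpen ((𝒰.f i).base '' (PrimeSpectrum.basicOpen a : Set (PrimeSpectrum (𝒰.X i)))) :=
        (𝒰.f i).isOpenEmbedding.isOpenMap _ (PrimeSpectrum.basicOpen a).isOpen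
      obtain ⟨x, hx1, hx2⟩ := hd.inter_open_nonempty _ hopen (hne'.image _)
      obtain ⟨c, rfl⟩ := hx2
      obtain ⟨q, hq, hqx⟩ := hx1
      have hcJ : (p c).base (IsLocalRing.closedPoint (κ c)) ∈ Set.range (𝒰.f i).base := ⟨q, hqx⟩
      let c' : J := ⟨c, hcJ⟩
      have hq' : (l c').base (IsLocalRing.closedPoint (κ c)) = q := by
        apply (𝒰.f i).isOpenEmbedding.injective
        have h4 : (𝒰.f i).base ((l c').base (IsLocalRing.closedPoint (κ c))) =
            (p c).base (IsLocalRing.closedPoint (κ c)) := by
          have h5 := congrArg (fun m : Spec (CommRingCat.of (κ c)) ⟶ X =>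
            m.base (IsLocalRing.closedPoint (κ c))) (hl c')
          exact h5
        exact h4.trans hqx.symm
      have h3 : a ∈ RingHom.ker (φ c').hom := by
        rw [RingHom.mem_ker]
        exact ha c'
      rw [← specMap_closedPoint_asIdeal, hφ, hq'] at h3
      exact hq h3
    have hred : _root_.IsReduced ((𝒰.X i) ⊗[k] K') :=
      isReduced_tensor_of_jointly_injective (fun c : J => κ c.1) g hinj
    have hSpec : IsReduced (Spec (CommRingCat.of ((𝒰.X i) ⊗[k] K'))) :=
      (affine_isReduced_iff _).mpr hred
    exact isReduced_of_isOpenImmersion (pullbackSpecIso k (𝒰.X i) K').hom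
  have key' : ∀ i, IsReduced ((Scheme.Pullback.openCoverOfLeft 𝒰.openCover f
      (Spec.map (CommRingCat.ofHom (algebraMap k K')))).X i) := fun i => key i
  exact IsReduced.of_openCover _ (Scheme.Pullback.openCoverOfLeft 𝒰.openCover f
      (Spec.map (CommRingCat.ofHom (algebraMap k K'))))

/-- Geometric reducedness is inherited by open subschemes. -/
theorem geometricallyReduced_comp_of_isOpenImmersion {U Z S : Scheme.{u}} (j : U ⟶ Z)
    [IsOpenImmersion j] (f : Z ⟶ S) [GeometricallyReduced f] : GeometricallyReduced (j ≫ f) := by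
  constructor
  rw [geometrically_iff_of_isClosedUnderIsomorphisms]
  intro K _ y
  have h1 : IsReduced (pullback f y) :=
    pullback_of_geometrically (GeometricallyReduced.geometrically_isReduced (f := f)) K y
  have h2 : IsReduced (pullback j (pullback.fst f y)) :=
    isReduced_of_isOpenImmersion (pullback.snd j (pullback.fst f y))
  exact isReduced_of_isOpenImmersion (pullbackRightPullbackFstIso f y j).inv

/-- A geometrically reduced affine scheme over a field has geometrically reduced coordinate
ring. -/
theorem isGeometricallyReduced_of_geometricallyReduced_spec (k A : Type u) [Field k] [CommRing A]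
    [Algebra k A]
    [GeometricallyReduced (Spec.map (CommRingCat.ofHom (algebraMap k A)))] :
    Algebra.IsGeometricallyReduced k A := by
  rw [Algebra.isGeometricallyReduced_field_iff]
  have h1 : IsReduced (pullback (Spec.map (CommRingCat.ofHom (algebraMap k A)))
      (Spec.map (CommRingCat.ofHom (algebraMap k (AlgebraicClosure k))))) :=
    pullback_of_geometrically (GeometricallyReduced.geometrically_isReduced
      (f := Spec.map (CommRingCat.ofHom (algebraMap k A)))) (AlgebraicClosure k) _
  have h2 : IsReduced (Spec (CommRingCat.of (A ⊗[k] AlgebraicClosure k))) :=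
    isReduced_of_isOpenImmersion (pullbackSpecIso k A (AlgebraicClosure k)).inv
  have h3 : _root_.IsReduced (A ⊗[k] AlgebraicClosure k) := (affine_isReduced_iff _).mp h2
  exact isReduced_of_injective (Algebra.TensorProduct.comm k (AlgebraicClosure k) A)
    (Algebra.TensorProduct.comm k (AlgebraicClosure k) A).injective

/-- Every nonempty open subset of a geometrically reduced scheme over a field `k` contains a
separable point (the generic point of an irreducible component). -/
theorem exists_sepPoint_mem {k : Type u} [Field k] {Z : Scheme.{u}}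
    (f : Z ⟶ Spec (CommRingCat.of k)) [GeometricallyReduced f] (V : Z.Opens) (y : Z)
    (hy : y ∈ V) :
    ∃ (K : Type u) (_ : Field K) (_ : Algebra k K) (_ : Algebra.IsGeometricallyReduced k K)
      (x : Spec (CommRingCat.of K) ⟶ Z),
      x ≫ f = Spec.map (CommRingCat.ofHom (algebraMap k K)) ∧
        x.base (IsLocalRing.closedPoint K) ∈ V := by
  let 𝒰 := Z.affineOpenCover
  obtain ⟨i, q, hq⟩ : ∃ (i : 𝒰.I₀) (q : Spec (𝒰.X i)), (𝒰.f i).base q = y :=
    ⟨𝒰.idx y, 𝒰.covers y⟩
  let ρ : CommRingCat.of k ⟶ 𝒰.X i := Spec.preimage (𝒰.f i ≫ f)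
  have hρ : Spec.map ρ = 𝒰.f i ≫ f := Spec.map_preimage _
  let _ : Algebra k (𝒰.X i) := ρ.hom.toAlgebra
  have hρ' : Spec.map (CommRingCat.ofHom (algebraMap k (𝒰.X i))) = 𝒰.f i ≫ f := hρ
  have hGR : GeometricallyReduced (Spec.map (CommRingCat.ofHom (algebraMap k (𝒰.X i)))) := by
    rw [hρ']
    exact geometricallyReduced_comp_of_isOpenImmersion _ _
  have hA : Algebra.IsGeometricallyReduced k (𝒰.X i) :=
    isGeometricallyReduced_of_geometricallyReduced_spec k (𝒰.X i)
  have hAred : _root_.IsReduced (𝒰.X i) := Algebra.isReduced_of_isGeometricallyReduced k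
  -- a minimal prime below `q`
  let q' : PrimeSpectrum (𝒰.X i) := q
  have hq'prime : q'.asIdeal.IsPrime := q'.isPrime
  obtain ⟨P, hPmin, hPle⟩ := Ideal.exists_minimalPrimes_le (I := ⊥) (J := q'.asIdeal) bot_le
  have hPprime : P.IsPrime := hPmin.1.1
  let pP : PrimeSpectrum (𝒰.X i) := ⟨P, hPprime⟩
  have hspec : pP ⤳ q' := (PrimeSpectrum.le_iff_specializes pP q').mp hPle
  have hqW : q ∈ ((𝒰.f i) ⁻¹ᵁ V : (Spec (𝒰.X i)).Opens) := by
    change (𝒰.f i).base q ∈ V
    rw [hq]
    exact hy
  have hPW : pP ∈ ((𝒰.f i) ⁻¹ᵁ V : (Spec (𝒰.X i)).Opens) :=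
    hspec.mem_open ((𝒰.f i) ⁻¹ᵁ V).isOpen hqW
  -- the field
  have hmin : P ∈ minimalPrimes (𝒰.X i) := hPmin
  have : Ring.KrullDimLE 0 (Localization.AtPrime P) := .of_isLocalization _ hmin _
  let _ : Field (Localization.AtPrime P) := Ring.KrullDimLE.isField_of_isReduced.toField
  have hK : Algebra.IsGeometricallyReduced k (Localization.AtPrime P) :=
    Groth.Agent.Lib.Seat36.FieldGonflement.isGeometricallyReduced_of_isLocalization k (𝒰.X i)
      (Localization.AtPrime P) P.primeCompl
  refine ⟨Localization.AtPrime P, inferInstance, inferInstance, hK,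
    Spec.map (CommRingCat.ofHom (algebraMap (𝒰.X i) (Localization.AtPrime P))) ≫ 𝒰.f i, ?_, ?_⟩
  · rw [Category.assoc, ← hρ', ← Spec.map_comp, ← CommRingCat.ofHom_comp]
  · have h1 : (Spec.map (CommRingCat.ofHom (algebraMap (𝒰.X i) (Localization.AtPrime P)))).base
        (IsLocalRing.closedPoint (Localization.AtPrime P)) = pP := by
      apply PrimeSpectrum.ext
      change Ideal.comap (algebraMap (𝒰.X i) (Localization.AtPrime P))
        (IsLocalRing.maximalIdeal (Localization.AtPrime P)) = P
      exact IsLocalization.AtPrime.under_maximalIdeal (Localization.AtPrime P) P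
    change (𝒰.f i).base ((Spec.map (CommRingCat.ofHom (algebraMap (𝒰.X i)
      (Localization.AtPrime P)))).base (IsLocalRing.closedPoint (Localization.AtPrime P))) ∈ V
    rw [h1]
    exact hPW

/-- A separable point of a `k`-scheme. -/
structure SepPoint {k : Type u} [Field k] {X : Scheme.{u}} (f : X ⟶ Spec (CommRingCat.of k)) :
    Type (u + 1) where
  K : Type u
  [field : Field K]
  [alg : Algebra k K]
  [gr : Algebra.IsGeometricallyReduced k K]
  pt : Spec (CommRingCat.of K) ⟶ X
  w : pt ≫ f = Spec.map (CommRingCat.ofHom (algebraMap k K))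

attribute [instance] SepPoint.field SepPoint.alg SepPoint.gr

variable {k : Type u} [Field k] {X : Scheme.{u}} (f : X ⟶ Spec (CommRingCat.of k))

/-- The set of images of separable points. -/
def sepSet : Set X := Set.range fun c : SepPoint f => c.pt.base (IsLocalRing.closedPoint c.K)

/-- closure of the separable points -/
def sepClosure : Closeds X := Closeds.closure (sepSet f)

open Groth.Agent.Lib.Helper11RedCl

theorem range_subset_sepClosure (c : SepPoint f) :
    Set.range c.pt.base ⊆ (sepClosure f : Set X) := by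
  rintro _ ⟨x, rfl⟩
  have hx : x = IsLocalRing.closedPoint c.K := Subsingleton.elim _ _
  rw [hx]
  exact subset_closure ⟨c, rfl⟩

/-- **Existence** -/
theorem exists_max_geomReduced :
    IsClosedImmersion (Scheme.IdealSheafData.vanishingIdeal (sepClosure f)).subschemeι ∧
    GeometricallyReduced ((Scheme.IdealSheafData.vanishingIdeal (sepClosure f)).subschemeι ≫ f) ∧
    (∀ c : SepPoint f, ∃ y : Spec (CommRingCat.of c.K) ⟶
        (Scheme.IdealSheafData.vanishingIdeal (sepClosure f)).subscheme,
      y ≫ (Scheme.IdealSheafData.vanishingIdeal (sepClosure f)).subschemeι = c.pt) := by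
  set Z := (Scheme.IdealSheafData.vanishingIdeal (sepClosure f)).subscheme with hZ
  set z := (Scheme.IdealSheafData.vanishingIdeal (sepClosure f)).subschemeι with hz
  have hlift : ∀ c : SepPoint f, ∃ y : Spec (CommRingCat.of c.K) ⟶ Z, y ≫ z = c.pt :=
    fun c => exists_lift_of_range_subset c.pt (sepClosure f) (range_subset_sepClosure f c)
  refine ⟨inferInstance, ?_, hlift⟩
  choose l hl using hlift
  refine geometricallyReduced_of_dense_sepPoints (z ≫ f) (fun c : SepPoint f => c.K) l ?_ ?_
  · intro c
    rw [← Category.assoc, hl, c.w]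
  · have hemb : Topology.IsClosedEmbedding z.base := Scheme.Hom.isClosedEmbedding z
    rw [hemb.isEmbedding.isInducing.dense_iff]
    intro y
    have hrange : z.base y ∈ (sepClosure f : Set X) := by
      rw [← range_subschemeι_vanishingIdeal (sepClosure f)]
      exact ⟨y, rfl⟩
    have himg : z.base '' (Set.range fun c : SepPoint f => (l c).base (IsLocalRing.closedPoint c.K))
        = sepSet f := by
      ext x
      constructor
      · rintro ⟨_, ⟨c, rfl⟩, rfl⟩
        refine ⟨c, ?_⟩
        have := congrArg (fun m : Spec (CommRingCat.of c.K) ⟶ X =>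
          m.base (IsLocalRing.closedPoint c.K)) (hl c)
        exact this.symm
      · rintro ⟨c, rfl⟩
        refine ⟨_, ⟨c, rfl⟩, ?_⟩
        have := congrArg (fun m : Spec (CommRingCat.of c.K) ⟶ X =>
          m.base (IsLocalRing.closedPoint c.K)) (hl c)
        exact this
    rw [himg]
    exact hrange

/-- **Uniqueness** -/
theorem unique_max_geomReduced {Z' : Scheme.{u}} (z' : Z' ⟶ X) [IsClosedImmersion z']
    [GeometricallyReduced (z' ≫ f)]
    (hpts : ∀ c : SepPoint f, ∃ y : Spec (CommRingCat.of c.K) ⟶ Z', y ≫ z' = c.pt) :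
    ∃ e : Z' ≅ (Scheme.IdealSheafData.vanishingIdeal (sepClosure f)).subscheme,
      e.hom ≫ (Scheme.IdealSheafData.vanishingIdeal (sepClosure f)).subschemeι = z' := by
  have hred : IsReduced Z' :=
    self_of_isIntegral_of_geometrically
      (GeometricallyReduced.geometrically_isReduced (f := z' ≫ f))
  have hemb : Topology.IsClosedEmbedding z'.base := Scheme.Hom.isClosedEmbedding z'
  have hsub : sepSet f ⊆ Set.range z'.base := by
    rintro _ ⟨c, rfl⟩
    obtain ⟨y, hy⟩ := hpts c
    refine ⟨y.base (IsLocalRing.closedPoint c.K), ?_⟩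
    have := congrArg (fun m : Spec (CommRingCat.of c.K) ⟶ X =>
      m.base (IsLocalRing.closedPoint c.K)) hy
    exact this
  have h1 : (sepClosure f : Set X) ⊆ Set.range z'.base :=
    closure_minimal hsub hemb.isClosed_range
  have h2 : Set.range z'.base ⊆ (sepClosure f : Set X) := by
    rintro _ ⟨y, rfl⟩
    by_contra hy
    let V : Z'.Opens := z' ⁻¹ᵁ ⟨(sepClosure f : Set X)ᶜ, (sepClosure f).isClosed.isOpen_compl⟩
    have hyV : y ∈ V := hy
    obtain ⟨K, _, _, _, x, hx, hxV⟩ := exists_sepPoint_mem (z' ≫ f) V y hyV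
    let c : SepPoint f := ⟨K, x ≫ z', by rw [Category.assoc, hx]⟩
    have hc : c.pt.base (IsLocalRing.closedPoint K) ∈ (sepClosure f : Set X) :=
      subset_closure ⟨c, rfl⟩
    exact hxV hc
  obtain ⟨l₁, hl₁⟩ := exists_lift_of_range_subset z' (sepClosure f) h2
  obtain ⟨l₂, hl₂⟩ := exists_lift_of_subset_range z' (sepClosure f) h1
  have hmono' : Mono z' := inferInstance
  have hmono : Mono (Scheme.IdealSheafData.vanishingIdeal (sepClosure f)).subschemeι :=
    inferInstance
  refine ⟨⟨l₁, l₂, ?_, ?_⟩, hl₁⟩
  · rw [← cancel_mono z', Category.assoc, hl₂, hl₁, Category.id_comp]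
  · rw [← cancel_mono (Scheme.IdealSheafData.vanishingIdeal (sepClosure f)).subschemeι,
      Category.assoc, hl₁, hl₂, Category.id_comp]

end Groth.Agent.Lib.Seat36.SepPoints
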