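/-
Seat36GenSubgroup (helper36): the closed subgroup scheme generated by a morphism `f : X ⟶ G` from a
geometrically reduced scheme to a group scheme over a field.
-/
import Mathlib
import Groth.Agent.Lib.Seat36GeomRedProd
import Groth.Agent.Lib.Seat36SepGroup
import Groth.Agent.Lib.Helper11SubGrp

set_option autoImplicit false
universe u
open CategoryTheory AlgebraicGeometry Limits TopologicalSpace MonoidalCategory
  CartesianMonoidalCategory MonObj

namespace Groth.Agent.Lib.Seat36.GenSubgroup

open Groth.Agent.Lib.Seat36.SepPoints Groth.Agent.Lib.Helper11RedCl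
  Groth.Agent.Lib.Seat36.GeomRedProd Groth.Agent.Lib.Seat36.SepGroup

variable {k : Type u} [Field k] {G X : Over (Spec (CommRingCat.of k))} [GrpObj G]

/-- The word morphisms built from `f : X ⟶ G`: `f`, the unit, products and inverses. -/
inductive IsWord (f : X ⟶ G) : ∀ (T : Over (Spec (CommRingCat.of k))), (T ⟶ G) → Prop
  | base : IsWord f X f
  | one : IsWord f (𝟙_ _) 1
  | mul {T T' : Over (Spec (CommRingCat.of k))} {φ : T ⟶ G} {φ' : T' ⟶ G} :
      IsWord f T φ → IsWord f T' φ' → IsWord f (T ⊗ T') ((fst T T' ≫ φ) * (snd T T' ≫ φ'))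
  | inv {T : Over (Spec (CommRingCat.of k))} {φ : T ⟶ G} : IsWord f T φ → IsWord f T φ⁻¹

variable {f : X ⟶ G}

theorem IsWord.geometricallyReduced [GeometricallyReduced X.hom]
    {T : Over (Spec (CommRingCat.of k))} {φ : T ⟶ G} (h : IsWord f T φ) :
    GeometricallyReduced T.hom := by
  induction h with
  | base => infer_instance
  | one => exact geometricallyReduced_unit
  | mul _ _ ih ih' => exact geometricallyReduced_tensor _ _
  | inv _ ih => exact ih

/-- Every word factors through any subgroup through which `f` factors. -/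
theorem IsWord.factors {Γ' : Over (Spec (CommRingCat.of k))} [GrpObj Γ'] (i' : Γ' ⟶ G)
    [IsMonHom i'] (hf : ∃ f'' : X ⟶ Γ', f'' ≫ i' = f)
    {T : Over (Spec (CommRingCat.of k))} {φ : T ⟶ G} (h : IsWord f T φ) :
    ∃ l : T ⟶ Γ', l ≫ i' = φ := by
  induction h with
  | base => exact hf
  | one => exact ⟨1, by rw [MonObj.one_comp]⟩
  | mul _ _ ih ih' =>
    obtain ⟨l, hl⟩ := ih
    obtain ⟨l', hl'⟩ := ih'
    refine ⟨(fst _ _ ≫ l) * (snd _ _ ≫ l'), ?_⟩
    rw [MonObj.mul_comp, Category.assoc, Category.assoc, hl, hl']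
  | inv _ ih =>
    obtain ⟨l, hl⟩ := ih
    exact ⟨l⁻¹, by rw [GrpObj.inv_comp, hl]⟩

variable (f)

/-- The set of points of `G` hit by some word. -/
noncomputable def wordSet : Set G.left :=
  {g | ∃ (T : Over (Spec (CommRingCat.of k))) (φ : T ⟶ G), IsWord f T φ ∧ g ∈ Set.range φ.left}

/-- The closure of the set of word points. -/
noncomputable def genClosed : Closeds G.left := Closeds.closure (wordSet f)

/-- The reduced closed subscheme on the closure of the word points. -/
noncomputable def genSub : Over (Spec (CommRingCat.of k)) :=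
  Over.mk ((Scheme.IdealSheafData.vanishingIdeal (genClosed f)).subschemeι ≫ G.hom)

/-- The inclusion of `genSub f`. -/
noncomputable def genι : genSub f ⟶ G :=
  Over.homMk (Scheme.IdealSheafData.vanishingIdeal (genClosed f)).subschemeι rfl

instance : IsClosedImmersion (genι f).left := by
  change IsClosedImmersion (Scheme.IdealSheafData.vanishingIdeal (genClosed f)).subschemeι
  infer_instance

instance : IsReduced (genSub f).left := by
  change IsReduced (Scheme.IdealSheafData.vanishingIdeal (genClosed f)).subscheme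
  infer_instance

theorem range_genι : Set.range (genι f).left = closure (wordSet f) := by
  change Set.range (Scheme.IdealSheafData.vanishingIdeal (genClosed f)).subschemeι = _
  rw [range_subschemeι_vanishingIdeal]
  rfl

instance : Mono (genι f) := by
  have : Mono ((Over.forget _).map (genι f)) := by
    change Mono (genι f).left
    infer_instance
  exact (Over.forget _).mono_of_mono_map this

variable {f}

/-- Every word factors through `genSub f`. -/
theorem IsWord.factors_genι [GeometricallyReduced X.hom]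
    {T : Over (Spec (CommRingCat.of k))} {φ : T ⟶ G} (h : IsWord f T φ) :
    ∃ l : T ⟶ genSub f, l ≫ genι f = φ := by
  have hgr := h.geometricallyReduced
  have hred : IsReduced T.left := self_of_isIntegral_of_geometrically
    (GeometricallyReduced.geometrically_isReduced (f := T.hom))
  have hsub : Set.range φ.left ⊆ (genClosed f : Set G.left) := by
    rintro _ ⟨t, rfl⟩
    exact subset_closure ⟨T, φ, h, ⟨t, rfl⟩⟩
  obtain ⟨l, hl⟩ := exists_lift_of_range_subset φ.left (genClosed f) hsub
  refine ⟨Over.homMk l ?_, ?_⟩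
  · change l ≫ (Scheme.IdealSheafData.vanishingIdeal (genClosed f)).subschemeι ≫ G.hom = T.hom
    rw [← Category.assoc, hl, Over.w]
  · ext
    exact hl

/-- A closed subscheme of `G` through which all words factor contains `genSub f`. -/
theorem exists_lift_genι {Z : Over (Spec (CommRingCat.of k))} (j : Z ⟶ G)
    [IsClosedImmersion j.left]
    (h : ∀ (T : Over (Spec (CommRingCat.of k))) (φ : T ⟶ G), IsWord f T φ →
      ∃ l : T ⟶ Z, l ≫ j = φ) :
    ∃ l : genSub f ⟶ Z, l ≫ j = genι f := by
  have hcl : IsClosed (Set.range j.left) := (Scheme.Hom.isClosedEmbedding j.left).isClosed_range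
  have hsub : (genClosed f : Set G.left) ⊆ Set.range j.left := by
    apply closure_minimal _ hcl
    rintro _ ⟨T, φ, hφ, ⟨t, rfl⟩⟩
    obtain ⟨l, hl⟩ := h T φ hφ
    refine ⟨l.left t, ?_⟩
    rw [← hl]
    rfl
  obtain ⟨l, hl⟩ := exists_lift_of_subset_range j.left (genClosed f) hsub
  refine ⟨Over.homMk l ?_, ?_⟩
  · change l ≫ Z.hom = (Scheme.IdealSheafData.vanishingIdeal (genClosed f)).subschemeι ≫ G.hom
    rw [← hl, Category.assoc, Over.w]
  · ext
    exact hl

variable (f) in
/-- `genSub f` is geometrically reduced. -/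
theorem geometricallyReduced_genSub [GeometricallyReduced X.hom] :
    GeometricallyReduced (genSub f).hom := by
  refine geometricallyReduced_of_dense_sepPoints (genSub f).hom
    (fun c : SepPoint (genSub f).hom => c.K) (fun c => c.pt) (fun c => c.w) ?_
  rw [dense_iff_inter_open]
  rintro V hV ⟨y₀, hy₀⟩
  have hdense : Dense ((genι f).left ⁻¹' wordSet f) := by
    have hind : Topology.IsInducing (genι f).left :=
      (Scheme.Hom.isClosedEmbedding (genι f).left).isInducing
    rw [dense_iff_closure_eq, hind.closure_eq_preimage_closure_image,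
      Set.image_preimage_eq_inter_range, range_genι,
      Set.inter_eq_left.mpr subset_closure, ← range_genι]
    ext y
    simp
  obtain ⟨y, hyV, hyD⟩ := hdense.inter_open_nonempty V hV ⟨y₀, hy₀⟩
  obtain ⟨T, φ, hφ, t, ht⟩ := hyD
  obtain ⟨l, hl⟩ := hφ.factors_genι
  have hly : l.left t = y := by
    apply (Scheme.Hom.isClosedEmbedding (genι f).left).injective
    rw [← ht, ← hl]
    rfl
  haveI := hφ.geometricallyReduced
  obtain ⟨K, _, _, _, x, hx, hxV⟩ := exists_sepPoint_mem T.hom (l.left ⁻¹ᵁ ⟨V, hV⟩) t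
    (by change l.left t ∈ V; rw [hly]; exact hyV)
  refine ⟨_, hxV, ⟨⟨K, x ≫ l.left, ?_⟩, rfl⟩⟩
  rw [Category.assoc, Over.w l, hx]

/-- Left multiplication by a word preserves `genSub f`. -/
theorem IsWord.exists_mul_left [GeometricallyReduced X.hom]
    {T : Over (Spec (CommRingCat.of k))} {φ : T ⟶ G} (h : IsWord f T φ) :
    ∃ l : T ⊗ genSub f ⟶ genSub f,
      l ≫ genι f = (fst T (genSub f) ≫ φ) * (snd T (genSub f) ≫ genι f) := by
  obtain ⟨Z, j, hj, hZ⟩ := Groth.Agent.Lib.Helper11SubGrp.exists_closedImmersion_transp_over k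
    T G G (genSub f) ((fst T G ≫ φ) * snd T G) (genι f)
  have hc : ∀ {T' : Over (Spec (CommRingCat.of k))} (x : T' ⟶ G),
      (T ◁ x) ≫ ((fst T G ≫ φ) * snd T G) = (fst T T' ≫ φ) * (snd T T' ≫ x) := by
    intro T' x
    rw [MonObj.comp_mul, ← Category.assoc, whiskerLeft_fst, whiskerLeft_snd]
  obtain ⟨l₀, hl₀⟩ := exists_lift_genι j (fun T' φ' hφ' => (hZ T' φ').mpr (by
    rw [hc]
    exact (IsWord.mul h hφ').factors_genι))
  obtain ⟨l, hl⟩ := (hZ (genSub f) (genι f)).mp ⟨l₀, hl₀⟩
  exact ⟨l, by rw [hl, hc]⟩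

variable (f)

/-- `genSub f` is stable under multiplication. -/
theorem exists_mul [GeometricallyReduced X.hom] :
    ∃ m : genSub f ⊗ genSub f ⟶ genSub f,
      m ≫ genι f = (fst _ _ ≫ genι f) * (snd _ _ ≫ genι f) := by
  obtain ⟨Z, j, hj, hZ⟩ := Groth.Agent.Lib.Helper11SubGrp.exists_closedImmersion_transp_over k
    (genSub f) G G (genSub f) (snd (genSub f) G * (fst (genSub f) G ≫ genι f)) (genι f)
  have hc : ∀ {T' : Over (Spec (CommRingCat.of k))} (x : T' ⟶ G),
      ((genSub f) ◁ x) ≫ (snd (genSub f) G * (fst (genSub f) G ≫ genι f)) =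
        (snd (genSub f) T' ≫ x) * (fst (genSub f) T' ≫ genι f) := by
    intro T' x
    rw [MonObj.comp_mul, ← Category.assoc, whiskerLeft_fst, whiskerLeft_snd]
  obtain ⟨l₀, hl₀⟩ := exists_lift_genι j (fun T' φ' hφ' => (hZ T' φ').mpr (by
    rw [hc]
    obtain ⟨l₁, hl₁⟩ := IsWord.exists_mul_left (f := f) hφ'
    refine ⟨(β_ (genSub f) T').hom ≫ l₁, ?_⟩
    rw [Category.assoc, hl₁, MonObj.comp_mul, ← Category.assoc, ← Category.assoc,
      braiding_hom_fst, braiding_hom_snd]))
  obtain ⟨m₀, hm₀⟩ := (hZ (genSub f) (genι f)).mp ⟨l₀, hl₀⟩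
  refine ⟨(β_ (genSub f) (genSub f)).hom ≫ m₀, ?_⟩
  rw [Category.assoc, hm₀, hc, MonObj.comp_mul, ← Category.assoc, ← Category.assoc,
    braiding_hom_fst, braiding_hom_snd]

/-- `genSub f` is stable under inversion. -/
theorem exists_inv [GeometricallyReduced X.hom] :
    ∃ w : genSub f ⟶ genSub f, w ≫ genι f = (genι f)⁻¹ := by
  have hcl : IsClosedImmersion ((genι f)⁻¹).left := by
    have : ((genι f)⁻¹).left = (genι f).left ≫ (ι[G] : G ⟶ G).left := rfl
    rw [this]
    have : IsIso (ι[G] : G ⟶ G).left :=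
      inferInstanceAs (IsIso ((Over.forget _).map (ι[G] : G ⟶ G)))
    infer_instance
  obtain ⟨w, hw⟩ := exists_lift_genι (f := f) ((genι f)⁻¹) (fun T φ hφ => by
    obtain ⟨l, hl⟩ := (IsWord.inv hφ).factors_genι
    exact ⟨l, by rw [GrpObj.comp_inv, hl, inv_inv]⟩)
  refine ⟨w, ?_⟩
  rw [GrpObj.comp_inv] at hw
  have h1 : w ≫ genι f = ((w ≫ genι f)⁻¹)⁻¹ := (inv_inv _).symm
  rw [h1, hw]

/-- `genSub f` is a subgroup scheme of `G`. -/
theorem exists_grpObj_genSub [GeometricallyReduced X.hom] :
    ∃ (_ : GrpObj (genSub f)), IsMonHom (genι f) := by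
  obtain ⟨m, hm⟩ := exists_mul f
  obtain ⟨w, hw⟩ := exists_inv f
  obtain ⟨e, he⟩ := (IsWord.one (f := f)).factors_genι
  exact Groth.Agent.Lib.Helper11SubGrp.exists_grpObj_of_points (genι f) ⟨e, he⟩
    (fun a b => ⟨lift a b ≫ m, by
      rw [Category.assoc, hm, MonObj.comp_mul, lift_fst_assoc, lift_snd_assoc]⟩)
    (fun a => ⟨a ≫ w, by rw [Category.assoc, hw, GrpObj.comp_inv]⟩)

/-- S3028: the smallest closed subgroup scheme through which `f` factors exists and is
geometrically reduced. -/
theorem exists_smallest_closed_subgroup [GeometricallyReduced X.hom] :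
    ∃ (Γ : Over (Spec (CommRingCat.of k))) (_ : GrpObj Γ) (i : Γ ⟶ G), IsMonHom i ∧
      IsClosedImmersion i.left ∧ (∃ f' : X ⟶ Γ, f' ≫ i = f) ∧ GeometricallyReduced Γ.hom ∧
      ∀ (Γ' : Over (Spec (CommRingCat.of k))) (_ : GrpObj Γ') (i' : Γ' ⟶ G), IsMonHom i' →
        IsClosedImmersion i'.left → (∃ f'' : X ⟶ Γ', f'' ≫ i' = f) → ∃ j : Γ ⟶ Γ', j ≫ i' = i := by
  obtain ⟨inst, hmon⟩ := exists_grpObj_genSub f
  refine ⟨genSub f, inst, genι f, hmon, inferInstance, IsWord.base.factors_genι,
    geometricallyReduced_genSub f, ?_⟩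
  intro Γ' _ i' hi' hcl hf''
  exact exists_lift_genι i' (fun T φ hφ => hφ.factors i' hf'')

end Groth.Agent.Lib.Seat36.GenSubgroup
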