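/-
Seat36GenSubgroupConn (helper36): uniqueness of the generated closed subgroup scheme, and its
connectedness when `X` is connected with a rational point mapping to the unit.
-/
import Mathlib
import Groth.Agent.Lib.Seat36GenSubgroup
import Groth.Agent.Lib.Helper12GeomConn

set_option autoImplicit false
universe u
open CategoryTheory AlgebraicGeometry Limits TopologicalSpace MonoidalCategory
  CartesianMonoidalCategory MonObj

namespace Groth.Agent.Lib.Seat36.GenSubgroup

variable {k : Type u} [Field k] {G X : Over (Spec (CommRingCat.of k))} [GrpObj G] {f : X ⟶ G}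

/-- Any smallest closed subgroup scheme through which `f` factors is isomorphic to `genSub f`. -/
theorem exists_iso_genSub [GeometricallyReduced X.hom]
    (Γ : Over (Spec (CommRingCat.of k))) [GrpObj Γ] (i : Γ ⟶ G) [IsMonHom i]
    [IsClosedImmersion i.left] (hf : ∃ f' : X ⟶ Γ, f' ≫ i = f)
    (hmin : ∀ (Γ' : Over (Spec (CommRingCat.of k))) (_ : GrpObj Γ') (i' : Γ' ⟶ G), IsMonHom i' →
      IsClosedImmersion i'.left → (∃ f'' : X ⟶ Γ', f'' ≫ i' = f) → ∃ j : Γ ⟶ Γ', j ≫ i' = i) :
    ∃ e : Γ ≅ genSub f, e.hom ≫ genι f = i := by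
  obtain ⟨inst, hmon⟩ := exists_grpObj_genSub f
  obtain ⟨j, hj⟩ := hmin (genSub f) inst (genι f) hmon inferInstance IsWord.base.factors_genι
  obtain ⟨j', hj'⟩ := exists_lift_genι i (fun T φ hφ => hφ.factors i hf)
  have hmono : Mono i := by
    have : Mono ((Over.forget _).map i) := by
      change Mono i.left
      infer_instance
    exact (Over.forget _).mono_of_mono_map this
  refine ⟨⟨j, j', ?_, ?_⟩, hj⟩
  · rw [← cancel_mono i, Category.assoc, hj', hj, Category.id_comp]
  · rw [← cancel_mono (genι f), Category.assoc, hj, hj', Category.id_comp]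

section conn

instance : Subsingleton ↥(Spec (CommRingCat.of k)) :=
  inferInstanceAs (Subsingleton (PrimeSpectrum k))

instance : Nonempty ↥(Spec (CommRingCat.of k)) :=
  inferInstanceAs (Nonempty (PrimeSpectrum k))

theorem geometricallyConnected_unit :
    GeometricallyConnected (𝟙_ (Over (Spec (CommRingCat.of k)))).hom := by
  change GeometricallyConnected (𝟙 (Spec (CommRingCat.of k)))
  haveI : ConnectedSpace ↥(Spec (CommRingCat.of k)) :=
    inferInstanceAs (ConnectedSpace (PrimeSpectrum k))
  exact Groth.Agent.Lib.Helper12.GeomConn.geometricallyConnected_of_section _ (𝟙 _)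
    (Category.id_comp _)

theorem geometricallyConnected_tensor (Z Z' : Over (Spec (CommRingCat.of k)))
    [GeometricallyConnected Z.hom] [GeometricallyConnected Z'.hom] :
    GeometricallyConnected (Z ⊗ Z').hom := by
  rw [Over.tensorObj_hom]
  exact GeometricallyConnected.comp _ _

/-- If `X` is connected with a rational point mapping to the unit of `G`, every word scheme is
geometrically connected and has a rational point mapping to the unit. -/
theorem IsWord.geometricallyConnected [ConnectedSpace X.left]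
    (x : 𝟙_ (Over (Spec (CommRingCat.of k))) ⟶ X) (hx : x ≫ f = 1)
    {T : Over (Spec (CommRingCat.of k))} {φ : T ⟶ G} (h : IsWord f T φ) :
    GeometricallyConnected T.hom ∧ ∃ t₀ : 𝟙_ (Over (Spec (CommRingCat.of k))) ⟶ T, t₀ ≫ φ = 1 := by
  induction h with
  | base =>
    refine ⟨?_, x, hx⟩
    exact Groth.Agent.Lib.Helper12.GeomConn.geometricallyConnected_of_section X.hom x.left
      (Over.w x)
  | one => exact ⟨geometricallyConnected_unit, 𝟙 _, Category.id_comp _⟩
  | mul _ _ ih ih' =>
    obtain ⟨h1, t₀, ht₀⟩ := ih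
    obtain ⟨h1', t₀', ht₀'⟩ := ih'
    refine ⟨geometricallyConnected_tensor _ _, lift t₀ t₀', ?_⟩
    rw [MonObj.comp_mul, lift_fst_assoc, lift_snd_assoc, ht₀, ht₀', _root_.mul_one]
  | inv _ ih =>
    obtain ⟨h1, t₀, ht₀⟩ := ih
    exact ⟨h1, t₀, by rw [GrpObj.comp_inv, ht₀, _root_.inv_one]⟩

/-- `genSub f` is connected when `X` is connected with a rational point over the unit. -/
theorem connectedSpace_genSub [GeometricallyReduced X.hom] [ConnectedSpace X.left]
    (x : 𝟙_ (Over (Spec (CommRingCat.of k))) ⟶ X) (hx : x ≫ f = 1) :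
    ConnectedSpace (genSub f).left := by
  obtain ⟨pt⟩ : Nonempty ↥(𝟙_ (Over (Spec (CommRingCat.of k)))).left :=
    inferInstanceAs (Nonempty ↥(Spec (CommRingCat.of k)))
  set e : G.left := (1 : 𝟙_ (Over (Spec (CommRingCat.of k))) ⟶ G).left pt with he
  -- the word set is a union of connected sets through `e`
  have hws : wordSet f = ⋃₀ {S : Set G.left | ∃ (T : Over (Spec (CommRingCat.of k))) (φ : T ⟶ G),
      IsWord f T φ ∧ S = Set.range φ.left} := by
    ext g
    constructor
    · rintro ⟨T, φ, hφ, hg⟩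
      exact ⟨_, ⟨T, φ, hφ, rfl⟩, hg⟩
    · rintro ⟨_, ⟨T, φ, hφ, rfl⟩, hg⟩
      exact ⟨T, φ, hφ, hg⟩
  have hpre : _root_.IsPreconnected (wordSet f) := by
    rw [hws]
    apply isPreconnected_sUnion e
    · rintro _ ⟨T, φ, hφ, rfl⟩
      obtain ⟨-, t₀, ht₀⟩ := hφ.geometricallyConnected x hx
      refine ⟨t₀.left pt, ?_⟩
      rw [he, ← ht₀]
      rfl
    · rintro _ ⟨T, φ, hφ, rfl⟩
      obtain ⟨hgc, -⟩ := hφ.geometricallyConnected x hx
      haveI : ConnectedSpace T.left :=
        GeometricallyConnected.connectedSpace_of_subsingleton (f := T.hom)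
      exact isPreconnected_range φ.left.continuous
  have hemem : e ∈ wordSet f := ⟨𝟙_ _, 1, IsWord.one, pt, rfl⟩
  have hcl : _root_.IsPreconnected (closure (wordSet f)) := hpre.closure
  have hind : Topology.IsInducing (genι f).left :=
    (Scheme.Hom.isClosedEmbedding (genι f).left).isInducing
  have huniv : _root_.IsPreconnected (Set.univ : Set (genSub f).left) := by
    rw [← hind.isPreconnected_image, Set.image_univ, range_genι]
    exact hcl
  have hne : Nonempty (genSub f).left := by
    have : e ∈ Set.range (genι f).left := by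
      rw [range_genι]
      exact subset_closure hemem
    obtain ⟨y, -⟩ := this
    exact ⟨y⟩
  haveI : PreconnectedSpace (genSub f).left := ⟨huniv⟩
  exact ⟨hne⟩

/-- S3031. -/
theorem connectedSpace_of_smallest [GeometricallyReduced X.hom] [ConnectedSpace X.left]
    (x : 𝟙_ (Over (Spec (CommRingCat.of k))) ⟶ X) (hx : x ≫ f = η[G])
    (Γ : Over (Spec (CommRingCat.of k))) [GrpObj Γ] (i : Γ ⟶ G) [IsMonHom i]
    [IsClosedImmersion i.left] (hf : ∃ f' : X ⟶ Γ, f' ≫ i = f)
    (hmin : ∀ (Γ' : Over (Spec (CommRingCat.of k))) (_ : GrpObj Γ') (i' : Γ' ⟶ G), IsMonHom i' →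
      IsClosedImmersion i'.left → (∃ f'' : X ⟶ Γ', f'' ≫ i' = f) → ∃ j : Γ ⟶ Γ', j ≫ i' = i) :
    ConnectedSpace Γ.left := by
  obtain ⟨e, -⟩ := exists_iso_genSub Γ i hf hmin
  have hx' : x ≫ f = 1 := by rw [hx, MonObj.one_eq_one]
  have hconn := connectedSpace_genSub x hx'
  haveI : IsIso e.hom.left := inferInstanceAs (IsIso ((Over.forget _).map e.hom))
  exact (e.hom.left.homeomorph.connectedSpace_iff).mpr hconn

end conn

end Groth.Agent.Lib.Seat36.GenSubgroup
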