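import Groth.Prelude.Def_LambdaRing
import Mathlib.Algebra.Polynomial.AlgebraMap
import Mathlib.Algebra.Polynomial.Inductions
import Mathlib.Tactic.LinearCombination

/-!
# Adams operations on line elements of a λ-ring with positive structure

* `adamsSeries_add`: `ψ_t` is additive (no splitting principle needed);
* `adams_line`: `ψ^j(u) = u^j` for a line element `u`, `j ≥ 1`;
* `adams_aeval`: `ψ^j(p(u)) = p(u^j)` for `p ∈ ℤ[X]`;
* `sub_one_pow_mem_gammaFiltration`: `(u-1)^m ∈ F^n` for `1 ≤ n ≤ m`.
-/

set_option autoImplicit false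

universe u

open PowerSeries Finset LambdaRing

namespace Groth.Agent.Lib.Seat36.LambdaAdams

variable {K : Type u} [CommRing K] [LambdaOps K]

theorem lamSeries_add (x y : K) : lamSeries (x + y) = lamSeries x * lamSeries y := by
  ext k
  rw [lamSeries, coeff_mk, LambdaOps.lam_add, coeff_mul,
    Finset.Nat.sum_antidiagonal_eq_sum_range_succ_mk]
  simp [lamSeries]

/-- `λ_{-t}(x)` -/
noncomputable def negLam (x : K) : PowerSeries K := rescale (-1 : K) (lamSeries x)

theorem negLam_add (x y : K) : negLam (x + y) = negLam x * negLam y := by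
  unfold negLam
  rw [lamSeries_add, map_mul]

@[simp]
theorem constantCoeff_negLam (x : K) : constantCoeff (negLam x) = 1 := by
  unfold negLam
  rw [← coeff_zero_eq_constantCoeff_apply, coeff_rescale, pow_zero, one_mul, lamSeries, coeff_mk,
    LambdaOps.lam_zero]

/-- the inverse of `λ_{-t}(x)` -/
noncomputable def invNegLam (x : K) : PowerSeries K := (negLam x).invOfUnit 1

theorem negLam_mul_inv (x : K) : negLam x * invNegLam x = 1 :=
  mul_invOfUnit _ _ (by simp)

theorem invNegLam_add (x y : K) : invNegLam (x + y) = invNegLam x * invNegLam y := by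
  have h1 := negLam_mul_inv (x + y)
  have h2 : negLam (x + y) * (invNegLam x * invNegLam y) = 1 := by
    rw [negLam_add]
    calc negLam x * negLam y * (invNegLam x * invNegLam y)
        = (negLam x * invNegLam x) * (negLam y * invNegLam y) := by ring
      _ = 1 := by rw [negLam_mul_inv, negLam_mul_inv, mul_one]
  calc invNegLam (x + y) = invNegLam (x + y) * (negLam (x + y) * (invNegLam x * invNegLam y)) := by
        rw [h2, mul_one]
    _ = (negLam (x + y) * invNegLam (x + y)) * (invNegLam x * invNegLam y) := by ring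
    _ = invNegLam x * invNegLam y := by rw [h1, one_mul]

theorem adamsSeries_eq (P : PosStructure K) (x : K) :
    adamsSeries P x = PowerSeries.C (P.aug x : K) -
      PowerSeries.X * PowerSeries.derivative K (negLam x) * invNegLam x := rfl

theorem adamsSeries_add (P : PosStructure K) (x y : K) :
    adamsSeries P (x + y) = adamsSeries P x + adamsSeries P y := by
  rw [adamsSeries_eq, adamsSeries_eq, adamsSeries_eq, negLam_add, invNegLam_add,
    Derivation.leibniz, map_add, Int.cast_add, map_add]
  have hx := negLam_mul_inv x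
  have hy := negLam_mul_inv y
  simp only [smul_eq_mul]
  linear_combination (-(PowerSeries.X * (PowerSeries.derivative K) (negLam y) * invNegLam y)) * hx
    - (PowerSeries.X * (PowerSeries.derivative K) (negLam x) * invNegLam x) * hy

theorem adams_add (P : PosStructure K) (j : ℕ) (x y : K) :
    adams P j (x + y) = adams P j x + adams P j y := by
  unfold adams
  rw [adamsSeries_add, map_add]

/-- `ψ^j` as an additive map -/
noncomputable def adamsHom (P : PosStructure K) (j : ℕ) : K →+ K :=
  AddMonoidHom.mk' (adams P j) (adams_add P j)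

@[simp]
theorem adamsHom_apply (P : PosStructure K) (j : ℕ) (x : K) : adamsHom P j x = adams P j x := rfl

theorem lamSeries_line (P : PosStructure K) {u : K} (hu : P.IsLine u) :
    lamSeries u = 1 + PowerSeries.C u * PowerSeries.X := by
  ext i
  rw [lamSeries, coeff_mk, map_add, coeff_one, coeff_C_mul, coeff_X]
  rcases i with _ | _ | i
  · simp [LambdaOps.lam_zero]
  · simp [LambdaOps.lam_one]
  · rw [P.lam_eq_zero u hu.1 (i + 2) (by rw [hu.2]; omega)]
    simp

theorem negLam_line (P : PosStructure K) {u : K} (hu : P.IsLine u) :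
    negLam u = 1 - PowerSeries.C u * PowerSeries.X := by
  unfold negLam
  rw [lamSeries_line P hu]
  ext n
  rw [coeff_rescale, map_add, map_sub, coeff_one, coeff_C_mul, coeff_X]
  rcases n with _ | _ | n
  · simp
  · simp
  · simp

theorem invNegLam_line (P : PosStructure K) {u : K} (hu : P.IsLine u) :
    invNegLam u = PowerSeries.mk fun n => u ^ n := by
  have h1 := negLam_mul_inv u
  have h2 : negLam u * (PowerSeries.mk fun n => u ^ n) = 1 := by
    rw [negLam_line P hu]
    ext n
    rw [sub_mul, one_mul, map_sub, coeff_mk, mul_assoc, coeff_C_mul, coeff_one]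
    rcases n with _ | n
    · simp
    · rw [coeff_succ_X_mul, coeff_mk]
      simp [pow_succ']
  calc invNegLam u = invNegLam u * (negLam u * (PowerSeries.mk fun n => u ^ n)) := by
        rw [h2, mul_one]
    _ = (negLam u * invNegLam u) * (PowerSeries.mk fun n => u ^ n) := by ring
    _ = PowerSeries.mk fun n => u ^ n := by rw [h1, one_mul]

theorem adams_line (P : PosStructure K) {u : K} (hu : P.IsLine u) (j : ℕ) (hj : 1 ≤ j) :
    adams P j u = u ^ j := by
  unfold adams
  have hd : PowerSeries.derivative K (1 - PowerSeries.C u * PowerSeries.X) = PowerSeries.C (-u) := by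
    rw [map_sub, Derivation.leibniz, derivative_C, derivative_X, derivative_one]
    simp
  rw [adamsSeries_eq, invNegLam_line P hu, negLam_line P hu, hu.2, hd]
  obtain ⟨j, rfl⟩ : ∃ i, j = i + 1 := ⟨j - 1, by omega⟩
  rw [map_sub, mul_assoc, coeff_succ_X_mul, coeff_C_mul, coeff_mk, coeff_C]
  simp only [Nat.add_eq_zero_iff, one_ne_zero, and_false, ↓reduceIte, zero_sub]
  ring

theorem isLine_one (P : PosStructure K) : P.IsLine (1 : K) :=
  ⟨by simpa using P.natCast_mem 1 Nat.one_pos, map_one _⟩

theorem isLine_mul (P : PosStructure K) {u v : K} (hu : P.IsLine u) (hv : P.IsLine v) :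
    P.IsLine (u * v) :=
  ⟨P.mul_mem u v hu.1 hv.1, by rw [map_mul, hu.2, hv.2, mul_one]⟩

theorem isLine_pow (P : PosStructure K) {u : K} (hu : P.IsLine u) (n : ℕ) : P.IsLine (u ^ n) := by
  induction n with
  | zero => simpa using isLine_one P
  | succ n ih => rw [pow_succ]; exact isLine_mul P ih hu

open Polynomial in
theorem adams_aeval (P : PosStructure K) {u : K} (hu : P.IsLine u) (j : ℕ) (hj : 1 ≤ j)
    (p : ℤ[X]) : adams P j (Polynomial.aeval u p) = Polynomial.aeval (u ^ j) p := by
  induction p using Polynomial.induction_on' with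
  | add p q hp hq => rw [map_add, adams_add, hp, hq, map_add]
  | monomial n a =>
    rw [Polynomial.aeval_monomial, Polynomial.aeval_monomial, ← adamsHom_apply]
    rw [show (algebraMap ℤ K) a * u ^ n = a • u ^ n by rw [Algebra.smul_def]]
    rw [map_zsmul, adamsHom_apply, adams_line P (isLine_pow P hu n) j hj, Algebra.smul_def,
      ← pow_mul, ← pow_mul, mul_comm n j]

theorem adams_sub_one_pow (P : PosStructure K) {u : K} (hu : P.IsLine u) (j : ℕ) (hj : 1 ≤ j)
    (m : ℕ) : adams P j ((u - 1) ^ m) = (u ^ j - 1) ^ m := by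
  have := adams_aeval P hu j hj ((Polynomial.X - 1) ^ m)
  simpa using this

theorem gamma_one (x : K) : gamma 1 x = x := by
  unfold gamma
  simp [Finset.sum_range_succ, LambdaOps.lam_one]

theorem sub_one_pow_mem_gammaFiltration (P : PosStructure K) {u : K} (hu : P.IsLine u)
    (n m : ℕ) (hn0 : n ≠ 0) (hnm : n ≤ m) : (u - 1) ^ m ∈ gammaFiltration P n := by
  unfold gammaFiltration
  rw [if_neg hn0]
  apply AddSubgroup.subset_closure
  refine ⟨List.replicate m (1, u - 1), ?_, ?_, ?_⟩
  · intro p hp
    rw [List.eq_of_mem_replicate hp]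
    simp [hu.2]
  · simpa using hnm
  · simp [gamma_one]

end Groth.Agent.Lib.Seat36.LambdaAdams
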