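import Mathlib
import Groth.Prelude.Def_PolLaw
import Groth.Prelude.Def_PolLaw2
import Groth.Prelude.Def_W4c5normfunctorschNorm
import Groth.Agent.Lib.Helper14NormBC

/-!
# Restriction and extension of scalars for polynomial laws (helper36)

For a ring map `R → Q`:
* `bc g P : P ⊗[R] X →ₗ[P] P ⊗[Q] Y`, `p ⊗ x ↦ p ⊗ g x` (semiring version of `PolLaw.bcAlong`), `bcAlong_eq_bc`.
* `eY S Y : (Q ⊗[R] S) ⊗[Q] Y ≃+ S ⊗[R] Y`.
* `resLaw Λ : Y₁ →ₚₗ[R] Y₂` for `Λ : Y₁ →ₚₗ[Q] Y₂` (restriction of scalars), `bc_id_resLaw`.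
* `extLaw L : Q ⊗[R] X →ₚₗ[Q] E` for `L : X →ₚₗ[R] E`, `E` a `Q`-module (extension of scalars),
  `extAlong h L : Y →ₚₗ[Q] E` for `h : IsBaseChange Q g`, `extAlong_bc`, `bc_surjective`.
-/

set_option autoImplicit false
universe u
open TensorProduct

namespace Groth.Agent.Lib.Seat36.LawBC

section maps
variable {R : Type u} [CommRing R] {Q : Type u} [CommRing Q] [Algebra R Q]

section bc
variable {X : Type u} [AddCommGroup X] [Module R X]
  {Y : Type u} [AddCommGroup Y] [Module R Y] [Module Q Y] [IsScalarTower R Q Y]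

/-- `p ⊗ x ↦ p ⊗ g x`, `P ⊗[R] X → P ⊗[Q] Y`, for a commutative semiring `P`. -/
noncomputable def bc (g : X →ₗ[R] Y) (P : Type u) [CommSemiring P] [Algebra R P] [Algebra Q P]
    [IsScalarTower R Q P] : P ⊗[R] X →ₗ[P] P ⊗[Q] Y :=
  (LinearMap.baseChange P (g.liftBaseChange Q)) ∘ₗ
    (TensorProduct.AlgebraTensorModule.cancelBaseChange R Q P P X).symm.toLinearMap

@[simp] lemma bc_tmul (g : X →ₗ[R] Y) (P : Type u) [CommSemiring P] [Algebra R P] [Algebra Q P]
    [IsScalarTower R Q P] (p : P) (x : X) : bc (Q := Q) g P (p ⊗ₜ[R] x) = p ⊗ₜ[Q] g x := by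
  simp [bc, TensorProduct.AlgebraTensorModule.cancelBaseChange_symm_tmul]

lemma bcAlong_eq_bc (g : X →ₗ[R] Y) (P : Type u) [CommRing P] [Algebra R P] [Algebra Q P]
    [IsScalarTower R Q P] (z : P ⊗[R] X) : PolLaw.bcAlong g P z = bc (Q := Q) g P z := by
  induction z using TensorProduct.induction_on with
  | zero => simp
  | add a b ha hb => rw [map_add, map_add, ha, hb]
  | tmul p x => rw [Groth.Agent.Lib.Helper14.NormBC.bcAlong_tmul, bc_tmul]

end bc

section eY
variable (S : Type u) [CommSemiring S] [Algebra R S]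
  (Y : Type u) [AddCommGroup Y] [Module R Y] [Module Q Y] [IsScalarTower R Q Y]

/-- `(Q ⊗[R] S) ⊗[Q] Y ≃ S ⊗[R] Y`, `(q ⊗ s) ⊗ y ↦ s ⊗ q y`. -/
noncomputable def eY : (Q ⊗[R] S) ⊗[Q] Y ≃+ S ⊗[R] Y :=
  (TensorProduct.comm Q (Q ⊗[R] S) Y).toAddEquiv.trans
    ((TensorProduct.AlgebraTensorModule.cancelBaseChange R Q Q Y S).toAddEquiv.trans
      (TensorProduct.comm R Y S).toAddEquiv)

variable {S Y}

@[simp] lemma eY_tmul (q : Q) (s : S) (y : Y) :
    eY (R := R) S Y ((q ⊗ₜ[R] s) ⊗ₜ[Q] y) = s ⊗ₜ[R] (q • y) := by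
  simp [eY]

@[simp] lemma eY_symm_tmul (s : S) (y : Y) :
    (eY (R := R) (Q := Q) S Y).symm (s ⊗ₜ[R] y) = ((1 : Q) ⊗ₜ[R] s) ⊗ₜ[Q] y := by
  rw [AddEquiv.symm_apply_eq, eY_tmul, one_smul]

end eY

section eYnat
variable {S S' : Type u} [CommSemiring S] [Algebra R S] [CommSemiring S'] [Algebra R S']
  {Y : Type u} [AddCommGroup Y] [Module R Y] [Module Q Y] [IsScalarTower R Q Y]

lemma eY_natural (φ : S →ₐ[R] S') (w : (Q ⊗[R] S) ⊗[Q] Y) :
    eY S' Y ((Algebra.TensorProduct.map (AlgHom.id Q Q) φ).toLinearMap.rTensor Y w) =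
      φ.toLinearMap.rTensor Y (eY S Y w) := by
  induction w using TensorProduct.induction_on with
  | zero => simp
  | add a b ha hb => simp only [map_add, ha, hb]
  | tmul t y =>
    induction t using TensorProduct.induction_on with
    | zero => simp
    | add a b ha hb => simp only [add_tmul, map_add, ha, hb]
    | tmul q s => simp

lemma eY_symm_natural (φ : S →ₐ[R] S') (z : S ⊗[R] Y) :
    (eY (Q := Q) S' Y).symm (φ.toLinearMap.rTensor Y z) =
      (Algebra.TensorProduct.map (AlgHom.id Q Q) φ).toLinearMap.rTensor Y ((eY S Y).symm z) := by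
  rw [AddEquiv.symm_apply_eq, eY_natural, AddEquiv.apply_symm_apply]

end eYnat

section resLaw
variable {Y₁ Y₂ : Type u} [AddCommGroup Y₁] [Module R Y₁] [Module Q Y₁] [IsScalarTower R Q Y₁]
  [AddCommGroup Y₂] [Module R Y₂] [Module Q Y₂] [IsScalarTower R Q Y₂]

/-- restriction of scalars of a polynomial law from `Q` to `R` -/
noncomputable def resLaw (Λ : Y₁ →ₚₗ[Q] Y₂) : Y₁ →ₚₗ[R] Y₂ where
  toFun' S _ _ := fun z => eY S Y₂ (Λ.toFun' (Q ⊗[R] S) ((eY S Y₁).symm z))
  isCompat' {S} _ _ {S'} _ _ φ := by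
    funext z
    simp only [Function.comp_apply]
    rw [← eY_natural, PolynomialLaw.isCompat_apply', eY_symm_natural]

lemma resLaw_toFun' (Λ : Y₁ →ₚₗ[Q] Y₂) (S : Type u) [CommSemiring S] [Algebra R S]
    (z : S ⊗[R] Y₁) :
    (resLaw (R := R) Λ).toFun' S z = eY S Y₂ (Λ.toFun' (Q ⊗[R] S) ((eY S Y₁).symm z)) := rfl

end resLaw

section extLaw
variable {X : Type u} [AddCommGroup X] [Module R X]
  {E : Type u} [AddCommGroup E] [Module R E] [Module Q E] [IsScalarTower R Q E]

section nat
variable {P P' : Type u} [CommSemiring P] [Algebra R P] [Algebra Q P] [IsScalarTower R Q P]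
  [CommSemiring P'] [Algebra R P'] [Algebra Q P'] [IsScalarTower R Q P']

lemma bc_natural (g : X →ₗ[R] E) (φ : P →ₐ[Q] P') (z : P ⊗[R] X) :
    φ.toLinearMap.rTensor E (bc (Q := Q) g P z) =
      bc (Q := Q) g P' ((φ.restrictScalars R).toLinearMap.rTensor X z) := by
  induction z using TensorProduct.induction_on with
  | zero => simp
  | add a b ha hb => simp only [map_add, ha, hb]
  | tmul p x => simp

lemma cancel_natural (φ : P →ₐ[Q] P') (z : P ⊗[Q] (Q ⊗[R] X)) :
    TensorProduct.AlgebraTensorModule.cancelBaseChange R Q P' P' X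
        (φ.toLinearMap.rTensor (Q ⊗[R] X) z) =
      (φ.restrictScalars R).toLinearMap.rTensor X
        (TensorProduct.AlgebraTensorModule.cancelBaseChange R Q P P X z) := by
  induction z using TensorProduct.induction_on with
  | zero => simp
  | add a b ha hb => simp only [map_add, ha, hb]
  | tmul p t =>
    induction t using TensorProduct.induction_on with
    | zero => simp
    | add a b ha hb => simp only [tmul_add, map_add, ha, hb]
    | tmul q x => simp

end nat

/-- value of the extended law on a test algebra with compatible structures -/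
noncomputable def extFun (L : X →ₚₗ[R] E) (P : Type u) [CommSemiring P] [Algebra R P]
    [Algebra Q P] [IsScalarTower R Q P] : P ⊗[Q] (Q ⊗[R] X) → P ⊗[Q] E :=
  fun z => bc (Q := Q) LinearMap.id P
    (L.toFun' P (TensorProduct.AlgebraTensorModule.cancelBaseChange R Q P P X z))

lemma extFun_natural (L : X →ₚₗ[R] E) {P P' : Type u} [CommSemiring P] [Algebra R P]
    [Algebra Q P] [IsScalarTower R Q P] [CommSemiring P'] [Algebra R P'] [Algebra Q P']
    [IsScalarTower R Q P'] (φ : P →ₐ[Q] P') (z : P ⊗[Q] (Q ⊗[R] X)) :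
    φ.toLinearMap.rTensor E (extFun L P z) = extFun L P' (φ.toLinearMap.rTensor (Q ⊗[R] X) z) := by
  unfold extFun
  rw [bc_natural, PolynomialLaw.isCompat_apply', cancel_natural]

/-- extension of scalars of a polynomial law with values in a `Q`-module -/
noncomputable def extLaw (L : X →ₚₗ[R] E) : (Q ⊗[R] X) →ₚₗ[Q] E where
  toFun' P _ _ :=
    letI : Algebra R P := Algebra.compHom P (algebraMap R Q)
    haveI : IsScalarTower R Q P := IsScalarTower.of_algebraMap_eq (fun _ => rfl)
    extFun L P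
  isCompat' {P} _ _ {P'} _ _ φ := by
    let _ : Algebra R P := Algebra.compHom P (algebraMap R Q)
    have _ : IsScalarTower R Q P := IsScalarTower.of_algebraMap_eq (fun _ => rfl)
    let _ : Algebra R P' := Algebra.compHom P' (algebraMap R Q)
    have _ : IsScalarTower R Q P' := IsScalarTower.of_algebraMap_eq (fun _ => rfl)
    funext z
    exact extFun_natural L φ z

lemma extLaw_toFun' (L : X →ₚₗ[R] E) (P : Type u) [CommSemiring P] [inst : Algebra R P]
    [Algebra Q P] [IsScalarTower R Q P] (z : P ⊗[Q] (Q ⊗[R] X)) :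
    (extLaw (Q := Q) L).toFun' P z = extFun L P z := by
  have h : inst = Algebra.compHom P (algebraMap R Q) :=
    Algebra.algebra_ext _ _ fun r => IsScalarTower.algebraMap_apply R Q P r
  subst h
  rfl

end extLaw

section relations

lemma postcomp_toFun' {A : Type u} [CommRing A] {M N P : Type u} [AddCommGroup M] [Module A M]
    [AddCommGroup N] [Module A N] [AddCommGroup P] [Module A P] (g : N →ₗ[A] P) (F : M →ₚₗ[A] N)
    (S : Type u) [CommSemiring S] [Algebra A S] (z : S ⊗[A] M) :
    (PolLaw.postcomp g F).toFun' S z = g.lTensor S (F.toFun' S z) := rfl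

lemma precomp_toFun' {A : Type u} [CommRing A] {M N P : Type u} [AddCommGroup M] [Module A M]
    [AddCommGroup N] [Module A N] [AddCommGroup P] [Module A P] (F : N →ₚₗ[A] P) (g : M →ₗ[A] N)
    (S : Type u) [CommSemiring S] [Algebra A S] (z : S ⊗[A] M) :
    (PolLaw.precomp F g).toFun' S z = F.toFun' S (g.lTensor S z) := rfl

variable (P : Type u) [CommSemiring P] [Algebra R P] [Algebra Q P] [IsScalarTower R Q P]

/-- the multiplication map `Q ⊗[R] P → P` -/
noncomputable def mulMap : Q ⊗[R] P →ₐ[Q] P :=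
  Algebra.TensorProduct.lift (Algebra.ofId Q P) (AlgHom.id R P) (fun _ _ => Commute.all _ _)

@[simp] lemma mulMap_tmul (q : Q) (p : P) : mulMap (R := R) P (q ⊗ₜ[R] p) = q • p := by
  simp [mulMap, Algebra.smul_def]

variable {P}

lemma bc_id_eY {Y : Type u} [AddCommGroup Y] [Module R Y] [Module Q Y] [IsScalarTower R Q Y]
    (w : (Q ⊗[R] P) ⊗[Q] Y) :
    bc (Q := Q) (LinearMap.id : Y →ₗ[R] Y) P (eY P Y w) =
      (mulMap (R := R) P).toLinearMap.rTensor Y w := by
  induction w using TensorProduct.induction_on with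
  | zero => simp
  | add a b ha hb => simp only [map_add, ha, hb]
  | tmul t y =>
    induction t using TensorProduct.induction_on with
    | zero => simp
    | add a b ha hb => simp only [add_tmul, map_add, ha, hb]
    | tmul q p => simp [TensorProduct.smul_tmul]

/-- (R1) the restricted law is compatible with the original one -/
lemma bc_id_resLaw {Y₁ Y₂ : Type u} [AddCommGroup Y₁] [Module R Y₁] [Module Q Y₁]
    [IsScalarTower R Q Y₁] [AddCommGroup Y₂] [Module R Y₂] [Module Q Y₂] [IsScalarTower R Q Y₂]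
    (Λ : Y₁ →ₚₗ[Q] Y₂) (y : P ⊗[R] Y₁) :
    bc (Q := Q) (LinearMap.id : Y₂ →ₗ[R] Y₂) P ((resLaw (R := R) Λ).toFun' P y) =
      Λ.toFun' P (bc (Q := Q) (LinearMap.id : Y₁ →ₗ[R] Y₁) P y) := by
  rw [resLaw_toFun', bc_id_eY, PolynomialLaw.isCompat_apply', ← bc_id_eY,
    AddEquiv.apply_symm_apply]

lemma bc_eq_bc_id_lTensor {X : Type u} [AddCommGroup X] [Module R X]
    {Y : Type u} [AddCommGroup Y] [Module R Y] [Module Q Y] [IsScalarTower R Q Y]
    (g : X →ₗ[R] Y) (z : P ⊗[R] X) :
    bc (Q := Q) g P z = bc (Q := Q) (LinearMap.id : Y →ₗ[R] Y) P (g.lTensor P z) := by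
  induction z using TensorProduct.induction_on with
  | zero => simp
  | add a b ha hb => simp only [map_add, ha, hb]
  | tmul p x => simp

end relations

section extAlong
variable {X : Type u} [AddCommGroup X] [Module R X]
  {Y : Type u} [AddCommGroup Y] [Module R Y] [Module Q Y] [IsScalarTower R Q Y]
  {E : Type u} [AddCommGroup E] [Module R E] [Module Q E] [IsScalarTower R Q E]
  {g : X →ₗ[R] Y} (h : IsBaseChange Q g)

/-- extension of a law along a base change map `g : X → Y` -/
noncomputable def extAlong (L : X →ₚₗ[R] E) : Y →ₚₗ[Q] E :=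
  PolLaw.precomp (extLaw (Q := Q) L) h.equiv.symm.toLinearMap

variable (P : Type u) [CommSemiring P] [Algebra R P] [Algebra Q P] [IsScalarTower R Q P]

lemma lTensor_equiv_symm_bc (z : P ⊗[R] X) :
    (h.equiv.symm.toLinearMap).lTensor P (bc (Q := Q) g P z) =
      (TensorProduct.AlgebraTensorModule.cancelBaseChange R Q P P X).symm z := by
  induction z using TensorProduct.induction_on with
  | zero => simp
  | add a b ha hb => simp only [map_add, ha, hb]
  | tmul p x => simp [h.equiv_symm_apply]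

lemma extAlong_bc (L : X →ₚₗ[R] E) (z : P ⊗[R] X) :
    (extAlong h L).toFun' P (bc (Q := Q) g P z) =
      bc (Q := Q) (LinearMap.id : E →ₗ[R] E) P (L.toFun' P z) := by
  rw [extAlong, precomp_toFun', lTensor_equiv_symm_bc, extLaw_toFun', extFun,
    LinearEquiv.apply_symm_apply]

include h in
lemma bc_surjective : Function.Surjective (bc (Q := Q) g P) := by
  intro z
  refine ⟨TensorProduct.AlgebraTensorModule.cancelBaseChange R Q P P X
    ((h.equiv.symm.toLinearMap).lTensor P z), ?_⟩
  have hinj : Function.Injective ((h.equiv.symm.toLinearMap).lTensor P) := by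
    have : (h.equiv.symm.toLinearMap).lTensor P = (h.equiv.symm.lTensor P).toLinearMap := rfl
    rw [this]
    exact (h.equiv.symm.lTensor P).injective
  apply hinj
  rw [lTensor_equiv_symm_bc, LinearEquiv.symm_apply_apply]

end extAlong

end maps

end Groth.Agent.Lib.Seat36.LawBC
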