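import Groth.Agent.Lib.Seat36LawBC

/-!
# Universal normic pairs commute with base change (helper36)

* `kap`, `kap_actEnd`: `p ⊗ m ↦ j p ⊗ f m` intertwines the actions of `P₀ ⊗ R'` and `P ⊗[Q] Q'`.
* `isNormic_res`: the restriction to `R` of a `Q'`-normic law over `Q`, precomposed with `f`, is `R'`-normic.
* `isNormic_ext`: the extension to `Q` (along a base change `f`) of an `R'`-normic law is `Q'`-normic.
* `isBaseChange_restrict`: `IsBaseChange Q' f` + pushout ⟹ `IsBaseChange Q (f.restrictScalars R)`.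
* `main`: S17909.
-/

set_option autoImplicit false
universe u
open TensorProduct

namespace Groth.Agent.Lib.Seat36.LawBCNorm

open Groth.Agent.Lib.Seat36.LawBC Groth.Agent.Lib.Helper14.NormBC

section
variable {R R' Q Q' : Type u} [CommRing R] [CommRing R'] [Algebra R R']
  [CommRing Q] [Algebra R Q] [CommRing Q'] [Algebra R Q'] [Algebra Q Q'] [Algebra R' Q']
  [IsScalarTower R Q Q'] [IsScalarTower R R' Q']
  {M' : Type u} [AddCommGroup M'] [Module R M'] [Module R' M'] [IsScalarTower R R' M']
  {M'' : Type u} [AddCommGroup M''] [Module R M''] [Module R' M''] [Module Q M''] [Module Q' M'']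
  [IsScalarTower R R' M''] [IsScalarTower R Q M''] [IsScalarTower R' Q' M'']
  [IsScalarTower Q Q' M'']
  (f : M' →ₗ[R'] M'')

section kap
variable {P₀ : Type u} [CommRing P₀] [Algebra R P₀]
  {P : Type u} [CommRing P] [Algebra R P] [Algebra Q P] [IsScalarTower R Q P]
  (j : P₀ →ₐ[R] P)

/-- `p ⊗ m ↦ j p ⊗ f m` -/
noncomputable def kap : P₀ ⊗[R] M' →ₗ[R] P ⊗[Q] M'' :=
  ((bc (Q := Q) (f.restrictScalars R) P).restrictScalars R) ∘ₗ j.toLinearMap.rTensor M'

@[simp] lemma kap_tmul (p : P₀) (m : M') :
    kap (Q := Q) f j (p ⊗ₜ[R] m) = j p ⊗ₜ[Q] f m := by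
  simp [kap]

lemma kap_actEnd (x : P₀ ⊗[R] R') (z : P₀ ⊗[R] M') :
    kap (Q := Q) f j (PolLaw.actEnd M' P₀ x z) =
      PolLaw.actEnd M'' P (Phi (Q := Q) (Q' := Q') j x) (kap (Q := Q) f j z) := by
  induction x using TensorProduct.induction_on with
  | zero => simp
  | add a b ha hb => simp only [map_add, LinearMap.add_apply, ha, hb]
  | tmul p r =>
    induction z using TensorProduct.induction_on with
    | zero => simp
    | add a b ha hb => simp only [map_add, ha, hb]
    | tmul p' m =>
      simp only [PolLaw.actEnd_tmul_tmul, kap_tmul, Phi_tmul, map_mul, map_smul, algebraMap_smul]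

end kap

section eYsmul
variable {S : Type u} [CommSemiring S] [Algebra R S]
  {Y : Type u} [AddCommGroup Y] [Module R Y] [Module Q Y] [IsScalarTower R Q Y]

omit [CommRing R'] [Algebra R R'] [CommRing Q'] [Algebra R Q'] [Algebra Q Q'] [Algebra R' Q']
  [IsScalarTower R Q Q'] [IsScalarTower R R' Q'] in
lemma eY_smul (a : S) (w : (Q ⊗[R] S) ⊗[Q] Y) :
    eY S Y (((1 : Q) ⊗ₜ[R] a) • w) = a • eY S Y w := by
  induction w using TensorProduct.induction_on with
  | zero => simp
  | add x y hx hy => simp only [smul_add, map_add, hx, hy]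
  | tmul t y =>
    induction t using TensorProduct.induction_on with
    | zero => simp
    | add x x' hx hx' => simp only [add_tmul, smul_add, map_add, hx, hx']
    | tmul q s => simp [TensorProduct.smul_tmul']

end eYsmul

section normic
omit [CommRing Q'] [Algebra R Q'] [Algebra Q Q'] [Algebra R' Q'] [IsScalarTower R Q Q']
  [IsScalarTower R R' Q'] [Module Q' M''] [IsScalarTower R' Q' M''] [IsScalarTower Q Q' M''] in
lemma eY_symm_lTensor (P : Type u) [CommRing P] [Algebra R P] (z : P ⊗[R] M') :
    (eY (Q := Q) P M'').symm ((f.restrictScalars R).lTensor P z) =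
      kap (Q := Q) f (Algebra.TensorProduct.includeRight : P →ₐ[R] Q ⊗[R] P) z := by
  induction z using TensorProduct.induction_on with
  | zero => simp
  | add a b ha hb => simp only [map_add, ha, hb]
  | tmul p m => simp

variable [Algebra.IsPushout R R' Q Q'] [Module.Free R R'] [Module.Finite R R']

/-- (N1) the restriction of a normic law along `f` is normic -/
theorem isNormic_res {N'' : Type u} [AddCommGroup N''] [Module R N''] [Module Q N'']
    [IsScalarTower R Q N''] (Λ : M'' →ₚₗ[Q] N'') (hΛ : PolLaw.IsNormic Q' Λ) :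
    PolLaw.IsNormic R' (PolLaw.precomp (resLaw (R := R) Λ) (f.restrictScalars R)) := by
  classical
  intro P _ _ x z
  rw [precomp_toFun', precomp_toFun', resLaw_toFun', resLaw_toFun', eY_symm_lTensor,
    eY_symm_lTensor, kap_actEnd (Q' := Q'), hΛ (Q ⊗[R] P),
    norm_Phi (Q := Q) (Q' := Q') _ (Module.Free.chooseBasis R R') x,
    Algebra.TensorProduct.includeRight_apply, eY_smul]

/-- (N2) the extension of a normic law along `f` is normic -/
theorem isNormic_ext (h : IsBaseChange Q (f.restrictScalars R))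
    {E : Type u} [AddCommGroup E] [Module R E] [Module Q E] [IsScalarTower R Q E]
    (L : M' →ₚₗ[R] E) (hL : PolLaw.IsNormic R' L) :
    PolLaw.IsNormic Q' (extAlong h L) := by
  classical
  intro P _ _ x'' z''
  let _ : Algebra R P := Algebra.compHom P (algebraMap R Q)
  have _ : IsScalarTower R Q P := IsScalarTower.of_algebraMap_eq (fun _ => rfl)
  obtain ⟨z, rfl⟩ := bc_surjective h P z''
  have hpo : IsBaseChange Q (IsScalarTower.toAlgHom R R' Q').toLinearMap :=
    (Algebra.IsPushout.symm (inferInstance : Algebra.IsPushout R R' Q Q')).out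
  obtain ⟨x, rfl⟩ := bc_surjective hpo P x''
  have hk : ∀ z : P ⊗[R] M', bc (Q := Q) (f.restrictScalars R) P z =
      kap (Q := Q) f (AlgHom.id R P) z := by
    intro z
    simp [kap]
  have hx : bc (Q := Q) (IsScalarTower.toAlgHom R R' Q').toLinearMap P x =
      Phi (Q := Q) (Q' := Q') (AlgHom.id R P) x := by
    simp [Phi, bcAlong_eq_bc]
  rw [hx, hk, ← kap_actEnd (Q' := Q'), ← hk, ← hk, extAlong_bc, extAlong_bc, hL, map_smul,
    norm_Phi (Q := Q) (Q' := Q') (AlgHom.id R P) (Module.Free.chooseBasis R R') x]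
  rfl

end normic

section aux
variable {S : Type u} [CommSemiring S] [Algebra R S]

omit [CommRing Q'] [Algebra R Q'] [Algebra Q Q'] [Algebra R' Q'] [IsScalarTower R Q Q']
  [IsScalarTower R R' Q'] [Module Q' M''] [IsScalarTower R' Q' M''] [IsScalarTower Q Q' M''] in
lemma eY_symm_lTensor' (z : S ⊗[R] M') :
    (eY (Q := Q) S M'').symm ((f.restrictScalars R).lTensor S z) =
      bc (Q := Q) (f.restrictScalars R) (Q ⊗[R] S)
        ((Algebra.TensorProduct.includeRight : S →ₐ[R] Q ⊗[R] S).toLinearMap.rTensor M' z) := by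
  induction z using TensorProduct.induction_on with
  | zero => simp
  | add a b ha hb => simp only [map_add, ha, hb]
  | tmul p m => simp

omit [CommRing R'] [Algebra R R'] [CommRing Q'] [Algebra R Q'] [Algebra Q Q'] [Algebra R' Q']
  [IsScalarTower R Q Q'] [IsScalarTower R R' Q'] in
lemma lTensor_eY {Y Y' : Type u} [AddCommGroup Y] [Module R Y] [Module Q Y] [IsScalarTower R Q Y]
    [AddCommGroup Y'] [Module R Y'] [Module Q Y'] [IsScalarTower R Q Y'] (g' : Y →ₗ[Q] Y')
    (w : (Q ⊗[R] S) ⊗[Q] Y) :
    (g'.restrictScalars R).lTensor S (eY S Y w) = eY S Y' (g'.lTensor (Q ⊗[R] S) w) := by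
  induction w using TensorProduct.induction_on with
  | zero => simp
  | add a b ha hb => simp only [map_add, ha, hb]
  | tmul t y =>
    induction t using TensorProduct.induction_on with
    | zero => simp
    | add a b ha hb => simp only [add_tmul, map_add, ha, hb]
    | tmul q s => simp

omit [CommRing R'] [Algebra R R'] [CommRing Q'] [Algebra R Q'] [Algebra Q Q'] [Algebra R' Q']
  [IsScalarTower R Q Q'] [IsScalarTower R R' Q'] in
lemma eY_bc_id_rTensor {E : Type u} [AddCommGroup E] [Module R E] [Module Q E]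
    [IsScalarTower R Q E] (y : S ⊗[R] E) :
    eY S E (bc (Q := Q) (LinearMap.id : E →ₗ[R] E) (Q ⊗[R] S)
      ((Algebra.TensorProduct.includeRight : S →ₐ[R] Q ⊗[R] S).toLinearMap.rTensor E y)) = y := by
  induction y using TensorProduct.induction_on with
  | zero => simp
  | add a b ha hb => simp only [map_add, ha, hb]
  | tmul s e => simp

omit [CommRing R'] [Algebra R R'] [CommRing Q'] [Algebra R Q'] [Algebra Q Q'] [Algebra R' Q']
  [IsScalarTower R Q Q'] [IsScalarTower R R' Q'] in
lemma lTensor_bc {P : Type u} [CommSemiring P] [Algebra R P] [Algebra Q P] [IsScalarTower R Q P]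
    {X Y Y' : Type u} [AddCommGroup X] [Module R X]
    [AddCommGroup Y] [Module R Y] [Module Q Y] [IsScalarTower R Q Y]
    [AddCommGroup Y'] [Module R Y'] [Module Q Y'] [IsScalarTower R Q Y'] (g' : Y →ₗ[Q] Y')
    (u : X →ₗ[R] Y) (w : P ⊗[R] X) :
    g'.lTensor P (bc (Q := Q) u P w) = bc (Q := Q) ((g'.restrictScalars R).comp u) P w := by
  induction w using TensorProduct.induction_on with
  | zero => simp
  | add a b ha hb => simp only [map_add, ha, hb]
  | tmul p x => simp

end aux

section main
variable [Algebra.IsPushout R R' Q Q']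

include f in
lemma isBaseChange_restrict (hf : IsBaseChange Q' f) :
    IsBaseChange Q (f.restrictScalars R) := by
  have _ : Algebra.IsPushout R Q R' Q' := Algebra.IsPushout.symm inferInstance
  refine IsBaseChange.of_equiv ((Algebra.IsPushout.cancelBaseChange R Q R' Q' M').symm ≪≫ₗ
    (hf.equiv.restrictScalars Q)) (fun x => ?_)
  simp [hf.equiv_tmul]

omit [CommRing R'] [Algebra R R'] [CommRing Q'] [Algebra R Q'] [Algebra Q Q'] [Algebra R' Q']
  [IsScalarTower R Q Q'] [IsScalarTower R R' Q'] [Algebra.IsPushout R R' Q Q'] in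
lemma isBaseChange_of_group {N N'' : Type u} [AddCommGroup N] [Module R N]
    [AddCommGroup N''] [Module R N''] [Module Q N''] [IsScalarTower R Q N''] (u : N →ₗ[R] N'')
    (H : ∀ (E : Type u) [AddCommGroup E] [Module R E] [Module Q E] [IsScalarTower R Q E]
      (g : N →ₗ[R] E), ∃! g' : N'' →ₗ[Q] E, (g'.restrictScalars R).comp u = g) :
    IsBaseChange Q u := by
  apply IsBaseChange.of_lift_unique
  intro E _ _ _ _ g
  let _ : AddCommGroup E := Module.addCommMonoidToAddCommGroup R
  exact H E g

variable [Module.Free R R'] [Module.Finite R R']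

theorem main (hf : IsBaseChange Q' f)
    {N : Type u} [AddCommGroup N] [Module R N] (ν : M' →ₚₗ[R] N) (hν : PolLaw.IsUnivNormic R' ν)
    {N'' : Type u} [AddCommGroup N''] [Module R N''] [Module Q N''] [IsScalarTower R Q N'']
    (ν'' : M'' →ₚₗ[Q] N'') (hν'' : PolLaw.IsUnivNormic Q' ν'') :
    ∃ u : N →ₗ[R] N'',
      (∀ (P : Type u) [CommRing P] [Algebra R P] [Algebra Q P] [IsScalarTower R Q P]
        (m : P ⊗[R] M'),
          ν''.toFun' P (PolLaw.bcAlong (f.restrictScalars R) P m) =
            PolLaw.bcAlong u P (ν.toFun' P m)) ∧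
      IsBaseChange Q u := by
  have h : IsBaseChange Q (f.restrictScalars R) := isBaseChange_restrict (R := R) (Q := Q) f hf
  obtain ⟨u, hu, -⟩ := hν.2 N'' _ (isNormic_res f ν'' hν''.1)
  have h4 : ∀ (P : Type u) [CommSemiring P] [Algebra R P] [Algebra Q P] [IsScalarTower R Q P]
      (m : P ⊗[R] M'),
      ν''.toFun' P (bc (Q := Q) (f.restrictScalars R) P m) = bc (Q := Q) u P (ν.toFun' P m) := by
    intro P _ _ _ _ m
    rw [bc_eq_bc_id_lTensor u, ← postcomp_toFun', hu, precomp_toFun', bc_id_resLaw,
      ← bc_eq_bc_id_lTensor]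
  refine ⟨u, fun P _ _ _ _ m => ?_, ?_⟩
  · rw [bcAlong_eq_bc, bcAlong_eq_bc, h4]
  · apply isBaseChange_of_group
    intro E _ _ _ _ g
    have hL : PolLaw.IsNormic R' (PolLaw.postcomp g ν) := by
      intro P _ _ x z
      rw [postcomp_toFun', postcomp_toFun', hν.1]
      show g.baseChange P (_ • _) = _ • g.baseChange P _
      rw [map_smul]
    obtain ⟨g', hg', hg'uniq⟩ := hν''.2 E (extAlong h (PolLaw.postcomp g ν))
      (isNormic_ext f h _ hL)
    refine ⟨g', ?_, ?_⟩
    · obtain ⟨φ, -, hφu⟩ := hν.2 E _ hL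
      have h1 : (g'.restrictScalars R).comp u = φ := by
        apply hφu
        ext S _ _ z
        rw [postcomp_toFun', LinearMap.lTensor_comp_apply, ← postcomp_toFun' u, hu, precomp_toFun',
          resLaw_toFun', lTensor_eY, ← postcomp_toFun' g', hg', eY_symm_lTensor', extAlong_bc,
          ← PolynomialLaw.isCompat_apply', eY_bc_id_rTensor]
      have h2 : g = φ := hφu _ rfl
      rw [h1, h2]
    · intro g'' hg''
      apply hg'uniq
      ext P _ _ z''
      let _ : Algebra R P := Algebra.compHom P (algebraMap R Q)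
      have _ : IsScalarTower R Q P := IsScalarTower.of_algebraMap_eq (fun _ => rfl)
      obtain ⟨z, rfl⟩ := bc_surjective h P z''
      rw [postcomp_toFun', h4, extAlong_bc, lTensor_bc, hg'', postcomp_toFun',
        ← bc_eq_bc_id_lTensor]

end main

end

end Groth.Agent.Lib.Seat36.LawBCNorm
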