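import Mathlib.Algebra.Polynomial.Derivative
import Mathlib.Algebra.Polynomial.Div
import Mathlib.Algebra.Ring.GeomSum
import Mathlib.Tactic.LinearCombination
import Mathlib.Tactic.FieldSimp
import Mathlib.Tactic.Positivity
import Mathlib.Algebra.Polynomial.AlgebraMap
import Mathlib.RingTheory.Coprime.Lemmas
import Mathlib.Algebra.Polynomial.Eval.Coeff

/-!
# The truncated logarithm of a power, as a polynomial congruence

For `c n = (-1)^n/(n+1)` and `L_d(Y) = ∑_{n ≤ d} c n • Y^(n+1)`, we show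
`L_d((1+X)^j - 1) ≡ j • L_d(X)` modulo `X^(d+1)` in `ℚ[X]`.
-/

set_option autoImplicit false

open Polynomial Finset

namespace Groth.Agent.Lib.Seat36.LogPoly

/-- the truncated logarithm polynomial evaluated at `Y` -/
noncomputable def logTrunc (d : ℕ) (Y : ℚ[X]) : ℚ[X] :=
  ∑ n ∈ range (d + 1), C ((-1 : ℚ) ^ n / ((n : ℚ) + 1)) * Y ^ (n + 1)

theorem one_add_mul_derivative_logTrunc (d : ℕ) (Y : ℚ[X]) :
    (1 + Y) * derivative (logTrunc d Y) = (1 - (-Y) ^ (d + 1)) * derivative Y := by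
  have h1 : derivative (logTrunc d Y) = (∑ n ∈ range (d + 1), (-Y) ^ n) * derivative Y := by
    unfold logTrunc
    rw [derivative_sum, Finset.sum_mul]
    refine Finset.sum_congr rfl fun n _ => ?_
    rw [derivative_mul, derivative_C, zero_mul, zero_add, derivative_pow, Nat.add_sub_cancel]
    have hc : C ((-1 : ℚ) ^ n / ((n : ℚ) + 1)) * C ((n + 1 : ℕ) : ℚ) = C ((-1 : ℚ) ^ n) := by
      rw [← C_mul]
      congr 1
      have : ((n : ℚ) + 1) ≠ 0 := by positivity
      push_cast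
      field_simp
    have hneg : (-Y) ^ n = C ((-1 : ℚ) ^ n) * Y ^ n := by
      rw [neg_pow, C_pow, C_neg, C_1]
    rw [hneg, ← hc]
    simp only [Nat.cast_add, Nat.cast_one]
    ring
  have h2 : (1 + Y) * ∑ n ∈ range (d + 1), (-Y) ^ n = 1 - (-Y) ^ (d + 1) := by
    have := mul_geom_sum (-Y) (d + 1)
    linear_combination -this
  rw [h1, ← mul_assoc, h2]

theorem coeff_zero_logTrunc (d : ℕ) (Y : ℚ[X]) (hY : Y.coeff 0 = 0) :
    (logTrunc d Y).coeff 0 = 0 := by
  unfold logTrunc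
  rw [finsetSum_coeff]
  refine Finset.sum_eq_zero fun n _ => ?_
  rw [coeff_C_mul, pow_succ, mul_coeff_zero, hY, mul_zero, mul_zero]

theorem X_pow_succ_dvd_of_derivative (m : ℕ) (P : ℚ[X]) (h0 : P.coeff 0 = 0)
    (h : X ^ m ∣ derivative P) : X ^ (m + 1) ∣ P := by
  rw [X_pow_dvd_iff] at h ⊢
  intro k hk
  rcases k with _ | k
  · exact h0
  · have := h k (by omega)
    rw [coeff_derivative] at this
    have hne : ((k : ℚ) + 1) ≠ 0 := by positivity
    exact (mul_eq_zero.mp this).resolve_right hne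

theorem X_pow_dvd_logTrunc_pow_sub (d j : ℕ) (hj : 1 ≤ j) :
    X ^ (d + 1) ∣ logTrunc d ((1 + X) ^ j - 1) - (j : ℚ[X]) * logTrunc d X := by
  set Y : ℚ[X] := (1 + X) ^ j - 1 with hY
  have hXY : (X : ℚ[X]) ∣ Y := by
    have := sub_dvd_pow_sub_pow (1 + X : ℚ[X]) 1 j
    simpa [hY] using this
  have hY0 : Y.coeff 0 = 0 := by
    obtain ⟨Z, hZ⟩ := hXY
    rw [hZ, mul_coeff_zero, coeff_X_zero, zero_mul]
  have hdY : derivative Y = (j : ℚ[X]) * (1 + X) ^ (j - 1) := by
    rw [hY, derivative_sub, derivative_one, sub_zero, derivative_pow, derivative_add,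
      derivative_one, derivative_X, zero_add, mul_one]
    simp
  have hpow : (1 + X : ℚ[X]) ^ j = (1 + X) ^ (j - 1) * (1 + X) := by
    rw [← pow_succ]
    congr 1
    omega
  have e1 := one_add_mul_derivative_logTrunc d Y
  have e2 := one_add_mul_derivative_logTrunc d X
  rw [derivative_X, mul_one] at e2
  have hne : (1 + X : ℚ[X]) ^ (j - 1) ≠ 0 := pow_ne_zero _ (by
    intro h
    have := congrArg (fun p => p.coeff 0) h
    simp at this)
  have e3 : (1 + X) * derivative (logTrunc d Y) = (j : ℚ[X]) * (1 - (-Y) ^ (d + 1)) := by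
    apply mul_left_cancel₀ hne
    have : (1 : ℚ[X]) + Y = (1 + X) ^ j := by rw [hY]; ring
    rw [this, hdY, hpow] at e1
    linear_combination e1
  have e4 : (1 + X) * derivative (logTrunc d Y - (j : ℚ[X]) * logTrunc d X) =
      (j : ℚ[X]) * ((-X) ^ (d + 1) - (-Y) ^ (d + 1)) := by
    rw [derivative_sub, derivative_mul, derivative_natCast, zero_mul, zero_add, mul_sub, e3,
      mul_left_comm, e2]
    ring
  have hdvd : X ^ (d + 1) ∣ (1 + X) * derivative (logTrunc d Y - (j : ℚ[X]) * logTrunc d X) := by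
    rw [e4]
    apply Dvd.dvd.mul_left
    apply dvd_sub
    · rw [neg_pow]
      exact Dvd.intro_left _ rfl
    · rw [neg_pow]
      exact Dvd.dvd.mul_left (pow_dvd_pow_of_dvd hXY _) _
  have hcop : IsCoprime (X ^ (d + 1) : ℚ[X]) (1 + X) := by
    apply IsCoprime.pow_left
    exact ⟨-1, 1, by ring⟩
  have h5 : X ^ (d + 1) ∣ derivative (logTrunc d Y - (j : ℚ[X]) * logTrunc d X) :=
    hcop.dvd_of_dvd_mul_left hdvd
  have h6 := X_pow_succ_dvd_of_derivative (d + 1) _ (by
    rw [coeff_sub, coeff_zero_logTrunc d Y hY0, natCast_mul, coeff_smul,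
      coeff_zero_logTrunc d X (by simp)]
    simp) h5
  exact dvd_trans (pow_dvd_pow _ (by omega)) h6

end Groth.Agent.Lib.Seat36.LogPoly
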