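import Mathlib

/-!
# The algebras `A[x,y]/(xy - a)` (helper36)

* `Nd a = A[x,y]/(xy - a)`, `Nd0 k = k[x,y]/(xy)`.
* `liftMap`: maps out of `Nd a` induced by a ring map of coefficients.
* `ndMap g a a'' h : Nd a → Nd a''` for `g a = a''`, and `isPushout_ndMap` (base change).
* `sc v a a' h : Nd a' → Nd a` for `a' = v * a` (`x ↦ v x`), `scEquiv`.
* `ev : Nd (0 : A) → A`, `x, y ↦ 0`.
-/

set_option autoImplicit false

universe u

open MvPolynomial CategoryTheory CategoryTheory.Limits

namespace Groth.Agent.Lib.Seat36.NodeAlg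

variable {A : Type u} [CommRing A]

/-- the relation `xy - a` -/
noncomputable abbrev rel (a : A) : MvPolynomial (Fin 2) A := X 0 * X 1 - C a

/-- `A[x,y]/(xy - a)` -/
abbrev Nd (a : A) : Type u := MvPolynomial (Fin 2) A ⧸ Ideal.span {rel a}

/-- the node `k[x,y]/(xy)` -/
abbrev Nd0 (k : Type u) [CommRing k] : Type u :=
  MvPolynomial (Fin 2) k ⧸ Ideal.span {(X 0 * X 1 : MvPolynomial (Fin 2) k)}

/-- the class of a polynomial -/
noncomputable abbrev mk (a : A) : MvPolynomial (Fin 2) A →+* Nd a := Ideal.Quotient.mk _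

lemma mk_rel (a : A) : mk a (rel a) = 0 :=
  Ideal.Quotient.eq_zero_iff_mem.mpr (Ideal.mem_span_singleton_self _)

lemma mk_X_mul_X (a : A) : mk a (X 0) * mk a (X 1) = mk a (C a) := by
  rw [← map_mul, ← sub_eq_zero, ← map_sub]
  exact mk_rel a

lemma algebraMap_eq (a c : A) : algebraMap A (Nd a) c = mk a (C c) := rfl

lemma map_rel {A'' : Type u} [CommRing A''] (g : A →+* A'') (a : A) :
    MvPolynomial.map g (rel a) = rel (g a) := by
  simp [rel]

/-- maps out of `Nd a` induced by a map of coefficient rings -/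
noncomputable def liftMap {A'' : Type u} [CommRing A''] (g : A →+* A'') (a : A)
    (J : Ideal (MvPolynomial (Fin 2) A'')) (h : MvPolynomial.map g (rel a) ∈ J) :
    Nd a →+* (MvPolynomial (Fin 2) A'' ⧸ J) :=
  Ideal.Quotient.lift _ ((Ideal.Quotient.mk J).comp (MvPolynomial.map g)) (by
    intro p hp
    obtain ⟨q, rfl⟩ := Ideal.mem_span_singleton'.mp hp
    rw [RingHom.comp_apply, map_mul, map_mul]
    rw [Ideal.Quotient.eq_zero_iff_mem.mpr h, mul_zero])

@[simp] lemma liftMap_mk {A'' : Type u} [CommRing A''] (g : A →+* A'') (a : A)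
    (J : Ideal (MvPolynomial (Fin 2) A'')) (h : MvPolynomial.map g (rel a) ∈ J)
    (p : MvPolynomial (Fin 2) A) :
    liftMap g a J h (mk a p) = Ideal.Quotient.mk J (MvPolynomial.map g p) := rfl

lemma liftMap_surjective {A'' : Type u} [CommRing A''] (g : A →+* A'') (hg : Function.Surjective g)
    (a : A) (J : Ideal (MvPolynomial (Fin 2) A'')) (h : MvPolynomial.map g (rel a) ∈ J) :
    Function.Surjective (liftMap g a J h) := by
  intro z
  obtain ⟨q, rfl⟩ := Ideal.Quotient.mk_surjective z
  obtain ⟨p, rfl⟩ := MvPolynomial.map_surjective g hg q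
  exact ⟨mk a p, rfl⟩

/-- kernel of the reduction map -/
lemma ker_liftMap_le {A'' : Type u} [CommRing A''] (g : A →+* A'') (hg : Function.Surjective g)
    (a : A) (J : Ideal (MvPolynomial (Fin 2) A'')) (h : MvPolynomial.map g (rel a) ∈ J)
    (hJ : J ≤ Ideal.span {MvPolynomial.map g (rel a)}) :
    RingHom.ker (liftMap g a J h) ≤ (RingHom.ker g).map (algebraMap A (Nd a)) := by
  intro z hz
  obtain ⟨p, rfl⟩ := Ideal.Quotient.mk_surjective z
  rw [RingHom.mem_ker, liftMap_mk, Ideal.Quotient.eq_zero_iff_mem] at hz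
  obtain ⟨q, hq⟩ := Ideal.mem_span_singleton'.mp (hJ hz)
  obtain ⟨q', rfl⟩ := MvPolynomial.map_surjective g hg q
  have h1 : p - q' * rel a ∈ RingHom.ker (MvPolynomial.map (σ := Fin 2) g) := by
    rw [RingHom.mem_ker, map_sub, map_mul, hq, sub_self]
  rw [MvPolynomial.ker_map] at h1
  have h2 : mk a p = mk a (p - q' * rel a) := by
    rw [map_sub, map_mul, mk_rel, mul_zero, sub_zero]
  rw [h2]
  have h3 : (RingHom.ker g).map (algebraMap A (Nd a)) =
      ((RingHom.ker g).map (C : A →+* MvPolynomial (Fin 2) A)).map (mk a) := by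
    rw [Ideal.map_map]
    rfl
  rw [h3]
  exact Ideal.mem_map_of_mem _ h1

/-- the map `Nd a → Nd a''` over `g` when `g a = a''` -/
noncomputable def ndMap {A'' : Type u} [CommRing A''] (g : A →+* A'') (a : A) (a'' : A'')
    (h : g a = a'') : Nd a →+* Nd a'' :=
  liftMap g a (Ideal.span {rel a''}) (by rw [map_rel, h]; exact Ideal.mem_span_singleton_self _)

@[simp] lemma ndMap_mk {A'' : Type u} [CommRing A''] (g : A →+* A'') (a : A) (a'' : A'')
    (h : g a = a'') (p : MvPolynomial (Fin 2) A) :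
    ndMap g a a'' h (mk a p) = mk a'' (MvPolynomial.map g p) := rfl

lemma ndMap_algebraMap {A'' : Type u} [CommRing A''] (g : A →+* A'') (a : A) (a'' : A'')
    (h : g a = a'') (c : A) :
    ndMap g a a'' h (algebraMap A (Nd a) c) = algebraMap A'' (Nd a'') (g c) := by
  rw [algebraMap_eq, ndMap_mk, MvPolynomial.map_C, algebraMap_eq]

/-- `Nd a'' = Nd a ⊗_A A''` -/
theorem isPushout_ndMap {A'' : Type u} [CommRing A''] (g : A →+* A'') (a : A) (a'' : A'')
    (h : g a = a'') :
    IsPushout (CommRingCat.ofHom (algebraMap A (Nd a))) (CommRingCat.ofHom g)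
      (CommRingCat.ofHom (ndMap g a a'' h)) (CommRingCat.ofHom (algebraMap A'' (Nd a''))) := by
  have w : CommRingCat.ofHom (algebraMap A (Nd a)) ≫ CommRingCat.ofHom (ndMap g a a'' h) =
      CommRingCat.ofHom g ≫ CommRingCat.ofHom (algebraMap A'' (Nd a'')) := by
    ext c
    exact ndMap_algebraMap g a a'' h c
  -- the descent map of a cocone
  have hcond : ∀ (s : PushoutCocone (CommRingCat.ofHom (algebraMap A (Nd a))) (CommRingCat.ofHom g))
      (c : A), s.inr.hom (g c) = s.inl.hom (mk a (C c)) := by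
    intro s c
    have h1 := congrArg (fun t => t.hom c) s.condition
    exact h1.symm
  let ev : ∀ (s : PushoutCocone (CommRingCat.ofHom (algebraMap A (Nd a))) (CommRingCat.ofHom g)),
      MvPolynomial (Fin 2) A'' →+* s.pt := fun s =>
    MvPolynomial.eval₂Hom s.inr.hom (fun i => s.inl.hom (mk a (X i)))
  have hev : ∀ s, ev s (rel a'') = 0 := by
    intro s
    simp only [ev, rel, map_sub, map_mul, MvPolynomial.eval₂Hom_X', MvPolynomial.eval₂Hom_C]
    rw [← h, hcond s a, ← map_mul, ← map_mul, ← map_sub, ← map_sub]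
    change s.inl.hom (mk a (rel a)) = 0
    rw [mk_rel, map_zero]
  let desc : ∀ (s : PushoutCocone (CommRingCat.ofHom (algebraMap A (Nd a))) (CommRingCat.ofHom g)),
      Nd a'' →+* s.pt := fun s =>
    Ideal.Quotient.lift _ (ev s) (by
      intro p hp
      obtain ⟨q, rfl⟩ := Ideal.mem_span_singleton'.mp hp
      rw [map_mul, hev s, mul_zero])
  have hdesc_mk : ∀ s (q : MvPolynomial (Fin 2) A''), desc s (mk a'' q) = ev s q := fun s q => rfl
  have hcomp : ∀ s, (ev s).comp (MvPolynomial.map g) = s.inl.hom.comp (mk a) := by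
    intro s
    apply MvPolynomial.ringHom_ext
    · intro c
      simp only [ev, RingHom.comp_apply, MvPolynomial.map_C, MvPolynomial.eval₂Hom_C]
      exact hcond s c
    · intro i
      simp only [ev, RingHom.comp_apply, MvPolynomial.map_X, MvPolynomial.eval₂Hom_X']
  refine IsPushout.of_isColimit (c := PushoutCocone.mk _ _ w) (PushoutCocone.IsColimit.mk w
    (fun s => CommRingCat.ofHom (desc s)) ?_ ?_ ?_)
  · intro s
    apply CommRingCat.hom_ext
    apply RingHom.ext
    intro z
    obtain ⟨p, rfl⟩ := Ideal.Quotient.mk_surjective z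
    change desc s (ndMap g a a'' h (mk a p)) = s.inl.hom (mk a p)
    rw [ndMap_mk, hdesc_mk]
    exact RingHom.congr_fun (hcomp s) p
  · intro s
    ext c
    change desc s (algebraMap A'' (Nd a'') c) = s.inr.hom c
    rw [algebraMap_eq, hdesc_mk]
    simp only [ev, MvPolynomial.eval₂Hom_C]
  · intro s m hm1 hm2
    apply CommRingCat.hom_ext
    apply RingHom.ext
    intro z
    obtain ⟨q, rfl⟩ := Ideal.Quotient.mk_surjective z
    change m.hom (mk a'' q) = desc s (mk a'' q)
    rw [hdesc_mk]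
    have : m.hom.comp (mk a'') = ev s := by
      apply MvPolynomial.ringHom_ext
      · intro c
        simp only [ev, RingHom.comp_apply, MvPolynomial.eval₂Hom_C]
        have := congrArg (fun t => t.hom c) hm2
        exact this
      · intro i
        simp only [ev, RingHom.comp_apply, MvPolynomial.eval₂Hom_X']
        have := congrArg (fun t => t.hom (mk a (X i))) hm1
        simpa using this
    exact RingHom.congr_fun this q

section Scale

/-- `Nd a' → Nd a`, `x ↦ v x`, when `a' = v * a` -/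
noncomputable def sc (v a a' : A) (h : a' = v * a) : Nd a' →ₐ[A] Nd a :=
  Ideal.Quotient.liftₐ _ (MvPolynomial.aeval (fun i : Fin 2 =>
    if i = 0 then algebraMap A (Nd a) v * mk a (X 0) else mk a (X 1)))
    (by
      intro p hp
      obtain ⟨q, rfl⟩ := Ideal.mem_span_singleton'.mp hp
      rw [map_mul]
      have : (MvPolynomial.aeval (fun i : Fin 2 =>
          if i = 0 then algebraMap A (Nd a) v * mk a (X 0) else mk a (X 1))) (rel a') = 0 := by
        simp only [rel, map_sub, map_mul, MvPolynomial.aeval_X, MvPolynomial.aeval_C]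
        simp only [Fin.isValue, ↓reduceIte, one_ne_zero]
        rw [mul_assoc, mk_X_mul_X, h, algebraMap_eq, algebraMap_eq, ← map_mul, ← map_mul, sub_self]
      rw [this, mul_zero])

lemma sc_mk_X0 (v a a' : A) (h : a' = v * a) :
    sc v a a' h (mk a' (X 0)) = algebraMap A (Nd a) v * mk a (X 0) := by
  change (MvPolynomial.aeval _) (X 0) = _
  rw [MvPolynomial.aeval_X]
  simp

lemma sc_mk_X1 (v a a' : A) (h : a' = v * a) :
    sc v a a' h (mk a' (X 1)) = mk a (X 1) := by
  change (MvPolynomial.aeval _) (X 1) = _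
  rw [MvPolynomial.aeval_X]
  simp

lemma sc_comp_sc (v w a a' : A) (h : a' = v * a) (h' : a = w * a') (hvw : w * v = 1) :
    (sc v a a' h).comp (sc w a' a h') = AlgHom.id A (Nd a) := by
  apply Ideal.Quotient.algHom_ext
  apply MvPolynomial.algHom_ext
  intro i
  change sc v a a' h (sc w a' a h' (mk a (X i))) = mk a (X i)
  fin_cases i
  · change sc v a a' h (sc w a' a h' (mk a (X 0))) = mk a (X 0)
    rw [sc_mk_X0, map_mul, AlgHom.commutes, sc_mk_X0, ← mul_assoc, ← map_mul, hvw, map_one, one_mul]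
  · change sc v a a' h (sc w a' a h' (mk a (X 1))) = mk a (X 1)
    rw [sc_mk_X1, sc_mk_X1]

/-- `Nd (v a) ≃ Nd a` for a unit `v` -/
noncomputable def scEquiv (v w a a' : A) (h : a' = v * a) (hvw : w * v = 1) : Nd a' ≃ₐ[A] Nd a :=
  have h' : a = w * a' := by rw [h, ← mul_assoc, hvw, one_mul]
  AlgEquiv.ofAlgHom (sc v a a' h) (sc w a' a h')
    (sc_comp_sc v w a a' h h' hvw)
    (sc_comp_sc w v a' a h' h (by rw [mul_comm]; exact hvw))

lemma scEquiv_mk_X0 (v w a a' : A) (h : a' = v * a) (hvw : w * v = 1) :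
    scEquiv v w a a' h hvw (mk a' (X 0)) = algebraMap A (Nd a) v * mk a (X 0) :=
  sc_mk_X0 v a a' h

lemma scEquiv_mk_X1 (v w a a' : A) (h : a' = v * a) (hvw : w * v = 1) :
    scEquiv v w a a' h hvw (mk a' (X 1)) = mk a (X 1) :=
  sc_mk_X1 v a a' h

end Scale

section Ev

/-- `Nd 0 → A`, `x, y ↦ 0` -/
noncomputable def ev : Nd (0 : A) →ₐ[A] A :=
  Ideal.Quotient.liftₐ _ (MvPolynomial.aeval (fun _ : Fin 2 => (0 : A)))
    (by
      intro p hp
      obtain ⟨q, rfl⟩ := Ideal.mem_span_singleton'.mp hp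
      rw [map_mul]
      have : (MvPolynomial.aeval (fun _ : Fin 2 => (0 : A))) (rel (0 : A)) = 0 := by
        simp [rel]
      rw [this, mul_zero])

lemma ev_mk_X (i : Fin 2) : ev (A := A) (mk 0 (X i)) = 0 := by
  change (MvPolynomial.aeval _) (X i) = _
  rw [MvPolynomial.aeval_X]

end Ev

end Groth.Agent.Lib.Seat36.NodeAlg
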