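import Groth.Agent.Lib.Seat36DefAlg
import Groth.Agent.Lib.Seat36NodeAlg
import Groth.Agent.Lib.Helper5ArtRegSeq

/-!
# The deformations `xy = a` of the node (helper36)

For `A : Art Λ k` and `a ∈ m_A`:
* `flat_nd`: `A[x,y]/(xy - a)` is flat over `A`.
* `nodeAlgDef`, `nodeDef A a ha : DefSch (Spec k[x,y]/(xy)) _ A`.
* `nodeBaseChange`: base change along `g : A ⟶ A''` is `nodeDef A'' (g a)`.
* `nodeScale`: `nodeDef A (v a) ≅ nodeDef A a` for `v ∈ 1 + m_A`.
* `not_iso_dual`: over the dual numbers `xy = ε` is not isomorphic to `xy = 0`.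
-/

set_option autoImplicit false

universe u

open MvPolynomial CategoryTheory CategoryTheory.Limits AlgebraicGeometry ArtFun ArtFun.Art
open Groth.Agent.Lib.Seat36.NodeAlg Groth.Agent.Lib.Seat36.DefAlg
open scoped Pointwise

namespace Groth.Agent.Lib.Seat36.NodeDef

variable {Λ k : Type u} [CommRing Λ] [Field k] [Algebra Λ k]

lemma ker_res (A : Art Λ k) : RingHom.ker A.res.toRingHom = IsLocalRing.maximalIdeal A := by
  ext a
  rw [RingHom.mem_ker, Art.mem_maximalIdeal_iff]
  rfl

lemma exists_pow_maximalIdeal_eq_bot (A : Art Λ k) :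
    ∃ n : ℕ, IsLocalRing.maximalIdeal A ^ n = ⊥ := by
  have h := IsArtinianRing.isNilpotent_jacobson_bot (R := A)
  rw [IsLocalRing.jacobson_eq_maximalIdeal ⊥ bot_ne_top] at h
  obtain ⟨n, hn⟩ := h
  exact ⟨n, hn⟩

lemma map_res_rel (A : Art Λ k) (a : A) (ha : A.res a = 0) :
    MvPolynomial.map A.res.toRingHom (rel a) = (X 0 * X 1 : MvPolynomial (Fin 2) k) := by
  rw [NodeAlg.map_rel]
  have : A.res.toRingHom a = 0 := ha
  rw [rel, this, map_zero, sub_zero]

/-- `A[x,y]/(xy - a)` is flat over `A` -/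
theorem flat_nd (A : Art Λ k) (a : A) (ha : A.res a = 0) : Module.Flat A (Nd a) := by
  obtain ⟨n, hn⟩ := exists_pow_maximalIdeal_eq_bot A
  have hI : IsLocalRing.maximalIdeal A ≠ ⊤ := Ideal.IsPrime.ne_top'
  have hmem : ∀ q : MvPolynomial (Fin 2) A,
      q ∈ ((IsLocalRing.maximalIdeal A).map (algebraMap A (MvPolynomial (Fin 2) A)) • ⊤ :
        Submodule (MvPolynomial (Fin 2) A) (MvPolynomial (Fin 2) A)) ↔
        MvPolynomial.map A.res.toRingHom q = 0 := by
    intro q
    rw [smul_eq_mul, Ideal.mul_top, MvPolynomial.algebraMap_eq, ← ker_res, ← MvPolynomial.ker_map,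
      RingHom.mem_ker]
  have hreg : IsSMulRegular (MvPolynomial (Fin 2) A) (rel a) := by
    rw [Groth.Agent.Lib.Helper5.isSMulRegular_iff_isSMulRegular_quotient n hn
      (IsLocalRing.maximalIdeal A) hI (MvPolynomial (Fin 2) A) (rel a),
      isSMulRegular_iff_right_eq_zero_of_smul]
    intro z hz
    obtain ⟨p, rfl⟩ := Submodule.Quotient.mk_surjective _ z
    rw [← Submodule.Quotient.mk_smul, Submodule.Quotient.mk_eq_zero, hmem, smul_eq_mul, map_mul,
      map_res_rel A a ha] at hz
    rw [Submodule.Quotient.mk_eq_zero, hmem]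
    rcases mul_eq_zero.mp hz with h | h
    · exact absurd h (mul_ne_zero (X_ne_zero 0) (X_ne_zero 1))
    · exact h
  have hflat := Groth.Agent.Lib.Helper5.flat_quotSMulTop_of_isSMulRegular (A := A) n hn
    (MvPolynomial (Fin 2) A) (rel a) hreg
  have hJ : (rel a • ⊤ : Submodule (MvPolynomial (Fin 2) A) (MvPolynomial (Fin 2) A)) =
      Ideal.span {rel a} := by
    ext x
    rw [Submodule.mem_smul_pointwise_iff_exists, Ideal.mem_span_singleton']
    constructor
    · rintro ⟨y, -, rfl⟩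
      exact ⟨y, by rw [smul_eq_mul, mul_comm]⟩
    · rintro ⟨y, rfl⟩
      exact ⟨y, Submodule.mem_top, by rw [smul_eq_mul, mul_comm]⟩
  exact Module.Flat.of_linearEquiv ((Submodule.quotEquivOfEq _ _ hJ).restrictScalars A).symm

/-- the reduction map `A[x,y]/(xy - a) → k[x,y]/(xy)` -/
noncomputable def piMap (A : Art Λ k) (a : A) (ha : A.res a = 0) : Nd a →+* Nd0 k :=
  liftMap A.res.toRingHom a (Ideal.span {X 0 * X 1})
    (by rw [map_res_rel A a ha]; exact Ideal.mem_span_singleton_self _)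

lemma piMap_mk (A : Art Λ k) (a : A) (ha : A.res a = 0) (p : MvPolynomial (Fin 2) A) :
    piMap A a ha (mk a p) = Ideal.Quotient.mk _ (MvPolynomial.map A.res.toRingHom p) := rfl

/-- algebra data of the deformation `xy = a` -/
noncomputable def nodeAlgDef (A : Art Λ k) (a : A) (ha : A.res a = 0) : AlgDef (Nd0 k) A where
  B := Nd a
  flat := flat_nd A a ha
  π := piMap A a ha
  π_surj := liftMap_surjective _ A.res_surjective _ _ _
  π_alg c := by
    rw [NodeAlg.algebraMap_eq, piMap_mk, MvPolynomial.map_C]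
    rfl
  ker_π := by
    refine ker_liftMap_le A.res.toRingHom A.res_surjective a _ _ ?_
    rw [map_res_rel A a ha]

/-- the deformation `xy = a` of the node over `A` -/
noncomputable def nodeDef (A : Art Λ k) (a : A) (ha : A.res a = 0) :
    DefSch (Spec (CommRingCat.of (Nd0 k))) (Spec.map (CommRingCat.ofHom (algebraMap k (Nd0 k)))) A :=
  (nodeAlgDef A a ha).toDefSch

lemma res_hom {A A'' : Art Λ k} (g : A ⟶ A'') (a : A) (ha : A.res a = 0) : A''.res (g a) = 0 := by
  rw [Art.res_app]; exact ha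

/-- base change of `xy = a` along `g` is `xy = g a` -/
noncomputable def nodeBaseChange {A A'' : Art Λ k} (g : A ⟶ A'') (a : A) (ha : A.res a = 0)
    (a'' : A'') (h : g a = a'') (ha'' : A''.res a'' = 0) :
    ((nodeDef A a ha).baseChange g).Iso (nodeDef A'' a'' ha'') :=
  AlgDef.baseChangeIso g (nodeAlgDef A a ha) (nodeAlgDef A'' a'' ha'')
    (ndMap g.toAlgHom.toRingHom a a'' h)
    (by
      intro b
      obtain ⟨p, rfl⟩ := Ideal.Quotient.mk_surjective b
      change piMap A'' a'' ha'' (ndMap g.toAlgHom.toRingHom a a'' h (mk a p)) = piMap A a ha (mk a p)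
      have hcomp : A''.res.toRingHom.comp g.toAlgHom.toRingHom = A.res.toRingHom :=
        RingHom.ext fun c => Art.res_app g c
      rw [ndMap_mk, piMap_mk, piMap_mk, MvPolynomial.map_map, hcomp])
    (isPushout_ndMap g.toAlgHom.toRingHom a a'' h)

/-- `xy = v a` is isomorphic to `xy = a` for `v ∈ 1 + m_A` -/
noncomputable def nodeScale (A : Art Λ k) (v w a a' : A) (h : a' = v * a) (hvw : w * v = 1)
    (hv : A.res v = 1) (ha : A.res a = 0) (ha' : A.res a' = 0) :
    (nodeDef A a' ha').Iso (nodeDef A a ha) :=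
  AlgDef.isoOfRingEquiv (nodeAlgDef A a' ha') (nodeAlgDef A a ha)
    (scEquiv v w a a' h hvw).toRingEquiv
    (fun c => (scEquiv v w a a' h hvw).commutes c)
    (by
      intro b
      obtain ⟨p, rfl⟩ := Ideal.Quotient.mk_surjective b
      change (piMap A a ha).comp ((scEquiv v w a a' h hvw).toAlgHom.toRingHom.comp (mk a')) p =
        (piMap A a' ha').comp (mk a') p
      congr 1
      apply MvPolynomial.ringHom_ext
      · intro c
        change piMap A a ha (scEquiv v w a a' h hvw (algebraMap A (Nd a') c)) =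
          piMap A a' ha' (mk a' (C c))
        rw [AlgEquiv.commutes, NodeAlg.algebraMap_eq, piMap_mk, piMap_mk]
      · intro i
        change piMap A a ha (scEquiv v w a a' h hvw (mk a' (X i))) = piMap A a' ha' (mk a' (X i))
        fin_cases i
        · change piMap A a ha (scEquiv v w a a' h hvw (mk a' (X 0))) = piMap A a' ha' (mk a' (X 0))
          rw [scEquiv_mk_X0, map_mul, NodeAlg.algebraMap_eq, piMap_mk, piMap_mk, piMap_mk,
            MvPolynomial.map_C, MvPolynomial.map_X]
          have : A.res.toRingHom v = 1 := hv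
          rw [this, map_one, map_one, one_mul]
        · change piMap A a ha (scEquiv v w a a' h hvw (mk a' (X 1))) = piMap A a' ha' (mk a' (X 1))
          rw [scEquiv_mk_X1, piMap_mk, piMap_mk])

/-- if `m_D² = 0` and `ε ≠ 0` then `xy = ε` is not isomorphic to `xy = 0` over `D` -/
theorem not_iso_of_sq_zero (D : Art Λ k) (ε : D) (hε : D.res ε = 0) (hne : ε ≠ 0)
    (hsq : ∀ x y : D, D.res x = 0 → D.res y = 0 → x * y = 0) (h0 : D.res (0 : D) = 0)
    (E : (nodeDef D (0 : D) h0).Iso (nodeDef D ε hε)) : False := by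
  obtain ⟨Φ, hΦalg, hΦπ⟩ := AlgDef.exists_hom_of_iso (nodeAlgDef D (0 : D) h0) (nodeAlgDef D ε hε) E
  change Nd ε →+* Nd (0 : D) at Φ
  have hΦalg' : ∀ c : D, Φ (algebraMap D (Nd ε) c) = algebraMap D (Nd (0 : D)) c := hΦalg
  have hΦπ' : ∀ b : Nd ε, piMap D (0 : D) h0 (Φ b) = piMap D ε hε b := hΦπ
  have hxy : Φ (mk ε (X 0)) * Φ (mk ε (X 1)) = algebraMap D (Nd (0 : D)) ε := by
    rw [← map_mul, mk_X_mul_X]
    exact hΦalg' ε
  -- evaluation at the origin
  let e : Nd (0 : D) →ₐ[D] D := ev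
  have hle : (RingHom.ker D.res.toRingHom).map (algebraMap D (Nd (0 : D))) ≤
      (RingHom.ker D.res.toRingHom).comap e.toRingHom := by
    rw [Ideal.map_le_iff_le_comap]
    intro c hc
    rw [Ideal.mem_comap, Ideal.mem_comap]
    change e (algebraMap D (Nd (0 : D)) c) ∈ _
    rw [AlgHom.commutes]
    exact hc
  have hkerπ : RingHom.ker (piMap D (0 : D) h0) ≤
      (RingHom.ker D.res.toRingHom).map (algebraMap D (Nd (0 : D))) :=
    (nodeAlgDef D (0 : D) h0).ker_π
  have hker : ∀ (i : Fin 2), D.res (e (Φ (mk ε (X i)))) = 0 := by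
    intro i
    have h1 : Φ (mk ε (X i)) - mk (0 : D) (X i) ∈ RingHom.ker (piMap D (0 : D) h0) := by
      rw [RingHom.mem_ker, map_sub, hΦπ', piMap_mk, piMap_mk, MvPolynomial.map_X, sub_self]
    have h2 := hle (hkerπ h1)
    rw [Ideal.mem_comap, RingHom.mem_ker] at h2
    change D.res (e (Φ (mk ε (X i)) - mk (0 : D) (X i))) = 0 at h2
    rw [map_sub] at h2
    have h3 : e (mk (0 : D) (X i)) = 0 := ev_mk_X i
    rw [h3, sub_zero] at h2
    exact h2
  have he : e (Φ (mk ε (X 0))) * e (Φ (mk ε (X 1))) = ε := by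
    rw [← map_mul, hxy, AlgHom.commutes]
    rfl
  rw [hsq _ _ (hker 0) (hker 1)] at he
  exact hne he.symm

end Groth.Agent.Lib.Seat36.NodeDef
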