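import Mathlib
import Groth.Prelude.Def_ArtFun
import Groth.Agent.Lib.Helper19FibreProd

/-!
# A fibre square on which the deformation functor of the node is not left exact (helper36)

`T = k[ε,δ]/(ε²,δ²)`, `f : T → k[ε,δ]/(ε²,δ²,εδ) = dual2`, `PB = T ×_{dual2} T`, the elements
`b₁ = (ε, ε)`, `b₂ = (ε, ε + εδ)` of `PB`, and `φ : PB → k[ε]` with `φ b₁ = 0`, `φ b₂ = ε`.
-/

set_option autoImplicit false
universe u
open ArtFun ArtFun.Art

namespace Groth.Agent.Lib.Seat36.NodeSquare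

variable (k : Type u) [Field k]

/-- `k[ε,δ]/(ε²,δ²)` -/
abbrev R2 : Type u := DualNumber (DualNumber k)

instance isScalarTower_R2 : IsScalarTower k (R2 k) (R2 k) := by
  refine ⟨fun c x y => ?_⟩
  refine TrivSqZeroExt.ext ?_ ?_
  · simp only [smul_eq_mul, TrivSqZeroExt.fst_mul, TrivSqZeroExt.fst_smul, smul_mul_assoc]
  · simp only [smul_eq_mul, TrivSqZeroExt.snd_mul, TrivSqZeroExt.fst_smul, TrivSqZeroExt.snd_smul,
      smul_add, smul_mul_assoc]
    congr 1
    rw [MulOpposite.smul_eq_mul_unop, MulOpposite.smul_eq_mul_unop, smul_mul_assoc]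

theorem isLocalRing_R2 : IsLocalRing (R2 k) := by
  refine IsLocalRing.of_nonunits_add ?_
  intro a b ha hb
  rw [mem_nonunits_iff, TrivSqZeroExt.isUnit_iff_isUnit_fst] at ha hb ⊢
  rw [TrivSqZeroExt.fst_add]
  exact IsLocalRing.nonunits_add ha hb

theorem isArtinianRing_R2 : IsArtinianRing (R2 k) :=
  haveI : Module.Finite k (DualNumber k) := inferInstanceAs (Module.Finite k (k × k))
  haveI : Module.Finite k (R2 k) :=
    inferInstanceAs (Module.Finite k (DualNumber k × DualNumber k))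
  IsArtinianRing.of_finite k _

/-- the augmentation -/
noncomputable def res2 : R2 k →ₐ[k] k :=
  (TrivSqZeroExt.fstHom k k k).comp (TrivSqZeroExt.fstHom k (DualNumber k) (DualNumber k))

lemma res2_apply (x : R2 k) : res2 k x = x.fst.fst := rfl

/-- `k[ε,δ]/(ε²,δ²)` as an object -/
noncomputable def T : Art k k :=
  { carrier := R2 k
    isLocalRing := isLocalRing_R2 k
    isArtinianRing := isArtinianRing_R2 k
    res := res2 k
    res_surjective := fun a => ⟨TrivSqZeroExt.inl (TrivSqZeroExt.inl a), rfl⟩ }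

/-- `k[ε,δ]/(ε²,δ²) → k[ε,δ]/(ε²,δ²,εδ)` -/
noncomputable def fAlg : R2 k →ₐ[k] TrivSqZeroExt k (k × k) where
  toFun x := (x.fst.fst, (x.fst.snd, x.snd.fst))
  map_one' := by
    refine TrivSqZeroExt.ext rfl ?_
    simp
  map_mul' x y := by
    refine TrivSqZeroExt.ext rfl ?_
    change ((x * y).fst.snd, (x * y).snd.fst) =
      x.fst.fst • (y.fst.snd, y.snd.fst) + MulOpposite.op y.fst.fst • (x.fst.snd, x.snd.fst)
    simp only [TrivSqZeroExt.fst_mul, TrivSqZeroExt.snd_mul, Prod.smul_mk, Prod.mk_add_mk,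
      smul_eq_mul, MulOpposite.smul_eq_mul_unop, MulOpposite.unop_op, TrivSqZeroExt.fst_add]
  map_zero' := by
    refine TrivSqZeroExt.ext rfl ?_
    simp
  map_add' x y := by
    refine TrivSqZeroExt.ext rfl ?_
    rfl
  commutes' c := by
    refine TrivSqZeroExt.ext rfl ?_
    change (((algebraMap k (R2 k)) c).fst.snd, ((algebraMap k (R2 k)) c).snd.fst) = _
    rw [TrivSqZeroExt.algebraMap_eq_inl', TrivSqZeroExt.algebraMap_eq_inl',
      TrivSqZeroExt.algebraMap_eq_inl']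
    simp

lemma fAlg_apply (x : R2 k) : fAlg k x = (x.fst.fst, (x.fst.snd, x.snd.fst)) := rfl

lemma fAlg_eq_iff (x y : R2 k) : fAlg k x = fAlg k y ↔
    x.fst.fst = y.fst.fst ∧ x.fst.snd = y.fst.snd ∧ x.snd.fst = y.snd.fst := by
  rw [fAlg_apply, fAlg_apply]
  constructor
  · intro h
    have h1 := congrArg TrivSqZeroExt.fst h
    have h2 := congrArg TrivSqZeroExt.snd h
    exact ⟨h1, congrArg Prod.fst h2, congrArg Prod.snd h2⟩
  · rintro ⟨h1, h2, h3⟩
    exact TrivSqZeroExt.ext h1 (Prod.ext h2 h3)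

/-- the small extension `k[ε,δ]/(ε²,δ²) → k[ε,δ]/(ε²,δ²,εδ)` -/
noncomputable def f : T k ⟶ dual2 k k := Art.homMk (fAlg k) (AlgHom.ext fun _ => rfl)

lemma f_surjective : Function.Surjective (f k) := by
  intro z
  refine ⟨((z.fst, z.snd.1), (z.snd.2, 0)), ?_⟩
  exact TrivSqZeroExt.ext rfl rfl

/-- the fibre product `T ×_{dual2} T` -/
noncomputable def PB : Art k k := Groth.Agent.Lib.Helper19.pullbackObj (f k) (f k) (f_surjective k)

noncomputable def p₁ : PB k ⟶ T k := Groth.Agent.Lib.Helper19.pullbackObjFst (f k) (f k) (f_surjective k)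

noncomputable def p₂ : PB k ⟶ T k := Groth.Agent.Lib.Helper19.pullbackObjSnd (f k) (f k) (f_surjective k)

theorem isFibreProd_PB : IsFibreProd (p₁ k) (p₂ k) (f k) (f k) :=
  Groth.Agent.Lib.Helper19.isFibreProd_pullbackObj (f k) (f k) (f_surjective k)

/-- `ε` -/
noncomputable def s : R2 k := TrivSqZeroExt.inl DualNumber.eps
/-- `δ` -/
noncomputable def d : R2 k := DualNumber.eps

/-- the functional `(a₁, a₂) ↦ res a₁ + ε (εδ-coefficient of a₂ - a₁)` -/
noncomputable def φAlg : (AlgHom.pullback (fAlg k) (fAlg k)) →ₐ[k] DualNumber k where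
  toFun b := (b.1.1.fst.fst, b.1.2.snd.snd - b.1.1.snd.snd)
  map_one' := by
    refine TrivSqZeroExt.ext rfl ?_
    simp
  map_mul' b b' := by
    have hb : fAlg k b.1.1 = fAlg k b.1.2 := b.2
    have hb' : fAlg k b'.1.1 = fAlg k b'.1.2 := b'.2
    obtain ⟨h1, h2, h3⟩ := (fAlg_eq_iff k _ _).mp hb
    obtain ⟨h1', h2', h3'⟩ := (fAlg_eq_iff k _ _).mp hb'
    refine TrivSqZeroExt.ext rfl ?_
    change (b.1.2 * b'.1.2).snd.snd - (b.1.1 * b'.1.1).snd.snd =
      b.1.1.fst.fst • (b'.1.2.snd.snd - b'.1.1.snd.snd) +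
        MulOpposite.op b'.1.1.fst.fst • (b.1.2.snd.snd - b.1.1.snd.snd)
    simp only [TrivSqZeroExt.snd_mul, smul_eq_mul,
      MulOpposite.smul_eq_mul_unop, MulOpposite.unop_op, TrivSqZeroExt.snd_add]
    rw [← h1, ← h2, ← h3, ← h1', ← h2', ← h3']
    ring
  map_zero' := by
    refine TrivSqZeroExt.ext rfl ?_
    simp
  map_add' b b' := by
    refine TrivSqZeroExt.ext rfl ?_
    change (b.1.2 + b'.1.2).snd.snd - (b.1.1 + b'.1.1).snd.snd =
      (b.1.2.snd.snd - b.1.1.snd.snd) + (b'.1.2.snd.snd - b'.1.1.snd.snd)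
    simp only [TrivSqZeroExt.snd_add]
    ring
  commutes' c := by
    refine TrivSqZeroExt.ext rfl ?_
    change ((algebraMap k (R2 k × R2 k) c).2).snd.snd - ((algebraMap k (R2 k × R2 k) c).1).snd.snd = _
    rw [TrivSqZeroExt.algebraMap_eq_inl']
    simp

/-- the map `T ×_{dual2} T → k[ε]` detecting the `εδ`-coefficient of the difference -/
noncomputable def φ : PB k ⟶ dual k k := Art.homMk (φAlg k) (AlgHom.ext fun _ => rfl)

lemma d_mul_d : d k * d k = 0 := DualNumber.eps_mul_eps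

lemma fAlg_s_add : fAlg k (s k) = fAlg k (s k + d k * s k) := by
  rw [fAlg_eq_iff]
  simp [s, d]

/-- `(ε, ε)` -/
noncomputable def b₁ : PB k := ⟨(s k, s k), rfl⟩

/-- `(ε, ε + εδ)` -/
noncomputable def b₂ : PB k := ⟨(s k, s k + d k * s k), fAlg_s_add k⟩

lemma p₁_b₁ : p₁ k (b₁ k) = s k := rfl
lemma p₂_b₁ : p₂ k (b₁ k) = s k := rfl
lemma p₁_b₂ : p₁ k (b₂ k) = s k := rfl
lemma p₂_b₂ : p₂ k (b₂ k) = s k + d k * s k := rfl

lemma φ_b₁ : φ k (b₁ k) = 0 := by
  refine TrivSqZeroExt.ext ?_ ?_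
  · change (s k).fst.fst = 0
    simp [s]
  · change (s k).snd.snd - (s k).snd.snd = 0
    rw [sub_self]

lemma φ_b₂ : φ k (b₂ k) = (DualNumber.eps : DualNumber k) := by
  refine TrivSqZeroExt.ext ?_ ?_
  · change (s k).fst.fst = 0
    simp [s]
  · change (s k + d k * s k).snd.snd - (s k).snd.snd = 1
    simp [s, d]

lemma res_s : (T k).res (s k) = 0 := by
  change (s k).fst.fst = 0
  simp [s]

lemma res_d : (T k).res (d k) = 0 := by
  change (d k).fst.fst = 0
  simp [d]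

/-- `ε` as an element of `T` -/
noncomputable def sT : T k := s k
/-- `δ` as an element of `T` -/
noncomputable def dT : T k := d k

lemma res_sT : (T k).res (sT k) = 0 := res_s k

lemma res_sT' : (T k).res (sT k + dT k * sT k) = 0 := by
  change (s k + d k * s k).fst.fst = 0
  simp [s, d]

lemma res_one_add_dT : (T k).res (1 + dT k) = 1 := by
  change ((1 : R2 k) + d k).fst.fst = 1
  simp [d]

lemma one_sub_dT_mul : (1 - dT k) * (1 + dT k) = 1 := by
  change ((1 : R2 k) - d k) * (1 + d k) = 1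
  linear_combination -(d_mul_d k)

lemma sT_add : sT k + dT k * sT k = (1 + dT k) * sT k := by
  change (s k + d k * s k : R2 k) = (1 + d k) * s k
  ring

lemma p₁_b₁' : p₁ k (b₁ k) = sT k := rfl
lemma p₂_b₁' : p₂ k (b₁ k) = sT k := rfl
lemma p₁_b₂' : p₁ k (b₂ k) = sT k := rfl
lemma p₂_b₂' : p₂ k (b₂ k) = sT k + dT k * sT k := rfl

lemma res_b₁ : (PB k).res (b₁ k) = 0 := res_s k
lemma res_b₂ : (PB k).res (b₂ k) = 0 := res_s k

lemma φ_b₁' : φ k (b₁ k) = (0 : dual k k) := φ_b₁ k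
lemma φ_b₂' : φ k (b₂ k) = (DualNumber.eps : dual k k) := φ_b₂ k

lemma dn_sq_zero (x y : DualNumber k) (hx : TrivSqZeroExt.fst x = 0) (hy : TrivSqZeroExt.fst y = 0) :
    x * y = 0 := by
  refine TrivSqZeroExt.ext ?_ ?_
  · rw [TrivSqZeroExt.fst_mul, hx, zero_mul]; rfl
  · rw [TrivSqZeroExt.snd_mul, hx, hy]
    simp

lemma dual_sq_zero (x y : dual k k) (hx : (dual k k).res x = 0) (hy : (dual k k).res y = 0) :
    x * y = 0 := dn_sq_zero k x y hx hy

lemma dn_eps_ne_zero : (DualNumber.eps : DualNumber k) ≠ 0 := by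
  intro h
  have := congrArg TrivSqZeroExt.snd h
  simp at this

lemma eps_ne_zero : (DualNumber.eps : dual k k) ≠ 0 := dn_eps_ne_zero k

end Groth.Agent.Lib.Seat36.NodeSquare
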