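/-
Seat36SmoothDense (helper36): a reduced scheme locally of finite type over a field is
geometrically reduced iff it has a dense open subscheme smooth over the field.
-/
import Mathlib
import Groth.Agent.Lib.Seat36SepPoints
import Groth.Agent.Lib.Helper6GeomRedGen1
import Groth.Agent.Lib.Helper6SmGeom

set_option autoImplicit false
universe u
open CategoryTheory AlgebraicGeometry Limits TopologicalSpace

namespace Groth.Agent.Lib.Seat36.SmoothDense

open Groth.Agent.Lib.Seat36.SepPoints

/-- smooth morphisms are geometrically reduced -/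
theorem geometricallyReduced_of_smooth {X S : Scheme.{u}} (g : X ⟶ S) [Smooth g] :
    GeometricallyReduced g := by
  constructor
  intro K _ y Z fst snd h
  haveI : Smooth snd := MorphismProperty.of_isPullback h inferInstance
  exact Groth.Agent.Lib.Helper6.SmGeom.isReduced_of_smooth_over_field K Z snd

/-- A reduced `k`-scheme with a dense smooth open subscheme is geometrically reduced. -/
theorem geometricallyReduced_of_dense_smooth {k : Type u} [Field k] {X : Scheme.{u}} [IsReduced X]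
    (f : X ⟶ Spec (CommRingCat.of k)) (U : X.Opens) (hU : Dense (U : Set X))
    [Smooth (U.ι ≫ f)] : GeometricallyReduced f := by
  haveI : GeometricallyReduced (U.ι ≫ f) := geometricallyReduced_of_smooth _
  refine geometricallyReduced_of_dense_sepPoints f (ι := SepPoint (U.ι ≫ f)) (fun c => c.K)
    (fun c => c.pt ≫ U.ι) (fun c => by rw [Category.assoc, c.w]) ?_
  rw [dense_iff_inter_open]
  rintro W hW ⟨x, hx⟩
  obtain ⟨y, hyW, hyU⟩ := hU.inter_open_nonempty W hW ⟨x, hx⟩
  obtain ⟨K, _, _, _, p, hp, hpV⟩ :=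
    exists_sepPoint_mem (U.ι ≫ f) (U.ι ⁻¹ᵁ ⟨W, hW⟩) ⟨y, hyU⟩ hyW
  exact ⟨_, hpV, ⟨⟨K, p, hp⟩, rfl⟩⟩

/-- A basic open `D(g)` of an affine open `V` with `Γ(V)_g` smooth over `k` is smooth over `k`. -/
theorem smooth_basicOpen_ι_comp {k : Type u} [Field k] {X : Scheme.{u}}
    (f : X ⟶ Spec (CommRingCat.of k)) {V : X.Opens} (hV : IsAffineOpen V) (g : Γ(X, V))
    (φ : CommRingCat.of k ⟶ Γ(X, V)) (hφ : Spec.map φ = hV.fromSpec ≫ f)
    (hsm : letI := φ.hom.toAlgebra; Algebra.Smooth k (Localization.Away g)) :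
    Smooth ((X.basicOpen g).ι ≫ f) := by
  have hD : IsAffineOpen (X.basicOpen g) := hV.basicOpen g
  let res : Γ(X, V) ⟶ Γ(X, X.basicOpen g) := X.presheaf.map (homOfLE (X.basicOpen_le g)).op
  have h1 : hD.fromSpec ≫ f = Spec.map (φ ≫ res) := by
    rw [Spec.map_comp, hφ, ← Category.assoc, hV.map_fromSpec hD]
  have h2 : (φ ≫ res).hom.Smooth := by
    letI := φ.hom.toAlgebra
    have hloc : IsLocalization.Away g Γ(X, X.basicOpen g) := hV.isLocalization_basicOpen g
    letI : Algebra k Γ(X, X.basicOpen g) := (φ ≫ res).hom.toAlgebra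
    have : IsScalarTower k Γ(X, V) Γ(X, X.basicOpen g) := IsScalarTower.of_algebraMap_eq' rfl
    let e : Localization.Away g ≃ₐ[Γ(X, V)] Γ(X, X.basicOpen g) :=
      IsLocalization.algEquiv (.powers g) _ _
    have : Algebra.Smooth k Γ(X, X.basicOpen g) := Algebra.Smooth.of_equiv (e.restrictScalars k)
    rw [← RingHom.smooth_algebraMap] at this
    exact this
  have h3 : Smooth (hD.fromSpec ≫ f) := by
    rw [h1]; exact (HasRingHomProperty.Spec_iff (P := @Smooth)).mpr h2
  have h4 : (X.basicOpen g).ι ≫ f = hD.isoSpec.hom ≫ hD.fromSpec ≫ f := by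
    rw [hD.isoSpec_hom_fromSpec_assoc]
  rw [h4]
  infer_instance

/-- Generic smoothness: a geometrically reduced scheme locally of finite type over a field has a
dense open subscheme which is smooth. -/
theorem exists_dense_smooth {k : Type u} [Field k] {X : Scheme.{u}}
    (f : X ⟶ Spec (CommRingCat.of k)) [LocallyOfFiniteType f] [GeometricallyReduced f] :
    ∃ U : X.Opens, Dense (U : Set X) ∧ Smooth (U.ι ≫ f) := by
  let J := {V : X.Opens // Smooth (V.ι ≫ f)}
  refine ⟨⨆ V : J, V.1, ?_, ?_⟩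
  · rw [dense_iff_inter_open]
    rintro W hW ⟨x₀, hx₀⟩
    obtain ⟨V, hV, hxV, hVW⟩ :=
      exists_isAffineOpen_mem_and_subset (x := x₀) (U := ⟨W, hW⟩) hx₀
    let A := Γ(X, V)
    let φ : CommRingCat.of k ⟶ A := Spec.preimage (hV.fromSpec ≫ f)
    have hφ : Spec.map φ = hV.fromSpec ≫ f := Spec.map_preimage _
    have hft : LocallyOfFiniteType (Spec.map φ) := by rw [hφ]; infer_instance
    have hft' : φ.hom.FiniteType :=
      (HasRingHomProperty.Spec_iff (P := @LocallyOfFiniteType)).mp hft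
    have hgr : GeometricallyReduced (Spec.map φ) := by
      rw [hφ]; exact geometricallyReduced_comp_of_isOpenImmersion _ _
    algebraize [φ.hom]
    have hφ' : φ = CommRingCat.ofHom (algebraMap k A) := rfl
    rw [hφ'] at hgr
    have hgr' : Algebra.IsGeometricallyReduced k A :=
      isGeometricallyReduced_of_geometricallyReduced_spec k A
    have hnt : Nonempty (PrimeSpectrum A) := ⟨hV.isoSpec.hom ⟨x₀, hxV⟩⟩
    obtain ⟨J', hJ1, hJ2⟩ := Groth.Agent.Lib.Helper6.GeomRedGen.exists_ideal_smooth_away k A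
    obtain ⟨p⟩ := hnt
    obtain ⟨P, hP, -⟩ := Ideal.exists_minimalPrimes_le (bot_le : (⊥ : Ideal A) ≤ p.asIdeal)
    have hPprime : P.IsPrime := Ideal.IsMinimalPrime.isPrime hP
    obtain ⟨g, hgJ, hgP⟩ := SetLike.not_le_iff_exists.mp (hJ1 P hP)
    have hsm : Smooth ((X.basicOpen g).ι ≫ f) := smooth_basicOpen_ι_comp f hV g φ hφ (hJ2 g hgJ)
    have hmem : hV.fromSpec ⟨P, hPprime⟩ ∈ X.basicOpen g := by
      have h1 : (⟨P, hPprime⟩ : PrimeSpectrum A) ∈ hV.fromSpec ⁻¹ᵁ X.basicOpen g := by
        rw [hV.fromSpec_preimage_basicOpen]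
        exact hgP
      exact h1
    refine ⟨hV.fromSpec ⟨P, hPprime⟩, hVW (X.basicOpen_le g hmem), ?_⟩
    exact Opens.mem_iSup.mpr ⟨⟨X.basicOpen g, hsm⟩, hmem⟩
  · have : IsZariskiLocalAtSource @Smooth.{u} :=
      HasRingHomProperty.instIsZariskiLocalAtSource (Q := RingHom.Smooth)
    rw [IsZariskiLocalAtSource.iff_of_openCover (P := @Smooth)
      (Scheme.Opens.iSupOpenCover (fun V : J => V.1))]
    intro V
    have : (Scheme.Opens.iSupOpenCover (fun V : J => V.1)).f V ≫ (⨆ V : J, V.1).ι ≫ f =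
        V.1.ι ≫ f := by
      rw [← Category.assoc]
      congr 1
      exact X.homOfLE_ι (le_iSup (fun V : J => V.1) V)
    rw [this]
    exact V.2

end Groth.Agent.Lib.Seat36.SmoothDense
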