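/-
Seat36NormPair (helper36): two smooth closed subgroups `A`, `B` of finite type of a group scheme `G`
locally of finite type over a field such that `B` normalizes `A`: the smallest closed subgroup
containing both is reduced with underlying set `A · B` (SGA3 VIB 7.1.1).
-/
import Mathlib
import Groth.Agent.Lib.Seat36PosWords
import Groth.Agent.Lib.Seat36SmoothDense
import Groth.Agent.Lib.Seat36DenseSubmonoid

set_option autoImplicit false
universe u
open CategoryTheory AlgebraicGeometry Limits TopologicalSpace MonoidalCategory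
  CartesianMonoidalCategory MonObj

namespace Groth.Agent.Lib.Seat36.NormPair

open Groth.Agent.Lib.Seat36.GenSubmonoid Groth.Agent.Lib.Seat36.GeomRedProd
  Groth.Agent.Lib.Seat36.PosWords

variable {k : Type u} [Field k] {G A B : Over (Spec (CommRingCat.of k))} [GrpObj G] [GrpObj A]
  [GrpObj B] (a : A ⟶ G) [IsMonHom a] (b : B ⟶ G) [IsMonHom b]

omit [GrpObj A] [GrpObj B] [IsMonHom a] [IsMonHom b] in
theorem tensorHom_comp_mul : (a ⊗ₘ b) ≫ μ[G] = (fst A B ≫ a) * (snd A B ≫ b) := by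
  rw [Hom.mul_def]
  congr 1

omit [GrpObj A] [GrpObj B] [IsMonHom a] [IsMonHom b] in
theorem comp_tensorHom_comp_mul {T : Over (Spec (CommRingCat.of k))} (t : T ⟶ A ⊗ B) :
    t ≫ (a ⊗ₘ b) ≫ μ[G] = ((t ≫ fst A B) ≫ a) * ((t ≫ snd A B) ≫ b) := by
  rw [tensorHom_comp_mul, MonObj.comp_mul, Category.assoc, Category.assoc]

/-- `T`-points of `G` of the form `a(x) b(y)`. -/
def IsProd (T : Over (Spec (CommRingCat.of k))) (g : T ⟶ G) : Prop :=
  ∃ (x : T ⟶ A) (y : T ⟶ B), g = (x ≫ a) * (y ≫ b)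

omit [GrpObj A] [GrpObj B] [IsMonHom a] [IsMonHom b] in
theorem isProd_iff {T : Over (Spec (CommRingCat.of k))} (g : T ⟶ G) :
    IsProd a b T g ↔ ∃ t : T ⟶ A ⊗ B, t ≫ (a ⊗ₘ b) ≫ μ[G] = g := by
  constructor
  · rintro ⟨x, y, rfl⟩
    exact ⟨lift x y, by rw [comp_tensorHom_comp_mul, lift_fst, lift_snd]⟩
  · rintro ⟨t, rfl⟩
    exact ⟨t ≫ fst A B, t ≫ snd A B, comp_tensorHom_comp_mul a b t⟩

theorem IsProd.one (T : Over (Spec (CommRingCat.of k))) : IsProd a b T 1 :=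
  ⟨1, 1, by rw [MonObj.one_comp, MonObj.one_comp, _root_.mul_one]⟩

variable {a b}
variable (hN : ∀ (T : Over (Spec (CommRingCat.of k))) (y : T ⟶ B) (x : T ⟶ A),
  ∃ x' : T ⟶ A, (y ≫ b) * (x ≫ a) * (y ≫ b)⁻¹ = x' ≫ a)

include hN in
theorem IsProd.mul {T : Over (Spec (CommRingCat.of k))} {g g' : T ⟶ G} (h : IsProd a b T g)
    (h' : IsProd a b T g') : IsProd a b T (g * g') := by
  obtain ⟨x, y, rfl⟩ := h
  obtain ⟨x', y', rfl⟩ := h'
  obtain ⟨x'', hx''⟩ := hN T y x'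
  refine ⟨x * x'', y * y', ?_⟩
  rw [MonObj.mul_comp, MonObj.mul_comp, ← hx'']
  group

include hN in
theorem IsProd.inv {T : Over (Spec (CommRingCat.of k))} {g : T ⟶ G} (h : IsProd a b T g) :
    IsProd a b T g⁻¹ := by
  obtain ⟨x, y, rfl⟩ := h
  obtain ⟨x'', hx''⟩ := hN T y⁻¹ x⁻¹
  refine ⟨x'', y⁻¹, ?_⟩
  rw [← hx'', GrpObj.inv_comp, GrpObj.inv_comp]
  group

include hN in
theorem IsProd.list_prod {T : Over (Spec (CommRingCat.of k))} (l : List (T ⟶ G))
    (h : ∀ g ∈ l, IsProd a b T g) : IsProd a b T l.prod := by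
  induction l with
  | nil => exact IsProd.one a b T
  | cons g l ih =>
    rw [List.prod_cons]
    exact IsProd.mul hN (h g (List.mem_cons_self)) (ih (fun g' hg' => h g' (List.mem_cons_of_mem _ hg')))

include hN in
/-- S5362. -/
theorem main [LocallyOfFiniteType G.hom] [IsClosedImmersion a.left] [IsClosedImmersion b.left]
    [Smooth A.hom] [QuasiCompact A.hom] [Smooth B.hom] [QuasiCompact B.hom]
    (Γ : Over (Spec (CommRingCat.of k))) [GrpObj Γ] (i : Γ ⟶ G) [IsMonHom i]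
    [IsClosedImmersion i.left]
    (ha : ∃ a' : A ⟶ Γ, a' ≫ i = a) (hb : ∃ b' : B ⟶ Γ, b' ≫ i = b)
    (hmin : ∀ (Γ' : Over (Spec (CommRingCat.of k))) (_ : GrpObj Γ') (i' : Γ' ⟶ G), IsMonHom i' →
      IsClosedImmersion i'.left →
        (∃ a'' : A ⟶ Γ', a'' ≫ i' = a) → (∃ b'' : B ⟶ Γ', b'' ≫ i' = b) → ∃ j : Γ ⟶ Γ', j ≫ i' = i) :
    IsReduced Γ.left ∧ Set.range i.left.base = Set.range ((a ⊗ₘ b) ≫ μ[G]).left.base := by
  have : GeometricallyReduced A.hom :=
    Groth.Agent.Lib.Seat36.SmoothDense.geometricallyReduced_of_smooth A.hom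
  have : GeometricallyReduced B.hom :=
    Groth.Agent.Lib.Seat36.SmoothDense.geometricallyReduced_of_smooth B.hom
  have : GeometricallyReduced (A ⊗ B).hom := geometricallyReduced_tensor A B
  set φ : A ⊗ B ⟶ G := (a ⊗ₘ b) ≫ μ[G] with hφdef
  have hφP : IsProd a b (A ⊗ B) φ := (isProd_iff a b φ).mpr ⟨𝟙 _, Category.id_comp _⟩
  have hmono : Mono i := by
    have : Mono ((Over.forget _).map i) := by
      change Mono i.left
      infer_instance
    exact (Over.forget _).mono_of_mono_map this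
  -- the image of `φ` is stable under inversion
  have hinv : Set.range (φ ≫ ι[G]).left.base ⊆ Set.range φ.left.base := by
    obtain ⟨t, ht⟩ := (isProd_iff a b _).mp (IsProd.inv hN hφP)
    rw [← Hom.inv_def, ← ht]
    rintro _ ⟨x, rfl⟩
    exact ⟨t.left.base x, rfl⟩
  -- `φ` factors through `Γ`
  obtain ⟨a', ha'⟩ := ha
  obtain ⟨b', hb'⟩ := hb
  have hφ' : ((a' ⊗ₘ b') ≫ μ[Γ]) ≫ i = φ := by
    rw [Category.assoc, IsMonHom.mul_hom, ← Category.assoc, tensorHom_comp_tensorHom, ha', hb']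
  -- minimality
  have hmin' : ∀ (H' : Over (Spec (CommRingCat.of k))) [GrpObj H'] (i' : H' ⟶ G) [IsMonHom i']
      [IsClosedImmersion i'.left], (∃ φ'' : A ⊗ B ⟶ H', φ'' ≫ i' = φ) → ∃ j : Γ ⟶ H', j ≫ i' = i := by
    intro H' _ i' _ _ ⟨φ'', hφ''⟩
    refine hmin H' inferInstance i' inferInstance inferInstance
      ⟨lift (𝟙 A) 1 ≫ φ'', ?_⟩ ⟨lift 1 (𝟙 B) ≫ φ'', ?_⟩
    · rw [Category.assoc, hφ'', hφdef, comp_tensorHom_comp_mul, lift_fst, lift_snd,
        Category.id_comp, MonObj.one_comp, _root_.mul_one]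
    · rw [Category.assoc, hφ'', hφdef, comp_tensorHom_comp_mul, lift_fst, lift_snd,
        Category.id_comp, MonObj.one_comp, _root_.one_mul]
  obtain ⟨hred, hrange⟩ := isReduced_and_range_eq hinv Γ i ⟨_, hφ'⟩ hmin'
  refine ⟨hred, ?_⟩
  -- the set of points hit by products is the image of `φ`
  have hset : {p : ↥G.left | ∃ (T : Over (Spec (CommRingCat.of k)))
      (l : List (T ⟶ A ⊗ B)) (t : ↥T.left), ((l.map (fun x => x ≫ φ)).prod).left.base t = p} =
      Set.range φ.left.base := by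
    apply Set.Subset.antisymm
    · rintro _ ⟨T, l, t, rfl⟩
      have hP : IsProd a b T (l.map (fun x => x ≫ φ)).prod := by
        apply IsProd.list_prod hN
        intro g hg
        obtain ⟨x, -, rfl⟩ := List.mem_map.mp hg
        exact (isProd_iff a b _).mpr ⟨x, rfl⟩
      obtain ⟨t', ht'⟩ := (isProd_iff a b _).mp hP
      rw [← ht']
      exact ⟨t'.left.base t, rfl⟩
    · rintro _ ⟨x, rfl⟩
      refine ⟨A ⊗ B, [𝟙 _], x, ?_⟩
      simp
  rw [hset] at hrange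
  -- the image of `φ` is closed
  have : LocallyOfFiniteType Γ.hom := by
    rw [← Over.w i]; infer_instance
  have : LocallyOfFiniteType (A ⊗ B).hom := by
    rw [Over.tensorObj_hom]; infer_instance
  have : QuasiCompact (A ⊗ B).hom := by
    rw [Over.tensorObj_hom]; infer_instance
  obtain ⟨φ', hφ'⟩ : ∃ φ' : A ⊗ B ⟶ Γ, φ' ≫ i = φ := ⟨_, hφ'⟩
  have hemb : Topology.IsClosedEmbedding i.left.base := Scheme.Hom.isClosedEmbedding i.left
  have hφφ' : ∀ s, φ.left.base s = i.left.base (φ'.left.base s) := by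
    intro s
    rw [← hφ']
    rfl
  have hdense : Dense (Set.range φ'.left) := by
    intro y
    have h1 : i.left.base y ∈ closure (Set.range φ.left.base) := by
      rw [← hrange]; exact ⟨y, rfl⟩
    have h2 : Set.range φ.left.base = i.left.base '' (Set.range φ'.left.base) := by
      ext p
      constructor
      · rintro ⟨s, rfl⟩
        exact ⟨_, ⟨s, rfl⟩, (hφφ' s).symm⟩
      · rintro ⟨_, ⟨s, rfl⟩, rfl⟩
        exact ⟨s, hφφ' s⟩
    rw [h2, hemb.closure_image_eq] at h1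
    obtain ⟨y', hy', hyy'⟩ := h1
    rw [← hemb.injective hyy']
    exact hy'
  have hmul : ∃ r : (A ⊗ B) ⊗ (A ⊗ B) ⟶ A ⊗ B, r ≫ φ' = (fst _ _ ≫ φ') * (snd _ _ ≫ φ') := by
    have hP : IsProd a b _ ((fst (A ⊗ B) (A ⊗ B) ≫ φ) * (snd (A ⊗ B) (A ⊗ B) ≫ φ)) :=
      IsProd.mul hN ((isProd_iff a b _).mpr ⟨_, rfl⟩) ((isProd_iff a b _).mpr ⟨_, rfl⟩)
    obtain ⟨r, hr⟩ := (isProd_iff a b _).mp hP
    refine ⟨r, ?_⟩
    have e1 : (fst (A ⊗ B) (A ⊗ B) ≫ φ') ≫ i = fst _ _ ≫ φ := by rw [Category.assoc, hφ']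
    have e2 : (snd (A ⊗ B) (A ⊗ B) ≫ φ') ≫ i = snd _ _ ≫ φ := by rw [Category.assoc, hφ']
    rw [← cancel_mono i, Category.assoc, hφ', MonObj.mul_comp, e1, e2]
    exact hr
  have hsurj := Groth.Agent.Lib.Seat36.DenseSubmonoid.surjective_of_dense_of_mul k Γ (A ⊗ B) φ'
    hdense hmul
  apply Set.Subset.antisymm
  · rintro _ ⟨y, rfl⟩
    obtain ⟨s, rfl⟩ := hsurj y
    exact ⟨s, hφφ' s⟩
  · rintro _ ⟨s, rfl⟩
    exact ⟨φ'.left.base s, (hφφ' s).symm⟩

end Groth.Agent.Lib.Seat36.NormPair
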