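/-
Seat36QPEpi (helper36): a surjective, quasi-compact, scheme-theoretically dominant morphism of
schemes is an epimorphism; and a jointly-epi statement for two morphisms after flat base change.
-/
import Mathlib

set_option autoImplicit false
universe u

open CategoryTheory AlgebraicGeometry Limits

namespace Groth.Agent.Lib.Seat36.QPEpi

/-- A surjective, quasi-compact, scheme-theoretically dominant morphism is an epimorphism of
schemes. -/
theorem epi_of_surjective_of_dominant {X Y : Scheme.{u}} (f : X ⟶ Y) [Surjective f]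
    [QuasiCompact f] [IsSchemeTheoreticallyDominant f] : Epi f := by
  constructor
  intro Z g h e
  have hbase : g.base = h.base := by
    apply TopCat.hom_ext
    apply ContinuousMap.ext
    intro y
    obtain ⟨x, rfl⟩ := f.surjective y
    have := congrArg (fun k => k.base x) e
    simpa using this
  refine Scheme.Hom.ext hbase fun U => ?_
  have hinj := f.app_injective (h ⁻¹ᵁ U)
  have hmono : Mono (f.app (h ⁻¹ᵁ U)) := ConcreteCategory.mono_of_injective _ hinj
  rw [← cancel_mono (f.app (h ⁻¹ᵁ U))]
  have h1 : g.app U ≫ f.app (g ⁻¹ᵁ U) =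
      (h.app U ≫ f.app (h ⁻¹ᵁ U)) ≫ X.presheaf.map (eqToHom (by
        change (f ≫ g) ⁻¹ᵁ U = (f ≫ h) ⁻¹ᵁ U; rw [e])).op :=
    Scheme.Hom.congr_app e U
  have hid : ∀ (V : (TopologicalSpace.Opens X)ᵒᵖ) (i : V ⟶ V), X.presheaf.map i = 𝟙 _ :=
    fun V i => by rw [Subsingleton.elim i (𝟙 V), X.presheaf.map_id]
  rw [Category.assoc, f.naturality, ← Category.assoc]
  refine (congrArg (· ≫ _) h1).trans ?_
  rw [Category.assoc, ← Functor.map_comp, hid, Category.comp_id]

/-- Two morphisms `j`, `i` into `X` whose coproduct is surjective, quasi-compact and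
scheme-theoretically dominant are jointly epimorphic after any flat base change. -/
theorem joint_epi {X Y₁ Y₂ T G : Scheme.{u}} (j : Y₁ ⟶ X) (i : Y₂ ⟶ X)
    [Surjective (coprod.desc j i)] [QuasiCompact (coprod.desc j i)]
    [IsSchemeTheoreticallyDominant (coprod.desc j i)] (u : T ⟶ X) [Flat u] (m m' : T ⟶ G)
    (h1 : pullback.fst u j ≫ m = pullback.fst u j ≫ m')
    (h2 : pullback.fst u i ≫ m = pullback.fst u i ≫ m') : m = m' := by
  let c := coprod.desc j i
  have hepi : Epi (pullback.fst u c) := epi_of_surjective_of_dominant _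
  rw [← cancel_epi (pullback.fst u c)]
  apply Scheme.Cover.hom_ext ((coprodOpenCover.{u, 0} Y₁ Y₂).pullback₁ (pullback.snd u c))
  rintro (⟨⟩ | ⟨⟩)
  · -- the `Y₁` piece
    let W := pullback (pullback.snd u c) (coprod.inl : Y₁ ⟶ Y₁ ⨿ Y₂)
    let p : W ⟶ T := pullback.fst _ _ ≫ pullback.fst u c
    let q : W ⟶ Y₁ := pullback.snd _ _
    have hpq : p ≫ u = q ≫ j := by
      change (pullback.fst _ _ ≫ pullback.fst u c) ≫ u = pullback.snd _ _ ≫ j
      rw [Category.assoc, pullback.condition, ← Category.assoc, pullback.condition, Category.assoc,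
        coprod.inl_desc]
    have hp : p = pullback.lift p q hpq ≫ pullback.fst u j := (pullback.lift_fst _ _ _).symm
    change p ≫ m = p ≫ m'
    rw [hp, Category.assoc, Category.assoc, h1]
  · let W := pullback (pullback.snd u c) (coprod.inr : Y₂ ⟶ Y₁ ⨿ Y₂)
    let p : W ⟶ T := pullback.fst _ _ ≫ pullback.fst u c
    let q : W ⟶ Y₂ := pullback.snd _ _
    have hpq : p ≫ u = q ≫ i := by
      change (pullback.fst _ _ ≫ pullback.fst u c) ≫ u = pullback.snd _ _ ≫ i
      rw [Category.assoc, pullback.condition, ← Category.assoc, pullback.condition, Category.assoc,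
        coprod.inr_desc]
    have hp : p = pullback.lift p q hpq ≫ pullback.fst u i := (pullback.lift_fst _ _ _).symm
    change p ≫ m = p ≫ m'
    rw [hp, Category.assoc, Category.assoc, h2]

end Groth.Agent.Lib.Seat36.QPEpi
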