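/-
Seat36QPFib (helper36): fibre products of rings are stable under localization at one element.
`IsFib ε ρ π₁ π₂` says `D = P ×_E Q` via `ε : D → P`, `ρ : D → Q`, `π₁ : P → E`, `π₂ : Q → E`.
-/
import Mathlib

set_option autoImplicit false
universe u

namespace Groth.Agent.Lib.Seat36.QPFib

variable {D P Q E : Type*} [CommRing D] [CommRing P] [CommRing Q] [CommRing E]

/-- `D` is the fibre product of `P` and `Q` over `E`. -/
structure IsFib (ε : D →+* P) (ρ : D →+* Q) (π₁ : P →+* E) (π₂ : Q →+* E) : Prop where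
  comm : π₁.comp ε = π₂.comp ρ
  inj : ∀ x, ε x = 0 → ρ x = 0 → x = 0
  glue : ∀ p q, π₁ p = π₂ q → ∃ x, ε x = p ∧ ρ x = q

theorem IsFib.ext' {ε : D →+* P} {ρ : D →+* Q} {π₁ : P →+* E} {π₂ : Q →+* E}
    (h : IsFib ε ρ π₁ π₂) {x y : D} (h1 : ε x = ε y) (h2 : ρ x = ρ y) : x = y := by
  have := h.inj (x - y) (by rw [map_sub, h1, sub_self]) (by rw [map_sub, h2, sub_self])
  exact sub_eq_zero.mp this

/-- The universal property of the fibre product of rings. -/
theorem IsFib.lift {ε : D →+* P} {ρ : D →+* Q} {π₁ : P →+* E} {π₂ : Q →+* E}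
    (h : IsFib ε ρ π₁ π₂) {A : Type*} [CommRing A] (α : A →+* P) (γ : A →+* Q)
    (hc : π₁.comp α = π₂.comp γ) : ∃ μ : A →+* D, ε.comp μ = α ∧ ρ.comp μ = γ := by
  have hc' : ∀ f, π₁ (α f) = π₂ (γ f) := fun f => congrArg (· f) hc
  choose μ hμ1 hμ2 using fun f => h.glue (α f) (γ f) (hc' f)
  refine ⟨{ toFun := μ, map_one' := ?_, map_mul' := ?_, map_zero' := ?_, map_add' := ?_ },
    RingHom.ext hμ1, RingHom.ext hμ2⟩
  · exact h.ext' (by rw [hμ1, map_one, map_one]) (by rw [hμ2, map_one, map_one])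
  · intro x y
    exact h.ext' (by rw [hμ1, map_mul, map_mul, hμ1, hμ1]) (by rw [hμ2, map_mul, map_mul, hμ2, hμ2])
  · exact h.ext' (by rw [hμ1, map_zero, map_zero]) (by rw [hμ2, map_zero, map_zero])
  · intro x y
    exact h.ext' (by rw [hμ1, map_add, map_add, hμ1, hμ1]) (by rw [hμ2, map_add, map_add, hμ2, hμ2])

section Loc

/-- Fibre products of rings localize. -/
theorem IsFib.localization {ε : D →+* P} {ρ : D →+* Q} {π₁ : P →+* E} {π₂ : Q →+* E}
    (h : IsFib ε ρ π₁ π₂) (d : D)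
    {D' P' Q' E' : Type*} [CommRing D'] [CommRing P'] [CommRing Q'] [CommRing E']
    [Algebra D D'] [IsLocalization.Away d D']
    [Algebra P P'] [IsLocalization.Away (ε d) P']
    [Algebra Q Q'] [IsLocalization.Away (ρ d) Q']
    [Algebra E E'] [IsLocalization.Away (π₁ (ε d)) E']
    (ε' : D' →+* P') (ρ' : D' →+* Q') (π₁' : P' →+* E') (π₂' : Q' →+* E')
    (hε : ε'.comp (algebraMap D D') = (algebraMap P P').comp ε)
    (hρ : ρ'.comp (algebraMap D D') = (algebraMap Q Q').comp ρ)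
    (hπ₁ : π₁'.comp (algebraMap P P') = (algebraMap E E').comp π₁)
    (hπ₂ : π₂'.comp (algebraMap Q Q') = (algebraMap E E').comp π₂) :
    IsFib ε' ρ' π₁' π₂' := by
  have hε' : ∀ x, ε' (algebraMap D D' x) = algebraMap P P' (ε x) := fun x => congrArg (· x) hε
  have hρ' : ∀ x, ρ' (algebraMap D D' x) = algebraMap Q Q' (ρ x) := fun x => congrArg (· x) hρ
  have hπ₁' : ∀ x, π₁' (algebraMap P P' x) = algebraMap E E' (π₁ x) := fun x => congrArg (· x) hπ₁
  have hπ₂' : ∀ x, π₂' (algebraMap Q Q' x) = algebraMap E E' (π₂ x) := fun x => congrArg (· x) hπ₂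
  have hc : ∀ x, π₁ (ε x) = π₂ (ρ x) := fun x => congrArg (· x) h.comm
  have ud : IsUnit (algebraMap D D' d) := IsLocalization.Away.algebraMap_isUnit d
  have uP : IsUnit (algebraMap P P' (ε d)) := IsLocalization.Away.algebraMap_isUnit (ε d)
  have uQ : IsUnit (algebraMap Q Q' (ρ d)) := IsLocalization.Away.algebraMap_isUnit (ρ d)
  have uE : IsUnit (algebraMap E E' (π₁ (ε d))) := IsLocalization.Away.algebraMap_isUnit _
  refine ⟨?_, ?_, ?_⟩
  · -- commutativity
    apply IsLocalization.ringHom_ext (Submonoid.powers d)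
    refine RingHom.ext fun x => ?_
    simp only [RingHom.comp_apply]
    rw [hε', hπ₁', hρ', hπ₂', hc]
  · -- injectivity
    intro x' h1 h2
    obtain ⟨n, x, hx⟩ := IsLocalization.Away.surj d x'
    have e1 : algebraMap P P' (ε x) = 0 := by rw [← hε', ← hx, map_mul, h1, zero_mul]
    have e2 : algebraMap Q Q' (ρ x) = 0 := by rw [← hρ', ← hx, map_mul, h2, zero_mul]
    obtain ⟨k₁, hk₁⟩ := IsLocalization.Away.exists_of_eq (ε d) (e1.trans (map_zero _).symm)
    obtain ⟨k₂, hk₂⟩ := IsLocalization.Away.exists_of_eq (ρ d) (e2.trans (map_zero _).symm)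
    rw [mul_zero] at hk₁ hk₂
    have h0 : d ^ (k₁ + k₂) * x = 0 := by
      apply h.inj
      · rw [map_mul, map_pow, pow_add, mul_comm (ε d ^ k₁), mul_assoc, hk₁, mul_zero]
      · rw [map_mul, map_pow, pow_add, mul_assoc, hk₂, mul_zero]
    have h3 : algebraMap D D' d ^ (k₁ + k₂) * algebraMap D D' x = 0 := by
      rw [← map_pow, ← map_mul, h0, map_zero]
    have h4 : algebraMap D D' x = 0 := ((ud.pow _).mul_right_eq_zero).mp h3
    rw [h4] at hx
    exact ((ud.pow n).mul_left_eq_zero).mp hx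
  · -- gluing
    intro p' q' hpq
    obtain ⟨a, p, hp⟩ := IsLocalization.Away.surj (ε d) p'
    obtain ⟨b, q, hq⟩ := IsLocalization.Away.surj (ρ d) q'
    have hp1 : p' * algebraMap P P' (ε d) ^ (a + b) = algebraMap P P' (p * ε d ^ b) := by
      rw [pow_add, ← mul_assoc, hp, map_mul, map_pow]
    have hq1 : q' * algebraMap Q Q' (ρ d) ^ (a + b) = algebraMap Q Q' (q * ρ d ^ a) := by
      rw [pow_add, mul_comm (algebraMap Q Q' (ρ d) ^ a), ← mul_assoc, hq, map_mul, map_pow]
    have hE : algebraMap E E' (π₁ (p * ε d ^ b)) = algebraMap E E' (π₂ (q * ρ d ^ a)) := by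
      rw [← hπ₁', ← hπ₂', ← hp1, ← hq1, map_mul, map_mul, map_pow, map_pow, hπ₁', hπ₂', hpq, hc]
    obtain ⟨k, hk⟩ := IsLocalization.Away.exists_of_eq (π₁ (ε d)) hE
    have hk' : π₁ (ε d ^ k * (p * ε d ^ b)) = π₂ (ρ d ^ k * (q * ρ d ^ a)) := by
      rw [map_mul, map_mul π₂, map_pow, map_pow, ← hc d, hk]
    obtain ⟨x, hx1, hx2⟩ := h.glue _ _ hk'
    obtain ⟨x', hx'⟩ : ∃ x' : D', x' * algebraMap D D' d ^ (a + b + k) = algebraMap D D' x :=
      ⟨algebraMap D D' x * ((ud.pow (a + b + k)).unit⁻¹ : D'ˣ), by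
        rw [mul_assoc, IsUnit.val_inv_mul, mul_one]⟩
    refine ⟨x', ?_, ?_⟩
    · have e : ε' x' * algebraMap P P' (ε d) ^ (a + b + k) =
          p' * algebraMap P P' (ε d) ^ (a + b + k) := by
        calc ε' x' * algebraMap P P' (ε d) ^ (a + b + k)
            = ε' (x' * algebraMap D D' d ^ (a + b + k)) := by rw [map_mul, map_pow, hε']
          _ = algebraMap P P' (ε d ^ k * (p * ε d ^ b)) := by rw [hx', hε', hx1]
          _ = algebraMap P P' (ε d) ^ k * (p' * algebraMap P P' (ε d) ^ (a + b)) := by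
              rw [map_mul, map_pow, hp1]
          _ = p' * algebraMap P P' (ε d) ^ (a + b + k) := by rw [pow_add _ (a + b) k]; ring
      exact (uP.pow _).mul_left_injective e
    · have e : ρ' x' * algebraMap Q Q' (ρ d) ^ (a + b + k) =
          q' * algebraMap Q Q' (ρ d) ^ (a + b + k) := by
        calc ρ' x' * algebraMap Q Q' (ρ d) ^ (a + b + k)
            = ρ' (x' * algebraMap D D' d ^ (a + b + k)) := by rw [map_mul, map_pow, hρ']
          _ = algebraMap Q Q' (ρ d ^ k * (q * ρ d ^ a)) := by rw [hx', hρ', hx2]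
          _ = algebraMap Q Q' (ρ d) ^ k * (q' * algebraMap Q Q' (ρ d) ^ (a + b)) := by
              rw [map_mul, map_pow, hq1]
          _ = q' * algebraMap Q Q' (ρ d) ^ (a + b + k) := by rw [pow_add _ (a + b) k]; ring
      exact (uQ.pow _).mul_left_injective e

end Loc

end Groth.Agent.Lib.Seat36.QPFib
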