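/-
Seat36QPGlue (helper36): gluing morphisms out of a "pinched" affine scheme.
`D = P ×_{E'} Q` with `P = D/I`, `Q = D[1/s]`, `I = sI`, `E' = P[1/s]`.  Then `Spec D` is the pushout
of `Spec P ← Spec E' → Spec Q` in the category of schemes: a pair of compatible morphisms
`a : Spec P ⟶ G`, `g : Spec Q ⟶ G` into any scheme `G` glues to a unique morphism `Spec D ⟶ G`.
-/
import Groth.Agent.Lib.Seat36QPFib
import Groth.Agent.Lib.Seat36QPEpi

set_option autoImplicit false
universe u

open CategoryTheory AlgebraicGeometry Limits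

namespace Groth.Agent.Lib.Seat36.QPGlue

open Groth.Agent.Lib.Seat36.QPFib Groth.Agent.Lib.Seat36.QPEpi

/-- A morphism from an affine scheme with image inside an affine open factors through it. -/
theorem exists_ringHom_of_range_subset {G : Scheme.{u}} {U : G.Opens} (hU : IsAffineOpen U)
    {A : CommRingCat.{u}} (f : Spec A ⟶ G) (hf : Set.range f ⊆ (U : Set G)) :
    ∃ φ : Γ(G, U) ⟶ A, Spec.map φ ≫ hU.fromSpec = f := by
  have h : Set.range f ⊆ Set.range hU.fromSpec := by rwa [hU.range_fromSpec]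
  refine ⟨Spec.preimage (IsOpenImmersion.lift hU.fromSpec f h), ?_⟩
  rw [Spec.map_preimage, IsOpenImmersion.lift_fac]

section Setup

variable {D P Q E' : Type u} [CommRing D] [CommRing P] [CommRing Q] [CommRing E']
  [Algebra D P] [Algebra D Q] [Algebra P E'] [Algebra Q E']

/-- `Spec Q ⟶ Spec D`. -/
noncomputable abbrev jj (D Q : Type u) [CommRing D] [CommRing Q] [Algebra D Q] :
    Spec (.of Q) ⟶ Spec (.of D) := Spec.map (CommRingCat.ofHom (algebraMap D Q))

variable (hfib : IsFib (algebraMap D P) (algebraMap D Q) (algebraMap P E') (algebraMap Q E'))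
  (hsurj : Function.Surjective (algebraMap D P)) (sD : D)
  (hker : ∀ x, algebraMap D P x = 0 → ∃ y, algebraMap D P y = 0 ∧ x = sD * y)
  [IsLocalization.Away sD Q]

include hker in
theorem ker_le_of_mem (x : Spec (.of D)) (hx : sD ∈ x.asIdeal) :
    RingHom.ker (algebraMap D P) ≤ x.asIdeal := by
  intro t ht
  obtain ⟨y, -, rfl⟩ := hker t ht
  exact x.asIdeal.mul_mem_right _ hx

include hsurj in
theorem exists_comap_P (x : Spec (.of D)) (hx : RingHom.ker (algebraMap D P) ≤ x.asIdeal) :
    ∃ y : Spec (.of P), jj D P y = x := by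
  have hxp : x.asIdeal.IsPrime := x.isPrime
  have hp : (x.asIdeal.map (algebraMap D P)).IsPrime :=
    Ideal.map_isPrime_of_surjective hsurj hx
  refine ⟨(⟨_, hp⟩ : PrimeSpectrum P), PrimeSpectrum.ext ?_⟩
  change (x.asIdeal.map (algebraMap D P)).comap (algebraMap D P) = x.asIdeal
  rw [Ideal.comap_map_of_surjective _ hsurj]
  exact sup_eq_left.mpr hx

theorem exists_comap_Q (x : Spec (.of D)) (hx : sD ∉ x.asIdeal) :
    ∃ z : Spec (.of Q), jj D Q z = x := by
  have hdisj : Disjoint (Submonoid.powers sD : Set D) (x.asIdeal : Set D) := by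
    rw [Set.disjoint_left]
    rintro _ ⟨n, rfl⟩ hn
    exact hx (x.isPrime.mem_of_pow_mem n hn)
  have hp : (x.asIdeal.map (algebraMap D Q)).IsPrime :=
    IsLocalization.isPrime_of_isPrime_disjoint (Submonoid.powers sD) Q _ x.isPrime hdisj
  refine ⟨(⟨_, hp⟩ : PrimeSpectrum Q), PrimeSpectrum.ext ?_⟩
  exact IsLocalization.comap_map_of_isPrime_disjoint (Submonoid.powers sD) Q x.isPrime hdisj

include hsurj hker in
theorem surjective_desc :
    Surjective (coprod.desc (jj D Q) (jj D P)) := by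
  constructor
  intro x
  by_cases hx : sD ∈ x.asIdeal
  · obtain ⟨y, rfl⟩ := exists_comap_P hsurj x (ker_le_of_mem sD hker x hx)
    refine ⟨(coprod.inr : Spec (.of P) ⟶ Spec (.of Q) ⨿ Spec (.of P)) y, ?_⟩
    rw [← Scheme.Hom.comp_apply, coprod.inr_desc]
  · obtain ⟨z, rfl⟩ := exists_comap_Q (Q := Q) sD x hx
    refine ⟨(coprod.inl : Spec (.of Q) ⟶ Spec (.of Q) ⨿ Spec (.of P)) z, ?_⟩
    rw [← Scheme.Hom.comp_apply, coprod.inl_desc]

instance isAffine_coprod : IsAffine (Spec (.of Q) ⨿ Spec (.of P)) :=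
  IsAffine.of_isIso (coprodSpec Q P)

include hfib in
theorem dominant_desc :
    IsSchemeTheoreticallyDominant (coprod.desc (jj D Q) (jj D P)) := by
  constructor
  rw [← le_bot_iff]
  apply Scheme.IdealSheafData.le_of_isAffine
  rw [Scheme.Hom.ker_apply]
  simp only [Scheme.IdealSheafData.ideal_bot, Pi.bot_apply, le_bot_iff]
  rw [← RingHom.injective_iff_ker_eq_bot, injective_iff_map_eq_zero]
  intro x hx
  change (coprod.desc (jj D Q) (jj D P)).appTop x = 0 at hx
  have h1 : (jj D Q).appTop x = 0 := by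
    have e : (jj D Q).appTop = (coprod.desc (jj D Q) (jj D P)).appTop ≫
        (coprod.inl : Spec (.of Q) ⟶ Spec (.of Q) ⨿ Spec (.of P)).appTop := by
      rw [← Scheme.Hom.comp_appTop, coprod.inl_desc]
    rw [e, CommRingCat.comp_apply, hx, map_zero]
  have h2 : (jj D P).appTop x = 0 := by
    have e : (jj D P).appTop = (coprod.desc (jj D Q) (jj D P)).appTop ≫
        (coprod.inr : Spec (.of P) ⟶ Spec (.of Q) ⨿ Spec (.of P)).appTop := by
      rw [← Scheme.Hom.comp_appTop, coprod.inr_desc]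
    rw [e, CommRingCat.comp_apply, hx, map_zero]
  have k1 : algebraMap D Q ((Scheme.ΓSpecIso (.of D)).hom x) = 0 := by
    have : (Scheme.ΓSpecIso (.of Q)).hom ((jj D Q).appTop x) =
        algebraMap D Q ((Scheme.ΓSpecIso (.of D)).hom x) :=
      congr($(Scheme.ΓSpecIso_naturality (CommRingCat.ofHom (algebraMap D Q))) x)
    rw [h1, map_zero] at this
    exact this.symm
  have k2 : algebraMap D P ((Scheme.ΓSpecIso (.of D)).hom x) = 0 := by
    have : (Scheme.ΓSpecIso (.of P)).hom ((jj D P).appTop x) =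
        algebraMap D P ((Scheme.ΓSpecIso (.of D)).hom x) :=
      congr($(Scheme.ΓSpecIso_naturality (CommRingCat.ofHom (algebraMap D P))) x)
    rw [h2, map_zero] at this
    exact this.symm
  have k3 := hfib.inj _ k2 k1
  have hinj : Function.Injective (Scheme.ΓSpecIso (.of D)).hom :=
    (ConcreteCategory.bijective_of_isIso _).1
  exact hinj (k3.trans (map_zero _).symm)

end Setup

section Main

variable {D P Q E' : Type u} [CommRing D] [CommRing P] [CommRing Q] [CommRing E']
  [Algebra D P] [Algebra D Q] [Algebra P E'] [Algebra Q E']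
  {G : Scheme.{u}} (a : Spec (.of P) ⟶ G) (g : Spec (.of Q) ⟶ G)

/-- `m : T ⟶ G` restricts to `g` over `Spec Q` and to `a` over `Spec P`. -/
def Good {T : Scheme.{u}} (v : T ⟶ Spec (.of D)) (m : T ⟶ G) : Prop :=
  (∀ (Z : Scheme.{u}) (p : Z ⟶ T) (q : Z ⟶ Spec (.of Q)), p ≫ v = q ≫ jj D Q → p ≫ m = q ≫ g) ∧
  (∀ (Z : Scheme.{u}) (p : Z ⟶ T) (q : Z ⟶ Spec (.of P)), p ≫ v = q ≫ jj D P → p ≫ m = q ≫ a)

variable {a g}

theorem Good.precomp {T T' : Scheme.{u}} (w : T' ⟶ T) {v : T ⟶ Spec (.of D)} {m : T ⟶ G}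
    (h : Good a g v m) : Good a g (w ≫ v) (w ≫ m) := by
  refine ⟨fun Z p q hpq => ?_, fun Z p q hpq => ?_⟩
  · rw [← Category.assoc]
    exact h.1 Z (p ≫ w) q (by rw [Category.assoc, hpq])
  · rw [← Category.assoc]
    exact h.2 Z (p ≫ w) q (by rw [Category.assoc, hpq])

theorem Good.unique [Surjective (coprod.desc (jj D Q) (jj D P))]
    [QuasiCompact (coprod.desc (jj D Q) (jj D P))]
    [IsSchemeTheoreticallyDominant (coprod.desc (jj D Q) (jj D P))]
    {T : Scheme.{u}} (v : T ⟶ Spec (.of D)) [Flat v] {m m' : T ⟶ G}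
    (h : Good a g v m) (h' : Good a g v m') : m = m' := by
  refine joint_epi (jj D Q) (jj D P) v m m' ?_ ?_
  · rw [h.1 _ _ _ pullback.condition, h'.1 _ _ _ pullback.condition]
  · rw [h.2 _ _ _ pullback.condition, h'.2 _ _ _ pullback.condition]

variable (a g)
variable (hfib : IsFib (algebraMap D P) (algebraMap D Q) (algebraMap P E') (algebraMap Q E'))
  (hsurj : Function.Surjective (algebraMap D P)) (sD : D)
  (hker : ∀ x, algebraMap D P x = 0 → ∃ y, algebraMap D P y = 0 ∧ x = sD * y)
  [IsLocalization.Away sD Q] [IsLocalization.Away (algebraMap D P sD) E']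
  (hag : Spec.map (CommRingCat.ofHom (algebraMap P E')) ≫ a =
    Spec.map (CommRingCat.ofHom (algebraMap Q E')) ≫ g)

include hfib hag sD in
/-- Pointwise compatibility of `a` and `g`. -/
theorem apply_eq_of_eq (y : Spec (.of P)) (z : Spec (.of Q)) (h : jj D P y = jj D Q z) :
    a y = g z := by
  have hopen : IsOpenImmersion (jj D Q) := IsOpenImmersion.of_isLocalization sD
  -- `s` is not in `y`
  have hs : algebraMap D P sD ∉ y.asIdeal := by
    intro hmem
    have h1 : sD ∈ (jj D P y).asIdeal := hmem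
    rw [h] at h1
    have h2 : algebraMap D Q sD ∈ z.asIdeal := h1
    have hz : z.asIdeal.IsPrime := z.isPrime
    exact hz.ne_top (Ideal.eq_top_of_isUnit_mem _ h2 (IsLocalization.Away.algebraMap_isUnit sD))
  obtain ⟨w, hw⟩ := exists_comap_Q (D := P) (Q := E') (algebraMap D P sD) y hs
  have hcomm : Spec.map (CommRingCat.ofHom (algebraMap Q E')) ≫ jj D Q =
      Spec.map (CommRingCat.ofHom (algebraMap P E')) ≫ jj D P := by
    rw [← Spec.map_comp, ← Spec.map_comp, ← CommRingCat.ofHom_comp, ← CommRingCat.ofHom_comp,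
      hfib.comm]
  have hz : Spec.map (CommRingCat.ofHom (algebraMap Q E')) w = z := by
    apply (jj D Q).isOpenEmbedding.injective
    rw [← Scheme.Hom.comp_apply, hcomm, Scheme.Hom.comp_apply, hw, h]
  rw [← hw, ← hz, ← Scheme.Hom.comp_apply, ← Scheme.Hom.comp_apply, hag]

include hker sD in
/-- Local existence away from `V(I)`. -/
theorem exists_local_of_not_le (x : Spec (.of D))
    (hx : ¬ RingHom.ker (algebraMap D P) ≤ x.asIdeal) :
    ∃ d : D, d ∉ x.asIdeal ∧ ∃ m : Spec (.of (Localization.Away d)) ⟶ G,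
      Good a g (Spec.map (CommRingCat.ofHom (algebraMap D (Localization.Away d)))) m := by
  obtain ⟨t, ht, htx⟩ := SetLike.not_le_iff_exists.mp hx
  have hs : sD ∉ x.asIdeal := fun h => hx (ker_le_of_mem sD hker x h)
  have hxp : x.asIdeal.IsPrime := x.isPrime
  refine ⟨sD * t, fun h => (hxp.mem_or_mem h).elim hs htx, ?_⟩
  set d := sD * t with hd
  have hunit : IsUnit (algebraMap D (Localization.Away d) sD) :=
    IsLocalization.Away.isUnit_of_dvd d (Dvd.intro t rfl)
  let ℓ : Q →+* Localization.Away d := IsLocalization.Away.lift sD hunit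
  have hℓ : ℓ.comp (algebraMap D Q) = algebraMap D (Localization.Away d) :=
    IsLocalization.Away.lift_comp sD hunit
  have hopen : IsOpenImmersion (jj D Q) := IsOpenImmersion.of_isLocalization sD
  refine ⟨Spec.map (CommRingCat.ofHom ℓ) ≫ g, fun Z p q hpq => ?_, fun Z p q hpq => ?_⟩
  · have : p ≫ Spec.map (CommRingCat.ofHom ℓ) = q := by
      rw [← cancel_mono (jj D Q), Category.assoc, ← Spec.map_comp, ← CommRingCat.ofHom_comp, hℓ,
        hpq]
    rw [← Category.assoc, this]
  · have hemp : IsEmpty Z := by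
      constructor
      intro z
      have h1 : d ∈ ((p ≫ Spec.map (CommRingCat.ofHom
          (algebraMap D (Localization.Away d)))) z).asIdeal := by
        rw [hpq]
        change algebraMap D P d ∈ (q z).asIdeal
        rw [hd, map_mul, (RingHom.mem_ker.mp ht), mul_zero]
        exact Ideal.zero_mem _
      have h2 : algebraMap D (Localization.Away d) d ∈ (p z).asIdeal := h1
      have hz : (p z).asIdeal.IsPrime := (p z).isPrime
      exact hz.ne_top (Ideal.eq_top_of_isUnit_mem _ h2 (IsLocalization.Away.algebraMap_isUnit d))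
    exact isInitialOfIsEmpty.hom_ext _ _

include hker in
theorem exists_pow_mul_of_ker (n : ℕ) (x : D) (hx : algebraMap D P x = 0) :
    ∃ y, algebraMap D P y = 0 ∧ x = sD ^ n * y := by
  induction n with
  | zero => exact ⟨x, hx, by rw [pow_zero, one_mul]⟩
  | succ n ih =>
    obtain ⟨y, hy, rfl⟩ := ih
    obtain ⟨y', hy', rfl⟩ := hker y hy
    exact ⟨y', hy', by rw [pow_succ, mul_assoc]⟩

include hfib hsurj hker hag sD in
/-- The choice of a basic open neighbourhood mapping into an affine open of `G`. -/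
theorem exists_basicOpen_of_le (y₀ : Spec (.of P)) (U : G.Opens) (hyU : a y₀ ∈ U) :
    ∃ d : D, algebraMap D P d ∉ y₀.asIdeal ∧
      (∀ y : Spec (.of P), algebraMap D P d ∉ y.asIdeal → a y ∈ U) ∧
      (∀ z : Spec (.of Q), algebraMap D Q d ∉ z.asIdeal → g z ∈ U) := by
  have hy₀p : y₀.asIdeal.IsPrime := y₀.isPrime
  -- a basic open neighbourhood in `Spec P`
  obtain ⟨_, ⟨cbar, rfl⟩, hy₀c, hsub⟩ :=
    PrimeSpectrum.isTopologicalBasis_basic_opens.exists_subset_of_mem_open
      (show y₀ ∈ ((a ⁻¹ᵁ U : (Spec (.of P)).Opens) : Set (Spec (.of P))) from hyU)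
      (a ⁻¹ᵁ U).isOpen
  obtain ⟨c, rfl⟩ := hsurj cbar
  have hcU : ∀ y : Spec (.of P), algebraMap D P c ∉ y.asIdeal → a y ∈ U := fun y hy => hsub hy
  -- the closed complement in `Spec Q`
  let F : Set (PrimeSpectrum Q) := ((g ⁻¹ᵁ U : (Spec (.of Q)).Opens) : Set (Spec (.of Q)))ᶜ
  have hFc : IsClosed F := (g ⁻¹ᵁ U).isOpen.isClosed_compl
  let J₀ : Ideal Q := PrimeSpectrum.vanishingIdeal F
  have hF : PrimeSpectrum.zeroLocus (J₀ : Set Q) = F := by
    rw [PrimeSpectrum.zeroLocus_vanishingIdeal_eq_closure, hFc.closure_eq]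
  have hFmem : ∀ z : Spec (.of Q), g z ∉ U → J₀ ≤ z.asIdeal := by
    intro z hz
    have : (z : PrimeSpectrum Q) ∈ PrimeSpectrum.zeroLocus (J₀ : Set Q) := by
      rw [hF]
      exact hz
    exact (PrimeSpectrum.mem_zeroLocus _ _).mp this
  have hFmem' : ∀ z : Spec (.of Q), J₀ ≤ z.asIdeal → g z ∉ U := by
    intro z hz
    have : (z : PrimeSpectrum Q) ∈ F := by
      rw [← hF]
      exact (PrimeSpectrum.mem_zeroLocus _ _).mpr hz
    exact this
  have hus : IsUnit (algebraMap D Q sD) := IsLocalization.Away.algebraMap_isUnit sD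
  -- the key claim
  have key : c * sD ∈ (J₀.comap (algebraMap D Q) ⊔ RingHom.ker (algebraMap D P)).radical := by
    rw [Ideal.radical_eq_sInf, Ideal.mem_sInf]
    rintro p ⟨hle, hp⟩
    by_contra hcs
    have hc : c ∉ p := fun h => hcs (p.mul_mem_right _ h)
    have hs : sD ∉ p := fun h => hcs (p.mul_mem_left _ h)
    let x : Spec (.of D) := (⟨p, hp⟩ : PrimeSpectrum D)
    obtain ⟨z, hz⟩ := exists_comap_Q (Q := Q) sD x hs
    obtain ⟨y, hy⟩ := exists_comap_P hsurj x (le_sup_right.trans hle)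
    have hzp : z.asIdeal.IsPrime := z.isPrime
    have hzF : g z ∉ U := by
      apply hFmem'
      intro f hf
      obtain ⟨n, b, hb⟩ := IsLocalization.Away.surj sD f
      have hbJ : b ∈ J₀.comap (algebraMap D Q) := by
        change algebraMap D Q b ∈ J₀
        rw [← hb]
        exact J₀.mul_mem_right _ hf
      have hbp : b ∈ (jj D Q z).asIdeal := by
        rw [hz]
        exact hle (Ideal.mem_sup_left hbJ)
      have hbz : algebraMap D Q b ∈ z.asIdeal := hbp
      rw [← hb] at hbz
      rcases hzp.mem_or_mem hbz with h | h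
      · exact h
      · exact absurd (Ideal.eq_top_of_isUnit_mem _ h (hus.pow n)) hzp.ne_top
    have hyU' : a y ∈ U := by
      apply hcU
      intro hmem
      have : c ∈ (jj D P y).asIdeal := hmem
      rw [hy] at this
      exact hc this
    have := apply_eq_of_eq a g hfib sD hag y z (hy.trans hz.symm)
    rw [this] at hyU'
    exact hzF hyU'
  obtain ⟨n, hn⟩ := key
  obtain ⟨j₀, hj₀, i₀, hi₀, hsum⟩ := Submodule.mem_sup.mp hn
  obtain ⟨i', hi', rfl⟩ := exists_pow_mul_of_ker sD hker n i₀ (RingHom.mem_ker.mp hi₀)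
  have hj₀' : sD ^ n * (c ^ n - i') = j₀ := by
    have h1 : (c * sD) ^ n = c ^ n * sD ^ n := mul_pow c sD n
    rw [h1] at hsum
    linear_combination (-1 : D) * hsum
  have hdP : algebraMap D P (c * (c ^ n - i')) = algebraMap D P c ^ (n + 1) := by
    rw [map_mul, map_sub, hi', sub_zero, map_pow, pow_succ, mul_comm]
  refine ⟨c * (c ^ n - i'), ?_, ?_, ?_⟩
  · rw [hdP]
    exact fun h => hy₀c (hy₀p.mem_of_pow_mem _ h)
  · intro y hy
    apply hcU
    intro hmem
    apply hy
    rw [hdP]
    exact Ideal.pow_mem_of_mem _ hmem _ (Nat.succ_pos n)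
  · intro z hz
    by_contra hzU
    have hzp : z.asIdeal.IsPrime := z.isPrime
    have h1 : algebraMap D Q j₀ ∈ z.asIdeal := hFmem z hzU hj₀
    rw [← hj₀', map_mul, map_pow] at h1
    rcases hzp.mem_or_mem h1 with h | h
    · exact absurd (Ideal.eq_top_of_isUnit_mem _ h (hus.pow n)) hzp.ne_top
    · apply hz
      rw [map_mul]
      exact z.asIdeal.mul_mem_left _ h

include hfib hag in
/-- Local existence: over a basic open `D(d)` both of whose pieces map into an affine open `U`. -/
theorem exists_good_of_basicOpen {U : G.Opens} (hU : IsAffineOpen U) (d : D)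
    (hP : ∀ y : Spec (.of P), algebraMap D P d ∉ y.asIdeal → a y ∈ U)
    (hQ : ∀ z : Spec (.of Q), algebraMap D Q d ∉ z.asIdeal → g z ∈ U) :
    ∃ m : Spec (.of (Localization.Away d)) ⟶ G,
      Good a g (Spec.map (CommRingCat.ofHom (algebraMap D (Localization.Away d)))) m := by
  let Dd := Localization.Away d
  let Pd := Localization.Away (algebraMap D P d)
  let Qd := Localization.Away (algebraMap D Q d)
  let Ed := Localization.Away (algebraMap P E' (algebraMap D P d))
  let εd : Dd →+* Pd := IsLocalization.Away.map Dd Pd (algebraMap D P) d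
  let ρd : Dd →+* Qd := IsLocalization.Away.map Dd Qd (algebraMap D Q) d
  let π₁d : Pd →+* Ed := IsLocalization.Away.map Pd Ed (algebraMap P E') (algebraMap D P d)
  have hu : IsUnit (((algebraMap E' Ed).comp (algebraMap Q E')) (algebraMap D Q d)) := by
    have e : algebraMap Q E' (algebraMap D Q d) = algebraMap P E' (algebraMap D P d) :=
      (congrArg (· d) hfib.comm).symm
    rw [RingHom.comp_apply, e]
    exact IsLocalization.Away.algebraMap_isUnit _
  let π₂d : Qd →+* Ed := IsLocalization.Away.lift (algebraMap D Q d) hu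
  have hε : εd.comp (algebraMap D Dd) = (algebraMap P Pd).comp (algebraMap D P) :=
    IsLocalization.map_comp _
  have hρ : ρd.comp (algebraMap D Dd) = (algebraMap Q Qd).comp (algebraMap D Q) :=
    IsLocalization.map_comp _
  have hπ₁ : π₁d.comp (algebraMap P Pd) = (algebraMap E' Ed).comp (algebraMap P E') :=
    IsLocalization.map_comp _
  have hπ₂ : π₂d.comp (algebraMap Q Qd) = (algebraMap E' Ed).comp (algebraMap Q E') :=
    IsLocalization.Away.lift_comp _ hu
  have hfd : IsFib εd ρd π₁d π₂d := hfib.localization d εd ρd π₁d π₂d hε hρ hπ₁ hπ₂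
  -- the restrictions of `a` and `g`
  let ad : Spec (.of Pd) ⟶ G := Spec.map (CommRingCat.ofHom (algebraMap P Pd)) ≫ a
  let gd : Spec (.of Qd) ⟶ G := Spec.map (CommRingCat.ofHom (algebraMap Q Qd)) ≫ g
  have hadU : Set.range ad ⊆ (U : Set G) := by
    rintro _ ⟨y', rfl⟩
    change a (Spec.map (CommRingCat.ofHom (algebraMap P Pd)) y') ∈ U
    apply hP
    intro hmem
    have h1 : algebraMap P Pd (algebraMap D P d) ∈ y'.asIdeal := hmem
    have hy' : y'.asIdeal.IsPrime := y'.isPrime
    exact hy'.ne_top (Ideal.eq_top_of_isUnit_mem _ h1 (IsLocalization.Away.algebraMap_isUnit _))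
  have hgdU : Set.range gd ⊆ (U : Set G) := by
    rintro _ ⟨z', rfl⟩
    change g (Spec.map (CommRingCat.ofHom (algebraMap Q Qd)) z') ∈ U
    apply hQ
    intro hmem
    have h1 : algebraMap Q Qd (algebraMap D Q d) ∈ z'.asIdeal := hmem
    have hz' : z'.asIdeal.IsPrime := z'.isPrime
    exact hz'.ne_top (Ideal.eq_top_of_isUnit_mem _ h1 (IsLocalization.Away.algebraMap_isUnit _))
  obtain ⟨α, hα⟩ := exists_ringHom_of_range_subset hU ad hadU
  obtain ⟨γ, hγ⟩ := exists_ringHom_of_range_subset hU gd hgdU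
  have hcompat : π₁d.comp α.hom = π₂d.comp γ.hom := by
    have h1 : α ≫ CommRingCat.ofHom π₁d = γ ≫ CommRingCat.ofHom π₂d := by
      apply Spec.map_injective
      rw [← cancel_mono hU.fromSpec, Spec.map_comp, Spec.map_comp, Category.assoc, Category.assoc,
        hα, hγ]
      change Spec.map (CommRingCat.ofHom π₁d) ≫ Spec.map (CommRingCat.ofHom (algebraMap P Pd)) ≫ a =
        Spec.map (CommRingCat.ofHom π₂d) ≫ Spec.map (CommRingCat.ofHom (algebraMap Q Qd)) ≫ g
      have key1 : Spec.map (CommRingCat.ofHom π₁d) ≫ Spec.map (CommRingCat.ofHom (algebraMap P Pd)) =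
          Spec.map (CommRingCat.ofHom (algebraMap E' Ed)) ≫
            Spec.map (CommRingCat.ofHom (algebraMap P E')) := by
        rw [← Spec.map_comp, ← Spec.map_comp, ← CommRingCat.ofHom_comp, ← CommRingCat.ofHom_comp,
          hπ₁]
      have key2 : Spec.map (CommRingCat.ofHom π₂d) ≫ Spec.map (CommRingCat.ofHom (algebraMap Q Qd)) =
          Spec.map (CommRingCat.ofHom (algebraMap E' Ed)) ≫
            Spec.map (CommRingCat.ofHom (algebraMap Q E')) := by
        rw [← Spec.map_comp, ← Spec.map_comp, ← CommRingCat.ofHom_comp, ← CommRingCat.ofHom_comp,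
          hπ₂]
      rw [← Category.assoc, key1, Category.assoc, hag, ← Category.assoc, ← key2, Category.assoc]
    exact congrArg CommRingCat.Hom.hom h1
  obtain ⟨μ, hμ1, hμ2⟩ := hfd.lift α.hom γ.hom hcompat
  let m : Spec (.of Dd) ⟶ G := Spec.map (CommRingCat.ofHom μ) ≫ hU.fromSpec
  have hm1 : Spec.map (CommRingCat.ofHom εd) ≫ m = ad := by
    change Spec.map (CommRingCat.ofHom εd) ≫ Spec.map (CommRingCat.ofHom μ) ≫ hU.fromSpec = ad
    rw [← Category.assoc, ← Spec.map_comp, ← CommRingCat.ofHom_comp, hμ1, ← hα]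
    rfl
  have hm2 : Spec.map (CommRingCat.ofHom ρd) ≫ m = gd := by
    change Spec.map (CommRingCat.ofHom ρd) ≫ Spec.map (CommRingCat.ofHom μ) ≫ hU.fromSpec = gd
    rw [← Category.assoc, ← Spec.map_comp, ← CommRingCat.ofHom_comp, hμ2, ← hγ]
    rfl
  -- the pullback squares
  have HQ : IsPullback (Spec.map (CommRingCat.ofHom (algebraMap Q Qd)))
      (Spec.map (CommRingCat.ofHom ρd)) (jj D Q)
      (Spec.map (CommRingCat.ofHom (algebraMap D Dd))) := by
    have : IsLocalization ((Submonoid.powers d).map (algebraMap D Q)) Qd := by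
      rw [Submonoid.map_powers]
      infer_instance
    exact isPullback_SpecMap_of_isPushout _ _ _ _
      (CommRingCat.isPushout_of_isLocalization (algebraMap D Q) ρd hρ (Submonoid.powers d))
  have HP : IsPullback (Spec.map (CommRingCat.ofHom (algebraMap P Pd)))
      (Spec.map (CommRingCat.ofHom εd)) (jj D P)
      (Spec.map (CommRingCat.ofHom (algebraMap D Dd))) := by
    have : IsLocalization ((Submonoid.powers d).map (algebraMap D P)) Pd := by
      rw [Submonoid.map_powers]
      infer_instance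
    exact isPullback_SpecMap_of_isPushout _ _ _ _
      (CommRingCat.isPushout_of_isLocalization (algebraMap D P) εd hε (Submonoid.powers d))
  refine ⟨m, fun Z p q hpq => ?_, fun Z p q hpq => ?_⟩
  · have e1 : HQ.lift q p hpq.symm ≫ Spec.map (CommRingCat.ofHom (algebraMap Q Qd)) = q :=
      HQ.lift_fst _ _ _
    have e2 : HQ.lift q p hpq.symm ≫ Spec.map (CommRingCat.ofHom ρd) = p := HQ.lift_snd _ _ _
    rw [← e2, Category.assoc, hm2, ← Category.assoc, e1]
  · have e1 : HP.lift q p hpq.symm ≫ Spec.map (CommRingCat.ofHom (algebraMap P Pd)) = q :=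
      HP.lift_fst _ _ _
    have e2 : HP.lift q p hpq.symm ≫ Spec.map (CommRingCat.ofHom εd) = p := HP.lift_snd _ _ _
    rw [← e2, Category.assoc, hm1, ← Category.assoc, e1]

include hfib hsurj hker hag sD in
/-- **The pushout property of the pinching**: compatible morphisms from `Spec P` and `Spec Q`
into any scheme glue to a morphism from `Spec D`. -/
theorem exists_glue : ∃ m : Spec (.of D) ⟶ G, jj D Q ≫ m = g ∧ jj D P ≫ m = a := by
  have hsj : Surjective (coprod.desc (jj D Q) (jj D P)) := surjective_desc hsurj sD hker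
  have hdom : IsSchemeTheoreticallyDominant (coprod.desc (jj D Q) (jj D P)) := dominant_desc hfib
  have hloc : ∀ x : Spec (.of D), ∃ d : D, d ∉ x.asIdeal ∧
      ∃ m : Spec (.of (Localization.Away d)) ⟶ G,
        Good a g (Spec.map (CommRingCat.ofHom (algebraMap D (Localization.Away d)))) m := by
    intro x
    by_cases hx : RingHom.ker (algebraMap D P) ≤ x.asIdeal
    · obtain ⟨y₀, rfl⟩ := exists_comap_P hsurj x hx
      obtain ⟨_, ⟨U, hU, rfl⟩, hyU, -⟩ := G.isBasis_affineOpens.exists_subset_of_mem_open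
        (Set.mem_univ (a y₀)) isOpen_univ
      obtain ⟨d, hd, hP, hQ⟩ := exists_basicOpen_of_le a g hfib hsurj sD hker hag y₀ U hyU
      exact ⟨d, hd, exists_good_of_basicOpen a g hfib hag hU d hP hQ⟩
    · exact exists_local_of_not_le a g sD hker x hx
  choose d hd m hm using hloc
  have hspan : Ideal.span (Set.range d) = ⊤ := by
    by_contra h
    obtain ⟨M, hM, hle⟩ := Ideal.exists_le_maximal _ h
    exact hd (⟨M, hM.isPrime⟩ : PrimeSpectrum D) (hle (Ideal.subset_span ⟨_, rfl⟩))
  let 𝒰 : (Spec (.of D)).OpenCover :=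
    (Scheme.affineOpenCoverOfSpanRangeEqTop (R := .of D) d hspan).openCover
  let m' : ∀ x : 𝒰.I₀, 𝒰.X x ⟶ G := fun x => m x
  have hm' : ∀ x : 𝒰.I₀, Good a g (𝒰.f x) (m' x) := hm
  have hcompat : ∀ x y : 𝒰.I₀,
      pullback.fst (𝒰.f x) (𝒰.f y) ≫ m' x = pullback.snd (𝒰.f x) (𝒰.f y) ≫ m' y := by
    intro x y
    refine Good.unique (a := a) (g := g) (pullback.fst (𝒰.f x) (𝒰.f y) ≫ 𝒰.f x)
      ((hm' x).precomp _) ?_
    rw [pullback.condition]
    exact (hm' y).precomp _
  have hι : ∀ x : 𝒰.I₀, 𝒰.f x ≫ 𝒰.glueMorphisms m' hcompat = m' x :=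
    fun x => 𝒰.ι_glueMorphisms m' hcompat x
  refine ⟨𝒰.glueMorphisms m' hcompat, ?_, ?_⟩
  · apply Scheme.Cover.hom_ext (𝒰.pullback₁ (jj D Q))
    intro (x : 𝒰.I₀)
    change pullback.fst (jj D Q) (𝒰.f x) ≫ jj D Q ≫ 𝒰.glueMorphisms m' hcompat =
      pullback.fst (jj D Q) (𝒰.f x) ≫ g
    rw [← Category.assoc, pullback.condition, Category.assoc, hι]
    exact (hm' x).1 _ _ _ pullback.condition.symm
  · apply Scheme.Cover.hom_ext (𝒰.pullback₁ (jj D P))
    intro (x : 𝒰.I₀)
    change pullback.fst (jj D P) (𝒰.f x) ≫ jj D P ≫ 𝒰.glueMorphisms m' hcompat =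
      pullback.fst (jj D P) (𝒰.f x) ≫ a
    rw [← Category.assoc, pullback.condition, Category.assoc, hι]
    exact (hm' x).2 _ _ _ pullback.condition.symm

end Main

end Groth.Agent.Lib.Seat36.QPGlue
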