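/-
Seat36QPRing (helper36): the "pinching" ring `D = C ×_{C'} C'[X]` (`C' = C[1/s]`):
pairs `(c, h)` with `h(0) = c/1`.  It is the filtered colimit of
`C[X] --(X ↦ sX)--> C[X] --(X ↦ sX)--> ...` via `phi N : C[X] → D`, `p ↦ (p(0), p(X/s^N))`.
-/
import Groth.Agent.Lib.Seat36QPFib

set_option autoImplicit false
universe u

open Polynomial

namespace Groth.Agent.Lib.Seat36.QPRing

open Groth.Agent.Lib.Seat36.QPFib

section Scale

variable {K : Type*} [CommRing K]

/-- The substitution `X ↦ a X`. -/
noncomputable def scale (a : K) : K[X] →ₐ[K] K[X] := aeval (C a * X)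

theorem scale_apply (a : K) (p : K[X]) : scale a p = p.comp (C a * X) := rfl

@[simp] theorem coeff_scale (a : K) (p : K[X]) (n : ℕ) :
    (scale a p).coeff n = p.coeff n * a ^ n := by
  rw [scale_apply, comp_C_mul_X_coeff]

theorem scale_scale (a b : K) (p : K[X]) : scale a (scale b p) = scale (a * b) p := by
  ext n
  simp only [coeff_scale, mul_pow]
  ring

@[simp] theorem scale_one (p : K[X]) : scale (1 : K) p = p := by
  ext n
  simp

theorem scale_map {K' : Type*} [CommRing K'] (f : K →+* K') (a : K) (p : K[X]) :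
    (scale a p).map f = scale (f a) (p.map f) := by
  ext n
  simp

@[simp] theorem eval_zero_scale (a : K) (p : K[X]) : (scale a p).eval 0 = p.eval 0 := by
  rw [← coeff_zero_eq_eval_zero, ← coeff_zero_eq_eval_zero, coeff_scale, pow_zero, mul_one]

theorem scale_X (a : K) : scale a (X : K[X]) = C a * X := by
  simp [scale]

theorem scale_C (a b : K) : scale a (C b : K[X]) = C b := by
  simp [scale]

end Scale

section Pinch

variable (R C C' : Type u) [CommRing R] [CommRing C] [CommRing C'] [Algebra R C] [Algebra R C']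
  [Algebra C C'] [IsScalarTower R C C']

/-- `(c, h) ↦ c/1`. -/
noncomputable def piOne : (C × C'[X]) →ₐ[R] C' :=
  (IsScalarTower.toAlgHom R C C').comp (AlgHom.fst R C C'[X])

/-- `(c, h) ↦ h(0)`. -/
noncomputable def piTwo : (C × C'[X]) →ₐ[R] C' :=
  ((aeval (0 : C')).restrictScalars R).comp (AlgHom.snd R C C'[X])

/-- The pinching ring `C ×_{C'} C'[X]`. -/
noncomputable def Dp : Subalgebra R (C × C'[X]) := AlgHom.equalizer (piOne R C C') (piTwo R C C')

variable {R C C'}

theorem mem_Dp (x : C × C'[X]) : x ∈ Dp R C C' ↔ algebraMap C C' x.1 = x.2.eval 0 := by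
  rw [Dp, AlgHom.mem_equalizer]
  simp [piOne, piTwo, coe_aeval_eq_eval]

variable (R C C')

/-- First projection. -/
noncomputable def eps : Dp R C C' →ₐ[R] C := (AlgHom.fst R C C'[X]).comp (Dp R C C').val

/-- Second projection. -/
noncomputable def rho : Dp R C C' →ₐ[R] C'[X] := (AlgHom.snd R C C'[X]).comp (Dp R C C').val

variable {R C C'}

@[simp] theorem eps_mk (x : C × C'[X]) (hx : x ∈ Dp R C C') : eps R C C' ⟨x, hx⟩ = x.1 := rfl

@[simp] theorem rho_mk (x : C × C'[X]) (hx : x ∈ Dp R C C') : rho R C C' ⟨x, hx⟩ = x.2 := rfl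

theorem Dp_ext {x y : Dp R C C'} (h1 : eps R C C' x = eps R C C' y)
    (h2 : rho R C C' x = rho R C C' y) : x = y :=
  Subtype.ext (Prod.ext h1 h2)

theorem eval_rho (x : Dp R C C') : (rho R C C' x).eval 0 = algebraMap C C' (eps R C C' x) :=
  ((mem_Dp x.1).mp x.2).symm

variable (R C C')

theorem isFib : IsFib (eps R C C').toRingHom (rho R C C').toRingHom (algebraMap C C')
    (evalRingHom (0 : C')) where
  comm := RingHom.ext fun x => (eval_rho x).symm
  inj x h1 h2 := by
    have : (0 : Dp R C C') = x := Dp_ext (by rw [map_zero]; exact h1.symm)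
      (by rw [map_zero]; exact h2.symm)
    exact this.symm
  glue p q hpq := ⟨⟨(p, q), (mem_Dp _).mpr hpq⟩, rfl, rfl⟩

theorem eps_surjective : Function.Surjective (eps R C C') := fun c =>
  ⟨⟨(c, Polynomial.C (algebraMap C C' c)), (mem_Dp _).mpr (by simp)⟩, rfl⟩

variable (s : C)

/-- The element `(s, s)`. -/
noncomputable def sD : Dp R C C' :=
  ⟨(s, Polynomial.C (algebraMap C C' s)), (mem_Dp _).mpr (by simp)⟩

@[simp] theorem eps_sD : eps R C C' (sD R C C' s) = s := rfl

@[simp] theorem rho_sD : rho R C C' (sD R C C' s) = Polynomial.C (algebraMap C C' s) := rfl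

variable [IsLocalization.Away s C']

/-- `ker ε = s · ker ε`. -/
theorem ker_eps_le (x : Dp R C C') (hx : eps R C C' x = 0) :
    ∃ y, eps R C C' y = 0 ∧ x = sD R C C' s * y := by
  have h0 : (rho R C C' x).eval 0 = 0 := by rw [eval_rho, hx, map_zero]
  have hy : ((0 : C), Polynomial.C (IsLocalization.Away.invSelf s) * rho R C C' x) ∈ Dp R C C' :=
    (mem_Dp _).mpr (by simp [h0])
  refine ⟨⟨_, hy⟩, rfl, ?_⟩
  apply Dp_ext
  · have e : eps R C C' (sD R C C' s * ⟨_, hy⟩) = s * 0 := by rw [map_mul]; rfl
    rw [e, mul_zero, hx]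
  · have e : rho R C C' (sD R C C' s * ⟨_, hy⟩) = Polynomial.C (algebraMap C C' s) *
        (Polynomial.C (IsLocalization.Away.invSelf s) * rho R C C' x) := by rw [map_mul]; rfl
    rw [e, ← mul_assoc, ← Polynomial.C_mul, IsLocalization.Away.mul_invSelf, Polynomial.C_1, one_mul]

/-- `C'[X]` is the localization of `D` away from `(s, s)`. -/
theorem isLocalization_rho :
    letI := (rho R C C').toRingHom.toAlgebra
    IsLocalization.Away (sD R C C' s) C'[X] := by
  let _ := (rho R C C').toRingHom.toAlgebra
  have hu : IsUnit (algebraMap C C' s) := IsLocalization.Away.algebraMap_isUnit s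
  refine IsLocalization.Away.mk _ ?_ ?_ ?_
  · change IsUnit (rho R C C' (sD R C C' s))
    rw [rho_sD]
    exact hu.map Polynomial.C
  · intro h
    obtain ⟨b, ⟨n, rfl⟩, hb⟩ := IsLocalization.integerNormalization_spec (Submonoid.powers s) h
    set q := IsLocalization.integerNormalization (Submonoid.powers s) h with hq
    refine ⟨n, ⟨(q.eval 0, q.map (algebraMap C C')), (mem_Dp _).mpr ?_⟩, ?_⟩
    · exact (eval_zero_map _ _).symm
    · change h * (rho R C C' (sD R C C' s)) ^ n = q.map (algebraMap C C')
      rw [hb, rho_sD, ← Polynomial.C_pow, ← map_pow, mul_comm, Algebra.smul_def,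
        IsScalarTower.algebraMap_apply C C' C'[X], Polynomial.algebraMap_apply,
        Algebra.algebraMap_self_apply]
  · intro a b hab
    change rho R C C' a = rho R C C' b at hab
    have h1 : algebraMap C C' (eps R C C' a) = algebraMap C C' (eps R C C' b) := by
      rw [← eval_rho, ← eval_rho, hab]
    obtain ⟨n, hn⟩ := IsLocalization.Away.exists_of_eq s h1
    refine ⟨n, Dp_ext ?_ ?_⟩
    · rw [map_mul, map_mul, map_pow, eps_sD, hn]
    · rw [map_mul, map_mul, hab]

/-- The cocone maps `p ↦ (p(0), p(X / s^N))`. -/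
noncomputable def phi (N : ℕ) : C[X] →ₐ[R] Dp R C C' :=
  AlgHom.codRestrict
    (AlgHom.prod ((aeval (0 : C)).restrictScalars R)
      (((scale (IsLocalization.Away.invSelf s ^ N : C')).restrictScalars R).comp
        (mapAlgHom (IsScalarTower.toAlgHom R C C'))))
    (Dp R C C') (fun p => (mem_Dp _).mpr (by
      change algebraMap C C' (aeval (0 : C) p) =
        (scale (IsLocalization.Away.invSelf s ^ N : C') (p.map (algebraMap C C'))).eval 0
      rw [eval_zero_scale, eval_zero_map, coe_aeval_eq_eval]))

@[simp] theorem eps_phi (N : ℕ) (p : C[X]) : eps R C C' (phi R C C' s N p) = p.eval 0 := by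
  simp [phi, eps, coe_aeval_eq_eval]

@[simp] theorem rho_phi (N : ℕ) (p : C[X]) : rho R C C' (phi R C C' s N p) =
    scale (IsLocalization.Away.invSelf s ^ N : C') (p.map (algebraMap C C')) := by
  simp [phi, rho]

theorem phi_succ_scale (N : ℕ) (p : C[X]) :
    phi R C C' s (N + 1) (scale s p) = phi R C C' s N p := by
  apply Dp_ext
  · simp
  · rw [rho_phi, rho_phi, scale_map, scale_scale, pow_succ, mul_assoc, mul_comm _ (algebraMap C C' s),
      IsLocalization.Away.mul_invSelf, mul_one]

theorem phi_add_scale (N m : ℕ) (p : C[X]) :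
    phi R C C' s (N + m) (scale (s ^ m) p) = phi R C C' s N p := by
  induction m generalizing p with
  | zero => simp
  | succ m ih =>
    rw [← add_assoc, pow_succ, mul_comm, ← scale_scale, phi_succ_scale, ih]

/-- Rescaling back: `(X ↦ s^N X) ∘ ρ ∘ φ_N` is the coefficient map. -/
theorem scale_rho_phi (N : ℕ) (p : C[X]) :
    scale (algebraMap C C' s ^ N) (rho R C C' (phi R C C' s N p)) = p.map (algebraMap C C') := by
  rw [rho_phi, scale_scale, ← mul_pow, IsLocalization.Away.mul_invSelf, one_pow, scale_one]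

/-- The maps `phi N` are jointly surjective. -/
theorem phi_surjective (x : Dp R C C') : ∃ (N : ℕ) (p : C[X]), phi R C C' s N p = x := by
  obtain ⟨b, ⟨n, rfl⟩, hb⟩ :=
    IsLocalization.integerNormalization_spec (Submonoid.powers s) (rho R C C' x)
  set q := IsLocalization.integerNormalization (Submonoid.powers s) (rho R C C' x) with hq
  have hqc : ∀ k, algebraMap C C' (q.coeff k) = algebraMap C C' s ^ n * (rho R C C' x).coeff k := by
    intro k
    have := congrArg (fun r => r.coeff k) hb
    simp only [coeff_map] at this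
    rw [this]
    change (s ^ n • rho R C C' x).coeff k = _
    rw [coeff_smul, Algebra.smul_def, map_pow]
  have hu : algebraMap C C' s * IsLocalization.Away.invSelf s = 1 :=
    IsLocalization.Away.mul_invSelf s
  refine ⟨n, Polynomial.C (eps R C C' x) + X * scale (s ^ n) (divX q), Dp_ext ?_ ?_⟩
  · simp
  · rw [rho_phi]
    ext k
    rcases k with _ | k
    · simp only [coeff_scale, pow_zero, mul_one, coeff_map, coeff_add, coeff_C_zero,
        mul_coeff_zero, coeff_X_zero, zero_mul, add_zero]
      rw [coeff_zero_eq_eval_zero, eval_rho]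
    · simp only [coeff_scale, coeff_map, coeff_add, coeff_C_succ, zero_add, coeff_X_mul,
        coeff_divX, map_mul, map_pow, hqc]
      have e : algebraMap C C' s ^ n * (rho R C C' x).coeff (k + 1) * (algebraMap C C' s ^ n) ^ k *
          (IsLocalization.Away.invSelf s ^ n) ^ (k + 1) =
          (rho R C C' x).coeff (k + 1) *
            ((algebraMap C C' s * IsLocalization.Away.invSelf s) ^ n) ^ (k + 1) := by
        rw [mul_pow, mul_pow]
        ring
      rw [e, hu, one_pow, one_pow, mul_one]

attribute [local instance] Polynomial.algebra in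
/-- The maps `phi N` are injective up to rescaling. -/
theorem phi_injective (N : ℕ) (p q : C[X]) (h : phi R C C' s N p = phi R C C' s N q) :
    ∃ m : ℕ, scale (s ^ m) p = scale (s ^ m) q := by
  have h1 : p.eval 0 = q.eval 0 := by
    have := congrArg (eps R C C') h
    simpa using this
  have h2 : p.map (algebraMap C C') = q.map (algebraMap C C') := by
    have := congrArg (fun y => scale (algebraMap C C' s ^ N) (rho R C C' y)) h
    simpa only [scale_rho_phi] using this
  have : IsLocalization ((Submonoid.powers s).map (Polynomial.C : C →+* C[X])) C'[X] :=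
    Polynomial.isLocalization (Submonoid.powers s) C'
  obtain ⟨⟨_, c, ⟨m, rfl⟩, rfl⟩, hc⟩ := IsLocalization.exists_of_eq
    (M := (Submonoid.powers s).map (Polynomial.C : C →+* C[X])) (S := C'[X]) h2
  refine ⟨m, ?_⟩
  ext k
  rcases k with _ | k
  · simp only [coeff_scale, pow_zero, mul_one]
    rw [coeff_zero_eq_eval_zero, coeff_zero_eq_eval_zero, h1]
  · have hk := congrArg (fun r => r.coeff (k + 1)) hc
    simp only [coeff_C_mul] at hk
    simp only [coeff_scale]
    rw [← pow_mul, mul_add, mul_one, pow_add, mul_comm (s ^ (m * k)), ← mul_assoc, ← mul_assoc,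
      mul_comm (p.coeff (k + 1)), mul_comm (q.coeff (k + 1)), hk]

end Pinch

end Groth.Agent.Lib.Seat36.QPRing
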