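/-
Seat36QPLemmaA (helper36): the key descent lemma for Quillen patching of group schemes locally of
finite presentation.  Let `C' = C[1/s]`, `G` a group scheme lfp over `Spec R`, and
`g ∈ G(C'[X])` with `g(0) = 1`.  Then for `N ≫ 0` the point `g(s^N X)` comes from some
`g' ∈ G(C[X])` with `g'(0) = 1`.
-/
import Groth.Agent.Lib.Seat36QPRing
import Groth.Agent.Lib.Seat36QPGlue

set_option autoImplicit false
universe u

open CategoryTheory CategoryTheory.Limits MonoidalCategory CartesianMonoidalCategory MonObj GrpObj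
  AlgebraicGeometry Polynomial

namespace Groth.Agent.Lib.Seat36.QPLemmaA

open Groth.Agent.Lib.Seat36.QPFib Groth.Agent.Lib.Seat36.QPEpi Groth.Agent.Lib.Seat36.QPRing
  Groth.Agent.Lib.Seat36.QPGlue

section Points

variable (R : Type u) [CommRing R]

/-- `Spec E` as an object over `Spec R`. -/
noncomputable abbrev pt (E : Type u) [CommRing E] [Algebra R E] : Over (Spec (CommRingCat.of R)) :=
  Over.mk (Spec.map (CommRingCat.ofHom (algebraMap R E)))

variable {R}
variable {E E' E'' : Type u} [CommRing E] [CommRing E'] [CommRing E''] [Algebra R E] [Algebra R E']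
  [Algebra R E'']

/-- The morphism over `Spec R` induced by an `R`-algebra map. -/
noncomputable def pm (φ : E →ₐ[R] E') : pt R E' ⟶ pt R E :=
  Over.homMk (Spec.map (CommRingCat.ofHom φ.toRingHom)) (by
    dsimp
    rw [← Spec.map_comp, ← CommRingCat.ofHom_comp]
    congr 2
    exact φ.comp_algebraMap)

@[simp] theorem pm_left (φ : E →ₐ[R] E') :
    (pm φ).left = Spec.map (CommRingCat.ofHom φ.toRingHom) := rfl

theorem pm_comp (φ : E →ₐ[R] E') (ψ : E' →ₐ[R] E'') : pm ψ ≫ pm φ = pm (ψ.comp φ) := by
  ext1
  rw [Over.comp_left, pm_left, pm_left, pm_left, ← Spec.map_comp, ← CommRingCat.ofHom_comp]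
  rfl

theorem pm_comp_assoc (φ : E →ₐ[R] E') (ψ : E' →ₐ[R] E'') {Z : Over (Spec (CommRingCat.of R))}
    (h : pt R E ⟶ Z) : pm ψ ≫ pm φ ≫ h = pm (ψ.comp φ) ≫ h := by
  rw [← Category.assoc, pm_comp]

theorem pm_id : pm (AlgHom.id R E) = 𝟙 (pt R E) := by
  ext1
  rw [pm_left]
  exact Spec.map_id _

theorem eq_pm (e : pt R E' ⟶ pt R E) (φ : E →ₐ[R] E') (f : E →+* E')
    (he : e.left = Spec.map (CommRingCat.ofHom f)) (hf : φ.toRingHom = f) : e = pm φ := by
  ext1
  rw [he, pm_left, hf]

/-- Evaluation at `0` as an `R`-algebra map. -/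
noncomputable def ev0 (R : Type u) [CommRing R] (K : Type u) [CommRing K] [Algebra R K] :
    K[X] →ₐ[R] K := (aeval (0 : K)).restrictScalars R

@[simp] theorem ev0_apply (K : Type u) [CommRing K] [Algebra R K] (p : K[X]) :
    ev0 R K p = p.eval 0 := by
  simp [ev0, coe_aeval_eq_eval]

theorem ev0_toRingHom (K : Type u) [CommRing K] [Algebra R K] :
    (ev0 R K).toRingHom = evalRingHom (0 : K) :=
  RingHom.ext fun p => ev0_apply K p

end Points

section Pinch

variable {R : Type u} [CommRing R] (G : Over (Spec (CommRingCat.of R))) [GrpObj G]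
  (C C' : Type u) [CommRing C] [CommRing C'] [Algebra R C] [Algebra R C'] [Algebra C C']
  [IsScalarTower R C C'] (s : C) [IsLocalization.Away s C']

include s in
/-- A point of `G` over `C'[X]` which is trivial along `X = 0` extends (with the unit section over
`C`) to a point over the pinching `C ×_{C'} C'[X]`. -/
theorem exists_pinch (g : pt R C'[X] ⟶ G) (hg : pm (ev0 R C') ≫ g = 1) :
    ∃ m : pt R (Dp R C C') ⟶ G, pm (rho R C C') ≫ m = g ∧ pm (eps R C C') ≫ m = 1 := by
  let iDP : Algebra (Dp R C C') C := (eps R C C').toRingHom.toAlgebra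
  let iDQ : Algebra (Dp R C C') C'[X] := (rho R C C').toRingHom.toAlgebra
  let iQE : Algebra C'[X] C' := (evalRingHom (0 : C')).toAlgebra
  have hloc1 : IsLocalization.Away (sD R C C' s) C'[X] := isLocalization_rho R C C' s
  have hloc2 : IsLocalization.Away (algebraMap (Dp R C C') C (sD R C C' s)) C' :=
    ‹IsLocalization.Away s C'›
  have hfib : IsFib (algebraMap (Dp R C C') C) (algebraMap (Dp R C C') C'[X]) (algebraMap C C')
      (algebraMap C'[X] C') := isFib R C C'
  have hsurj : Function.Surjective (algebraMap (Dp R C C') C) := eps_surjective R C C'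
  have hker : ∀ x, algebraMap (Dp R C C') C x = 0 →
      ∃ y, algebraMap (Dp R C C') C y = 0 ∧ x = sD R C C' s * y := ker_eps_le R C C' s
  let a : Spec (.of C) ⟶ G.left := (1 : pt R C ⟶ G).left
  have hag : Spec.map (CommRingCat.ofHom (algebraMap C C')) ≫ a =
      Spec.map (CommRingCat.ofHom (algebraMap C'[X] C')) ≫ g.left := by
    have h1 := congrArg (fun k => k.left) hg
    have h2 : (1 : pt R C' ⟶ G) = pm (IsScalarTower.toAlgHom R C C') ≫ (1 : pt R C ⟶ G) :=
      (MonObj.comp_one _).symm
    simp only [Over.comp_left, pm_left, ev0_toRingHom] at h1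
    rw [h2] at h1
    exact h1.symm
  obtain ⟨m₀, hm1, hm2⟩ := exists_glue a g.left hfib hsurj (sD R C C' s) hker hag
  have hsj : Surjective (coprod.desc (jj (Dp R C C') C'[X]) (jj (Dp R C C') C)) :=
    surjective_desc hsurj (sD R C C' s) hker
  have hdom : IsSchemeTheoreticallyDominant
      (coprod.desc (jj (Dp R C C') C'[X]) (jj (Dp R C C') C)) := dominant_desc hfib
  have hepi : Epi (coprod.desc (jj (Dp R C C') C'[X]) (jj (Dp R C C') C)) :=
    epi_of_surjective_of_dominant _
  have hover : m₀ ≫ G.hom = Spec.map (CommRingCat.ofHom (algebraMap R (Dp R C C'))) := by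
    rw [← cancel_epi (coprod.desc (jj (Dp R C C') C'[X]) (jj (Dp R C C') C))]
    apply coprod.hom_ext
    · rw [coprod.inl_desc_assoc, coprod.inl_desc_assoc, ← Category.assoc, hm1]
      have hw := Over.w g
      rw [hw]
      dsimp
      rw [← Spec.map_comp, ← CommRingCat.ofHom_comp]
      congr 2
    · rw [coprod.inr_desc_assoc, coprod.inr_desc_assoc, ← Category.assoc, hm2]
      have hw := Over.w (1 : pt R C ⟶ G)
      rw [hw]
      dsimp
      rw [← Spec.map_comp, ← CommRingCat.ofHom_comp]
      congr 2
  refine ⟨Over.homMk m₀ hover, ?_, ?_⟩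
  · ext1
    exact hm1
  · ext1
    exact hm2

end Pinch

section Colimit

variable (R : Type u) [CommRing R]
  (C C' : Type u) [CommRing C] [CommRing C'] [Algebra R C] [Algebra R C'] [Algebra C C']
  [IsScalarTower R C C'] (s : C)

/-- The diagram `C[X] → C[X] → …` with transition maps `X ↦ s^k X`. -/
noncomputable def diag : ULift.{u} ℕ ⥤ CommRingCat.{u} where
  obj _ := CommRingCat.of C[X]
  map {i j} _ := CommRingCat.ofHom (scale (s ^ (j.down - i.down))).toRingHom
  map_id i := by
    apply CommRingCat.hom_ext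
    apply RingHom.ext
    intro p
    simp
  map_comp {i j k} f g := by
    apply CommRingCat.hom_ext
    apply RingHom.ext
    intro p
    have h1' : i ≤ j := leOfHom f
    have h2' : j ≤ k := leOfHom g
    have h1 : i.down ≤ j.down := h1'
    have h2 : j.down ≤ k.down := h2'
    change scale (s ^ (k.down - i.down)) p =
      scale (s ^ (k.down - j.down)) (scale (s ^ (j.down - i.down)) p)
    rw [scale_scale, ← pow_add, Nat.sub_add_sub_cancel h2 h1]

variable [IsLocalization.Away s C']

/-- The cocone `phi N : C[X] → D`. -/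
noncomputable def cocone : Cocone (diag C s) :=
  Cocone.mk (CommRingCat.of (Dp R C C'))
    { app := fun i => CommRingCat.ofHom (phi R C C' s i.down).toRingHom
      naturality := fun i j f => by
        apply CommRingCat.hom_ext
        apply RingHom.ext
        intro p
        have h1' : i ≤ j := leOfHom f
        have h1 : i.down ≤ j.down := h1'
        change phi R C C' s j.down (scale (s ^ (j.down - i.down)) p) = phi R C C' s i.down p
        obtain ⟨m, hm⟩ := Nat.exists_eq_add_of_le h1
        rw [hm, Nat.add_sub_cancel_left]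
        exact phi_add_scale R C C' s i.down m p }

/-- `D` is the colimit of the diagram. -/
noncomputable def isColimitCocone : IsColimit (cocone R C C' s) := by
  haveI : IsFiltered (ULift.{u} ℕ) := inferInstance
  haveI : ReflectsColimit (diag C s) (forget CommRingCat.{u}) :=
    reflectsColimit_of_reflectsIsomorphisms _ _
  apply isColimitOfReflects (forget CommRingCat.{u})
  apply Types.FilteredColimit.isColimitOf'
  · intro x
    obtain ⟨N, p, h⟩ := phi_surjective R C C' s x
    exact ⟨ULift.up N, p, h.symm⟩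
  · intro i x y h
    obtain ⟨m, hm⟩ := phi_injective R C C' s i.down x y h
    refine ⟨ULift.up (i.down + m), homOfLE (show i.down ≤ i.down + m by omega), ?_⟩
    change scale (s ^ (i.down + m - i.down)) x = scale (s ^ (i.down + m - i.down)) y
    rw [Nat.add_sub_cancel_left]
    exact hm

end Colimit

section Descend

variable {R : Type u} [CommRing R] (G : Over (Spec (CommRingCat.of R))) [GrpObj G]
  [LocallyOfFinitePresentation G.hom]
  (C C' : Type u) [CommRing C] [CommRing C'] [Algebra R C] [Algebra R C'] [Algebra C C']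
  [IsScalarTower R C C'] (s : C) [IsLocalization.Away s C']

omit [GrpObj G] in
/-- A point of an lfp scheme over the pinching `D = colim C[X]` comes from a finite stage. -/
theorem exists_factor (m : pt R (Dp R C C') ⟶ G) :
    ∃ (N : ℕ) (g' : pt R C[X] ⟶ G), pm (phi R C C' s N) ≫ g' = m := by
  let Dg : (ULift.{u} ℕ)ᵒᵖ ⥤ Scheme.{u} := (diag C s).op ⋙ Scheme.Spec
  let c : Cone Dg := Scheme.Spec.mapCone (cocone R C C' s).op
  have hc : IsLimit c := isLimitOfPreserves Scheme.Spec (isColimitCocone R C C' s).op
  let t : Dg ⟶ (Functor.const _).obj (Spec (CommRingCat.of R)) :=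
    { app := fun i => Spec.map (CommRingCat.ofHom (algebraMap R C[X]))
      naturality := fun i j f =>
        (Over.w (pm ((scale (s ^ (i.unop.down - j.unop.down))).restrictScalars R))).trans
          (Category.comp_id _).symm }
  have : IsCofiltered (ULift.{u} ℕ)ᵒᵖ := inferInstance
  have : ∀ {i j : (ULift.{u} ℕ)ᵒᵖ} (f : i ⟶ j), IsAffineHom (Dg.map f) := fun f => by
    dsimp [Dg]
    infer_instance
  have : ∀ i, CompactSpace (Dg.obj i) := fun i => by
    dsimp [Dg]
    infer_instance
  have : ∀ i, QuasiSeparatedSpace (Dg.obj i) := fun i => by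
    dsimp [Dg]
    infer_instance
  obtain ⟨i, g₀, h1, h2⟩ := Scheme.exists_π_app_comp_eq_of_locallyOfFinitePresentation Dg t G.hom c
    hc m.left (by
      ext i
      have hw := Over.w m
      dsimp [c, t, cocone] at hw ⊢
      rw [hw]
      exact Over.w (pm (phi R C C' s i.unop.down)))
  refine ⟨i.unop.down, Over.homMk g₀ h2, ?_⟩
  ext1
  exact h1

/-- **Key descent lemma.** If `g ∈ G(C'[X])`, `C' = C[1/s]`, satisfies `g(0) = 1`, then for some `N`
the point `g(s^N X)` is the image of some `g' ∈ G(C[X])` with `g'(0) = 1`. -/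
theorem exists_descend (g : pt R C'[X] ⟶ G) (hg : pm (ev0 R C') ≫ g = 1) :
    ∃ (N : ℕ) (g' : pt R C[X] ⟶ G),
      pm (mapAlgHom (IsScalarTower.toAlgHom R C C')) ≫ g' =
        pm ((scale (algebraMap C C' s ^ N)).restrictScalars R) ≫ g ∧
      pm (ev0 R C) ≫ g' = 1 := by
  obtain ⟨m, hm1, hm2⟩ := exists_pinch G C C' s g hg
  obtain ⟨N, g', hg'⟩ := exists_factor G C C' s m
  refine ⟨N, g', ?_, ?_⟩
  · have e : mapAlgHom (IsScalarTower.toAlgHom R C C') =
        (((scale (algebraMap C C' s ^ N)).restrictScalars R).comp (rho R C C')).comp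
          (phi R C C' s N) :=
      AlgHom.ext fun p => (scale_rho_phi R C C' s N p).symm
    rw [← hm1, ← hg', pm_comp_assoc, pm_comp_assoc, e]
  · have e : (eps R C C').comp (phi R C C' s N) = ev0 R C := AlgHom.ext fun p => by simp
    rw [← hm2, ← hg', pm_comp_assoc, e]

end Descend

end Groth.Agent.Lib.Seat36.QPLemmaA
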