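/-
Seat36QPQuillen (helper36): Quillen's patching factorization for group schemes locally of finite
presentation: if `(r, r') = 1` in `R`, every `g ∈ G(R_{rr'}[T])` with `g(0) = 1` factors as
`g = g₁ g₂` with `gᵢ(0) = 1`, `g₁ ∈ G(R_r[T])`, `g₂ ∈ G(R_{r'}[T])`.
-/
import Groth.Agent.Lib.Seat36QPLemmaA

set_option autoImplicit false
universe u

open CategoryTheory CategoryTheory.Limits MonoidalCategory CartesianMonoidalCategory MonObj GrpObj
  AlgebraicGeometry Polynomial

namespace Groth.Agent.Lib.Seat36.QPQuillen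

open Groth.Agent.Lib.Seat36.QPRing Groth.Agent.Lib.Seat36.QPLemmaA

section Maps

variable (R : Type u) [CommRing R] (K : Type u) [CommRing K] [Algebra R K]

/-- `X ↦ bX` as an `R`-algebra map. -/
noncomputable def lam (b : K) : K[X] →ₐ[R] K[X] := (scale b).restrictScalars R

/-- `T ↦ T + Z : K[T] → K[T][Z]`. -/
noncomputable def theta₁ : K[X] →ₐ[R] K[X][X] :=
  eval₂AlgHom ((CAlgHom (R := R) (A := K[X])).comp (CAlgHom (R := R) (A := K))) (C X + X)
    (fun _ => Commute.all _ _)

/-- `T ↦ T : K[T] → K[T][Z]`. -/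
noncomputable def theta₂ : K[X] →ₐ[R] K[X][X] := CAlgHom

/-- `T ↦ cX`, `Z ↦ c'X`. -/
noncomputable def ev2 (c c' : K) : K[X][X] →ₐ[R] K[X] :=
  eval₂AlgHom (lam R K c) (C c' * X) (fun _ => Commute.all _ _)

variable {R K}

@[simp] theorem lam_C (b a : K) : lam R K b (C a) = C a := scale_C b a

@[simp] theorem lam_X (b : K) : lam R K b X = C b * X := scale_X b

@[simp] theorem theta₁_C (a : K) : theta₁ R K (C a) = C (C a) := by
  simp [theta₁]

@[simp] theorem theta₁_X : theta₁ R K X = C X + X := by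
  simp [theta₁]

@[simp] theorem theta₂_apply (p : K[X]) : theta₂ R K p = C p := rfl

@[simp] theorem ev2_C (c c' : K) (p : K[X]) : ev2 R K c c' (C p) = lam R K c p := by
  simp [ev2]

@[simp] theorem ev2_X (c c' : K) : ev2 R K c c' X = C c' * X := by
  simp [ev2]

theorem algHom_ext₁ {S : Type u} [CommRing S] [Algebra R S] {f g : K[X] →ₐ[R] S}
    (h0 : ∀ a, f (C a) = g (C a)) (h1 : f X = g X) : f = g :=
  AlgHom.coe_ringHom_injective (ringHom_ext h0 h1)

theorem algHom_ext₂ {S : Type u} [CommRing S] [Algebra R S] {f g : K[X][X] →ₐ[R] S}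
    (h0 : ∀ a, f (C (C a)) = g (C (C a))) (h1 : f (C X) = g (C X)) (h2 : f X = g X) : f = g := by
  apply algHom_ext₁ _ h2
  intro p
  have : f.comp (CAlgHom (R := R) (A := K[X])) = g.comp CAlgHom := algHom_ext₁ h0 h1
  exact congrArg (fun k => k p) this

theorem I2 (b b' u : K) (N : ℕ) :
    (ev2 R K b b').comp ((lam R K[X] (C u ^ N)).comp (theta₁ R K)) = lam R K (b + u ^ N * b') := by
  apply algHom_ext₁
  · intro a
    simp
  · simp
    ring

theorem I3 (b b' u : K) (N : ℕ) :
    (ev2 R K b b').comp ((lam R K[X] (C u ^ N)).comp (theta₂ R K)) = lam R K b := by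
  apply algHom_ext₁
  · intro a
    simp
  · simp

theorem I4 (c c' : K) :
    (ev0 R K).comp (ev2 R K c c') = (ev0 R K).comp (ev0 R K[X]) := by
  apply algHom_ext₂
  · intro a
    simp
  · simp
  · simp

theorem I5 : (ev0 R K[X]).comp (theta₁ R K) = AlgHom.id R K[X] := by
  apply algHom_ext₁
  · intro a
    simp
  · simp

theorem I6 : (ev0 R K[X]).comp (theta₂ R K) = AlgHom.id R K[X] := by
  apply algHom_ext₁
  · intro a
    simp
  · simp

theorem lam_one : lam R K 1 = AlgHom.id R K[X] := by
  apply algHom_ext₁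
  · intro a
    simp
  · simp

theorem lam_zero : lam R K 0 = (CAlgHom (R := R) (A := K)).comp (ev0 R K) := by
  apply algHom_ext₁
  · intro a
    simp
  · simp

theorem I1 {K' : Type u} [CommRing K'] [Algebra R K'] (f : K →ₐ[R] K') (c c' : K) :
    (mapAlgHom f).comp (ev2 R K c c') = (ev2 R K' (f c) (f c')).comp (mapAlgHom (mapAlgHom f)) := by
  apply algHom_ext₂
  · intro a
    simp
  · simp
  · simp

end Maps

section Instances

variable (R : Type u) [CommRing R] (A B : Type u) [CommRing A] [CommRing B] [Algebra R A]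
  [Algebra R B] [Algebra A B] [IsScalarTower R A B]

attribute [local instance] Polynomial.algebra

theorem isScalarTower_poly : IsScalarTower R A[X] B[X] := inferInstance

theorem toAlgHom_poly [IsScalarTower R A[X] B[X]] :
    IsScalarTower.toAlgHom R A[X] B[X] = mapAlgHom (IsScalarTower.toAlgHom R A B) :=
  AlgHom.ext fun _ => rfl

theorem isLocalization_poly (t : A) [IsLocalization.Away t B] :
    IsLocalization.Away (C t : A[X]) B[X] := by
  have h := Polynomial.isLocalization (Submonoid.powers t) B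
  rw [Submonoid.map_powers] at h
  exact h

theorem algebraMap_poly_C (t : A) : algebraMap A[X] B[X] (C t) = C (algebraMap A B t) := by
  simp

end Instances

section Away

variable {R S T : Type*} [CommRing R] [CommRing S] [CommRing T] [Algebra R S] [Algebra S T]
  [Algebra R T] [IsScalarTower R S T]

/-- If `S = R[1/x]` and `T = R[1/(xy)]` then `T = S[1/y]`. -/
theorem away_of_mul (x y : R) [IsLocalization.Away x S] [IsLocalization.Away (x * y) T] :
    IsLocalization.Away (algebraMap R S y) T := by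
  have hX : algebraMap R S x * IsLocalization.Away.invSelf x = 1 :=
    IsLocalization.Away.mul_invSelf x
  have hXu : IsUnit (algebraMap R S x) := IsLocalization.Away.algebraMap_isUnit x
  refine IsLocalization.Away.mk _ ?_ ?_ ?_
  · rw [← IsScalarTower.algebraMap_apply]
    exact IsLocalization.Away.isUnit_of_dvd (x := x * y) (Dvd.intro_left x rfl)
  · intro z
    obtain ⟨n, a, h⟩ := IsLocalization.Away.surj (x * y) z
    refine ⟨n, algebraMap R S a * IsLocalization.Away.invSelf x ^ n, ?_⟩
    rw [map_mul, mul_pow, IsScalarTower.algebraMap_apply R S T x,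
      IsScalarTower.algebraMap_apply R S T y, IsScalarTower.algebraMap_apply R S T a] at h
    rw [map_mul, map_pow, ← h]
    have e : algebraMap S T (algebraMap R S x) ^ n *
        algebraMap S T (IsLocalization.Away.invSelf x) ^ n = 1 := by
      rw [← mul_pow, ← map_mul, hX, map_one, one_pow]
    calc z * algebraMap S T (algebraMap R S y) ^ n
        = z * algebraMap S T (algebraMap R S y) ^ n * (algebraMap S T (algebraMap R S x) ^ n *
          algebraMap S T (IsLocalization.Away.invSelf x) ^ n) := by rw [e, _root_.mul_one]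
      _ = _ := by ring
  · intro a b hab
    obtain ⟨k, a₀, ha⟩ := IsLocalization.Away.surj x a
    obtain ⟨l, b₀, hb⟩ := IsLocalization.Away.surj x b
    have h1 : algebraMap R T (a₀ * x ^ l) = algebraMap R T (b₀ * x ^ k) := by
      rw [IsScalarTower.algebraMap_apply R S T (a₀ * x ^ l),
        IsScalarTower.algebraMap_apply R S T (b₀ * x ^ k), map_mul (algebraMap R S),
        map_mul (algebraMap R S), ← ha, ← hb, map_pow, map_pow, map_mul, map_mul, map_mul, map_mul,
        hab]
      ring
    obtain ⟨n, hn⟩ := IsLocalization.Away.exists_of_eq (x * y) h1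
    have h2 := congrArg (algebraMap R S) hn
    simp only [map_mul, map_pow, ← ha, ← hb] at h2
    refine ⟨n, ?_⟩
    have hu : IsUnit (algebraMap R S x ^ (n + k + l)) := hXu.pow _
    apply hu.mul_left_cancel
    calc algebraMap R S x ^ (n + k + l) * (algebraMap R S y ^ n * a)
        = (algebraMap R S x * algebraMap R S y) ^ n * (a * algebraMap R S x ^ k *
          algebraMap R S x ^ l) := by ring
      _ = (algebraMap R S x * algebraMap R S y) ^ n * (b * algebraMap R S x ^ l *
          algebraMap R S x ^ k) := h2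
      _ = _ := by ring

end Away

section Factor

variable {R : Type u} [CommRing R] (G : Over (Spec (CommRingCat.of R))) [GrpObj G]
  [LocallyOfFinitePresentation G.hom]
  (A B : Type u) [CommRing A] [CommRing B] [Algebra R A] [Algebra R B] [Algebra A B]
  [IsScalarTower R A B] (t : A) [IsLocalization.Away t B]

/-- One half of Quillen's trick: `g(bT + t^N b' T) g(bT)⁻¹` is defined over `A[T]` for `N ≫ 0`. -/
theorem exists_half (g : pt R B[X] ⟶ G) :
    ∃ N : ℕ, ∀ c c' : A, ∃ h : pt R A[X] ⟶ G, pm (ev0 R A) ≫ h = 1 ∧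
      pm (mapAlgHom (IsScalarTower.toAlgHom R A B)) ≫ h =
        (pm (lam R B (algebraMap A B c + algebraMap A B t ^ N * algebraMap A B c')) ≫ g) *
          (pm (lam R B (algebraMap A B c)) ≫ g)⁻¹ := by
  let iAB : Algebra A[X] B[X] := Polynomial.algebra A B
  have iT : IsScalarTower R A[X] B[X] := isScalarTower_poly R A B
  have iL : IsLocalization.Away (C t : A[X]) B[X] := isLocalization_poly A B t
  let ψ : pt R B[X][X] ⟶ G := (pm (theta₁ R B) ≫ g) * (pm (theta₂ R B) ≫ g)⁻¹
  have hψ : pm (ev0 R B[X]) ≫ ψ = 1 := by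
    rw [MonObj.comp_mul, GrpObj.comp_inv, pm_comp_assoc, pm_comp_assoc, I5, I6, pm_id,
      Category.id_comp, mul_inv_cancel]
  obtain ⟨N, ψ₁, h1, h2⟩ := exists_descend G A[X] B[X] (C t) ψ hψ
  rw [toAlgHom_poly R A B, algebraMap_poly_C A B t] at h1
  refine ⟨N, fun c c' => ⟨pm (ev2 R A c c') ≫ ψ₁, ?_, ?_⟩⟩
  · rw [pm_comp_assoc, I4, ← pm_comp_assoc, h2, MonObj.comp_one]
  · rw [pm_comp_assoc, I1, ← pm_comp_assoc, h1, pm_comp_assoc, MonObj.comp_mul, GrpObj.comp_inv,
      pm_comp_assoc, pm_comp_assoc]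
    change pm ((ev2 R B _ _).comp ((lam R B[X] (C (algebraMap A B t) ^ N)).comp (theta₁ R B))) ≫ g *
      (pm ((ev2 R B _ _).comp ((lam R B[X] (C (algebraMap A B t) ^ N)).comp (theta₂ R B))) ≫ g)⁻¹ = _
    rw [I2, I3]
    rfl

end Factor

section Main

variable {R : Type u} [CommRing R] (G : Over (Spec (CommRingCat.of R))) [GrpObj G]
  [LocallyOfFinitePresentation G.hom]
  (r r' : R) (hrr : Ideal.span ({r, r'} : Set R) = ⊤)
  (A A' B : Type u) [CommRing A] [CommRing A'] [CommRing B] [Algebra R A] [Algebra R A']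
  [Algebra R B] [IsLocalization.Away r A] [IsLocalization.Away r' A']
  [IsLocalization.Away (r * r') B] [Algebra A B] [Algebra A' B] [IsScalarTower R A B]
  [IsScalarTower R A' B]

include hrr in
/-- **Quillen patching** for a group scheme locally of finite presentation. -/
theorem quillen_patching (g : pt R B[X] ⟶ G) (hg : pm (ev0 R B) ≫ g = 1) :
    ∃ (g₁ : pt R A[X] ⟶ G) (g₂ : pt R A'[X] ⟶ G),
      pm (ev0 R A) ≫ g₁ = 1 ∧ pm (ev0 R A') ≫ g₂ = 1 ∧
      g = (pm (mapAlgHom (IsScalarTower.toAlgHom R A B)) ≫ g₁) *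
        (pm (mapAlgHom (IsScalarTower.toAlgHom R A' B)) ≫ g₂) := by
  have iL1 : IsLocalization.Away (algebraMap R A r') B := away_of_mul r r'
  have iL2 : IsLocalization.Away (algebraMap R A' r) B := by
    have : IsLocalization.Away (r' * r) B := by
      rw [_root_.mul_comm]
      infer_instance
    exact away_of_mul r' r
  obtain ⟨N₁, H₁⟩ := exists_half G A B (algebraMap R A r') g
  obtain ⟨N₂, H₂⟩ := exists_half G A' B (algebraMap R A' r) g
  have hcop : IsCoprime r r' := by
    have h1 : (1 : R) ∈ Ideal.span ({r, r'} : Set R) := by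
      rw [hrr]
      exact Submodule.mem_top
    obtain ⟨a, b, hab⟩ := Ideal.mem_span_pair.mp h1
    exact ⟨a, b, hab⟩
  obtain ⟨a, a', haa⟩ : IsCoprime (r ^ N₂) (r' ^ N₁) := hcop.pow
  obtain ⟨g₁, hg₁0, hg₁⟩ := H₁ (algebraMap R A (a * r ^ N₂)) (algebraMap R A a')
  obtain ⟨g₂, hg₂0, hg₂⟩ := H₂ 0 (algebraMap R A' a)
  refine ⟨g₁, g₂, hg₁0, hg₂0, ?_⟩
  have e1 : algebraMap A B (algebraMap R A (a * r ^ N₂)) +
      algebraMap A B (algebraMap R A r') ^ N₁ * algebraMap A B (algebraMap R A a') = 1 := by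
    rw [← IsScalarTower.algebraMap_apply, ← IsScalarTower.algebraMap_apply,
      ← IsScalarTower.algebraMap_apply, ← map_pow, ← map_mul, ← map_add,
      _root_.mul_comm (r' ^ N₁), haa, map_one]
  have e2 : algebraMap A' B 0 +
      algebraMap A' B (algebraMap R A' r) ^ N₂ * algebraMap A' B (algebraMap R A' a) =
      algebraMap A B (algebraMap R A (a * r ^ N₂)) := by
    rw [map_zero, zero_add, ← IsScalarTower.algebraMap_apply, ← IsScalarTower.algebraMap_apply,
      ← IsScalarTower.algebraMap_apply, ← map_pow, ← map_mul, _root_.mul_comm]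
  rw [hg₁, hg₂, e1, e2, map_zero, lam_one, pm_id, Category.id_comp, lam_zero, ← pm_comp,
    Category.assoc, hg, MonObj.comp_one]
  simp

end Main

end Groth.Agent.Lib.Seat36.QPQuillen
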