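import Groth.Agent.Lib.Seat51TrivDef2
import Groth.Prelude.Def_Exal
import Groth.Prelude.Def_ArtFun4

/-!
# Rigidity of affine schemes with vanishing `T¹` (helper51)

If every `k`-algebra extension of `B₀` by `B₀` is trivial, every flat deformation of `B₀` over a local
Artinian `k`-algebra with residue field `k` admits a `k`-algebra section, hence is trivial.

* `mem_colon_smul_top`: for a flat module, `t • y ∈ I' M` implies `y ∈ (I' : t) M`.
* `HasSecMod`, `hasSecMod_step`: lifting sections along a one-dimensional step of ideals.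
* `exists_section`: the section.
* `defSch_iso_trivial`: the scheme-level statement.
-/

set_option autoImplicit false

universe u

namespace Seat51T1Rigid

open TensorProduct

lemma mem_colon_smul_top {A M : Type*} [CommRing A] [AddCommGroup M] [Module A M] [Module.Flat A M]
    (I' : Ideal A) (t : A) (y : M) (h : t • y ∈ (I' • ⊤ : Submodule A M)) :
    y ∈ (LinearMap.ker (LinearMap.toSpanSingleton A (A ⧸ I') (Ideal.Quotient.mk I' t)) • ⊤ :
      Submodule A M) := by
  set μ : A →ₗ[A] A ⧸ I' := LinearMap.toSpanSingleton A (A ⧸ I') (Ideal.Quotient.mk I' t) with hμ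
  have hexact := Module.Flat.lTensor_exact M (LinearMap.exact_subtype_ker_map μ)
  have h0 : (μ.lTensor M) (y ⊗ₜ[A] (1 : A)) = 0 := by
    apply (TensorProduct.tensorQuotEquivQuotSMul M I').injective
    rw [LinearMap.lTensor_tmul, map_zero]
    have : μ 1 = Ideal.Quotient.mk I' t := by simp [μ]
    rw [this, TensorProduct.tensorQuotEquivQuotSMul_tmul_mk]
    exact (Submodule.Quotient.mk_eq_zero _).mpr h
  obtain ⟨w, hw⟩ := (hexact _).mp h0
  have key : ∀ w : M ⊗[A] (LinearMap.ker μ),
      TensorProduct.rid A M ((LinearMap.ker μ).subtype.lTensor M w) ∈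
        (LinearMap.ker μ • ⊤ : Submodule A M) := by
    intro w
    induction w using TensorProduct.induction_on with
    | zero => simp
    | tmul z a =>
      rw [LinearMap.lTensor_tmul, Submodule.subtype_apply, TensorProduct.rid_tmul]
      exact Submodule.smul_mem_smul a.2 Submodule.mem_top
    | add x y hx hy =>
      rw [map_add, map_add]
      exact Submodule.add_mem _ hx hy
  have := key w
  rw [hw, TensorProduct.rid_tmul, one_smul] at this
  exact this

section Core

variable {k A B₀ B' : Type u} [Field k] [CommRing A] [Algebra k A] [CommRing B₀] [Algebra k B₀]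
  [CommRing B'] [Algebra A B'] [Algebra k B'] [IsScalarTower k A B']

/-- There is a `k`-algebra section of `π` modulo `I B'`. -/
def HasSecMod (π : B' →ₐ[k] B₀) (I : Ideal A) : Prop :=
  ∃ s : B₀ →ₐ[k] B' ⧸ I.map (algebraMap A B'),
    ∀ (b : B₀) (y : B'), s b = Ideal.Quotient.mk _ y → π y = b

lemma hasSecMod_base (π : B' →ₐ[k] B₀) (hπ : Function.Surjective π) (m : Ideal A)
    (hker : RingHom.ker π = m.map (algebraMap A B')) : HasSecMod π m := by
  refine ⟨(Ideal.quotientEquivAlgOfEq k hker).toAlgHom.comp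
    (Ideal.quotientKerAlgEquivOfSurjective hπ).symm.toAlgHom, ?_⟩
  intro b y hy
  obtain ⟨y₁, rfl⟩ := hπ b
  have h1 : ((Ideal.quotientEquivAlgOfEq k hker).toAlgHom.comp
      (Ideal.quotientKerAlgEquivOfSurjective hπ).symm.toAlgHom) (π y₁) =
      Ideal.Quotient.mk _ y₁ := by
    rw [AlgHom.comp_apply]
    show (Ideal.quotientEquivAlgOfEq k hker)
      ((Ideal.quotientKerAlgEquivOfSurjective hπ).symm (π y₁)) = _
    rw [Ideal.quotientKerAlgEquivOfSurjective_symm_apply, Ideal.quotientEquivAlgOfEq_mk]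
  rw [h1, Ideal.Quotient.eq, ← hker, RingHom.mem_ker, map_sub, sub_eq_zero] at hy
  exact hy.symm

lemma hasSecMod_bot (π : B' →ₐ[k] B₀) (h : HasSecMod (A := A) π ⊥) :
    ∃ s : B₀ →ₐ[k] B', ∀ b, π (s b) = b := by
  obtain ⟨s₀, hs₀⟩ := h
  have h0 : (⊥ : Ideal A).map (algebraMap A B') = ⊥ := Ideal.map_bot
  refine ⟨((AlgEquiv.quotientBot k B').toAlgHom.comp
    (Ideal.quotientEquivAlgOfEq k h0).toAlgHom).comp s₀, fun b => ?_⟩
  obtain ⟨y, hy⟩ := Ideal.Quotient.mk_surjective (s₀ b)
  have : (((AlgEquiv.quotientBot k B').toAlgHom.comp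
      (Ideal.quotientEquivAlgOfEq k h0).toAlgHom).comp s₀) b = y := by
    rw [AlgHom.comp_apply, ← hy, AlgHom.comp_apply]
    show (AlgEquiv.quotientBot k B') ((Ideal.quotientEquivAlgOfEq k h0) _) = y
    rw [Ideal.quotientEquivAlgOfEq_mk, AlgEquiv.quotientBot_mk]
  rw [this]
  exact hs₀ b y hy.symm

theorem hasSecMod_step [IsLocalRing A] [Module.Flat A B']
    (hT : ∀ E : Exal.Ext k B₀ B₀, E.IsTrivial) (π : B' →ₐ[k] B₀) (hπ : Function.Surjective π)
    (hker : RingHom.ker π = (IsLocalRing.maximalIdeal A).map (algebraMap A B'))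
    (I I' : Ideal A) (t : A) (hI : I = I' ⊔ Ideal.span {t}) (htI' : t ∉ I')
    (hmt : ∀ a ∈ IsLocalRing.maximalIdeal A, a * t ∈ I')
    (h : HasSecMod π I) : HasSecMod π I' := by
  classical
  unfold HasSecMod at h ⊢
  set f := algebraMap A B' with hf
  set K := I.map f with hK
  set K' := I'.map f with hK'
  set t' := f t with ht'
  obtain ⟨s, hs⟩ := h
  have hK'K : K' ≤ K := Ideal.map_mono (hI ▸ le_sup_left)
  have htK : t' ∈ K :=
    Ideal.mem_map_of_mem f (hI ▸ Ideal.mem_sup_right (Ideal.mem_span_singleton_self t))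
  have hmul : ∀ z ∈ RingHom.ker π, t' * z ∈ K' := by
    intro z hz
    rw [hker] at hz
    have h1 : Ideal.span {t} * IsLocalRing.maximalIdeal A ≤ I' := by
      rw [Ideal.span_singleton_mul_le_iff]
      intro a ha
      rw [mul_comm]
      exact hmt a ha
    have h2 : t' * z ∈ (Ideal.span {t} * IsLocalRing.maximalIdeal A).map f := by
      rw [Ideal.map_mul]
      exact Ideal.mul_mem_mul (Ideal.mem_map_of_mem f (Ideal.mem_span_singleton_self t)) hz
    exact Ideal.map_mono h1 h2
  have wd : ∀ y y' : B', π y = π y' →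
      Ideal.Quotient.mk K' (t' * y) = Ideal.Quotient.mk K' (t' * y') := by
    intro y y' hyy'
    rw [Ideal.Quotient.eq, ← mul_sub]
    apply hmul
    rw [RingHom.mem_ker, map_sub, hyy', sub_self]
  let incl0 : B₀ → B' ⧸ K' := fun b => Ideal.Quotient.mk K' (t' * Function.surjInv hπ b)
  have hincl0 : ∀ y, incl0 (π y) = Ideal.Quotient.mk K' (t' * y) := fun y =>
    wd _ _ (Function.surjInv_eq hπ (π y))
  have hincl0_add : ∀ b c, incl0 (b + c) = incl0 b + incl0 c := by
    intro b c
    obtain ⟨y, rfl⟩ := hπ b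
    obtain ⟨z, rfl⟩ := hπ c
    rw [← map_add, hincl0, hincl0, hincl0, mul_add, map_add]
  have hincl0_zero : incl0 0 = 0 := by
    have := hincl0 0
    rwa [map_zero, mul_zero, map_zero] at this
  set fac : B' ⧸ K' →ₐ[k] B' ⧸ K := Ideal.Quotient.factorₐ k hK'K with hfac
  have hfac_mk : ∀ y, fac (Ideal.Quotient.mk K' y) = Ideal.Quotient.mk K y := fun y => rfl
  set f₁ : (B₀ × (B' ⧸ K')) →ₐ[k] B' ⧸ K := s.comp (AlgHom.fst k B₀ (B' ⧸ K')) with hf₁
  set f₂ : (B₀ × (B' ⧸ K')) →ₐ[k] B' ⧸ K := fac.comp (AlgHom.snd k B₀ (B' ⧸ K')) with hf₂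
  set Eq := AlgHom.equalizer f₁ f₂ with hEq
  have hmemE : ∀ x : B₀ × (B' ⧸ K'), x ∈ Eq ↔ s x.1 = fac x.2 := fun x => Iff.rfl
  have hincl_mem : ∀ b, ((0 : B₀), incl0 b) ∈ Eq := by
    intro b
    rw [hmemE]
    obtain ⟨y, rfl⟩ := hπ b
    rw [map_zero, hincl0, hfac_mk]
    symm
    rw [Ideal.Quotient.eq_zero_iff_mem]
    exact K.mul_mem_right _ htK
  let pr : Eq →ₐ[k] B₀ := (AlgHom.fst k B₀ (B' ⧸ K')).comp Eq.val
  let ic : B₀ →+ Eq :=
    { toFun := fun b => ⟨(0, incl0 b), hincl_mem b⟩
      map_zero' := by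
        apply Subtype.ext
        show ((0 : B₀), incl0 0) = 0
        rw [hincl0_zero]
        rfl
      map_add' := fun b c => by
        apply Subtype.ext
        show ((0 : B₀), incl0 (b + c)) = ((0 : B₀), incl0 b) + ((0 : B₀), incl0 c)
        rw [hincl0_add, Prod.mk_add_mk, add_zero] }
  have hext : Exal.IsExtension pr ic := by
    refine ⟨?_, ?_, ?_, ?_⟩
    · intro b
      obtain ⟨y, hy⟩ := Ideal.Quotient.mk_surjective (s b)
      exact ⟨⟨(b, Ideal.Quotient.mk K' y), (hmemE _).mpr (by rw [hfac_mk, hy])⟩, rfl⟩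
    · rw [injective_iff_map_eq_zero]
      intro b hb
      have h1 : incl0 b = 0 := congrArg (fun x : Eq => x.1.2) hb
      obtain ⟨y, rfl⟩ := hπ b
      rw [hincl0, Ideal.Quotient.eq_zero_iff_mem] at h1
      have h2 : t • y ∈ (I' • ⊤ : Submodule A B') := by
        rw [Ideal.smul_top_eq_map, Submodule.restrictScalars_mem, Algebra.smul_def]
        exact h1
      have h3 := mem_colon_smul_top I' t y h2
      have h4 : LinearMap.ker (LinearMap.toSpanSingleton A (A ⧸ I') (Ideal.Quotient.mk I' t)) ≤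
          IsLocalRing.maximalIdeal A := by
        intro a ha
        rw [LinearMap.mem_ker, LinearMap.toSpanSingleton_apply] at ha
        by_contra hau
        have hu : IsUnit a := by
          rwa [IsLocalRing.mem_maximalIdeal, mem_nonunits_iff, not_not] at hau
        apply htI'
        have : a * t ∈ I' := by
          rw [← Ideal.Quotient.eq_zero_iff_mem, map_mul]
          rwa [Algebra.smul_def] at ha
        exact (Ideal.unit_mul_mem_iff_mem I' hu).mp this
      have h5 : y ∈ (IsLocalRing.maximalIdeal A • ⊤ : Submodule A B') :=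
        Submodule.smul_mono_left h4 h3
      rw [Ideal.smul_top_eq_map, Submodule.restrictScalars_mem, ← hker, RingHom.mem_ker] at h5
      exact h5
    · intro x
      constructor
      · intro hx
        obtain ⟨⟨b, q⟩, hxm⟩ := x
        have hb : b = 0 := hx
        subst hb
        obtain ⟨y₀, rfl⟩ := Ideal.Quotient.mk_surjective q
        have h1 : s 0 = fac (Ideal.Quotient.mk K' y₀) := (hmemE _).mp hxm
        rw [map_zero, hfac_mk] at h1
        have h2 : y₀ ∈ K := Ideal.Quotient.eq_zero_iff_mem.mp h1.symm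
        rw [hK, hI, Ideal.map_sup, Ideal.map_span, Set.image_singleton] at h2
        obtain ⟨z, hz, w, hw, rfl⟩ := Submodule.mem_sup.mp h2
        obtain ⟨c, rfl⟩ := Ideal.mem_span_singleton'.mp hw
        refine ⟨π c, ?_⟩
        apply Subtype.ext
        show ((0 : B₀), incl0 (π c)) = (0, Ideal.Quotient.mk K' (z + c * t'))
        rw [hincl0, map_add, Ideal.Quotient.eq_zero_iff_mem.mpr hz, zero_add, mul_comm]
      · rintro ⟨b, rfl⟩
        rfl
    · intro x z
      obtain ⟨⟨b, q⟩, hxm⟩ := x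
      obtain ⟨y₀, rfl⟩ := Ideal.Quotient.mk_surjective q
      obtain ⟨w, rfl⟩ := hπ z
      have h1 : s b = fac (Ideal.Quotient.mk K' y₀) := (hmemE _).mp hxm
      have h2 : π y₀ = b := hs b y₀ (by rw [h1]; rfl)
      apply Subtype.ext
      show ((b, Ideal.Quotient.mk K' y₀) : B₀ × (B' ⧸ K')) * (0, incl0 (π w)) =
        (0, incl0 (b • π w))
      rw [smul_eq_mul, ← h2, ← map_mul, hincl0, hincl0, Prod.mk_mul_mk, mul_zero, ← map_mul]
      congr 2
      ring
  obtain ⟨σ, hσ⟩ := hT ({ E := ↥Eq, proj := pr, incl := ic, isExtension := hext } :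
    Exal.Ext k B₀ B₀)
  refine ⟨(AlgHom.snd k B₀ (B' ⧸ K')).comp (Eq.val.comp σ), ?_⟩
  intro b y hy
  have h1 : (σ b).1.1 = b := hσ b
  have h2 : (σ b).1.2 = Ideal.Quotient.mk K' y := hy
  have h3 : s (σ b).1.1 = fac (σ b).1.2 := (hmemE _).mp (σ b).2
  rw [h1, h2, hfac_mk] at h3
  exact hs b y h3

theorem exists_section [IsLocalRing A] [IsArtinianRing A] [Module.Flat A B']
    (hT : ∀ E : Exal.Ext k B₀ B₀, E.IsTrivial) (π : B' →ₐ[k] B₀) (hπ : Function.Surjective π)
    (hker : RingHom.ker π = (IsLocalRing.maximalIdeal A).map (algebraMap A B')) :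
    ∃ s : B₀ →ₐ[k] B', ∀ b, π (s b) = b := by
  apply hasSecMod_bot (A := A) π
  have key : ∀ I : Ideal A, I ≤ IsLocalRing.maximalIdeal A → HasSecMod π I →
      HasSecMod (A := A) π ⊥ := by
    intro I
    refine IsArtinian.induction (P := fun I : Ideal A => I ≤ IsLocalRing.maximalIdeal A →
      HasSecMod π I → HasSecMod (A := A) π ⊥) ?_ I
    intro I IH hIm hPI
    by_cases hI0 : I = ⊥
    · subst hI0
      exact hPI
    obtain ⟨I', hI'lt, hI'max⟩ := WellFounded.has_min
      (wellFounded_gt : WellFounded ((· > ·) : Ideal A → Ideal A → Prop)) {J | J < I}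
      ⟨⊥, bot_lt_iff_ne_bot.mpr hI0⟩
    have hI'lt' : I' < I := hI'lt
    obtain ⟨t, htI, htI'⟩ := SetLike.exists_of_lt hI'lt'
    have hsup : I = I' ⊔ Ideal.span {t} := by
      have hle : I' ⊔ Ideal.span {t} ≤ I :=
        sup_le hI'lt'.le ((Ideal.span_singleton_le_iff_mem _).mpr htI)
      by_contra hne
      have hlt : I' ⊔ Ideal.span {t} < I := lt_of_le_of_ne hle (Ne.symm hne)
      apply hI'max _ hlt
      refine lt_of_le_of_ne le_sup_left ?_
      intro heq
      apply htI'
      rw [heq]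
      exact Ideal.mem_sup_right (Ideal.mem_span_singleton_self t)
    have hmt : ∀ a ∈ IsLocalRing.maximalIdeal A, a * t ∈ I' := by
      set J := I' ⊔ IsLocalRing.maximalIdeal A * Ideal.span {t} with hJ
      have hJle : J ≤ I :=
        sup_le hI'lt'.le (Ideal.mul_le_right.trans ((Ideal.span_singleton_le_iff_mem _).mpr htI))
      have hJne : J ≠ I := by
        intro hJI
        have htJ : t ∈ J := hJI ▸ htI
        obtain ⟨z, hz, w, hw, hzw⟩ := Submodule.mem_sup.mp htJ
        obtain ⟨a, ha, rfl⟩ := Ideal.mem_mul_span_singleton.mp hw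
        have hu : IsUnit (1 - a) :=
          IsLocalRing.isUnit_one_sub_self_of_mem_nonunits a ((IsLocalRing.mem_maximalIdeal a).mp ha)
        apply htI'
        have h1 : (1 - a) * t ∈ I' := by
          have h2 : (1 - a) * t = z := by linear_combination (-1 : A) * hzw
          rw [h2]
          exact hz
        exact (Ideal.unit_mul_mem_iff_mem I' hu).mp h1
      have hJlt : J < I := lt_of_le_of_ne hJle hJne
      have hJI' : J = I' := by
        by_contra hne
        exact hI'max J hJlt (lt_of_le_of_ne le_sup_left (Ne.symm hne))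
      intro a ha
      rw [← hJI']
      exact Ideal.mem_sup_right (Ideal.mul_mem_mul ha (Ideal.mem_span_singleton_self t))
    exact IH I' hI'lt' (hI'lt'.le.trans hIm)
      (hasSecMod_step hT π hπ hker I I' t hsup htI' hmt hPI)
  exact key _ le_rfl (hasSecMod_base π hπ _ hker)

end Core

open AlgebraicGeometry CategoryTheory Limits

theorem iso_trivial_aux {k : Type u} [Field k] (B₀ : Type u) [CommRing B₀] [Algebra k B₀]
    (hT : ∀ E : Exal.Ext k B₀ B₀, E.IsTrivial) (A : ArtFun.Art k k)
    (X : Scheme.{u}) [IsAffine X] (hX : X ⟶ Spec (CommRingCat.of k))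
    (γ : Γ(X, ⊤) →+* B₀) (hγbij : Function.Bijective γ)
    (hnat : ∀ c : k, γ ((hX.appTop).hom ((Scheme.ΓSpecIso (CommRingCat.of k)).inv.hom c)) =
      algebraMap k B₀ c)
    (X' : Scheme.{u}) (g : X' ⟶ Spec (CommRingCat.of A)) [Flat g] (i : X ⟶ X')
    (hsq : IsPullback i hX g (Spec.map (CommRingCat.ofHom A.res.toRingHom))) :
    ∃ φ : X' ≅ pullback hX (Spec.map (CommRingCat.ofHom (algebraMap k A))),
      φ.hom ≫ pullback.snd hX (Spec.map (CommRingCat.ofHom (algebraMap k A))) = g ∧
        i ≫ φ.hom ≫ pullback.fst hX (Spec.map (CommRingCat.ofHom (algebraMap k A))) = 𝟙 X := by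
  set e : A →ₐ[k] k := A.res with he
  have hnil := Seat51TrivDef.isNilpotent_ker_of_artinian e
  obtain ⟨hci, hX'aff⟩ := Seat51TrivDef.isAffine_of_isPullback e hnil hX g i hsq
  set φA : A →+* Γ(X', ⊤) := (g.appTop).hom.comp (Scheme.ΓSpecIso (CommRingCat.of A)).inv.hom
    with hφA
  set φk : k →+* Γ(X, ⊤) := (hX.appTop).hom.comp (Scheme.ΓSpecIso (CommRingCat.of k)).inv.hom
    with hφk
  letI algA : Algebra A Γ(X', ⊤) := φA.toAlgebra
  letI algk' : Algebra k Γ(X', ⊤) := (φA.comp (algebraMap k A)).toAlgebra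
  haveI : IsScalarTower k A Γ(X', ⊤) := IsScalarTower.of_algebraMap_eq (fun _ => rfl)
  have hflat : Module.Flat A Γ(X', ⊤) := by
    have h1 : RingHom.Flat (g.appTop).hom :=
      (HasRingHomProperty.iff_of_isAffine (P := @Flat)).mp inferInstance
    have h2 : RingHom.Flat (Scheme.ΓSpecIso (CommRingCat.of A)).inv.hom :=
      RingHom.Flat.of_bijective (ConcreteCategory.bijective_of_isIso _)
    exact h2.comp h1
  have hπe : ∀ a : A, i.appTop.hom (φA a) = φk (e a) := by
    intro a
    have h1 := congrArg (fun f => f.appTop) hsq.w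
    simp only [Scheme.Hom.comp_appTop] at h1
    have h2 : (Scheme.ΓSpecIso (CommRingCat.of A)).inv ≫ g.appTop ≫ i.appTop =
        CommRingCat.ofHom e.toRingHom ≫ (Scheme.ΓSpecIso (CommRingCat.of k)).inv ≫ hX.appTop := by
      rw [h1, ← Category.assoc, ← Scheme.ΓSpecIso_inv_naturality, Category.assoc]
    exact congrArg (fun f => f.hom a) h2
  have hnat' : ∀ c : k, γ (φk c) = algebraMap k B₀ c := hnat
  let π : Γ(X', ⊤) →ₐ[k] B₀ :=
    { γ.comp i.appTop.hom with
      commutes' := fun c => by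
        show γ (i.appTop.hom (φA (algebraMap k A c))) = algebraMap k B₀ c
        rw [hπe, ← hnat']
        simp }
  have hπapp : ∀ y, π y = γ (i.appTop.hom y) := fun y => rfl
  have hπ : Function.Surjective π :=
    hγbij.2.comp (IsClosedImmersion.isAffine_surjective_of_isAffine i).2
  have hem : RingHom.ker e.toRingHom = IsLocalRing.maximalIdeal A := by
    ext a
    rw [ArtFun.Art.mem_maximalIdeal_iff, RingHom.mem_ker]
    rfl
  have hker : RingHom.ker π = (IsLocalRing.maximalIdeal A).map (algebraMap A Γ(X', ⊤)) := by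
    apply le_antisymm
    · intro y hy
      rw [RingHom.mem_ker, hπapp] at hy
      have hy0 : i.appTop.hom y = 0 := hγbij.1 (by rw [hy, map_zero])
      have := Seat51TrivDef.ker_le_of_isPullback e hX g i hsq hy0
      rw [hem] at this
      exact this
    · rw [Ideal.map_le_iff_le_comap]
      intro a ha
      rw [Ideal.mem_comap, RingHom.mem_ker, hπapp]
      show γ (i.appTop.hom (φA a)) = 0
      rw [hπe, hnat']
      have : e a = 0 := (ArtFun.Art.mem_maximalIdeal_iff A a).mp ha
      rw [this, map_zero]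
  obtain ⟨s, hs⟩ := exists_section hT π hπ hker
  have hs1 : ∀ b : Γ(X, ⊤), i.appTop.hom ((s.toRingHom.comp γ) b) = b := by
    intro b
    apply hγbij.1
    exact hs (γ b)
  have hs2 : ∀ c : k, (s.toRingHom.comp γ)
      ((hX.appTop).hom ((Scheme.ΓSpecIso (CommRingCat.of k)).inv.hom c)) =
        (g.appTop).hom ((Scheme.ΓSpecIso (CommRingCat.of A)).inv.hom (algebraMap k A c)) := by
    intro c
    show s (γ (φk c)) = φA (algebraMap k A c)
    rw [hnat']
    exact s.commutes c
  have final := Seat51TrivDef.isPullback_of_section k X hX A e hnil X' g i hsq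
    (s.toRingHom.comp γ) hs1 hs2
  refine ⟨final.isoPullback, final.isoPullback_hom_snd, ?_⟩
  rw [final.isoPullback_hom_fst]
  apply Seat51TrivDef.comp_retraction
  ext b
  exact hs1 b

theorem defSch_iso_trivial {k : Type u} [Field k] (B₀ : Type u) [CommRing B₀] [Algebra k B₀]
    (hT : ∀ E : Exal.Ext k B₀ B₀, E.IsTrivial) (A : ArtFun.Art k k)
    (ξ : ArtFun.DefSch (Spec (CommRingCat.of B₀))
      (Spec.map (CommRingCat.ofHom (algebraMap k B₀))) A)
    (hx : Flat (Spec.map (CommRingCat.ofHom (algebraMap k B₀)))) :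
    Nonempty (ξ.Iso (ArtFun.DefSch.trivial (Spec (CommRingCat.of B₀))
      (Spec.map (CommRingCat.ofHom (algebraMap k B₀))) hx A)) := by
  haveI : Flat ξ.f := ξ.flat
  have hnat : ∀ c : k, (Scheme.ΓSpecIso (CommRingCat.of B₀)).hom.hom
      (((Spec.map (CommRingCat.ofHom (algebraMap k B₀))).appTop).hom
        ((Scheme.ΓSpecIso (CommRingCat.of k)).inv.hom c)) = algebraMap k B₀ c := by
    intro c
    have h1 := Scheme.ΓSpecIso_naturality (CommRingCat.ofHom (algebraMap k B₀))
    have h2 : (Scheme.ΓSpecIso (CommRingCat.of k)).inv ≫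
        (Spec.map (CommRingCat.ofHom (algebraMap k B₀))).appTop ≫
          (Scheme.ΓSpecIso (CommRingCat.of B₀)).hom = CommRingCat.ofHom (algebraMap k B₀) := by
      rw [h1, Iso.inv_hom_id_assoc]
    exact congrArg (fun f => f.hom c) h2
  obtain ⟨φ, hφ1, hφ2⟩ := iso_trivial_aux B₀ hT A (Spec (CommRingCat.of B₀))
    (Spec.map (CommRingCat.ofHom (algebraMap k B₀)))
    (Scheme.ΓSpecIso (CommRingCat.of B₀)).hom.hom (ConcreteCategory.bijective_of_isIso _) hnat
    ξ.total ξ.f ξ.i ξ.isPullback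
  refine ⟨⟨φ, hφ1, ?_⟩⟩
  apply pullback.hom_ext
  · exact (Category.assoc _ _ _).trans (hφ2.trans (pullback.lift_fst _ _ _).symm)
  · exact (Category.assoc _ _ _).trans ((congrArg (fun z => ξ.i ≫ z) hφ1).trans
      (ξ.isPullback.w.trans (pullback.lift_snd _ _ _).symm))

end Seat51T1Rigid
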