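import Groth.Agent.Lib.Seat36RigidCore
import Groth.Agent.Lib.Seat51T1Rigid

/-!
# A rigid algebra with a flat deformation whose conormal map is split up to `τ^n` is formally smooth (helper36)

Abstract assembly: `B'` a flat `A'`-algebra (`A'` local Artinian, augmented to `k`) which is a quotient of `B`
by `τ^(n+1)` and reduces to `B₀`; `B₀` rigid.  If the conormal map of every family of generators of `B/A`
has a retraction up to `τ^n`, then `B₀` is formally smooth over `k`.
-/

set_option autoImplicit false
universe u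
open TensorProduct MvPolynomial

namespace Groth.Agent.Lib.Seat36.RigidAssemble

open Groth.Agent.Lib.Seat36.RigidCore

theorem formallySmooth_of_rigid
    {k A B B₀ A' B' : Type u} [Field k] [CommRing A] [Algebra k A] [CommRing B] [Algebra A B]
    [CommRing B₀] [Algebra k B₀]
    [CommRing A'] [Algebra k A'] [CommRing B'] [Algebra A' B'] [Algebra k B'] [IsScalarTower k A' B']
    [IsLocalRing A'] [IsArtinianRing A'] [Module.Flat A' B']
    (hT : ∀ E : Exal.Ext k B₀ B₀, E.IsTrivial)
    (qA : A →ₐ[k] A') (qB : B →+* B') (hqB : Function.Surjective qB)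
    (hq : ∀ a, qB (algebraMap A B a) = algebraMap A' B' (qA a))
    (t : A) (n : ℕ) (hqt : qA t ^ (n + 1) = 0)
    (hkerB : ∀ b, qB b = 0 → b ∈ Ideal.span {algebraMap A B t ^ (n + 1)})
    (c₀ : A' →ₗ[k] k) (hc₀ : c₀ (qA t ^ n) = 1)
    (ε : A' →ₐ[k] k) (π : B' →ₐ[k] B₀) (hπ : Function.Surjective π)
    (hπe : ∀ a : A', π (algebraMap A' B' a) = algebraMap k B₀ (ε a))
    (hker : RingHom.ker π = (IsLocalRing.maximalIdeal A').map (algebraMap A' B'))
    (hretr : ∀ (G : Algebra.Generators A B (B₀ ⊕ B)),
      ∃ l : G.toExtension.CotangentSpace →ₗ[B] G.toExtension.Cotangent,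
        l ∘ₗ G.toExtension.cotangentComplex = algebraMap A B t ^ n • LinearMap.id) :
    Algebra.FormallySmooth k B₀ := by
  -- the section and the trivialisation
  obtain ⟨s, hs⟩ := Seat51T1Rigid.exists_section hT π hπ hker
  have hnil := Seat51TrivDef.isNilpotent_ker_of_artinian ε
  have hεsurj : Function.Surjective ε := fun c => ⟨algebraMap k A' c, by simp⟩
  have hεker : RingHom.ker ε.toRingHom = IsLocalRing.maximalIdeal A' := by
    have hmax : (RingHom.ker ε.toRingHom).IsMaximal :=
      RingHom.ker_isMaximal_of_surjective ε.toRingHom hεsurj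
    exact IsLocalRing.eq_maximalIdeal hmax
  have hker' : RingHom.ker π.toRingHom ≤ (RingHom.ker ε.toRingHom).map (algebraMap A' B') := by
    rw [hεker, ← hker]
    exact le_rfl
  have hbij := Seat51TrivDef.bijective_of_section ε hnil π hπe hker' s hs
  let Φ : A' ⊗[k] B₀ ≃+* B' := RingEquiv.ofBijective
    (Algebra.TensorProduct.lift (Algebra.ofId A' B') s (fun _ _ => Commute.all _ _)) hbij
  have hΦ : ∀ (a : A') (b : B₀), Φ (a ⊗ₜ[k] b) = algebraMap A' B' a * s b := fun a b => by
    simp [Φ, Algebra.ofId_apply]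
  let θ : B →+* A' ⊗[k] B₀ := Φ.symm.toRingHom.comp qB
  have hθ : ∀ b, θ b = Φ.symm (qB b) := fun b => rfl
  -- generators
  let G₀ : Algebra.Generators k B₀ B₀ := Algebra.Generators.self k B₀
  let v : B₀ → B := fun b₀ => Function.surjInv hqB (s b₀)
  have hv : ∀ b₀, qB (v b₀) = s b₀ := fun b₀ => Function.surjInv_eq hqB (s b₀)
  have hsurj : Function.Surjective (aeval (R := A) (Sum.elim v (id : B → B))) := fun b =>
    ⟨X (Sum.inr b), by simp⟩
  let G : Algebra.Generators A B (B₀ ⊕ B) := Algebra.Generators.ofSurjective _ hsurj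
  let w : B → A' ⊗[k] MvPolynomial B₀ k := fun m =>
    Function.surjInv (piD_surjective (A' := A') G₀) (θ (G.val (Sum.inr m)))
  have S : Setup qA t n c₀ θ G₀ G w :=
    { hqt := hqt
      hc₀ := hc₀
      hθA := fun a => by
        rw [hθ, hq, RingEquiv.symm_apply_eq, hΦ, map_one, mul_one]
      hθker := fun b hb => by
        apply hkerB
        rw [hθ] at hb
        have := congrArg Φ hb
        rwa [RingEquiv.apply_symm_apply, map_zero] at this
      hG := fun i => by
        rw [hθ, RingEquiv.symm_apply_eq, hΦ, map_one, one_mul]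
        exact hv i
      hw := fun m => Function.surjInv_eq (piD_surjective (A' := A') G₀) _ }
  obtain ⟨l, hl⟩ := hretr G
  obtain ⟨l₀, hl₀⟩ := core S l hl
  have : Algebra.FormallySmooth k G₀.toExtension.Ring :=
    inferInstanceAs (Algebra.FormallySmooth k (MvPolynomial B₀ k))
  exact (Algebra.Extension.formallySmooth_iff_split_injection G₀.toExtension).mpr ⟨l₀, hl₀⟩

end Groth.Agent.Lib.Seat36.RigidAssemble
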