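import Mathlib.RingTheory.Extension.Cotangent.Basic
import Mathlib.RingTheory.Extension.Generators
import Mathlib.RingTheory.Smooth.Basic
import Mathlib.RingTheory.Kaehler.Polynomial
import Mathlib.LinearAlgebra.TensorProduct.RightExactness
import Mathlib.RingTheory.TensorProduct.Basic

/-!
# A rigid singularity is not smoothable: the algebraic core (helper36)

`core`: let `B` be an `A`-algebra with generators `G` (indexed by `ι₀ ⊕ ι₁`), `B₀` a `k`-algebra with
generators `G₀` (indexed by `ι₀`), `θ : B → A' ⊗[k] B₀` a ring map with kernel inside `(τ^(n+1))`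
(`τ` the image of `t ∈ A`, `A → A'` killing `t^(n+1)`), compatible with the generators, and
`c₀ : A' → k` a `k`-linear form with `c₀ (t^n) = 1`.  If the conormal map of `G` has a retraction up to
`τ^n`, then the conormal map of `G₀` has a retraction.
-/

set_option autoImplicit false
universe u
open TensorProduct MvPolynomial

namespace Groth.Agent.Lib.Seat36.RigidCore

section cT

variable {k A' R₀ : Type u} [Field k] [CommRing A'] [Algebra k A'] [CommRing R₀] [Algebra k R₀]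

/-- the `k`-linear map `A' ⊗[k] R₀ → R₀`, `a ⊗ r ↦ c₀ a • r` -/
noncomputable def cT (c₀ : A' →ₗ[k] k) : A' ⊗[k] R₀ →ₗ[k] R₀ :=
  (TensorProduct.lid k R₀).toLinearMap ∘ₗ LinearMap.rTensor R₀ c₀

@[simp] lemma cT_tmul (c₀ : A' →ₗ[k] k) (a : A') (r : R₀) : cT c₀ (a ⊗ₜ[k] r) = c₀ a • r := by
  simp [cT]

lemma cT_mul_right (c₀ : A' →ₗ[k] k) (x : A' ⊗[k] R₀) (r : R₀) :
    cT c₀ (x * (1 ⊗ₜ[k] r)) = cT c₀ x * r := by
  induction x using TensorProduct.induction_on with
  | zero => simp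
  | tmul a s =>
    rw [Algebra.TensorProduct.tmul_mul_tmul, mul_one, cT_tmul, cT_tmul, smul_mul_assoc]
  | add x y hx hy => rw [add_mul, map_add, map_add, hx, hy, add_mul]

/-- `cT` maps an ideal extended from `R₀` into that ideal -/
lemma cT_mem_of_mem_map (c₀ : A' →ₗ[k] k) (J : Ideal R₀) (x : A' ⊗[k] R₀)
    (hx : x ∈ J.map (Algebra.TensorProduct.includeRight : R₀ →ₐ[k] A' ⊗[k] R₀)) :
    cT c₀ x ∈ J := by
  have key : ∀ z : A' ⊗[k] R₀, cT c₀ (z * x) ∈ J := by
    rw [Ideal.map] at hx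
    refine Submodule.span_induction (p := fun x _ => ∀ z : A' ⊗[k] R₀, cT c₀ (z * x) ∈ J)
      ?_ ?_ ?_ ?_ hx
    · rintro _ ⟨u, hu, rfl⟩ z
      change cT c₀ (z * (1 ⊗ₜ[k] u)) ∈ J
      rw [cT_mul_right]
      exact J.mul_mem_left _ hu
    · intro z
      rw [mul_zero, map_zero]
      exact J.zero_mem
    · intro x y _ _ hx hy z
      rw [mul_add, map_add]
      exact J.add_mem (hx z) (hy z)
    · intro w x _ hx z
      rw [smul_eq_mul, ← mul_assoc]
      exact hx (z * w)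
  simpa using key 1

end cT

section main

variable {k A A' B B₀ : Type u} [Field k] [CommRing A] [Algebra k A] [CommRing A'] [Algebra k A']
  [CommRing B] [Algebra A B] [CommRing B₀] [Algebra k B₀]
  (q : A →ₐ[k] A') (t : A) (n : ℕ)
  (c₀ : A' →ₗ[k] k)
  (θ : B →+* A' ⊗[k] B₀)
  {ι₀ ι₁ : Type u} (G₀ : Algebra.Generators k B₀ ι₀) (G : Algebra.Generators A B (ι₀ ⊕ ι₁))

/-- `R₀ = k[ι₀] → R = A[ι₀ ⊕ ι₁]` -/
noncomputable def alpha : MvPolynomial ι₀ k →+* MvPolynomial (ι₀ ⊕ ι₁) A :=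
  eval₂Hom ((C : A →+* MvPolynomial (ι₀ ⊕ ι₁) A).comp (algebraMap k A)) (fun i => X (Sum.inl i))

/-- `A' ⊗ R₀ → A' ⊗ B₀` -/
noncomputable def piD : A' ⊗[k] MvPolynomial ι₀ k →ₐ[k] A' ⊗[k] B₀ :=
  Algebra.TensorProduct.map (AlgHom.id k A') (IsScalarTower.toAlgHom k G₀.Ring B₀)

lemma piD_surjective : Function.Surjective (piD (A' := A') G₀) :=
  Algebra.TensorProduct.map_surjective (AlgHom.id k A') _ Function.surjective_id
    G₀.algebraMap_surjective

/-- `R = A[ι₀ ⊕ ι₁] → A' ⊗ R₀` -/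
noncomputable def rho (w : ι₁ → A' ⊗[k] MvPolynomial ι₀ k) :
    MvPolynomial (ι₀ ⊕ ι₁) A →+* A' ⊗[k] MvPolynomial ι₀ k :=
  eval₂Hom ((Algebra.TensorProduct.includeLeft : A' →ₐ[k] A' ⊗[k] MvPolynomial ι₀ k).toRingHom.comp
    q.toRingHom) (Sum.elim (fun i => 1 ⊗ₜ[k] X i) w)

lemma rho_C (w : ι₁ → A' ⊗[k] MvPolynomial ι₀ k) (a : A) :
    rho q w (C a) = q a ⊗ₜ[k] 1 := by
  simp [rho]

lemma rho_alpha (w : ι₁ → A' ⊗[k] MvPolynomial ι₀ k) (r : MvPolynomial ι₀ k) :
    rho q w (alpha (A := A) (ι₁ := ι₁) r) = 1 ⊗ₜ[k] r := by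
  have : (rho q w).comp (alpha (A := A) (ι₁ := ι₁)) =
      (Algebra.TensorProduct.includeRight : MvPolynomial ι₀ k →ₐ[k] A' ⊗[k] MvPolynomial ι₀ k).toRingHom := by
    apply MvPolynomial.ringHom_ext
    · intro c
      simp only [RingHom.comp_apply, alpha, eval₂Hom_C, rho_C, AlgHom.toRingHom_eq_coe,
        RingHom.coe_coe, Algebra.TensorProduct.includeRight_apply, AlgHom.commutes]
      rw [Algebra.algebraMap_eq_smul_one, TensorProduct.smul_tmul, ← Algebra.algebraMap_eq_smul_one]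
      rfl
    · intro i
      simp [alpha, rho]
  exact congrArg (fun f => f r) this


/-- the hypotheses of the core lemma -/
structure Setup (w : ι₁ → A' ⊗[k] MvPolynomial ι₀ k) : Prop where
  hqt : q t ^ (n + 1) = 0
  hc₀ : c₀ (q t ^ n) = 1
  hθA : ∀ a, θ (algebraMap A B a) = q a ⊗ₜ[k] 1
  hθker : ∀ b, θ b = 0 → b ∈ Ideal.span {algebraMap A B t ^ (n + 1)}
  hG : ∀ i, θ (G.val (Sum.inl i)) = 1 ⊗ₜ[k] G₀.val i
  hw : ∀ m, piD G₀ (w m) = θ (G.val (Sum.inr m))

variable {q t n c₀ θ G₀ G} {w : ι₁ → A' ⊗[k] MvPolynomial ι₀ k} (S : Setup q t n c₀ θ G₀ G w)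

include S in
lemma Setup.piD_rho (r : MvPolynomial (ι₀ ⊕ ι₁) A) :
    piD G₀ (rho q w r) = θ (algebraMap G.Ring B r) := by
  have : (piD (A' := A') G₀).toRingHom.comp (rho q w) = θ.comp (algebraMap G.Ring B) := by
    apply MvPolynomial.ringHom_ext
    · intro a
      simp only [RingHom.comp_apply, rho_C, AlgHom.toRingHom_eq_coe, RingHom.coe_coe,
        Algebra.Generators.algebraMap_apply, aeval_C]
      rw [S.hθA]
      simp [piD]
    · rintro (i | m)
      · simp only [RingHom.comp_apply, AlgHom.toRingHom_eq_coe, RingHom.coe_coe,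
          Algebra.Generators.algebraMap_apply, aeval_X]
        rw [S.hG]
        simp [piD, rho]
      · simp only [RingHom.comp_apply, AlgHom.toRingHom_eq_coe, RingHom.coe_coe,
          Algebra.Generators.algebraMap_apply, aeval_X]
        rw [← S.hw]
        simp [rho]
  exact congrArg (fun f => f r) this

/-- `b0 = cT ∘ rho` -/
noncomputable def b0 (q : A →ₐ[k] A') (c₀ : A' →ₗ[k] k) (w : ι₁ → A' ⊗[k] MvPolynomial ι₀ k)
    (r : MvPolynomial (ι₀ ⊕ ι₁) A) : MvPolynomial ι₀ k :=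
  cT c₀ (rho q w r)

lemma b0_add (r r' : MvPolynomial (ι₀ ⊕ ι₁) A) :
    b0 q c₀ w (r + r') = b0 q c₀ w r + b0 q c₀ w r' := by
  simp [b0]

lemma b0_sub (r r' : MvPolynomial (ι₀ ⊕ ι₁) A) :
    b0 q c₀ w (r - r') = b0 q c₀ w r - b0 q c₀ w r' := by
  simp [b0]

lemma b0_alpha_mul (r₀ : MvPolynomial ι₀ k) (r : MvPolynomial (ι₀ ⊕ ι₁) A) :
    b0 q c₀ w (alpha r₀ * r) = r₀ * b0 q c₀ w r := by
  rw [b0, map_mul, rho_alpha, mul_comm, cT_mul_right, mul_comm]
  rfl

/-- view a polynomial as an element of the ring of the extension -/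
abbrev toRing (G : Algebra.Generators A B (ι₀ ⊕ ι₁)) (r : MvPolynomial (ι₀ ⊕ ι₁) A) :
    G.toExtension.Ring := r

/-- view a polynomial as an element of the ring of the extension -/
abbrev toRing0 (G₀ : Algebra.Generators k B₀ ι₀) (r : MvPolynomial ι₀ k) :
    G₀.toExtension.Ring := r

/-- the kernel of `R₀ → B₀` as an ideal of the polynomial ring -/
noncomputable abbrev K0 (G₀ : Algebra.Generators k B₀ ι₀) : Ideal (MvPolynomial ι₀ k) :=
  RingHom.ker (algebraMap G₀.Ring B₀)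

/-- the kernel of `R → B` as an ideal of the polynomial ring -/
noncomputable abbrev KK (G : Algebra.Generators A B (ι₀ ⊕ ι₁)) : Ideal (MvPolynomial (ι₀ ⊕ ι₁) A) :=
  RingHom.ker (algebraMap G.Ring B)

include S in
lemma Setup.rho_mem (r : MvPolynomial (ι₀ ⊕ ι₁) A) (hr : r ∈ KK G) :
    rho q w r ∈ (K0 G₀).map
      (Algebra.TensorProduct.includeRight : MvPolynomial ι₀ k →ₐ[k] A' ⊗[k] MvPolynomial ι₀ k) := by
  have h1 : rho q w r ∈ RingHom.ker (piD (A' := A') G₀) := by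
    rw [RingHom.mem_ker, S.piD_rho]
    have : algebraMap G.Ring B r = 0 := hr
    rw [this, map_zero]
  rw [piD, Algebra.TensorProduct.lTensor_ker _ G₀.algebraMap_surjective] at h1
  exact h1

include S in
lemma Setup.b0_mem (r : MvPolynomial (ι₀ ⊕ ι₁) A) (hr : r ∈ KK G) :
    b0 q c₀ w r ∈ K0 G₀ :=
  cT_mem_of_mem_map c₀ _ _ (S.rho_mem r hr)

include S in
lemma Setup.b0_mem_sq (r : MvPolynomial (ι₀ ⊕ ι₁) A) (hr : r ∈ KK G ^ 2) :
    b0 q c₀ w r ∈ K0 G₀ ^ 2 := by
  apply cT_mem_of_mem_map c₀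
  rw [Ideal.map_pow]
  have h1 : Ideal.map (rho q w) (KK G ^ 2) ≤
      ((K0 G₀).map (Algebra.TensorProduct.includeRight :
        MvPolynomial ι₀ k →ₐ[k] A' ⊗[k] MvPolynomial ι₀ k)) ^ 2 := by
    rw [Ideal.map_pow]
    apply Ideal.pow_right_mono
    rw [Ideal.map_le_iff_le_comap]
    intro x hx
    exact S.rho_mem x hx
  exact h1 (Ideal.mem_map_of_mem _ hr)

/-- the map `I → I₀/I₀²` -/
noncomputable def Setup.betaFun (i : G.toExtension.ker) : G₀.toExtension.Cotangent :=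
  Algebra.Extension.Cotangent.mk ⟨b0 q c₀ w i.1, S.b0_mem i.1 i.2⟩

include S in
lemma Setup.b0_sub_mem_sq (r r' : MvPolynomial (ι₀ ⊕ ι₁) A) (hr : r - r' ∈ KK G ^ 2) :
    b0 q c₀ w r - b0 q c₀ w r' ∈ K0 G₀ ^ 2 := by
  rw [← b0_sub]
  exact S.b0_mem_sq _ hr

lemma Setup.betaFun_eq_of_mk_eq (i i' : G.toExtension.ker)
    (h : Algebra.Extension.Cotangent.mk i = Algebra.Extension.Cotangent.mk i') :
    S.betaFun i = S.betaFun i' := by
  rw [Algebra.Extension.Cotangent.mk_eq_mk_iff_sub_mem] at h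
  rw [Setup.betaFun, Setup.betaFun, Algebra.Extension.Cotangent.mk_eq_mk_iff_sub_mem]
  exact S.b0_sub_mem_sq i.1 i'.1 h

/-- the map `I/I² → I₀/I₀²` -/
noncomputable def Setup.betaBar (y : G.toExtension.Cotangent) : G₀.toExtension.Cotangent :=
  S.betaFun (Classical.choose (Algebra.Extension.Cotangent.mk_surjective y))

lemma Setup.betaBar_mk (i : G.toExtension.ker) :
    S.betaBar (Algebra.Extension.Cotangent.mk i) = S.betaFun i :=
  S.betaFun_eq_of_mk_eq _ _
    (Classical.choose_spec (Algebra.Extension.Cotangent.mk_surjective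
      (Algebra.Extension.Cotangent.mk i)))

lemma Setup.betaBar_add (y y' : G.toExtension.Cotangent) :
    S.betaBar (y + y') = S.betaBar y + S.betaBar y' := by
  obtain ⟨i, rfl⟩ := Algebra.Extension.Cotangent.mk_surjective y
  obtain ⟨i', rfl⟩ := Algebra.Extension.Cotangent.mk_surjective y'
  rw [← map_add, S.betaBar_mk, S.betaBar_mk, S.betaBar_mk, Setup.betaFun, Setup.betaFun,
    Setup.betaFun, ← map_add]
  congr 1
  apply Subtype.ext
  exact b0_add _ _

lemma Setup.betaBar_alpha_smul (r₀ : MvPolynomial ι₀ k) (y : G.toExtension.Cotangent) :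
    S.betaBar (toRing G (alpha r₀) • y) = toRing0 G₀ r₀ • S.betaBar y := by
  obtain ⟨i, rfl⟩ := Algebra.Extension.Cotangent.mk_surjective y
  rw [← map_smul, S.betaBar_mk, S.betaBar_mk, Setup.betaFun, Setup.betaFun, ← map_smul]
  congr 1
  apply Subtype.ext
  exact b0_alpha_mul _ _

lemma Setup.betaBar_zero : S.betaBar 0 = 0 := by
  have := S.betaBar_add 0 0
  rw [add_zero] at this
  exact left_eq_add.mp this


/-- the `A`-derivation `R → I/I²` attached to `l` -/
noncomputable def gam (l : G.toExtension.CotangentSpace →ₗ[B] G.toExtension.Cotangent) :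
    Derivation A G.toExtension.Ring G.toExtension.Cotangent :=
  ((l.restrictScalars G.toExtension.Ring) ∘ₗ
    (TensorProduct.mk G.toExtension.Ring B Ω[G.toExtension.Ring⁄A] 1)).compDer
    (KaehlerDifferential.D A G.toExtension.Ring)

lemma gam_apply (l : G.toExtension.CotangentSpace →ₗ[B] G.toExtension.Cotangent)
    (r : G.toExtension.Ring) :
    gam l r = l ((1 : B) ⊗ₜ KaehlerDifferential.D A G.toExtension.Ring r) := rfl

lemma gam_C (l : G.toExtension.CotangentSpace →ₗ[B] G.toExtension.Cotangent) (a : A) :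
    gam l (toRing G (C a)) = 0 :=
  (gam l).map_algebraMap a

lemma gam_mem (l : G.toExtension.CotangentSpace →ₗ[B] G.toExtension.Cotangent)
    (hl : l ∘ₗ G.toExtension.cotangentComplex = algebraMap A B t ^ n • LinearMap.id)
    (i : G.toExtension.ker) :
    gam l i.1 = toRing G (C (t ^ n)) • Algebra.Extension.Cotangent.mk i := by
  rw [gam_apply, ← Algebra.Extension.cotangentComplex_mk, ← LinearMap.comp_apply, hl,
    LinearMap.smul_apply, LinearMap.id_apply]
  rw [← algebraMap_smul B (toRing G (C (t ^ n)))]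
  congr 1
  change _ = algebraMap G.Ring B (C (t ^ n))
  rw [Algebra.Generators.algebraMap_apply, aeval_C, map_pow]

lemma toRing_add (r r' : MvPolynomial (ι₀ ⊕ ι₁) A) :
    toRing G (r + r') = toRing G r + toRing G r' := rfl

lemma toRing_mul (r r' : MvPolynomial (ι₀ ⊕ ι₁) A) :
    toRing G (r * r') = toRing G r * toRing G r' := rfl

lemma alpha_smul (c : k) (r : MvPolynomial ι₀ k) :
    alpha (A := A) (ι₁ := ι₁) (c • r) = C (algebraMap k A c) * alpha r := by
  rw [MvPolynomial.smul_eq_C_mul, map_mul]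
  congr 1
  simp [alpha]

lemma alpha_C (c : k) :
    alpha (A := A) (ι₁ := ι₁) (ι₀ := ι₀) (C c) = C (algebraMap k A c) := by
  simp [alpha]

lemma C_smul_cot (c : k) (y : G₀.toExtension.Cotangent) :
    toRing0 G₀ (C c) • y = c • y := by
  change (algebraMap k G₀.toExtension.Ring c) • _ = _
  rw [algebraMap_smul]

/-- the underlying `k`-linear map of the derivation `R₀ → I₀/I₀²` -/
noncomputable def Setup.dlin (l : G.toExtension.CotangentSpace →ₗ[B] G.toExtension.Cotangent) :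
    G₀.toExtension.Ring →ₗ[k] G₀.toExtension.Cotangent where
  toFun r₀ := S.betaBar (gam l (toRing G (alpha r₀)))
  map_add' r r' := by
    have : toRing G (alpha (r + r')) = toRing G (alpha r) + toRing G (alpha r') :=
      map_add alpha r r'
    rw [this, map_add, S.betaBar_add]
  map_smul' c r := by
    have h1 : toRing G (alpha (c • r)) = toRing G (alpha (C c)) * toRing G (alpha r) :=
      (alpha_smul c r).trans (by rw [alpha_C]; rfl)
    have h3 : gam l (toRing G (alpha (ι₁ := ι₁) (ι₀ := ι₀) (C c))) = 0 := by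
      rw [alpha_C]
      exact gam_C l _
    rw [h1, Derivation.leibniz, h3, smul_zero, add_zero, RingHom.id_apply]
    exact (S.betaBar_alpha_smul (C c) _).trans (C_smul_cot c _)

lemma Setup.dlin_apply (l : G.toExtension.CotangentSpace →ₗ[B] G.toExtension.Cotangent)
    (r₀ : G₀.toExtension.Ring) :
    S.dlin l r₀ = S.betaBar (gam l (toRing G (alpha r₀))) := rfl

/-- the derivation `R₀ → I₀/I₀²` -/
noncomputable def Setup.der (l : G.toExtension.CotangentSpace →ₗ[B] G.toExtension.Cotangent) :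
    Derivation k G₀.toExtension.Ring G₀.toExtension.Cotangent :=
  Derivation.mk' (S.dlin l) (fun a b => by
    have h1 : toRing G (alpha (a * b)) = toRing G (alpha a) * toRing G (alpha b) :=
      map_mul alpha a b
    rw [S.dlin_apply, S.dlin_apply, S.dlin_apply, h1, Derivation.leibniz, S.betaBar_add]
    exact congrArg₂ (· + ·) (S.betaBar_alpha_smul a _) (S.betaBar_alpha_smul b _))

lemma Setup.der_apply (l : G.toExtension.CotangentSpace →ₗ[B] G.toExtension.Cotangent)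
    (r₀ : G₀.toExtension.Ring) :
    S.der l r₀ = S.betaBar (gam l (toRing G (alpha r₀))) := rfl


lemma rho_C_mul (a : A) (r : MvPolynomial (ι₀ ⊕ ι₁) A) :
    rho q w (C a * r) = (q a ⊗ₜ[k] 1) * rho q w r := by
  rw [map_mul, rho_C]

include S in
lemma Setup.b0_C_pow_succ_mul (r : MvPolynomial (ι₀ ⊕ ι₁) A) :
    b0 q c₀ w (C (t ^ (n + 1)) * r) = 0 := by
  rw [b0, rho_C_mul, map_pow, S.hqt, TensorProduct.zero_tmul, zero_mul, map_zero]

include S in
lemma Setup.exists_decomp (r₀ : MvPolynomial ι₀ k) (hr₀ : r₀ ∈ K0 G₀) :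
    ∃ i ∈ KK G, ∃ g : MvPolynomial (ι₀ ⊕ ι₁) A,
      alpha r₀ = i + C (t ^ (n + 1)) * g ∧ rho q w i = 1 ⊗ₜ[k] r₀ := by
  have h1 : θ (algebraMap G.Ring B (alpha r₀)) = 0 := by
    rw [← S.piD_rho, rho_alpha, piD, Algebra.TensorProduct.map_tmul]
    have : algebraMap G₀.Ring B₀ r₀ = 0 := hr₀
    change (1 : A') ⊗ₜ[k] (algebraMap G₀.Ring B₀ r₀) = 0
    rw [this, TensorProduct.tmul_zero]
  obtain ⟨b', hb'⟩ := Ideal.mem_span_singleton'.mp (S.hθker _ h1)
  obtain ⟨g, rfl⟩ := G.algebraMap_surjective b'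
  refine ⟨alpha r₀ - C (t ^ (n + 1)) * g, ?_, g, by ring, ?_⟩
  · rw [RingHom.mem_ker, map_sub, map_mul, ← hb', Algebra.Generators.algebraMap_apply (x := C _),
      aeval_C, map_pow, mul_comm, sub_self]
  · rw [map_sub, rho_C_mul, map_pow, S.hqt, TensorProduct.zero_tmul, zero_mul, sub_zero, rho_alpha]

lemma Setup.betaFun_smul_succ (j : G.toExtension.ker) :
    S.betaFun (toRing G (C (t ^ (n + 1))) • j) = 0 := by
  rw [Setup.betaFun, Algebra.Extension.Cotangent.mk_eq_zero_iff]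
  have h3 : b0 q c₀ w (toRing G (C (t ^ (n + 1))) • j : G.toExtension.ker).1 = 0 :=
    S.b0_C_pow_succ_mul _
  change b0 q c₀ w (toRing G (C (t ^ (n + 1))) • j : G.toExtension.ker).1 ∈ _
  rw [h3]
  exact Ideal.zero_mem _

include S in
lemma Setup.b0_C_pow_mul (i : MvPolynomial (ι₀ ⊕ ι₁) A) (r₀ : MvPolynomial ι₀ k)
    (hρ : rho q w i = 1 ⊗ₜ[k] r₀) : b0 q c₀ w (C (t ^ n) * i) = r₀ := by
  rw [b0, rho_C_mul, hρ, Algebra.TensorProduct.tmul_mul_tmul, mul_one, one_mul, cT_tmul, map_pow,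
    S.hc₀, one_smul]

lemma Setup.betaFun_smul_n (j : G.toExtension.ker) (r₀ : MvPolynomial ι₀ k) (hr₀ : r₀ ∈ K0 G₀)
    (hρ : rho q w j.1 = 1 ⊗ₜ[k] r₀) :
    S.betaFun (toRing G (C (t ^ n)) • j) =
      Algebra.Extension.Cotangent.mk (⟨toRing0 G₀ r₀, hr₀⟩ : G₀.toExtension.ker) := by
  rw [Setup.betaFun]
  congr 1
  apply Subtype.ext
  exact S.b0_C_pow_mul j.1 r₀ hρ

include S in
lemma Setup.key (l : G.toExtension.CotangentSpace →ₗ[B] G.toExtension.Cotangent)
    (hl : l ∘ₗ G.toExtension.cotangentComplex = algebraMap A B t ^ n • LinearMap.id)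
    (r₀ : MvPolynomial ι₀ k) (hr₀ : r₀ ∈ K0 G₀) :
    S.betaBar (gam l (toRing G (alpha r₀))) =
      Algebra.Extension.Cotangent.mk (⟨toRing0 G₀ r₀, hr₀⟩ : G₀.toExtension.ker) := by
  obtain ⟨i, hiK, g, hx, hρ⟩ := S.exists_decomp r₀ hr₀
  obtain ⟨i'', hi''⟩ := Algebra.Extension.Cotangent.mk_surjective (gam l (toRing G g))
  have hxi : toRing G (alpha r₀) = toRing G i + toRing G (C (t ^ (n + 1))) * toRing G g := hx
  have h2 : gam l (toRing G (alpha r₀)) =
      Algebra.Extension.Cotangent.mk (toRing G (C (t ^ n)) • (⟨i, hiK⟩ : G.toExtension.ker)) +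
        Algebra.Extension.Cotangent.mk (toRing G (C (t ^ (n + 1))) • i'') := by
    rw [hxi, map_add, Derivation.leibniz, gam_C, smul_zero, add_zero, map_smul, map_smul, hi'']
    congr 1
    exact gam_mem l hl ⟨i, hiK⟩
  rw [h2, S.betaBar_add, S.betaBar_mk, S.betaBar_mk, S.betaFun_smul_succ,
    S.betaFun_smul_n ⟨i, hiK⟩ r₀ hr₀ hρ, add_zero]

/-- the core lemma -/
theorem core (S : Setup q t n c₀ θ G₀ G w)
    (l : G.toExtension.CotangentSpace →ₗ[B] G.toExtension.Cotangent)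
    (hl : l ∘ₗ G.toExtension.cotangentComplex = algebraMap A B t ^ n • LinearMap.id) :
    ∃ l₀ : G₀.toExtension.CotangentSpace →ₗ[B₀] G₀.toExtension.Cotangent,
      l₀ ∘ₗ G₀.toExtension.cotangentComplex = LinearMap.id := by
  refine ⟨LinearMap.liftBaseChange B₀ (S.der l).liftKaehlerDifferential, ?_⟩
  apply LinearMap.ext
  intro y
  obtain ⟨i₀, rfl⟩ := Algebra.Extension.Cotangent.mk_surjective y
  rw [LinearMap.comp_apply, Algebra.Extension.cotangentComplex_mk, LinearMap.liftBaseChange_tmul,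
    one_smul, Derivation.liftKaehlerDifferential_comp_D, LinearMap.id_apply]
  exact S.key l hl i₀.1 i₀.2

end main

end Groth.Agent.Lib.Seat36.RigidCore
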