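import Mathlib

/-!
# The Artinian quotients `A/(t^(n+1))` of a curve at a point (helper36)

`A` a finitely generated domain over an algebraically closed field `k`, `(t)` maximal, `t ≠ 0`.
* `exists_aug`: an augmentation `A/(t^(n+1)) → k` with kernel `(t)`.
* `isLocalRing_quot`, `isArtinianRing_quot`, `maximalIdeal_quot`.
* `exists_form`: a `k`-linear form on `A/(t^(n+1))` taking the value `1` at `t^n`.
-/

set_option autoImplicit false
set_option linter.style.haveILetI false
universe u

namespace Groth.Agent.Lib.Seat36.RigidQuot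

variable {k : Type u} [Field k] {A : Type u} [CommRing A] [Algebra k A] (t : A) (n : ℕ)

/-- the ideal `(t^(n+1))` -/
abbrev In : Ideal A := Ideal.span {t ^ (n + 1)}

lemma In_le : In t n ≤ Ideal.span {t} := by
  rw [In, Ideal.span_singleton_le_iff_mem, pow_succ]
  exact Ideal.mul_mem_left _ _ (Ideal.mem_span_singleton_self t)

lemma mk_pow_eq_zero : (Ideal.Quotient.mk (In t n) t) ^ (n + 1) = 0 := by
  rw [← map_pow, Ideal.Quotient.eq_zero_iff_mem]
  exact Ideal.mem_span_singleton_self _

theorem exists_aug [IsAlgClosed k] [Algebra.FiniteType k A] (ht : (Ideal.span {t}).IsMaximal) :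
    ∃ ε : (A ⧸ In t n) →ₐ[k] k,
      RingHom.ker ε.toRingHom = Ideal.span {Ideal.Quotient.mk (In t n) t} := by
  letI : Field (A ⧸ Ideal.span {t}) := Ideal.Quotient.field _
  haveI : Algebra.FiniteType k (A ⧸ Ideal.span {t}) :=
    Algebra.FiniteType.of_surjective (Ideal.Quotient.mkₐ k (Ideal.span {t}))
      (Ideal.Quotient.mkₐ_surjective k _)
  haveI : Module.Finite k (A ⧸ Ideal.span {t}) := finite_of_finite_type_of_isJacobsonRing k _
  haveI : Algebra.IsIntegral k (A ⧸ Ideal.span {t}) := Algebra.IsIntegral.of_finite k _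
  have hbij : Function.Bijective (Algebra.ofId k (A ⧸ Ideal.span {t})) :=
    IsAlgClosed.algebraMap_bijective_of_isIntegral
  let eK : k ≃ₐ[k] (A ⧸ Ideal.span {t}) := AlgEquiv.ofBijective (Algebra.ofId k _) hbij
  let f : (A ⧸ In t n) →ₐ[k] (A ⧸ Ideal.span {t}) := Ideal.Quotient.factorₐ k (In_le t n)
  refine ⟨eK.symm.toAlgHom.comp f, ?_⟩
  have h1 : RingHom.ker (eK.symm.toAlgHom.comp f).toRingHom =
      RingHom.ker (Ideal.Quotient.factor (In_le t n)) := by
    ext x
    rw [RingHom.mem_ker, RingHom.mem_ker]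
    change eK.symm (f x) = 0 ↔ f x = 0
    rw [map_eq_zero_iff _ eK.symm.injective]
  rw [h1, Ideal.Quotient.factor_ker, Ideal.map_span, Set.image_singleton]

section local_

variable (ε : (A ⧸ In t n) →ₐ[k] k)
  (hε : RingHom.ker ε.toRingHom = Ideal.span {Ideal.Quotient.mk (In t n) t})

include hε in
lemma isMaximal_nilradical : (nilradical (A ⧸ In t n)).IsMaximal := by
  have hεsurj : Function.Surjective ε := fun c => ⟨algebraMap k _ c, by simp⟩
  have hmax : (RingHom.ker ε.toRingHom).IsMaximal :=
    RingHom.ker_isMaximal_of_surjective ε.toRingHom hεsurj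
  have hle : RingHom.ker ε.toRingHom ≤ nilradical (A ⧸ In t n) := by
    rw [hε, Ideal.span_singleton_le_iff_mem, mem_nilradical]
    exact ⟨n + 1, mk_pow_eq_zero t n⟩
  have hne : nilradical (A ⧸ In t n) ≠ ⊤ := by
    intro h
    have h1 : (1 : A ⧸ In t n) ∈ nilradical (A ⧸ In t n) := h ▸ Submodule.mem_top
    rw [mem_nilradical] at h1
    obtain ⟨m, hm⟩ := h1
    rw [one_pow] at hm
    have := congrArg ε hm
    rw [map_one, map_zero] at this
    exact one_ne_zero this
  rw [← hmax.eq_of_le hne hle]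
  exact hmax

include hε in
theorem isLocalRing_quot : IsLocalRing (A ⧸ In t n) :=
  haveI := isMaximal_nilradical t n ε hε
  IsLocalRing.of_isMaximal_nilradical _

include hε in
theorem isArtinianRing_quot [IsNoetherianRing A] : IsArtinianRing (A ⧸ In t n) := by
  haveI := isMaximal_nilradical t n ε hε
  haveI : Ring.KrullDimLE 0 (A ⧸ In t n) := Ring.KrullDimLE.of_isMaximal_nilradical _
  exact isArtinianRing_iff_krullDimLE_zero.mpr inferInstance

include hε in
theorem maximalIdeal_quot [IsLocalRing (A ⧸ In t n)] :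
    IsLocalRing.maximalIdeal (A ⧸ In t n) = Ideal.span {Ideal.Quotient.mk (In t n) t} := by
  have hεsurj : Function.Surjective ε := fun c => ⟨algebraMap k _ c, by simp⟩
  have hmax : (RingHom.ker ε.toRingHom).IsMaximal :=
    RingHom.ker_isMaximal_of_surjective ε.toRingHom hεsurj
  rw [← hε]
  exact (IsLocalRing.eq_maximalIdeal hmax).symm

end local_

theorem exists_form [IsDomain A] (ht : (Ideal.span {t}).IsMaximal) (ht0 : t ≠ 0) :
    ∃ c₀ : (A ⧸ In t n) →ₗ[k] k, c₀ ((Ideal.Quotient.mk (In t n) t) ^ n) = 1 := by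
  have hne : (Ideal.Quotient.mk (In t n) t) ^ n ≠ 0 := by
    rw [← map_pow, Ne, Ideal.Quotient.eq_zero_iff_mem, Ideal.mem_span_singleton']
    rintro ⟨a, ha⟩
    have h1 : t ^ n * (a * t - 1) = 0 := by
      rw [pow_succ] at ha
      linear_combination ha
    rcases mul_eq_zero.mp h1 with h2 | h2
    · exact pow_ne_zero n ht0 h2
    · apply ht.ne_top
      rw [Ideal.eq_top_iff_one]
      rw [Ideal.mem_span_singleton']
      exact ⟨a, by linear_combination h2⟩
  exact Module.Projective.exists_dual_eq_one k hne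

end Groth.Agent.Lib.Seat36.RigidQuot
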