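import Groth.Agent.Lib.Seat36RigidTransfer
import Groth.Agent.Lib.Seat36RigidAssemble
import Groth.Agent.Lib.Seat36RigidQuot

/-!
# A rigid singular affine scheme is not smoothable (helper36): S12306
-/

set_option autoImplicit false
set_option linter.style.haveILetI false
universe u
open TensorProduct

namespace Groth.Agent.Lib.Seat36.RigidMain

open Groth.Agent.Lib.Seat36.RigidQuot Groth.Agent.Lib.Helper19.TorsRetr

section Bquot

variable {k : Type u} [Field k] {A B : Type u} [CommRing A] [CommRing B] [Algebra k A]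
  [Algebra A B] [Algebra k B] [IsScalarTower k A B] (t : A) (n : ℕ)

/-- the ideal `(t^(n+1)) B` -/
abbrev Jn : Ideal B := (In t n).map (algebraMap A B)

lemma Jn_eq : Jn (B := B) t n = Ideal.span {algebraMap A B t ^ (n + 1)} := by
  rw [Jn, In, Ideal.map_span, Set.image_singleton, map_pow]

lemma Jn_le : Jn (B := B) t n ≤ Ideal.span {algebraMap A B t} := by
  rw [Jn_eq, Ideal.span_singleton_le_iff_mem, pow_succ]
  exact Ideal.mul_mem_left _ _ (Ideal.mem_span_singleton_self _)

instance isScalarTower_quot : IsScalarTower k (A ⧸ In t n) (B ⧸ Jn (B := B) t n) :=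
  IsScalarTower.of_algebraMap_eq (fun c => by
    rw [IsScalarTower.algebraMap_apply k B (B ⧸ Jn (B := B) t n),
      IsScalarTower.algebraMap_apply k A (A ⧸ In t n), IsScalarTower.algebraMap_apply k A B]
    rfl)

instance flat_quot [Module.Flat A B] : Module.Flat (A ⧸ In t n) (B ⧸ Jn (B := B) t n) :=
  Module.Flat.of_linearEquiv
    (Algebra.TensorProduct.quotIdealMapEquivQuotTensor B (In t n)).toLinearEquiv

end Bquot

theorem main {k : Type u} [Field k] [IsAlgClosed k] (B₀ : Type u) [CommRing B₀] [Algebra k B₀]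
    [Algebra.FiniteType k B₀]
    (hsing : ¬ Algebra.Smooth k B₀) (hrigid : Subsingleton (CotT.T1 (CotT.canon k B₀) B₀))
    (A B : Type u) [CommRing A] [CommRing B] [IsDomain A] [Algebra k A] [Algebra.FiniteType k A]
    (hdim : ringKrullDim A = 1) (t : A) (ht : (Ideal.span {t}).IsMaximal)
    [Algebra A B] [Algebra.FiniteType A B] [Module.Flat A B] [Algebra k B] [IsScalarTower k A B]
    (e : (B ⧸ Ideal.span {algebraMap A B t}) ≃ₐ[k] B₀) :
    ∃ q : PrimeSpectrum B, algebraMap A B t ∉ q.asIdeal ∧ q ∉ Algebra.smoothLocus A B := by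
  by_contra hcon
  push Not at hcon
  haveI : IsNoetherianRing A := Algebra.FiniteType.isNoetherianRing k A
  haveI : IsNoetherianRing B := Algebra.FiniteType.isNoetherianRing A B
  haveI : Algebra.FinitePresentation A B :=
    Algebra.FinitePresentation.of_finiteType.mp inferInstance
  obtain ⟨n, l, hl⟩ := (smooth_iff_hasRetr A (algebraMap A B t)).mp hcon
  -- `t ≠ 0`
  have ht0 : t ≠ 0 := by
    rintro rfl
    have h1 : (⊥ : Ideal A).IsMaximal := by
      have : Ideal.span {(0 : A)} = ⊥ := Ideal.span_singleton_eq_bot.mpr rfl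
      rwa [this] at ht
    have h2 : IsField A := Ring.isField_iff_maximal_bot.mpr h1
    rw [ringKrullDim_eq_zero_of_isField h2] at hdim
    exact zero_ne_one hdim
  -- the Artinian quotient
  obtain ⟨ε, hε⟩ := exists_aug (k := k) t n ht
  haveI : IsLocalRing (A ⧸ In t n) := isLocalRing_quot t n ε hε
  haveI : IsArtinianRing (A ⧸ In t n) := isArtinianRing_quot t n ε hε
  have hmax := maximalIdeal_quot t n ε hε
  obtain ⟨c₀, hc₀⟩ := exists_form (k := k) t n ht ht0
  -- the projection to `B₀`
  let π : (B ⧸ Jn (B := B) t n) →ₐ[k] B₀ :=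
    e.toAlgHom.comp (Ideal.Quotient.factorₐ k (Jn_le t n))
  have hπ : Function.Surjective π :=
    e.surjective.comp (Ideal.Quotient.factor_surjective (Jn_le t n))
  have hker : RingHom.ker π =
      (IsLocalRing.maximalIdeal (A ⧸ In t n)).map (algebraMap (A ⧸ In t n) (B ⧸ Jn (B := B) t n)) := by
    have h1 : RingHom.ker π = RingHom.ker (Ideal.Quotient.factor (Jn_le (B := B) t n)) := by
      ext x
      rw [RingHom.mem_ker, RingHom.mem_ker]
      change e (Ideal.Quotient.factor (Jn_le (B := B) t n) x) = 0 ↔ _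
      rw [map_eq_zero_iff _ e.injective]
    rw [h1, Ideal.Quotient.factor_ker, hmax, Ideal.map_span, Ideal.map_span, Set.image_singleton,
      Set.image_singleton]
    rfl
  have hπe : ∀ a : A ⧸ In t n, π (algebraMap (A ⧸ In t n) (B ⧸ Jn (B := B) t n) a) =
      algebraMap k B₀ (ε a) := by
    intro a'
    obtain ⟨a, rfl⟩ := Ideal.Quotient.mk_surjective a'
    -- `a - ε a ∈ (t)`
    have h1 : Ideal.Quotient.mk (In t n) a - algebraMap k (A ⧸ In t n) (ε (Ideal.Quotient.mk _ a)) ∈
        RingHom.ker ε.toRingHom := by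
      rw [RingHom.mem_ker, map_sub]
      change ε _ - ε (algebraMap k _ _) = 0
      rw [AlgHom.commutes, Algebra.algebraMap_self_apply, sub_self]
    rw [hε, Ideal.mem_span_singleton'] at h1
    obtain ⟨y', hy'⟩ := h1
    obtain ⟨y, rfl⟩ := Ideal.Quotient.mk_surjective y'
    set c := ε (Ideal.Quotient.mk (In t n) a) with hc
    have h2 : a - algebraMap k A c - y * t ∈ In t n := by
      rw [← Ideal.Quotient.eq_zero_iff_mem, map_sub, map_sub, map_mul, hy']
      change _ - Ideal.Quotient.mk _ (algebraMap k A c) - _ = 0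
      have : Ideal.Quotient.mk (In t n) (algebraMap k A c) = algebraMap k (A ⧸ In t n) c := rfl
      rw [this]
      ring
    have h3 : a - algebraMap k A c ∈ Ideal.span {t} := by
      have h4 := In_le t n h2
      have h5 : y * t ∈ Ideal.span {t} := Ideal.mul_mem_left _ _ (Ideal.mem_span_singleton_self t)
      have := Ideal.add_mem _ h4 h5
      rwa [sub_add_cancel] at this
    have h6 : algebraMap A B (a - algebraMap k A c) ∈ Ideal.span {algebraMap A B t} := by
      have := Ideal.mem_map_of_mem (algebraMap A B) h3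
      rwa [Ideal.map_span, Set.image_singleton] at this
    change e (Ideal.Quotient.factor (Jn_le (B := B) t n)
      (Ideal.Quotient.mk _ (algebraMap A B a))) = _
    rw [Ideal.Quotient.factor_mk, ← e.commutes c]
    congr 1
    rw [IsScalarTower.algebraMap_apply k B (B ⧸ Ideal.span {algebraMap A B t}),
      IsScalarTower.algebraMap_apply k A B]
    change Ideal.Quotient.mk _ _ = Ideal.Quotient.mk _ _
    rw [Ideal.Quotient.eq, ← map_sub]
    exact h6
  -- conclude
  have hT := Groth.Agent.Lib.Seat36.RigidTransfer.isTrivial_of_subsingleton_T1 hrigid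
  have hfs : Algebra.FormallySmooth k B₀ :=
    Groth.Agent.Lib.Seat36.RigidAssemble.formallySmooth_of_rigid hT
      (Ideal.Quotient.mkₐ k (In t n)) (Ideal.Quotient.mk (Jn (B := B) t n))
      Ideal.Quotient.mk_surjective (fun a => rfl) t n (mk_pow_eq_zero t n)
      (fun b hb => by
        rw [Ideal.Quotient.eq_zero_iff_mem, Jn_eq] at hb
        exact hb)
      c₀ hc₀ ε π hπ hπe hker
      (fun G => Groth.Agent.Lib.Seat36.RigidTransfer.exists_retr_of_retr _ n l hl G)
  haveI : IsNoetherianRing k := inferInstance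
  haveI : Algebra.FinitePresentation k B₀ :=
    Algebra.FinitePresentation.of_finiteType.mp inferInstance
  exact hsing ⟨hfs, inferInstance⟩

end Groth.Agent.Lib.Seat36.RigidMain
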