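import Groth.Agent.Lib.Helper19TorsRetrC
import Groth.Agent.Lib.Helper19ExalT1D
import Groth.Agent.Lib.Helper7ExalBaer

/-!
# Transfer lemmas for "a rigid singularity is not smoothable" (helper36)

* `exists_retr_of_retr`: a retraction up to `τ^n` of the conormal map of the chosen finite presentation
  gives one for any family of generators.
* `isTrivial_of_subsingleton_T1`: `T¹(B₀/k, B₀) = 0` ⟹ every extension of `B₀` by `B₀` is trivial.
-/

set_option autoImplicit false
universe u

namespace Groth.Agent.Lib.Seat36.RigidTransfer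

open Groth.Agent.Lib.Helper19.CotTIndep Groth.Agent.Lib.Helper19.TorsRetr

theorem exists_retr_of_retr {A B : Type u} [CommRing A] [CommRing B] [Algebra A B]
    [Algebra.FinitePresentation A B] (τ : B) (n : ℕ)
    (l : (P0 A B).toExtension.CotangentSpace →ₗ[B] (P0 A B).toExtension.Cotangent)
    (hl : l ∘ₗ (P0 A B).toExtension.cotangentComplex = τ ^ n • LinearMap.id) {ι : Type u}
    (G : Algebra.Generators A B ι) :
    ∃ (l' : G.toExtension.CotangentSpace →ₗ[B] G.toExtension.Cotangent),
      l' ∘ₗ G.toExtension.cotangentComplex = τ ^ n • LinearMap.id := by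
  -- `τ^n` kills `C1` of the finite presentation
  have h0 : ∀ x : C1 (P0 A B).toExtension G.toExtension.Cotangent, τ ^ n • x = 0 := by
    intro x
    obtain ⟨φ, rfl⟩ := Submodule.Quotient.mk_surjective _ x
    rw [← Submodule.Quotient.mk_smul, Submodule.Quotient.mk_eq_zero]
    refine ⟨φ ∘ₗ l, ?_⟩
    rw [LinearMap.lcomp_apply', LinearMap.comp_assoc, hl, LinearMap.comp_smul, LinearMap.comp_id]
  let f : (P0 A B).toExtension.Hom G.toExtension :=
    (Algebra.Generators.defaultHom (P0 A B).toGenerators G).toExtensionHom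
  let g : G.toExtension.Hom (P0 A B).toExtension :=
    (Algebra.Generators.defaultHom G (P0 A B).toGenerators).toExtensionHom
  let E : C1 (P0 A B).toExtension G.toExtension.Cotangent ≃ₗ[B]
      C1 G.toExtension G.toExtension.Cotangent := C1equiv f g
  have h1 : τ ^ n • (Submodule.Quotient.mk LinearMap.id :
      C1 G.toExtension G.toExtension.Cotangent) = 0 := by
    have := h0 (E.symm (Submodule.Quotient.mk LinearMap.id))
    rw [← map_smul] at this
    exact E.symm.injective (by rw [this, map_zero])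
  rw [← Submodule.Quotient.mk_smul, Submodule.Quotient.mk_eq_zero] at h1
  obtain ⟨ψ, hψ⟩ := h1
  exact ⟨ψ, hψ⟩

theorem isTrivial_of_subsingleton_T1 {k B₀ : Type u} [CommRing k] [CommRing B₀] [Algebra k B₀]
    (h : Subsingleton (CotT.T1 (CotT.canon k B₀) B₀)) (E : Exal.Ext k B₀ B₀) : E.IsTrivial := by
  obtain ⟨e, he⟩ := Groth.Agent.Lib.Helper19.ExalT1.exists_equiv_T1 k B₀ (CotT.canon k B₀) B₀
  have h1 : E.cl = 0 := e.injective (Subsingleton.elim _ _)
  have h2 : Nonempty (E.Equiv (Exal.Ext.trivial k B₀ B₀)) := Quotient.exact h1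
  obtain ⟨eq⟩ := h2
  exact Groth.Agent.Lib.Helper7.ExalLib.isTrivial_of_equiv eq
    (Groth.Agent.Lib.Helper7.ExalLib.trivial_isTrivial k B₀ B₀)

end Groth.Agent.Lib.Seat36.RigidTransfer
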