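/-
Seat36SepClosedPt (helper36): on a smooth scheme over a field `k`, every nonempty open subset
contains the image of a `K`-point with `K/k` finite separable; consequently closed points with
finite separable residue field are dense.
-/
import Mathlib
import Groth.Prelude.Def_CurvBase
import Groth.Agent.Lib.Seat36SmoothSepPt
import Groth.Agent.Lib.Helper10GaloisOrbit

set_option autoImplicit false
universe u
open CategoryTheory AlgebraicGeometry Limits TopologicalSpace

namespace Groth.Agent.Lib.Seat36.SepClosedPt

open Groth.Agent.Lib.Seat36.SmoothSepPt Groth.Agent.Lib.Helper10.GaloisOrbit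

/-- On a smooth `k`-scheme, every nonempty open subset contains the image of a point with values
in a finite separable extension of `k`. -/
theorem exists_finite_separable_point_mem (k : Type u) [Field k] {X : Scheme.{u}}
    (f : X ⟶ Spec (CommRingCat.of k)) [Smooth f] (U : X.Opens) (x₀ : X) (hx₀ : x₀ ∈ U) :
    ∃ (K : Type u) (_ : Field K) (_ : Algebra k K) (_ : Module.Finite k K)
      (_ : Algebra.IsSeparable k K) (p : Spec (CommRingCat.of K) ⟶ X),
      p ≫ f = Spec.map (CommRingCat.ofHom (algebraMap k K)) ∧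
        p (IsLocalRing.closedPoint K) ∈ U := by
  obtain ⟨V, hV, hxV, hVU⟩ := exists_isAffineOpen_mem_and_subset (x := x₀) (U := U) hx₀
  let A := Γ(X, V)
  let φ : CommRingCat.of k ⟶ A := Spec.preimage (hV.fromSpec ≫ f)
  have hφ : Spec.map φ = hV.fromSpec ≫ f := Spec.map_preimage _
  have hsm : Smooth (Spec.map φ) := by rw [hφ]; infer_instance
  have hsm' : φ.hom.Smooth := (HasRingHomProperty.Spec_iff (P := @Smooth)).mp hsm
  algebraize [φ.hom]
  have hnt : Nontrivial A := by
    have : Nonempty (PrimeSpectrum A) := ⟨hV.isoSpec.hom ⟨x₀, hxV⟩⟩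
    exact PrimeSpectrum.nonempty_iff_nontrivial.mp this
  obtain ⟨K, hK1, hK2, h1, h2, ⟨ψ⟩⟩ := exists_algHom_of_smooth k A
  refine ⟨K, hK1, hK2, h1, h2, Spec.map (CommRingCat.ofHom ψ.toRingHom) ≫ hV.fromSpec, ?_, ?_⟩
  · rw [Category.assoc, ← hφ, ← Spec.map_comp]
    congr 2
    ext c
    exact ψ.commutes c
  · apply hVU
    have hr : (Spec.map (CommRingCat.ofHom ψ.toRingHom) ≫ hV.fromSpec)
        (IsLocalRing.closedPoint K) ∈ Set.range hV.fromSpec := ⟨_, rfl⟩
    rw [hV.range_fromSpec] at hr
    exact hr

/-- The structure map `k → κ(x)` of the prelude is the one induced by `Spec κ(x) ⟶ X ⟶ Spec k`. -/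
theorem specMap_resMap (k : Type u) [Field k] (X : Scheme.{u}) [X.Over (Spec (CommRingCat.of k))]
    (x : X) :
    Spec.map (CommRingCat.ofHom (Curv2.resMap k X x)) =
      X.fromSpecResidueField x ≫ (X ↘ Spec (CommRingCat.of k)) := by
  apply ext_of_isAffine
  simp only [Scheme.Hom.comp_appTop, Scheme.fromSpecResidueField, Scheme.fromSpecStalk_appTop]
  rw [← cancel_mono (Scheme.ΓSpecIso _).hom]
  simp only [Category.assoc, Scheme.ΓSpecIso_naturality]
  ext c
  simp [Curv2.resMap, Curv2.stalkMap, Coh.toGlobal]

attribute [local instance] Curv2.resAlgebra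

/-- The image of a `K`-point over `k`: the residue field embeds into `K` over `k`. -/
theorem exists_algHom_residueField (k K : Type u) [Field k] [Field K] [Algebra k K]
    (X : Scheme.{u}) [X.Over (Spec (CommRingCat.of k))]
    (p : Spec (CommRingCat.of K) ⟶ X)
    (hp : p ≫ (X ↘ Spec (CommRingCat.of k)) = Spec.map (CommRingCat.ofHom (algebraMap k K))) :
    Nonempty (X.residueField (p (IsLocalRing.closedPoint K)) →ₐ[k] K) := by
  set f := X ↘ Spec (CommRingCat.of k) with hf
  set x := p (IsLocalRing.closedPoint K) with hx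
  obtain ⟨φ, hφ⟩ := exists_eq_comp K x p rfl
  have h1 : resHom k f x ≫ φ = CommRingCat.ofHom (algebraMap k K) :=
    resHom_comp k K f x φ (by rw [← hφ]; exact hp)
  have h2 : resHom k f x = CommRingCat.ofHom (Curv2.resMap k X x) :=
    Spec.map_injective (by rw [map_resHom, specMap_resMap])
  refine ⟨{ toRingHom := φ.hom, commutes' := fun c => ?_ }⟩
  have := congrArg (fun g => g.hom c) h1
  rw [h2] at this
  exact this

/-- S1550: on a smooth scheme over a field, the closed points with finite separable residue
field are dense. -/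
theorem dense_closedPoints_separable (k : Type u) [Field k] (X : Scheme.{u})
    [X.Over (Spec (CommRingCat.of k))] [Smooth (X ↘ Spec (CommRingCat.of k))] :
    Dense {x : X | IsClosed ({x} : Set X) ∧ FiniteDimensional k (X.residueField x) ∧
      Algebra.IsSeparable k (X.residueField x)} := by
  rw [dense_iff_inter_open]
  rintro U hU ⟨x₀, hx₀⟩
  obtain ⟨K, _, _, _, _, p, hp, hpU⟩ :=
    exists_finite_separable_point_mem k (X ↘ Spec (CommRingCat.of k)) ⟨U, hU⟩ x₀ hx₀
  obtain ⟨ι⟩ := exists_algHom_residueField k K X p hp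
  refine ⟨p (IsLocalRing.closedPoint K), hpU, ?_, ?_, ?_⟩
  · exact isClosed_of_point k K (X ↘ Spec (CommRingCat.of k)) p hp
  · exact FiniteDimensional.of_injective ι.toLinearMap ι.injective
  · exact Algebra.IsSeparable.of_algHom k K ι

end Groth.Agent.Lib.Seat36.SepClosedPt
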