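import Mathlib

/-!
# The coefficient ideal cutting out "ideals" in a Grassmannian of an algebra (seat 68)

For an `R`-algebra `B`, an `R`-algebra `A` and a submodule `N ⊆ A ⊗[R] B` with projective quotient,
`coeffIdeal N` is the ideal of `A` such that the base change of `N` along `φ : A → C` is stable
under multiplication by the elements `1 ⊗ b` exactly when `φ` kills `coeffIdeal N`.
-/

set_option autoImplicit false
universe u

namespace Groth.Agent.Lib.Seat68.GrassIdeal

open TensorProduct Module

section proj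

variable {A C Q : Type*} [CommRing A] [CommRing C] [Algebra A C] [AddCommGroup Q] [Module A Q]

lemma tmul_eq_zero_of_forall [Module.Projective A Q] (q : Q)
    (h : ∀ l : Q →ₗ[A] A, algebraMap A C (l q) = 0) : ((1 : C) ⊗ₜ[A] q = 0) := by
  obtain ⟨s, hs⟩ := Module.Projective.out (R := A) (P := Q)
  have hq : q = Finsupp.linearCombination A id (s q) := (hs q).symm
  rw [hq, Finsupp.linearCombination_apply, Finsupp.sum, tmul_sum]
  apply Finset.sum_eq_zero
  intro p _
  have h1 : algebraMap A C ((s q) p) = 0 := h ((Finsupp.lapply p).comp s)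
  rw [id, tmul_smul, smul_tmul', Algebra.smul_def, mul_one, h1, zero_tmul]

lemma forall_of_tmul_eq_zero (q : Q) (h : (1 : C) ⊗ₜ[A] q = 0) (l : Q →ₗ[A] A) :
    algebraMap A C (l q) = 0 := by
  have h1 := congrArg (fun t => TensorProduct.rid A C (l.lTensor C t)) h
  simp only [LinearMap.lTensor_tmul, TensorProduct.rid_tmul, map_zero] at h1
  rwa [Algebra.smul_def, mul_one] at h1

end proj

section core

variable {R : Type u} [CommRing R] {B : Type u} [Ring B] [Algebra R B]
variable {A : Type u} [CommRing A] [Algebra R A]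

/-- stability under multiplication by the elements `1 ⊗ b`. -/
def IsIdealLike (N : Submodule A (A ⊗[R] B)) : Prop :=
  ∀ (b : B) (x : A ⊗[R] B), x ∈ N → ((1 : A) ⊗ₜ[R] b) * x ∈ N

/-- the coefficient ideal. -/
def coeffIdeal (N : Submodule A (A ⊗[R] B)) : Ideal A :=
  Ideal.span {a | ∃ (l : ((A ⊗[R] B) ⧸ N) →ₗ[A] A) (b : B) (x : A ⊗[R] B), x ∈ N ∧
    a = l (N.mkQ (((1 : A) ⊗ₜ[R] b) * x))}

section tower

variable {C : Type u} [CommRing C] [Algebra R C] [Algebra A C] [IsScalarTower R A C]

variable (R B A C) in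
/-- the base change map `A ⊗ B → C ⊗ B`. -/
noncomputable def bc : A ⊗[R] B →ₐ[R] C ⊗[R] B :=
  Algebra.TensorProduct.map (IsScalarTower.toAlgHom R A C) (AlgHom.id R B)

@[simp] lemma bc_tmul (a : A) (b : B) : bc R B A C (a ⊗ₜ[R] b) = algebraMap A C a ⊗ₜ[R] b := by
  simp [bc]

lemma cancel_tmul (c : C) (z : A ⊗[R] B) :
    AlgebraTensorModule.cancelBaseChange R A C C B (c ⊗ₜ[A] z) = c • bc R B A C z := by
  induction z using TensorProduct.induction_on with
  | zero => simp
  | tmul a b =>
    rw [AlgebraTensorModule.cancelBaseChange_tmul, bc_tmul, smul_tmul', Algebra.smul_def,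
      smul_eq_mul, mul_comm]
  | add x y hx hy => rw [tmul_add, map_add, hx, hy, map_add, smul_add]

lemma baseChangeMkQ_bc (N : Submodule A (A ⊗[R] B)) (z : A ⊗[R] B) :
    Grassmannian.baseChangeMkQ C N (bc R B A C z) = (1 : C) ⊗ₜ[A] N.mkQ z := by
  induction z using TensorProduct.induction_on with
  | zero => simp
  | tmul a b =>
    rw [bc_tmul]
    simp only [Grassmannian.baseChangeMkQ, LinearMap.coe_comp, LinearEquiv.coe_coe,
      Function.comp_apply, AlgebraTensorModule.cancelBaseChange_symm_tmul,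
      LinearMap.baseChange_tmul]
    rw [Algebra.algebraMap_eq_smul_one, TensorProduct.smul_tmul, ← map_smul, smul_tmul',
      smul_eq_mul, mul_one]
  | add x y hx hy => rw [map_add, map_add, hx, hy, map_add, tmul_add]

lemma ker_baseChangeMkQ (N : Submodule A (A ⊗[R] B)) :
    LinearMap.ker (Grassmannian.baseChangeMkQ C N) = Submodule.span C (bc R B A C '' N) := by
  apply le_antisymm
  · intro w hw
    rw [LinearMap.mem_ker] at hw
    simp only [Grassmannian.baseChangeMkQ, LinearMap.coe_comp, LinearEquiv.coe_coe,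
      Function.comp_apply] at hw
    have hex : Function.Exact (N.subtype.lTensor C) (N.mkQ.lTensor C) :=
      lTensor_exact C (LinearMap.exact_subtype_mkQ N) (Submodule.mkQ_surjective N)
    have hw' : (N.mkQ.lTensor C) ((AlgebraTensorModule.cancelBaseChange R A C C B).symm w) = 0 := by
      rw [← hw, LinearMap.baseChange_eq_ltensor]
    obtain ⟨y, hy⟩ := (hex _).mp hw'
    have hwy : w = AlgebraTensorModule.cancelBaseChange R A C C B (N.subtype.lTensor C y) := by
      rw [hy, LinearEquiv.apply_symm_apply]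
    rw [hwy]
    clear hwy hy hw' hw
    induction y using TensorProduct.induction_on with
    | zero => simp
    | tmul c n =>
      rw [LinearMap.lTensor_tmul, cancel_tmul]
      exact Submodule.smul_mem _ _ (Submodule.subset_span ⟨n.1, n.2, rfl⟩)
    | add x y hx hy =>
      rw [map_add, map_add]
      exact Submodule.add_mem _ hx hy
  · rw [Submodule.span_le]
    rintro _ ⟨z, hz, rfl⟩
    rw [SetLike.mem_coe, LinearMap.mem_ker, baseChangeMkQ_bc]
    have : N.mkQ z = 0 := by rw [Submodule.mkQ_apply, Submodule.Quotient.mk_eq_zero]; exact hz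
    rw [this, tmul_zero]

lemma isIdealLike_ker_iff (N : Submodule A (A ⊗[R] B)) [Module.Projective A ((A ⊗[R] B) ⧸ N)] :
    IsIdealLike (LinearMap.ker (Grassmannian.baseChangeMkQ C N)) ↔
      coeffIdeal N ≤ RingHom.ker (algebraMap A C) := by
  constructor
  · intro h
    unfold coeffIdeal
    rw [Ideal.span_le]
    rintro _ ⟨l, b, x, hx, rfl⟩
    rw [SetLike.mem_coe, RingHom.mem_ker]
    apply forall_of_tmul_eq_zero
    rw [← baseChangeMkQ_bc, ← LinearMap.mem_ker, map_mul]
    have h1 : bc R B A C x ∈ LinearMap.ker (Grassmannian.baseChangeMkQ C N) := by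
      rw [ker_baseChangeMkQ]
      exact Submodule.subset_span ⟨x, hx, rfl⟩
    have h2 := h b _ h1
    rwa [show bc R B A C ((1 : A) ⊗ₜ[R] b) = (1 : C) ⊗ₜ[R] b by rw [bc_tmul, map_one]]
  · intro h b x hx
    rw [ker_baseChangeMkQ] at hx ⊢
    induction hx using Submodule.span_induction with
    | mem x hx =>
      obtain ⟨z, hz, rfl⟩ := hx
      have e1 : ((1 : C) ⊗ₜ[R] b) * bc R B A C z = bc R B A C (((1 : A) ⊗ₜ[R] b) * z) := by
        rw [map_mul, bc_tmul, map_one]
      rw [e1, ← ker_baseChangeMkQ, LinearMap.mem_ker, baseChangeMkQ_bc]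
      apply tmul_eq_zero_of_forall
      intro l
      rw [← RingHom.mem_ker]
      apply h
      exact Ideal.subset_span ⟨l, b, z, hz, rfl⟩
    | zero => rw [mul_zero]; exact Submodule.zero_mem _
    | add x y _ _ hx hy => rw [mul_add]; exact Submodule.add_mem _ hx hy
    | smul c x _ hx => rw [Algebra.mul_smul_comm]; exact Submodule.smul_mem _ _ hx

end tower

variable {C : Type u} [CommRing C] [Algebra R C] {e : ℕ}

/-- **(P)** the base change of `N` along `φ` is stable under `1 ⊗ b` iff `φ` kills the coefficient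
ideal of `N`. -/
theorem isIdealLike_map_iff (N : Grassmannian A (A ⊗[R] B) e) (φ : A →ₐ[R] C) :
    IsIdealLike (Grassmannian.map φ N).toSubmodule ↔
      coeffIdeal N.toSubmodule ≤ RingHom.ker (φ : A →+* C) := by
  letI : Algebra A C := φ.toAlgebra
  haveI : IsScalarTower R A C := IsScalarTower.of_algebraMap_eq (fun r => (φ.commutes r).symm)
  exact isIdealLike_ker_iff (C := C) N.toSubmodule

theorem isIdealLike_iff_coeffIdeal_eq_bot (N : Grassmannian A (A ⊗[R] B) e) :
    IsIdealLike N.toSubmodule ↔ coeffIdeal N.toSubmodule = ⊥ := by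
  have h := isIdealLike_map_iff N (AlgHom.id R A)
  have h1 : Grassmannian.map (AlgHom.id R A) N = N :=
    Grassmannian.map_id (R := R) (M := B) e (CommAlgCat.of R A) N
  rw [h1] at h
  rw [h, ← le_bot_iff]
  have : RingHom.ker ((AlgHom.id R A : A →ₐ[R] A) : A →+* A) = ⊥ := by
    ext a; simp [RingHom.mem_ker]
  rw [this]

theorem coeffIdeal_map (N : Grassmannian A (A ⊗[R] B) e) (φ : A →ₐ[R] C) :
    coeffIdeal (Grassmannian.map φ N).toSubmodule = (coeffIdeal N.toSubmodule).map (φ : A →+* C) := by
  apply le_antisymm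
  · set J := (coeffIdeal N.toSubmodule).map (φ : A →+* C) with hJ
    have hker : RingHom.ker ((Ideal.Quotient.mkₐ R J : C →ₐ[R] C ⧸ J) : C →+* C ⧸ J) = J := by
      ext c; simp [RingHom.mem_ker, Ideal.Quotient.eq_zero_iff_mem]
    rw [← hker, ← isIdealLike_map_iff, ← Grassmannian.map_comp, isIdealLike_map_iff]
    intro a ha
    rw [RingHom.mem_ker]
    change Ideal.Quotient.mk J (φ a) = 0
    rw [Ideal.Quotient.eq_zero_iff_mem]
    exact Ideal.mem_map_of_mem _ ha
  · set J' := coeffIdeal (Grassmannian.map φ N).toSubmodule with hJ'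
    have hker : RingHom.ker ((Ideal.Quotient.mkₐ R J' : C →ₐ[R] C ⧸ J') : C →+* C ⧸ J') = J' := by
      ext c; simp [RingHom.mem_ker, Ideal.Quotient.eq_zero_iff_mem]
    rw [Ideal.map_le_iff_le_comap]
    have h1 : coeffIdeal N.toSubmodule ≤
        RingHom.ker (((Ideal.Quotient.mkₐ R J').comp φ : A →ₐ[R] C ⧸ J') : A →+* C ⧸ J') := by
      rw [← isIdealLike_map_iff, Grassmannian.map_comp, isIdealLike_map_iff, hker]
    intro a ha
    have h2 := h1 ha
    rw [RingHom.mem_ker] at h2
    change Ideal.Quotient.mk J' (φ a) = 0 at h2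
    rw [Ideal.Quotient.eq_zero_iff_mem] at h2
    exact h2

end core

end Groth.Agent.Lib.Seat68.GrassIdeal
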