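import Mathlib
import Groth.Agent.Lib.Seat68GrassIdeal

/-!
# Algebra of Grassmannian points of a module: locality, preimage along a surjection (seat 68)
-/

set_option autoImplicit false
set_option linter.style.haveILetI false
universe u

namespace Groth.Agent.Lib.Seat68.GrassAlg

open TensorProduct Module
open Groth.Agent.Lib.Seat68.GrassIdeal (tmul_eq_zero_of_forall forall_of_tmul_eq_zero)

section proj

variable {A Q : Type*} [CommRing A] [AddCommGroup Q] [Module A Q]

lemma eq_zero_of_forall_dual [Module.Projective A Q] (q : Q)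
    (h : ∀ l : Q →ₗ[A] A, l q = 0) : q = 0 := by
  obtain ⟨s, hs⟩ := Module.Projective.out (R := A) (P := Q)
  have hq : q = Finsupp.linearCombination A id (s q) := (hs q).symm
  rw [hq, Finsupp.linearCombination_apply, Finsupp.sum]
  apply Finset.sum_eq_zero
  intro p _
  have h1 : (s q) p = 0 := h ((Finsupp.lapply p).comp s)
  rw [h1, zero_smul]

end proj

section core

variable {R : Type u} [CommRing R] {M : Type u} [AddCommGroup M] [Module R M]
variable {A : Type u} [CommRing A] [Algebra R A] {C : Type u} [CommRing C] [Algebra R C]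

/-- the base change map `A ⊗ M → C ⊗ M` -/
noncomputable def bcM (φ : A →ₐ[R] C) : A ⊗[R] M →ₗ[R] C ⊗[R] M :=
  LinearMap.rTensor M φ.toLinearMap

@[simp] lemma bcM_tmul (φ : A →ₐ[R] C) (a : A) (m : M) :
    bcM φ (a ⊗ₜ[R] m) = φ a ⊗ₜ[R] m := rfl

section tower

variable [Algebra A C] [IsScalarTower R A C]

lemma baseChangeMkQ_bcM (N : Submodule A (A ⊗[R] M)) (z : A ⊗[R] M) :
    Grassmannian.baseChangeMkQ C N (bcM (IsScalarTower.toAlgHom R A C) z) =
      (1 : C) ⊗ₜ[A] N.mkQ z := by
  induction z using TensorProduct.induction_on with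
  | zero => simp
  | tmul a b =>
    rw [bcM_tmul]
    simp only [Grassmannian.baseChangeMkQ, LinearMap.coe_comp, LinearEquiv.coe_coe,
      Function.comp_apply, AlgebraTensorModule.cancelBaseChange_symm_tmul,
      LinearMap.baseChange_tmul, IsScalarTower.coe_toAlgHom']
    rw [Algebra.algebraMap_eq_smul_one, TensorProduct.smul_tmul, ← map_smul, smul_tmul',
      smul_eq_mul, mul_one]
  | add x y hx hy => rw [map_add, map_add, hx, hy, map_add, tmul_add]

end tower

variable {k : ℕ}

/-- membership in the base change of a Grassmannian point, tested on images of elements. -/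
lemma bcM_mem_map_iff (N : Grassmannian A (A ⊗[R] M) k) (φ : A →ₐ[R] C) (z : A ⊗[R] M) :
    bcM φ z ∈ (Grassmannian.map φ N).toSubmodule ↔
      ∀ l : ((A ⊗[R] M) ⧸ N.toSubmodule) →ₗ[A] A, φ (l (N.toSubmodule.mkQ z)) = 0 := by
  letI : Algebra A C := φ.toAlgebra
  haveI : IsScalarTower R A C := IsScalarTower.of_algebraMap_eq (fun r => (φ.commutes r).symm)
  have e1 : (IsScalarTower.toAlgHom R A C) = φ := AlgHom.ext fun _ => rfl
  change bcM φ z ∈ LinearMap.ker (Grassmannian.baseChangeMkQ C N.toSubmodule) ↔ _
  rw [LinearMap.mem_ker, ← e1, baseChangeMkQ_bcM]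
  constructor
  · intro h l
    exact forall_of_tmul_eq_zero (C := C) _ h l
  · intro h
    exact tmul_eq_zero_of_forall (C := C) _ h

lemma bcM_mem_map_of_mem (N : Grassmannian A (A ⊗[R] M) k) (φ : A →ₐ[R] C) (z : A ⊗[R] M)
    (hz : z ∈ N.toSubmodule) : bcM φ z ∈ (Grassmannian.map φ N).toSubmodule := by
  rw [bcM_mem_map_iff]
  intro l
  have : N.toSubmodule.mkQ z = 0 := by
    rw [Submodule.mkQ_apply, Submodule.Quotient.mk_eq_zero]; exact hz
  rw [this, map_zero, map_zero]

/-- **Locality**: a Grassmannian point is determined by its base changes along a jointly injective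
family of algebra maps. -/
lemma le_of_forall_map_eq (N N' : Grassmannian A (A ⊗[R] M) k)
    (H : ∀ a : A, a ≠ 0 → ∃ (C : Type u) (_ : CommRing C) (_ : Algebra R C) (φ : A →ₐ[R] C),
      φ a ≠ 0 ∧ Grassmannian.map φ N = Grassmannian.map φ N') :
    N'.toSubmodule ≤ N.toSubmodule := by
  intro z hz
  have h0 : N.toSubmodule.mkQ z = 0 := by
    apply eq_zero_of_forall_dual (A := A)
    intro l
    by_contra hne
    obtain ⟨C, _, _, φ, hφ, hmap⟩ := H _ hne
    have h1 := bcM_mem_map_of_mem N' φ z hz
    rw [← hmap, bcM_mem_map_iff] at h1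
    exact hφ (h1 l)
  rwa [Submodule.mkQ_apply, Submodule.Quotient.mk_eq_zero] at h0

lemma eq_of_forall_map_eq (N N' : Grassmannian A (A ⊗[R] M) k)
    (H : ∀ a : A, a ≠ 0 → ∃ (C : Type u) (_ : CommRing C) (_ : Algebra R C) (φ : A →ₐ[R] C),
      φ a ≠ 0 ∧ Grassmannian.map φ N = Grassmannian.map φ N') :
    N = N' := by
  apply Grassmannian.ext
  apply le_antisymm
  · apply le_of_forall_map_eq N' N
    intro a ha
    obtain ⟨C, i1, i2, φ, hφ, hmap⟩ := H a ha
    exact ⟨C, i1, i2, φ, hφ, hmap.symm⟩
  · exact le_of_forall_map_eq N N' H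

end core

section surj

variable {R : Type u} [CommRing R] {M₁ M₂ : Type u} [AddCommGroup M₁] [Module R M₁]
  [AddCommGroup M₂] [Module R M₂] (v : M₁ →ₗ[R] M₂)
variable {A : Type u} [CommRing A] [Algebra R A] {C : Type u} [CommRing C] [Algebra R C] {k : ℕ}

lemma baseChange_surjective (hv : Function.Surjective v) :
    Function.Surjective (v.baseChange A) := LinearMap.baseChange_surjective A hv

/-- the quotient by the preimage is the quotient -/
noncomputable def quotEquiv (hv : Function.Surjective v) (N : Submodule A (A ⊗[R] M₂)) :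
    ((A ⊗[R] M₁) ⧸ N.comap (v.baseChange A)) ≃ₗ[A] ((A ⊗[R] M₂) ⧸ N) :=
  (Submodule.quotEquivOfEq _ _ (by rw [LinearMap.ker_comp, Submodule.ker_mkQ])).trans
    ((N.mkQ ∘ₗ v.baseChange A).quotKerEquivOfSurjective
      ((Submodule.mkQ_surjective N).comp (baseChange_surjective v hv)))

lemma quotEquiv_mk (hv : Function.Surjective v) (N : Submodule A (A ⊗[R] M₂)) (x : A ⊗[R] M₁) :
    quotEquiv v hv N ((N.comap (v.baseChange A)).mkQ x) = N.mkQ (v.baseChange A x) := rfl

/-- preimage of a Grassmannian point along a surjection -/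
noncomputable def pre (hv : Function.Surjective v) (N : Grassmannian A (A ⊗[R] M₂) k) :
    Grassmannian A (A ⊗[R] M₁) k where
  toSubmodule := N.toSubmodule.comap (v.baseChange A)
  finite_quotient := Module.Finite.equiv (quotEquiv v hv N.toSubmodule).symm
  projective_quotient := Module.Projective.of_equiv (quotEquiv v hv N.toSubmodule).symm
  rankAtStalk_eq p := by
    rw [Module.rankAtStalk_eq_of_equiv (quotEquiv v hv N.toSubmodule)]
    exact N.rankAtStalk_eq p

@[simp] lemma pre_toSubmodule (hv : Function.Surjective v) (N : Grassmannian A (A ⊗[R] M₂) k) :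
    (pre v hv N).toSubmodule = N.toSubmodule.comap (v.baseChange A) := rfl

lemma pre_injective (hv : Function.Surjective v) :
    Function.Injective (pre (A := A) (k := k) v hv) := by
  intro N N' h
  apply Grassmannian.ext
  have h1 := congrArg (fun N => N.toSubmodule.map (v.baseChange A)) h
  simp only [pre_toSubmodule] at h1
  rwa [Submodule.map_comap_eq_of_surjective (baseChange_surjective v hv),
    Submodule.map_comap_eq_of_surjective (baseChange_surjective v hv)] at h1

/-- the closed condition: the submodule contains the kernel of `A ⊗ v`. -/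
def Contains (N : Grassmannian A (A ⊗[R] M₁) k) : Prop :=
  LinearMap.ker (v.baseChange A) ≤ N.toSubmodule

lemma contains_pre (hv : Function.Surjective v) (N : Grassmannian A (A ⊗[R] M₂) k) :
    Contains v (pre v hv N) := by
  intro x hx
  rw [pre_toSubmodule, Submodule.mem_comap, LinearMap.mem_ker.mp hx]
  exact Submodule.zero_mem _

/-- image of a Grassmannian point containing the kernel -/
noncomputable def img (hv : Function.Surjective v) (N : Grassmannian A (A ⊗[R] M₁) k)
    (h : Contains v N) : Grassmannian A (A ⊗[R] M₂) k :=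
  have hc : (N.toSubmodule.map (v.baseChange A)).comap (v.baseChange A) = N.toSubmodule := by
    rw [Submodule.comap_map_eq, sup_eq_left]; exact h
  let E : ((A ⊗[R] M₁) ⧸ N.toSubmodule) ≃ₗ[A]
      ((A ⊗[R] M₂) ⧸ N.toSubmodule.map (v.baseChange A)) :=
    (Submodule.quotEquivOfEq _ _ hc.symm).trans (quotEquiv v hv _)
  { toSubmodule := N.toSubmodule.map (v.baseChange A)
    finite_quotient := Module.Finite.equiv E
    projective_quotient := Module.Projective.of_equiv E
    rankAtStalk_eq := fun p => by
      rw [← Module.rankAtStalk_eq_of_equiv E]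
      exact N.rankAtStalk_eq p }

lemma pre_img (hv : Function.Surjective v) (N : Grassmannian A (A ⊗[R] M₁) k)
    (h : Contains v N) : pre v hv (img v hv N h) = N := by
  apply Grassmannian.ext
  change (N.toSubmodule.map (v.baseChange A)).comap (v.baseChange A) = N.toSubmodule
  rw [Submodule.comap_map_eq, sup_eq_left]; exact h

lemma img_pre (hv : Function.Surjective v) (N : Grassmannian A (A ⊗[R] M₂) k) :
    img v hv (pre v hv N) (contains_pre v hv N) = N :=
  pre_injective v hv (pre_img v hv _ _)

/-- naturality of `pre` -/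
lemma pre_map (hv : Function.Surjective v) (N : Grassmannian A (A ⊗[R] M₂) k) (φ : A →ₐ[R] C) :
    pre v hv (Grassmannian.map φ N) = Grassmannian.map φ (pre v hv N) := by
  letI : Algebra A C := φ.toAlgebra
  haveI : IsScalarTower R A C := IsScalarTower.of_algebraMap_eq (fun r => (φ.commutes r).symm)
  apply Grassmannian.ext
  change (LinearMap.ker (Grassmannian.baseChangeMkQ C N.toSubmodule)).comap (v.baseChange C) =
    LinearMap.ker (Grassmannian.baseChangeMkQ C (N.toSubmodule.comap (v.baseChange A)))
  have hcomp : (Grassmannian.baseChangeMkQ C N.toSubmodule) ∘ₗ (v.baseChange C) =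
      ((quotEquiv v hv N.toSubmodule).baseChange A C _ _).toLinearMap ∘ₗ
        (Grassmannian.baseChangeMkQ C (N.toSubmodule.comap (v.baseChange A))) := by
    apply LinearMap.ext
    intro z
    induction z using TensorProduct.induction_on with
    | zero => simp
    | tmul c m =>
      simp only [Grassmannian.baseChangeMkQ, LinearMap.coe_comp, LinearEquiv.coe_coe,
        Function.comp_apply, LinearMap.baseChange_tmul,
        AlgebraTensorModule.cancelBaseChange_symm_tmul, LinearEquiv.baseChange_tmul]
      rw [quotEquiv_mk, LinearMap.baseChange_tmul]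
    | add x y hx hy => rw [map_add, map_add, hx, hy]
  rw [← LinearMap.ker_comp, hcomp, LinearEquiv.ker_comp]

lemma contains_map_of_contains (hv : Function.Surjective v) (N : Grassmannian A (A ⊗[R] M₁) k)
    (h : Contains v N) (φ : A →ₐ[R] C) : Contains v (Grassmannian.map φ N) := by
  rw [← pre_img v hv N h, ← pre_map]
  exact contains_pre v hv _

/-- naturality of `img` -/
lemma img_map (hv : Function.Surjective v) (N : Grassmannian A (A ⊗[R] M₁) k)
    (h : Contains v N) (φ : A →ₐ[R] C) (h' : Contains v (Grassmannian.map φ N)) :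
    img v hv (Grassmannian.map φ N) h' = Grassmannian.map φ (img v hv N h) := by
  apply pre_injective v hv
  rw [pre_img, pre_map, pre_img]

/-- the kernel of `A ⊗ v` is spanned by `1 ⊗ m`, `m ∈ ker v`. -/
lemma ker_baseChange_eq_span (hv : Function.Surjective v) :
    LinearMap.ker (v.baseChange A) =
      Submodule.span A ((fun m : M₁ => (1 : A) ⊗ₜ[R] m) '' (LinearMap.ker v : Set M₁)) := by
  apply le_antisymm
  · intro x hx
    have hex : Function.Exact ((LinearMap.ker v).subtype.lTensor A) (v.lTensor A) :=
      lTensor_exact A (LinearMap.exact_subtype_ker_map v) hv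
    have hx' : v.lTensor A x = 0 := by
      rw [← LinearMap.baseChange_eq_ltensor]; exact hx
    obtain ⟨y, rfl⟩ := (hex _).mp hx'
    clear hx hx'
    induction y using TensorProduct.induction_on with
    | zero => simp
    | tmul a m =>
      rw [LinearMap.lTensor_tmul]
      have : a ⊗ₜ[R] ((LinearMap.ker v).subtype m) = a • ((1 : A) ⊗ₜ[R] (m : M₁)) := by
        rw [smul_tmul', smul_eq_mul, mul_one]; rfl
      rw [this]
      exact Submodule.smul_mem _ _ (Submodule.subset_span ⟨m.1, m.2, rfl⟩)
    | add x y hx hy =>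
      rw [map_add]
      exact Submodule.add_mem _ hx hy
  · rw [Submodule.span_le]
    rintro _ ⟨m, hm, rfl⟩
    rw [SetLike.mem_coe, LinearMap.mem_ker, LinearMap.baseChange_tmul, LinearMap.mem_ker.mp hm,
      tmul_zero]

/-- the coefficient ideal of the condition `Contains`. -/
def coeffIdeal (N : Grassmannian A (A ⊗[R] M₁) k) : Ideal A :=
  Ideal.span {a | ∃ (l : ((A ⊗[R] M₁) ⧸ N.toSubmodule) →ₗ[A] A) (m : M₁), m ∈ LinearMap.ker v ∧
    a = l (N.toSubmodule.mkQ ((1 : A) ⊗ₜ[R] m))}

theorem contains_map_iff (hv : Function.Surjective v) (N : Grassmannian A (A ⊗[R] M₁) k)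
    (φ : A →ₐ[R] C) :
    Contains v (Grassmannian.map φ N) ↔ coeffIdeal v N ≤ RingHom.ker (φ : A →+* C) := by
  constructor
  · intro h
    unfold coeffIdeal
    rw [Ideal.span_le]
    rintro _ ⟨l, m, hm, rfl⟩
    rw [SetLike.mem_coe, RingHom.mem_ker]
    have h1 : bcM φ ((1 : A) ⊗ₜ[R] m) ∈ (Grassmannian.map φ N).toSubmodule := by
      apply h
      rw [bcM_tmul, map_one, LinearMap.mem_ker, LinearMap.baseChange_tmul,
        LinearMap.mem_ker.mp hm, tmul_zero]
    exact (bcM_mem_map_iff N φ _).mp h1 l
  · intro h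
    unfold Contains
    rw [ker_baseChange_eq_span v hv, Submodule.span_le]
    rintro _ ⟨m, hm, rfl⟩
    have h1 : bcM φ ((1 : A) ⊗ₜ[R] m) ∈ (Grassmannian.map φ N).toSubmodule := by
      rw [bcM_mem_map_iff]
      intro l
      have : l (N.toSubmodule.mkQ ((1 : A) ⊗ₜ[R] m)) ∈ coeffIdeal v N :=
        Ideal.subset_span ⟨l, m, hm, rfl⟩
      exact h this
    rwa [bcM_tmul, map_one] at h1

end surj

end Groth.Agent.Lib.Seat68.GrassAlg
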