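import Mathlib
import Groth.Agent.Lib.Seat68GrassIdeal

/-!
# The Hilbert functor of points is a closed subfunctor of the Grassmannian (seat 68)
-/

set_option autoImplicit false
universe u
open CategoryTheory AlgebraicGeometry TensorProduct

namespace Groth.Agent.Lib.Seat68.GrassHilb

open Groth.Agent.Lib.Seat68.GrassIdeal

variable {R : Type u} [CommRing R]

/-- The over-object `Spec A`. -/
noncomputable abbrev ov (A : CommAlgCat.{u} R) : Over (Spec (CommRingCat.of R)) :=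
  Over.mk (Spec.map (CommRingCat.ofHom (algebraMap R A)))

section sections

variable (Y : Over (Spec (CommRingCat.of R))) (V : Y.left.affineOpens)

/-- the structure ring map `R → Γ(Y, V)` -/
noncomputable def ρ : CommRingCat.of R ⟶ Γ(Y.left, V.1) := Spec.preimage (V.2.fromSpec ≫ Y.hom)

lemma Spec_map_ρ : Spec.map (ρ Y V) = V.2.fromSpec ≫ Y.hom := Spec.map_preimage _

/-- the `R`-algebra structure on `Γ(Y, V)` -/
@[reducible] noncomputable def algΓ : Algebra R Γ(Y.left, V.1) := (ρ Y V).hom.toAlgebra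

/-- `Γ(Y, V)` as an `R`-algebra -/
noncomputable def ΓA : CommAlgCat.{u} R :=
  letI : Algebra R Γ(Y.left, V.1) := algΓ Y V
  CommAlgCat.of R Γ(Y.left, V.1)

/-- the point `Spec Γ(Y, V) → Y` -/
noncomputable def pt : ov (ΓA Y V) ⟶ Y :=
  Over.homMk (U := ov (ΓA Y V)) (V := Y) V.2.fromSpec (Spec_map_ρ Y V).symm

lemma pt_left : (pt Y V).left = V.2.fromSpec := rfl

lemma algebraMap_ΓA : (algebraMap R (ΓA Y V) : R →+* (ΓA Y V)) = (ρ Y V).hom := rfl

end sections

section maps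

variable {Y Y' : Over (Spec (CommRingCat.of R))} (h : Y ⟶ Y')

lemma ρ_comp_appLE (U : Y'.left.affineOpens) (V : Y.left.affineOpens)
    (hVU : V.1 ≤ h.left ⁻¹ᵁ U.1) : ρ Y' U ≫ h.left.appLE U.1 V.1 hVU = ρ Y V := by
  apply Spec.map_injective
  rw [Spec.map_comp, Spec_map_ρ, Spec_map_ρ, ← Category.assoc,
    IsAffineOpen.SpecMap_appLE_fromSpec h.left U.2 V.2 hVU, Category.assoc, Over.w]

/-- `appLE` as a morphism of `R`-algebras -/
noncomputable def appLEA (U : Y'.left.affineOpens) (V : Y.left.affineOpens)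
    (hVU : V.1 ≤ h.left ⁻¹ᵁ U.1) : ΓA Y' U ⟶ ΓA Y V :=
  letI : Algebra R Γ(Y'.left, U.1) := algΓ Y' U
  letI : Algebra R Γ(Y.left, V.1) := algΓ Y V
  CommAlgCat.ofHom (R := R) (X := Γ(Y'.left, U.1)) (Y := Γ(Y.left, V.1))
    { (h.left.appLE U.1 V.1 hVU).hom with
       commutes' := fun r => by
         have := congr($(ρ_comp_appLE h U V hVU) r)
         exact this }

lemma appLEA_apply (U : Y'.left.affineOpens) (V : Y.left.affineOpens)
    (hVU : V.1 ≤ h.left ⁻¹ᵁ U.1) (a : Γ(Y'.left, U.1)) :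
    (appLEA h U V hVU).hom a = (h.left.appLE U.1 V.1 hVU).hom a := rfl

lemma pt_comp_left (U : Y'.left.affineOpens) (V : Y.left.affineOpens)
    (hVU : V.1 ≤ h.left ⁻¹ᵁ U.1) :
    (pt Y V ≫ h).left =
      Spec.map (CommRingCat.ofHom (appLEA h U V hVU).hom.toRingHom) ≫ (pt Y' U).left := by
  rw [Over.comp_left, pt_left, pt_left]
  exact (IsAffineOpen.SpecMap_appLE_fromSpec h.left U.2 V.2 hVU).symm

end maps

section resmaps

variable (Y : Over (Spec (CommRingCat.of R)))

lemma ρ_comp_map (U V : Y.left.affineOpens) (f : Opposite.op U.1 ⟶ Opposite.op V.1) :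
    ρ Y U ≫ Y.left.presheaf.map f = ρ Y V := by
  apply Spec.map_injective
  rw [Spec.map_comp, Spec_map_ρ, Spec_map_ρ, ← Category.assoc,
    IsAffineOpen.map_fromSpec U.2 V.2 f]

/-- restriction as a morphism of `R`-algebras -/
noncomputable def resA (U V : Y.left.affineOpens) (f : Opposite.op U.1 ⟶ Opposite.op V.1) :
    ΓA Y U ⟶ ΓA Y V :=
  letI : Algebra R Γ(Y.left, U.1) := algΓ Y U
  letI : Algebra R Γ(Y.left, V.1) := algΓ Y V
  CommAlgCat.ofHom (R := R) (X := Γ(Y.left, U.1)) (Y := Γ(Y.left, V.1))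
    { (Y.left.presheaf.map f).hom with
       commutes' := fun r => by
         have := congr($(ρ_comp_map Y U V f) r)
         exact this }

lemma resA_apply (U V : Y.left.affineOpens) (f : Opposite.op U.1 ⟶ Opposite.op V.1)
    (a : Γ(Y.left, U.1)) : (resA Y U V f).hom a = (Y.left.presheaf.map f).hom a := rfl

lemma pt_left_resA (U V : Y.left.affineOpens) (f : Opposite.op U.1 ⟶ Opposite.op V.1) :
    (pt Y V).left =
      Spec.map (CommRingCat.ofHom (resA Y U V f).hom.toRingHom) ≫ (pt Y U).left := by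
  rw [pt_left, pt_left]
  exact (IsAffineOpen.map_fromSpec U.2 V.2 f).symm

end resmaps

section affine

variable (A : CommAlgCat.{u} R) (V : (ov A).left.affineOpens)

/-- the ring map `A → Γ(Spec A, V)` -/
noncomputable def α : CommRingCat.of A ⟶ Γ((ov A).left, V.1) :=
  (Scheme.ΓSpecIso (CommRingCat.of A)).inv ≫
    (Spec (CommRingCat.of A)).presheaf.map (homOfLE (le_top : V.1 ≤ ⊤)).op

lemma Spec_map_α : Spec.map (α A V) = V.2.fromSpec := by
  unfold α
  rw [Spec.map_comp, ← IsAffineOpen.map_fromSpec (isAffineOpen_top (Spec (CommRingCat.of A))) V.2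
    (homOfLE (le_top : V.1 ≤ ⊤)).op, IsAffineOpen.fromSpec_top, Scheme.isoSpec_Spec_inv]

lemma algebraMap_comp_α : CommRingCat.ofHom (algebraMap R A) ≫ α A V = ρ (ov A) V := by
  apply Spec.map_injective
  rw [Spec.map_comp, Spec_map_ρ, Spec_map_α]
  rfl

/-- `α` as a morphism of `R`-algebras -/
noncomputable def αA : A ⟶ ΓA (ov A) V :=
  letI : Algebra R Γ((ov A).left, V.1) := algΓ (ov A) V
  CommAlgCat.ofHom (R := R) (X := A) (Y := Γ((ov A).left, V.1))
    { (α A V).hom with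
       commutes' := fun r => by
         have := congr($(algebraMap_comp_α A V) r)
         exact this }

lemma αA_apply (a : A) : (αA A V).hom a = (α A V).hom a := rfl

lemma pt_comp_left_αA {X : Over (Spec (CommRingCat.of R))} (g : ov A ⟶ X) :
    (pt (ov A) V ≫ g).left =
      Spec.map (CommRingCat.ofHom (αA A V).hom.toRingHom) ≫ g.left := by
  rw [Over.comp_left, pt_left]
  exact congrArg (· ≫ g.left) (Spec_map_α A V).symm

/-- joint injectivity of the `α` for an affine open cover. -/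
lemma eq_zero_of_forall_α (a : A)
    (H : ∀ x : (ov A).left, ∃ V : (ov A).left.affineOpens, x ∈ V.1 ∧ (α A V).hom a = 0) :
    a = 0 := by
  have h1 : (Scheme.ΓSpecIso (CommRingCat.of A)).inv.hom a = 0 := by
    refine (Spec (CommRingCat.of A)).IsSheaf.section_ext (U := Opposite.op ⊤) fun x _ => ?_
    obtain ⟨V, hxV, hV⟩ := H x
    refine ⟨V.1, le_top, hxV, ?_⟩
    rw [map_zero]
    exact hV
  have h2 := congrArg (Scheme.ΓSpecIso (CommRingCat.of A)).hom.hom h1
  rw [map_zero] at h2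
  simpa using h2

end affine

section main

variable {B : Type u} [Ring B] [Algebra R B] {e : ℕ} {X : Over (Spec (CommRingCat.of R))}
  (eX : ∀ A : CommAlgCat.{u} R,
    (ov A ⟶ X) ≃ (Module.Grassmannian.functor (R := R) (M := B) e).obj A)
  (heX : ∀ (A C : CommAlgCat.{u} R) (φ : A ⟶ C) (g : ov A ⟶ X) (g' : ov C ⟶ X),
    g'.left = Spec.map (CommRingCat.ofHom φ.hom.toRingHom) ≫ g.left →
      eX C g' = (Module.Grassmannian.functor (R := R) (M := B) e).map φ (eX A g))

/-- the Grassmannian point attached to a morphism -/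
noncomputable def gr (A : CommAlgCat.{u} R) (g : ov A ⟶ X) :
    Module.Grassmannian A (A ⊗[R] B) e := eX A g

/-- the universal submodule over an affine open -/
noncomputable def NU (U : X.left.affineOpens) :
    Module.Grassmannian (ΓA X U) ((ΓA X U) ⊗[R] B) e := gr eX (ΓA X U) (pt X U)

/-- the ideal of the Hilbert locus in an affine open -/
noncomputable def I (U : X.left.affineOpens) : Ideal Γ(X.left, U.1) :=
  letI : Algebra R Γ(X.left, U.1) := algΓ X U
  coeffIdeal (R := R) (B := B) (A := Γ(X.left, U.1)) (NU eX U).toSubmodule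

include heX

lemma gr_eq_map (A C : CommAlgCat.{u} R) (φ : A ⟶ C) (g : ov A ⟶ X) (g' : ov C ⟶ X)
    (h : g'.left = Spec.map (CommRingCat.ofHom φ.hom.toRingHom) ≫ g.left) :
    gr eX C g' = Module.Grassmannian.map φ.hom (gr eX A g) := heX A C φ g g' h

lemma gr_pt_comp {Y : Over (Spec (CommRingCat.of R))} (g : Y ⟶ X) (U : X.left.affineOpens)
    (V : Y.left.affineOpens) (hVU : V.1 ≤ g.left ⁻¹ᵁ U.1) :
    gr eX (ΓA Y V) (pt Y V ≫ g) = Module.Grassmannian.map (appLEA g U V hVU).hom (NU eX U) :=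
  gr_eq_map eX heX _ _ (appLEA g U V hVU) (pt X U) (pt Y V ≫ g) (pt_comp_left g U V hVU)

lemma gr_pt_comp_αA (A : CommAlgCat.{u} R) (g : ov A ⟶ X) (V : (ov A).left.affineOpens) :
    gr eX (ΓA (ov A) V) (pt (ov A) V ≫ g) = Module.Grassmannian.map (αA A V).hom (gr eX A g) :=
  gr_eq_map eX heX _ _ (αA A V) g (pt (ov A) V ≫ g) (pt_comp_left_αA A V g)

lemma I_le_ker_appLE_iff {Y : Over (Spec (CommRingCat.of R))} (g : Y ⟶ X)
    (U : X.left.affineOpens) (V : Y.left.affineOpens) (hVU : V.1 ≤ g.left ⁻¹ᵁ U.1) :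
    I eX U ≤ RingHom.ker (g.left.appLE U.1 V.1 hVU).hom ↔
      IsIdealLike (gr eX (ΓA Y V) (pt Y V ≫ g)).toSubmodule := by
  rw [gr_pt_comp eX heX g U V hVU, isIdealLike_map_iff]
  rfl

lemma isIdealLike_αA_iff (A : CommAlgCat.{u} R) (g : ov A ⟶ X) (V : (ov A).left.affineOpens) :
    IsIdealLike (gr eX (ΓA (ov A) V) (pt (ov A) V ≫ g)).toSubmodule ↔
      coeffIdeal (gr eX A g).toSubmodule ≤ RingHom.ker (α A V).hom := by
  rw [gr_pt_comp_αA eX heX A g V, isIdealLike_map_iff]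
  rfl

/-- (II) -/
lemma I_le_ker_appLE_of_isIdealLike (A : CommAlgCat.{u} R) (g : ov A ⟶ X)
    (hg : IsIdealLike (gr eX A g).toSubmodule)
    (U : X.left.affineOpens) (V : (ov A).left.affineOpens) (hVU : V.1 ≤ g.left ⁻¹ᵁ U.1) :
    I eX U ≤ RingHom.ker (g.left.appLE U.1 V.1 hVU).hom := by
  rw [I_le_ker_appLE_iff eX heX g U V hVU, isIdealLike_αA_iff eX heX A g V,
    (isIdealLike_iff_coeffIdeal_eq_bot _).mp hg]
  exact bot_le

lemma I_le_ker_app_of_isIdealLike (A : CommAlgCat.{u} R) (g : ov A ⟶ X)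
    (hg : IsIdealLike (gr eX A g).toSubmodule) (U : X.left.affineOpens) :
    I eX U ≤ RingHom.ker (g.left.app U.1).hom := by
  intro a ha
  rw [RingHom.mem_ker]
  refine (ov A).left.IsSheaf.section_ext fun x hx => ?_
  obtain ⟨_, ⟨V, hV, rfl⟩, hxV, hVU⟩ := (ov A).left.isBasis_affineOpens.exists_subset_of_mem_open
    (show x ∈ (g.left ⁻¹ᵁ U.1 : Set (ov A).left) from hx) (g.left ⁻¹ᵁ U.1).2
  refine ⟨V, hVU, hxV, ?_⟩
  rw [map_zero]
  exact I_le_ker_appLE_of_isIdealLike eX heX A g hg U ⟨V, hV⟩ hVU ha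

/-- (I) -/
lemma isIdealLike_of_forall (A : CommAlgCat.{u} R) (g : ov A ⟶ X)
    (H : ∀ (U : X.left.affineOpens) (V : (ov A).left.affineOpens) (hVU : V.1 ≤ g.left ⁻¹ᵁ U.1),
      I eX U ≤ RingHom.ker (g.left.appLE U.1 V.1 hVU).hom) :
    IsIdealLike (gr eX A g).toSubmodule := by
  rw [isIdealLike_iff_coeffIdeal_eq_bot, eq_bot_iff]
  intro a ha
  rw [Ideal.mem_bot]
  apply eq_zero_of_forall_α A a
  intro x
  obtain ⟨_, ⟨U, hU, rfl⟩, hxU, -⟩ := X.left.isBasis_affineOpens.exists_subset_of_mem_open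
    (Set.mem_univ (g.left x)) isOpen_univ
  obtain ⟨_, ⟨V, hV, rfl⟩, hxV, hVU⟩ := (ov A).left.isBasis_affineOpens.exists_subset_of_mem_open
    (show x ∈ (g.left ⁻¹ᵁ U : Set (ov A).left) from hxU) (g.left ⁻¹ᵁ U).2
  refine ⟨⟨V, hV⟩, hxV, ?_⟩
  have h1 := (I_le_ker_appLE_iff eX heX g ⟨U, hU⟩ ⟨V, hV⟩ hVU).mp (H ⟨U, hU⟩ ⟨V, hV⟩ hVU)
  have h2 := (isIdealLike_αA_iff eX heX A g ⟨V, hV⟩).mp h1
  exact h2 ha

lemma map_I_basicOpen (U : X.left.affineOpens) (f : Γ(X.left, U.1)) :
    (I eX U).map (X.left.presheaf.map (homOfLE (X.left.basicOpen_le f)).op).hom =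
      I eX (X.left.affineBasicOpen f) := by
  have h1 : NU eX (X.left.affineBasicOpen f) =
      Module.Grassmannian.map (resA X U (X.left.affineBasicOpen f)
        (homOfLE (X.left.basicOpen_le f)).op).hom (NU eX U) :=
    gr_eq_map eX heX _ _ (resA X U (X.left.affineBasicOpen f)
      (homOfLE (X.left.basicOpen_le f)).op) (pt X U) (pt X (X.left.affineBasicOpen f))
      (pt_left_resA X U (X.left.affineBasicOpen f) (homOfLE (X.left.basicOpen_le f)).op)
  change Ideal.map ((resA X U (X.left.affineBasicOpen f)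
      (homOfLE (X.left.basicOpen_le f)).op).hom : (ΓA X U) →+* (ΓA X (X.left.affineBasicOpen f)))
      (coeffIdeal (NU eX U).toSubmodule) =
    coeffIdeal (NU eX (X.left.affineBasicOpen f)).toSubmodule
  rw [h1, coeffIdeal_map]

/-- the ideal sheaf of the Hilbert locus -/
noncomputable def idealSheaf : X.left.IdealSheafData where
  ideal U := I eX U
  map_ideal_basicOpen U f := map_I_basicOpen eX heX U f

theorem main : ∃ (Z : Scheme.{u}) (ι : Z ⟶ X.left), IsClosedImmersion ι ∧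
    ∀ (A : CommAlgCat.{u} R) (g : ov A ⟶ X),
      (∃ h : (ov A).left ⟶ Z, h ≫ ι = g.left) ↔ IsIdealLike (gr eX A g).toSubmodule := by
  obtain ⟨𝓙, h𝓙⟩ : ∃ 𝓙 : X.left.IdealSheafData, 𝓙 = idealSheaf eX heX := ⟨_, rfl⟩
  refine ⟨𝓙.subscheme, 𝓙.subschemeι, inferInstance, fun A g => ⟨?_, ?_⟩⟩
  · rintro ⟨h, hh⟩
    apply isIdealLike_of_forall eX heX A g
    intro U V hVU
    have h1 : 𝓙 ≤ g.left.ker := by
      rw [← hh]
      conv_lhs => rw [← Scheme.IdealSheafData.ker_subschemeι 𝓙]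
      exact Scheme.Hom.le_ker_comp h 𝓙.subschemeι
    have h2 : I eX U ≤ RingHom.ker (g.left.app U.1).hom := by
      have := (Scheme.IdealSheafData.le_def.mp h1 U).trans (Scheme.Hom.ideal_ker_le g.left U)
      rwa [h𝓙] at this
    intro a ha
    have h3 := h2 ha
    rw [RingHom.mem_ker] at h3 ⊢
    rw [Scheme.Hom.appLE, CommRingCat.comp_apply, h3, map_zero]
  · intro hg
    refine ⟨IsClosedImmersion.lift 𝓙.subschemeι g.left ?_, IsClosedImmersion.lift_fac _ _ _⟩
    rw [Scheme.IdealSheafData.ker_subschemeι]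
    change 𝓙 ≤ Scheme.IdealSheafData.ofIdeals _
    rw [Scheme.IdealSheafData.le_ofIdeals_iff]
    intro U
    rw [h𝓙]
    exact I_le_ker_app_of_isIdealLike eX heX A g hg U

end main

end Groth.Agent.Lib.Seat68.GrassHilb
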