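import Mathlib
import Groth.Agent.Lib.Seat68GrassHilb
import Groth.Agent.Lib.Seat68GrassAlg

/-!
# Schemes representing a Grassmannian functor on affine schemes: Yoneda-type tools (seat 68)

For `X` over `Spec R` with bijections `e A : (Spec A ⟶ X) ≃ G(k, A ⊗ M; A)` natural in `A`:
* `gp_ext_local`: Grassmannian points are determined locally on `Spec A`;
* `hom_ext_pt`: morphisms over `Spec R` are determined by the points `Spec Γ(Y, W) ⟶ Y`;
* `exists_hom_of_natural`: a natural family of Grassmannian points on the affine points of `Y`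
  comes from a morphism `Y ⟶ X`;
* `exists_closed_of_cond`: a condition on Grassmannian points controlled by a coefficient ideal is
  represented by a closed subscheme.
-/

set_option autoImplicit false
set_option linter.style.haveILetI false
set_option backward.isDefEq.respectTransparency false
universe u
open CategoryTheory AlgebraicGeometry TensorProduct

namespace Groth.Agent.Lib.Seat68.GrassRep

open Groth.Agent.Lib.Seat68.GrassHilb Groth.Agent.Lib.Seat68.GrassAlg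

variable {R : Type u} [CommRing R]

/-- the morphism `Spec C ⟶ Spec A` over `Spec R` of an algebra map. -/
noncomputable def ovMap {A C : CommAlgCat.{u} R} (φ : A ⟶ C) : ov C ⟶ ov A :=
  Over.homMk (U := ov C) (V := ov A) (Spec.map (CommRingCat.ofHom φ.hom.toRingHom)) (by
    change Spec.map _ ≫ Spec.map _ = Spec.map _
    rw [← Spec.map_comp]
    congr 1
    ext r
    exact φ.hom.commutes r)

lemma ovMap_left {A C : CommAlgCat.{u} R} (φ : A ⟶ C) :
    (ovMap φ).left = Spec.map (CommRingCat.ofHom φ.hom.toRingHom) := rfl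

/-- morphisms over `Spec R` are determined by the affine-open points. -/
lemma hom_ext_pt {Y X : Over (Spec (CommRingCat.of R))} (a b : Y ⟶ X)
    (H : ∀ W : Y.left.affineOpens, pt Y W ≫ a = pt Y W ≫ b) : a = b := by
  apply Over.OverMorphism.ext
  apply Y.left.directedAffineCover.hom_ext
  intro (W : Y.left.affineOpens)
  change W.1.ι ≫ a.left = W.1.ι ≫ b.left
  have h1 : W.2.fromSpec ≫ a.left = W.2.fromSpec ≫ b.left :=
    congrArg (fun t => t.left) (H W)
  rw [← IsAffineOpen.isoSpec_hom_fromSpec W.2, Category.assoc, Category.assoc, h1]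

/-- locality of Grassmannian points on `Spec A`. -/
lemma gp_ext_local {M : Type u} [AddCommGroup M] [Module R M] {k : ℕ} (A : CommAlgCat.{u} R)
    (N N' : Module.Grassmannian A (A ⊗[R] M) k)
    (H : ∀ x : (ov A).left, ∃ V : (ov A).left.affineOpens, x ∈ V.1 ∧
      Module.Grassmannian.map (αA A V).hom N = Module.Grassmannian.map (αA A V).hom N') :
    N = N' := by
  apply eq_of_forall_map_eq
  intro a ha
  by_contra hcon
  apply ha
  apply eq_zero_of_forall_α A a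
  intro x
  obtain ⟨V, hxV, hV⟩ := H x
  refine ⟨V, hxV, ?_⟩
  by_contra hne
  exact hcon ⟨ΓA (ov A) V, inferInstance, inferInstance, (αA A V).hom, hne, hV⟩

section rep

variable {M : Type u} [AddCommGroup M] [Module R M] {k : ℕ} {X : Over (Spec (CommRingCat.of R))}
  (e : ∀ A : CommAlgCat.{u} R,
    (ov A ⟶ X) ≃ (Module.Grassmannian.functor (R := R) (M := M) k).obj A)
  (he : ∀ (A C : CommAlgCat.{u} R) (φ : A ⟶ C) (g : ov A ⟶ X) (g' : ov C ⟶ X),
    g'.left = Spec.map (CommRingCat.ofHom φ.hom.toRingHom) ≫ g.left →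
      e C g' = (Module.Grassmannian.functor (R := R) (M := M) k).map φ (e A g))

/-- the Grassmannian point attached to a morphism -/
noncomputable def gp (A : CommAlgCat.{u} R) (g : ov A ⟶ X) :
    Module.Grassmannian A (A ⊗[R] M) k := e A g

lemma gp_injective (A : CommAlgCat.{u} R) : Function.Injective (gp e A) := (e A).injective

/-- the morphism attached to a Grassmannian point -/
noncomputable def ofGp (A : CommAlgCat.{u} R) (N : Module.Grassmannian A (A ⊗[R] M) k) :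
    ov A ⟶ X := (e A).symm N

lemma gp_ofGp (A : CommAlgCat.{u} R) (N : Module.Grassmannian A (A ⊗[R] M) k) :
    gp e A (ofGp e A N) = N := (e A).apply_symm_apply N

include he

lemma gp_eq_map (A C : CommAlgCat.{u} R) (φ : A ⟶ C) (g : ov A ⟶ X) (g' : ov C ⟶ X)
    (h : g'.left = Spec.map (CommRingCat.ofHom φ.hom.toRingHom) ≫ g.left) :
    gp e C g' = Module.Grassmannian.map φ.hom (gp e A g) := he A C φ g g' h

lemma gp_comp_eq_map {Y : Over (Spec (CommRingCat.of R))} (A C : CommAlgCat.{u} R) (φ : A ⟶ C)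
    (g : ov A ⟶ Y) (g' : ov C ⟶ Y)
    (h : g'.left = Spec.map (CommRingCat.ofHom φ.hom.toRingHom) ≫ g.left) (c : Y ⟶ X) :
    gp e C (g' ≫ c) = Module.Grassmannian.map φ.hom (gp e A (g ≫ c)) :=
  gp_eq_map e he A C φ (g ≫ c) (g' ≫ c) (by
    rw [Over.comp_left, Over.comp_left, h, Category.assoc])

lemma gp_ovMap_comp (A C : CommAlgCat.{u} R) (φ : A ⟶ C) (g : ov A ⟶ X) :
    gp e C (ovMap φ ≫ g) = Module.Grassmannian.map φ.hom (gp e A g) :=
  gp_eq_map e he A C φ g (ovMap φ ≫ g) rfl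

lemma gp_pt_comp {Y : Over (Spec (CommRingCat.of R))} (g : Y ⟶ X) (U : X.left.affineOpens)
    (V : Y.left.affineOpens) (hVU : V.1 ≤ g.left ⁻¹ᵁ U.1) :
    gp e (ΓA Y V) (pt Y V ≫ g) =
      Module.Grassmannian.map (appLEA g U V hVU).hom (gp e (ΓA X U) (pt X U)) :=
  gp_eq_map e he _ _ (appLEA g U V hVU) (pt X U) (pt Y V ≫ g) (pt_comp_left g U V hVU)

lemma gp_pt_comp_comp {Y Y' : Over (Spec (CommRingCat.of R))} (g : Y ⟶ Y') (c : Y' ⟶ X)
    (U : Y'.left.affineOpens) (V : Y.left.affineOpens) (hVU : V.1 ≤ g.left ⁻¹ᵁ U.1) :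
    gp e (ΓA Y V) (pt Y V ≫ g ≫ c) =
      Module.Grassmannian.map (appLEA g U V hVU).hom (gp e (ΓA Y' U) (pt Y' U ≫ c)) := by
  rw [← Category.assoc]
  exact gp_comp_eq_map e he _ _ (appLEA g U V hVU) (pt Y' U) (pt Y V ≫ g)
    (pt_comp_left g U V hVU) c

lemma gp_pt_comp_αA (A : CommAlgCat.{u} R) (g : ov A ⟶ X) (V : (ov A).left.affineOpens) :
    gp e (ΓA (ov A) V) (pt (ov A) V ≫ g) = Module.Grassmannian.map (αA A V).hom (gp e A g) :=
  gp_eq_map e he _ _ (αA A V) g (pt (ov A) V ≫ g) (pt_comp_left_αA A V g)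

/-- **Yoneda on affine points**: a natural family of Grassmannian points on the affine points of
`Y` is induced by a morphism `Y ⟶ X`. -/
theorem exists_hom_of_natural (Y : Over (Spec (CommRingCat.of R)))
    (Φ : ∀ A : CommAlgCat.{u} R, (ov A ⟶ Y) → Module.Grassmannian A (A ⊗[R] M) k)
    (hΦ : ∀ (A C : CommAlgCat.{u} R) (φ : A ⟶ C) (g : ov A ⟶ Y) (g' : ov C ⟶ Y),
      g'.left = Spec.map (CommRingCat.ofHom φ.hom.toRingHom) ≫ g.left →
        Φ C g' = Module.Grassmannian.map φ.hom (Φ A g)) :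
    ∃ c : Y ⟶ X, ∀ (A : CommAlgCat.{u} R) (g : ov A ⟶ Y), gp e A (g ≫ c) = Φ A g := by
  -- the local pieces
  let cW : ∀ W : Y.left.affineOpens, ov (ΓA Y W) ⟶ X := fun W => ofGp e _ (Φ _ (pt Y W))
  have hcW : ∀ (W W' : Y.left.affineOpens) (f : Opposite.op W'.1 ⟶ Opposite.op W.1),
      ovMap (resA Y W' W f) ≫ cW W' = cW W := by
    intro W W' f
    apply gp_injective e
    rw [gp_ovMap_comp e he, gp_ofGp, gp_ofGp]
    exact (hΦ _ _ (resA Y W' W f) (pt Y W') (pt Y W) (pt_left_resA Y W' W f)).symm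
  have hg1 : ∀ (W W' : Y.left.affineOpens) (hle : W ≤ W'),
      Y.left.homOfLE hle ≫ (IsAffineOpen.isoSpec W'.2).hom ≫ (cW W').left =
        (IsAffineOpen.isoSpec W.2).hom ≫ (cW W).left := by
    intro W W' hle
    have h1 : Spec.map (CommRingCat.ofHom (resA Y W' W (homOfLE hle).op).hom.toRingHom) ≫
        (cW W').left = (cW W).left := congrArg (fun t => t.left) (hcW W W' (homOfLE hle).op)
    rw [← h1, ← Category.assoc, ← Category.assoc]
    congr 1
    rw [← cancel_mono W'.2.fromSpec, Category.assoc, IsAffineOpen.isoSpec_hom_fromSpec,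
      Scheme.homOfLE_ι, Category.assoc]
    have h2 : Spec.map (CommRingCat.ofHom (resA Y W' W (homOfLE hle).op).hom.toRingHom) ≫
        W'.2.fromSpec = W.2.fromSpec := IsAffineOpen.map_fromSpec W'.2 W.2 (homOfLE hle).op
    rw [h2, IsAffineOpen.isoSpec_hom_fromSpec]
  have hg2 : ∀ W : Y.left.affineOpens,
      ((IsAffineOpen.isoSpec W.2).hom ≫ (cW W).left) ≫ X.hom = W.1.ι ≫ Y.hom := by
    intro W
    rw [Category.assoc, Over.w (cW W), ← IsAffineOpen.isoSpec_hom_fromSpec W.2, Category.assoc]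
    congr 1
    exact Spec_map_ρ Y W
  let gW : ∀ W : Y.left.directedAffineCover.I₀, Y.left.directedAffineCover.X W ⟶ X.left :=
    fun (W : Y.left.affineOpens) => (IsAffineOpen.isoSpec (U := W.1) W.2).hom ≫ (cW W).left
  have hgW : ∀ {W W' : Y.left.directedAffineCover.I₀} (hij : W ⟶ W'),
      Y.left.directedAffineCover.trans hij ≫ gW W' = gW W :=
    fun {W W'} hij => hg1 W W' (leOfHom hij)
  have hw : ∀ W, gW W ≫ X.hom = Y.left.directedAffineCover.f W ≫ Y.hom := fun W => hg2 W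
  let c : Y ⟶ X := Scheme.OpenCover.glueMorphismsOverOfLocallyDirected
    Y.left.directedAffineCover gW hgW hw
  have hc : ∀ W : Y.left.affineOpens, pt Y W ≫ c = cW W := by
    intro W
    apply Over.OverMorphism.ext
    have h1 : W.1.ι ≫ c.left = (IsAffineOpen.isoSpec W.2).hom ≫ (cW W).left :=
      Scheme.OpenCover.map_glueMorphismsOverOfLocallyDirected_left
        Y.left.directedAffineCover gW hgW hw W
    rw [Over.comp_left, pt_left, ← IsAffineOpen.isoSpec_inv_ι, Category.assoc, h1,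
      Iso.inv_hom_id_assoc]
  refine ⟨c, fun A g => ?_⟩
  apply gp_ext_local
  intro x
  obtain ⟨_, ⟨W, hW, rfl⟩, hxW, -⟩ := Y.left.isBasis_affineOpens.exists_subset_of_mem_open
    (Set.mem_univ (g.left x)) isOpen_univ
  obtain ⟨_, ⟨V, hV, rfl⟩, hxV, hVW⟩ := (ov A).left.isBasis_affineOpens.exists_subset_of_mem_open
    (show x ∈ (g.left ⁻¹ᵁ W : Set (ov A).left) from hxW) (g.left ⁻¹ᵁ W).2
  refine ⟨⟨V, hV⟩, hxV, ?_⟩
  rw [← gp_pt_comp_αA e he A (g ≫ c) ⟨V, hV⟩,
    gp_pt_comp_comp e he g c ⟨W, hW⟩ ⟨V, hV⟩ hVW, hc, gp_ofGp,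
    ← hΦ _ _ (appLEA g ⟨W, hW⟩ ⟨V, hV⟩ hVW) (pt Y ⟨W, hW⟩) (pt (ov A) ⟨V, hV⟩ ≫ g)
      (pt_comp_left g ⟨W, hW⟩ ⟨V, hV⟩ hVW)]
  exact hΦ _ _ (αA A ⟨V, hV⟩) g (pt (ov A) ⟨V, hV⟩ ≫ g) (pt_comp_left_αA A ⟨V, hV⟩ g)

end rep

section cond

variable {M : Type u} [AddCommGroup M] [Module R M] {k : ℕ} {X : Over (Spec (CommRingCat.of R))}
  (e : ∀ A : CommAlgCat.{u} R,
    (ov A ⟶ X) ≃ (Module.Grassmannian.functor (R := R) (M := M) k).obj A)
  (he : ∀ (A C : CommAlgCat.{u} R) (φ : A ⟶ C) (g : ov A ⟶ X) (g' : ov C ⟶ X),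
    g'.left = Spec.map (CommRingCat.ofHom φ.hom.toRingHom) ≫ g.left →
      e C g' = (Module.Grassmannian.functor (R := R) (M := M) k).map φ (e A g))
  (Cnd : ∀ A : CommAlgCat.{u} R, Module.Grassmannian A (A ⊗[R] M) k → Prop)
  (J : ∀ A : CommAlgCat.{u} R, Module.Grassmannian A (A ⊗[R] M) k → Ideal A)
  (hP : ∀ (A C : CommAlgCat.{u} R) (φ : A ⟶ C) (N : Module.Grassmannian A (A ⊗[R] M) k),
    Cnd C (Module.Grassmannian.map φ.hom N) ↔ J A N ≤ RingHom.ker (φ.hom : A →+* C))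

include hP in
lemma cnd_iff_bot (A : CommAlgCat.{u} R) (N : Module.Grassmannian A (A ⊗[R] M) k) :
    Cnd A N ↔ J A N = ⊥ := by
  have h := hP A A (𝟙 A) N
  have h1 : Module.Grassmannian.map (𝟙 A : A ⟶ A).hom N = N :=
    Module.Grassmannian.map_id (R := R) (M := M) k A N
  rw [h1] at h
  rw [h, ← le_bot_iff]
  have : RingHom.ker ((𝟙 A : A ⟶ A).hom : A →+* A) = ⊥ := by
    ext a; simp [RingHom.mem_ker]
  rw [this]

include hP in
lemma J_map (A C : CommAlgCat.{u} R) (φ : A ⟶ C) (N : Module.Grassmannian A (A ⊗[R] M) k) :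
    J C (Module.Grassmannian.map φ.hom N) = (J A N).map (φ.hom : A →+* C) := by
  apply le_antisymm
  · set I := (J A N).map (φ.hom : A →+* C) with hI
    let π : C ⟶ CommAlgCat.of R (C ⧸ I) := CommAlgCat.ofHom (Ideal.Quotient.mkₐ R I)
    have hker : RingHom.ker (π.hom : C →+* (C ⧸ I)) = I := by
      ext c
      rw [RingHom.mem_ker]
      exact Ideal.Quotient.eq_zero_iff_mem
    have hcomp : Module.Grassmannian.map π.hom (Module.Grassmannian.map φ.hom N) =
        Module.Grassmannian.map (φ ≫ π).hom N :=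
      (Module.Grassmannian.map_comp k φ.hom π.hom N).symm
    rw [← hker, ← hP C _ π, hcomp, hP A _ (φ ≫ π)]
    intro a ha
    rw [RingHom.mem_ker]
    change Ideal.Quotient.mk I (φ.hom a) = 0
    rw [Ideal.Quotient.eq_zero_iff_mem]
    exact Ideal.mem_map_of_mem _ ha
  · set I' := J C (Module.Grassmannian.map φ.hom N) with hI'
    let π : C ⟶ CommAlgCat.of R (C ⧸ I') := CommAlgCat.ofHom (Ideal.Quotient.mkₐ R I')
    have hker : RingHom.ker (π.hom : C →+* (C ⧸ I')) = I' := by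
      ext c
      rw [RingHom.mem_ker]
      exact Ideal.Quotient.eq_zero_iff_mem
    have hcomp : Module.Grassmannian.map π.hom (Module.Grassmannian.map φ.hom N) =
        Module.Grassmannian.map (φ ≫ π).hom N :=
      (Module.Grassmannian.map_comp k φ.hom π.hom N).symm
    rw [Ideal.map_le_iff_le_comap]
    have h1 : J A N ≤ RingHom.ker ((φ ≫ π).hom : A →+* (C ⧸ I')) := by
      rw [← hP A _ (φ ≫ π), ← hcomp, hP C _ π, hker]
    intro a ha
    have h2 := h1 ha
    rw [RingHom.mem_ker] at h2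
    change Ideal.Quotient.mk I' (φ.hom a) = 0 at h2
    rw [Ideal.Quotient.eq_zero_iff_mem] at h2
    exact h2

/-- the ideal of the locus of `Cnd` in an affine open -/
noncomputable def Iof (U : X.left.affineOpens) : Ideal Γ(X.left, U.1) :=
  letI : Algebra R Γ(X.left, U.1) := algΓ X U
  (J (ΓA X U) (gp e (ΓA X U) (pt X U)) : Ideal (ΓA X U))

include he hP

lemma Iof_le_ker_appLE_iff {Y : Over (Spec (CommRingCat.of R))} (g : Y ⟶ X)
    (U : X.left.affineOpens) (V : Y.left.affineOpens) (hVU : V.1 ≤ g.left ⁻¹ᵁ U.1) :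
    Iof e J U ≤ RingHom.ker (g.left.appLE U.1 V.1 hVU).hom ↔
      Cnd (ΓA Y V) (gp e (ΓA Y V) (pt Y V ≫ g)) := by
  rw [gp_pt_comp e he g U V hVU, hP]
  rfl

lemma cnd_αA_iff (A : CommAlgCat.{u} R) (g : ov A ⟶ X) (V : (ov A).left.affineOpens) :
    Cnd (ΓA (ov A) V) (gp e (ΓA (ov A) V) (pt (ov A) V ≫ g)) ↔
      J A (gp e A g) ≤ RingHom.ker (α A V).hom := by
  rw [gp_pt_comp_αA e he A g V, hP]
  rfl

lemma cnd_pt_of_cnd (A : CommAlgCat.{u} R) (g : ov A ⟶ X) (hg : Cnd A (gp e A g))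
    (V : (ov A).left.affineOpens) :
    Cnd (ΓA (ov A) V) (gp e (ΓA (ov A) V) (pt (ov A) V ≫ g)) := by
  rw [cnd_αA_iff e he Cnd J hP A g V, (cnd_iff_bot Cnd J hP A _).mp hg]
  exact bot_le

lemma Iof_le_ker_app_of_forall {Y : Over (Spec (CommRingCat.of R))} (g : Y ⟶ X)
    (H : ∀ V : Y.left.affineOpens, Cnd (ΓA Y V) (gp e (ΓA Y V) (pt Y V ≫ g)))
    (U : X.left.affineOpens) :
    Iof e J U ≤ RingHom.ker (g.left.app U.1).hom := by
  intro a ha
  rw [RingHom.mem_ker]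
  refine Y.left.IsSheaf.section_ext fun x hx => ?_
  obtain ⟨_, ⟨V, hV, rfl⟩, hxV, hVU⟩ := Y.left.isBasis_affineOpens.exists_subset_of_mem_open
    (show x ∈ (g.left ⁻¹ᵁ U.1 : Set Y.left) from hx) (g.left ⁻¹ᵁ U.1).2
  refine ⟨V, hVU, hxV, ?_⟩
  rw [map_zero]
  exact (Iof_le_ker_appLE_iff e he Cnd J hP g U ⟨V, hV⟩ hVU).mpr (H ⟨V, hV⟩) ha

lemma cnd_of_forall_le (A : CommAlgCat.{u} R) (g : ov A ⟶ X)
    (H : ∀ (U : X.left.affineOpens) (V : (ov A).left.affineOpens) (hVU : V.1 ≤ g.left ⁻¹ᵁ U.1),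
      Iof e J U ≤ RingHom.ker (g.left.appLE U.1 V.1 hVU).hom) :
    Cnd A (gp e A g) := by
  rw [cnd_iff_bot Cnd J hP, eq_bot_iff]
  intro a ha
  rw [Ideal.mem_bot]
  apply eq_zero_of_forall_α A a
  intro x
  obtain ⟨_, ⟨U, hU, rfl⟩, hxU, -⟩ := X.left.isBasis_affineOpens.exists_subset_of_mem_open
    (Set.mem_univ (g.left x)) isOpen_univ
  obtain ⟨_, ⟨V, hV, rfl⟩, hxV, hVU⟩ := (ov A).left.isBasis_affineOpens.exists_subset_of_mem_open
    (show x ∈ (g.left ⁻¹ᵁ U : Set (ov A).left) from hxU) (g.left ⁻¹ᵁ U).2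
  refine ⟨⟨V, hV⟩, hxV, ?_⟩
  have h1 := (Iof_le_ker_appLE_iff e he Cnd J hP g ⟨U, hU⟩ ⟨V, hV⟩ hVU).mp
    (H ⟨U, hU⟩ ⟨V, hV⟩ hVU)
  have h2 := (cnd_αA_iff e he Cnd J hP A g ⟨V, hV⟩).mp h1
  exact h2 ha

lemma map_Iof_basicOpen (U : X.left.affineOpens) (f : Γ(X.left, U.1)) :
    (Iof e J U).map (X.left.presheaf.map (homOfLE (X.left.basicOpen_le f)).op).hom =
      Iof e J (X.left.affineBasicOpen f) := by
  have h1 : gp e _ (pt X (X.left.affineBasicOpen f)) =
      Module.Grassmannian.map (resA X U (X.left.affineBasicOpen f)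
        (homOfLE (X.left.basicOpen_le f)).op).hom (gp e _ (pt X U)) :=
    gp_eq_map e he _ _ (resA X U (X.left.affineBasicOpen f)
      (homOfLE (X.left.basicOpen_le f)).op) (pt X U) (pt X (X.left.affineBasicOpen f))
      (pt_left_resA X U (X.left.affineBasicOpen f) (homOfLE (X.left.basicOpen_le f)).op)
  change Ideal.map ((resA X U (X.left.affineBasicOpen f)
      (homOfLE (X.left.basicOpen_le f)).op).hom : (ΓA X U) →+* (ΓA X (X.left.affineBasicOpen f)))
      (J (ΓA X U) (gp e (ΓA X U) (pt X U))) =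
    J (ΓA X (X.left.affineBasicOpen f)) (gp e _ (pt X (X.left.affineBasicOpen f)))
  rw [h1, J_map Cnd J hP]

/-- the ideal sheaf of the locus of `Cnd` -/
noncomputable def idealSheaf : X.left.IdealSheafData where
  ideal U := Iof e J U
  map_ideal_basicOpen U f := map_Iof_basicOpen e he Cnd J hP U f

/-- **A condition controlled by a coefficient ideal is represented by a closed subscheme.** -/
theorem exists_closed_of_cond : ∃ (Z : Scheme.{u}) (ι : Z ⟶ X.left), IsClosedImmersion ι ∧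
    (∀ (A : CommAlgCat.{u} R) (g : ov A ⟶ X),
      (∃ h : (ov A).left ⟶ Z, h ≫ ι = g.left) ↔ Cnd A (gp e A g)) ∧
    (∀ (Y : Over (Spec (CommRingCat.of R))) (g : Y ⟶ X),
      (∀ V : Y.left.affineOpens, Cnd (ΓA Y V) (gp e (ΓA Y V) (pt Y V ≫ g))) →
        ∃ h : Y.left ⟶ Z, h ≫ ι = g.left) := by
  obtain ⟨𝓙, h𝓙⟩ : ∃ 𝓙 : X.left.IdealSheafData, 𝓙 = idealSheaf e he Cnd J hP := ⟨_, rfl⟩
  have key : ∀ (Y : Over (Spec (CommRingCat.of R))) (g : Y ⟶ X),
      (∀ V : Y.left.affineOpens, Cnd (ΓA Y V) (gp e (ΓA Y V) (pt Y V ≫ g))) →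
        ∃ h : Y.left ⟶ 𝓙.subscheme, h ≫ 𝓙.subschemeι = g.left := by
    intro Y g H
    refine ⟨IsClosedImmersion.lift 𝓙.subschemeι g.left ?_, IsClosedImmersion.lift_fac _ _ _⟩
    rw [Scheme.IdealSheafData.ker_subschemeι]
    change 𝓙 ≤ Scheme.IdealSheafData.ofIdeals _
    rw [Scheme.IdealSheafData.le_ofIdeals_iff]
    intro U
    rw [h𝓙]
    exact Iof_le_ker_app_of_forall e he Cnd J hP g H U
  refine ⟨𝓙.subscheme, 𝓙.subschemeι, inferInstance, fun A g => ⟨?_, ?_⟩, key⟩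
  · rintro ⟨h, hh⟩
    apply cnd_of_forall_le e he Cnd J hP A g
    intro U V hVU
    have h1 : 𝓙 ≤ g.left.ker := by
      rw [← hh]
      conv_lhs => rw [← Scheme.IdealSheafData.ker_subschemeι 𝓙]
      exact Scheme.Hom.le_ker_comp h 𝓙.subschemeι
    have h2 : Iof e J U ≤ RingHom.ker (g.left.app U.1).hom := by
      have := (Scheme.IdealSheafData.le_def.mp h1 U).trans (Scheme.Hom.ideal_ker_le g.left U)
      rwa [h𝓙] at this
    intro a ha
    have h3 := h2 ha
    rw [RingHom.mem_ker] at h3 ⊢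
    rw [Scheme.Hom.appLE, CommRingCat.comp_apply, h3, map_zero]
  · intro hg
    exact key (ov A) g (cnd_pt_of_cnd e he Cnd J hP A g hg)

end cond

end Groth.Agent.Lib.Seat68.GrassRep
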