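import Mathlib
import Groth.Agent.Lib.Seat68GrassRep

/-!
# Yoneda on affine points for schemes over `Spec R` (seat 37)

For `X Y : Over (Spec R)`:
* `hom_ext_local`: morphisms `Spec A ⟶ X` over `Spec R` agree if they agree on an affine open
  cover of `Spec A`;
* `exists_hom_of_natural`: a family of maps `(Spec A ⟶ Y) → (Spec A ⟶ X)` natural in the
  `R`-algebra `A` is composition with a morphism `Y ⟶ X`;
* `exists_iso_of_natural_equiv`: a natural family of bijections comes from an isomorphism.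
Built on helper68's `ov`, `pt`, `ovMap` (`Seat68GrassHilb`, `Seat68GrassRep`).
-/

set_option autoImplicit false
set_option linter.style.haveILetI false
set_option backward.isDefEq.respectTransparency false
universe u
open CategoryTheory AlgebraicGeometry

namespace Groth.Agent.Lib.Seat37.AffYoneda

open Groth.Agent.Lib.Seat68.GrassHilb Groth.Agent.Lib.Seat68.GrassRep

variable {R : Type u} [CommRing R]

/-- a morphism over `Spec R` out of `Spec C` whose underlying map is `Spec φ ≫ g` is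
`ovMap φ ≫ g` -/
lemma eq_ovMap_comp {X : Over (Spec (CommRingCat.of R))} {A C : CommAlgCat.{u} R} (φ : A ⟶ C)
    (g : ov A ⟶ X) (g' : ov C ⟶ X)
    (h : g'.left = Spec.map (CommRingCat.ofHom φ.hom.toRingHom) ≫ g.left) :
    g' = ovMap φ ≫ g := by
  apply Over.OverMorphism.ext
  rw [h, Over.comp_left, ovMap_left]

/-- morphisms `Spec A ⟶ X` over `Spec R` are determined locally on `Spec A`. -/
lemma hom_ext_local {X : Over (Spec (CommRingCat.of R))} (A : CommAlgCat.{u} R)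
    (g g' : ov A ⟶ X)
    (H : ∀ x : (ov A).left, ∃ V : (ov A).left.affineOpens, x ∈ V.1 ∧
      pt (ov A) V ≫ g = pt (ov A) V ≫ g') : g = g' := by
  choose V hxV hV using H
  apply Over.OverMorphism.ext
  have hcov : ⨆ x, (V x).1 = ⊤ := by
    rw [eq_top_iff]
    intro x _
    exact TopologicalSpace.Opens.mem_iSup.mpr ⟨x, hxV x⟩
  apply (Scheme.openCoverOfIsOpenCover (ov A).left (fun x => (V x).1)
    (TopologicalSpace.IsOpenCover.mk hcov)).hom_ext
  intro x
  change (V x).1.ι ≫ g.left = (V x).1.ι ≫ g'.left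
  have h1 : (V x).2.fromSpec ≫ g.left = (V x).2.fromSpec ≫ g'.left :=
    congrArg (fun t => t.left) (hV x)
  rw [← IsAffineOpen.isoSpec_hom_fromSpec (V x).2, Category.assoc, Category.assoc, h1]

/-- **Yoneda on affine points**: a family of maps on affine points natural in the algebra is
induced by a morphism. -/
theorem exists_hom_of_natural (X Y : Over (Spec (CommRingCat.of R)))
    (Φ : ∀ A : CommAlgCat.{u} R, (ov A ⟶ Y) → (ov A ⟶ X))
    (hΦ : ∀ (A C : CommAlgCat.{u} R) (φ : A ⟶ C) (g : ov A ⟶ Y),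
      Φ C (ovMap φ ≫ g) = ovMap φ ≫ Φ A g) :
    ∃ c : Y ⟶ X, ∀ (A : CommAlgCat.{u} R) (g : ov A ⟶ Y), g ≫ c = Φ A g := by
  have hΦ' : ∀ (A C : CommAlgCat.{u} R) (φ : A ⟶ C) (g : ov A ⟶ Y) (g' : ov C ⟶ Y),
      g'.left = Spec.map (CommRingCat.ofHom φ.hom.toRingHom) ≫ g.left →
        Φ C g' = ovMap φ ≫ Φ A g := by
    intro A C φ g g' h
    rw [eq_ovMap_comp φ g g' h, hΦ]
  -- the local pieces
  let cW : ∀ W : Y.left.affineOpens, ov (ΓA Y W) ⟶ X := fun W => Φ _ (pt Y W)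
  have hcW : ∀ (W W' : Y.left.affineOpens) (f : Opposite.op W'.1 ⟶ Opposite.op W.1),
      ovMap (resA Y W' W f) ≫ cW W' = cW W := by
    intro W W' f
    exact (hΦ' _ _ (resA Y W' W f) (pt Y W') (pt Y W) (pt_left_resA Y W' W f)).symm
  have hg1 : ∀ (W W' : Y.left.affineOpens) (hle : W ≤ W'),
      Y.left.homOfLE hle ≫ (IsAffineOpen.isoSpec W'.2).hom ≫ (cW W').left =
        (IsAffineOpen.isoSpec W.2).hom ≫ (cW W).left := by
    intro W W' hle
    have h1 : Spec.map (CommRingCat.ofHom (resA Y W' W (homOfLE hle).op).hom.toRingHom) ≫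
        (cW W').left = (cW W).left := congrArg (fun t => t.left) (hcW W W' (homOfLE hle).op)
    rw [← h1, ← Category.assoc, ← Category.assoc]
    congr 1
    rw [← cancel_mono W'.2.fromSpec, Category.assoc, IsAffineOpen.isoSpec_hom_fromSpec,
      Scheme.homOfLE_ι, Category.assoc]
    have h2 : Spec.map (CommRingCat.ofHom (resA Y W' W (homOfLE hle).op).hom.toRingHom) ≫
        W'.2.fromSpec = W.2.fromSpec := IsAffineOpen.map_fromSpec W'.2 W.2 (homOfLE hle).op
    rw [h2, IsAffineOpen.isoSpec_hom_fromSpec]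
  have hg2 : ∀ W : Y.left.affineOpens,
      ((IsAffineOpen.isoSpec W.2).hom ≫ (cW W).left) ≫ X.hom = W.1.ι ≫ Y.hom := by
    intro W
    rw [Category.assoc, Over.w (cW W), ← IsAffineOpen.isoSpec_hom_fromSpec W.2, Category.assoc]
    congr 1
    exact Spec_map_ρ Y W
  let gW : ∀ W : Y.left.directedAffineCover.I₀, Y.left.directedAffineCover.X W ⟶ X.left :=
    fun (W : Y.left.affineOpens) => (IsAffineOpen.isoSpec (U := W.1) W.2).hom ≫ (cW W).left
  have hgW : ∀ {W W' : Y.left.directedAffineCover.I₀} (hij : W ⟶ W'),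
      Y.left.directedAffineCover.trans hij ≫ gW W' = gW W :=
    fun {W W'} hij => hg1 W W' (leOfHom hij)
  have hw : ∀ W, gW W ≫ X.hom = Y.left.directedAffineCover.f W ≫ Y.hom := fun W => hg2 W
  let c : Y ⟶ X := Scheme.OpenCover.glueMorphismsOverOfLocallyDirected
    Y.left.directedAffineCover gW hgW hw
  have hc : ∀ W : Y.left.affineOpens, pt Y W ≫ c = cW W := by
    intro W
    apply Over.OverMorphism.ext
    have h1 : W.1.ι ≫ c.left = (IsAffineOpen.isoSpec W.2).hom ≫ (cW W).left :=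
      Scheme.OpenCover.map_glueMorphismsOverOfLocallyDirected_left
        Y.left.directedAffineCover gW hgW hw W
    rw [Over.comp_left, pt_left, ← IsAffineOpen.isoSpec_inv_ι, Category.assoc, h1,
      Iso.inv_hom_id_assoc]
  refine ⟨c, fun A g => ?_⟩
  apply hom_ext_local
  intro x
  obtain ⟨_, ⟨W, hW, rfl⟩, hxW, -⟩ := Y.left.isBasis_affineOpens.exists_subset_of_mem_open
    (Set.mem_univ (g.left x)) isOpen_univ
  obtain ⟨_, ⟨V, hV, rfl⟩, hxV, hVW⟩ := (ov A).left.isBasis_affineOpens.exists_subset_of_mem_open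
    (show x ∈ (g.left ⁻¹ᵁ W : Set (ov A).left) from hxW) (g.left ⁻¹ᵁ W).2
  refine ⟨⟨V, hV⟩, hxV, ?_⟩
  have e1 : pt (ov A) ⟨V, hV⟩ ≫ g = ovMap (appLEA g ⟨W, hW⟩ ⟨V, hV⟩ hVW) ≫ pt Y ⟨W, hW⟩ :=
    eq_ovMap_comp _ _ _ (pt_comp_left g ⟨W, hW⟩ ⟨V, hV⟩ hVW)
  have e2 : pt (ov A) ⟨V, hV⟩ ≫ g = ovMap (αA A ⟨V, hV⟩) ≫ g :=
    eq_ovMap_comp _ _ _ (pt_comp_left_αA A ⟨V, hV⟩ g)
  have e3 : pt (ov A) ⟨V, hV⟩ ≫ Φ A g = ovMap (αA A ⟨V, hV⟩) ≫ Φ A g :=
    eq_ovMap_comp _ _ _ (pt_comp_left_αA A ⟨V, hV⟩ (Φ A g))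
  rw [← Category.assoc, e1, Category.assoc, hc, ← hΦ, ← e1, e2, hΦ, e3]

/-- a natural family of bijections on affine points comes from an isomorphism. -/
theorem exists_iso_of_natural_equiv (X Y : Over (Spec (CommRingCat.of R)))
    (e : ∀ A : CommAlgCat.{u} R, (ov A ⟶ Y) ≃ (ov A ⟶ X))
    (he : ∀ (A C : CommAlgCat.{u} R) (φ : A ⟶ C) (g : ov A ⟶ Y),
      e C (ovMap φ ≫ g) = ovMap φ ≫ e A g) :
    ∃ c : Y ≅ X, ∀ (A : CommAlgCat.{u} R) (g : ov A ⟶ Y), g ≫ c.hom = e A g := by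
  obtain ⟨c, hc⟩ := exists_hom_of_natural X Y (fun A => e A) he
  have he' : ∀ (A C : CommAlgCat.{u} R) (φ : A ⟶ C) (g : ov A ⟶ X),
      (e C).symm (ovMap φ ≫ g) = ovMap φ ≫ (e A).symm g := by
    intro A C φ g
    apply (e C).injective
    rw [Equiv.apply_symm_apply, he, Equiv.apply_symm_apply]
  obtain ⟨c', hc'⟩ := exists_hom_of_natural Y X (fun A => (e A).symm) he'
  refine ⟨⟨c, c', ?_, ?_⟩, hc⟩
  · apply hom_ext_pt
    intro W
    rw [← Category.assoc, hc, hc', Equiv.symm_apply_apply, Category.comp_id]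
  · apply hom_ext_pt
    intro W
    rw [← Category.assoc, hc', hc, Equiv.apply_symm_apply, Category.comp_id]

end Groth.Agent.Lib.Seat37.AffYoneda
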