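import Mathlib
import Groth.Agent.Lib.LeadAzumaya

/-!
# Algebras that become matrix algebras over a commutative algebra after flat base change (seat 37)

Let `B` be an `R`-algebra, finite as a module, `Z` a commutative ring mapping isomorphically onto
the centre of `B`, `A` a flat `R`-algebra, `S₁` a commutative `A`-algebra and
`ψ : A ⊗[R] B ≃ₐ[A] Matrix n n S₁`.  Then
* `mem_range_ιZ`: central elements of `A ⊗ B` come from `A ⊗ Z` (flat base change of the centre);
* `sigma : A ⊗[R] Z ≃ₐ[A] S₁`;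
* `isAzumaya_center` (for `A` faithfully flat): `B` is an Azumaya `Z`-algebra.
-/

set_option autoImplicit false
set_option linter.unusedSectionVars false
universe u v w

namespace Groth.Agent.Lib.Seat37.AzCenter

open TensorProduct

variable (R : Type u) [CommRing R] (B : Type v) [Ring B] [Algebra R B]
variable (Z : Type v) [CommRing Z] [Algebra R Z] [Algebra Z B] [IsScalarTower R Z B]
variable (A : Type u) [CommRing A] [Algebra R A]

/-- `A ⊗ Z → A ⊗ B` -/
noncomputable def ιZ : A ⊗[R] Z →ₐ[A] A ⊗[R] B :=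
  Algebra.TensorProduct.map (AlgHom.id A A) (IsScalarTower.toAlgHom R Z B)

@[simp] theorem ιZ_tmul (a : A) (z : Z) : ιZ R B Z A (a ⊗ₜ[R] z) = a ⊗ₜ[R] algebraMap Z B z := rfl

theorem ιZ_injective [Module.Flat R A] (hinj : Function.Injective (algebraMap Z B)) :
    Function.Injective (ιZ R B Z A) := by
  have h : ⇑(ιZ R B Z A) = ⇑(LinearMap.lTensor A (IsScalarTower.toAlgHom R Z B).toLinearMap) := by
    funext t
    induction t with
    | zero => simp
    | tmul a z => rfl
    | add s t hs ht => rw [map_add, map_add, hs, ht]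
  rw [h]
  exact Module.Flat.lTensor_preserves_injective_linearMap _ hinj

theorem ιZ_central (t : A ⊗[R] Z) (y : A ⊗[R] B) : ιZ R B Z A t * y = y * ιZ R B Z A t := by
  induction t with
  | zero => simp
  | tmul a z =>
    induction y with
    | zero => simp
    | tmul a' b =>
      rw [ιZ_tmul, Algebra.TensorProduct.tmul_mul_tmul, Algebra.TensorProduct.tmul_mul_tmul,
        mul_comm a a', Algebra.commutes z b]
    | add y y' h h' => rw [mul_add, add_mul, h, h']
  | add t t' h h' => rw [map_add, add_mul, mul_add, h, h']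

section range

variable [Module.Flat R A] [Module.Finite R B]

/-- the commutators with a finite generating family -/
noncomputable def Dcomm (s : Finset B) : B →ₗ[R] (s → B) :=
  LinearMap.pi fun i : s => LinearMap.mulRight R (i : B) - LinearMap.mulLeft R (i : B)

theorem Dcomm_apply (s : Finset B) (x : B) (i : s) : Dcomm R B s x i = x * (i : B) - (i : B) * x :=
  rfl

theorem commute_of_mem_ker (s : Finset B) (hs : Submodule.span R (s : Set B) = ⊤) (x : B)
    (hx : x ∈ LinearMap.ker (Dcomm R B s)) (y : B) : x * y = y * x := by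
  have hy : y ∈ Submodule.span R (s : Set B) := by rw [hs]; trivial
  rw [LinearMap.mem_ker] at hx
  induction hy using Submodule.span_induction with
  | mem b hb =>
    have := congrFun hx ⟨b, hb⟩
    rw [Dcomm_apply] at this
    exact sub_eq_zero.mp this
  | zero => simp
  | add a b _ _ ha hb => rw [mul_add, add_mul, ha, hb]
  | smul r a _ ha => rw [mul_smul_comm, smul_mul_assoc, ha]

open Classical in
theorem piRight_lTensor_Dcomm (s : Finset B) (t : A ⊗[R] B) (i : s) :
    TensorProduct.piRight R A A (fun _ : s => B)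
      (TensorProduct.AlgebraTensorModule.lTensor A A (Dcomm R B s) t) i =
      t * ((1 : A) ⊗ₜ[R] (i : B)) - ((1 : A) ⊗ₜ[R] (i : B)) * t := by
  induction t with
  | zero => simp
  | tmul a x =>
    rw [Algebra.TensorProduct.tmul_mul_tmul, Algebra.TensorProduct.tmul_mul_tmul, mul_one, one_mul,
      ← TensorProduct.tmul_sub]
    rfl
  | add s' t hs ht =>
    rw [map_add, map_add, Pi.add_apply, hs, ht, add_mul, mul_add]
    abel

include Z in
/-- central elements of `A ⊗ B` come from `A ⊗ Z` -/
theorem mem_range_ιZ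
    (hrange : ∀ b : B, (∀ y, b * y = y * b) → b ∈ Set.range (algebraMap Z B))
    (c : A ⊗[R] B) (hc : ∀ y, c * y = y * c) : c ∈ Set.range (ιZ R B Z A) := by
  classical
  obtain ⟨s, hs⟩ := (Module.Finite.fg_top : (⊤ : Submodule R B).FG)
  have hker : c ∈ LinearMap.ker
      (TensorProduct.AlgebraTensorModule.lTensor A A (Dcomm R B s)) := by
    rw [LinearMap.mem_ker]
    apply (TensorProduct.piRight R A A (fun _ : s => B)).injective
    rw [map_zero]
    funext i
    rw [piRight_lTensor_Dcomm, Pi.zero_apply, hc, sub_self]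
  rw [Module.Flat.ker_lTensor_eq] at hker
  obtain ⟨ξ, hξ⟩ := hker
  have key : ∀ ξ : A ⊗[R] LinearMap.ker (Dcomm R B s),
      (TensorProduct.AlgebraTensorModule.lTensor A A
        (LinearMap.ker (Dcomm R B s)).subtype) ξ ∈ (ιZ R B Z A).range := by
    intro ξ
    induction ξ with
    | zero => rw [map_zero]; exact Subalgebra.zero_mem _
    | tmul a x =>
      obtain ⟨z, hz⟩ := hrange (x : B) (commute_of_mem_ker R B s hs x x.2)
      refine ⟨a ⊗ₜ[R] z, ?_⟩
      change ιZ R B Z A (a ⊗ₜ[R] z) = a ⊗ₜ[R] (x : B)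
      rw [ιZ_tmul, hz]
    | add ξ₁ ξ₂ h₁ h₂ => rw [map_add]; exact Subalgebra.add_mem _ h₁ h₂
  rw [← hξ]
  exact key ξ

end range

section sigma

variable (S₁ : Type w) [CommRing S₁] [Algebra A S₁]
variable {n : Type} [Fintype n] [DecidableEq n] [Inhabited n]
variable (ψ : A ⊗[R] B ≃ₐ[A] Matrix n n S₁)

theorem exists_scalar (t : A ⊗[R] Z) : ∃ x : S₁, ψ (ιZ R B Z A t) = Matrix.scalar n x := by
  have hc : ψ (ιZ R B Z A t) ∈ Set.center (Matrix n n S₁) := by
    rw [Semigroup.mem_center_iff]
    intro y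
    obtain ⟨y', rfl⟩ := ψ.surjective y
    rw [← map_mul, ← map_mul, ιZ_central]
  rw [Matrix.center_eq_scalar_image] at hc
  obtain ⟨x, -, hx⟩ := hc
  exact ⟨x, hx.symm⟩

/-- the scalar by which `ψ (ιZ t)` acts -/
noncomputable def sigmaFun (t : A ⊗[R] Z) : S₁ := ψ (ιZ R B Z A t) default default

theorem ψ_ιZ (t : A ⊗[R] Z) : ψ (ιZ R B Z A t) = Matrix.scalar n (sigmaFun R B Z A S₁ ψ t) := by
  obtain ⟨x, hx⟩ := exists_scalar R B Z A S₁ ψ t
  have : sigmaFun R B Z A S₁ ψ t = x := by
    unfold sigmaFun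
    rw [hx]
    simp
  rw [this, hx]

theorem scalar_injective : Function.Injective (Matrix.scalar n : S₁ →+* Matrix n n S₁) := by
  intro x y h
  have := congrFun (congrFun h default) default
  simpa using this

/-- `A ⊗ Z → S₁` -/
noncomputable def sigmaHom : A ⊗[R] Z →ₐ[A] S₁ where
  toFun := sigmaFun R B Z A S₁ ψ
  map_one' := by
    unfold sigmaFun
    rw [map_one, map_one]
    simp
  map_mul' t t' := by
    apply scalar_injective (n := n) S₁
    rw [map_mul, ← ψ_ιZ, ← ψ_ιZ, ← ψ_ιZ, map_mul, map_mul]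
  map_zero' := by
    unfold sigmaFun
    rw [map_zero, map_zero]
    rfl
  map_add' t t' := by
    unfold sigmaFun
    rw [map_add, map_add]
    rfl
  commutes' a := by
    unfold sigmaFun
    rw [AlgHom.commutes, AlgEquiv.commutes, Matrix.algebraMap_matrix_apply, if_pos rfl]

theorem sigmaHom_apply (t : A ⊗[R] Z) : sigmaHom R B Z A S₁ ψ t = sigmaFun R B Z A S₁ ψ t := rfl

theorem ψ_ιZ' (t : A ⊗[R] Z) :
    ψ (ιZ R B Z A t) = Matrix.scalar n (sigmaHom R B Z A S₁ ψ t) := ψ_ιZ R B Z A S₁ ψ t

theorem sigmaHom_bijective [Module.Flat R A] [Module.Finite R B]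
    (hinj : Function.Injective (algebraMap Z B))
    (hrange : ∀ b : B, (∀ y, b * y = y * b) → b ∈ Set.range (algebraMap Z B)) :
    Function.Bijective (sigmaHom R B Z A S₁ ψ) := by
  constructor
  · intro t t' h
    apply ιZ_injective R B Z A hinj
    apply ψ.injective
    rw [ψ_ιZ', ψ_ιZ', h]
  · intro x
    have hc : ∀ y, ψ.symm (Matrix.scalar n x) * y = y * ψ.symm (Matrix.scalar n x) := by
      intro y
      apply ψ.injective
      rw [map_mul, map_mul, AlgEquiv.apply_symm_apply]
      exact (Matrix.scalar_commute x (fun r => mul_comm _ _) (ψ y)).eq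
    obtain ⟨t, ht⟩ := mem_range_ιZ R B Z A hrange _ hc
    refine ⟨t, ?_⟩
    apply scalar_injective (n := n) S₁
    rw [← ψ_ιZ', ht, AlgEquiv.apply_symm_apply]

/-- `A ⊗ Z ≃ S₁` -/
noncomputable def sigma [Module.Flat R A] [Module.Finite R B]
    (hinj : Function.Injective (algebraMap Z B))
    (hrange : ∀ b : B, (∀ y, b * y = y * b) → b ∈ Set.range (algebraMap Z B)) :
    A ⊗[R] Z ≃ₐ[A] S₁ :=
  AlgEquiv.ofBijective (sigmaHom R B Z A S₁ ψ) (sigmaHom_bijective R B Z A S₁ ψ hinj hrange)

theorem ψ_ιZ_sigma [Module.Flat R A] [Module.Finite R B]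
    (hinj : Function.Injective (algebraMap Z B))
    (hrange : ∀ b : B, (∀ y, b * y = y * b) → b ∈ Set.range (algebraMap Z B)) (t : A ⊗[R] Z) :
    ψ (ιZ R B Z A t) = Matrix.scalar n (sigma R B Z A S₁ ψ hinj hrange t) := ψ_ιZ R B Z A S₁ ψ t

end sigma

end Groth.Agent.Lib.Seat37.AzCenter
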