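import Mathlib
import Groth.Agent.Lib.LeadAzumaya
import Groth.Agent.Lib.Seat37AzCenter

/-!
# An algebra that is fppf-locally a matrix algebra over a commutative algebra is Azumaya over its
# centre (seat 37)

Setting of `Seat37AzCenter`, with `A` faithfully flat over `R`:
`isAzumaya_center : IsAzumaya Z B`.
-/

set_option autoImplicit false
set_option linter.unusedSectionVars false
universe u v w

namespace Groth.Agent.Lib.Seat37.AzCenter

open TensorProduct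

variable (R : Type u) [CommRing R] (B : Type v) [Ring B] [Algebra R B]
variable (Z : Type v) [CommRing Z] [Algebra R Z] [Algebra Z B] [IsScalarTower R Z B]
variable (A : Type u) [CommRing A] [Algebra R A]

/-- `B ⊗[Z] (Z ⊗[R] A) ≃ₐ[Z] B ⊗[R] A` for a noncommutative `B` -/
noncomputable def cancelAlg : B ⊗[Z] (Z ⊗[R] A) ≃ₐ[Z] B ⊗[R] A :=
  AlgEquiv.symm <| AlgEquiv.ofLinearEquiv
    (TensorProduct.AlgebraTensorModule.cancelBaseChange R Z Z B A).symm
    (by simp [Algebra.TensorProduct.one_def]) <|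
      LinearMap.map_mul_of_map_mul_tmul (fun _ _ _ _ ↦ by simp)

theorem cancelAlg_symm_tmul (b : B) (a : A) :
    (cancelAlg R B Z A).symm (b ⊗ₜ[R] a) = b ⊗ₜ[Z] ((1 : Z) ⊗ₜ[R] a) := by
  change (TensorProduct.AlgebraTensorModule.cancelBaseChange R Z Z B A).symm _ = _
  simp

theorem cancelAlg_tmul (b : B) (z : Z) (a : A) :
    cancelAlg R B Z A (b ⊗ₜ[Z] (z ⊗ₜ[R] a)) = (z • b) ⊗ₜ[R] a := by
  apply (cancelAlg R B Z A).symm.injective
  rw [AlgEquiv.symm_apply_apply, cancelAlg_symm_tmul, TensorProduct.smul_tmul,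
    TensorProduct.smul_tmul', smul_eq_mul, mul_one]

/-- the chain `(Z ⊗ A) ⊗[Z] B ≃+* A ⊗ B` -/
noncomputable def chain : (Z ⊗[R] A) ⊗[Z] B ≃+* A ⊗[R] B :=
  ((Algebra.TensorProduct.comm Z (Z ⊗[R] A) B).toRingEquiv.trans
    (cancelAlg R B Z A).toRingEquiv).trans (Algebra.TensorProduct.comm R B A).toRingEquiv

theorem chain_tmul_one (z : Z) (a : A) :
    chain R B Z A ((z ⊗ₜ[R] a) ⊗ₜ[Z] (1 : B)) = ιZ R B Z A (a ⊗ₜ[R] z) := by
  change (Algebra.TensorProduct.comm R B A) ((cancelAlg R B Z A)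
    ((Algebra.TensorProduct.comm Z (Z ⊗[R] A) B) ((z ⊗ₜ[R] a) ⊗ₜ[Z] (1 : B)))) = _
  rw [Algebra.TensorProduct.comm_tmul, cancelAlg_tmul, Algebra.TensorProduct.comm_tmul, ιZ_tmul,
    Algebra.algebraMap_eq_smul_one]

section main

variable (S₁ : Type w) [CommRing S₁] [Algebra A S₁]
variable {n : Type} [Fintype n] [DecidableEq n] [Inhabited n]
variable (ψ : A ⊗[R] B ≃ₐ[A] Matrix n n S₁)
variable [Module.FaithfullyFlat R A] [Module.Finite R B]
variable (hinj : Function.Injective (algebraMap Z B))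
variable (hrange : ∀ b : B, (∀ y, b * y = y * b) → b ∈ Set.range (algebraMap Z B))

/-- `Z ⊗ A ≃+* S₁` -/
noncomputable def sigma' : Z ⊗[R] A ≃+* S₁ :=
  (Algebra.TensorProduct.comm R Z A).toRingEquiv.trans
    (sigma R B Z A S₁ ψ hinj hrange).toRingEquiv

theorem sigma'_tmul (z : Z) (a : A) :
    sigma' R B Z A S₁ ψ hinj hrange (z ⊗ₜ[R] a) = sigma R B Z A S₁ ψ hinj hrange (a ⊗ₜ[R] z) := by
  change (sigma R B Z A S₁ ψ hinj hrange) ((Algebra.TensorProduct.comm R Z A) (z ⊗ₜ[R] a)) = _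
  rw [Algebra.TensorProduct.comm_tmul]

/-- `(Z ⊗ A) ⊗[Z] B ≃+* Matrix n n (Z ⊗ A)` -/
noncomputable def Theta : (Z ⊗[R] A) ⊗[Z] B ≃+* Matrix n n (Z ⊗[R] A) :=
  ((chain R B Z A).trans ψ.toRingEquiv).trans
    (RingEquiv.mapMatrix (sigma' R B Z A S₁ ψ hinj hrange).symm)

theorem Theta_algebraMap (s : Z ⊗[R] A) :
    Theta R B Z A S₁ ψ hinj hrange (algebraMap (Z ⊗[R] A) _ s) =
      algebraMap (Z ⊗[R] A) (Matrix n n (Z ⊗[R] A)) s := by
  induction s with
  | zero => simp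
  | tmul z a =>
    change RingEquiv.mapMatrix (sigma' R B Z A S₁ ψ hinj hrange).symm
      (ψ (chain R B Z A ((z ⊗ₜ[R] a) ⊗ₜ[Z] (1 : B)))) = _
    rw [chain_tmul_one, ψ_ιZ_sigma R B Z A S₁ ψ hinj hrange, ← sigma'_tmul]
    ext i j
    simp only [RingEquiv.mapMatrix_apply, Matrix.map_apply, Matrix.scalar_apply,
      Matrix.diagonal_apply, Matrix.algebraMap_matrix_apply]
    split_ifs
    · simp
    · simp
  | add s t hs ht => rw [map_add, map_add, hs, ht, map_add]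

include hinj hrange ψ in
theorem isAzumaya_center : IsAzumaya Z B := by
  classical
  let Θ : (Z ⊗[R] A) ⊗[Z] B ≃ₐ[Z ⊗[R] A] Matrix n n (Z ⊗[R] A) :=
    AlgEquiv.ofRingEquiv (f := Theta R B Z A S₁ ψ hinj hrange)
      (Theta_algebraMap R B Z A S₁ ψ hinj hrange)
  have : IsAzumaya (Z ⊗[R] A) (Matrix n n (Z ⊗[R] A)) := IsAzumaya.matrix _ _
  have : IsAzumaya (Z ⊗[R] A) ((Z ⊗[R] A) ⊗[Z] B) := IsAzumaya.of_AlgEquiv _ _ _ Θ.symm
  exact Groth.Agent.Lib.LeadAzumaya.isAzumaya_of_faithfullyFlat (R := Z) (Z ⊗[R] A) B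

end main

end Groth.Agent.Lib.Seat37.AzCenter
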