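import Mathlib

/-!
# Derivations of Azumaya algebras are inner (seat 37)

For an Azumaya `A`-algebra `C` with a linear retraction `s : C → A` of the unit:
* `exists_inner`: every `A`-linear derivation `D : C → C` with values in a left ideal `J` is
  `a ↦ a * n - n * a` for some `n ∈ J` (separability idempotent argument);
* `exists_conj_of_sqZero`: an algebra endomorphism congruent to the identity modulo a two-sided
  ideal of square zero is conjugation by `1 - n`.
-/

set_option autoImplicit false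
universe u v

namespace Groth.Agent.Lib.Seat37.AzDer

open TensorProduct MulOpposite

variable {A : Type u} {C : Type v} [CommRing A] [Ring C] [Algebra A C]

/-- `x ⊗ op y ↦ x * D y` -/
noncomputable def muD (D : C →ₗ[A] C) : C ⊗[A] Cᵐᵒᵖ →ₗ[A] C :=
  TensorProduct.lift ((LinearMap.mul A C).compl₂ (D ∘ₗ (opLinearEquiv A).symm.toLinearMap))

@[simp] theorem muD_tmul (D : C →ₗ[A] C) (x : C) (y : Cᵐᵒᵖ) :
    muD D (x ⊗ₜ[A] y) = x * D (unop y) := rfl

theorem muD_left (D : C →ₗ[A] C) (a : C) (t : C ⊗[A] Cᵐᵒᵖ) :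
    muD D ((a ⊗ₜ[A] (1 : Cᵐᵒᵖ)) * t) = a * muD D t := by
  induction t with
  | zero => simp
  | tmul x y =>
    rw [Algebra.TensorProduct.tmul_mul_tmul, muD_tmul, muD_tmul, one_mul, mul_assoc]
  | add t₁ t₂ h₁ h₂ => rw [mul_add, map_add, h₁, h₂, map_add, mul_add]

theorem muD_right (D : C →ₗ[A] C) (hD : ∀ a b, D (a * b) = D a * b + a * D b) (a : C)
    (t : C ⊗[A] Cᵐᵒᵖ) :
    muD D (((1 : C) ⊗ₜ[A] (op a : Cᵐᵒᵖ)) * t) =
      muD D t * a + AlgHom.mulLeftRight A C t 1 * D a := by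
  induction t with
  | zero => simp
  | tmul x y =>
    rw [Algebra.TensorProduct.tmul_mul_tmul, muD_tmul, muD_tmul, one_mul,
      AlgHom.mulLeftRight_apply, mul_one, unop_mul, unop_op, hD]
    noncomm_ring
  | add t₁ t₂ h₁ h₂ =>
    rw [mul_add, map_add, h₁, h₂, map_add, map_add, LinearMap.add_apply]
    noncomm_ring

theorem muD_mem (D : C →ₗ[A] C) (J : Submodule A C) (hJ : ∀ a, D a ∈ J)
    (hJl : ∀ x y, y ∈ J → x * y ∈ J) (t : C ⊗[A] Cᵐᵒᵖ) : muD D t ∈ J := by
  induction t with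
  | zero => rw [map_zero]; exact J.zero_mem
  | tmul x y => rw [muD_tmul]; exact hJl _ _ (hJ _)
  | add t₁ t₂ h₁ h₂ => rw [map_add]; exact J.add_mem h₁ h₂

theorem exists_inner [IsAzumaya A C] (s : C →ₗ[A] A) (hs : s 1 = 1) (D : C →ₗ[A] C)
    (hD : ∀ a b, D (a * b) = D a * b + a * D b) (J : Submodule A C) (hJ : ∀ a, D a ∈ J)
    (hJl : ∀ x y, y ∈ J → x * y ∈ J) :
    ∃ n ∈ J, ∀ a, D a = a * n - n * a := by
  obtain ⟨e, he⟩ := (IsAzumaya.bij (R := A) (A := C)).2 ((Algebra.linearMap A C) ∘ₗ s)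
  have hE : ∀ c, AlgHom.mulLeftRight A C e c = algebraMap A C (s c) := fun c => by
    rw [he]; rfl
  have hcomm : ∀ a : C, (a ⊗ₜ[A] (1 : Cᵐᵒᵖ)) * e = ((1 : C) ⊗ₜ[A] (op a : Cᵐᵒᵖ)) * e := by
    intro a
    apply (IsAzumaya.bij (R := A) (A := C)).1
    rw [map_mul, map_mul]
    ext c
    rw [Module.End.mul_apply, Module.End.mul_apply, AlgHom.mulLeftRight_apply,
      AlgHom.mulLeftRight_apply, hE, unop_one, mul_one, one_mul, unop_op]
    exact (Algebra.commutes (s c) a).symm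
  refine ⟨muD D e, muD_mem D J hJ hJl e, fun a => ?_⟩
  have h1 := muD_left D a e
  have h2 := muD_right D hD a e
  rw [hcomm, h2, hE, hs, map_one, one_mul] at h1
  rw [← h1]
  noncomm_ring

/-- an algebra endomorphism congruent to the identity modulo a square-zero ideal is inner -/
theorem exists_conj_of_sqZero [IsAzumaya A C] (s : C →ₗ[A] A) (hs : s 1 = 1) (σ : C →ₐ[A] C)
    (J : Submodule A C) (hJl : ∀ x y, y ∈ J → x * y ∈ J)
    (hJ0 : ∀ x y, x ∈ J → y ∈ J → x * y = 0) (hσ : ∀ a, σ a - a ∈ J) :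
    ∃ n ∈ J, ∀ a, σ a = (1 - n) * a * (1 + n) := by
  set D : C →ₗ[A] C := σ.toLinearMap - LinearMap.id with hDdef
  have hDa : ∀ a, D a = σ a - a := fun a => rfl
  have hD : ∀ a b, D (a * b) = D a * b + a * D b := by
    intro a b
    have h0 := hJ0 _ _ (hσ a) (hσ b)
    rw [hDa, hDa, hDa, map_mul]
    have : σ a * σ b = (σ a - a) * (σ b - b) + (σ a - a) * b + a * (σ b - b) + a * b := by
      noncomm_ring
    rw [this, h0]
    noncomm_ring
  obtain ⟨n, hn, hDn⟩ := exists_inner s hs D hD J (fun a => by rw [hDa]; exact hσ a) hJl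
  refine ⟨n, hn, fun a => ?_⟩
  have h1 := hDn a
  rw [hDa] at h1
  have h2 : n * a * n = 0 := by
    rw [mul_assoc]; exact hJ0 _ _ hn (hJl _ _ hn)
  have h3 : (1 - n) * a * (1 + n) = a + (a * n - n * a) - n * a * n := by noncomm_ring
  rw [h3, h2, sub_zero, ← h1]
  abel

end Groth.Agent.Lib.Seat37.AzDer
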