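import Mathlib

/-!
# Cartan subalgebras over an infinite field are Engel subalgebras of their elements
-/

set_option autoImplicit false
universe u

open Module LieSubalgebra LieAlgebra Cardinal

namespace Groth.Agent.Lib.Seat37.CartanField

variable {K : Type*} [Field K] {V : Type*} [LieRing V] [LieAlgebra K V] [Module.Finite K V]

omit [Module.Finite K V] in
/-- A nilpotent subalgebra is contained in the Engel subalgebra of each of its elements. -/
theorem le_engel_of_isNilpotent (C : LieSubalgebra K V) [LieRing.IsNilpotent C] (y : V) (hy : y ∈ C) :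
    C ≤ engel K y := by
  intro z hz
  have h := (LieAlgebra.mem_zeroRootSubalgebra K V C z).1 (LieAlgebra.le_zeroRootSubalgebra K V C hz)
    ⟨y, hy⟩
  rw [LieSubalgebra.mem_engel_iff]
  exact h

/-- Over an infinite field, a Cartan subalgebra is the Engel subalgebra of one of its elements. -/
theorem exists_engel_eq [Infinite K] (C : LieSubalgebra K V) [C.IsCartanSubalgebra] :
    ∃ x ∈ C, engel K x = C := by
  have hLK : (finrank K V : Cardinal) ≤ #K :=
    natCast_le_aleph0.trans (Cardinal.infinite_iff.mp ‹Infinite K›)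
  have hne : (Set.range (fun x : C => finrank K (engel K (x : V)))).Nonempty := ⟨_, ⟨0, rfl⟩⟩
  obtain ⟨_, ⟨x, rfl⟩, hmin⟩ := WellFounded.has_min Nat.lt_wfRel.wf _ hne
  refine ⟨x, x.2, ?_⟩
  set Ex : {engel K z | z ∈ C} := ⟨engel K (x : V), x, x.2, rfl⟩ with hEx
  have hbot : IsBot Ex := by
    apply engel_isBot_of_isMin hLK C Ex (le_engel_of_isNilpotent C x x.2)
    rintro ⟨_, y, hy, rfl⟩ hyx
    have hfin : finrank K (engel K (x : V)) ≤ finrank K (engel K y) := by
      have := hmin _ ⟨⟨y, hy⟩, rfl⟩
      exact not_lt.1 this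
    have : engel K y = engel K (x : V) := by
      apply LieSubalgebra.toSubmodule_injective
      exact Submodule.eq_of_le_of_finrank_le hyx hfin
    exact this.ge
  apply le_antisymm _ (le_engel_of_isNilpotent C x x.2)
  intro z hz
  have hzero : LieAlgebra.zeroRootSubalgebra K V C = C :=
    LieAlgebra.zeroRootSubalgebra_eq_of_is_cartan (R := K) (L := V) C
  rw [← hzero, LieAlgebra.mem_zeroRootSubalgebra]
  intro y
  have hle : engel K (x : V) ≤ engel K (y : V) := @hbot ⟨engel K (y : V), y, y.2, rfl⟩
  exact (LieSubalgebra.mem_engel_iff K (y : V) z).1 (hle hz)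

end Groth.Agent.Lib.Seat37.CartanField
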