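import Mathlib

/-!
# Endomorphisms of finitely generated projective modules, fibrewise criteria

* `isNilpotent_of_forall_baseChange_residueField`: an endomorphism of a f.g. projective module which is
  nilpotent in every fibre `κ(p) ⊗ P` is nilpotent.
* `eq_top_of_forall_maximal_sup_smul_eq_top`: a submodule `N` of a f.g. module with `N ⊔ m • ⊤ = ⊤` for every
  maximal ideal `m` is `⊤`.
-/

set_option autoImplicit false
universe u v

open scoped TensorProduct

namespace Groth.Agent.Lib.Seat37.ProjEnd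

variable {A : Type u} [CommRing A]

/-- For an endomorphism `ψ` of a finite free module whose characteristic polynomial differs from
`X ^ n` by a nilpotent polynomial, `ψ` is nilpotent. -/
theorem isNilpotent_of_charpoly_sub_pow_isNilpotent {M : Type v} [AddCommGroup M] [Module A M]
    [Module.Free A M] [Module.Finite A M] (ψ : Module.End A M)
    (h : IsNilpotent (ψ.charpoly - Polynomial.X ^ Module.finrank A M)) : IsNilpotent ψ := by
  have h1 : IsNilpotent (Polynomial.aeval ψ (ψ.charpoly - Polynomial.X ^ Module.finrank A M)) :=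
    h.map (Polynomial.aeval ψ)
  rw [map_sub, LinearMap.aeval_self_charpoly, zero_sub, map_pow, Polynomial.aeval_X] at h1
  have h2 : IsNilpotent (ψ ^ Module.finrank A M) := by
    rwa [isNilpotent_neg_iff] at h1
  obtain ⟨k, hk⟩ := h2
  exact ⟨Module.finrank A M * k, by rw [pow_mul, hk]⟩

/-- An endomorphism of a finite free module that is nilpotent in every fibre is nilpotent. -/
theorem isNilpotent_of_forall_baseChange_residueField_of_free {M : Type v} [AddCommGroup M] [Module A M]
    [Module.Free A M] [Module.Finite A M] (ψ : Module.End A M)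
    (h : ∀ p : PrimeSpectrum A, IsNilpotent (ψ.baseChange p.asIdeal.ResidueField)) :
    IsNilpotent ψ := by
  rcases subsingleton_or_nontrivial A with hA | hA
  · have : Subsingleton M := Module.subsingleton A M
    exact ⟨1, Subsingleton.elim _ _⟩
  apply isNilpotent_of_charpoly_sub_pow_isNilpotent
  rw [Polynomial.isNilpotent_iff]
  intro i
  rw [← mem_nilradical, nilradical_eq_sInf, Ideal.mem_sInf]
  intro J hJ
  let p : PrimeSpectrum A := ⟨J, hJ⟩
  have : p.asIdeal.IsPrime := p.2
  have hp := (LinearMap.isNilpotent_iff_charpoly _).1 (h p)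
  rw [LinearMap.charpoly_baseChange, Module.finrank_baseChange] at hp
  have h3 := congrArg (fun q => Polynomial.coeff q i) hp
  simp only [Polynomial.coeff_map, Polynomial.coeff_X_pow] at h3
  have h4 : algebraMap A p.asIdeal.ResidueField
      ((ψ.charpoly - Polynomial.X ^ Module.finrank A M).coeff i) = 0 := by
    rw [Polynomial.coeff_sub, map_sub, h3, Polynomial.coeff_X_pow]
    split_ifs <;> simp
  have h5 := (Ideal.algebraMap_residueField_eq_zero (I := p.asIdeal)).1 h4
  exact h5


/-- An endomorphism of a finitely generated projective module that is nilpotent in every fibre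
`κ(p) ⊗ P` is nilpotent. -/
theorem isNilpotent_of_forall_baseChange_residueField {P : Type v} [AddCommGroup P] [Module A P]
    [Module.Finite A P] [Module.Projective A P] (φ : Module.End A P)
    (h : ∀ p : PrimeSpectrum A, IsNilpotent (φ.baseChange p.asIdeal.ResidueField)) :
    IsNilpotent φ := by
  obtain ⟨n, s, i, -, -, hsi⟩ := Module.Finite.exists_comp_eq_id_of_projective A P
  set ψ : Module.End A (Fin n → A) := i ∘ₗ φ ∘ₗ s with hψ
  have hpow : ∀ k : ℕ, ψ ^ (k + 1) = i ∘ₗ (φ ^ (k + 1)) ∘ₗ s := by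
    intro k
    induction k with
    | zero => simp [hψ]
    | succ k ih =>
      rw [pow_succ, ih, hψ]
      have : (i ∘ₗ (φ ^ (k + 1)) ∘ₗ s) * (i ∘ₗ φ ∘ₗ s) = i ∘ₗ ((φ ^ (k + 1)) ∘ₗ (s ∘ₗ i) ∘ₗ φ) ∘ₗ s := by
        rw [Module.End.mul_eq_comp]; simp only [LinearMap.comp_assoc]
      rw [this, hsi, LinearMap.id_comp, pow_succ (n := k + 1), Module.End.mul_eq_comp]
  have hψnil : IsNilpotent ψ := by
    apply isNilpotent_of_forall_baseChange_residueField_of_free
    intro p
    obtain ⟨m, hm⟩ := h p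
    refine ⟨m + 1, ?_⟩
    rw [← LinearMap.baseChange_pow, hpow, LinearMap.baseChange_comp, LinearMap.baseChange_comp,
      pow_succ, LinearMap.baseChange_mul, LinearMap.baseChange_pow, hm, zero_mul]
    simp
  obtain ⟨k, hk⟩ := hψnil
  refine ⟨k + 1, ?_⟩
  have h1 : ψ ^ (k + 1) = 0 := by rw [pow_succ, hk, zero_mul]
  have h2 : φ ^ (k + 1) = s ∘ₗ (ψ ^ (k + 1)) ∘ₗ i := by
    rw [hpow]
    have : s ∘ₗ (i ∘ₗ (φ ^ (k + 1)) ∘ₗ s) ∘ₗ i = (s ∘ₗ i) ∘ₗ (φ ^ (k + 1)) ∘ₗ (s ∘ₗ i) := by
      simp only [LinearMap.comp_assoc]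
    rw [this, hsi, LinearMap.id_comp, LinearMap.comp_id]
  rw [h2, h1]
  simp

/-- A submodule `N` of a finitely generated module such that `N ⊔ m • ⊤ = ⊤` for every maximal ideal `m`
is the whole module. -/
theorem eq_top_of_forall_maximal_sup_smul_eq_top {M : Type v} [AddCommGroup M] [Module A M]
    [Module.Finite A M] (N : Submodule A M)
    (h : ∀ m : Ideal A, m.IsMaximal → N ⊔ m • (⊤ : Submodule A M) = ⊤) : N = ⊤ := by
  by_contra hN
  -- the annihilator of M ⧸ N is a proper ideal
  have hann : (Module.annihilator A (M ⧸ N)) ≠ ⊤ := by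
    intro htop
    apply hN
    rw [eq_top_iff]
    intro x _
    have h1 : (1 : A) ∈ Module.annihilator A (M ⧸ N) := by rw [htop]; trivial
    have h2 := Module.mem_annihilator.1 h1 (N.mkQ x)
    rw [one_smul] at h2
    exact (Submodule.Quotient.mk_eq_zero N).1 h2
  obtain ⟨m, hm, hle⟩ := Ideal.exists_le_maximal _ hann
  have hsup := h m hm
  have htop : (⊤ : Submodule A (M ⧸ N)) ≤ m • (⊤ : Submodule A (M ⧸ N)) := by
    intro y _
    obtain ⟨x, rfl⟩ := N.mkQ_surjective y
    have hx : x ∈ N ⊔ m • (⊤ : Submodule A M) := by rw [hsup]; trivial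
    obtain ⟨a, ha, b, hb, rfl⟩ := Submodule.mem_sup.1 hx
    rw [map_add]
    have ha0 : N.mkQ a = 0 := (Submodule.Quotient.mk_eq_zero N).2 ha
    rw [ha0, zero_add]
    have : m • (⊤ : Submodule A M) ≤ (m • (⊤ : Submodule A (M ⧸ N))).comap N.mkQ := by
      rw [Submodule.smul_le]
      intro r hr z _
      rw [Submodule.mem_comap, map_smul]
      exact Submodule.smul_mem_smul hr trivial
    exact this hb
  obtain ⟨r, hr1, hr0⟩ := Submodule.exists_sub_one_mem_and_smul_eq_zero_of_fg_of_le_smul m
    (⊤ : Submodule A (M ⧸ N)) (Module.finite_def.1 inferInstance) htop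
  have hrann : r ∈ Module.annihilator A (M ⧸ N) := by
    rw [Module.mem_annihilator]
    intro y
    exact hr0 y trivial
  have hrm : r ∈ m := hle hrann
  have h1m : (1 : A) ∈ m := by
    have := m.sub_mem hrm hr1
    simpa using this
  exact hm.ne_top ((Ideal.eq_top_iff_one m).2 h1m)


section MaximalFibre

variable (m : Ideal A) [hm : m.IsMaximal] {M : Type v} [AddCommGroup M] [Module A M]

/-- Over the residue field of a maximal ideal every tensor is of the form `1 ⊗ x`. -/
theorem exists_one_tmul_eq (t : m.ResidueField ⊗[A] M) : ∃ x : M, t = (1 : m.ResidueField) ⊗ₜ[A] x := by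
  induction t using TensorProduct.induction_on with
  | zero => exact ⟨0, by simp⟩
  | tmul c x =>
    obtain ⟨r, rfl⟩ := Ideal.algebraMap_residueField_surjective m c
    refine ⟨r • x, ?_⟩
    rw [TensorProduct.tmul_smul, TensorProduct.smul_tmul', Algebra.smul_def, mul_one]
  | add t₁ t₂ h₁ h₂ =>
    obtain ⟨x₁, rfl⟩ := h₁
    obtain ⟨x₂, rfl⟩ := h₂
    exact ⟨x₁ + x₂, by rw [TensorProduct.tmul_add]⟩

/-- Over the residue field of a maximal ideal, every element of the base change of a submodule `N` is of the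
form `1 ⊗ x` with `x ∈ N`. -/
theorem exists_one_tmul_eq_of_mem_baseChange (N : Submodule A M) (t : m.ResidueField ⊗[A] M)
    (ht : t ∈ N.baseChange m.ResidueField) : ∃ x ∈ N, t = (1 : m.ResidueField) ⊗ₜ[A] x := by
  rw [Submodule.baseChange_eq_span] at ht
  induction ht using Submodule.span_induction with
  | mem t ht =>
    obtain ⟨x, hx, rfl⟩ := ht
    exact ⟨x, hx, rfl⟩
  | zero => exact ⟨0, N.zero_mem, by simp⟩
  | add t₁ t₂ _ _ h₁ h₂ =>
    obtain ⟨x₁, hx₁, rfl⟩ := h₁
    obtain ⟨x₂, hx₂, rfl⟩ := h₂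
    exact ⟨x₁ + x₂, N.add_mem hx₁ hx₂, by rw [TensorProduct.tmul_add]⟩
  | smul c t _ h =>
    obtain ⟨x, hx, rfl⟩ := h
    obtain ⟨r, rfl⟩ := Ideal.algebraMap_residueField_surjective m c
    refine ⟨r • x, N.smul_mem r hx, ?_⟩
    rw [TensorProduct.tmul_smul, TensorProduct.smul_tmul', TensorProduct.smul_tmul', smul_eq_mul,
      mul_one, Algebra.smul_def, mul_one]

/-- If `1 ⊗ x = 0` in the fibre at a maximal ideal `m` then `x ∈ m • ⊤`. -/
theorem mem_smul_top_of_one_tmul_eq_zero (x : M) (hx : (1 : m.ResidueField) ⊗ₜ[A] x = 0) :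
    x ∈ m • (⊤ : Submodule A M) := by
  let e : (A ⧸ m) ≃ₗ[A] m.ResidueField :=
    LinearEquiv.ofBijective (Algebra.linearMap (A ⧸ m) m.ResidueField |>.restrictScalars A)
      (Ideal.bijective_algebraMap_quotient_residueField m)
  let g : m.ResidueField ⊗[A] M ≃ₗ[A] M ⧸ (m • (⊤ : Submodule A M)) :=
    (TensorProduct.congr e.symm (LinearEquiv.refl A M)) ≪≫ₗ TensorProduct.quotTensorEquivQuotSMul M m
  have h1 : g ((1 : m.ResidueField) ⊗ₜ[A] x) = Submodule.Quotient.mk x := by
    have he : e.symm (1 : m.ResidueField) = 1 := by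
      rw [LinearEquiv.symm_apply_eq]
      show (1 : m.ResidueField) = algebraMap (A ⧸ m) m.ResidueField 1
      rw [map_one]
    simp only [g, LinearEquiv.trans_apply, TensorProduct.congr_tmul, LinearEquiv.refl_apply, he]
    exact TensorProduct.quotTensorEquivQuotSMul_mk_one_tmul m x
  rw [hx, map_zero] at h1
  exact (Submodule.Quotient.mk_eq_zero _).1 h1.symm

end MaximalFibre

end Groth.Agent.Lib.Seat37.ProjEnd
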