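import Mathlib
import Groth.Prelude.Def_W4sga3xiixivxvCartan
import Groth.Agent.Lib.Seat37ProjEnd

/-!
# Relative Cartan subalgebras: a Cartan subalgebra containing a quasi-regular element is its Engel subalgebra
-/

set_option autoImplicit false
universe u

open scoped TensorProduct
open SGA3t2b

namespace Groth.Agent.Lib.Seat37.CartanRel

open Groth.Agent.Lib.Seat37.ProjEnd

variable {A : Type u} [CommRing A] {L : Type u} [LieRing L] [LieAlgebra A L]

section Retract

variable (H : LieSubalgebra A L) [hP : Module.Projective A (L ⧸ H.toSubmodule)]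

/-- If `L ⧸ H` is projective, `H` is a retract of `L`. -/
theorem exists_retraction : ∃ r : L →ₗ[A] H, ∀ h : H, r (h : L) = h := by
  obtain ⟨σ, hσ⟩ := Module.projective_lifting_property H.toSubmodule.mkQ LinearMap.id
    H.toSubmodule.mkQ_surjective
  have hmem : ∀ x : L, (LinearMap.id - σ ∘ₗ H.toSubmodule.mkQ : L →ₗ[A] L) x ∈ H.toSubmodule := by
    intro x
    rw [← Submodule.Quotient.mk_eq_zero]
    have := LinearMap.congr_fun hσ (H.toSubmodule.mkQ x)
    simp only [LinearMap.coe_comp, Function.comp_apply, LinearMap.id_coe, id_eq] at this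
    simp only [LinearMap.sub_apply, LinearMap.id_coe, id_eq, LinearMap.coe_comp, Function.comp_apply,
      Submodule.Quotient.mk_sub]
    rw [← Submodule.mkQ_apply, ← Submodule.mkQ_apply, this, sub_self]
  refine ⟨LinearMap.codRestrict H.toSubmodule (LinearMap.id - σ ∘ₗ H.toSubmodule.mkQ : L →ₗ[A] L) hmem, ?_⟩
  intro h
  apply Subtype.ext
  have : H.toSubmodule.mkQ (h : L) = 0 := (Submodule.Quotient.mk_eq_zero _).2 h.2
  show (h : L) - σ (H.toSubmodule.mkQ (h : L)) = (h : L)
  rw [this, map_zero, sub_zero]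

theorem finite_of_projective_quotient [Module.Finite A L] : Module.Finite A H := by
  obtain ⟨r, hr⟩ := exists_retraction H
  exact Module.Finite.of_surjective r (fun h => ⟨h, hr h⟩)

theorem projective_of_projective_quotient [Module.Projective A L] : Module.Projective A H := by
  obtain ⟨r, hr⟩ := exists_retraction H
  exact Module.Projective.of_split (H.toSubmodule.subtype) r (LinearMap.ext hr)

end Retract


section Main

variable [Module.Finite A L] [Module.Projective A L]
variable (H : LieSubalgebra A L) (a : L)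

/-- A relative Cartan subalgebra containing `a` is contained in the Engel subalgebra of `a`. -/
theorem le_engel_of_isCartanRel (hH : IsCartanRel H) (ha : a ∈ H) : H ≤ LieSubalgebra.engel A a := by
  haveI : Module.Projective A (L ⧸ H.toSubmodule) := hH.1
  haveI : Module.Finite A H := finite_of_projective_quotient H
  haveI : Module.Projective A H := projective_of_projective_quotient H
  have hnil : IsNilpotent (LieAlgebra.ad A H ⟨a, ha⟩) := by
    apply isNilpotent_of_forall_baseChange_residueField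
    intro p
    haveI : LieRing.IsNilpotent (p.asIdeal.ResidueField ⊗[A] H) := (hH.2 p).1
    have h1 := LieModule.isNilpotent_toEnd_of_isNilpotent p.asIdeal.ResidueField
      (p.asIdeal.ResidueField ⊗[A] H) (p.asIdeal.ResidueField ⊗[A] H)
      ((1 : p.asIdeal.ResidueField) ⊗ₜ[A] (⟨a, ha⟩ : H))
    rw [LieModule.toEnd_baseChange] at h1
    exact h1
  obtain ⟨k, hk⟩ := hnil
  intro h hh
  rw [LieSubalgebra.mem_engel_iff]
  refine ⟨k, ?_⟩
  have h2 := LieSubalgebra.coe_ad_pow A L H ⟨a, ha⟩ ⟨h, hh⟩ k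
  rw [hk] at h2
  simpa using h2.symm

end Main


section Fibre

variable (H : LieSubalgebra A L) (a : L)

/-- `ad (1 ⊗ a)` on the fibre is the base change of `ad a`. -/
theorem ad_one_tmul (K : Type u) [Field K] [Algebra A K] :
    LieAlgebra.ad K (K ⊗[A] L) ((1 : K) ⊗ₜ[A] a) = (LieAlgebra.ad A L a).baseChange K :=
  LieModule.toEnd_baseChange (R := A) (A := K) (L := L) (M := L) a

theorem ad_one_tmul_pow_tmul (K : Type u) [Field K] [Algebra A K] (k : ℕ) (c : K) (x : L) :
    ((LieAlgebra.ad K (K ⊗[A] L) ((1 : K) ⊗ₜ[A] a)) ^ k) (c ⊗ₜ[A] x) =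
      c ⊗ₜ[A] ((LieAlgebra.ad A L a) ^ k) x := by
  rw [ad_one_tmul, ← LinearMap.baseChange_pow, LinearMap.baseChange_tmul]

/-- If `H ≤ engel a` then the fibre of `H` is contained in the Engel subalgebra of `1 ⊗ a`. -/
theorem fibreSubmodule_le_engel (p : PrimeSpectrum A) (hle : H ≤ LieSubalgebra.engel A a) :
    fibreSubmodule p H ≤
      (LieSubalgebra.engel p.asIdeal.ResidueField ((1 : p.asIdeal.ResidueField) ⊗ₜ[A] a)).toSubmodule := by
  unfold fibreSubmodule
  rw [Submodule.baseChange_eq_span, Submodule.span_le]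
  rintro _ ⟨h, hh, rfl⟩
  obtain ⟨k, hk⟩ := (LieSubalgebra.mem_engel_iff A a h).1 (hle hh)
  show _ ∈ LieSubalgebra.engel _ _
  rw [LieSubalgebra.mem_engel_iff]
  refine ⟨k, ?_⟩
  rw [TensorProduct.mk_apply, ad_one_tmul_pow_tmul, hk, TensorProduct.tmul_zero]

variable [Module.Finite A L] [Module.Projective A L]

/-- For a relative Cartan subalgebra `H` containing the quasi-regular element `a`, the fibre of `H` is the
Engel subalgebra of `1 ⊗ a`. -/
theorem fibreSubmodule_eq_engel (hH : IsCartanRel H) (ha : a ∈ H) (hq : IsQuasiRegular A L a)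
    (p : PrimeSpectrum A) :
    fibreSubmodule p H =
      (LieSubalgebra.engel p.asIdeal.ResidueField ((1 : p.asIdeal.ResidueField) ⊗ₜ[A] a)).toSubmodule := by
  apply Submodule.eq_of_le_of_finrank_eq
    (fibreSubmodule_le_engel H a p (le_engel_of_isCartanRel H a hH ha))
  rw [(hH.2 p).2.2]
  exact ((LieAlgebra.isRegular_iff_finrank_engel_eq_rank p.asIdeal.ResidueField _).1 (hq p)).symm

/-- Fitting: every element is congruent, modulo the generalized kernel, to an element of the image. -/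
theorem exists_sub_mem_engel {K : Type u} [Field K] {V : Type u} [LieRing V] [LieAlgebra K V]
    [Module.Finite K V] (x y : V) : ∃ z : V, ⁅x, z⁆ - y ∈ LieSubalgebra.engel K x := by
  obtain ⟨n, hn⟩ := Filter.eventually_atTop.1
    (LinearMap.eventually_isCompl_ker_pow_range_pow (LieAlgebra.ad K V x))
  have hc := hn (n + 1) (Nat.le_succ n)
  have hy : y ∈ LinearMap.ker ((LieAlgebra.ad K V x) ^ (n + 1)) ⊔
      LinearMap.range ((LieAlgebra.ad K V x) ^ (n + 1)) := by
    rw [hc.sup_eq_top]; trivial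
  obtain ⟨y0, hy0, y1, ⟨w, rfl⟩, rfl⟩ := Submodule.mem_sup.1 hy
  refine ⟨((LieAlgebra.ad K V x) ^ n) w, ?_⟩
  rw [LieSubalgebra.mem_engel_iff]
  refine ⟨n + 1, ?_⟩
  have e : ⁅x, ((LieAlgebra.ad K V x) ^ n) w⁆ = ((LieAlgebra.ad K V x) ^ (n + 1)) w := by
    rw [pow_succ', Module.End.mul_apply, LieAlgebra.ad_apply]
  rw [e, sub_add_cancel_right, map_neg, LinearMap.mem_ker.1 hy0, neg_zero]

end Fibre


section Global

variable (H : LieSubalgebra A L) (a : L)

/-- The endomorphism of `L ⧸ H` induced by `ad a`, for `a ∈ H`. -/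
noncomputable def adQ (ha : a ∈ H) : Module.End A (L ⧸ H.toSubmodule) :=
  H.toSubmodule.mapQ H.toSubmodule (LieAlgebra.ad A L a) (by
    intro h hh
    rw [Submodule.mem_comap, LieAlgebra.ad_apply]
    exact H.lie_mem ha hh)

theorem adQ_mk (ha : a ∈ H) (x : L) :
    adQ H a ha (Submodule.Quotient.mk x) = Submodule.Quotient.mk ⁅a, x⁆ := rfl

theorem adQ_pow_mk (ha : a ∈ H) (k : ℕ) (x : L) :
    ((adQ H a ha) ^ k) (Submodule.Quotient.mk x) =
      Submodule.Quotient.mk (((LieAlgebra.ad A L a) ^ k) x) := by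
  induction k with
  | zero => rfl
  | succ k ih => rw [pow_succ', Module.End.mul_apply, ih, adQ_mk, pow_succ', Module.End.mul_apply,
      LieAlgebra.ad_apply]

variable [Module.Finite A L] [Module.Projective A L]

/-- For a relative Cartan subalgebra `H` containing the quasi-regular element `a`: `L = H + [a, L]`. -/
theorem sup_range_ad_eq_top (hH : IsCartanRel H) (ha : a ∈ H) (hq : IsQuasiRegular A L a) :
    H.toSubmodule ⊔ LinearMap.range (LieAlgebra.ad A L a) = ⊤ := by
  apply eq_top_of_forall_maximal_sup_smul_eq_top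
  intro m hm
  rw [eq_top_iff]
  intro y _
  let p : PrimeSpectrum A := ⟨m, hm.isPrime⟩
  have hfib := fibreSubmodule_eq_engel H a hH ha hq p
  obtain ⟨z', hz'⟩ := exists_sub_mem_engel (K := m.ResidueField)
    ((1 : m.ResidueField) ⊗ₜ[A] a) ((1 : m.ResidueField) ⊗ₜ[A] y)
  obtain ⟨z, rfl⟩ := exists_one_tmul_eq m z'
  have hz'' : ⁅(1 : m.ResidueField) ⊗ₜ[A] a, (1 : m.ResidueField) ⊗ₜ[A] z⁆ - (1 : m.ResidueField) ⊗ₜ[A] y ∈
      fibreSubmodule p H := by
    rw [hfib]; exact hz'
  obtain ⟨h, hh, hEq⟩ := exists_one_tmul_eq_of_mem_baseChange m H.toSubmodule _ hz''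
  rw [LieAlgebra.ExtendScalars.bracket_tmul, mul_one] at hEq
  have h0 : (1 : m.ResidueField) ⊗ₜ[A] (⁅a, z⁆ - y - h) = 0 := by
    rw [TensorProduct.tmul_sub, TensorProduct.tmul_sub, hEq, sub_self]
  have h1 := mem_smul_top_of_one_tmul_eq_zero m _ h0
  have e : y = (-h + ⁅a, z⁆) + -(⁅a, z⁆ - y - h) := by abel
  rw [e]
  refine Submodule.add_mem _ (Submodule.mem_sup_left (Submodule.add_mem _ ?_ ?_))
    (Submodule.mem_sup_right (Submodule.neg_mem _ h1))
  · exact Submodule.mem_sup_left (H.toSubmodule.neg_mem hh)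
  · exact Submodule.mem_sup_right ⟨z, rfl⟩

theorem exists_lie_sub_mem (hH : IsCartanRel H) (ha : a ∈ H) (hq : IsQuasiRegular A L a) (y : L) :
    ∃ z : L, ⁅a, z⁆ - y ∈ H := by
  have hy : y ∈ H.toSubmodule ⊔ LinearMap.range (LieAlgebra.ad A L a) := by
    rw [sup_range_ad_eq_top H a hH ha hq]; trivial
  obtain ⟨h, hh, _, ⟨z, rfl⟩, rfl⟩ := Submodule.mem_sup.1 hy
  refine ⟨z, ?_⟩
  have : ⁅a, z⁆ - (h + (LieAlgebra.ad A L a) z) = -h := by
    rw [LieAlgebra.ad_apply]; abel
  rw [this]
  exact H.neg_mem hh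

theorem adQ_surjective (hH : IsCartanRel H) (ha : a ∈ H) (hq : IsQuasiRegular A L a) :
    Function.Surjective (adQ H a ha) := by
  intro y
  obtain ⟨y, rfl⟩ := Submodule.Quotient.mk_surjective _ y
  obtain ⟨z, hz⟩ := exists_lie_sub_mem H a hH ha hq y
  refine ⟨Submodule.Quotient.mk z, ?_⟩
  rw [adQ_mk, Submodule.Quotient.eq]
  exact hz

theorem adQ_injective (hH : IsCartanRel H) (ha : a ∈ H) (hq : IsQuasiRegular A L a) :
    Function.Injective (adQ H a ha) :=
  OrzechProperty.injective_of_surjective_endomorphism _ (adQ_surjective H a hH ha hq)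

/-- A relative Cartan subalgebra containing the quasi-regular element `a` is the Engel subalgebra of `a`. -/
theorem eq_engel_of_isCartanRel (hH : IsCartanRel H) (ha : a ∈ H) (hq : IsQuasiRegular A L a) :
    H = LieSubalgebra.engel A a := by
  apply le_antisymm (le_engel_of_isCartanRel H a hH ha)
  intro y hy
  obtain ⟨k, hk⟩ := (LieSubalgebra.mem_engel_iff A a y).1 hy
  have hinj : Function.Injective ((adQ H a ha) ^ k) := by
    rw [Module.End.coe_pow]
    exact (adQ_injective H a hH ha hq).iterate k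
  have h0 : ((adQ H a ha) ^ k) (Submodule.Quotient.mk y) = 0 := by
    rw [adQ_pow_mk, hk, Submodule.Quotient.mk_zero]
  have h1 : (Submodule.Quotient.mk y : L ⧸ H.toSubmodule) = 0 := by
    apply hinj
    rw [h0, map_zero]
  exact (Submodule.Quotient.mk_eq_zero _).1 h1

end Global


section Auto

theorem ad_pow_map (u : L ≃ₗ⁅A⁆ L) (a : L) (k : ℕ) (x : L) :
    ((LieAlgebra.ad A L (u a)) ^ k) (u x) = u (((LieAlgebra.ad A L a) ^ k) x) := by
  induction k with
  | zero => rfl
  | succ k ih =>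
    rw [pow_succ', Module.End.mul_apply, ih, LieAlgebra.ad_apply, pow_succ', Module.End.mul_apply,
      LieAlgebra.ad_apply, LieEquiv.map_lie]

theorem engel_map (u : L ≃ₗ⁅A⁆ L) (a : L) :
    (LieSubalgebra.engel A a).map u.toLieHom = LieSubalgebra.engel A (u a) := by
  ext y
  rw [LieSubalgebra.mem_map, LieSubalgebra.mem_engel_iff]
  constructor
  · rintro ⟨x, hx, rfl⟩
    obtain ⟨k, hk⟩ := (LieSubalgebra.mem_engel_iff A a x).1 hx
    refine ⟨k, ?_⟩
    show ((LieAlgebra.ad A L (u a)) ^ k) (u x) = 0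
    rw [ad_pow_map, hk, map_zero]
  · rintro ⟨k, hk⟩
    refine ⟨u.symm y, ?_, by simp⟩
    rw [LieSubalgebra.mem_engel_iff]
    refine ⟨k, ?_⟩
    apply u.injective
    show u (((LieAlgebra.ad A L a) ^ k) (u.symm y)) = u 0
    rw [← ad_pow_map, LieEquiv.apply_symm_apply, hk, map_zero]

theorem ad_map_eq_conj (u : L ≃ₗ⁅A⁆ L) (a : L) :
    LieAlgebra.ad A L (u a) = u.toLinearEquiv.conj (LieAlgebra.ad A L a) := by
  ext y
  rw [LinearEquiv.conj_apply_apply, LieAlgebra.ad_apply, LieAlgebra.ad_apply]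
  show ⁅u a, y⁆ = u ⁅a, u.symm y⁆
  rw [LieEquiv.map_lie, LieEquiv.apply_symm_apply]

variable [Module.Finite A L] [Module.Projective A L]

theorem charpoly_ad_one_tmul_map (u : L ≃ₗ⁅A⁆ L) (a : L) (K : Type u) [Field K] [Algebra A K] :
    (LieAlgebra.ad K (K ⊗[A] L) ((1 : K) ⊗ₜ[A] u a)).charpoly =
      (LieAlgebra.ad K (K ⊗[A] L) ((1 : K) ⊗ₜ[A] a)).charpoly := by
  rw [ad_one_tmul, ad_one_tmul, ad_map_eq_conj]
  have : (u.toLinearEquiv.conj (LieAlgebra.ad A L a)).baseChange K =
      (u.toLinearEquiv.baseChange A K L L).conj ((LieAlgebra.ad A L a).baseChange K) := by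
    apply TensorProduct.AlgebraTensorModule.curry_injective
    ext y
    have e : ⁅u a, y⁆ = u ⁅a, u.symm y⁆ := by rw [LieEquiv.map_lie, LieEquiv.apply_symm_apply]
    simp [LinearEquiv.conj_apply_apply]
    exact congrArg _ e
  rw [this, LinearEquiv.charpoly_conj]

theorem isQuasiRegular_map (u : L ≃ₗ⁅A⁆ L) (a : L) (ha : IsQuasiRegular A L a) :
    IsQuasiRegular A L (u a) := by
  intro p
  have h := ha p
  rw [LieAlgebra.isRegular_def] at h ⊢
  rwa [charpoly_ad_one_tmul_map]

/-- For a relative Cartan subalgebra `H`, a quasi-regular `a ∈ H` and an automorphism `u` of `L`: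
`u(H) = H` iff `u a ∈ H`. -/
theorem map_eq_self_iff (H : LieSubalgebra A L) (hH : IsCartanRel H) (a : L) (haH : a ∈ H)
    (ha : IsQuasiRegular A L a) (u : L ≃ₗ⁅A⁆ L) :
    H.map u.toLieHom = H ↔ u a ∈ H := by
  constructor
  · intro h
    rw [← h, LieSubalgebra.mem_map]
    exact ⟨a, haH, rfl⟩
  · intro h
    have h1 := eq_engel_of_isCartanRel H a hH haH ha
    have h2 := eq_engel_of_isCartanRel H (u a) hH h (isQuasiRegular_map u a ha)
    conv_lhs => rw [h1]
    rw [engel_map, ← h2]

end Auto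

end Groth.Agent.Lib.Seat37.CartanRel
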