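import Mathlib

/-!
# The Engel subalgebra of a regular element is contained in the Engel subalgebra of each of its elements

Over an arbitrary field (Mathlib proves this when the field has at least `dim L` elements); the general case is
obtained by extension of scalars to an algebraic closure.  Also: invariance of the rank and of regularity under
extension of the base field.
-/

set_option autoImplicit false
universe u v

open scoped TensorProduct
open Module LieSubalgebra LieAlgebra Cardinal

namespace Groth.Agent.Lib.Seat37.EngelReg

attribute [local instance 100] LieRing.ofAssociativeRing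

theorem natTrailingDegree_map_of_injective {R S : Type*} [Semiring R] [Semiring S] (f : R →+* S)
    (hf : Function.Injective f) (p : Polynomial R) :
    (p.map f).natTrailingDegree = p.natTrailingDegree := by
  by_cases hp : p = 0
  · simp [hp]
  have hp' : p.map f ≠ 0 := (Polynomial.map_ne_zero_iff hf).2 hp
  apply le_antisymm
  · apply Polynomial.natTrailingDegree_le_of_ne_zero
    rw [Polynomial.coeff_map]
    intro h
    have h0 : p.coeff p.natTrailingDegree = 0 := hf (by rw [h, map_zero])
    exact (Polynomial.trailingCoeff_nonzero_iff_nonzero.2 hp) h0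
  · apply Polynomial.natTrailingDegree_le_of_ne_zero
    intro h
    have h0 : (p.map f).coeff (p.map f).natTrailingDegree = 0 := by
      rw [Polynomial.coeff_map, h, map_zero]
    exact (Polynomial.trailingCoeff_nonzero_iff_nonzero.2 hp') h0

section LargeField

variable {K : Type u} {L : Type v} [Field K] [LieRing L] [LieAlgebra K L] [Module.Finite K L]

/-- Mathlib's argument (Barnes): over a field with at least `dim L` elements, the Engel subalgebra of a
regular element is contained in the Engel subalgebra of each of its elements. -/
theorem engel_le_engel_of_isRegular_of_card (h : finrank K L ≤ #K) (x : L) (hx : IsRegular K x)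
    (y : L) (hy : y ∈ engel K x) : engel K x ≤ engel K y := by
  set Ex : {engel K z | z ∈ engel K x} := ⟨engel K x, x, self_mem_engel _ _, rfl⟩
  suffices IsBot Ex from @this ⟨engel K y, y, hy, rfl⟩
  apply engel_isBot_of_isMin h (engel K x) Ex le_rfl
  rintro ⟨_, y, hy, rfl⟩ hyx
  suffices finrank K (engel K x) ≤ finrank K (engel K y) by
    suffices engel K y = engel K x from this.ge
    apply LieSubalgebra.toSubmodule_injective
    exact Submodule.eq_of_le_of_finrank_le hyx this
  rw [(isRegular_iff_finrank_engel_eq_rank K x).mp hx]
  apply rank_le_finrank_engel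

end LargeField


section BaseChange

variable (K : Type u) [Field K] (K' : Type u) [Field K'] [Algebra K K']
variable (V : Type v) [LieRing V] [LieAlgebra K V] [Module.Finite K V]

omit [Module.Finite K V] in
theorem ad_toLinearMap_baseChange :
    (LieAlgebra.ad K' (K' ⊗[K] V)).toLinearMap =
      LinearMap.tensorProduct K K' V V ∘ₗ ((LieAlgebra.ad K V).toLinearMap).baseChange K' := by
  apply TensorProduct.AlgebraTensorModule.curry_injective
  ext v w
  simp [LinearMap.tensorProduct]

/-- The rank of a Lie algebra is invariant under extension of the base field. -/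
theorem rank_baseChange : LieAlgebra.rank K' (K' ⊗[K] V) = LieAlgebra.rank K V := by
  classical
  let b := Module.Free.chooseBasis K V
  rw [LieAlgebra.rank_eq_natTrailingDegree K V b,
    LieAlgebra.rank_eq_natTrailingDegree K' (K' ⊗[K] V) (Algebra.TensorProduct.basis K' b),
    ad_toLinearMap_baseChange, LinearMap.polyCharpoly_baseChange]
  exact natTrailingDegree_map_of_injective _
    (MvPolynomial.map_injective _ (algebraMap K K').injective) _

variable {V}

theorem charpoly_ad_one_tmul (x : V) :
    (LieAlgebra.ad K' (K' ⊗[K] V) ((1 : K') ⊗ₜ[K] x)).charpoly =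
      (LieAlgebra.ad K V x).charpoly.map (algebraMap K K') := by
  have : LieAlgebra.ad K' (K' ⊗[K] V) ((1 : K') ⊗ₜ[K] x) = (LieAlgebra.ad K V x).baseChange K' :=
    LieModule.toEnd_baseChange (R := K) (A := K') (L := V) (M := V) x
  rw [this, LinearMap.charpoly_baseChange]

/-- Regularity is invariant under extension of the base field. -/
theorem isRegular_one_tmul_iff (x : V) :
    LieAlgebra.IsRegular K' ((1 : K') ⊗ₜ[K] x) ↔ LieAlgebra.IsRegular K x := by
  rw [LieAlgebra.isRegular_def, LieAlgebra.isRegular_def, charpoly_ad_one_tmul, rank_baseChange,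
    Polynomial.coeff_map]
  exact (map_ne_zero_iff _ (algebraMap K K').injective)

omit [Module.Finite K V] in
theorem ad_one_tmul_pow_one_tmul (x z : V) (k : ℕ) :
    ((LieAlgebra.ad K' (K' ⊗[K] V) ((1 : K') ⊗ₜ[K] x)) ^ k) ((1 : K') ⊗ₜ[K] z) =
      (1 : K') ⊗ₜ[K] (((LieAlgebra.ad K V x) ^ k) z) := by
  have : LieAlgebra.ad K' (K' ⊗[K] V) ((1 : K') ⊗ₜ[K] x) = (LieAlgebra.ad K V x).baseChange K' :=
    LieModule.toEnd_baseChange (R := K) (A := K') (L := V) (M := V) x
  rw [this, ← LinearMap.baseChange_pow, LinearMap.baseChange_tmul]

omit [Module.Finite K V] in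
theorem one_tmul_mem_engel_iff (x z : V) :
    (1 : K') ⊗ₜ[K] z ∈ engel K' ((1 : K') ⊗ₜ[K] x) ↔ z ∈ engel K x := by
  rw [mem_engel_iff, mem_engel_iff]
  have hinj : Function.Injective (fun z : V => (1 : K') ⊗ₜ[K] z) := by
    have := Module.Flat.lTensor_preserves_injective_linearMap (M := V)
      (Algebra.linearMap K K') (algebraMap K K').injective
    intro z₁ z₂ h
    have h' : (Algebra.linearMap K K').rTensor V ((1 : K) ⊗ₜ[K] z₁) =
        (Algebra.linearMap K K').rTensor V ((1 : K) ⊗ₜ[K] z₂) := by
      simpa using h
    have hr : Function.Injective ((Algebra.linearMap K K').rTensor V) :=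
      Module.Flat.rTensor_preserves_injective_linearMap _ (algebraMap K K').injective
    have := hr h'
    have h2 := congrArg (TensorProduct.lid K V) this
    simpa using h2
  constructor
  · rintro ⟨k, hk⟩
    refine ⟨k, ?_⟩
    rw [ad_one_tmul_pow_one_tmul] at hk
    apply hinj
    simpa using hk
  · rintro ⟨k, hk⟩
    exact ⟨k, by rw [ad_one_tmul_pow_one_tmul, hk, TensorProduct.tmul_zero]⟩

end BaseChange

section General

variable {K : Type u} [Field K] {V : Type v} [LieRing V] [LieAlgebra K V] [Module.Finite K V]

/-- Over any field, the Engel subalgebra of a regular element is contained in the Engel subalgebra of each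
of its elements. -/
theorem engel_le_engel_of_isRegular (x : V) (hx : IsRegular K x) (y : V) (hy : y ∈ engel K x) :
    engel K x ≤ engel K y := by
  let K' := AlgebraicClosure K
  intro z hz
  have hx' : IsRegular K' ((1 : K') ⊗ₜ[K] x) := (isRegular_one_tmul_iff K K' x).2 hx
  have hy' : (1 : K') ⊗ₜ[K] y ∈ engel K' ((1 : K') ⊗ₜ[K] x) := (one_tmul_mem_engel_iff K K' x y).2 hy
  have hz' : (1 : K') ⊗ₜ[K] z ∈ engel K' ((1 : K') ⊗ₜ[K] x) := (one_tmul_mem_engel_iff K K' x z).2 hz
  have hcard : (finrank K' (K' ⊗[K] V) : Cardinal) ≤ #K' :=
    (natCast_le_aleph0).trans (Cardinal.infinite_iff.mp inferInstance)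
  have := engel_le_engel_of_isRegular_of_card hcard _ hx' _ hy' hz'
  exact (one_tmul_mem_engel_iff K K' y z).1 this

/-- Over any field, the Engel subalgebra of a regular element is a nilpotent Lie algebra. -/
theorem isNilpotent_engel_of_isRegular (x : V) (hx : IsRegular K x) :
    LieRing.IsNilpotent (engel K x) :=
  isNilpotent_of_forall_le_engel _ (fun y hy => engel_le_engel_of_isRegular x hx y hy)

end General

end Groth.Agent.Lib.Seat37.EngelReg
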