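import Mathlib
import Groth.Prelude.Def_W4sga3xiixivxvCartan
import Groth.Agent.Lib.Seat37ProjEnd
import Groth.Agent.Lib.Seat37CartanRel
import Groth.Agent.Lib.Seat37EngelReg

/-!
# Relative Cartan subalgebras: when the Engel subalgebra of a quasi-regular element is a Cartan subalgebra
-/

set_option autoImplicit false
universe u

open scoped TensorProduct
open SGA3t2b

namespace Groth.Agent.Lib.Seat37.CartanRel

open Groth.Agent.Lib.Seat37.ProjEnd Groth.Agent.Lib.Seat37.EngelReg

variable {A : Type u} [CommRing A] {L : Type u} [LieRing L] [LieAlgebra A L]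

section KerBaseChange

/-- The kernel of the base change of the quotient map is the base change of the submodule. -/
theorem mem_baseChange_of_mkQ_baseChange_eq_zero {M : Type u} [AddCommGroup M] [Module A M]
    (N : Submodule A M) (K : Type u) [CommRing K] [Algebra A K] (x : K ⊗[A] M)
    (hx : N.mkQ.baseChange K x = 0) : x ∈ N.baseChange K := by
  have h1 : x ∈ LinearMap.ker (LinearMap.lTensor K N.mkQ) := by
    rw [LinearMap.mem_ker, ← LinearMap.baseChange_eq_ltensor]; exact hx
  rw [lTensor_mkQ] at h1
  obtain ⟨y, rfl⟩ := h1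
  exact ⟨y, by rw [LinearMap.baseChange_eq_ltensor]⟩

end KerBaseChange

section Converse

variable [Module.Finite A L] [Module.Projective A L]
variable (a : L)

variable (A) in
/-- The hypotheses of the converse: `L ⧸ engel a` is projective and `ad a` is bijective on it. -/
structure EngelGood : Prop where
  proj : Module.Projective A (L ⧸ (LieSubalgebra.engel A a).toSubmodule)
  inj : ∀ z : L, ⁅a, z⁆ ∈ LieSubalgebra.engel A a → z ∈ LieSubalgebra.engel A a
  surj : ∀ y : L, ∃ z : L, ⁅a, z⁆ - y ∈ LieSubalgebra.engel A a

variable {a}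

omit [Module.Finite A L] [Module.Projective A L] in
theorem EngelGood.adQ_bijective (h : EngelGood A a) :
    Function.Bijective (adQ (LieSubalgebra.engel A a) a (LieSubalgebra.self_mem_engel A a)) := by
  constructor
  · rw [injective_iff_map_eq_zero]
    intro y hy
    obtain ⟨y, rfl⟩ := Submodule.Quotient.mk_surjective _ y
    rw [adQ_mk, Submodule.Quotient.mk_eq_zero] at hy
    exact (Submodule.Quotient.mk_eq_zero _).2 (h.inj y hy)
  · intro y
    obtain ⟨y, rfl⟩ := Submodule.Quotient.mk_surjective _ y
    obtain ⟨z, hz⟩ := h.surj y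
    refine ⟨Submodule.Quotient.mk z, ?_⟩
    rw [adQ_mk, Submodule.Quotient.eq]
    exact hz

omit [Module.Finite A L] [Module.Projective A L] in
/-- Under `EngelGood`, the fibre of `engel a` at `p` is the Engel subalgebra of `1 ⊗ a`. -/
theorem EngelGood.fibreSubmodule_eq_engel (h : EngelGood A a) (p : PrimeSpectrum A) :
    fibreSubmodule p (LieSubalgebra.engel A a) =
      (LieSubalgebra.engel p.asIdeal.ResidueField ((1 : p.asIdeal.ResidueField) ⊗ₜ[A] a)).toSubmodule := by
  apply le_antisymm (fibreSubmodule_le_engel _ a p le_rfl)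
  intro x hx
  obtain ⟨k, hk⟩ := (LieSubalgebra.mem_engel_iff _ _ x).1 hx
  set E := LieSubalgebra.engel A a with hE
  set K := p.asIdeal.ResidueField with hK
  set ψ := adQ E a (LieSubalgebra.self_mem_engel A a) with hψ
  have hcomm : E.toSubmodule.mkQ ∘ₗ (LieAlgebra.ad A L a) = ψ ∘ₗ E.toSubmodule.mkQ := by
    ext y; rfl
  have hcommK : ∀ (n : ℕ) (t : K ⊗[A] L),
      E.toSubmodule.mkQ.baseChange K ((((LieAlgebra.ad A L a).baseChange K) ^ n) t) =
        ((ψ.baseChange K) ^ n) (E.toSubmodule.mkQ.baseChange K t) := by
    intro n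
    induction n with
    | zero => intro t; rfl
    | succ n ih =>
      intro t
      rw [pow_succ', Module.End.mul_apply, pow_succ', Module.End.mul_apply, ← ih]
      have := LinearMap.congr_fun (congrArg (LinearMap.baseChange K) hcomm)
        ((((LieAlgebra.ad A L a).baseChange K) ^ n) t)
      rw [LinearMap.baseChange_comp, LinearMap.baseChange_comp] at this
      exact this
  have hψinj : Function.Injective (ψ.baseChange K) := by
    have := ((LinearEquiv.ofBijective ψ h.adQ_bijective).baseChange A K _ _).injective
    exact this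
  have hinjk : Function.Injective ((ψ.baseChange K) ^ k) := by
    rw [Module.End.coe_pow]; exact hψinj.iterate k
  have h0 : E.toSubmodule.mkQ.baseChange K x = 0 := by
    apply hinjk
    rw [← hcommK, ← ad_one_tmul, hk, map_zero, map_zero]
  exact mem_baseChange_of_mkQ_baseChange_eq_zero E.toSubmodule K x h0

end Converse


section Converse2

variable [Module.Finite A L] [Module.Projective A L]
variable {a : L}

omit [Module.Finite A L] [Module.Projective A L] in
/-- The base change of the inclusion of a Lie subalgebra is compatible with brackets. -/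
theorem incl_baseChange_lie (E : LieSubalgebra A L) (K : Type u) [CommRing K] [Algebra A K]
    (x y : K ⊗[A] E) :
    E.incl.toLinearMap.baseChange K ⁅x, y⁆ =
      ⁅E.incl.toLinearMap.baseChange K x, E.incl.toLinearMap.baseChange K y⁆ := by
  have h := (LieAlgebra.ExtendScalars.map (AlgHom.id A K) E.incl).map_lie x y
  exact h

omit [Module.Finite A L] [Module.Projective A L] in
theorem incl_baseChange_ad_pow (E : LieSubalgebra A L) (K : Type u) [CommRing K] [Algebra A K]
    (x y : K ⊗[A] E) (n : ℕ) :
    E.incl.toLinearMap.baseChange K (((LieAlgebra.ad K (K ⊗[A] E) x) ^ n) y) =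
      ((LieAlgebra.ad K (K ⊗[A] L) (E.incl.toLinearMap.baseChange K x)) ^ n)
        (E.incl.toLinearMap.baseChange K y) := by
  induction n with
  | zero => rfl
  | succ n ih =>
    rw [pow_succ', Module.End.mul_apply, LieAlgebra.ad_apply, incl_baseChange_lie, ih, pow_succ',
      Module.End.mul_apply, LieAlgebra.ad_apply]

omit [Module.Finite A L] [Module.Projective A L] in
theorem incl_baseChange_injective (E : LieSubalgebra A L) [Module.Projective A (L ⧸ E.toSubmodule)]
    (K : Type u) [CommRing K] [Algebra A K] :
    Function.Injective (E.incl.toLinearMap.baseChange K) := by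
  obtain ⟨r, hr⟩ := exists_retraction E
  have h : r ∘ₗ E.incl.toLinearMap = LinearMap.id := LinearMap.ext hr
  have h' : (r.baseChange K) ∘ₗ (E.incl.toLinearMap.baseChange K) = LinearMap.id := by
    rw [← LinearMap.baseChange_comp, h, LinearMap.baseChange_id]
  exact Function.LeftInverse.injective (g := r.baseChange K) (fun x => LinearMap.congr_fun h' x)

omit [Module.Finite A L] [Module.Projective A L] in
theorem incl_baseChange_mem (E : LieSubalgebra A L) (K : Type u) [CommRing K] [Algebra A K]
    (x : K ⊗[A] E) : E.incl.toLinearMap.baseChange K x ∈ E.toSubmodule.baseChange K :=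
  ⟨x, rfl⟩

/-- Under `EngelGood`, with `a` quasi-regular, the Engel subalgebra of `a` is a relative Cartan subalgebra. -/
theorem EngelGood.isCartanRel (h : EngelGood A a) (hq : IsQuasiRegular A L a) :
    IsCartanRel (LieSubalgebra.engel A a) := by
  haveI : Module.Projective A (L ⧸ (LieSubalgebra.engel A a).toSubmodule) := h.proj
  haveI : Module.Finite A (LieSubalgebra.engel A a) := finite_of_projective_quotient _
  refine ⟨h.proj, fun p => ?_⟩
  have hfib := h.fibreSubmodule_eq_engel p
  have hreg := hq p
  set E := LieSubalgebra.engel A a with hE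
  set K := p.asIdeal.ResidueField with hK
  refine ⟨?_, ?_, ?_⟩
  · -- nilpotency of `K ⊗ E`
    rw [LieAlgebra.isNilpotent_iff_forall (R := K)]
    intro x
    apply ((LinearMap.charpoly_nilpotent_tfae (LieAlgebra.ad K (K ⊗[A] E) x)).out 0 2).2
    intro y
    have hx : E.incl.toLinearMap.baseChange K x ∈
        LieSubalgebra.engel K ((1 : K) ⊗ₜ[A] a) := by
      have := incl_baseChange_mem E K x
      change _ ∈ fibreSubmodule p E at this
      rw [hfib] at this; exact this
    have hy : E.incl.toLinearMap.baseChange K y ∈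
        LieSubalgebra.engel K ((1 : K) ⊗ₜ[A] a) := by
      have := incl_baseChange_mem E K y
      change _ ∈ fibreSubmodule p E at this
      rw [hfib] at this; exact this
    have hle := engel_le_engel_of_isRegular _ hreg _ hx hy
    obtain ⟨n, hn⟩ := (LieSubalgebra.mem_engel_iff _ _ _).1 hle
    refine ⟨n, ?_⟩
    apply incl_baseChange_injective E K
    rw [incl_baseChange_ad_pow, hn, map_zero]
  · intro x hx
    rw [hfib] at hx ⊢
    have : x ∈ (LieSubalgebra.engel K ((1 : K) ⊗ₜ[A] a)).normalizer := by
      rw [LieSubalgebra.mem_normalizer_iff]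
      exact hx
    rwa [LieSubalgebra.normalizer_engel] at this
  · rw [hfib]
    exact (LieAlgebra.isRegular_iff_finrank_engel_eq_rank K _).1 hreg

end Converse2

section Final

variable [Module.Finite A L] [Module.Projective A L]

/-- The full statement: relative Cartan subalgebras containing a quasi-regular element. -/
theorem cartanRel_containing_quasiRegular (a : L) (ha : IsQuasiRegular A L a) :
    (∀ H : LieSubalgebra A L, IsCartanRel H → a ∈ H → H = LieSubalgebra.engel A a) ∧
    ((∃ H : LieSubalgebra A L, IsCartanRel H ∧ a ∈ H) ↔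
      (Module.Projective A (L ⧸ (LieSubalgebra.engel A a).toSubmodule) ∧
        (∀ z : L, ⁅a, z⁆ ∈ LieSubalgebra.engel A a → z ∈ LieSubalgebra.engel A a) ∧
        (∀ y : L, ∃ z : L, ⁅a, z⁆ - y ∈ LieSubalgebra.engel A a))) := by
  refine ⟨fun H hH haH => eq_engel_of_isCartanRel H a hH haH ha, ?_, ?_⟩
  · rintro ⟨H, hH, haH⟩
    have hEq := eq_engel_of_isCartanRel H a hH haH ha
    refine ⟨hEq ▸ hH.1, ?_, ?_⟩
    · intro z hz
      rw [← hEq] at hz ⊢
      have h1 : adQ H a haH (Submodule.Quotient.mk z) = 0 := by
        rw [adQ_mk]; exact (Submodule.Quotient.mk_eq_zero _).2 hz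
      have h2 := adQ_injective H a hH haH ha (h1.trans (map_zero _).symm)
      exact (Submodule.Quotient.mk_eq_zero _).1 h2
    · intro y
      obtain ⟨z, hz⟩ := exists_lie_sub_mem H a hH haH ha y
      exact ⟨z, hEq ▸ hz⟩
  · rintro ⟨h1, h2, h3⟩
    exact ⟨_, EngelGood.isCartanRel ⟨h1, h2, h3⟩ ha, LieSubalgebra.self_mem_engel A a⟩

end Final

end Groth.Agent.Lib.Seat37.CartanRel
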