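import Mathlib
import Groth.Agent.Lib.Seat37EngelReg

/-!
# Rank and regular elements of Lie algebras: invariance under isomorphisms and iterated base change
-/

set_option autoImplicit false
universe u v

open scoped TensorProduct
open Module LieSubalgebra LieAlgebra

namespace Groth.Agent.Lib.Seat37.RankBC

open Groth.Agent.Lib.Seat37.EngelReg

attribute [local instance 100] LieRing.ofAssociativeRing

section Iso

variable {K : Type u} [Field K] {L L' : Type v} [LieRing L] [LieAlgebra K L] [Module.Finite K L]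
  [LieRing L'] [LieAlgebra K L'] [Module.Finite K L']

omit [Module.Finite K L] [Module.Finite K L'] in
theorem ad_map_eq_conj (e : L ≃ₗ⁅K⁆ L') (x : L) :
    LieAlgebra.ad K L' (e x) = e.toLinearEquiv.conj (LieAlgebra.ad K L x) := by
  ext y
  rw [LinearEquiv.conj_apply_apply, LieAlgebra.ad_apply, LieAlgebra.ad_apply]
  show ⁅e x, y⁆ = e ⁅x, e.symm y⁆
  rw [LieEquiv.map_lie, LieEquiv.apply_symm_apply]

theorem charpoly_ad_map (e : L ≃ₗ⁅K⁆ L') (x : L) :
    (LieAlgebra.ad K L' (e x)).charpoly = (LieAlgebra.ad K L x).charpoly := by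
  rw [ad_map_eq_conj, LinearEquiv.charpoly_conj]

theorem rank_le_of_lieEquiv_of_infinite [Infinite K] (e : L ≃ₗ⁅K⁆ L') :
    LieAlgebra.rank K L' ≤ LieAlgebra.rank K L := by
  obtain ⟨x, hx⟩ := LieAlgebra.exists_isRegular K L
  calc LieAlgebra.rank K L' ≤ (LieAlgebra.ad K L' (e x)).charpoly.natTrailingDegree :=
        LieAlgebra.rank_le_natTrailingDegree_charpoly_ad K (e x)
    _ = (LieAlgebra.ad K L x).charpoly.natTrailingDegree := by rw [charpoly_ad_map]
    _ = LieAlgebra.rank K L := (LieAlgebra.isRegular_iff_natTrailingDegree_charpoly_eq_rank K x).1 hx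

theorem rank_eq_of_lieEquiv_of_infinite [Infinite K] (e : L ≃ₗ⁅K⁆ L') :
    LieAlgebra.rank K L = LieAlgebra.rank K L' :=
  le_antisymm (rank_le_of_lieEquiv_of_infinite e.symm) (rank_le_of_lieEquiv_of_infinite e)

/-- Base change of a Lie algebra isomorphism along a field extension. -/
noncomputable def lieEquivBaseChange (K' : Type u) [Field K'] [Algebra K K'] (e : L ≃ₗ⁅K⁆ L') :
    (K' ⊗[K] L) ≃ₗ⁅K'⁆ (K' ⊗[K] L') :=
  { e.toLinearEquiv.baseChange K K' L L' with
    map_lie' := by
      intro x y
      exact (LieAlgebra.ExtendScalars.map (AlgHom.id K K') e.toLieHom).map_lie x y }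

/-- The rank of a Lie algebra over a field is invariant under isomorphism. -/
theorem rank_eq_of_lieEquiv (e : L ≃ₗ⁅K⁆ L') : LieAlgebra.rank K L = LieAlgebra.rank K L' := by
  rw [← rank_baseChange K (AlgebraicClosure K) L, ← rank_baseChange K (AlgebraicClosure K) L']
  exact rank_eq_of_lieEquiv_of_infinite (lieEquivBaseChange (AlgebraicClosure K) e)

/-- Regularity is invariant under isomorphism. -/
theorem isRegular_map_iff (e : L ≃ₗ⁅K⁆ L') (x : L) :
    LieAlgebra.IsRegular K (e x) ↔ LieAlgebra.IsRegular K x := by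
  rw [LieAlgebra.isRegular_def, LieAlgebra.isRegular_def, charpoly_ad_map, rank_eq_of_lieEquiv e]

end Iso


section Cancel

variable (A : Type u) [CommRing A] (B : Type u) [CommRing B] [Algebra A B]
  (F : Type u) [CommRing F] [Algebra A F] [Algebra B F] [IsScalarTower A B F]
  (L : Type u) [LieRing L] [LieAlgebra A L]

theorem cancelBaseChange_lie (x y : F ⊗[B] (B ⊗[A] L)) :
    TensorProduct.AlgebraTensorModule.cancelBaseChange A B F F L ⁅x, y⁆ =
      ⁅TensorProduct.AlgebraTensorModule.cancelBaseChange A B F F L x,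
        TensorProduct.AlgebraTensorModule.cancelBaseChange A B F F L y⁆ := by
  have h0 : ∀ x : F ⊗[B] (B ⊗[A] L), ⁅x, (0 : F ⊗[B] (B ⊗[A] L))⁆ = 0 := fun x => lie_zero x
  have h0' : ∀ x : F ⊗[A] L, ⁅x, (0 : F ⊗[A] L)⁆ = 0 := fun x => lie_zero x
  induction x using TensorProduct.induction_on with
  | zero => simp
  | add x₁ x₂ h₁ h₂ => rw [add_lie, map_add, map_add, add_lie, h₁, h₂]
  | tmul c t =>
    induction y using TensorProduct.induction_on with
    | zero => rw [h0, map_zero, h0']
    | add y₁ y₂ h₁ h₂ => rw [LieRing.lie_add, map_add, map_add, LieRing.lie_add, h₁, h₂]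
    | tmul c' t' =>
      induction t using TensorProduct.induction_on with
      | zero => simp
      | add t₁ t₂ h₁ h₂ =>
        rw [TensorProduct.tmul_add, add_lie, map_add, map_add, add_lie, h₁, h₂]
      | tmul b l =>
        induction t' using TensorProduct.induction_on with
        | zero => rw [TensorProduct.tmul_zero, h0, map_zero, h0']
        | add t₁ t₂ h₁ h₂ =>
          rw [TensorProduct.tmul_add, LieRing.lie_add, map_add, map_add, LieRing.lie_add, h₁, h₂]
        | tmul b' l' =>
          simp only [LieAlgebra.ExtendScalars.bracket_tmul,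
            TensorProduct.AlgebraTensorModule.cancelBaseChange_tmul]
          congr 1
          rw [Algebra.smul_def, Algebra.smul_def, Algebra.smul_def, map_mul]
          ring

/-- `F ⊗[B] (B ⊗[A] L) ≃ F ⊗[A] L` as Lie algebras over `F`. -/
noncomputable def cancelBaseChangeLie : (F ⊗[B] (B ⊗[A] L)) ≃ₗ⁅F⁆ (F ⊗[A] L) :=
  { TensorProduct.AlgebraTensorModule.cancelBaseChange A B F F L with
    map_lie' := by
      intro x y
      exact cancelBaseChange_lie A B F L x y }

@[simp]
theorem cancelBaseChangeLie_tmul (c : F) (b : B) (l : L) :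
    cancelBaseChangeLie A B F L (c ⊗ₜ[B] (b ⊗ₜ[A] l)) = (b • c) ⊗ₜ[A] l :=
  TensorProduct.AlgebraTensorModule.cancelBaseChange_tmul ..

end Cancel

section FieldTower

variable (A : Type u) [CommRing A] (L : Type u) [LieRing L] [LieAlgebra A L] [Module.Finite A L]

/-- For a field `F` over `A` and an extension field `F'` of `F` (compatibly over `A`), the Lie algebras
`F' ⊗[A] L` and `F ⊗[A] L` have the same rank. -/
theorem rank_tensor_field_ext (F F' : Type u) [Field F] [Field F'] [Algebra A F] [Algebra A F']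
    [Algebra F F'] [IsScalarTower A F F'] :
    LieAlgebra.rank F' (F' ⊗[A] L) = LieAlgebra.rank F (F ⊗[A] L) := by
  rw [← rank_eq_of_lieEquiv (cancelBaseChangeLie A F F' L), rank_baseChange]

/-- Regularity of `1 ⊗ a` is insensitive to extension of the field. -/
theorem isRegular_tensor_field_ext (F F' : Type u) [Field F] [Field F'] [Algebra A F] [Algebra A F']
    [Algebra F F'] [IsScalarTower A F F'] (a : L) :
    LieAlgebra.IsRegular F' ((1 : F') ⊗ₜ[A] a) ↔ LieAlgebra.IsRegular F ((1 : F) ⊗ₜ[A] a) := by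
  rw [← isRegular_one_tmul_iff F F' ((1 : F) ⊗ₜ[A] a),
    ← isRegular_map_iff (cancelBaseChangeLie A F F' L)]
  simp

/-- For an `A`-algebra `B` and a field `F` over `B`: the fibre of `B ⊗ L` at `F` has the rank of `F ⊗ L`. -/
theorem rank_tensor_tensor (B F : Type u) [CommRing B] [Algebra A B] [Field F] [Algebra A F] [Algebra B F]
    [IsScalarTower A B F] :
    LieAlgebra.rank F (F ⊗[B] (B ⊗[A] L)) = LieAlgebra.rank F (F ⊗[A] L) :=
  rank_eq_of_lieEquiv (cancelBaseChangeLie A B F L)

theorem isRegular_tensor_tensor (B F : Type u) [CommRing B] [Algebra A B] [Field F] [Algebra A F]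
    [Algebra B F] [IsScalarTower A B F] (a : L) :
    LieAlgebra.IsRegular F ((1 : F) ⊗ₜ[B] ((1 : B) ⊗ₜ[A] a)) ↔
      LieAlgebra.IsRegular F ((1 : F) ⊗ₜ[A] a) := by
  rw [← isRegular_map_iff (cancelBaseChangeLie A B F L)]
  simp

end FieldTower

end Groth.Agent.Lib.Seat37.RankBC
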