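import Mathlib
import Groth.Prelude.Def_W4sga3xiixivxvCartan
import Groth.Agent.Lib.Seat37CartanRel

/-!
# The locus of primes where a given section is regular

For a Lie algebra `L` over `A`, finitely generated projective as a module, and `a : L`, regularity of `1 ⊗ a`
in the fibre at `q` is read off one coefficient of the characteristic polynomial of an endomorphism of a free
module `A ^ n` of which `L` is a retract.
-/

set_option autoImplicit false
universe u

open scoped TensorProduct
open SGA3t2b Polynomial Module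

namespace Groth.Agent.Lib.Seat37.RegLocus

open Groth.Agent.Lib.Seat37.CartanRel

section Charpoly

variable {K : Type*} [Field K] {V W : Type*} [AddCommGroup V] [Module K V] [Module.Free K V]
  [Module.Finite K V] [AddCommGroup W] [Module K W] [Module.Free K W] [Module.Finite K W]

/-- Sylvester's identity for linear maps between finite free modules. -/
theorem charpoly_comp_comm (g : V →ₗ[K] W) (s : W →ₗ[K] V) :
    X ^ finrank K V * (g ∘ₗ s).charpoly = X ^ finrank K W * (s ∘ₗ g).charpoly := by
  classical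
  let bV := Free.chooseBasis K V
  let bW := Free.chooseBasis K W
  rw [← LinearMap.charpoly_toMatrix (g ∘ₗ s) bW, ← LinearMap.charpoly_toMatrix (s ∘ₗ g) bV,
    LinearMap.toMatrix_comp bW bV bW, LinearMap.toMatrix_comp bV bW bV,
    finrank_eq_card_chooseBasisIndex, finrank_eq_card_chooseBasisIndex]
  exact Matrix.charpoly_mul_comm' _ _

end Charpoly


section Locus

variable {A : Type u} [CommRing A] {L : Type u} [LieRing L] [LieAlgebra A L] [Module.Finite A L]
  [Module.Projective A L]

/-- Regularity of `1 ⊗ a` in the fibre at `q`, read off the characteristic polynomial of `i ∘ ad a ∘ s`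
for a retraction `s ∘ i = id` of a free module `A ^ n` onto `L`. -/
theorem isRegular_iff_coeff_notMem {n : ℕ} (s : (Fin n → A) →ₗ[A] L) (i : L →ₗ[A] (Fin n → A))
    (hsi : s ∘ₗ i = LinearMap.id) (a : L) (q : PrimeSpectrum A) :
    LieAlgebra.IsRegular q.asIdeal.ResidueField ((1 : q.asIdeal.ResidueField) ⊗ₜ[A] a) ↔
      (i ∘ₗ (LieAlgebra.ad A L a) ∘ₗ s).charpoly.coeff
        (LieAlgebra.rank q.asIdeal.ResidueField (q.asIdeal.ResidueField ⊗[A] L) + n -
          finrank q.asIdeal.ResidueField (q.asIdeal.ResidueField ⊗[A] L)) ∉ q.asIdeal := by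
  set K := q.asIdeal.ResidueField with hK
  set r := LieAlgebra.rank K (K ⊗[A] L) with hr
  set d := finrank K (K ⊗[A] L) with hd
  set P := (i ∘ₗ (LieAlgebra.ad A L a) ∘ₗ s).charpoly with hP
  have hn : finrank K (K ⊗[A] (Fin n → A)) = n := by
    rw [Module.finrank_eq_card_basis (Algebra.TensorProduct.basis K (Pi.basisFun A (Fin n)))]
    simp
  have hdn : d ≤ n := by
    have hinj : Function.Injective (i.baseChange K) := by
      have h' : (s.baseChange K) ∘ₗ (i.baseChange K) = LinearMap.id := by
        rw [← LinearMap.baseChange_comp, hsi, LinearMap.baseChange_id]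
      exact Function.LeftInverse.injective (g := s.baseChange K) (fun x => LinearMap.congr_fun h' x)
    have := LinearMap.finrank_le_finrank_of_injective hinj
    rwa [hn] at this
  have hS := charpoly_comp_comm ((i ∘ₗ (LieAlgebra.ad A L a)).baseChange K) (s.baseChange K)
  rw [hn] at hS
  have e1 : ((i ∘ₗ (LieAlgebra.ad A L a)).baseChange K) ∘ₗ (s.baseChange K) =
      (i ∘ₗ (LieAlgebra.ad A L a) ∘ₗ s).baseChange K := by
    rw [← LinearMap.baseChange_comp, LinearMap.comp_assoc]
  have e2 : (s.baseChange K) ∘ₗ ((i ∘ₗ (LieAlgebra.ad A L a)).baseChange K) =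
      LieAlgebra.ad K (K ⊗[A] L) ((1 : K) ⊗ₜ[A] a) := by
    rw [← LinearMap.baseChange_comp, ← LinearMap.comp_assoc, hsi, LinearMap.id_comp, ad_one_tmul]
  rw [e1, e2, LinearMap.charpoly_baseChange] at hS
  rw [LieAlgebra.isRegular_def]
  have h1 := congrArg (fun p => Polynomial.coeff p (r + n)) hS
  simp only [Polynomial.coeff_X_pow_mul', Polynomial.coeff_map] at h1
  rw [if_pos (hdn.trans (Nat.le_add_left n r)), if_pos (Nat.le_add_left n r), Nat.add_sub_cancel] at h1
  rw [← h1, Ne, Ideal.algebraMap_residueField_eq_zero]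

/-- If the rank of the fibres is locally constant, the locus where `1 ⊗ a` is regular is open. -/
theorem isOpen_setOf_isRegular
    (hC0 : ∀ p : PrimeSpectrum A, ∃ f : A, f ∉ p.asIdeal ∧ ∀ q : PrimeSpectrum A, f ∉ q.asIdeal →
        LieAlgebra.rank q.asIdeal.ResidueField (q.asIdeal.ResidueField ⊗[A] L) =
          LieAlgebra.rank p.asIdeal.ResidueField (p.asIdeal.ResidueField ⊗[A] L)) (a : L) :
    IsOpen {p : PrimeSpectrum A |
      LieAlgebra.IsRegular p.asIdeal.ResidueField ((1 : p.asIdeal.ResidueField) ⊗ₜ[A] a)} := by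
  obtain ⟨n, s, i, -, -, hsi⟩ := Module.Finite.exists_comp_eq_id_of_projective A L
  rw [isOpen_iff_forall_mem_open]
  intro p hp
  obtain ⟨f, hfp, hf⟩ := hC0 p
  have : Module.FinitePresentation A L := Module.finitePresentation_of_projective A L
  have hlc : IsLocallyConstant (Module.rankAtStalk (R := A) L) := Module.isLocallyConstant_rankAtStalk
  set P := (i ∘ₗ (LieAlgebra.ad A L a) ∘ₗ s).charpoly with hP
  set k0 := LieAlgebra.rank p.asIdeal.ResidueField (p.asIdeal.ResidueField ⊗[A] L) + n -
      finrank p.asIdeal.ResidueField (p.asIdeal.ResidueField ⊗[A] L) with hk0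
  refine ⟨(PrimeSpectrum.basicOpen f : Set (PrimeSpectrum A)) ∩
      (Module.rankAtStalk (R := A) L ⁻¹' {Module.rankAtStalk (R := A) L p}) ∩
      (PrimeSpectrum.basicOpen (P.coeff k0) : Set (PrimeSpectrum A)), ?_, ?_, ?_⟩
  · rintro q ⟨⟨hq1, hq2⟩, hq3⟩
    show LieAlgebra.IsRegular _ _
    rw [isRegular_iff_coeff_notMem s i hsi a q]
    have e1 := hf q hq1
    have e2 : finrank q.asIdeal.ResidueField (q.asIdeal.ResidueField ⊗[A] L) =
        finrank p.asIdeal.ResidueField (p.asIdeal.ResidueField ⊗[A] L) := by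
      have := hq2
      rw [Set.mem_preimage, Set.mem_singleton_iff, Module.rankAtStalk_eq, Module.rankAtStalk_eq] at this
      exact this
    rw [e1, e2]
    exact hq3
  · exact (((PrimeSpectrum.basicOpen f).isOpen).inter (hlc.isOpen_fiber _)).inter
      (PrimeSpectrum.basicOpen (P.coeff k0)).isOpen
  · refine ⟨⟨hfp, rfl⟩, ?_⟩
    exact (isRegular_iff_coeff_notMem s i hsi a p).1 hp

end Locus

end Groth.Agent.Lib.Seat37.RegLocus
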