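import Mathlib
import Groth.Prelude.Def_W4sga3xiixivxvCartan
import Groth.Agent.Lib.Seat37RankBC
import Groth.Agent.Lib.Seat37RegLocus

/-!
# Lifting regular elements of a fibre; quasi-regularity after base change
-/

set_option autoImplicit false
universe u

open scoped TensorProduct
open SGA3t2b

namespace Groth.Agent.Lib.Seat37.LiftReg

open Groth.Agent.Lib.Seat37.RankBC

section Scaling

variable {K : Type*} [Field K] {L : Type*} [LieRing L] [LieAlgebra K L]

theorem engel_smul (c : K) (hc : c ≠ 0) (x : L) :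
    LieSubalgebra.engel K (c • x) = LieSubalgebra.engel K x := by
  ext y
  rw [LieSubalgebra.mem_engel_iff, LieSubalgebra.mem_engel_iff]
  have h : ∀ n : ℕ, ((LieAlgebra.ad K L (c • x)) ^ n) y = c ^ n • ((LieAlgebra.ad K L x) ^ n) y := by
    intro n
    rw [map_smul, smul_pow, LinearMap.smul_apply]
  constructor
  · rintro ⟨n, hn⟩
    refine ⟨n, ?_⟩
    rw [h] at hn
    exact (smul_eq_zero.1 hn).resolve_left (pow_ne_zero n hc)
  · rintro ⟨n, hn⟩
    exact ⟨n, by rw [h, hn, smul_zero]⟩

theorem isRegular_smul_iff [Module.Finite K L] (c : K) (hc : c ≠ 0) (x : L) :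
    LieAlgebra.IsRegular K (c • x) ↔ LieAlgebra.IsRegular K x := by
  rw [LieAlgebra.isRegular_iff_finrank_engel_eq_rank, LieAlgebra.isRegular_iff_finrank_engel_eq_rank,
    engel_smul c hc]

end Scaling

section Lift

variable {A : Type u} [CommRing A] (p : Ideal A) [p.IsPrime]

theorem exists_smul_eq_algebraMap (c : p.ResidueField) :
    ∃ r ∉ p, ∃ a : A, r • c = algebraMap A p.ResidueField a := by
  obtain ⟨t, rfl⟩ := IsLocalRing.residue_surjective c
  obtain ⟨⟨y, t⟩, rfl⟩ := IsLocalization.mk'_surjective p.primeCompl t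
  refine ⟨t, t.2, y, ?_⟩
  rw [Algebra.smul_def, IsScalarTower.algebraMap_apply A (Localization.AtPrime p) p.ResidueField,
    IsScalarTower.algebraMap_apply A (Localization.AtPrime p) p.ResidueField,
    IsLocalRing.ResidueField.algebraMap_eq, ← map_mul]
  congr 1
  exact IsLocalization.mk'_spec' _ _ _

theorem exists_smul_eq_one_tmul {M : Type*} [AddCommGroup M] [Module A M] (x : p.ResidueField ⊗[A] M) :
    ∃ r ∉ p, ∃ m : M, r • x = (1 : p.ResidueField) ⊗ₜ[A] m := by
  induction x using TensorProduct.induction_on with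
  | zero => exact ⟨1, fun h => (Ideal.ne_top_iff_one p).1 (Ideal.IsPrime.ne_top ‹_›) h, 0, by simp⟩
  | tmul c m =>
    obtain ⟨r, hr, a, ha⟩ := exists_smul_eq_algebraMap p c
    refine ⟨r, hr, a • m, ?_⟩
    rw [TensorProduct.smul_tmul', ha, Algebra.algebraMap_eq_smul_one, TensorProduct.smul_tmul]
  | add x₁ x₂ h₁ h₂ =>
    obtain ⟨r₁, hr₁, m₁, e₁⟩ := h₁
    obtain ⟨r₂, hr₂, m₂, e₂⟩ := h₂
    refine ⟨r₁ * r₂, fun h => (Ideal.IsPrime.mem_or_mem ‹_› h).elim hr₁ hr₂, r₂ • m₁ + r₁ • m₂, ?_⟩
    rw [smul_add, mul_comm, mul_smul, e₁, mul_comm, mul_smul, e₂, TensorProduct.tmul_add,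
      TensorProduct.tmul_smul, TensorProduct.tmul_smul]

end Lift

section Main

variable {A : Type u} [CommRing A] {L : Type u} [LieRing L] [LieAlgebra A L] [Module.Finite A L]

/-- A regular element of the fibre at `p` can be replaced by one of the form `1 ⊗ a`. -/
theorem exists_isRegular_one_tmul (p : PrimeSpectrum A)
    (hp : ∃ x : p.asIdeal.ResidueField ⊗[A] L, LieAlgebra.IsRegular p.asIdeal.ResidueField x) :
    ∃ a : L, LieAlgebra.IsRegular p.asIdeal.ResidueField ((1 : p.asIdeal.ResidueField) ⊗ₜ[A] a) := by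
  obtain ⟨x, hx⟩ := hp
  obtain ⟨r, hr, a, ha⟩ := exists_smul_eq_one_tmul p.asIdeal x
  refine ⟨a, ?_⟩
  rw [← ha, ← algebraMap_smul p.asIdeal.ResidueField r x, isRegular_smul_iff]
  · exact hx
  · rwa [Ne, Ideal.algebraMap_residueField_eq_zero]

/-- If `1 ⊗ a` is regular at the contraction of every prime of `A'`, then `1 ⊗ a ∈ A' ⊗ L` is
quasi-regular. -/
theorem isQuasiRegular_one_tmul (A' : Type u) [CommRing A'] [Algebra A A'] (a : L)
    (h : ∀ q' : PrimeSpectrum A',
      LieAlgebra.IsRegular (PrimeSpectrum.comap (algebraMap A A') q').asIdeal.ResidueField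
        ((1 : (PrimeSpectrum.comap (algebraMap A A') q').asIdeal.ResidueField) ⊗ₜ[A] a)) :
    IsQuasiRegular A' (A' ⊗[A] L) ((1 : A') ⊗ₜ[A] a) := by
  intro q'
  letI : Algebra (PrimeSpectrum.comap (algebraMap A A') q').asIdeal.ResidueField
      q'.asIdeal.ResidueField :=
    (Ideal.ResidueField.map (PrimeSpectrum.comap (algebraMap A A') q').asIdeal q'.asIdeal
      (algebraMap A A') (PrimeSpectrum.comap_asIdeal (algebraMap A A') q')).toAlgebra
  haveI : IsScalarTower A (PrimeSpectrum.comap (algebraMap A A') q').asIdeal.ResidueField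
      q'.asIdeal.ResidueField := by
    apply IsScalarTower.of_algebraMap_eq
    intro x
    rw [RingHom.algebraMap_toAlgebra, Ideal.ResidueField.map_algebraMap]
    rw [IsScalarTower.algebraMap_apply A A' q'.asIdeal.ResidueField]
  rw [isRegular_tensor_tensor A L A' q'.asIdeal.ResidueField,
    isRegular_tensor_field_ext A L (PrimeSpectrum.comap (algebraMap A A') q').asIdeal.ResidueField
      q'.asIdeal.ResidueField]
  exact h q'

end Main

end Groth.Agent.Lib.Seat37.LiftReg
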