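import Mathlib

/-!
# Endomorphisms of finitely generated projective modules invertible at a point
-/

set_option autoImplicit false
universe u

open scoped TensorProduct

namespace Groth.Agent.Lib.Seat37.ProjEnd

variable {A : Type u} [CommRing A] {Q : Type u} [AddCommGroup Q] [Module A Q]

/-- If `g ∘ φ = δ • id`, then `δ ^ k` kills the kernel of `φ ^ k`. -/
theorem pow_smul_eq_zero_of_comp_eq_smul_id (φ g : Module.End A Q) (δ : A)
    (hg : g ∘ₗ φ = δ • LinearMap.id) (k : ℕ) (q : Q) (hq : (φ ^ k) q = 0) : δ ^ k • q = 0 := by
  induction k generalizing q with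
  | zero => simpa using hq
  | succ k ih =>
    rw [pow_succ, Module.End.mul_apply] at hq
    have h1 : δ ^ k • φ q = 0 := ih (φ q) hq
    have h2 : φ (δ ^ k • q) = 0 := by rw [map_smul, h1]
    have h3 : (g ∘ₗ φ) (δ ^ k • q) = 0 := by rw [LinearMap.comp_apply, h2, map_zero]
    rw [hg, LinearMap.smul_apply, LinearMap.id_apply, smul_smul, ← pow_succ'] at h3
    exact h3

variable [Module.Finite A Q] [Module.Projective A Q]

/-- An endomorphism of a finitely generated projective module which is injective on the fibre at `p` has an
inverse up to an element `δ ∉ p`. -/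
theorem exists_comp_eq_smul_id_of_injective (φ : Module.End A Q) (p : Ideal A) [p.IsPrime]
    (hφ : Function.Injective (φ.baseChange p.ResidueField)) :
    ∃ δ : A, δ ∉ p ∧ ∃ g : Module.End A Q, g ∘ₗ φ = δ • LinearMap.id := by
  obtain ⟨n, s, i, -, -, hsi⟩ := Module.Finite.exists_comp_eq_id_of_projective A Q
  have hsi' : ∀ q, s (i q) = q := fun q => LinearMap.congr_fun hsi q
  set T : Module.End A (Fin n → A) := i ∘ₗ φ ∘ₗ s + (LinearMap.id - i ∘ₗ s) with hT
  have hTi : ∀ q, T (i q) = i (φ q) := by
    intro q
    simp only [hT, LinearMap.add_apply, LinearMap.comp_apply, LinearMap.sub_apply,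
      LinearMap.id_apply, hsi', sub_self, add_zero]
  have hsT : s ∘ₗ T = φ ∘ₗ s := by
    apply LinearMap.ext
    intro v
    simp only [hT, LinearMap.add_apply, LinearMap.comp_apply, LinearMap.sub_apply,
      LinearMap.id_apply, hsi', map_add, map_sub, sub_self, add_zero]
  refine ⟨LinearMap.det T, ?_,
    s ∘ₗ (Matrix.toLin' (LinearMap.toMatrix' T).adjugate) ∘ₗ i, ?_⟩
  · intro hδ
    have h0 : LinearMap.det (T.baseChange p.ResidueField) = 0 := by
      rw [LinearMap.det_baseChange, Ideal.algebraMap_residueField_eq_zero]
      exact hδ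
    have hker := LinearMap.bot_lt_ker_of_det_eq_zero h0
    have hinj : LinearMap.ker (T.baseChange p.ResidueField) = ⊥ := by
      rw [LinearMap.ker_eq_bot']
      intro v hv
      have h1 : (s.baseChange p.ResidueField) ((T.baseChange p.ResidueField) v) =
          (φ.baseChange p.ResidueField) ((s.baseChange p.ResidueField) v) := by
        rw [← LinearMap.comp_apply, ← LinearMap.baseChange_comp, hsT, LinearMap.baseChange_comp,
          LinearMap.comp_apply]
      rw [hv, map_zero] at h1
      have h2 : (s.baseChange p.ResidueField) v = 0 := hφ (by rw [← h1, map_zero])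
      have h3 : T.baseChange p.ResidueField v =
          (i.baseChange p.ResidueField) ((φ.baseChange p.ResidueField)
            ((s.baseChange p.ResidueField) v)) +
          (v - (i.baseChange p.ResidueField) ((s.baseChange p.ResidueField) v)) := by
        rw [hT, LinearMap.baseChange_add, LinearMap.baseChange_sub, LinearMap.baseChange_comp,
          LinearMap.baseChange_comp, LinearMap.baseChange_comp, LinearMap.baseChange_id]
        rfl
      rw [h2, map_zero, map_zero, zero_add, sub_zero] at h3
      rw [← h3, hv]
    exact (ne_of_gt hker) hinj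
  · apply LinearMap.ext
    intro q
    have h1 : Matrix.toLin' (LinearMap.toMatrix' T).adjugate (T (i q)) =
        LinearMap.det T • i q := by
      have h2 := Matrix.adjugate_mul (LinearMap.toMatrix' T)
      have h3 : Matrix.toLin' ((LinearMap.toMatrix' T).adjugate * LinearMap.toMatrix' T) (i q) =
          Matrix.toLin' ((LinearMap.toMatrix' T).det • (1 : Matrix (Fin n) (Fin n) A)) (i q) := by
        rw [h2]
      rw [Matrix.toLin'_mul, LinearMap.comp_apply, Matrix.toLin'_toMatrix', map_smul,
        Matrix.toLin'_one, LinearMap.smul_apply, LinearMap.id_apply, LinearMap.det_toMatrix'] at h3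
      exact h3
    rw [LinearMap.comp_apply, LinearMap.comp_apply, LinearMap.comp_apply, ← hTi, h1, map_smul, hsi',
      LinearMap.smul_apply, LinearMap.id_apply]

/-- Surjective version. -/
theorem exists_comp_eq_smul_id_of_surjective (φ : Module.End A Q) (p : Ideal A) [p.IsPrime]
    (hφ : Function.Surjective (φ.baseChange p.ResidueField)) :
    ∃ δ : A, δ ∉ p ∧ ∃ g : Module.End A Q, g ∘ₗ φ = δ • LinearMap.id :=
  exists_comp_eq_smul_id_of_injective φ p (LinearMap.injective_iff_surjective.2 hφ)

end Groth.Agent.Lib.Seat37.ProjEnd
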