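import Mathlib
import Groth.Prelude.Def_W4sga3xiixivxvCartan
import Groth.Agent.Lib.Seat37RankBC
import Groth.Agent.Lib.Seat37CartanRel2

/-!
# (C₁) ⇒ (C₀): the nilpotent rank of the fibres is locally constant when a Cartan subalgebra exists
fpqc-locally
-/

set_option autoImplicit false
universe u

open scoped TensorProduct
open SGA3t2b

namespace Groth.Agent.Lib.Seat37.RankLC

open Groth.Agent.Lib.Seat37.RankBC Groth.Agent.Lib.Seat37.CartanRel

section Comap

variable (A : Type u) [CommRing A] (A' : Type u) [CommRing A'] [Algebra A A']
  (L : Type u) [LieRing L] [LieAlgebra A L] [Module.Finite A L]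

/-- The rank of the fibre of `A' ⊗ L` at a prime `q'` of `A'` is the rank of the fibre of `L` at the
contraction of `q'`. -/
theorem rank_fibre_baseChange (q' : PrimeSpectrum A') :
    LieAlgebra.rank q'.asIdeal.ResidueField (q'.asIdeal.ResidueField ⊗[A'] (A' ⊗[A] L)) =
      LieAlgebra.rank (PrimeSpectrum.comap (algebraMap A A') q').asIdeal.ResidueField
        ((PrimeSpectrum.comap (algebraMap A A') q').asIdeal.ResidueField ⊗[A] L) := by
  letI : Algebra (PrimeSpectrum.comap (algebraMap A A') q').asIdeal.ResidueField
      q'.asIdeal.ResidueField :=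
    (Ideal.ResidueField.map (PrimeSpectrum.comap (algebraMap A A') q').asIdeal q'.asIdeal
      (algebraMap A A') (PrimeSpectrum.comap_asIdeal (algebraMap A A') q')).toAlgebra
  haveI : IsScalarTower A (PrimeSpectrum.comap (algebraMap A A') q').asIdeal.ResidueField
      q'.asIdeal.ResidueField := by
    apply IsScalarTower.of_algebraMap_eq
    intro x
    rw [RingHom.algebraMap_toAlgebra, Ideal.ResidueField.map_algebraMap]
    rw [IsScalarTower.algebraMap_apply A A' q'.asIdeal.ResidueField]
  rw [rank_tensor_tensor A L A' q'.asIdeal.ResidueField,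
    rank_tensor_field_ext A L (PrimeSpectrum.comap (algebraMap A A') q').asIdeal.ResidueField
      q'.asIdeal.ResidueField]

end Comap

section Finrank

variable {A : Type u} [CommRing A] {L : Type u} [LieRing L] [LieAlgebra A L]

/-- If `L ⧸ H` is projective, the dimension of the fibre of `H` at `p` is the rank of `H` at `p`. -/
theorem finrank_fibreSubmodule [Module.Finite A L] [Module.Projective A L]
    (H : LieSubalgebra A L) [Module.Projective A (L ⧸ H.toSubmodule)]
    (p : PrimeSpectrum A) :
    Module.finrank p.asIdeal.ResidueField (fibreSubmodule p H) = Module.rankAtStalk (R := A) H p := by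
  haveI : Module.Finite A H := finite_of_projective_quotient H
  haveI : Module.Projective A H := projective_of_projective_quotient H
  rw [Module.rankAtStalk_eq]
  have hinj := incl_baseChange_injective H p.asIdeal.ResidueField
  have hrange : fibreSubmodule p H =
      LinearMap.range (H.incl.toLinearMap.baseChange p.asIdeal.ResidueField) := by
    ext x
    constructor
    · intro hx
      exact hx
    · intro hx
      exact hx
  rw [hrange]
  exact LinearMap.finrank_range_of_inj hinj

end Finrank

section Main

variable {A : Type u} [CommRing A] {L : Type u} [LieRing L] [LieAlgebra A L] [Module.Finite A L]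
  [Module.Projective A L]

/-- If `L` has a relative Cartan subalgebra, the rank of the fibres is a locally constant function. -/
theorem isLocallyConstant_rank_of_isCartanRel (H : LieSubalgebra A L) (hH : IsCartanRel H) :
    IsLocallyConstant (fun p : PrimeSpectrum A =>
      LieAlgebra.rank p.asIdeal.ResidueField (p.asIdeal.ResidueField ⊗[A] L)) := by
  haveI : Module.Projective A (L ⧸ H.toSubmodule) := hH.1
  haveI : Module.Finite A H := finite_of_projective_quotient H
  haveI : Module.Projective A H := projective_of_projective_quotient H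
  haveI : Module.FinitePresentation A H := Module.finitePresentation_of_projective A H
  have h := Module.isLocallyConstant_rankAtStalk (R := A) (M := H)
  have heq : (fun p : PrimeSpectrum A =>
      LieAlgebra.rank p.asIdeal.ResidueField (p.asIdeal.ResidueField ⊗[A] L)) =
      Module.rankAtStalk (R := A) H := by
    funext p
    rw [← (hH.2 p).2.2, finrank_fibreSubmodule]
  rw [heq]
  exact h

/-- (C₁) ⇒ (C₀). -/
theorem isLocallyConstant_rank_of_faithfullyFlat (A' : Type u) [CommRing A'] [Algebra A A']
    [Module.FaithfullyFlat A A'] (H : LieSubalgebra A' (A' ⊗[A] L)) (hH : IsCartanRel H) :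
    IsLocallyConstant (fun p : PrimeSpectrum A =>
      LieAlgebra.rank p.asIdeal.ResidueField (p.asIdeal.ResidueField ⊗[A] L)) := by
  have h' := isLocallyConstant_rank_of_isCartanRel H hH
  have hquot : Topology.IsQuotientMap (PrimeSpectrum.comap (algebraMap A A')) :=
    PrimeSpectrum.isQuotientMap_of_generalizingMap
      PrimeSpectrum.comap_surjective_of_faithfullyFlat
      (RingHom.Flat.generalizingMap_comap (RingHom.flat_algebraMap_iff.2 inferInstance))
  rw [IsLocallyConstant.iff_continuous] 
  rw [hquot.continuous_iff]
  have : (fun p : PrimeSpectrum A =>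
      LieAlgebra.rank p.asIdeal.ResidueField (p.asIdeal.ResidueField ⊗[A] L)) ∘
      (PrimeSpectrum.comap (algebraMap A A')) = fun q' : PrimeSpectrum A' =>
      LieAlgebra.rank q'.asIdeal.ResidueField (q'.asIdeal.ResidueField ⊗[A'] (A' ⊗[A] L)) := by
    funext q'
    exact (rank_fibre_baseChange A A' L q').symm
  rw [this]
  exact h'.continuous

/-- Basic-open form of local constancy. -/
theorem exists_basicOpen_of_isLocallyConstant {X : Type*} (r : PrimeSpectrum A → X)
    (hr : IsLocallyConstant r) (p : PrimeSpectrum A) :
    ∃ f : A, f ∉ p.asIdeal ∧ ∀ q : PrimeSpectrum A, f ∉ q.asIdeal → r q = r p := by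
  have hopen : IsOpen {q | r q = r p} := hr.isOpen_fiber (r p)
  have hp : p ∈ {q | r q = r p} := rfl
  obtain ⟨U, ⟨f, rfl⟩, hpU, hU⟩ :=
    PrimeSpectrum.isTopologicalBasis_basic_opens.exists_subset_of_mem_open hp hopen
  exact ⟨f, hpU, fun q hq => hU hq⟩

end Main

end Groth.Agent.Lib.Seat37.RankLC
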