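import Mathlib
import Groth.Prelude.Def_W4sga3xiixivxvCartan
import Groth.Agent.Lib.Seat37CartanRel2
import Groth.Agent.Lib.Seat37LiftReg
import Groth.Agent.Lib.Seat37CartanField
import Groth.Agent.Lib.Seat37RankLC
import Groth.Agent.Lib.Seat37RegLocus
import Groth.Agent.Lib.Seat37ProjEnd2

/-!
# Regular sections of a relative Cartan subalgebra near a point with infinite residue field
-/

set_option autoImplicit false
universe u

open scoped TensorProduct
open SGA3t2b

namespace Groth.Agent.Lib.Seat37.CartanLocal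

open Groth.Agent.Lib.Seat37.CartanRel Groth.Agent.Lib.Seat37.LiftReg
  Groth.Agent.Lib.Seat37.CartanField

variable {A : Type u} [CommRing A] {L : Type u} [LieRing L] [LieAlgebra A L]

section FibreHom

variable (H : LieSubalgebra A L) (K : Type u) [Field K] [Algebra A K]

/-- The `K`-Lie algebra homomorphism `K ⊗ H → K ⊗ L`. -/
noncomputable def fibreHom : (K ⊗[A] H) →ₗ⁅K⁆ (K ⊗[A] L) :=
  { H.incl.toLinearMap.baseChange K with
    map_lie' := by
      intro x y
      exact incl_baseChange_lie H K x y }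

theorem fibreHom_apply (x : K ⊗[A] H) : fibreHom H K x = H.incl.toLinearMap.baseChange K x := rfl

theorem fibreHom_one_tmul (h : H) : fibreHom H K ((1 : K) ⊗ₜ[A] h) = (1 : K) ⊗ₜ[A] (h : L) := rfl

end FibreHom

section Main

variable [Module.Finite A L] [Module.Projective A L]

omit [Module.Finite A L] [Module.Projective A L] in
theorem mem_range_fibreHom_iff (H : LieSubalgebra A L) (p : PrimeSpectrum A)
    (x : p.asIdeal.ResidueField ⊗[A] L) :
    x ∈ (fibreHom H p.asIdeal.ResidueField).range ↔ x ∈ fibreSubmodule p H := by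
  rw [LieHom.mem_range]
  constructor
  · rintro ⟨w, rfl⟩
    exact ⟨w, rfl⟩
  · rintro ⟨w, rfl⟩
    exact ⟨w, rfl⟩

/-- The fibre of a relative Cartan subalgebra is a Cartan subalgebra. -/
theorem isCartanSubalgebra_range_fibreHom (H : LieSubalgebra A L) (hH : IsCartanRel H)
    (p : PrimeSpectrum A) : (fibreHom H p.asIdeal.ResidueField).range.IsCartanSubalgebra := by
  haveI : LieRing.IsNilpotent (p.asIdeal.ResidueField ⊗[A] H) := (hH.2 p).1
  refine ⟨LieHom.isNilpotent_range (fibreHom H p.asIdeal.ResidueField), ?_⟩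
  apply le_antisymm _ (LieSubalgebra.le_normalizer _)
  intro x hx
  rw [LieSubalgebra.mem_normalizer_iff] at hx
  rw [mem_range_fibreHom_iff]
  apply (hH.2 p).2.1 x
  intro y hy
  rw [← mem_range_fibreHom_iff]
  exact hx y ((mem_range_fibreHom_iff H p y).2 hy)

/-- If the residue field at `p` is infinite, a relative Cartan subalgebra contains an element which is regular
at `p`, and whose Engel subalgebra at `p` is the fibre of `H`. -/
theorem exists_mem_engel_eq (H : LieSubalgebra A L) (hH : IsCartanRel H)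
    (p : PrimeSpectrum A) [Infinite p.asIdeal.ResidueField] :
    ∃ a ∈ H, (LieSubalgebra.engel p.asIdeal.ResidueField
      ((1 : p.asIdeal.ResidueField) ⊗ₜ[A] a)).toSubmodule = fibreSubmodule p H := by
  haveI := isCartanSubalgebra_range_fibreHom H hH p
  obtain ⟨x, hx, hE⟩ := exists_engel_eq (fibreHom H p.asIdeal.ResidueField).range
  rw [LieHom.mem_range] at hx
  obtain ⟨w, rfl⟩ := hx
  obtain ⟨r, hr, h, hw⟩ := exists_smul_eq_one_tmul p.asIdeal w
  refine ⟨(h : L), h.2, ?_⟩
  have hr0 : algebraMap A p.asIdeal.ResidueField r ≠ 0 := by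
    rwa [Ne, Ideal.algebraMap_residueField_eq_zero]
  have e1 : (1 : p.asIdeal.ResidueField) ⊗ₜ[A] (h : L) =
      algebraMap A p.asIdeal.ResidueField r • fibreHom H p.asIdeal.ResidueField w := by
    rw [← fibreHom_one_tmul, ← hw, ← algebraMap_smul p.asIdeal.ResidueField r w, map_smul]
  rw [e1, engel_smul _ hr0, hE]
  ext y
  exact mem_range_fibreHom_iff H p y

theorem isRegular_of_engel_eq (H : LieSubalgebra A L) (hH : IsCartanRel H) (p : PrimeSpectrum A) (a : L)
    (hE : (LieSubalgebra.engel p.asIdeal.ResidueField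
      ((1 : p.asIdeal.ResidueField) ⊗ₜ[A] a)).toSubmodule = fibreSubmodule p H) :
    LieAlgebra.IsRegular p.asIdeal.ResidueField ((1 : p.asIdeal.ResidueField) ⊗ₜ[A] a) := by
  rw [LieAlgebra.isRegular_iff_finrank_engel_eq_rank, ← (hH.2 p).2.2, ← hE]
  rfl

omit [Module.Projective A L] in
/-- If the Engel subalgebra of `1 ⊗ a` at `p` is the fibre of `H`, then `ad a` is surjective on the fibre of
`L ⧸ H` at `p`. -/
theorem adQ_baseChange_surjective (H : LieSubalgebra A L) (p : PrimeSpectrum A) (a : L) (ha : a ∈ H)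
    (hE : (LieSubalgebra.engel p.asIdeal.ResidueField
      ((1 : p.asIdeal.ResidueField) ⊗ₜ[A] a)).toSubmodule = fibreSubmodule p H) :
    Function.Surjective ((adQ H a ha).baseChange p.asIdeal.ResidueField) := by
  intro y
  have hmk : Function.Surjective (H.toSubmodule.mkQ.baseChange p.asIdeal.ResidueField) := by
    rw [LinearMap.baseChange_eq_ltensor]
    exact LinearMap.lTensor_surjective _ (Submodule.mkQ_surjective _)
  obtain ⟨v, rfl⟩ := hmk y
  obtain ⟨z, hz⟩ := exists_sub_mem_engel (K := p.asIdeal.ResidueField)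
    ((1 : p.asIdeal.ResidueField) ⊗ₜ[A] a) v
  have hz' : ⁅(1 : p.asIdeal.ResidueField) ⊗ₜ[A] a, z⁆ - v ∈ fibreSubmodule p H := by
    rw [← hE]
    exact hz
  obtain ⟨w, hw⟩ := hz'
  refine ⟨H.toSubmodule.mkQ.baseChange p.asIdeal.ResidueField z, ?_⟩
  have hcomm : (adQ H a ha) ∘ₗ H.toSubmodule.mkQ = H.toSubmodule.mkQ ∘ₗ (LieAlgebra.ad A L a) := by
    apply LinearMap.ext
    intro x
    rfl
  have h1 : (adQ H a ha).baseChange p.asIdeal.ResidueField
      (H.toSubmodule.mkQ.baseChange p.asIdeal.ResidueField z) =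
      H.toSubmodule.mkQ.baseChange p.asIdeal.ResidueField
        (((LieAlgebra.ad A L a).baseChange p.asIdeal.ResidueField) z) := by
    rw [← LinearMap.comp_apply, ← LinearMap.baseChange_comp, hcomm, LinearMap.baseChange_comp,
      LinearMap.comp_apply]
  have h2 : ((LieAlgebra.ad A L a).baseChange p.asIdeal.ResidueField) z =
      ⁅(1 : p.asIdeal.ResidueField) ⊗ₜ[A] a, z⁆ := by
    rw [← ad_one_tmul, LieAlgebra.ad_apply]
  have h3 : ⁅(1 : p.asIdeal.ResidueField) ⊗ₜ[A] a, z⁆ =
      v + (H.toSubmodule.subtype.baseChange p.asIdeal.ResidueField) w := by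
    have hw' : (H.toSubmodule.subtype.baseChange p.asIdeal.ResidueField) w =
        ⁅(1 : p.asIdeal.ResidueField) ⊗ₜ[A] a, z⁆ - v := hw
    rw [hw']
    abel
  have h4 : H.toSubmodule.mkQ.baseChange p.asIdeal.ResidueField
      ((H.toSubmodule.subtype.baseChange p.asIdeal.ResidueField) w) = 0 := by
    rw [← LinearMap.comp_apply, ← LinearMap.baseChange_comp]
    have : H.toSubmodule.mkQ ∘ₗ H.toSubmodule.subtype = 0 := by
      apply LinearMap.ext
      intro h
      simp
    rw [this, LinearMap.baseChange_zero, LinearMap.zero_apply]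
  rw [h1, h2, h3, map_add, h4, add_zero]

/-- Regular sections of a relative Cartan subalgebra near a point with infinite residue field. -/
theorem exists_regular_section (H : LieSubalgebra A L) (hH : IsCartanRel H) (p : PrimeSpectrum A)
    [Infinite p.asIdeal.ResidueField] :
    ∃ f : A, f ∉ p.asIdeal ∧ ∃ a : L, a ∈ H ∧
      (∀ q : PrimeSpectrum A, f ∉ q.asIdeal →
        LieAlgebra.IsRegular q.asIdeal.ResidueField ((1 : q.asIdeal.ResidueField) ⊗ₜ[A] a)) ∧
      H ≤ LieSubalgebra.engel A a ∧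
      ∀ y : L, y ∈ LieSubalgebra.engel A a → ∃ n : ℕ, f ^ n • y ∈ H := by
  haveI : Module.Projective A (L ⧸ H.toSubmodule) := hH.1
  obtain ⟨a, ha, hE⟩ := exists_mem_engel_eq H hH p
  have hreg := isRegular_of_engel_eq H hH p a hE
  -- the regular locus of `a` is open
  have hC0 := fun p' => Groth.Agent.Lib.Seat37.RankLC.exists_basicOpen_of_isLocallyConstant _
    (Groth.Agent.Lib.Seat37.RankLC.isLocallyConstant_rank_of_isCartanRel H hH) p'
  have hopen := Groth.Agent.Lib.Seat37.RegLocus.isOpen_setOf_isRegular hC0 a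
  have hpmem : p ∈ {q : PrimeSpectrum A |
      LieAlgebra.IsRegular q.asIdeal.ResidueField ((1 : q.asIdeal.ResidueField) ⊗ₜ[A] a)} := hreg
  obtain ⟨U, ⟨f₁, rfl⟩, hpU, hU⟩ :=
    PrimeSpectrum.isTopologicalBasis_basic_opens.exists_subset_of_mem_open hpmem hopen
  -- `ad a` is invertible on `L ⧸ H` near `p`
  obtain ⟨δ, hδ, g, hg⟩ := Groth.Agent.Lib.Seat37.ProjEnd.exists_comp_eq_smul_id_of_surjective
    (adQ H a ha) p.asIdeal (adQ_baseChange_surjective H p a ha hE)
  refine ⟨f₁ * δ, fun hmem => (p.isPrime.mem_or_mem hmem).elim hpU hδ, a, ha, ?_,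
    le_engel_of_isCartanRel H a hH ha, ?_⟩
  · intro q hq
    apply hU
    show f₁ ∉ q.asIdeal
    intro hf₁
    exact hq (Ideal.mul_mem_right _ _ hf₁)
  · intro y hy
    obtain ⟨k, hk⟩ := (LieSubalgebra.mem_engel_iff A a y).1 hy
    refine ⟨k, ?_⟩
    have h0 : ((adQ H a ha) ^ k) (Submodule.Quotient.mk y) = 0 := by
      rw [adQ_pow_mk, hk, Submodule.Quotient.mk_zero]
    have h1 := Groth.Agent.Lib.Seat37.ProjEnd.pow_smul_eq_zero_of_comp_eq_smul_id
      (adQ H a ha) g δ hg k _ h0
    rw [← Submodule.Quotient.mk_smul, Submodule.Quotient.mk_eq_zero] at h1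
    rw [mul_pow, mul_smul]
    exact H.toSubmodule.smul_mem _ h1

end Main

end Groth.Agent.Lib.Seat37.CartanLocal
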