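import Mathlib

/-!
# Algebra homomorphisms of Clifford algebras and the `ℤ/2`-grading (seat 37)

* `map_mem_of_ι`: an algebra hom `C(Q) → B` sending vectors into the odd part `E 1` of a
  multiplicative family `E : ZMod 2 → Submodule R B` sends `evenOdd Q i` into `E i`;
* `evenEquiv`: an algebra equivalence of Clifford algebras which, with its inverse, sends vectors to
  odd elements restricts to an equivalence of the even subalgebras;
* `central_of_commute_ι`: an element commuting with all vectors is central;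
* `evenOdd_inf`: an element both even and odd is zero.
-/

set_option autoImplicit false
universe u v w

namespace Groth.Agent.Lib.Seat37.CliffGrade

open CliffordAlgebra

variable {R : Type u} [CommRing R] {M : Type v} [AddCommGroup M] [Module R M]

theorem map_mem_of_ι (Q : QuadraticForm R M) {B : Type w} [Ring B] [Algebra R B]
    (E : ZMod 2 → Submodule R B) (h1 : (1 : B) ∈ E 0)
    (hmul : ∀ (i j : ZMod 2) (x y : B), x ∈ E i → y ∈ E j → x * y ∈ E (i + j))
    (g : CliffordAlgebra Q →ₐ[R] B) (hg : ∀ m, g (ι Q m) ∈ E 1) (i : ZMod 2)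
    (x : CliffordAlgebra Q) (hx : x ∈ evenOdd Q i) : g x ∈ E i := by
  have h2 : ∀ m₁ m₂, g (ι Q m₁ * ι Q m₂) ∈ E 0 := by
    intro m₁ m₂
    rw [map_mul]
    have := hmul 1 1 _ _ (hg m₁) (hg m₂)
    rwa [show (1 : ZMod 2) + 1 = 0 from rfl] at this
  fin_cases i
  · change x ∈ evenOdd Q 0 at hx
    change g x ∈ E 0
    induction x, hx using even_induction with
    | algebraMap r =>
      rw [AlgHom.commutes, Algebra.algebraMap_eq_smul_one]
      exact Submodule.smul_mem _ _ h1
    | add x y hx hy ihx ihy => rw [map_add]; exact Submodule.add_mem _ ihx ihy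
    | ι_mul_ι_mul m₁ m₂ x hx ih =>
      rw [map_mul]
      have := hmul 0 0 _ _ (h2 m₁ m₂) ih
      rwa [zero_add] at this
  · change x ∈ evenOdd Q 1 at hx
    change g x ∈ E 1
    induction x, hx using odd_induction with
    | ι v => exact hg v
    | add x y hx hy ihx ihy => rw [map_add]; exact Submodule.add_mem _ ihx ihy
    | ι_mul_ι_mul m₁ m₂ x hx ih =>
      rw [map_mul]
      have := hmul 0 1 _ _ (h2 m₁ m₂) ih
      rwa [zero_add] at this

theorem evenOdd_mul_mem (Q : QuadraticForm R M) (i j : ZMod 2) (x y : CliffordAlgebra Q)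
    (hx : x ∈ evenOdd Q i) (hy : y ∈ evenOdd Q j) : x * y ∈ evenOdd Q (i + j) :=
  evenOdd_mul_le Q i j (Submodule.mul_mem_mul hx hy)

/-- algebra homs between Clifford algebras over the same ring sending vectors to odd elements
respect the grading -/
theorem algHom_mem_evenOdd {M' : Type w} [AddCommGroup M'] [Module R M'] (Q : QuadraticForm R M)
    (Q' : QuadraticForm R M') (g : CliffordAlgebra Q →ₐ[R] CliffordAlgebra Q')
    (hg : ∀ m, g (ι Q m) ∈ evenOdd Q' 1) (i : ZMod 2) (x : CliffordAlgebra Q)
    (hx : x ∈ evenOdd Q i) : g x ∈ evenOdd Q' i :=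
  map_mem_of_ι Q (evenOdd Q') (SetLike.one_mem_graded _) (evenOdd_mul_mem Q') g hg i x hx

/-- restriction of a graded equivalence to the even subalgebras -/
noncomputable def evenEquiv {M' : Type w} [AddCommGroup M'] [Module R M'] (Q : QuadraticForm R M)
    (Q' : QuadraticForm R M') (e : CliffordAlgebra Q ≃ₐ[R] CliffordAlgebra Q')
    (he : ∀ m, e (ι Q m) ∈ evenOdd Q' 1) (he' : ∀ m, e.symm (ι Q' m) ∈ evenOdd Q 1) :
    CliffordAlgebra.even Q ≃ₐ[R] CliffordAlgebra.even Q' :=
  AlgEquiv.ofAlgHom
    ((e.toAlgHom.comp (CliffordAlgebra.even Q).val).codRestrict (CliffordAlgebra.even Q')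
      (fun x => algHom_mem_evenOdd Q Q' e.toAlgHom he 0 x x.2))
    ((e.symm.toAlgHom.comp (CliffordAlgebra.even Q').val).codRestrict (CliffordAlgebra.even Q)
      (fun x => algHom_mem_evenOdd Q' Q e.symm.toAlgHom he' 0 x x.2))
    (AlgHom.ext fun x => Subtype.ext (e.apply_symm_apply (x : CliffordAlgebra Q')))
    (AlgHom.ext fun x => Subtype.ext (e.symm_apply_apply (x : CliffordAlgebra Q)))

@[simp] theorem evenEquiv_coe {M' : Type w} [AddCommGroup M'] [Module R M'] (Q : QuadraticForm R M)
    (Q' : QuadraticForm R M') (e : CliffordAlgebra Q ≃ₐ[R] CliffordAlgebra Q')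
    (he : ∀ m, e (ι Q m) ∈ evenOdd Q' 1) (he' : ∀ m, e.symm (ι Q' m) ∈ evenOdd Q 1)
    (x : CliffordAlgebra.even Q) : ((evenEquiv Q Q' e he he' x : CliffordAlgebra.even Q') :
      CliffordAlgebra Q') = e x := rfl

/-- the even-subalgebra equivalence induced by an isometry equivalence -/
noncomputable def evenEquivOfIsometry {M' : Type w} [AddCommGroup M'] [Module R M']
    {Q : QuadraticForm R M} {Q' : QuadraticForm R M'} (φ : Q.IsometryEquiv Q') :
    CliffordAlgebra.even Q ≃ₐ[R] CliffordAlgebra.even Q' :=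
  evenEquiv Q Q' (equivOfIsometry φ)
    (fun m => by rw [equivOfIsometry_apply, map_apply_ι]; exact ι_mem_evenOdd_one _ _)
    (fun m => by rw [equivOfIsometry_symm, equivOfIsometry_apply, map_apply_ι]; exact ι_mem_evenOdd_one _ _)

theorem central_of_commute_ι (Q : QuadraticForm R M) (x : CliffordAlgebra Q)
    (h : ∀ m, x * ι Q m = ι Q m * x) : x ∈ Subalgebra.center R (CliffordAlgebra Q) := by
  rw [Subalgebra.mem_center_iff]
  intro y
  induction y using CliffordAlgebra.induction with
  | algebraMap r => exact Algebra.commutes r x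
  | ι m => exact (h m).symm
  | mul a b ha hb => rw [mul_assoc, hb, ← mul_assoc, ha, mul_assoc]
  | add a b ha hb => rw [add_mul, mul_add, ha, hb]

theorem eq_zero_of_mem_evenOdd (Q : QuadraticForm R M) (x : CliffordAlgebra Q)
    (h0 : x ∈ evenOdd Q 0) (h1 : x ∈ evenOdd Q 1) : x = 0 := by
  have := (evenOdd_isCompl Q).disjoint
  rw [Submodule.disjoint_def] at this
  exact this x h0 h1

end Groth.Agent.Lib.Seat37.CliffGrade
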