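import Mathlib
import Groth.Agent.Lib.Seat37CliffGrade

/-!
# Base change of Clifford algebras without inverting `2` (seat 37)

Let `Q` be a quadratic form on an `R`-module `M`, `A` an `R`-algebra and `Q'` a quadratic form on
`A ⊗[R] M` with `Q' (1 ⊗ m) = algebraMap R A (Q m)`.  Then `A ⊗[R] C(Q) ≃ₐ[A] C(Q')`
(`bcEquiv`); `jAux : C(Q) →ₐ[R] C(Q')` is the canonical map; both respect the grading.
(Mathlib has this for `Q.baseChange A`, which needs `2` invertible.)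
-/

set_option autoImplicit false
universe u v w

namespace Groth.Agent.Lib.Seat37.CliffBC

open CliffordAlgebra TensorProduct Groth.Agent.Lib.Seat37.CliffGrade

variable {R : Type u} [CommRing R] {A : Type v} [CommRing A] [Algebra R A]
variable {M : Type w} [AddCommGroup M] [Module R M]
variable (Q : QuadraticForm R M) (Q' : QuadraticForm A (A ⊗[R] M))
variable (hQ' : ∀ m : M, Q' ((1 : A) ⊗ₜ[R] m) = algebraMap R A (Q m))

include hQ' in
theorem jAux_aux (v : M) :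
    ((ι Q').restrictScalars R ∘ₗ TensorProduct.mk R A M 1) v *
      ((ι Q').restrictScalars R ∘ₗ TensorProduct.mk R A M 1) v =
      algebraMap R (CliffordAlgebra Q') (Q v) := by
  change ι Q' ((1 : A) ⊗ₜ[R] v) * ι Q' ((1 : A) ⊗ₜ[R] v) = _
  rw [ι_sq_scalar, hQ', ← IsScalarTower.algebraMap_apply]

/-- the canonical `R`-algebra map `C(Q) → C(Q')` -/
noncomputable def jAux : CliffordAlgebra Q →ₐ[R] CliffordAlgebra Q' :=
  CliffordAlgebra.lift Q ⟨(ι Q').restrictScalars R ∘ₗ TensorProduct.mk R A M 1, jAux_aux Q Q' hQ'⟩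

@[simp] theorem jAux_ι (v : M) : jAux Q Q' hQ' (ι Q v) = ι Q' ((1 : A) ⊗ₜ[R] v) :=
  CliffordAlgebra.lift_ι_apply _ _ v

/-- `A ⊗ C(Q) → C(Q')` -/
noncomputable def ofBC : A ⊗[R] CliffordAlgebra Q →ₐ[A] CliffordAlgebra Q' :=
  Algebra.TensorProduct.lift (Algebra.ofId _ _) (jAux Q Q' hQ') fun _a _x => Algebra.commutes _ _

@[simp] theorem ofBC_tmul (a : A) (x : CliffordAlgebra Q) :
    ofBC Q Q' hQ' (a ⊗ₜ x) = algebraMap A _ a * jAux Q Q' hQ' x := rfl

theorem ofBC_tmul_ι (a : A) (v : M) :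
    ofBC Q Q' hQ' (a ⊗ₜ ι Q v) = ι Q' (a ⊗ₜ[R] v) := by
  rw [ofBC_tmul, jAux_ι, ← Algebra.smul_def, ← map_smul, TensorProduct.smul_tmul', smul_eq_mul,
    mul_one]

/-- the linear map `A ⊗ M → A ⊗ C(Q)` -/
noncomputable def Fmap : A ⊗[R] M →ₗ[A] A ⊗[R] CliffordAlgebra Q :=
  TensorProduct.AlgebraTensorModule.map (LinearMap.id : A →ₗ[A] A) (ι Q)

@[simp] theorem Fmap_tmul (a : A) (v : M) : Fmap Q (a ⊗ₜ[R] v) = a ⊗ₜ[R] ι Q v := rfl

include hQ' in
theorem Fmap_sq (t : A ⊗[R] M) :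
    Fmap (A := A) Q t * Fmap Q t = algebraMap A (A ⊗[R] CliffordAlgebra Q) (Q' t) := by
  let Q₁ : QuadraticMap A (A ⊗[R] M) (A ⊗[R] CliffordAlgebra Q) :=
    LinearMap.BilinMap.toQuadraticMap
      ((LinearMap.mul A (A ⊗[R] CliffordAlgebra Q)).compl₁₂ (Fmap Q) (Fmap Q))
  let Q₂ : QuadraticMap A (A ⊗[R] M) (A ⊗[R] CliffordAlgebra Q) :=
    (Algebra.linearMap A (A ⊗[R] CliffordAlgebra Q)).compQuadraticMap Q'
  have h : Q₁ = Q₂ := by
    apply _root_.baseChange_ext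
    intro v
    change Fmap Q ((1 : A) ⊗ₜ[R] v) * Fmap Q ((1 : A) ⊗ₜ[R] v) =
      algebraMap A (A ⊗[R] CliffordAlgebra Q) (Q' ((1 : A) ⊗ₜ[R] v))
    rw [Fmap_tmul, Algebra.TensorProduct.tmul_mul_tmul, ι_sq_scalar, hQ', mul_one,
      Algebra.TensorProduct.algebraMap_apply, Algebra.algebraMap_self_apply,
      Algebra.algebraMap_eq_smul_one (Q v), Algebra.algebraMap_eq_smul_one (Q v),
      TensorProduct.smul_tmul, ← Algebra.algebraMap_eq_smul_one]
  exact congrArg (fun q : QuadraticMap A (A ⊗[R] M) (A ⊗[R] CliffordAlgebra Q) => q t) h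

/-- `C(Q') → A ⊗ C(Q)` -/
noncomputable def toBC : CliffordAlgebra Q' →ₐ[A] A ⊗[R] CliffordAlgebra Q :=
  CliffordAlgebra.lift Q' ⟨Fmap Q, Fmap_sq Q Q' hQ'⟩

@[simp] theorem toBC_ι (a : A) (v : M) : toBC Q Q' hQ' (ι Q' (a ⊗ₜ[R] v)) = a ⊗ₜ[R] ι Q v :=
  CliffordAlgebra.lift_ι_apply _ _ _

theorem toBC_ι' (t : A ⊗[R] M) : toBC Q Q' hQ' (ι Q' t) = Fmap Q t :=
  CliffordAlgebra.lift_ι_apply _ _ _

theorem toBC_comp_ofBC : (toBC Q Q' hQ').comp (ofBC Q Q' hQ') = AlgHom.id _ _ := by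
  apply Algebra.TensorProduct.ext
  · ext
  · ext v
    change toBC Q Q' hQ' (ofBC Q Q' hQ' ((1 : A) ⊗ₜ[R] ι Q v)) = (1 : A) ⊗ₜ[R] ι Q v
    rw [ofBC_tmul_ι, toBC_ι]

theorem ofBC_comp_toBC : (ofBC Q Q' hQ').comp (toBC Q Q' hQ') = AlgHom.id _ _ := by
  apply CliffordAlgebra.hom_ext
  apply TensorProduct.AlgebraTensorModule.ext
  intro a v
  change ofBC Q Q' hQ' (toBC Q Q' hQ' (ι Q' (a ⊗ₜ[R] v))) = ι Q' (a ⊗ₜ[R] v)
  rw [toBC_ι, ofBC_tmul_ι]

/-- `A ⊗ C(Q) ≃ₐ[A] C(Q')` -/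
noncomputable def bcEquiv : A ⊗[R] CliffordAlgebra Q ≃ₐ[A] CliffordAlgebra Q' :=
  AlgEquiv.ofAlgHom (ofBC Q Q' hQ') (toBC Q Q' hQ') (ofBC_comp_toBC Q Q' hQ')
    (toBC_comp_ofBC Q Q' hQ')

@[simp] theorem bcEquiv_tmul (a : A) (x : CliffordAlgebra Q) :
    bcEquiv Q Q' hQ' (a ⊗ₜ x) = algebraMap A _ a * jAux Q Q' hQ' x := rfl

theorem bcEquiv_one_tmul (x : CliffordAlgebra Q) :
    bcEquiv Q Q' hQ' ((1 : A) ⊗ₜ x) = jAux Q Q' hQ' x := by
  rw [bcEquiv_tmul, map_one, one_mul]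

/-! ### Gradings -/

theorem jAux_mem_evenOdd (i : ZMod 2) (x : CliffordAlgebra Q) (hx : x ∈ evenOdd Q i) :
    jAux Q Q' hQ' x ∈ evenOdd Q' i := by
  refine map_mem_of_ι Q (fun i => (evenOdd Q' i).restrictScalars R) ?_ ?_ (jAux Q Q' hQ') ?_ i x hx
  · exact SetLike.one_mem_graded (evenOdd Q')
  · intro i j x y hx hy
    exact evenOdd_mul_mem Q' i j x y hx hy
  · intro m
    rw [jAux_ι]
    exact ι_mem_evenOdd_one Q' _

theorem baseChange_mul_mem (i j : ZMod 2) (x y : A ⊗[R] CliffordAlgebra Q)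
    (hx : x ∈ (evenOdd Q i).baseChange A) (hy : y ∈ (evenOdd Q j).baseChange A) :
    x * y ∈ (evenOdd Q (i + j)).baseChange A := by
  have h : (evenOdd Q i).baseChange A * (evenOdd Q j).baseChange A ≤
      (evenOdd Q (i + j)).baseChange A := by
    rw [Submodule.baseChange_eq_span, Submodule.baseChange_eq_span, Submodule.span_mul_span,
      Submodule.span_le]
    rintro _ ⟨_, ⟨c, hc, rfl⟩, _, ⟨d, hd, rfl⟩, rfl⟩
    change (1 : A) ⊗ₜ[R] c * (1 : A) ⊗ₜ[R] d ∈ (evenOdd Q (i + j)).baseChange A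
    rw [Algebra.TensorProduct.tmul_mul_tmul, mul_one]
    exact Submodule.tmul_mem_baseChange_of_mem _ (evenOdd_mul_mem Q i j c d hc hd)
  exact h (Submodule.mul_mem_mul hx hy)

theorem Fmap_mem (t : A ⊗[R] M) : Fmap (A := A) Q t ∈ (evenOdd Q 1).baseChange A := by
  induction t with
  | zero => rw [map_zero]; exact Submodule.zero_mem _
  | tmul a v =>
    rw [Fmap_tmul]
    exact Submodule.tmul_mem_baseChange_of_mem _ (ι_mem_evenOdd_one Q v)
  | add x y hx hy => rw [map_add]; exact Submodule.add_mem _ hx hy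

theorem toBC_mem (i : ZMod 2) (y : CliffordAlgebra Q') (hy : y ∈ evenOdd Q' i) :
    toBC Q Q' hQ' y ∈ (evenOdd Q i).baseChange A := by
  refine map_mem_of_ι Q' (fun i => (evenOdd Q i).baseChange A) ?_ ?_ (toBC Q Q' hQ') ?_ i y hy
  · rw [Algebra.TensorProduct.one_def]
    exact Submodule.tmul_mem_baseChange_of_mem _ (SetLike.one_mem_graded (evenOdd Q))
  · intro i j x y hx hy
    exact baseChange_mul_mem Q i j x y hx hy
  · intro t
    rw [toBC_ι']
    exact Fmap_mem Q t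

theorem bcEquiv_mem (i : ZMod 2) (x : A ⊗[R] CliffordAlgebra Q)
    (hx : x ∈ (evenOdd Q i).baseChange A) : bcEquiv Q Q' hQ' x ∈ evenOdd Q' i := by
  rw [Submodule.baseChange_eq_span] at hx
  induction hx using Submodule.span_induction with
  | mem x hx =>
    obtain ⟨c, hc, rfl⟩ := hx
    change bcEquiv Q Q' hQ' ((1 : A) ⊗ₜ[R] c) ∈ _
    rw [bcEquiv_one_tmul]
    exact jAux_mem_evenOdd Q Q' hQ' i c hc
  | zero => rw [map_zero]; exact Submodule.zero_mem _
  | add x y _ _ hx hy => rw [map_add]; exact Submodule.add_mem _ hx hy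
  | smul a x _ hx => rw [map_smul]; exact Submodule.smul_mem _ a hx

theorem bcEquiv_symm_mem (i : ZMod 2) (y : CliffordAlgebra Q') (hy : y ∈ evenOdd Q' i) :
    (bcEquiv Q Q' hQ').symm y ∈ (evenOdd Q i).baseChange A :=
  toBC_mem Q Q' hQ' i y hy

/-! ### The even subalgebras -/

/-- restriction of `jAux` to the even subalgebras -/
noncomputable def jEven : CliffordAlgebra.even Q →ₐ[R] CliffordAlgebra.even Q' where
  toFun x := ⟨jAux Q Q' hQ' x, jAux_mem_evenOdd Q Q' hQ' 0 x x.2⟩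
  map_one' := Subtype.ext (map_one _)
  map_mul' x y := Subtype.ext (map_mul _ _ _)
  map_zero' := Subtype.ext (map_zero _)
  map_add' x y := Subtype.ext (map_add _ _ _)
  commutes' r := Subtype.ext (AlgHom.commutes _ r)

@[simp] theorem jEven_coe (x : CliffordAlgebra.even Q) :
    ((jEven Q Q' hQ' x : CliffordAlgebra.even Q') : CliffordAlgebra Q') = jAux Q Q' hQ' x := rfl

/-- `A ⊗ even Q → even Q'` -/
noncomputable def evenOfBC : A ⊗[R] CliffordAlgebra.even Q →ₐ[A] CliffordAlgebra.even Q' :=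
  Algebra.TensorProduct.lift (Algebra.ofId _ _) (jEven Q Q' hQ') fun _a _x => Algebra.commutes _ _

theorem evenOfBC_coe (t : A ⊗[R] CliffordAlgebra.even Q) :
    ((evenOfBC Q Q' hQ' t : CliffordAlgebra.even Q') : CliffordAlgebra Q') =
      bcEquiv Q Q' hQ' ((CliffordAlgebra.even Q).val.toLinearMap.baseChange A t) := by
  induction t with
  | zero => simp
  | tmul a x =>
    rw [LinearMap.baseChange_tmul, bcEquiv_tmul]
    rfl
  | add x y hx hy => rw [map_add, Subalgebra.coe_add, hx, hy, map_add, map_add]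

theorem evenOfBC_bijective [Module.Flat R A] : Function.Bijective (evenOfBC Q Q' hQ') := by
  constructor
  · intro s t hst
    have h1 := congrArg (fun z : CliffordAlgebra.even Q' => (z : CliffordAlgebra Q')) hst
    simp only [evenOfBC_coe] at h1
    have h2 := (bcEquiv Q Q' hQ').injective h1
    have hinj : Function.Injective ((CliffordAlgebra.even Q).val.toLinearMap.baseChange A) := by
      rw [LinearMap.baseChange_eq_ltensor]
      exact Module.Flat.lTensor_preserves_injective_linearMap _ Subtype.val_injective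
    exact hinj h2
  · intro y
    have hy : (bcEquiv Q Q' hQ').symm (y : CliffordAlgebra Q') ∈ (evenOdd Q 0).baseChange A :=
      bcEquiv_symm_mem Q Q' hQ' 0 y y.2
    have hle : (evenOdd Q 0).baseChange A ≤
        LinearMap.range ((CliffordAlgebra.even Q).val.toLinearMap.baseChange A) := by
      rw [Submodule.baseChange_eq_span, Submodule.span_le]
      rintro _ ⟨c, hc, rfl⟩
      exact ⟨(1 : A) ⊗ₜ[R] (⟨c, hc⟩ : CliffordAlgebra.even Q), rfl⟩
    obtain ⟨t, ht⟩ := hle hy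
    refine ⟨t, Subtype.ext ?_⟩
    rw [evenOfBC_coe, ht, AlgEquiv.apply_symm_apply]

/-- `A ⊗ even Q ≃ₐ[A] even Q'` -/
noncomputable def evenBCEquiv [Module.Flat R A] :
    A ⊗[R] CliffordAlgebra.even Q ≃ₐ[A] CliffordAlgebra.even Q' :=
  AlgEquiv.ofBijective (evenOfBC Q Q' hQ') (evenOfBC_bijective Q Q' hQ')

end Groth.Agent.Lib.Seat37.CliffBC
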