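import Mathlib

/-!
# Clifford algebras of free modules: module structure (seat 37)

For a quadratic form `Q` on a free module, `C(Q)` is linearly isomorphic to the exterior algebra
(`toExt`, from Mathlib's `changeFormEquiv`), compatibly with `1` and `ι`.  Consequences:
* `scalarPart Q : C(Q) →ₗ R` with `scalarPart Q 1 = 1`;
* `vecPart Q : C(Q) →ₗ M` with `vecPart Q (ι Q m) = m`;
* for a basis indexed by `Fin k`: `C(Q)` is finite free of rank `2 ^ k`;
* `injective_of_surjective_of_finrank_eq`: a surjective linear map between finite free modules
  of the same rank is injective.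
-/

set_option autoImplicit false
universe u v

namespace Groth.Agent.Lib.Seat37.CliffRank

open CliffordAlgebra

variable {R : Type u} [CommRing R] {M : Type v} [AddCommGroup M] [Module R M]

theorem exists_bilin [Module.Free R M] (Q : QuadraticForm R M) :
    ∃ B : LinearMap.BilinForm R M, B.toQuadraticMap = (0 : QuadraticForm R M) - Q := by
  obtain ⟨B, hB⟩ := LinearMap.BilinMap.toQuadraticMap_surjective Q
  refine ⟨-B, ?_⟩
  rw [LinearMap.BilinMap.toQuadraticMap_neg, hB, zero_sub]

/-- the bilinear form used to pass to the exterior algebra -/
noncomputable def bil [Module.Free R M] (Q : QuadraticForm R M) : LinearMap.BilinForm R M :=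
  Classical.choose (exists_bilin Q)

theorem bil_spec [Module.Free R M] (Q : QuadraticForm R M) :
    (bil Q).toQuadraticMap = (0 : QuadraticForm R M) - Q :=
  Classical.choose_spec (exists_bilin Q)

/-- `C(Q) ≃ₗ Λ(M)` for a free module -/
noncomputable def toExt [Module.Free R M] (Q : QuadraticForm R M) :
    CliffordAlgebra Q ≃ₗ[R] ExteriorAlgebra R M :=
  changeFormEquiv (bil_spec Q)

theorem toExt_one [Module.Free R M] (Q : QuadraticForm R M) : toExt Q 1 = 1 :=
  changeForm_one (bil_spec Q)

theorem toExt_ι [Module.Free R M] (Q : QuadraticForm R M) (m : M) :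
    toExt Q (ι Q m) = ExteriorAlgebra.ι R m :=
  changeForm_ι (bil_spec Q) m

/-- a linear retraction of `R → C(Q)` -/
noncomputable def scalarPart [Module.Free R M] (Q : QuadraticForm R M) : CliffordAlgebra Q →ₗ[R] R :=
  (ExteriorAlgebra.algebraMapInv (R := R) (M := M)).toLinearMap ∘ₗ (toExt Q).toLinearMap

theorem scalarPart_one [Module.Free R M] (Q : QuadraticForm R M) : scalarPart Q 1 = 1 := by
  simp [scalarPart, toExt_one]

theorem scalarPart_algebraMap [Module.Free R M] (Q : QuadraticForm R M) (r : R) :
    scalarPart Q (algebraMap R _ r) = r := by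
  rw [Algebra.algebraMap_eq_smul_one, map_smul, scalarPart_one, smul_eq_mul, mul_one]

theorem algebraMap_injective [Module.Free R M] (Q : QuadraticForm R M) :
    Function.Injective (algebraMap R (CliffordAlgebra Q)) :=
  Function.LeftInverse.injective (g := scalarPart Q) (scalarPart_algebraMap Q)

/-- a linear retraction of `ι` -/
noncomputable def vecPart [Module.Free R M] (Q : QuadraticForm R M) : CliffordAlgebra Q →ₗ[R] M :=
  ExteriorAlgebra.ιInv ∘ₗ (toExt Q).toLinearMap

theorem vecPart_ι [Module.Free R M] (Q : QuadraticForm R M) (m : M) : vecPart Q (ι Q m) = m := by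
  simp only [vecPart, LinearMap.coe_comp, LinearEquiv.coe_coe, Function.comp_apply, toExt_ι]
  exact ExteriorAlgebra.ι_leftInverse m

theorem ι_injective [Module.Free R M] (Q : QuadraticForm R M) : Function.Injective (ι Q) :=
  Function.LeftInverse.injective (g := vecPart Q) (vecPart_ι Q)

theorem exists_isCompl_range_ι [Module.Free R M] (Q : QuadraticForm R M) :
    ∃ W : Submodule R (CliffordAlgebra Q), IsCompl (LinearMap.range (ι Q)) W := by
  let f : CliffordAlgebra Q →ₗ[R] LinearMap.range (ι Q) := (ι Q).rangeRestrict ∘ₗ vecPart Q
  refine ⟨LinearMap.ker f, LinearMap.isCompl_of_proj (f := f) ?_⟩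
  rintro ⟨x, m, rfl⟩
  apply Subtype.ext
  simp [f, vecPart_ι]

section basis

variable {k : ℕ} (b : Module.Basis (Fin k) R M) (Q : QuadraticForm R M)

/-- a basis of `C(Q)` indexed by finite subsets -/
noncomputable def cliffBasis : Module.Basis (Finset (Fin k)) R (CliffordAlgebra Q) :=
  haveI : Module.Free R M := Module.Free.of_basis b
  b.ExteriorAlgebra.map (toExt Q).symm

include b in
theorem free : Module.Free R (CliffordAlgebra Q) := Module.Free.of_basis (cliffBasis b Q)

include b in
theorem finite : Module.Finite R (CliffordAlgebra Q) := Module.Finite.of_basis (cliffBasis b Q)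

include b in
theorem finrank_eq [Nontrivial R] : Module.finrank R (CliffordAlgebra Q) = 2 ^ k := by
  rw [Module.finrank_eq_card_basis (cliffBasis b Q), Fintype.card_finset, Fintype.card_fin]

end basis

/-- a surjective linear map between finite free modules of the same rank is injective -/
theorem injective_of_surjective_of_finrank_eq {V W : Type*} [AddCommGroup V] [Module R V]
    [AddCommGroup W] [Module R W] [Module.Free R V] [Module.Finite R V] [Module.Free R W]
    [Module.Finite R W] (h : Module.finrank R V = Module.finrank R W) (f : V →ₗ[R] W)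
    (hf : Function.Surjective f) : Function.Injective f := by
  rcases subsingleton_or_nontrivial R with hR | hR
  · have : Subsingleton V := Module.subsingleton R V
    exact Function.injective_of_subsingleton f
  · let e : V ≃ₗ[R] W := LinearEquiv.ofFinrankEq V W h
    exact OrzechProperty.injective_of_surjective_of_injective e.toLinearMap f e.injective hf

end Groth.Agent.Lib.Seat37.CliffRank

namespace Groth.Agent.Lib.Seat37.CliffRank

open CliffordAlgebra

variable {R : Type u} [CommRing R] {M : Type v} [AddCommGroup M] [Module R M]

theorem free' [Module.Free R M] [Module.Finite R M] (Q : QuadraticForm R M) :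
    Module.Free R (CliffordAlgebra Q) := by
  rcases subsingleton_or_nontrivial R with hR | hR
  · have : Subsingleton (CliffordAlgebra Q) := Module.subsingleton R _
    exact Module.Free.of_subsingleton R _
  · exact free (Module.finBasis R M) Q

theorem finite' [Module.Free R M] [Module.Finite R M] (Q : QuadraticForm R M) :
    Module.Finite R (CliffordAlgebra Q) := by
  rcases subsingleton_or_nontrivial R with hR | hR
  · have : Subsingleton (CliffordAlgebra Q) := Module.subsingleton R _
    infer_instance
  · exact finite (Module.finBasis R M) Q

theorem finrank_eq' [Nontrivial R] [Module.Free R M] [Module.Finite R M] (Q : QuadraticForm R M) :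
    Module.finrank R (CliffordAlgebra Q) = 2 ^ Module.finrank R M :=
  finrank_eq (Module.finBasis R M) Q

end Groth.Agent.Lib.Seat37.CliffRank
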