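import Mathlib
import Groth.Agent.Lib.Seat37CliffRank

/-!
# Splitting off a hyperbolic plane from a Clifford algebra (seat 37)

For a quadratic form `Q'` on `M'` and a unit `u`, let `hypForm u Q'` be the form
`((a, b), v) ↦ u * a * b + Q' v` on `(R × R) × M'`.  Then
`C(hypForm u Q') ≃ₐ Matrix (Fin 2) (Fin 2) C(Q')` (`hypEquiv`), for `M'` finite free.
-/

set_option autoImplicit false
universe u v

namespace Groth.Agent.Lib.Seat37.CliffHyp

open CliffordAlgebra Matrix

variable {R : Type u} [CommRing R] {M' : Type v} [AddCommGroup M'] [Module R M']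

/-- the form `u a b + Q'(v)` -/
noncomputable def hypForm (u : R) (Q' : QuadraticForm R M') : QuadraticForm R ((R × R) × M') :=
  u • QuadraticMap.linMulLin ((LinearMap.fst R R R).comp (LinearMap.fst R (R × R) M'))
      ((LinearMap.snd R R R).comp (LinearMap.fst R (R × R) M')) +
    Q'.comp (LinearMap.snd R (R × R) M')

@[simp] theorem hypForm_apply (u : R) (Q' : QuadraticForm R M') (p : (R × R) × M') :
    hypForm u Q' p = u * (p.1.1 * p.1.2) + Q' p.2 := by
  simp [hypForm]

/-- the linear map defining the matrix representation -/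
noncomputable def F (u : R) (Q' : QuadraticForm R M') :
    ((R × R) × M') →ₗ[R] Matrix (Fin 2) (Fin 2) (CliffordAlgebra Q') where
  toFun p := !![ι Q' p.2, algebraMap R _ p.1.1; algebraMap R _ (u * p.1.2), -ι Q' p.2]
  map_add' p q := by
    ext i j
    fin_cases i <;> fin_cases j
    · simp
    · simp
    · simp [mul_add]
    · simp [add_comm]
  map_smul' r p := by
    ext i j
    fin_cases i <;> fin_cases j
    · simp
    · simp [Algebra.smul_def]
    · change algebraMap R (CliffordAlgebra Q') (u * (r * p.1.2)) = r • algebraMap R _ (u * p.1.2)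
      rw [Algebra.smul_def, ← map_mul]
      congr 1
      ring
    · simp

theorem F_apply (u : R) (Q' : QuadraticForm R M') (p : (R × R) × M') :
    F u Q' p = !![ι Q' p.2, algebraMap R _ p.1.1; algebraMap R _ (u * p.1.2), -ι Q' p.2] := rfl

theorem algebraMap_fin_two {A : Type*} [Ring A] [Algebra R A] (r : R) :
    algebraMap R (Matrix (Fin 2) (Fin 2) A) r = !![algebraMap R A r, 0; 0, algebraMap R A r] := by
  ext i j
  fin_cases i <;> fin_cases j <;> simp [Matrix.algebraMap_matrix_apply]

theorem F_sq (u : R) (Q' : QuadraticForm R M') (p : (R × R) × M') :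
    F u Q' p * F u Q' p = algebraMap R _ (hypForm u Q' p) := by
  obtain ⟨⟨a, b⟩, v⟩ := p
  rw [F_apply, hypForm_apply, Matrix.mul_fin_two, algebraMap_fin_two]
  have e00 : ι Q' v * ι Q' v + algebraMap R _ a * algebraMap R _ (u * b) =
      algebraMap R (CliffordAlgebra Q') (u * (a * b) + Q' v) := by
    rw [ι_sq_scalar, ← map_mul, ← map_add]
    congr 1
    ring
  have e01 : ι Q' v * algebraMap R _ a + algebraMap R _ a * -ι Q' v = 0 := by
    rw [← Algebra.commutes, mul_neg, add_neg_cancel]
  have e10 : algebraMap R _ (u * b) * ι Q' v + -ι Q' v * algebraMap R _ (u * b) = 0 := by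
    rw [← Algebra.commutes, mul_neg, add_neg_cancel]
  have e11 : algebraMap R _ (u * b) * algebraMap R _ a + -ι Q' v * -ι Q' v =
      algebraMap R (CliffordAlgebra Q') (u * (a * b) + Q' v) := by
    rw [neg_mul_neg, ι_sq_scalar, ← map_mul, ← map_add]
    congr 1
    ring
  simp only [e00, e01, e10, e11]

/-- the matrix representation -/
noncomputable def Φ (u : R) (Q' : QuadraticForm R M') :
    CliffordAlgebra (hypForm u Q') →ₐ[R] Matrix (Fin 2) (Fin 2) (CliffordAlgebra Q') :=
  CliffordAlgebra.lift _ ⟨F u Q', F_sq u Q'⟩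

@[simp] theorem Φ_ι (u : R) (Q' : QuadraticForm R M') (p : (R × R) × M') :
    Φ u Q' (ι _ p) = F u Q' p := CliffordAlgebra.lift_ι_apply _ _ p

theorem Φ_surjective (u : R) (hu : IsUnit u) (Q' : QuadraticForm R M') :
    Function.Surjective (Φ u Q') := by
  classical
  set S := (Φ u Q').range with hS
  have h01 : Matrix.single (0 : Fin 2) (1 : Fin 2) (1 : CliffordAlgebra Q') ∈ S := by
    refine ⟨ι _ ((1, 0), 0), ?_⟩
    change Φ u Q' (ι _ _) = _
    rw [Φ_ι, F_apply]
    ext i j
    fin_cases i <;> fin_cases j <;> simp [Matrix.single]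
  have h10u : u • Matrix.single (1 : Fin 2) (0 : Fin 2) (1 : CliffordAlgebra Q') ∈ S := by
    refine ⟨ι _ ((0, 1), 0), ?_⟩
    change Φ u Q' (ι _ _) = _
    rw [Φ_ι, F_apply]
    ext i j
    fin_cases i <;> fin_cases j <;> simp [Matrix.single, Algebra.algebraMap_eq_smul_one]
  have h10 : Matrix.single (1 : Fin 2) (0 : Fin 2) (1 : CliffordAlgebra Q') ∈ S := by
    obtain ⟨w, hw⟩ := hu.exists_left_inv
    have := S.smul_mem h10u w
    rwa [smul_smul, hw, one_smul] at this
  have h00 : Matrix.single (0 : Fin 2) (0 : Fin 2) (1 : CliffordAlgebra Q') ∈ S := by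
    have := S.mul_mem h01 h10
    rwa [Matrix.single_mul_single_same, mul_one] at this
  have h11 : Matrix.single (1 : Fin 2) (1 : Fin 2) (1 : CliffordAlgebra Q') ∈ S := by
    have := S.mul_mem h10 h01
    rwa [Matrix.single_mul_single_same, mul_one] at this
  have hij : ∀ i j : Fin 2, Matrix.single i j (1 : CliffordAlgebra Q') ∈ S := by
    intro i j
    fin_cases i <;> fin_cases j
    · exact h00
    · exact h01
    · exact h10
    · exact h11
  have hD : ∀ v : M', (!![ι Q' v, 0; 0, -ι Q' v] : Matrix (Fin 2) (Fin 2) (CliffordAlgebra Q')) ∈ S := by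
    intro v
    refine ⟨ι _ ((0, 0), v), ?_⟩
    change Φ u Q' (ι _ _) = _
    rw [Φ_ι, F_apply]
    ext i j
    fin_cases i <;> fin_cases j <;> simp
  have hsc : ∀ c : CliffordAlgebra Q', Matrix.scalar (Fin 2) c ∈ S := by
    intro c
    induction c using CliffordAlgebra.induction with
    | algebraMap r =>
      have : Matrix.scalar (Fin 2) (algebraMap R (CliffordAlgebra Q') r) =
          algebraMap R (Matrix (Fin 2) (Fin 2) (CliffordAlgebra Q')) r := by
        ext i j
        simp [Matrix.algebraMap_matrix_apply, Matrix.diagonal_apply]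
      rw [this]
      exact S.algebraMap_mem r
    | ι v =>
      have := S.mul_mem (hD v) (S.sub_mem h00 h11)
      convert this using 1
      ext i j
      fin_cases i <;> fin_cases j <;> simp [Matrix.single, Matrix.mul_apply]
    | mul a b ha hb => rw [map_mul]; exact S.mul_mem ha hb
    | add a b ha hb => rw [map_add]; exact S.add_mem ha hb
  intro X
  have hX : X ∈ S := by
    rw [Matrix.matrix_eq_sum_single X]
    refine S.sum_mem fun i _ => S.sum_mem fun j _ => ?_
    have : Matrix.single i j (X i j) = Matrix.scalar (Fin 2) (X i j) * Matrix.single i j 1 := by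
      ext a b
      rw [Matrix.scalar_apply, Matrix.diagonal_mul]
      simp [Matrix.single]
    rw [this]
    exact S.mul_mem (hsc _) (hij i j)
  exact hX

open Groth.Agent.Lib.Seat37.CliffRank in
theorem Φ_bijective (u : R) (hu : IsUnit u) (Q' : QuadraticForm R M') [Module.Free R M']
    [Module.Finite R M'] : Function.Bijective (Φ u Q') := by
  refine ⟨?_, Φ_surjective u hu Q'⟩
  rcases subsingleton_or_nontrivial R with hR | hR
  · have h1 : Subsingleton (CliffordAlgebra (hypForm u Q')) := Module.subsingleton R _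
    exact Function.injective_of_subsingleton _
  have := free' (hypForm u Q')
  have := finite' (hypForm u Q')
  have := free' Q'
  have := finite' Q'
  refine injective_of_surjective_of_finrank_eq ?_ (Φ u Q').toLinearMap (Φ_surjective u hu Q')
  rw [finrank_eq', Module.finrank_matrix, finrank_eq', Module.finrank_prod, Module.finrank_prod,
    Module.finrank_self, Fintype.card_fin]
  ring

/-- `C(u a b + Q') ≃ M₂(C(Q'))` -/
noncomputable def hypEquiv (u : R) (hu : IsUnit u) (Q' : QuadraticForm R M') [Module.Free R M']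
    [Module.Finite R M'] :
    CliffordAlgebra (hypForm u Q') ≃ₐ[R] Matrix (Fin 2) (Fin 2) (CliffordAlgebra Q') :=
  AlgEquiv.ofBijective (Φ u Q') (Φ_bijective u hu Q')

end Groth.Agent.Lib.Seat37.CliffHyp
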