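import Mathlib
import Groth.Agent.Lib.Seat37CliffHyp

/-!
# Clifford algebras of hyperbolic spaces are matrix algebras (seat 37)

`hypSpace u m` is the quadratic form `w ↦ u * ∑ i, (w i).1 * (w i).2` on `Fin m → R × R`.
For a unit `u`, `C(hypSpace u m) ≃ₐ Matrix (Fin (2 ^ m)) (Fin (2 ^ m)) R` (`nonempty_matrix`).
-/

set_option autoImplicit false
universe u v

namespace Groth.Agent.Lib.Seat37.CliffTower

open CliffordAlgebra Matrix Groth.Agent.Lib.Seat37.CliffHyp

variable {R : Type u} [CommRing R]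

/-- the hyperbolic space `u * ∑ xᵢ yᵢ` -/
noncomputable def hypSpace (u : R) (m : ℕ) : QuadraticForm R (Fin m → R × R) :=
  ∑ i : Fin m, u • QuadraticMap.linMulLin ((LinearMap.fst R R R).comp (LinearMap.proj i))
    ((LinearMap.snd R R R).comp (LinearMap.proj i))

theorem hypSpace_apply (u : R) (m : ℕ) (w : Fin m → R × R) :
    hypSpace u m w = ∑ i : Fin m, u * ((w i).1 * (w i).2) := by
  simp [hypSpace, _root_.sum_apply]

/-- a Clifford algebra of the zero module is the base ring -/
noncomputable def equivOfSubsingleton {M : Type v} [AddCommGroup M] [Module R M] [Subsingleton M]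
    (Q : QuadraticForm R M) : CliffordAlgebra Q ≃ₐ[R] R :=
  AlgEquiv.ofAlgHom
    (CliffordAlgebra.lift Q ⟨0, fun m => by simp [Subsingleton.elim m 0]⟩)
    (Algebra.ofId R _)
    (by ext)
    (by
      ext m
      simp [Subsingleton.elim m 0])

/-- the isometry `hypSpace u (m+1) ≅ hypForm u (hypSpace u m)` -/
noncomputable def succIso (u : R) (m : ℕ) :
    (hypForm u (hypSpace u m)).IsometryEquiv (hypSpace u (m + 1)) :=
  { Fin.consLinearEquiv R (fun _ : Fin (m + 1) => R × R) with
    map_app' := fun p => by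
      rw [hypSpace_apply, hypForm_apply, hypSpace_apply, Fin.sum_univ_succ]
      rfl }

theorem nonempty_matrix (u : R) (hu : IsUnit u) (m : ℕ) :
    Nonempty (CliffordAlgebra (hypSpace u m) ≃ₐ[R] Matrix (Fin (2 ^ m)) (Fin (2 ^ m)) R) := by
  induction m with
  | zero =>
    have hsub : ∀ i j : Fin (2 ^ 0), i = j := fun i j => Fin.ext (by
      have := i.isLt
      have := j.isLt
      simp only [pow_zero] at *
      omega)
    have z : Fin (2 ^ 0) := ⟨0, by norm_num⟩
    have e0 : R ≃ₐ[R] Matrix (Fin (2 ^ 0)) (Fin (2 ^ 0)) R :=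
      AlgEquiv.ofBijective (Algebra.ofId R _) ⟨fun a b h => by
        have := congrFun (congrFun h z) z
        simpa [Algebra.ofId_apply, Matrix.algebraMap_matrix_apply] using this,
      fun X => ⟨X z z, by
        ext i j
        rw [hsub i z, hsub j z]
        simp [Algebra.ofId_apply, Matrix.algebraMap_matrix_apply]⟩⟩
    exact ⟨(equivOfSubsingleton _).trans e0⟩
  | succ m ih =>
    obtain ⟨e⟩ := ih
    have e1 : CliffordAlgebra (hypSpace u (m + 1)) ≃ₐ[R] CliffordAlgebra (hypForm u (hypSpace u m)) :=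
      (equivOfIsometry (succIso u m)).symm
    have e2 := hypEquiv u hu (hypSpace u m)
    have e3 : Matrix (Fin 2) (Fin 2) (CliffordAlgebra (hypSpace u m)) ≃ₐ[R]
        Matrix (Fin 2) (Fin 2) (Matrix (Fin (2 ^ m)) (Fin (2 ^ m)) R) := e.mapMatrix
    have e4 := Matrix.compAlgEquiv (Fin 2) (Fin (2 ^ m)) R R
    have e5 : Matrix (Fin 2 × Fin (2 ^ m)) (Fin 2 × Fin (2 ^ m)) R ≃ₐ[R]
        Matrix (Fin (2 ^ (m + 1))) (Fin (2 ^ (m + 1))) R :=
      Matrix.reindexAlgEquiv R R (finProdFinEquiv.trans (finCongr (by ring)))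
    exact ⟨e1.trans (e2.trans (e3.trans (e4.trans e5)))⟩

end Groth.Agent.Lib.Seat37.CliffTower
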