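import Mathlib
import Groth.Agent.Lib.Helper25HalfDisc

/-!
# Coefficient tables of matrices and the infinitesimal lifting of isometries (seat 37)

`tab N` is the coefficient table of the quadratic form `x ↦ xᵀ N x`.  With helper15's
`UM`, `PM`, `cc` (`Groth.Agent.S17014.Aux.HD`): `cc a G = tab (Gᵀ * UM a * G)`.
* `exists_lift_O`: if the polar matrix `PM a` is invertible, an isometry modulo a square-zero
  ideal lifts to an isometry;
* `ne_tab_PM_mul`: over a field of characteristic two, in odd rank with non-zero half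
  discriminant, the table `a` is not of the form `tab (PM a * W)`.
-/

set_option autoImplicit false

namespace Groth.Agent.Lib.Seat37.QuadTab

open Matrix QuadGrp
open Groth.Agent.S17014.Aux.HD

variable {n : ℕ}

section tab

variable {S : Type*} [CommRing S]

/-- the coefficient table of the quadratic form `x ↦ xᵀ N x` -/
def tab (N : Matrix (Fin n) (Fin n) S) : Sym2 (Fin n) → S :=
  Sym2.lift ⟨fun i j => if i = j then N i i else N i j + N j i, fun i j => by
    by_cases h : i = j
    · subst h; rfl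
    · simp only [if_neg h, if_neg (Ne.symm h)]
      exact add_comm _ _⟩

theorem tab_mk (N : Matrix (Fin n) (Fin n) S) (i j : Fin n) :
    tab N s(i, j) = if i = j then N i i else N i j + N j i := rfl

theorem tab_add (N N' : Matrix (Fin n) (Fin n) S) : tab (N + N') = tab N + tab N' := by
  funext p
  induction p using Sym2.ind with
  | _ i j =>
    simp only [Pi.add_apply, tab_mk, Matrix.add_apply]
    split_ifs
    · rfl
    · abel

theorem tab_zero : tab (0 : Matrix (Fin n) (Fin n) S) = 0 := by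
  funext p
  induction p using Sym2.ind with
  | _ i j =>
    simp only [Pi.zero_apply, tab_mk, Matrix.zero_apply]
    split_ifs <;> simp

theorem tab_smul (c : S) (N : Matrix (Fin n) (Fin n) S) : tab (c • N) = c • tab N := by
  funext p
  induction p using Sym2.ind with
  | _ i j =>
    simp only [Pi.smul_apply, tab_mk, Matrix.smul_apply, smul_eq_mul]
    split_ifs
    · rfl
    · ring

theorem tab_transpose (N : Matrix (Fin n) (Fin n) S) : tab Nᵀ = tab N := by
  funext p
  induction p using Sym2.ind with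
  | _ i j =>
    simp only [tab_mk, Matrix.transpose_apply]
    split_ifs
    · rfl
    · exact add_comm _ _

theorem tab_UM (a : Sym2 (Fin n) → S) : tab (UM a) = a := by
  funext p
  induction p using Sym2.ind with
  | _ i j =>
    simp only [tab_mk, UM, Matrix.of_apply]
    rcases lt_trichotomy i j with h | h | h
    · rw [if_neg h.ne, if_neg h.ne, if_pos h, if_neg h.ne', if_neg h.not_gt, add_zero]
    · subst h; simp
    · rw [if_neg h.ne', if_neg h.ne', if_neg h.not_gt, if_neg h.ne, if_pos h, zero_add,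
        Sym2.eq_swap]

theorem cc_eq_tab (a : Sym2 (Fin n) → S) (G : Matrix (Fin n) (Fin n) S) :
    cc a G = tab (Gᵀ * UM a * G) := by
  funext p
  induction p using Sym2.ind with
  | _ i j =>
    rw [cc_mk, tab_mk]
    split_ifs with h
    · rfl
    · have h1 : Gᵀ * PM a * G = Gᵀ * UM a * G + (Gᵀ * UM a * G)ᵀ := by
        rw [PM_eq, Matrix.mul_add, Matrix.add_mul]
        congr 1
        rw [transpose_mul, transpose_mul, transpose_transpose, Matrix.mul_assoc]
      rw [h1, Matrix.add_apply, Matrix.transpose_apply]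

theorem tab_map {T : Type*} [CommRing T] (φ : S →+* T) (N : Matrix (Fin n) (Fin n) S) :
    φ ∘ tab N = tab (N.map φ) := by
  funext p
  induction p using Sym2.ind with
  | _ i j =>
    simp only [Function.comp, tab_mk, Matrix.map_apply]
    split_ifs
    · rfl
    · rw [map_add]

/-- `tab (Zᵀ * N + N * Z) = tab ((N + Nᵀ) * Z)` -/
theorem tab_transpose_mul_add (N Z : Matrix (Fin n) (Fin n) S) :
    tab (Zᵀ * N + N * Z) = tab ((N + Nᵀ) * Z) := by
  rw [tab_add, ← tab_transpose (Zᵀ * N), transpose_mul, transpose_transpose, ← tab_add,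
    ← Matrix.add_mul, add_comm]

theorem PM_eq_tab_free (a : Sym2 (Fin n) → S) (G : Matrix (Fin n) (Fin n) S) :
    Gᵀ * UM a * G + (Gᵀ * UM a * G)ᵀ = Gᵀ * PM a * G := by
  rw [PM_eq, Matrix.mul_add, Matrix.add_mul]
  congr 1
  rw [transpose_mul, transpose_mul, transpose_transpose, Matrix.mul_assoc]

end tab

section lift

variable {C : Type*} [CommRing C]

/-- matrices with entries in an ideal -/
def InI (I : Ideal C) (Z : Matrix (Fin n) (Fin n) C) : Prop := ∀ i j, Z i j ∈ I

theorem InI.mul_left {I : Ideal C} {Z : Matrix (Fin n) (Fin n) C} (hZ : InI I Z)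
    (A : Matrix (Fin n) (Fin n) C) : InI I (A * Z) := by
  intro i j
  rw [Matrix.mul_apply]
  exact Ideal.sum_mem _ fun k _ => Ideal.mul_mem_left _ _ (hZ k j)

theorem InI.mul_right {I : Ideal C} {Z : Matrix (Fin n) (Fin n) C} (hZ : InI I Z)
    (A : Matrix (Fin n) (Fin n) C) : InI I (Z * A) := by
  intro i j
  rw [Matrix.mul_apply]
  exact Ideal.sum_mem _ fun k _ => Ideal.mul_mem_right _ _ (hZ i k)

theorem InI.transpose {I : Ideal C} {Z : Matrix (Fin n) (Fin n) C} (hZ : InI I Z) :
    InI I Zᵀ := fun i j => hZ j i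

theorem InI.mul_eq_zero {I : Ideal C} (hI : I ^ 2 = ⊥) {Z Z' : Matrix (Fin n) (Fin n) C}
    (hZ : InI I Z) (hZ' : InI I Z') : Z * Z' = 0 := by
  ext i j
  rw [Matrix.mul_apply, Matrix.zero_apply]
  apply Finset.sum_eq_zero
  intro k _
  have : Z i k * Z' k j ∈ I ^ 2 := by
    rw [pow_two]
    exact Ideal.mul_mem_mul (hZ i k) (hZ' k j)
  rw [hI] at this
  exact this

theorem InI_UM {I : Ideal C} (δ : Sym2 (Fin n) → C) (hδ : ∀ s, δ s ∈ I) : InI I (UM δ) := by
  intro i j
  simp only [UM, Matrix.of_apply]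
  split_ifs
  · exact hδ _
  · exact hδ _
  · exact I.zero_mem

/-- **Infinitesimal lifting of isometries** when the polar matrix is invertible. -/
theorem exists_lift_O (I : Ideal C) (hI : I ^ 2 = ⊥) (a : Sym2 (Fin n) → C)
    (hdisc : IsUnit (PM a).det) (X : Matrix (Fin n) (Fin n) C) (hX : IsUnit X.det)
    (hcc : ∀ s, cc a X s - a s ∈ I) :
    ∃ X' : Matrix (Fin n) (Fin n) C, InI I (X' - X) ∧ cc a X' = a := by
  set N : Matrix (Fin n) (Fin n) C := Xᵀ * UM a * X with hN
  set Sm : Matrix (Fin n) (Fin n) C := Xᵀ * PM a * X with hSm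
  have hSdet : IsUnit Sm.det := by
    rw [hSm, det_mul, det_mul, det_transpose]
    exact (hX.mul hdisc).mul hX
  have hNS : N + Nᵀ = Sm := PM_eq_tab_free a X
  set δ : Sym2 (Fin n) → C := fun s => a s - cc a X s with hδdef
  have hδ : ∀ s, δ s ∈ I := fun s => by
    have := I.neg_mem (hcc s)
    rwa [neg_sub] at this
  set Z : Matrix (Fin n) (Fin n) C := Sm⁻¹ * UM δ with hZdef
  have hZ : InI I Z := (InI_UM δ hδ).mul_left _
  have hSZ : Sm * Z = UM δ := by
    rw [hZdef, ← Matrix.mul_assoc, Matrix.mul_nonsing_inv _ hSdet, Matrix.one_mul]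
  refine ⟨X + X * Z, ?_, ?_⟩
  · rw [add_sub_cancel_left]
    exact hZ.mul_left _
  · rw [cc_eq_tab]
    have e1 : (X + X * Z)ᵀ * UM a * (X + X * Z) = N + (Zᵀ * N + N * Z) + Zᵀ * N * Z := by
      rw [hN]
      simp only [transpose_add, transpose_mul, Matrix.add_mul, Matrix.mul_add, Matrix.mul_assoc]
      abel
    have e2 : Zᵀ * N * Z = 0 := by
      rw [Matrix.mul_assoc]
      exact InI.mul_eq_zero hI hZ.transpose (hZ.mul_left _)
    rw [e1, e2, add_zero, tab_add, tab_transpose_mul_add, hNS, hSZ, tab_UM, ← cc_eq_tab]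
    funext s
    simp only [Pi.add_apply, hδdef]
    ring

end lift

section qf

variable {S : Type*} [CommRing S]

/-- the quadratic form `x ↦ xᵀ N x` -/
noncomputable def qf (N : Matrix (Fin n) (Fin n) S) : QuadraticForm S (Fin n → S) :=
  Matrix.toQuadraticForm' N

theorem qf_apply (N : Matrix (Fin n) (Fin n) S) (v : Fin n → S) :
    qf N v = v ⬝ᵥ (N *ᵥ v) := by
  rw [qf, Matrix.toQuadraticForm', LinearMap.BilinMap.toQuadraticMap_apply,
    Matrix.toLinearMap₂'_apply']

theorem polar_qf (N : Matrix (Fin n) (Fin n) S) (v w : Fin n → S) :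
    QuadraticMap.polar (qf N) v w = v ⬝ᵥ (N *ᵥ w) + w ⬝ᵥ (N *ᵥ v) := by
  simp only [QuadraticMap.polar, qf_apply, Matrix.mulVec_add, dotProduct_add, add_dotProduct]
  abel

theorem eq_of_coeffs_eq {M : Type*} [AddCommGroup M] [Module S M]
    (b : Module.Basis (Fin n) S M) (Q Q' : QuadraticForm S M)
    (h : coeffs b (LinearEquiv.refl S S) Q = coeffs b (LinearEquiv.refl S S) Q') : Q = Q' := by
  rw [← QuadraticMap.toQuadraticMap_toBilin Q b, ← QuadraticMap.toQuadraticMap_toBilin Q' b]
  congr 1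
  apply b.ext
  intro i
  apply b.ext
  intro j
  rw [QuadraticMap.toBilin_apply, QuadraticMap.toBilin_apply]
  have hij := congrFun h s(i, j)
  rw [coeffs_mk, coeffs_mk] at hij
  simp only [LinearEquiv.refl_apply] at hij
  by_cases h1 : i = j
  · rw [if_pos h1, if_pos h1]
    rw [if_pos h1, if_pos h1] at hij
    exact hij
  · rw [if_neg h1, if_neg h1]
    rw [if_neg h1, if_neg h1] at hij
    rw [hij]

theorem coeffs_qf (N : Matrix (Fin n) (Fin n) S) :
    coeffs (Pi.basisFun S (Fin n)) (LinearEquiv.refl S S) (qf N) = tab N := by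
  funext p
  induction p using Sym2.ind with
  | _ i j =>
    rw [coeffs_mk, tab_mk]
    simp only [LinearEquiv.refl_apply, Pi.basisFun_apply, polar_qf, qf_apply,
      Matrix.mulVec_single_one, single_one_dotProduct, Matrix.col_apply]

theorem qf_eq_of_tab_eq {N N' : Matrix (Fin n) (Fin n) S} (h : tab N = tab N') :
    qf N = qf N' :=
  eq_of_coeffs_eq (Pi.basisFun S (Fin n)) _ _ (by rw [coeffs_qf, coeffs_qf, h])

end qf

section field

open Groth.Agent.Lib.Helper25.HalfDisc

variable {K : Type*} [Field K]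

/-- over a field of characteristic two, in odd rank with non-zero half-discriminant, the table
`a` is not of the form `tab (PM a * W)`. -/
theorem ne_tab_PM_mul (h2 : (2 : K) = 0) (m : ℕ) (a : Sym2 (Fin (2 * m + 1)) → K)
    (hd : MvPolynomial.eval₂ (Int.castRingHom K) a (halfDiscUniv (2 * m + 1)) ≠ 0)
    (W : Matrix (Fin (2 * m + 1)) (Fin (2 * m + 1)) K) : tab (PM a * W) ≠ a := by
  intro h
  have hdet : (PM a).det = 0 := by
    rw [← eval_disc, disc_eq_two_mul, MvPolynomial.eval₂_mul, eval_two, h2, zero_mul]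
  obtain ⟨v, hv0, hv⟩ := Matrix.exists_mulVec_eq_zero_iff.mpr hdet
  have hq : qf (UM a) = qf (PM a * W) := qf_eq_of_tab_eq (by rw [tab_UM, h])
  have hvl : v ᵥ* PM a = 0 := by
    rw [← Matrix.mulVec_transpose, PM_symm, hv]
  have hQv : qf (UM a) v = 0 := by
    rw [hq, qf_apply, ← Matrix.mulVec_mulVec, Matrix.dotProduct_mulVec, hvl, zero_dotProduct]
  have hpol : ∀ w, QuadraticMap.polar (qf (UM a)) v w = 0 := by
    intro w
    rw [polar_qf, Matrix.dotProduct_mulVec v, ← Matrix.mulVec_transpose, dotProduct_comm _ w,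
      ← dotProduct_add, ← Matrix.add_mulVec, add_comm ((UM a)ᵀ) (UM a), ← PM_eq, hv, dotProduct_zero]
  obtain ⟨i, hi⟩ : ∃ i, v i ≠ 0 := Function.ne_iff.mp hv0
  have hB := lemmaB (Pi.basisFun K (Fin (2 * m + 1))) (qf (UM a)) v hpol i
  rw [hQv, zero_mul, halfDisc, coeffs_qf, tab_UM, Pi.basisFun_repr] at hB
  rcases mul_eq_zero.mp hB with h' | h'
  · exact hi (pow_eq_zero_iff (two_ne_zero) |>.mp h')
  · exact hd h'

end field

end Groth.Agent.Lib.Seat37.QuadTab
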