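import Mathlib
import Groth.Agent.Lib.Seat37QuadTab

/-!
# Odd rank: surjectivity of `(Z, γ) ↦ tab (PM a * Z) - γ • a` (seat 37)

For a table `a` of odd rank with unit half-discriminant:
* `halfDisc_smul`: the universal half-discriminant is homogeneous of degree `2m+1`;
* `tab_conj_of_tab_eq`: `tab (Hᵀ Y H)` depends only on `tab Y`;
* `field_surj`: over a field every table is `tab (PM a * Z) - γ • a`;
* `surj_of_hd_unit`: the same over any ring (Nakayama);
* `surj_I`: the version with values in an ideal.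
-/

set_option autoImplicit false
set_option linter.unusedSectionVars false

namespace Groth.Agent.Lib.Seat37.QuadGO

open Matrix QuadGrp MvPolynomial
open Groth.Agent.S17014.Aux.HD Groth.Agent.Lib.Helper25.HalfDisc Groth.Agent.Lib.Seat37.QuadTab

variable {n : ℕ}

/-- the value of the universal half-discriminant on a table -/
noncomputable abbrev hdv {S : Type*} [CommRing S] (a : Sym2 (Fin n) → S) : S :=
  eval₂ (Int.castRingHom S) a (halfDiscUniv n)

section basics

variable {S : Type*} [CommRing S]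

theorem UM_add (a b : Sym2 (Fin n) → S) : UM (a + b) = UM a + UM b := by
  ext k l
  simp only [UM, Matrix.of_apply, Matrix.add_apply, Pi.add_apply]
  split_ifs <;> simp

theorem UM_smul (c : S) (a : Sym2 (Fin n) → S) : UM (c • a) = c • UM a := by
  ext k l
  simp only [UM, Matrix.of_apply, Matrix.smul_apply, Pi.smul_apply, smul_eq_mul]
  split_ifs <;> simp

theorem PM_smul (c : S) (a : Sym2 (Fin n) → S) : PM (c • a) = c • PM a := by
  ext k l
  simp only [PM, Matrix.of_apply, Matrix.smul_apply, Pi.smul_apply, smul_eq_mul]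
  split_ifs <;> ring

/-- `tab` as a linear map -/
def tabL : Matrix (Fin n) (Fin n) S →ₗ[S] (Sym2 (Fin n) → S) where
  toFun := tab
  map_add' := tab_add
  map_smul' := tab_smul

@[simp] theorem tabL_apply (N : Matrix (Fin n) (Fin n) S) : tabL N = tab N := rfl

theorem tab_sub (N N' : Matrix (Fin n) (Fin n) S) : tab (N - N') = tab N - tab N' :=
  map_sub tabL N N'

theorem tab_sum {ι : Type*} (s : Finset ι) (f : ι → Matrix (Fin n) (Fin n) S) :
    tab (∑ i ∈ s, f i) = ∑ i ∈ s, tab (f i) := map_sum tabL f s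

theorem tab_mem {I : Ideal S} {N : Matrix (Fin n) (Fin n) S} (hN : InI I N) (p : Sym2 (Fin n)) :
    tab N p ∈ I := by
  induction p using Sym2.ind with
  | _ i j =>
    rw [tab_mk]
    split_ifs
    · exact hN i i
    · exact I.add_mem (hN i j) (hN j i)

theorem qf_add (N N' : Matrix (Fin n) (Fin n) S) (v : Fin n → S) :
    qf (N + N') v = qf N v + qf N' v := by
  simp only [qf_apply, Matrix.add_mulVec, dotProduct_add]

theorem qf_smul (c : S) (N : Matrix (Fin n) (Fin n) S) (v : Fin n → S) :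
    qf (c • N) v = c * qf N v := by
  simp only [qf_apply, Matrix.smul_mulVec, dotProduct_smul, smul_eq_mul]

theorem qf_conj (N H : Matrix (Fin n) (Fin n) S) :
    qf (Hᵀ * N * H) = (qf N).comp (Matrix.toLin' H) := by
  refine QuadraticMap.ext fun v => ?_
  rw [QuadraticMap.comp_apply, qf_apply, qf_apply, Matrix.toLin'_apply, ← Matrix.mulVec_mulVec,
    ← Matrix.mulVec_mulVec, Matrix.dotProduct_mulVec, Matrix.vecMul_transpose]

/-- `tab (Hᵀ Y H)` depends only on `tab Y`. -/
theorem tab_conj_of_tab_eq {Y Y' : Matrix (Fin n) (Fin n) S} (h : tab Y = tab Y')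
    (H : Matrix (Fin n) (Fin n) S) : tab (Hᵀ * Y * H) = tab (Hᵀ * Y' * H) := by
  rw [← coeffs_qf, ← coeffs_qf, qf_conj, qf_conj, qf_eq_of_tab_eq h]

end basics

section homog

theorem halfDisc_smul_dom {S : Type*} [CommRing S] [IsDomain S] [CharZero S] (m : ℕ)
    (a : Sym2 (Fin (2 * m + 1)) → S) (c : S) :
    hdv (c • a) = c ^ (2 * m + 1) * hdv a := by
  have h1 := eval_disc (c • a)
  have h2 := eval_disc a
  rw [disc_eq_two_mul, eval₂_mul, eval_two] at h1 h2
  rw [PM_smul, det_smul, Fintype.card_fin, ← h2] at h1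
  have : (2 : S) * (hdv (c • a) - c ^ (2 * m + 1) * hdv a) = 0 := by
    linear_combination h1
  rcases mul_eq_zero.mp this with h | h
  · exact absurd h two_ne_zero
  · exact sub_eq_zero.mp h

theorem halfDisc_smul {R : Type*} [CommRing R] (m : ℕ)
    (a : Sym2 (Fin (2 * m + 1)) → R) (c : R) :
    hdv (c • a) = c ^ (2 * m + 1) * hdv a := by
  let ev : MvPolynomial R ℤ →+* R := eval₂Hom (Int.castRingHom R) id
  let a' : Sym2 (Fin (2 * m + 1)) → MvPolynomial R ℤ := fun p => X (a p)
  let c' : MvPolynomial R ℤ := X c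
  have ha : ev ∘ a' = a := by
    funext p; simp [ev, a']
  have hc : ev c' = c := by simp [ev, c']
  have hca : ev ∘ (c' • a') = c • a := by
    funext p
    simp only [Function.comp, Pi.smul_apply, smul_eq_mul, map_mul, hc]
    rw [show ev (a' p) = a p from congrFun ha p]
  have hcomp : ev.comp (Int.castRingHom (MvPolynomial R ℤ)) = Int.castRingHom R :=
    RingHom.ext_int _ _
  have h := congrArg ev (halfDisc_smul_dom m a' c')
  rw [map_mul, map_pow, hc, eval₂_comp_left, eval₂_comp_left, hcomp, ha, hca] at h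
  exact h

end homog

section field

variable {K : Type*} [Field K]

/-- determinant of `P + e_i e_iᵀ` -/
theorem det_add_single {S : Type*} [CommRing S] {m : ℕ}
    (P : Matrix (Fin (m + 1)) (Fin (m + 1)) S) (i : Fin (m + 1)) :
    (P + vecMulVec (Pi.single i 1) (Pi.single i 1)).det =
      P.det + (P.submatrix i.succAbove i.succAbove).det := by
  rw [Matrix.det_succ_row _ i, Matrix.det_succ_row P i]
  have hsub : ∀ j : Fin (m + 1),
      (P + vecMulVec (Pi.single i (1 : S)) (Pi.single i 1)).submatrix i.succAbove j.succAbove =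
        P.submatrix i.succAbove j.succAbove := by
    intro j
    ext k l
    simp only [Matrix.submatrix_apply, Matrix.add_apply, vecMulVec_apply,
      Pi.single_eq_of_ne (Fin.succAbove_ne i k), zero_mul, add_zero]
  simp only [hsub, Matrix.add_apply, vecMulVec_apply, Pi.single_eq_same, one_mul, mul_add, add_mul,
    Finset.sum_add_distrib]
  congr 1
  rw [Finset.sum_eq_single i]
  · rw [Pi.single_eq_same, mul_one, Even.neg_one_pow ⟨(i : ℕ), rfl⟩, one_mul]
  · intro j _ hj
    rw [Pi.single_eq_of_ne hj, mul_zero, zero_mul]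
  · intro h
    exact absurd (Finset.mem_univ i) h

theorem field_surj_char_two (h2 : (2 : K) = 0) (m : ℕ) (a : Sym2 (Fin (2 * m + 1)) → K)
    (hd : hdv a ≠ 0) (τ : Sym2 (Fin (2 * m + 1)) → K) :
    ∃ (Z : Matrix (Fin (2 * m + 1)) (Fin (2 * m + 1)) K) (γ : K),
      tab (PM a * Z) - γ • a = τ := by
  have hdet : (PM a).det = 0 := by
    rw [← eval_disc, disc_eq_two_mul, MvPolynomial.eval₂_mul, eval_two, h2, zero_mul]
  obtain ⟨v, hv0, hv⟩ := Matrix.exists_mulVec_eq_zero_iff.mpr hdet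
  have hvl : v ᵥ* PM a = 0 := by
    rw [← Matrix.mulVec_transpose, PM_symm, hv]
  have hpol : ∀ w, QuadraticMap.polar (qf (UM a)) v w = 0 := by
    intro w
    rw [polar_qf, Matrix.dotProduct_mulVec v, ← Matrix.mulVec_transpose, dotProduct_comm _ w,
      ← dotProduct_add, ← Matrix.add_mulVec, add_comm ((UM a)ᵀ) (UM a), ← PM_eq, hv,
      dotProduct_zero]
  obtain ⟨i, hi⟩ : ∃ i, v i ≠ 0 := Function.ne_iff.mp hv0
  have hB := lemmaB (Pi.basisFun K (Fin (2 * m + 1))) (qf (UM a)) v hpol i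
  rw [halfDisc, coeffs_qf, tab_UM, Pi.basisFun_repr, ← PM_coeffs, coeffs_qf, tab_UM] at hB
  have hne : (v i) ^ 2 * hdv a ≠ 0 := mul_ne_zero (pow_ne_zero 2 hi) hd
  rw [hB] at hne
  have hQv : qf (UM a) v ≠ 0 := left_ne_zero_of_mul hne
  have hmin : ((PM a).submatrix i.succAbove i.succAbove).det ≠ 0 := right_ne_zero_of_mul hne
  -- the modified matrix
  set ei : Fin (2 * m + 1) → K := Pi.single i 1 with hei
  set Pt : Matrix (Fin (2 * m + 1)) (Fin (2 * m + 1)) K := PM a + vecMulVec ei ei with hPt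
  have hPtdet : IsUnit Pt.det := by
    rw [hPt, det_add_single, hdet, zero_add]
    exact isUnit_iff_ne_zero.mpr hmin
  have hvei : v ⬝ᵥ ei = v i := dotProduct_single_one v i
  have hvPt : v ᵥ* Pt = v i • ei := by
    rw [hPt, Matrix.vecMul_add, hvl, zero_add, vecMul_vecMulVec, hvei]
  set Pr : Matrix (Fin (2 * m + 1)) (Fin (2 * m + 1)) K := 1 - (v i)⁻¹ • vecMulVec ei v with hPr
  have hPrPt : Pr * Pt = PM a := by
    rw [hPr, Matrix.sub_mul, Matrix.one_mul, Matrix.smul_mul, vecMulVec_mul, hvPt, vecMulVec_smul,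
      smul_smul, inv_mul_cancel₀ hi, one_smul, hPt, add_sub_cancel_right]
  have hPrY : ∀ Y : Matrix (Fin (2 * m + 1)) (Fin (2 * m + 1)) K, v ᵥ* Y = 0 → Pr * Y = Y := by
    intro Y hY
    rw [hPr, Matrix.sub_mul, Matrix.one_mul, Matrix.smul_mul, vecMulVec_mul, hY, vecMulVec_zero,
      smul_zero, sub_zero]
  -- the table to solve for
  set γ : K := - (qf (UM τ) v) / (qf (UM a) v) with hγ
  set τ' : Sym2 (Fin (2 * m + 1)) → K := τ + γ • a with hτ'
  have hqτ' : qf (UM τ') v = 0 := by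
    rw [hτ', UM_add, UM_smul, qf_add, qf_smul, hγ]
    field_simp
    ring
  set y : Fin (2 * m + 1) → K := v ᵥ* UM τ' with hy
  have hvy : v ⬝ᵥ y = 0 := by
    rw [dotProduct_comm, hy, ← Matrix.dotProduct_mulVec, ← qf_apply]
    exact hqτ'
  set D : Matrix (Fin (2 * m + 1)) (Fin (2 * m + 1)) K :=
    (v i)⁻¹ • (vecMulVec y ei - vecMulVec ei y) with hD
  have htabD : tab D = 0 := by
    funext p
    induction p using Sym2.ind with
    | _ k l =>
      simp only [tab_mk, hD, Matrix.smul_apply, Matrix.sub_apply, vecMulVec_apply, smul_eq_mul,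
        Pi.zero_apply]
      split_ifs with hkl
      · subst hkl; ring
      · ring
  have hvD : v ᵥ* D = - y := by
    rw [hD, Matrix.vecMul_smul, Matrix.vecMul_sub, vecMul_vecMulVec, vecMul_vecMulVec, hvy,
      zero_smul, zero_sub, hvei, smul_neg, smul_smul, inv_mul_cancel₀ hi, one_smul]
  set Y : Matrix (Fin (2 * m + 1)) (Fin (2 * m + 1)) K := UM τ' + D with hY
  have hvY : v ᵥ* Y = 0 := by
    rw [hY, Matrix.vecMul_add, hvD, ← hy, add_neg_cancel]
  have htabY : tab Y = τ' := by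
    rw [hY, tab_add, htabD, add_zero, tab_UM]
  refine ⟨Pt⁻¹ * Y, γ, ?_⟩
  have : PM a * (Pt⁻¹ * Y) = Y := by
    rw [← hPrPt, Matrix.mul_assoc, ← Matrix.mul_assoc Pt, Matrix.mul_nonsing_inv _ hPtdet,
      Matrix.one_mul, hPrY Y hvY]
  rw [this, htabY, hτ', add_sub_cancel_right]

theorem field_surj (m : ℕ) (a : Sym2 (Fin (2 * m + 1)) → K)
    (hd : hdv a ≠ 0) (τ : Sym2 (Fin (2 * m + 1)) → K) :
    ∃ (Z : Matrix (Fin (2 * m + 1)) (Fin (2 * m + 1)) K) (γ : K),
      tab (PM a * Z) - γ • a = τ := by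
  by_cases h2 : (2 : K) = 0
  · exact field_surj_char_two h2 m a hd τ
  · have hdet : IsUnit (PM a).det := by
      rw [← eval_disc, disc_eq_two_mul, MvPolynomial.eval₂_mul, eval_two]
      exact isUnit_iff_ne_zero.mpr (mul_ne_zero h2 hd)
    refine ⟨(PM a)⁻¹ * UM τ, 0, ?_⟩
    rw [← Matrix.mul_assoc, Matrix.mul_nonsing_inv _ hdet, Matrix.one_mul, tab_UM, zero_smul,
      sub_zero]

end field

section nakayama

theorem eq_top_of_forall_maximal {R M : Type*} [CommRing R] [AddCommGroup M] [Module R M]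
    [Module.Finite R M] (N : Submodule R M)
    (h : ∀ 𝔪 : Ideal R, 𝔪.IsMaximal → N ⊔ 𝔪 • (⊤ : Submodule R M) = ⊤) : N = ⊤ := by
  by_contra hN
  set J : Ideal R := Module.annihilator R (M ⧸ N) with hJdef
  have hJ : J ≠ ⊤ := by
    intro hJ
    apply hN
    have h1 : (1 : R) ∈ J := hJ ▸ Submodule.mem_top
    rw [hJdef, Module.mem_annihilator] at h1
    rw [eq_top_iff]
    intro x _
    have := h1 (N.mkQ x)
    rw [one_smul] at this
    exact (Submodule.Quotient.mk_eq_zero N).mp this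
  obtain ⟨𝔪, hmax, hJ𝔪⟩ := Ideal.exists_le_maximal J hJ
  have htop : (⊤ : Submodule R (M ⧸ N)) ≤ 𝔪 • ⊤ := by
    have := congrArg (Submodule.map N.mkQ) (h 𝔪 hmax)
    rw [Submodule.map_sup, Submodule.map_smul'', Submodule.map_top, Submodule.range_mkQ,
      Submodule.mkQ_map_self, bot_sup_eq] at this
    exact this.ge
  obtain ⟨r, hr1, hr⟩ := Submodule.exists_sub_one_mem_and_smul_eq_zero_of_fg_of_le_smul 𝔪 ⊤
    Module.Finite.fg_top htop
  have hrJ : r ∈ J := by
    rw [hJdef, Module.mem_annihilator]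
    intro x
    exact hr x trivial
  have h1 : (1 : R) ∈ 𝔪 := by
    have := 𝔪.sub_mem (hJ𝔪 hrJ) hr1
    simpa using this
  exact hmax.ne_top ((Ideal.eq_top_iff_one _).mpr h1)

theorem mem_smul_top_of_forall_mem {R ι : Type*} [CommRing R] [Fintype ι] [DecidableEq ι]
    (𝔪 : Ideal R) (x : ι → R) (hx : ∀ i, x i ∈ 𝔪) : x ∈ 𝔪 • (⊤ : Submodule R (ι → R)) := by
  have : x = ∑ i, x i • (Pi.single i 1 : ι → R) := by
    funext j
    simp [Finset.sum_apply, Pi.single_apply]
  rw [this]
  exact Submodule.sum_mem _ fun i _ => Submodule.smul_mem_smul (hx i) Submodule.mem_top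

variable {R : Type*} [CommRing R]

/-- the map `(Z, γ) ↦ tab (PM a * Z) - γ • a` -/
def psi (a : Sym2 (Fin n) → R) :
    (Matrix (Fin n) (Fin n) R × R) →ₗ[R] (Sym2 (Fin n) → R) where
  toFun p := tab (PM a * p.1) - p.2 • a
  map_add' p q := by
    simp only [Prod.fst_add, Prod.snd_add, Matrix.mul_add, tab_add, add_smul]
    abel
  map_smul' c p := by
    simp only [Prod.smul_fst, Prod.smul_snd, Matrix.mul_smul, tab_smul, smul_eq_mul, mul_smul,
      RingHom.id_apply, smul_sub]

theorem psi_apply (a : Sym2 (Fin n) → R) (p : Matrix (Fin n) (Fin n) R × R) :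
    psi a p = tab (PM a * p.1) - p.2 • a := rfl

theorem hdv_map {T : Type*} [CommRing T] (φ : R →+* T) (a : Sym2 (Fin n) → R) :
    hdv (φ ∘ a) = φ (hdv a) := by
  have hcomp : φ.comp (Int.castRingHom R) = Int.castRingHom T := RingHom.ext_int _ _
  rw [hdv, hdv, eval₂_comp_left, hcomp]

/-- over any ring, in odd rank with unit half-discriminant, every table is
`tab (PM a * Z) - γ • a`. -/
theorem surj_of_hd_unit (m : ℕ) (a : Sym2 (Fin (2 * m + 1)) → R) (hd : IsUnit (hdv a))
    (τ : Sym2 (Fin (2 * m + 1)) → R) :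
    ∃ (Z : Matrix (Fin (2 * m + 1)) (Fin (2 * m + 1)) R) (γ : R),
      tab (PM a * Z) - γ • a = τ := by
  classical
  have htop : LinearMap.range (psi a) = ⊤ := by
    apply eq_top_of_forall_maximal
    intro 𝔪 hmax
    rw [eq_top_iff]
    intro τ _
    let _ : Field (R ⧸ 𝔪) := Ideal.Quotient.field 𝔪
    have hdK : hdv ((Ideal.Quotient.mk 𝔪) ∘ a) ≠ 0 := by
      rw [hdv_map]
      exact (hd.map (Ideal.Quotient.mk 𝔪)).ne_zero
    obtain ⟨ZK, γK, hK⟩ := field_surj m ((Ideal.Quotient.mk 𝔪) ∘ a) hdK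
      ((Ideal.Quotient.mk 𝔪) ∘ τ)
    set Z : Matrix (Fin (2 * m + 1)) (Fin (2 * m + 1)) R :=
      ZK.map (Function.surjInv Ideal.Quotient.mk_surjective) with hZ
    have hZK : Z.map (Ideal.Quotient.mk 𝔪) = ZK := by
      ext i j
      exact Function.surjInv_eq Ideal.Quotient.mk_surjective _
    set γ : R := Function.surjInv Ideal.Quotient.mk_surjective γK with hγ
    have hγK : Ideal.Quotient.mk 𝔪 γ = γK := Function.surjInv_eq Ideal.Quotient.mk_surjective _
    have hmem : ∀ p, (τ - psi a (Z, γ)) p ∈ 𝔪 := by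
      intro p
      rw [← Ideal.Quotient.eq_zero_iff_mem, Pi.sub_apply, psi_apply, Pi.sub_apply, Pi.smul_apply,
        smul_eq_mul, map_sub, map_sub, map_mul, hγK]
      have h1 : Ideal.Quotient.mk 𝔪 (tab (PM a * Z) p) =
          tab (PM ((Ideal.Quotient.mk 𝔪) ∘ a) * ZK) p := by
        have := congrFun (tab_map (Ideal.Quotient.mk 𝔪) (PM a * Z)) p
        rw [Matrix.map_mul, PM_map, hZK] at this
        exact this
      rw [h1]
      have h2 := congrFun hK p
      simp only [Pi.sub_apply, Pi.smul_apply, smul_eq_mul, Function.comp] at h2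
      rw [h2, sub_self]
    have : τ = psi a (Z, γ) + (τ - psi a (Z, γ)) := by abel
    rw [this]
    exact Submodule.add_mem_sup (LinearMap.mem_range_self _ _)
      (mem_smul_top_of_forall_mem 𝔪 _ hmem)
  obtain ⟨⟨Z, γ⟩, h⟩ := LinearMap.range_eq_top.mp htop τ
  exact ⟨Z, γ, h⟩

/-- the version with values in an ideal. -/
theorem surj_I (m : ℕ) (a : Sym2 (Fin (2 * m + 1)) → R) (hd : IsUnit (hdv a)) (I : Ideal R)
    (τ : Sym2 (Fin (2 * m + 1)) → R) (hτ : ∀ s, τ s ∈ I) :
    ∃ (Z : Matrix (Fin (2 * m + 1)) (Fin (2 * m + 1)) R) (γ : R),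
      InI I Z ∧ γ ∈ I ∧ tab (PM a * Z) - γ • a = τ := by
  classical
  choose Zs γs hs using fun s : Sym2 (Fin (2 * m + 1)) =>
    surj_of_hd_unit m a hd (Pi.single s 1)
  refine ⟨∑ s, τ s • Zs s, ∑ s, τ s * γs s, ?_, ?_, ?_⟩
  · intro i j
    rw [Matrix.sum_apply]
    exact Ideal.sum_mem _ fun s _ => by
      rw [Matrix.smul_apply, smul_eq_mul]
      exact Ideal.mul_mem_right _ _ (hτ s)
  · exact Ideal.sum_mem _ fun s _ => Ideal.mul_mem_right _ _ (hτ s)
  · rw [Matrix.mul_sum, tab_sum, Finset.sum_smul, ← Finset.sum_sub_distrib]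
    have : ∀ s, tab (PM a * τ s • Zs s) - (τ s * γs s) • a = τ s • (Pi.single s 1 :
        Sym2 (Fin (2 * m + 1)) → R) := by
      intro s
      rw [Matrix.mul_smul, tab_smul, mul_smul, ← smul_sub, hs s]
    simp only [this]
    funext p
    simp [Finset.sum_apply, Pi.single_apply]

end nakayama

end Groth.Agent.Lib.Seat37.QuadGO
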