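import Mathlib
import Groth.Prelude.Def_QuadGrp
import Groth.Agent.Lib.Seat37QuadGO

/-!
# The coefficient table of the split form of odd rank (seat 37)

* `B S k l`: the table on natural indices; `bsp S n`: the table on `Sym2 (Fin n)`;
* `coeffs_splitForm`: the coefficients of `QuadGrp.splitForm R (2 * m + 1)` in the standard basis;
* `isUnit_hdv_bsp`: its half-discriminant is a unit.
-/

set_option autoImplicit false
universe u

namespace Groth.Agent.Lib.Seat37.QuadSplitTab

open Matrix QuadGrp
open Groth.Agent.S17014.Aux.HD Groth.Agent.Lib.Seat37.QuadTab Groth.Agent.Lib.Seat37.QuadGO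
  Groth.Agent.Lib.Helper25.HalfDisc

/-- the split table on natural indices -/
def B (S : Type*) [Zero S] [One S] (k l : ℕ) : S :=
  if k = l then (if k = 0 then 1 else 0)
  else if (k % 2 = 1 ∧ l = k + 1) ∨ (l % 2 = 1 ∧ k = l + 1) then 1 else 0

theorem B_comm (S : Type*) [Zero S] [One S] (k l : ℕ) : B S k l = B S l k := by
  unfold B
  by_cases h : k = l
  · subst h; rfl
  · rw [if_neg h, if_neg (Ne.symm h)]
    congr 1
    exact propext or_comm

/-- the split table -/
def bsp (S : Type*) [Zero S] [One S] (n : ℕ) : Sym2 (Fin n) → S :=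
  Sym2.lift ⟨fun i j => B S i.val j.val, fun i j => B_comm S i.val j.val⟩

@[simp] theorem bsp_mk (S : Type*) [Zero S] [One S] (n : ℕ) (i j : Fin n) :
    bsp S n s(i, j) = B S i.val j.val := rfl

theorem map_B {S T : Type*} [NonAssocSemiring S] [NonAssocSemiring T] (φ : S →+* T) (k l : ℕ) :
    φ (B S k l) = B T k l := by
  unfold B
  split_ifs <;> simp

theorem map_bsp {S T : Type*} [NonAssocSemiring S] [NonAssocSemiring T] (φ : S →+* T) (n : ℕ) :
    φ ∘ bsp S n = bsp T n := by
  funext p
  induction p using Sym2.ind with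
  | _ i j => exact map_B φ _ _

section splitForm

variable (R : Type u) [CommRing R] (m : ℕ)

theorem splitForm_apply (x : Fin (2 * m + 1) → R) :
    QuadGrp.splitForm R (2 * m + 1) x =
      x 0 * x 0 + ∑ i : Fin m, x ⟨2 * i.val + 1, by omega⟩ * x ⟨2 * i.val + 2, by omega⟩ := by
  have hm : (2 * m + 1) / 2 = m := by omega
  have hmod : (2 * m + 1) % 2 = 1 := by omega
  unfold QuadGrp.splitForm
  rw [dif_pos hmod, _root_.add_apply, _root_.sum_apply, add_comm]
  congr 1
  refine Fintype.sum_equiv (finCongr hm) _ _ (fun i => ?_)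
  rw [QuadraticMap.linMulLin_apply]
  simp only [LinearMap.proj_apply]
  congr 2 <;> (apply Fin.ext; simp [hmod])

/-- the bilinear expression whose diagonal is the split form -/
def bet (x y : Fin (2 * m + 1) → R) : R :=
  x 0 * y 0 + ∑ i : Fin m, x ⟨2 * i.val + 1, by omega⟩ * y ⟨2 * i.val + 2, by omega⟩

theorem splitForm_eq_bet (x : Fin (2 * m + 1) → R) :
    QuadGrp.splitForm R (2 * m + 1) x = bet R m x x := splitForm_apply R m x

theorem polar_splitForm (x y : Fin (2 * m + 1) → R) :
    QuadraticMap.polar (QuadGrp.splitForm R (2 * m + 1)) x y = bet R m x y + bet R m y x := by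
  simp only [QuadraticMap.polar, splitForm_eq_bet, bet, Pi.add_apply, add_mul, mul_add,
    Finset.sum_add_distrib]
  ring

theorem sum_single (k l : Fin (2 * m + 1)) :
    ∑ i : Fin m, (Pi.single k (1 : R) : Fin (2 * m + 1) → R) ⟨2 * i.val + 1, by omega⟩ *
      (Pi.single l (1 : R) : Fin (2 * m + 1) → R) ⟨2 * i.val + 2, by omega⟩ =
      if k.val % 2 = 1 ∧ l.val = k.val + 1 then 1 else 0 := by
  split_ifs with h
  · obtain ⟨h1, h2⟩ := h
    have hk := k.isLt
    have hl := l.isLt
    have hi : (k.val - 1) / 2 < m := by omega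
    rw [Finset.sum_eq_single ⟨(k.val - 1) / 2, hi⟩]
    · rw [Pi.single_apply, Pi.single_apply, if_pos, if_pos, mul_one]
      · apply Fin.ext
        simp only
        omega
      · apply Fin.ext
        simp only
        omega
    · intro i _ hne
      rw [Pi.single_apply, if_neg, zero_mul]
      intro h
      apply hne
      apply Fin.ext
      have := congrArg Fin.val h
      simp only at this ⊢
      omega
    · intro h
      exact absurd (Finset.mem_univ _) h
  · apply Finset.sum_eq_zero
    intro i _
    rw [Pi.single_apply, Pi.single_apply]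
    by_cases h1 : (⟨2 * i.val + 1, by omega⟩ : Fin (2 * m + 1)) = k
    · rw [if_pos h1, one_mul, if_neg]
      intro h2
      apply h
      have e1 := congrArg Fin.val h1
      have e2 := congrArg Fin.val h2
      simp only at e1 e2
      omega
    · rw [if_neg h1, zero_mul]

theorem bet_single (k l : Fin (2 * m + 1)) :
    bet R m (Pi.single k 1) (Pi.single l 1) =
      (if k.val = 0 ∧ l.val = 0 then 1 else 0) +
        (if k.val % 2 = 1 ∧ l.val = k.val + 1 then 1 else 0) := by
  rw [bet, sum_single]
  congr 1
  rw [Pi.single_apply, Pi.single_apply]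
  by_cases hk : (0 : Fin (2 * m + 1)) = k
  · by_cases hl : (0 : Fin (2 * m + 1)) = l
    · rw [if_pos hk, if_pos hl, if_pos, mul_one]
      exact ⟨by rw [← hk]; rfl, by rw [← hl]; rfl⟩
    · rw [if_neg hl, mul_zero, if_neg]
      rintro ⟨_, h2⟩
      exact hl (Fin.ext h2.symm)
  · rw [if_neg hk, zero_mul, if_neg]
    rintro ⟨h1, _⟩
    exact hk (Fin.ext h1.symm)

theorem coeffs_splitForm :
    coeffs (Pi.basisFun R (Fin (2 * m + 1))) (LinearEquiv.refl R R)
      (QuadGrp.splitForm R (2 * m + 1)) = bsp R (2 * m + 1) := by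
  funext p
  induction p using Sym2.ind with
  | _ i j =>
    rw [coeffs_mk, bsp_mk]
    simp only [LinearEquiv.refl_apply, Pi.basisFun_apply]
    by_cases h : i = j
    · subst h
      rw [if_pos rfl, splitForm_eq_bet, bet_single, B, if_pos rfl]
      have : ¬ (i.val % 2 = 1 ∧ i.val = i.val + 1) := by omega
      rw [if_neg this, add_zero]
      by_cases h0 : i.val = 0
      · rw [if_pos ⟨h0, h0⟩, if_pos h0]
      · rw [if_neg (fun h => h0 h.1), if_neg h0]
    · have hv : i.val ≠ j.val := fun e => h (Fin.ext e)
      rw [if_neg h, polar_splitForm, bet_single, bet_single, B, if_neg hv]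
      have h00 : ¬ (i.val = 0 ∧ j.val = 0) := by omega
      have h00' : ¬ (j.val = 0 ∧ i.val = 0) := by omega
      rw [if_neg h00, if_neg h00', zero_add, zero_add]
      by_cases h1 : i.val % 2 = 1 ∧ j.val = i.val + 1
      · have h2 : ¬ (j.val % 2 = 1 ∧ i.val = j.val + 1) := by omega
        rw [if_pos h1, if_neg h2, add_zero, if_pos (Or.inl h1)]
      · by_cases h2 : j.val % 2 = 1 ∧ i.val = j.val + 1
        · rw [if_neg h1, if_pos h2, zero_add, if_pos (Or.inr h2)]
        · rw [if_neg h1, if_neg h2, add_zero, if_neg]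
          rintro (h3 | h3)
          · exact h1 h3
          · exact h2 h3

end splitForm

section unit

variable (S : Type*) [CommRing S] (m : ℕ)

/-- the involution swapping `2 i` and `2 i + 1` -/
def swp : Equiv.Perm (Fin (2 * m)) where
  toFun j := ⟨if j.val % 2 = 0 then j.val + 1 else j.val - 1, by have := j.isLt; split_ifs <;> omega⟩
  invFun j := ⟨if j.val % 2 = 0 then j.val + 1 else j.val - 1, by have := j.isLt; split_ifs <;> omega⟩
  left_inv j := by
    apply Fin.ext
    simp only
    split_ifs <;> omega
  right_inv j := by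
    apply Fin.ext
    simp only
    split_ifs <;> omega

theorem swp_val (j : Fin (2 * m)) :
    (swp m j).val = if j.val % 2 = 0 then j.val + 1 else j.val - 1 := rfl

theorem minor_bsp : minor (bsp S (2 * m + 1)) 0 = (swp m).permMatrix S := by
  ext j k
  rw [minor, Matrix.submatrix_apply, Fin.succAbove_zero]
  change PM _ _ _ = (swp m).toPEquiv.toMatrix j k
  rw [PEquiv.toMatrix_apply, Equiv.toPEquiv_apply]
  simp only [PM, Matrix.of_apply, bsp_mk, Fin.val_succ, Option.mem_def, Option.some.injEq]
  have hj := j.isLt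
  have hk := k.isLt
  by_cases hjk : j = k
  · subst hjk
    rw [if_pos rfl, B, if_pos rfl, if_neg (by omega), mul_zero, if_neg]
    intro h
    have := congrArg Fin.val h
    rw [swp_val] at this
    split_ifs at this <;> omega
  · have hv : j.val ≠ k.val := fun e => hjk (Fin.ext e)
    rw [if_neg (fun h => hjk (Fin.succ_injective _ h)), B, if_neg (by omega)]
    by_cases h : swp m j = k
    · rw [if_pos h, if_pos]
      have := congrArg Fin.val h
      rw [swp_val] at this
      split_ifs at this <;> omega
    · rw [if_neg h, if_neg]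
      intro h'
      apply h
      apply Fin.ext
      rw [swp_val]
      split_ifs <;> omega

theorem isUnit_hdv_bsp : IsUnit (hdv (bsp S (2 * m + 1))) := by
  have h0 : ∀ j : Fin (2 * m + 1), j ≠ 0 → bsp S (2 * m + 1) s(0, j) = 0 := by
    intro j hj
    have hv : j.val ≠ 0 := fun e => hj (Fin.ext e)
    rw [bsp_mk, B, if_neg (by simpa using hv.symm), if_neg]
    simp only [Fin.val_zero]
    omega
  have h := halfDisc_of_row_zero (bsp S (2 * m + 1)) 0 h0
  rw [hdv, h, minor_bsp, Matrix.det_permutation, bsp_mk, B, if_pos rfl,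
    if_pos (by simp), one_mul]
  exact ((Equiv.Perm.sign (swp m)).isUnit.map (Int.castRingHom S).toMonoidHom)

end unit

end Groth.Agent.Lib.Seat37.QuadSplitTab
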