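import Mathlib
import Groth.Prelude.Def_QuadGrp
import Groth.Agent.Lib.Seat37CliffTower
import Groth.Agent.Lib.Seat37CliffGrade
import Groth.Agent.Lib.Seat37QuadSplitTab

/-!
# The even Clifford algebra of the split form of odd rank is a matrix algebra (seat 37)

`nonempty_even_matrix`: `even (splitForm R (2 m + 1)) ≃ₐ Matrix (Fin (2 ^ m)) (Fin (2 ^ m)) R`.
-/

set_option autoImplicit false
universe u

namespace Groth.Agent.Lib.Seat37.CliffSplitEven

open CliffordAlgebra Matrix Groth.Agent.Lib.Seat37.CliffTower Groth.Agent.Lib.Seat37.CliffGrade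
  Groth.Agent.Lib.Seat37.QuadSplitTab

variable (R : Type u) [CommRing R] (m : ℕ)

/-- coordinates: `x ↦ ((x₁, x₂), (x₃, x₄), …; x₀)` -/
def splitCoord : (Fin (2 * m + 1) → R) ≃ₗ[R] (Fin m → R × R) × R where
  toFun x := (fun i => (x ⟨2 * i.val + 1, by omega⟩, x ⟨2 * i.val + 2, by omega⟩), x 0)
  map_add' x y := rfl
  map_smul' r x := rfl
  invFun p := fun k =>
    if h0 : k.val = 0 then p.2
    else if h1 : k.val % 2 = 1 then (p.1 ⟨(k.val - 1) / 2, by omega⟩).1
    else (p.1 ⟨(k.val - 2) / 2, by omega⟩).2
  left_inv x := by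
    funext k
    by_cases h0 : k.val = 0
    · simp only [dif_pos h0]
      congr 1
      exact Fin.ext h0.symm
    · by_cases h1 : k.val % 2 = 1
      · simp only [dif_neg h0, dif_pos h1]
        congr 1
        apply Fin.ext
        simp only
        omega
      · simp only [dif_neg h0, dif_neg h1]
        congr 1
        apply Fin.ext
        simp only
        omega
  right_inv p := by
    obtain ⟨w, r⟩ := p
    refine Prod.ext ?_ ?_
    · funext i
      refine Prod.ext ?_ ?_
      · have h0 : ¬ (2 * i.val + 1 = 0) := by omega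
        have h1 : (2 * i.val + 1) % 2 = 1 := by omega
        simp only [dif_neg h0, dif_pos h1]
        congr 2
        apply Fin.ext
        simp only
        omega
      · have h0 : ¬ (2 * i.val + 2 = 0) := by omega
        have h1 : ¬ ((2 * i.val + 2) % 2 = 1) := by omega
        simp only [dif_neg h0, dif_neg h1]
        congr 2
        apply Fin.ext
        simp only
        omega
    · simp

/-- `-T ≅ (hypSpace (-1) m) ⊥ ⟨-1⟩` -/
noncomputable def negSplitIso :
    (-(QuadGrp.splitForm R (2 * m + 1))).IsometryEquiv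
      (CliffordAlgebra.EquivEven.Q' (hypSpace (-1 : R) m)) :=
  { splitCoord R m with
    map_app' := fun x => by
      rw [CliffordAlgebra.EquivEven.Q'_apply, hypSpace_apply, _root_.neg_apply,
        splitForm_apply]
      simp only [splitCoord]
      have : ∀ a : Fin m → R, ∑ i, -1 * a i = -∑ i, a i := by
        intro a
        rw [← Finset.sum_neg_distrib]
        exact Finset.sum_congr rfl (fun i _ => by ring)
      rw [this]
      ring }

theorem nonempty_even_matrix :
    Nonempty (CliffordAlgebra.even (QuadGrp.splitForm R (2 * m + 1)) ≃ₐ[R]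
      Matrix (Fin (2 ^ m)) (Fin (2 ^ m)) R) := by
  obtain ⟨e⟩ := nonempty_matrix (-1 : R) (isUnit_one.neg) m
  exact ⟨(evenEquivEvenNeg (QuadGrp.splitForm R (2 * m + 1))).trans
    ((evenEquivOfIsometry (negSplitIso R m)).trans
      ((equivEven (hypSpace (-1 : R) m)).symm.trans e))⟩

end Groth.Agent.Lib.Seat37.CliffSplitEven
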