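import Mathlib
import Groth.Prelude.Def_QuadGrp
import Groth.Agent.Lib.Seat37CliffGrade
import Groth.Agent.Lib.Seat37QuadSplitTab

/-!
# The odd central unit of the Clifford algebra of the split form of odd rank (seat 37)

General lemmas on `w a b = ι a * ι b - ι b * ι a` for a hyperbolic pair, then
`zeta R m : CliffordAlgebra (splitForm R (2 m + 1))`, with
`zeta_mem_center`, `zeta_odd`, `zeta_mul_self : zeta * zeta = 1`, `star_zeta`.
-/

set_option autoImplicit false
universe u v

namespace Groth.Agent.Lib.Seat37.CliffZeta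

open CliffordAlgebra Groth.Agent.Lib.Seat37.CliffGrade Groth.Agent.Lib.Seat37.QuadSplitTab

section general

variable {R : Type u} [CommRing R] {M : Type v} [AddCommGroup M] [Module R M]
variable (Q : QuadraticForm R M)

/-- `ι a ι b - ι b ι a` -/
noncomputable def w (a b : M) : CliffordAlgebra Q := ι Q a * ι Q b - ι Q b * ι Q a

theorem anti (c a : M) (h : QuadraticMap.polar Q c a = 0) : ι Q c * ι Q a = -(ι Q a * ι Q c) := by
  have := ι_mul_ι_add_swap (Q := Q) c a
  rw [h, map_zero] at this
  exact eq_neg_of_add_eq_zero_left this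

theorem commute_mul (c a b : M) (ha : QuadraticMap.polar Q c a = 0)
    (hb : QuadraticMap.polar Q c b = 0) : Commute (ι Q c) (ι Q a * ι Q b) := by
  change ι Q c * (ι Q a * ι Q b) = ι Q a * ι Q b * ι Q c
  rw [← mul_assoc, anti Q c a ha, neg_mul, mul_assoc, anti Q c b hb, mul_neg, neg_neg, mul_assoc]

theorem commute_w (c a b : M) (ha : QuadraticMap.polar Q c a = 0)
    (hb : QuadraticMap.polar Q c b = 0) : Commute (ι Q c) (w Q a b) :=
  (commute_mul Q c a b ha hb).sub_right (commute_mul Q c b a hb ha)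

theorem anti_w_left (a b : M) (ha : Q a = 0) : ι Q a * w Q a b = -(w Q a b * ι Q a) := by
  have h : ι Q a * ι Q a = 0 := by rw [ι_sq_scalar, ha, map_zero]
  unfold w
  rw [mul_sub, sub_mul, ← mul_assoc, h, zero_mul, mul_assoc (ι Q b), h, mul_zero, sub_zero,
    zero_sub, mul_assoc]

theorem anti_w_right (a b : M) (hb : Q b = 0) : ι Q b * w Q a b = -(w Q a b * ι Q b) := by
  have h : ι Q b * ι Q b = 0 := by rw [ι_sq_scalar, hb, map_zero]
  unfold w
  rw [mul_sub, sub_mul, ← mul_assoc (ι Q b) (ι Q b), h, zero_mul, mul_assoc (ι Q a), h, mul_zero,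
    sub_zero, zero_sub, neg_neg, mul_assoc]

theorem w_mul_self (a b : M) (ha : Q a = 0) (hb : Q b = 0) (hab : QuadraticMap.polar Q a b = 1) :
    w Q a b * w Q a b = 1 := by
  have haa : ι Q a * ι Q a = 0 := by rw [ι_sq_scalar, ha, map_zero]
  have hbb : ι Q b * ι Q b = 0 := by rw [ι_sq_scalar, hb, map_zero]
  have hs : ι Q a * ι Q b + ι Q b * ι Q a = 1 := by
    rw [ι_mul_ι_add_swap, hab, map_one]
  set p := ι Q a * ι Q b with hp
  set q := ι Q b * ι Q a with hq
  have hpq : p * q = 0 := by
    rw [hp, hq, mul_assoc, ← mul_assoc (ι Q b), hbb, zero_mul, mul_zero]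
  have hqp : q * p = 0 := by
    rw [hp, hq, mul_assoc, ← mul_assoc (ι Q a), haa, zero_mul, mul_zero]
  have hpp : p * p = p := by
    have : p * (p + q) = p := by rw [hs, mul_one]
    rwa [mul_add, hpq, add_zero] at this
  have hqq : q * q = q := by
    have : q * (p + q) = q := by rw [hs, mul_one]
    rwa [mul_add, hqp, zero_add] at this
  change (p - q) * (p - q) = 1
  rw [sub_mul, mul_sub, mul_sub, hpp, hpq, hqp, hqq, sub_zero, zero_sub, sub_neg_eq_add, hs]

theorem commute_w_w (a b c d : M) (hca : QuadraticMap.polar Q c a = 0)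
    (hcb : QuadraticMap.polar Q c b = 0) (hda : QuadraticMap.polar Q d a = 0)
    (hdb : QuadraticMap.polar Q d b = 0) : Commute (w Q c d) (w Q a b) := by
  have h1 := commute_w Q c a b hca hcb
  have h2 := commute_w Q d a b hda hdb
  exact (h1.mul_left h2).sub_left (h2.mul_left h1)

theorem w_even (a b : M) : w Q a b ∈ evenOdd Q 0 :=
  Submodule.sub_mem _ (ι_mul_ι_mem_evenOdd_zero Q a b) (ι_mul_ι_mem_evenOdd_zero Q b a)

theorem star_w (a b : M) : star (w Q a b) = -w Q a b := by
  unfold w
  rw [star_sub, star_mul, star_mul, star_ι, star_ι, neg_mul_neg, neg_mul_neg, neg_sub]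

end general

section split

variable (R : Type u) [CommRing R] (m : ℕ)

local notation "T" => QuadGrp.splitForm R (2 * m + 1)

/-- basis vectors indexed by naturals -/
def bv (k : ℕ) : Fin (2 * m + 1) → R := if h : k < 2 * m + 1 then Pi.single ⟨k, h⟩ 1 else 0

theorem bv_of_lt {k : ℕ} (h : k < 2 * m + 1) : bv R m k = Pi.single ⟨k, h⟩ 1 := dif_pos h

theorem T_bv {k : ℕ} (h : k < 2 * m + 1) : T (bv R m k) = if k = 0 then 1 else 0 := by
  rw [bv_of_lt R m h, splitForm_eq_bet, bet_single]
  simp only
  by_cases h0 : k = 0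
  · subst h0
    simp
  · rw [if_neg (fun hh => h0 hh.1), if_neg h0, zero_add, if_neg]
    omega

theorem polar_bv {k l : ℕ} (hk : k < 2 * m + 1) (hl : l < 2 * m + 1) (hkl : k ≠ l) :
    QuadraticMap.polar T (bv R m k) (bv R m l) =
      if (k % 2 = 1 ∧ l = k + 1) ∨ (l % 2 = 1 ∧ k = l + 1) then 1 else 0 := by
  rw [bv_of_lt R m hk, bv_of_lt R m hl, polar_splitForm, bet_single, bet_single]
  simp only
  have h00 : ¬ (k = 0 ∧ l = 0) := by omega
  have h00' : ¬ (l = 0 ∧ k = 0) := by omega
  rw [if_neg h00, if_neg h00', zero_add, zero_add]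
  by_cases h1 : k % 2 = 1 ∧ l = k + 1
  · have h2 : ¬ (l % 2 = 1 ∧ k = l + 1) := by omega
    rw [if_pos h1, if_neg h2, add_zero, if_pos (Or.inl h1)]
  · by_cases h2 : l % 2 = 1 ∧ k = l + 1
    · rw [if_neg h1, if_pos h2, zero_add, if_pos (Or.inr h2)]
    · rw [if_neg h1, if_neg h2, add_zero, if_neg]
      rintro (h3 | h3)
      · exact h1 h3
      · exact h2 h3

/-- the `i`-th hyperbolic commutator (`1` out of range) -/
noncomputable def om (i : ℕ) : CliffordAlgebra T :=
  if i < m then w T (bv R m (2 * i + 1)) (bv R m (2 * i + 2)) else 1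

/-- partial products of the `om i` -/
noncomputable def Om : ℕ → CliffordAlgebra T
  | 0 => 1
  | j + 1 => Om j * om R m j

/-- the odd central unit -/
noncomputable def zeta : CliffordAlgebra T := ι T (bv R m 0) * Om R m m

theorem om_of_lt {i : ℕ} (h : i < m) :
    om R m i = w T (bv R m (2 * i + 1)) (bv R m (2 * i + 2)) := if_pos h

theorem om_of_ge {i : ℕ} (h : ¬ i < m) : om R m i = 1 := if_neg h

/-- commutation of a basis vector with `om i` up to the expected sign -/
theorem ι_mul_om {k : ℕ} (hk : k < 2 * m + 1) (i : ℕ) :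
    ι T (bv R m k) * om R m i =
      (if k = 2 * i + 1 ∨ k = 2 * i + 2 then (-1 : R) else 1) • (om R m i * ι T (bv R m k)) := by
  by_cases hi : i < m
  · rw [om_of_lt R m hi]
    have h1 : 2 * i + 1 < 2 * m + 1 := by omega
    have h2 : 2 * i + 2 < 2 * m + 1 := by omega
    by_cases hk1 : k = 2 * i + 1
    · subst hk1
      rw [if_pos (Or.inl rfl), neg_one_smul]
      apply anti_w_left
      rw [T_bv R m h1, if_neg (by omega)]
    · by_cases hk2 : k = 2 * i + 2
      · subst hk2
        rw [if_pos (Or.inr rfl), neg_one_smul]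
        apply anti_w_right
        rw [T_bv R m h2, if_neg (by omega)]
      · rw [if_neg (by omega), one_smul]
        apply commute_w
        · rw [polar_bv R m hk h1 hk1, if_neg (by omega)]
        · rw [polar_bv R m hk h2 hk2, if_neg (by omega)]
  · rw [om_of_ge R m hi, if_neg (by omega), one_smul, mul_one, one_mul]

theorem ι_mul_Om {k : ℕ} (hk : k < 2 * m + 1) (j : ℕ) :
    ι T (bv R m k) * Om R m j =
      (if k ≠ 0 ∧ (k - 1) / 2 < j then (-1 : R) else 1) • (Om R m j * ι T (bv R m k)) := by
  induction j with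
  | zero => simp [Om]
  | succ j ih =>
    change ι T (bv R m k) * (Om R m j * om R m j) = _ • (Om R m j * om R m j * ι T (bv R m k))
    rw [← mul_assoc, ih, smul_mul_assoc, mul_assoc, ι_mul_om R m hk j, mul_smul_comm, smul_smul,
      ← mul_assoc]
    congr 1
    by_cases h0 : k = 0
    · subst h0
      simp
    · by_cases h1 : (k - 1) / 2 < j
      · rw [if_pos ⟨h0, h1⟩, if_neg (by omega), if_pos ⟨h0, by omega⟩, mul_one]
      · by_cases h2 : (k - 1) / 2 = j
        · rw [if_neg (fun h => h1 h.2), if_pos (by omega), if_pos ⟨h0, by omega⟩, one_mul]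
        · rw [if_neg (fun h => h1 h.2), if_neg (by omega), if_neg (fun h => by omega), one_mul]

theorem om_even (i : ℕ) : om R m i ∈ evenOdd T 0 := by
  unfold om
  split_ifs
  · exact w_even _ _ _
  · exact SetLike.one_mem_graded _

theorem Om_even (j : ℕ) : Om R m j ∈ evenOdd T 0 := by
  induction j with
  | zero => exact SetLike.one_mem_graded _
  | succ j ih =>
    have := evenOdd_mul_mem T 0 0 _ _ ih (om_even R m j)
    rwa [zero_add] at this

theorem zeta_odd : zeta R m ∈ evenOdd T 1 := by
  have := evenOdd_mul_mem T 1 0 _ _ (ι_mem_evenOdd_one T (bv R m 0)) (Om_even R m m)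
  rwa [add_zero] at this

theorem om_comm (i i' : ℕ) : Commute (om R m i) (om R m i') := by
  by_cases h : i = i'
  · subst h; exact Commute.refl _
  by_cases hi : i < m
  · by_cases hi' : i' < m
    · rw [om_of_lt R m hi, om_of_lt R m hi']
      apply commute_w_w
      · rw [polar_bv R m (by omega) (by omega) (by omega), if_neg (by omega)]
      · rw [polar_bv R m (by omega) (by omega) (by omega), if_neg (by omega)]
      · rw [polar_bv R m (by omega) (by omega) (by omega), if_neg (by omega)]
      · rw [polar_bv R m (by omega) (by omega) (by omega), if_neg (by omega)]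
    · rw [om_of_ge R m hi']; exact Commute.one_right _
  · rw [om_of_ge R m hi]; exact Commute.one_left _

theorem commute_Om (x : CliffordAlgebra T) (h : ∀ i, Commute x (om R m i)) (j : ℕ) :
    Commute x (Om R m j) := by
  induction j with
  | zero => exact Commute.one_right _
  | succ j ih => exact ih.mul_right (h j)

theorem om_sq (i : ℕ) : om R m i * om R m i = 1 := by
  by_cases hi : i < m
  · rw [om_of_lt R m hi]
    apply w_mul_self
    · rw [T_bv R m (by omega), if_neg (by omega)]
    · rw [T_bv R m (by omega), if_neg (by omega)]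
    · rw [polar_bv R m (by omega) (by omega) (by omega), if_pos (Or.inl ⟨by omega, by omega⟩)]
  · rw [om_of_ge R m hi, mul_one]

theorem Om_sq (j : ℕ) : Om R m j * Om R m j = 1 := by
  induction j with
  | zero => exact mul_one _
  | succ j ih =>
    change Om R m j * om R m j * (Om R m j * om R m j) = 1
    have hc : Commute (om R m j) (Om R m j) := commute_Om R m _ (om_comm R m j) j
    rw [mul_assoc, ← mul_assoc (om R m j), hc.eq, mul_assoc, om_sq, mul_one, ih]

theorem zeta_mul_self : zeta R m * zeta R m = 1 := by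
  have h0 : (0 : ℕ) < 2 * m + 1 := by omega
  have hc : ι T (bv R m 0) * Om R m m = Om R m m * ι T (bv R m 0) := by
    rw [ι_mul_Om R m h0 m, if_neg (fun h => h.1 rfl), one_smul]
  unfold zeta
  rw [mul_assoc, ← mul_assoc (Om R m m), ← hc, mul_assoc, Om_sq, mul_one, ι_sq_scalar,
    T_bv R m h0, if_pos rfl, map_one]

theorem zeta_commute_bv {k : ℕ} (hk : k < 2 * m + 1) :
    ι T (bv R m k) * zeta R m = zeta R m * ι T (bv R m k) := by
  have h0 : (0 : ℕ) < 2 * m + 1 := by omega
  unfold zeta
  by_cases hk0 : k = 0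
  · subst hk0
    rw [mul_assoc, ι_mul_Om R m h0 m, if_neg (fun h => h.1 rfl), one_smul]
  · have ha : ι T (bv R m k) * ι T (bv R m 0) = -(ι T (bv R m 0) * ι T (bv R m k)) := by
      apply anti
      rw [polar_bv R m hk h0 hk0, if_neg (by omega)]
    rw [← mul_assoc, ha, neg_mul, mul_assoc, ι_mul_Om R m hk m, if_pos ⟨hk0, by omega⟩,
      neg_one_smul, mul_neg, neg_neg, mul_assoc]

theorem zeta_mem_center : zeta R m ∈ Subalgebra.center R (CliffordAlgebra T) := by
  apply central_of_commute_ι
  intro x
  have hx : x = ∑ k : Fin (2 * m + 1), x k • (Pi.single k 1 : Fin (2 * m + 1) → R) := by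
    funext j
    simp [Finset.sum_apply, Pi.single_apply]
  rw [hx, map_sum, Finset.mul_sum, Finset.sum_mul]
  refine Finset.sum_congr rfl fun k _ => ?_
  rw [map_smul, mul_smul_comm, smul_mul_assoc, ← bv_of_lt R m k.isLt, zeta_commute_bv R m k.isLt]

theorem star_Om (j : ℕ) (hj : j ≤ m) : star (Om R m j) = ((-1 : R) ^ j) • Om R m j := by
  induction j with
  | zero => simp [Om]
  | succ j ih =>
    change star (Om R m j * om R m j) = _ • (Om R m j * om R m j)
    have hc : Commute (om R m j) (Om R m j) := commute_Om R m _ (om_comm R m j) j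
    rw [star_mul, ih (by omega), om_of_lt R m (by omega), star_w, ← om_of_lt R m (by omega),
      neg_mul, mul_smul_comm, hc.eq, pow_succ, mul_smul, neg_one_smul, smul_neg]

theorem star_zeta : star (zeta R m) = ((-1 : R) ^ (m + 1)) • zeta R m := by
  have h0 : (0 : ℕ) < 2 * m + 1 := by omega
  have hc : ι T (bv R m 0) * Om R m m = Om R m m * ι T (bv R m 0) := by
    rw [ι_mul_Om R m h0 m, if_neg (fun h => h.1 rfl), one_smul]
  unfold zeta
  rw [star_mul, star_ι, star_Om R m m le_rfl, smul_mul_assoc, mul_neg, ← hc, pow_succ, mul_smul,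
    neg_one_smul, smul_neg]

end split

end Groth.Agent.Lib.Seat37.CliffZeta
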