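import Mathlib
import Groth.Prelude.Def_QuadGrp
import Groth.Agent.Lib.Seat37CliffBC
import Groth.Agent.Lib.Seat37CliffRank
import Groth.Agent.Lib.Seat37CliffSplitEven
import Groth.Agent.Lib.Seat37CliffZeta
import Groth.Agent.Lib.Helper25HalfDisc

/-!
# Descent of the structure of odd-rank Clifford algebras (seat 37)

Context: `Q` a quadratic form on a free `R`-module `M`, `A` a faithfully flat `R`-algebra and an
isometry `φ` between the base change of `Q` to `A` and the split form of rank `2 m + 1` over `A`.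
We deduce:
* `nonempty_even_matrix`: `A ⊗ even Q ≃ₐ[A] Matrix (Fin (2^m)) (Fin (2^m)) A`;
* `even_central_scalar`: even central elements of `C(Q)` are scalars;
* `exists_odd_central_pairs`: odd central elements `z k, w k` with `∑ z k * w k = 1`.
-/

set_option autoImplicit false
set_option linter.unusedSectionVars false
universe u v

namespace Groth.Agent.Lib.Seat37.CliffDescent

open CliffordAlgebra TensorProduct QuadGrp
open Groth.Agent.Lib.Seat37.CliffGrade Groth.Agent.Lib.Seat37.CliffBC
  Groth.Agent.Lib.Seat37.CliffRank Groth.Agent.Lib.Seat37.CliffZeta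

variable {R : Type u} [CommRing R] {M : Type v} [AddCommGroup M] [Module R M] [Module.Free R M]
variable (A : Type u) [CommRing A] [Algebra R A]
variable (Q : QuadraticForm R M) (m : ℕ)
variable (φ : (baseChangeForm A Q).IsometryEquiv (splitForm A (2 * m + 1)))

local notation "Q'" => baseChangeForm A Q
local notation "hQ'" => Groth.Agent.Lib.Helper25.HalfDisc.baseChangeForm_one_tmul A Q
local notation "T" => splitForm A (2 * m + 1)

/-- the canonical map `C(Q) → C(Q_A)` -/
noncomputable def j : CliffordAlgebra Q →ₐ[R] CliffordAlgebra Q' := jAux Q Q' hQ'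

/-- `C(Q_A) ≃ C(T)` -/
noncomputable def Ψ : CliffordAlgebra Q' ≃ₐ[A] CliffordAlgebra T := equivOfIsometry φ

theorem Ψ_mem (i : ZMod 2) (x : CliffordAlgebra Q') (hx : x ∈ evenOdd Q' i) :
    Ψ A Q m φ x ∈ evenOdd T i :=
  algHom_mem_evenOdd Q' T (Ψ A Q m φ).toAlgHom
    (fun v => by
      change equivOfIsometry φ (ι Q' v) ∈ _
      rw [equivOfIsometry_apply, map_apply_ι]; exact ι_mem_evenOdd_one _ _) i x hx

theorem Ψ_symm_mem (i : ZMod 2) (x : CliffordAlgebra T) (hx : x ∈ evenOdd T i) :
    (Ψ A Q m φ).symm x ∈ evenOdd Q' i :=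
  algHom_mem_evenOdd T Q' (Ψ A Q m φ).symm.toAlgHom
    (fun v => by
      change (equivOfIsometry φ).symm (ι T v) ∈ _
      rw [equivOfIsometry_symm, equivOfIsometry_apply, map_apply_ι]
      exact ι_mem_evenOdd_one _ _) i x hx

/-- the odd central unit of `C(Q_A)` -/
noncomputable def zA : CliffordAlgebra Q' := (Ψ A Q m φ).symm (zeta A m)

theorem zA_odd : zA A Q m φ ∈ evenOdd Q' 1 := Ψ_symm_mem A Q m φ 1 _ (zeta_odd A m)

theorem zA_sq : zA A Q m φ * zA A Q m φ = 1 := by
  unfold zA
  rw [← map_mul, zeta_mul_self, map_one]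

theorem zA_comm (y : CliffordAlgebra Q') : y * zA A Q m φ = zA A Q m φ * y := by
  apply (Ψ A Q m φ).injective
  unfold zA
  rw [map_mul, map_mul, AlgEquiv.apply_symm_apply]
  exact ((Subalgebra.mem_center_iff.mp (zeta_mem_center A m)) _)

include φ in
theorem nonempty_even_matrix' :
    Nonempty (CliffordAlgebra.even Q' ≃ₐ[A] Matrix (Fin (2 ^ m)) (Fin (2 ^ m)) A) := by
  obtain ⟨e⟩ := Groth.Agent.Lib.Seat37.CliffSplitEven.nonempty_even_matrix A m
  exact ⟨(evenEquivOfIsometry φ).trans e⟩

include φ in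
theorem nonempty_even_matrix [Module.Flat R A] :
    Nonempty ((A ⊗[R] CliffordAlgebra.even Q) ≃ₐ[A] Matrix (Fin (2 ^ m)) (Fin (2 ^ m)) A) := by
  obtain ⟨e⟩ := nonempty_even_matrix' A Q m φ
  exact ⟨(evenBCEquiv Q Q' hQ').trans e⟩

include φ in
/-- even central elements of `C(Q_A)` are scalars -/
theorem even_central_scalar' (y : CliffordAlgebra Q') (hy0 : y ∈ evenOdd Q' 0)
    (hyc : ∀ x : CliffordAlgebra Q', x * y = y * x) : ∃ a : A, y = algebraMap A _ a := by
  obtain ⟨e⟩ := nonempty_even_matrix' A Q m φ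
  let y' : CliffordAlgebra.even Q' := ⟨y, hy0⟩
  have hc : e y' ∈ Set.center (Matrix (Fin (2 ^ m)) (Fin (2 ^ m)) A) := by
    rw [Semigroup.mem_center_iff]
    intro X
    obtain ⟨x, rfl⟩ := e.surjective X
    rw [← map_mul, ← map_mul]
    congr 1
    exact Subtype.ext (hyc x)
  rw [Matrix.center_eq_range] at hc
  obtain ⟨a, ha⟩ := hc
  refine ⟨a, ?_⟩
  have h2 : e y' = algebraMap A _ a := by
    rw [← ha, Matrix.algebraMap_eq_diagonal]
    rfl
  have h3 : y' = algebraMap A _ a := by
    apply e.injective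
    rw [h2, AlgEquiv.commutes]
  exact congrArg (fun z : CliffordAlgebra.even Q' => (z : CliffordAlgebra Q')) h3

theorem j_ι (v : M) : j A Q (ι Q v) = ι Q' ((1 : A) ⊗ₜ[R] v) := jAux_ι Q Q' hQ' v

theorem j_eq_bcEquiv (x : CliffordAlgebra Q) : j A Q x = bcEquiv Q Q' hQ' ((1 : A) ⊗ₜ[R] x) :=
  (bcEquiv_one_tmul Q Q' hQ' x).symm

theorem j_mem (i : ZMod 2) (x : CliffordAlgebra Q) (hx : x ∈ evenOdd Q i) :
    j A Q x ∈ evenOdd Q' i := jAux_mem_evenOdd Q Q' hQ' i x hx

theorem j_injective [Module.FaithfullyFlat R A] : Function.Injective (j A Q) := by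
  intro x y h
  rw [j_eq_bcEquiv, j_eq_bcEquiv] at h
  exact Module.FaithfullyFlat.tensorProduct_mk_injective (A := R) (B := A) _
    ((bcEquiv Q Q' hQ').injective h)

/-- central elements map to central elements -/
theorem j_central (c : CliffordAlgebra Q) (hc : c ∈ Subalgebra.center R (CliffordAlgebra Q))
    (x : CliffordAlgebra Q') : x * j A Q c = j A Q c * x := by
  have hc' := Subalgebra.mem_center_iff.mp hc
  have hι : ∀ t : A ⊗[R] M, ι Q' t * j A Q c = j A Q c * ι Q' t := by
    intro t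
    induction t with
    | zero => simp
    | tmul a v =>
      have : ι Q' (a ⊗ₜ[R] v) = a • j A Q (ι Q v) := by
        rw [j_ι, ← map_smul, TensorProduct.smul_tmul', smul_eq_mul, mul_one]
      rw [this, smul_mul_assoc, mul_smul_comm, ← map_mul, ← map_mul, hc']
    | add s t hs ht => rw [map_add, add_mul, mul_add, hs, ht]
  induction x using CliffordAlgebra.induction with
  | algebraMap r => exact Algebra.commutes r _
  | ι t => exact hι t
  | mul a b ha hb => rw [mul_assoc, hb, ← mul_assoc, ha, mul_assoc]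
  | add a b ha hb => rw [add_mul, mul_add, ha, hb]

/-- the scalar part, base changed: `A ⊗ C(Q) → A` -/
noncomputable def sA : A ⊗[R] CliffordAlgebra Q →ₗ[A] A :=
  (TensorProduct.AlgebraTensorModule.rid R A A).toLinearMap ∘ₗ (scalarPart Q).baseChange A

theorem sA_tmul (a : A) (x : CliffordAlgebra Q) :
    sA A Q (a ⊗ₜ[R] x) = scalarPart Q x • a := by
  simp [sA]

theorem scalar_of_j_eq [Module.FaithfullyFlat R A] (c : CliffordAlgebra Q) (a : A)
    (h : j A Q c = algebraMap A _ a) : c ∈ (algebraMap R (CliffordAlgebra Q)).range := by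
  have h1 : (1 : A) ⊗ₜ[R] c = a ⊗ₜ[R] (1 : CliffordAlgebra Q) := by
    apply (bcEquiv Q Q' hQ').injective
    rw [← j_eq_bcEquiv, h, bcEquiv_tmul, map_one, mul_one]
  have h2 := congrArg (sA A Q) h1
  rw [sA_tmul, sA_tmul, scalarPart_one, one_smul] at h2
  refine ⟨scalarPart Q c, ?_⟩
  apply Module.FaithfullyFlat.tensorProduct_mk_injective (A := R) (B := A) (CliffordAlgebra Q)
  change (1 : A) ⊗ₜ[R] algebraMap R (CliffordAlgebra Q) (scalarPart Q c) = (1 : A) ⊗ₜ[R] c
  rw [h1, ← h2, Algebra.algebraMap_eq_smul_one, TensorProduct.smul_tmul]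

include φ in
/-- even central elements of `C(Q)` are scalars -/
theorem even_central_scalar [Module.FaithfullyFlat R A] (c : CliffordAlgebra Q)
    (hc : c ∈ Subalgebra.center R (CliffordAlgebra Q)) (hc0 : c ∈ evenOdd Q 0) :
    c ∈ (algebraMap R (CliffordAlgebra Q)).range := by
  obtain ⟨a, ha⟩ := even_central_scalar' A Q m φ (j A Q c) (j_mem A Q 0 c hc0) (j_central A Q c hc)
  exact scalar_of_j_eq A Q c a ha

/-! ### Odd central elements -/

section odd

variable {n : ℕ} (b : Module.Basis (Fin n) R M)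

/-- projection to the even part -/
noncomputable def P0 : CliffordAlgebra Q →ₗ[R] CliffordAlgebra Q :=
  (evenOdd Q 0).projection (evenOdd Q 1) (evenOdd_isCompl Q)

/-- projection to the odd part -/
noncomputable def P1 : CliffordAlgebra Q →ₗ[R] CliffordAlgebra Q :=
  (evenOdd Q 1).projection (evenOdd Q 0) (evenOdd_isCompl Q).symm

theorem P0_eq_zero_iff (x : CliffordAlgebra Q) : P0 Q x = 0 ↔ x ∈ evenOdd Q 1 :=
  Submodule.projection_apply_eq_zero_iff _

theorem P0_mem (x : CliffordAlgebra Q) : P0 Q x ∈ evenOdd Q 0 :=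
  Submodule.projection_apply_mem _ x

theorem P1_mem (x : CliffordAlgebra Q) : P1 Q x ∈ evenOdd Q 1 :=
  Submodule.projection_apply_mem _ x

theorem P0_add_P1 (x : CliffordAlgebra Q) : P0 Q x + P1 Q x = x :=
  Submodule.projection_add_projection_eq_self _ x

theorem P0_of_even (x : CliffordAlgebra Q) (hx : x ∈ evenOdd Q 0) : P0 Q x = x :=
  Submodule.projection_apply_left (evenOdd_isCompl Q) ⟨x, hx⟩

theorem P1_of_odd (x : CliffordAlgebra Q) (hx : x ∈ evenOdd Q 1) : P1 Q x = x :=
  Submodule.projection_apply_left (evenOdd_isCompl Q).symm ⟨x, hx⟩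

theorem P1_of_even (x : CliffordAlgebra Q) (hx : x ∈ evenOdd Q 0) : P1 Q x = 0 :=
  (Submodule.projection_apply_eq_zero_iff _).mpr hx

theorem P0_of_odd (x : CliffordAlgebra Q) (hx : x ∈ evenOdd Q 1) : P0 Q x = 0 :=
  (P0_eq_zero_iff Q x).mpr hx

/-- the commutator with a basis vector -/
noncomputable def comm (i : Fin n) : CliffordAlgebra Q →ₗ[R] CliffordAlgebra Q :=
  LinearMap.mulRight R (ι Q (b i)) - LinearMap.mulLeft R (ι Q (b i))

theorem comm_apply (i : Fin n) (x : CliffordAlgebra Q) :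
    comm Q b i x = x * ι Q (b i) - ι Q (b i) * x := rfl

/-- the components of the linear map cutting out odd central elements -/
noncomputable def gc (o : Option (Fin n)) : CliffordAlgebra Q →ₗ[R] CliffordAlgebra Q :=
  o.elim (P0 Q) (comm Q b)

/-- the linear map whose kernel is the module of odd central elements -/
noncomputable def g : CliffordAlgebra Q →ₗ[R] (Option (Fin n) → CliffordAlgebra Q) :=
  LinearMap.pi (gc Q b)

theorem mem_ker_g (x : CliffordAlgebra Q) :
    x ∈ LinearMap.ker (g Q b) ↔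
      x ∈ evenOdd Q 1 ∧ x ∈ Subalgebra.center R (CliffordAlgebra Q) := by
  rw [LinearMap.mem_ker]
  constructor
  · intro h
    have h' : ∀ o, gc Q b o x = 0 := fun o => congrFun h o
    refine ⟨(P0_eq_zero_iff Q x).mp (h' none), central_of_commute_ι Q x fun v => ?_⟩
    have hv : v = ∑ i, b.repr v i • b i := (b.sum_repr v).symm
    rw [hv, map_sum, Finset.mul_sum, Finset.sum_mul]
    refine Finset.sum_congr rfl fun i _ => ?_
    rw [map_smul, mul_smul_comm, smul_mul_assoc]
    congr 1
    exact sub_eq_zero.mp (h' (some i))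
  · rintro ⟨h1, hc⟩
    funext o
    cases o with
    | none => exact (P0_eq_zero_iff Q x).mpr h1
    | some i =>
      change x * ι Q (b i) - ι Q (b i) * x = 0
      rw [sub_eq_zero]
      exact (Subalgebra.mem_center_iff.mp hc _).symm

/-- the odd central unit, in `A ⊗ C(Q)` -/
noncomputable def zT : A ⊗[R] CliffordAlgebra Q := (bcEquiv Q Q' hQ').symm (zA A Q m φ)

theorem zT_mem : zT A Q m φ ∈ (evenOdd Q 1).baseChange A :=
  bcEquiv_symm_mem Q Q' hQ' 1 _ (zA_odd A Q m φ)

theorem zT_sq : zT A Q m φ * zT A Q m φ = 1 := by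
  unfold zT
  rw [← map_mul, zA_sq, map_one]

theorem zT_comm (t : A ⊗[R] CliffordAlgebra Q) : t * zT A Q m φ = zT A Q m φ * t := by
  apply (bcEquiv Q Q' hQ').injective
  unfold zT
  rw [map_mul, map_mul, AlgEquiv.apply_symm_apply]
  exact zA_comm A Q m φ _

theorem comm_baseChange (i : Fin n) (t : A ⊗[R] CliffordAlgebra Q) :
    (comm Q b i).baseChange A t =
      t * ((1 : A) ⊗ₜ[R] ι Q (b i)) - ((1 : A) ⊗ₜ[R] ι Q (b i)) * t := by
  induction t with
  | zero => simp
  | tmul a x =>
    rw [LinearMap.baseChange_tmul, comm_apply, Algebra.TensorProduct.tmul_mul_tmul,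
      Algebra.TensorProduct.tmul_mul_tmul, mul_one, one_mul, TensorProduct.tmul_sub]
  | add s t hs ht => rw [map_add, hs, ht, add_mul, mul_add]; abel

theorem P0_baseChange_of_mem (t : A ⊗[R] CliffordAlgebra Q)
    (ht : t ∈ (evenOdd Q 1).baseChange A) : (P0 Q).baseChange A t = 0 := by
  rw [Submodule.baseChange_eq_span] at ht
  induction ht using Submodule.span_induction with
  | mem x hx =>
    obtain ⟨c, hc, rfl⟩ := hx
    change (P0 Q).baseChange A ((1 : A) ⊗ₜ[R] c) = 0
    rw [LinearMap.baseChange_tmul, P0_of_odd Q c hc, TensorProduct.tmul_zero]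
  | zero => exact map_zero _
  | add x y _ _ hx hy => rw [map_add, hx, hy, add_zero]
  | smul a x _ hx => rw [map_smul, hx, smul_zero]

theorem piRight_lTensor_g (t : A ⊗[R] CliffordAlgebra Q) (o : Option (Fin n)) :
    TensorProduct.piRight R A A (fun _ : Option (Fin n) => CliffordAlgebra Q)
      (TensorProduct.AlgebraTensorModule.lTensor A A (g Q b) t) o = (gc Q b o).baseChange A t := by
  induction t with
  | zero => simp
  | tmul a x => rfl
  | add s t hs ht =>
    rw [map_add, map_add, Pi.add_apply, hs, ht, map_add]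

theorem zT_mem_ker :
    zT A Q m φ ∈ LinearMap.ker (TensorProduct.AlgebraTensorModule.lTensor A A (g Q b)) := by
  rw [LinearMap.mem_ker]
  apply (TensorProduct.piRight R A A (fun _ : Option (Fin n) => CliffordAlgebra Q)).injective
  rw [map_zero]
  funext o
  rw [piRight_lTensor_g, Pi.zero_apply]
  cases o with
  | none => exact P0_baseChange_of_mem A Q _ (zT_mem A Q m φ)
  | some i =>
    change (comm Q b i).baseChange A _ = 0
    rw [comm_baseChange, zT_comm, sub_self]

theorem exists_zT_preimage [Module.Flat R A] :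
    ∃ ξ : A ⊗[R] LinearMap.ker (g Q b),
      TensorProduct.AlgebraTensorModule.lTensor A A (LinearMap.ker (g Q b)).subtype ξ =
        zT A Q m φ := by
  have h := zT_mem_ker A Q m φ b
  rw [Module.Flat.ker_lTensor_eq] at h
  exact h

/-- the ideal generated by the (scalar) products of odd central elements -/
def Iodd : Ideal R :=
  Ideal.span {r : R | ∃ z w : CliffordAlgebra Q, z ∈ LinearMap.ker (g Q b) ∧
    w ∈ LinearMap.ker (g Q b) ∧ z * w = algebraMap R _ r}

include φ in
theorem prod_mem [Module.FaithfullyFlat R A] (ξ ξ' : A ⊗[R] LinearMap.ker (g Q b)) :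
    TensorProduct.AlgebraTensorModule.lTensor A A (LinearMap.ker (g Q b)).subtype ξ *
      TensorProduct.AlgebraTensorModule.lTensor A A (LinearMap.ker (g Q b)).subtype ξ' ∈
      Submodule.map (Algebra.linearMap A (A ⊗[R] CliffordAlgebra Q))
        ((Iodd Q b).map (algebraMap R A)) := by
  induction ξ with
  | zero => rw [map_zero, zero_mul]; exact Submodule.zero_mem _
  | add x y hx hy => rw [map_add, add_mul]; exact Submodule.add_mem _ hx hy
  | tmul a z =>
    induction ξ' with
    | zero => rw [map_zero, mul_zero]; exact Submodule.zero_mem _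
    | add x y hx hy => rw [map_add, mul_add]; exact Submodule.add_mem _ hx hy
    | tmul a' w =>
      change (a ⊗ₜ[R] (z : CliffordAlgebra Q)) * (a' ⊗ₜ[R] (w : CliffordAlgebra Q)) ∈ _
      rw [Algebra.TensorProduct.tmul_mul_tmul]
      obtain ⟨hz1, hzc⟩ := (mem_ker_g Q b _).mp z.2
      obtain ⟨hw1, hwc⟩ := (mem_ker_g Q b _).mp w.2
      have h0 : (z : CliffordAlgebra Q) * w ∈ evenOdd Q 0 := by
        have := evenOdd_mul_mem Q 1 1 _ _ hz1 hw1
        rwa [show (1 : ZMod 2) + 1 = 0 from rfl] at this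
      have hc : (z : CliffordAlgebra Q) * w ∈ Subalgebra.center R (CliffordAlgebra Q) :=
        Subalgebra.mul_mem _ hzc hwc
      obtain ⟨r, hr⟩ := even_central_scalar A Q m φ _ hc h0
      have hrI : r ∈ Iodd Q b := Ideal.subset_span ⟨z, w, z.2, w.2, hr.symm⟩
      refine ⟨algebraMap R A r * (a * a'), Ideal.mul_mem_right _ _ (Ideal.mem_map_of_mem _ hrI), ?_⟩
      change algebraMap A (A ⊗[R] CliffordAlgebra Q) (algebraMap R A r * (a * a')) = _
      rw [Algebra.TensorProduct.algebraMap_apply, Algebra.algebraMap_self_apply, ← hr,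
        ← Algebra.smul_def, TensorProduct.smul_tmul, Algebra.algebraMap_eq_smul_one]

include φ in
theorem Iodd_eq_top [Module.FaithfullyFlat R A] : Iodd Q b = ⊤ := by
  obtain ⟨ξ, hξ⟩ := exists_zT_preimage A Q m φ b
  have h := prod_mem A Q m φ b ξ ξ
  rw [hξ, zT_sq] at h
  obtain ⟨α, hα, h1⟩ := h
  have hα1 : α = 1 := by
    have h2 := congrArg (sA A Q) h1
    change sA A Q (algebraMap A (A ⊗[R] CliffordAlgebra Q) α) = _ at h2
    rw [Algebra.TensorProduct.algebraMap_apply, Algebra.algebraMap_self_apply, sA_tmul,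
      scalarPart_one, one_smul, Algebra.TensorProduct.one_def, sA_tmul, scalarPart_one,
      one_smul] at h2
    exact h2
  rw [Ideal.eq_top_iff_one, ← Ideal.comap_map_eq_self_of_faithfullyFlat (B := A) (Iodd Q b),
    Ideal.mem_comap, map_one, ← hα1]
  exact hα

include φ b in
/-- odd central elements `z k`, `w k` with `∑ z k * w k = 1` -/
theorem exists_odd_central_pairs [Module.FaithfullyFlat R A] :
    ∃ (N : ℕ) (z w : Fin N → CliffordAlgebra Q),
      (∀ k, z k ∈ evenOdd Q 1 ∧ z k ∈ Subalgebra.center R (CliffordAlgebra Q)) ∧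
      (∀ k, w k ∈ evenOdd Q 1 ∧ w k ∈ Subalgebra.center R (CliffordAlgebra Q)) ∧
      ∑ k, z k * w k = 1 := by
  have h1 : (1 : R) ∈ Iodd Q b := by rw [Iodd_eq_top A Q m φ b]; trivial
  unfold Iodd at h1
  rw [Ideal.span, Submodule.mem_span_set'] at h1
  obtain ⟨N, f, gS, hsum⟩ := h1
  choose z w hz hw hzw using fun k => (gS k).2
  refine ⟨N, fun k => f k • z k, w, fun k => ?_, fun k => (mem_ker_g Q b _).mp (hw k), ?_⟩
  · obtain ⟨h1, h2⟩ := (mem_ker_g Q b _).mp (hz k)
    exact ⟨Submodule.smul_mem _ _ h1, Subalgebra.smul_mem _ h2 _⟩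
  · have : ∀ k, (f k • z k) * w k = algebraMap R _ (f k • (gS k : R)) := by
      intro k
      rw [smul_mul_assoc, hzw k, smul_eq_mul, map_mul, Algebra.smul_def]
    rw [Finset.sum_congr rfl (fun k _ => this k), ← map_sum, hsum, map_one]

end odd

end Groth.Agent.Lib.Seat37.CliffDescent
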