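import Mathlib
import Groth.Prelude.Def_QuadGrp
import Groth.Agent.Lib.Seat37CliffZeta
import Groth.Agent.Lib.Seat37QuadSplitTab

/-!
# Functoriality of Clifford algebras along ring maps (seat 37)

* `semiMap`: for a `B`-algebra `A`, forms `QB`, `QA` and a `B`-linear `ℓ` with
  `QA (ℓ v) = algebraMap B A (QB v)`, the `B`-algebra map `C(QB) → C(QA)`;
* `semiMap_map`: compatibility with the maps induced by isometries;
* for split forms: `J : C(splitForm B n) →ₐ[B] C(splitForm A n)` with `J_zeta`;
* `isoOfMat`: the isometry given by a matrix preserving the split form.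
-/

set_option autoImplicit false
universe u v

namespace Groth.Agent.Lib.Seat37.CliffFunct

open CliffordAlgebra Groth.Agent.Lib.Seat37.CliffZeta Groth.Agent.Lib.Seat37.QuadSplitTab

section general

variable {B : Type*} [CommRing B] {A : Type*} [CommRing A] [Algebra B A]
variable {MB : Type*} [AddCommGroup MB] [Module B MB]
variable {MA : Type*} [AddCommGroup MA] [Module A MA] [Module B MA] [IsScalarTower B A MA]
variable (QB : QuadraticForm B MB) (QA : QuadraticForm A MA) (ℓ : MB →ₗ[B] MA)
variable (hℓ : ∀ v, QA (ℓ v) = algebraMap B A (QB v))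

/-- the `B`-algebra map `C(QB) → C(QA)` induced by `ℓ` -/
noncomputable def semiMap : CliffordAlgebra QB →ₐ[B] CliffordAlgebra QA :=
  CliffordAlgebra.lift QB ⟨(ι QA).restrictScalars B ∘ₗ ℓ, fun v => by
    change ι QA (ℓ v) * ι QA (ℓ v) = _
    rw [ι_sq_scalar, hℓ, ← IsScalarTower.algebraMap_apply]⟩

@[simp] theorem semiMap_ι (v : MB) : semiMap QB QA ℓ hℓ (ι QB v) = ι QA (ℓ v) :=
  CliffordAlgebra.lift_ι_apply _ _ v

theorem semiMap_map (gB : QB →qᵢ QB) (gA : QA →qᵢ QA) (hg : ∀ v, ℓ (gB v) = gA (ℓ v))
    (x : CliffordAlgebra QB) :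
    semiMap QB QA ℓ hℓ (CliffordAlgebra.map gB x) =
      CliffordAlgebra.map gA (semiMap QB QA ℓ hℓ x) := by
  have h : (semiMap QB QA ℓ hℓ).comp (CliffordAlgebra.map gB) =
      ((CliffordAlgebra.map gA).restrictScalars B).comp (semiMap QB QA ℓ hℓ) := by
    apply CliffordAlgebra.hom_ext
    ext v
    simp only [LinearMap.comp_apply, AlgHom.toLinearMap_apply, AlgHom.comp_apply,
      AlgHom.restrictScalars_apply, map_apply_ι, semiMap_ι, hg]
  exact AlgHom.congr_fun h x

end general

section split

variable (B : Type*) [CommRing B] (A : Type*) [CommRing A] [Algebra B A] (m : ℕ)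

/-- coordinatewise `algebraMap` -/
noncomputable def ell : (Fin (2 * m + 1) → B) →ₗ[B] (Fin (2 * m + 1) → A) :=
  (Algebra.linearMap B A).compLeft (Fin (2 * m + 1))

@[simp] theorem ell_apply (v : Fin (2 * m + 1) → B) (i : Fin (2 * m + 1)) :
    ell B A m v i = algebraMap B A (v i) := rfl

theorem splitForm_ell (v : Fin (2 * m + 1) → B) :
    QuadGrp.splitForm A (2 * m + 1) (ell B A m v) =
      algebraMap B A (QuadGrp.splitForm B (2 * m + 1) v) := by
  rw [splitForm_apply, splitForm_apply]
  simp only [map_add, map_mul, map_sum, ell_apply]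

/-- the `B`-algebra map between the Clifford algebras of the split forms -/
noncomputable def J : CliffordAlgebra (QuadGrp.splitForm B (2 * m + 1)) →ₐ[B]
    CliffordAlgebra (QuadGrp.splitForm A (2 * m + 1)) :=
  semiMap _ _ (ell B A m) (splitForm_ell B A m)

theorem ell_bv (k : ℕ) : ell B A m (bv B m k) = bv A m k := by
  funext i
  rw [ell_apply]
  unfold bv
  split_ifs with h
  · simp only [Pi.single_apply]
    split_ifs <;> simp
  · simp

theorem J_ι_bv (k : ℕ) : J B A m (ι _ (bv B m k)) = ι _ (bv A m k) := by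
  rw [J, semiMap_ι, ell_bv]

theorem J_om (i : ℕ) : J B A m (om B m i) = om A m i := by
  unfold om
  split_ifs
  · simp only [w, map_sub, map_mul, J_ι_bv]
  · exact map_one _

theorem J_Om (j : ℕ) : J B A m (Om B m j) = Om A m j := by
  induction j with
  | zero => exact map_one _
  | succ j ih =>
    change J B A m (Om B m j * om B m j) = Om A m j * om A m j
    rw [map_mul, ih, J_om]

theorem J_zeta : J B A m (zeta B m) = zeta A m := by
  unfold zeta
  rw [map_mul, J_ι_bv, J_Om]

end split

section mat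

variable {A : Type*} [CommRing A] {n : ℕ}

/-- the isometry of a quadratic form on `Fin n → A` given by a matrix preserving it -/
def isoOfMat (Q : QuadraticForm A (Fin n → A)) (X : Matrix (Fin n) (Fin n) A)
    (hX : ∀ v, Q (X.mulVec v) = Q v) : Q →qᵢ Q :=
  { Matrix.mulVecLin X with map_app' := hX }

@[simp] theorem isoOfMat_apply (Q : QuadraticForm A (Fin n → A)) (X : Matrix (Fin n) (Fin n) A)
    (hX : ∀ v, Q (X.mulVec v) = Q v) (v : Fin n → A) : isoOfMat Q X hX v = X.mulVec v := rfl

end mat

section Jmat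

variable (B : Type*) [CommRing B] (A : Type*) [CommRing A] [Algebra B A] (m : ℕ)

theorem J_map (X : Matrix (Fin (2 * m + 1)) (Fin (2 * m + 1)) B)
    (hX : ∀ v, QuadGrp.splitForm B (2 * m + 1) (X.mulVec v) = QuadGrp.splitForm B (2 * m + 1) v)
    (hX' : ∀ v, QuadGrp.splitForm A (2 * m + 1) ((X.map (algebraMap B A)).mulVec v) =
      QuadGrp.splitForm A (2 * m + 1) v)
    (x : CliffordAlgebra (QuadGrp.splitForm B (2 * m + 1))) :
    J B A m (CliffordAlgebra.map (isoOfMat _ X hX) x) =
      CliffordAlgebra.map (isoOfMat _ (X.map (algebraMap B A)) hX') (J B A m x) := by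
  refine semiMap_map _ _ _ _ _ _ (fun v => ?_) x
  funext i
  rw [isoOfMat_apply, isoOfMat_apply, ell_apply]
  exact RingHom.map_mulVec (algebraMap B A) X v i

end Jmat

end Groth.Agent.Lib.Seat37.CliffFunct
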