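import Mathlib
import Groth.Agent.Lib.Seat37CliffDescent

/-!
# `centre ⊗ even part ≅ C(Q)` from odd central elements (seat 37)

If the even central elements of `C(Q)` are scalars and there are odd central elements `z k, w k`
with `∑ z k * w k = 1`, then the multiplication map `centre ⊗ even → C(Q)` is bijective
(`center_mul_even_bijective`).
-/

set_option autoImplicit false
set_option linter.unusedSectionVars false
universe u v

namespace Groth.Agent.Lib.Seat37.CliffCenter

open CliffordAlgebra TensorProduct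
open Groth.Agent.Lib.Seat37.CliffGrade Groth.Agent.Lib.Seat37.CliffDescent

variable {R : Type u} [CommRing R] {M : Type v} [AddCommGroup M] [Module R M] [Module.Free R M]
variable (Q : QuadraticForm R M)

local notation "Zs" => Subalgebra.center R (CliffordAlgebra Q)
local notation "Ev" => CliffordAlgebra.even Q

/-- the multiplication map `centre ⊗ even → C(Q)` -/
noncomputable def mu : ↥Zs ⊗[R] ↥Ev →ₗ[R] CliffordAlgebra Q :=
  TensorProduct.lift
    (((LinearMap.mul R (CliffordAlgebra Q)).comp (Subalgebra.center R (CliffordAlgebra Q)).val.toLinearMap).compl₂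
      (CliffordAlgebra.even Q).val.toLinearMap)

@[simp] theorem mu_tmul (c : Zs) (x : Ev) : mu Q (c ⊗ₜ[R] x) = (c : CliffordAlgebra Q) * x := rfl

/-- the homogeneous components of a central element are central -/
theorem P0_central (c : CliffordAlgebra Q) (hc : c ∈ Zs) : P0 Q c ∈ Zs ∧ P1 Q c ∈ Zs := by
  have hc' := Subalgebra.mem_center_iff.mp hc
  have key : ∀ v : M, P0 Q c * ι Q v - ι Q v * P0 Q c = 0 ∧ ι Q v * P1 Q c - P1 Q c * ι Q v = 0 := by
    intro v
    have h1 : P0 Q c * ι Q v - ι Q v * P0 Q c = ι Q v * P1 Q c - P1 Q c * ι Q v := by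
      have := hc' (ι Q v)
      rw [← P0_add_P1 Q c, mul_add, add_mul] at this
      rw [sub_eq_sub_iff_add_eq_add]
      exact this.symm.trans (add_comm _ _)
    have hodd : P0 Q c * ι Q v - ι Q v * P0 Q c ∈ evenOdd Q 1 := by
      refine Submodule.sub_mem _ ?_ ?_
      · have := evenOdd_mul_mem Q 0 1 _ _ (P0_mem Q c) (ι_mem_evenOdd_one Q v)
        rwa [zero_add] at this
      · have := evenOdd_mul_mem Q 1 0 _ _ (ι_mem_evenOdd_one Q v) (P0_mem Q c)
        rwa [add_zero] at this
    have heven : ι Q v * P1 Q c - P1 Q c * ι Q v ∈ evenOdd Q 0 := by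
      refine Submodule.sub_mem _ ?_ ?_
      · have := evenOdd_mul_mem Q 1 1 _ _ (ι_mem_evenOdd_one Q v) (P1_mem Q c)
        rwa [show (1 : ZMod 2) + 1 = 0 from rfl] at this
      · have := evenOdd_mul_mem Q 1 1 _ _ (P1_mem Q c) (ι_mem_evenOdd_one Q v)
        rwa [show (1 : ZMod 2) + 1 = 0 from rfl] at this
    have hz : P0 Q c * ι Q v - ι Q v * P0 Q c = 0 :=
      eq_zero_of_mem_evenOdd Q _ (h1 ▸ heven) hodd
    exact ⟨hz, h1 ▸ hz⟩
  constructor
  · exact central_of_commute_ι Q _ fun v => sub_eq_zero.mp (key v).1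
  · exact central_of_commute_ι Q _ fun v => (sub_eq_zero.mp (key v).2).symm

section bij

variable (hb : ∀ c : CliffordAlgebra Q, c ∈ Subalgebra.center R (CliffordAlgebra Q) →
  c ∈ evenOdd Q 0 → c ∈ (algebraMap R (CliffordAlgebra Q)).range)
variable {N : ℕ} (z w : Fin N → CliffordAlgebra Q)
  (hz : ∀ k, z k ∈ evenOdd Q 1 ∧ z k ∈ Subalgebra.center R (CliffordAlgebra Q))
  (hw : ∀ k, w k ∈ evenOdd Q 1 ∧ w k ∈ Subalgebra.center R (CliffordAlgebra Q))
  (hsum : ∑ k, z k * w k = 1)

/-- the even component, as an element of the even subalgebra -/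
noncomputable def E0 : CliffordAlgebra Q →ₗ[R] ↥Ev where
  toFun y := ⟨P0 Q y, P0_mem Q y⟩
  map_add' x y := Subtype.ext (map_add _ _ _)
  map_smul' r x := Subtype.ext (map_smul _ _ _)

theorem odd_mul_odd (x y : CliffordAlgebra Q) (hx : x ∈ evenOdd Q 1) (hy : y ∈ evenOdd Q 1) :
    x * y ∈ evenOdd Q 0 := by
  have := evenOdd_mul_mem Q 1 1 _ _ hx hy
  rwa [show (1 : ZMod 2) + 1 = 0 from rfl] at this

/-- `y ↦ w k * (odd component of y)` -/
noncomputable def E1 (k : Fin N) : CliffordAlgebra Q →ₗ[R] ↥Ev where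
  toFun y := ⟨w k * P1 Q y, odd_mul_odd Q _ _ (hw k).1 (P1_mem Q y)⟩
  map_add' x y := Subtype.ext (by simp [mul_add])
  map_smul' r x := Subtype.ext (by simp)

/-- the inverse of `mu` -/
noncomputable def nu : CliffordAlgebra Q →ₗ[R] ↥Zs ⊗[R] ↥Ev :=
  (TensorProduct.mk R ↥Zs ↥Ev 1) ∘ₗ E0 Q +
    ∑ k, (TensorProduct.mk R ↥Zs ↥Ev ⟨z k, (hz k).2⟩) ∘ₗ E1 Q w hw k

theorem nu_apply (y : CliffordAlgebra Q) :
    nu Q z w hz hw y = (1 : Zs) ⊗ₜ[R] E0 Q y + ∑ k, (⟨z k, (hz k).2⟩ : Zs) ⊗ₜ[R] E1 Q w hw k y := by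
  simp [nu]

include hsum in
theorem mu_nu (y : CliffordAlgebra Q) : mu Q (nu Q z w hz hw y) = y := by
  rw [nu_apply, map_add, map_sum, mu_tmul]
  simp only [mu_tmul]
  change 1 * P0 Q y + ∑ k, z k * (w k * P1 Q y) = y
  simp only [← mul_assoc]
  rw [← Finset.sum_mul, hsum, one_mul, one_mul, P0_add_P1]

include hb hsum in
theorem nu_mu (t : ↥Zs ⊗[R] ↥Ev) : nu Q z w hz hw (mu Q t) = t := by
  induction t with
  | zero => simp
  | add s t hs ht => rw [map_add, map_add, hs, ht]
  | tmul c x =>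
    obtain ⟨hc0, hc1⟩ := P0_central Q c c.2
    obtain ⟨r, hr⟩ := hb _ hc0 (P0_mem Q c)
    have hxe : (x : CliffordAlgebra Q) ∈ evenOdd Q 0 := x.2
    -- scalars `s k` with `w k * c₁ = s k`
    have hs : ∀ k, ∃ s : R, algebraMap R _ s = w k * P1 Q c := fun k =>
      hb _ (Subalgebra.mul_mem _ (hw k).2 hc1) (odd_mul_odd Q _ _ (hw k).1 (P1_mem Q c))
    choose s hs using hs
    have hcx : (c : CliffordAlgebra Q) * x = r • (x : CliffordAlgebra Q) + P1 Q c * x := by
      conv_lhs => rw [← P0_add_P1 Q c, add_mul, ← hr, ← Algebra.smul_def]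
    have h1x : P1 Q c * x ∈ evenOdd Q 1 := by
      have := evenOdd_mul_mem Q 1 0 _ _ (P1_mem Q c) hxe
      rwa [add_zero] at this
    have hP0 : P0 Q ((c : CliffordAlgebra Q) * x) = r • (x : CliffordAlgebra Q) := by
      rw [hcx, map_add, P0_of_even Q _ (Submodule.smul_mem _ _ hxe), P0_of_odd Q _ h1x, add_zero]
    have hP1 : P1 Q ((c : CliffordAlgebra Q) * x) = P1 Q c * x := by
      rw [hcx, map_add, P1_of_even Q _ (Submodule.smul_mem _ _ hxe), P1_of_odd Q _ h1x, zero_add]
    have hE0 : E0 Q ((c : CliffordAlgebra Q) * x) = r • x := Subtype.ext hP0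
    have hE1 : ∀ k, E1 Q w hw k ((c : CliffordAlgebra Q) * x) = s k • x := by
      intro k
      apply Subtype.ext
      change w k * P1 Q ((c : CliffordAlgebra Q) * x) = s k • (x : CliffordAlgebra Q)
      rw [hP1, ← mul_assoc, ← hs k, ← Algebra.smul_def]
    rw [mu_tmul, nu_apply, hE0]
    simp only [hE1]
    simp only [← TensorProduct.smul_tmul]
    rw [← TensorProduct.sum_tmul, ← TensorProduct.add_tmul]
    congr 1
    apply Subtype.ext
    rw [Subalgebra.coe_add, Subalgebra.coe_smul, Subalgebra.coe_one, AddSubmonoidClass.coe_finset_sum]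
    simp only [Subalgebra.coe_smul]
    have h2 : ∀ k, s k • z k = z k * (w k * P1 Q c) := by
      intro k
      rw [← hs k, ← Algebra.commutes, ← Algebra.smul_def]
    simp only [h2, ← mul_assoc]
    rw [← Finset.sum_mul, hsum, one_mul, ← Algebra.algebraMap_eq_smul_one, hr, P0_add_P1]

include hb hsum hz hw in
theorem center_mul_even_bijective : Function.Bijective (mu Q) :=
  ⟨Function.LeftInverse.injective (g := nu Q z w hz hw) (nu_mu Q hb z w hz hw hsum),
   Function.RightInverse.surjective (g := nu Q z w hz hw) (mu_nu Q z w hz hw hsum)⟩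

end bij

end Groth.Agent.Lib.Seat37.CliffCenter
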