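import Mathlib
import Groth.Agent.Lib.Seat37CliffCenter

/-!
# The centre of an odd-rank Clifford algebra over a local ring (seat 37)

Assume the even central elements of `C(Q)` are scalars and there are odd central `z k, w k` with
`∑ z k * w k = 1` (as provided by `CliffDescent`).  Over a local ring we get an odd central unit `ζ`
with `ζ²` a scalar, `1, ζ` linearly independent and spanning the centre (`exists_odd_central_unit`).
-/

set_option autoImplicit false
set_option linter.unusedSectionVars false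
universe u v

namespace Groth.Agent.Lib.Seat37.CliffLocal

open CliffordAlgebra TensorProduct
open Groth.Agent.Lib.Seat37.CliffGrade Groth.Agent.Lib.Seat37.CliffDescent
  Groth.Agent.Lib.Seat37.CliffRank Groth.Agent.Lib.Seat37.CliffCenter

variable {R : Type u} [CommRing R] {M : Type v} [AddCommGroup M] [Module R M] [Module.Free R M]
variable (Q : QuadraticForm R M)

/-- the data of an "odd-rank-like" Clifford algebra: even central elements are scalars -/
def EvenCentralScalar : Prop :=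
  ∀ c : CliffordAlgebra Q, c ∈ Subalgebra.center R (CliffordAlgebra Q) →
    c ∈ evenOdd Q 0 → c ∈ (algebraMap R (CliffordAlgebra Q)).range

/-- an odd central unit `ζ` together with its (odd central) inverse -/
structure OddCentralUnit where
  ζ : CliffordAlgebra Q
  ζi : CliffordAlgebra Q
  ζ_odd : ζ ∈ evenOdd Q 1
  ζi_odd : ζi ∈ evenOdd Q 1
  ζ_central : ζ ∈ Subalgebra.center R (CliffordAlgebra Q)
  ζi_central : ζi ∈ Subalgebra.center R (CliffordAlgebra Q)
  mul_inv : ζ * ζi = 1

namespace OddCentralUnit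

variable {Q} (U : OddCentralUnit Q)

theorem inv_mul : U.ζi * U.ζ = 1 := by
  rw [← U.mul_inv]
  exact (Subalgebra.mem_center_iff.mp U.ζ_central U.ζi)

theorem isUnit : IsUnit U.ζ := isUnit_iff_exists.mpr ⟨U.ζi, U.mul_inv, U.inv_mul⟩

theorem comm (x : CliffordAlgebra Q) : x * U.ζ = U.ζ * x :=
  Subalgebra.mem_center_iff.mp U.ζ_central x

theorem commi (x : CliffordAlgebra Q) : x * U.ζi = U.ζi * x :=
  Subalgebra.mem_center_iff.mp U.ζi_central x

end OddCentralUnit

variable {Q}

theorem odd_mul_odd' (x y : CliffordAlgebra Q) (hx : x ∈ evenOdd Q 1) (hy : y ∈ evenOdd Q 1) :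
    x * y ∈ evenOdd Q 0 := by
  have := evenOdd_mul_mem Q 1 1 _ _ hx hy
  rwa [show (1 : ZMod 2) + 1 = 0 from rfl] at this

theorem even_mul_odd (x y : CliffordAlgebra Q) (hx : x ∈ evenOdd Q 0) (hy : y ∈ evenOdd Q 1) :
    x * y ∈ evenOdd Q 1 := by
  have := evenOdd_mul_mem Q 0 1 _ _ hx hy
  rwa [zero_add] at this

theorem odd_mul_even (x y : CliffordAlgebra Q) (hx : x ∈ evenOdd Q 1) (hy : y ∈ evenOdd Q 0) :
    x * y ∈ evenOdd Q 1 := by
  have := evenOdd_mul_mem Q 1 0 _ _ hx hy
  rwa [add_zero] at this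

theorem even_mul_even (x y : CliffordAlgebra Q) (hx : x ∈ evenOdd Q 0) (hy : y ∈ evenOdd Q 0) :
    x * y ∈ evenOdd Q 0 := by
  have := evenOdd_mul_mem Q 0 0 _ _ hx hy
  rwa [add_zero] at this

theorem center_mul {x y : CliffordAlgebra Q} (hx : x ∈ Subalgebra.center R (CliffordAlgebra Q))
    (hy : y ∈ Subalgebra.center R (CliffordAlgebra Q)) :
    x * y ∈ Subalgebra.center R (CliffordAlgebra Q) := Subalgebra.mul_mem _ hx hy

/-- over a local ring, an odd central partition of unity yields an odd central unit -/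
theorem exists_oddCentralUnit [IsLocalRing R] (hb : EvenCentralScalar Q) {N : ℕ}
    (z w : Fin N → CliffordAlgebra Q)
    (hz : ∀ k, z k ∈ evenOdd Q 1 ∧ z k ∈ Subalgebra.center R (CliffordAlgebra Q))
    (hw : ∀ k, w k ∈ evenOdd Q 1 ∧ w k ∈ Subalgebra.center R (CliffordAlgebra Q))
    (hsum : ∑ k, z k * w k = 1) : Nonempty (OddCentralUnit Q) := by
  have hr : ∀ k, ∃ r : R, algebraMap R _ r = z k * w k := fun k =>
    hb _ (center_mul (hz k).2 (hw k).2) (odd_mul_odd' _ _ (hz k).1 (hw k).1)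
  choose r hr using hr
  have hsum' : ∑ k, r k = 1 := by
    apply algebraMap_injective Q
    rw [map_sum, map_one, ← hsum]
    exact Finset.sum_congr rfl fun k _ => hr k
  have hex : ∃ k, IsUnit (r k) := by
    by_contra hne
    rw [not_exists] at hne
    have : ∑ k, r k ∈ IsLocalRing.maximalIdeal R :=
      Ideal.sum_mem _ fun k _ => (IsLocalRing.mem_maximalIdeal _).mpr (hne k)
    rw [hsum'] at this
    exact (IsLocalRing.maximalIdeal.isMaximal R).ne_top ((Ideal.eq_top_iff_one _).mpr this)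
  obtain ⟨k, hk⟩ := hex
  obtain ⟨u, hu⟩ := hk
  refine ⟨⟨z k, (↑u⁻¹ : R) • w k, (hz k).1, Submodule.smul_mem _ _ (hw k).1, (hz k).2,
    Subalgebra.smul_mem _ (hw k).2 _, ?_⟩⟩
  rw [mul_smul_comm, ← hr k, ← hu, Algebra.smul_def, ← map_mul, Units.inv_mul, map_one]

variable (U : OddCentralUnit Q)

/-- odd central elements are multiples of `ζ` -/
theorem odd_central_eq_smul (hb : EvenCentralScalar Q) (c : CliffordAlgebra Q)
    (hc : c ∈ Subalgebra.center R (CliffordAlgebra Q)) (hc1 : c ∈ evenOdd Q 1) :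
    ∃ s : R, c = s • U.ζ := by
  obtain ⟨s, hs⟩ := hb _ (center_mul hc U.ζi_central) (odd_mul_odd' _ _ hc1 U.ζi_odd)
  refine ⟨s, ?_⟩
  calc c = (c * U.ζi) * U.ζ := by rw [mul_assoc, U.inv_mul, mul_one]
    _ = s • U.ζ := by rw [← hs]; exact (Algebra.smul_def s U.ζ).symm

theorem sq_scalar (hb : EvenCentralScalar Q) :
    U.ζ * U.ζ ∈ (algebraMap R (CliffordAlgebra Q)).range :=
  hb _ (center_mul U.ζ_central U.ζ_central) (odd_mul_odd' _ _ U.ζ_odd U.ζ_odd)

theorem smul_zeta_eq_zero (s : R) (h : s • U.ζ = 0) : s = 0 := by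
  apply algebraMap_injective Q
  rw [map_zero, Algebra.algebraMap_eq_smul_one, ← U.mul_inv, ← smul_mul_assoc, h, zero_mul]

theorem linearIndependent : LinearIndependent R ![(1 : CliffordAlgebra Q), U.ζ] := by
  rw [LinearIndependent.pair_iff]
  intro s t h
  have h0 : s • (1 : CliffordAlgebra Q) ∈ evenOdd Q 0 :=
    Submodule.smul_mem _ _ (SetLike.one_mem_graded _)
  have h1 : t • U.ζ ∈ evenOdd Q 1 := Submodule.smul_mem _ _ U.ζ_odd
  have h0' : s • (1 : CliffordAlgebra Q) = 0 := by
    refine eq_zero_of_mem_evenOdd Q _ h0 ?_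
    rw [eq_neg_of_add_eq_zero_left h]
    exact Submodule.neg_mem _ h1
  rw [h0', zero_add] at h
  refine ⟨?_, smul_zeta_eq_zero U t h⟩
  apply algebraMap_injective Q
  rw [map_zero, Algebra.algebraMap_eq_smul_one, h0']

theorem center_eq_span (hb : EvenCentralScalar Q) :
    Subalgebra.toSubmodule (Subalgebra.center R (CliffordAlgebra Q)) =
      Submodule.span R {1, U.ζ} := by
  ext c
  rw [Subalgebra.mem_toSubmodule, Submodule.mem_span_pair]
  constructor
  · intro hc
    obtain ⟨h0, h1⟩ := P0_central Q c hc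
    obtain ⟨a, ha⟩ := hb _ h0 (P0_mem Q c)
    obtain ⟨s, hs⟩ := odd_central_eq_smul U hb _ h1 (P1_mem Q c)
    refine ⟨a, s, ?_⟩
    rw [← hs, ← Algebra.algebraMap_eq_smul_one, ha, P0_add_P1]
  · rintro ⟨a, s, rfl⟩
    exact Subalgebra.add_mem _ (Subalgebra.smul_mem _ (Subalgebra.one_mem _) _)
      (Subalgebra.smul_mem _ U.ζ_central _)

end Groth.Agent.Lib.Seat37.CliffLocal
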