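import Mathlib
import Groth.Agent.Lib.Seat37QuadSplitTab

/-!
# Nondegenerate quadratic forms of odd dimension over an algebraically closed field (seat 37)

* `exists_splitFam`: a nondegenerate quadratic form on a space of dimension `2 m + 1` over an
  algebraically closed field has a family of vectors whose Gram data is the split table.
-/

set_option autoImplicit false
universe u v

namespace Groth.Agent.Lib.Seat37.QuadClassify

open QuadraticMap Module
open Groth.Agent.Lib.Seat37.QuadSplitTab

variable {K : Type u} [Field K]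

/-- Gram data of the family `e` is the split table -/
def IsSplitFam {V : Type v} [AddCommGroup V] [Module K V] (Q : QuadraticForm K V) (m : ℕ)
    (e : Fin (2 * m + 1) → V) : Prop :=
  (∀ k, Q (e k) = B K k.val k.val) ∧ ∀ k l, k ≠ l → polar Q (e k) (e l) = B K k.val l.val

section aux

variable {V : Type v} [AddCommGroup V] [Module K V] (Q : QuadraticForm K V)

theorem exists_isotropic [IsAlgClosed K] [FiniteDimensional K V] (h : 1 < finrank K V) :
    ∃ v : V, v ≠ 0 ∧ Q v = 0 := by
  have hpos : 0 < finrank K V := by omega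
  obtain ⟨x, hx⟩ := (Module.finrank_pos_iff_exists_ne_zero (R := K) (M := V)).mp hpos
  obtain ⟨y, hy⟩ := exists_linearIndependent_pair_of_one_lt_finrank h hx
  rw [LinearIndependent.pair_iff' hx] at hy
  by_cases hQx : Q x = 0
  · exact ⟨x, hx, hQx⟩
  · have hdeg : (Polynomial.C (Q x) * Polynomial.X ^ 2 + Polynomial.C (polar Q y x) * Polynomial.X +
        Polynomial.C (Q y)).degree = 2 := Polynomial.degree_quadratic hQx
    obtain ⟨t, ht⟩ := IsAlgClosed.exists_root _ (by rw [hdeg]; norm_num)
    rw [Polynomial.IsRoot.def] at ht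
    simp only [Polynomial.eval_add, Polynomial.eval_mul, Polynomial.eval_C, Polynomial.eval_pow,
      Polynomial.eval_X] at ht
    refine ⟨y + t • x, ?_, ?_⟩
    · intro h0
      apply hy (-t)
      rw [neg_smul]
      exact (eq_neg_of_add_eq_zero_left h0).symm
    · rw [QuadraticMap.map_add Q y (t • x), QuadraticMap.map_smul, polar_smul_right, smul_eq_mul,
        smul_eq_mul]
      linear_combination ht

theorem exists_hyp_pair (hrad : Q.radical = ⊥) (v : V) (hv : v ≠ 0) (hQv : Q v = 0) :
    ∃ w : V, Q w = 0 ∧ polar Q v w = 1 := by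
  have hex : ∃ w₀, polar Q v w₀ ≠ 0 := by
    by_contra hcon
    push Not at hcon
    apply hv
    have : v ∈ Q.radical := by
      refine ⟨hQv, ?_⟩
      ext y
      exact hcon y
    rw [hrad] at this
    exact this
  obtain ⟨w₀, hw₀⟩ := hex
  obtain ⟨w₁, h1⟩ : ∃ w₁, polar Q v w₁ = 1 :=
    ⟨(polar Q v w₀)⁻¹ • w₀, by rw [polar_smul_right, smul_eq_mul, inv_mul_cancel₀ hw₀]⟩
  refine ⟨w₁ - Q w₁ • v, ?_, ?_⟩
  · rw [sub_eq_add_neg, ← neg_smul, QuadraticMap.map_add Q w₁ ((-Q w₁) • v), QuadraticMap.map_smul,
      polar_smul_right, polar_comm, h1, hQv]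
    simp only [smul_eq_mul]
    ring
  · rw [polar_sub_right, polar_smul_right, polar_self, hQv, h1]
    simp

end aux

section hyp

variable {V : Type v} [AddCommGroup V] [Module K V] (Q : QuadraticForm K V) (v w : V)

/-- the orthogonal complement of the pair `v, w` -/
def Wc : Submodule K V := LinearMap.ker (polarBilin Q v) ⊓ LinearMap.ker (polarBilin Q w)

theorem mem_Wc (x : V) : x ∈ Wc Q v w ↔ polar Q v x = 0 ∧ polar Q w x = 0 := by
  simp only [Wc, Submodule.mem_inf, LinearMap.mem_ker, polarBilin_apply_apply]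

theorem polar_comp_subtype (W : Submodule K V) (x y : W) :
    polar (Q.comp W.subtype) x y = polar Q (x : V) (y : V) := by
  simp only [polar, QuadraticMap.comp_apply, map_add, Submodule.subtype_apply]

variable (hQv : Q v = 0) (hQw : Q w = 0) (hvw : polar Q v w = 1)

include hQv hQw hvw

theorem proj_mem (y : V) : y - polar Q w y • v - polar Q v y • w ∈ Wc Q v w := by
  rw [mem_Wc]
  constructor
  · rw [polar_sub_right, polar_sub_right, polar_smul_right, polar_smul_right, polar_self, hQv, hvw]
    simp
  · rw [polar_sub_right, polar_sub_right, polar_smul_right, polar_smul_right, polar_self, hQw,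
      polar_comm Q w v, hvw]
    simp

theorem polar_eq_zero_of_Wc (x : V) (hx : x ∈ Wc Q v w)
    (h : ∀ y ∈ Wc Q v w, polar Q x y = 0) (y : V) : polar Q x y = 0 := by
  have hy := h _ (proj_mem Q v w hQv hQw hvw y)
  rw [polar_sub_right, polar_sub_right, polar_smul_right, polar_smul_right, polar_comm Q x v,
    polar_comm Q x w, ((mem_Wc Q v w x).mp hx).1, ((mem_Wc Q v w x).mp hx).2] at hy
  simpa using hy

theorem finrank_Wc [FiniteDimensional K V] : finrank K (Wc Q v w) + 2 = finrank K V := by
  set φ : V →ₗ[K] K × K := (polarBilin Q v).prod (polarBilin Q w) with hφ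
  have hker : LinearMap.ker φ = Wc Q v w := by
    rw [hφ, LinearMap.ker_prod, Wc]
  have hrange : LinearMap.range φ = ⊤ := by
    rw [LinearMap.range_eq_top]
    rintro ⟨α, β⟩
    refine ⟨α • w + β • v, ?_⟩
    rw [hφ, LinearMap.prod_apply]
    rw [Function.prod_apply, polarBilin_apply_apply, polarBilin_apply_apply,
      polar_add_right, polar_add_right, polar_smul_right, polar_smul_right, polar_smul_right,
      polar_smul_right, polar_self, polar_self, hQv, hQw, hvw, polar_comm Q w v, hvw]
    simp
  have h := LinearMap.finrank_range_add_finrank_ker φ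
  rw [hrange, finrank_top, hker, Module.finrank_prod, Module.finrank_self] at h
  omega

theorem nondeg_Wc (hQ : Q.Nondegenerate) : (Q.comp (Wc Q v w).subtype).Nondegenerate := by
  have key : ∀ x : Wc Q v w, polarBilin (Q.comp (Wc Q v w).subtype) x = 0 →
      polarBilin Q (x : V) = 0 := by
    intro x hx
    ext y
    rw [polarBilin_apply_apply, LinearMap.zero_apply]
    apply polar_eq_zero_of_Wc Q v w hQv hQw hvw x x.2
    intro y' hy'
    have := congrArg (fun f => f ⟨y', hy'⟩) hx
    simp only [polarBilin_apply_apply, LinearMap.zero_apply, polar_comp_subtype] at this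
    exact this
  constructor
  · rw [eq_bot_iff]
    intro x hx
    have hxr : (x : V) ∈ Q.radical := ⟨hx.1, key x hx.2⟩
    rw [hQ.radical_eq_bot] at hxr
    exact Subtype.ext hxr
  · let f : LinearMap.ker (polarBilin (Q.comp (Wc Q v w).subtype)) →ₗ[K]
        LinearMap.ker (polarBilin Q) :=
      LinearMap.codRestrict _ ((Wc Q v w).subtype ∘ₗ Submodule.subtype _)
        (fun x => LinearMap.mem_ker.mpr (key x.1 (LinearMap.mem_ker.mp x.2)))
    have hf : Function.Injective f := by
      intro x y hxy
      have := congrArg (fun z : LinearMap.ker (polarBilin Q) => (z : V)) hxy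
      exact Subtype.ext (Subtype.ext this)
    exact (LinearMap.rank_le_of_injective f hf).trans hQ.rank_rad_polar_le

end hyp

section main

variable [IsAlgClosed K]

theorem exists_splitFam : ∀ (m : ℕ) (V : Type v) [AddCommGroup V] [Module K V]
    [FiniteDimensional K V] (Q : QuadraticForm K V), finrank K V = 2 * m + 1 → Q.Nondegenerate →
    ∃ e : Fin (2 * m + 1) → V, IsSplitFam Q m e := by
  intro m
  induction m with
  | zero =>
    intro V _ _ _ Q hdim hQ
    have hpos : 0 < finrank K V := by omega
    obtain ⟨x, hx⟩ := (Module.finrank_pos_iff_exists_ne_zero (R := K) (M := V)).mp hpos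
    have hspan := (finrank_eq_one_iff_of_nonzero' x hx).mp (by omega)
    have hQx : Q x ≠ 0 := by
      intro h0
      apply hx
      have : x ∈ Q.radical := by
        refine ⟨h0, ?_⟩
        ext y
        obtain ⟨c, rfl⟩ := hspan y
        rw [polarBilin_apply_apply, polar_smul_right, polar_self, h0]
        simp
      rw [hQ.radical_eq_bot] at this
      exact this
    obtain ⟨r, hr⟩ := IsAlgClosed.exists_pow_nat_eq (Q x) (n := 2) (by norm_num)
    have hr0 : r ≠ 0 := by
      intro h
      apply hQx
      rw [← hr, h]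
      norm_num
    refine ⟨fun _ => r⁻¹ • x, ?_, ?_⟩
    · intro k
      have hk : k.val = 0 := by omega
      rw [QuadraticMap.map_smul, ← hr, hk, B, if_pos rfl, if_pos rfl, smul_eq_mul]
      field_simp
    · intro k l hkl
      exfalso
      apply hkl
      apply Fin.ext
      omega
  | succ m ih =>
    intro V _ _ _ Q hdim hQ
    obtain ⟨v, hv, hQv⟩ := exists_isotropic Q (by omega)
    obtain ⟨w, hQw, hvw⟩ := exists_hyp_pair Q hQ.radical_eq_bot v hv hQv
    have hW := finrank_Wc Q v w hQv hQw hvw
    obtain ⟨e', he1, he2⟩ := ih (Wc Q v w) (Q.comp (Wc Q v w).subtype) (by omega)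
      (nondeg_Wc Q v w hQv hQw hvw hQ)
    let e : Fin (2 * (m + 1) + 1) → V := fun k =>
      if h : k.val < 2 * m + 1 then ((e' ⟨k.val, h⟩ : Wc Q v w) : V)
      else if k.val = 2 * m + 1 then v else w
    have e_lt : ∀ (k : Fin (2 * (m + 1) + 1)) (h : k.val < 2 * m + 1),
        e k = ((e' ⟨k.val, h⟩ : Wc Q v w) : V) := fun k h => dif_pos h
    have e_v : ∀ k : Fin (2 * (m + 1) + 1), k.val = 2 * m + 1 → e k = v := by
      intro k h
      simp only [e]
      rw [dif_neg (by omega), if_pos h]
    have e_w : ∀ k : Fin (2 * (m + 1) + 1), k.val = 2 * m + 2 → e k = w := by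
      intro k h
      simp only [e]
      rw [dif_neg (by omega), if_neg (by omega)]
    have hmem : ∀ j, polar Q v (e' j : V) = 0 ∧ polar Q w (e' j : V) = 0 :=
      fun j => (mem_Wc Q v w _).mp (e' j).2
    have hcase : ∀ k : Fin (2 * (m + 1) + 1),
        k.val < 2 * m + 1 ∨ k.val = 2 * m + 1 ∨ k.val = 2 * m + 2 := by
      intro k
      have := k.isLt
      omega
    refine ⟨e, ?_, ?_⟩
    · intro k
      rcases hcase k with hk | hk | hk
      · rw [e_lt k hk]
        have := he1 ⟨k.val, hk⟩
        rw [QuadraticMap.comp_apply] at this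
        exact this
      · rw [e_v k hk, hQv, B, if_pos rfl, if_neg (by omega)]
      · rw [e_w k hk, hQw, B, if_pos rfl, if_neg (by omega)]
    · intro k l hkl
      have hv' : k.val ≠ l.val := fun h => hkl (Fin.ext h)
      rcases hcase k with hk | hk | hk <;> rcases hcase l with hl | hl | hl
      · rw [e_lt k hk, e_lt l hl, ← polar_comp_subtype]
        exact he2 ⟨k.val, hk⟩ ⟨l.val, hl⟩ (fun h => hv' (Fin.mk.inj_iff.mp h))
      · rw [e_lt k hk, e_v l hl, polar_comm, (hmem _).1, B, if_neg hv', if_neg (by omega)]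
      · rw [e_lt k hk, e_w l hl, polar_comm, (hmem _).2, B, if_neg hv', if_neg (by omega)]
      · rw [e_v k hk, e_lt l hl, (hmem _).1, B, if_neg hv', if_neg (by omega)]
      · exact absurd (hk.trans hl.symm) hv'
      · rw [e_v k hk, e_w l hl, hvw, B, if_neg hv', if_pos (Or.inl ⟨by omega, by omega⟩)]
      · rw [e_w k hk, e_lt l hl, (hmem _).2, B, if_neg hv', if_neg (by omega)]
      · rw [e_w k hk, e_v l hl, polar_comm, hvw, B, if_neg hv',
          if_pos (Or.inr ⟨by omega, by omega⟩)]
      · exact absurd (hk.trans hl.symm) hv'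

end main

end Groth.Agent.Lib.Seat37.QuadClassify
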