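import Mathlib

/-!
# Algebras presented by finitely many polynomial relations and their functor of points (seat 37)

For `rel : ι → MvPolynomial σ R`: the quotient `Alg rel`, the solution sets `Sol rel A`,
the bijection `homEquiv : (Alg rel →ₐ[R] A) ≃ Sol rel A`, finite presentation, and formal
smoothness as the infinitesimal lifting property of solutions.
-/

set_option autoImplicit false
universe u

namespace Groth.Agent.Lib.Seat37.PolyRep

open MvPolynomial

variable {R : Type u} [CommRing R] {σ ι : Type} (rel : ι → MvPolynomial σ R)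

/-- the ideal of relations -/
noncomputable abbrev relIdeal : Ideal (MvPolynomial σ R) := Ideal.span (Set.range rel)

/-- the presented algebra -/
abbrev Alg : Type u := MvPolynomial σ R ⧸ relIdeal rel

/-- solutions of the relations in an `R`-algebra -/
def Sol (A : Type u) [CommRing A] [Algebra R A] : Set (σ → A) :=
  {v | ∀ i, aeval v (rel i) = 0}

variable {rel}
variable {A : Type u} [CommRing A] [Algebra R A]

lemma aeval_eq_zero_of_mem {v : σ → A} (hv : v ∈ Sol rel A) (p : MvPolynomial σ R)
    (hp : p ∈ relIdeal rel) : aeval v p = 0 := by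
  have : relIdeal rel ≤ RingHom.ker (aeval v : MvPolynomial σ R →ₐ[R] A).toRingHom := by
    apply Ideal.span_le.mpr
    rintro _ ⟨i, rfl⟩
    exact hv i
  exact this hp

/-- the algebra map attached to a solution -/
noncomputable def ofSol (v : σ → A) (hv : v ∈ Sol rel A) : Alg rel →ₐ[R] A :=
  Ideal.Quotient.liftₐ (relIdeal rel) (aeval v) (aeval_eq_zero_of_mem hv)

lemma ofSol_mk (v : σ → A) (hv : v ∈ Sol rel A) (p : MvPolynomial σ R) :
    ofSol v hv (Ideal.Quotient.mk _ p) = aeval v p := rfl

/-- the solution attached to an algebra map -/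
noncomputable def toSol (f : Alg rel →ₐ[R] A) : σ → A := fun s => f (Ideal.Quotient.mk _ (X s))

lemma aeval_toSol (f : Alg rel →ₐ[R] A) (p : MvPolynomial σ R) :
    aeval (toSol f) p = f (Ideal.Quotient.mk _ p) := by
  have h := aeval_unique (f.comp (Ideal.Quotient.mkₐ R (relIdeal rel)))
  exact (congrArg (fun F : MvPolynomial σ R →ₐ[R] A => F p) h).symm

lemma toSol_mem (f : Alg rel →ₐ[R] A) : toSol f ∈ Sol rel A := by
  intro i
  rw [aeval_toSol]
  have : (Ideal.Quotient.mk (relIdeal rel)) (rel i) = 0 :=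
    Ideal.Quotient.eq_zero_iff_mem.mpr (Ideal.subset_span ⟨i, rfl⟩)
  rw [this, map_zero]

lemma toSol_ofSol (v : σ → A) (hv : v ∈ Sol rel A) : toSol (ofSol v hv) = v := by
  funext s
  simp only [toSol, ofSol_mk, aeval_X]

lemma ofSol_toSol (f : Alg rel →ₐ[R] A) : ofSol (toSol f) (toSol_mem f) = f := by
  apply Ideal.Quotient.algHom_ext
  apply MvPolynomial.algHom_ext
  intro s
  simp only [AlgHom.comp_apply, Ideal.Quotient.mkₐ_eq_mk, ofSol_mk, aeval_X, toSol]

variable (rel A) in
/-- points of the presented algebra are the solutions. -/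
noncomputable def homEquiv : (Alg rel →ₐ[R] A) ≃ Sol rel A where
  toFun f := ⟨toSol f, toSol_mem f⟩
  invFun v := ofSol v.1 v.2
  left_inv f := ofSol_toSol f
  right_inv v := Subtype.ext (toSol_ofSol v.1 v.2)

lemma toSol_comp {A' : Type u} [CommRing A'] [Algebra R A'] (φ : A →ₐ[R] A')
    (f : Alg rel →ₐ[R] A) : toSol (φ.comp f) = φ ∘ toSol f := rfl

lemma toSol_injective : Function.Injective (toSol : (Alg rel →ₐ[R] A) → σ → A) := by
  intro f f' h
  exact (homEquiv rel A).injective (Subtype.ext h)

lemma map_mem_Sol {A' : Type u} [CommRing A'] [Algebra R A'] (φ : A →ₐ[R] A') {v : σ → A}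
    (hv : v ∈ Sol rel A) : φ ∘ v ∈ Sol rel A' := by
  intro i
  have h := comp_aeval_apply (f := v) φ (rel i)
  change aeval (fun i => φ (v i)) (rel i) = 0
  rw [← h, hv i, map_zero]

instance finitePresentation [Finite σ] [Finite ι] : Algebra.FinitePresentation R (Alg rel) :=
  Algebra.FinitePresentation.quotient (Submodule.fg_span (Set.finite_range rel))

/-- the infinitesimal lifting property of solutions gives formal smoothness. -/
theorem formallySmooth_of_lifting
    (H : ∀ (C : Type u) [CommRing C] [Algebra R C] (I : Ideal C), I ^ 2 = ⊥ →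
      ∀ w : σ → C ⧸ I, w ∈ Sol rel (C ⧸ I) →
        ∃ v : σ → C, v ∈ Sol rel C ∧ ∀ s, Ideal.Quotient.mk I (v s) = w s) :
    Algebra.FormallySmooth R (Alg rel) := by
  apply Algebra.FormallySmooth.of_comp_surjective
  intro C _ _ I hI f
  obtain ⟨v, hv, hvw⟩ := H C I hI (toSol f) (toSol_mem f)
  refine ⟨ofSol v hv, ?_⟩
  apply toSol_injective
  funext s
  rw [toSol_comp]
  simp only [Function.comp, toSol, ofSol_mk, aeval_X, Ideal.Quotient.mkₐ_eq_mk]
  exact hvw s

/-- formal smoothness gives the infinitesimal lifting property of solutions. -/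
theorem lifting_of_formallySmooth [Algebra.FormallySmooth R (Alg rel)]
    (C : Type u) [CommRing C] [Algebra R C] (I : Ideal C) (hI : I ^ 2 = ⊥)
    (w : σ → C ⧸ I) (hw : w ∈ Sol rel (C ⧸ I)) :
    ∃ v : σ → C, v ∈ Sol rel C ∧ ∀ s, Ideal.Quotient.mk I (v s) = w s := by
  obtain ⟨f, hf⟩ := Algebra.FormallySmooth.comp_surjective R (Alg rel) I hI (ofSol w hw)
  refine ⟨toSol f, toSol_mem f, fun s => ?_⟩
  have h1 := congrArg toSol hf
  rw [toSol_comp, toSol_ofSol] at h1
  exact congrFun h1 s

end Groth.Agent.Lib.Seat37.PolyRep
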