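import Mathlib
import Groth.Agent.Lib.Seat37QuadTab
import Groth.Agent.Lib.Seat37PolyRep

/-!
# The coordinate algebra of the orthogonal group of a coefficient table (seat 37)

Variables: matrix entries and an inverse of the determinant.  Relations: the transformed table
`cc a X` equals `a`, `d * det X = 1`, and (special case) `d = 1`.
* `mem_Sol_iff`: solutions are the pairs `(X, d)` with `IsPt`;
* `formallySmooth_O`: invertible polar matrix ⟹ formally smooth;
* `formallySmooth_SO_of_two`: the special group when moreover `2` is a unit.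
-/

set_option autoImplicit false
set_option linter.unusedSectionVars false
universe u

namespace Groth.Agent.Lib.Seat37.QuadRel

open MvPolynomial Matrix
open Groth.Agent.S17014.Aux.HD Groth.Agent.Lib.Seat37.QuadTab Groth.Agent.Lib.Seat37.PolyRep

variable {R : Type u} [CommRing R] {n : ℕ}

/-- variables: matrix entries and the inverse determinant -/
abbrev Var (n : ℕ) : Type := (Fin n × Fin n) ⊕ Unit

/-- indices of the relations -/
abbrev Idx (n : ℕ) : Type := Sym2 (Fin n) ⊕ Bool

/-- the universal matrix -/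
noncomputable def Xu (R : Type u) [CommRing R] (n : ℕ) :
    Matrix (Fin n) (Fin n) (MvPolynomial (Var n) R) :=
  Matrix.of fun i j => X (Sum.inl (i, j))

/-- the universal inverse determinant -/
noncomputable def du (R : Type u) [CommRing R] (n : ℕ) : MvPolynomial (Var n) R := X (Sum.inr ())

/-- the relations (`sp = true`: the special group) -/
noncomputable def rel (sp : Bool) (a : Sym2 (Fin n) → R) : Idx n → MvPolynomial (Var n) R
  | Sum.inl s => cc (C ∘ a) (Xu R n) s - C (a s)
  | Sum.inr true => du R n * (Xu R n).det - 1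
  | Sum.inr false => if sp = true then du R n - 1 else 0

section pts

variable {A : Type*} [CommRing A]

/-- the matrix of a vector of values -/
def vmat (v : Var n → A) : Matrix (Fin n) (Fin n) A := Matrix.of fun i j => v (Sum.inl (i, j))

/-- the inverse-determinant coordinate -/
def vdet (v : Var n → A) : A := v (Sum.inr ())

/-- the vector of values of a matrix and a scalar -/
def vec (X : Matrix (Fin n) (Fin n) A) (d : A) : Var n → A :=
  Sum.elim (fun p => X p.1 p.2) (fun _ => d)

@[simp] theorem vmat_vec (X : Matrix (Fin n) (Fin n) A) (d : A) : vmat (vec X d) = X := rfl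
@[simp] theorem vdet_vec (X : Matrix (Fin n) (Fin n) A) (d : A) : vdet (vec X d) = d := rfl

theorem vec_vmat_vdet (v : Var n → A) : vec (vmat v) (vdet v) = v := by
  funext s
  rcases s with ⟨i, j⟩ | ⟨⟩ <;> rfl

theorem vmat_comp {B : Type*} [CommRing B] (φ : A →+* B) (v : Var n → A) :
    vmat (φ ∘ v) = (vmat v).map φ := rfl

theorem vdet_comp {B : Type*} [CommRing B] (φ : A →+* B) (v : Var n → A) :
    vdet (φ ∘ v) = φ (vdet v) := rfl

end pts

/-- the point predicate -/
def IsPt (sp : Bool) (a : Sym2 (Fin n) → R) (A : Type*) [CommRing A] [Algebra R A]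
    (X : Matrix (Fin n) (Fin n) A) (d : A) : Prop :=
  cc (algebraMap R A ∘ a) X = algebraMap R A ∘ a ∧ d * X.det = 1 ∧ (sp = true → d = 1)

section sol

variable {A : Type u} [CommRing A] [Algebra R A]

theorem Xu_map_aeval (v : Var n → A) :
    (Xu R n).map (aeval v : MvPolynomial (Var n) R →ₐ[R] A).toRingHom = vmat v := by
  ext i j
  simp [Xu, vmat]

theorem aeval_cc (a : Sym2 (Fin n) → R) (v : Var n → A) (s : Sym2 (Fin n)) :
    aeval v (cc (C ∘ a) (Xu R n) s) = cc (algebraMap R A ∘ a) (vmat v) s := by
  have h := congrFun (cc_map (aeval v : MvPolynomial (Var n) R →ₐ[R] A).toRingHom (C ∘ a)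
    (Xu R n)) s
  rw [Xu_map_aeval] at h
  have h2 : ((aeval v : MvPolynomial (Var n) R →ₐ[R] A).toRingHom : _ → A) ∘ (C ∘ a) =
      algebraMap R A ∘ a := by
    funext p
    simp
  rw [h2] at h
  exact h

theorem aeval_det_Xu (v : Var n → A) : aeval v (Xu R n).det = (vmat v).det := by
  have h := RingHom.map_det (aeval v : MvPolynomial (Var n) R →ₐ[R] A).toRingHom (Xu R n)
  rw [RingHom.mapMatrix_apply, Xu_map_aeval] at h
  exact h

theorem mem_Sol_iff (sp : Bool) (a : Sym2 (Fin n) → R) (v : Var n → A) :
    v ∈ Sol (rel sp a) A ↔ IsPt sp a A (vmat v) (vdet v) := by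
  constructor
  · intro h
    refine ⟨?_, ?_, ?_⟩
    · funext s
      have h1 := h (Sum.inl s)
      simp only [rel, map_sub, aeval_cc, aeval_C] at h1
      exact sub_eq_zero.mp h1
    · have h1 := h (Sum.inr true)
      simp only [rel, map_sub, map_mul, map_one, aeval_det_Xu, du, aeval_X] at h1
      exact sub_eq_zero.mp h1
    · intro hsp
      have h1 := h (Sum.inr false)
      simp only [rel, if_pos hsp, map_sub, map_one, du, aeval_X] at h1
      exact sub_eq_zero.mp h1
  · rintro ⟨h1, h2, h3⟩ i
    rcases i with s | b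
    · simp only [rel, map_sub, aeval_cc, aeval_C]
      exact sub_eq_zero.mpr (congrFun h1 s)
    · cases b
      · by_cases hsp : sp = true
        · simp only [rel, if_pos hsp, map_sub, map_one, du, aeval_X]
          exact sub_eq_zero.mpr (h3 hsp)
        · simp only [rel, if_neg hsp, map_zero]
      · simp only [rel, map_sub, map_mul, map_one, aeval_det_Xu, du, aeval_X]
        exact sub_eq_zero.mpr h2

end sol

section smooth

open Groth.Agent.Lib.Seat37.PolyRep

/-- common part of the lifting arguments -/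
theorem exists_lift_core (sp : Bool) (a : Sym2 (Fin n) → R) (hdisc : IsUnit (PM a).det)
    (C : Type u) [CommRing C] [Algebra R C] (I : Ideal C) (hI : I ^ 2 = ⊥)
    (w : Var n → C ⧸ I) (hw : w ∈ Sol (rel sp a) (C ⧸ I)) :
    ∃ X' : Matrix (Fin n) (Fin n) C, X'.map (Ideal.Quotient.mk I) = vmat w ∧
      cc (algebraMap R C ∘ a) X' = algebraMap R C ∘ a ∧ IsUnit X'.det := by
  obtain ⟨hw1, hw2, -⟩ := (mem_Sol_iff sp a w).mp hw
  have hnil : IsNilpotent I := ⟨2, hI⟩
  -- a lift of the matrix
  let X₀ : Matrix (Fin n) (Fin n) C :=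
    Matrix.of fun i j => Function.surjInv Ideal.Quotient.mk_surjective (vmat w i j)
  have hX₀ : X₀.map (Ideal.Quotient.mk I) = vmat w := by
    ext i j
    exact Function.surjInv_eq Ideal.Quotient.mk_surjective _
  have hdet : ∀ Y : Matrix (Fin n) (Fin n) C, Y.map (Ideal.Quotient.mk I) = vmat w →
      IsUnit Y.det := by
    intro Y hY
    rw [← IsNilpotent.isUnit_quotient_mk_iff hnil, RingHom.map_det, RingHom.mapMatrix_apply, hY]
    exact IsUnit.of_mul_eq_one _ ((mul_comm _ _).trans hw2)
  have hmkalg : ((Ideal.Quotient.mk I : C →+* C ⧸ I) : C → C ⧸ I) ∘ (algebraMap R C ∘ a) =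
      algebraMap R (C ⧸ I) ∘ a := by
    funext p
    rfl
  have hcc : ∀ s, cc (algebraMap R C ∘ a) X₀ s - (algebraMap R C ∘ a) s ∈ I := by
    intro s
    rw [← Ideal.Quotient.eq_zero_iff_mem, map_sub]
    have h := congrFun (cc_map (Ideal.Quotient.mk I) (algebraMap R C ∘ a) X₀) s
    rw [hX₀, hmkalg, hw1] at h
    simp only [Function.comp] at h ⊢
    rw [h]
    exact sub_eq_zero.mpr rfl
  have hdiscC : IsUnit (PM (algebraMap R C ∘ a)).det := by
    rw [← PM_map, ← RingHom.mapMatrix_apply, ← RingHom.map_det]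
    exact hdisc.map _
  obtain ⟨X', hX'I, hX'cc⟩ := exists_lift_O I hI (algebraMap R C ∘ a) hdiscC X₀ (hdet X₀ hX₀) hcc
  have hX' : X'.map (Ideal.Quotient.mk I) = vmat w := by
    rw [← hX₀]
    ext i j
    simp only [Matrix.map_apply]
    exact Ideal.Quotient.eq.mpr (hX'I i j)
  exact ⟨X', hX', hX'cc, hdet X' hX'⟩

/-- the orthogonal group of a table with invertible polar matrix is formally smooth. -/
theorem formallySmooth_O (a : Sym2 (Fin n) → R) (hdisc : IsUnit (PM a).det) :
    Algebra.FormallySmooth R (Alg (rel false a)) := by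
  apply formallySmooth_of_lifting
  intro C _ _ I hI w hw
  obtain ⟨X', hX', hcc, hu⟩ := exists_lift_core false a hdisc C I hI w hw
  obtain ⟨-, hw2, -⟩ := (mem_Sol_iff false a w).mp hw
  obtain ⟨d, hd⟩ := hu.exists_left_inv
  refine ⟨vec X' d, (mem_Sol_iff false a _).mpr ⟨hcc, hd, fun h => absurd h (by simp)⟩, ?_⟩
  intro s
  rcases s with ⟨i, j⟩ | ⟨⟩
  · exact congrFun (congrFun hX' i) j
  · change Ideal.Quotient.mk I d = vdet w
    have h1 : Ideal.Quotient.mk I d * (vmat w).det = 1 := by
      rw [← hX', ← RingHom.mapMatrix_apply, ← RingHom.map_det, ← map_mul, hd, map_one]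
    have hu' : IsUnit (vmat w).det := IsUnit.of_mul_eq_one _ ((mul_comm _ _).trans hw2)
    exact hu'.mul_left_injective (h1.trans hw2.symm)

/-- the special orthogonal group when `2` is a unit and the polar matrix is invertible. -/
theorem formallySmooth_SO_of_two (a : Sym2 (Fin n) → R) (hdisc : IsUnit (PM a).det)
    (h2 : IsUnit (2 : R)) : Algebra.FormallySmooth R (Alg (rel true a)) := by
  apply formallySmooth_of_lifting
  intro C _ _ I hI w hw
  obtain ⟨X', hX', hcc, hu⟩ := exists_lift_core true a hdisc C I hI w hw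
  obtain ⟨-, hw2, hw3⟩ := (mem_Sol_iff true a w).mp hw
  have hw4 : (vmat w).det = 1 := by
    rw [hw3 rfl, one_mul] at hw2
    exact hw2
  -- `det X'` is `1`
  have hdiscC : IsUnit (PM (algebraMap R C ∘ a)).det := by
    rw [← PM_map, ← RingHom.mapMatrix_apply, ← RingHom.map_det]
    exact hdisc.map _
  have hsq : X'.det * X'.det = 1 := by
    have h := congrArg Matrix.det (PM_cc (algebraMap R C ∘ a) X')
    rw [hcc, det_mul, det_mul, det_transpose] at h
    have h' : (X'.det * X'.det) * (PM (algebraMap R C ∘ a)).det =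
        1 * (PM (algebraMap R C ∘ a)).det := by
      rw [one_mul]
      linear_combination -h
    exact hdiscC.mul_left_injective h'
  have hε : X'.det - 1 ∈ I := by
    rw [← Ideal.Quotient.eq_zero_iff_mem, map_sub, RingHom.map_det, RingHom.mapMatrix_apply, hX',
      hw4, map_one, sub_self]
  have hε2 : (X'.det - 1) * (X'.det - 1) = 0 := by
    have : (X'.det - 1) * (X'.det - 1) ∈ I ^ 2 := by
      rw [pow_two]
      exact Ideal.mul_mem_mul hε hε
    rw [hI] at this
    exact this
  have h2C : IsUnit (2 : C) := by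
    have := h2.map (algebraMap R C)
    rwa [map_ofNat] at this
  have hdet1 : X'.det = 1 := by
    have : (2 : C) * (X'.det - 1) = 0 := by linear_combination hsq - hε2
    have := (h2C.mul_right_eq_zero).mp this
    exact sub_eq_zero.mp this
  refine ⟨vec X' 1, (mem_Sol_iff true a _).mpr ⟨hcc, by rw [vmat_vec, vdet_vec, hdet1, one_mul],
    fun _ => rfl⟩, ?_⟩
  intro s
  rcases s with ⟨i, j⟩ | ⟨⟩
  · exact congrFun (congrFun hX' i) j
  · change Ideal.Quotient.mk I 1 = vdet w
    rw [map_one]
    exact (hw3 rfl).symm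

end smooth

end Groth.Agent.Lib.Seat37.QuadRel
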