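import Mathlib
import Groth.Agent.Lib.Seat37QuadGO
import Groth.Agent.Lib.Seat37QuadRel

/-!
# Smoothness of the naive special orthogonal group in odd rank (seat 37)

* `exists_lift_GO`: in odd rank with unit half-discriminant, an isometry modulo a square-zero
  ideal lifts to a similitude with multiplier `1 + γ`, `γ` in the ideal;
* `formallySmooth_SO_odd`: the coordinate algebra of `SO′` of a table of odd rank with unit
  half-discriminant is formally smooth (no hypothesis on `2`).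
-/

set_option autoImplicit false
set_option linter.unusedSectionVars false
universe u

namespace Groth.Agent.Lib.Seat37.QuadSO

open Matrix QuadGrp MvPolynomial
open Groth.Agent.S17014.Aux.HD Groth.Agent.Lib.Seat37.QuadTab Groth.Agent.Lib.Seat37.PolyRep
  Groth.Agent.Lib.Seat37.QuadRel Groth.Agent.Lib.Seat37.QuadGO

section lift

variable {C : Type*} [CommRing C] {n : ℕ}

theorem cc_smul_mat (a : Sym2 (Fin n) → C) (ν : C) (X : Matrix (Fin n) (Fin n) C) :
    cc a (ν • X) = (ν * ν) • cc a X := by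
  rw [cc_eq_tab, cc_eq_tab, transpose_smul, Matrix.smul_mul, Matrix.smul_mul, Matrix.mul_smul,
    smul_smul, tab_smul]

theorem exists_lift_GO (I : Ideal C) (hI : I ^ 2 = ⊥) (m : ℕ) (a : Sym2 (Fin (2 * m + 1)) → C)
    (hd : IsUnit (hdv a)) (X₀ : Matrix (Fin (2 * m + 1)) (Fin (2 * m + 1)) C)
    (hX₀ : IsUnit X₀.det) (hcc : ∀ s, cc a X₀ s - a s ∈ I) :
    ∃ (X'' : Matrix (Fin (2 * m + 1)) (Fin (2 * m + 1)) C) (γ : C),
      InI I (X'' - X₀) ∧ γ ∈ I ∧ cc a X'' = (1 + γ) • a := by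
  set U : Matrix (Fin (2 * m + 1)) (Fin (2 * m + 1)) C := UM a with hU
  set N : Matrix (Fin (2 * m + 1)) (Fin (2 * m + 1)) C := X₀ᵀ * U * X₀ with hN
  set δ₀ : Sym2 (Fin (2 * m + 1)) → C := fun s => a s - cc a X₀ s with hδ₀def
  have hδ₀ : ∀ s, δ₀ s ∈ I := fun s => by
    have := I.neg_mem (hcc s)
    rwa [neg_sub] at this
  set Xi : Matrix (Fin (2 * m + 1)) (Fin (2 * m + 1)) C := X₀⁻¹ with hXi
  have hXiX : Xi * X₀ = 1 := Matrix.nonsing_inv_mul _ hX₀
  have hXXi : X₀ * Xi = 1 := Matrix.mul_nonsing_inv _ hX₀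
  set E : Matrix (Fin (2 * m + 1)) (Fin (2 * m + 1)) C := Xiᵀ * UM δ₀ * Xi with hE
  have hEI : InI I E := ((InI_UM δ₀ hδ₀).mul_left _).mul_right _
  obtain ⟨Z₁, γ, hZ₁, hγ, hsol⟩ := surj_I m a hd I (tab E) (tab_mem hEI)
  set Z : Matrix (Fin (2 * m + 1)) (Fin (2 * m + 1)) C := Xi * Z₁ * X₀ with hZdef
  have hZ : InI I Z := (hZ₁.mul_left _).mul_right _
  refine ⟨X₀ + X₀ * Z, γ, ?_, hγ, ?_⟩
  · rw [add_sub_cancel_left]
    exact hZ.mul_left _
  · rw [cc_eq_tab]
    have e1 : (X₀ + X₀ * Z)ᵀ * U * (X₀ + X₀ * Z) = N + (Zᵀ * N + N * Z) + Zᵀ * N * Z := by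
      rw [hN]
      simp only [transpose_add, transpose_mul, Matrix.add_mul, Matrix.mul_add, Matrix.mul_assoc]
      abel
    have e2 : Zᵀ * N * Z = 0 := by
      rw [Matrix.mul_assoc]
      exact InI.mul_eq_zero hI hZ.transpose (hZ.mul_left _)
    have e3 : (N + Nᵀ) * Z = X₀ᵀ * (PM a * Z₁) * X₀ := by
      rw [hN, PM_eq_tab_free a X₀, hZdef]
      simp only [Matrix.mul_assoc]
      rw [← Matrix.mul_assoc X₀ Xi, hXXi, Matrix.one_mul]
    have e4 : tab (PM a * Z₁) = tab (E + γ • U) := by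
      rw [tab_add, tab_smul, hU, tab_UM, ← hsol]
      abel
    have e5 : X₀ᵀ * (E + γ • U) * X₀ = UM δ₀ + γ • N := by
      rw [Matrix.mul_add, Matrix.add_mul, Matrix.mul_smul, Matrix.smul_mul, hN]
      congr 1
      have hT : X₀ᵀ * Xiᵀ = 1 := by rw [← transpose_mul, hXiX, transpose_one]
      rw [hE]
      simp only [Matrix.mul_assoc]
      rw [hXiX, Matrix.mul_one, ← Matrix.mul_assoc, hT, Matrix.one_mul]
    rw [e1, e2, add_zero, tab_add, tab_transpose_mul_add, e3, tab_conj_of_tab_eq e4 X₀, e5,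
      tab_add, tab_smul, tab_UM, hN, ← cc_eq_tab]
    funext s
    simp only [Pi.add_apply, Pi.smul_apply, smul_eq_mul]
    have h0 : γ * δ₀ s = 0 := by
      have : γ * δ₀ s ∈ I ^ 2 := by
        rw [pow_two]
        exact Ideal.mul_mem_mul hγ (hδ₀ s)
      rw [hI] at this
      exact this
    simp only [hδ₀def] at h0 ⊢
    linear_combination -h0

end lift

section smooth

variable {R : Type u} [CommRing R]

/-- the naive special orthogonal group of a table of odd rank with unit half-discriminant is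
formally smooth. -/
theorem formallySmooth_SO_odd (m : ℕ) (a : Sym2 (Fin (2 * m + 1)) → R) (hd : IsUnit (hdv a)) :
    Algebra.FormallySmooth R (Alg (rel true a)) := by
  apply formallySmooth_of_lifting
  intro C _ _ I hI w hw
  obtain ⟨hw1, hw2, hw3⟩ := (mem_Sol_iff true a w).mp hw
  have hw4 : (vmat w).det = 1 := by
    rw [hw3 rfl, one_mul] at hw2
    exact hw2
  have hnil : IsNilpotent I := ⟨2, hI⟩
  set aC : Sym2 (Fin (2 * m + 1)) → C := algebraMap R C ∘ a with haC
  have hdC : IsUnit (hdv aC) := by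
    rw [haC, hdv_map]
    exact hd.map _
  -- a lift of the matrix
  let X₀ : Matrix (Fin (2 * m + 1)) (Fin (2 * m + 1)) C :=
    Matrix.of fun i j => Function.surjInv Ideal.Quotient.mk_surjective (vmat w i j)
  have hX₀ : X₀.map (Ideal.Quotient.mk I) = vmat w := by
    ext i j
    exact Function.surjInv_eq Ideal.Quotient.mk_surjective _
  have hX₀u : IsUnit X₀.det := by
    rw [← IsNilpotent.isUnit_quotient_mk_iff hnil, RingHom.map_det, RingHom.mapMatrix_apply, hX₀,
      hw4]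
    exact isUnit_one
  have hmkalg : ((Ideal.Quotient.mk I : C →+* C ⧸ I) : C → C ⧸ I) ∘ aC =
      algebraMap R (C ⧸ I) ∘ a := by
    funext p
    rfl
  have hcc : ∀ s, cc aC X₀ s - aC s ∈ I := by
    intro s
    rw [← Ideal.Quotient.eq_zero_iff_mem, map_sub]
    have h := congrFun (cc_map (Ideal.Quotient.mk I) aC X₀) s
    rw [hX₀, hmkalg, hw1] at h
    simp only [Function.comp] at h ⊢
    rw [h]
    exact sub_eq_zero.mpr rfl
  obtain ⟨X'', γ, hX''I, hγ, hcc''⟩ := exists_lift_GO I hI m aC hdC X₀ hX₀u hcc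
  have hX''mk : X''.map (Ideal.Quotient.mk I) = vmat w := by
    rw [← hX₀]
    ext i j
    simp only [Matrix.map_apply]
    exact Ideal.Quotient.eq.mpr (hX''I i j)
  set c : C := 1 + γ with hc
  set δ : C := X''.det with hδ
  have hγγ : γ * γ = 0 := by
    have : γ * γ ∈ I ^ 2 := by
      rw [pow_two]
      exact Ideal.mul_mem_mul hγ hγ
    rw [hI] at this
    exact this
  have hkey : δ ^ 2 * hdv aC = c ^ (2 * m + 1) * hdv aC := by
    have h1 := key_gen m aC X''
    rw [hcc''] at h1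
    exact h1.symm.trans (halfDisc_smul m aC c)
  have hδc : δ ^ 2 = c ^ (2 * m + 1) := hdC.mul_left_injective hkey
  have hcu : IsUnit c := IsUnit.of_mul_eq_one (1 - γ) (by rw [hc]; linear_combination -hγγ)
  have hδu : IsUnit δ := by
    have : IsUnit (δ ^ 2) := by rw [hδc]; exact hcu.pow _
    exact (isUnit_pow_iff two_ne_zero).mp this
  obtain ⟨δi, hδi⟩ := hδu.exists_left_inv
  set ν : C := c ^ m * δi with hν
  have hν2c : ν * ν * c = 1 := by
    calc ν * ν * c = c ^ (2 * m + 1) * (δi * δi) := by rw [hν]; ring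
      _ = δ ^ 2 * (δi * δi) := by rw [hδc]
      _ = (δi * δ) ^ 2 := by ring
      _ = 1 := by rw [hδi, one_pow]
  have hdet' : (ν • X'').det = 1 := by
    rw [det_smul, Fintype.card_fin, ← hδ]
    calc ν ^ (2 * m + 1) * δ = (ν * ν * c) ^ m * (δi * δ) := by rw [hν]; ring_nf
      _ = 1 := by rw [hν2c, hδi, one_pow, one_mul]
  have hcc' : cc aC (ν • X'') = aC := by
    rw [cc_smul_mat, hcc'', smul_smul, hν2c, one_smul]
  -- reduction modulo `I`
  have hmkc : Ideal.Quotient.mk I c = 1 := by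
    rw [hc, map_add, map_one, Ideal.Quotient.eq_zero_iff_mem.mpr hγ, add_zero]
  have hmkδ : Ideal.Quotient.mk I δ = 1 := by
    rw [hδ, RingHom.map_det, RingHom.mapMatrix_apply, hX''mk, hw4]
  have hmkδi : Ideal.Quotient.mk I δi = 1 := by
    have := congrArg (Ideal.Quotient.mk I) hδi
    rwa [map_mul, hmkδ, mul_one, map_one] at this
  have hmkν : Ideal.Quotient.mk I ν = 1 := by
    rw [hν, map_mul, map_pow, hmkc, hmkδi, one_pow, one_mul]
  refine ⟨vec (ν • X'') 1, (mem_Sol_iff true a _).mpr ⟨hcc', ?_, fun _ => rfl⟩, ?_⟩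
  · rw [vmat_vec, vdet_vec, hdet', one_mul]
  · intro s
    rcases s with ⟨i, j⟩ | ⟨⟩
    · change Ideal.Quotient.mk I (ν * X'' i j) = w (Sum.inl (i, j))
      rw [map_mul, hmkν, one_mul]
      exact congrFun (congrFun hX''mk i) j
    · change Ideal.Quotient.mk I 1 = vdet w
      rw [map_one]
      exact (hw3 rfl).symm

end smooth

end Groth.Agent.Lib.Seat37.QuadSO
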