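import Mathlib
import Groth.Agent.Lib.Seat37QuadSO
import Groth.Agent.Lib.Seat37QuadClassify

/-!
# The torsor of isometries with prescribed determinant, odd rank (seat 37)

For tables `b`, `a` of odd rank and a scalar `s` with `s ^ 2 * hdv b = hdv a`:
* `relT b a s`: relations `cc b X = a`, `det X = s` (and the spare variable is `0`);
* `formallySmooth_T`: the presented algebra is formally smooth when the half-discriminants are units;
* `exists_point_field`: over an algebraically closed field it has a point, for `b` the split table;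
* `faithfullyFlat_T`: hence it is faithfully flat over the base.
-/

set_option autoImplicit false
set_option linter.unusedSectionVars false
universe u

namespace Groth.Agent.Lib.Seat37.QuadTorsor

open Matrix QuadGrp MvPolynomial
open Groth.Agent.S17014.Aux.HD Groth.Agent.Lib.Seat37.QuadTab Groth.Agent.Lib.Seat37.PolyRep
  Groth.Agent.Lib.Seat37.QuadRel Groth.Agent.Lib.Seat37.QuadGO Groth.Agent.Lib.Seat37.QuadSO
  Groth.Agent.Lib.Seat37.QuadSplitTab Groth.Agent.Lib.Seat37.QuadClassify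

section basics

variable {S : Type*} [CommRing S] {n : ℕ}

theorem cc_one (a : Sym2 (Fin n) → S) : cc a (1 : Matrix (Fin n) (Fin n) S) = a := by
  rw [cc_eq_tab, transpose_one, Matrix.one_mul, Matrix.mul_one, tab_UM]

theorem cc_cc (a : Sym2 (Fin n) → S) (X Y : Matrix (Fin n) (Fin n) S) :
    cc (cc a X) Y = cc a (X * Y) := by
  rw [cc_eq_tab (cc a X) Y, cc_eq_tab a (X * Y), transpose_mul]
  have h : tab (UM (cc a X)) = tab (Xᵀ * UM a * X) := by rw [tab_UM, cc_eq_tab]
  rw [tab_conj_of_tab_eq h Y]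
  congr 1
  simp only [Matrix.mul_assoc]

end basics

section lift

variable {C : Type*} [CommRing C]

theorem exists_lift_T (I : Ideal C) (hI : I ^ 2 = ⊥) (m : ℕ)
    (a a' : Sym2 (Fin (2 * m + 1)) → C) (hd : IsUnit (hdv a')) (h : ∀ s, a s - a' s ∈ I) :
    ∃ (Y : Matrix (Fin (2 * m + 1)) (Fin (2 * m + 1)) C) (γ : C),
      InI I (Y - 1) ∧ γ ∈ I ∧ cc a' Y = (1 + γ) • a := by
  obtain ⟨Z, γ, hZ, hγ, hsol⟩ := surj_I m a' hd I (fun s => a s - a' s) h
  refine ⟨1 + Z, γ, by rwa [add_sub_cancel_left], hγ, ?_⟩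
  rw [cc_eq_tab]
  have e1 : (1 + Z)ᵀ * UM a' * (1 + Z) = UM a' + (Zᵀ * UM a' + UM a' * Z) + Zᵀ * UM a' * Z := by
    simp only [transpose_add, transpose_one, Matrix.add_mul, Matrix.mul_add, Matrix.one_mul,
      Matrix.mul_one]
    abel
  have e2 : Zᵀ * UM a' * Z = 0 := by
    rw [Matrix.mul_assoc]
    exact InI.mul_eq_zero hI hZ.transpose (hZ.mul_left _)
  rw [e1, e2, add_zero, tab_add, tab_transpose_mul_add, ← PM_eq, tab_UM]
  funext s
  have h1 := congrFun hsol s
  simp only [Pi.sub_apply, Pi.smul_apply, smul_eq_mul, Pi.add_apply] at h1 ⊢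
  have h0 : γ * (a s - a' s) = 0 := by
    have : γ * (a s - a' s) ∈ I ^ 2 := by
      rw [pow_two]
      exact Ideal.mul_mem_mul hγ (h s)
    rw [hI] at this
    exact this
  linear_combination h1 - h0

end lift

section rel

variable {R : Type u} [CommRing R] {n : ℕ}

/-- relations of the torsor: `cc b X = a`, `det X = s`, spare variable `0` -/
noncomputable def relT (b a : Sym2 (Fin n) → R) (s : R) : Idx n → MvPolynomial (Var n) R
  | Sum.inl p => cc (C ∘ b) (Xu R n) p - C (a p)
  | Sum.inr true => (Xu R n).det - C s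
  | Sum.inr false => du R n

variable {A : Type u} [CommRing A] [Algebra R A]

theorem mem_SolT_iff (b a : Sym2 (Fin n) → R) (s : R) (v : Var n → A) :
    v ∈ Sol (relT b a s) A ↔
      cc (algebraMap R A ∘ b) (vmat v) = algebraMap R A ∘ a ∧
        (vmat v).det = algebraMap R A s ∧ vdet v = 0 := by
  constructor
  · intro h
    refine ⟨?_, ?_, ?_⟩
    · funext p
      have h1 := h (Sum.inl p)
      simp only [relT, map_sub, aeval_cc, aeval_C] at h1
      exact sub_eq_zero.mp h1
    · have h1 := h (Sum.inr true)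
      simp only [relT, map_sub, aeval_det_Xu, aeval_C] at h1
      exact sub_eq_zero.mp h1
    · have h1 := h (Sum.inr false)
      simp only [relT, du, aeval_X] at h1
      exact h1
  · rintro ⟨h1, h2, h3⟩ i
    rcases i with p | bb
    · simp only [relT, map_sub, aeval_cc, aeval_C]
      exact sub_eq_zero.mpr (congrFun h1 p)
    · cases bb
      · simp only [relT, du, aeval_X]
        exact h3
      · simp only [relT, map_sub, aeval_det_Xu, aeval_C]
        exact sub_eq_zero.mpr h2

end rel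

section smooth

variable {R : Type u} [CommRing R]

/-- the torsor algebra is formally smooth. -/
theorem formallySmooth_T (m : ℕ) (b a : Sym2 (Fin (2 * m + 1)) → R) (s : R)
    (hb : IsUnit (hdv b)) (ha : IsUnit (hdv a)) (hs : s ^ 2 * hdv b = hdv a) :
    Algebra.FormallySmooth R (Alg (relT b a s)) := by
  apply formallySmooth_of_lifting
  intro C _ _ I hI w hw
  obtain ⟨hw1, hw2, hw3⟩ := (mem_SolT_iff b a s w).mp hw
  have hnil : IsNilpotent I := ⟨2, hI⟩
  have hsu : IsUnit s := by
    have : IsUnit (s ^ 2) := by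
      rw [← hs] at ha
      exact isUnit_of_mul_isUnit_left ha
    exact (isUnit_pow_iff two_ne_zero).mp this
  set aC : Sym2 (Fin (2 * m + 1)) → C := algebraMap R C ∘ a with haC
  set bC : Sym2 (Fin (2 * m + 1)) → C := algebraMap R C ∘ b with hbC
  set sC : C := algebraMap R C s with hsC
  have hdb : IsUnit (hdv bC) := by
    rw [hbC, hdv_map]
    exact hb.map _
  have hsCu : IsUnit sC := hsu.map _
  have hsCeq : sC ^ 2 * hdv bC = hdv aC := by
    rw [haC, hbC, hdv_map, hdv_map, hsC, ← map_pow, ← map_mul, hs]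
  -- a lift of the matrix
  let X₀ : Matrix (Fin (2 * m + 1)) (Fin (2 * m + 1)) C :=
    Matrix.of fun i j => Function.surjInv Ideal.Quotient.mk_surjective (vmat w i j)
  have hX₀ : X₀.map (Ideal.Quotient.mk I) = vmat w := by
    ext i j
    exact Function.surjInv_eq Ideal.Quotient.mk_surjective _
  have hX₀u : IsUnit X₀.det := by
    rw [← IsNilpotent.isUnit_quotient_mk_iff hnil, RingHom.map_det, RingHom.mapMatrix_apply, hX₀,
      hw2]
    exact hsu.map _
  set a' : Sym2 (Fin (2 * m + 1)) → C := cc bC X₀ with ha'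
  have hd' : IsUnit (hdv a') := by
    have := key_gen m bC X₀
    rw [ha', hdv, this]
    exact (hX₀u.pow 2).mul hdb
  have hmkalg : ((Ideal.Quotient.mk I : C →+* C ⧸ I) : C → C ⧸ I) ∘ bC =
      algebraMap R (C ⧸ I) ∘ b := by
    funext p
    rfl
  have hcc : ∀ p, aC p - a' p ∈ I := by
    intro p
    rw [← Ideal.Quotient.eq_zero_iff_mem, map_sub]
    have h := congrFun (cc_map (Ideal.Quotient.mk I) bC X₀) p
    rw [hX₀, hmkalg, hw1] at h
    simp only [Function.comp] at h
    rw [ha', h]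
    exact sub_eq_zero.mpr rfl
  obtain ⟨Y, γ, hY, hγ, hccY⟩ := exists_lift_T I hI m aC a' hd' hcc
  set X'' : Matrix (Fin (2 * m + 1)) (Fin (2 * m + 1)) C := X₀ * Y with hX''
  have hcc'' : cc bC X'' = (1 + γ) • aC := by
    rw [hX'', ← cc_cc, ← ha', hccY]
  have hX''I : InI I (X'' - X₀) := by
    have : X'' - X₀ = X₀ * (Y - 1) := by rw [hX'', Matrix.mul_sub, Matrix.mul_one]
    rw [this]
    exact hY.mul_left _
  have hX''mk : X''.map (Ideal.Quotient.mk I) = vmat w := by
    rw [← hX₀]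
    ext i j
    simp only [Matrix.map_apply]
    exact Ideal.Quotient.eq.mpr (hX''I i j)
  set c : C := 1 + γ with hc
  set δ : C := X''.det with hδ
  have hγγ : γ * γ = 0 := by
    have : γ * γ ∈ I ^ 2 := by
      rw [pow_two]
      exact Ideal.mul_mem_mul hγ hγ
    rw [hI] at this
    exact this
  have hkey : δ ^ 2 * hdv bC = c ^ (2 * m + 1) * sC ^ 2 * hdv bC := by
    have h1 := key_gen m bC X''
    rw [hcc''] at h1
    have h2 := halfDisc_smul m aC c
    rw [mul_assoc, hsCeq, ← h2]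
    exact h1.symm
  have hδc : δ ^ 2 = c ^ (2 * m + 1) * sC ^ 2 := hdb.mul_left_injective hkey
  have hcu : IsUnit c := IsUnit.of_mul_eq_one (1 - γ) (by rw [hc]; linear_combination -hγγ)
  have hδu : IsUnit δ := by
    have : IsUnit (δ ^ 2) := by rw [hδc]; exact (hcu.pow _).mul (hsCu.pow _)
    exact (isUnit_pow_iff two_ne_zero).mp this
  obtain ⟨δi, hδi⟩ := hδu.exists_left_inv
  set ν : C := c ^ m * sC * δi with hν
  have hν2c : ν * ν * c = 1 := by
    calc ν * ν * c = c ^ (2 * m + 1) * sC ^ 2 * (δi * δi) := by rw [hν]; ring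
      _ = δ ^ 2 * (δi * δi) := by rw [hδc]
      _ = (δi * δ) ^ 2 := by ring
      _ = 1 := by rw [hδi, one_pow]
  have hdet' : (ν • X'').det = sC := by
    rw [det_smul, Fintype.card_fin, ← hδ]
    calc ν ^ (2 * m + 1) * δ = (ν * ν * c) ^ m * (sC * (δi * δ)) := by rw [hν]; ring_nf
      _ = sC := by rw [hν2c, hδi, one_pow, one_mul, mul_one]
  have hcc' : cc bC (ν • X'') = aC := by
    rw [cc_smul_mat, hcc'', smul_smul, hν2c, one_smul]
  -- reduction modulo `I`
  have hmkc : Ideal.Quotient.mk I c = 1 := by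
    rw [hc, map_add, map_one, Ideal.Quotient.eq_zero_iff_mem.mpr hγ, add_zero]
  have hmkδ : Ideal.Quotient.mk I δ = Ideal.Quotient.mk I sC := by
    rw [hδ, RingHom.map_det, RingHom.mapMatrix_apply, hX''mk, hw2]
    rfl
  have hmkν : Ideal.Quotient.mk I ν = 1 := by
    have h1 := congrArg (Ideal.Quotient.mk I) hδi
    rw [map_mul, hmkδ, map_one] at h1
    rw [hν, map_mul, map_mul, map_pow, hmkc, one_pow, one_mul, mul_comm]
    exact h1
  refine ⟨vec (ν • X'') 0, (mem_SolT_iff b a s _).mpr ⟨hcc', ?_, rfl⟩, ?_⟩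
  · rw [vmat_vec, hdet']
  · intro t
    rcases t with ⟨i, j⟩ | ⟨⟩
    · change Ideal.Quotient.mk I (ν * X'' i j) = w (Sum.inl (i, j))
      rw [map_mul, hmkν, one_mul]
      exact congrFun (congrFun hX''mk i) j
    · change Ideal.Quotient.mk I 0 = vdet w
      rw [map_zero]
      exact hw3.symm

end smooth

section field

open Groth.Agent.Lib.Helper25.HalfDisc

variable {K : Type u} [Field K] [IsAlgClosed K]

/-- over an algebraically closed field, a table of odd rank with non-zero half-discriminant is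
the transform of the split table by a matrix of prescribed determinant. -/
theorem exists_point_field (m : ℕ) (a : Sym2 (Fin (2 * m + 1)) → K) (s : K)
    (ha : hdv a ≠ 0) (hs : s ^ 2 * hdv (bsp K (2 * m + 1)) = hdv a) :
    ∃ X : Matrix (Fin (2 * m + 1)) (Fin (2 * m + 1)) K,
      cc (bsp K (2 * m + 1)) X = a ∧ X.det = s := by
  classical
  set Q : QuadraticForm K (Fin (2 * m + 1) → K) := qf (UM a) with hQ
  have hcoef : coeffs (Pi.basisFun K (Fin (2 * m + 1))) (LinearEquiv.refl K K) Q = a := by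
    rw [hQ, coeffs_qf, tab_UM]
  have hnd : Q.Nondegenerate := by
    rw [← field_case (Pi.basisFun K (Fin (2 * m + 1))) Q, halfDisc, hcoef]
    exact ha
  obtain ⟨e, he1, he2⟩ := exists_splitFam m (Fin (2 * m + 1) → K) Q
    (by rw [Module.finrank_fin_fun]) hnd
  set g : (Fin (2 * m + 1) → K) →ₗ[K] (Fin (2 * m + 1) → K) :=
    (Pi.basisFun K (Fin (2 * m + 1))).constr K e with hg
  have hgb : ∀ i, g (Pi.basisFun K (Fin (2 * m + 1)) i) = e i := fun i => by
    rw [hg, Module.Basis.constr_basis]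
  set Y : Matrix (Fin (2 * m + 1)) (Fin (2 * m + 1)) K :=
    LinearMap.toMatrix (Pi.basisFun K (Fin (2 * m + 1))) (Pi.basisFun K (Fin (2 * m + 1))) g with hY
  have hccY : cc a Y = bsp K (2 * m + 1) := by
    have h1 := coeffs_comp (Pi.basisFun K (Fin (2 * m + 1))) Q g
    rw [hcoef] at h1
    rw [hY, ← h1]
    funext p
    induction p using Sym2.ind with
    | _ k l =>
      rw [coeffs_mk, bsp_mk]
      simp only [LinearEquiv.refl_apply]
      by_cases hkl : k = l
      · subst hkl
        rw [if_pos rfl, QuadraticMap.comp_apply, hgb, he1]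
      · rw [if_neg hkl]
        simp only [QuadraticMap.polar, QuadraticMap.comp_apply, map_add, hgb]
        exact he2 k l hkl
  have hbu : hdv (bsp K (2 * m + 1)) ≠ 0 := (isUnit_hdv_bsp K m).ne_zero
  have hYdet : Y.det ≠ 0 := by
    intro h0
    have h1 := key_gen m a Y
    rw [hccY, h0] at h1
    apply hbu
    rw [hdv, h1]
    ring
  have hYu : IsUnit Y.det := isUnit_iff_ne_zero.mpr hYdet
  set X₁ : Matrix (Fin (2 * m + 1)) (Fin (2 * m + 1)) K := Y⁻¹ with hX₁
  have hccX₁ : cc (bsp K (2 * m + 1)) X₁ = a := by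
    rw [← hccY, cc_cc, hX₁, Matrix.mul_nonsing_inv _ hYu, cc_one]
  have hdet : X₁.det ^ 2 = s ^ 2 := by
    have h1 := key_gen m (bsp K (2 * m + 1)) X₁
    rw [hccX₁] at h1
    have h2 : X₁.det ^ 2 * hdv (bsp K (2 * m + 1)) = s ^ 2 * hdv (bsp K (2 * m + 1)) := by
      rw [hs]
      exact h1.symm
    exact mul_right_cancel₀ hbu h2
  rcases sq_eq_sq_iff_eq_or_eq_neg.mp hdet with h | h
  · exact ⟨X₁, hccX₁, h⟩
  · refine ⟨(-1 : K) • X₁, ?_, ?_⟩
    · rw [cc_smul_mat, hccX₁]
      simp
    · rw [det_smul, Fintype.card_fin, h, Odd.neg_one_pow ⟨m, rfl⟩]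
      ring

end field

section flat

variable {R : Type u} [CommRing R]

theorem ne_top_of_point {T : Type*} [CommRing T] [Algebra R T] (𝔪 : Ideal R) (K : Type*) [Field K]
    [Algebra R K] (h𝔪 : ∀ r ∈ 𝔪, algebraMap R K r = 0) (f : T →ₐ[R] K) :
    𝔪 • (⊤ : Submodule R T) ≠ ⊤ := by
  intro htop
  have hle : 𝔪 • (⊤ : Submodule R T) ≤ LinearMap.ker f.toLinearMap := by
    rw [Submodule.smul_le]
    intro r hr t _
    rw [LinearMap.mem_ker, AlgHom.toLinearMap_apply, map_smul, Algebra.smul_def, h𝔪 r hr,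
      zero_mul]
  have h1 : (1 : T) ∈ LinearMap.ker f.toLinearMap := by
    apply hle
    rw [htop]
    exact Submodule.mem_top
  rw [LinearMap.mem_ker, AlgHom.toLinearMap_apply, map_one] at h1
  exact one_ne_zero h1

/-- the torsor algebra (target the split table) is faithfully flat. -/
theorem faithfullyFlat_T (m : ℕ) (a : Sym2 (Fin (2 * m + 1)) → R) (s : R)
    (ha : IsUnit (hdv a)) (hs : s ^ 2 * hdv (bsp R (2 * m + 1)) = hdv a) :
    Module.FaithfullyFlat R (Alg (relT (bsp R (2 * m + 1)) a s)) := by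
  have : Algebra.FormallySmooth R (Alg (relT (bsp R (2 * m + 1)) a s)) :=
    formallySmooth_T m _ a s (isUnit_hdv_bsp R m) ha hs
  have : Algebra.Smooth R (Alg (relT (bsp R (2 * m + 1)) a s)) := ⟨inferInstance, inferInstance⟩
  have : Module.Flat R (Alg (relT (bsp R (2 * m + 1)) a s)) := inferInstance
  refine ⟨fun 𝔪 hmax htop => ?_⟩
  let _ : Field (R ⧸ 𝔪) := Ideal.Quotient.field 𝔪
  let K := AlgebraicClosure (R ⧸ 𝔪)
  let φ : R →+* K := algebraMap R K
  have hφ𝔪 : ∀ r ∈ 𝔪, φ r = 0 := by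
    intro r hr
    change algebraMap R K r = 0
    rw [IsScalarTower.algebraMap_apply R (R ⧸ 𝔪) K, Ideal.Quotient.algebraMap_eq,
      Ideal.Quotient.eq_zero_iff_mem.mpr hr, map_zero]
  have haK : hdv (φ ∘ a) ≠ 0 := by
    rw [hdv_map]
    exact (ha.map φ).ne_zero
  have hsK : (φ s) ^ 2 * hdv (bsp K (2 * m + 1)) = hdv (φ ∘ a) := by
    rw [← map_bsp φ, hdv_map, hdv_map, ← map_pow, ← map_mul, hs]
  obtain ⟨X, hX1, hX2⟩ := exists_point_field m (φ ∘ a) (φ s) haK hsK
  have hv : QuadRel.vec X 0 ∈ Sol (relT (bsp R (2 * m + 1)) a s) K := by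
    rw [mem_SolT_iff, map_bsp (algebraMap R K)]
    exact ⟨hX1, hX2, rfl⟩
  exact ne_top_of_point 𝔪 K hφ𝔪 (ofSol (QuadRel.vec X 0) hv) htop

end flat

end Groth.Agent.Lib.Seat37.QuadTorsor
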