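import Mathlib
import Groth.Prelude.Def_QuadGrp
import Groth.Agent.Lib.Helper25HalfDisc
import Groth.Agent.Lib.Seat37QuadSplitTab
import Groth.Agent.S17003

/-!
# fppf-local splitting of a semiregular odd-rank quadratic form on a free module (seat 37)

`exists_split`: for `Q` on a module with basis `b : Basis (Fin (2m+1)) R M` with unit
half-discriminant there is a faithfully flat finitely presented `A` and an isometry between the base
change of `Q` to `A` and the split form over `A` (on `Fin (2m+1) → A`).
-/

set_option autoImplicit false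
universe u v

namespace Groth.Agent.Lib.Seat37.CliffSetup

open TensorProduct QuadGrp

section iso

variable {R : Type u} [CommRing R] {M : Type v} [AddCommGroup M] [Module R M] [Module.Free R M]
variable (A : Type u) [CommRing A] [Algebra R A]
variable {N : Type*} [AddCommGroup N] [Module A N]

/-- an `A`-linear equivalence `A ⊗ M ≃ N` carrying `Q` on `1 ⊗ m` to `Q₂` is an isometry from the
base change of `Q`. -/
noncomputable def isoOfEquiv (Q : QuadraticForm R M) (Q₂ : QuadraticForm A N)
    (e : A ⊗[R] M ≃ₗ[A] N)
    (h : ∀ x : M, Q₂ (e ((1 : A) ⊗ₜ[R] x)) = algebraMap R A (Q x)) :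
    (baseChangeForm A Q).IsometryEquiv Q₂ :=
  { e with
    map_app' := fun x => by
      have h2 : Q₂.comp e.toLinearMap = baseChangeForm A Q :=
        _root_.baseChange_ext (fun x => by
          rw [QuadraticMap.comp_apply, Groth.Agent.Lib.Helper25.HalfDisc.baseChangeForm_one_tmul]
          exact h x)
      exact congrArg (fun q : QuadraticForm A (A ⊗[R] M) => q x) h2 }

end iso

variable {R : Type u} [CommRing R] {M : Type v} [AddCommGroup M] [Module R M]

theorem coeffs_comp_equivFun {n : ℕ} (b : Module.Basis (Fin n) R M) (Q : QuadraticForm R M) :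
    coeffs (Pi.basisFun R (Fin n)) (LinearEquiv.refl R R)
      (Q.comp b.equivFun.symm.toLinearMap) = coeffs b (LinearEquiv.refl R R) Q := by
  have hb : ∀ i, b.equivFun.symm (Pi.basisFun R (Fin n) i) = b i := by
    intro i
    rw [Module.Basis.equivFun_symm_apply]
    simp [Pi.basisFun_apply, Pi.single_apply]
  funext p
  induction p using Sym2.ind with
  | _ i j =>
    simp only [coeffs_mk, LinearEquiv.refl_apply, QuadraticMap.comp_apply, QuadraticMap.polar,
      LinearEquiv.coe_coe, map_add, hb]

theorem exists_split (m : ℕ) (b : Module.Basis (Fin (2 * m + 1)) R M) (Q : QuadraticForm R M)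
    (hQ : IsSemiregular b (LinearEquiv.refl R R) Q) :
    ∃ (A : Type u) (_ : CommRing A) (_ : Algebra R A), Module.FaithfullyFlat R A ∧
      Algebra.FinitePresentation R A ∧
      Nonempty ((@baseChangeForm R _ M _ _ A _ _ (Module.Free.of_basis b) Q).IsometryEquiv
        (splitForm A (2 * m + 1))) := by
  have : Module.Free R M := Module.Free.of_basis b
  set Q₀ : QuadraticForm R (Fin (2 * m + 1) → R) := Q.comp b.equivFun.symm.toLinearMap with hQ₀
  have hQ₀s : IsSemiregular (Pi.basisFun R (Fin (2 * m + 1))) (LinearEquiv.refl R R) Q₀ := by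
    unfold IsSemiregular halfDisc at hQ ⊢
    rw [hQ₀, coeffs_comp_equivFun]
    exact hQ
  obtain ⟨A, iA, iAlg, hff, hfp, ⟨φ₂⟩⟩ := Groth.Agent.S17003.result R m Q₀ hQ₀s
  refine ⟨A, iA, iAlg, hff, hfp, ⟨?_⟩⟩
  have φ₁ : (baseChangeForm A Q).IsometryEquiv (baseChangeForm A Q₀) :=
    isoOfEquiv A Q (baseChangeForm A Q₀) (b.equivFun.baseChange R A _ _) (fun x => by
      rw [LinearEquiv.baseChange_tmul, Groth.Agent.Lib.Helper25.HalfDisc.baseChangeForm_one_tmul,
        hQ₀, QuadraticMap.comp_apply]
      simp)
  have φ₃ : (baseChangeForm A (splitForm R (2 * m + 1))).IsometryEquiv (splitForm A (2 * m + 1)) :=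
    isoOfEquiv A (splitForm R (2 * m + 1)) (splitForm A (2 * m + 1))
      (TensorProduct.piScalarRight R A A (Fin (2 * m + 1))) (fun x => by
        rw [TensorProduct.piScalarRight_apply, TensorProduct.piScalarRightHom_tmul,
          Groth.Agent.Lib.Seat37.QuadSplitTab.splitForm_apply,
          Groth.Agent.Lib.Seat37.QuadSplitTab.splitForm_apply]
        simp only [map_add, map_mul, map_sum, Algebra.algebraMap_eq_smul_one])
  exact φ₁.trans (φ₂.trans φ₃)

end Groth.Agent.Lib.Seat37.CliffSetup
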