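import Mathlib

/-!
# The top-coefficient functional on a Clifford algebra, `2` invertible (seat 37)

* `contractLeft_map`, `changeForm_map`: naturality of contraction and of `changeForm` under
  `CliffordAlgebra.map`;
* `equivExterior_map`: for `2` invertible, `equivExterior` is equivariant under isometries;
* `top b`: the functional on the exterior algebra reading off the coefficient of the top wedge of the
  basis `b`; `top_map`: it is multiplied by `det f` under `ExteriorAlgebra.map f`;
* `tau`: the composite on the Clifford algebra, with `tau_map`;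
* `changeForm_list_prod`: `changeForm` of a product of pairwise orthogonal vectors.
-/

set_option autoImplicit false
universe u v w

namespace Groth.Agent.Lib.Seat37.CliffTop

open CliffordAlgebra LinearMap

section naturality

variable {R : Type u} [CommRing R] {M₁ : Type v} [AddCommGroup M₁] [Module R M₁]
  {M₂ : Type w} [AddCommGroup M₂] [Module R M₂]

theorem contractLeft_map {Q₁ : QuadraticForm R M₁} {Q₂ : QuadraticForm R M₂} (f : Q₁ →qᵢ Q₂)
    (d : Module.Dual R M₂) (x : CliffordAlgebra Q₁) :
    contractLeft d (CliffordAlgebra.map f x) =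
      CliffordAlgebra.map f (contractLeft (d ∘ₗ f.toLinearMap) x) := by
  induction x using CliffordAlgebra.left_induction with
  | algebraMap r => simp only [AlgHom.commutes, contractLeft_algebraMap, map_zero]
  | add x y hx hy => rw [map_add, map_add, map_add, map_add, hx, hy]
  | ι_mul x m hx =>
    rw [map_mul, map_apply_ι, contractLeft_ι_mul, contractLeft_ι_mul, hx, map_sub, map_smul,
      map_mul, map_apply_ι]
    rfl

theorem changeForm_map {Q₁ Q₁' : QuadraticForm R M₁} {Q₂ Q₂' : QuadraticForm R M₂}
    (f : Q₁ →qᵢ Q₂) (f' : Q₁' →qᵢ Q₂') (hff' : ∀ x, f x = f' x)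
    {B₁ : LinearMap.BilinForm R M₁} {B₂ : LinearMap.BilinForm R M₂} (h₁ : B₁.toQuadraticMap = Q₁' - Q₁)
    (h₂ : B₂.toQuadraticMap = Q₂' - Q₂) (hB : ∀ x y, B₂ (f x) (f y) = B₁ x y)
    (x : CliffordAlgebra Q₁) :
    changeForm h₂ (CliffordAlgebra.map f x) = CliffordAlgebra.map f' (changeForm h₁ x) := by
  induction x using CliffordAlgebra.left_induction with
  | algebraMap r => simp only [AlgHom.commutes, changeForm_algebraMap]
  | add x y hx hy => rw [map_add, map_add, map_add, map_add, hx, hy]
  | ι_mul x m hx =>
    rw [map_mul, map_apply_ι, changeForm_ι_mul, changeForm_ι_mul, hx, map_sub, map_mul,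
      map_apply_ι, contractLeft_map, hff']
    have hd : B₂ (f' m) ∘ₗ f'.toLinearMap = B₁ m := by
      ext y
      rw [LinearMap.comp_apply]
      change B₂ (f' m) (f' y) = B₁ m y
      rw [← hff', ← hff', hB]
    rw [hd]

end naturality

section equivariant

variable {R : Type u} [CommRing R] [Invertible (2 : R)] {M : Type v} [AddCommGroup M] [Module R M]

/-- an isometry, as an isometry of the zero forms -/
def zeroIsometry {Q : QuadraticForm R M} (h : Q →qᵢ Q) :
    (0 : QuadraticForm R M) →qᵢ (0 : QuadraticForm R M) :=
  { h.toLinearMap with map_app' := fun _ => rfl }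

theorem equivExterior_map (Q : QuadraticForm R M) (h : Q →qᵢ Q) (x : CliffordAlgebra Q) :
    equivExterior Q (CliffordAlgebra.map h x) =
      ExteriorAlgebra.map h.toLinearMap (equivExterior Q x) := by
  change changeForm changeForm.associated_neg_proof (CliffordAlgebra.map h x) =
    CliffordAlgebra.map (zeroIsometry h) (changeForm changeForm.associated_neg_proof x)
  refine changeForm_map h (zeroIsometry h) (fun _ => rfl) _ _ (fun x y => ?_) x
  rw [QuadraticMap.associated_apply, QuadraticMap.associated_apply]
  simp only [_root_.neg_apply, ← map_add, QuadraticMap.Isometry.map_app]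

end equivariant

section top

variable {R : Type u} [CommRing R] {M : Type v} [AddCommGroup M] [Module R M] {n : ℕ}

/-- the coefficient of the top wedge of the basis `b` -/
noncomputable def top (b : Module.Basis (Fin n) R M) : ExteriorAlgebra R M →ₗ[R] R :=
  ExteriorAlgebra.liftAlternating
    (Pi.single (M := fun i => M [⋀^Fin i]→ₗ[R] R) n b.det)

theorem top_ιMulti (b : Module.Basis (Fin n) R M) (v : Fin n → M) :
    top b (ExteriorAlgebra.ιMulti R n v) = b.det v := by
  rw [top, ExteriorAlgebra.liftAlternating_apply_ιMulti, Pi.single_eq_same]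

theorem top_ιMulti_of_ne (b : Module.Basis (Fin n) R M) {k : ℕ} (hk : k ≠ n) (v : Fin k → M) :
    top b (ExteriorAlgebra.ιMulti R k v) = 0 := by
  rw [top, ExteriorAlgebra.liftAlternating_apply_ιMulti, Pi.single_eq_of_ne hk]
  rfl

theorem top_map (b : Module.Basis (Fin n) R M) (f : M →ₗ[R] M) (y : ExteriorAlgebra R M) :
    top b (ExteriorAlgebra.map f y) = LinearMap.det f * top b y := by
  have h : (top b) ∘ₗ (ExteriorAlgebra.map f).toLinearMap = LinearMap.det f • top b := by
    apply ExteriorAlgebra.lhom_ext
    intro k
    ext v
    simp only [LinearMap.compAlternatingMap_apply, LinearMap.comp_apply, AlgHom.toLinearMap_apply,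
      LinearMap.smul_apply, ExteriorAlgebra.map_apply_ιMulti]
    by_cases hk : k = n
    · subst hk
      rw [top_ιMulti, top_ιMulti, Module.Basis.det_comp, smul_eq_mul]
    · rw [top_ιMulti_of_ne b hk, top_ιMulti_of_ne b hk, smul_zero]
  exact LinearMap.congr_fun h y

end top

section tau

variable {R : Type u} [CommRing R] [Invertible (2 : R)] {M : Type v} [AddCommGroup M] [Module R M]
  {n : ℕ}

/-- the top coefficient of an element of the Clifford algebra -/
noncomputable def tau (Q : QuadraticForm R M) (b : Module.Basis (Fin n) R M) :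
    CliffordAlgebra Q →ₗ[R] R :=
  top b ∘ₗ (equivExterior Q).toLinearMap

theorem tau_map (Q : QuadraticForm R M) (b : Module.Basis (Fin n) R M) (h : Q →qᵢ Q)
    (x : CliffordAlgebra Q) :
    tau Q b (CliffordAlgebra.map h x) = LinearMap.det h.toLinearMap * tau Q b x := by
  change top b (equivExterior Q (CliffordAlgebra.map h x)) = _ * top b (equivExterior Q x)
  rw [equivExterior_map, top_map]

end tau

section orth

variable {R : Type u} [CommRing R] {M : Type v} [AddCommGroup M] [Module R M]

theorem contractLeft_list_prod_eq_zero {Q : QuadraticForm R M} (d : Module.Dual R M) (l : List M)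
    (hl : ∀ w ∈ l, d w = 0) : contractLeft d (l.map (ι Q)).prod = 0 := by
  induction l with
  | nil => simp
  | cons v l ih =>
    rw [List.map_cons, List.prod_cons, contractLeft_ι_mul, hl v List.mem_cons_self, zero_smul,
      ih (fun w hw => hl w (List.mem_cons_of_mem _ hw)), mul_zero, sub_zero]

theorem changeForm_list_prod {Q Q' : QuadraticForm R M} {B : LinearMap.BilinForm R M}
    (h : B.toQuadraticMap = Q' - Q) (l : List M) (hl : l.Pairwise fun x y => B x y = 0) :
    changeForm h (l.map (ι Q)).prod = (l.map (ι Q')).prod := by
  induction l with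
  | nil => simp
  | cons v l ih =>
    rw [List.pairwise_cons] at hl
    rw [List.map_cons, List.prod_cons, changeForm_ι_mul, ih hl.2, List.map_cons, List.prod_cons,
      contractLeft_list_prod_eq_zero (B v) l hl.1, sub_zero]

theorem equivExterior_list_prod [Invertible (2 : R)] (Q : QuadraticForm R M) (l : List M)
    (hl : l.Pairwise fun x y => QuadraticMap.polar Q x y = 0) :
    equivExterior Q (l.map (ι Q)).prod = (l.map (ExteriorAlgebra.ι R)).prod := by
  change changeForm changeForm.associated_neg_proof (l.map (ι Q)).prod = _
  refine changeForm_list_prod _ l (hl.imp ?_)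
  intro x y hxy
  rw [QuadraticMap.associated_apply]
  simp only [_root_.neg_apply]
  have : -Q (x + y) - -Q x - -Q y = -QuadraticMap.polar Q x y := by
    unfold QuadraticMap.polar; ring
  rw [this, hxy, neg_zero, smul_zero]

end orth

end Groth.Agent.Lib.Seat37.CliffTop
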