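import Mathlib
import Groth.Prelude.Def_QuadGrp
import Groth.Agent.Lib.Seat37CliffTop
import Groth.Agent.Lib.Seat37CliffZeta

/-!
# The top coefficient of the odd central unit of the split form (seat 37)

For `2` invertible: `tau_zeta : tau T (Pi.basisFun _ _) (zeta S m) = 2 ^ m`.
-/

set_option autoImplicit false
universe u

namespace Groth.Agent.Lib.Seat37.CliffTopZeta

open CliffordAlgebra Groth.Agent.Lib.Seat37.CliffTop Groth.Agent.Lib.Seat37.CliffZeta

variable (S : Type u) [CommRing S] (m : ℕ)

local notation "T" => QuadGrp.splitForm S (2 * m + 1)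
local notation "V" => Fin (2 * m + 1) → S

/-- the orthogonal vectors whose product is `zeta` -/
noncomputable def L : ℕ → List V
  | 0 => [bv S m 0]
  | j + 1 => L j ++ [bv S m (2 * j + 1) - bv S m (2 * j + 2), bv S m (2 * j + 1) + bv S m (2 * j + 2)]

theorem ι_sub_mul_ι_add {j : ℕ} (hj : j < m) :
    ι T (bv S m (2 * j + 1) - bv S m (2 * j + 2)) * ι T (bv S m (2 * j + 1) + bv S m (2 * j + 2)) =
      om S m j := by
  have ha : ι T (bv S m (2 * j + 1)) * ι T (bv S m (2 * j + 1)) = 0 := by
    rw [ι_sq_scalar, T_bv S m (by omega), if_neg (by omega), map_zero]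
  have hb : ι T (bv S m (2 * j + 2)) * ι T (bv S m (2 * j + 2)) = 0 := by
    rw [ι_sq_scalar, T_bv S m (by omega), if_neg (by omega), map_zero]
  rw [om_of_lt S m hj, w, map_sub, map_add, sub_mul, mul_add, mul_add, ha, hb]
  abel

theorem prod_L (j : ℕ) (hj : j ≤ m) :
    ((L S m j).map (ι T)).prod = ι T (bv S m 0) * Om S m j := by
  induction j with
  | zero => simp [L, Om]
  | succ j ih =>
    rw [L, List.map_append, List.prod_append, ih (by omega)]
    simp only [List.map_cons, List.map_nil, List.prod_cons, List.prod_nil, mul_one]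
    rw [ι_sub_mul_ι_add S m (by omega), mul_assoc]
    rfl

theorem polar_L_bv (j : ℕ) (hj : j ≤ m) :
    ∀ v ∈ L S m j, ∀ k, 2 * j < k → k < 2 * m + 1 → QuadraticMap.polar T v (bv S m k) = 0 := by
  induction j with
  | zero =>
    intro v hv k hk hkn
    simp only [L, List.mem_singleton] at hv
    subst hv
    rw [polar_bv S m (by omega) hkn (by omega), if_neg (by omega)]
  | succ j ih =>
    intro v hv k hk hkn
    rw [L, List.mem_append] at hv
    rcases hv with hv | hv
    · exact ih (by omega) v hv k (by omega) hkn
    · simp only [List.mem_cons, List.not_mem_nil, or_false] at hv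
      rcases hv with rfl | rfl
      · rw [QuadraticMap.polar_sub_left, polar_bv S m (by omega) hkn (by omega),
          polar_bv S m (by omega) hkn (by omega), if_neg (by omega), if_neg (by omega), sub_zero]
      · rw [QuadraticMap.polar_add_left, polar_bv S m (by omega) hkn (by omega),
          polar_bv S m (by omega) hkn (by omega), if_neg (by omega), if_neg (by omega), add_zero]

theorem pairwise_L (j : ℕ) (hj : j ≤ m) :
    (L S m j).Pairwise fun x y => QuadraticMap.polar T x y = 0 := by
  induction j with
  | zero => simp [L]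
  | succ j ih =>
    rw [L, List.pairwise_append]
    refine ⟨ih (by omega), ?_, ?_⟩
    · simp only [List.pairwise_cons, List.mem_singleton, forall_eq, List.not_mem_nil,
        IsEmpty.forall_iff, implies_true, List.Pairwise.nil, and_true]
      rw [QuadraticMap.polar_sub_left, QuadraticMap.polar_add_right, QuadraticMap.polar_add_right,
        QuadraticMap.polar_self, QuadraticMap.polar_self, T_bv S m (by omega), T_bv S m (by omega),
        if_neg (by omega), if_neg (by omega),
        QuadraticMap.polar_comm T (bv S m (2 * j + 2)) (bv S m (2 * j + 1))]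
      ring
    · intro v hv w hw
      have h1 := polar_L_bv S m j (by omega) v hv (2 * j + 1) (by omega) (by omega)
      have h2 := polar_L_bv S m j (by omega) v hv (2 * j + 2) (by omega) (by omega)
      simp only [List.mem_cons, List.not_mem_nil, or_false] at hw
      rcases hw with rfl | rfl
      · rw [QuadraticMap.polar_sub_right, h1, h2, sub_zero]
      · rw [QuadraticMap.polar_add_right, h1, h2, add_zero]

/-- in the exterior algebra the product of the `L j` is `2 ^ j` times the wedge of the basis -/
theorem prod_L_ext (j : ℕ) :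
    ((L S m j).map (ExteriorAlgebra.ι S)).prod =
      ((2 : S) ^ j) • (List.ofFn fun k : Fin (2 * j + 1) => ExteriorAlgebra.ι S (bv S m k)).prod := by
  induction j with
  | zero => simp [L]
  | succ j ih =>
    rw [L, List.map_append, List.prod_append, ih]
    simp only [List.map_cons, List.map_nil, List.prod_cons, List.prod_nil, mul_one]
    have hpair : ExteriorAlgebra.ι S (bv S m (2 * j + 1) - bv S m (2 * j + 2)) *
        ExteriorAlgebra.ι S (bv S m (2 * j + 1) + bv S m (2 * j + 2)) =
        (2 : S) • (ExteriorAlgebra.ι S (bv S m (2 * j + 1)) * ExteriorAlgebra.ι S (bv S m (2 * j + 2))) := by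
      have h1 := ExteriorAlgebra.ι_sq_zero (R := S) (bv S m (2 * j + 1))
      have h2 := ExteriorAlgebra.ι_sq_zero (R := S) (bv S m (2 * j + 2))
      have h3 := ExteriorAlgebra.ι_add_mul_swap (R := S) (bv S m (2 * j + 1)) (bv S m (2 * j + 2))
      rw [map_sub, map_add, sub_mul, mul_add, mul_add, h1, h2, two_smul]
      rw [eq_neg_of_add_eq_zero_right h3]
      abel
    rw [hpair]
    have hofn : (List.ofFn fun k : Fin (2 * (j + 1) + 1) => ExteriorAlgebra.ι S (bv S m k)) =
        (List.ofFn fun k : Fin (2 * j + 1) => ExteriorAlgebra.ι S (bv S m k)) ++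
          [ExteriorAlgebra.ι S (bv S m (2 * j + 1)), ExteriorAlgebra.ι S (bv S m (2 * j + 2))] := by
      change (List.ofFn fun k : Fin (2 * j + 1 + 1 + 1) => ExteriorAlgebra.ι S (bv S m k)) = _
      rw [List.ofFn_succ', List.ofFn_succ']
      simp [List.concat_eq_append]
    rw [hofn, List.prod_append]
    simp only [List.prod_cons, List.prod_nil, mul_one]
    rw [smul_mul_assoc, mul_smul_comm, smul_smul, pow_succ]

variable [Invertible (2 : S)]

theorem tau_zeta : tau T (Pi.basisFun S (Fin (2 * m + 1))) (zeta S m) = 2 ^ m := by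
  have hz : zeta S m = ((L S m m).map (ι T)).prod := (prod_L S m m le_rfl).symm
  change top _ (equivExterior T (zeta S m)) = _
  rw [hz, equivExterior_list_prod T _ (pairwise_L S m m le_rfl), prod_L_ext, map_smul,
    ← ExteriorAlgebra.ιMulti_apply, top_ιMulti]
  have : (fun k : Fin (2 * m + 1) => bv S m k) = Pi.basisFun S (Fin (2 * m + 1)) := by
    funext k
    rw [bv_of_lt S m k.isLt, Pi.basisFun_apply]
  rw [this, Module.Basis.det_self, smul_eq_mul, mul_one]

end Groth.Agent.Lib.Seat37.CliffTopZeta
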