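import Mathlib
import Groth.Prelude.Def_QuadGrp
import Groth.Agent.Lib.Seat37CliffFunct
import Groth.Agent.Lib.Seat37CliffTopZeta
import Groth.Agent.Lib.Seat37CliffLocal
import Groth.Agent.Lib.Seat37CliffSetup
import Groth.Agent.Lib.Seat37QuadSO

/-!
# Matrices of determinant one preserving the split form of odd rank fix the odd central unit
(seat 37)

`map_zeta_of_det_one`: for any commutative ring `A` and any matrix `X` over `A` preserving the split
form of rank `2 m + 1` with `det X = 1`, the induced automorphism of the Clifford algebra fixes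
`zeta A m`.  Proof: universal case `ℤ[SO'_{2m+1}]`, which is smooth hence flat over `ℤ`; there
the character by which the group acts on `zeta` is `1` after inverting `2` (top coefficient).
-/

set_option autoImplicit false
set_option linter.unusedSectionVars false
universe u

namespace Groth.Agent.Lib.Seat37.CliffSOFix

open CliffordAlgebra Matrix QuadGrp MvPolynomial
open Groth.Agent.S17014.Aux.HD Groth.Agent.Lib.Seat37.QuadTab Groth.Agent.Lib.Seat37.PolyRep
  Groth.Agent.Lib.Seat37.QuadRel Groth.Agent.Lib.Seat37.QuadSO Groth.Agent.Lib.Seat37.QuadSplitTab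
  Groth.Agent.Lib.Seat37.CliffGrade Groth.Agent.Lib.Seat37.CliffZeta
  Groth.Agent.Lib.Seat37.CliffFunct Groth.Agent.Lib.Seat37.CliffTop
  Groth.Agent.Lib.Seat37.CliffTopZeta Groth.Agent.Lib.Seat37.CliffLocal
  Groth.Agent.Lib.Seat37.CliffDescent Groth.Agent.Lib.Seat37.CliffSetup

/-! ### the structure of the Clifford algebra of the split form over any ring -/

section splitStruct

variable (R : Type u) [CommRing R] (m : ℕ)

/-- the split form is its own base change -/
noncomputable def phiId :
    (baseChangeForm R (splitForm R (2 * m + 1))).IsometryEquiv (splitForm R (2 * m + 1)) :=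
  isoOfEquiv R (splitForm R (2 * m + 1)) (splitForm R (2 * m + 1)) (TensorProduct.lid R _)
    (fun x => by simp)

theorem evenCentralScalar_split : EvenCentralScalar (splitForm R (2 * m + 1)) :=
  fun c hc hc0 => even_central_scalar R (splitForm R (2 * m + 1)) m (phiId R m) c hc hc0

/-- `zeta` as an odd central unit -/
noncomputable def Usplit : OddCentralUnit (splitForm R (2 * m + 1)) :=
  ⟨zeta R m, zeta R m, zeta_odd R m, zeta_odd R m, zeta_mem_center R m, zeta_mem_center R m,
    zeta_mul_self R m⟩

end splitStruct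

/-! ### isometries and coefficient tables -/

section tables

variable {A : Type*} [CommRing A] (m : ℕ)

theorem isometry_iff_cc (X : Matrix (Fin (2 * m + 1)) (Fin (2 * m + 1)) A) :
    (∀ v, splitForm A (2 * m + 1) (X.mulVec v) = splitForm A (2 * m + 1) v) ↔
      cc (bsp A (2 * m + 1)) X = bsp A (2 * m + 1) := by
  have h1 := coeffs_comp (Pi.basisFun A (Fin (2 * m + 1))) (splitForm A (2 * m + 1))
    (Matrix.toLin' X)
  rw [coeffs_splitForm, LinearMap.toMatrix_eq_toMatrix', LinearMap.toMatrix'_toLin'] at h1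
  constructor
  · intro h
    rw [← h1]
    have : (splitForm A (2 * m + 1)).comp (Matrix.toLin' X) = splitForm A (2 * m + 1) := by
      ext v
      rw [QuadraticMap.comp_apply, Matrix.toLin'_apply]
      exact h v
    rw [this, coeffs_splitForm]
  · intro h v
    have h2 : (splitForm A (2 * m + 1)).comp (Matrix.toLin' X) = splitForm A (2 * m + 1) := by
      apply eq_of_coeffs_eq (Pi.basisFun A (Fin (2 * m + 1)))
      rw [h1, h, coeffs_splitForm]
    have := congrArg (fun q : QuadraticForm A (Fin (2 * m + 1) → A) => q v) h2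
    simpa [QuadraticMap.comp_apply, Matrix.toLin'_apply] using this

theorem isometry_map {B : Type*} [CommRing B] (φ : B →+* A)
    (X : Matrix (Fin (2 * m + 1)) (Fin (2 * m + 1)) B)
    (hX : ∀ v, splitForm B (2 * m + 1) (X.mulVec v) = splitForm B (2 * m + 1) v) :
    ∀ v, splitForm A (2 * m + 1) ((X.map φ).mulVec v) = splitForm A (2 * m + 1) v := by
  rw [isometry_iff_cc] at hX ⊢
  have h := cc_map φ (bsp B (2 * m + 1)) X
  rw [hX, map_bsp] at h
  exact h.symm

theorem det_isoOfMat {n : ℕ} (Q : QuadraticForm A (Fin n → A)) (X : Matrix (Fin n) (Fin n) A)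
    (hX : ∀ v, Q (X.mulVec v) = Q v) : LinearMap.det (isoOfMat Q X hX).toLinearMap = X.det := by
  change LinearMap.det (Matrix.mulVecLin X) = X.det
  rw [← Matrix.toLin'_apply', LinearMap.det_toLin']

theorem map_isoOfMat_congr {n : ℕ} (Q : QuadraticForm A (Fin n → A))
    (X X' : Matrix (Fin n) (Fin n) A) (hX : ∀ v, Q (X.mulVec v) = Q v)
    (hX' : ∀ v, Q (X'.mulVec v) = Q v) (h : X' = X) (z : CliffordAlgebra Q) :
    CliffordAlgebra.map (isoOfMat Q X' hX') z = CliffordAlgebra.map (isoOfMat Q X hX) z := by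
  subst h
  rfl

end tables

/-! ### the universal ring -/

section univ

variable (m : ℕ)

/-- the coordinate ring of `SO'_{2m+1}` of the split form over `ℤ` -/
abbrev BU : Type := Alg (rel true (bsp ℤ (2 * m + 1)))

instance : Algebra.FormallySmooth ℤ (BU m) :=
  formallySmooth_SO_odd m (bsp ℤ (2 * m + 1)) (isUnit_hdv_bsp ℤ m)

instance : Algebra.Smooth ℤ (BU m) := ⟨inferInstance, inferInstance⟩

/-- the universal matrix -/
noncomputable def XU : Matrix (Fin (2 * m + 1)) (Fin (2 * m + 1)) (BU m) :=
  vmat (toSol (AlgHom.id ℤ (BU m)))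

theorem isPt_XU : IsPt true (bsp ℤ (2 * m + 1)) (BU m) (XU m) (vdet (toSol (AlgHom.id ℤ (BU m)))) :=
  (mem_Sol_iff true (bsp ℤ (2 * m + 1)) _).mp (toSol_mem (AlgHom.id ℤ (BU m)))

theorem XU_det : (XU m).det = 1 := by
  obtain ⟨-, h2, h3⟩ := isPt_XU m
  rw [h3 rfl, one_mul] at h2
  exact h2

theorem XU_isometry : ∀ v, splitForm (BU m) (2 * m + 1) ((XU m).mulVec v) =
    splitForm (BU m) (2 * m + 1) v := by
  rw [isometry_iff_cc]
  obtain ⟨h1, -, -⟩ := isPt_XU m
  have hb : (algebraMap ℤ (BU m) : ℤ → BU m) ∘ bsp ℤ (2 * m + 1) = bsp (BU m) (2 * m + 1) :=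
    map_bsp (algebraMap ℤ (BU m)) _
  rw [hb] at h1
  exact h1

theorem two_regular (x : BU m) (h : 2 * x = 0) : x = 0 := by
  have hreg : IsSMulRegular (BU m) (2 : ℤ) :=
    Module.Flat.isSMulRegular_of_isRegular (IsRegular.of_ne_zero (by norm_num))
  apply hreg
  change (2 : ℤ) • x = (2 : ℤ) • (0 : BU m)
  rw [smul_zero, ← h, zsmul_eq_mul, Int.cast_ofNat]

/-- the classifying map of a matrix of determinant one preserving the split form -/
noncomputable def toA {A : Type*} [CommRing A] (X : Matrix (Fin (2 * m + 1)) (Fin (2 * m + 1)) A)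
    (hcc : cc (bsp A (2 * m + 1)) X = bsp A (2 * m + 1)) (hdet : X.det = 1) : BU m →+* A :=
  Ideal.Quotient.lift _ (MvPolynomial.eval₂Hom (Int.castRingHom A) (QuadRel.vec X 1)) (by
    have hle : relIdeal (rel true (bsp ℤ (2 * m + 1))) ≤
        RingHom.ker (MvPolynomial.eval₂Hom (Int.castRingHom A) (QuadRel.vec X 1)) := by
      apply Ideal.span_le.mpr
      rintro _ ⟨i, rfl⟩
      rw [SetLike.mem_coe, RingHom.mem_ker]
      have hXu : (Xu ℤ (2 * m + 1)).map (MvPolynomial.eval₂Hom (Int.castRingHom A) (QuadRel.vec X 1)) = X := by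
        ext i j
        simp [Xu, QuadRel.vec]
      have hdu : MvPolynomial.eval₂Hom (Int.castRingHom A) (QuadRel.vec X 1) (du ℤ (2 * m + 1)) = 1 := by
        simp [du, QuadRel.vec]
      rcases i with s | b
      · have h := congrFun (cc_map (MvPolynomial.eval₂Hom (Int.castRingHom A) (QuadRel.vec X 1))
          (C ∘ bsp ℤ (2 * m + 1)) (Xu ℤ (2 * m + 1))) s
        have h2 : (MvPolynomial.eval₂Hom (Int.castRingHom A) (QuadRel.vec X 1) : _ → A) ∘
            (C ∘ bsp ℤ (2 * m + 1)) = bsp A (2 * m + 1) := by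
          funext p
          have hmb := congrFun (map_bsp (Int.castRingHom A) (2 * m + 1)) p
          simp only [Function.comp] at hmb
          simp only [Function.comp, MvPolynomial.coe_eval₂Hom, MvPolynomial.eval₂_C]
          exact hmb
        rw [hXu, h2, hcc] at h
        simp only [Function.comp] at h
        simp only [rel, map_sub, h, MvPolynomial.coe_eval₂Hom, MvPolynomial.eval₂_C]
        have := congrFun (map_bsp (Int.castRingHom A) (2 * m + 1)) s
        simp only [Function.comp] at this
        rw [this, sub_self]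
      · cases b
        · simp only [rel, if_true, map_sub, map_one, hdu, sub_self]
        · simp only [rel, map_sub, map_mul, map_one, hdu, RingHom.map_det,
            RingHom.mapMatrix_apply, hXu, hdet, mul_one, sub_self]
    exact fun p hp => RingHom.mem_ker.mp (hle hp))

theorem toA_XU {A : Type*} [CommRing A] (X : Matrix (Fin (2 * m + 1)) (Fin (2 * m + 1)) A)
    (hcc : cc (bsp A (2 * m + 1)) X = bsp A (2 * m + 1)) (hdet : X.det = 1) :
    (XU m).map (toA m X hcc hdet) = X := by
  ext i j
  change toA m X hcc hdet (Ideal.Quotient.mk _ (MvPolynomial.X (Sum.inl (i, j)))) = X i j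
  rw [toA, Ideal.Quotient.lift_mk]
  simp [QuadRel.vec]

end univ

/-! ### the universal case -/

section main

variable (m : ℕ)

/-- the universal isometry -/
noncomputable def gU : splitForm (BU m) (2 * m + 1) →qᵢ splitForm (BU m) (2 * m + 1) :=
  isoOfMat _ (XU m) (XU_isometry m)

theorem map_gU_odd :
    CliffordAlgebra.map (gU m) (zeta (BU m) m) ∈ evenOdd (splitForm (BU m) (2 * m + 1)) 1 :=
  algHom_mem_evenOdd _ _ (CliffordAlgebra.map (gU m))
    (fun v => by rw [map_apply_ι]; exact ι_mem_evenOdd_one _ _) 1 _ (zeta_odd (BU m) m)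

theorem map_gU_central :
    CliffordAlgebra.map (gU m) (zeta (BU m) m) ∈
      Subalgebra.center (BU m) (CliffordAlgebra (splitForm (BU m) (2 * m + 1))) := by
  apply central_of_commute_ι
  intro v
  have hu : IsUnit (XU m).det := by rw [XU_det]; exact isUnit_one
  have hv : (gU m) ((XU m)⁻¹.mulVec v) = v := by
    change (XU m).mulVec ((XU m)⁻¹.mulVec v) = v
    rw [Matrix.mulVec_mulVec, Matrix.mul_nonsing_inv _ hu, Matrix.one_mulVec]
  rw [← hv, ← map_apply_ι, ← map_mul, ← map_mul]
  congr 1
  exact (Subalgebra.mem_center_iff.mp (zeta_mem_center (BU m) m) _).symm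

theorem exists_chi : ∃ χ : BU m, CliffordAlgebra.map (gU m) (zeta (BU m) m) = χ • zeta (BU m) m :=
  odd_central_eq_smul (Usplit (BU m) m) (evenCentralScalar_split (BU m) m) _ (map_gU_central m)
    (map_gU_odd m)

theorem chi_eq_one (χ : BU m)
    (hχ : CliffordAlgebra.map (gU m) (zeta (BU m) m) = χ • zeta (BU m) m) : χ = 1 := by
  let S := Localization.Away (2 : BU m)
  have h2u : IsUnit (2 : S) := by
    have := IsLocalization.Away.algebraMap_isUnit (S := S) (2 : BU m)
    rwa [map_ofNat] at this
  let _ : Invertible (2 : S) := h2u.invertible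
  have hXS := isometry_map m (algebraMap (BU m) S) (XU m) (XU_isometry m)
  have h1 := J_map (BU m) S m (XU m) (XU_isometry m) hXS (zeta (BU m) m)
  change J (BU m) S m (CliffordAlgebra.map (gU m) (zeta (BU m) m)) = _ at h1
  rw [hχ, map_smul, J_zeta, ← algebraMap_smul S χ (zeta S m)] at h1
  have h2 := congrArg (tau (splitForm S (2 * m + 1)) (Pi.basisFun S (Fin (2 * m + 1)))) h1
  rw [tau_map, det_isoOfMat, map_smul, tau_zeta, smul_eq_mul, ← RingHom.mapMatrix_apply,
    ← RingHom.map_det, XU_det, map_one, one_mul] at h2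
  have h3 : algebraMap (BU m) S χ = 1 :=
    (h2u.pow m).mul_left_injective
      (show algebraMap (BU m) S χ * 2 ^ m = 1 * 2 ^ m by rw [h2, one_mul])
  have hinj : Function.Injective (algebraMap (BU m) S) := by
    apply IsLocalization.injective S (M := Submonoid.powers (2 : BU m))
    rw [Submonoid.powers_le, mem_nonZeroDivisors_iff_left]
    exact two_regular m
  apply hinj
  rw [h3, map_one]

theorem map_zeta_univ : CliffordAlgebra.map (gU m) (zeta (BU m) m) = zeta (BU m) m := by
  obtain ⟨χ, hχ⟩ := exists_chi m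
  have h1 := chi_eq_one m χ hχ
  subst h1
  rw [hχ]
  exact one_smul (BU m) (zeta (BU m) m)

/-- matrices of determinant one preserving the split form fix the odd central unit -/
theorem map_zeta_of_det_one {A : Type*} [CommRing A]
    (X : Matrix (Fin (2 * m + 1)) (Fin (2 * m + 1)) A)
    (hX : ∀ v, splitForm A (2 * m + 1) (X.mulVec v) = splitForm A (2 * m + 1) v)
    (hdet : X.det = 1) :
    CliffordAlgebra.map (isoOfMat _ X hX) (zeta A m) = zeta A m := by
  let f := toA m X ((isometry_iff_cc m X).mp hX) hdet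
  let _ : Algebra (BU m) A := f.toAlgebra
  have hmap : (XU m).map (algebraMap (BU m) A) = X := toA_XU m X _ hdet
  have hX' : ∀ v, splitForm A (2 * m + 1) (((XU m).map (algebraMap (BU m) A)).mulVec v) =
      splitForm A (2 * m + 1) v := by
    rw [hmap]; exact hX
  have h1 := J_map (BU m) A m (XU m) (XU_isometry m) hX' (zeta (BU m) m)
  change J (BU m) A m (CliffordAlgebra.map (gU m) (zeta (BU m) m)) = _ at h1
  rw [map_zeta_univ, J_zeta] at h1
  rw [← map_isoOfMat_congr _ X _ hX hX' hmap]
  exact h1.symm

end main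

end Groth.Agent.Lib.Seat37.CliffSOFix
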