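import Mathlib
import Groth.Agent.Lib.Seat37CliffDescent

/-!
# The principal anti-involution on odd central elements (seat 37)

`star_odd_central`: given a faithfully flat `A` and an isometry of `Q_A` with the split form of rank
`2m+1`, every odd central `z` of `C(Q)` satisfies `star z = (-1)^(m+1) • z`.
-/

set_option autoImplicit false
set_option linter.unusedSectionVars false
universe u v w

namespace Groth.Agent.Lib.Seat37.CliffStar

open CliffordAlgebra TensorProduct QuadGrp
open Groth.Agent.Lib.Seat37.CliffGrade Groth.Agent.Lib.Seat37.CliffBC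
  Groth.Agent.Lib.Seat37.CliffRank Groth.Agent.Lib.Seat37.CliffZeta
  Groth.Agent.Lib.Seat37.CliffDescent

/-- a ring hom between Clifford algebras (possibly over different rings) commutes with `star` as
soon as it does so on scalars and vectors. -/
theorem ringHom_star {R₁ : Type*} [CommRing R₁] {M₁ : Type*} [AddCommGroup M₁] [Module R₁ M₁]
    (Q₁ : QuadraticForm R₁ M₁) {R₂ : Type*} [CommRing R₂] {M₂ : Type*} [AddCommGroup M₂]
    [Module R₂ M₂] (Q₂ : QuadraticForm R₂ M₂) (f : CliffordAlgebra Q₁ →+* CliffordAlgebra Q₂)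
    (h0 : ∀ r : R₁, star (f (algebraMap R₁ _ r)) = f (algebraMap R₁ _ r))
    (h1 : ∀ v : M₁, star (f (ι Q₁ v)) = - f (ι Q₁ v)) (x : CliffordAlgebra Q₁) :
    f (star x) = star (f x) := by
  induction x using CliffordAlgebra.induction with
  | algebraMap r => rw [star_algebraMap, h0]
  | ι v => rw [star_ι, map_neg, h1]
  | mul a b ha hb => rw [star_mul, map_mul, map_mul, star_mul, ha, hb]
  | add a b ha hb => rw [star_add, map_add, map_add, star_add, ha, hb]

variable {R : Type u} [CommRing R] {M : Type v} [AddCommGroup M] [Module R M] [Module.Free R M]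
variable (A : Type u) [CommRing A] [Algebra R A]
variable (Q : QuadraticForm R M) (m : ℕ)
variable (φ : (baseChangeForm A Q).IsometryEquiv (splitForm A (2 * m + 1)))

local notation "Q'" => baseChangeForm A Q
local notation "T" => splitForm A (2 * m + 1)

theorem j_star (x : CliffordAlgebra Q) : j A Q (star x) = star (j A Q x) := by
  refine ringHom_star Q Q' (j A Q).toRingHom (fun r => ?_) (fun v => ?_) x
  · change star (j A Q (algebraMap R _ r)) = j A Q (algebraMap R _ r)
    rw [AlgHom.commutes, IsScalarTower.algebraMap_apply R A (CliffordAlgebra Q'), star_algebraMap]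
  · change star (j A Q (ι Q v)) = - j A Q (ι Q v)
    rw [j_ι, star_ι]

theorem Ψ_symm_star (x : CliffordAlgebra T) :
    (Ψ A Q m φ).symm (star x) = star ((Ψ A Q m φ).symm x) := by
  refine ringHom_star T Q' ((Ψ A Q m φ).symm : CliffordAlgebra T →ₐ[A] CliffordAlgebra Q').toRingHom
    (fun r => ?_) (fun v => ?_) x
  · change star ((Ψ A Q m φ).symm (algebraMap A _ r)) = (Ψ A Q m φ).symm (algebraMap A _ r)
    rw [AlgEquiv.commutes, star_algebraMap]
  · change star ((equivOfIsometry φ).symm (ι T v)) = - (equivOfIsometry φ).symm (ι T v)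
    rw [equivOfIsometry_symm, equivOfIsometry_apply, map_apply_ι, star_ι]

theorem star_zA : star (zA A Q m φ) = ((-1 : A) ^ (m + 1)) • zA A Q m φ := by
  unfold zA
  rw [← Ψ_symm_star, star_zeta, map_smul]

include φ in
theorem star_odd_central [Module.FaithfullyFlat R A] (z : CliffordAlgebra Q)
    (hz : z ∈ Subalgebra.center R (CliffordAlgebra Q)) (hz1 : z ∈ evenOdd Q 1) :
    star z = ((-1 : R) ^ (m + 1)) • z := by
  apply j_injective A Q
  have hjc := j_central A Q z hz
  have hj1 := j_mem A Q 1 z hz1
  -- `j z * zA` is even and central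
  have he : j A Q z * zA A Q m φ ∈ evenOdd Q' 0 := by
    have := evenOdd_mul_mem Q' 1 1 _ _ hj1 (zA_odd A Q m φ)
    rwa [show (1 : ZMod 2) + 1 = 0 from by decide] at this
  have hc : ∀ x : CliffordAlgebra Q', x * (j A Q z * zA A Q m φ) = (j A Q z * zA A Q m φ) * x := by
    intro x
    rw [← mul_assoc, hjc x, mul_assoc, zA_comm A Q m φ x, mul_assoc]
  obtain ⟨a, ha⟩ := even_central_scalar' A Q m φ _ he hc
  have hjz : j A Q z = a • zA A Q m φ := by
    calc j A Q z = (j A Q z * zA A Q m φ) * zA A Q m φ := by
          rw [mul_assoc, zA_sq, mul_one]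
      _ = a • zA A Q m φ := by rw [ha, Algebra.smul_def]
  have hsm : ∀ y : CliffordAlgebra Q', ((-1 : R) ^ (m + 1)) • y = ((-1 : A) ^ (m + 1)) • y := by
    intro y
    rw [← algebraMap_smul A ((-1 : R) ^ (m + 1)) y, map_pow, map_neg, map_one]
  rw [j_star, map_smul, hsm, hjz, CliffordAlgebra.star_smul, star_zA, smul_comm]

end Groth.Agent.Lib.Seat37.CliffStar
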