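import Mathlib
import Groth.Prelude.Def_QuadGrp
import Groth.Agent.Lib.Seat37CliffSOFix
import Groth.Agent.Lib.Seat37CliffStar

/-!
# Isometries of determinant one act trivially on the odd centre, odd rank (seat 37)

Context of `CliffDescent` (`A` faithfully flat over `R`, `φ` an isometry of `Q_A` with the split form
of rank `2 m + 1`).  `map_odd_central_of_det_one`: an isometry `h` of `Q` with `det h = 1` fixes
every odd central element of `C(Q)`.
-/

set_option autoImplicit false
set_option linter.unusedSectionVars false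
universe u v

namespace Groth.Agent.Lib.Seat37.CliffSOCenter

open CliffordAlgebra TensorProduct QuadGrp
open Groth.Agent.Lib.Seat37.CliffGrade Groth.Agent.Lib.Seat37.CliffBC
  Groth.Agent.Lib.Seat37.CliffRank Groth.Agent.Lib.Seat37.CliffZeta
  Groth.Agent.Lib.Seat37.CliffDescent Groth.Agent.Lib.Seat37.CliffFunct
  Groth.Agent.Lib.Seat37.CliffSOFix

variable {R : Type u} [CommRing R] {M : Type v} [AddCommGroup M] [Module R M] [Module.Free R M]
  [Module.Finite R M]
variable (A : Type u) [CommRing A] [Algebra R A]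
variable (Q : QuadraticForm R M) (m : ℕ)
variable (φ : (baseChangeForm A Q).IsometryEquiv (splitForm A (2 * m + 1)))

local notation "Q'" => baseChangeForm A Q
local notation "T" => splitForm A (2 * m + 1)

/-- the base change of an isometry -/
noncomputable def bcIso (h : Q →qᵢ Q) : Q' →qᵢ Q' :=
  { h.toLinearMap.baseChange A with
    map_app' := fun t => by
      have h2 : (baseChangeForm A Q).comp (h.toLinearMap.baseChange A) = baseChangeForm A Q :=
        _root_.baseChange_ext (fun x => by
          rw [QuadraticMap.comp_apply, LinearMap.baseChange_tmul,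
            Groth.Agent.Lib.Helper25.HalfDisc.baseChangeForm_one_tmul,
            Groth.Agent.Lib.Helper25.HalfDisc.baseChangeForm_one_tmul]
          congr 1
          exact h.map_app x)
      exact congrArg (fun q : QuadraticForm A (A ⊗[R] M) => q t) h2 }

theorem bcIso_tmul (h : Q →qᵢ Q) (a : A) (v : M) :
    bcIso A Q h (a ⊗ₜ[R] v) = a ⊗ₜ[R] h v := rfl

/-- the matrix of the base change of `h`, transported to the split form -/
noncomputable def kLin (h : Q →qᵢ Q) : (Fin (2 * m + 1) → A) →ₗ[A] (Fin (2 * m + 1) → A) :=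
  (φ.toLinearEquiv : (A ⊗[R] M) →ₗ[A] _) ∘ₗ (h.toLinearMap.baseChange A) ∘ₗ
    (φ.toLinearEquiv.symm : _ →ₗ[A] (A ⊗[R] M))

theorem kLin_apply (h : Q →qᵢ Q) (v : Fin (2 * m + 1) → A) :
    kLin A Q m φ h v = φ (bcIso A Q h (φ.toLinearEquiv.symm v)) := rfl

theorem kLin_isometry (h : Q →qᵢ Q) (v : Fin (2 * m + 1) → A) :
    T ((LinearMap.toMatrix' (kLin A Q m φ h)).mulVec v) = T v := by
  rw [LinearMap.toMatrix'_mulVec, kLin_apply, φ.map_app, (bcIso A Q h).map_app]
  have := φ.map_app (φ.toLinearEquiv.symm v)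
  rw [← this]
  congr 1
  exact φ.toLinearEquiv.apply_symm_apply v

theorem kLin_det (h : Q →qᵢ Q) (hdet : LinearMap.det h.toLinearMap = 1) :
    (LinearMap.toMatrix' (kLin A Q m φ h)).det = 1 := by
  rw [← LinearMap.det_toLin', Matrix.toLin'_toMatrix', kLin, LinearMap.det_conj,
    LinearMap.det_baseChange, hdet, map_one]

/-- `Ψ` intertwines the maps induced by `h_A` and by its matrix -/
theorem Ψ_map (h : Q →qᵢ Q) (x : CliffordAlgebra Q') :
    Ψ A Q m φ (CliffordAlgebra.map (bcIso A Q h) x) =
      CliffordAlgebra.map (isoOfMat T (LinearMap.toMatrix' (kLin A Q m φ h))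
        (kLin_isometry A Q m φ h)) (Ψ A Q m φ x) := by
  have hh : ((Ψ A Q m φ : CliffordAlgebra Q' →ₐ[A] CliffordAlgebra T)).comp
      (CliffordAlgebra.map (bcIso A Q h)) =
      (CliffordAlgebra.map (isoOfMat T (LinearMap.toMatrix' (kLin A Q m φ h))
        (kLin_isometry A Q m φ h))).comp (Ψ A Q m φ : CliffordAlgebra Q' →ₐ[A] CliffordAlgebra T) := by
    apply CliffordAlgebra.hom_ext
    refine LinearMap.ext fun t => ?_
    simp only [LinearMap.comp_apply, AlgHom.toLinearMap_apply, AlgHom.comp_apply, map_apply_ι]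
    change equivOfIsometry φ (ι Q' _) = CliffordAlgebra.map _ (equivOfIsometry φ (ι Q' t))
    rw [equivOfIsometry_apply, equivOfIsometry_apply, map_apply_ι, map_apply_ι, map_apply_ι,
      isoOfMat_apply, LinearMap.toMatrix'_mulVec, kLin_apply]
    have ht : φ.toLinearEquiv.symm (φ.toIsometry t) = t := φ.toLinearEquiv.symm_apply_apply t
    rw [ht]
    rfl
  exact AlgHom.congr_fun hh x

theorem map_zA (h : Q →qᵢ Q) (hdet : LinearMap.det h.toLinearMap = 1) :
    CliffordAlgebra.map (bcIso A Q h) (zA A Q m φ) = zA A Q m φ := by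
  apply (Ψ A Q m φ).injective
  rw [Ψ_map]
  unfold zA
  rw [AlgEquiv.apply_symm_apply]
  exact map_zeta_of_det_one m _ (kLin_isometry A Q m φ h) (kLin_det A Q m φ h hdet)

/-- `j` intertwines the maps induced by `h` and `h_A` -/
theorem j_map (h : Q →qᵢ Q) (x : CliffordAlgebra Q) :
    j A Q (CliffordAlgebra.map h x) = CliffordAlgebra.map (bcIso A Q h) (j A Q x) := by
  have hh : (j A Q).comp (CliffordAlgebra.map h) =
      ((CliffordAlgebra.map (bcIso A Q h)).restrictScalars R).comp (j A Q) := by
    apply CliffordAlgebra.hom_ext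
    ext v
    simp only [LinearMap.comp_apply, AlgHom.toLinearMap_apply, AlgHom.comp_apply,
      AlgHom.restrictScalars_apply, map_apply_ι, j_ι, bcIso_tmul]
  exact AlgHom.congr_fun hh x

include φ in
/-- odd central elements of `C(Q)` map to multiples of `zA` -/
theorem j_odd_central (z : CliffordAlgebra Q)
    (hz : z ∈ Subalgebra.center R (CliffordAlgebra Q)) (hz1 : z ∈ evenOdd Q 1) :
    ∃ a : A, j A Q z = a • zA A Q m φ := by
  have hjc := j_central A Q z hz
  have hj1 := j_mem A Q 1 z hz1
  have he : j A Q z * zA A Q m φ ∈ evenOdd Q' 0 := by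
    have := evenOdd_mul_mem Q' 1 1 _ _ hj1 (zA_odd A Q m φ)
    rwa [show (1 : ZMod 2) + 1 = 0 from by decide] at this
  have hc : ∀ x : CliffordAlgebra Q', x * (j A Q z * zA A Q m φ) = (j A Q z * zA A Q m φ) * x := by
    intro x
    rw [← mul_assoc, hjc x, mul_assoc, zA_comm A Q m φ x, mul_assoc]
  obtain ⟨a, ha⟩ := even_central_scalar' A Q m φ _ he hc
  refine ⟨a, ?_⟩
  calc j A Q z = (j A Q z * zA A Q m φ) * zA A Q m φ := by
        rw [mul_assoc, zA_sq, mul_one]
    _ = a • zA A Q m φ := by rw [ha, Algebra.smul_def]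

include φ in
/-- isometries of determinant one fix the odd central elements -/
theorem map_odd_central_of_det_one [Module.FaithfullyFlat R A] (h : Q →qᵢ Q)
    (hdet : LinearMap.det h.toLinearMap = 1) (z : CliffordAlgebra Q)
    (hz : z ∈ Subalgebra.center R (CliffordAlgebra Q)) (hz1 : z ∈ evenOdd Q 1) :
    CliffordAlgebra.map h z = z := by
  apply j_injective A Q
  obtain ⟨a, ha⟩ := j_odd_central A Q m φ z hz hz1
  rw [j_map, ha, map_smul, map_zA A Q m φ h hdet]

end Groth.Agent.Lib.Seat37.CliffSOCenter
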