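import Mathlib
import Groth.Agent.Lib.LeadAzumaya

/-!
# Corner embeddings and isomorphisms of idempotents

Tools for cancellation theorems for Azumaya algebras:

* `CornerData R Λ A`: a multiplicative `R`-linear embedding `ι : A → Λ` identifying `A` with the
  corner ring `f Λ f`, `f = ι 1`, together with the retraction `π`;
* `CornerData.transfer`: if the idempotents `ι_A 1` and `ι_B 1` are "isomorphic" (`u v = f_A`,
  `v u = f_B`), then `A ≃ₐ[R] B`;
* `exists_of_linearEquiv`: an isomorphism of the left ideals `Λ f ≃ Λ g` gives such `u`, `v`;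
* `cornerData`: for a unimodular element `u` of `P` (`λ u = 1`), the embedding `a ↦ a ⊗ ε` of `A`
  into `A ⊗ End P`, `ε = λ(·) u`;
* `nonempty_linearEquiv_span`: `A ⊗ P ≃ (A ⊗ End P) (1 ⊗ ε)` as `R`-modules;
* `rankAtStalk_end`: `rank (End P) = (rank P) ^ 2`.
-/

set_option autoImplicit false
universe u v w

namespace Groth.Agent.Lib.Seat78.Corner
open TensorProduct

/-- A "corner embedding" of the algebra `A` into `Λ`: a multiplicative linear map `ι` with a linear
retraction `π` such that `ι ∘ π` is `x ↦ f x f`, where `f = ι 1`. -/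
structure CornerData (R : Type*) [CommRing R] (Λ : Type*) [Ring Λ] [Algebra R Λ]
    (A : Type*) [Ring A] [Algebra R A] where
  /-- the embedding -/
  ι : A →ₗ[R] Λ
  /-- the retraction -/
  π : Λ →ₗ[R] A
  map_mul : ∀ a a', ι (a * a') = ι a * ι a'
  π_ι : ∀ a, π (ι a) = a
  ι_π : ∀ x, ι (π x) = ι 1 * x * ι 1

namespace CornerData

section Transfer

variable {R : Type*} [CommRing R] {Λ : Type*} [Ring Λ] [Algebra R Λ]
  {A : Type*} [Ring A] [Algebra R A] {B : Type*} [Ring B] [Algebra R B]
  (cA : CornerData R Λ A) (cB : CornerData R Λ B)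

theorem idem : IsIdempotentElem (cA.ι 1) := by
  show cA.ι 1 * cA.ι 1 = cA.ι 1
  rw [← cA.map_mul, mul_one]

theorem one_mul_ι (a : A) : cA.ι 1 * cA.ι a = cA.ι a := by rw [← cA.map_mul, one_mul]

theorem ι_mul_one (a : A) : cA.ι a * cA.ι 1 = cA.ι a := by rw [← cA.map_mul, mul_one]

theorem ι_injective : Function.Injective cA.ι :=
  Function.LeftInverse.injective cA.π_ι

/-- transfer along an "isomorphism of idempotents" -/
noncomputable def transfer (u v : Λ) (hu1 : cA.ι 1 * u = u) (hu2 : u * cB.ι 1 = u)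
    (hv1 : cB.ι 1 * v = v) (hv2 : v * cA.ι 1 = v) (huv : u * v = cA.ι 1) (hvu : v * u = cB.ι 1) :
    A ≃ₐ[R] B := by
  let Θ : A →ₗ[R] B := cB.π ∘ₗ (LinearMap.mulLeft R v) ∘ₗ (LinearMap.mulRight R u) ∘ₗ cA.ι
  let Θ' : B →ₗ[R] A := cA.π ∘ₗ (LinearMap.mulLeft R u) ∘ₗ (LinearMap.mulRight R v) ∘ₗ cB.ι
  have hΘ : ∀ a, cB.ι (Θ a) = v * (cA.ι a * u) := by
    intro a
    show cB.ι (cB.π (v * (cA.ι a * u))) = _
    rw [cB.ι_π, ← mul_assoc (cB.ι 1), hv1, mul_assoc, mul_assoc, hu2]
  have hΘ' : ∀ b, cA.ι (Θ' b) = u * (cB.ι b * v) := by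
    intro b
    show cA.ι (cA.π (u * (cB.ι b * v))) = _
    rw [cA.ι_π, ← mul_assoc (cA.ι 1), hu1, mul_assoc, mul_assoc, hv2]
  have h1 : ∀ a, Θ' (Θ a) = a := by
    intro a
    apply cA.ι_injective
    rw [hΘ', hΘ]
    calc u * (v * (cA.ι a * u) * v) = (u * v) * cA.ι a * (u * v) := by noncomm_ring
      _ = cA.ι a := by rw [huv, cA.one_mul_ι, cA.ι_mul_one]
  have h2 : ∀ b, Θ (Θ' b) = b := by
    intro b
    apply cB.ι_injective
    rw [hΘ, hΘ']
    calc v * (u * (cB.ι b * v) * u) = (v * u) * cB.ι b * (v * u) := by noncomm_ring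
      _ = cB.ι b := by rw [hvu, cB.one_mul_ι, cB.ι_mul_one]
  have hmul : ∀ a a', Θ (a * a') = Θ a * Θ a' := by
    intro a a'
    apply cB.ι_injective
    rw [cB.map_mul, hΘ, hΘ, hΘ, cA.map_mul]
    calc v * (cA.ι a * cA.ι a' * u) = v * ((cA.ι a * cA.ι 1) * cA.ι a' * u) := by
          rw [cA.ι_mul_one]
      _ = v * (cA.ι a * u) * (v * (cA.ι a' * u)) := by rw [← huv]; noncomm_ring
  have hone : Θ 1 = 1 := by
    apply cB.ι_injective
    rw [hΘ, hu1, hvu]
  exact AlgEquiv.ofLinearEquiv (LinearEquiv.ofLinearMap Θ Θ' (LinearMap.ext h2) (LinearMap.ext h1))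
    hone hmul

end Transfer

/-- transport of corner data along an algebra isomorphism -/
noncomputable def transport {R : Type*} [CommRing R] {Λ Λ' : Type*} [Ring Λ] [Algebra R Λ]
    [Ring Λ'] [Algebra R Λ'] {A : Type*} [Ring A] [Algebra R A] (c : CornerData R Λ' A)
    (e : Λ' ≃ₐ[R] Λ) : CornerData R Λ A where
  ι := e.toLinearMap ∘ₗ c.ι
  π := c.π ∘ₗ e.symm.toLinearMap
  map_mul a a' := by simp [c.map_mul]
  π_ι a := by simp [c.π_ι]
  ι_π x := by
    simp only [LinearMap.comp_apply, AlgEquiv.toLinearMap_apply, c.ι_π, _root_.map_mul,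
      AlgEquiv.apply_symm_apply]

theorem transport_ι_apply {R : Type*} [CommRing R] {Λ Λ' : Type*} [Ring Λ] [Algebra R Λ]
    [Ring Λ'] [Algebra R Λ'] {A : Type*} [Ring A] [Algebra R A] (c : CornerData R Λ' A)
    (e : Λ' ≃ₐ[R] Λ) (a : A) : (c.transport e).ι a = e (c.ι a) := rfl

end CornerData

section Idem

variable {Λ : Type*} [Ring Λ]

theorem mem_span_singleton_idem {f : Λ} (hf : IsIdempotentElem f) {x : Λ} :
    x ∈ (Ideal.span {f} : Ideal Λ) ↔ x * f = x := by
  rw [Ideal.mem_span_singleton']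
  constructor
  · rintro ⟨a, rfl⟩
    rw [mul_assoc, hf.eq]
  · intro h
    exact ⟨x, h⟩

/-- An isomorphism of the left ideals generated by two idempotents gives elements realising an
"isomorphism of idempotents". -/
theorem exists_of_linearEquiv {f g : Λ} (hf : IsIdempotentElem f) (hg : IsIdempotentElem g)
    (χ : (Ideal.span {f} : Ideal Λ) ≃ₗ[Λ] (Ideal.span {g} : Ideal Λ)) :
    ∃ u v : Λ, f * u = u ∧ u * g = u ∧ g * v = v ∧ v * f = v ∧ u * v = f ∧ v * u = g := by
  let F : (Ideal.span {f} : Ideal Λ) := ⟨f, Ideal.subset_span rfl⟩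
  let G : (Ideal.span {g} : Ideal Λ) := ⟨g, Ideal.subset_span rfl⟩
  have hug : ((χ F : Λ)) * g = χ F := (mem_span_singleton_idem hg).mp (χ F).2
  have hvf : ((χ.symm G : Λ)) * f = χ.symm G := (mem_span_singleton_idem hf).mp (χ.symm G).2
  have hfF : f • F = F := Subtype.ext hf.eq
  have hgG : g • G = G := Subtype.ext hg.eq
  have hfu : f * (χ F : Λ) = χ F := by
    have h1 : χ (f • F) = f • χ F := map_smul χ f F
    rw [hfF] at h1
    exact (congrArg Subtype.val h1).symm
  have hgv : g * (χ.symm G : Λ) = χ.symm G := by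
    have h1 : χ.symm (g • G) = g • χ.symm G := map_smul χ.symm g G
    rw [hgG] at h1
    exact (congrArg Subtype.val h1).symm
  have hvF : (χ.symm G : Λ) • F = χ.symm G := Subtype.ext hvf
  have huG : (χ F : Λ) • G = χ F := Subtype.ext hug
  have hvu : (χ.symm G : Λ) * (χ F : Λ) = g := by
    have h1 : χ ((χ.symm G : Λ) • F) = (χ.symm G : Λ) • χ F := map_smul χ _ F
    rw [hvF, LinearEquiv.apply_symm_apply] at h1
    exact (congrArg Subtype.val h1).symm
  have huv : (χ F : Λ) * (χ.symm G : Λ) = f := by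
    have h1 : χ.symm ((χ F : Λ) • G) = (χ F : Λ) • χ.symm G := map_smul χ.symm _ G
    rw [huG, LinearEquiv.symm_apply_apply] at h1
    exact (congrArg Subtype.val h1).symm
  exact ⟨χ F, χ.symm G, hfu, hug, hgv, hvf, huv, hvu⟩

/-- the left ideal generated by an element is a finite module -/
theorem finite_span_singleton (f : Λ) : Module.Finite Λ (Ideal.span {f} : Ideal Λ) :=
  Module.Finite.of_fg ((Submodule.fg_span_singleton f))

/-- the left ideal generated by an idempotent is a projective module -/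
theorem projective_span_singleton {f : Λ} (hf : IsIdempotentElem f) :
    Module.Projective Λ (Ideal.span {f} : Ideal Λ) := by
  let i : (Ideal.span {f} : Ideal Λ) →ₗ[Λ] Λ := Submodule.subtype _
  let p : Λ →ₗ[Λ] (Ideal.span {f} : Ideal Λ) :=
    (LinearMap.toSpanSingleton Λ Λ f).codRestrict _ (fun x => by
      rw [LinearMap.toSpanSingleton_apply]
      exact Ideal.mem_span_singleton'.mpr ⟨x, rfl⟩)
  refine Module.Projective.of_split i p ?_
  refine LinearMap.ext fun x => Subtype.ext ?_
  show (x : Λ) • f = x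
  exact (mem_span_singleton_idem hf).mp x.2

end Idem

section RankEnd

variable {R : Type u} [CommRing R] (P : Type v) [AddCommGroup P] [Module R P]
  [Module.Finite R P] [Module.Projective R P]

/-- the rank of the endomorphism algebra of a finite projective module is the square of the rank -/
theorem rankAtStalk_end (p : PrimeSpectrum R) :
    Module.rankAtStalk (Module.End R P) p = Module.rankAtStalk P p ^ 2 := by
  set S := Localization.AtPrime p.asIdeal
  rw [Module.rankAtStalk_eq_finrank_tensorProduct, Module.rankAtStalk_eq_finrank_tensorProduct]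
  let E : S ⊗[R] Module.End R P ≃ₗ[S] Module.End S (S ⊗[R] P) :=
    LinearEquiv.ofBijective (LinearMap.tensorProductEnd R S P).toLinearMap
      (Groth.Agent.Lib.LeadAzumaya.tensorProductEnd_bijective S P)
  have : Module.Free S (S ⊗[R] P) := Module.free_of_flat_of_isLocalRing
  rw [E.finrank_eq, Module.finrank_linearMap, sq]

end RankEnd

section Unimodular

variable {R : Type*} [CommRing R] (A : Type*) [Ring A] [Algebra R A]
  {P : Type*} [AddCommGroup P] [Module R P] (u : P) (lam : P →ₗ[R] R)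

/-- the rank one endomorphisms `q ↦ λ(q) p` -/
noncomputable def tau : P →ₗ[R] Module.End R P := LinearMap.smulRightₗ lam

theorem tau_apply (p q : P) : tau lam p q = lam q • p := rfl

/-- evaluation `σ ↦ λ(σ u)` -/
noncomputable def ev : Module.End R P →ₗ[R] R := lam ∘ₗ (LinearMap.applyₗ u)

theorem ev_apply (σ : Module.End R P) : ev u lam σ = lam (σ u) := rfl

variable {u lam}

theorem tau_mul_tau_mul_tau (σ : Module.End R P) :
    tau lam u * σ * tau lam u = lam (σ u) • tau lam u := by
  refine LinearMap.ext fun q => ?_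
  simp [tau_apply, Module.End.mul_apply, smul_smul, mul_comm]

variable (h : lam u = 1)
include h

theorem tau_u_mul_tau_u : tau lam u * tau lam u = tau lam u := by
  refine LinearMap.ext fun q => ?_
  simp [tau_apply, Module.End.mul_apply, h]

/-- The corner embedding `a ↦ a ⊗ ε` of `A` into `A ⊗ End P`, for a unimodular element of `P`. -/
noncomputable def cornerData : CornerData R (A ⊗[R] Module.End R P) A where
  ι := (TensorProduct.mk R A (Module.End R P)).flip (tau lam u)
  π := (TensorProduct.rid R A).toLinearMap ∘ₗ (LinearMap.lTensor A (ev u lam))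
  map_mul a a' := by
    simp only [LinearMap.flip_apply, TensorProduct.mk_apply, Algebra.TensorProduct.tmul_mul_tmul,
      tau_u_mul_tau_u h]
  π_ι a := by
    simp [ev_apply, tau_apply, h]
  ι_π x := by
    induction x using TensorProduct.induction_on with
    | zero => simp
    | tmul a σ =>
      simp only [LinearMap.flip_apply, TensorProduct.mk_apply, LinearMap.comp_apply,
        LinearMap.lTensor_tmul, LinearEquiv.coe_coe, TensorProduct.rid_tmul,
        Algebra.TensorProduct.tmul_mul_tmul, one_mul, mul_one, tau_mul_tau_mul_tau, ev_apply]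
      rw [TensorProduct.smul_tmul]
    | add x y hx hy =>
      simp only [map_add, mul_add, add_mul] at hx hy ⊢
      rw [hx, hy]

theorem cornerData_ι_apply (a : A) : (cornerData A h).ι a = a ⊗ₜ[R] tau lam u := rfl

variable {Λ : Type*} [Ring Λ] [Algebra R Λ] (e : A ⊗[R] Module.End R P ≃ₐ[R] Λ)

/-- `A ⊗ P` is isomorphic, as an `R`-module, to the left ideal of `Λ ≃ A ⊗ End P` generated by
the idempotent `e (1 ⊗ ε)`. -/
theorem nonempty_linearEquiv_span :
    Nonempty (A ⊗[R] P ≃ₗ[R] (Ideal.span {e (1 ⊗ₜ[R] tau lam u)} : Ideal Λ)) := by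
  set ε := tau lam u with hε
  have hidem : IsIdempotentElem (e ((1 : A) ⊗ₜ[R] ε)) := by
    show e _ * e _ = e _
    rw [← map_mul, Algebra.TensorProduct.tmul_mul_tmul, one_mul]
    congr 2
    refine LinearMap.ext fun q => ?_
    simp [hε, tau_apply, Module.End.mul_apply, h]
  let Ψ : A ⊗[R] P →ₗ[R] A ⊗[R] Module.End R P := LinearMap.lTensor A (tau lam)
  let Ψ' : A ⊗[R] Module.End R P →ₗ[R] A ⊗[R] P := LinearMap.lTensor A (LinearMap.applyₗ u)
  have h1 : ∀ z, Ψ' (Ψ z) = z := by
    intro z
    have : Ψ' ∘ₗ Ψ = LinearMap.id := by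
      rw [← LinearMap.lTensor_comp]
      have : (LinearMap.applyₗ u) ∘ₗ (tau lam) = (LinearMap.id : P →ₗ[R] P) := by
        refine LinearMap.ext fun p => ?_
        simp [tau_apply, h]
      rw [this, LinearMap.lTensor_id]
    exact congrArg (fun f => f z) this
  have h2 : ∀ x, Ψ (Ψ' x) = x * ((1 : A) ⊗ₜ[R] ε) := by
    intro x
    induction x using TensorProduct.induction_on with
    | zero => simp
    | tmul a σ =>
      simp only [Ψ, Ψ', LinearMap.lTensor_tmul, Algebra.TensorProduct.tmul_mul_tmul, mul_one]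
      congr 1
      refine LinearMap.ext fun q => ?_
      simp [hε, tau_apply, Module.End.mul_apply]
    | add x y hx hy => rw [map_add, map_add, hx, hy, add_mul]
  have h3 : ∀ z, Ψ z * ((1 : A) ⊗ₜ[R] ε) = Ψ z := by
    intro z
    rw [← h2, h1]
  -- the map into the ideal
  let Φ : A ⊗[R] P →ₗ[R] (Ideal.span {e ((1 : A) ⊗ₜ[R] ε)} : Ideal Λ) :=
    { toFun := fun z => ⟨e (Ψ z), (mem_span_singleton_idem hidem).mpr (by
        rw [← map_mul, h3])⟩
      map_add' := fun z z' => Subtype.ext (by simp)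
      map_smul' := fun r z => Subtype.ext (by simp) }
  refine ⟨LinearEquiv.ofBijective Φ ⟨?_, ?_⟩⟩
  · intro z z' hzz
    have h4 : e (Ψ z) = e (Ψ z') := congrArg Subtype.val hzz
    have h5 : Ψ z = Ψ z' := e.injective h4
    rw [← h1 z, ← h1 z', h5]
  · rintro ⟨x, hx⟩
    rw [mem_span_singleton_idem hidem] at hx
    refine ⟨Ψ' (e.symm x), Subtype.ext ?_⟩
    show e (Ψ (Ψ' (e.symm x))) = x
    rw [h2, map_mul, AlgEquiv.apply_symm_apply, hx]

end Unimodular

end Groth.Agent.Lib.Seat78.Corner
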