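import Mathlib

/-!
# Base change of modules over a (noncommutative) algebra

For a commutative ring `R`, a commutative `R`-algebra `k`, an `R`-algebra `A` (not necessarily
commutative) and an `A`-module `M` (with compatible `R`-module structure), the `k`-module
`k ⊗[R] M` is a module over the ring `k ⊗[R] A`.
-/

set_option autoImplicit false

namespace Groth.Agent.Lib.Seat78.BCMod

open TensorProduct

section Defs

variable (R : Type*) [CommRing R] (k : Type*) [CommRing k] [Algebra R k]
  (A : Type*) [Ring A] [Algebra R A]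
  (M : Type*) [AddCommGroup M] [Module R M] [Module A M] [IsScalarTower R A M]

/-- The action of `k ⊗[R] A` on `k ⊗[R] M`, as a `k`-algebra homomorphism. -/
noncomputable def actHom : k ⊗[R] A →ₐ[k] Module.End k (k ⊗[R] M) :=
  (LinearMap.tensorProductEnd R k M).comp
    (Algebra.TensorProduct.map (AlgHom.id k k) (Algebra.lsmul R R M))

theorem actHom_tmul_tmul (c : k) (a : A) (c' : k) (x : M) :
    actHom R k A M (c ⊗ₜ[R] a) (c' ⊗ₜ[R] x) = (c * c') ⊗ₜ[R] (a • x) := by
  simp [actHom, LinearMap.tensorProductEnd, LinearMap.tensorProduct, TensorProduct.smul_tmul']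

/-- The module structure of `k ⊗[R] M` over `k ⊗[R] A`. -/
@[reducible] noncomputable def bcModule : Module (k ⊗[R] A) (k ⊗[R] M) :=
  Module.compHom (k ⊗[R] M) (actHom R k A M).toRingHom

end Defs

section Lemmas

variable {R : Type*} [CommRing R] {k : Type*} [CommRing k] [Algebra R k]
  {A : Type*} [Ring A] [Algebra R A]
  {M : Type*} [AddCommGroup M] [Module R M] [Module A M] [IsScalarTower R A M]

attribute [local instance] bcModule

theorem smul_def (b : k ⊗[R] A) (v : k ⊗[R] M) : b • v = actHom R k A M b v := rfl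

theorem tmul_smul_tmul (c : k) (a : A) (c' : k) (x : M) :
    (c ⊗ₜ[R] a) • (c' ⊗ₜ[R] x) = (c * c') ⊗ₜ[R] (a • x) :=
  actHom_tmul_tmul R k A M c a c' x

theorem isScalarTower : IsScalarTower k (k ⊗[R] A) (k ⊗[R] M) where
  smul_assoc c b v := by
    rw [smul_def, smul_def, map_smul, LinearMap.smul_apply]

end Lemmas

end Groth.Agent.Lib.Seat78.BCMod
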