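import Mathlib
import Groth.Prelude.Def_W4c4lgringredgrpLG
import Groth.Agent.S16597

/-!
# The local-global principle for split surjections of modules over an LG-ring

Let `R` be an LG-ring, `A` an `R`-algebra, `M`, `N` finite projective `A`-modules which are finite
projective over `R`.  If for every maximal ideal `m` of `R` there are `A`-linear maps
`φ : M → N`, `ψ : N → M` with `φ ∘ ψ ≡ id` modulo `m N`, then there are `A`-linear maps
`φ : M → N`, `ψ : N → M` with `φ ∘ ψ` bijective.
-/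

set_option autoImplicit false
universe u v w w'

namespace Groth.Agent.Lib.Seat78.LGCore
open MvPolynomial

/-- LG-rings: a polynomial which takes, for each maximal ideal, a value outside that ideal at some
point of `R`, takes a unit value at some point of `R`. -/
theorem exists_isUnit_eval {R : Type u} [CommRing R] (hR : LGRing.IsLGRing R) {σ : Type} [Fintype σ]
    (F : MvPolynomial σ R)
    (h : ∀ m : Ideal R, m.IsMaximal → ∃ s : σ → R, eval s F ∉ m) :
    ∃ s : σ → R, IsUnit (eval s F) := by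
  have h' : ∀ (m : Ideal R) [m.IsMaximal], LGRing.RepresentsUnit F (R ⧸ m) := by
    intro m hm
    obtain ⟨s, hs⟩ := h m hm
    refine ⟨fun i => Ideal.Quotient.mk m (s i), ?_⟩
    have h1 : aeval (fun i => Ideal.Quotient.mk m (s i)) F = Ideal.Quotient.mk m (eval s F) := by
      have := MvPolynomial.aeval_algebraMap_apply (B := R ⧸ m) s F
      exact this
    rw [h1]
    let _ := Ideal.Quotient.field m
    exact IsUnit.mk0 _ (by rwa [Ne, Ideal.Quotient.eq_zero_iff_mem])
  obtain ⟨s, hs⟩ := Groth.Agent.S16597.of_fintype hR F h'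
  exact ⟨s, hs⟩

theorem mem_of_mem_smul_top_pi {R : Type u} [CommRing R] {c : ℕ} (I : Ideal R) {x : Fin c → R}
    (hx : x ∈ I • (⊤ : Submodule R (Fin c → R))) (i : Fin c) : x i ∈ I := by
  refine Submodule.smul_induction_on hx ?_ ?_
  · intro r hr v _
    simpa using I.mul_mem_right (v i) hr
  · intro x y hx hy
    simpa using I.add_mem hx hy

theorem map_mem_smul_top {R : Type u} [CommRing R] {N N' : Type*} [AddCommGroup N] [Module R N]
    [AddCommGroup N'] [Module R N'] (f : N →ₗ[R] N') (I : Ideal R) {x : N}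
    (hx : x ∈ I • (⊤ : Submodule R N)) : f x ∈ I • (⊤ : Submodule R N') := by
  refine Submodule.smul_induction_on hx ?_ ?_
  · intro r hr v _
    rw [map_smul]
    exact Submodule.smul_mem_smul hr Submodule.mem_top
  · intro x y hx hy
    rw [map_add]
    exact Submodule.add_mem _ hx hy

section Det

variable {R : Type u} [CommRing R] {N : Type v} [AddCommGroup N] [Module R N] {c : ℕ}
  (pN : (Fin c → R) →ₗ[R] N) (iN : N →ₗ[R] (Fin c → R))

/-- The test matrix of an endomorphism `θ` of a module `N` with coordinates `pN`, `iN`: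
it represents `θ ⊕ id` on `N ⊕ ker pN ≃ R^c`. -/
noncomputable def testMat (θ : N →ₗ[R] N) : Matrix (Fin c) (Fin c) R :=
  LinearMap.toMatrix' (iN ∘ₗ θ ∘ₗ pN) + 1 - LinearMap.toMatrix' (iN ∘ₗ pN)

variable {pN iN}

theorem testMat_mulVec (θ : N →ₗ[R] N) (v : Fin c → R) :
    (testMat pN iN θ).mulVec v = iN (θ (pN v)) + (v - iN (pN v)) := by
  have h1 : Matrix.toLin' (testMat pN iN θ) = iN ∘ₗ θ ∘ₗ pN + (LinearMap.id - iN ∘ₗ pN) := by
    rw [testMat, sub_eq_add_neg, add_assoc, map_add, map_add, map_neg, Matrix.toLin'_toMatrix',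
      Matrix.toLin'_toMatrix', Matrix.toLin'_one, ← sub_eq_add_neg]
  have := congrArg (fun f => f v) h1
  simpa using this

theorem bijective_of_isUnit_det_testMat (hpi : pN ∘ₗ iN = LinearMap.id) (θ : N →ₗ[R] N)
    (hdet : IsUnit (testMat pN iN θ).det) : Function.Bijective θ := by
  set T := testMat pN iN θ with hT
  have hpi' : ∀ x, pN (iN x) = x := fun x => by
    have := congrArg (fun f => f x) hpi
    simpa using this
  have hTinj : ∀ v, T.mulVec v = 0 → v = 0 := by
    intro v hv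
    have := congrArg (fun w => (T⁻¹).mulVec w) hv
    simp only [Matrix.mulVec_mulVec, Matrix.nonsing_inv_mul T hdet, Matrix.one_mulVec,
      Matrix.mulVec_zero] at this
    exact this
  constructor
  · rw [injective_iff_map_eq_zero]
    intro x hx
    have h1 : T.mulVec (iN x) = 0 := by
      rw [hT, testMat_mulVec, hpi', hx, map_zero, sub_self, add_zero]
    have h2 := hTinj _ h1
    rw [← hpi' x, h2, map_zero]
  · intro y
    refine ⟨pN ((T⁻¹).mulVec (iN y)), ?_⟩
    have h1 : T.mulVec ((T⁻¹).mulVec (iN y)) = iN y := by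
      rw [Matrix.mulVec_mulVec, Matrix.mul_nonsing_inv T hdet, Matrix.one_mulVec]
    rw [hT, testMat_mulVec] at h1
    have h2 := congrArg pN h1
    rw [map_add, map_sub, hpi', hpi', sub_self, add_zero, hpi'] at h2
    exact h2

theorem det_testMat_sub_one_mem (I : Ideal R) (θ : N →ₗ[R] N)
    (hθ : ∀ y, θ y - y ∈ I • (⊤ : Submodule R N)) : (testMat pN iN θ).det - 1 ∈ I := by
  have hent : ∀ i j, (testMat pN iN θ) i j - (1 : Matrix (Fin c) (Fin c) R) i j ∈ I := by
    intro i j
    have h1 : (testMat pN iN θ) i j - (1 : Matrix (Fin c) (Fin c) R) i j =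
        iN (θ (pN (Pi.single j 1)) - pN (Pi.single j 1)) i := by
      simp only [testMat, Matrix.sub_apply, Matrix.add_apply, LinearMap.toMatrix'_apply,
        LinearMap.comp_apply, map_sub, Pi.sub_apply]
      ring
    rw [h1]
    exact mem_of_mem_smul_top_pi I (map_mem_smul_top iN I (hθ _)) i
  have hmap : (testMat pN iN θ).map (Ideal.Quotient.mk I) = 1 := by
    ext i j
    rw [Matrix.map_apply]
    have := hent i j
    rw [← Ideal.Quotient.eq_zero_iff_mem, map_sub, sub_eq_zero] at this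
    rw [this]
    by_cases hij : i = j
    · subst hij; simp
    · simp [hij]
  have h2 : Ideal.Quotient.mk I (testMat pN iN θ).det = 1 := by
    rw [RingHom.map_det, RingHom.mapMatrix_apply, hmap, Matrix.det_one]
  rw [← Ideal.Quotient.eq_zero_iff_mem, map_sub, h2, map_one, sub_self]

end Det

section Poly

variable {R : Type u} [CommRing R] {M : Type w} {N : Type v} [AddCommGroup M] [Module R M]
  [AddCommGroup N] [Module R N] {a c : ℕ}
  (pM : (Fin a → R) →ₗ[R] M) (iM : M →ₗ[R] (Fin a → R))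
  (pN : (Fin c → R) →ₗ[R] N) (iN : N →ₗ[R] (Fin c → R))
  {ι ι' : Type} [Fintype ι] [Fintype ι'] (φ : ι → (M →ₗ[R] N)) (ψ : ι' → (N →ₗ[R] M))

/-- the polynomial test matrix -/
noncomputable def polyMat : Matrix (Fin c) (Fin c) (MvPolynomial (ι ⊕ ι') R) :=
  (∑ i, (X (Sum.inl i) : MvPolynomial (ι ⊕ ι') R) •
      (LinearMap.toMatrix' (iN ∘ₗ φ i ∘ₗ pM)).map (C : R →+* MvPolynomial (ι ⊕ ι') R)) *
  (∑ j, (X (Sum.inr j) : MvPolynomial (ι ⊕ ι') R) •
      (LinearMap.toMatrix' (iM ∘ₗ ψ j ∘ₗ pN)).map (C : R →+* MvPolynomial (ι ⊕ ι') R)) +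
  ((1 : Matrix (Fin c) (Fin c) R) - LinearMap.toMatrix' (iN ∘ₗ pN)).map
    (C : R →+* MvPolynomial (ι ⊕ ι') R)

variable {pM iM}

theorem map_eval_polyMat (hM : pM ∘ₗ iM = LinearMap.id) (s : ι → R) (t : ι' → R) :
    (polyMat pM iM pN iN φ ψ).map (eval (Sum.elim s t)) =
      testMat pN iN ((∑ i, s i • φ i) ∘ₗ (∑ j, t j • ψ j)) := by
  have h2 : ∑ i, s i • (iN ∘ₗ φ i ∘ₗ pM) = iN ∘ₗ (∑ i, s i • φ i) ∘ₗ pM := by
    refine LinearMap.ext fun v => ?_
    simp [LinearMap.sum_apply]
  have h3 : ∑ j, t j • (iM ∘ₗ ψ j ∘ₗ pN) = iM ∘ₗ (∑ j, t j • ψ j) ∘ₗ pN := by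
    refine LinearMap.ext fun v => ?_
    simp [LinearMap.sum_apply]
  have h1 : LinearMap.toMatrix' (iN ∘ₗ ((∑ i, s i • φ i) ∘ₗ (∑ j, t j • ψ j)) ∘ₗ pN) =
      (∑ i, s i • LinearMap.toMatrix' (iN ∘ₗ φ i ∘ₗ pM)) *
        (∑ j, t j • LinearMap.toMatrix' (iM ∘ₗ ψ j ∘ₗ pN)) := by
    have h4 : iN ∘ₗ ((∑ i, s i • φ i) ∘ₗ (∑ j, t j • ψ j)) ∘ₗ pN =
        (iN ∘ₗ (∑ i, s i • φ i) ∘ₗ pM) ∘ₗ (iM ∘ₗ (∑ j, t j • ψ j) ∘ₗ pN) := by
      refine LinearMap.ext fun v => ?_
      simp only [LinearMap.comp_apply]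
      have := congrArg (fun f => f ((∑ j, t j • ψ j) (pN v))) hM
      simp only [LinearMap.comp_apply, LinearMap.id_apply] at this
      rw [this]
    rw [h4, LinearMap.toMatrix'_comp, ← h2, ← h3, map_sum, map_sum]
    simp_rw [map_smul]
  rw [testMat, h1, sub_eq_add_neg, add_assoc, ← sub_eq_add_neg]
  ext i j
  simp [polyMat, Matrix.mul_apply, Matrix.sum_apply, Matrix.add_apply, Matrix.sub_apply,
    Finset.sum_mul]

end Poly

section CoreR

variable {R : Type u} [CommRing R] (hR : LGRing.IsLGRing R)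
  {M : Type w} {N : Type v} [AddCommGroup M] [Module R M] [AddCommGroup N] [Module R N]
  [Module.Finite R M] [Module.Projective R M] [Module.Finite R N] [Module.Projective R N]
  {ι ι' : Type} [Fintype ι] [Fintype ι'] (φ : ι → (M →ₗ[R] N)) (ψ : ι' → (N →ₗ[R] M))

include hR in
/-- The `R`-linear core of the local-global principle. -/
theorem exists_comp_bijective_of_families
    (h : ∀ m : Ideal R, m.IsMaximal → ∃ (s : ι → R) (t : ι' → R),
      ∀ y, (∑ i, s i • φ i) ((∑ j, t j • ψ j) y) - y ∈ m • (⊤ : Submodule R N)) :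
    ∃ (s : ι → R) (t : ι' → R),
      Function.Bijective ((∑ i, s i • φ i) ∘ₗ (∑ j, t j • ψ j)) := by
  classical
  obtain ⟨a, pM, iM, -, -, hM⟩ := Module.Finite.exists_comp_eq_id_of_projective R M
  obtain ⟨c, pN, iN, -, -, hN⟩ := Module.Finite.exists_comp_eq_id_of_projective R N
  set F : MvPolynomial (ι ⊕ ι') R := (polyMat pM iM pN iN φ ψ).det with hF
  have heval : ∀ (s : ι → R) (t : ι' → R), eval (Sum.elim s t) F =
      (testMat pN iN ((∑ i, s i • φ i) ∘ₗ (∑ j, t j • ψ j))).det := by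
    intro s t
    rw [hF, RingHom.map_det, RingHom.mapMatrix_apply, map_eval_polyMat pN iN φ ψ hM]
  have hloc : ∀ m : Ideal R, m.IsMaximal → ∃ σ : ι ⊕ ι' → R, eval σ F ∉ m := by
    intro m hm
    obtain ⟨s, t, hst⟩ := h m hm
    refine ⟨Sum.elim s t, fun hmem => ?_⟩
    rw [heval] at hmem
    have h1 := det_testMat_sub_one_mem (pN := pN) (iN := iN) m
      ((∑ i, s i • φ i) ∘ₗ (∑ j, t j • ψ j)) (fun y => hst y)
    have h2 : (1 : R) ∈ m := by
      have := m.sub_mem hmem h1
      simpa using this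
    exact hm.ne_top ((Ideal.eq_top_iff_one m).mpr h2)
  obtain ⟨σ, hσ⟩ := exists_isUnit_eval hR F hloc
  refine ⟨σ ∘ Sum.inl, σ ∘ Sum.inr, ?_⟩
  have hσ' : σ = Sum.elim (σ ∘ Sum.inl) (σ ∘ Sum.inr) := (Sum.elim_comp_inl_inr σ).symm
  rw [hσ', heval] at hσ
  exact bijective_of_isUnit_det_testMat hN _ hσ

end CoreR

section CoreA

variable {R : Type u} [CommRing R] {A : Type v} [Ring A] [Algebra R A]
  {M : Type w} {N : Type w'} [AddCommGroup M] [Module A M] [Module R M] [IsScalarTower R A M]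
  [AddCommGroup N] [Module A N] [Module R N] [IsScalarTower R A N]

omit [Module R M] [IsScalarTower R A M] in
/-- A finite family of `A`-linear maps spanning `Hom_A(M, N)` over `R`, for `M` finite projective
over `A` and `N` finite over `R`. -/
theorem exists_spanning_family [Module.Finite A M] [Module.Projective A M] [Module.Finite R N] :
    ∃ (ι : Type) (_ : Fintype ι) (Φ : ι → (M →ₗ[A] N)),
      ∀ φ : M →ₗ[A] N, ∃ r : ι → R, φ = ∑ i, r i • Φ i := by
  classical
  obtain ⟨n, p, g, -, -, hpg⟩ := Module.Finite.exists_comp_eq_id_of_projective A M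
  obtain ⟨c, y, hy⟩ := Module.Finite.exists_fin (R := R) (M := N)
  refine ⟨Fin n × Fin c, inferInstance,
    fun lq => (LinearMap.toSpanSingleton A N (y lq.2)) ∘ₗ (LinearMap.proj lq.1 ∘ₗ g), ?_⟩
  intro φ
  have hr : ∀ l : Fin n, ∃ r : Fin c → R, ∑ q, r q • y q = φ (p (Pi.single l 1)) := by
    intro l
    have : φ (p (Pi.single l 1)) ∈ Submodule.span R (Set.range y) := by rw [hy]; trivial
    exact (Submodule.mem_span_range_iff_exists_fun R).mp this
  choose r hr using hr
  refine ⟨fun lq => r lq.1 lq.2, ?_⟩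
  refine LinearMap.ext fun x => ?_
  have hx : x = ∑ l, g x l • p (Pi.single l 1) := by
    have h1 : p (g x) = x := by
      have := congrArg (fun f => f x) hpg
      simpa using this
    conv_lhs => rw [← h1, LinearMap.pi_apply_eq_sum_univ p (g x)]
    refine Finset.sum_congr rfl fun l _ => ?_
    congr 2
    ext j
    simp [Pi.single_apply, eq_comm]
  rw [LinearMap.sum_apply, Fintype.sum_prod_type]
  conv_lhs => rw [hx, map_sum]
  refine Finset.sum_congr rfl fun l _ => ?_
  rw [map_smul, ← hr l, Finset.smul_sum]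
  refine Finset.sum_congr rfl fun q _ => ?_
  simp only [LinearMap.smul_apply, LinearMap.comp_apply, LinearMap.proj_apply,
    LinearMap.toSpanSingleton_apply]
  rw [smul_comm]

variable (hR : LGRing.IsLGRing R)

include hR in
/-- **Local-global principle** for split surjections between finite projective modules over an
algebra over an LG-ring. -/
theorem exists_comp_bijective [Module.Finite A M] [Module.Projective A M]
    [Module.Finite A N] [Module.Projective A N]
    [Module.Finite R M] [Module.Projective R M] [Module.Finite R N] [Module.Projective R N]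
    (h : ∀ m : Ideal R, m.IsMaximal → ∃ (φ : M →ₗ[A] N) (ψ : N →ₗ[A] M),
      ∀ y, φ (ψ y) - y ∈ m • (⊤ : Submodule R N)) :
    ∃ (φ : M →ₗ[A] N) (ψ : N →ₗ[A] M), Function.Bijective (φ ∘ₗ ψ) := by
  classical
  obtain ⟨ι, _, Φ, hΦ⟩ := exists_spanning_family (R := R) (A := A) (M := M) (N := N)
  obtain ⟨ι', _, Ψ, hΨ⟩ := exists_spanning_family (R := R) (A := A) (M := N) (N := M)
  have hres : ∀ (s : ι → R), (∑ i, s i • Φ i).restrictScalars R =
      ∑ i, s i • (Φ i).restrictScalars R := by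
    intro s
    refine LinearMap.ext fun x => ?_
    simp [LinearMap.sum_apply]
  have hres' : ∀ (t : ι' → R), (∑ j, t j • Ψ j).restrictScalars R =
      ∑ j, t j • (Ψ j).restrictScalars R := by
    intro t
    refine LinearMap.ext fun x => ?_
    simp [LinearMap.sum_apply]
  obtain ⟨s, t, hst⟩ := exists_comp_bijective_of_families hR
    (fun i => (Φ i).restrictScalars R) (fun j => (Ψ j).restrictScalars R) (by
      intro m hm
      obtain ⟨φ, ψ, hφψ⟩ := h m hm
      obtain ⟨s, hs⟩ := hΦ φ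
      obtain ⟨t, ht⟩ := hΨ ψ
      refine ⟨s, t, fun y => ?_⟩
      rw [← hres, ← hres', ← hs, ← ht]
      exact hφψ y)
  refine ⟨∑ i, s i • Φ i, ∑ j, t j • Ψ j, ?_⟩
  rw [← hres, ← hres'] at hst
  exact hst

end CoreA

end Groth.Agent.Lib.Seat78.LGCore
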