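import Mathlib
import Groth.Agent.Lib.LeadAzumayaLocal
import Groth.Agent.Lib.Helper22LGProj
import Groth.Agent.Lib.Seat78BCMod
import Groth.Agent.Lib.Seat78LGCore

/-!
# Finite projective modules over an Azumaya algebra over an LG-ring

Let `R` be an LG-ring and `A` an Azumaya `R`-algebra.  For finite projective `A`-modules `M`, `N`:

* `exists_retraction`: if `rank_R N ≤ rank_R M` at every prime, then `N` is a retract (in particular
  a quotient) of `M` as an `A`-module;
* `nonempty_linearEquiv`: if `rank_R M = rank_R N` at every prime, then `M ≃ N` as `A`-modules.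
-/

set_option autoImplicit false
universe u v w w'

namespace Groth.Agent.Lib.Seat78.LGAz
open TensorProduct

section SS

variable {k : Type*} [Field k] {B : Type*} [Ring B] [Algebra k B] [IsSimpleRing B] [IsArtinianRing B]

/-- Over a simple artinian algebra, a finite module of smaller dimension is a retract of one of
larger dimension. -/
theorem exists_retract_of_finrank_le {V W : Type*} [AddCommGroup V] [Module B V] [Module k V]
    [IsScalarTower k B V] [Module.Finite k V] [AddCommGroup W] [Module B W] [Module k W]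
    [IsScalarTower k B W] [Module.Finite k W]
    (h : Module.finrank k W ≤ Module.finrank k V) :
    ∃ (φ : V →ₗ[B] W) (ψ : W →ₗ[B] V), φ ∘ₗ ψ = LinearMap.id := by
  classical
  by_cases hW : Subsingleton W
  · exact ⟨0, 0, LinearMap.ext fun x => Subsingleton.elim _ _⟩
  rw [not_subsingleton_iff_nontrivial] at hW
  have hV : Nontrivial V := by
    by_contra hn
    rw [not_nontrivial_iff_subsingleton] at hn
    have h0 : Module.finrank k V = 0 := Module.finrank_zero_of_subsingleton
    have h1 : 0 < Module.finrank k W := Module.finrank_pos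
    omega
  obtain ⟨n, S, hn, hS, ⟨e⟩, hdim, hpos⟩ :=
    Groth.Agent.Lib.LeadCSA.exists_equiv_fun (k := k) (R := B) (M := V)
  obtain ⟨n', S', hn', hS', ⟨e'⟩, hdim', hpos'⟩ :=
    Groth.Agent.Lib.LeadCSA.exists_equiv_fun (k := k) (R := B) (M := W)
  obtain ⟨f⟩ := Groth.Agent.Lib.LeadCSA.simple_iso (R := B) S S'
  have hf : Module.finrank k S = Module.finrank k S' := (f.restrictScalars k).finrank_eq
  have hnn : n' ≤ n := by
    rw [hdim, hdim', hf] at h
    exact Nat.le_of_mul_le_mul_right h hpos'
  -- restriction and extension by zero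
  let ρ : (Fin n → S) →ₗ[B] (Fin n' → S') :=
    LinearMap.pi fun j => f.toLinearMap ∘ₗ LinearMap.proj (Fin.castLE hnn j)
  let ε : (Fin n' → S') →ₗ[B] (Fin n → S) :=
    LinearMap.pi fun i => if hi : (i : ℕ) < n' then
      f.symm.toLinearMap ∘ₗ LinearMap.proj (⟨i, hi⟩ : Fin n') else 0
  have hρε : ρ ∘ₗ ε = LinearMap.id := by
    refine LinearMap.ext fun g => ?_
    funext j
    simp [ρ, ε]
  refine ⟨e'.symm.toLinearMap ∘ₗ ρ ∘ₗ e.toLinearMap, e.symm.toLinearMap ∘ₗ ε ∘ₗ e'.toLinearMap, ?_⟩
  refine LinearMap.ext fun x => ?_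
  have := congrArg (fun F => F (e' x)) hρε
  simp only [LinearMap.comp_apply, LinearMap.id_apply] at this
  simp [this]

end SS

section Rank

/-- The dimension of the fibre of a finite projective module at a maximal ideal. -/
theorem finrank_quotient_tensor {R : Type u} [CommRing R] (m : Ideal R) [hm : m.IsMaximal]
    (N : Type v) [AddCommGroup N] [Module R N] [Module.Finite R N] [Module.Projective R N] :
    letI := Ideal.Quotient.field m
    Module.finrank (R ⧸ m) ((R ⧸ m) ⊗[R] N) = Module.rankAtStalk N ⟨m, hm.isPrime⟩ := by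
  let _ := Ideal.Quotient.field m
  have h1 := Module.rankAtStalk_baseChange (R := R) (M := N) (S := R ⧸ m)
    (⊥ : PrimeSpectrum (R ⧸ m))
  have h2 := congrFun (Module.rankAtStalk_eq_finrank_of_free (R := R ⧸ m)
    (M := (R ⧸ m) ⊗[R] N)) (⊥ : PrimeSpectrum (R ⧸ m))
  rw [h1] at h2
  rw [Pi.natCast_apply, Nat.cast_id] at h2
  rw [← h2]
  congr 1
  apply PrimeSpectrum.ext
  show Ideal.comap (algebraMap R (R ⧸ m)) ⊥ = m
  rw [← RingHom.ker_eq_comap_bot]
  exact Ideal.mk_ker

/-- A finite projective module over an algebra which is projective over the base ring is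
projective over the base ring. -/
theorem projective_of_tower (R : Type u) [CommRing R] (A : Type v) [Ring A] [Algebra R A]
    [Module.Projective R A] (M : Type w) [AddCommGroup M] [Module A M] [Module R M]
    [IsScalarTower R A M] [Module.Finite A M] [Module.Projective A M] : Module.Projective R M := by
  classical
  obtain ⟨n, p, g, -, -, hpg⟩ := Module.Finite.exists_comp_eq_id_of_projective A M
  haveI : Module.Projective R (Fin n → A) :=
    Module.Projective.of_equiv (DFinsupp.linearEquivFunOnFintype (R := R) (M := fun _ : Fin n => A))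
  refine Module.Projective.of_split (g.restrictScalars R) (p.restrictScalars R) ?_
  refine LinearMap.ext fun x => ?_
  have := congrArg (fun f => f x) hpg
  simpa using this

end Rank

section Residue

variable {R : Type u} [CommRing R] {A : Type v} [Ring A] [Algebra R A]
  {M : Type w} {N : Type w'} [AddCommGroup M] [Module A M] [Module R M] [IsScalarTower R A M]
  [AddCommGroup N] [Module A N] [Module R N] [IsScalarTower R A N]

omit [Module A N] [IsScalarTower R A N] in
theorem one_tmul_surjective (I : Ideal R) :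
    Function.Surjective (fun y : N => (1 : R ⧸ I) ⊗ₜ[R] y) := by
  intro v
  obtain ⟨y, hy⟩ := Submodule.Quotient.mk_surjective _ (quotTensorEquivQuotSMul N I v)
  refine ⟨y, (quotTensorEquivQuotSMul N I).injective ?_⟩
  rw [← hy, quotTensorEquivQuotSMul_mk_one_tmul]

omit [Module A N] [IsScalarTower R A N] in
theorem mem_smul_top_of_one_tmul_eq_zero (I : Ideal R) {y : N}
    (h : (1 : R ⧸ I) ⊗ₜ[R] y = 0) : y ∈ I • (⊤ : Submodule R N) := by
  have h1 := quotTensorEquivQuotSMul_mk_one_tmul (M := N) I y
  rw [h, map_zero] at h1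
  exact (Submodule.Quotient.mk_eq_zero _).mp h1.symm

attribute [local instance] BCMod.bcModule

/-- Lifting a `(R ⧸ m) ⊗ A`-linear map between fibres to an `A`-linear map. -/
theorem exists_lift (m : Ideal R) [Module.Finite A M] [Module.Projective A M]
    (φ' : (R ⧸ m) ⊗[R] M →ₗ[(R ⧸ m) ⊗[R] A] (R ⧸ m) ⊗[R] N) :
    ∃ φ : M →ₗ[A] N, ∀ x, (1 : R ⧸ m) ⊗ₜ[R] φ x = φ' (1 ⊗ₜ x) := by
  classical
  obtain ⟨n, p, g, -, -, hpg⟩ := Module.Finite.exists_comp_eq_id_of_projective A M
  have hy : ∀ l : Fin n, ∃ y : N, (1 : R ⧸ m) ⊗ₜ[R] y = φ' (1 ⊗ₜ p (Pi.single l 1)) :=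
    fun l => one_tmul_surjective m _
  choose y hy using hy
  refine ⟨∑ l, (LinearMap.toSpanSingleton A N (y l)) ∘ₗ (LinearMap.proj l ∘ₗ g), fun x => ?_⟩
  have hx : x = ∑ l, g x l • p (Pi.single l 1) := by
    have h1 : p (g x) = x := by
      have := congrArg (fun f => f x) hpg
      simpa using this
    conv_lhs => rw [← h1, LinearMap.pi_apply_eq_sum_univ p (g x)]
    refine Finset.sum_congr rfl fun l _ => ?_
    congr 2
    ext j
    simp [Pi.single_apply, eq_comm]
  rw [LinearMap.sum_apply, tmul_sum]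
  conv_rhs => rw [hx, tmul_sum, map_sum]
  refine Finset.sum_congr rfl fun l _ => ?_
  simp only [LinearMap.comp_apply, LinearMap.proj_apply, LinearMap.toSpanSingleton_apply]
  have h1 : (1 : R ⧸ m) ⊗ₜ[R] (g x l • y l) =
      ((1 : R ⧸ m) ⊗ₜ[R] g x l) • ((1 : R ⧸ m) ⊗ₜ[R] y l) := by
    rw [BCMod.tmul_smul_tmul, one_mul]
  have h2 : (1 : R ⧸ m) ⊗ₜ[R] (g x l • p (Pi.single l 1)) =
      ((1 : R ⧸ m) ⊗ₜ[R] g x l) • ((1 : R ⧸ m) ⊗ₜ[R] p (Pi.single l 1)) := by
    rw [BCMod.tmul_smul_tmul, one_mul]
  rw [h1, h2, map_smul, hy]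

/-- The residue field step: over an Azumaya algebra, if the rank of `N` at the maximal ideal `m`
is at most that of `M`, then `N` is a retract of `M` modulo `m`. -/
theorem exists_maps_mod_maximal [IsAzumaya R A] (m : Ideal R) [hm : m.IsMaximal]
    [Module.Finite A M] [Module.Projective A M] [Module.Finite A N] [Module.Projective A N]
    [Module.Finite R M] [Module.Projective R M] [Module.Finite R N] [Module.Projective R N]
    (hrk : Module.rankAtStalk N ⟨m, hm.isPrime⟩ ≤ Module.rankAtStalk M ⟨m, hm.isPrime⟩) :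
    ∃ (φ : M →ₗ[A] N) (ψ : N →ₗ[A] M), ∀ y, φ (ψ y) - y ∈ m • (⊤ : Submodule R N) := by
  let _ := Ideal.Quotient.field m
  have : IsAzumaya (R ⧸ m) ((R ⧸ m) ⊗[R] A) :=
    Groth.Agent.Lib.LeadAzumaya.isAzumaya_baseChange (R ⧸ m) A
  have : IsSimpleRing ((R ⧸ m) ⊗[R] A) :=
    Groth.Agent.Lib.LeadAzumaya.isSimpleRing_of_isAzumaya_field (k := R ⧸ m)
  have : IsArtinianRing ((R ⧸ m) ⊗[R] A) := IsArtinianRing.of_finite (R ⧸ m) _
  have : IsScalarTower (R ⧸ m) ((R ⧸ m) ⊗[R] A) ((R ⧸ m) ⊗[R] M) := BCMod.isScalarTower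
  have : IsScalarTower (R ⧸ m) ((R ⧸ m) ⊗[R] A) ((R ⧸ m) ⊗[R] N) := BCMod.isScalarTower
  have h : Module.finrank (R ⧸ m) ((R ⧸ m) ⊗[R] N) ≤ Module.finrank (R ⧸ m) ((R ⧸ m) ⊗[R] M) := by
    rw [finrank_quotient_tensor m N, finrank_quotient_tensor m M]
    exact hrk
  obtain ⟨φ', ψ', hφψ⟩ := exists_retract_of_finrank_le (k := R ⧸ m)
    (B := (R ⧸ m) ⊗[R] A) h
  obtain ⟨φ, hφ⟩ := exists_lift m φ'
  obtain ⟨ψ, hψ⟩ := exists_lift m ψ'
  refine ⟨φ, ψ, fun y => mem_smul_top_of_one_tmul_eq_zero m ?_⟩
  rw [tmul_sub, hφ, hψ]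
  have := congrArg (fun F => F ((1 : R ⧸ m) ⊗ₜ[R] y)) hφψ
  simp only [LinearMap.comp_apply, LinearMap.id_apply] at this
  rw [this, sub_self]

end Residue

section Main

variable {R : Type u} [CommRing R] (hR : LGRing.IsLGRing R) {A : Type v} [Ring A] [Algebra R A]
  [IsAzumaya R A]

include hR in
/-- Over an Azumaya algebra over an LG-ring, a finite projective module `N` whose rank is at most
that of the finite projective module `M` is a retract of `M`. -/
theorem exists_retraction {M : Type w} {N : Type w'} [AddCommGroup M] [Module A M] [Module R M]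
    [IsScalarTower R A M] [AddCommGroup N] [Module A N] [Module R N] [IsScalarTower R A N]
    [Module.Finite A M] [Module.Projective A M] [Module.Finite A N] [Module.Projective A N]
    (h : ∀ p : PrimeSpectrum R, Module.rankAtStalk N p ≤ Module.rankAtStalk M p) :
    ∃ (φ : M →ₗ[A] N) (ψ : N →ₗ[A] M), φ ∘ₗ ψ = LinearMap.id := by
  haveI : Module.Finite R M := Module.Finite.trans A M
  haveI : Module.Finite R N := Module.Finite.trans A N
  haveI : Module.Projective R M := projective_of_tower R A M
  haveI : Module.Projective R N := projective_of_tower R A N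
  obtain ⟨φ, ψ, hφψ⟩ := LGCore.exists_comp_bijective (A := A) (M := M) (N := N) hR
    (fun m hm => exists_maps_mod_maximal (hm := hm) m (h ⟨m, hm.isPrime⟩))
  let e : N ≃ₗ[A] N := LinearEquiv.ofBijective (φ ∘ₗ ψ) hφψ
  refine ⟨φ, ψ ∘ₗ e.symm.toLinearMap, LinearMap.ext fun y => ?_⟩
  have : (φ ∘ₗ ψ) (e.symm y) = y := e.apply_symm_apply y
  simpa using this

include hR in
/-- Over an Azumaya algebra over an LG-ring, finite projective modules with the same rank function
(over the base ring) are isomorphic. -/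
theorem nonempty_linearEquiv {M N : Type w} [AddCommGroup M] [Module A M] [Module R M]
    [IsScalarTower R A M] [AddCommGroup N] [Module A N] [Module R N] [IsScalarTower R A N]
    [Module.Finite A M] [Module.Projective A M] [Module.Finite A N] [Module.Projective A N]
    (h : ∀ p : PrimeSpectrum R, Module.rankAtStalk M p = Module.rankAtStalk N p) :
    Nonempty (M ≃ₗ[A] N) := by
  haveI : Module.Finite R M := Module.Finite.trans A M
  haveI : Module.Finite R N := Module.Finite.trans A N
  haveI : Module.Projective R M := projective_of_tower R A M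
  haveI : Module.Projective R N := projective_of_tower R A N
  obtain ⟨φ, ψ, hφψ⟩ := exists_retraction hR (A := A) (M := M) (N := N) (fun p => (h p).ge)
  have hbij : Function.Bijective ψ :=
    Groth.Agent.Lib.Helper22.LGProj.bijective_of_split_of_rank (ψ.restrictScalars R)
      (φ.restrictScalars R) (fun y => by
        have := congrArg (fun f => f y) hφψ
        simpa using this) (fun q => (h q).symm)
  exact ⟨(LinearEquiv.ofBijective ψ hbij).symm⟩

end Main

end Groth.Agent.Lib.Seat78.LGAz
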