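import Mathlib
import Groth.Agent.S16598
import Groth.Agent.S19589
import Groth.Agent.Lib.Seat78LGAz
import Groth.Agent.Lib.Seat78Corner

/-!
# Skolem–Noether over LG-rings

* `isLGRing_of_isLocalRing`: local rings are LG-rings.
* `Tw Ψ`: a module `P` with its `End_R(P)`-action twisted by an automorphism `Ψ` of `End_R(P)`; it is
  finite projective over `End_R(P)` if `P` has a unimodular element.
* `exists_unit_conj`: every algebra automorphism of an Azumaya algebra over an LG-ring is inner.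
-/

set_option autoImplicit false
universe u v

namespace Groth.Agent.Lib.Seat78.SkolemNoether
open TensorProduct Groth.Agent.Lib.Seat78.Corner

theorem isLGRing_of_isLocalRing (R : Type u) [CommRing R] [IsLocalRing R] : LGRing.IsLGRing R := by
  intro n f hf
  obtain ⟨s, hs⟩ := hf (IsLocalRing.maximalIdeal R)
  choose t ht using fun i => Ideal.Quotient.mk_surjective (s i)
  refine ⟨t, ?_⟩
  have h1 : Ideal.Quotient.mkₐ R (IsLocalRing.maximalIdeal R) (MvPolynomial.aeval t f) =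
      MvPolynomial.aeval s f := by
    rw [← AlgHom.comp_apply, MvPolynomial.comp_aeval]
    congr 2
    funext i
    exact ht i
  rw [← IsLocalRing.notMem_maximalIdeal]
  intro hmem
  have h2 : Ideal.Quotient.mkₐ R (IsLocalRing.maximalIdeal R) (MvPolynomial.aeval t f) = 0 :=
    Ideal.Quotient.eq_zero_iff_mem.mpr hmem
  rw [h1] at h2
  rw [h2] at hs
  exact not_isUnit_zero hs

section Tw

variable {R : Type*} [CommRing R] {P : Type*} [AddCommGroup P] [Module R P]

/-- `P` with the `End_R(P)`-module structure twisted by an automorphism of `End_R(P)` -/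
@[nolint unusedArguments]
def Tw (_ : Module.End R P ≃ₐ[R] Module.End R P) : Type _ := P

variable (Ψ : Module.End R P ≃ₐ[R] Module.End R P)

instance : AddCommGroup (Tw Ψ) := inferInstanceAs (AddCommGroup P)
instance : Module R (Tw Ψ) := inferInstanceAs (Module R P)

/-- the identification -/
def Tw.of : P ≃ₗ[R] Tw Ψ := LinearEquiv.refl R P

noncomputable instance twModule : Module (Module.End R P) (Tw Ψ) where
  smul h x := Tw.of Ψ (Ψ h ((Tw.of Ψ).symm x))
  one_smul x := by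
    show Tw.of Ψ (Ψ 1 ((Tw.of Ψ).symm x)) = x
    rw [map_one]; rfl
  mul_smul h h' x := by
    show Tw.of Ψ (Ψ (h * h') ((Tw.of Ψ).symm x)) = Tw.of Ψ (Ψ h ((Tw.of Ψ).symm
      (Tw.of Ψ (Ψ h' ((Tw.of Ψ).symm x)))))
    rw [map_mul]; rfl
  smul_zero h := by
    show Tw.of Ψ (Ψ h ((Tw.of Ψ).symm 0)) = 0
    rw [map_zero, map_zero, map_zero]
  smul_add h x y := by
    show Tw.of Ψ (Ψ h ((Tw.of Ψ).symm (x + y))) =
      Tw.of Ψ (Ψ h ((Tw.of Ψ).symm x)) + Tw.of Ψ (Ψ h ((Tw.of Ψ).symm y))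
    rw [map_add, map_add, map_add]
  add_smul h h' x := by
    show Tw.of Ψ (Ψ (h + h') ((Tw.of Ψ).symm x)) =
      Tw.of Ψ (Ψ h ((Tw.of Ψ).symm x)) + Tw.of Ψ (Ψ h' ((Tw.of Ψ).symm x))
    rw [map_add, LinearMap.add_apply, map_add]
  zero_smul x := by
    show Tw.of Ψ (Ψ 0 ((Tw.of Ψ).symm x)) = 0
    rw [map_zero, LinearMap.zero_apply, map_zero]

theorem Tw.smul_def (h : Module.End R P) (x : Tw Ψ) :
    h • x = Tw.of Ψ (Ψ h ((Tw.of Ψ).symm x)) := rfl

instance twTower : IsScalarTower R (Module.End R P) (Tw Ψ) where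
  smul_assoc r h x := by
    rw [Tw.smul_def, Tw.smul_def, map_smul, LinearMap.smul_apply, map_smul]

variable {Ψ} (u : P) (lam : P →ₗ[R] R)

theorem tau_apply_apply (g : Module.End R P) (x : P) : tau lam (g x) = g * tau lam x := by
  refine LinearMap.ext fun q => ?_
  simp [tau_apply, Module.End.mul_apply]

/-- the inclusion of `Tw Ψ` as a direct summand of `End_R(P)` -/
noncomputable def twIncl : Tw Ψ →ₗ[Module.End R P] Module.End R P where
  toFun x := Ψ.symm (tau lam ((Tw.of Ψ).symm x))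
  map_add' x y := by rw [map_add, map_add, map_add]
  map_smul' h x := by
    rw [Tw.smul_def, LinearEquiv.symm_apply_apply, tau_apply_apply, map_mul,
      AlgEquiv.symm_apply_apply]
    rfl

/-- the projection of `End_R(P)` onto `Tw Ψ` -/
noncomputable def twProj : Module.End R P →ₗ[Module.End R P] Tw Ψ where
  toFun h := Tw.of Ψ (Ψ h u)
  map_add' h h' := by rw [map_add, LinearMap.add_apply, map_add]
  map_smul' h h' := by
    rw [Tw.smul_def, LinearEquiv.symm_apply_apply, smul_eq_mul, map_mul]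
    rfl

theorem twProj_twIncl (hlam : lam u = 1) (x : Tw Ψ) : twProj (Ψ := Ψ) u (twIncl lam x) = x := by
  show Tw.of Ψ (Ψ (Ψ.symm (tau lam ((Tw.of Ψ).symm x))) u) = x
  rw [AlgEquiv.apply_symm_apply, tau_apply, hlam, one_smul, LinearEquiv.apply_symm_apply]

theorem tw_projective (hlam : lam u = 1) : Module.Projective (Module.End R P) (Tw Ψ) :=
  Module.Projective.of_split (twIncl lam) (twProj u) (LinearMap.ext (twProj_twIncl u lam hlam))

theorem tw_finite (hlam : lam u = 1) : Module.Finite (Module.End R P) (Tw Ψ) :=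
  Module.Finite.of_surjective (twProj (Ψ := Ψ) u)
    (fun x => ⟨twIncl lam x, twProj_twIncl u lam hlam x⟩)

end Tw

section Main

variable {R : Type u} [CommRing R] (hR : LGRing.IsLGRing R)
  (A : Type v) [Ring A] [Algebra R A] [IsAzumaya R A]

include hR in
/-- Skolem–Noether: an algebra automorphism of an Azumaya algebra over an LG-ring is inner. -/
theorem exists_unit_conj (φ : A ≃ₐ[R] A) : ∃ u : Aˣ, ∀ a : A, φ a = u * a * (u⁻¹ : Aˣ) := by
  have hAz : IsAzumaya R (Module.End R A) := Groth.Agent.S19589.result R A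
  let Φ : A ⊗[R] Aᵐᵒᵖ ≃ₐ[R] Module.End R A :=
    AlgEquiv.ofBijective (AlgHom.mulLeftRight R A) IsAzumaya.bij
  let Ψ : Module.End R A ≃ₐ[R] Module.End R A :=
    Φ.symm.trans ((Algebra.TensorProduct.congr φ (AlgEquiv.refl (R := R) (A₁ := Aᵐᵒᵖ))).trans Φ)
  have hΨ : ∀ (a : A) (b : Aᵐᵒᵖ), Ψ (AlgHom.mulLeftRight R A (a ⊗ₜ[R] b)) =
      AlgHom.mulLeftRight R A (φ a ⊗ₜ[R] b) := by
    intro a b
    show Φ ((Algebra.TensorProduct.congr φ (AlgEquiv.refl (R := R) (A₁ := Aᵐᵒᵖ)))
      (Φ.symm (Φ (a ⊗ₜ[R] b)))) = _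
    rw [AlgEquiv.symm_apply_apply]
    rfl
  obtain ⟨u, lam, hlam⟩ := Groth.Agent.S16598.result hR A
  let Ψ₀ : Module.End R A ≃ₐ[R] Module.End R A := AlgEquiv.refl
  have hP₀ : Module.Projective (Module.End R A) (Tw Ψ₀) := tw_projective u lam hlam
  have hF₀ : Module.Finite (Module.End R A) (Tw Ψ₀) := tw_finite u lam hlam
  have hP : Module.Projective (Module.End R A) (Tw Ψ) := tw_projective u lam hlam
  have hF : Module.Finite (Module.End R A) (Tw Ψ) := tw_finite u lam hlam
  have key := @Groth.Agent.Lib.Seat78.LGAz.nonempty_linearEquiv R _ hR (Module.End R A) _ _ hAz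
    (Tw Ψ₀) (Tw Ψ) _ (twModule Ψ₀) _ (twTower Ψ₀) _ (twModule Ψ) _ (twTower Ψ) hF₀ hP₀ hF hP
  obtain ⟨χ⟩ := key (fun p => rfl)
  -- `χ` as a function `A → A`
  let c : A → A := fun x => (Tw.of Ψ).symm (χ (Tw.of Ψ₀ x))
  have hc : ∀ a b x : A, c (a * x * b) = φ a * c x * b := by
    intro a b x
    have h1 := map_smul χ (AlgHom.mulLeftRight R A (a ⊗ₜ[R] MulOpposite.op b)) (Tw.of Ψ₀ x)
    rw [Tw.smul_def, Tw.smul_def, LinearEquiv.symm_apply_apply, hΨ] at h1
    have h2 : Ψ₀ (AlgHom.mulLeftRight R A (a ⊗ₜ[R] MulOpposite.op b)) x = a * x * b := by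
      show AlgHom.mulLeftRight R A (a ⊗ₜ[R] MulOpposite.op b) x = _
      rw [AlgHom.mulLeftRight_apply, MulOpposite.unop_op]
    rw [h2] at h1
    show (Tw.of Ψ).symm (χ (Tw.of Ψ₀ (a * x * b))) = _
    rw [h1, LinearEquiv.symm_apply_apply, AlgHom.mulLeftRight_apply, MulOpposite.unop_op]
  have hcinj : Function.Injective c := fun x y hxy =>
    (Tw.of Ψ₀).injective (χ.injective ((Tw.of Ψ).symm.injective hxy))
  have hcsurj : Function.Surjective c := fun y => by
    obtain ⟨x, hx⟩ := χ.surjective (Tw.of Ψ y)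
    refine ⟨(Tw.of Ψ₀).symm x, ?_⟩
    show (Tw.of Ψ).symm (χ (Tw.of Ψ₀ ((Tw.of Ψ₀).symm x))) = y
    rw [LinearEquiv.apply_symm_apply, hx, LinearEquiv.symm_apply_apply]
  set u₀ := c 1 with hu₀
  have h1 : ∀ b : A, c b = u₀ * b := by
    intro b
    have := hc 1 b 1
    rwa [one_mul, one_mul, map_one, one_mul] at this
  have h2 : ∀ a : A, c a = φ a * u₀ := by
    intro a
    have := hc a 1 1
    rwa [mul_one, mul_one, mul_one] at this
  obtain ⟨v, hv⟩ := hcsurj 1
  rw [h1] at hv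
  have hvu : v * u₀ = 1 := by
    apply hcinj
    rw [h1, ← mul_assoc, hv, one_mul]
  refine ⟨⟨u₀, v, hv, hvu⟩, fun a => ?_⟩
  show φ a = u₀ * a * v
  rw [← h1, h2, mul_assoc, hv, mul_one]

end Main

end Groth.Agent.Lib.Seat78.SkolemNoether
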