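import Mathlib
import Groth.Prelude.Def_QuadGrp
import Groth.Agent.Lib.Seat37CliffDescent
import Groth.Agent.Lib.Seat37CliffSOCenter
import Groth.Agent.Lib.LeadAzumaya
import Groth.Agent.Lib.Seat78SkolemNoether

/-!
# The even Clifford algebra in odd rank is Azumaya; `SO' → GSpin` over a local ring (seat 37)

Context of `CliffDescent` (`A` faithfully flat over `R`, `φ` an isometry of `Q_A` with the split form
of rank `2 m + 1`).
* `isAzumaya_even`: `C₀(Q)` is an Azumaya `R`-algebra (descent from `M_{2^m}(A)`).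
* `mem_GPin'_of_conj`: a unit `u` with `u v u⁻¹ = g v` for a linear automorphism `g` normalises `M`.
* `exists_gSpin_conj`: over a local ring, an isometry of determinant one is conjugation by a point
  of `GSpin` (Skolem–Noether for `C₀(Q)`, plus `C(Q) = Z · C₀(Q)`).
-/

set_option autoImplicit false
set_option linter.unusedSectionVars false
universe u v

namespace Groth.Agent.Lib.Seat37.CliffAzumaya

open CliffordAlgebra TensorProduct QuadGrp
open Groth.Agent.Lib.Seat37.CliffGrade Groth.Agent.Lib.Seat37.CliffBC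
  Groth.Agent.Lib.Seat37.CliffRank Groth.Agent.Lib.Seat37.CliffZeta
  Groth.Agent.Lib.Seat37.CliffDescent Groth.Agent.Lib.Seat37.CliffSOCenter

variable {R : Type u} [CommRing R] {M : Type v} [AddCommGroup M] [Module R M] [Module.Free R M]
  [Module.Finite R M]
variable (A : Type u) [CommRing A] [Algebra R A]
variable (Q : QuadraticForm R M) (m : ℕ)
variable (φ : (baseChangeForm A Q).IsometryEquiv (splitForm A (2 * m + 1)))

include φ in
/-- the even Clifford algebra of an odd-rank form that is fppf-locally split is Azumaya -/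
theorem isAzumaya_even [Module.FaithfullyFlat R A] : IsAzumaya R (CliffordAlgebra.even Q) := by
  obtain ⟨e⟩ := nonempty_even_matrix A Q m φ
  have : Nonempty (Fin (2 ^ m)) := ⟨⟨0, by positivity⟩⟩
  have : IsAzumaya A (Matrix (Fin (2 ^ m)) (Fin (2 ^ m)) A) := IsAzumaya.matrix A (Fin (2 ^ m))
  have : IsAzumaya A (A ⊗[R] CliffordAlgebra.even Q) := IsAzumaya.of_AlgEquiv A _ _ e.symm
  exact Groth.Agent.Lib.LeadAzumaya.isAzumaya_of_faithfullyFlat A (CliffordAlgebra.even Q)

/-- a unit conjugating `M` by a linear automorphism normalises `M` -/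
theorem mem_GPin'_of_conj (u : (CliffordAlgebra Q)ˣ) (g : M ≃ₗ[R] M)
    (h : ∀ v, (u : CliffordAlgebra Q) * ι Q v * ↑u⁻¹ = ι Q (g v)) : u ∈ GPin' Q := by
  rw [mem_GPin']
  ext x
  rw [Submodule.mem_smul_pointwise_iff_exists]
  constructor
  · rintro ⟨y, ⟨v, rfl⟩, rfl⟩
    rw [ConjAct.units_smul_def]
    simp only [ConjAct.ofConjAct_toConjAct]
    rw [h]
    exact ⟨g v, rfl⟩
  · rintro ⟨v, rfl⟩
    refine ⟨ι Q (g.symm v), ⟨_, rfl⟩, ?_⟩
    rw [ConjAct.units_smul_def]
    simp only [ConjAct.ofConjAct_toConjAct]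
    rw [h, LinearEquiv.apply_symm_apply]

include φ in
/-- Skolem–Noether for odd rank: over a local ring, an isometry of determinant one is conjugation
by a point of `GSpin` -/
theorem exists_gSpin_conj [IsLocalRing R] [Module.FaithfullyFlat R A]
    (b : Module.Basis (Fin (2 * m + 1)) R M) (g : M ≃ₗ[R] M) (hg : g ∈ SO' Q) :
    ∃ u ∈ GSpin Q, ∀ v : M, (u : CliffordAlgebra Q) * ι Q v * ↑u⁻¹ = ι Q (g v) := by
  have hgO : g ∈ O Q := hg.1
  have hgdet : LinearEquiv.det g = 1 := hg.2
  -- `g` as an isometry equivalence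
  let he : Q.IsometryEquiv Q := { g with map_app' := hgO }
  let h : Q →qᵢ Q := isometryOfMem Q g hgO
  have hdet : LinearMap.det h.toLinearMap = 1 := by
    have h2 : ((LinearEquiv.det g : Rˣ) : R) = LinearMap.det (g : M →ₗ[R] M) :=
      LinearEquiv.coe_det g
    rw [hgdet] at h2
    exact h2.symm
  have hmap : ∀ x : CliffordAlgebra Q, equivOfIsometry he x = CliffordAlgebra.map h x := by
    intro x
    rfl
  let θ : CliffordAlgebra.even Q ≃ₐ[R] CliffordAlgebra.even Q := evenEquivOfIsometry he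
  have hθ : ∀ x : CliffordAlgebra.even Q,
      ((θ x : CliffordAlgebra.even Q) : CliffordAlgebra Q) = CliffordAlgebra.map h x := by
    intro x
    rfl
  have : IsAzumaya R (CliffordAlgebra.even Q) := isAzumaya_even A Q m φ
  obtain ⟨w, hw⟩ := Groth.Agent.Lib.Seat78.SkolemNoether.exists_unit_conj
    (Groth.Agent.Lib.Seat78.SkolemNoether.isLGRing_of_isLocalRing R) (CliffordAlgebra.even Q) θ
  -- the unit of `C(Q)`
  let u : (CliffordAlgebra Q)ˣ := Units.map (CliffordAlgebra.even Q).val.toMonoidHom w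
  have hu_val : (u : CliffordAlgebra Q) = ((w : CliffordAlgebra.even Q) : CliffordAlgebra Q) := rfl
  have hu_inv : ((u⁻¹ : (CliffordAlgebra Q)ˣ) : CliffordAlgebra Q) =
      (((w⁻¹ : (CliffordAlgebra.even Q)ˣ) : CliffordAlgebra.even Q) : CliffordAlgebra Q) := rfl
  have hconj_even : ∀ x : CliffordAlgebra Q, x ∈ evenOdd Q 0 →
      (u : CliffordAlgebra Q) * x * ↑u⁻¹ = CliffordAlgebra.map h x := by
    intro x hx
    have := congrArg (fun y : CliffordAlgebra.even Q => (y : CliffordAlgebra Q)) (hw ⟨x, hx⟩)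
    rw [hθ] at this
    rw [this, hu_val, hu_inv]
    rfl
  obtain ⟨N, z, wk, hz, hwk, hsum⟩ := exists_odd_central_pairs A Q m φ b
  have hfix : ∀ k, CliffordAlgebra.map h (wk k) = wk k := fun k =>
    map_odd_central_of_det_one A Q m φ h hdet (wk k) (hwk k).2 (hwk k).1
  have hconj : ∀ v : M, (u : CliffordAlgebra Q) * ι Q v * ↑u⁻¹ = ι Q (g v) := by
    intro v
    have h1 : ∀ x : CliffordAlgebra Q, x = ∑ k, z k * (wk k * x) := by
      intro x
      calc x = (∑ k, z k * wk k) * x := by rw [hsum, one_mul]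
        _ = _ := by rw [Finset.sum_mul]; simp only [mul_assoc]
    have hodd : ∀ k, wk k * ι Q v ∈ evenOdd Q 0 := fun k => by
      have := evenOdd_mul_mem Q 1 1 _ _ (hwk k).1 (ι_mem_evenOdd_one Q v)
      rwa [show (1 : ZMod 2) + 1 = 0 from rfl] at this
    have hzc : ∀ k (y : CliffordAlgebra Q), y * z k = z k * y := fun k y =>
      (Subalgebra.mem_center_iff.mp (hz k).2 y)
    calc (u : CliffordAlgebra Q) * ι Q v * ↑u⁻¹
        = (u : CliffordAlgebra Q) * (∑ k, z k * (wk k * ι Q v)) * ↑u⁻¹ := by rw [← h1]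
      _ = ∑ k, z k * ((u : CliffordAlgebra Q) * (wk k * ι Q v) * ↑u⁻¹) := by
          rw [Finset.mul_sum, Finset.sum_mul]
          refine Finset.sum_congr rfl fun k _ => ?_
          rw [← mul_assoc, hzc k]
          simp only [mul_assoc]
      _ = ∑ k, z k * (wk k * ι Q (g v)) := by
          refine Finset.sum_congr rfl fun k _ => ?_
          rw [hconj_even _ (hodd k), map_mul, hfix k, map_apply_ι]
          rfl
      _ = ι Q (g v) := (h1 _).symm
  refine ⟨u, ⟨⟨mem_GPin'_of_conj Q u g hconj, ?_⟩, ?_⟩, hconj⟩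
  · exact ⟨1, IsIdempotentElem.one, by rw [one_smul]; exact (w : CliffordAlgebra.even Q).2,
      by rw [sub_self, zero_smul]; exact Submodule.zero_mem _⟩
  · exact (w : CliffordAlgebra.even Q).2

end Groth.Agent.Lib.Seat37.CliffAzumaya
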