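import Mathlib
import Groth.Prelude.Def_QuadGrp
import Groth.Agent.Lib.Seat37CliffLocal

/-!
# Units of the Clifford algebra normalising `M` (seat 37)

* `conj_mem_of_GPin'`: `u ∈ GPin' Q` conjugates vectors to vectors;
* `central_parts`: for `u ∈ GPin' Q` the elements `u⁻¹ * u₀`, `u⁻¹ * u₁` (homogeneous components)
  are central;
* `isLocHomog_of_normOne`: if even central elements are scalars, `star` fixes the odd central
  elements and `2` is invertible, every norm-one `u ∈ GPin' Q` is locally homogeneous.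
-/

set_option autoImplicit false
set_option linter.unusedSectionVars false
universe u v

namespace Groth.Agent.Lib.Seat37.CliffPin

open CliffordAlgebra TensorProduct QuadGrp Pointwise
open Groth.Agent.Lib.Seat37.CliffGrade Groth.Agent.Lib.Seat37.CliffDescent
  Groth.Agent.Lib.Seat37.CliffRank Groth.Agent.Lib.Seat37.CliffCenter
  Groth.Agent.Lib.Seat37.CliffLocal

variable {R : Type u} [CommRing R] {M : Type v} [AddCommGroup M] [Module R M] [Module.Free R M]
variable (Q : QuadraticForm R M)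

theorem star_mem_evenOdd {x : CliffordAlgebra Q} {i : ZMod 2} (hx : x ∈ evenOdd Q i) :
    star x ∈ evenOdd Q i := by
  rw [star_def, reverse_mem_evenOdd_iff, involute_mem_evenOdd_iff]; exact hx

theorem conj_mem_of_GPin' (u : (CliffordAlgebra Q)ˣ) (hu : u ∈ GPin' Q) (v : M) :
    ∃ v', (u : CliffordAlgebra Q) * ι Q v * ↑u⁻¹ = ι Q v' := by
  rw [mem_GPin'] at hu
  have h : ConjAct.toConjAct u • ι Q v ∈ ConjAct.toConjAct u • LinearMap.range (ι Q) :=
    Submodule.smul_mem_pointwise_smul _ _ _ ⟨v, rfl⟩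
  rw [hu] at h
  obtain ⟨v', hv'⟩ := h
  refine ⟨v', ?_⟩
  rw [hv', ConjAct.units_smul_def]
  simp

/-! ### components of products -/

theorem P0_mul_odd (x y : CliffordAlgebra Q) (hy : y ∈ evenOdd Q 1) :
    P0 Q (x * y) = P1 Q x * y := by
  conv_lhs => rw [← P0_add_P1 Q x, add_mul, map_add]
  rw [P0_of_odd Q _ (even_mul_odd _ _ (P0_mem Q x) hy),
    P0_of_even Q _ (odd_mul_odd' _ _ (P1_mem Q x) hy), zero_add]

theorem P1_mul_odd (x y : CliffordAlgebra Q) (hy : y ∈ evenOdd Q 1) :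
    P1 Q (x * y) = P0 Q x * y := by
  conv_lhs => rw [← P0_add_P1 Q x, add_mul, map_add]
  rw [P1_of_odd Q _ (even_mul_odd _ _ (P0_mem Q x) hy),
    P1_of_even Q _ (odd_mul_odd' _ _ (P1_mem Q x) hy), add_zero]

theorem P0_odd_mul (x y : CliffordAlgebra Q) (hx : x ∈ evenOdd Q 1) :
    P0 Q (x * y) = x * P1 Q y := by
  conv_lhs => rw [← P0_add_P1 Q y, mul_add, map_add]
  rw [P0_of_odd Q _ (odd_mul_even _ _ hx (P0_mem Q y)),
    P0_of_even Q _ (odd_mul_odd' _ _ hx (P1_mem Q y)), zero_add]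

theorem P1_odd_mul (x y : CliffordAlgebra Q) (hx : x ∈ evenOdd Q 1) :
    P1 Q (x * y) = x * P0 Q y := by
  conv_lhs => rw [← P0_add_P1 Q y, mul_add, map_add]
  rw [P1_of_odd Q _ (odd_mul_even _ _ hx (P0_mem Q y)),
    P1_of_even Q _ (odd_mul_odd' _ _ hx (P1_mem Q y)), add_zero]

theorem P0_mul_even (x y : CliffordAlgebra Q) (hy : y ∈ evenOdd Q 0) :
    P0 Q (x * y) = P0 Q x * y := by
  conv_lhs => rw [← P0_add_P1 Q x, add_mul, map_add]
  rw [P0_of_even Q _ (even_mul_even _ _ (P0_mem Q x) hy),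
    P0_of_odd Q _ (odd_mul_even _ _ (P1_mem Q x) hy), add_zero]

theorem P1_mul_even (x y : CliffordAlgebra Q) (hy : y ∈ evenOdd Q 0) :
    P1 Q (x * y) = P1 Q x * y := by
  conv_lhs => rw [← P0_add_P1 Q x, add_mul, map_add]
  rw [P1_of_even Q _ (even_mul_even _ _ (P0_mem Q x) hy),
    P1_of_odd Q _ (odd_mul_even _ _ (P1_mem Q x) hy), zero_add]

theorem P0_even_mul (x y : CliffordAlgebra Q) (hx : x ∈ evenOdd Q 0) :
    P0 Q (x * y) = x * P0 Q y := by
  conv_lhs => rw [← P0_add_P1 Q y, mul_add, map_add]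
  rw [P0_of_even Q _ (even_mul_even _ _ hx (P0_mem Q y)),
    P0_of_odd Q _ (even_mul_odd _ _ hx (P1_mem Q y)), add_zero]

theorem P1_even_mul (x y : CliffordAlgebra Q) (hx : x ∈ evenOdd Q 0) :
    P1 Q (x * y) = x * P1 Q y := by
  conv_lhs => rw [← P0_add_P1 Q y, mul_add, map_add]
  rw [P1_of_even Q _ (even_mul_even _ _ hx (P0_mem Q y)),
    P1_of_odd Q _ (even_mul_odd _ _ hx (P1_mem Q y)), zero_add]

theorem P1_one : P1 Q (1 : CliffordAlgebra Q) = 0 :=
  P1_of_even Q 1 (SetLike.one_mem_graded _)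

/-! ### the central components of a normalising unit -/

/-- for `u` normalising `M`, the components satisfy the same intertwining relations as `u` -/
theorem intertwine (u : (CliffordAlgebra Q)ˣ) (v v' : M)
    (h : (u : CliffordAlgebra Q) * ι Q v * ↑u⁻¹ = ι Q v') :
    (u : CliffordAlgebra Q) * ι Q v = ι Q v' * u ∧
    (↑u⁻¹ : CliffordAlgebra Q) * ι Q v' = ι Q v * ↑u⁻¹ ∧
    P0 Q (u : CliffordAlgebra Q) * ι Q v = ι Q v' * P0 Q (u : CliffordAlgebra Q) ∧
    P1 Q (u : CliffordAlgebra Q) * ι Q v = ι Q v' * P1 Q (u : CliffordAlgebra Q) := by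
  have h1 : (u : CliffordAlgebra Q) * ι Q v = ι Q v' * u := by
    rw [← h, mul_assoc, Units.inv_mul, mul_one]
  have h2 : (↑u⁻¹ : CliffordAlgebra Q) * ι Q v' = ι Q v * ↑u⁻¹ := by
    rw [← h, ← mul_assoc, ← mul_assoc, Units.inv_mul, one_mul]
  refine ⟨h1, h2, ?_, ?_⟩
  · have := congrArg (P1 Q) h1
    rwa [P1_mul_odd Q _ _ (ι_mem_evenOdd_one Q v), P1_odd_mul Q _ _ (ι_mem_evenOdd_one Q v')] at this
  · have := congrArg (P0 Q) h1
    rwa [P0_mul_odd Q _ _ (ι_mem_evenOdd_one Q v), P0_odd_mul Q _ _ (ι_mem_evenOdd_one Q v')] at this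

theorem central_parts (u : (CliffordAlgebra Q)ˣ) (hu : u ∈ GPin' Q) :
    (↑u⁻¹ : CliffordAlgebra Q) * P0 Q (u : CliffordAlgebra Q) ∈
        Subalgebra.center R (CliffordAlgebra Q) ∧
    (↑u⁻¹ : CliffordAlgebra Q) * P1 Q (u : CliffordAlgebra Q) ∈
        Subalgebra.center R (CliffordAlgebra Q) := by
  constructor
  · refine central_of_commute_ι Q _ fun v => ?_
    obtain ⟨v', hv'⟩ := conj_mem_of_GPin' Q u hu v
    obtain ⟨-, h2, h3, -⟩ := intertwine Q u v v' hv'
    rw [mul_assoc, h3, ← mul_assoc, h2, mul_assoc]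
  · refine central_of_commute_ι Q _ fun v => ?_
    obtain ⟨v', hv'⟩ := conj_mem_of_GPin' Q u hu v
    obtain ⟨-, h2, -, h4⟩ := intertwine Q u v v' hv'
    rw [mul_assoc, h4, ← mul_assoc, h2, mul_assoc]

/-- if `u⁻¹ * u₀` is a scalar `a`, then `u` is locally homogeneous (with idempotent `a`) -/
theorem isLocHomog_of_scalar (u : (CliffordAlgebra Q)ˣ) (a : R)
    (ha : (↑u⁻¹ : CliffordAlgebra Q) * P0 Q (u : CliffordAlgebra Q) = algebraMap R _ a) :
    IsLocHomog Q (u : CliffordAlgebra Q) := by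
  have h0 : P0 Q (u : CliffordAlgebra Q) = a • (u : CliffordAlgebra Q) := by
    calc P0 Q (u : CliffordAlgebra Q)
        = (u : CliffordAlgebra Q) * (↑u⁻¹ * P0 Q (u : CliffordAlgebra Q)) := by
          rw [← mul_assoc, Units.mul_inv, one_mul]
      _ = a • (u : CliffordAlgebra Q) := by rw [ha, ← Algebra.commutes, Algebra.smul_def]
  have h1 : P1 Q (u : CliffordAlgebra Q) = (1 - a) • (u : CliffordAlgebra Q) := by
    rw [sub_smul, one_smul, ← h0]
    exact eq_sub_of_add_eq' (P0_add_P1 Q _)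
  refine ⟨a, ?_, h0 ▸ P0_mem Q _, h1 ▸ P1_mem Q _⟩
  -- idempotency
  have h2 : a • P1 Q (u : CliffordAlgebra Q) = 0 := by
    have := congrArg (P1 Q) h0
    rw [P1_of_even Q _ (P0_mem Q _), map_smul] at this
    exact this.symm
  rw [h1, smul_smul] at h2
  have h3 : (a * (1 - a)) • (1 : CliffordAlgebra Q) = 0 := by
    rw [← Units.mul_inv u, ← smul_mul_assoc, h2, zero_mul]
  have h4 : a * (1 - a) = 0 := by
    apply algebraMap_injective Q
    rw [map_zero, Algebra.algebraMap_eq_smul_one, h3]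
  change a * a = a
  linear_combination -h4

/-- norm-one normalising units are locally homogeneous when `star` fixes the odd centre and `2` is
invertible -/
theorem isLocHomog_of_normOne [Invertible (2 : R)] (hb : EvenCentralScalar Q)
    (hstar : ∀ c : CliffordAlgebra Q, c ∈ Subalgebra.center R (CliffordAlgebra Q) →
      c ∈ evenOdd Q 1 → star c = c)
    (u : (CliffordAlgebra Q)ˣ) (hu : u ∈ GPin' Q) (hn : star (u : CliffordAlgebra Q) * u = 1) :
    IsLocHomog Q (u : CliffordAlgebra Q) := by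
  have hinv : (↑u⁻¹ : CliffordAlgebra Q) = star (u : CliffordAlgebra Q) :=
    Units.inv_eq_of_mul_eq_one_left hn
  set u₀ := P0 Q (u : CliffordAlgebra Q) with hu₀
  set u₁ := P1 Q (u : CliffordAlgebra Q) with hu₁
  have hsum : u₀ + u₁ = (u : CliffordAlgebra Q) := P0_add_P1 Q _
  have h0 : u₀ ∈ evenOdd Q 0 := P0_mem Q _
  have h1 : u₁ ∈ evenOdd Q 1 := P1_mem Q _
  have hs0 : star u₀ ∈ evenOdd Q 0 := star_mem_evenOdd Q h0
  have hs1 : star u₁ ∈ evenOdd Q 1 := star_mem_evenOdd Q h1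
  have hstaru : star (u : CliffordAlgebra Q) = star u₀ + star u₁ := by rw [← hsum, star_add]
  obtain ⟨hc, -⟩ := central_parts Q u hu
  rw [hinv] at hc
  -- the odd component of `c₀ = star u * u₀`
  have hP1 : P1 Q (star (u : CliffordAlgebra Q) * u₀) = star u₁ * u₀ := by
    rw [P1_mul_even Q _ _ h0, hstaru, map_add, P1_of_even Q _ hs0, P1_of_odd Q _ hs1, zero_add]
  have hℓc : star u₁ * u₀ ∈ Subalgebra.center R (CliffordAlgebra Q) := by
    rw [← hP1]; exact (P0_central Q _ hc).2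
  have hℓ1 : star u₁ * u₀ ∈ evenOdd Q 1 := odd_mul_even _ _ hs1 h0
  have hsym : star u₀ * u₁ = star u₁ * u₀ := by
    have := hstar _ hℓc hℓ1
    rwa [star_mul, star_star] at this
  -- the odd component of `star u * u = 1`
  have hodd : star u₀ * u₁ + star u₁ * u₀ = 0 := by
    have := congrArg (P1 Q) hn
    rw [P1_one, hstaru] at this
    conv at this => lhs; rw [← hsum]
    rw [add_mul, mul_add, mul_add, map_add, map_add, map_add,
      P1_of_even Q _ (even_mul_even _ _ hs0 h0), P1_of_odd Q _ (even_mul_odd _ _ hs0 h1),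
      P1_of_odd Q _ (odd_mul_even _ _ hs1 h0), P1_of_even Q _ (odd_mul_odd' _ _ hs1 h1)] at this
    rw [← this]; abel
  have hℓ0 : star u₁ * u₀ = 0 := by
    rw [hsym, ← two_smul R] at hodd
    have := congrArg (fun x => (⅟(2 : R)) • x) hodd
    simpa [smul_smul] using this
  -- hence `c₀` is even, so a scalar
  have hc0 : star (u : CliffordAlgebra Q) * u₀ ∈ evenOdd Q 0 := by
    rw [← P0_add_P1 Q (star (u : CliffordAlgebra Q) * u₀), hP1, hℓ0, add_zero]
    exact P0_mem Q _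
  obtain ⟨a, ha⟩ := hb _ hc hc0
  exact isLocHomog_of_scalar Q u a (by rw [hinv]; exact ha.symm)

end Groth.Agent.Lib.Seat37.CliffPin
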