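import Mathlib
import Groth.Prelude.Def_QuadGrp
import Groth.Agent.Lib.Seat37CliffPin

/-!
# The isometry induced by a unit normalising `M` (seat 37)

* `conjEquiv Q u hu : M ≃ₗ[R] M` for `u ∈ GPin' Q`, with `ι (conjEquiv v) = u * ι v * u⁻¹`
  and `conjEquiv ∈ O Q`;
* `map_conjIso`: the induced automorphism of `C(Q)` is conjugation by `u`;
* `smulIso c`: the isometry `v ↦ c • v` for `c * c = 1`, acting on odd elements by `c`.
-/

set_option autoImplicit false
set_option linter.unusedSectionVars false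
universe u v

namespace Groth.Agent.Lib.Seat37.CliffConj

open CliffordAlgebra QuadGrp Pointwise
open Groth.Agent.Lib.Seat37.CliffGrade Groth.Agent.Lib.Seat37.CliffRank
  Groth.Agent.Lib.Seat37.CliffPin

variable {R : Type u} [CommRing R] {M : Type v} [AddCommGroup M] [Module R M] [Module.Free R M]
variable (Q : QuadraticForm R M)

/-- `v ↦ vecPart (u * ι v * u⁻¹)` -/
noncomputable def conjLin (u : (CliffordAlgebra Q)ˣ) : M →ₗ[R] M :=
  vecPart Q ∘ₗ LinearMap.mulLeft R (u : CliffordAlgebra Q) ∘ₗ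
    LinearMap.mulRight R (↑u⁻¹ : CliffordAlgebra Q) ∘ₗ ι Q

theorem ι_conjLin (u : (CliffordAlgebra Q)ˣ) (hu : u ∈ GPin' Q) (v : M) :
    ι Q (conjLin Q u v) = (u : CliffordAlgebra Q) * ι Q v * ↑u⁻¹ := by
  obtain ⟨v', hv'⟩ := conj_mem_of_GPin' Q u hu v
  have : conjLin Q u v = v' := by
    simp only [conjLin, LinearMap.comp_apply, LinearMap.mulLeft_apply, LinearMap.mulRight_apply]
    rw [← mul_assoc, hv', vecPart_ι]
  rw [this, hv']

theorem conjLin_inv (u : (CliffordAlgebra Q)ˣ) (hu : u ∈ GPin' Q) (v : M) :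
    conjLin Q u⁻¹ (conjLin Q u v) = v := by
  apply ι_injective Q
  rw [ι_conjLin Q u⁻¹ ((GPin' Q).inv_mem hu), ι_conjLin Q u hu, inv_inv]
  simp only [← mul_assoc, Units.inv_mul, one_mul]
  rw [mul_assoc, Units.inv_mul, mul_one]

/-- the linear automorphism of `M` induced by conjugation by `u` -/
noncomputable def conjEquiv (u : (CliffordAlgebra Q)ˣ) (hu : u ∈ GPin' Q) : M ≃ₗ[R] M :=
  LinearEquiv.ofLinearMap (conjLin Q u) (conjLin Q u⁻¹)
    (LinearMap.ext fun v => by
      have := conjLin_inv Q u⁻¹ ((GPin' Q).inv_mem hu) v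
      rwa [inv_inv] at this)
    (LinearMap.ext fun v => conjLin_inv Q u hu v)

theorem ι_conjEquiv (u : (CliffordAlgebra Q)ˣ) (hu : u ∈ GPin' Q) (v : M) :
    ι Q (conjEquiv Q u hu v) = (u : CliffordAlgebra Q) * ι Q v * ↑u⁻¹ :=
  ι_conjLin Q u hu v

theorem conjEquiv_mem_O (u : (CliffordAlgebra Q)ˣ) (hu : u ∈ GPin' Q) :
    conjEquiv Q u hu ∈ O Q := by
  intro v
  apply algebraMap_injective Q
  have h2 : ι Q v * ι Q v = algebraMap R _ (Q v) := ι_sq_scalar Q _
  rw [← ι_sq_scalar, ι_conjEquiv]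
  calc (u : CliffordAlgebra Q) * ι Q v * ↑u⁻¹ * ((u : CliffordAlgebra Q) * ι Q v * ↑u⁻¹)
      = (u : CliffordAlgebra Q) * (ι Q v * ((↑u⁻¹ * (u : CliffordAlgebra Q)) * ι Q v)) * ↑u⁻¹ := by
        simp only [mul_assoc]
    _ = (u : CliffordAlgebra Q) * (ι Q v * ι Q v) * ↑u⁻¹ := by rw [Units.inv_mul, one_mul]
    _ = algebraMap R _ (Q v) := by
        rw [h2, ← Algebra.commutes, mul_assoc, Units.mul_inv, mul_one]

/-- the induced automorphism of the Clifford algebra is conjugation -/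
theorem map_conjIso (u : (CliffordAlgebra Q)ˣ) (hu : u ∈ GPin' Q) (x : CliffordAlgebra Q) :
    CliffordAlgebra.map (isometryOfMem Q (conjEquiv Q u hu) (conjEquiv_mem_O Q u hu)) x =
      (u : CliffordAlgebra Q) * x * ↑u⁻¹ := by
  induction x using CliffordAlgebra.induction with
  | algebraMap r =>
    rw [AlgHom.commutes, ← Algebra.commutes, mul_assoc, Units.mul_inv, mul_one]
  | ι v => rw [map_apply_ι, isometryOfMem_apply, ι_conjEquiv]
  | mul a b ha hb =>
    rw [map_mul, ha, hb]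
    simp only [mul_assoc]
    rw [← mul_assoc (↑u⁻¹ : CliffordAlgebra Q) (u : CliffordAlgebra Q), Units.inv_mul, one_mul]
  | add a b ha hb => rw [map_add, ha, hb, mul_add, add_mul]

/-! ### scalar isometries -/

/-- `v ↦ c • v` for `c * c = 1` -/
def smulIso (c : R) (hc : c * c = 1) : Q →qᵢ Q :=
  { c • (LinearMap.id : M →ₗ[R] M) with
    map_app' := fun v => by
      change Q (c • v) = Q v
      rw [QuadraticMap.map_smul, hc, one_smul] }

@[simp] theorem smulIso_apply (c : R) (hc : c * c = 1) (v : M) : smulIso Q c hc v = c • v := rfl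

theorem map_smulIso_odd (c : R) (hc : c * c = 1) (x : CliffordAlgebra Q) (hx : x ∈ evenOdd Q 1) :
    CliffordAlgebra.map (smulIso Q c hc) x = c • x := by
  induction x, hx using CliffordAlgebra.odd_induction with
  | ι v => rw [map_apply_ι, smulIso_apply, map_smul]
  | add x y hx hy ihx ihy => rw [map_add, ihx, ihy, smul_add]
  | ι_mul_ι_mul m₁ m₂ x hx ih =>
    rw [map_mul, map_mul, map_apply_ι, map_apply_ι, ih, smulIso_apply, smulIso_apply, map_smul,
      map_smul, smul_mul_smul_comm, smul_mul_smul_comm, hc, one_mul]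

end Groth.Agent.Lib.Seat37.CliffConj
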