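import Mathlib
import Groth.Agent.Lib.Seat37QuadSplitTab

/-!
# The coefficient table of the split form of even rank (seat 37)

* `BE S k l`, `bspE S n`: the table of `Σ x_{2i} x_{2i+1}`;
* `coeffs_splitForm_even`: the coefficients of `QuadGrp.splitForm R (2 * m)`;
* `PM_bspE`, `isUnit_det_PM_bspE`: the polar matrix is a permutation matrix;
* `exists_reflection`: an isometry of determinant `-1` (for `1 ≤ m`).
-/

set_option autoImplicit false
universe u

namespace Groth.Agent.Lib.Seat37.QuadSplitEven

open Matrix QuadGrp
open Groth.Agent.S17014.Aux.HD Groth.Agent.Lib.Seat37.QuadTab Groth.Agent.Lib.Seat37.QuadGO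
  Groth.Agent.Lib.Seat37.QuadSplitTab

/-- the even split table on natural indices -/
def BE (S : Type*) [Zero S] [One S] (k l : ℕ) : S :=
  if k = l then 0
  else if (k % 2 = 0 ∧ l = k + 1) ∨ (l % 2 = 0 ∧ k = l + 1) then 1 else 0

theorem BE_comm (S : Type*) [Zero S] [One S] (k l : ℕ) : BE S k l = BE S l k := by
  unfold BE
  by_cases h : k = l
  · subst h; rfl
  · rw [if_neg h, if_neg (Ne.symm h)]
    congr 1
    exact propext or_comm

/-- the even split table -/
def bspE (S : Type*) [Zero S] [One S] (n : ℕ) : Sym2 (Fin n) → S :=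
  Sym2.lift ⟨fun i j => BE S i.val j.val, fun i j => BE_comm S i.val j.val⟩

@[simp] theorem bspE_mk (S : Type*) [Zero S] [One S] (n : ℕ) (i j : Fin n) :
    bspE S n s(i, j) = BE S i.val j.val := rfl

theorem map_BE {S T : Type*} [NonAssocSemiring S] [NonAssocSemiring T] (φ : S →+* T) (k l : ℕ) :
    φ (BE S k l) = BE T k l := by
  unfold BE
  split_ifs <;> simp

theorem map_bspE {S T : Type*} [NonAssocSemiring S] [NonAssocSemiring T] (φ : S →+* T) (n : ℕ) :
    φ ∘ bspE S n = bspE T n := by
  funext p
  induction p using Sym2.ind with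
  | _ i j => exact map_BE φ _ _

section splitForm

variable (R : Type u) [CommRing R] (m : ℕ)

theorem splitForm_apply_even (x : Fin (2 * m) → R) :
    QuadGrp.splitForm R (2 * m) x =
      ∑ i : Fin m, x ⟨2 * i.val, by omega⟩ * x ⟨2 * i.val + 1, by omega⟩ := by
  have hm : (2 * m) / 2 = m := by omega
  have hmod : (2 * m) % 2 = 0 := by omega
  have hne : ¬ ((2 * m) % 2 = 1) := by omega
  unfold QuadGrp.splitForm
  rw [dif_neg hne, add_zero, _root_.sum_apply]
  refine Fintype.sum_equiv (finCongr hm) _ _ (fun i => ?_)
  rw [QuadraticMap.linMulLin_apply]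
  simp only [LinearMap.proj_apply]
  congr 2 <;> (apply Fin.ext; simp [hmod])

/-- the bilinear expression whose diagonal is the even split form -/
def betE (x y : Fin (2 * m) → R) : R :=
  ∑ i : Fin m, x ⟨2 * i.val, by omega⟩ * y ⟨2 * i.val + 1, by omega⟩

theorem splitForm_eq_betE (x : Fin (2 * m) → R) :
    QuadGrp.splitForm R (2 * m) x = betE R m x x := splitForm_apply_even R m x

theorem polar_splitForm_even (x y : Fin (2 * m) → R) :
    QuadraticMap.polar (QuadGrp.splitForm R (2 * m)) x y = betE R m x y + betE R m y x := by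
  simp only [QuadraticMap.polar, splitForm_eq_betE, betE, Pi.add_apply, add_mul, mul_add,
    Finset.sum_add_distrib]
  ring

theorem betE_single (k l : Fin (2 * m)) :
    betE R m (Pi.single k 1) (Pi.single l 1) =
      if k.val % 2 = 0 ∧ l.val = k.val + 1 then 1 else 0 := by
  rw [betE]
  split_ifs with h
  · obtain ⟨h1, h2⟩ := h
    have hk := k.isLt
    have hl := l.isLt
    have hi : k.val / 2 < m := by omega
    rw [Finset.sum_eq_single ⟨k.val / 2, hi⟩]
    · rw [Pi.single_apply, Pi.single_apply, if_pos, if_pos, mul_one]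
      · apply Fin.ext
        simp only
        omega
      · apply Fin.ext
        simp only
        omega
    · intro i _ hne
      rw [Pi.single_apply, if_neg, zero_mul]
      intro h
      apply hne
      apply Fin.ext
      have := congrArg Fin.val h
      simp only at this ⊢
      omega
    · intro h
      exact absurd (Finset.mem_univ _) h
  · apply Finset.sum_eq_zero
    intro i _
    rw [Pi.single_apply, Pi.single_apply]
    by_cases h1 : (⟨2 * i.val, by omega⟩ : Fin (2 * m)) = k
    · rw [if_pos h1, one_mul, if_neg]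
      intro h2
      apply h
      have e1 := congrArg Fin.val h1
      have e2 := congrArg Fin.val h2
      simp only at e1 e2
      omega
    · rw [if_neg h1, zero_mul]

theorem coeffs_splitForm_even :
    coeffs (Pi.basisFun R (Fin (2 * m))) (LinearEquiv.refl R R)
      (QuadGrp.splitForm R (2 * m)) = bspE R (2 * m) := by
  funext p
  induction p using Sym2.ind with
  | _ i j =>
    rw [coeffs_mk, bspE_mk]
    simp only [LinearEquiv.refl_apply, Pi.basisFun_apply]
    by_cases h : i = j
    · subst h
      rw [if_pos rfl, splitForm_eq_betE, betE_single, BE, if_pos rfl, if_neg (by omega)]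
    · have hv : i.val ≠ j.val := fun e => h (Fin.ext e)
      rw [if_neg h, polar_splitForm_even, betE_single, betE_single, BE, if_neg hv]
      by_cases h1 : i.val % 2 = 0 ∧ j.val = i.val + 1
      · have h2 : ¬ (j.val % 2 = 0 ∧ i.val = j.val + 1) := by omega
        rw [if_pos h1, if_neg h2, add_zero, if_pos (Or.inl h1)]
      · by_cases h2 : j.val % 2 = 0 ∧ i.val = j.val + 1
        · rw [if_neg h1, if_pos h2, zero_add, if_pos (Or.inr h2)]
        · rw [if_neg h1, if_neg h2, add_zero, if_neg]
          rintro (h3 | h3)
          · exact h1 h3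
          · exact h2 h3

end splitForm

section unit

variable (S : Type*) [CommRing S] (m : ℕ)

theorem PM_bspE : PM (bspE S (2 * m)) = (swp m).permMatrix S := by
  ext j k
  change PM _ _ _ = (swp m).toPEquiv.toMatrix j k
  rw [PEquiv.toMatrix_apply, Equiv.toPEquiv_apply]
  simp only [PM, Matrix.of_apply, bspE_mk, Option.mem_def, Option.some.injEq]
  have hj := j.isLt
  have hk := k.isLt
  by_cases hjk : j = k
  · subst hjk
    rw [if_pos rfl, BE, if_pos rfl, mul_zero, if_neg]
    intro h
    have := congrArg Fin.val h
    rw [swp_val] at this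
    split_ifs at this <;> omega
  · have hv : j.val ≠ k.val := fun e => hjk (Fin.ext e)
    rw [if_neg hjk, BE, if_neg hv]
    by_cases h : swp m j = k
    · rw [if_pos h, if_pos]
      have := congrArg Fin.val h
      rw [swp_val] at this
      split_ifs at this <;> omega
    · rw [if_neg h, if_neg]
      intro h'
      apply h
      apply Fin.ext
      rw [swp_val]
      split_ifs <;> omega

theorem isUnit_det_PM_bspE : IsUnit (PM (bspE S (2 * m))).det := by
  rw [PM_bspE, Matrix.det_permutation]
  exact ((Equiv.Perm.sign (swp m)).isUnit.map (Int.castRingHom S).toMonoidHom)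

end unit

section refl

variable (R : Type u) [CommRing R] (m : ℕ)

/-- the swap of the first two coordinates is an isometry of determinant `-1`. -/
theorem exists_reflection (hm : 1 ≤ m) :
    ∃ X : Matrix (Fin (2 * m)) (Fin (2 * m)) R,
      cc (bspE R (2 * m)) X = bspE R (2 * m) ∧ X.det = -1 := by
  classical
  let i0 : Fin (2 * m) := ⟨0, by omega⟩
  let i1 : Fin (2 * m) := ⟨1, by omega⟩
  have h01 : i0 ≠ i1 := by
    intro h
    have := congrArg Fin.val h
    simp [i0, i1] at this
  let τ : Equiv.Perm (Fin (2 * m)) := Equiv.swap i0 i1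
  let g : (Fin (2 * m) → R) →ₗ[R] (Fin (2 * m) → R) := LinearMap.funLeft R R τ
  have hQ : (QuadGrp.splitForm R (2 * m)).comp g = QuadGrp.splitForm R (2 * m) := by
    ext x
    rw [QuadraticMap.comp_apply, splitForm_apply_even, splitForm_apply_even]
    apply Finset.sum_congr rfl
    intro i _
    simp only [g, LinearMap.funLeft_apply]
    by_cases hi : i.val = 0
    · have h0 : (⟨2 * i.val, by omega⟩ : Fin (2 * m)) = i0 := Fin.ext (by simp [hi, i0])
      have h1 : (⟨2 * i.val + 1, by omega⟩ : Fin (2 * m)) = i1 := Fin.ext (by simp [hi, i1])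
      rw [h0, h1]
      simp only [τ, Equiv.swap_apply_left, Equiv.swap_apply_right]
      exact mul_comm _ _
    · have e0 : τ ⟨2 * i.val, by omega⟩ = ⟨2 * i.val, by omega⟩ := by
        apply Equiv.swap_apply_of_ne_of_ne <;>
          (intro h; have := congrArg Fin.val h; simp only [i0, i1] at this; omega)
      have e1 : τ ⟨2 * i.val + 1, by omega⟩ = ⟨2 * i.val + 1, by omega⟩ := by
        apply Equiv.swap_apply_of_ne_of_ne <;>
          (intro h; have := congrArg Fin.val h; simp only [i0, i1] at this; omega)
      rw [e0, e1]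
  refine ⟨LinearMap.toMatrix (Pi.basisFun R (Fin (2 * m))) (Pi.basisFun R (Fin (2 * m))) g, ?_, ?_⟩
  · have := coeffs_comp (Pi.basisFun R (Fin (2 * m))) (QuadGrp.splitForm R (2 * m)) g
    rw [hQ, coeffs_splitForm_even] at this
    exact this.symm
  · have hmat : LinearMap.toMatrix (Pi.basisFun R (Fin (2 * m))) (Pi.basisFun R (Fin (2 * m))) g =
        τ.permMatrix R := by
      ext i j
      rw [LinearMap.toMatrix_apply]
      change _ = τ.toPEquiv.toMatrix i j
      rw [PEquiv.toMatrix_apply, Equiv.toPEquiv_apply]
      simp only [g, Pi.basisFun_apply, Pi.basisFun_repr, LinearMap.funLeft_apply, Pi.single_apply,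
        Option.mem_def, Option.some.injEq]
    rw [hmat, Matrix.det_permutation, Equiv.Perm.sign_swap h01]
    simp

end refl

end Groth.Agent.Lib.Seat37.QuadSplitEven
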