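import Mathlib
import Groth.Prelude.Def_QuadGrp
import Groth.Agent.Lib.Seat37CliffGrade
import Groth.Agent.Lib.Seat37CliffZeta
import Groth.Agent.Lib.Seat37QuadSplitEven

/-!
# The central idempotent of the even Clifford algebra of the split form of even rank (seat 37)

For `T = splitForm R (2 m)`:
* `piE i = ι e_{2i+1} * ι e_{2i}` (idempotents), `epsE j` their iterated "exclusive or", `eps = epsE m`;
* `eps_idem`, `eps_even`;
* `ι_mul_eps : ι v * eps = (1 - eps) * ι v`, `odd_mul_eps`, `even_mul_eps`;
* `OmE j = 1 - 2 • epsE j` is the product of the `omE i = w e_{2i} e_{2i+1}`.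
-/

set_option autoImplicit false
universe u v

namespace Groth.Agent.Lib.Seat37.CliffEps

open CliffordAlgebra Groth.Agent.Lib.Seat37.CliffGrade Groth.Agent.Lib.Seat37.CliffZeta
  Groth.Agent.Lib.Seat37.QuadSplitEven

/-! ### exclusive or of commuting idempotents -/

section xr

variable {C : Type*} [Ring C]

/-- `x + y - 2 x y` -/
def xr (x y : C) : C := x + y - 2 • (x * y)

theorem xr_idem {x y : C} (hx : x * x = x) (hy : y * y = y) (hxy : x * y = y * x) :
    xr x y * xr x y = xr x y := by
  have e1 : x * (x * y) = x * y := by rw [← mul_assoc, hx]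
  have e2 : (x * y) * x = x * y := by rw [mul_assoc, ← hxy, ← mul_assoc, hx]
  have e3 : y * (x * y) = x * y := by rw [← mul_assoc, ← hxy, mul_assoc, hy]
  have e4 : (x * y) * y = x * y := by rw [mul_assoc, hy]
  have e5 : (x * y) * (x * y) = x * y := by rw [mul_assoc, e3, e1]
  have e6 : y * x = x * y := hxy.symm
  unfold xr
  set z := x * y with hz
  simp only [add_mul, mul_add, sub_mul, mul_sub, smul_mul_assoc, mul_smul_comm, hx, hy, e1, e2, e3,
    e4, e5, e6]
  module

theorem flip_comm {v x y : C} (h1 : v * x = (1 - x) * v) (h2 : v * y = y * v) :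
    v * xr x y = (1 - xr x y) * v := by
  have h3 : v * (x * y) = ((1 - x) * y) * v := by
    rw [← mul_assoc, h1, mul_assoc, h2, mul_assoc]
  unfold xr
  rw [mul_sub, mul_add, mul_smul_comm, h1, h2, h3]
  noncomm_ring

theorem comm_flip {v x y : C} (h1 : v * x = x * v) (h2 : v * y = (1 - y) * v) :
    v * xr x y = (1 - xr x y) * v := by
  have h3 : v * (x * y) = (x * (1 - y)) * v := by
    rw [← mul_assoc, h1, mul_assoc, h2, mul_assoc]
  unfold xr
  rw [mul_sub, mul_add, mul_smul_comm, h1, h2, h3]
  noncomm_ring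

theorem comm_comm {v x y : C} (h1 : v * x = x * v) (h2 : v * y = y * v) :
    v * xr x y = xr x y * v := by
  have h3 : v * (x * y) = (x * y) * v := by
    rw [← mul_assoc, h1, mul_assoc, h2, mul_assoc]
  unfold xr
  rw [mul_sub, mul_add, mul_smul_comm, h1, h2, h3]
  noncomm_ring

theorem one_sub_two_xr (x y : C) :
    1 - 2 • xr x y = (1 - 2 • x) * (1 - 2 • y) := by
  unfold xr
  noncomm_ring

end xr

/-! ### the idempotent of a hyperbolic pair -/

section pair

variable {R : Type u} [CommRing R] {M : Type v} [AddCommGroup M] [Module R M]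
variable (Q : QuadraticForm R M) (a b : M)

theorem pair_sum (hab : QuadraticMap.polar Q a b = 1) : ι Q a * ι Q b = 1 - ι Q b * ι Q a := by
  have hs : ι Q a * ι Q b + ι Q b * ι Q a = 1 := by
    rw [ι_mul_ι_add_swap, hab, map_one]
  exact eq_sub_of_add_eq hs

theorem pi_idem (hb : Q b = 0) (hab : QuadraticMap.polar Q a b = 1) :
    (ι Q b * ι Q a) * (ι Q b * ι Q a) = ι Q b * ι Q a := by
  have hbb : ι Q b * ι Q b = 0 := by rw [ι_sq_scalar, hb, map_zero]
  rw [mul_assoc, ← mul_assoc (ι Q a), pair_sum Q a b hab, sub_mul, one_mul, mul_sub,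
    ← mul_assoc (ι Q b) (ι Q b * ι Q a), ← mul_assoc (ι Q b) (ι Q b), hbb, zero_mul, zero_mul,
    sub_zero]

theorem a_mul_pi (hab : QuadraticMap.polar Q a b = 1) :
    ι Q a * (ι Q b * ι Q a) = (1 - ι Q b * ι Q a) * ι Q a := by
  rw [← mul_assoc, pair_sum Q a b hab]

theorem b_mul_pi (hb : Q b = 0) (hab : QuadraticMap.polar Q a b = 1) :
    ι Q b * (ι Q b * ι Q a) = (1 - ι Q b * ι Q a) * ι Q b := by
  have hbb : ι Q b * ι Q b = 0 := by rw [ι_sq_scalar, hb, map_zero]
  rw [← mul_assoc, hbb, zero_mul, sub_mul, one_mul, mul_assoc, pair_sum Q a b hab, mul_sub,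
    mul_one, ← mul_assoc, hbb, zero_mul, sub_zero, sub_self]

theorem w_eq (hab : QuadraticMap.polar Q a b = 1) :
    w Q a b = 1 - 2 • (ι Q b * ι Q a) := by
  unfold w
  rw [pair_sum Q a b hab, two_smul]
  abel

end pair

/-! ### the split form of even rank -/

section split

variable (R : Type u) [CommRing R] (m : ℕ)

local notation "T" => QuadGrp.splitForm R (2 * m)

/-- basis vectors indexed by naturals -/
def bvE (k : ℕ) : Fin (2 * m) → R := if h : k < 2 * m then Pi.single ⟨k, h⟩ 1 else 0

theorem bvE_of_lt {k : ℕ} (h : k < 2 * m) : bvE R m k = Pi.single ⟨k, h⟩ 1 := dif_pos h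

theorem T_bvE {k : ℕ} (h : k < 2 * m) : T (bvE R m k) = 0 := by
  rw [bvE_of_lt R m h, splitForm_eq_betE, betE_single]
  simp only
  rw [if_neg]
  omega

theorem polar_bvE {k l : ℕ} (hk : k < 2 * m) (hl : l < 2 * m) :
    QuadraticMap.polar T (bvE R m k) (bvE R m l) =
      if (k % 2 = 0 ∧ l = k + 1) ∨ (l % 2 = 0 ∧ k = l + 1) then 1 else 0 := by
  rw [bvE_of_lt R m hk, bvE_of_lt R m hl, polar_splitForm_even, betE_single, betE_single]
  simp only
  by_cases h1 : k % 2 = 0 ∧ l = k + 1
  · have h2 : ¬ (l % 2 = 0 ∧ k = l + 1) := by omega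
    rw [if_pos h1, if_neg h2, add_zero, if_pos (Or.inl h1)]
  · by_cases h2 : l % 2 = 0 ∧ k = l + 1
    · rw [if_neg h1, if_pos h2, zero_add, if_pos (Or.inr h2)]
    · rw [if_neg h1, if_neg h2, add_zero, if_neg]
      rintro (h3 | h3)
      · exact h1 h3
      · exact h2 h3

/-- the idempotent of the `i`-th hyperbolic plane (`0` out of range) -/
noncomputable def piE (i : ℕ) : CliffordAlgebra T :=
  if i < m then ι T (bvE R m (2 * i + 1)) * ι T (bvE R m (2 * i)) else 0

theorem piE_of_lt {i : ℕ} (h : i < m) :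
    piE R m i = ι T (bvE R m (2 * i + 1)) * ι T (bvE R m (2 * i)) := if_pos h

theorem piE_of_ge {i : ℕ} (h : ¬ i < m) : piE R m i = 0 := if_neg h

theorem piE_idem (i : ℕ) : piE R m i * piE R m i = piE R m i := by
  by_cases hi : i < m
  · rw [piE_of_lt R m hi]
    apply pi_idem
    · exact T_bvE R m (by omega)
    · rw [polar_bvE R m (by omega) (by omega), if_pos (Or.inl ⟨by omega, rfl⟩)]
  · rw [piE_of_ge R m hi, mul_zero]

theorem piE_even (i : ℕ) : piE R m i ∈ evenOdd T 0 := by
  unfold piE
  split_ifs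
  · exact ι_mul_ι_mem_evenOdd_zero T _ _
  · exact Submodule.zero_mem _

/-- a basis vector flips `piE i` if it belongs to the `i`-th plane, and commutes otherwise -/
theorem ι_mul_piE {k : ℕ} (hk : k < 2 * m) (i : ℕ) :
    ι T (bvE R m k) * piE R m i =
      (if k / 2 = i then 1 - piE R m i else piE R m i) * ι T (bvE R m k) := by
  by_cases hi : i < m
  · rw [piE_of_lt R m hi]
    have h0 : 2 * i < 2 * m := by omega
    have h1 : 2 * i + 1 < 2 * m := by omega
    have hab : QuadraticMap.polar T (bvE R m (2 * i)) (bvE R m (2 * i + 1)) = 1 := by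
      rw [polar_bvE R m h0 h1, if_pos (Or.inl ⟨by omega, rfl⟩)]
    by_cases hk0 : k = 2 * i
    · subst hk0
      rw [if_pos (by omega)]
      exact a_mul_pi T _ _ hab
    · by_cases hk1 : k = 2 * i + 1
      · subst hk1
        rw [if_pos (by omega)]
        exact b_mul_pi T _ _ (T_bvE R m h1) hab
      · rw [if_neg (by omega)]
        apply commute_mul
        · rw [polar_bvE R m hk h1, if_neg (by omega)]
        · rw [polar_bvE R m hk h0, if_neg (by omega)]
  · rw [piE_of_ge R m hi]
    have : k / 2 ≠ i := by omega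
    rw [if_neg this, mul_zero, zero_mul]

theorem piE_comm (i i' : ℕ) : piE R m i * piE R m i' = piE R m i' * piE R m i := by
  by_cases h : i = i'
  · subst h; rfl
  by_cases hi : i < m
  · have h0 : 2 * i < 2 * m := by omega
    have h1 : 2 * i + 1 < 2 * m := by omega
    have e0 := ι_mul_piE R m h0 i'
    have e1 := ι_mul_piE R m h1 i'
    rw [if_neg (by omega)] at e0 e1
    rw [piE_of_lt R m hi, mul_assoc, e0, ← mul_assoc, e1, mul_assoc]
  · rw [piE_of_ge R m hi, zero_mul, mul_zero]

/-- the partial exclusive-or of the `piE i` -/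
noncomputable def epsE : ℕ → CliffordAlgebra T
  | 0 => 0
  | j + 1 => xr (epsE j) (piE R m j)

/-- the idempotent generating the centre of the even subalgebra -/
noncomputable def eps : CliffordAlgebra T := epsE R m m

theorem epsE_comm_piE (j i : ℕ) : epsE R m j * piE R m i = piE R m i * epsE R m j := by
  induction j with
  | zero => simp [epsE]
  | succ j ih =>
    change xr (epsE R m j) (piE R m j) * piE R m i = piE R m i * xr (epsE R m j) (piE R m j)
    exact (comm_comm ih.symm (piE_comm R m i j)).symm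

theorem epsE_idem (j : ℕ) : epsE R m j * epsE R m j = epsE R m j := by
  induction j with
  | zero => simp [epsE]
  | succ j ih => exact xr_idem ih (piE_idem R m j) (epsE_comm_piE R m j j)

theorem epsE_even (j : ℕ) : epsE R m j ∈ evenOdd T 0 := by
  induction j with
  | zero => exact Submodule.zero_mem _
  | succ j ih =>
    change epsE R m j + piE R m j - 2 • (epsE R m j * piE R m j) ∈ evenOdd T 0
    refine Submodule.sub_mem _ (Submodule.add_mem _ ih (piE_even R m j)) ?_
    have := evenOdd_mul_mem T 0 0 _ _ ih (piE_even R m j)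
    rw [zero_add] at this
    exact (evenOdd T 0).smul_of_tower_mem 2 this

theorem ι_mul_epsE {k : ℕ} (hk : k < 2 * m) (j : ℕ) :
    ι T (bvE R m k) * epsE R m j =
      (if k / 2 < j then 1 - epsE R m j else epsE R m j) * ι T (bvE R m k) := by
  induction j with
  | zero => simp [epsE]
  | succ j ih =>
    change ι T (bvE R m k) * xr (epsE R m j) (piE R m j) =
      (if k / 2 < j + 1 then 1 - xr (epsE R m j) (piE R m j) else xr (epsE R m j) (piE R m j)) * _
    have hp := ι_mul_piE R m hk j
    by_cases h1 : k / 2 < j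
    · rw [if_pos h1] at ih
      rw [if_neg (by omega)] at hp
      rw [if_pos (by omega)]
      exact flip_comm ih hp
    · rw [if_neg h1] at ih
      by_cases h2 : k / 2 = j
      · rw [if_pos h2] at hp
        rw [if_pos (by omega)]
        exact comm_flip ih hp
      · rw [if_neg h2] at hp
        rw [if_neg (by omega)]
        exact comm_comm ih hp

theorem eps_idem : eps R m * eps R m = eps R m := epsE_idem R m m

theorem eps_even : eps R m ∈ evenOdd T 0 := epsE_even R m m

theorem ι_mul_eps (v : Fin (2 * m) → R) : ι T v * eps R m = (1 - eps R m) * ι T v := by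
  have hx : v = ∑ k : Fin (2 * m), v k • (Pi.single k 1 : Fin (2 * m) → R) := by
    funext j
    simp [Finset.sum_apply, Pi.single_apply]
  rw [hx, map_sum, Finset.mul_sum, Finset.sum_mul]
  refine Finset.sum_congr rfl fun k _ => ?_
  rw [map_smul, mul_smul_comm, smul_mul_assoc, ← bvE_of_lt R m k.isLt]
  congr 1
  have := ι_mul_epsE R m k.isLt m
  rw [if_pos (by have := k.isLt; omega)] at this
  exact this

theorem ι_mul_one_sub_eps (v : Fin (2 * m) → R) : ι T v * (1 - eps R m) = eps R m * ι T v := by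
  rw [mul_sub, mul_one, ι_mul_eps, sub_mul, one_mul, sub_sub_cancel]

theorem odd_mul_eps (x : CliffordAlgebra T) (hx : x ∈ evenOdd T 1) :
    x * eps R m = (1 - eps R m) * x := by
  refine CliffordAlgebra.evenOdd_induction (Q := T) 1
    (motive := fun x _ => x * eps R m = (1 - eps R m) * x) ?_ ?_ ?_ x hx
  · intro v hv
    rw [ZMod.val_one, pow_one] at hv
    obtain ⟨y, rfl⟩ := hv
    exact ι_mul_eps R m y
  · intro x y _ _ ihx ihy
    rw [add_mul, mul_add, ihx, ihy]
  · intro m₁ m₂ x _ ih
    rw [mul_assoc, ih, ← mul_assoc, mul_assoc (ι T m₁), ι_mul_one_sub_eps, ← mul_assoc, ι_mul_eps]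
    simp only [mul_assoc]

theorem even_mul_eps (x : CliffordAlgebra T) (hx : x ∈ evenOdd T 0) :
    x * eps R m = eps R m * x := by
  refine CliffordAlgebra.evenOdd_induction (Q := T) 0
    (motive := fun x _ => x * eps R m = eps R m * x) ?_ ?_ ?_ x hx
  · intro v hv
    rw [ZMod.val_zero, pow_zero, Submodule.mem_one] at hv
    obtain ⟨r, rfl⟩ := hv
    exact (Algebra.commutes r (eps R m))
  · intro x y _ _ ihx ihy
    rw [add_mul, mul_add, ihx, ihy]
  · intro m₁ m₂ x _ ih
    rw [mul_assoc, ih, ← mul_assoc, mul_assoc (ι T m₁), ι_mul_eps, ← mul_assoc, ι_mul_one_sub_eps]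
    simp only [mul_assoc]

/-! ### the commutator form: `1 - 2 eps` as a product -/

/-- the `i`-th hyperbolic commutator (`1` out of range) -/
noncomputable def omE (i : ℕ) : CliffordAlgebra T :=
  if i < m then w T (bvE R m (2 * i)) (bvE R m (2 * i + 1)) else 1

theorem omE_eq (i : ℕ) : omE R m i = 1 - 2 • piE R m i := by
  by_cases hi : i < m
  · rw [omE, if_pos hi, piE_of_lt R m hi]
    apply w_eq
    rw [polar_bvE R m (by omega) (by omega), if_pos (Or.inl ⟨by omega, rfl⟩)]
  · rw [omE, if_neg hi, piE_of_ge R m hi, smul_zero, sub_zero]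

/-- partial products of the `omE i` -/
noncomputable def OmE : ℕ → CliffordAlgebra T
  | 0 => 1
  | j + 1 => OmE j * omE R m j

theorem OmE_eq (j : ℕ) : OmE R m j = 1 - 2 • epsE R m j := by
  induction j with
  | zero => simp [OmE, epsE]
  | succ j ih =>
    change OmE R m j * omE R m j = 1 - 2 • xr (epsE R m j) (piE R m j)
    rw [ih, omE_eq, one_sub_two_xr]

/-- `omega = 1 - 2 eps` -/
noncomputable def omega : CliffordAlgebra T := OmE R m m

theorem omega_eq : omega R m = 1 - 2 • eps R m := OmE_eq R m m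

theorem omega_sq : omega R m * omega R m = 1 := by
  rw [omega_eq]
  have h := eps_idem R m
  have e : (1 - 2 • eps R m) * (1 - 2 • eps R m) =
      1 - 4 • eps R m + 4 • (eps R m * eps R m) := by noncomm_ring
  rw [e, h]
  abel

theorem omega_even : omega R m ∈ evenOdd T 0 := by
  rw [omega_eq]
  exact Submodule.sub_mem _ (SetLike.one_mem_graded _)
    ((evenOdd T 0).smul_of_tower_mem 2 (eps_even R m))

theorem even_mul_omega (x : CliffordAlgebra T) (hx : x ∈ evenOdd T 0) :
    x * omega R m = omega R m * x := by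
  rw [omega_eq, mul_sub, sub_mul, mul_one, one_mul, mul_smul_comm, smul_mul_assoc,
    even_mul_eps R m x hx]

/-- an odd unit (for `1 ≤ m`) -/
noncomputable def x0 : CliffordAlgebra T := ι T (bvE R m 0 + bvE R m 1)

theorem x0_sq (hm : 1 ≤ m) : x0 R m * x0 R m = 1 := by
  rw [x0, ι_sq_scalar]
  have h : T (bvE R m 0 + bvE R m 1) = 1 := by
    have hp := polar_bvE R m (k := 0) (l := 1) (by omega) (by omega)
    rw [if_pos (Or.inl ⟨rfl, rfl⟩)] at hp
    unfold QuadraticMap.polar at hp
    rw [T_bvE R m (by omega), T_bvE R m (by omega), sub_zero, sub_zero] at hp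
    exact hp
  rw [h, map_one]

theorem x0_odd : x0 R m ∈ evenOdd T 1 := ι_mem_evenOdd_one T _

end split

end Groth.Agent.Lib.Seat37.CliffEps
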