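import Mathlib
import Groth.Prelude.Def_QuadGrp
import Groth.Agent.Lib.Seat37CliffDescent

/-!
# Flat base change for the centre of the even Clifford algebra (seat 37)

`Q` a quadratic form on a module with basis `b`, `A` a flat `R`-algebra, `Q'` the base change.
* `IsEvenCentral Q x`: `x` is even and commutes with all even elements;
* `mem_ker_gE`: the even central elements are the kernel of a linear map `gE` between finite free
  modules;
* `mem_span_of_isEvenCentral`: every even central element of `C(Q')` is an `A`-linear combination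
  of images of even central elements of `C(Q)`.
-/

set_option autoImplicit false
set_option linter.unusedSectionVars false
universe u v

namespace Groth.Agent.Lib.Seat37.CliffEvenCenterBC

open CliffordAlgebra TensorProduct QuadGrp
open Groth.Agent.Lib.Seat37.CliffGrade Groth.Agent.Lib.Seat37.CliffBC
  Groth.Agent.Lib.Seat37.CliffDescent

section general

variable {R : Type u} [CommRing R] {M : Type v} [AddCommGroup M] [Module R M]
variable (Q : QuadraticForm R M)

/-- `x` is even and commutes with the even subalgebra -/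
def IsEvenCentral (x : CliffordAlgebra Q) : Prop :=
  x ∈ evenOdd Q 0 ∧ ∀ y ∈ evenOdd Q 0, x * y = y * x

/-- commuting with all `ι v * ι w` implies commuting with all even elements -/
theorem commute_even_of_commute_pairs (x : CliffordAlgebra Q)
    (h : ∀ v w : M, x * (ι Q v * ι Q w) = (ι Q v * ι Q w) * x) (y : CliffordAlgebra Q)
    (hy : y ∈ evenOdd Q 0) : x * y = y * x := by
  refine CliffordAlgebra.evenOdd_induction (Q := Q) 0
    (motive := fun y _ => x * y = y * x) ?_ ?_ ?_ y hy
  · intro v hv
    rw [ZMod.val_zero, pow_zero, Submodule.mem_one] at hv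
    obtain ⟨r, rfl⟩ := hv
    exact (Algebra.commutes r x).symm
  · intro y z _ _ ihy ihz
    rw [mul_add, add_mul, ihy, ihz]
  · intro m₁ m₂ y _ ih
    rw [← mul_assoc, h, mul_assoc, ih]
    simp only [mul_assoc]

end general

section ker

variable {R : Type u} [CommRing R] {M : Type v} [AddCommGroup M] [Module R M] [Module.Free R M]
variable (Q : QuadraticForm R M) {n : ℕ} (b : Module.Basis (Fin n) R M)

/-- the commutator with `ι (b i) * ι (b j)` -/
noncomputable def commE (p : Fin n × Fin n) : CliffordAlgebra Q →ₗ[R] CliffordAlgebra Q :=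
  LinearMap.mulRight R (ι Q (b p.1) * ι Q (b p.2)) - LinearMap.mulLeft R (ι Q (b p.1) * ι Q (b p.2))

theorem commE_apply (p : Fin n × Fin n) (x : CliffordAlgebra Q) :
    commE Q b p x = x * (ι Q (b p.1) * ι Q (b p.2)) - (ι Q (b p.1) * ι Q (b p.2)) * x := rfl

/-- the components of the linear map cutting out the even central elements -/
noncomputable def gcE (o : Option (Fin n × Fin n)) : CliffordAlgebra Q →ₗ[R] CliffordAlgebra Q :=
  o.elim (P1 Q) (commE Q b)

/-- the linear map whose kernel is the module of even central elements -/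
noncomputable def gE : CliffordAlgebra Q →ₗ[R] (Option (Fin n × Fin n) → CliffordAlgebra Q) :=
  LinearMap.pi (gcE Q b)

theorem P1_eq_zero_iff (x : CliffordAlgebra Q) : P1 Q x = 0 ↔ x ∈ evenOdd Q 0 := by
  constructor
  · intro h
    have := P0_add_P1 Q x
    rw [h, add_zero] at this
    rw [← this]
    exact P0_mem Q x
  · exact P1_of_even Q x

theorem mem_ker_gE (x : CliffordAlgebra Q) :
    x ∈ LinearMap.ker (gE Q b) ↔ IsEvenCentral Q x := by
  rw [LinearMap.mem_ker]
  constructor
  · intro h
    have h' : ∀ o, gcE Q b o x = 0 := fun o => congrFun h o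
    refine ⟨(P1_eq_zero_iff Q x).mp (h' none), commute_even_of_commute_pairs Q x fun v w => ?_⟩
    have hv : v = ∑ i, b.repr v i • b i := (b.sum_repr v).symm
    have hw : w = ∑ i, b.repr w i • b i := (b.sum_repr w).symm
    rw [hv, hw, map_sum, map_sum, Finset.sum_mul_sum, Finset.mul_sum, Finset.sum_mul]
    refine Finset.sum_congr rfl fun i _ => ?_
    rw [Finset.mul_sum, Finset.sum_mul]
    refine Finset.sum_congr rfl fun k _ => ?_
    rw [map_smul, map_smul, smul_mul_smul_comm, mul_smul_comm, smul_mul_assoc]
    congr 1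
    exact sub_eq_zero.mp (h' (some (i, k)))
  · rintro ⟨h1, hc⟩
    funext o
    cases o with
    | none => exact (P1_eq_zero_iff Q x).mpr h1
    | some p =>
      change x * (ι Q (b p.1) * ι Q (b p.2)) - (ι Q (b p.1) * ι Q (b p.2)) * x = 0
      rw [sub_eq_zero]
      exact hc _ (ι_mul_ι_mem_evenOdd_zero Q _ _)

end ker

section bc

variable {R : Type u} [CommRing R] {M : Type v} [AddCommGroup M] [Module R M] [Module.Free R M]
variable (A : Type u) [CommRing A] [Algebra R A]
variable (Q : QuadraticForm R M) {n : ℕ} (b : Module.Basis (Fin n) R M)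

local notation "Q'" => baseChangeForm A Q
local notation "hQ'" => Groth.Agent.Lib.Helper25.HalfDisc.baseChangeForm_one_tmul A Q

theorem commE_baseChange (p : Fin n × Fin n) (t : A ⊗[R] CliffordAlgebra Q) :
    (commE Q b p).baseChange A t =
      t * ((1 : A) ⊗ₜ[R] (ι Q (b p.1) * ι Q (b p.2))) -
        ((1 : A) ⊗ₜ[R] (ι Q (b p.1) * ι Q (b p.2))) * t := by
  induction t with
  | zero => simp
  | tmul a x =>
    rw [LinearMap.baseChange_tmul, commE_apply, Algebra.TensorProduct.tmul_mul_tmul,
      Algebra.TensorProduct.tmul_mul_tmul, mul_one, one_mul, TensorProduct.tmul_sub]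
  | add s t hs ht => rw [map_add, hs, ht, add_mul, mul_add]; abel

theorem P1_baseChange_of_mem (t : A ⊗[R] CliffordAlgebra Q)
    (ht : t ∈ (evenOdd Q 0).baseChange A) : (P1 Q).baseChange A t = 0 := by
  rw [Submodule.baseChange_eq_span] at ht
  induction ht using Submodule.span_induction with
  | mem x hx =>
    obtain ⟨c, hc, rfl⟩ := hx
    change (P1 Q).baseChange A ((1 : A) ⊗ₜ[R] c) = 0
    rw [LinearMap.baseChange_tmul, P1_of_even Q c hc, TensorProduct.tmul_zero]
  | zero => exact map_zero _
  | add x y _ _ hx hy => rw [map_add, hx, hy, add_zero]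
  | smul a x _ hx => rw [map_smul, hx, smul_zero]

theorem piRight_lTensor_gE (t : A ⊗[R] CliffordAlgebra Q) (o : Option (Fin n × Fin n)) :
    TensorProduct.piRight R A A (fun _ : Option (Fin n × Fin n) => CliffordAlgebra Q)
      (TensorProduct.AlgebraTensorModule.lTensor A A (gE Q b) t) o = (gcE Q b o).baseChange A t := by
  induction t with
  | zero => simp
  | tmul a x => rfl
  | add s t hs ht =>
    rw [map_add, map_add, Pi.add_apply, hs, ht, map_add]

include b in
/-- every even central element of `C(Q')` is a combination of images of even central elements -/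
theorem mem_span_of_isEvenCentral [Module.Flat R A] (z : CliffordAlgebra Q')
    (hz : IsEvenCentral Q' z) :
    z ∈ Submodule.span A ((j A Q) '' {x | IsEvenCentral Q x}) := by
  set t := (bcEquiv Q Q' hQ').symm z with ht
  have hzt : bcEquiv Q Q' hQ' t = z := AlgEquiv.apply_symm_apply _ _
  have hker : t ∈ LinearMap.ker (TensorProduct.AlgebraTensorModule.lTensor A A (gE Q b)) := by
    rw [LinearMap.mem_ker]
    apply (TensorProduct.piRight R A A
      (fun _ : Option (Fin n × Fin n) => CliffordAlgebra Q)).injective
    rw [map_zero]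
    funext o
    rw [piRight_lTensor_gE, Pi.zero_apply]
    cases o with
    | none => exact P1_baseChange_of_mem A Q _ (bcEquiv_symm_mem Q Q' hQ' 0 z hz.1)
    | some p =>
      change (commE Q b p).baseChange A _ = 0
      rw [commE_baseChange, sub_eq_zero]
      apply (bcEquiv Q Q' hQ').injective
      rw [map_mul, map_mul, hzt, bcEquiv_one_tmul]
      exact hz.2 _ (jAux_mem_evenOdd Q Q' hQ' 0 _ (ι_mul_ι_mem_evenOdd_zero Q _ _))
  rw [Module.Flat.ker_lTensor_eq] at hker
  obtain ⟨ξ, hξ⟩ := hker
  have key : ∀ ξ : A ⊗[R] LinearMap.ker (gE Q b),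
      bcEquiv Q Q' hQ' ((TensorProduct.AlgebraTensorModule.lTensor A A
        (LinearMap.ker (gE Q b)).subtype) ξ) ∈
        Submodule.span A ((j A Q) '' {x | IsEvenCentral Q x}) := by
    intro ξ
    induction ξ with
    | zero => rw [map_zero, map_zero]; exact Submodule.zero_mem _
    | tmul a x =>
      have h1 : (TensorProduct.AlgebraTensorModule.lTensor A A (LinearMap.ker (gE Q b)).subtype)
          (a ⊗ₜ[R] x) = a ⊗ₜ[R] (x : CliffordAlgebra Q) := rfl
      rw [h1, bcEquiv_tmul, ← Algebra.smul_def]
      refine Submodule.smul_mem _ _ (Submodule.subset_span ⟨(x : CliffordAlgebra Q), ?_, rfl⟩)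
      exact (mem_ker_gE Q b _).mp x.2
    | add ξ₁ ξ₂ h₁ h₂ => rw [map_add, map_add]; exact Submodule.add_mem _ h₁ h₂
  rw [← hzt, ← hξ]
  exact key ξ

end bc

end Groth.Agent.Lib.Seat37.CliffEvenCenterBC
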