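import Mathlib
import Groth.Prelude.Def_QuadGrp
import Groth.Agent.Lib.Seat37CliffEps
import Groth.Agent.Lib.Seat37CliffEvenCenterBC
import Groth.Agent.Lib.Seat37CliffRank

/-!
# Even rank: the centre of the even Clifford algebra detects the parity of units (seat 37)

Context: `Q` on a free module with basis `b`, `A` a faithfully flat `R`-algebra and an isometry `φ`
of the base change of `Q` to `A` with the split form of rank `2 m`.
* `epsA`: the transport of the idempotent `eps` to `C(Q_A)`; it is even central, and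
  `odd_mul_epsA : y * epsA = (1 - epsA) * y` for odd `y`;
* `j_commute_epsA`: if `u ∈ C(Q)` commutes with all even central elements of `C(Q)` then its image
  commutes with `epsA`;
* `not_odd_unit`: an odd unit of `C(Q)` cannot commute with all even central elements.
-/

set_option autoImplicit false
set_option linter.unusedSectionVars false
universe u v

namespace Groth.Agent.Lib.Seat37.CliffEvenStruct

open CliffordAlgebra TensorProduct QuadGrp
open Groth.Agent.Lib.Seat37.CliffGrade Groth.Agent.Lib.Seat37.CliffBC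
  Groth.Agent.Lib.Seat37.CliffRank Groth.Agent.Lib.Seat37.CliffDescent
  Groth.Agent.Lib.Seat37.CliffEps Groth.Agent.Lib.Seat37.CliffEvenCenterBC

section iso

variable {R : Type u} [CommRing R] {M₁ : Type*} [AddCommGroup M₁] [Module R M₁]
  {M₂ : Type*} [AddCommGroup M₂] [Module R M₂]
  {Q₁ : QuadraticForm R M₁} {Q₂ : QuadraticForm R M₂}

theorem equivOfIsometry_mem (φ : Q₁.IsometryEquiv Q₂) (i : ZMod 2) (x : CliffordAlgebra Q₁)
    (hx : x ∈ evenOdd Q₁ i) : equivOfIsometry φ x ∈ evenOdd Q₂ i :=
  algHom_mem_evenOdd Q₁ Q₂ (equivOfIsometry φ).toAlgHom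
    (fun v => by
      change equivOfIsometry φ (ι Q₁ v) ∈ _
      rw [equivOfIsometry_apply, map_apply_ι]; exact ι_mem_evenOdd_one _ _) i x hx

theorem equivOfIsometry_symm_mem (φ : Q₁.IsometryEquiv Q₂) (i : ZMod 2) (x : CliffordAlgebra Q₂)
    (hx : x ∈ evenOdd Q₂ i) : (equivOfIsometry φ).symm x ∈ evenOdd Q₁ i :=
  algHom_mem_evenOdd Q₂ Q₁ (equivOfIsometry φ).symm.toAlgHom
    (fun v => by
      change (equivOfIsometry φ).symm (ι Q₂ v) ∈ _
      rw [equivOfIsometry_symm, equivOfIsometry_apply, map_apply_ι]
      exact ι_mem_evenOdd_one _ _) i x hx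

end iso

variable {R : Type u} [CommRing R] {M : Type v} [AddCommGroup M] [Module R M] [Module.Free R M]
variable (A : Type u) [CommRing A] [Algebra R A]
variable (Q : QuadraticForm R M) (m : ℕ)
variable (φ : (baseChangeForm A Q).IsometryEquiv (splitForm A (2 * m)))

local notation "Q'" => baseChangeForm A Q
local notation "T" => splitForm A (2 * m)

/-- `C(Q_A) ≃ C(T)` -/
noncomputable def ΨE : CliffordAlgebra Q' ≃ₐ[A] CliffordAlgebra T := equivOfIsometry φ

/-- the idempotent of `C₀(Q_A)` -/
noncomputable def epsA : CliffordAlgebra Q' := (ΨE A Q m φ).symm (eps A m)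

theorem epsA_even : epsA A Q m φ ∈ evenOdd Q' 0 :=
  equivOfIsometry_symm_mem φ 0 _ (eps_even A m)

theorem odd_mul_epsA (y : CliffordAlgebra Q') (hy : y ∈ evenOdd Q' 1) :
    y * epsA A Q m φ = (1 - epsA A Q m φ) * y := by
  apply (ΨE A Q m φ).injective
  unfold epsA
  rw [map_mul, map_mul, map_sub, map_one, AlgEquiv.apply_symm_apply]
  exact odd_mul_eps A m _ (equivOfIsometry_mem φ 1 y hy)

theorem even_mul_epsA (y : CliffordAlgebra Q') (hy : y ∈ evenOdd Q' 0) :
    y * epsA A Q m φ = epsA A Q m φ * y := by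
  apply (ΨE A Q m φ).injective
  unfold epsA
  rw [map_mul, map_mul, AlgEquiv.apply_symm_apply]
  exact even_mul_eps A m _ (equivOfIsometry_mem φ 0 y hy)

theorem isEvenCentral_epsA : IsEvenCentral Q' (epsA A Q m φ) :=
  ⟨epsA_even A Q m φ, fun y hy => (even_mul_epsA A Q m φ y hy).symm⟩

theorem epsA_idem : epsA A Q m φ * epsA A Q m φ = epsA A Q m φ := by
  unfold epsA
  rw [← map_mul, eps_idem]

/-- an element commuting with the even central elements of `C(Q)` commutes with `epsA` after base
change -/
theorem j_commute_epsA [Module.Flat R A] {n : ℕ} (b : Module.Basis (Fin n) R M)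
    (u : CliffordAlgebra Q) (hu : ∀ x, IsEvenCentral Q x → u * x = x * u) :
    j A Q u * epsA A Q m φ = epsA A Q m φ * j A Q u := by
  have hmem := mem_span_of_isEvenCentral A Q b (epsA A Q m φ) (isEvenCentral_epsA A Q m φ)
  have key : ∀ z ∈ Submodule.span A ((j A Q) '' {x | IsEvenCentral Q x}),
      j A Q u * z = z * j A Q u := by
    intro z hz
    induction hz using Submodule.span_induction with
    | mem z hz =>
      obtain ⟨x, hx, rfl⟩ := hz
      rw [← map_mul, ← map_mul, hu x hx]
    | zero => rw [mul_zero, zero_mul]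
    | add x y _ _ hx hy => rw [mul_add, add_mul, hx, hy]
    | smul a x _ hx => rw [mul_smul_comm, smul_mul_assoc, hx]
  exact key _ hmem

include φ in
/-- an odd unit cannot commute with all even central elements -/
theorem not_odd_unit [Nontrivial R] [Module.FaithfullyFlat R A] {n : ℕ}
    (b : Module.Basis (Fin n) R M) (u : (CliffordAlgebra Q)ˣ)
    (hodd : (u : CliffordAlgebra Q) ∈ evenOdd Q 1)
    (hu : ∀ x, IsEvenCentral Q x → (u : CliffordAlgebra Q) * x = x * u) : False := by
  have h1 := j_commute_epsA A Q m φ b (u : CliffordAlgebra Q) hu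
  have h2 := odd_mul_epsA A Q m φ (j A Q u) (j_mem A Q 1 _ hodd)
  rw [h1] at h2
  -- cancel the unit
  have hunit : j A Q (u : CliffordAlgebra Q) * j A Q (↑u⁻¹ : CliffordAlgebra Q) = 1 := by
    rw [← map_mul, Units.mul_inv, map_one]
  have h3 : epsA A Q m φ = 1 - epsA A Q m φ := by
    have := congrArg (fun z => z * j A Q (↑u⁻¹ : CliffordAlgebra Q)) h2
    simp only [mul_assoc, hunit, mul_one] at this
    exact this
  have h4 : epsA A Q m φ = 0 := by
    have := congrArg (fun z => epsA A Q m φ * z) h3
    simp only [mul_sub, mul_one, epsA_idem, sub_self] at this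
    exact this
  rw [h4, sub_zero] at h3
  -- `0 = 1` in `C(Q_A)`
  have hA : Nontrivial A :=
    (FaithfulSMul.algebraMap_injective R A).nontrivial
  have h5 : algebraMap A (CliffordAlgebra Q') 0 = algebraMap A (CliffordAlgebra Q') 1 := by
    rw [map_zero, map_one]; exact h3
  exact zero_ne_one (algebraMap_injective Q' h5)

end Groth.Agent.Lib.Seat37.CliffEvenStruct
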