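import Mathlib
import Groth.Prelude.Def_QuadGrp
import Groth.Agent.Lib.Seat37CliffAzumaya
import Groth.Agent.Lib.Seat37CliffSetup
import Groth.Agent.Lib.Helper25HalfDisc

/-!
# The Clifford algebra of a regular form of even rank is Azumaya (seat 37)

For `Q` regular on a module with basis `b : Basis (Fin (2 m)) R M`:
* `isUnit_det_PM_of_isRegular`: the polar matrix in the basis `b` has unit determinant;
* `basisSucc b`: the basis of `M × R` (`k ↦ (b k, 0)`, last `↦ (0, 1)`);
* `isSemiregular_Q'`: the form `Q ⊥ ⟨-1⟩` (Mathlib's `EquivEven.Q'`) is semiregular;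
* `isAzumaya_clifford`: `C(Q) ≃ C₀(Q ⊥ ⟨-1⟩)` is an Azumaya `R`-algebra.
-/

set_option autoImplicit false
set_option linter.unusedSectionVars false
universe u v

namespace Groth.Agent.Lib.Seat37.CliffEvenAz

open CliffordAlgebra TensorProduct QuadGrp Matrix
open Groth.Agent.S17014.Aux.HD Groth.Agent.Lib.Helper25.HalfDisc

variable {R : Type u} [CommRing R] {M : Type v} [AddCommGroup M] [Module R M]

theorem isUnit_det_PM_of_isRegular {n : ℕ} (b : Module.Basis (Fin n) R M) (Q : QuadraticForm R M)
    (h : IsRegular Q) : IsUnit (PM (coeffs b (LinearEquiv.refl R R) Q)).det := by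
  rw [PM_coeffs]
  let e : M ≃ₗ[R] Module.Dual R M := LinearEquiv.ofBijective (QuadraticMap.polarBilin Q) h
  have h1 := LinearEquiv.isUnit_det e b b.dualBasis
  have h2 : LinearMap.toMatrix b b.dualBasis (e : M →ₗ[R] Module.Dual R M) =
      (LinearMap.BilinForm.toMatrix b (QuadraticMap.polarBilin Q))ᵀ := by
    ext i j
    rw [LinearMap.toMatrix_apply, Matrix.transpose_apply, LinearMap.BilinForm.toMatrix_apply,
      Module.Basis.dualBasis_repr]
    rfl
  rw [h2, det_transpose] at h1
  exact h1

variable (m : ℕ)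

/-- the basis of `M × R` extending `b` by `(0, 1)` in the last position -/
noncomputable def basisSucc (b : Module.Basis (Fin (2 * m)) R M) :
    Module.Basis (Fin (2 * m + 1)) R (M × R) :=
  (b.prod (Module.Basis.singleton (Fin 1) R)).reindex finSumFinEquiv

theorem basisSucc_castSucc (b : Module.Basis (Fin (2 * m)) R M) (k : Fin (2 * m)) :
    basisSucc m b k.castSucc = (b k, 0) := by
  have h : (finSumFinEquiv (m := 2 * m) (n := 1)).symm k.castSucc = Sum.inl k :=
    finSumFinEquiv_symm_apply_castAdd k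
  rw [basisSucc, Module.Basis.reindex_apply, h]
  refine Prod.ext ?_ ?_
  · rw [Module.Basis.prod_apply_inl_fst]
  · rw [Module.Basis.prod_apply_inl_snd]

theorem basisSucc_last (b : Module.Basis (Fin (2 * m)) R M) :
    basisSucc m b (Fin.last (2 * m)) = (0, 1) := by
  have h : (finSumFinEquiv (m := 2 * m) (n := 1)).symm (Fin.last (2 * m)) = Sum.inr 0 :=
    finSumFinEquiv_symm_last
  rw [basisSucc, Module.Basis.reindex_apply, h]
  refine Prod.ext ?_ ?_
  · rw [Module.Basis.prod_apply_inr_fst]
  · rw [Module.Basis.prod_apply_inr_snd, Module.Basis.singleton_apply]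

theorem isSemiregular_Q' (b : Module.Basis (Fin (2 * m)) R M) (Q : QuadraticForm R M)
    (hQ : IsRegular Q) :
    IsSemiregular (basisSucc m b) (LinearEquiv.refl R R) (CliffordAlgebra.EquivEven.Q' Q) := by
  unfold IsSemiregular halfDisc
  set a := coeffs (basisSucc m b) (LinearEquiv.refl R R) (CliffordAlgebra.EquivEven.Q' Q) with ha
  have hlast : a s(Fin.last (2 * m), Fin.last (2 * m)) = -1 := by
    rw [ha, coeffs_mk, if_pos rfl, basisSucc_last, LinearEquiv.refl_apply,
      CliffordAlgebra.EquivEven.Q'_apply]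
    simp
  have h0 : ∀ j, j ≠ Fin.last (2 * m) → a s(Fin.last (2 * m), j) = 0 := by
    intro j hj
    obtain ⟨k, rfl⟩ := Fin.exists_castSucc_eq.mpr hj
    rw [ha, coeffs_mk, if_neg (Ne.symm hj), basisSucc_last, basisSucc_castSucc,
      LinearEquiv.refl_apply]
    simp only [QuadraticMap.polar, CliffordAlgebra.EquivEven.Q'_apply, Prod.mk_add_mk, zero_add,
      add_zero, map_zero]
    ring
  rw [halfDisc_of_row_zero a (Fin.last (2 * m)) h0, hlast]
  have hminor : minor a (Fin.last (2 * m)) = PM (coeffs b (LinearEquiv.refl R R) Q) := by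
    ext k l
    simp only [minor, Matrix.submatrix_apply, Fin.succAbove_last, PM, Matrix.of_apply]
    have hkl : (k.castSucc = l.castSucc) ↔ k = l := Fin.castSucc_inj
    by_cases h : k = l
    · subst h
      rw [if_pos rfl, if_pos rfl, ha, coeffs_mk, coeffs_mk, if_pos rfl, if_pos rfl,
        basisSucc_castSucc, LinearEquiv.refl_apply, LinearEquiv.refl_apply,
        CliffordAlgebra.EquivEven.Q'_apply]
      simp
    · rw [if_neg (fun hh => h (hkl.mp hh)), if_neg h, ha, coeffs_mk, coeffs_mk,
        if_neg (fun hh => h (hkl.mp hh)), if_neg h, basisSucc_castSucc, basisSucc_castSucc,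
        LinearEquiv.refl_apply, LinearEquiv.refl_apply]
      simp only [QuadraticMap.polar, CliffordAlgebra.EquivEven.Q'_apply, Prod.mk_add_mk, add_zero]
      ring
  rw [hminor]
  exact (isUnit_one.neg).mul (isUnit_det_PM_of_isRegular b Q hQ)

/-- the Clifford algebra of a regular quadratic form of even rank is Azumaya -/
theorem isAzumaya_clifford (b : Module.Basis (Fin (2 * m)) R M) (Q : QuadraticForm R M)
    (hQ : IsRegular Q) : IsAzumaya R (CliffordAlgebra Q) := by
  have hfree : Module.Free R (M × R) := Module.Free.of_basis (basisSucc m b)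
  have hfin : Module.Finite R (M × R) := Module.Finite.of_basis (basisSucc m b)
  obtain ⟨A, iA, iAlg, hff, hfp, ⟨φ⟩⟩ :=
    Groth.Agent.Lib.Seat37.CliffSetup.exists_split m (basisSucc m b)
      (CliffordAlgebra.EquivEven.Q' Q) (isSemiregular_Q' m b Q hQ)
  have h1 : IsAzumaya R (CliffordAlgebra.even (CliffordAlgebra.EquivEven.Q' Q)) :=
    Groth.Agent.Lib.Seat37.CliffAzumaya.isAzumaya_even A (CliffordAlgebra.EquivEven.Q' Q) m φ
  exact IsAzumaya.of_AlgEquiv R _ _ (CliffordAlgebra.equivEven Q).symm

end Groth.Agent.Lib.Seat37.CliffEvenAz
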