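import Mathlib
import Groth.Agent.Lib.Seat37QuadTorsor
import Groth.Agent.Lib.Seat37QuadSplitEven

/-!
# The torsor of isometries, even rank (seat 37)

For tables `b`, `a` (of any rank `n`) whose polar matrices have unit determinant:
* `relTE b a`: relations `cc b X = a` (and the spare variable is `0`);
* `formallySmooth_TE`: the presented algebra is formally smooth;
* `exists_splitFamE`: classification of nondegenerate forms of even dimension over an algebraically
  closed field;
* `exists_point_field_E`: over an algebraically closed field the torsor has a point, for `b` the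
  even split table;
* `faithfullyFlat_TE`: hence it is faithfully flat over the base.
-/

set_option autoImplicit false
set_option linter.unusedSectionVars false
universe u v

namespace Groth.Agent.Lib.Seat37.QuadTorsorEven

open Matrix QuadGrp MvPolynomial
open Groth.Agent.S17014.Aux.HD Groth.Agent.Lib.Seat37.QuadTab Groth.Agent.Lib.Seat37.PolyRep
  Groth.Agent.Lib.Seat37.QuadRel Groth.Agent.Lib.Seat37.QuadGO Groth.Agent.Lib.Seat37.QuadSO
  Groth.Agent.Lib.Seat37.QuadSplitTab Groth.Agent.Lib.Seat37.QuadClassify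
  Groth.Agent.Lib.Seat37.QuadTorsor Groth.Agent.Lib.Seat37.QuadSplitEven

section lift

variable {C : Type*} [CommRing C] {n : ℕ}

/-- infinitesimal lifting of points of the torsor when the polar matrix is invertible -/
theorem exists_lift_TE (I : Ideal C) (hI : I ^ 2 = ⊥) (b a : Sym2 (Fin n) → C)
    (hdisc : IsUnit (PM b).det) (X : Matrix (Fin n) (Fin n) C) (hX : IsUnit X.det)
    (hcc : ∀ s, cc b X s - a s ∈ I) :
    ∃ X' : Matrix (Fin n) (Fin n) C, InI I (X' - X) ∧ cc b X' = a := by
  set N : Matrix (Fin n) (Fin n) C := Xᵀ * UM b * X with hN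
  set Sm : Matrix (Fin n) (Fin n) C := Xᵀ * PM b * X with hSm
  have hSdet : IsUnit Sm.det := by
    rw [hSm, det_mul, det_mul, det_transpose]
    exact (hX.mul hdisc).mul hX
  have hNS : N + Nᵀ = Sm := PM_eq_tab_free b X
  set δ : Sym2 (Fin n) → C := fun s => a s - cc b X s with hδdef
  have hδ : ∀ s, δ s ∈ I := fun s => by
    have := I.neg_mem (hcc s)
    rwa [neg_sub] at this
  set Z : Matrix (Fin n) (Fin n) C := Sm⁻¹ * UM δ with hZdef
  have hZ : InI I Z := (InI_UM δ hδ).mul_left _
  have hSZ : Sm * Z = UM δ := by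
    rw [hZdef, ← Matrix.mul_assoc, Matrix.mul_nonsing_inv _ hSdet, Matrix.one_mul]
  refine ⟨X + X * Z, ?_, ?_⟩
  · rw [add_sub_cancel_left]
    exact hZ.mul_left _
  · rw [cc_eq_tab]
    have e1 : (X + X * Z)ᵀ * UM b * (X + X * Z) = N + (Zᵀ * N + N * Z) + Zᵀ * N * Z := by
      rw [hN]
      simp only [transpose_add, transpose_mul, Matrix.add_mul, Matrix.mul_add, Matrix.mul_assoc]
      abel
    have e2 : Zᵀ * N * Z = 0 := by
      rw [Matrix.mul_assoc]
      exact InI.mul_eq_zero hI hZ.transpose (hZ.mul_left _)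
    rw [e1, e2, add_zero, tab_add, tab_transpose_mul_add, hNS, hSZ, tab_UM, ← cc_eq_tab]
    funext s
    simp only [Pi.add_apply, hδdef]
    ring

end lift

section rel

variable {R : Type u} [CommRing R] {n : ℕ}

/-- relations of the torsor: `cc b X = a`, spare variable `0` -/
noncomputable def relTE (b a : Sym2 (Fin n) → R) : Idx n → MvPolynomial (Var n) R
  | Sum.inl p => cc (C ∘ b) (Xu R n) p - C (a p)
  | Sum.inr _ => du R n

variable {A : Type u} [CommRing A] [Algebra R A]

theorem mem_SolTE_iff (b a : Sym2 (Fin n) → R) (v : Var n → A) :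
    v ∈ Sol (relTE b a) A ↔
      cc (algebraMap R A ∘ b) (vmat v) = algebraMap R A ∘ a ∧ vdet v = 0 := by
  constructor
  · intro h
    refine ⟨?_, ?_⟩
    · funext p
      have h1 := h (Sum.inl p)
      simp only [relTE, map_sub, aeval_cc, aeval_C] at h1
      exact sub_eq_zero.mp h1
    · have h1 := h (Sum.inr false)
      simp only [relTE, du, aeval_X] at h1
      exact h1
  · rintro ⟨h1, h3⟩ i
    rcases i with p | bb
    · simp only [relTE, map_sub, aeval_cc, aeval_C]
      exact sub_eq_zero.mpr (congrFun h1 p)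
    · simp only [relTE, du, aeval_X]
      exact h3

end rel

section smooth

variable {R : Type u} [CommRing R] {n : ℕ}

theorem det_sq_of_cc {S : Type*} [CommRing S] (b a : Sym2 (Fin n) → S)
    (X : Matrix (Fin n) (Fin n) S) (h : cc b X = a) :
    X.det * (PM b).det * X.det = (PM a).det := by
  rw [← h, PM_cc, det_mul, det_mul, det_transpose]

/-- the torsor algebra is formally smooth. -/
theorem formallySmooth_TE (b a : Sym2 (Fin n) → R)
    (hb : IsUnit (PM b).det) (ha : IsUnit (PM a).det) :
    Algebra.FormallySmooth R (Alg (relTE b a)) := by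
  apply formallySmooth_of_lifting
  intro C _ _ I hI w hw
  obtain ⟨hw1, hw3⟩ := (mem_SolTE_iff b a w).mp hw
  have hnil : IsNilpotent I := ⟨2, hI⟩
  set aC : Sym2 (Fin n) → C := algebraMap R C ∘ a with haC
  set bC : Sym2 (Fin n) → C := algebraMap R C ∘ b with hbC
  have hdb : IsUnit (PM bC).det := by
    rw [hbC, ← PM_map, ← RingHom.mapMatrix_apply, ← RingHom.map_det]
    exact hb.map _
  -- a lift of the matrix
  let X₀ : Matrix (Fin n) (Fin n) C :=
    Matrix.of fun i j => Function.surjInv Ideal.Quotient.mk_surjective (vmat w i j)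
  have hX₀ : X₀.map (Ideal.Quotient.mk I) = vmat w := by
    ext i j
    exact Function.surjInv_eq Ideal.Quotient.mk_surjective _
  have hwdet : IsUnit (vmat w).det := by
    have h1 := det_sq_of_cc _ _ (vmat w) hw1
    have h2 : IsUnit (PM (algebraMap R (C ⧸ I) ∘ a)).det := by
      rw [← PM_map, ← RingHom.mapMatrix_apply, ← RingHom.map_det]
      exact ha.map _
    rw [← h1] at h2
    exact isUnit_of_mul_isUnit_right h2
  have hX₀u : IsUnit X₀.det := by
    rw [← IsNilpotent.isUnit_quotient_mk_iff hnil, RingHom.map_det, RingHom.mapMatrix_apply, hX₀]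
    exact hwdet
  have hmkalg : ((Ideal.Quotient.mk I : C →+* C ⧸ I) : C → C ⧸ I) ∘ bC =
      algebraMap R (C ⧸ I) ∘ b := by
    funext p
    rfl
  have hcc : ∀ p, cc bC X₀ p - aC p ∈ I := by
    intro p
    rw [← Ideal.Quotient.eq_zero_iff_mem, map_sub]
    have h := congrFun (cc_map (Ideal.Quotient.mk I) bC X₀) p
    rw [hX₀, hmkalg, hw1] at h
    simp only [Function.comp] at h
    rw [h]
    exact sub_eq_zero.mpr rfl
  obtain ⟨X', hX'I, hX'cc⟩ := exists_lift_TE I hI bC aC hdb X₀ hX₀u hcc
  have hX'mk : X'.map (Ideal.Quotient.mk I) = vmat w := by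
    rw [← hX₀]
    ext i j
    simp only [Matrix.map_apply]
    exact Ideal.Quotient.eq.mpr (hX'I i j)
  refine ⟨vec X' 0, (mem_SolTE_iff b a _).mpr ⟨?_, rfl⟩, ?_⟩
  · rw [vmat_vec]
    exact hX'cc
  · intro t
    rcases t with ⟨i, j⟩ | ⟨⟩
    · change Ideal.Quotient.mk I (X' i j) = w (Sum.inl (i, j))
      exact congrFun (congrFun hX'mk i) j
    · change Ideal.Quotient.mk I 0 = vdet w
      rw [map_zero]
      exact hw3.symm

end smooth

section classify

open QuadraticMap Module

variable {K : Type u} [Field K]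

/-- Gram data of the family `e` is the even split table -/
def IsSplitFamE {V : Type v} [AddCommGroup V] [Module K V] (Q : QuadraticForm K V) (m : ℕ)
    (e : Fin (2 * m) → V) : Prop :=
  (∀ k, Q (e k) = 0) ∧ ∀ k l, k ≠ l → polar Q (e k) (e l) = BE K k.val l.val

theorem exists_splitFamE [IsAlgClosed K] : ∀ (m : ℕ) (V : Type v) [AddCommGroup V] [Module K V]
    [FiniteDimensional K V] (Q : QuadraticForm K V), finrank K V = 2 * m → Q.Nondegenerate →
    ∃ e : Fin (2 * m) → V, IsSplitFamE Q m e := by
  intro m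
  induction m with
  | zero =>
    intro V _ _ _ Q _ _
    exact ⟨fun k => absurd k.isLt (by omega), fun k => absurd k.isLt (by omega),
      fun k => absurd k.isLt (by omega)⟩
  | succ m ih =>
    intro V _ _ _ Q hdim hQ
    obtain ⟨v, hv, hQv⟩ := exists_isotropic Q (by omega)
    obtain ⟨w, hQw, hvw⟩ := exists_hyp_pair Q hQ.radical_eq_bot v hv hQv
    have hW := finrank_Wc Q v w hQv hQw hvw
    obtain ⟨e', he1, he2⟩ := ih (Wc Q v w) (Q.comp (Wc Q v w).subtype) (by omega)
      (nondeg_Wc Q v w hQv hQw hvw hQ)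
    let e : Fin (2 * (m + 1)) → V := fun k =>
      if h : k.val < 2 * m then ((e' ⟨k.val, h⟩ : Wc Q v w) : V)
      else if k.val = 2 * m then v else w
    have e_lt : ∀ (k : Fin (2 * (m + 1))) (h : k.val < 2 * m),
        e k = ((e' ⟨k.val, h⟩ : Wc Q v w) : V) := fun k h => dif_pos h
    have e_v : ∀ k : Fin (2 * (m + 1)), k.val = 2 * m → e k = v := by
      intro k h
      simp only [e]
      rw [dif_neg (by omega), if_pos h]
    have e_w : ∀ k : Fin (2 * (m + 1)), k.val = 2 * m + 1 → e k = w := by
      intro k h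
      simp only [e]
      rw [dif_neg (by omega), if_neg (by omega)]
    have hmem : ∀ j, polar Q v (e' j : V) = 0 ∧ polar Q w (e' j : V) = 0 :=
      fun j => (mem_Wc Q v w _).mp (e' j).2
    have hcase : ∀ k : Fin (2 * (m + 1)),
        k.val < 2 * m ∨ k.val = 2 * m ∨ k.val = 2 * m + 1 := by
      intro k
      have := k.isLt
      omega
    refine ⟨e, ?_, ?_⟩
    · intro k
      rcases hcase k with hk | hk | hk
      · rw [e_lt k hk]
        have := he1 ⟨k.val, hk⟩
        rw [QuadraticMap.comp_apply] at this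
        exact this
      · rw [e_v k hk, hQv]
      · rw [e_w k hk, hQw]
    · intro k l hkl
      have hv' : k.val ≠ l.val := fun h => hkl (Fin.ext h)
      rcases hcase k with hk | hk | hk <;> rcases hcase l with hl | hl | hl
      · rw [e_lt k hk, e_lt l hl, ← polar_comp_subtype]
        exact he2 ⟨k.val, hk⟩ ⟨l.val, hl⟩ (fun h => hv' (Fin.mk.inj_iff.mp h))
      · rw [e_lt k hk, e_v l hl, polar_comm, (hmem _).1, BE, if_neg hv', if_neg (by omega)]
      · rw [e_lt k hk, e_w l hl, polar_comm, (hmem _).2, BE, if_neg hv', if_neg (by omega)]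
      · rw [e_v k hk, e_lt l hl, (hmem _).1, BE, if_neg hv', if_neg (by omega)]
      · exact absurd (hk.trans hl.symm) hv'
      · rw [e_v k hk, e_w l hl, hvw, BE, if_neg hv', if_pos (Or.inl ⟨by omega, by omega⟩)]
      · rw [e_w k hk, e_lt l hl, (hmem _).2, BE, if_neg hv', if_neg (by omega)]
      · rw [e_w k hk, e_v l hl, polar_comm, hvw, BE, if_neg hv',
          if_pos (Or.inr ⟨by omega, by omega⟩)]
      · exact absurd (hk.trans hl.symm) hv'

end classify

section field

open Groth.Agent.Lib.Helper25.HalfDisc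

variable {K : Type u} [Field K] [IsAlgClosed K]

/-- over an algebraically closed field, a table of even rank with invertible polar matrix is
the transform of the split table. -/
theorem exists_point_field_E (m : ℕ) (a : Sym2 (Fin (2 * m)) → K) (ha : (PM a).det ≠ 0) :
    ∃ X : Matrix (Fin (2 * m)) (Fin (2 * m)) K, cc (bspE K (2 * m)) X = a := by
  classical
  set Q : QuadraticForm K (Fin (2 * m) → K) := qf (UM a) with hQ
  have hcoef : coeffs (Pi.basisFun K (Fin (2 * m))) (LinearEquiv.refl K K) Q = a := by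
    rw [hQ, coeffs_qf, tab_UM]
  have hB : (QuadraticMap.polarBilin Q).Nondegenerate := by
    have h1 : (LinearMap.BilinForm.toMatrix (Pi.basisFun K (Fin (2 * m)))
        (QuadraticMap.polarBilin Q)).det ≠ 0 := by
      rw [← PM_coeffs, hcoef]
      exact ha
    exact LinearMap.BilinForm.nondegenerate_of_det_ne_zero _ (Pi.basisFun K (Fin (2 * m))) h1
  have hker : LinearMap.ker (QuadraticMap.polarBilin Q) = ⊥ :=
    LinearMap.separatingLeft_iff_ker_eq_bot.mp hB.1
  have hnd : Q.Nondegenerate := by
    constructor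
    · rw [eq_bot_iff]
      intro x hx
      have : x ∈ LinearMap.ker (QuadraticMap.polarBilin Q) := LinearMap.mem_ker.mpr hx.2
      rw [hker] at this
      exact this
    · rw [hker]
      simp
  obtain ⟨e, he1, he2⟩ := exists_splitFamE m (Fin (2 * m) → K) Q
    (by rw [Module.finrank_fin_fun]) hnd
  set g : (Fin (2 * m) → K) →ₗ[K] (Fin (2 * m) → K) :=
    (Pi.basisFun K (Fin (2 * m))).constr K e with hg
  have hgb : ∀ i, g (Pi.basisFun K (Fin (2 * m)) i) = e i := fun i => by
    rw [hg, Module.Basis.constr_basis]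
  set Y : Matrix (Fin (2 * m)) (Fin (2 * m)) K :=
    LinearMap.toMatrix (Pi.basisFun K (Fin (2 * m))) (Pi.basisFun K (Fin (2 * m))) g with hY
  have hccY : cc a Y = bspE K (2 * m) := by
    have h1 := coeffs_comp (Pi.basisFun K (Fin (2 * m))) Q g
    rw [hcoef] at h1
    rw [hY, ← h1]
    funext p
    induction p using Sym2.ind with
    | _ k l =>
      rw [coeffs_mk, bspE_mk]
      simp only [LinearEquiv.refl_apply]
      by_cases hkl : k = l
      · subst hkl
        rw [if_pos rfl, QuadraticMap.comp_apply, hgb, he1, BE, if_pos rfl]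
      · rw [if_neg hkl]
        simp only [QuadraticMap.polar, QuadraticMap.comp_apply, map_add, hgb]
        exact he2 k l hkl
  have hbu : (PM (bspE K (2 * m))).det ≠ 0 := (isUnit_det_PM_bspE K m).ne_zero
  have hYdet : Y.det ≠ 0 := by
    intro h0
    have h1 := det_sq_of_cc a (bspE K (2 * m)) Y hccY
    rw [h0] at h1
    apply hbu
    rw [← h1]
    ring
  have hYu : IsUnit Y.det := isUnit_iff_ne_zero.mpr hYdet
  refine ⟨Y⁻¹, ?_⟩
  rw [← hccY, cc_cc, Matrix.mul_nonsing_inv _ hYu, cc_one]

end field

section flat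

variable {R : Type u} [CommRing R]

/-- the torsor algebra (source the even split table) is faithfully flat. -/
theorem faithfullyFlat_TE (m : ℕ) (a : Sym2 (Fin (2 * m)) → R) (ha : IsUnit (PM a).det) :
    Module.FaithfullyFlat R (Alg (relTE (bspE R (2 * m)) a)) := by
  have : Algebra.FormallySmooth R (Alg (relTE (bspE R (2 * m)) a)) :=
    formallySmooth_TE _ a (isUnit_det_PM_bspE R m) ha
  have : Algebra.Smooth R (Alg (relTE (bspE R (2 * m)) a)) := ⟨inferInstance, inferInstance⟩
  have : Module.Flat R (Alg (relTE (bspE R (2 * m)) a)) := inferInstance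
  refine ⟨fun 𝔪 hmax htop => ?_⟩
  let _ : Field (R ⧸ 𝔪) := Ideal.Quotient.field 𝔪
  let K := AlgebraicClosure (R ⧸ 𝔪)
  let φ : R →+* K := algebraMap R K
  have hφ𝔪 : ∀ r ∈ 𝔪, φ r = 0 := by
    intro r hr
    change algebraMap R K r = 0
    rw [IsScalarTower.algebraMap_apply R (R ⧸ 𝔪) K, Ideal.Quotient.algebraMap_eq,
      Ideal.Quotient.eq_zero_iff_mem.mpr hr, map_zero]
  have haK : (PM (φ ∘ a)).det ≠ 0 := by
    rw [← PM_map, ← RingHom.mapMatrix_apply, ← RingHom.map_det]
    exact (ha.map φ).ne_zero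
  obtain ⟨X, hX1⟩ := exists_point_field_E m (φ ∘ a) haK
  have hv : QuadRel.vec X 0 ∈ Sol (relTE (bspE R (2 * m)) a) K := by
    rw [mem_SolTE_iff, map_bspE (algebraMap R K)]
    exact ⟨hX1, rfl⟩
  exact ne_top_of_point 𝔪 K hφ𝔪 (ofSol (QuadRel.vec X 0) hv) htop

end flat

end Groth.Agent.Lib.Seat37.QuadTorsorEven
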