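import Mathlib
import Groth.Prelude.Def_QuadGrp
import Groth.Agent.Lib.Seat37CliffSetup
import Groth.Agent.Lib.Seat37CliffEvenAz
import Groth.Agent.Lib.Seat37QuadTorsorEven
import Groth.Agent.S17003

/-!
# fppf-local splitting of a regular even-rank quadratic form on a free module (seat 37)

`exists_split_even`: for `Q` regular on a module with basis `b : Basis (Fin (2m)) R M` there is a
faithfully flat finitely presented `A` and an isometry between the base change of `Q` to `A` and
the split form over `A` (on `Fin (2m) → A`).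
-/

set_option autoImplicit false
universe u v

namespace Groth.Agent.Lib.Seat37.CliffSetupEven

open TensorProduct QuadGrp Matrix
open Groth.Agent.S17014.Aux.HD Groth.Agent.Lib.Seat37.QuadTab Groth.Agent.Lib.Seat37.PolyRep
  Groth.Agent.Lib.Seat37.QuadRel Groth.Agent.Lib.Seat37.QuadSplitEven
  Groth.Agent.Lib.Seat37.QuadTorsorEven Groth.Agent.Lib.Seat37.CliffSetup

variable {R : Type u} [CommRing R] {M : Type v} [AddCommGroup M] [Module R M]

theorem exists_split_even (m : ℕ) (b : Module.Basis (Fin (2 * m)) R M) (Q : QuadraticForm R M)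
    (hQ : IsRegular Q) :
    ∃ (A : Type u) (_ : CommRing A) (_ : Algebra R A), Module.FaithfullyFlat R A ∧
      Algebra.FinitePresentation R A ∧
      Nonempty ((@baseChangeForm R _ M _ _ A _ _ (Module.Free.of_basis b) Q).IsometryEquiv
        (splitForm A (2 * m))) := by
  classical
  have : Module.Free R M := Module.Free.of_basis b
  set Q₀ : QuadraticForm R (Fin (2 * m) → R) := Q.comp b.equivFun.symm.toLinearMap with hQ₀
  set a : Sym2 (Fin (2 * m)) → R :=
    coeffs (Pi.basisFun R (Fin (2 * m))) (LinearEquiv.refl R R) Q₀ with ha_def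
  have ha : IsUnit (PM a).det := by
    rw [ha_def, hQ₀, coeffs_comp_equivFun]
    exact Groth.Agent.Lib.Seat37.CliffEvenAz.isUnit_det_PM_of_isRegular b Q hQ
  let T := Alg (relTE (bspE R (2 * m)) a)
  have hff : Module.FaithfullyFlat R T := faithfullyFlat_TE m a ha
  have hfp : Algebra.FinitePresentation R T := inferInstance
  refine ⟨T, inferInstance, inferInstance, hff, hfp, ?_⟩
  -- the universal point
  have hU := toSol_mem (AlgHom.id R T)
  rw [mem_SolTE_iff] at hU
  obtain ⟨hU1, -⟩ := hU
  have hXu : IsUnit (vmat (toSol (AlgHom.id R T))).det := by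
    have h1 := det_sq_of_cc _ _ _ hU1
    have h2 : IsUnit (PM ((algebraMap R T : R → T) ∘ a)).det := by
      rw [← PM_map, ← RingHom.mapMatrix_apply, ← RingHom.map_det]
      exact ha.map _
    rw [← h1] at h2
    exact isUnit_of_mul_isUnit_right h2
  obtain ⟨φ₂⟩ := Groth.Agent.S17003.nonempty_isometryEquiv_of_matrix Q₀
    (QuadGrp.splitForm R (2 * m)) T (vmat (toSol (AlgHom.id R T))) hXu (by
      rw [coeffs_splitForm_even, ← ha_def]
      exact hU1)
  have φ₁ : (baseChangeForm T Q).IsometryEquiv (baseChangeForm T Q₀) :=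
    isoOfEquiv T Q (baseChangeForm T Q₀) (b.equivFun.baseChange R T _ _) (fun x => by
      rw [LinearEquiv.baseChange_tmul, Groth.Agent.Lib.Helper25.HalfDisc.baseChangeForm_one_tmul,
        hQ₀, QuadraticMap.comp_apply]
      simp)
  have φ₃ : (baseChangeForm T (splitForm R (2 * m))).IsometryEquiv (splitForm T (2 * m)) :=
    isoOfEquiv T (splitForm R (2 * m)) (splitForm T (2 * m))
      (TensorProduct.piScalarRight R T T (Fin (2 * m))) (fun x => by
        rw [TensorProduct.piScalarRight_apply, TensorProduct.piScalarRightHom_tmul,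
          splitForm_apply_even, splitForm_apply_even]
        simp only [map_mul, map_sum, Algebra.algebraMap_eq_smul_one])
  exact ⟨φ₁.trans (φ₂.trans φ₃)⟩

end Groth.Agent.Lib.Seat37.CliffSetupEven
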