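import Mathlib
import Groth.Prelude.Def_QuadGrp
import Groth.Agent.Lib.Seat37CliffEvenStruct
import Groth.Agent.Lib.Seat37CliffSetupEven

/-!
# The Dickson condition through conjugating units (seat 37)

For an isometry `g` of `Q` induced by conjugation by a unit `u` of `C(Q)`:
* `map_eq_conj`: the induced automorphism of `C(Q)` is conjugation by `u`;
* `dickson_iff_commute`: `g` is Dickson-trivial iff `u` commutes with the even central elements;
* `dickson_of_even`: this holds if `u` is even;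
* `not_dickson_of_odd`: it fails if `u` is odd (`Q` regular of even rank over a nontrivial ring);
* `idem_local`: idempotents of a local ring.
-/

set_option autoImplicit false
set_option linter.unusedSectionVars false
universe u v

namespace Groth.Agent.Lib.Seat37.CliffDickson

open CliffordAlgebra TensorProduct QuadGrp
open Groth.Agent.Lib.Seat37.CliffGrade Groth.Agent.Lib.Seat37.CliffEvenCenterBC
  Groth.Agent.Lib.Seat37.CliffEvenStruct

theorem idem_local {R : Type*} [CommRing R] [IsLocalRing R] (e : R) (he : IsIdempotentElem e) :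
    e = 0 ∨ e = 1 := by
  have h : e * (1 - e) = 0 := by
    have he' : e * e = e := he
    rw [mul_sub, mul_one, he', sub_self]
  rcases IsLocalRing.isUnit_or_isUnit_of_add_one (add_sub_cancel e 1) with hu | hu
  · right
    have := hu.mul_right_eq_zero.mp h
    exact (sub_eq_zero.mp this).symm
  · left
    exact hu.mul_left_eq_zero.mp h

variable {R : Type u} [CommRing R] {M : Type v} [AddCommGroup M] [Module R M]
variable (Q : QuadraticForm R M)

theorem map_eq_conj (u : (CliffordAlgebra Q)ˣ) (g : M ≃ₗ[R] M) (hg : g ∈ O Q)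
    (hconj : ∀ v : M, (u : CliffordAlgebra Q) * ι Q v * ↑u⁻¹ = ι Q (g v)) (x : CliffordAlgebra Q) :
    CliffordAlgebra.map (isometryOfMem Q g hg) x = (u : CliffordAlgebra Q) * x * ↑u⁻¹ := by
  induction x using CliffordAlgebra.induction with
  | algebraMap r =>
    rw [AlgHom.commutes, ← Algebra.commutes, mul_assoc, Units.mul_inv, mul_one]
  | ι v => rw [map_apply_ι, isometryOfMem_apply, hconj]
  | mul a b ha hb =>
    rw [map_mul, ha, hb]
    simp only [mul_assoc]
    rw [← mul_assoc (↑u⁻¹ : CliffordAlgebra Q) (u : CliffordAlgebra Q), Units.inv_mul, one_mul]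
  | add a b ha hb => rw [map_add, ha, hb, mul_add, add_mul]

theorem isEvenCentral_iff (x : CliffordAlgebra Q) :
    IsEvenCentral Q x ↔ ∃ hx : x ∈ CliffordAlgebra.even Q,
      (⟨x, hx⟩ : CliffordAlgebra.even Q) ∈ Subalgebra.center R (CliffordAlgebra.even Q) := by
  constructor
  · rintro ⟨h0, hc⟩
    refine ⟨h0, ?_⟩
    rw [Subalgebra.mem_center_iff]
    intro y
    exact Subtype.ext (hc y.1 y.2).symm
  · rintro ⟨h0, hc⟩
    rw [Subalgebra.mem_center_iff] at hc
    refine ⟨h0, fun y hy => ?_⟩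
    have := congrArg (fun z : CliffordAlgebra.even Q => (z : CliffordAlgebra Q)) (hc ⟨y, hy⟩)
    exact this.symm

theorem dickson_iff_commute (u : (CliffordAlgebra Q)ˣ) (g : M ≃ₗ[R] M) (hg : g ∈ O Q)
    (hconj : ∀ v : M, (u : CliffordAlgebra Q) * ι Q v * ↑u⁻¹ = ι Q (g v)) :
    IsDicksonTrivial Q g hg ↔
      ∀ x, IsEvenCentral Q x → (u : CliffordAlgebra Q) * x = x * u := by
  constructor
  · intro hD x hx
    obtain ⟨h0, hc⟩ := (isEvenCentral_iff Q x).mp hx
    have h1 := hD ⟨x, h0⟩ hc
    rw [map_eq_conj Q u g hg hconj] at h1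
    change (u : CliffordAlgebra Q) * x * ↑u⁻¹ = x at h1
    calc (u : CliffordAlgebra Q) * x = (u : CliffordAlgebra Q) * x * (↑u⁻¹ * u) := by
          rw [Units.inv_mul, mul_one]
      _ = ((u : CliffordAlgebra Q) * x * ↑u⁻¹) * u := by simp only [mul_assoc]
      _ = x * u := by rw [h1]
  · intro h z hz
    have hx : IsEvenCentral Q (z : CliffordAlgebra Q) :=
      (isEvenCentral_iff Q _).mpr ⟨z.2, hz⟩
    rw [map_eq_conj Q u g hg hconj, h _ hx, mul_assoc, Units.mul_inv, mul_one]

theorem dickson_of_even (u : (CliffordAlgebra Q)ˣ) (g : M ≃ₗ[R] M) (hg : g ∈ O Q)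
    (hconj : ∀ v : M, (u : CliffordAlgebra Q) * ι Q v * ↑u⁻¹ = ι Q (g v))
    (heven : (u : CliffordAlgebra Q) ∈ evenOdd Q 0) : IsDicksonTrivial Q g hg :=
  (dickson_iff_commute Q u g hg hconj).mpr fun x hx => (hx.2 _ heven).symm

theorem not_dickson_of_odd [Nontrivial R] (m : ℕ) (b : Module.Basis (Fin (2 * m)) R M)
    (hQ : IsRegular Q) (u : (CliffordAlgebra Q)ˣ) (g : M ≃ₗ[R] M) (hg : g ∈ O Q)
    (hconj : ∀ v : M, (u : CliffordAlgebra Q) * ι Q v * ↑u⁻¹ = ι Q (g v))
    (hodd : (u : CliffordAlgebra Q) ∈ evenOdd Q 1) : ¬ IsDicksonTrivial Q g hg := by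
  intro hD
  have : Module.Free R M := Module.Free.of_basis b
  obtain ⟨A, iA, iAlg, hff, hfp, ⟨φ⟩⟩ :=
    Groth.Agent.Lib.Seat37.CliffSetupEven.exists_split_even m b Q hQ
  exact not_odd_unit A Q m φ b u hodd ((dickson_iff_commute Q u g hg hconj).mp hD)

end Groth.Agent.Lib.Seat37.CliffDickson
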