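import Mathlib
import Groth.Prelude.Def_QuadGrp
import Groth.Agent.Lib.Seat37CliffEps
import Groth.Agent.Lib.Seat37CliffEvenAz
import Groth.Agent.Lib.Seat37CliffSOFix
import Groth.Agent.Lib.Seat37QuadTorsorEven
import Groth.Agent.Lib.LeadAzumayaLocal

/-!
# Isometries of the split form of even rank act on `omega` through the determinant (seat 37)

* `isRegular_splitForm_even`, `isAzumaya_split_even`;
* `injective_of_isAzumaya`: an algebra map out of an Azumaya algebra to a faithful algebra is
  injective;
* `map_omega`: for an isometry `h` of `splitForm A (2 m)`,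
  `CliffordAlgebra.map h (omega A m) = det h • omega A m`
  (reduction to the odd rank statement `map_zeta_of_det_one` through `h ⊕ det h`).
-/

set_option autoImplicit false
set_option linter.unusedSectionVars false
universe u

namespace Groth.Agent.Lib.Seat37.CliffOmegaDet

open CliffordAlgebra Matrix QuadGrp
open Groth.Agent.S17014.Aux.HD Groth.Agent.Lib.Helper25.HalfDisc
  Groth.Agent.Lib.Seat37.QuadSplitTab Groth.Agent.Lib.Seat37.QuadSplitEven
  Groth.Agent.Lib.Seat37.CliffGrade Groth.Agent.Lib.Seat37.CliffZeta
  Groth.Agent.Lib.Seat37.CliffEps Groth.Agent.Lib.Seat37.CliffFunct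
  Groth.Agent.Lib.Seat37.CliffSOFix Groth.Agent.Lib.Seat37.QuadTorsorEven

section azumaya

theorem injective_of_isAzumaya {R : Type*} [CommRing R] {C : Type*} [Ring C] [Algebra R C]
    [IsAzumaya R C] {D : Type*} [Ring D] [Algebra R D] (f : C →ₐ[R] D)
    (hD : Function.Injective (algebraMap R D)) : Function.Injective f := by
  rw [injective_iff_map_eq_zero]
  intro x hx
  have h1 : x ∈ TwoSidedIdeal.asIdeal (TwoSidedIdeal.ker f) := by
    rw [TwoSidedIdeal.mem_asIdeal, TwoSidedIdeal.mem_ker]
    exact hx
  rw [Groth.Agent.Lib.LeadAzumaya.asIdeal_eq_map_comap (R := R)] at h1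
  have h2 : (TwoSidedIdeal.asIdeal (TwoSidedIdeal.ker f)).comap (algebraMap R C) = ⊥ := by
    rw [eq_bot_iff]
    intro r hr
    rw [Ideal.mem_comap, TwoSidedIdeal.mem_asIdeal, TwoSidedIdeal.mem_ker, AlgHom.commutes] at hr
    rw [Ideal.mem_bot]
    exact hD (by rw [hr, map_zero])
  rw [h2, Ideal.map_bot, Ideal.mem_bot] at h1
  exact h1

variable (A : Type u) [CommRing A] (m : ℕ)

theorem isRegular_splitForm_even : IsRegular (splitForm A (2 * m)) := by
  set Q := splitForm A (2 * m) with hQ
  set b := Pi.basisFun A (Fin (2 * m)) with hb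
  have hdet : IsUnit (LinearMap.toMatrix b b.dualBasis
      (QuadraticMap.polarBilin Q : (Fin (2 * m) → A) →ₗ[A] Module.Dual A (Fin (2 * m) → A))).det := by
    have h2 : LinearMap.toMatrix b b.dualBasis
        (QuadraticMap.polarBilin Q : (Fin (2 * m) → A) →ₗ[A] Module.Dual A (Fin (2 * m) → A)) =
        (LinearMap.BilinForm.toMatrix b (QuadraticMap.polarBilin Q))ᵀ := by
      ext i j
      rw [LinearMap.toMatrix_apply, Matrix.transpose_apply, LinearMap.BilinForm.toMatrix_apply,
        Module.Basis.dualBasis_repr]
    rw [h2, det_transpose, ← PM_coeffs, hQ, coeffs_splitForm_even]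
    exact isUnit_det_PM_bspE A m
  have := (LinearEquiv.ofIsUnitDet hdet).bijective
  exact this

theorem isAzumaya_split_even : IsAzumaya A (CliffordAlgebra (splitForm A (2 * m))) :=
  Groth.Agent.Lib.Seat37.CliffEvenAz.isAzumaya_clifford m (Pi.basisFun A (Fin (2 * m)))
    (splitForm A (2 * m)) (isRegular_splitForm_even A m)

end azumaya

section main

variable (A : Type u) [CommRing A] (m : ℕ)

local notation "TE" => splitForm A (2 * m)
local notation "TO" => splitForm A (2 * m + 1)

theorem TO_cons (r : A) (x : Fin (2 * m) → A) :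
    TO (Fin.cons r x : Fin (2 * m + 1) → A) = r * r + TE x := by
  rw [splitForm_apply, splitForm_apply_even]
  congr 1

/-- the inclusion of the even split form into the odd one -/
noncomputable def inc : TE →qᵢ TO :=
  { (Fin.consLinearEquiv A (fun _ : Fin (2 * m + 1) => A)).toLinearMap ∘ₗ
      LinearMap.inr A A (Fin (2 * m) → A) with
    map_app' := fun x => by
      change TO (Fin.cons 0 x : Fin (2 * m + 1) → A) = TE x
      rw [TO_cons, mul_zero, zero_add] }

theorem inc_apply (x : Fin (2 * m) → A) :
    inc A m x = (Fin.cons 0 x : Fin (2 * m + 1) → A) := rfl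

theorem inc_bvE (k : ℕ) : inc A m (bvE A m k) = bv A m (k + 1) := by
  rw [inc_apply]
  funext i
  unfold bvE bv
  refine Fin.cases ?_ (fun i' => ?_) i
  · rw [Fin.cons_zero]
    split_ifs with h
    · rw [Pi.single_apply, if_neg]
      intro h0
      have := congrArg Fin.val h0
      simp at this
    · rfl
  · rw [Fin.cons_succ]
    by_cases h : k < 2 * m
    · rw [dif_pos h, dif_pos (by omega), Pi.single_apply, Pi.single_apply]
      congr 1
      apply propext
      rw [Fin.ext_iff, Fin.ext_iff]
      simp
    · rw [dif_neg h, dif_neg (by omega)]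
      rfl

theorem map_inc_omE (i : ℕ) : CliffordAlgebra.map (inc A m) (omE A m i) = om A m i := by
  unfold omE om
  split_ifs
  · simp only [w, map_sub, map_mul, map_apply_ι, inc_bvE]
  · exact map_one _

theorem map_inc_OmE (j : ℕ) : CliffordAlgebra.map (inc A m) (OmE A m j) = Om A m j := by
  induction j with
  | zero => exact map_one _
  | succ j ih =>
    change CliffordAlgebra.map (inc A m) (OmE A m j * omE A m j) = Om A m j * om A m j
    rw [map_mul, ih, map_inc_omE]

theorem map_inc_omega : CliffordAlgebra.map (inc A m) (omega A m) = Om A m m := map_inc_OmE A m m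

theorem map_inc_injective : Function.Injective (CliffordAlgebra.map (inc A m)) := by
  have : IsAzumaya A (CliffordAlgebra TE) := isAzumaya_split_even A m
  exact injective_of_isAzumaya _ (Groth.Agent.Lib.Seat37.CliffRank.algebraMap_injective TO)

/-- `h ⊕ d` on the odd split form -/
noncomputable def hplus (h : TE →qᵢ TE) (d : A) (hd : d * d = 1) : TO →qᵢ TO :=
  { (Fin.consLinearEquiv A (fun _ : Fin (2 * m + 1) => A)).toLinearMap ∘ₗ
      (LinearMap.prodMap (d • (LinearMap.id : A →ₗ[A] A)) h.toLinearMap) ∘ₗ
      (Fin.consLinearEquiv A (fun _ : Fin (2 * m + 1) => A)).symm.toLinearMap with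
    map_app' := fun y => by
      obtain ⟨⟨r, x⟩, rfl⟩ := (Fin.consLinearEquiv A (fun _ : Fin (2 * m + 1) => A)).surjective y
      change TO (Fin.consLinearEquiv A (fun _ : Fin (2 * m + 1) => A)
        (LinearMap.prodMap (d • (LinearMap.id : A →ₗ[A] A)) h.toLinearMap
          ((Fin.consLinearEquiv A (fun _ : Fin (2 * m + 1) => A)).symm
            (Fin.consLinearEquiv A (fun _ : Fin (2 * m + 1) => A) (r, x))))) = _
      rw [LinearEquiv.symm_apply_apply]
      change TO (Fin.cons (d * r) (h x) : Fin (2 * m + 1) → A) =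
        TO (Fin.cons r x : Fin (2 * m + 1) → A)
      rw [TO_cons, TO_cons, h.map_app]
      linear_combination (r * r) * hd }

theorem hplus_cons (h : TE →qᵢ TE) (d : A) (hd : d * d = 1) (r : A) (x : Fin (2 * m) → A) :
    hplus A m h d hd (Fin.cons r x : Fin (2 * m + 1) → A) = Fin.cons (d * r) (h x) := by
  change Fin.consLinearEquiv A (fun _ : Fin (2 * m + 1) => A)
    (LinearMap.prodMap (d • (LinearMap.id : A →ₗ[A] A)) h.toLinearMap
      ((Fin.consLinearEquiv A (fun _ : Fin (2 * m + 1) => A)).symm
        (Fin.consLinearEquiv A (fun _ : Fin (2 * m + 1) => A) (r, x)))) = _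
  rw [LinearEquiv.symm_apply_apply]
  rfl

theorem det_hplus (h : TE →qᵢ TE) (d : A) (hd : d * d = 1) :
    LinearMap.det (hplus A m h d hd).toLinearMap = d * LinearMap.det h.toLinearMap := by
  change LinearMap.det ((Fin.consLinearEquiv A (fun _ : Fin (2 * m + 1) => A)).toLinearMap ∘ₗ
      (LinearMap.prodMap (d • (LinearMap.id : A →ₗ[A] A)) h.toLinearMap) ∘ₗ
      (Fin.consLinearEquiv A (fun _ : Fin (2 * m + 1) => A)).symm.toLinearMap) = _
  rw [LinearMap.det_conj, LinearMap.det_prodMap, LinearMap.det_ring]
  simp

theorem map_zeta_of_det_one' (h : TO →qᵢ TO) (hdet : LinearMap.det h.toLinearMap = 1) :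
    CliffordAlgebra.map h (zeta A m) = zeta A m := by
  have hX : ∀ v, TO ((LinearMap.toMatrix' h.toLinearMap).mulVec v) = TO v := fun v => by
    rw [LinearMap.toMatrix'_mulVec]
    exact h.map_app v
  have h1 := map_zeta_of_det_one m (LinearMap.toMatrix' h.toLinearMap) hX
    (by rw [LinearMap.det_toMatrix']; exact hdet)
  have e : isoOfMat TO (LinearMap.toMatrix' h.toLinearMap) hX = h := by
    ext v : 1
    rw [isoOfMat_apply, LinearMap.toMatrix'_mulVec]
    rfl
  rwa [e] at h1

theorem det_mul_self (h : TE →qᵢ TE) :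
    LinearMap.det h.toLinearMap * LinearMap.det h.toLinearMap = 1 := by
  have h1 := coeffs_comp (Pi.basisFun A (Fin (2 * m))) TE h.toLinearMap
  have h2 : (splitForm A (2 * m)).comp h.toLinearMap = TE := by
    ext v
    exact h.map_app v
  rw [h2, coeffs_splitForm_even, LinearMap.toMatrix_eq_toMatrix'] at h1
  have h3 := det_sq_of_cc _ _ _ h1.symm
  rw [LinearMap.det_toMatrix'] at h3
  have hu := isUnit_det_PM_bspE A m
  have h4 : (LinearMap.det h.toLinearMap * LinearMap.det h.toLinearMap) *
      (PM (bspE A (2 * m))).det = 1 * (PM (bspE A (2 * m))).det := by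
    linear_combination h3
  exact hu.mul_left_injective h4

/-- isometries act on `omega` through the determinant -/
theorem map_omega (h : TE →qᵢ TE) :
    CliffordAlgebra.map h (omega A m) = LinearMap.det h.toLinearMap • omega A m := by
  set d := LinearMap.det h.toLinearMap with hd_def
  have hd : d * d = 1 := det_mul_self A m h
  have hdet : LinearMap.det (hplus A m h d hd).toLinearMap = 1 := by
    rw [det_hplus, ← hd_def, hd]
  have hz := map_zeta_of_det_one' A m (hplus A m h d hd) hdet
  -- the action on the two factors of `zeta`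
  have hb0 : bv A m 0 = (Fin.cons 1 0 : Fin (2 * m + 1) → A) := by
    funext i
    rw [bv_of_lt A m (by omega)]
    refine Fin.cases ?_ (fun i' => ?_) i
    · rw [Fin.cons_zero]
      exact Pi.single_eq_same _ _
    · rw [Fin.cons_succ, Pi.single_apply, if_neg]
      · rfl
      · intro h0
        have := congrArg Fin.val h0
        simp at this
  have h1 : hplus A m h d hd (bv A m 0) = d • bv A m 0 := by
    rw [hb0, hplus_cons, map_zero, mul_one]
    funext i
    refine Fin.cases ?_ (fun i' => ?_) i
    · simp
    · simp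
  have hnat : ∀ x : CliffordAlgebra TE,
      CliffordAlgebra.map (hplus A m h d hd) (CliffordAlgebra.map (inc A m) x) =
        CliffordAlgebra.map (inc A m) (CliffordAlgebra.map h x) := by
    intro x
    have hc : (hplus A m h d hd).comp (inc A m) = (inc A m).comp h := by
      ext v : 1
      change hplus A m h d hd (inc A m v) = inc A m (h v)
      rw [inc_apply, inc_apply, hplus_cons, mul_zero]
    rw [← AlgHom.comp_apply, ← AlgHom.comp_apply, CliffordAlgebra.map_comp_map,
      CliffordAlgebra.map_comp_map, hc]
  have hsq : ι TO (bv A m 0) * ι TO (bv A m 0) = 1 := by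
    rw [ι_sq_scalar, T_bv A m (by omega), if_pos rfl, map_one]
  unfold zeta at hz
  rw [map_mul, map_apply_ι, h1, map_smul, ← map_inc_omega, hnat, smul_mul_assoc] at hz
  have h2 := congrArg (fun y => ι TO (bv A m 0) * y) hz
  simp only [mul_smul_comm, ← mul_assoc, hsq, one_mul] at h2
  rw [← map_smul] at h2
  have h3 := map_inc_injective A m h2
  -- `d • map h omega = omega`
  calc CliffordAlgebra.map h (omega A m) = (d * d) • CliffordAlgebra.map h (omega A m) := by
        rw [hd, one_smul]
    _ = d • (d • CliffordAlgebra.map h (omega A m)) := by rw [mul_smul]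
    _ = d • omega A m := by rw [h3]

end main

end Groth.Agent.Lib.Seat37.CliffOmegaDet
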