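import Mathlib
import Groth.Prelude.Def_QuadGrp
import Groth.Agent.Lib.Seat37CliffOmegaDet
import Groth.Agent.Lib.Seat37CliffEvenStruct
import Groth.Agent.Lib.Seat37CliffSOCenter
import Groth.Agent.Lib.Seat37CliffDickson

/-!
# Dickson-trivial isometries have determinant one (seat 37)

Context of `CliffEvenStruct` (`A` faithfully flat over `R`, `φ` an isometry of `Q_A` with the split
form of rank `2 m`).
* `kIso h`: the base change of an isometry `h` of `Q`, transported to the split form, with
  `det_kIso` and `ΨE_map`;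
* `omegaA`, `map_bcIso_omegaA : C(h_A) omegaA = det h • omegaA`;
* `map_bcIso_of_dickson`: a Dickson-trivial isometry fixes all even central elements of `C(Q_A)`;
* `det_eq_one_of_dickson`.
-/

set_option autoImplicit false
set_option linter.unusedSectionVars false
universe u v

namespace Groth.Agent.Lib.Seat37.CliffDicksonDet

open CliffordAlgebra TensorProduct QuadGrp
open Groth.Agent.Lib.Seat37.CliffGrade Groth.Agent.Lib.Seat37.CliffBC
  Groth.Agent.Lib.Seat37.CliffRank Groth.Agent.Lib.Seat37.CliffDescent
  Groth.Agent.Lib.Seat37.CliffEps Groth.Agent.Lib.Seat37.CliffEvenCenterBC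
  Groth.Agent.Lib.Seat37.CliffEvenStruct Groth.Agent.Lib.Seat37.CliffSOCenter
  Groth.Agent.Lib.Seat37.CliffOmegaDet Groth.Agent.Lib.Seat37.CliffDickson

variable {R : Type u} [CommRing R] {M : Type v} [AddCommGroup M] [Module R M] [Module.Free R M]
  [Module.Finite R M]
variable (A : Type u) [CommRing A] [Algebra R A]
variable (Q : QuadraticForm R M) (m : ℕ)
variable (φ : (baseChangeForm A Q).IsometryEquiv (splitForm A (2 * m)))

local notation "Q'" => baseChangeForm A Q
local notation "T" => splitForm A (2 * m)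

/-- the base change of `h`, transported to the split form, as a linear map -/
noncomputable def kLinE (h : Q →qᵢ Q) : (Fin (2 * m) → A) →ₗ[A] (Fin (2 * m) → A) :=
  (φ.toLinearEquiv : (A ⊗[R] M) →ₗ[A] _) ∘ₗ (h.toLinearMap.baseChange A) ∘ₗ
    (φ.toLinearEquiv.symm : _ →ₗ[A] (A ⊗[R] M))

/-- the base change of `h`, transported to the split form -/
noncomputable def kIso (h : Q →qᵢ Q) : T →qᵢ T :=
  { kLinE A Q m φ h with
    map_app' := fun v => by
      change T (φ (bcIso A Q h (φ.toLinearEquiv.symm v))) = T v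
      rw [φ.map_app, (bcIso A Q h).map_app]
      have := φ.map_app (φ.toLinearEquiv.symm v)
      rw [← this]
      congr 1
      exact φ.toLinearEquiv.apply_symm_apply v }

theorem kIso_apply (h : Q →qᵢ Q) (v : Fin (2 * m) → A) :
    kIso A Q m φ h v = φ (bcIso A Q h (φ.toLinearEquiv.symm v)) := rfl

theorem det_kIso (h : Q →qᵢ Q) :
    LinearMap.det (kIso A Q m φ h).toLinearMap = algebraMap R A (LinearMap.det h.toLinearMap) := by
  change LinearMap.det (kLinE A Q m φ h) = _
  rw [kLinE, LinearMap.det_conj, LinearMap.det_baseChange]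

/-- `ΨE` intertwines the maps induced by `h_A` and by its transport -/
theorem ΨE_map (h : Q →qᵢ Q) (x : CliffordAlgebra Q') :
    ΨE A Q m φ (CliffordAlgebra.map (bcIso A Q h) x) =
      CliffordAlgebra.map (kIso A Q m φ h) (ΨE A Q m φ x) := by
  have hh : ((ΨE A Q m φ : CliffordAlgebra Q' →ₐ[A] CliffordAlgebra T)).comp
      (CliffordAlgebra.map (bcIso A Q h)) =
      (CliffordAlgebra.map (kIso A Q m φ h)).comp
        (ΨE A Q m φ : CliffordAlgebra Q' →ₐ[A] CliffordAlgebra T) := by
    apply CliffordAlgebra.hom_ext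
    refine LinearMap.ext fun t => ?_
    simp only [LinearMap.comp_apply, AlgHom.toLinearMap_apply, AlgHom.comp_apply, map_apply_ι]
    change equivOfIsometry φ (ι Q' _) = CliffordAlgebra.map _ (equivOfIsometry φ (ι Q' t))
    rw [equivOfIsometry_apply, equivOfIsometry_apply, map_apply_ι, map_apply_ι, map_apply_ι,
      kIso_apply]
    have ht : φ.toLinearEquiv.symm (φ.toIsometry t) = t := φ.toLinearEquiv.symm_apply_apply t
    rw [ht]
    rfl
  exact AlgHom.congr_fun hh x

/-- the transport of `omega` -/
noncomputable def omegaA : CliffordAlgebra Q' := (ΨE A Q m φ).symm (omega A m)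

theorem isEvenCentral_omegaA : IsEvenCentral Q' (omegaA A Q m φ) := by
  refine ⟨equivOfIsometry_symm_mem φ 0 _ (omega_even A m), fun y hy => ?_⟩
  apply (ΨE A Q m φ).injective
  unfold omegaA
  rw [map_mul, map_mul, AlgEquiv.apply_symm_apply]
  exact (even_mul_omega A m _ (equivOfIsometry_mem φ 0 y hy)).symm

theorem omegaA_sq : omegaA A Q m φ * omegaA A Q m φ = 1 := by
  unfold omegaA
  rw [← map_mul, omega_sq, map_one]

theorem map_bcIso_omegaA (h : Q →qᵢ Q) :
    CliffordAlgebra.map (bcIso A Q h) (omegaA A Q m φ) =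
      algebraMap R A (LinearMap.det h.toLinearMap) • omegaA A Q m φ := by
  apply (ΨE A Q m φ).injective
  rw [ΨE_map, map_smul]
  unfold omegaA
  rw [AlgEquiv.apply_symm_apply, map_omega, det_kIso]

/-- a Dickson-trivial isometry fixes the even central elements after base change -/
theorem map_bcIso_of_dickson [Module.Flat R A] {n : ℕ} (b : Module.Basis (Fin n) R M)
    (g : M ≃ₗ[R] M) (hg : g ∈ O Q) (hD : IsDicksonTrivial Q g hg) (z : CliffordAlgebra Q')
    (hz : IsEvenCentral Q' z) :
    CliffordAlgebra.map (bcIso A Q (isometryOfMem Q g hg)) z = z := by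
  have hmem := mem_span_of_isEvenCentral A Q b z hz
  have key : ∀ y ∈ Submodule.span A ((j A Q) '' {x | IsEvenCentral Q x}),
      CliffordAlgebra.map (bcIso A Q (isometryOfMem Q g hg)) y = y := by
    intro y hy
    induction hy using Submodule.span_induction with
    | mem y hy =>
      obtain ⟨x, hx, rfl⟩ := hy
      obtain ⟨h0, hc⟩ := (isEvenCentral_iff Q x).mp hx
      rw [← j_map, hD ⟨x, h0⟩ hc]
    | zero => rw [map_zero]
    | add x y _ _ hx hy => rw [map_add, hx, hy]
    | smul a x _ hx => rw [map_smul, hx]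
  exact key z hmem

include φ in
theorem det_eq_one_of_dickson [Module.FaithfullyFlat R A] {n : ℕ} (b : Module.Basis (Fin n) R M)
    (g : M ≃ₗ[R] M) (hg : g ∈ O Q) (hD : IsDicksonTrivial Q g hg) :
    LinearMap.det (g : M →ₗ[R] M) = 1 := by
  have h1 := map_bcIso_of_dickson A Q b g hg hD (omegaA A Q m φ) (isEvenCentral_omegaA A Q m φ)
  rw [map_bcIso_omegaA] at h1
  -- cancel the unit `omegaA`
  have h2 := congrArg (fun y => y * omegaA A Q m φ) h1
  simp only [smul_mul_assoc, omegaA_sq] at h2
  have h3 : algebraMap A (CliffordAlgebra Q')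
      (algebraMap R A (LinearMap.det (isometryOfMem Q g hg).toLinearMap)) =
      algebraMap A (CliffordAlgebra Q') 1 := by
    rw [map_one, Algebra.algebraMap_eq_smul_one]
    exact h2
  have h4 := algebraMap_injective Q' h3
  have h5 : algebraMap R A (LinearMap.det (isometryOfMem Q g hg).toLinearMap) =
      algebraMap R A 1 := by rw [h4, map_one]
  exact FaithfulSMul.algebraMap_injective R A h5

end Groth.Agent.Lib.Seat37.CliffDicksonDet
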