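import Mathlib
import Groth.Prelude.Def_QuadGrp
import Groth.Agent.Lib.Seat37CliffOmegaDet
import Groth.Agent.Lib.Seat37CliffEvenCenterBC
import Groth.Agent.Lib.Seat37CliffDescent
import Groth.Agent.Lib.Seat77AzInvA

/-!
# The centre of the even Clifford algebra of the split form of even rank (seat 37)

`exists_eq_of_isEvenCentral`: for `1 ≤ m`, every even central element of `C(splitForm A (2 m))` is
`α + β • eps`.
-/

set_option autoImplicit false
set_option linter.unusedSectionVars false
universe u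

namespace Groth.Agent.Lib.Seat37.CliffEvenCenterSplit

open CliffordAlgebra QuadGrp
open Groth.Agent.Lib.Seat37.CliffGrade Groth.Agent.Lib.Seat37.CliffEps
  Groth.Agent.Lib.Seat37.CliffEvenCenterBC Groth.Agent.Lib.Seat37.CliffOmegaDet
  Groth.Agent.Lib.Seat37.CliffDescent

variable (A : Type u) [CommRing A] (m : ℕ)

local notation "T" => splitForm A (2 * m)

/-- an element commuting with the even elements and with an odd unit of square one is central -/
theorem central_of_commute (hm : 1 ≤ m) (c : CliffordAlgebra T)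
    (h0 : ∀ y ∈ evenOdd T 0, c * y = y * c) (h1 : c * x0 A m = x0 A m * c) :
    ∀ y : CliffordAlgebra T, c * y = y * c := by
  intro y
  have hxx := x0_sq A m hm
  have hy : y = P0 T y + (P1 T y * x0 A m) * x0 A m := by
    rw [mul_assoc, hxx, mul_one, P0_add_P1]
  have he : P1 T y * x0 A m ∈ evenOdd T 0 := by
    have := evenOdd_mul_mem T 1 1 _ _ (P1_mem T y) (x0_odd A m)
    rwa [show (1 : ZMod 2) + 1 = 0 from rfl] at this
  rw [hy, mul_add, add_mul, h0 _ (P0_mem T y), ← mul_assoc, h0 _ he, mul_assoc, h1]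
  simp only [mul_assoc]

theorem exists_eq_of_isEvenCentral (hm : 1 ≤ m) (z : CliffordAlgebra T)
    (hz : IsEvenCentral T z) :
    ∃ α β : A, z = algebraMap A _ α + β • eps A m := by
  have hAz : IsAzumaya A (CliffordAlgebra T) := isAzumaya_split_even A m
  set x := x0 A m with hx
  set ε := eps A m with hε
  set ω := omega A m with hω
  have hxx : x * x = 1 := x0_sq A m hm
  have hxodd : x ∈ evenOdd T 1 := x0_odd A m
  have hxε : x * ε = (1 - ε) * x := odd_mul_eps A m x hxodd
  have hωeq : ω = 1 - 2 • ε := omega_eq A m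
  have hωω : ω * ω = 1 := omega_sq A m
  have hxω : x * ω = -(ω * x) := by
    rw [hωeq, mul_sub, mul_one, mul_smul_comm, hxε]
    noncomm_ring
  obtain ⟨σz, hσ⟩ : ∃ s, s = x * z * x := ⟨_, rfl⟩
  have hxz : x * z = σz * x := by rw [hσ, mul_assoc (x * z), hxx, mul_one]
  have hxσ : x * σz = z * x := by rw [hσ, ← mul_assoc, ← mul_assoc, hxx, one_mul]
  have hσeven : σz ∈ evenOdd T 0 := by
    have h1 := evenOdd_mul_mem T 1 0 _ _ hxodd hz.1
    have h2 := evenOdd_mul_mem T (1 + 0) 1 _ _ h1 hxodd
    rw [hσ]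
    rwa [show (1 : ZMod 2) + 0 + 1 = 0 from rfl] at h2
  have hσcomm : ∀ y ∈ evenOdd T 0, σz * y = y * σz := by
    intro y hy
    have hy' : x * y * x ∈ evenOdd T 0 := by
      have h1 := evenOdd_mul_mem T 1 0 _ _ hxodd hy
      have h2 := evenOdd_mul_mem T (1 + 0) 1 _ _ h1 hxodd
      rwa [show (1 : ZMod 2) + 0 + 1 = 0 from rfl] at h2
    have hc := hz.2 _ hy'
    calc σz * y = x * z * (x * y * x) * x := by
          rw [hσ]
          simp only [mul_assoc]
          rw [hxx, mul_one]
      _ = x * (z * (x * y * x)) * x := by simp only [mul_assoc]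
      _ = x * ((x * y * x) * z) * x := by rw [hc]
      _ = (x * x) * y * (x * z * x) := by simp only [mul_assoc]
      _ = y * σz := by rw [hxx, one_mul, hσ]
  have hεcomm : ∀ y ∈ evenOdd T 0, ε * y = y * ε := fun y hy => (even_mul_eps A m y hy).symm
  have hωcomm : ∀ y ∈ evenOdd T 0, ω * y = y * ω := fun y hy => (even_mul_omega A m y hy).symm
  -- the scalar `(z - σz) ω`
  have hcent1 : ∀ y : CliffordAlgebra T, ((z - σz) * ω) * y = y * ((z - σz) * ω) := by
    apply central_of_commute A m hm
    · intro y hy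
      rw [mul_assoc, hωcomm y hy, ← mul_assoc, sub_mul, hz.2 y hy, hσcomm y hy, ← mul_sub,
        mul_assoc]
    · change (z - σz) * ω * x = x * ((z - σz) * ω)
      symm
      calc x * ((z - σz) * ω) = (x * z - x * σz) * ω := by rw [← mul_assoc, mul_sub]
        _ = (σz * x - z * x) * ω := by rw [hxz, hxσ]
        _ = (σz - z) * (x * ω) := by rw [← sub_mul, mul_assoc]
        _ = (z - σz) * ω * x := by rw [hxω]; noncomm_ring
  obtain ⟨β₁, hβ₁⟩ := Groth.Agent.Lib.Seat77.AzInvA.mem_range_algebraMap_of_central (R := A)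
    ((z - σz) * ω) hcent1
  have hβω : β₁ • ω = z - σz := by
    rw [Algebra.smul_def, hβ₁, mul_assoc, hωω, mul_one]
  -- the scalar `z + β₁ ε`
  have hcent2 : ∀ y : CliffordAlgebra T, (z + β₁ • ε) * y = y * (z + β₁ • ε) := by
    apply central_of_commute A m hm
    · intro y hy
      rw [add_mul, mul_add, hz.2 y hy, smul_mul_assoc, mul_smul_comm, hεcomm y hy]
    · change (z + β₁ • ε) * x = x * (z + β₁ • ε)
      rw [mul_add, mul_smul_comm, hxz, hxε, add_mul, smul_mul_assoc]
      have e : σz * x + β₁ • ((1 - ε) * x) - (z * x + β₁ • (ε * x)) =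
          ((σz - z) + β₁ • ω) * x := by
        rw [hωeq]
        simp only [smul_sub, sub_mul, add_mul, one_mul, smul_mul_assoc]
        module
      have e2 : (σz - z) + β₁ • ω = 0 := by rw [hβω]; abel
      rw [e2, zero_mul, sub_eq_zero] at e
      exact e.symm
  obtain ⟨α, hα⟩ := Groth.Agent.Lib.Seat77.AzInvA.mem_range_algebraMap_of_central (R := A)
    (z + β₁ • ε) hcent2
  refine ⟨α, -β₁, ?_⟩
  rw [hα, neg_smul]
  abel

end Groth.Agent.Lib.Seat37.CliffEvenCenterSplit
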