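import Mathlib
import Groth.Prelude.Def_QuadGrp
import Groth.Agent.Lib.Seat37CliffDicksonDet
import Groth.Agent.Lib.Seat37CliffEvenCenterSplit

/-!
# Isometries of determinant one are Dickson-trivial when `2` is invertible (seat 37)

Context of `CliffDicksonDet`.
* `isEvenCentral_j`, `isEvenCentral_ΨE`: even central elements are preserved by base change and
  by transport to the split form;
* `map_kIso_eps`: for `2` invertible, an isometry of determinant one fixes `eps`;
* `dickson_of_det_one`.
-/

set_option autoImplicit false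
set_option linter.unusedSectionVars false
universe u v

namespace Groth.Agent.Lib.Seat37.CliffDicksonTwo

open CliffordAlgebra TensorProduct QuadGrp
open Groth.Agent.Lib.Seat37.CliffGrade Groth.Agent.Lib.Seat37.CliffBC
  Groth.Agent.Lib.Seat37.CliffRank Groth.Agent.Lib.Seat37.CliffDescent
  Groth.Agent.Lib.Seat37.CliffEps Groth.Agent.Lib.Seat37.CliffEvenCenterBC
  Groth.Agent.Lib.Seat37.CliffEvenStruct Groth.Agent.Lib.Seat37.CliffSOCenter
  Groth.Agent.Lib.Seat37.CliffOmegaDet Groth.Agent.Lib.Seat37.CliffDickson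
  Groth.Agent.Lib.Seat37.CliffDicksonDet Groth.Agent.Lib.Seat37.CliffEvenCenterSplit

variable {R : Type u} [CommRing R] {M : Type v} [AddCommGroup M] [Module R M] [Module.Free R M]
  [Module.Finite R M]
variable (A : Type u) [CommRing A] [Algebra R A]
variable (Q : QuadraticForm R M) (m : ℕ)
variable (φ : (baseChangeForm A Q).IsometryEquiv (splitForm A (2 * m)))

local notation "Q'" => baseChangeForm A Q
local notation "hQ'" => Groth.Agent.Lib.Helper25.HalfDisc.baseChangeForm_one_tmul A Q
local notation "T" => splitForm A (2 * m)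

/-- even elements of `C(Q_A)` are combinations of images of even elements -/
theorem even_mem_span (y : CliffordAlgebra Q') (hy : y ∈ evenOdd Q' 0) :
    y ∈ Submodule.span A ((j A Q) '' {x | x ∈ evenOdd Q 0}) := by
  have h1 := bcEquiv_symm_mem Q Q' hQ' 0 y hy
  have h2 : ∀ t ∈ (evenOdd Q 0).baseChange A,
      bcEquiv Q Q' hQ' t ∈ Submodule.span A ((j A Q) '' {x | x ∈ evenOdd Q 0}) := by
    intro t ht
    rw [Submodule.baseChange_eq_span] at ht
    induction ht using Submodule.span_induction with
    | mem x hx =>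
      obtain ⟨c, hc, rfl⟩ := hx
      change bcEquiv Q Q' hQ' ((1 : A) ⊗ₜ[R] c) ∈ _
      rw [bcEquiv_one_tmul]
      exact Submodule.subset_span ⟨c, hc, rfl⟩
    | zero => rw [map_zero]; exact Submodule.zero_mem _
    | add x y _ _ hx hy => rw [map_add]; exact Submodule.add_mem _ hx hy
    | smul a x _ hx => rw [map_smul]; exact Submodule.smul_mem _ a hx
  have h3 := h2 _ h1
  rwa [AlgEquiv.apply_symm_apply] at h3

theorem isEvenCentral_j (x : CliffordAlgebra Q) (hx : IsEvenCentral Q x) :
    IsEvenCentral Q' (j A Q x) := by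
  refine ⟨j_mem A Q 0 x hx.1, fun y hy => ?_⟩
  have hmem := even_mem_span A Q y hy
  have key : ∀ y ∈ Submodule.span A ((j A Q) '' {x | x ∈ evenOdd Q 0}),
      j A Q x * y = y * j A Q x := by
    intro y hy
    induction hy using Submodule.span_induction with
    | mem y hy =>
      obtain ⟨c, hc, rfl⟩ := hy
      rw [← map_mul, ← map_mul, hx.2 c hc]
    | zero => rw [mul_zero, zero_mul]
    | add x y _ _ hx hy => rw [mul_add, add_mul, hx, hy]
    | smul a x _ hx => rw [mul_smul_comm, smul_mul_assoc, hx]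
  exact key y hmem

theorem isEvenCentral_ΨE (z : CliffordAlgebra Q') (hz : IsEvenCentral Q' z) :
    IsEvenCentral T (ΨE A Q m φ z) := by
  refine ⟨equivOfIsometry_mem φ 0 z hz.1, fun y hy => ?_⟩
  have h1 := hz.2 _ (equivOfIsometry_symm_mem φ 0 y hy)
  have h2 := congrArg (ΨE A Q m φ) h1
  rw [map_mul, map_mul] at h2
  change ΨE A Q m φ z * (ΨE A Q m φ) ((ΨE A Q m φ).symm y) =
    (ΨE A Q m φ) ((ΨE A Q m φ).symm y) * ΨE A Q m φ z at h2
  rwa [AlgEquiv.apply_symm_apply] at h2

theorem map_eps_of_det_one (h2 : IsUnit (2 : A)) (k : T →qᵢ T)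
    (hdet : LinearMap.det k.toLinearMap = 1) :
    CliffordAlgebra.map k (eps A m) = eps A m := by
  have h1 := map_omega A m k
  rw [hdet, one_smul, omega_eq, map_sub, map_one, map_nsmul] at h1
  have h3 : (2 : A) • (CliffordAlgebra.map k (eps A m) - eps A m) = 0 := by
    have e : (2 : A) • (CliffordAlgebra.map k (eps A m) - eps A m) =
        2 • CliffordAlgebra.map k (eps A m) - 2 • eps A m := by
      rw [smul_sub, ofNat_smul_eq_nsmul A 2, ofNat_smul_eq_nsmul A 2]
    rw [e]
    have := sub_right_injective h1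
    rw [this, sub_self]
  exact sub_eq_zero.mp (h2.smul_eq_zero.mp h3)

include φ in
theorem dickson_of_det_one [Module.FaithfullyFlat R A] [Invertible (2 : R)] (hm : 1 ≤ m)
    (g : M ≃ₗ[R] M) (hg : g ∈ O Q) (hdet : LinearMap.det (g : M →ₗ[R] M) = 1) :
    IsDicksonTrivial Q g hg := by
  intro z hz
  have hx : IsEvenCentral Q (z : CliffordAlgebra Q) := (isEvenCentral_iff Q _).mpr ⟨z.2, hz⟩
  have h2 : IsUnit (2 : A) := by
    have := (isUnit_of_invertible (2 : R)).map (algebraMap R A)
    rwa [map_ofNat] at this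
  apply j_injective A Q
  rw [j_map]
  apply (ΨE A Q m φ).injective
  rw [ΨE_map]
  obtain ⟨α, β, hαβ⟩ := exists_eq_of_isEvenCentral A m hm _
    (isEvenCentral_ΨE A Q m φ _ (isEvenCentral_j A Q _ hx))
  have hk : LinearMap.det (kIso A Q m φ (isometryOfMem Q g hg)).toLinearMap = 1 := by
    rw [det_kIso]
    change algebraMap R A (LinearMap.det (g : M →ₗ[R] M)) = 1
    rw [hdet, map_one]
  rw [hαβ, map_add, AlgHom.commutes, map_smul, map_eps_of_det_one A m h2 _ hk]

end Groth.Agent.Lib.Seat37.CliffDicksonTwo
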