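import Mathlib
import Groth.Prelude.Def_QuadGrp
import Groth.Agent.Lib.Seat37CliffDicksonTwo

/-!
# The idempotent measuring the Dickson invariant fppf-locally (seat 37)

Context of `CliffDicksonDet`, `1 ≤ m`.  For an isometry `g ∈ O(Q)` with induced automorphism
`θ` of `C(Q_A)`:
* `exists_alpha`: `θ epsA = α + (1 - 2 α) • epsA` for an idempotent `α : A`, and
  `det g = 1 - 2 α` in `A`;
* `theta_sub_id`: `θ z - z = (b * α) • omegaA` for `z = a + b • epsA` even central.
-/

set_option autoImplicit false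
set_option linter.unusedSectionVars false
universe u v

namespace Groth.Agent.Lib.Seat37.CliffDicksonAlpha

open CliffordAlgebra TensorProduct QuadGrp
open Groth.Agent.Lib.Seat37.CliffGrade Groth.Agent.Lib.Seat37.CliffBC
  Groth.Agent.Lib.Seat37.CliffRank Groth.Agent.Lib.Seat37.CliffDescent
  Groth.Agent.Lib.Seat37.CliffEps Groth.Agent.Lib.Seat37.CliffEvenCenterBC
  Groth.Agent.Lib.Seat37.CliffEvenStruct Groth.Agent.Lib.Seat37.CliffSOCenter
  Groth.Agent.Lib.Seat37.CliffOmegaDet Groth.Agent.Lib.Seat37.CliffDickson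
  Groth.Agent.Lib.Seat37.CliffDicksonDet Groth.Agent.Lib.Seat37.CliffEvenCenterSplit
  Groth.Agent.Lib.Seat37.CliffDicksonTwo

variable {R : Type u} [CommRing R] {M : Type v} [AddCommGroup M] [Module R M] [Module.Free R M]
  [Module.Finite R M]
variable (A : Type u) [CommRing A] [Algebra R A]
variable (Q : QuadraticForm R M) (m : ℕ)
variable (φ : (baseChangeForm A Q).IsometryEquiv (splitForm A (2 * m)))

local notation "Q'" => baseChangeForm A Q
local notation "T" => splitForm A (2 * m)

/-- the automorphism of `C(Q_A)` induced by `g` -/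
noncomputable def theta (g : M ≃ₗ[R] M) (hg : g ∈ O Q) : CliffordAlgebra Q' →ₐ[A] CliffordAlgebra Q' :=
  CliffordAlgebra.map (bcIso A Q (isometryOfMem Q g hg))

theorem theta_comp_inv (g : M ≃ₗ[R] M) (hg : g ∈ O Q) (x : CliffordAlgebra Q') :
    theta A Q g hg (theta A Q g⁻¹ ((O Q).inv_mem hg) x) = x := by
  have h : (theta A Q g hg).comp (theta A Q g⁻¹ ((O Q).inv_mem hg)) = AlgHom.id A _ := by
    apply CliffordAlgebra.hom_ext
    ext v
    simp only [theta, LinearMap.comp_apply, AlgHom.toLinearMap_apply, AlgHom.comp_apply,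
      map_apply_ι, AlgHom.id_apply, TensorProduct.AlgebraTensorModule.curry_apply,
      TensorProduct.curry_apply, LinearMap.coe_restrictScalars, bcIso_tmul, isometryOfMem_apply]
    congr 2
    exact LinearEquiv.apply_symm_apply g v
  exact AlgHom.congr_fun h x

theorem theta_inv_comp (g : M ≃ₗ[R] M) (hg : g ∈ O Q) (x : CliffordAlgebra Q') :
    theta A Q g⁻¹ ((O Q).inv_mem hg) (theta A Q g hg x) = x := by
  have := theta_comp_inv A Q g⁻¹ ((O Q).inv_mem hg) x
  simpa only [inv_inv] using this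

theorem theta_mem (g : M ≃ₗ[R] M) (hg : g ∈ O Q) (i : ZMod 2) (x : CliffordAlgebra Q')
    (hx : x ∈ evenOdd Q' i) : theta A Q g hg x ∈ evenOdd Q' i :=
  algHom_mem_evenOdd Q' Q' (theta A Q g hg)
    (fun v => by
      change CliffordAlgebra.map _ (ι Q' v) ∈ _
      rw [map_apply_ι]; exact ι_mem_evenOdd_one _ _) i x hx

theorem isEvenCentral_theta (g : M ≃ₗ[R] M) (hg : g ∈ O Q) (z : CliffordAlgebra Q')
    (hz : IsEvenCentral Q' z) : IsEvenCentral Q' (theta A Q g hg z) := by
  refine ⟨theta_mem A Q g hg 0 z hz.1, fun y hy => ?_⟩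
  have hy' := theta_mem A Q g⁻¹ ((O Q).inv_mem hg) 0 y hy
  have h1 := hz.2 _ hy'
  have h2 := congrArg (theta A Q g hg) h1
  rwa [map_mul, map_mul, theta_comp_inv] at h2

/-- the odd unit of `C(Q_A)` -/
noncomputable def x0A : CliffordAlgebra Q' := (ΨE A Q m φ).symm (x0 A m)

theorem x0A_sq (hm : 1 ≤ m) : x0A A Q m φ * x0A A Q m φ = 1 := by
  unfold x0A
  rw [← map_mul, x0_sq A m hm, map_one]

theorem x0A_odd : x0A A Q m φ ∈ evenOdd Q' 1 :=
  equivOfIsometry_symm_mem φ 1 _ (x0_odd A m)

theorem omegaA_eq : omegaA A Q m φ = 1 - 2 • epsA A Q m φ := by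
  unfold omegaA epsA
  rw [omega_eq, map_sub, map_one, map_nsmul]

theorem exists_eq_epsA (hm : 1 ≤ m) (z : CliffordAlgebra Q') (hz : IsEvenCentral Q' z) :
    ∃ a b : A, z = algebraMap A _ a + b • epsA A Q m φ := by
  obtain ⟨a, b, hab⟩ := exists_eq_of_isEvenCentral A m hm _ (isEvenCentral_ΨE A Q m φ z hz)
  refine ⟨a, b, ?_⟩
  apply (ΨE A Q m φ).injective
  unfold epsA
  rw [hab, map_add, AlgEquiv.commutes, map_smul, AlgEquiv.apply_symm_apply]

theorem smul_one_eq_zero (a : A) (h : a • (1 : CliffordAlgebra Q') = 0) : a = 0 := by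
  have h1 : algebraMap A (CliffordAlgebra Q') a = algebraMap A (CliffordAlgebra Q') 0 := by
    rw [map_zero, Algebra.algebraMap_eq_smul_one, h]
  exact algebraMap_injective Q' h1

/-- the structure of `θ epsA` -/
theorem exists_alpha (hm : 1 ≤ m) (g : M ≃ₗ[R] M) (hg : g ∈ O Q) :
    ∃ α : A, α * α = α ∧
      theta A Q g hg (epsA A Q m φ) = algebraMap A _ α + (1 - 2 * α) • epsA A Q m φ ∧
      algebraMap R A (LinearMap.det (g : M →ₗ[R] M)) = 1 - 2 * α := by
  set ε := epsA A Q m φ with hε
  set x := x0A A Q m φ with hx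
  have hxx : x * x = 1 := x0A_sq A Q m φ hm
  have hxodd : x ∈ evenOdd Q' 1 := x0A_odd A Q m φ
  have hεε : ε * ε = ε := epsA_idem A Q m φ
  obtain ⟨a, b, hab⟩ := exists_eq_epsA A Q m φ hm _
    (isEvenCentral_theta A Q g hg ε (isEvenCentral_epsA A Q m φ))
  -- the flip property of `θ ε`
  have hflip : x * theta A Q g hg ε = (1 - theta A Q g hg ε) * x := by
    have hx' := theta_mem A Q g⁻¹ ((O Q).inv_mem hg) 1 x hxodd
    have h1 := odd_mul_epsA A Q m φ _ hx'
    have h2 := congrArg (theta A Q g hg) h1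
    rwa [map_mul, map_mul, map_sub, map_one, theta_comp_inv] at h2
  have hxε : x * ε = (1 - ε) * x := odd_mul_epsA A Q m φ x hxodd
  -- `2 a + b = 1`
  have h2ab : 2 * a + b = 1 := by
    rw [hab] at hflip
    have e1 : x * (algebraMap A (CliffordAlgebra Q') a + b • ε) =
        (algebraMap A (CliffordAlgebra Q') a + b • (1 - ε)) * x := by
      rw [mul_add, add_mul, mul_smul_comm, smul_mul_assoc, hxε, Algebra.commutes]
    rw [e1] at hflip
    have e2 : ((algebraMap A (CliffordAlgebra Q') a + b • (1 - ε)) -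
        (1 - (algebraMap A (CliffordAlgebra Q') a + b • ε))) * x = 0 := by
      rw [sub_mul, hflip, sub_self]
    have e3 : (algebraMap A (CliffordAlgebra Q') a + b • (1 - ε)) -
        (1 - (algebraMap A (CliffordAlgebra Q') a + b • ε)) =
        (2 * a + b - 1) • (1 : CliffordAlgebra Q') := by
      rw [Algebra.algebraMap_eq_smul_one]
      simp only [smul_sub, sub_smul, add_smul, mul_smul, one_smul]
      rw [two_smul]
      abel
    rw [e3] at e2
    have e4 : (2 * a + b - 1) • (1 : CliffordAlgebra Q') = 0 := by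
      have e5 := congrArg (fun y => y * x) e2
      change (2 * a + b - 1) • (1 : CliffordAlgebra Q') * x * x = 0 * x at e5
      rw [smul_mul_assoc, one_mul, smul_mul_assoc, hxx, zero_mul] at e5
      exact e5
    have := smul_one_eq_zero A Q _ e4
    linear_combination this
  have hb : b = 1 - 2 * a := by linear_combination h2ab
  -- `a` is idempotent
  have haa : a * a = a := by
    have h1 : theta A Q g hg ε * theta A Q g hg ε = theta A Q g hg ε := by
      rw [← map_mul, hεε]
    rw [hab] at h1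
    have e1 : (algebraMap A (CliffordAlgebra Q') a + b • ε) *
        (algebraMap A (CliffordAlgebra Q') a + b • ε) =
        algebraMap A (CliffordAlgebra Q') (a * a) + (2 * a * b + b * b) • ε := by
      rw [Algebra.algebraMap_eq_smul_one, Algebra.algebraMap_eq_smul_one]
      simp only [add_mul, mul_add, smul_mul_smul_comm, one_mul, mul_one, hεε]
      module
    rw [e1] at h1
    have e2 : 2 * a * b + b * b = b := by rw [hb]; ring
    rw [e2] at h1
    have e3 : algebraMap A (CliffordAlgebra Q') (a * a) = algebraMap A (CliffordAlgebra Q') a :=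
      add_right_cancel h1
    exact algebraMap_injective Q' e3
  refine ⟨a, haa, by rw [hab, hb], ?_⟩
  -- the determinant
  have hω : theta A Q g hg (omegaA A Q m φ) =
      algebraMap R A (LinearMap.det (g : M →ₗ[R] M)) • omegaA A Q m φ :=
    map_bcIso_omegaA A Q m φ (isometryOfMem Q g hg)
  have hω2 : theta A Q g hg (omegaA A Q m φ) = (1 - 2 * a) • omegaA A Q m φ := by
    rw [omegaA_eq, map_sub, map_one, map_nsmul, ← hε, hab, hb, Algebra.algebraMap_eq_smul_one,
      ← ofNat_smul_eq_nsmul A 2 ε, ← ofNat_smul_eq_nsmul A 2 (a • (1 : CliffordAlgebra Q') + _)]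
    module
  rw [hω2] at hω
  have h3 : ((1 - 2 * a) - algebraMap R A (LinearMap.det (g : M →ₗ[R] M))) • omegaA A Q m φ = 0 := by
    rw [sub_smul, hω, sub_self]
  have h4 := congrArg (fun y => y * omegaA A Q m φ) h3
  simp only [smul_mul_assoc, omegaA_sq, zero_mul] at h4
  exact (sub_eq_zero.mp (smul_one_eq_zero A Q _ h4)).symm

end Groth.Agent.Lib.Seat37.CliffDicksonAlpha
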