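import Mathlib
import Groth.Prelude.Def_QuadGrp
import Groth.Agent.Lib.Seat37CliffDicksonAlpha

/-!
# Over a connected base, an isometry which is not Dickson-trivial has determinant `-1` (seat 37)

Context of `CliffDicksonAlpha`.  The locus of `Spec R` where `g` is Dickson-trivial pulls back to
the zero locus of the idempotent `α` of `exists_alpha`, hence is clopen (fppf maps are open
quotient maps on spectra); over a connected base it is empty or everything.
-/

set_option autoImplicit false
set_option linter.unusedSectionVars false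
universe u v

namespace Groth.Agent.Lib.Seat37.CliffDicksonConn

open CliffordAlgebra TensorProduct QuadGrp
open Groth.Agent.Lib.Seat37.CliffGrade Groth.Agent.Lib.Seat37.CliffBC
  Groth.Agent.Lib.Seat37.CliffRank Groth.Agent.Lib.Seat37.CliffDescent
  Groth.Agent.Lib.Seat37.CliffEps Groth.Agent.Lib.Seat37.CliffEvenCenterBC
  Groth.Agent.Lib.Seat37.CliffEvenStruct Groth.Agent.Lib.Seat37.CliffSOCenter
  Groth.Agent.Lib.Seat37.CliffOmegaDet Groth.Agent.Lib.Seat37.CliffDickson
  Groth.Agent.Lib.Seat37.CliffDicksonDet Groth.Agent.Lib.Seat37.CliffEvenCenterSplit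
  Groth.Agent.Lib.Seat37.CliffDicksonTwo Groth.Agent.Lib.Seat37.CliffDicksonAlpha

variable {R : Type u} [CommRing R] {M : Type v} [AddCommGroup M] [Module R M] [Module.Free R M]
  [Module.Finite R M]
variable (A : Type u) [CommRing A] [Algebra R A]
variable (Q : QuadraticForm R M) (m : ℕ)
variable (φ : (baseChangeForm A Q).IsometryEquiv (splitForm A (2 * m)))

local notation "Q'" => baseChangeForm A Q
local notation "hQ'" => Groth.Agent.Lib.Helper25.HalfDisc.baseChangeForm_one_tmul A Q
local notation "T" => splitForm A (2 * m)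

/-- `θ z - z` for `z = a + b ε` -/
theorem theta_sub (g : M ≃ₗ[R] M) (hg : g ∈ O Q) (α : A)
    (hα : theta A Q g hg (epsA A Q m φ) = algebraMap A _ α + (1 - 2 * α) • epsA A Q m φ)
    (a b : A) :
    theta A Q g hg (algebraMap A _ a + b • epsA A Q m φ) -
      (algebraMap A _ a + b • epsA A Q m φ) = (b * α) • omegaA A Q m φ := by
  rw [map_add, AlgHom.commutes, map_smul, hα, omegaA_eq, Algebra.algebraMap_eq_smul_one,
    Algebra.algebraMap_eq_smul_one, ← ofNat_smul_eq_nsmul A 2]
  module

/-- extension of a functional on `C(Q)` to `C(Q_A)` -/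
noncomputable def extA (ℓ : CliffordAlgebra Q →ₗ[R] R) : CliffordAlgebra Q' →ₗ[A] A :=
  (TensorProduct.AlgebraTensorModule.rid R A A).toLinearMap ∘ₗ (ℓ.baseChange A) ∘ₗ
    (bcEquiv Q Q' hQ').symm.toLinearMap

theorem extA_j (ℓ : CliffordAlgebra Q →ₗ[R] R) (x : CliffordAlgebra Q) :
    extA A Q ℓ (j A Q x) = algebraMap R A (ℓ x) := by
  unfold extA
  rw [j_eq_bcEquiv, LinearMap.comp_apply, LinearMap.comp_apply, AlgEquiv.toLinearMap_apply,
    AlgEquiv.symm_apply_apply, LinearMap.baseChange_tmul, LinearEquiv.coe_coe,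
    TensorProduct.AlgebraTensorModule.rid_tmul, Algebra.algebraMap_eq_smul_one]

theorem lam_j_mem {n : ℕ} (b : Module.Basis (Fin n) R M) (P : Ideal A) (x : CliffordAlgebra Q)
    (hx : ∀ ℓ : CliffordAlgebra Q →ₗ[R] R, algebraMap R A (ℓ x) ∈ P)
    (lam : CliffordAlgebra Q' →ₗ[A] A) : lam (j A Q x) ∈ P := by
  set cb := cliffBasis b Q with hcb
  have h1 : j A Q x = ∑ s, algebraMap R A (cb.repr x s) • j A Q (cb s) := by
    conv_lhs => rw [← cb.sum_repr x]
    rw [map_sum]
    refine Finset.sum_congr rfl fun s _ => ?_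
    rw [map_smul, algebraMap_smul]
  rw [h1, map_sum]
  refine Ideal.sum_mem _ fun s _ => ?_
  rw [map_smul, smul_eq_mul]
  exact P.mul_mem_right _ (hx (cb.coord s))

theorem lam_theta_sub_mem [Module.Flat R A] {n : ℕ} (b : Module.Basis (Fin n) R M)
    (g : M ≃ₗ[R] M) (hg : g ∈ O Q) (P : Ideal A)
    (h : ∀ z, IsEvenCentral Q z → ∀ ℓ : CliffordAlgebra Q →ₗ[R] R,
      algebraMap R A (ℓ (CliffordAlgebra.map (isometryOfMem Q g hg) z - z)) ∈ P)
    (y : CliffordAlgebra Q') (hy : IsEvenCentral Q' y) (lam : CliffordAlgebra Q' →ₗ[A] A) :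
    lam (theta A Q g hg y - y) ∈ P := by
  have hmem := mem_span_of_isEvenCentral A Q b y hy
  have key : ∀ y ∈ Submodule.span A ((j A Q) '' {x | IsEvenCentral Q x}),
      lam (theta A Q g hg y - y) ∈ P := by
    intro y hy
    induction hy using Submodule.span_induction with
    | mem y hy =>
      obtain ⟨x, hx, rfl⟩ := hy
      have e : theta A Q g hg (j A Q x) - j A Q x =
          j A Q (CliffordAlgebra.map (isometryOfMem Q g hg) x - x) := by
        rw [map_sub, j_map]; rfl
      rw [e]
      exact lam_j_mem A Q b P _ (h x hx) lam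
    | zero => rw [map_zero, sub_zero, map_zero]; exact P.zero_mem
    | add x y _ _ hx hy =>
      have e : theta A Q g hg (x + y) - (x + y) =
          (theta A Q g hg x - x) + (theta A Q g hg y - y) := by rw [map_add]; abel
      rw [e, map_add]; exact P.add_mem hx hy
    | smul a x _ hx =>
      have e : theta A Q g hg (a • x) - a • x = a • (theta A Q g hg x - x) := by
        rw [map_smul, smul_sub]
      rw [e, map_smul]; exact P.mul_mem_left _ hx
  exact key y hmem

theorem alpha_mem_of [Module.Flat R A] {n : ℕ} (b : Module.Basis (Fin n) R M)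
    (g : M ≃ₗ[R] M) (hg : g ∈ O Q) (α : A)
    (hα : theta A Q g hg (epsA A Q m φ) = algebraMap A _ α + (1 - 2 * α) • epsA A Q m φ)
    (P : Ideal A)
    (h : ∀ z, IsEvenCentral Q z → ∀ ℓ : CliffordAlgebra Q →ₗ[R] R,
      algebraMap R A (ℓ (CliffordAlgebra.map (isometryOfMem Q g hg) z - z)) ∈ P) : α ∈ P := by
  have h1 := lam_theta_sub_mem A Q b g hg P h (epsA A Q m φ) (isEvenCentral_epsA A Q m φ)
    ((scalarPart Q') ∘ₗ (LinearMap.mulRight A (omegaA A Q m φ)))
  have h2 : theta A Q g hg (epsA A Q m φ) - epsA A Q m φ = α • omegaA A Q m φ := by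
    have := theta_sub A Q m φ g hg α hα 0 1
    simpa using this
  rw [h2] at h1
  simpa [omegaA_sq, scalarPart_one] using h1

theorem mem_of_alpha_mem (hm : 1 ≤ m) (g : M ≃ₗ[R] M) (hg : g ∈ O Q) (α : A)
    (hα : theta A Q g hg (epsA A Q m φ) = algebraMap A _ α + (1 - 2 * α) • epsA A Q m φ)
    (P : Ideal A) (hαP : α ∈ P) (z : CliffordAlgebra Q) (hz : IsEvenCentral Q z)
    (ℓ : CliffordAlgebra Q →ₗ[R] R) :
    algebraMap R A (ℓ (CliffordAlgebra.map (isometryOfMem Q g hg) z - z)) ∈ P := by
  obtain ⟨a, b, hab⟩ := exists_eq_epsA A Q m φ hm _ (isEvenCentral_j A Q z hz)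
  have h1 : j A Q (CliffordAlgebra.map (isometryOfMem Q g hg) z - z) =
      (b * α) • omegaA A Q m φ := by
    rw [map_sub, j_map, hab]
    exact theta_sub A Q m φ g hg α hα a b
  rw [← extA_j, h1, map_smul, smul_eq_mul, mul_comm b α, mul_assoc]
  exact P.mul_mem_right _ hαP

theorem clopen_descent [Module.FaithfullyFlat R A] [Algebra.FinitePresentation R A]
    (S : Set (PrimeSpectrum R))
    (h : IsClopen (PrimeSpectrum.comap (algebraMap R A) ⁻¹' S)) : IsClopen S := by
  have hq : Topology.IsQuotientMap (PrimeSpectrum.comap (algebraMap R A)) :=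
    IsOpenMap.isQuotientMap PrimeSpectrum.isOpenMap_comap_of_hasGoingDown_of_finitePresentation
      (PrimeSpectrum.continuous_comap _) PrimeSpectrum.comap_surjective_of_faithfullyFlat
  exact hq.isClopen_preimage.mp h

include φ in
/-- the main theorem: over a connected base, not Dickson-trivial implies determinant `-1` -/
theorem det_eq_neg_one (hc : ConnectedSpace (PrimeSpectrum R)) [Module.FaithfullyFlat R A]
    [Algebra.FinitePresentation R A] (hm : 1 ≤ m) {n : ℕ} (b : Module.Basis (Fin n) R M)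
    (g : M ≃ₗ[R] M) (hg : g ∈ O Q) (hD : ¬ IsDicksonTrivial Q g hg) :
    LinearMap.det (g : M →ₗ[R] M) = -1 := by
  obtain ⟨α, hαα, hα, hdet⟩ := exists_alpha A Q m φ hm g hg
  set S : Set (PrimeSpectrum R) := {p | ∀ z, IsEvenCentral Q z →
    ∀ ℓ : CliffordAlgebra Q →ₗ[R] R,
      ℓ (CliffordAlgebra.map (isometryOfMem Q g hg) z - z) ∈ p.asIdeal} with hS
  have hpre : PrimeSpectrum.comap (algebraMap R A) ⁻¹' S = PrimeSpectrum.zeroLocus {α} := by
    ext q
    simp only [Set.mem_preimage, hS, Set.mem_ofPred_eq, PrimeSpectrum.mem_zeroLocus,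
      Set.singleton_subset_iff, SetLike.mem_coe, PrimeSpectrum.comap_asIdeal, Ideal.mem_comap]
    constructor
    · intro h
      exact alpha_mem_of A Q m φ b g hg α hα q.asIdeal h
    · intro h z hz ℓ
      exact mem_of_alpha_mem A Q m φ hm g hg α hα q.asIdeal h z hz ℓ
  have hclopen : IsClopen S := clopen_descent A S (by
    rw [hpre]; exact PrimeSpectrum.isClopen_iff_zeroLocus.mpr ⟨α, hαα, rfl⟩)
  rcases isClopen_iff.mp hclopen with h0 | h1
  · -- `S = ∅`: `α` is a unit, hence `1`
    have hu : IsUnit α := by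
      by_contra hnu
      obtain ⟨I, hI, hαI⟩ := exists_max_ideal_of_mem_nonunits hnu
      have hmem : (⟨I, hI.isPrime⟩ : PrimeSpectrum A) ∈ PrimeSpectrum.zeroLocus {α} := by
        simpa using hαI
      rw [← hpre, h0] at hmem
      exact hmem
    have h1 : α = 1 := by
      obtain ⟨u, rfl⟩ := hu
      have := congrArg (fun t => (↑u⁻¹ : A) * t) hαα
      simpa using this
    rw [h1] at hdet
    apply FaithfulSMul.algebraMap_injective R A
    rw [hdet, map_neg, map_one]
    ring
  · -- `S = univ`: `α` is nilpotent, hence `0`, and `g` is Dickson-trivial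
    exfalso
    apply hD
    have hnil : IsNilpotent α := by
      rw [nilpotent_iff_mem_prime]
      intro J hJ
      have hmem : (⟨J, hJ⟩ : PrimeSpectrum A) ∈ PrimeSpectrum.zeroLocus {α} := by
        rw [← hpre, h1]; exact Set.mem_univ _
      simpa using hmem
    have h0 : α = 0 := by
      obtain ⟨k, hk⟩ := hnil
      rcases Nat.eq_zero_or_pos k with rfl | hkpos
      · rw [pow_zero] at hk
        rw [← mul_one α, hk, mul_zero]
      · have hi : IsIdempotentElem α := hαα
        rw [← hi.pow_succ_eq (k - 1), Nat.sub_add_cancel hkpos, hk]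
    intro z hz
    have hx : IsEvenCentral Q (z : CliffordAlgebra Q) := (isEvenCentral_iff Q _).mpr ⟨z.2, hz⟩
    apply j_injective A Q
    rw [j_map]
    obtain ⟨a, c, hac⟩ := exists_eq_epsA A Q m φ hm _ (isEvenCentral_j A Q _ hx)
    have h2 := theta_sub A Q m φ g hg α hα a c
    rw [h0, mul_zero, zero_smul, sub_eq_zero] at h2
    rw [hac]
    exact h2

end Groth.Agent.Lib.Seat37.CliffDicksonConn
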