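import Mathlib
import Groth.Agent.Lib.Seat37CliffTower
import Groth.Agent.Lib.Seat37CliffGrade

/-!
# Parity-graded matrix models of Clifford algebras (seat 37)

* `matGrade par d`: for an index type `I` with a parity function `par : I → ZMod 2`, the matrices
  whose `(i, j)` entry vanishes unless `par j = par i + d`; these give a `ZMod 2`-grading of
  `Matrix I I R`.
* `evenBlocks`: if `e : C(Q) ≃ₐ Matrix I I R` sends vectors to matrices of parity `1` then the even
  subalgebra is the product of the two diagonal blocks.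
* `exists_parityRep`: `C(hypSpace u m) ≃ₐ Matrix I I R` with `card I = 2 ^ m`, vectors odd.
* `nonempty_even_hypSpace`: `even (hypSpace u (m + 1)) ≃ₐ M_{2^m}(R) × M_{2^m}(R)`.
-/

set_option autoImplicit false
set_option linter.unusedSectionVars false
universe u v w

namespace Groth.Agent.Lib.Seat37.CliffParity

open CliffordAlgebra Matrix Groth.Agent.Lib.Seat37.CliffHyp Groth.Agent.Lib.Seat37.CliffTower
  Groth.Agent.Lib.Seat37.CliffGrade

variable {R : Type u} [CommRing R]

section grade

variable {I : Type} [Fintype I] [DecidableEq I] (par : I → ZMod 2)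

/-- matrices of parity `d`: the `(i, j)` entry vanishes unless `par j = par i + d` -/
def matGrade (d : ZMod 2) : Submodule R (Matrix I I R) where
  carrier := {X | ∀ i j, par j ≠ par i + d → X i j = 0}
  add_mem' := fun {X Y} hX hY i j h => by rw [Matrix.add_apply, hX i j h, hY i j h, add_zero]
  zero_mem' := fun i j _ => rfl
  smul_mem' := fun c X hX i j h => by rw [Matrix.smul_apply, hX i j h, smul_zero]

theorem mem_matGrade (d : ZMod 2) (X : Matrix I I R) :
    X ∈ matGrade (R := R) par d ↔ ∀ i j, par j ≠ par i + d → X i j = 0 := Iff.rfl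

theorem one_mem_matGrade : (1 : Matrix I I R) ∈ matGrade (R := R) par 0 := by
  intro i j h
  rw [add_zero] at h
  exact Matrix.one_apply_ne (fun hij => h (by rw [hij]))

theorem mul_mem_matGrade (a b : ZMod 2) (X Y : Matrix I I R) (hX : X ∈ matGrade par a)
    (hY : Y ∈ matGrade par b) : X * Y ∈ matGrade par (a + b) := by
  intro i j h
  rw [Matrix.mul_apply]
  refine Finset.sum_eq_zero fun k _ => ?_
  by_cases hk : par k = par i + a
  · have : par j ≠ par k + b := fun h' => h (by rw [h', hk, add_assoc])
    rw [hY k j this, mul_zero]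
  · rw [hX i k hk, zero_mul]

theorem zmod_ne_add_one (c : ZMod 2) : c ≠ c + 1 := by
  revert c; decide

theorem eq_zero_of_mem_matGrade (X : Matrix I I R) (h0 : X ∈ matGrade par 0)
    (h1 : X ∈ matGrade par 1) : X = 0 := by
  ext i j
  by_cases h : par j = par i
  · exact h1 i j (by rw [h]; exact zmod_ne_add_one _)
  · exact h0 i j (by rwa [add_zero])

end grade

section rep

variable {M : Type v} [AddCommGroup M] [Module R M] (Q : QuadraticForm R M)
variable {I : Type} [Fintype I] [DecidableEq I] (par : I → ZMod 2)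
variable (e : CliffordAlgebra Q ≃ₐ[R] Matrix I I R)
variable (hodd : ∀ v, e (ι Q v) ∈ matGrade par 1)

include hodd in
theorem e_mem (d : ZMod 2) (x : CliffordAlgebra Q) (hx : x ∈ evenOdd Q d) :
    e x ∈ matGrade par d :=
  map_mem_of_ι Q (matGrade par) (one_mem_matGrade par) (mul_mem_matGrade par) e.toAlgHom hodd d x hx

include hodd in
theorem mem_even_of_e_mem (x : CliffordAlgebra Q) (h : e x ∈ matGrade par 0) :
    x ∈ evenOdd Q 0 := by
  have hx : x ∈ evenOdd Q 0 ⊔ evenOdd Q 1 := by
    rw [(evenOdd_isCompl Q).sup_eq_top]; trivial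
  obtain ⟨x0, hx0, x1, hx1, rfl⟩ := Submodule.mem_sup.mp hx
  have h0 := e_mem Q par e hodd 0 x0 hx0
  have h1 := e_mem Q par e hodd 1 x1 hx1
  have h1' : e x1 ∈ matGrade par 0 := by
    have : e x1 = e (x0 + x1) - e x0 := by rw [map_add]; abel
    rw [this]
    exact Submodule.sub_mem _ h h0
  have hz : e x1 = 0 := eq_zero_of_mem_matGrade par _ h1' h1
  have : x1 = 0 := by
    have := congrArg e.symm hz
    rwa [AlgEquiv.symm_apply_apply, map_zero] at this
  rw [this, add_zero]
  exact hx0

/-- a diagonal block of a parity-even matrix is multiplicative -/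
theorem toBlock_mul (d : ZMod 2) (X Y : Matrix I I R) (hX : X ∈ matGrade par 0) :
    (X * Y).toBlock (fun i => par i = d) (fun i => par i = d) =
      X.toBlock (fun i => par i = d) (fun i => par i = d) *
        Y.toBlock (fun i => par i = d) (fun i => par i = d) := by
  rw [Matrix.toBlock_mul_eq_add (fun i => par i = d) (fun i => par i = d) (fun i => par i = d)]
  have : X.toBlock (fun i => par i = d) (fun i => ¬ par i = d) = 0 := by
    ext i j
    rw [Matrix.toBlock_apply, Matrix.zero_apply]
    refine hX _ _ ?_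
    rw [add_zero, i.2]
    exact j.2
  rw [this, Matrix.zero_mul, add_zero]

/-- the diagonal block of parity `d`, as an algebra map on the even subalgebra -/
noncomputable def blockHom (d : ZMod 2) :
    CliffordAlgebra.even Q →ₐ[R] Matrix {i // par i = d} {i // par i = d} R where
  toFun x := (e (x : CliffordAlgebra Q)).toBlock (fun i => par i = d) (fun i => par i = d)
  map_one' := by
    ext i j
    rw [Matrix.toBlock_apply]
    simp only [OneMemClass.coe_one, map_one, Matrix.one_apply, Subtype.ext_iff]
  map_mul' x y := by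
    simp only [MulMemClass.coe_mul, map_mul]
    exact toBlock_mul par d _ _ (e_mem Q par e hodd 0 _ x.2)
  map_zero' := by
    ext i j
    simp
  map_add' x y := by
    ext i j
    simp
  commutes' r := by
    ext i j
    rw [Matrix.toBlock_apply]
    simp only [Subalgebra.coe_algebraMap, AlgEquiv.commutes, Matrix.algebraMap_matrix_apply,
      Subtype.ext_iff]

theorem blockHom_apply (d : ZMod 2) (x : CliffordAlgebra.even Q) (i j : {i // par i = d}) :
    blockHom Q par e hodd d x i j = e (x : CliffordAlgebra Q) i j := rfl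

/-- the even subalgebra is the product of the two diagonal blocks -/
noncomputable def blocksHom :
    CliffordAlgebra.even Q →ₐ[R]
      Matrix {i // par i = 0} {i // par i = 0} R × Matrix {i // par i = 1} {i // par i = 1} R :=
  (blockHom Q par e hodd 0).prod (blockHom Q par e hodd 1)

theorem zmod_eq_zero_or_one (c : ZMod 2) : c = 0 ∨ c = 1 := by
  revert c; decide

theorem blocksHom_bijective : Function.Bijective (blocksHom Q par e hodd) := by
  constructor
  · rw [injective_iff_map_eq_zero]
    intro x hx
    have h0 : blockHom Q par e hodd 0 x = 0 := congrArg Prod.fst hx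
    have h1 : blockHom Q par e hodd 1 x = 0 := congrArg Prod.snd hx
    have hxe := e_mem Q par e hodd 0 _ x.2
    have : e (x : CliffordAlgebra Q) = 0 := by
      ext i j
      rw [Matrix.zero_apply]
      by_cases hij : par j = par i
      · rcases zmod_eq_zero_or_one (par i) with hi | hi
        · have := congrFun (congrFun h0 ⟨i, hi⟩) ⟨j, hij.trans hi⟩
          rwa [blockHom_apply] at this
        · have := congrFun (congrFun h1 ⟨i, hi⟩) ⟨j, hij.trans hi⟩
          rwa [blockHom_apply] at this
      · exact hxe i j (by rwa [add_zero])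
    have h2 : (x : CliffordAlgebra Q) = 0 := by
      have := congrArg e.symm this
      rwa [AlgEquiv.symm_apply_apply, map_zero] at this
    exact Subtype.ext h2
  · rintro ⟨A, D⟩
    let X : Matrix I I R := Matrix.of fun i j =>
      if h : par i = 0 ∧ par j = 0 then A ⟨i, h.1⟩ ⟨j, h.2⟩
      else if h' : par i = 1 ∧ par j = 1 then D ⟨i, h'.1⟩ ⟨j, h'.2⟩ else 0
    have hX : X ∈ matGrade (R := R) par 0 := by
      intro i j hij
      rw [add_zero] at hij
      have h1 : ¬ (par i = 0 ∧ par j = 0) := fun h => hij (h.2.trans h.1.symm)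
      have h2 : ¬ (par i = 1 ∧ par j = 1) := fun h => hij (h.2.trans h.1.symm)
      simp only [X, Matrix.of_apply, dif_neg h1, dif_neg h2]
    have hx : e.symm X ∈ evenOdd Q 0 :=
      mem_even_of_e_mem Q par e hodd _ (by rw [AlgEquiv.apply_symm_apply]; exact hX)
    refine ⟨⟨e.symm X, hx⟩, Prod.ext ?_ ?_⟩
    · ext i j
      change blockHom Q par e hodd 0 ⟨e.symm X, hx⟩ i j = A i j
      rw [blockHom_apply]
      simp only [AlgEquiv.apply_symm_apply]
      have h : par (i : I) = 0 ∧ par (j : I) = 0 := ⟨i.2, j.2⟩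
      simp only [X, Matrix.of_apply, dif_pos h]
    · ext i j
      change blockHom Q par e hodd 1 ⟨e.symm X, hx⟩ i j = D i j
      rw [blockHom_apply]
      simp only [AlgEquiv.apply_symm_apply]
      have h1 : ¬ (par (i : I) = 0 ∧ par (j : I) = 0) := fun h => by
        have := i.2
        rw [h.1] at this
        exact absurd this (by decide)
      have h : par (i : I) = 1 ∧ par (j : I) = 1 := ⟨i.2, j.2⟩
      simp only [X, Matrix.of_apply, dif_neg h1, dif_pos h]

/-- the even subalgebra as a product of two matrix algebras -/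
noncomputable def evenBlocks :
    CliffordAlgebra.even Q ≃ₐ[R]
      Matrix {i // par i = 0} {i // par i = 0} R × Matrix {i // par i = 1} {i // par i = 1} R :=
  AlgEquiv.ofBijective (blocksHom Q par e hodd) (blocksHom_bijective Q par e hodd)

end rep

section double

variable {M' : Type v} [AddCommGroup M'] [Module R M'] [Module.Free R M'] [Module.Finite R M']
variable (Q' : QuadraticForm R M')
variable {I : Type} [Fintype I] [DecidableEq I] (par : I → ZMod 2)
variable (e : CliffordAlgebra Q' ≃ₐ[R] Matrix I I R)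
variable (hodd : ∀ v, e (ι Q' v) ∈ matGrade par 1)

/-- `Fin 2 → ZMod 2` -/
def toZ (a : Fin 2) : ZMod 2 := if a = 0 then 0 else 1

/-- the parity on the doubled index set -/
def par2 (p : Fin 2 × I) : ZMod 2 := toZ p.1 + par p.2

/-- the doubled representation -/
noncomputable def e2 (u : R) (hu : IsUnit u) :
    CliffordAlgebra (hypForm u Q') ≃ₐ[R] Matrix (Fin 2 × I) (Fin 2 × I) R :=
  (hypEquiv u hu Q').trans (e.mapMatrix.trans (Matrix.compAlgEquiv (Fin 2) I R R))

theorem e2_ι_apply (u : R) (hu : IsUnit u) (p : (R × R) × M') (a b : Fin 2) (s t : I) :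
    e2 Q' e u hu (ι _ p) (a, s) (b, t) = e (F u Q' p a b) s t := by
  change Matrix.comp _ _ _ _ _ (e.mapMatrix (hypEquiv u hu Q' (ι _ p))) (a, s) (b, t) = _
  rw [show hypEquiv u hu Q' (ι _ p) = F u Q' p from Φ_ι u Q' p]
  rfl

theorem zmod_aux1 (c c' : ZMod 2) (h : (1 : ZMod 2) + c' ≠ 0 + c + 1) : c' ≠ c := by
  revert c c'; decide

theorem zmod_aux2 (c c' : ZMod 2) (h : (0 : ZMod 2) + c' ≠ 1 + c + 1) : c' ≠ c := by
  revert c c'; decide

theorem zmod_aux3 (c c' : ZMod 2) (h : (1 : ZMod 2) + c' ≠ 1 + c + 1) : c' ≠ c + 1 := by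
  revert c c'; decide

theorem zmod_aux0 (c c' : ZMod 2) (h : (0 : ZMod 2) + c' ≠ 0 + c + 1) : c' ≠ c + 1 := by
  revert c c'; decide

include hodd in
theorem e2_odd (u : R) (hu : IsUnit u) (p : (R × R) × M') :
    e2 Q' e u hu (ι _ p) ∈ matGrade (par2 par) 1 := by
  rintro ⟨a, s⟩ ⟨b, t⟩ h
  rw [e2_ι_apply, F_apply]
  simp only [par2, toZ] at h
  have hsc : ∀ r : R, par t ≠ par s → e (algebraMap R (CliffordAlgebra Q') r) s t = 0 := by
    intro r hts
    rw [AlgEquiv.commutes, Matrix.algebraMap_matrix_apply, if_neg (fun hst => hts (by rw [hst]))]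
  fin_cases a <;> fin_cases b
  · simp only [Fin.zero_eta, Fin.isValue, if_true] at h
    simp only [Fin.zero_eta, Fin.isValue, Matrix.of_apply, Matrix.cons_val', Matrix.cons_val_zero,
      Matrix.cons_val_fin_one]
    exact hodd p.2 s t (zmod_aux0 _ _ h)
  · simp only [Fin.zero_eta, Fin.isValue, if_true, Fin.mk_one, one_ne_zero, if_false] at h
    simp only [Fin.zero_eta, Fin.isValue, Fin.mk_one, Matrix.of_apply, Matrix.cons_val',
      Matrix.cons_val_zero, Matrix.cons_val_one, Matrix.cons_val_fin_one]
    exact hsc _ (zmod_aux1 _ _ h)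
  · simp only [Fin.zero_eta, Fin.isValue, if_true, Fin.mk_one, one_ne_zero, if_false] at h
    simp only [Fin.zero_eta, Fin.isValue, Fin.mk_one, Matrix.of_apply, Matrix.cons_val',
      Matrix.cons_val_zero, Matrix.cons_val_one, Matrix.cons_val_fin_one]
    exact hsc _ (zmod_aux2 _ _ h)
  · simp only [Fin.mk_one, Fin.isValue, one_ne_zero, if_false] at h
    simp only [Fin.mk_one, Fin.isValue, Matrix.of_apply, Matrix.cons_val', Matrix.cons_val_one,
      Matrix.cons_val_fin_one]
    rw [map_neg, Matrix.neg_apply, hodd p.2 s t (zmod_aux3 _ _ h), neg_zero]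

theorem zmod_aux4 (c d : ZMod 2) : (if c = d then (0 : ZMod 2) else 1) + c = d := by
  revert c d; decide

theorem toZ_eq (a : Fin 2) (c d : ZMod 2) (h : toZ a + c = d) :
    a = if c = d then 0 else 1 := by
  revert a c d; decide

/-- each parity class of the doubled index set is a copy of `I` -/
def par2Equiv (d : ZMod 2) : {p : Fin 2 × I // par2 par p = d} ≃ I where
  toFun p := p.1.2
  invFun s := ⟨(if par s = d then 0 else 1, s), by
    simp only [par2, toZ]
    by_cases h : par s = d
    · simp [h]
    · simp only [if_neg h, Fin.isValue, one_ne_zero, if_false]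
      have := zmod_aux4 (par s) d
      rwa [if_neg h] at this⟩
  left_inv := by
    rintro ⟨⟨a, s⟩, hp⟩
    refine Subtype.ext (Prod.ext ?_ rfl)
    exact (toZ_eq a (par s) d hp).symm
  right_inv s := rfl

theorem card_par2 (d : ZMod 2) :
    Fintype.card {p : Fin 2 × I // par2 par p = d} = Fintype.card I :=
  Fintype.card_congr (par2Equiv par d)

end double

section hyp

theorem exists_parityRep (u : R) (hu : IsUnit u) (m : ℕ) :
    ∃ (I : Type) (_ : Fintype I) (_ : DecidableEq I) (par : I → ZMod 2)
      (e : CliffordAlgebra (hypSpace u m) ≃ₐ[R] Matrix I I R),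
      Fintype.card I = 2 ^ m ∧ ∀ v, e (ι _ v) ∈ matGrade par 1 := by
  induction m with
  | zero =>
    have e0 : R ≃ₐ[R] Matrix Unit Unit R :=
      AlgEquiv.ofBijective (Algebra.ofId R _) ⟨fun a b h => by
        have := congrFun (congrFun h ()) ()
        simpa [Algebra.ofId_apply, Matrix.algebraMap_matrix_apply] using this,
      fun X => ⟨X () (), by
        ext i j
        simp [Algebra.ofId_apply, Matrix.algebraMap_matrix_apply]⟩⟩
    refine ⟨Unit, inferInstance, inferInstance, fun _ => 0,
      (equivOfSubsingleton _).trans e0, by simp, fun v => ?_⟩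
    have : v = 0 := Subsingleton.elim _ _
    rw [this, map_zero, map_zero]
    exact Submodule.zero_mem _
  | succ m ih =>
    obtain ⟨I, hF, hD, par, e, hcard, hodd⟩ := ih
    refine ⟨Fin 2 × I, inferInstance, inferInstance, par2 par,
      (equivOfIsometry (succIso u m)).symm.trans (e2 (hypSpace u m) e u hu), ?_, fun v => ?_⟩
    · rw [Fintype.card_prod, Fintype.card_fin, hcard, pow_succ, mul_comm]
    · rw [AlgEquiv.trans_apply, equivOfIsometry_symm, equivOfIsometry_apply, map_apply_ι]
      exact e2_odd (hypSpace u m) par e hodd u hu _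

theorem nonempty_even_hypSpace (u : R) (hu : IsUnit u) (m : ℕ) :
    Nonempty (CliffordAlgebra.even (hypSpace u (m + 1)) ≃ₐ[R]
      (Matrix (Fin (2 ^ m)) (Fin (2 ^ m)) R × Matrix (Fin (2 ^ m)) (Fin (2 ^ m)) R)) := by
  obtain ⟨I, hF, hD, par, e, hcard, hodd⟩ := exists_parityRep u hu m
  have hodd2 : ∀ v, ((equivOfIsometry (succIso u m)).symm.trans (e2 (hypSpace u m) e u hu))
      (ι _ v) ∈ matGrade (par2 par) 1 := by
    intro v
    rw [AlgEquiv.trans_apply, equivOfIsometry_symm, equivOfIsometry_apply, map_apply_ι]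
    exact e2_odd (hypSpace u m) par e hodd u hu _
  have E := evenBlocks (hypSpace u (m + 1)) (par2 par) _ hodd2
  have c0 : Fintype.card {p : Fin 2 × I // par2 par p = 0} = 2 ^ m := by
    rw [card_par2, hcard]
  have c1 : Fintype.card {p : Fin 2 × I // par2 par p = 1} = 2 ^ m := by
    rw [card_par2, hcard]
  have r0 := Matrix.reindexAlgEquiv R R (Fintype.equivFinOfCardEq c0)
  have r1 := Matrix.reindexAlgEquiv R R (Fintype.equivFinOfCardEq c1)
  exact ⟨E.trans (AlgEquiv.prodCongr r0 r1)⟩

end hyp

end Groth.Agent.Lib.Seat37.CliffParity
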