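import Mathlib
import Groth.Prelude.Def_QuadGrp
import Groth.Agent.Lib.Seat37CliffParity
import Groth.Agent.Lib.Seat37QuadSplitEven
import Groth.Agent.Lib.Seat37CliffEvenStruct
import Groth.Agent.Lib.Seat37CliffDescent

/-!
# Structure of Clifford algebras of even rank (seat 37)

* `splitIsoE`: `splitForm R (2 m) ≅ hypSpace 1 m`;
* `nonempty_matrix_split`: `C(splitForm R (2 m)) ≃ₐ M_{2^m}(R)`;
* `nonempty_even_split`: `even (splitForm R (2 (m + 1))) ≃ₐ M_{2^m}(R) × M_{2^m}(R)`;
* base-change versions `nonempty_bc_matrix`, `nonempty_bc_even` in the presence of an isometry of the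
  base change of `Q` with the split form;
* `center_eq_bot_of_isAzumaya`: the centre of an Azumaya algebra (with a retraction of the unit);
* `mem_even_of_commute`: an element commuting with all even central elements is even.
-/

set_option autoImplicit false
set_option linter.unusedSectionVars false
universe u v

namespace Groth.Agent.Lib.Seat37.CliffEvenRank

open CliffordAlgebra TensorProduct QuadGrp
open Groth.Agent.Lib.Seat37.CliffGrade Groth.Agent.Lib.Seat37.CliffBC
  Groth.Agent.Lib.Seat37.CliffTower Groth.Agent.Lib.Seat37.CliffParity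
  Groth.Agent.Lib.Seat37.QuadSplitEven

section split

variable (R : Type u) [CommRing R] (m : ℕ)

/-- coordinates `x ↦ (fun i => (x_{2i}, x_{2i+1}))` -/
def splitCoordE : (Fin (2 * m) → R) ≃ₗ[R] (Fin m → R × R) where
  toFun x := fun i => (x ⟨2 * i.val, by omega⟩, x ⟨2 * i.val + 1, by omega⟩)
  map_add' x y := rfl
  map_smul' r x := rfl
  invFun p := fun k =>
    if h : k.val % 2 = 0 then (p ⟨k.val / 2, by omega⟩).1 else (p ⟨k.val / 2, by omega⟩).2
  left_inv x := by
    funext k
    by_cases h : k.val % 2 = 0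
    · simp only [dif_pos h]
      congr 1
      apply Fin.ext
      simp only
      omega
    · simp only [dif_neg h]
      congr 1
      apply Fin.ext
      simp only
      omega
  right_inv p := by
    funext i
    refine Prod.ext ?_ ?_
    · have h : (2 * i.val) % 2 = 0 := by omega
      simp only [dif_pos h]
      congr 2
      apply Fin.ext
      simp only
      omega
    · have h : ¬ (2 * i.val + 1) % 2 = 0 := by omega
      simp only [dif_neg h]
      congr 2
      apply Fin.ext
      simp only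
      omega

/-- `splitForm R (2 m) ≅ hypSpace 1 m` -/
noncomputable def splitIsoE : (QuadGrp.splitForm R (2 * m)).IsometryEquiv (hypSpace (1 : R) m) :=
  { splitCoordE R m with
    map_app' := fun x => by
      rw [hypSpace_apply, splitForm_apply_even]
      simp only [one_mul]
      rfl }

theorem nonempty_matrix_split :
    Nonempty (CliffordAlgebra (QuadGrp.splitForm R (2 * m)) ≃ₐ[R]
      Matrix (Fin (2 ^ m)) (Fin (2 ^ m)) R) := by
  obtain ⟨e⟩ := nonempty_matrix (1 : R) isUnit_one m
  exact ⟨(equivOfIsometry (splitIsoE R m)).trans e⟩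

theorem nonempty_even_split :
    Nonempty (CliffordAlgebra.even (QuadGrp.splitForm R (2 * (m + 1))) ≃ₐ[R]
      (Matrix (Fin (2 ^ m)) (Fin (2 ^ m)) R × Matrix (Fin (2 ^ m)) (Fin (2 ^ m)) R)) := by
  obtain ⟨e⟩ := nonempty_even_hypSpace (1 : R) isUnit_one m
  exact ⟨(evenEquivOfIsometry (splitIsoE R (m + 1))).trans e⟩

end split

section bc

variable {R : Type u} [CommRing R] {M : Type v} [AddCommGroup M] [Module R M] [Module.Free R M]
variable (A : Type u) [CommRing A] [Algebra R A]
variable (Q : QuadraticForm R M)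

local notation "Q'" => baseChangeForm A Q
local notation "hQ'" => Groth.Agent.Lib.Helper25.HalfDisc.baseChangeForm_one_tmul A Q

theorem nonempty_bc_matrix (m : ℕ)
    (φ : (baseChangeForm A Q).IsometryEquiv (splitForm A (2 * m))) :
    Nonempty ((A ⊗[R] CliffordAlgebra Q) ≃ₐ[A] Matrix (Fin (2 ^ m)) (Fin (2 ^ m)) A) := by
  obtain ⟨e⟩ := nonempty_matrix_split A m
  exact ⟨(bcEquiv Q Q' hQ').trans ((equivOfIsometry φ).trans e)⟩

theorem nonempty_bc_even [Module.Flat R A] (m : ℕ)
    (φ : (baseChangeForm A Q).IsometryEquiv (splitForm A (2 * (m + 1)))) :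
    Nonempty ((A ⊗[R] CliffordAlgebra.even Q) ≃ₐ[A]
      (Matrix (Fin (2 ^ m)) (Fin (2 ^ m)) A × Matrix (Fin (2 ^ m)) (Fin (2 ^ m)) A)) := by
  obtain ⟨e⟩ := nonempty_even_split A m
  exact ⟨(evenBCEquiv Q Q' hQ').trans ((evenEquivOfIsometry φ).trans e)⟩

end bc

section azumaya

open MulOpposite

variable {A : Type u} {C : Type v} [CommRing A] [Ring C] [Algebra A C]

/-- `x ⊗ op y ↦ s y • x` -/
noncomputable def contr (s : C →ₗ[A] A) : C ⊗[A] Cᵐᵒᵖ →ₗ[A] C :=
  TensorProduct.lift
    ((LinearMap.lsmul A C).flip.compl₂ (s ∘ₗ (opLinearEquiv A).symm.toLinearMap))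

@[simp] theorem contr_tmul (s : C →ₗ[A] A) (x : C) (y : Cᵐᵒᵖ) :
    contr s (x ⊗ₜ[A] y) = s (unop y) • x := rfl

theorem center_eq_bot_of_isAzumaya [IsAzumaya A C] (s : C →ₗ[A] A) (hs : s 1 = 1) :
    Subalgebra.center A C = ⊥ := by
  refine le_antisymm (fun c hc => ?_) bot_le
  rw [Subalgebra.mem_center_iff] at hc
  have h0 : (c ⊗ₜ[A] (1 : Cᵐᵒᵖ)) = ((1 : C) ⊗ₜ[A] (op c : Cᵐᵒᵖ)) := by
    apply (IsAzumaya.bij (R := A) (A := C)).1
    ext x
    rw [AlgHom.mulLeftRight_apply, AlgHom.mulLeftRight_apply, unop_one, mul_one, one_mul, unop_op]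
    exact (hc x).symm
  have h1 := congrArg (contr s) h0
  rw [contr_tmul, contr_tmul, unop_one, hs, one_smul, unop_op] at h1
  rw [h1, Algebra.mem_bot]
  exact ⟨s c, by rw [Algebra.algebraMap_eq_smul_one]⟩

end azumaya

section centralizer

open Groth.Agent.Lib.Seat37.CliffEvenStruct Groth.Agent.Lib.Seat37.CliffEvenCenterBC
  Groth.Agent.Lib.Seat37.CliffDescent

variable {R : Type u} [CommRing R] {M : Type v} [AddCommGroup M] [Module R M] [Module.Free R M]
variable (A : Type u) [CommRing A] [Algebra R A]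
variable (Q : QuadraticForm R M) (m : ℕ)
variable (φ : (baseChangeForm A Q).IsometryEquiv (splitForm A (2 * m)))

include φ in
/-- an element of `C(Q)` commuting with all even central elements is even -/
theorem mem_even_of_commute [Module.FaithfullyFlat R A] {n : ℕ} (b : Module.Basis (Fin n) R M)
    (u : CliffordAlgebra Q) (hu : ∀ x, IsEvenCentral Q x → u * x = x * u) :
    u ∈ evenOdd Q 0 := by
  have hx : u ∈ evenOdd Q 0 ⊔ evenOdd Q 1 := by
    rw [(evenOdd_isCompl Q).sup_eq_top]; trivial
  obtain ⟨u0, hu0, u1, hu1, rfl⟩ := Submodule.mem_sup.mp hx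
  have hu1c : ∀ x, IsEvenCentral Q x → u1 * x = x * u1 := by
    intro x hx
    have h1 := hu x hx
    have h2 : u0 * x = x * u0 := (hx.2 u0 hu0).symm
    rw [add_mul, mul_add, h2] at h1
    exact add_left_cancel h1
  have h1 := j_commute_epsA A Q m φ b u1 hu1c
  have h2 := odd_mul_epsA A Q m φ (j A Q u1) (j_mem A Q 1 _ hu1)
  rw [h1] at h2
  -- `ε y = (1 - ε) y` forces `y = 0`
  have h3 : epsA A Q m φ * j A Q u1 = 0 := by
    have := congrArg (fun z => epsA A Q m φ * z) h2
    simp only [← mul_assoc, epsA_idem, mul_sub, mul_one, sub_self, zero_mul] at this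
    exact this
  have h4 : j A Q u1 = 0 := by
    have : j A Q u1 = epsA A Q m φ * j A Q u1 + (1 - epsA A Q m φ) * j A Q u1 := by
      rw [sub_mul, one_mul]; abel
    rw [this, ← h2, h3, add_zero]
  have h5 : u1 = 0 := j_injective A Q (by rw [h4, map_zero])
  rw [h5, add_zero]
  exact hu0

end centralizer

end Groth.Agent.Lib.Seat37.CliffEvenRank
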