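import Mathlib
import Groth.Prelude.Def_QuadGrp
import Groth.Agent.Lib.Seat37CliffEvenRank
import Groth.Agent.Lib.Seat37CliffRank

/-!
# The even Clifford algebra in even rank, fppf-locally a matrix algebra over `A × A` (seat 37)

* `finite_even`: the even subalgebra of the Clifford algebra of a finite free module is finite;
* `matPiEquiv`: `M_n(A) × M_n(A) ≃ₐ M_n(Fin 2 → A)`;
* `nonempty_bc_even_pi`: `A ⊗ even Q ≃ₐ[A] Matrix (Fin (2^k)) (Fin (2^k)) (Fin 2 → A)` when the base
  change of `Q` to `A` is split of rank `2 (k + 1)`.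
-/

set_option autoImplicit false
set_option linter.unusedSectionVars false
universe u v

namespace Groth.Agent.Lib.Seat37.CliffEvenCenterAz

open CliffordAlgebra TensorProduct QuadGrp
open Groth.Agent.Lib.Seat37.CliffDescent

section finite

variable {R : Type u} [CommRing R] {M : Type v} [AddCommGroup M] [Module R M]

theorem finite_even [Module.Free R M] [Module.Finite R M] (Q : QuadraticForm R M) :
    Module.Finite R ↥(CliffordAlgebra.even Q) := by
  have := Groth.Agent.Lib.Seat37.CliffRank.finite' Q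
  let E0 : CliffordAlgebra Q →ₗ[R] ↥(CliffordAlgebra.even Q) :=
    { toFun := fun y => ⟨P0 Q y, P0_mem Q y⟩
      map_add' := fun x y => Subtype.ext (map_add _ _ _)
      map_smul' := fun r x => Subtype.ext (map_smul _ _ _) }
  exact Module.Finite.of_surjective E0 (fun x => ⟨x, Subtype.ext (P0_of_even Q x x.2)⟩)

end finite

section mat

variable (A : Type u) [CommRing A] (n : Type) [Fintype n] [DecidableEq n]

/-- `M_n(Fin 2 → A) → M_n(A) × M_n(A)` -/
noncomputable def matPiHom :
    Matrix n n (Fin 2 → A) →ₐ[A] Matrix n n A × Matrix n n A :=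
  AlgHom.prod ((Pi.evalAlgHom A (fun _ : Fin 2 => A) 0).mapMatrix)
    ((Pi.evalAlgHom A (fun _ : Fin 2 => A) 1).mapMatrix)

theorem matPiHom_bijective : Function.Bijective (matPiHom A n) := by
  constructor
  · intro X Y h
    have h0 := congrArg Prod.fst h
    have h1 := congrArg Prod.snd h
    ext i j k
    fin_cases k
    · exact congrFun (congrFun h0 i) j
    · exact congrFun (congrFun h1 i) j
  · rintro ⟨X, Y⟩
    refine ⟨Matrix.of fun i j => ![X i j, Y i j], Prod.ext ?_ ?_⟩
    · ext i j
      rfl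
    · ext i j
      rfl

/-- `M_n(A) × M_n(A) ≃ₐ M_n(Fin 2 → A)` -/
noncomputable def matPiEquiv :
    (Matrix n n A × Matrix n n A) ≃ₐ[A] Matrix n n (Fin 2 → A) :=
  (AlgEquiv.ofBijective (matPiHom A n) (matPiHom_bijective A n)).symm

end mat

section bc

variable {R : Type u} [CommRing R] {M : Type v} [AddCommGroup M] [Module R M] [Module.Free R M]
variable (A : Type u) [CommRing A] [Algebra R A]
variable (Q : QuadraticForm R M)

theorem nonempty_bc_even_pi [Module.Flat R A] (k : ℕ)
    (φ : (baseChangeForm A Q).IsometryEquiv (splitForm A (2 * (k + 1)))) :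
    Nonempty ((A ⊗[R] CliffordAlgebra.even Q) ≃ₐ[A]
      Matrix (Fin (2 ^ k)) (Fin (2 ^ k)) (Fin 2 → A)) := by
  obtain ⟨e⟩ := Groth.Agent.Lib.Seat37.CliffEvenRank.nonempty_bc_even A Q k φ
  exact ⟨e.trans (matPiEquiv A (Fin (2 ^ k)))⟩

end bc

end Groth.Agent.Lib.Seat37.CliffEvenCenterAz
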