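import Mathlib
import Groth.Prelude.Def_QuadGrp
import Groth.Agent.Lib.Seat37CliffConj
import Groth.Agent.Lib.Seat37CliffSOCenter

/-!
# Conjugation by a unit normalising `M` has determinant one, odd rank (seat 37)

In the context of `CliffDescent` (faithfully flat `A`, isometry `φ` of `Q_A` with the split form of
rank `2 m + 1`), given that determinants of isometries square to one:
`conjEquiv_mem_SO'`: for `u ∈ GPin' Q` the induced isometry lies in `SO' Q`.
-/

set_option autoImplicit false
set_option linter.unusedSectionVars false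
universe u v

namespace Groth.Agent.Lib.Seat37.CliffGPinSO

open CliffordAlgebra TensorProduct QuadGrp
open Groth.Agent.Lib.Seat37.CliffGrade Groth.Agent.Lib.Seat37.CliffRank
  Groth.Agent.Lib.Seat37.CliffDescent Groth.Agent.Lib.Seat37.CliffConj
  Groth.Agent.Lib.Seat37.CliffSOCenter

variable {R : Type u} [CommRing R] {M : Type v} [AddCommGroup M] [Module R M] [Module.Free R M]
  [Module.Finite R M]
variable (A : Type u) [CommRing A] [Algebra R A]
variable (Q : QuadraticForm R M) (m : ℕ)
variable (φ : (baseChangeForm A Q).IsometryEquiv (splitForm A (2 * m + 1)))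

include φ in
theorem conjEquiv_mem_SO' [Module.FaithfullyFlat R A] (b : Module.Basis (Fin (2 * m + 1)) R M)
    (hdet2 : ∀ g ∈ O Q, LinearEquiv.det g * LinearEquiv.det g = 1)
    (u : (CliffordAlgebra Q)ˣ) (hu : u ∈ GPin' Q) : conjEquiv Q u hu ∈ SO' Q := by
  set g := conjEquiv Q u hu with hg_def
  have hg : g ∈ O Q := conjEquiv_mem_O Q u hu
  set δ : R := LinearMap.det g.toLinearMap with hδ_def
  have hδ : δ * δ = 1 := by
    have h := congrArg (fun x : Rˣ => (x : R)) (hdet2 g hg)
    simpa [LinearEquiv.coe_det] using h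
  -- the twisted isometry of determinant one
  set h' : Q →qᵢ Q := (smulIso Q δ hδ).comp (isometryOfMem Q g hg) with hh'
  have hlin : h'.toLinearMap = δ • g.toLinearMap := by
    ext v
    rfl
  have hdet : LinearMap.det h'.toLinearMap = 1 := by
    rw [hlin, ← LinearMap.det_toMatrix b, map_smul, Matrix.det_smul, Fintype.card_fin,
      LinearMap.det_toMatrix, ← hδ_def]
    calc δ ^ (2 * m + 1) * δ = (δ * δ) ^ (m + 1) := by ring
      _ = 1 := by rw [hδ, one_pow]
  -- `δ` acts trivially on odd central elements
  have hfix : ∀ z : CliffordAlgebra Q, z ∈ Subalgebra.center R (CliffordAlgebra Q) →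
      z ∈ evenOdd Q 1 → δ • z = z := by
    intro z hz hz1
    have h1 := map_odd_central_of_det_one A Q m φ h' hdet z hz hz1
    have h2 : CliffordAlgebra.map h' z =
        CliffordAlgebra.map (smulIso Q δ hδ) (CliffordAlgebra.map (isometryOfMem Q g hg) z) := by
      rw [hh', ← CliffordAlgebra.map_comp_map]
      rfl
    rw [h2, map_conjIso Q u hu, Subalgebra.mem_center_iff.mp hz (u : CliffordAlgebra Q),
      mul_assoc, Units.mul_inv, mul_one, map_smulIso_odd Q δ hδ z hz1] at h1
    exact h1
  obtain ⟨N, z, w, hz, hw, hsum⟩ := exists_odd_central_pairs A Q m φ b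
  have hδ1 : δ = 1 := by
    apply algebraMap_injective Q
    rw [map_one, Algebra.algebraMap_eq_smul_one, ← hsum, Finset.smul_sum]
    refine Finset.sum_congr rfl fun k _ => ?_
    rw [← smul_mul_assoc, hfix (z k) (hz k).2 (hz k).1]
  refine ⟨hg, ?_⟩
  change LinearEquiv.det g = 1
  apply Units.ext
  rw [LinearEquiv.coe_det]
  exact hδ1

end Groth.Agent.Lib.Seat37.CliffGPinSO
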