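import Mathlib
import Groth.Prelude.Def_QuadGrp
import Groth.Agent.Lib.Seat37CliffPin

/-!
# `GPin' = Z^× · GSpin` over a local ring, odd rank (seat 37)

Given an odd central unit `ζ` spanning the centre with `1` (`CliffLocal`), every unit normalising `M`
is the product of a central unit and an even unit normalising `M`.
-/

set_option autoImplicit false
set_option linter.unusedSectionVars false
universe u v

namespace Groth.Agent.Lib.Seat37.CliffGSpin

open CliffordAlgebra TensorProduct QuadGrp Pointwise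
open Groth.Agent.Lib.Seat37.CliffGrade Groth.Agent.Lib.Seat37.CliffDescent
  Groth.Agent.Lib.Seat37.CliffRank Groth.Agent.Lib.Seat37.CliffCenter
  Groth.Agent.Lib.Seat37.CliffLocal Groth.Agent.Lib.Seat37.CliffPin

variable {R : Type u} [CommRing R] {M : Type v} [AddCommGroup M] [Module R M] [Module.Free R M]
variable (Q : QuadraticForm R M)

/-- central units normalise `M` -/
theorem central_mem_GPin' (c : (CliffordAlgebra Q)ˣ)
    (hc : (c : CliffordAlgebra Q) ∈ Subalgebra.center R (CliffordAlgebra Q)) : c ∈ GPin' Q := by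
  rw [mem_GPin']
  have hconj : ∀ y : CliffordAlgebra Q, ConjAct.toConjAct c • y = y := by
    intro y
    rw [ConjAct.units_smul_def]
    simp only [ConjAct.ofConjAct_toConjAct]
    rw [← Subalgebra.mem_center_iff.mp hc y, mul_assoc, Units.mul_inv, mul_one]
  ext x
  rw [Submodule.mem_smul_pointwise_iff_exists]
  constructor
  · rintro ⟨y, hy, rfl⟩
    rwa [hconj]
  · intro hx
    exact ⟨x, hx, hconj x⟩

/-- a factorisation `u = c * w` with `c` central and `w` even upgrades to one with `c` a central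
unit and `w ∈ GSpin` -/
theorem decomp_of_eq (u : (CliffordAlgebra Q)ˣ) (hu : u ∈ GPin' Q) (c w : CliffordAlgebra Q)
    (hc : c ∈ Subalgebra.center R (CliffordAlgebra Q)) (hw : w ∈ evenOdd Q 0)
    (h : (u : CliffordAlgebra Q) = c * w) :
    ∃ z : CliffordAlgebra Q, z ∈ Subalgebra.center R (CliffordAlgebra Q) ∧ IsUnit z ∧
      ∃ u₂ ∈ GSpin Q, (u : CliffordAlgebra Q) = z * u₂ := by
  have h1 : c * (w * ↑u⁻¹) = 1 := by rw [← mul_assoc, ← h, Units.mul_inv]
  have h2 : (w * ↑u⁻¹) * c = 1 := by rw [Subalgebra.mem_center_iff.mp hc, h1]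
  let cu : (CliffordAlgebra Q)ˣ := ⟨c, w * ↑u⁻¹, h1, h2⟩
  have hcu : cu ∈ GPin' Q := central_mem_GPin' Q cu hc
  have hval : ((cu⁻¹ * u : (CliffordAlgebra Q)ˣ) : CliffordAlgebra Q) = w := by
    change (w * ↑u⁻¹) * (u : CliffordAlgebra Q) = w
    rw [mul_assoc, Units.inv_mul, mul_one]
  refine ⟨c, hc, ⟨cu, rfl⟩, cu⁻¹ * u, ⟨⟨(GPin' Q).mul_mem ((GPin' Q).inv_mem hcu) hu, ?_⟩, ?_⟩, ?_⟩
  · change IsLocHomog Q ((cu⁻¹ * u : (CliffordAlgebra Q)ˣ) : CliffordAlgebra Q)
    rw [hval]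
    refine ⟨1, IsIdempotentElem.one, by rwa [one_smul], ?_⟩
    rw [sub_self, zero_smul]; exact Submodule.zero_mem _
  · change ((cu⁻¹ * u : (CliffordAlgebra Q)ˣ) : CliffordAlgebra Q) ∈ evenOdd Q 0
    rw [hval]; exact hw
  · rw [hval]; exact h

variable {Q}

/-- the decomposition over a local ring -/
theorem exists_center_mul_gSpin [IsLocalRing R] (U : OddCentralUnit Q) (hb : EvenCentralScalar Q)
    (u : (CliffordAlgebra Q)ˣ) (hu : u ∈ GPin' Q) :
    ∃ z : CliffordAlgebra Q, z ∈ Subalgebra.center R (CliffordAlgebra Q) ∧ IsUnit z ∧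
      ∃ u₂ ∈ GSpin Q, (u : CliffordAlgebra Q) = z * u₂ := by
  set u₀ := P0 Q (u : CliffordAlgebra Q) with hu₀
  set u₁ := P1 Q (u : CliffordAlgebra Q) with hu₁
  have hsum : u₀ + u₁ = (u : CliffordAlgebra Q) := P0_add_P1 Q _
  have h0 : u₀ ∈ evenOdd Q 0 := P0_mem Q _
  have h1 : u₁ ∈ evenOdd Q 1 := P1_mem Q _
  obtain ⟨hc0, hc1⟩ := central_parts Q u hu
  have hspan := center_eq_span U hb
  have hc0' : (↑u⁻¹ : CliffordAlgebra Q) * u₀ ∈ Submodule.span R {1, U.ζ} := by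
    rw [← hspan]; exact hc0
  have hc1' : (↑u⁻¹ : CliffordAlgebra Q) * u₁ ∈ Submodule.span R {1, U.ζ} := by
    rw [← hspan]; exact hc1
  rw [Submodule.mem_span_pair] at hc0' hc1'
  obtain ⟨a₀, b₀, hab0⟩ := hc0'
  obtain ⟨a₁, b₁, hab1⟩ := hc1'
  -- `a₀ + a₁ = 1`
  have hone : a₀ + a₁ = 1 := by
    have hli := linearIndependent U
    rw [LinearIndependent.pair_iff] at hli
    have h : (a₀ + a₁ - 1) • (1 : CliffordAlgebra Q) + (b₀ + b₁) • U.ζ = 0 := by
      have e : (↑u⁻¹ : CliffordAlgebra Q) * u₀ + ↑u⁻¹ * u₁ = 1 := by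
        rw [← mul_add, hsum, Units.inv_mul]
      rw [← hab0, ← hab1] at e
      have e' : (a₀ + a₁ - 1) • (1 : CliffordAlgebra Q) + (b₀ + b₁) • U.ζ =
          (a₀ • (1 : CliffordAlgebra Q) + b₀ • U.ζ + (a₁ • (1 : CliffordAlgebra Q) + b₁ • U.ζ)) - 1 := by
        simp only [sub_smul, add_smul, one_smul]; abel
      rw [e', e, sub_self]
    exact sub_eq_zero.mp (hli _ _ h).1
  -- expressions of the components
  have hu0 : u₀ = a₀ • (u : CliffordAlgebra Q) + b₀ • ((u : CliffordAlgebra Q) * U.ζ) := by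
    calc u₀ = (u : CliffordAlgebra Q) * (↑u⁻¹ * u₀) := by
          rw [← mul_assoc, Units.mul_inv, one_mul]
      _ = _ := by rw [← hab0, mul_add, mul_smul_comm, mul_smul_comm, mul_one]
  have hu1 : u₁ = a₁ • (u : CliffordAlgebra Q) + b₁ • ((u : CliffordAlgebra Q) * U.ζ) := by
    calc u₁ = (u : CliffordAlgebra Q) * (↑u⁻¹ * u₁) := by
          rw [← mul_assoc, Units.mul_inv, one_mul]
      _ = _ := by rw [← hab1, mul_add, mul_smul_comm, mul_smul_comm, mul_one]
  rcases IsLocalRing.isUnit_or_isUnit_of_add_one hone with ha | ha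
  · -- `a₀` is a unit: `u = (1 - t ζ) u₀`
    obtain ⟨α, hα⟩ := ha
    have e1 : a₀ • u₁ + b₀ • (u₀ * U.ζ) = 0 := by
      have := congrArg (P1 Q) hu0
      rw [P1_of_even Q _ h0, map_add, map_smul, map_smul, P1_mul_odd Q _ _ U.ζ_odd] at this
      exact this.symm
    have e2 : u₁ = -((↑α⁻¹ : R) * b₀) • (u₀ * U.ζ) := by
      have := congrArg (fun x => (↑α⁻¹ : R) • x) e1
      simp only [smul_add, smul_zero, smul_smul] at this
      rw [← hα, Units.inv_mul, one_smul] at this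
      rw [neg_smul, eq_neg_iff_add_eq_zero]
      exact this
    refine decomp_of_eq Q u hu (1 + -((↑α⁻¹ : R) * b₀) • U.ζ) u₀
      (Subalgebra.add_mem _ (Subalgebra.one_mem _) (Subalgebra.smul_mem _ U.ζ_central _)) h0 ?_
    rw [add_mul, one_mul, smul_mul_assoc, ← U.comm u₀, ← e2, hsum]
  · -- `a₁` is a unit: `u = ζ (1 - t ζ) (u₁ ζ⁻¹)`
    obtain ⟨α, hα⟩ := ha
    have e1 : a₁ • u₀ + b₁ • (u₁ * U.ζ) = 0 := by
      have := congrArg (P0 Q) hu1
      rw [P0_of_odd Q _ h1, map_add, map_smul, map_smul, P0_mul_odd Q _ _ U.ζ_odd] at this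
      exact this.symm
    have e2 : u₀ = -((↑α⁻¹ : R) * b₁) • (u₁ * U.ζ) := by
      have := congrArg (fun x => (↑α⁻¹ : R) • x) e1
      simp only [smul_add, smul_zero, smul_smul] at this
      rw [← hα, Units.inv_mul, one_smul] at this
      rw [neg_smul, eq_neg_iff_add_eq_zero]
      exact this
    have hw : u₁ * U.ζi ∈ evenOdd Q 0 := odd_mul_odd' _ _ h1 U.ζi_odd
    have hw1 : U.ζ * (u₁ * U.ζi) = u₁ := by
      rw [← U.comm, mul_assoc, U.inv_mul, mul_one]
    refine decomp_of_eq Q u hu (U.ζ * (1 + -((↑α⁻¹ : R) * b₁) • U.ζ)) (u₁ * U.ζi)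
      (Subalgebra.mul_mem _ U.ζ_central
        (Subalgebra.add_mem _ (Subalgebra.one_mem _) (Subalgebra.smul_mem _ U.ζ_central _))) hw ?_
    have hcomm : U.ζ * (1 + -((↑α⁻¹ : R) * b₁) • U.ζ) * (u₁ * U.ζi) =
        (1 + -((↑α⁻¹ : R) * b₁) • U.ζ) * (U.ζ * (u₁ * U.ζi)) := by
      rw [← U.comm (1 + -((↑α⁻¹ : R) * b₁) • U.ζ), mul_assoc]
    rw [hcomm, hw1, add_mul, one_mul, smul_mul_assoc, ← U.comm u₁, ← e2, add_comm, hsum]

end Groth.Agent.Lib.Seat37.CliffGSpin
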