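import Mathlib
import Groth.Prelude.Def_QuadGrp
import Groth.Agent.Lib.Seat37CliffGrade

/-!
# Vectors of unit value as units of the Clifford algebra (seat 37)

For `v` with `c * Q v = 1`:
* `negRefl Q v c : M ≃ₗ[R] M`, `x ↦ -x + (c * polar Q v x) • v` (minus the reflection in `v`), an
  isometry (`negRefl_mem_O`);
* `ιUnit Q v c hc : (CliffordAlgebra Q)ˣ` with value `ι Q v`, odd, and
  `ιUnit_conj : ι v * ι x * (ι v)⁻¹ = ι (negRefl x)`;
* `exists_isUnit_value`: over a local ring a regular form on a nonzero free module takes a unit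
  value.
-/

set_option autoImplicit false
universe u v

namespace Groth.Agent.Lib.Seat37.CliffReflect

open CliffordAlgebra QuadGrp

variable {R : Type u} [CommRing R] {M : Type v} [AddCommGroup M] [Module R M]
variable (Q : QuadraticForm R M)

/-- `x ↦ -x + (c * polar Q v x) • v` -/
noncomputable def negReflLin (v : M) (c : R) : M →ₗ[R] M :=
  -LinearMap.id + (c • QuadraticMap.polarBilin Q v).smulRight v

theorem negReflLin_apply (v : M) (c : R) (x : M) :
    negReflLin Q v c x = -x + (c * QuadraticMap.polar Q v x) • v := by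
  simp [negReflLin]

theorem negReflLin_negReflLin (v : M) (c : R) (hc : c * Q v = 1) (x : M) :
    negReflLin Q v c (negReflLin Q v c x) = x := by
  rw [negReflLin_apply, negReflLin_apply]
  have h1 : QuadraticMap.polar Q v (-x + (c * QuadraticMap.polar Q v x) • v) =
      -QuadraticMap.polar Q v x + (c * QuadraticMap.polar Q v x) * (2 * Q v) := by
    rw [QuadraticMap.polar_add_right, QuadraticMap.polar_neg_right, QuadraticMap.polar_smul_right,
      QuadraticMap.polar_self, smul_eq_mul, two_smul, two_mul]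
  rw [h1]
  have h2 : c * (-QuadraticMap.polar Q v x + c * QuadraticMap.polar Q v x * (2 * Q v)) =
      c * QuadraticMap.polar Q v x := by
    linear_combination (2 * c * QuadraticMap.polar Q v x) * hc
  rw [h2, neg_add, neg_neg, add_assoc, neg_add_cancel, add_zero]

/-- minus the reflection in `v` -/
noncomputable def negRefl (v : M) (c : R) (hc : c * Q v = 1) : M ≃ₗ[R] M :=
  LinearEquiv.ofLinearMap (negReflLin Q v c) (negReflLin Q v c)
    (LinearMap.ext fun x => negReflLin_negReflLin Q v c hc x)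
    (LinearMap.ext fun x => negReflLin_negReflLin Q v c hc x)

theorem negRefl_apply (v : M) (c : R) (hc : c * Q v = 1) (x : M) :
    negRefl Q v c hc x = -x + (c * QuadraticMap.polar Q v x) • v :=
  negReflLin_apply Q v c x

theorem negRefl_mem_O (v : M) (c : R) (hc : c * Q v = 1) : negRefl Q v c hc ∈ O Q := by
  intro x
  rw [negRefl_apply]
  have h := QuadraticMap.polar_add_right Q (-x) (0 : M) ((c * QuadraticMap.polar Q v x) • v)
  have e : Q (-x + (c * QuadraticMap.polar Q v x) • v) =
      Q (-x) + Q ((c * QuadraticMap.polar Q v x) • v) +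
        QuadraticMap.polar Q (-x) ((c * QuadraticMap.polar Q v x) • v) := by
    unfold QuadraticMap.polar
    ring
  rw [e, QuadraticMap.map_neg, QuadraticMap.map_smul, QuadraticMap.polar_neg_left,
    QuadraticMap.polar_smul_right, QuadraticMap.polar_comm Q x v, smul_eq_mul, smul_eq_mul]
  linear_combination (c * QuadraticMap.polar Q v x * QuadraticMap.polar Q v x) * hc

/-- the unit `ι v` -/
noncomputable def ιUnit (v : M) (c : R) (hc : c * Q v = 1) : (CliffordAlgebra Q)ˣ where
  val := ι Q v
  inv := c • ι Q v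
  val_inv := by
    rw [mul_smul_comm, ι_sq_scalar, Algebra.smul_def, ← map_mul, hc, map_one]
  inv_val := by
    rw [smul_mul_assoc, ι_sq_scalar, Algebra.smul_def, ← map_mul, hc, map_one]

@[simp] theorem ιUnit_val (v : M) (c : R) (hc : c * Q v = 1) :
    ((ιUnit Q v c hc : (CliffordAlgebra Q)ˣ) : CliffordAlgebra Q) = ι Q v := rfl

theorem ιUnit_inv (v : M) (c : R) (hc : c * Q v = 1) :
    ((ιUnit Q v c hc)⁻¹ : (CliffordAlgebra Q)ˣ).val = c • ι Q v := rfl

theorem ιUnit_odd (v : M) (c : R) (hc : c * Q v = 1) :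
    ((ιUnit Q v c hc : (CliffordAlgebra Q)ˣ) : CliffordAlgebra Q) ∈ evenOdd Q 1 :=
  ι_mem_evenOdd_one Q v

theorem ιUnit_conj (v : M) (c : R) (hc : c * Q v = 1) (x : M) :
    ((ιUnit Q v c hc : (CliffordAlgebra Q)ˣ) : CliffordAlgebra Q) * ι Q x *
      ((ιUnit Q v c hc)⁻¹ : (CliffordAlgebra Q)ˣ).val = ι Q (negRefl Q v c hc x) := by
  rw [ιUnit_val, ιUnit_inv, negRefl_apply, map_add, map_neg, map_smul]
  have h1 : ι Q v * ι Q x = algebraMap R _ (QuadraticMap.polar Q v x) - ι Q x * ι Q v :=
    eq_sub_of_add_eq (ι_mul_ι_add_swap v x)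
  rw [h1, mul_smul_comm, sub_mul, mul_assoc, ι_sq_scalar, smul_sub, ← Algebra.smul_def,
    ← Algebra.commutes, ← Algebra.smul_def, smul_smul, smul_smul, hc, one_smul]
  abel

theorem exists_isUnit_value [IsLocalRing R] {n : ℕ} (b : Module.Basis (Fin n) R M) (hn : 0 < n)
    (hQ : IsRegular Q) : ∃ v : M, IsUnit (Q v) := by
  by_contra hcon
  push Not at hcon
  obtain ⟨x, hx⟩ := hQ.2 (b.coord ⟨0, hn⟩)
  have h1 : QuadraticMap.polar Q x (b ⟨0, hn⟩) = 1 := by
    have := congrArg (fun f : Module.Dual R M => f (b ⟨0, hn⟩)) hx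
    simp only [QuadraticMap.polarBilin_apply_apply, Module.Basis.coord_apply,
      Module.Basis.repr_self, Finsupp.single_eq_same] at this
    exact this
  have hmem : ∀ y : M, Q y ∈ IsLocalRing.maximalIdeal R := fun y =>
    (IsLocalRing.mem_maximalIdeal _).mpr (hcon y)
  have h2 : QuadraticMap.polar Q x (b ⟨0, hn⟩) ∈ IsLocalRing.maximalIdeal R := by
    unfold QuadraticMap.polar
    exact Ideal.sub_mem _ (Ideal.sub_mem _ (hmem _) (hmem _)) (hmem _)
  rw [h1] at h2
  exact (IsLocalRing.maximalIdeal.isMaximal R).ne_top ((Ideal.eq_top_iff_one _).mpr h2)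

end Groth.Agent.Lib.Seat37.CliffReflect
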