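import Mathlib

/-!
# Algebra for homomorphisms from diagonalisable groups modulo a square-zero ideal

Pure ring theory used in `Seat37DiagKer`: factoring ring maps through injective ring maps,
trivial square-zero extensions `B ⊕ N` mapping to a `B`-algebra `C`, and the case `C = B[G]`,
`N = J[G]` for a square-zero ideal `J` of `B`.
-/

set_option autoImplicit false
set_option linter.unusedSectionVars false
universe u

namespace Groth.Agent.Lib.Seat37.DiagKerAlg

open TrivSqZeroExt

section Factor

/-- A ring map whose values lie in the range of an injective ring map factors through it. -/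
theorem exists_ringHom_factor {P T T' : Type*} [CommRing P] [CommRing T] [CommRing T']
    (g : T →+* T') (hg : Function.Injective g) (f : P →+* T') (hf : ∀ p, f p ∈ g.range) :
    ∃ β : P →+* T, g.comp β = f := by
  let e : T ≃+* g.range := RingEquiv.ofBijective g.rangeRestrict
    ⟨fun x y hxy => hg (congrArg Subtype.val hxy), g.rangeRestrict_surjective⟩
  refine ⟨e.symm.toRingHom.comp (f.codRestrict g.range hf), ?_⟩
  ext p
  have h1 : ∀ y : g.range, g (e.symm y) = (y : T') := by
    intro y
    have : (e (e.symm y) : T') = g (e.symm y) := rfl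
    rw [← this, e.apply_symm_apply]
  simp only [RingHom.coe_comp, Function.comp_apply, RingEquiv.toRingHom_eq_coe, RingHom.coe_coe]
  rw [h1]
  rfl

/-- A surjective ring map whose kernel consists of square-zero elements is surjective on spectra. -/
theorem comap_surjective_of_sqZero_ker {T T₀ : Type*} [CommRing T] [CommRing T₀] (q : T →+* T₀)
    (hq : Function.Surjective q) (hker : ∀ t, q t = 0 → t * t = 0) :
    Function.Surjective (PrimeSpectrum.comap q) := by
  intro x
  have h1 : Set.range (PrimeSpectrum.comap q) = PrimeSpectrum.zeroLocus (RingHom.ker q) :=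
    _root_.range_comap_of_surjective _ _ hq
  have h2 : x ∈ PrimeSpectrum.zeroLocus (RingHom.ker q : Set T) := by
    rw [PrimeSpectrum.mem_zeroLocus]
    intro t ht
    have h3 : t * t ∈ x.asIdeal := by
      rw [hker t ht]; exact zero_mem _
    exact (x.isPrime.mem_or_mem h3).elim id id
  rw [← h1] at h2
  exact h2

end Factor

section Tsze

variable {B : Type u} [CommRing B] {N : Type u} [AddCommGroup N] [Module B N] [Module Bᵐᵒᵖ N]
  [IsCentralScalar B N] {C : Type u} [CommRing C] [Algebra B C]

/-- The algebra map `B ⊕ N → C`, `(b, n) ↦ b + ℓ n`, for a linear map `ℓ : N → C` with square-zero image. -/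
noncomputable def kap (ℓ : N →ₗ[B] C) (hℓ : ∀ x y, ℓ x * ℓ y = 0) : TrivSqZeroExt B N →ₐ[B] C :=
  TrivSqZeroExt.liftEquivOfComm ⟨ℓ, hℓ⟩

theorem kap_apply (ℓ : N →ₗ[B] C) (hℓ : ∀ x y, ℓ x * ℓ y = 0) (x : TrivSqZeroExt B N) :
    kap ℓ hℓ x = algebraMap B C x.fst + ℓ x.snd := rfl

theorem fst_kap_injective (ℓ : N →ₗ[B] C) (hℓ : ∀ x y, ℓ x * ℓ y = 0) (hinj : Function.Injective ℓ) :
    Function.Injective
      (((TrivSqZeroExt.fstHom B B N).toRingHom).prod (kap ℓ hℓ).toRingHom) := by
  intro x y hxy
  have h1 : x.fst = y.fst := congrArg (fun t : B × C => t.1) hxy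
  have h2 : kap ℓ hℓ x = kap ℓ hℓ y := congrArg (fun t : B × C => t.2) hxy
  rw [kap_apply, kap_apply, h1] at h2
  have h3 : x.snd = y.snd := hinj (add_left_cancel h2)
  exact TrivSqZeroExt.ext h1 h3

theorem comap_fst_surjective :
    Function.Surjective (PrimeSpectrum.comap (TrivSqZeroExt.fstHom B B N).toRingHom) := by
  apply comap_surjective_of_sqZero_ker
  · intro b
    exact ⟨TrivSqZeroExt.inl b, rfl⟩
  · intro t ht
    have h0 : t.fst = 0 := ht
    apply TrivSqZeroExt.ext
    · simp [h0]
    · simp [h0]

end Tsze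

section MonAlg

variable {B : Type u} [CommRing B] (J : Ideal B) (G : Type) [CommMonoid G]

/-- The inclusion `J[G] → B[G]`, as a `B`-linear map out of finitely supported functions. -/
noncomputable def ell : (G →₀ J) →ₗ[B] MonoidAlgebra B G :=
  (MonoidAlgebra.coeffLinearEquiv B).symm.toLinearMap ∘ₗ Finsupp.mapRange.linearMap J.subtype

theorem coeff_ell (n : G →₀ J) (g : G) : (ell J G n).coeff g = (n g : B) := by
  simp [ell]

theorem ell_single (g : G) (j : J) : ell J G (Finsupp.single g j) = MonoidAlgebra.single g (j : B) := by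
  apply MonoidAlgebra.coeff_injective
  ext g'
  rw [coeff_ell, MonoidAlgebra.coeff_single]
  classical
  simp only [Finsupp.single_apply]
  split_ifs <;> simp

theorem ell_injective : Function.Injective (ell J G) := by
  intro x y hxy
  ext g
  have := congrArg (fun c => c.coeff g) hxy
  simpa [coeff_ell] using this

theorem ell_mul (hJ : J * J = ⊥) (x y : G →₀ J) : ell J G x * ell J G y = 0 := by
  induction x using Finsupp.induction_linear with
  | zero => simp
  | add x x' hx hx' => rw [map_add, add_mul, hx, hx', add_zero]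
  | single g j =>
    induction y using Finsupp.induction_linear with
    | zero => simp
    | add y y' hy hy' => rw [map_add, mul_add, hy, hy', add_zero]
    | single g' j' =>
      rw [ell_single, ell_single, MonoidAlgebra.single_mul_single]
      have h : (j : B) * (j' : B) ∈ J * J := Ideal.mul_mem_mul j.2 j'.2
      rw [hJ, Ideal.mem_bot] at h
      rw [h]
      simp

theorem mem_range_ell_iff (c : MonoidAlgebra B G) :
    c ∈ LinearMap.range (ell J G) ↔ ∀ g, c.coeff g ∈ J := by
  constructor
  · rintro ⟨n, rfl⟩ g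
    rw [coeff_ell]
    exact (n g).2
  · intro h
    have h1 : c.coeff ∈ Set.range (Finsupp.mapRange (α := G) J.subtype (map_zero _)) := by
      rw [Finsupp.range_mapRange]
      intro g
      exact ⟨⟨c.coeff g, h g⟩, rfl⟩
    obtain ⟨n, hn⟩ := h1
    refine ⟨n, ?_⟩
    apply MonoidAlgebra.coeff_injective
    ext g
    rw [coeff_ell, ← hn]
    rfl

theorem mapRingHom_eq_zero_iff {B₀ : Type u} [CommRing B₀] (q : B →+* B₀) (c : MonoidAlgebra B G) :
    MonoidAlgebra.mapRingHom G q c = 0 ↔ ∀ g, c.coeff g ∈ RingHom.ker q := by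
  rw [← MonoidAlgebra.coeff_inj]
  constructor
  · intro h g
    have := DFunLike.congr_fun h g
    rw [MonoidAlgebra.coeff_mapRingHom] at this
    exact this
  · intro h
    ext g
    rw [MonoidAlgebra.coeff_mapRingHom]
    exact h g

variable {G} in
theorem ell_mapDomain {G' : Type} [CommMonoid G'] (f : G →* G') (n : G →₀ J) :
    ell J G' (Finsupp.lmapDomain J B f n) = MonoidAlgebra.mapDomainAlgHom B B f (ell J G n) := by
  induction n using Finsupp.induction_linear with
  | zero => simp
  | add x y hx hy => rw [map_add, map_add, hx, hy, map_add, map_add]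
  | single g j =>
    rw [Finsupp.lmapDomain_apply, Finsupp.mapDomain_single, ell_single, ell_single]
    simp

end MonAlg

section Coeff

variable {B : Type u} [CommRing B] (J : Ideal B) (G : Type) [CommMonoid G]

theorem lapply_comp_diag (m : G) :
    (Finsupp.lapply (m, m) : (G × G →₀ J) →ₗ[B] J) ∘ₗ
      Finsupp.lmapDomain J B (fun g : G => (g, g)) = Finsupp.lapply m := by
  ext n
  have hinj : Function.Injective (fun g : G => (g, g)) := fun a b h => congrArg Prod.fst h
  simp only [LinearMap.coe_comp, Function.comp_apply, Finsupp.lapply_apply, Finsupp.lmapDomain_apply]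
  rw [Finsupp.mapDomain_apply hinj]

theorem lapply_comp_inl_of_ne (m : G) (hm : m ≠ 1) :
    (Finsupp.lapply (m, m) : (G × G →₀ J) →ₗ[B] J) ∘ₗ
      Finsupp.lmapDomain J B (fun g : G => (g, (1 : G))) = 0 := by
  ext n
  simp only [LinearMap.coe_comp, Function.comp_apply, Finsupp.lapply_apply, Finsupp.lmapDomain_apply,
    LinearMap.zero_apply]
  rw [Finsupp.mapDomain_of_notMem_range]
  rintro ⟨g, hg⟩
  exact hm (congrArg Prod.snd hg).symm

theorem lapply_comp_inr_of_ne (m : G) (hm : m ≠ 1) :
    (Finsupp.lapply (m, m) : (G × G →₀ J) →ₗ[B] J) ∘ₗ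
      Finsupp.lmapDomain J B (fun g : G => ((1 : G), g)) = 0 := by
  ext n
  simp only [LinearMap.coe_comp, Function.comp_apply, Finsupp.lapply_apply, Finsupp.lmapDomain_apply,
    LinearMap.zero_apply]
  rw [Finsupp.mapDomain_of_notMem_range]
  rintro ⟨g, hg⟩
  exact hm (congrArg Prod.fst hg).symm

theorem lapply_comp_inl_one :
    (Finsupp.lapply ((1 : G), (1 : G)) : (G × G →₀ J) →ₗ[B] J) ∘ₗ
      Finsupp.lmapDomain J B (fun g : G => (g, (1 : G))) = Finsupp.lapply 1 := by
  ext n
  have hinj : Function.Injective (fun g : G => (g, (1 : G))) := fun a b h => congrArg Prod.fst h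
  simp only [LinearMap.coe_comp, Function.comp_apply, Finsupp.lapply_apply, Finsupp.lmapDomain_apply]
  rw [show ((1 : G), (1 : G)) = (fun g : G => (g, (1 : G))) 1 from rfl, Finsupp.mapDomain_apply hinj]

theorem lapply_comp_inr_one :
    (Finsupp.lapply ((1 : G), (1 : G)) : (G × G →₀ J) →ₗ[B] J) ∘ₗ
      Finsupp.lmapDomain J B (fun g : G => ((1 : G), g)) = Finsupp.lapply 1 := by
  ext n
  have hinj : Function.Injective (fun g : G => ((1 : G), g)) := fun a b h => congrArg Prod.snd h
  simp only [LinearMap.coe_comp, Function.comp_apply, Finsupp.lapply_apply, Finsupp.lmapDomain_apply]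
  rw [show ((1 : G), (1 : G)) = (fun g : G => ((1 : G), g)) 1 from rfl, Finsupp.mapDomain_apply hinj]

end Coeff

end Groth.Agent.Lib.Seat37.DiagKerAlg
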