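import Mathlib

/-!
# Surjective, quasi-compact, scheme-theoretically dominant morphisms are epimorphisms of schemes
-/

set_option autoImplicit false
universe u

open CategoryTheory AlgebraicGeometry

namespace Groth.Agent.Lib.Seat37.EpiDominant

/-- A surjective quasi-compact scheme-theoretically dominant morphism is an epimorphism of schemes. -/
theorem epi_of_surjective_of_dominant {W Z : Scheme.{u}} (p : W ⟶ Z) [Surjective p] [QuasiCompact p]
    [IsSchemeTheoreticallyDominant p] : Epi p := by
  constructor
  intro G a b e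
  have hbase : a.base = b.base := by
    apply TopCat.hom_ext
    apply ContinuousMap.ext
    intro z
    obtain ⟨w, rfl⟩ := p.surjective z
    have := congrArg (fun t : W ⟶ G => t.base w) e
    simpa using this
  apply Scheme.Hom.ext hbase
  intro U
  have hV : b ⁻¹ᵁ U ≤ a ⁻¹ᵁ U := by
    intro z hz
    show a.base z ∈ U
    rw [hbase]
    exact hz
  have hinj : Function.Injective (p.app (b ⁻¹ᵁ U)) := p.app_injective _
  haveI : Mono (p.app (b ⁻¹ᵁ U)) := ConcreteCategory.mono_of_injective _ hinj
  rw [← cancel_mono (p.app (b ⁻¹ᵁ U))]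
  have h1 : a.app U ≫ Z.presheaf.map (eqToHom congr((TopologicalSpace.Opens.map $hbase.symm).obj U)).op =
      a.appLE U (b ⁻¹ᵁ U) hV := by
    rw [Scheme.Hom.appLE]
    congr 2
  rw [h1, p.app_eq_appLE, b.app_eq_appLE, Scheme.Hom.appLE_comp_appLE, Scheme.Hom.appLE_comp_appLE]
  simp only [e]

end Groth.Agent.Lib.Seat37.EpiDominant
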