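import Mathlib
import Groth.Prelude.Def_LieS
import Groth.Agent.Lib.Seat37EpiDominant

/-!
# Gluing dual-number points: `Spec B[ε] ⊔ Spec B[ε'] → Spec B[ε,ε']/(εε')` is jointly epimorphic

Consequence: for a monoid scheme `X` and a dual-number point `v` restricting to the unit,
`(a • v) * (b • v) = (a + b) • v`.
-/

set_option autoImplicit false
universe u

open CategoryTheory AlgebraicGeometry MonObj LieS

namespace Groth.Agent.Lib.Seat37.DualGlue

open Groth.Agent.Lib.Seat37.EpiDominant

section JointEpi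

/-- `Spec` of an injective ring map which is surjective on spectra is an epimorphism of schemes. -/
theorem epi_specMap_of_injective {R R' : Type u} [CommRing R] [CommRing R'] (ψ : R →+* R')
    (hinj : Function.Injective ψ) (hsurj : Function.Surjective (PrimeSpectrum.comap ψ)) :
    Epi (Spec.map (CommRingCat.ofHom ψ)) := by
  set φ := CommRingCat.ofHom ψ with hφ
  haveI : Surjective (Spec.map φ) := ⟨hsurj⟩
  haveI : IsSchemeTheoreticallyDominant (Spec.map φ) := by
    constructor
    rw [Scheme.ker_of_isAffine]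
    have hnat := Scheme.ΓSpecIso_naturality φ
    have e1 : (Spec.map φ).appTop =
        (Scheme.ΓSpecIso _).hom ≫ φ ≫ (Scheme.ΓSpecIso _).inv := by
      rw [← Category.assoc, ← hnat, Category.assoc, Iso.hom_inv_id, Category.comp_id]
    have i1 : Function.Injective (Scheme.ΓSpecIso (CommRingCat.of R)).hom :=
      (ConcreteCategory.bijective_of_isIso _).1
    have i2 : Function.Injective (Scheme.ΓSpecIso (CommRingCat.of R')).inv :=
      (ConcreteCategory.bijective_of_isIso _).1
    have hinj' : Function.Injective (Spec.map φ).appTop.hom := by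
      rw [e1]
      intro a b hab
      apply i1
      apply hinj
      apply i2
      exact hab
    rw [(RingHom.injective_iff_ker_eq_bot _).1 hinj']
    exact map_bot (Scheme.IdealSheafData.equivOfIsAffine (X := Spec (CommRingCat.of R))).symm
  exact epi_of_surjective_of_dominant _

/-- Two morphisms out of `Spec R` agreeing on `Spec R₁` and `Spec R₂` are equal, if `R → R₁ × R₂` is injective
and `Spec R₁ → Spec R` is surjective. -/
theorem hom_ext_of_prod_injective {R R₁ R₂ : Type u} [CommRing R] [CommRing R₁] [CommRing R₂]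
    (φ₁ : R →+* R₁) (φ₂ : R →+* R₂) (hinj : Function.Injective (φ₁.prod φ₂))
    (hsurj : Function.Surjective (PrimeSpectrum.comap φ₁))
    {G : Scheme.{u}} (a b : Spec (CommRingCat.of R) ⟶ G)
    (h₁ : Spec.map (CommRingCat.ofHom φ₁) ≫ a = Spec.map (CommRingCat.ofHom φ₁) ≫ b)
    (h₂ : Spec.map (CommRingCat.ofHom φ₂) ≫ a = Spec.map (CommRingCat.ofHom φ₂) ≫ b) : a = b := by
  have hsurj' : Function.Surjective (PrimeSpectrum.comap (φ₁.prod φ₂)) := by
    intro x
    obtain ⟨y, rfl⟩ := hsurj x
    refine ⟨PrimeSpectrum.comap (RingHom.fst R₁ R₂) y, ?_⟩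
    rw [← PrimeSpectrum.comap_comp_apply]
    rfl
  haveI := epi_specMap_of_injective (φ₁.prod φ₂) hinj hsurj'
  rw [← cancel_epi (Spec.map (CommRingCat.ofHom (φ₁.prod φ₂))), ← cancel_epi (coprodSpec R₁ R₂)]
  apply Limits.coprod.hom_ext
  · rw [coprodSpec_inl_assoc, coprodSpec_inl_assoc, ← Category.assoc, ← Category.assoc,
      ← Spec.map_comp, ← CommRingCat.ofHom_comp]
    exact h₁
  · rw [coprodSpec_inr_assoc, coprodSpec_inr_assoc, ← Category.assoc, ← Category.assoc,
      ← Spec.map_comp, ← CommRingCat.ofHom_comp]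
    exact h₂

end JointEpi

section Rings

variable (B : Type u) [CommRing B]

/-- The ring `B[ε, ε'] / (ε ε')`. -/
abbrev R2 : Type u := TrivSqZeroExt B (B × B)

/-- `ε ↦ a ε + b ε'`. -/
noncomputable def sigHom (a b : B) : DualNumber B →+* R2 B :=
  (TrivSqZeroExt.map (LinearMap.prod (a • (LinearMap.id : B →ₗ[B] B))
    (b • (LinearMap.id : B →ₗ[B] B)))).toRingHom

/-- `ε' ↦ 0`. -/
noncomputable def j1Hom : R2 B →+* DualNumber B :=
  (TrivSqZeroExt.map (LinearMap.fst B B B)).toRingHom

/-- `ε ↦ 0`, `ε' ↦ ε`. -/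
noncomputable def j2Hom : R2 B →+* DualNumber B :=
  (TrivSqZeroExt.map (LinearMap.snd B B B)).toRingHom

/-- `ε, ε' ↦ ε`. -/
noncomputable def diagHom : R2 B →+* DualNumber B :=
  (TrivSqZeroExt.map (LinearMap.fst B B B + LinearMap.snd B B B)).toRingHom

variable {B}

theorem scaleHom_apply_fst (b : B) (x : DualNumber B) : (scaleHom b x).fst = x.fst := by
  simp [scaleHom, TrivSqZeroExt.algebraMap_eq_inl']

theorem scaleHom_apply_snd (b : B) (x : DualNumber B) : (scaleHom b x).snd = b * x.snd := by
  simp [scaleHom, TrivSqZeroExt.algebraMap_eq_inl', mul_comm]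

theorem j1Hom_comp_sigHom (a b : B) : (j1Hom B).comp (sigHom B a b) = scaleHom a := by
  apply RingHom.ext
  intro x
  apply TrivSqZeroExt.ext
  · rw [scaleHom_apply_fst]; simp [j1Hom, sigHom]
  · rw [scaleHom_apply_snd]; simp [j1Hom, sigHom]

theorem j2Hom_comp_sigHom (a b : B) : (j2Hom B).comp (sigHom B a b) = scaleHom b := by
  apply RingHom.ext
  intro x
  apply TrivSqZeroExt.ext
  · rw [scaleHom_apply_fst]; simp [j2Hom, sigHom]
  · rw [scaleHom_apply_snd]; simp [j2Hom, sigHom]

theorem diagHom_comp_sigHom (a b : B) : (diagHom B).comp (sigHom B a b) = scaleHom (a + b) := by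
  apply RingHom.ext
  intro x
  apply TrivSqZeroExt.ext
  · rw [scaleHom_apply_fst]; simp [diagHom, sigHom]
  · rw [scaleHom_apply_snd]; simp [diagHom, sigHom, add_mul]

theorem sigHom_comp_algebraMap (a b : B) :
    (sigHom B a b).comp (algebraMap B (DualNumber B)) = algebraMap B (R2 B) :=
  (TrivSqZeroExt.map _).comp_algebraMap

theorem j1Hom_comp_algebraMap : (j1Hom B).comp (algebraMap B (R2 B)) = algebraMap B (DualNumber B) :=
  (TrivSqZeroExt.map _).comp_algebraMap

theorem j2Hom_comp_algebraMap : (j2Hom B).comp (algebraMap B (R2 B)) = algebraMap B (DualNumber B) :=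
  (TrivSqZeroExt.map _).comp_algebraMap

theorem diagHom_comp_algebraMap :
    (diagHom B).comp (algebraMap B (R2 B)) = algebraMap B (DualNumber B) :=
  (TrivSqZeroExt.map _).comp_algebraMap

theorem prod_injective : Function.Injective ((j1Hom B).prod (j2Hom B)) := by
  intro x y h
  have h1 := congrArg Prod.fst h
  have h2 := congrArg Prod.snd h
  simp only [RingHom.prod_apply] at h1 h2
  apply TrivSqZeroExt.ext
  · have := congrArg TrivSqZeroExt.fst h1
    simpa [j1Hom] using this
  · apply Prod.ext
    · have := congrArg TrivSqZeroExt.snd h1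
      simpa [j1Hom] using this
    · have := congrArg TrivSqZeroExt.snd h2
      simpa [j2Hom] using this

theorem comap_j1Hom_surjective : Function.Surjective (PrimeSpectrum.comap (j1Hom B)) := by
  have hsurj : Function.Surjective (j1Hom B) := by
    intro x
    refine ⟨TrivSqZeroExt.inl x.fst + TrivSqZeroExt.inr (x.snd, 0), ?_⟩
    apply TrivSqZeroExt.ext <;> simp [j1Hom]
  have hker : RingHom.ker (j1Hom B) ≤ nilradical (R2 B) := by
    intro x hx
    rw [RingHom.mem_ker] at hx
    have h0 : x.fst = 0 := by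
      have := congrArg TrivSqZeroExt.fst hx
      simpa [j1Hom] using this
    rw [mem_nilradical]
    refine ⟨2, ?_⟩
    apply TrivSqZeroExt.ext <;> simp [pow_two, h0]
  intro p
  have hle : RingHom.ker (j1Hom B) ≤ p.asIdeal :=
    hker.trans (nilradical_le_prime p.asIdeal)
  have hmem : p ∈ Set.range (PrimeSpectrum.comap (j1Hom B)) := by
    rw [range_comap_of_surjective _ _ hsurj, PrimeSpectrum.mem_zeroLocus]
    exact hle
  exact hmem

theorem scaleHom_zero : scaleHom (0 : B) =
    (algebraMap B (DualNumber B)).comp (TrivSqZeroExt.fstHom B B B).toRingHom := by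
  apply RingHom.ext
  intro x
  apply TrivSqZeroExt.ext
  · rw [scaleHom_apply_fst]; simp [TrivSqZeroExt.algebraMap_eq_inl']
  · rw [scaleHom_apply_snd]; simp [TrivSqZeroExt.algebraMap_eq_inl']

theorem scaleHom_one : scaleHom (1 : B) = RingHom.id (DualNumber B) := by
  apply RingHom.ext
  intro x
  apply TrivSqZeroExt.ext
  · rw [scaleHom_apply_fst]; rfl
  · rw [scaleHom_apply_snd, _root_.one_mul]; rfl

end Rings

section Schemes

variable {S : Scheme.{u}} (B : Type u) [CommRing B] (f : Spec (CommRingCat.of B) ⟶ S)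

/-- `Spec B[ε, ε'] / (ε ε')` over `S`. -/
noncomputable def r2pt : Over S := Over.mk (Spec.map (CommRingCat.ofHom (algebraMap B (R2 B))) ≫ f)

/-- `ε ↦ a ε + b ε'`. -/
noncomputable def sig (a b : B) : r2pt B f ⟶ dpt B f :=
  Over.homMk (Spec.map (CommRingCat.ofHom (sigHom B a b))) (by
    change Spec.map _ ≫ Spec.map _ ≫ f = Spec.map _ ≫ f
    rw [← Category.assoc, specMap_comp, sigHom_comp_algebraMap])

noncomputable def j1 : dpt B f ⟶ r2pt B f :=
  Over.homMk (Spec.map (CommRingCat.ofHom (j1Hom B))) (by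
    change Spec.map _ ≫ Spec.map _ ≫ f = Spec.map _ ≫ f
    rw [← Category.assoc, specMap_comp, j1Hom_comp_algebraMap])

noncomputable def j2 : dpt B f ⟶ r2pt B f :=
  Over.homMk (Spec.map (CommRingCat.ofHom (j2Hom B))) (by
    change Spec.map _ ≫ Spec.map _ ≫ f = Spec.map _ ≫ f
    rw [← Category.assoc, specMap_comp, j2Hom_comp_algebraMap])

noncomputable def diag : dpt B f ⟶ r2pt B f :=
  Over.homMk (Spec.map (CommRingCat.ofHom (diagHom B))) (by
    change Spec.map _ ≫ Spec.map _ ≫ f = Spec.map _ ≫ f
    rw [← Category.assoc, specMap_comp, diagHom_comp_algebraMap])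

theorem j1_sig (a b : B) : j1 B f ≫ sig B f a b = scale B f a := by
  ext
  change Spec.map _ ≫ Spec.map _ = Spec.map _
  rw [specMap_comp, j1Hom_comp_sigHom]

theorem j2_sig (a b : B) : j2 B f ≫ sig B f a b = scale B f b := by
  ext
  change Spec.map _ ≫ Spec.map _ = Spec.map _
  rw [specMap_comp, j2Hom_comp_sigHom]

theorem diag_sig (a b : B) : diag B f ≫ sig B f a b = scale B f (a + b) := by
  ext
  change Spec.map _ ≫ Spec.map _ = Spec.map _
  rw [specMap_comp, diagHom_comp_sigHom]

theorem scale_zero : scale B f 0 = proj B f ≫ zeroSec B f := by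
  ext
  change Spec.map _ = Spec.map _ ≫ Spec.map _
  rw [specMap_comp, scaleHom_zero]

theorem scale_one : scale B f 1 = 𝟙 _ := by
  ext
  change Spec.map _ = 𝟙 _
  rw [scaleHom_one, CommRingCat.ofHom_id]
  erw [Spec.map_id]

/-- `j1` and `j2` are jointly epimorphic. -/
theorem hom_ext_r2pt {X : Over S} (u u' : r2pt B f ⟶ X) (h1 : j1 B f ≫ u = j1 B f ≫ u')
    (h2 : j2 B f ≫ u = j2 B f ≫ u') : u = u' := by
  apply Over.OverMorphism.ext
  apply hom_ext_of_prod_injective (j1Hom B) (j2Hom B) prod_injective comap_j1Hom_surjective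
  · exact congrArg (fun t => t.left) h1
  · exact congrArg (fun t => t.left) h2

end Schemes

section Monoid

variable {S : Scheme.{u}} {B : Type u} [CommRing B] {f : Spec (CommRingCat.of B) ⟶ S}
  {X : Over S} [MonObj X]

theorem scale_zero_comp (v : dpt B f ⟶ X) (hv : zeroSec B f ≫ v = 1) : scale B f 0 ≫ v = 1 := by
  rw [scale_zero, Category.assoc, hv, MonObj.comp_one]

/-- The additivity of rescaling, in a monoid scheme. -/
theorem scale_add_comp (v : dpt B f ⟶ X) (hv : zeroSec B f ≫ v = 1) (a b : B) :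
    (scale B f a ≫ v) * (scale B f b ≫ v) = scale B f (a + b) ≫ v := by
  have key : sig B f a b ≫ v = (sig B f a 0 ≫ v) * (sig B f 0 b ≫ v) := by
    apply hom_ext_r2pt
    · rw [MonObj.comp_mul, ← Category.assoc, ← Category.assoc, ← Category.assoc, j1_sig, j1_sig,
        j1_sig, scale_zero_comp v hv, _root_.mul_one]
    · rw [MonObj.comp_mul, ← Category.assoc, ← Category.assoc, ← Category.assoc, j2_sig, j2_sig,
        j2_sig, scale_zero_comp v hv, _root_.one_mul]
  have h := congrArg (fun t => diag B f ≫ t) key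
  simp only [MonObj.comp_mul] at h
  rw [← Category.assoc, ← Category.assoc, ← Category.assoc, diag_sig, diag_sig, diag_sig,
    add_zero, zero_add] at h
  exact h.symm

end Monoid

end Groth.Agent.Lib.Seat37.DualGlue
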