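import Mathlib
import Groth.Agent.Lib.Seat37DualGlue

/-!
# Square-zero gluing: points congruent modulo a square-zero ideal
-/

set_option autoImplicit false
universe u

open CategoryTheory AlgebraicGeometry

namespace Groth.Agent.Lib.Seat37.SqZero

open Groth.Agent.Lib.Seat37.DualGlue

section Rings

variable {C : Type u} [CommRing C] {N N' : Type u} [AddCommGroup N] [Module C N] [Module Cᵐᵒᵖ N]
  [IsCentralScalar C N] [AddCommGroup N'] [Module C N'] [Module Cᵐᵒᵖ N'] [IsCentralScalar C N']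

/-- `(c, n) ↦ c + l n`, for a linear map `l` whose values multiply to zero. -/
def kHom (l : N →ₗ[C] C) (hl : ∀ x y, l x * l y = 0) : TrivSqZeroExt C N →+* C where
  toFun x := x.fst + l x.snd
  map_one' := by simp
  map_zero' := by simp
  map_add' x y := by
    simp only [TrivSqZeroExt.fst_add, TrivSqZeroExt.snd_add, map_add]
    ring
  map_mul' x y := by
    simp only [TrivSqZeroExt.fst_mul, TrivSqZeroExt.snd_mul, map_add, map_smul, smul_eq_mul,
      op_smul_eq_smul]
    have h := hl x.snd y.snd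
    linear_combination (-1 : C) * h

@[simp] theorem kHom_apply (l : N →ₗ[C] C) (hl : ∀ x y, l x * l y = 0) (x : TrivSqZeroExt C N) :
    kHom l hl x = x.fst + l x.snd := rfl

theorem kHom_comp_algebraMap (l : N →ₗ[C] C) (hl : ∀ x y, l x * l y = 0) :
    (kHom l hl).comp (algebraMap C (TrivSqZeroExt C N)) = RingHom.id C := by
  apply RingHom.ext
  intro c
  simp [TrivSqZeroExt.algebraMap_eq_inl]

theorem kHom_comp_map (l : N' →ₗ[C] C) (hl : ∀ x y, l x * l y = 0) (φ : N →ₗ[C] N') :
    (kHom l hl).comp (TrivSqZeroExt.map φ).toRingHom =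
      kHom (l ∘ₗ φ) (fun x y => hl (φ x) (φ y)) := by
  apply RingHom.ext
  intro x
  simp

theorem map_comp_algebraMap' (φ : N →ₗ[C] N') :
    (TrivSqZeroExt.map φ).toRingHom.comp (algebraMap C (TrivSqZeroExt C N)) =
      algebraMap C (TrivSqZeroExt C N') :=
  (TrivSqZeroExt.map φ).comp_algebraMap

theorem comap_kHom_surjective (l : N →ₗ[C] C) (hl : ∀ x y, l x * l y = 0) :
    Function.Surjective (PrimeSpectrum.comap (kHom l hl)) := by
  have hsurj : Function.Surjective (kHom l hl) := fun c => ⟨TrivSqZeroExt.inl c, by simp⟩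
  intro p
  have hle : RingHom.ker (kHom l hl) ≤ p.asIdeal := by
    intro x hx
    rw [RingHom.mem_ker, kHom_apply] at hx
    have h1 : x.fst = -l x.snd := by linear_combination hx
    have hfst : x.fst * x.fst = 0 := by
      rw [h1]
      have := hl x.snd x.snd
      linear_combination this
    have hinl : (TrivSqZeroExt.inl x.fst : TrivSqZeroExt C N) ∈ p.asIdeal := by
      have h2 : (TrivSqZeroExt.inl x.fst : TrivSqZeroExt C N) * TrivSqZeroExt.inl x.fst ∈
          p.asIdeal := by
        rw [← TrivSqZeroExt.inl_mul, hfst, TrivSqZeroExt.inl_zero]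
        exact zero_mem _
      exact (p.isPrime.mem_or_mem h2).elim id id
    have hinr : (TrivSqZeroExt.inr x.snd : TrivSqZeroExt C N) ∈ p.asIdeal := by
      have h2 : (TrivSqZeroExt.inr x.snd : TrivSqZeroExt C N) * TrivSqZeroExt.inr x.snd ∈
          p.asIdeal := by
        rw [TrivSqZeroExt.inr_mul_inr]
        exact zero_mem _
      exact (p.isPrime.mem_or_mem h2).elim id id
    rw [← TrivSqZeroExt.inl_fst_add_inr_snd_eq x]
    exact p.asIdeal.add_mem hinl hinr
  have hmem : p ∈ Set.range (PrimeSpectrum.comap (kHom l hl)) := by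
    rw [range_comap_of_surjective _ _ hsurj, PrimeSpectrum.mem_zeroLocus]
    exact hle
  exact hmem

end Rings

section JointEpi3

/-- Three-fold version of `hom_ext_of_prod_injective`. -/
theorem hom_ext_of_prod3_injective {R R₁ R₂ R₃ : Type u} [CommRing R] [CommRing R₁] [CommRing R₂]
    [CommRing R₃] (φ₁ : R →+* R₁) (φ₂ : R →+* R₂) (φ₃ : R →+* R₃)
    (hinj : Function.Injective (φ₁.prod (φ₂.prod φ₃)))
    (hsurj : Function.Surjective (PrimeSpectrum.comap φ₁))
    {G : Scheme.{u}} (a b : Spec (CommRingCat.of R) ⟶ G)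
    (h₁ : Spec.map (CommRingCat.ofHom φ₁) ≫ a = Spec.map (CommRingCat.ofHom φ₁) ≫ b)
    (h₂ : Spec.map (CommRingCat.ofHom φ₂) ≫ a = Spec.map (CommRingCat.ofHom φ₂) ≫ b)
    (h₃ : Spec.map (CommRingCat.ofHom φ₃) ≫ a = Spec.map (CommRingCat.ofHom φ₃) ≫ b) : a = b := by
  apply hom_ext_of_prod_injective φ₁ (φ₂.prod φ₃) hinj hsurj a b h₁
  rw [← cancel_epi (coprodSpec R₂ R₃)]
  apply Limits.coprod.hom_ext
  · rw [coprodSpec_inl_assoc, coprodSpec_inl_assoc, ← Category.assoc, ← Category.assoc,
      ← Spec.map_comp, ← CommRingCat.ofHom_comp]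
    exact h₂
  · rw [coprodSpec_inr_assoc, coprodSpec_inr_assoc, ← Category.assoc, ← Category.assoc,
      ← Spec.map_comp, ← CommRingCat.ofHom_comp]
    exact h₃

end JointEpi3

section Ideal

variable {C : Type u} [CommRing C] (I : Ideal C) (hI : I * I = ⊥)

include hI in
theorem subtype_mul_subtype (x y : I) : (x : C) * (y : C) = 0 := by
  have : (x : C) * (y : C) ∈ I * I := Ideal.mul_mem_mul x.2 y.2
  rwa [hI, Ideal.mem_bot] at this

/-- The inclusion `I → C` as a linear map. -/
abbrev incl : I →ₗ[C] C := Submodule.subtype I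

include hI in
theorem incl_mul (x y : I) : incl I x * incl I y = 0 := subtype_mul_subtype I hI x y

theorem zero_mul' {N : Type u} [AddCommGroup N] [Module C N] (x y : N) :
    (0 : N →ₗ[C] C) x * (0 : N →ₗ[C] C) y = 0 := by simp

include hI in
theorem fst_mul (x y : I × I) :
    (incl I ∘ₗ LinearMap.fst C I I) x * (incl I ∘ₗ LinearMap.fst C I I) y = 0 :=
  subtype_mul_subtype I hI _ _

include hI in
theorem snd_mul (x y : I × I) :
    (incl I ∘ₗ LinearMap.snd C I I) x * (incl I ∘ₗ LinearMap.snd C I I) y = 0 :=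
  subtype_mul_subtype I hI _ _

include hI in
theorem add_mul' (x y : I × I) :
    (incl I ∘ₗ LinearMap.fst C I I + incl I ∘ₗ LinearMap.snd C I I) x *
      (incl I ∘ₗ LinearMap.fst C I I + incl I ∘ₗ LinearMap.snd C I I) y = 0 := by
  have h : ∀ z : I × I, (incl I ∘ₗ LinearMap.fst C I I + incl I ∘ₗ LinearMap.snd C I I) z =
      ((z.1 + z.2 : I) : C) := fun z => rfl
  rw [h, h]
  exact subtype_mul_subtype I hI _ _

include hI in
theorem prod2_injective :
    Function.Injective ((kHom (0 : I →ₗ[C] C) (zero_mul')).prod (kHom (incl I) (incl_mul I hI))) := by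
  intro x y h
  have h1 := congrArg Prod.fst h
  have h2 := congrArg Prod.snd h
  simp only [RingHom.prod_apply, kHom_apply, LinearMap.zero_apply, add_zero] at h1 h2
  apply TrivSqZeroExt.ext h1
  apply Subtype.ext
  have : ((x.snd : I) : C) = y.snd := by
    have h3 : incl I x.snd = incl I y.snd := by linear_combination h2 - h1
    exact h3
  exact this

include hI in
theorem prod3_injective :
    Function.Injective ((kHom (0 : (I × I) →ₗ[C] C) (zero_mul')).prod
      ((kHom (incl I ∘ₗ LinearMap.fst C I I) (fst_mul I hI)).prod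
        (kHom (incl I ∘ₗ LinearMap.snd C I I) (snd_mul I hI)))) := by
  intro x y h
  have h1 := congrArg Prod.fst h
  have h2 := congrArg (fun t => t.2.1) h
  have h3 := congrArg (fun t => t.2.2) h
  simp only [RingHom.prod_apply, kHom_apply, LinearMap.zero_apply, add_zero] at h1 h2 h3
  apply TrivSqZeroExt.ext h1
  apply Prod.ext
  · apply Subtype.ext
    have h4 : (incl I ∘ₗ LinearMap.fst C I I) x.snd = (incl I ∘ₗ LinearMap.fst C I I) y.snd := by
      linear_combination h2 - h1
    exact h4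
  · apply Subtype.ext
    have h4 : (incl I ∘ₗ LinearMap.snd C I I) x.snd = (incl I ∘ₗ LinearMap.snd C I I) y.snd := by
      linear_combination h3 - h1
    exact h4

/-- Two ring maps congruent modulo a square-zero ideal glue to a map into `C ⊕ I`. -/
def glueHom {A' : Type u} [CommRing A'] (β₁ β₂ : A' →+* C) (h : ∀ a, β₂ a - β₁ a ∈ I) :
    A' →+* TrivSqZeroExt C I where
  toFun a := TrivSqZeroExt.inl (β₁ a) + TrivSqZeroExt.inr ⟨β₂ a - β₁ a, h a⟩
  map_one' := by
    apply TrivSqZeroExt.ext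
    · simp
    · apply Subtype.ext
      simp
  map_zero' := by
    apply TrivSqZeroExt.ext
    · simp
    · apply Subtype.ext
      simp
  map_add' a b := by
    apply TrivSqZeroExt.ext
    · simp
    · apply Subtype.ext
      simp
      ring
  map_mul' a b := by
    apply TrivSqZeroExt.ext
    · simp
    · apply Subtype.ext
      have h0 := subtype_mul_subtype I hI ⟨β₂ a - β₁ a, h a⟩ ⟨β₂ b - β₁ b, h b⟩
      simp only [TrivSqZeroExt.snd_add, TrivSqZeroExt.snd_inl, TrivSqZeroExt.snd_inr, zero_add,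
        TrivSqZeroExt.snd_mul, TrivSqZeroExt.fst_add, TrivSqZeroExt.fst_inl, TrivSqZeroExt.fst_inr,
        add_zero, op_smul_eq_smul, map_mul]
      simp only [Submodule.coe_add, Submodule.coe_smul, smul_eq_mul]
      simp only at h0
      linear_combination h0

theorem kHom_zero_comp_glueHom {A' : Type u} [CommRing A'] (β₁ β₂ : A' →+* C)
    (h : ∀ a, β₂ a - β₁ a ∈ I) :
    (kHom (0 : I →ₗ[C] C) (zero_mul')).comp (glueHom I hI β₁ β₂ h) = β₁ := by
  apply RingHom.ext
  intro a
  simp [glueHom]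

theorem kHom_incl_comp_glueHom {A' : Type u} [CommRing A'] (β₁ β₂ : A' →+* C)
    (h : ∀ a, β₂ a - β₁ a ∈ I) :
    (kHom (incl I) (incl_mul I hI)).comp (glueHom I hI β₁ β₂ h) = β₂ := by
  apply RingHom.ext
  intro a
  simp [glueHom]

end Ideal

section Glue

variable {C : Type u} [CommRing C] (I : Ideal C) (hI : I * I = ⊥)

include hI in
/-- Two `C`-points of a scheme which lie in a common affine open and agree modulo the square-zero ideal `I`
glue to a `C ⊕ I`-point. -/
theorem exists_glue {X : Scheme.{u}} (U : X.Opens) (hU : IsAffineOpen U)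
    (a₁ a₂ : Spec (CommRingCat.of C) ⟶ X)
    (h₁ : Set.range a₁ ⊆ (U : Set X)) (h₂ : Set.range a₂ ⊆ (U : Set X))
    (hq : Spec.map (CommRingCat.ofHom (Ideal.Quotient.mk I)) ≫ a₁ =
      Spec.map (CommRingCat.ofHom (Ideal.Quotient.mk I)) ≫ a₂) :
    ∃ â : Spec (CommRingCat.of (TrivSqZeroExt C I)) ⟶ X,
      Spec.map (CommRingCat.ofHom (kHom (0 : I →ₗ[C] C) (zero_mul'))) ≫ â = a₁ ∧
      Spec.map (CommRingCat.ofHom (kHom (incl I) (incl_mul I hI))) ≫ â = a₂ := by
  have hr : Set.range hU.fromSpec = (U : Set X) := hU.range_fromSpec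
  let b₁ := IsOpenImmersion.lift hU.fromSpec a₁ (by rw [hr]; exact h₁)
  let b₂ := IsOpenImmersion.lift hU.fromSpec a₂ (by rw [hr]; exact h₂)
  have hb₁ : b₁ ≫ hU.fromSpec = a₁ := IsOpenImmersion.lift_fac _ _ _
  have hb₂ : b₂ ≫ hU.fromSpec = a₂ := IsOpenImmersion.lift_fac _ _ _
  obtain ⟨β₁, hβ₁⟩ := Spec.map_surjective b₁
  obtain ⟨β₂, hβ₂⟩ := Spec.map_surjective b₂
  have hcong : β₁ ≫ CommRingCat.ofHom (Ideal.Quotient.mk I) =
      β₂ ≫ CommRingCat.ofHom (Ideal.Quotient.mk I) := by
    apply Spec.map_injective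
    rw [Spec.map_comp, Spec.map_comp, hβ₁, hβ₂, ← cancel_mono hU.fromSpec, Category.assoc,
      Category.assoc, hb₁, hb₂]
    exact hq
  have hmem : ∀ a, β₂.hom a - β₁.hom a ∈ I := by
    intro a
    have := congrArg (fun t => t.hom a) hcong
    simp only [CommRingCat.hom_comp, CommRingCat.hom_ofHom, RingHom.coe_comp,
      Function.comp_apply] at this
    rw [← Ideal.Quotient.eq]
    exact this.symm
  refine ⟨Spec.map (CommRingCat.ofHom (glueHom I hI β₁.hom β₂.hom hmem)) ≫ hU.fromSpec, ?_, ?_⟩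
  · rw [← Category.assoc, ← Spec.map_comp, ← CommRingCat.ofHom_comp, kHom_zero_comp_glueHom,
      CommRingCat.ofHom_hom, hβ₁, hb₁]
  · rw [← Category.assoc, ← Spec.map_comp, ← CommRingCat.ofHom_comp, kHom_incl_comp_glueHom,
      CommRingCat.ofHom_hom, hβ₂, hb₂]

end Glue

section Over

open LieS MonObj

variable {S : Scheme.{u}} {C : Type u} [CommRing C] (h : Spec (CommRingCat.of C) ⟶ S)

section General

variable (N : Type u) [AddCommGroup N] [Module C N] [Module Cᵐᵒᵖ N] [IsCentralScalar C N]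

/-- `Spec (C ⊕ N)` over `S`. -/
noncomputable def tpt : Over S :=
  Over.mk (Spec.map (CommRingCat.ofHom (algebraMap C (TrivSqZeroExt C N))) ≫ h)

variable {N}

/-- The `C`-point of `Spec (C ⊕ N)` given by `(c, n) ↦ c + l n`. -/
noncomputable def kMor (l : N →ₗ[C] C) (hl : ∀ x y, l x * l y = 0) : pt C h ⟶ tpt h N :=
  Over.homMk (Spec.map (CommRingCat.ofHom (kHom l hl))) (by
    change Spec.map _ ≫ Spec.map _ ≫ h = h
    rw [← Category.assoc, specMap_comp, kHom_comp_algebraMap, CommRingCat.ofHom_id]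
    erw [Spec.map_id]
    exact Category.id_comp h)

theorem kMor_congr {l l' : N →ₗ[C] C} (e : l = l') (hl : ∀ x y, l x * l y = 0)
    (hl' : ∀ x y, l' x * l' y = 0) : kMor h l hl = kMor h l' hl' := by
  subst e
  rfl

variable {N' : Type u} [AddCommGroup N'] [Module C N'] [Module Cᵐᵒᵖ N'] [IsCentralScalar C N']

/-- The morphism `Spec (C ⊕ N') ⟶ Spec (C ⊕ N)` induced by a linear map `N → N'`. -/
noncomputable def mapMor (φ : N →ₗ[C] N') : tpt h N' ⟶ tpt h N :=
  Over.homMk (Spec.map (CommRingCat.ofHom (TrivSqZeroExt.map φ).toRingHom)) (by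
    change Spec.map _ ≫ Spec.map _ ≫ h = Spec.map _ ≫ h
    rw [← Category.assoc, specMap_comp, map_comp_algebraMap'])

theorem kMor_mapMor (l : N' →ₗ[C] C) (hl : ∀ x y, l x * l y = 0) (φ : N →ₗ[C] N') :
    kMor h l hl ≫ mapMor h φ = kMor h (l ∘ₗ φ) (fun x y => hl (φ x) (φ y)) := by
  ext
  change Spec.map _ ≫ Spec.map _ = Spec.map _
  rw [specMap_comp, kHom_comp_map]

end General

variable (I : Ideal C) (hI : I * I = ⊥)

/-- The closed subscheme `Spec (C ⧸ I)` of `Spec C`, over `S`. -/
noncomputable abbrev qMor :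
    pt (C ⧸ I) (Spec.map (CommRingCat.ofHom (Ideal.Quotient.mk I)) ≫ h) ⟶ pt C h :=
  ptMap h (Ideal.Quotient.mk I)

variable {X : Over S} [GrpObj X]

include hI in
/-- Local form: two `C`-points of a group scheme which reduce to the unit modulo the square-zero ideal `I`
and lie, together with the unit point, in a common affine open, commute. -/
theorem mul_comm_of_affine (U : X.left.Opens) (hU : IsAffineOpen U) (a a' : pt C h ⟶ X)
    (ha : qMor h I ≫ a = 1) (ha' : qMor h I ≫ a' = 1)
    (hUa : Set.range a.left ⊆ (U : Set X.left)) (hUa' : Set.range a'.left ⊆ (U : Set X.left))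
    (hUe : Set.range (1 : pt C h ⟶ X).left ⊆ (U : Set X.left)) : a * a' = a' * a := by
  set e : pt C h ⟶ X := 1 with he
  have hqe : qMor h I ≫ e = 1 := MonObj.comp_one _
  -- abbreviations for the four restriction maps
  set k1 := kMor h (0 : I →ₗ[C] C) (zero_mul') with hk1
  set k2 := kMor h (incl I) (incl_mul I hI) with hk2
  -- upgrading a glued morphism to a morphism over `S`
  have upgrade : ∀ (b : pt C h ⟶ X), qMor h I ≫ b = 1 → Set.range b.left ⊆ (U : Set X.left) →
      ∃ b' : tpt h I ⟶ X, k1 ≫ b' = e ∧ k2 ≫ b' = b := by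
    intro b hb hUb
    have hq : Spec.map (CommRingCat.ofHom (Ideal.Quotient.mk I)) ≫ e.left =
        Spec.map (CommRingCat.ofHom (Ideal.Quotient.mk I)) ≫ b.left := by
      have := congrArg (fun t => t.left) (hqe.trans hb.symm)
      exact this
    obtain ⟨β, hβ1, hβ2⟩ := exists_glue I hI U hU e.left b.left hUe hUb hq
    have hw : β ≫ X.hom = (tpt h I).hom := by
      apply hom_ext_of_prod_injective _ _ (prod2_injective I hI) (comap_kHom_surjective _ _)
      · rw [← Category.assoc, hβ1]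
        have h1 : e.left ≫ X.hom = h := Over.w e
        rw [h1]
        exact (Over.w k1).symm
      · rw [← Category.assoc, hβ2]
        have h1 : b.left ≫ X.hom = h := Over.w b
        rw [h1]
        exact (Over.w k2).symm
    refine ⟨Over.homMk β hw, ?_, ?_⟩
    · apply Over.OverMorphism.ext
      exact hβ1
    · apply Over.OverMorphism.ext
      exact hβ2
  obtain ⟨b, hb1, hb2⟩ := upgrade a ha hUa
  obtain ⟨b', hb'1, hb'2⟩ := upgrade a' ha' hUa'
  -- the four restriction maps of `C ⊕ I ⊕ I`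
  set k00 := kMor h (0 : (I × I) →ₗ[C] C) (zero_mul') with hk00
  set k10 := kMor h (incl I ∘ₗ LinearMap.fst C I I) (fst_mul I hI) with hk10
  set k01 := kMor h (incl I ∘ₗ LinearMap.snd C I I) (snd_mul I hI) with hk01
  set k11 := kMor h (incl I ∘ₗ LinearMap.fst C I I + incl I ∘ₗ LinearMap.snd C I I)
    (add_mul' I hI) with hk11
  set m1 : tpt h (I × I) ⟶ tpt h I := mapMor h (LinearMap.inl C I I) with hm1
  set m2 : tpt h (I × I) ⟶ tpt h I := mapMor h (LinearMap.inr C I I) with hm2
  have e00_1 : k00 ≫ m1 = k1 := by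
    rw [hk00, hm1, kMor_mapMor]; exact kMor_congr h (by ext x; simp) _ _
  have e10_1 : k10 ≫ m1 = k2 := by
    rw [hk10, hm1, kMor_mapMor]; exact kMor_congr h (by ext x; simp) _ _
  have e01_1 : k01 ≫ m1 = k1 := by
    rw [hk01, hm1, kMor_mapMor]; exact kMor_congr h (by ext x; simp) _ _
  have e11_1 : k11 ≫ m1 = k2 := by
    rw [hk11, hm1, kMor_mapMor]; exact kMor_congr h (by ext x; simp) _ _
  have e00_2 : k00 ≫ m2 = k1 := by
    rw [hk00, hm2, kMor_mapMor]; exact kMor_congr h (by ext x; simp) _ _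
  have e10_2 : k10 ≫ m2 = k1 := by
    rw [hk10, hm2, kMor_mapMor]; exact kMor_congr h (by ext x; simp) _ _
  have e01_2 : k01 ≫ m2 = k2 := by
    rw [hk01, hm2, kMor_mapMor]; exact kMor_congr h (by ext x; simp) _ _
  have e11_2 : k11 ≫ m2 = k2 := by
    rw [hk11, hm2, kMor_mapMor]; exact kMor_congr h (by ext x; simp) _ _
  -- the two products agree on `C ⊕ I ⊕ I`
  have key : (m1 ≫ b) * (m2 ≫ b') = (m2 ≫ b') * (m1 ≫ b) := by
    apply Over.OverMorphism.ext
    apply hom_ext_of_prod3_injective _ _ _ (prod3_injective I hI) (comap_kHom_surjective _ _)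
    · have : k00 ≫ ((m1 ≫ b) * (m2 ≫ b')) = k00 ≫ ((m2 ≫ b') * (m1 ≫ b)) := by
        simp only [MonObj.comp_mul, ← Category.assoc, e00_1, e00_2, hb1, hb'1]
      exact congrArg (fun t => t.left) this
    · have : k10 ≫ ((m1 ≫ b) * (m2 ≫ b')) = k10 ≫ ((m2 ≫ b') * (m1 ≫ b)) := by
        simp only [MonObj.comp_mul, ← Category.assoc, e10_1, e10_2, hb1, hb'1, hb2, he,
          _root_.mul_one, _root_.one_mul]
      exact congrArg (fun t => t.left) this
    · have : k01 ≫ ((m1 ≫ b) * (m2 ≫ b')) = k01 ≫ ((m2 ≫ b') * (m1 ≫ b)) := by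
        simp only [MonObj.comp_mul, ← Category.assoc, e01_1, e01_2, hb1, hb'1, hb'2, he,
          _root_.mul_one, _root_.one_mul]
      exact congrArg (fun t => t.left) this
  have fin := congrArg (fun t => k11 ≫ t) key
  simp only [MonObj.comp_mul, ← Category.assoc, e11_1, e11_2, hb2, hb'2] at fin
  exact fin

end Over

end Groth.Agent.Lib.Seat37.SqZero
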