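import Mathlib
import Groth.Prelude.Def_LieS
import Groth.Agent.Lib.Seat37SqZero
import Groth.Agent.Lib.Seat37DiagKerAlg

/-!
# Points of a group scheme with values in `B[G]`, congruent to the unit modulo a square-zero ideal

Main result `eq_one_of_hom`: a `B[G]`-point of a group scheme which is multiplicative (`Δ`-primitive)
and congruent to the unit modulo a square-zero ideal `J` of `B` is the unit, provided the unit section
over `Spec B` lies in an affine open.
-/

set_option autoImplicit false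
set_option linter.style.haveILetI false
set_option linter.unusedSectionVars false
universe u

open CategoryTheory AlgebraicGeometry MonObj LieS

namespace Groth.Agent.Lib.Seat37.DiagKer

open Groth.Agent.Lib.Seat37.DualGlue Groth.Agent.Lib.Seat37.SqZero Groth.Agent.Lib.Seat37.DiagKerAlg

section AffineOpen

variable {X : Scheme.{u}} (U : X.Opens) (hU : IsAffineOpen U)

include hU in
/-- A `T`-point landing in the affine open `U` comes from a ring map `Γ(X, U) → T`. -/
theorem exists_ringHom_of_range_subset {T : Type u} [CommRing T] (a : Spec (CommRingCat.of T) ⟶ X)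
    (ha : Set.range a ⊆ (U : Set X)) :
    ∃ α : Γ(X, U) →+* T, Spec.map (CommRingCat.ofHom α) ≫ hU.fromSpec = a := by
  have hr : Set.range hU.fromSpec = (U : Set X) := hU.range_fromSpec
  let b := IsOpenImmersion.lift hU.fromSpec a (by rw [hr]; exact ha)
  have hb : b ≫ hU.fromSpec = a := IsOpenImmersion.lift_fac _ _ _
  obtain ⟨β, hβ⟩ := Spec.map_surjective b
  exact ⟨β.hom, by rw [CommRingCat.ofHom_hom, hβ, hb]⟩

include hU in
theorem ringHom_eq_of_comp_fromSpec {T : Type u} [CommRing T] (α α' : Γ(X, U) →+* T)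
    (h : Spec.map (CommRingCat.ofHom α) ≫ hU.fromSpec =
      Spec.map (CommRingCat.ofHom α') ≫ hU.fromSpec) : α = α' := by
  rw [cancel_mono] at h
  have := Spec.map_injective h
  exact congrArg CommRingCat.Hom.hom this

include hU in
/-- Two `T`-points landing in the affine open `U` which agree after a jointly injective family of ring maps
out of `T` are equal. -/
theorem hom_ext_of_family {T : Type u} [CommRing T] {κ : Type*} (Ti : κ → Type u)
    [∀ i, CommRing (Ti i)] (φ : ∀ i, T →+* Ti i)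
    (hφ : ∀ t t' : T, (∀ i, φ i t = φ i t') → t = t')
    (a a' : Spec (CommRingCat.of T) ⟶ X) (ha : Set.range a ⊆ (U : Set X))
    (ha' : Set.range a' ⊆ (U : Set X))
    (h : ∀ i, Spec.map (CommRingCat.ofHom (φ i)) ≫ a = Spec.map (CommRingCat.ofHom (φ i)) ≫ a') :
    a = a' := by
  obtain ⟨α, rfl⟩ := exists_ringHom_of_range_subset U hU a ha
  obtain ⟨α', rfl⟩ := exists_ringHom_of_range_subset U hU a' ha'
  have : α = α' := by
    ext p
    apply hφ
    intro i
    have h1 := h i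
    rw [← Category.assoc, ← Category.assoc, ← Spec.map_comp, ← Spec.map_comp,
      ← CommRingCat.ofHom_comp, ← CommRingCat.ofHom_comp] at h1
    have h2 := ringHom_eq_of_comp_fromSpec U hU _ _ h1
    exact congrArg (fun f => f p) h2
  rw [this]

variable {B C C₀ : Type u} [CommRing B] [CommRing C] [CommRing C₀] [Algebra B C]
  {N : Type u} [AddCommGroup N] [Module B N] [Module Bᵐᵒᵖ N] [IsCentralScalar B N]

include hU in
/-- Gluing a `B`-point `e₀` and a `C`-point `a` (both in `U`) which agree modulo the square-zero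
ideal `ℓ(N)` of `C` into a `B ⊕ N`-point. -/
theorem exists_glue_base (ℓ : N →ₗ[B] C) (hℓ : ∀ x y, ℓ x * ℓ y = 0) (hinj : Function.Injective ℓ)
    (q : C →+* C₀) (hker : ∀ c, q c = 0 → c ∈ LinearMap.range ℓ)
    (e₀ : Spec (CommRingCat.of B) ⟶ X) (a : Spec (CommRingCat.of C) ⟶ X)
    (he₀ : Set.range e₀ ⊆ (U : Set X)) (ha : Set.range a ⊆ (U : Set X))
    (hq : Spec.map (CommRingCat.ofHom q) ≫ a =
      Spec.map (CommRingCat.ofHom q) ≫ Spec.map (CommRingCat.ofHom (algebraMap B C)) ≫ e₀) :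
    ∃ β : Spec (CommRingCat.of (TrivSqZeroExt B N)) ⟶ X,
      Spec.map (CommRingCat.ofHom (TrivSqZeroExt.fstHom B B N).toRingHom) ≫ β = e₀ ∧
      Spec.map (CommRingCat.ofHom (kap ℓ hℓ).toRingHom) ≫ β = a := by
  obtain ⟨ε, rfl⟩ := exists_ringHom_of_range_subset U hU e₀ he₀
  obtain ⟨α, rfl⟩ := exists_ringHom_of_range_subset U hU a ha
  have h1 : q.comp α = (q.comp (algebraMap B C)).comp ε := by
    apply ringHom_eq_of_comp_fromSpec U hU
    rw [CommRingCat.ofHom_comp, CommRingCat.ofHom_comp, CommRingCat.ofHom_comp, Spec.map_comp,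
      Spec.map_comp, Spec.map_comp, Category.assoc, Category.assoc, Category.assoc]
    exact hq
  have hmem : ∀ p, α p - algebraMap B C (ε p) ∈ LinearMap.range ℓ := by
    intro p
    apply hker
    have := congrArg (fun f => f p) h1
    simp only [RingHom.coe_comp, Function.comp_apply] at this
    rw [map_sub, this, sub_self]
  obtain ⟨β, hβ⟩ := exists_ringHom_factor
    (((TrivSqZeroExt.fstHom B B N).toRingHom).prod (kap ℓ hℓ).toRingHom)
    (fst_kap_injective ℓ hℓ hinj) (ε.prod α) (by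
      intro p
      obtain ⟨n, hn⟩ := hmem p
      refine ⟨TrivSqZeroExt.inl (ε p) + TrivSqZeroExt.inr n, ?_⟩
      apply Prod.ext
      · simp
      · change kap ℓ hℓ _ = α p
        rw [kap_apply]
        simp [hn])
  have hβ1 : ((TrivSqZeroExt.fstHom B B N).toRingHom).comp β = ε := by
    ext p
    exact congrArg (fun f => (f p).1) hβ
  have hβ2 : ((kap ℓ hℓ).toRingHom).comp β = α := by
    ext p
    exact congrArg (fun f => (f p).2) hβ
  refine ⟨Spec.map (CommRingCat.ofHom β) ≫ hU.fromSpec, ?_, ?_⟩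
  · rw [← Category.assoc, ← Spec.map_comp, ← CommRingCat.ofHom_comp, hβ1]
  · rw [← Category.assoc, ← Spec.map_comp, ← CommRingCat.ofHom_comp, hβ2]

end AffineOpen

section Over

variable {S : Scheme.{u}} {B : Type u} [CommRing B] (hB : Spec (CommRingCat.of B) ⟶ S)

/-- `Spec T` over `S`, for a `B`-algebra `T`. -/
noncomputable abbrev bpt (T : Type u) [CommRing T] [Algebra B T] : Over S :=
  pt T (Spec.map (CommRingCat.ofHom (algebraMap B T)) ≫ hB)

variable {T T' T'' : Type u} [CommRing T] [CommRing T'] [CommRing T''] [Algebra B T] [Algebra B T']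
  [Algebra B T'']

/-- The morphism of `S`-schemes induced by a `B`-algebra map. -/
noncomputable def bMor (φ : T →ₐ[B] T') : bpt hB T' ⟶ bpt hB T :=
  Over.homMk (Spec.map (CommRingCat.ofHom φ.toRingHom)) (by
    have h1 : φ.toRingHom.comp (algebraMap B T) = algebraMap B T' := by
      ext b; exact φ.commutes b
    change Spec.map _ ≫ Spec.map _ ≫ hB = Spec.map _ ≫ hB
    rw [← Category.assoc, specMap_comp, h1])

theorem bMor_left (φ : T →ₐ[B] T') :
    (bMor hB φ).left = Spec.map (CommRingCat.ofHom φ.toRingHom) := rfl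

theorem bMor_comp (φ : T →ₐ[B] T') (ψ : T' →ₐ[B] T'') :
    bMor hB ψ ≫ bMor hB φ = bMor hB (ψ.comp φ) := by
  apply Over.OverMorphism.ext
  change Spec.map _ ≫ Spec.map _ = Spec.map _
  rw [specMap_comp]
  rfl

theorem bMor_comp_assoc {X : Over S} (φ : T →ₐ[B] T') (ψ : T' →ₐ[B] T'') (x : bpt hB T ⟶ X) :
    bMor hB ψ ≫ bMor hB φ ≫ x = bMor hB (ψ.comp φ) ≫ x := by
  rw [← Category.assoc, bMor_comp]

variable (T) in
/-- The structure morphism `Spec T ⟶ Spec B` over `S`. -/
noncomputable def bStr : bpt hB T ⟶ pt B hB :=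
  Over.homMk (Spec.map (CommRingCat.ofHom (algebraMap B T))) rfl

variable {X : Over S} [GrpObj X] (U : X.left.Opens)

theorem range_one_subset (hUe : Set.range (1 : pt B hB ⟶ X).left ⊆ (U : Set X.left)) :
    Set.range (1 : bpt hB T ⟶ X).left ⊆ (U : Set X.left) := by
  have h1 : (1 : bpt hB T ⟶ X) = bStr hB T ≫ 1 := (MonObj.comp_one _).symm
  rw [h1]
  rintro _ ⟨z, rfl⟩
  apply hUe
  exact ⟨(bStr hB T).left z, rfl⟩

theorem range_subset_of_red (hUe : Set.range (1 : pt B hB ⟶ X).left ⊆ (U : Set X.left))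
    (q : T →ₐ[B] T') (hq : Function.Surjective (PrimeSpectrum.comap q.toRingHom))
    (x : bpt hB T ⟶ X) (hx : bMor hB q ≫ x = 1) :
    Set.range x.left ⊆ (U : Set X.left) := by
  rintro _ ⟨z, rfl⟩
  obtain ⟨z₀, rfl⟩ := hq z
  have h1 : x.left ((bMor hB q).left z₀) = (bMor hB q ≫ x).left z₀ := rfl
  have h2 : (PrimeSpectrum.comap q.toRingHom z₀ : Spec (CommRingCat.of T)) =
      (bMor hB q).left z₀ := rfl
  rw [h2, h1, hx]
  exact range_one_subset hB U hUe ⟨z₀, rfl⟩

end Over

section Steps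

variable {S : Scheme.{u}} {B : Type u} [CommRing B] (hB : Spec (CommRingCat.of B) ⟶ S)
  {X : Over S} [GrpObj X] (U : X.left.Opens) (hU : IsAffineOpen U)
  {N : Type u} [AddCommGroup N] [Module B N] [Module Bᵐᵒᵖ N] [IsCentralScalar B N]
  {N' : Type u} [AddCommGroup N'] [Module B N'] [Module Bᵐᵒᵖ N'] [IsCentralScalar B N']
  {C C₀ : Type u} [CommRing C] [CommRing C₀] [Algebra B C] [Algebra B C₀]

theorem map_comp_map {N'' : Type u} [AddCommGroup N''] [Module B N''] [Module Bᵐᵒᵖ N'']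
    [IsCentralScalar B N''] (f : N →ₗ[B] N') (g : N' →ₗ[B] N'') :
    (TrivSqZeroExt.map g).comp (TrivSqZeroExt.map f) = TrivSqZeroExt.map (g ∘ₗ f) := by
  apply AlgHom.ext
  intro x
  apply TrivSqZeroExt.ext <;> simp

theorem map_zero_eq :
    TrivSqZeroExt.map (0 : N →ₗ[B] N') =
      (TrivSqZeroExt.inlAlgHom B B N').comp (TrivSqZeroExt.fstHom B B N) := by
  apply AlgHom.ext
  intro x
  apply TrivSqZeroExt.ext <;> simp

theorem kap_comp_map (ℓ : N →ₗ[B] C) (hℓ : ∀ x y, ℓ x * ℓ y = 0) (ℓ' : N' →ₗ[B] C₀)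
    (hℓ' : ∀ x y, ℓ' x * ℓ' y = 0) (f : N →ₗ[B] N') (φ : C →ₐ[B] C₀)
    (h : ∀ n, ℓ' (f n) = φ (ℓ n)) :
    (kap ℓ' hℓ').comp (TrivSqZeroExt.map f) = φ.comp (kap ℓ hℓ) := by
  apply AlgHom.ext
  intro x
  simp only [AlgHom.comp_apply, kap_apply, TrivSqZeroExt.fst_map, TrivSqZeroExt.snd_map, h, map_add,
    AlgHom.commutes]

include hU in
/-- Step A: a `C`-point congruent to the unit modulo `ℓ(N)` lifts to a `B ⊕ N`-point. -/
theorem exists_tsze_lift (hUe : Set.range (1 : pt B hB ⟶ X).left ⊆ (U : Set X.left))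
    (ℓ : N →ₗ[B] C) (hℓ : ∀ x y, ℓ x * ℓ y = 0) (hinj : Function.Injective ℓ)
    (q : C →ₐ[B] C₀) (hqs : Function.Surjective q) (hker : ∀ c, q c = 0 → c ∈ LinearMap.range ℓ)
    (a : bpt hB C ⟶ X) (ha : bMor hB q ≫ a = 1) :
    ∃ β : bpt hB (TrivSqZeroExt B N) ⟶ X,
      bMor hB (TrivSqZeroExt.fstHom B B N) ≫ β = 1 ∧ bMor hB (kap ℓ hℓ) ≫ β = a := by
  have hcs : Function.Surjective (PrimeSpectrum.comap q.toRingHom) := by
    apply comap_surjective_of_sqZero_ker _ hqs
    intro c hc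
    obtain ⟨n, rfl⟩ := hker c hc
    exact hℓ n n
  have ha_range := range_subset_of_red hB U hUe q hcs a ha
  have he_range : Set.range (1 : bpt hB B ⟶ X).left ⊆ (U : Set X.left) :=
    range_one_subset hB U hUe
  have hq : Spec.map (CommRingCat.ofHom q.toRingHom) ≫ a.left =
      Spec.map (CommRingCat.ofHom q.toRingHom) ≫ Spec.map (CommRingCat.ofHom (algebraMap B C)) ≫
        (1 : bpt hB B ⟶ X).left := by
    have h1 : (1 : bpt hB C₀ ⟶ X) = bMor hB q ≫ bMor hB (Algebra.ofId B C) ≫ 1 := by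
      rw [MonObj.comp_one, MonObj.comp_one]
    have h2 := congrArg (fun t => t.left) (ha.trans h1)
    exact h2
  obtain ⟨β₀, hβ1, hβ2⟩ := exists_glue_base U hU ℓ hℓ hinj q.toRingHom hker
    (1 : bpt hB B ⟶ X).left a.left he_range ha_range hq
  have hw : β₀ ≫ X.hom = (bpt hB (TrivSqZeroExt B N)).hom := by
    apply hom_ext_of_prod_injective _ _ (fst_kap_injective ℓ hℓ hinj) comap_fst_surjective
    · rw [← Category.assoc, hβ1]
      have h1 : (1 : bpt hB B ⟶ X).left ≫ X.hom = (bpt hB B).hom := Over.w _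
      rw [h1]
      exact (Over.w (bMor hB (TrivSqZeroExt.fstHom B B N))).symm
    · rw [← Category.assoc, hβ2]
      have h1 : a.left ≫ X.hom = (bpt hB C).hom := Over.w a
      rw [h1]
      exact (Over.w (bMor hB (kap ℓ hℓ))).symm
  refine ⟨Over.homMk β₀ hw, ?_, ?_⟩
  · apply Over.OverMorphism.ext
    exact hβ1
  · apply Over.OverMorphism.ext
    exact hβ2

/-- Step B: a `B ⊕ N`-point is determined by its restrictions along `fst` and `κ`. -/
theorem tsze_hom_ext (ℓ : N →ₗ[B] C) (hℓ : ∀ x y, ℓ x * ℓ y = 0) (hinj : Function.Injective ℓ)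
    (v v' : bpt hB (TrivSqZeroExt B N) ⟶ X)
    (h1 : bMor hB (TrivSqZeroExt.fstHom B B N) ≫ v = bMor hB (TrivSqZeroExt.fstHom B B N) ≫ v')
    (h2 : bMor hB (kap ℓ hℓ) ≫ v = bMor hB (kap ℓ hℓ) ≫ v') : v = v' := by
  apply Over.OverMorphism.ext
  apply hom_ext_of_prod_injective _ _ (fst_kap_injective ℓ hℓ hinj) comap_fst_surjective
  · exact congrArg (fun t => t.left) h1
  · exact congrArg (fun t => t.left) h2

include hU in
/-- Step C: a `B ⊕ N`-point restricting to the unit is determined by its images under a jointly injective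
family of linear maps out of `N`. -/
theorem tsze_hom_ext_family (hUe : Set.range (1 : pt B hB ⟶ X).left ⊆ (U : Set X.left))
    {κ : Type*} [Nonempty κ] (π : κ → (N →ₗ[B] N')) (hπ : ∀ n : N, (∀ i, π i n = 0) → n = 0)
    (v v' : bpt hB (TrivSqZeroExt B N) ⟶ X)
    (hv : bMor hB (TrivSqZeroExt.fstHom B B N) ≫ v = 1)
    (hv' : bMor hB (TrivSqZeroExt.fstHom B B N) ≫ v' = 1)
    (h : ∀ i, bMor hB (TrivSqZeroExt.map (π i)) ≫ v = bMor hB (TrivSqZeroExt.map (π i)) ≫ v') :
    v = v' := by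
  have hr := range_subset_of_red hB U hUe (TrivSqZeroExt.fstHom B B N) comap_fst_surjective v hv
  have hr' := range_subset_of_red hB U hUe (TrivSqZeroExt.fstHom B B N) comap_fst_surjective v' hv'
  apply Over.OverMorphism.ext
  apply hom_ext_of_family U hU (fun _ : κ => TrivSqZeroExt B N')
    (fun i => (TrivSqZeroExt.map (π i)).toRingHom) _ v.left v'.left hr hr'
  · intro i
    exact congrArg (fun t => t.left) (h i)
  · intro t t' htt
    obtain ⟨i₀⟩ := ‹Nonempty κ›
    apply TrivSqZeroExt.ext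
    · have := congrArg TrivSqZeroExt.fst (htt i₀)
      simpa using this
    · rw [← sub_eq_zero]
      apply hπ
      intro i
      have := congrArg TrivSqZeroExt.snd (htt i)
      simp only [AlgHom.toRingHom_eq_coe, RingHom.coe_coe, TrivSqZeroExt.snd_map] at this
      rw [map_sub, this, sub_self]

end Steps

section Main

variable {S : Scheme.{u}} {B : Type u} [CommRing B] (hB : Spec (CommRingCat.of B) ⟶ S)
  {X : Over S} [GrpObj X] (U : X.left.Opens) (hU : IsAffineOpen U)
  (J : Ideal B) (hJ : J * J = ⊥) (G : Type) [CommMonoid G]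
  {B₀ : Type u} [CommRing B₀] [Algebra B B₀]

/-- The diagonal `B[G] → B[G × G]`. -/
noncomputable abbrev dgl : MonoidAlgebra B G →ₐ[B] MonoidAlgebra B (G × G) :=
  MonoidAlgebra.mapDomainAlgHom B B ((MonoidHom.id G).prod (MonoidHom.id G))

/-- The first inclusion `B[G] → B[G × G]`. -/
noncomputable abbrev in1 : MonoidAlgebra B G →ₐ[B] MonoidAlgebra B (G × G) :=
  MonoidAlgebra.mapDomainAlgHom B B (MonoidHom.inl G G)

/-- The second inclusion `B[G] → B[G × G]`. -/
noncomputable abbrev in2 : MonoidAlgebra B G →ₐ[B] MonoidAlgebra B (G × G) :=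
  MonoidAlgebra.mapDomainAlgHom B B (MonoidHom.inr G G)

include hU hJ in
/-- A `B[G]`-point `a` of the group scheme `X` which is multiplicative and congruent to the unit modulo the
square-zero ideal `J = ker (B → B₀)` is the unit, if the unit section over `Spec B` lies in an affine open. -/
theorem eq_one_of_hom (hUe : Set.range (1 : pt B hB ⟶ X).left ⊆ (U : Set X.left))
    (hq : Function.Surjective (algebraMap B B₀)) (hker : RingHom.ker (algebraMap B B₀) = J)
    (a : bpt hB (MonoidAlgebra B G) ⟶ X)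
    (hred : bMor hB (MonoidAlgebra.mapAlgHom G (Algebra.ofId B B₀)) ≫ a = 1)
    (hhom : bMor hB (dgl (B := B) G) ≫ a =
      (bMor hB (in1 (B := B) G) ≫ a) * (bMor hB (in2 (B := B) G) ≫ a)) : a = 1 := by
  -- notation
  set ℓ := ell J G with hℓdef
  have hℓ : ∀ x y, ℓ x * ℓ y = 0 := ell_mul J G hJ
  have hℓi : Function.Injective ℓ := ell_injective J G
  set ℓD := ell J (G × G) with hℓDdef
  have hℓD : ∀ x y, ℓD x * ℓD y = 0 := ell_mul J (G × G) hJ
  have hℓDi : Function.Injective ℓD := ell_injective J (G × G)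
  -- Step A
  obtain ⟨β, hβ1, hβ2⟩ := exists_tsze_lift hB U hU hUe ℓ hℓ hℓi
    (MonoidAlgebra.mapAlgHom G (Algebra.ofId B B₀))
    (MonoidAlgebra.map_surjective _ hq)
    (by
      intro c hc
      rw [mem_range_ell_iff, ← hker]
      exact (mapRingHom_eq_zero_iff G (algebraMap B B₀) c).mp hc) a hred
  -- the three maps on `B ⊕ J[G]`
  set fd : (G →₀ J) →ₗ[B] (G × G →₀ J) := Finsupp.lmapDomain J B (fun g : G => (g, g)) with hfd
  set f1 : (G →₀ J) →ₗ[B] (G × G →₀ J) :=
    Finsupp.lmapDomain J B (fun g : G => (g, (1 : G))) with hf1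
  set f2 : (G →₀ J) →ₗ[B] (G × G →₀ J) :=
    Finsupp.lmapDomain J B (fun g : G => ((1 : G), g)) with hf2
  have cd : (kap ℓD hℓD).comp (TrivSqZeroExt.map fd) = (dgl (B := B) G).comp (kap ℓ hℓ) :=
    kap_comp_map ℓ hℓ ℓD hℓD fd (dgl (B := B) G)
      (fun n => ell_mapDomain J ((MonoidHom.id G).prod (MonoidHom.id G)) n)
  have c1 : (kap ℓD hℓD).comp (TrivSqZeroExt.map f1) = (in1 (B := B) G).comp (kap ℓ hℓ) :=
    kap_comp_map ℓ hℓ ℓD hℓD f1 (in1 (B := B) G)
      (fun n => ell_mapDomain J (MonoidHom.inl G G) n)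
  have c2 : (kap ℓD hℓD).comp (TrivSqZeroExt.map f2) = (in2 (B := B) G).comp (kap ℓ hℓ) :=
    kap_comp_map ℓ hℓ ℓD hℓD f2 (in2 (B := B) G)
      (fun n => ell_mapDomain J (MonoidHom.inr G G) n)
  -- images under `κ_D`
  have kd : bMor hB (kap ℓD hℓD) ≫ bMor hB (TrivSqZeroExt.map fd) ≫ β =
      bMor hB (dgl (B := B) G) ≫ a := by
    rw [bMor_comp_assoc, cd, ← bMor_comp_assoc, hβ2]
  have k1 : bMor hB (kap ℓD hℓD) ≫ bMor hB (TrivSqZeroExt.map f1) ≫ β =
      bMor hB (in1 (B := B) G) ≫ a := by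
    rw [bMor_comp_assoc, c1, ← bMor_comp_assoc, hβ2]
  have k2 : bMor hB (kap ℓD hℓD) ≫ bMor hB (TrivSqZeroExt.map f2) ≫ β =
      bMor hB (in2 (B := B) G) ≫ a := by
    rw [bMor_comp_assoc, c2, ← bMor_comp_assoc, hβ2]
  -- images under `fst`
  have fdd : bMor hB (TrivSqZeroExt.fstHom B B (G × G →₀ J)) ≫
      bMor hB (TrivSqZeroExt.map fd) ≫ β = 1 := by
    rw [bMor_comp_assoc, TrivSqZeroExt.fstHom_comp_map, hβ1]
  have fd1 : bMor hB (TrivSqZeroExt.fstHom B B (G × G →₀ J)) ≫
      bMor hB (TrivSqZeroExt.map f1) ≫ β = 1 := by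
    rw [bMor_comp_assoc, TrivSqZeroExt.fstHom_comp_map, hβ1]
  have fd2 : bMor hB (TrivSqZeroExt.fstHom B B (G × G →₀ J)) ≫
      bMor hB (TrivSqZeroExt.map f2) ≫ β = 1 := by
    rw [bMor_comp_assoc, TrivSqZeroExt.fstHom_comp_map, hβ1]
  -- the lifted multiplicativity
  have star : bMor hB (TrivSqZeroExt.map fd) ≫ β =
      (bMor hB (TrivSqZeroExt.map f1) ≫ β) * (bMor hB (TrivSqZeroExt.map f2) ≫ β) := by
    apply tsze_hom_ext hB ℓD hℓD hℓDi
    · rw [MonObj.comp_mul, fdd, fd1, fd2, _root_.mul_one]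
    · rw [MonObj.comp_mul, kd, k1, k2, hhom]
  -- components
  have h0 : bMor hB (TrivSqZeroExt.map (0 : (G →₀ J) →ₗ[B] J)) ≫ β = 1 := by
    rw [map_zero_eq, ← bMor_comp_assoc, hβ1, MonObj.comp_one]
  have hcomp : ∀ m : G,
      bMor hB (TrivSqZeroExt.map (Finsupp.lapply m : (G →₀ J) →ₗ[B] J)) ≫ β = 1 := by
    intro m
    have hs := congrArg (fun t =>
      bMor hB (TrivSqZeroExt.map (Finsupp.lapply (m, m) : (G × G →₀ J) →ₗ[B] J)) ≫ t) star
    simp only [MonObj.comp_mul, bMor_comp_assoc, map_comp_map] at hs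
    rw [hfd, lapply_comp_diag] at hs
    by_cases hm : m = 1
    · subst hm
      rw [hf1, hf2, lapply_comp_inl_one, lapply_comp_inr_one] at hs
      exact left_eq_mul.mp hs
    · rw [hf1, hf2, lapply_comp_inl_of_ne J G m hm, lapply_comp_inr_of_ne J G m hm, h0,
        _root_.mul_one] at hs
      exact hs
  -- conclusion
  have hβ : β = 1 := by
    haveI : Nonempty G := ⟨1⟩
    apply tsze_hom_ext_family hB U hU hUe
      (fun m : G => (Finsupp.lapply m : (G →₀ J) →ₗ[B] J)) _ β 1 hβ1 (MonObj.comp_one _)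
    · intro m
      rw [hcomp m, MonObj.comp_one]
    · intro n hn
      ext m
      exact congrArg Subtype.val (hn m)
  rw [← hβ2, hβ, MonObj.comp_one]

end Main

end Groth.Agent.Lib.Seat37.DiagKer
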