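import Mathlib
import Groth.Prelude.Def_Red2
import Groth.Agent.Lib.Seat27DSPoints
import Groth.Agent.Lib.Seat37DiagKer

/-!
# Additive characters of diagonalisable groups vanish

`primitive_eq_zero`: a primitive element of a group algebra `C[G]` is zero.
`addChar_eq_zero_of_affine`: a natural additive map from the points of `D_U(M)` to global functions
vanishes on points with values in affine `U`-schemes.
-/

set_option autoImplicit false
set_option linter.unusedSectionVars false
set_option linter.style.haveILetI false
universe u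

open CategoryTheory AlgebraicGeometry MonObj LieS

namespace Groth.Agent.Lib.Seat37.DSAdd

open Groth.Agent.Lib.Seat37.DiagKer Groth.Agent.Lib.Seat27.DSPoints

section Alg

variable {C : Type u} [CommRing C] (G : Type) [CommMonoid G]

theorem coeff_dgl (t : MonoidAlgebra C G) (m : G) : (dgl (B := C) G t).coeff (m, m) = t.coeff m := by
  have hinj : Function.Injective (fun g : G => (g, g)) := fun a b h => congrArg Prod.fst h
  change (Finsupp.mapDomain (fun g : G => (g, g)) t.coeff) ((fun g : G => (g, g)) m) = _
  rw [Finsupp.mapDomain_apply hinj]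

theorem coeff_in1_of_ne (t : MonoidAlgebra C G) (m : G) (hm : m ≠ 1) :
    (in1 (B := C) G t).coeff (m, m) = 0 := by
  change (Finsupp.mapDomain (fun g : G => (g, (1 : G))) t.coeff) (m, m) = _
  rw [Finsupp.mapDomain_of_notMem_range]
  rintro ⟨g, hg⟩
  exact hm (congrArg Prod.snd hg).symm

theorem coeff_in2_of_ne (t : MonoidAlgebra C G) (m : G) (hm : m ≠ 1) :
    (in2 (B := C) G t).coeff (m, m) = 0 := by
  change (Finsupp.mapDomain (fun g : G => ((1 : G), g)) t.coeff) (m, m) = _
  rw [Finsupp.mapDomain_of_notMem_range]
  rintro ⟨g, hg⟩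
  exact hm (congrArg Prod.fst hg).symm

theorem coeff_in1_one (t : MonoidAlgebra C G) :
    (in1 (B := C) G t).coeff ((1 : G), (1 : G)) = t.coeff 1 := by
  have hinj : Function.Injective (fun g : G => (g, (1 : G))) := fun a b h => congrArg Prod.fst h
  change (Finsupp.mapDomain (fun g : G => (g, (1 : G))) t.coeff) ((fun g : G => (g, (1 : G))) 1) = _
  rw [Finsupp.mapDomain_apply hinj]

theorem coeff_in2_one (t : MonoidAlgebra C G) :
    (in2 (B := C) G t).coeff ((1 : G), (1 : G)) = t.coeff 1 := by
  have hinj : Function.Injective (fun g : G => ((1 : G), g)) := fun a b h => congrArg Prod.snd h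
  change (Finsupp.mapDomain (fun g : G => ((1 : G), g)) t.coeff) ((fun g : G => ((1 : G), g)) 1) = _
  rw [Finsupp.mapDomain_apply hinj]

/-- A primitive element of a group algebra is zero. -/
theorem primitive_eq_zero (t : MonoidAlgebra C G)
    (h : dgl (B := C) G t = in1 (B := C) G t + in2 (B := C) G t) : t = 0 := by
  apply MonoidAlgebra.coeff_injective
  ext m
  rw [MonoidAlgebra.coeff_zero, Finsupp.zero_apply]
  by_cases hm : m = 1
  · subst hm
    have h1 := congrArg (fun x => x.coeff ((1 : G), (1 : G))) h
    simp only [MonoidAlgebra.coeff_add, Finsupp.add_apply] at h1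
    rw [coeff_dgl, coeff_in1_one, coeff_in2_one] at h1
    exact left_eq_add.mp h1
  · have h1 := congrArg (fun x => x.coeff (m, m)) h
    simp only [MonoidAlgebra.coeff_add, Finsupp.add_apply] at h1
    rw [coeff_dgl, coeff_in1_of_ne G t m hm, coeff_in2_of_ne G t m hm, add_zero] at h1
    exact h1

end Alg

section Points

variable {U : Scheme.{u}} {M : Type} [AddCommGroup M]

local notation "GG" => Multiplicative M

/-- `Γ(Spec T, ⊤) ≅ T` as a ring isomorphism, applied to elements. -/
noncomputable abbrev gs (T : Type u) [CommRing T] : Γ(Spec (CommRingCat.of T), ⊤) ≅ CommRingCat.of T :=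
  Scheme.ΓSpecIso (CommRingCat.of T)

theorem appTop_specMap {T T' : Type u} [CommRing T] [CommRing T'] (φ : T →+* T') (a : T) :
    (Spec.map (CommRingCat.ofHom φ)).appTop ((gs T).inv a) = (gs T').inv (φ a) := by
  have h := Scheme.ΓSpecIso_inv_naturality (CommRingCat.ofHom φ)
  have h2 := congrArg (fun k => k.hom a) h
  simp only [CommRingCat.hom_comp, RingHom.coe_comp, Function.comp_apply, CommRingCat.hom_ofHom] at h2
  exact h2.symm

variable (w : ∀ (T : Over U), (T ⟶ Red.DS U M) → Γ(T.left, ⊤))
  (hmul : ∀ (T : Over U) (y y' : T ⟶ Red.DS U M), w T (y * y') = w T y + w T y')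
  (hcomp : ∀ (T T' : Over U) (k : T' ⟶ T) (y : T ⟶ Red.DS U M),
    w T' (k ≫ y) = k.left.appTop (w T y))

include hmul hcomp in
/-- A natural additive function on the points of `D_U(M)` vanishes on points with values in affine schemes. -/
theorem addChar_eq_zero_of_affine {C : Type u} [CommRing C] (p : Spec (CommRingCat.of C) ⟶ U)
    (y : pt C p ⟶ Red.DS U M) : w (pt C p) y = 0 := by
  -- the universal point
  let χ : GG →* Γ((bpt p (MonoidAlgebra C GG)).left, ⊤) :=
    (RingHom.toMonoidHom ((gs (MonoidAlgebra C GG)).inv.hom)).comp (MonoidAlgebra.of C GG)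
  obtain ⟨ξ, hξ⟩ := dsChar_surj (X := bpt p (MonoidAlgebra C GG)) χ
  have hξ' : ∀ m : M, dsChar ξ m =
      (gs (MonoidAlgebra C GG)).inv (MonoidAlgebra.single (Multiplicative.ofAdd m) 1) := hξ
  -- pulling back the universal point along an algebra map
  have hpull : ∀ {T : Type u} [CommRing T] [Algebra C T] (φ : MonoidAlgebra C GG →ₐ[C] T) (m : M),
      dsChar (bMor p φ ≫ ξ) m = (gs T).inv (φ (MonoidAlgebra.single (Multiplicative.ofAdd m) 1)) := by
    intro T _ _ φ m
    rw [dsChar_comp, hξ' m]
    exact appTop_specMap φ.toRingHom _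
  have hwpull : ∀ {T : Type u} [CommRing T] [Algebra C T] (φ : MonoidAlgebra C GG →ₐ[C] T),
      w _ (bMor p φ ≫ ξ) = (gs T).inv (φ ((gs (MonoidAlgebra C GG)).hom (w _ ξ))) := by
    intro T _ _ φ
    rw [hcomp]
    have h0 : (gs (MonoidAlgebra C GG)).inv ((gs (MonoidAlgebra C GG)).hom (w _ ξ)) = w _ ξ := by
      simp
    have h1 := appTop_specMap φ.toRingHom ((gs (MonoidAlgebra C GG)).hom (w _ ξ))
    rw [h0] at h1
    exact h1
  -- multiplicativity of the universal point
  have hΔ : bMor p (dgl (B := C) GG) ≫ ξ =
      (bMor p (in1 (B := C) GG) ≫ ξ) * (bMor p (in2 (B := C) GG) ≫ ξ) := by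
    apply dsChar_ext
    intro m
    rw [dsChar_mul, hpull, hpull, hpull, ← map_mul]
    congr 1
    simp [MonoidAlgebra.single_mul_single]
  -- the function of the universal point is primitive, hence zero
  have hinj : ∀ (T : Type u) [CommRing T], Function.Injective (gs T).inv := by
    intro T _ a b hab
    have := congrArg (gs T).hom hab
    simpa using this
  have hprim : dgl (B := C) GG ((gs (MonoidAlgebra C GG)).hom (w _ ξ)) =
      in1 (B := C) GG ((gs (MonoidAlgebra C GG)).hom (w _ ξ)) +
        in2 (B := C) GG ((gs (MonoidAlgebra C GG)).hom (w _ ξ)) := by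
    have h1 := congrArg (w _) hΔ
    rw [hmul, hwpull, hwpull, hwpull, ← map_add] at h1
    exact hinj _ h1
  have hτ0 := primitive_eq_zero GG _ hprim
  have hwξ : w _ ξ = 0 := by
    have := congrArg (gs (MonoidAlgebra C GG)).inv hτ0
    simpa using this
  -- an arbitrary point factors through the universal one
  let χy : GG →* C :=
    { toFun := fun g => (gs C).hom (dsChar y (Multiplicative.toAdd g))
      map_one' := by
        change (gs C).hom (dsChar y 0) = 1
        rw [dsChar_zero, map_one]
      map_mul' := by
        intro a b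
        change (gs C).hom (dsChar y (Multiplicative.toAdd a + Multiplicative.toAdd b)) = _
        rw [dsChar_add, map_mul] }
  let φy : MonoidAlgebra C GG →ₐ[C] C := MonoidAlgebra.lift C C GG χy
  let ky : pt C p ⟶ bpt p (MonoidAlgebra C GG) :=
    Over.homMk (Spec.map (CommRingCat.ofHom φy.toRingHom)) (by
      have h1 : φy.toRingHom.comp (algebraMap C (MonoidAlgebra C GG)) = RingHom.id C := by
        ext c
        exact φy.commutes c
      change Spec.map _ ≫ Spec.map _ ≫ p = p
      rw [← Category.assoc, specMap_comp, h1, CommRingCat.ofHom_id]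
      erw [Spec.map_id]
      exact Category.id_comp p)
  have hy : y = ky ≫ ξ := by
    apply dsChar_ext
    intro m
    rw [dsChar_comp, hξ' m]
    have h1 := appTop_specMap φy.toRingHom (MonoidAlgebra.single (Multiplicative.ofAdd m) (1 : C))
    refine Eq.trans ?_ h1.symm
    have h2 : φy.toRingHom (MonoidAlgebra.single (Multiplicative.ofAdd m) (1 : C)) =
        (gs C).hom (dsChar y m) := by
      change φy (MonoidAlgebra.single (Multiplicative.ofAdd m) (1 : C)) = _
      rw [MonoidAlgebra.lift_single, one_smul]
      rfl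
    rw [h2]
    simp
  rw [hy, hcomp, hwξ, map_zero]

end Points

end Groth.Agent.Lib.Seat37.DSAdd
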