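import Mathlib
import Groth.Prelude.Def_Red
import Groth.Agent.Lib.Seat37DiagKer

/-!
# Homomorphisms from diagonalisable groups trivial modulo a nilpotent ideal (global reduction)

`TrivT M f χ`: the morphism `f : D(M) ⟶ X` is trivial on the point `χ : R[M] → T`.
`trivT_of_nilpotent`: if `f` is a homomorphism, trivial modulo a nilpotent ideal, then it is trivial on
`R'[M]` for every `R`-algebra `R'` whose unit section lies in an affine open of `X`.
-/

set_option autoImplicit false
set_option linter.style.haveILetI false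
universe u
open CategoryTheory MonObj AlgebraicGeometry

namespace Groth.Agent.Lib.Seat37.DiagGlobal

open Limits LieS Groth.Agent.Lib.Seat37.SqZero Groth.Agent.Lib.Seat37.DiagKer
  Groth.Agent.Lib.Seat37.DiagKerAlg

section Global

variable {R : Type u} [CommRing R] (M : Type) [AddCommGroup M]
  (B : Type u) [CommRing B] [Algebra R B]

local notation "GG" => Multiplicative M
local notation "AA" => MonoidAlgebra R (Multiplicative M)

/-- structure map of Spec B -/
noncomputable abbrev sB : Spec (CommRingCat.of B) ⟶ Spec (CommRingCat.of R) :=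
  Spec.map (CommRingCat.ofHom (algebraMap R B))

variable (T : Type u) [CommRing T] [Algebra B T] [Algebra R T] [IsScalarTower R B T]

/-- comparison of the two ways to view `Spec T` over `Spec R` -/
noncomputable def theta : bpt (sB (R := R) B) T ⟶ (Spec (CommRingCat.of T)).asOver (Spec (CommRingCat.of R)) :=
  Over.homMk (𝟙 _) (by
    change 𝟙 _ ≫ Spec.map _ = Spec.map _ ≫ Spec.map _
    rw [Category.id_comp, specMap_comp, ← IsScalarTower.algebraMap_eq])

theorem theta_comp_mapMulEquiv_left (φ : AA →ₐ[R] T) :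
    (theta B T ≫ Spec.mapMulEquiv (WithConv.toConv φ)).left =
      Spec.map (CommRingCat.ofHom φ.toRingHom) := by
  change 𝟙 _ ≫ Spec.map _ = _
  rw [Category.id_comp]

/-- the canonical point `Spec B[G] ⟶ D(M) = Spec R[G]` -/
noncomputable def canB : bpt (sB (R := R) B) (MonoidAlgebra B GG) ⟶ Red.diag R M :=
  Over.homMk (Spec.map (CommRingCat.ofHom (MonoidAlgebra.mapRingHom GG (algebraMap R B)))) (by
    have h1 : (MonoidAlgebra.mapRingHom GG (algebraMap R B)).comp (algebraMap R AA) =
        (algebraMap B (MonoidAlgebra B GG)).comp (algebraMap R B) := by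
      ext r
      simp [MonoidAlgebra.coe_algebraMap]
    change Spec.map _ ≫ Spec.map _ = Spec.map _ ≫ Spec.map _
    rw [specMap_comp, specMap_comp, h1])

/-- the `R`-algebra map `R[G] → B[G]` -/
noncomputable abbrev psiB : AA →ₐ[R] MonoidAlgebra B GG :=
  MonoidAlgebra.mapAlgHom GG (Algebra.ofId R B)

theorem canB_hom {X : Over (Spec (CommRingCat.of R))} [GrpObj X] (f : Red.diag R M ⟶ X) [IsMonHom f] :
    bMor (sB (R := R) B) (dgl (B := B) GG) ≫ canB M B ≫ f =
      (bMor (sB (R := R) B) (in1 (B := B) GG) ≫ canB M B ≫ f) *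
        (bMor (sB (R := R) B) (in2 (B := B) GG) ≫ canB M B ≫ f) := by
  -- the three algebra maps
  let φd : AA →ₐ[R] MonoidAlgebra B (GG × GG) := ((dgl (B := B) GG).restrictScalars R).comp (psiB M B)
  let φ1 : AA →ₐ[R] MonoidAlgebra B (GG × GG) := ((in1 (B := B) GG).restrictScalars R).comp (psiB M B)
  let φ2 : AA →ₐ[R] MonoidAlgebra B (GG × GG) := ((in2 (B := B) GG).restrictScalars R).comp (psiB M B)
  have hconv : WithConv.toConv φ1 * WithConv.toConv φ2 = WithConv.toConv φd := by
    apply WithConv.ofConv_injective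
    apply MonoidAlgebra.algHom_ext
    · intro m
      rw [AlgHom.convMul_apply]
      simp [φ1, φ2, φd]
    · exact Subsingleton.elim _ _
  -- transport to the convolution monoid
  have e1 : ∀ φ : AA →ₐ[R] MonoidAlgebra B (GG × GG), ∀ (χ : MonoidAlgebra B GG →ₐ[B] MonoidAlgebra B (GG × GG)),
      φ = (χ.restrictScalars R).comp (psiB M B) →
      bMor (sB (R := R) B) χ ≫ canB M B =
        theta B (MonoidAlgebra B (GG × GG)) ≫ Spec.mapMulEquiv (WithConv.toConv φ) := by
    intro φ χ hφ
    apply Over.OverMorphism.ext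
    rw [theta_comp_mapMulEquiv_left, hφ]
    change Spec.map _ ≫ Spec.map _ = _
    rw [specMap_comp]
    rfl
  rw [← Category.assoc, ← Category.assoc, ← Category.assoc, ← MonObj.mul_comp,
    e1 φd _ rfl, e1 φ1 _ rfl, e1 φ2 _ rfl, ← MonObj.comp_mul, ← map_mul, hconv]

end Global

section Triv

variable {R : Type u} [CommRing R] (M : Type) [AddCommGroup M]
  {X : Over (Spec (CommRingCat.of R))} [GrpObj X] (f : Red.diag R M ⟶ X)

local notation "GG" => Multiplicative M
local notation "AA" => MonoidAlgebra R (Multiplicative M)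

/-- The underlying morphism of schemes of a point of `X` with values in `D(M) = Spec R[G]`. -/
noncomputable def leftS (f : Red.diag R M ⟶ X) : Spec (CommRingCat.of AA) ⟶ X.left := f.left

/-- `f` is trivial on the `T`-point of `D(M)` given by `χ : R[G] → T`. -/
def TrivT {T : Type u} [CommRing T] (χ : AA →+* T) : Prop :=
  Spec.map (CommRingCat.ofHom χ) ≫ leftS M f = Spec.map (CommRingCat.ofHom χ) ≫ leftS M (1 : Red.diag R M ⟶ X)

variable {M f} in
theorem TrivT.comp {T T' : Type u} [CommRing T] [CommRing T'] {χ : AA →+* T} (h : TrivT M f χ)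
    (ψ : T →+* T') : TrivT M f (ψ.comp χ) := by
  unfold TrivT at h ⊢
  rw [CommRingCat.ofHom_comp, Spec.map_comp, Category.assoc, Category.assoc, h]

theorem canB_comp_eq_one_iff (B : Type u) [CommRing B] [Algebra R B] :
    canB M B ≫ f = 1 ↔ TrivT M f (MonoidAlgebra.mapRingHom GG (algebraMap R B)) := by
  have h1 : (1 : bpt (sB (R := R) B) (MonoidAlgebra B GG) ⟶ X) = canB M B ≫ 1 :=
    (MonObj.comp_one _).symm
  constructor
  · intro h
    have := congrArg (fun t => t.left) (h.trans h1)
    exact this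
  · intro h
    rw [h1]
    apply Over.OverMorphism.ext
    exact h

theorem trivT_of_pullback (I : Ideal R)
    (h : (Over.pullback (Spec.map (CommRingCat.ofHom (Ideal.Quotient.mk I)))).map f = 1)
    {T : Type u} [CommRing T] (χ : AA →+* T) (hχ : ∀ x ∈ I, χ (algebraMap R AA x) = 0) :
    TrivT M f χ := by
  set f₀ := Spec.map (CommRingCat.ofHom (Ideal.Quotient.mk I)) with hf₀
  have hK : pullback.fst (Red.diag R M).hom f₀ ≫ f.left =
      pullback.fst (Red.diag R M).hom f₀ ≫ (1 : Red.diag R M ⟶ X).left := by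
    have h0 : (Over.pullback f₀).map f = (Over.pullback f₀).map 1 := by
      rw [h]
      exact ((Over.pullback f₀).map_one).symm
    have h1 := congrArg (fun m => m.left ≫ pullback.fst X.hom f₀) h0
    simp only [Over.pullback_map_left] at h1
    rw [pullback.lift_fst, pullback.lift_fst] at h1
    exact h1
  let χ₀ : R ⧸ I →+* T := Ideal.Quotient.lift I (χ.comp (algebraMap R AA)) hχ
  have hχ₀ : χ₀.comp (Ideal.Quotient.mk I) = χ.comp (algebraMap R AA) := by
    ext x
    simp [χ₀]
  let l : Spec (CommRingCat.of T) ⟶ pullback (Red.diag R M).hom f₀ :=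
    pullback.lift (Spec.map (CommRingCat.ofHom χ)) (Spec.map (CommRingCat.ofHom χ₀)) (by
      change Spec.map _ ≫ Spec.map _ = Spec.map _ ≫ Spec.map _
      rw [specMap_comp, specMap_comp, hχ₀])
  have hl : l ≫ pullback.fst (Red.diag R M).hom f₀ = Spec.map (CommRingCat.ofHom χ) :=
    pullback.lift_fst _ _ _
  have h2 := congrArg (fun t => l ≫ t) hK
  simp only [← Category.assoc] at h2
  rw [hl] at h2
  exact h2

theorem trivT_step [IsMonHom f] (B B₀ : Type u) [CommRing B] [CommRing B₀] [Algebra R B] [Algebra R B₀]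
    [Algebra B B₀] [IsScalarTower R B B₀] (J : Ideal B) (hJ : J * J = ⊥)
    (hq : Function.Surjective (algebraMap B B₀)) (hker : RingHom.ker (algebraMap B B₀) = J)
    (U : X.left.Opens) (hU : IsAffineOpen U)
    (hUe : Set.range (1 : pt B (sB (R := R) B) ⟶ X).left ⊆ (U : Set X.left))
    (h₀ : TrivT M f (MonoidAlgebra.mapRingHom GG (algebraMap R B₀))) :
    TrivT M f (MonoidAlgebra.mapRingHom GG (algebraMap R B)) := by
  rw [← canB_comp_eq_one_iff]
  apply eq_one_of_hom (sB (R := R) B) U hU J hJ GG hUe hq hker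
  · have h1 : (1 : bpt (sB (R := R) B) (MonoidAlgebra B₀ GG) ⟶ X) =
        (bMor (sB (R := R) B) (MonoidAlgebra.mapAlgHom GG (Algebra.ofId B B₀)) ≫ canB M B) ≫ 1 :=
      (MonObj.comp_one _).symm
    rw [h1, ← Category.assoc]
    apply Over.OverMorphism.ext
    have h2 : Spec.map (CommRingCat.ofHom (MonoidAlgebra.mapAlgHom GG (Algebra.ofId B B₀)).toRingHom) ≫
        Spec.map (CommRingCat.ofHom (MonoidAlgebra.mapRingHom GG (algebraMap R B))) =
        Spec.map (CommRingCat.ofHom (MonoidAlgebra.mapRingHom GG (algebraMap R B₀))) := by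
      rw [specMap_comp]
      congr 2
      change (MonoidAlgebra.mapRingHom GG (algebraMap B B₀)).comp _ = _
      rw [← MonoidAlgebra.mapRingHom_comp, ← IsScalarTower.algebraMap_eq]
    change (Spec.map _ ≫ Spec.map _) ≫ leftS M f = (Spec.map _ ≫ Spec.map _) ≫ leftS M 1
    rw [h2]
    exact h₀
  · exact canB_hom M B f

theorem trivT_of_nilpotent [IsMonHom f] (I : Ideal R) (n : ℕ) (hn : I ^ n = ⊥)
    (h : (Over.pullback (Spec.map (CommRingCat.ofHom (Ideal.Quotient.mk I)))).map f = 1)
    (R' : Type u) [CommRing R'] [Algebra R R'] (U : X.left.Opens) (hU : IsAffineOpen U)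
    (hUe : Set.range (1 : pt R' (sB (R := R) R') ⟶ X).left ⊆ (U : Set X.left)) :
    TrivT M f (MonoidAlgebra.mapRingHom GG (algebraMap R R')) := by
  set I' : Ideal R' := I.map (algebraMap R R') with hI'
  -- the unit section over any quotient of `R'` lies in `U`
  have hUeB : ∀ k : ℕ, Set.range (1 : pt (R' ⧸ I' ^ k) (sB (R := R) (R' ⧸ I' ^ k)) ⟶ X).left ⊆
      (U : Set X.left) := by
    intro k
    let g : pt (R' ⧸ I' ^ k) (sB (R := R) (R' ⧸ I' ^ k)) ⟶ pt R' (sB (R := R) R') :=
      Over.homMk (Spec.map (CommRingCat.ofHom (algebraMap R' (R' ⧸ I' ^ k)))) (by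
        change Spec.map _ ≫ Spec.map _ = Spec.map _
        rw [specMap_comp, ← IsScalarTower.algebraMap_eq])
    have h1 : (1 : pt (R' ⧸ I' ^ k) (sB (R := R) (R' ⧸ I' ^ k)) ⟶ X) = g ≫ 1 :=
      (MonObj.comp_one _).symm
    rw [h1]
    rintro _ ⟨z, rfl⟩
    exact hUe ⟨g.left z, rfl⟩
  have key : ∀ k : ℕ, 1 ≤ k →
      TrivT M f (MonoidAlgebra.mapRingHom GG (algebraMap R (R' ⧸ I' ^ k))) := by
    intro k hk
    induction k, hk using Nat.le_induction with
    | base =>
      apply trivT_of_pullback M f I h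
      intro x hx
      rw [MonoidAlgebra.coe_algebraMap, Function.comp_apply, MonoidAlgebra.mapRingHom_single]
      have h1 : algebraMap R (R' ⧸ I' ^ 1) x = 0 := by
        rw [IsScalarTower.algebraMap_apply R R' (R' ⧸ I' ^ 1), Ideal.Quotient.algebraMap_eq,
          Ideal.Quotient.eq_zero_iff_mem, pow_one]
        exact Ideal.mem_map_of_mem _ hx
      rw [Algebra.algebraMap_self, RingHom.id_apply, h1]
      simp
    | succ k hk ih =>
      have hle : I' ^ (k + 1) ≤ I' ^ k := Ideal.pow_le_pow_right k.le_succ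
      letI : Algebra (R' ⧸ I' ^ (k + 1)) (R' ⧸ I' ^ k) := (Ideal.Quotient.factor hle).toAlgebra
      haveI : IsScalarTower R (R' ⧸ I' ^ (k + 1)) (R' ⧸ I' ^ k) :=
        IsScalarTower.of_algebraMap_eq (fun x => rfl)
      have hker : RingHom.ker (algebraMap (R' ⧸ I' ^ (k + 1)) (R' ⧸ I' ^ k)) =
          (I' ^ k).map (Ideal.Quotient.mk (I' ^ (k + 1))) := Ideal.Quotient.factor_ker hle
      have hJ : (I' ^ k).map (Ideal.Quotient.mk (I' ^ (k + 1))) *
          (I' ^ k).map (Ideal.Quotient.mk (I' ^ (k + 1))) = ⊥ := by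
        rw [← Ideal.map_mul, ← pow_add]
        apply Ideal.map_mk_eq_bot_of_le
        apply Ideal.pow_le_pow_right
        omega
      exact trivT_step M f (R' ⧸ I' ^ (k + 1)) (R' ⧸ I' ^ k) _ hJ
        (Ideal.Quotient.factor_surjective hle) hker U hU (hUeB (k + 1)) ih
  have hbot : I' ^ (n + 1) = ⊥ := by
    rw [hI', ← Ideal.map_pow, pow_succ, hn, Ideal.bot_mul, Ideal.map_bot]
  let ψ₀ : R' ⧸ I' ^ (n + 1) →+* R' := Ideal.Quotient.lift _ (RingHom.id R') (by
    intro a ha
    rw [hbot, Ideal.mem_bot] at ha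
    rw [RingHom.id_apply]
    exact ha)
  have hψ₀ : ψ₀.comp (algebraMap R (R' ⧸ I' ^ (n + 1))) = algebraMap R R' := by
    ext x
    rw [RingHom.comp_apply, IsScalarTower.algebraMap_apply R R' (R' ⧸ I' ^ (n + 1)),
      Ideal.Quotient.algebraMap_eq]
    exact Ideal.Quotient.lift_mk _ _ _
  have := (key (n + 1) (Nat.le_add_left 1 n)).comp (MonoidAlgebra.mapRingHom GG ψ₀)
  rw [← MonoidAlgebra.mapRingHom_comp, hψ₀] at this
  exact this

end Triv

end Groth.Agent.Lib.Seat37.DiagGlobal
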