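import Mathlib
import Groth.Prelude.Def_W4sga3xiixivxvCartan
import Groth.Agent.Lib.Seat37LiftReg

/-!
# A Zariski cover `∏ A_{f i}` and quasi-regular sections on it
-/

set_option autoImplicit false
universe u

open scoped TensorProduct
open SGA3t2b

namespace Groth.Agent.Lib.Seat37.EtaleCover

open Groth.Agent.Lib.Seat37.RankBC Groth.Agent.Lib.Seat37.LiftReg

section Pointwise

variable {A : Type u} [CommRing A] {L : Type u} [LieRing L] [LieAlgebra A L] [Module.Finite A L]

/-- Pointwise form of `isQuasiRegular_one_tmul`. -/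
theorem isRegular_one_tmul_one_tmul_iff (A' : Type u) [CommRing A'] [Algebra A A'] (a : L)
    (q' : PrimeSpectrum A') :
    LieAlgebra.IsRegular q'.asIdeal.ResidueField
        ((1 : q'.asIdeal.ResidueField) ⊗ₜ[A'] ((1 : A') ⊗ₜ[A] a)) ↔
      LieAlgebra.IsRegular (PrimeSpectrum.comap (algebraMap A A') q').asIdeal.ResidueField
        ((1 : (PrimeSpectrum.comap (algebraMap A A') q').asIdeal.ResidueField) ⊗ₜ[A] a) := by
  letI : Algebra (PrimeSpectrum.comap (algebraMap A A') q').asIdeal.ResidueField
      q'.asIdeal.ResidueField :=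
    (Ideal.ResidueField.map (PrimeSpectrum.comap (algebraMap A A') q').asIdeal q'.asIdeal
      (algebraMap A A') (PrimeSpectrum.comap_asIdeal (algebraMap A A') q')).toAlgebra
  haveI : IsScalarTower A (PrimeSpectrum.comap (algebraMap A A') q').asIdeal.ResidueField
      q'.asIdeal.ResidueField := by
    apply IsScalarTower.of_algebraMap_eq
    intro x
    rw [RingHom.algebraMap_toAlgebra, Ideal.ResidueField.map_algebraMap]
    rw [IsScalarTower.algebraMap_apply A A' q'.asIdeal.ResidueField]
  rw [isRegular_tensor_tensor A L A' q'.asIdeal.ResidueField,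
    isRegular_tensor_field_ext A L (PrimeSpectrum.comap (algebraMap A A') q').asIdeal.ResidueField
      q'.asIdeal.ResidueField]

end Pointwise

section Cover

variable {A : Type u} [CommRing A] {ι : Type u} [Fintype ι] [DecidableEq ι] (f : ι → A)

/-- The Zariski covering algebra `∏ A_{f i}`. -/
abbrev Cover : Type u := ∀ i : ι, Localization.Away (f i)

instance : Algebra.Etale A (Cover f) := inferInstance

theorem comap_surjective (hf : Ideal.span (Set.range f) = ⊤) :
    Function.Surjective (PrimeSpectrum.comap (algebraMap A (Cover f))) := by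
  intro q
  obtain ⟨i, hi⟩ : ∃ i, f i ∉ q.asIdeal := by
    by_contra h
    push Not at h
    have : Ideal.span (Set.range f) ≤ q.asIdeal := by
      rw [Ideal.span_le]
      rintro _ ⟨i, rfl⟩
      exact h i
    rw [hf] at this
    exact q.isPrime.ne_top (top_le_iff.1 this)
  have hmem : q ∈ Set.range (PrimeSpectrum.comap (algebraMap A (Localization.Away (f i)))) := by
    rw [PrimeSpectrum.localization_away_comap_range (Localization.Away (f i)) (f i)]
    exact hi
  obtain ⟨qi, rfl⟩ := hmem
  refine ⟨PrimeSpectrum.comap (Pi.evalRingHom (fun i => Localization.Away (f i)) i) qi, ?_⟩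
  rw [← PrimeSpectrum.comap_comp_apply]
  rfl

theorem faithfullyFlat (hf : Ideal.span (Set.range f) = ⊤) : Module.FaithfullyFlat A (Cover f) :=
  Module.FaithfullyFlat.of_comap_surjective (comap_surjective f hf)

end Cover

section Glue

variable {A : Type u} [CommRing A] {L : Type u} [LieRing L] [LieAlgebra A L] [Module.Finite A L]
  {ι : Type u} [Fintype ι] [DecidableEq ι] (f : ι → A) (a : ι → L)

/-- The section of `(∏ A_{f i}) ⊗ L` whose `i`-th component is `a i`. -/
noncomputable def glue : Cover f ⊗[A] L :=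
  ∑ i, (Pi.single i (1 : Localization.Away (f i)) : Cover f) ⊗ₜ[A] a i

theorem isQuasiRegular_glue
    (h : ∀ i, ∀ q : PrimeSpectrum A, f i ∉ q.asIdeal →
      LieAlgebra.IsRegular q.asIdeal.ResidueField ((1 : q.asIdeal.ResidueField) ⊗ₜ[A] a i)) :
    IsQuasiRegular (Cover f) (Cover f ⊗[A] L) (glue f a) := by
  intro q'
  set e : ι → Cover f := fun i => Pi.single i (1 : Localization.Away (f i)) with he
  have hsum : ∑ i, e i = 1 := Finset.univ_sum_single (1 : Cover f)
  obtain ⟨i, hi⟩ : ∃ i, e i ∉ q'.asIdeal := by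
    by_contra hcon
    push Not at hcon
    have : (1 : Cover f) ∈ q'.asIdeal := by
      rw [← hsum]
      exact Ideal.sum_mem _ (fun j _ => hcon j)
    exact q'.isPrime.ne_top ((Ideal.eq_top_iff_one _).2 this)
  have hne : ∀ j, j ≠ i → e j ∈ q'.asIdeal := by
    intro j hj
    have hmul : e i * e j = 0 := by
      ext k
      simp only [he, Pi.mul_apply, Pi.zero_apply]
      by_cases hk : k = i
      · subst hk
        rw [Pi.single_eq_of_ne (Ne.symm hj), mul_zero]
      · rw [Pi.single_eq_of_ne hk, zero_mul]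
    have : e i * e j ∈ q'.asIdeal := by
      rw [hmul]
      exact zero_mem _
    exact (q'.isPrime.mem_or_mem this).resolve_left hi
  have hzero : ∀ j, j ≠ i → algebraMap (Cover f) q'.asIdeal.ResidueField (e j) = 0 := by
    intro j hj
    rw [Ideal.algebraMap_residueField_eq_zero]
    exact hne j hj
  have hone : algebraMap (Cover f) q'.asIdeal.ResidueField (e i) = 1 := by
    have h1 : algebraMap (Cover f) q'.asIdeal.ResidueField (∑ j, e j) = 1 := by
      rw [hsum, map_one]
    rw [map_sum, Finset.sum_eq_single i (fun j _ hj => hzero j hj)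
      (fun hi' => absurd (Finset.mem_univ i) hi')] at h1
    exact h1
  have hglue : (1 : q'.asIdeal.ResidueField) ⊗ₜ[Cover f] glue f a =
      (1 : q'.asIdeal.ResidueField) ⊗ₜ[Cover f] ((1 : Cover f) ⊗ₜ[A] a i) := by
    have hterm : ∀ j, (1 : q'.asIdeal.ResidueField) ⊗ₜ[Cover f] (e j ⊗ₜ[A] a j) =
        (algebraMap (Cover f) q'.asIdeal.ResidueField (e j)) ⊗ₜ[Cover f]
          ((1 : Cover f) ⊗ₜ[A] a j) := by
      intro j
      have : e j ⊗ₜ[A] a j = e j • ((1 : Cover f) ⊗ₜ[A] a j) := by
        rw [TensorProduct.smul_tmul', smul_eq_mul, mul_one]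
      rw [this, ← TensorProduct.smul_tmul, Algebra.algebraMap_eq_smul_one]
    rw [glue, TensorProduct.tmul_sum]
    rw [Finset.sum_eq_single i]
    · rw [hterm, hone]
    · intro j _ hj
      rw [hterm, hzero j hj, TensorProduct.zero_tmul]
    · intro hi'
      exact absurd (Finset.mem_univ i) hi'
  rw [hglue, isRegular_one_tmul_one_tmul_iff]
  apply h i
  show f i ∉ (PrimeSpectrum.comap (algebraMap A (Cover f)) q').asIdeal
  intro hfi
  have hmem : algebraMap A (Cover f) (f i) ∈ q'.asIdeal := hfi
  apply hi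
  have hei : e i = (Pi.single i (IsLocalization.Away.invSelf (S := Localization.Away (f i)) (f i)) :
      Cover f) * algebraMap A (Cover f) (f i) := by
    ext k
    simp only [he, Pi.mul_apply]
    by_cases hk : k = i
    · subst hk
      rw [Pi.single_eq_same, Pi.single_eq_same, mul_comm]
      exact (IsLocalization.Away.mul_invSelf (f k)).symm
    · rw [Pi.single_eq_of_ne hk, Pi.single_eq_of_ne hk, zero_mul]
  rw [hei]
  exact Ideal.mul_mem_left _ _ hmem

end Glue

section Main

variable {A : Type u} [CommRing A] {L : Type u} [LieRing L] [LieAlgebra A L] [Module.Finite A L]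
  [Module.Projective A L]

open Classical in
/-- (C₂) ⇒ (C′₁) when every fibre has a regular element. -/
theorem exists_etale_cover_cartanRel
    (hC0 : ∀ p : PrimeSpectrum A, ∃ f : A, f ∉ p.asIdeal ∧ ∀ q : PrimeSpectrum A, f ∉ q.asIdeal →
        LieAlgebra.rank q.asIdeal.ResidueField (q.asIdeal.ResidueField ⊗[A] L) =
          LieAlgebra.rank p.asIdeal.ResidueField (p.asIdeal.ResidueField ⊗[A] L))
    (hC2 : ∀ (A' : Type u) [CommRing A'] [Algebra A A'] (a' : A' ⊗[A] L),
        SGA3t2b.IsQuasiRegular A' (A' ⊗[A] L) a' → SGA3t2b.IsRegularRel A' (A' ⊗[A] L) a')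
    (hreg : ∀ p : PrimeSpectrum A, ∃ x : p.asIdeal.ResidueField ⊗[A] L,
      LieAlgebra.IsRegular p.asIdeal.ResidueField x) :
    ∃ (A' : Type u) (_ : CommRing A') (_ : Algebra A A'), Algebra.Etale A A' ∧
      Module.FaithfullyFlat A A' ∧
        ∃ H : LieSubalgebra A' (A' ⊗[A] L), SGA3t2b.IsCartanRel H := by
  choose a ha using fun p => exists_isRegular_one_tmul p (hreg p)
  have hnbhd : ∀ p : PrimeSpectrum A, ∃ g : A, g ∉ p.asIdeal ∧ ∀ q : PrimeSpectrum A,
      g ∉ q.asIdeal →
        LieAlgebra.IsRegular q.asIdeal.ResidueField ((1 : q.asIdeal.ResidueField) ⊗ₜ[A] a p) := by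
    intro p
    have hopen := Groth.Agent.Lib.Seat37.RegLocus.isOpen_setOf_isRegular hC0 (a p)
    have hpmem : p ∈ {q : PrimeSpectrum A |
        LieAlgebra.IsRegular q.asIdeal.ResidueField ((1 : q.asIdeal.ResidueField) ⊗ₜ[A] a p)} := ha p
    obtain ⟨U, ⟨g, rfl⟩, hpU, hU⟩ :=
      PrimeSpectrum.isTopologicalBasis_basic_opens.exists_subset_of_mem_open hpmem hopen
    exact ⟨g, hpU, fun q hq => hU hq⟩
  choose g hg hga using hnbhd
  have hspan : Ideal.span (Set.range g) = ⊤ := by
    by_contra hne
    obtain ⟨m, hm, hle⟩ := Ideal.exists_le_maximal _ hne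
    exact hg ⟨m, hm.isPrime⟩ (hle (Ideal.subset_span ⟨⟨m, hm.isPrime⟩, rfl⟩))
  obtain ⟨s', hs', hspan'⟩ := (Ideal.span_eq_top_iff_finite _).1 hspan
  have hP : ∀ i : {r // r ∈ s'}, ∃ p : PrimeSpectrum A, g p = i.1 := fun i => hs' i.2
  choose P hP using hP
  set F : {r // r ∈ s'} → A := fun i => i.1 with hF
  have hFspan : Ideal.span (Set.range F) = ⊤ := by
    rw [hF, Subtype.range_coe_subtype]
    exact hspan'
  have hq : IsQuasiRegular (Cover F) (Cover F ⊗[A] L) (glue F (fun i => a (P i))) :=
    isQuasiRegular_glue F (fun i => a (P i)) (fun i q hq => hga (P i) q (by rw [hP i]; exact hq))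
  obtain ⟨_, H, hH, _⟩ := hC2 (Cover F) (glue F (fun i => a (P i))) hq
  exact ⟨Cover F, inferInstance, inferInstance, inferInstance, faithfullyFlat F hFspan, H, hH⟩

end Main

end Groth.Agent.Lib.Seat37.EtaleCover
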