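import Mathlib.Algebra.Homology.DerivedCategory.Ext.Map
import Mathlib.Algebra.Homology.DerivedCategory.Ext.ExactSequences
import Mathlib.Algebra.Homology.DerivedCategory.Ext.EnoughInjectives

/-!
# Functoriality of `Abelian.Ext.mapExactFunctor` in the functor

* `mk₀_comp_mapExactFunctor`: naturality with respect to a natural transformation `τ : F ⟶ G`
  of exact functors;
* `mapExactFunctor_comp_functor`: compatibility with composition of exact functors.
Both by dimension shifting (enough injectives).
-/

set_option autoImplicit false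
universe w w' w'' v v' v'' u u' u''

namespace Groth.Agent.Lib.Seat37.ExtFunctor

open CategoryTheory CategoryTheory.Limits Abelian

variable {C : Type u} [Category.{v} C] [Abelian C] [HasExt.{w} C]
  {D : Type u'} [Category.{v'} D] [Abelian D] [HasExt.{w'} D]

section NatTrans

variable (F G : C ⥤ D) [F.Additive] [PreservesFiniteLimits F] [PreservesFiniteColimits F]
  [G.Additive] [PreservesFiniteLimits G] [PreservesFiniteColimits G] (τ : F ⟶ G)

theorem aux {n : ℕ} {A M B : C} (z : Ext.{w} A M n) (δ : Ext.{w} M B 1)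
    (ih : (Ext.mk₀ (τ.app A)).comp (z.mapExactFunctor G) (zero_add n) =
      (z.mapExactFunctor F).comp (Ext.mk₀ (τ.app M)) (add_zero n))
    (hnat : (δ.mapExactFunctor F).comp (Ext.mk₀ (τ.app B)) (add_zero 1) =
      (Ext.mk₀ (τ.app M)).comp (δ.mapExactFunctor G) (zero_add 1)) :
    (Ext.mk₀ (τ.app A)).comp ((z.comp δ rfl).mapExactFunctor G) (zero_add (n + 1)) =
      ((z.comp δ rfl).mapExactFunctor F).comp (Ext.mk₀ (τ.app B)) (add_zero (n + 1)) := by
  rw [Ext.mapExactFunctor_comp, Ext.mapExactFunctor_comp]
  rw [← Ext.comp_assoc (Ext.mk₀ (τ.app A)) (z.mapExactFunctor G) (δ.mapExactFunctor G)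
    (zero_add n) rfl (by omega), ih]
  rw [Ext.comp_assoc (z.mapExactFunctor F) (Ext.mk₀ (τ.app M)) (δ.mapExactFunctor G) (add_zero n)
    (zero_add 1) (by omega)]
  rw [Ext.comp_assoc (z.mapExactFunctor F) (δ.mapExactFunctor F) (Ext.mk₀ (τ.app B)) rfl
    (add_zero 1) (by omega)]
  rw [hnat]

variable [EnoughInjectives C]

/-- naturality of the maps on `Ext` induced by exact functors with respect to `τ : F ⟶ G` -/
theorem mk₀_comp_mapExactFunctor : ∀ (n : ℕ) {A B : C} (e : Ext.{w} A B n),
    (Ext.mk₀ (τ.app A)).comp (e.mapExactFunctor G) (zero_add n) =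
      (e.mapExactFunctor F).comp (Ext.mk₀ (τ.app B)) (add_zero n)
  | 0, A, B, e => by
    obtain ⟨f, rfl⟩ := (Ext.mk₀_bijective A B).2 e
    rw [Ext.mapExactFunctor_mk₀, Ext.mapExactFunctor_mk₀, Ext.mk₀_comp_mk₀, Ext.mk₀_comp_mk₀]
    congr 1
    exact (τ.naturality f).symm
  | n + 1, A, B, e => by
    let ι := Injective.ι B
    let S : ShortComplex C := ShortComplex.mk ι (cokernel.π ι) (cokernel.condition ι)
    have hS : S.ShortExact :=
      { exact := ShortComplex.exact_of_g_is_cokernel _ (cokernelIsCokernel S.f) }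
    obtain ⟨z, rfl⟩ := Ext.covariant_sequence_exact₁ A hS e (Ext.eq_zero_of_injective _) rfl
    have ih := mk₀_comp_mapExactFunctor n z
    let f : S.map F ⟶ S.map G :=
      { τ₁ := τ.app _
        τ₂ := τ.app _
        τ₃ := τ.app _
        comm₁₂ := (τ.naturality S.f).symm
        comm₂₃ := (τ.naturality S.g).symm }
    have hnat := ShortComplex.ShortExact.extClass_naturality (hS.map_of_exact F)
      (hS.map_of_exact G) f
    refine aux F G τ z hS.extClass ih ?_
    rw [Ext.mapExactFunctor_extClass _ hS, Ext.mapExactFunctor_extClass _ hS]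
    exact hnat

end NatTrans

section Comp

variable {E : Type u''} [Category.{v''} E] [Abelian E] [HasExt.{w''} E]
  (F : C ⥤ D) [F.Additive] [PreservesFiniteLimits F] [PreservesFiniteColimits F]
  (G : D ⥤ E) [G.Additive] [PreservesFiniteLimits G] [PreservesFiniteColimits G]
  [EnoughInjectives C]

instance : PreservesFiniteLimits (F ⋙ G) := comp_preservesFiniteLimits F G

instance : PreservesFiniteColimits (F ⋙ G) := comp_preservesFiniteColimits F G

/-- the map on `Ext` induced by a composite of exact functors -/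
theorem mapExactFunctor_comp_functor : ∀ (n : ℕ) {A B : C} (e : Ext.{w} A B n),
    e.mapExactFunctor (F ⋙ G) = (e.mapExactFunctor F).mapExactFunctor G
  | 0, A, B, e => by
    obtain ⟨f, rfl⟩ := (Ext.mk₀_bijective A B).2 e
    rw [Ext.mapExactFunctor_mk₀, Ext.mapExactFunctor_mk₀, Ext.mapExactFunctor_mk₀]
    rfl
  | n + 1, A, B, e => by
    let ι := Injective.ι B
    let S : ShortComplex C := ShortComplex.mk ι (cokernel.π ι) (cokernel.condition ι)
    have hS : S.ShortExact :=
      { exact := ShortComplex.exact_of_g_is_cokernel _ (cokernelIsCokernel S.f) }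
    obtain ⟨z, rfl⟩ := Ext.covariant_sequence_exact₁ A hS e (Ext.eq_zero_of_injective _) rfl
    have ih := mapExactFunctor_comp_functor n z
    have hδ : hS.extClass.mapExactFunctor (F ⋙ G) =
        (hS.extClass.mapExactFunctor F).mapExactFunctor G :=
      (Ext.mapExactFunctor_extClass (F ⋙ G) hS).trans
        ((show (hS.map_of_exact (F ⋙ G)).extClass =
            ((hS.map_of_exact F).map_of_exact G).extClass from rfl).trans
          ((Ext.mapExactFunctor_extClass G (hS.map_of_exact F)).symm.trans
            (congrArg (Ext.mapExactFunctor G) (Ext.mapExactFunctor_extClass F hS).symm)))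
    rw [Ext.mapExactFunctor_comp (F ⋙ G), ih, hδ, Ext.mapExactFunctor_comp F,
      Ext.mapExactFunctor_comp G]

end Comp

end Groth.Agent.Lib.Seat37.ExtFunctor
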