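import Mathlib
import Groth.Agent.Lib.Seat37DiagKer

/-! seat37: morphisms from the spectrum of a local ring `L`, separated and complete for a decreasing
family of ideals `J n`, into an arbitrary scheme: uniqueness and existence of limits of compatible
families `Spec (L ⧸ J n) ⟶ Y`. -/

set_option autoImplicit false
set_option linter.style.haveILetI false
universe u

namespace Groth.Agent.Lib.Seat37.LocalLim

open CategoryTheory AlgebraicGeometry

variable {L : Type u} [CommRing L] (J : ℕ → Ideal L)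

/-- Lifting a compatible family of ring maps `P → L ⧸ J n` to `P → L`. -/
theorem exists_lift_ringHom (hanti : ∀ n, J (n + 1) ≤ J n)
    (hH : ∀ x : L, (∀ n, x ∈ J n) → x = 0)
    (hC : ∀ x : ℕ → L, (∀ n, x (n + 1) - x n ∈ J n) → ∃ y, ∀ n, y - x n ∈ J n)
    {P : Type u} [CommRing P] (ψ : ∀ n, P →+* L ⧸ J n)
    (hψ : ∀ n, (Ideal.Quotient.factor (hanti n)).comp (ψ (n + 1)) = ψ n) :
    ∃ Ψ : P →+* L, ∀ n, (Ideal.Quotient.mk (J n)).comp Ψ = ψ n := by
  have huniq : ∀ a b : L, (∀ n, Ideal.Quotient.mk (J n) a = Ideal.Quotient.mk (J n) b) → a = b := by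
    intro a b hab
    have := hH (a - b) (fun n => Ideal.Quotient.eq.mp (hab n))
    exact sub_eq_zero.mp this
  have hex : ∀ p : P, ∃ y : L, ∀ n, Ideal.Quotient.mk (J n) y = ψ n p := by
    intro p
    have hx : ∀ n, ∃ x : L, Ideal.Quotient.mk (J n) x = ψ n p :=
      fun n => Ideal.Quotient.mk_surjective _
    choose x hx using hx
    have hstep : ∀ n, x (n + 1) - x n ∈ J n := by
      intro n
      rw [← Ideal.Quotient.eq, hx n, ← hψ n, RingHom.comp_apply, ← hx (n + 1),
        Ideal.Quotient.factor_mk]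
    obtain ⟨y, hy⟩ := hC x hstep
    exact ⟨y, fun n => by rw [← hx n]; exact Ideal.Quotient.eq.mpr (hy n)⟩
  choose Ψ₀ hΨ₀ using hex
  refine ⟨{ toFun := Ψ₀, map_one' := ?_, map_mul' := ?_, map_zero' := ?_, map_add' := ?_ }, ?_⟩
  · exact huniq _ _ (fun n => by rw [hΨ₀, map_one, map_one])
  · intro a b
    exact huniq _ _ (fun n => by rw [hΨ₀, map_mul, map_mul, hΨ₀, hΨ₀])
  · exact huniq _ _ (fun n => by rw [hΨ₀, map_zero, map_zero])
  · intro a b
    exact huniq _ _ (fun n => by rw [hΨ₀, map_add, map_add, hΨ₀, hΨ₀])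
  · intro n
    ext p
    exact hΨ₀ p n

/-- The abstract completeness property for the family `J n = I ^ (n + 1)`, from precompleteness. -/
theorem complete_of_isPrecomplete (I : Ideal L) [IsPrecomplete I L]
    (hJ : ∀ n, J n = I ^ (n + 1)) (x : ℕ → L) (hx : ∀ n, x (n + 1) - x n ∈ J n) :
    ∃ y, ∀ n, y - x n ∈ J n := by
  have hdiff : ∀ m n, m ≤ n → x m - x n ∈ I ^ (m + 1) := by
    intro m n hmn
    induction n, hmn using Nat.le_induction with
    | base => simp
    | succ n hmn ih =>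
      have h1 : x (n + 1) - x n ∈ I ^ (m + 1) := by
        have := hx n
        rw [hJ n] at this
        exact Ideal.pow_le_pow_right (Nat.succ_le_succ hmn) this
      have : x m - x (n + 1) = (x m - x n) - (x (n + 1) - x n) := by ring
      rw [this]
      exact Ideal.sub_mem _ ih h1
  let f : ℕ → L := fun n => x (n - 1)
  have hf : ∀ {m n : ℕ}, m ≤ n → f m ≡ f n [SMOD (I ^ m • ⊤ : Submodule L L)] := by
    intro m n hmn
    rw [SModEq.sub_mem, smul_eq_mul, Ideal.mul_top]
    rcases m with _ | m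
    · simp
    · have h1 := hdiff m (n - 1) (by omega)
      simpa [f] using h1
  obtain ⟨y, hy⟩ := IsPrecomplete.prec' (I := I) f hf
  refine ⟨y, fun n => ?_⟩
  have := hy (n + 1)
  rw [SModEq.sub_mem, smul_eq_mul, Ideal.mul_top] at this
  rw [hJ n]
  have h2 : y - x n = -(f (n + 1) - y) := by simp [f]
  rw [h2]
  exact Ideal.neg_mem_iff _ |>.mpr this

variable [IsLocalRing L]

/-- Uniqueness: two morphisms `Spec L ⟶ Y` agreeing on all `Spec (L ⧸ J n)` are equal. -/
theorem local_hom_ext (hJ0 : J 0 ≤ IsLocalRing.maximalIdeal L)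
    (hH : ∀ x : L, (∀ n, x ∈ J n) → x = 0)
    {Y : Scheme.{u}} (f g : Spec (CommRingCat.of L) ⟶ Y)
    (h : ∀ n, Spec.map (CommRingCat.ofHom (Ideal.Quotient.mk (J n))) ≫ f =
      Spec.map (CommRingCat.ofHom (Ideal.Quotient.mk (J n))) ≫ g) : f = g := by
  haveI : Nontrivial (L ⧸ J 0) :=
    Ideal.Quotient.nontrivial_iff.mpr
      (fun h => (IsLocalRing.maximalIdeal.isMaximal L).ne_top (top_le_iff.mp (h ▸ hJ0)))
  haveI : IsLocalRing (L ⧸ J 0) :=
    IsLocalRing.of_surjective' (Ideal.Quotient.mk (J 0)) Ideal.Quotient.mk_surjective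
  haveI : IsLocalHom (Ideal.Quotient.mk (J 0)) :=
    IsLocalHom.of_surjective _ Ideal.Quotient.mk_surjective
  have hz : Spec.map (CommRingCat.ofHom (Ideal.Quotient.mk (J 0)))
      (IsLocalRing.closedPoint (L ⧸ J 0)) = IsLocalRing.closedPoint L :=
    IsLocalRing.comap_closedPoint (Ideal.Quotient.mk (J 0))
  have hfx : f (IsLocalRing.closedPoint L) = g (IsLocalRing.closedPoint L) := by
    rw [← hz]
    have := congrArg (fun k => k (IsLocalRing.closedPoint (L ⧸ J 0))) (h 0)
    exact this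
  obtain ⟨U, hU, hyU, -⟩ := exists_isAffineOpen_mem_and_subset
    (x := f (IsLocalRing.closedPoint L)) (U := ⊤) trivial
  have hf : Set.range f ⊆ (U : Set Y) := by
    have h1 := Scheme.preimage_eq_top_of_closedPoint_mem (R := CommRingCat.of L) f hyU
    rintro _ ⟨w, rfl⟩
    have : w ∈ f ⁻¹ᵁ U := by rw [h1]; trivial
    exact this
  have hg : Set.range g ⊆ (U : Set Y) := by
    rw [hfx] at hyU
    have h1 := Scheme.preimage_eq_top_of_closedPoint_mem (R := CommRingCat.of L) g hyU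
    rintro _ ⟨w, rfl⟩
    have : w ∈ g ⁻¹ᵁ U := by rw [h1]; trivial
    exact this
  refine Groth.Agent.Lib.Seat37.DiagKer.hom_ext_of_family U hU (fun n => L ⧸ J n)
    (fun n => Ideal.Quotient.mk (J n)) ?_ f g hf hg h
  intro t t' ht
  have := hH (t - t') (fun n => Ideal.Quotient.eq.mp (ht n))
  exact sub_eq_zero.mp this

/-- Existence: a compatible family `Spec (L ⧸ J n) ⟶ Y` comes from a morphism `Spec L ⟶ Y`. -/
theorem local_exists (hJle : ∀ n, J n ≤ IsLocalRing.maximalIdeal L)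
    (hanti : ∀ n, J (n + 1) ≤ J n)
    (hH : ∀ x : L, (∀ n, x ∈ J n) → x = 0)
    (hC : ∀ x : ℕ → L, (∀ n, x (n + 1) - x n ∈ J n) → ∃ y, ∀ n, y - x n ∈ J n)
    {Y : Scheme.{u}} (v : ∀ n, Spec (CommRingCat.of (L ⧸ J n)) ⟶ Y)
    (hv : ∀ n, Spec.map (CommRingCat.ofHom (Ideal.Quotient.factor (hanti n))) ≫ v (n + 1) = v n) :
    ∃ f : Spec (CommRingCat.of L) ⟶ Y,
      ∀ n, Spec.map (CommRingCat.ofHom (Ideal.Quotient.mk (J n))) ≫ f = v n := by
  haveI hnt : ∀ n, Nontrivial (L ⧸ J n) := fun n =>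
    Ideal.Quotient.nontrivial_iff.mpr
      (fun h => (IsLocalRing.maximalIdeal.isMaximal L).ne_top (top_le_iff.mp (h ▸ hJle n)))
  haveI hloc : ∀ n, IsLocalRing (L ⧸ J n) := fun n =>
    IsLocalRing.of_surjective' (Ideal.Quotient.mk (J n)) Ideal.Quotient.mk_surjective
  haveI : ∀ n, IsLocalHom (Ideal.Quotient.factor (hanti n)) := fun n =>
    IsLocalHom.of_surjective _ (Ideal.Quotient.factor_surjective (hanti n))
  -- the image of the closed point is constant
  have hy : ∀ n, v n (IsLocalRing.closedPoint (L ⧸ J n)) =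
      v 0 (IsLocalRing.closedPoint (L ⧸ J 0)) := by
    intro n
    induction n with
    | zero => rfl
    | succ n ih =>
      rw [← ih]
      have h1 : Spec.map (CommRingCat.ofHom (Ideal.Quotient.factor (hanti n)))
          (IsLocalRing.closedPoint (L ⧸ J n)) = IsLocalRing.closedPoint (L ⧸ J (n + 1)) :=
        IsLocalRing.comap_closedPoint (Ideal.Quotient.factor (hanti n))
      rw [← h1]
      have := congrArg (fun k => k (IsLocalRing.closedPoint (L ⧸ J n))) (hv n)
      exact this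
  obtain ⟨U, hU, hyU, -⟩ := exists_isAffineOpen_mem_and_subset
    (x := v 0 (IsLocalRing.closedPoint (L ⧸ J 0))) (U := ⊤) trivial
  have hr : ∀ n, Set.range (v n) ⊆ (U : Set Y) := by
    intro n
    have hyU' : v n (IsLocalRing.closedPoint (L ⧸ J n)) ∈ U := by rw [hy n]; exact hyU
    have h1 := Scheme.preimage_eq_top_of_closedPoint_mem (R := CommRingCat.of (L ⧸ J n)) (v n) hyU'
    rintro _ ⟨w, rfl⟩
    have : w ∈ (v n) ⁻¹ᵁ U := by rw [h1]; trivial
    exact this
  have hψ : ∀ n, ∃ α : Γ(Y, U) →+* L ⧸ J n,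
      Spec.map (CommRingCat.ofHom α) ≫ hU.fromSpec = v n := fun n =>
    Groth.Agent.Lib.Seat37.DiagKer.exists_ringHom_of_range_subset U hU (v n) (hr n)
  choose ψ hψ using hψ
  have hcompat : ∀ n, (Ideal.Quotient.factor (hanti n)).comp (ψ (n + 1)) = ψ n := by
    intro n
    apply Groth.Agent.Lib.Seat37.DiagKer.ringHom_eq_of_comp_fromSpec U hU
    rw [hψ n, CommRingCat.ofHom_comp, Spec.map_comp, Category.assoc, hψ (n + 1), hv n]
  obtain ⟨Ψ, hΨ⟩ := exists_lift_ringHom J hanti hH hC ψ hcompat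
  refine ⟨Spec.map (CommRingCat.ofHom Ψ) ≫ hU.fromSpec, fun n => ?_⟩
  rw [← Category.assoc, ← Spec.map_comp, ← CommRingCat.ofHom_comp, hΨ n, hψ n]

end Groth.Agent.Lib.Seat37.LocalLim
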