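import Mathlib

/-! seat37: a ring which is a finite product of algebras `L i` has spectrum the coproduct of the
`Spec (L i)`: joint epimorphy and gluing of morphisms out of `Spec S`. -/

set_option autoImplicit false
universe u

namespace Groth.Agent.Lib.Seat37.ProdEpi

open CategoryTheory Limits AlgebraicGeometry

variable {S : Type u} [CommRing S] {σ : Type u} (L : σ → Type u) [∀ i, CommRing (L i)]
  [∀ i, Algebra S (L i)]

/-- the comparison map `∐ Spec Lᵢ ⟶ Spec S` -/
noncomputable def sig : (∐ fun i => Spec (CommRingCat.of (L i))) ⟶ Spec (CommRingCat.of S) :=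
  sigmaSpec (fun i => CommRingCat.of (L i)) ≫
    Spec.map (CommRingCat.ofHom (algebraMap S (∀ i, L i)))

lemma ι_sig (i : σ) :
    Sigma.ι (fun i => Spec (CommRingCat.of (L i))) i ≫ sig L =
      Spec.map (CommRingCat.ofHom (algebraMap S (L i))) := by
  rw [sig, ι_sigmaSpec_assoc, ← Spec.map_comp]
  rfl

lemma isIso_sig [Finite σ] (hbij : Function.Bijective (algebraMap S (∀ i, L i))) :
    IsIso (sig (S := S) L) := by
  have : IsIso (CommRingCat.ofHom (algebraMap S (∀ i, L i))) := by
    rw [ConcreteCategory.isIso_iff_bijective]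
    exact hbij
  unfold sig
  infer_instance

theorem hom_ext [Finite σ] (hbij : Function.Bijective (algebraMap S (∀ i, L i)))
    {Y : Scheme.{u}} (f g : Spec (CommRingCat.of S) ⟶ Y)
    (h : ∀ i, Spec.map (CommRingCat.ofHom (algebraMap S (L i))) ≫ f =
      Spec.map (CommRingCat.ofHom (algebraMap S (L i))) ≫ g) : f = g := by
  haveI := isIso_sig L hbij
  rw [← cancel_epi (sig (S := S) L)]
  refine Sigma.hom_ext _ _ (fun i => ?_)
  rw [← Category.assoc, ← Category.assoc, ι_sig]
  exact h i

theorem exists_glue [Finite σ] (hbij : Function.Bijective (algebraMap S (∀ i, L i)))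
    {Y : Scheme.{u}} (f : ∀ i, Spec (CommRingCat.of (L i)) ⟶ Y) :
    ∃ F : Spec (CommRingCat.of S) ⟶ Y,
      ∀ i, Spec.map (CommRingCat.ofHom (algebraMap S (L i))) ≫ F = f i := by
  haveI := isIso_sig L hbij
  refine ⟨inv (sig (S := S) L) ≫ Sigma.desc f, fun i => ?_⟩
  rw [← ι_sig, Category.assoc, IsIso.hom_inv_id_assoc, Sigma.ι_desc]

end Groth.Agent.Lib.Seat37.ProdEpi
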