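import Mathlib
import Groth.Agent.Lib.Helper18ComplProd
import Groth.Agent.Lib.Seat37LocalLim
import Groth.Agent.Lib.Seat37ProdEpi

/-! seat37: a finite algebra `B` over a complete Noetherian local ring `(A, m)`: the localizations
`B_𝔫` at maximal ideals are separated and complete for the ideals `m^(n+1) B_𝔫`; consequences for
morphisms `Spec B ⟶ Y`. -/

set_option autoImplicit false
set_option linter.style.haveILetI false
set_option linter.unusedSectionVars false
universe u

namespace Groth.Agent.Lib.Seat37.FinComplete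

open CategoryTheory AlgebraicGeometry IsLocalRing

/-- A finite algebra over an `I`-adically precomplete ring is `I R`-adically precomplete. -/
theorem isPrecomplete_map_of_finite (A : Type*) [CommRing A] (I : Ideal A) [IsPrecomplete I A]
    (R : Type*) [CommRing R] [Algebra A R] [Module.Finite A R] :
    IsPrecomplete (I.map (algebraMap A R)) R := by
  have hP : IsPrecomplete I R := by
    obtain ⟨n, f, hf⟩ := Module.Finite.exists_fin' A R
    haveI := Groth.Agent.Lib.Helper14.isPrecomplete_pi I n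
    exact Groth.Agent.Lib.Helper18ComplProd.isPrecomplete_of_surjective I f hf
  exact IsPrecomplete.map_algebraMap_iff.mpr hP

variable (A : Type u) [CommRing A] [IsLocalRing A] [IsNoetherianRing A]
  [IsAdicComplete (maximalIdeal A) A] (B : Type u) [CommRing B] [Algebra A B] [Module.Finite A B]

/-- the ideal `m^n B` -/
abbrev K (n : ℕ) : Ideal B := Ideal.map (algebraMap A B) ((maximalIdeal A) ^ n)

theorem K_anti (n : ℕ) : K A B (n + 1) ≤ K A B n :=
  Ideal.map_mono (Ideal.pow_le_pow_right (Nat.le_succ n))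

theorem map_maximalIdeal_le (𝔫 : Ideal B) [𝔫.IsMaximal] :
    Ideal.map (algebraMap A B) (maximalIdeal A) ≤ 𝔫 := by
  have hInt : Algebra.IsIntegral A B := Algebra.IsIntegral.of_finite A B
  have h1 : (𝔫.comap (algebraMap A B)).IsMaximal :=
    Ideal.isMaximal_comap_of_isIntegral_of_isMaximal 𝔫
  rw [Ideal.map_le_iff_le_comap, IsLocalRing.eq_maximalIdeal h1]

variable (𝔫 : MaximalSpectrum B)

/-- the ideals `m^(n+1) B_𝔫` of the localization -/
abbrev JL (n : ℕ) : Ideal (Localization.AtPrime 𝔫.asIdeal) :=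
  Ideal.map (algebraMap B (Localization.AtPrime 𝔫.asIdeal)) (K A B (n + 1))

theorem JL_anti (n : ℕ) : JL A B 𝔫 (n + 1) ≤ JL A B 𝔫 n :=
  Ideal.map_mono (K_anti A B (n + 1))

theorem JL_eq_pow (n : ℕ) :
    JL A B 𝔫 n = (Ideal.map (algebraMap A (Localization.AtPrime 𝔫.asIdeal)) (maximalIdeal A)) ^ (n + 1) := by
  rw [JL, K, Ideal.map_map, ← IsScalarTower.algebraMap_eq, Ideal.map_pow]

theorem map_le_maximalIdeal :
    Ideal.map (algebraMap A (Localization.AtPrime 𝔫.asIdeal)) (maximalIdeal A) ≤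
      maximalIdeal (Localization.AtPrime 𝔫.asIdeal) := by
  rw [IsScalarTower.algebraMap_eq A B (Localization.AtPrime 𝔫.asIdeal), ← Ideal.map_map,
    ← Localization.AtPrime.map_eq_maximalIdeal]
  exact Ideal.map_mono (map_maximalIdeal_le A B 𝔫.asIdeal)

theorem JL_le (n : ℕ) : JL A B 𝔫 n ≤ maximalIdeal (Localization.AtPrime 𝔫.asIdeal) := by
  rw [JL_eq_pow]
  exact (Ideal.pow_le_self (Nat.succ_ne_zero n)).trans (map_le_maximalIdeal A B 𝔫)

theorem JL_hausdorff (x : Localization.AtPrime 𝔫.asIdeal) (hx : ∀ n, x ∈ JL A B 𝔫 n) : x = 0 := by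
  haveI : IsNoetherianRing B := IsNoetherianRing.of_finite A B
  haveI : IsNoetherianRing (Localization.AtPrime 𝔫.asIdeal) :=
    IsLocalization.isNoetherianRing 𝔫.asIdeal.primeCompl _ inferInstance
  have h1 := Ideal.iInf_pow_eq_bot_of_isLocalRing
    (maximalIdeal (Localization.AtPrime 𝔫.asIdeal)) (maximalIdeal.isMaximal _).ne_top
  have h2 : x ∈ ⨅ i, (maximalIdeal (Localization.AtPrime 𝔫.asIdeal)) ^ i := by
    rw [Ideal.mem_iInf]
    intro i
    rcases i with _ | i
    · simp
    · have := hx i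
      rw [JL_eq_pow] at this
      exact Ideal.pow_right_mono (map_le_maximalIdeal A B 𝔫) _ this
  rw [h1] at h2
  exact h2

include A in
theorem algebraMap_surjective :
    Function.Surjective (algebraMap B (Localization.AtPrime 𝔫.asIdeal)) := by
  obtain ⟨-, hbij, -⟩ := Groth.Agent.Lib.Helper18ComplProd.main A B
  intro l
  classical
  obtain ⟨b, hb⟩ := hbij.2 (Pi.single 𝔫 l)
  refine ⟨b, ?_⟩
  have := congrFun hb 𝔫
  simpa using this

theorem JL_complete (x : ℕ → Localization.AtPrime 𝔫.asIdeal)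
    (hx : ∀ n, x (n + 1) - x n ∈ JL A B 𝔫 n) : ∃ y, ∀ n, y - x n ∈ JL A B 𝔫 n := by
  haveI : Module.Finite A (Localization.AtPrime 𝔫.asIdeal) :=
    Module.Finite.of_surjective (IsScalarTower.toAlgHom A B _).toLinearMap
      (algebraMap_surjective A B 𝔫)
  haveI := isPrecomplete_map_of_finite A (maximalIdeal A) (Localization.AtPrime 𝔫.asIdeal)
  exact Groth.Agent.Lib.Seat37.LocalLim.complete_of_isPrecomplete (JL A B 𝔫) _
    (JL_eq_pow A B 𝔫) x hx

/-- the comparison `B ⧸ m^(n+1) B → B_𝔫 ⧸ m^(n+1) B_𝔫` -/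
noncomputable abbrev qbar (n : ℕ) : B ⧸ K A B (n + 1) →+* Localization.AtPrime 𝔫.asIdeal ⧸ JL A B 𝔫 n :=
  Ideal.quotientMap (JL A B 𝔫 n) (algebraMap B (Localization.AtPrime 𝔫.asIdeal)) Ideal.le_comap_map

theorem qbar_comp_mk (n : ℕ) :
    (qbar A B 𝔫 n).comp (Ideal.Quotient.mk (K A B (n + 1))) =
      (Ideal.Quotient.mk (JL A B 𝔫 n)).comp (algebraMap B (Localization.AtPrime 𝔫.asIdeal)) :=
  Ideal.quotientMap_comp_mk _

theorem factor_comp_qbar (n : ℕ) :
    (Ideal.Quotient.factor (JL_anti A B 𝔫 n)).comp (qbar A B 𝔫 (n + 1)) =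
      (qbar A B 𝔫 n).comp (Ideal.Quotient.factor (K_anti A B (n + 1))) := by
  apply Ideal.Quotient.ringHom_ext
  ext b
  simp only [RingHom.comp_apply, Ideal.quotientMap_mk, Ideal.Quotient.factor_mk]

end Groth.Agent.Lib.Seat37.FinComplete
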