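import Mathlib
import Groth.Prelude.Def_W4sga3xiixivxvCartan
import Groth.Agent.Lib.Seat37CartanRel2

/-!
# Fitting decompositions from a relation `T ^ n = T ^ (n + 1) * S`
-/

set_option autoImplicit false
universe u

open scoped TensorProduct
open SGA3t2b

namespace Groth.Agent.Lib.Seat37.Fitting

section Module

variable {R : Type u} [CommRing R] {M : Type u} [AddCommGroup M] [Module R M]
  (T S : Module.End R M) (n : ℕ)

theorem pow_eq_pow_add_mul_pow (hST : Commute S T) (h : T ^ n = T ^ (n + 1) * S) (k : ℕ) :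
    T ^ n = T ^ (n + k) * S ^ k := by
  induction k with
  | zero => simp
  | succ k ih =>
    have hc : Commute (S ^ k) T := hST.pow_left k
    calc T ^ n = T ^ (n + k) * S ^ k := ih
      _ = (T ^ k * T ^ n) * S ^ k := by rw [← pow_add, add_comm]
      _ = (T ^ k * (T ^ (n + 1) * S)) * S ^ k := by rw [← h]
      _ = T ^ (n + (k + 1)) * S ^ (k + 1) := by
        rw [← mul_assoc, ← pow_add, mul_assoc, ← pow_succ']
        congr 2
        ring

/-- The generalized kernel is `ker (T ^ n)`. -/
theorem pow_apply_eq_zero_of_pow_apply_eq_zero (hST : Commute S T) (h : T ^ n = T ^ (n + 1) * S)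
    (y : M) (k : ℕ) (hk : (T ^ k) y = 0) : (T ^ n) y = 0 := by
  have h1 := pow_eq_pow_add_mul_pow T S n hST h k
  have hc : Commute (S ^ k) (T ^ k) := (hST.pow_left k).pow_right k
  have h2 : T ^ (n + k) * S ^ k = T ^ n * S ^ k * T ^ k := by
    rw [pow_add, mul_assoc, ← hc.eq, mul_assoc]
  rw [h1, h2, Module.End.mul_apply, hk, map_zero]

/-- Every element is congruent to an element of the image of `T` modulo `ker (T ^ n)`. -/
theorem pow_apply_sub_eq_zero (h : T ^ n = T ^ (n + 1) * S) (y : M) :
    (T ^ n) (T (S y) - y) = 0 := by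
  have h1 : (T ^ n) (T (S y)) = (T ^ (n + 1) * S) y := by
    rw [pow_succ, Module.End.mul_apply, Module.End.mul_apply]
  rw [map_sub, h1, ← h, sub_self]

/-- The quotient by `ker (T ^ n)` is projective. -/
theorem projective_quotient_ker [Module.Projective R M] (hST : Commute S T)
    (h : T ^ n = T ^ (n + 1) * S) : Module.Projective R (M ⧸ LinearMap.ker (T ^ n)) := by
  have h2 : T ^ n = T ^ (n + n) * S ^ n := pow_eq_pow_add_mul_pow T S n hST h n
  have hc : Commute (S ^ n) (T ^ n) := (hST.pow_left n).pow_right n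
  -- `M ⧸ ker (T ^ n) ≃ range (T ^ n)`, a retract of `M`
  have hproj : Module.Projective R (LinearMap.range (T ^ n)) := by
    let π : M →ₗ[R] LinearMap.range (T ^ n) :=
      LinearMap.codRestrict (LinearMap.range (T ^ n)) (T ^ n * S ^ n) (fun y => ⟨(S ^ n) y, rfl⟩)
    apply Module.Projective.of_split (LinearMap.range (T ^ n)).subtype π
    apply LinearMap.ext
    rintro ⟨_, z, rfl⟩
    apply Subtype.ext
    show (T ^ n * S ^ n) ((T ^ n) z) = (T ^ n) z
    have : (T ^ n * S ^ n) ((T ^ n) z) = (T ^ (n + n) * S ^ n) z := by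
      rw [← Module.End.mul_apply, mul_assoc, hc.eq, ← mul_assoc, ← pow_add]
    rw [this, ← h2]
  exact Module.Projective.of_equiv (LinearMap.quotKerEquivRange (T ^ n)).symm

end Module

section Lie

variable {A : Type u} [CommRing A] {L : Type u} [LieRing L] [LieAlgebra A L] [Module.Finite A L]
  [Module.Projective A L]

open Groth.Agent.Lib.Seat37.CartanRel

omit [Module.Finite A L] in
/-- If `ad a` satisfies `T ^ n = T ^ (n + 1) * S` with `S` commuting with `T`, then `a` is `EngelGood`. -/
theorem engelGood_of_pow_eq (a : L) (S : Module.End A L) (n : ℕ)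
    (hST : Commute S (LieAlgebra.ad A L a))
    (h : (LieAlgebra.ad A L a) ^ n = (LieAlgebra.ad A L a) ^ (n + 1) * S) : EngelGood A a := by
  have hE : (LieSubalgebra.engel A a).toSubmodule = LinearMap.ker ((LieAlgebra.ad A L a) ^ n) := by
    ext y
    constructor
    · intro hy
      obtain ⟨k, hk⟩ := (LieSubalgebra.mem_engel_iff A a y).1 hy
      exact pow_apply_eq_zero_of_pow_apply_eq_zero _ S n hST h y k hk
    · intro hy
      exact (LieSubalgebra.mem_engel_iff A a y).2 ⟨n, hy⟩
  refine ⟨?_, ?_, ?_⟩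
  · rw [hE]
    exact projective_quotient_ker _ S n hST h
  · intro z hz
    obtain ⟨k, hk⟩ := (LieSubalgebra.mem_engel_iff A a _).1 hz
    rw [LieSubalgebra.mem_engel_iff]
    refine ⟨k + 1, ?_⟩
    rw [pow_succ, Module.End.mul_apply, LieAlgebra.ad_apply]
    exact hk
  · intro y
    refine ⟨S y, ?_⟩
    rw [LieSubalgebra.mem_engel_iff]
    refine ⟨n, ?_⟩
    have := pow_apply_sub_eq_zero _ S n h y
    rwa [LieAlgebra.ad_apply] at this

end Lie

section LocalGlobal

open Polynomial

variable {R : Type u} [CommRing R] {M : Type u} [AddCommGroup M] [Module R M]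
  (T : Module.End R M)

/-- A polynomial relation whose low coefficients are killed by `g` gives a witness. -/
theorem exists_smul_pow_eq (P : R[X]) (hP : aeval T P = 0) (g : R) (v : ℕ)
    (hlow : ∀ j < v, g * P.coeff j = 0) :
    ∃ S : Module.End R M, Commute S T ∧ (g * P.coeff v) • T ^ v = T ^ (v + 1) * S := by
  set N := max P.natDegree v + 1 with hN
  have hdeg : P.natDegree < N := by omega
  have hsum : ∑ j ∈ Finset.range N, (g * P.coeff j) • T ^ j = 0 := by
    have h1 := Polynomial.aeval_eq_sum_range' hdeg T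
    rw [hP] at h1
    have h2 : g • (∑ j ∈ Finset.range N, P.coeff j • T ^ j) = 0 := by rw [← h1, smul_zero]
    rw [Finset.smul_sum] at h2
    simpa [smul_smul] using h2
  refine ⟨-∑ j ∈ Finset.range N, if v < j then (g * P.coeff j) • T ^ (j - v - 1) else 0, ?_, ?_⟩
  · apply Commute.neg_left
    apply Commute.sum_left
    intro j _
    split_ifs
    · exact ((Commute.refl T).pow_left _).smul_left _
    · exact Commute.zero_left T
  · have hterm : ∀ j ∈ Finset.range N, (g * P.coeff j) • T ^ j =
        (if j = v then (g * P.coeff v) • T ^ v else 0) +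
          T ^ (v + 1) * (if v < j then (g * P.coeff j) • T ^ (j - v - 1) else 0) := by
      intro j _
      rcases lt_trichotomy j v with hj | hj | hj
      · rw [hlow j hj, zero_smul, if_neg hj.ne, if_neg (by omega), mul_zero, add_zero]
      · subst hj
        rw [if_pos rfl, if_neg (lt_irrefl _), mul_zero, add_zero]
      · rw [if_neg hj.ne', if_pos hj, zero_add, mul_smul_comm, ← pow_add]
        congr 2
        omega
    rw [Finset.sum_congr rfl hterm, Finset.sum_add_distrib, ← Finset.mul_sum,
      Finset.sum_ite_eq' (Finset.range N) v, if_pos (Finset.mem_range.2 (by omega))] at hsum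
    rw [mul_neg]
    exact eq_neg_of_add_eq_zero_left hsum

/-- Local-to-global: the relation `T ^ n = T ^ (n + 1) * S`. -/
theorem exists_pow_eq_of_local (P : R[X]) (hP : aeval T P = 0) (n : ℕ)
    (hloc : ∀ m : Ideal R, m.IsMaximal → ∃ g : R, ∃ v ≤ n,
      (∀ j < v, g * P.coeff j = 0) ∧ g * P.coeff v ∉ m) :
    ∃ S : Module.End R M, Commute S T ∧ T ^ n = T ^ (n + 1) * S := by
  let 𝔞 : Ideal R :=
    { carrier := {r | ∃ S : Module.End R M, Commute S T ∧ r • T ^ n = T ^ (n + 1) * S}
      add_mem' := by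
        rintro r₁ r₂ ⟨S₁, hc₁, h₁⟩ ⟨S₂, hc₂, h₂⟩
        exact ⟨S₁ + S₂, hc₁.add_left hc₂, by rw [add_smul, h₁, h₂, mul_add]⟩
      zero_mem' := ⟨0, Commute.zero_left T, by rw [zero_smul, mul_zero]⟩
      smul_mem' := by
        rintro c r ⟨S, hc, h⟩
        exact ⟨c • S, hc.smul_left c, by rw [smul_eq_mul, mul_smul, h, mul_smul_comm]⟩ }
  have htop : 𝔞 = ⊤ := by
    by_contra hne
    obtain ⟨m, hm, hle⟩ := Ideal.exists_le_maximal 𝔞 hne
    obtain ⟨g, v, hvn, hlow, hnot⟩ := hloc m hm
    apply hnot
    apply hle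
    obtain ⟨S, hc, hS⟩ := exists_smul_pow_eq T P hP g v hlow
    refine ⟨S, hc, ?_⟩
    have : (g * P.coeff v) • T ^ n = T ^ (n - v) * ((g * P.coeff v) • T ^ v) := by
      rw [mul_smul_comm, ← pow_add]
      congr 2
      omega
    rw [this, hS, ← mul_assoc, ← pow_add]
    congr 2
    omega
  have h1 : (1 : R) ∈ 𝔞 := by rw [htop]; trivial
  obtain ⟨S, hc, hS⟩ := h1
  exact ⟨S, hc, by rwa [one_smul] at hS⟩

end LocalGlobal

end Groth.Agent.Lib.Seat37.Fitting
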