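import Mathlib

/-!
# Coordinates on `A ⊗[R] C` for a free `R`-algebra `C`, naturally in `A` (seat 37)

For an `R`-algebra `C` with a finite basis `cb` and an `R`-algebra `A`:
`el A x = ∑ x_k • (1 ⊗ cb k)`, `co A w` the coordinates, `tmap φ = φ ⊗ id` for `φ : A →ₐ[R] B`,
and their compatibility; base change of `R`-linear endomorphisms of `C`.
-/

set_option autoImplicit false
set_option linter.unusedSectionVars false
universe u v

namespace Groth.Agent.Lib.Seat37.TensCoord

open TensorProduct

variable {R : Type u} [CommRing R] {C : Type v} [Ring C] [Algebra R C]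
variable {κ : Type} [Fintype κ] [DecidableEq κ] (cb : Module.Basis κ R C)

section one

variable (A : Type u) [CommRing A] [Algebra R A]

/-- the basis `1 ⊗ cb k` of `A ⊗ C` -/
noncomputable abbrev tb : Module.Basis κ A (A ⊗[R] C) := Algebra.TensorProduct.basis A cb

/-- the element with given coordinates -/
noncomputable def el (x : κ → A) : A ⊗[R] C := (tb cb A).equivFun.symm x

/-- the coordinates of an element -/
noncomputable def co (w : A ⊗[R] C) : κ → A := (tb cb A).equivFun w

@[simp] theorem co_el (x : κ → A) : co cb A (el cb A x) = x :=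
  (tb cb A).equivFun.apply_symm_apply x

@[simp] theorem el_co (w : A ⊗[R] C) : el cb A (co cb A w) = w :=
  (tb cb A).equivFun.symm_apply_apply w

theorem el_eq_sum (x : κ → A) : el cb A x = ∑ k, x k • ((1 : A) ⊗ₜ[R] cb k) := by
  unfold el
  rw [Module.Basis.equivFun_symm_apply]
  refine Finset.sum_congr rfl fun k _ => ?_
  rw [Algebra.TensorProduct.basis_apply]

theorem co_eq_zero_iff (w : A ⊗[R] C) : co cb A w = 0 ↔ w = 0 := by
  unfold co
  exact LinearEquiv.map_eq_zero_iff _

theorem co_tmul (a : A) (c : C) (k : κ) : co cb A (a ⊗ₜ[R] c) k = cb.repr c k • a := by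
  unfold co
  rw [Module.Basis.equivFun_apply, Algebra.TensorProduct.basis_repr_tmul]
  simp [Algebra.smul_def, mul_comm]

end one

section two

variable {A B : Type u} [CommRing A] [Algebra R A] [CommRing B] [Algebra R B]

/-- `φ ⊗ id` -/
noncomputable def tmap (φ : A →ₐ[R] B) : A ⊗[R] C →ₐ[R] B ⊗[R] C :=
  Algebra.TensorProduct.map φ (AlgHom.id R C)

@[simp] theorem tmap_tmul (φ : A →ₐ[R] B) (a : A) (c : C) :
    tmap φ (a ⊗ₜ[R] c) = φ a ⊗ₜ[R] c := rfl

theorem tmap_smul (φ : A →ₐ[R] B) (a : A) (w : A ⊗[R] C) :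
    tmap φ (a • w) = φ a • tmap φ w := by
  induction w with
  | zero => simp
  | tmul x c => rw [TensorProduct.smul_tmul', tmap_tmul, tmap_tmul, TensorProduct.smul_tmul',
      smul_eq_mul, smul_eq_mul, map_mul]
  | add w₁ w₂ h₁ h₂ => rw [smul_add, map_add, h₁, h₂, map_add, smul_add]

theorem co_tmap (φ : A →ₐ[R] B) (w : A ⊗[R] C) : co cb B (tmap φ w) = φ ∘ co cb A w := by
  induction w with
  | zero =>
    funext k
    simp [co]
  | tmul a c =>
    funext k
    rw [tmap_tmul, co_tmul, Function.comp, co_tmul, Algebra.smul_def, Algebra.smul_def, map_mul,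
      AlgHom.commutes]
  | add w₁ w₂ h₁ h₂ =>
    funext k
    have e1 : co cb B (tmap φ (w₁ + w₂)) = co cb B (tmap φ w₁) + co cb B (tmap φ w₂) := by
      rw [map_add]; unfold co; rw [map_add]
    have e2 : co cb A (w₁ + w₂) = co cb A w₁ + co cb A w₂ := by unfold co; rw [map_add]
    rw [e1, h₁, h₂, Function.comp, e2]
    simp

theorem tmap_el (φ : A →ₐ[R] B) (x : κ → A) : tmap φ (el cb A x) = el cb B (φ ∘ x) := by
  have h := co_tmap cb φ (el cb A x)
  rw [co_el] at h
  rw [← h, el_co]

/-- base change of an `R`-linear map commutes with `tmap` -/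
theorem tmap_baseChange (φ : A →ₐ[R] B) (L : C →ₗ[R] C) (w : A ⊗[R] C) :
    tmap φ (L.baseChange A w) = L.baseChange B (tmap φ w) := by
  induction w with
  | zero => simp
  | tmul a c => rw [LinearMap.baseChange_tmul, tmap_tmul, tmap_tmul, LinearMap.baseChange_tmul]
  | add w₁ w₂ h₁ h₂ => rw [map_add, map_add, h₁, h₂, map_add, map_add]

end two

end Groth.Agent.Lib.Seat37.TensCoord
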