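import Mathlib
import Groth.Prelude.Def_QuadGrp
import Groth.Agent.Lib.Seat37TensCoord
import Groth.Agent.Lib.Seat37CliffConj
import Groth.Agent.Lib.Seat37CliffAzumaya
import Groth.Agent.Lib.Seat37CliffDescent

/-!
# The naive Clifford group `GPin'` as a functor in coordinates (seat 37)

For `Q` on a module with basis `b : Basis (Fin n) R M`, `C = C(Q)` with its basis `cliffBasis`:
* `mem_GPin'_iff_basis`: `u ∈ GPin' Q` iff `u (b i) u⁻¹` and `u⁻¹ (b i) u` are vectors;
* `fam A t`: the natural family of equations on `t = (coordinates of u, coordinates of v)` in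
  `A ⊗ C` saying `u v = 1 = v u`, `u (1 ⊗ b i) v` and `v (1 ⊗ b i) u` are vectors;
* `tOf`: coordinates of a unit of `C(Q_A)`; `fam_tOf_iff`; surjectivity and naturality.
-/

set_option autoImplicit false
set_option linter.unusedSectionVars false
universe u

namespace Groth.Agent.Lib.Seat37.GPinFam

open CliffordAlgebra TensorProduct QuadGrp
open Groth.Agent.Lib.Seat37.CliffGrade Groth.Agent.Lib.Seat37.CliffBC
  Groth.Agent.Lib.Seat37.CliffRank Groth.Agent.Lib.Seat37.CliffPin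
  Groth.Agent.Lib.Seat37.CliffConj Groth.Agent.Lib.Seat37.CliffAzumaya
  Groth.Agent.Lib.Seat37.TensCoord

section general

variable {R : Type u} [CommRing R] {M : Type u} [AddCommGroup M] [Module R M] [Module.Free R M]
  [Module.Finite R M]
variable (Q : QuadraticForm R M)

theorem mem_GPin'_iff_forall (u : (CliffordAlgebra Q)ˣ) :
    u ∈ GPin' Q ↔ (∀ v, ∃ w, (u : CliffordAlgebra Q) * ι Q v * ↑u⁻¹ = ι Q w) ∧
      (∀ v, ∃ w, (↑u⁻¹ : CliffordAlgebra Q) * ι Q v * u = ι Q w) := by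
  constructor
  · intro hu
    refine ⟨conj_mem_of_GPin' Q u hu, fun v => ?_⟩
    have := conj_mem_of_GPin' Q u⁻¹ ((GPin' Q).inv_mem hu) v
    simpa using this
  · rintro ⟨h1, h2⟩
    have e1 : ∀ v, ι Q (conjLin Q u v) = (u : CliffordAlgebra Q) * ι Q v * ↑u⁻¹ := by
      intro v
      obtain ⟨v', hv'⟩ := h1 v
      have : conjLin Q u v = v' := by
        simp only [conjLin, LinearMap.comp_apply, LinearMap.mulLeft_apply,
          LinearMap.mulRight_apply]
        rw [← mul_assoc, hv', vecPart_ι]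
      rw [this, hv']
    have e2 : ∀ v, ι Q (conjLin Q u⁻¹ v) = (↑u⁻¹ : CliffordAlgebra Q) * ι Q v * u := by
      intro v
      obtain ⟨v', hv'⟩ := h2 v
      have : conjLin Q u⁻¹ v = v' := by
        simp only [conjLin, LinearMap.comp_apply, LinearMap.mulLeft_apply,
          LinearMap.mulRight_apply, inv_inv]
        rw [← mul_assoc, hv', vecPart_ι]
      rw [this, hv']
    let g : M ≃ₗ[R] M := LinearEquiv.ofLinearMap (conjLin Q u) (conjLin Q u⁻¹)
      (LinearMap.ext fun v => by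
        apply ι_injective Q
        change ι Q (conjLin Q u (conjLin Q u⁻¹ v)) = ι Q v
        rw [e1, e2]
        simp only [← mul_assoc, Units.mul_inv, one_mul]
        rw [mul_assoc, Units.mul_inv, mul_one])
      (LinearMap.ext fun v => by
        apply ι_injective Q
        change ι Q (conjLin Q u⁻¹ (conjLin Q u v)) = ι Q v
        rw [e2, e1]
        simp only [← mul_assoc, Units.inv_mul, one_mul]
        rw [mul_assoc, Units.inv_mul, mul_one])
    exact mem_GPin'_of_conj Q u g (fun v => (e1 v).symm)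

theorem forall_of_basis {n : ℕ} (b : Module.Basis (Fin n) R M) (x y : CliffordAlgebra Q)
    (h : ∀ i, ∃ w, x * ι Q (b i) * y = ι Q w) (v : M) : ∃ w, x * ι Q v * y = ι Q w := by
  let S : Submodule R M := Submodule.comap
    (LinearMap.mulLeft R x ∘ₗ LinearMap.mulRight R y ∘ₗ ι Q) (LinearMap.range (ι Q))
  have hS : S = ⊤ := by
    rw [eq_top_iff, ← b.span_eq, Submodule.span_le]
    rintro _ ⟨i, rfl⟩
    obtain ⟨w, hw⟩ := h i
    change (LinearMap.mulLeft R x ∘ₗ LinearMap.mulRight R y ∘ₗ ι Q) (b i) ∈ LinearMap.range (ι Q)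
    refine ⟨w, ?_⟩
    rw [← hw]
    simp [mul_assoc]
  have hv : v ∈ S := by rw [hS]; trivial
  obtain ⟨w, hw⟩ := hv
  refine ⟨w, ?_⟩
  rw [hw]
  simp [mul_assoc]

theorem mem_GPin'_iff_basis {n : ℕ} (b : Module.Basis (Fin n) R M) (u : (CliffordAlgebra Q)ˣ) :
    u ∈ GPin' Q ↔ (∀ i, ∃ w, (u : CliffordAlgebra Q) * ι Q (b i) * ↑u⁻¹ = ι Q w) ∧
      (∀ i, ∃ w, (↑u⁻¹ : CliffordAlgebra Q) * ι Q (b i) * u = ι Q w) := by
  rw [mem_GPin'_iff_forall]
  constructor
  · rintro ⟨h1, h2⟩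
    exact ⟨fun i => h1 _, fun i => h2 _⟩
  · rintro ⟨h1, h2⟩
    exact ⟨forall_of_basis Q b _ _ h1, forall_of_basis Q b _ _ h2⟩

/-- a projection of `C(Q)` with kernel the vectors -/
noncomputable def Lv : CliffordAlgebra Q →ₗ[R] CliffordAlgebra Q :=
  LinearMap.id - (ι Q) ∘ₗ (vecPart Q)

theorem Lv_ι (m : M) : Lv Q (ι Q m) = 0 := by
  simp [Lv, vecPart_ι]

end general

section fam

variable {R : Type u} [CommRing R] {M : Type u} [AddCommGroup M] [Module R M] [Module.Free R M]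
  [Module.Finite R M]
variable (Q : QuadraticForm R M) {n : ℕ} (b : Module.Basis (Fin n) R M)
variable (A : Type u) [CommRing A] [Algebra R A]

local notation "Q'" => baseChangeForm A Q
local notation "hQ'" => Groth.Agent.Lib.Helper25.HalfDisc.baseChangeForm_one_tmul A Q

/-- `A ⊗ C(Q) ≃ C(Q_A)` -/
noncomputable abbrev toCl : A ⊗[R] CliffordAlgebra Q ≃ₐ[A] CliffordAlgebra Q' := bcEquiv Q Q' hQ'

theorem toCl_Fmap (t : A ⊗[R] M) : toCl Q A (Fmap Q t) = ι Q' t := by
  induction t with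
  | zero => simp
  | tmul a v => exact ofBC_tmul_ι Q Q' hQ' a v
  | add t₁ t₂ h₁ h₂ => rw [map_add, map_add, h₁, h₂, map_add]

theorem toCl_symm_ι (t : A ⊗[R] M) : (toCl Q A).symm (ι Q' t) = Fmap Q t :=
  toBC_ι' Q Q' hQ' t

theorem Lv_baseChange (w : A ⊗[R] CliffordAlgebra Q) :
    (Lv Q).baseChange A w = w - Fmap Q ((vecPart Q).baseChange A w) := by
  induction w with
  | zero => simp
  | tmul a c =>
    rw [LinearMap.baseChange_tmul, LinearMap.baseChange_tmul, Fmap_tmul, ← TensorProduct.tmul_sub]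
    rfl
  | add w₁ w₂ h₁ h₂ =>
    rw [map_add, h₁, h₂, map_add, map_add]
    abel

theorem Lv_baseChange_Fmap (t : A ⊗[R] M) : (Lv Q).baseChange A (Fmap Q t) = 0 := by
  induction t with
  | zero => simp
  | tmul a v => rw [Fmap_tmul, LinearMap.baseChange_tmul, Lv_ι, TensorProduct.tmul_zero]
  | add t₁ t₂ h₁ h₂ => rw [map_add, map_add, h₁, h₂, add_zero]

theorem Lbc_eq_zero_iff (w : A ⊗[R] CliffordAlgebra Q) :
    (Lv Q).baseChange A w = 0 ↔ ∃ t : A ⊗[R] M, toCl Q A w = ι Q' t := by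
  constructor
  · intro h
    rw [Lv_baseChange, sub_eq_zero] at h
    refine ⟨(vecPart Q).baseChange A w, ?_⟩
    rw [← toCl_Fmap, ← h]
  · rintro ⟨t, ht⟩
    have : w = Fmap Q t := by
      rw [← toCl_symm_ι, ← ht, AlgEquiv.symm_apply_apply]
    rw [this, Lv_baseChange_Fmap]

local notation "K" => Finset (Fin n)

/-- the `u`-part of a coordinate vector -/
noncomputable def uOf (t : K ⊕ K → A) : A ⊗[R] CliffordAlgebra Q :=
  el (cliffBasis b Q) A (t ∘ Sum.inl)

/-- the `v`-part of a coordinate vector -/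
noncomputable def vOf (t : K ⊕ K → A) : A ⊗[R] CliffordAlgebra Q :=
  el (cliffBasis b Q) A (t ∘ Sum.inr)

/-- the basis vectors in `A ⊗ C(Q)` -/
noncomputable def ev (i : Fin n) : A ⊗[R] CliffordAlgebra Q := (1 : A) ⊗ₜ[R] ι Q (b i)

theorem toCl_ev (i : Fin n) :
    toCl Q A (ev Q b A i) = ι Q' (Algebra.TensorProduct.basis A b i) := by
  rw [Algebra.TensorProduct.basis_apply]
  exact ofBC_tmul_ι Q Q' hQ' 1 (b i)

/-- the equations: `u v = 1`, `v u = 1`, `u eᵢ v` and `v eᵢ u` are vectors -/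
noncomputable def fam (t : K ⊕ K → A) : (K ⊕ K) ⊕ ((Fin n × K) ⊕ (Fin n × K)) → A :=
  Sum.elim
    (Sum.elim (co (cliffBasis b Q) A (uOf Q b A t * vOf Q b A t - 1))
      (co (cliffBasis b Q) A (vOf Q b A t * uOf Q b A t - 1)))
    (Sum.elim
      (fun p => co (cliffBasis b Q) A
        ((Lv Q).baseChange A (uOf Q b A t * ev Q b A p.1 * vOf Q b A t)) p.2)
      (fun p => co (cliffBasis b Q) A
        ((Lv Q).baseChange A (vOf Q b A t * ev Q b A p.1 * uOf Q b A t)) p.2))

theorem fam_eq_zero_iff (t : K ⊕ K → A) :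
    fam Q b A t = 0 ↔
      (uOf Q b A t * vOf Q b A t = 1 ∧ vOf Q b A t * uOf Q b A t = 1) ∧
      (∀ i, (Lv Q).baseChange A (uOf Q b A t * ev Q b A i * vOf Q b A t) = 0) ∧
      (∀ i, (Lv Q).baseChange A (vOf Q b A t * ev Q b A i * uOf Q b A t) = 0) := by
  constructor
  · intro h
    refine ⟨⟨?_, ?_⟩, fun i => ?_, fun i => ?_⟩
    · rw [← sub_eq_zero, ← co_eq_zero_iff (cliffBasis b Q) A]
      funext k
      exact congrFun h (Sum.inl (Sum.inl k))
    · rw [← sub_eq_zero, ← co_eq_zero_iff (cliffBasis b Q) A]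
      funext k
      exact congrFun h (Sum.inl (Sum.inr k))
    · rw [← co_eq_zero_iff (cliffBasis b Q) A]
      funext k
      exact congrFun h (Sum.inr (Sum.inl (i, k)))
    · rw [← co_eq_zero_iff (cliffBasis b Q) A]
      funext k
      exact congrFun h (Sum.inr (Sum.inr (i, k)))
  · rintro ⟨⟨h1, h2⟩, h3, h4⟩
    funext p
    rcases p with (k | k) | (⟨i, k⟩ | ⟨i, k⟩)
    · change co (cliffBasis b Q) A (uOf Q b A t * vOf Q b A t - 1) k = 0
      rw [h1, sub_self, (co_eq_zero_iff (cliffBasis b Q) A 0).mpr rfl]; rfl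
    · change co (cliffBasis b Q) A (vOf Q b A t * uOf Q b A t - 1) k = 0
      rw [h2, sub_self, (co_eq_zero_iff (cliffBasis b Q) A 0).mpr rfl]; rfl
    · change co (cliffBasis b Q) A
        ((Lv Q).baseChange A (uOf Q b A t * ev Q b A i * vOf Q b A t)) k = 0
      rw [h3, (co_eq_zero_iff (cliffBasis b Q) A 0).mpr rfl]; rfl
    · change co (cliffBasis b Q) A
        ((Lv Q).baseChange A (vOf Q b A t * ev Q b A i * uOf Q b A t)) k = 0
      rw [h4, (co_eq_zero_iff (cliffBasis b Q) A 0).mpr rfl]; rfl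

end fam

section nat

variable {R : Type u} [CommRing R] {M : Type u} [AddCommGroup M] [Module R M] [Module.Free R M]
  [Module.Finite R M]
variable (Q : QuadraticForm R M) {n : ℕ} (b : Module.Basis (Fin n) R M)
variable {A B : Type u} [CommRing A] [Algebra R A] [CommRing B] [Algebra R B]

local notation "K" => Finset (Fin n)

theorem uOf_comp (φ : A →ₐ[R] B) (t : K ⊕ K → A) :
    uOf Q b B (φ ∘ t) = tmap φ (uOf Q b A t) := by
  unfold uOf
  rw [tmap_el]
  rfl

theorem vOf_comp (φ : A →ₐ[R] B) (t : K ⊕ K → A) :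
    vOf Q b B (φ ∘ t) = tmap φ (vOf Q b A t) := by
  unfold vOf
  rw [tmap_el]
  rfl

theorem tmap_ev (φ : A →ₐ[R] B) (i : Fin n) : tmap φ (ev Q b A i) = ev Q b B i := by
  unfold ev
  rw [tmap_tmul, map_one]

theorem fam_nat (φ : A →ₐ[R] B) (t : K ⊕ K → A) :
    fam Q b B (φ ∘ t) = φ ∘ fam Q b A t := by
  funext p
  rcases p with (k | k) | (⟨i, k⟩ | ⟨i, k⟩)
  · change co (cliffBasis b Q) B (uOf Q b B (φ ∘ t) * vOf Q b B (φ ∘ t) - 1) k =
      φ (co (cliffBasis b Q) A (uOf Q b A t * vOf Q b A t - 1) k)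
    rw [uOf_comp, vOf_comp, ← map_mul, ← map_one (tmap (C := CliffordAlgebra Q) φ), ← map_sub,
      co_tmap]
    rfl
  · change co (cliffBasis b Q) B (vOf Q b B (φ ∘ t) * uOf Q b B (φ ∘ t) - 1) k =
      φ (co (cliffBasis b Q) A (vOf Q b A t * uOf Q b A t - 1) k)
    rw [uOf_comp, vOf_comp, ← map_mul, ← map_one (tmap (C := CliffordAlgebra Q) φ), ← map_sub,
      co_tmap]
    rfl
  · change co (cliffBasis b Q) B
        ((Lv Q).baseChange B (uOf Q b B (φ ∘ t) * ev Q b B i * vOf Q b B (φ ∘ t))) k =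
      φ (co (cliffBasis b Q) A
        ((Lv Q).baseChange A (uOf Q b A t * ev Q b A i * vOf Q b A t)) k)
    rw [uOf_comp, vOf_comp, ← tmap_ev Q b φ, ← map_mul, ← map_mul, ← tmap_baseChange, co_tmap]
    rfl
  · change co (cliffBasis b Q) B
        ((Lv Q).baseChange B (vOf Q b B (φ ∘ t) * ev Q b B i * uOf Q b B (φ ∘ t))) k =
      φ (co (cliffBasis b Q) A
        ((Lv Q).baseChange A (vOf Q b A t * ev Q b A i * uOf Q b A t)) k)
    rw [uOf_comp, vOf_comp, ← tmap_ev Q b φ, ← map_mul, ← map_mul, ← tmap_baseChange, co_tmap]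
    rfl

end nat

end Groth.Agent.Lib.Seat37.GPinFam
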