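import Mathlib
import Groth.Prelude.Def_QuadGrp
import Groth.Agent.Lib.Seat37GPinFam

/-!
# Units of `C(Q_A)` in coordinates, naturally in `A` (seat 37)

* `tOf Q b A U`: coordinates of a unit `U` of `C(Q_A)` and of its inverse;
* `fam_tOf_iff`: the equations `fam` hold for `tOf U` iff `U ∈ GPin' Q_A`;
* `exists_unit_of_fam`, `tOf_injective`;
* `Fφ φ : C(Q_A) →+* C(Q_B)` for `φ : A →ₐ[R] B`, its two characterising properties, `tOf_map`.
-/

set_option autoImplicit false
set_option linter.unusedSectionVars false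
universe u

namespace Groth.Agent.Lib.Seat37.GPinPts

open CliffordAlgebra TensorProduct QuadGrp
open Groth.Agent.Lib.Seat37.CliffGrade Groth.Agent.Lib.Seat37.CliffBC
  Groth.Agent.Lib.Seat37.CliffRank Groth.Agent.Lib.Seat37.CliffPin
  Groth.Agent.Lib.Seat37.CliffConj Groth.Agent.Lib.Seat37.CliffAzumaya
  Groth.Agent.Lib.Seat37.TensCoord Groth.Agent.Lib.Seat37.GPinFam

variable {R : Type u} [CommRing R] {M : Type u} [AddCommGroup M] [Module R M] [Module.Free R M]
  [Module.Finite R M]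
variable (Q : QuadraticForm R M) {n : ℕ} (b : Module.Basis (Fin n) R M)

local notation "K" => Finset (Fin n)

section one

variable (A : Type u) [CommRing A] [Algebra R A]

local notation "Q'" => baseChangeForm A Q

/-- coordinates of a unit of `C(Q_A)` and of its inverse -/
noncomputable def tOf (U : (CliffordAlgebra Q')ˣ) : K ⊕ K → A :=
  Sum.elim (co (cliffBasis b Q) A ((toCl Q A).symm (U : CliffordAlgebra Q')))
    (co (cliffBasis b Q) A ((toCl Q A).symm (↑U⁻¹ : CliffordAlgebra Q')))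

theorem uOf_tOf (U : (CliffordAlgebra Q')ˣ) :
    uOf Q b A (tOf Q b A U) = (toCl Q A).symm (U : CliffordAlgebra Q') := by
  unfold uOf tOf
  rw [Sum.elim_comp_inl, el_co]

theorem vOf_tOf (U : (CliffordAlgebra Q')ˣ) :
    vOf Q b A (tOf Q b A U) = (toCl Q A).symm (↑U⁻¹ : CliffordAlgebra Q') := by
  unfold vOf tOf
  rw [Sum.elim_comp_inr, el_co]

theorem fam_tOf_iff (U : (CliffordAlgebra Q')ˣ) :
    fam Q b A (tOf Q b A U) = 0 ↔ U ∈ GPin' Q' := by
  rw [fam_eq_zero_iff, uOf_tOf, vOf_tOf,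
    mem_GPin'_iff_basis Q' (Algebra.TensorProduct.basis A b)]
  have h1 : (toCl Q A).symm (U : CliffordAlgebra Q') * (toCl Q A).symm (↑U⁻¹ : CliffordAlgebra Q')
      = 1 := by rw [← map_mul, Units.mul_inv, map_one]
  have h2 : (toCl Q A).symm (↑U⁻¹ : CliffordAlgebra Q') * (toCl Q A).symm (U : CliffordAlgebra Q')
      = 1 := by rw [← map_mul, Units.inv_mul, map_one]
  have e : ∀ (x y : CliffordAlgebra Q') (i : Fin n),
      (Lv Q).baseChange A ((toCl Q A).symm x * ev Q b A i * (toCl Q A).symm y) = 0 ↔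
        ∃ w, x * ι Q' (Algebra.TensorProduct.basis A b i) * y = ι Q' w := by
    intro x y i
    rw [Lbc_eq_zero_iff, map_mul, map_mul, AlgEquiv.apply_symm_apply, AlgEquiv.apply_symm_apply,
      toCl_ev]
  constructor
  · rintro ⟨-, h3, h4⟩
    exact ⟨fun i => (e _ _ i).mp (h3 i), fun i => (e _ _ i).mp (h4 i)⟩
  · rintro ⟨h3, h4⟩
    exact ⟨⟨h1, h2⟩, fun i => (e _ _ i).mpr (h3 i), fun i => (e _ _ i).mpr (h4 i)⟩

theorem exists_unit_of_fam (t : K ⊕ K → A) (h : fam Q b A t = 0) :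
    ∃ U : (CliffordAlgebra Q')ˣ, tOf Q b A U = t := by
  obtain ⟨⟨h1, h2⟩, -, -⟩ := (fam_eq_zero_iff Q b A t).mp h
  refine ⟨⟨toCl Q A (uOf Q b A t), toCl Q A (vOf Q b A t), by rw [← map_mul, h1, map_one],
    by rw [← map_mul, h2, map_one]⟩, ?_⟩
  unfold tOf
  funext p
  rcases p with k | k
  · simp only [Sum.elim_inl, AlgEquiv.symm_apply_apply]
    unfold uOf
    rw [co_el]; rfl
  · simp only [Sum.elim_inr, Units.inv_mk, AlgEquiv.symm_apply_apply]
    unfold vOf
    rw [co_el]; rfl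

theorem tOf_injective : Function.Injective (tOf Q b A) := by
  intro U U' h
  apply Units.ext
  have h1 : co (cliffBasis b Q) A ((toCl Q A).symm (U : CliffordAlgebra Q')) =
      co (cliffBasis b Q) A ((toCl Q A).symm (U' : CliffordAlgebra Q')) := by
    funext k
    exact congrFun h (Sum.inl k)
  have h2 := congrArg (el (cliffBasis b Q) A) h1
  rw [el_co, el_co] at h2
  exact (toCl Q A).symm.injective h2

end one

section two

variable {A B : Type u} [CommRing A] [Algebra R A] [CommRing B] [Algebra R B]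

/-- the ring map `C(Q_A) → C(Q_B)` induced by `φ` -/
noncomputable def Fφ (φ : A →ₐ[R] B) :
    CliffordAlgebra (baseChangeForm A Q) →+* CliffordAlgebra (baseChangeForm B Q) :=
  ((toCl Q B).toAlgHom.toRingHom.comp (tmap φ).toRingHom).comp
    (toCl Q A).symm.toAlgHom.toRingHom

theorem Fφ_apply (φ : A →ₐ[R] B) (x : CliffordAlgebra (baseChangeForm A Q)) :
    Fφ Q φ x = toCl Q B (tmap φ ((toCl Q A).symm x)) := rfl

theorem toCl_symm_Fφ (φ : A →ₐ[R] B) (x : CliffordAlgebra (baseChangeForm A Q)) :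
    (toCl Q B).symm (Fφ Q φ x) = tmap φ ((toCl Q A).symm x) := by
  rw [Fφ_apply, AlgEquiv.symm_apply_apply]

theorem tmap_Fmap (φ : A →ₐ[R] B) (v : A ⊗[R] M) :
    tmap φ (Fmap Q v) = Fmap Q (LinearMap.rTensor M φ.toLinearMap v) := by
  induction v with
  | zero => simp
  | tmul a m => rfl
  | add v₁ v₂ h₁ h₂ => rw [map_add, map_add, h₁, h₂, map_add, map_add]

theorem Fφ_ι (φ : A →ₐ[R] B) (v : A ⊗[R] M) :
    Fφ Q φ (ι _ v) = ι _ (LinearMap.rTensor M φ.toLinearMap v) := by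
  rw [Fφ_apply, toCl_symm_ι, tmap_Fmap, toCl_Fmap]

theorem Fφ_algebraMap (φ : A →ₐ[R] B) (a : A) :
    Fφ Q φ (algebraMap A _ a) = algebraMap B _ (φ a) := by
  rw [Fφ_apply, AlgEquiv.commutes, Algebra.TensorProduct.algebraMap_apply,
    Algebra.algebraMap_self_apply, tmap_tmul]
  have : (φ a ⊗ₜ[R] (1 : CliffordAlgebra Q) : B ⊗[R] CliffordAlgebra Q) =
      algebraMap B (B ⊗[R] CliffordAlgebra Q) (φ a) := by
    rw [Algebra.TensorProduct.algebraMap_apply, Algebra.algebraMap_self_apply]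
  rw [this, AlgEquiv.commutes]

theorem tOf_map (φ : A →ₐ[R] B) (U : (CliffordAlgebra (baseChangeForm A Q))ˣ)
    (U' : (CliffordAlgebra (baseChangeForm B Q))ˣ)
    (h : (U' : CliffordAlgebra (baseChangeForm B Q)) = Fφ Q φ U) :
    tOf Q b B U' = φ ∘ tOf Q b A U := by
  have hinv : (↑U'⁻¹ : CliffordAlgebra (baseChangeForm B Q)) = Fφ Q φ ↑U⁻¹ := by
    rw [Units.inv_eq_of_mul_eq_one_right]
    rw [h, ← map_mul, Units.mul_inv, map_one]
  funext p
  rcases p with k | k
  · change co (cliffBasis b Q) B ((toCl Q B).symm (U' : CliffordAlgebra _)) k =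
      φ (co (cliffBasis b Q) A ((toCl Q A).symm (U : CliffordAlgebra _)) k)
    rw [h, toCl_symm_Fφ, co_tmap]; rfl
  · change co (cliffBasis b Q) B ((toCl Q B).symm (↑U'⁻¹ : CliffordAlgebra _)) k =
      φ (co (cliffBasis b Q) A ((toCl Q A).symm (↑U⁻¹ : CliffordAlgebra _)) k)
    rw [hinv, toCl_symm_Fφ, co_tmap]; rfl

end two

end Groth.Agent.Lib.Seat37.GPinPts
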