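import Mathlib
import Groth.Prelude.Def_QuadGrp
import Groth.Agent.Lib.Seat37GPinPts
import Groth.Agent.Lib.Seat37AzDer
import Groth.Agent.Lib.Seat37CliffEvenAz
import Groth.Agent.Lib.Helper18Quad2

/-!
# Infinitesimal lifting for the Clifford group of a regular form of even rank (seat 37)

* `isRegular_of_isUnit_det_PM`, `isRegular_baseChangeForm`;
* `rho`: the reduction `C(Q_A) → C(Q_{A/I})`, its kernel `I • ⊤`;
* `exists_lift_GPin'`: for `I ^ 2 = ⊥`, if isometries of `Q_{A/I}` lift to `Q_A` then points of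
  `GPin'` lift (inner derivations of the Azumaya algebra `C(Q_A)`).
-/

set_option autoImplicit false
set_option linter.unusedSectionVars false
universe u

namespace Groth.Agent.Lib.Seat37.GPinLift

open CliffordAlgebra TensorProduct QuadGrp Matrix
open Groth.Agent.S17014.Aux.HD Groth.Agent.Lib.Helper25.HalfDisc
open Groth.Agent.Lib.Seat37.CliffGrade Groth.Agent.Lib.Seat37.CliffBC
  Groth.Agent.Lib.Seat37.CliffRank Groth.Agent.Lib.Seat37.CliffPin
  Groth.Agent.Lib.Seat37.CliffConj Groth.Agent.Lib.Seat37.CliffAzumaya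
  Groth.Agent.Lib.Seat37.TensCoord Groth.Agent.Lib.Seat37.GPinFam
  Groth.Agent.Lib.Seat37.GPinPts Groth.Agent.Lib.Seat37.AzDer

section regular

variable {R : Type u} [CommRing R] {M : Type u} [AddCommGroup M] [Module R M]

theorem isRegular_of_isUnit_det_PM {n : ℕ} (b : Module.Basis (Fin n) R M) (Q : QuadraticForm R M)
    (h : IsUnit (PM (coeffs b (LinearEquiv.refl R R) Q)).det) : IsRegular Q := by
  have hdet : IsUnit (LinearMap.toMatrix b b.dualBasis
      (QuadraticMap.polarBilin Q : M →ₗ[R] Module.Dual R M)).det := by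
    have h2 : LinearMap.toMatrix b b.dualBasis
        (QuadraticMap.polarBilin Q : M →ₗ[R] Module.Dual R M) =
        (LinearMap.BilinForm.toMatrix b (QuadraticMap.polarBilin Q))ᵀ := by
      ext i j
      rw [LinearMap.toMatrix_apply, Matrix.transpose_apply, LinearMap.BilinForm.toMatrix_apply,
        Module.Basis.dualBasis_repr]
    rw [h2, det_transpose, ← PM_coeffs]
    exact h
  exact (LinearEquiv.ofIsUnitDet hdet).bijective

theorem isRegular_baseChangeForm [Module.Free R M] {n : ℕ} (b : Module.Basis (Fin n) R M)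
    (Q : QuadraticForm R M) (hQ : IsRegular Q) (A : Type u) [CommRing A] [Algebra R A] :
    IsRegular (baseChangeForm A Q) := by
  apply isRegular_of_isUnit_det_PM (Algebra.TensorProduct.basis A b)
  rw [coeffs_baseChange, ← Groth.Agent.S17014.Aux.HD.PM_map, ← RingHom.mapMatrix_apply,
    ← RingHom.map_det]
  exact (Groth.Agent.Lib.Seat37.CliffEvenAz.isUnit_det_PM_of_isRegular b Q hQ).map _

end regular

section lift

variable {R : Type u} [CommRing R] {M : Type u} [AddCommGroup M] [Module R M] [Module.Free R M]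
  [Module.Finite R M]
variable (Q : QuadraticForm R M) (m : ℕ) (b : Module.Basis (Fin (2 * m)) R M)
variable (A : Type u) [CommRing A] [Algebra R A] (I : Ideal A)

local notation "QA" => baseChangeForm A Q
local notation "QI" => baseChangeForm (A ⧸ I) Q

/-- the reduction map `C(Q_A) → C(Q_{A/I})` -/
noncomputable abbrev rho : CliffordAlgebra QA →+* CliffordAlgebra QI :=
  Fφ Q (Ideal.Quotient.mkₐ R I)

/-- the reduction map on vectors -/
noncomputable abbrev rT : A ⊗[R] M →ₗ[R] (A ⧸ I) ⊗[R] M :=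
  LinearMap.rTensor M (Ideal.Quotient.mkₐ R I).toLinearMap

include b in
theorem rho_surjective : Function.Surjective (rho Q A I) := by
  intro x
  set c := co (cliffBasis b Q) (A ⧸ I) ((toCl Q (A ⧸ I)).symm x) with hc
  let c' : Finset (Fin (2 * m)) → A := fun k => Function.surjInv Ideal.Quotient.mk_surjective (c k)
  have hc' : (Ideal.Quotient.mkₐ R I) ∘ c' = c := by
    funext k
    exact Function.surjInv_eq Ideal.Quotient.mk_surjective _
  refine ⟨toCl Q A (el (cliffBasis b Q) A c'), ?_⟩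
  rw [Fφ_apply, AlgEquiv.symm_apply_apply, tmap_el, hc', hc, el_co, AlgEquiv.apply_symm_apply]

/-- the kernel of the reduction map -/
noncomputable abbrev JJ : Submodule A (CliffordAlgebra QA) := I • (⊤ : Submodule A (CliffordAlgebra QA))

include b in
theorem mem_JJ_of_rho (x : CliffordAlgebra QA) (hx : rho Q A I x = 0) : x ∈ JJ Q A I := by
  set c := co (cliffBasis b Q) A ((toCl Q A).symm x) with hc
  have h1 : el (cliffBasis b Q) (A ⧸ I) ((Ideal.Quotient.mkₐ R I) ∘ c) = 0 := by
    rw [← tmap_el, hc, el_co]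
    have := hx
    rw [Fφ_apply] at this
    exact (toCl Q (A ⧸ I)).injective (by rw [this, map_zero])
  have h2 : (Ideal.Quotient.mkₐ R I) ∘ c = 0 := by
    have := congrArg (co (cliffBasis b Q) (A ⧸ I)) h1
    rw [co_el] at this
    rw [this]
    exact (co_eq_zero_iff (cliffBasis b Q) (A ⧸ I) 0).mpr rfl
  have h3 : ∀ k, c k ∈ I := by
    intro k
    have := congrFun h2 k
    exact Ideal.Quotient.eq_zero_iff_mem.mp this
  have h4 : x = toCl Q A (el (cliffBasis b Q) A c) := by
    rw [hc, el_co, AlgEquiv.apply_symm_apply]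
  rw [h4, el_eq_sum, map_sum]
  refine Submodule.sum_mem _ fun k _ => ?_
  rw [map_smul]
  exact Submodule.smul_mem_smul (h3 k) Submodule.mem_top

theorem rho_of_mem_JJ (x : CliffordAlgebra QA) (hx : x ∈ JJ Q A I) : rho Q A I x = 0 := by
  refine Submodule.smul_induction_on hx ?_ ?_
  · intro a ha y _
    rw [Algebra.smul_def, map_mul, Fφ_algebraMap]
    have : (Ideal.Quotient.mkₐ R I) a = 0 := Ideal.Quotient.eq_zero_iff_mem.mpr ha
    rw [this, map_zero, zero_mul]
  · intro y z hy hz
    rw [map_add, hy, hz, add_zero]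

theorem JJ_mul_left (x y : CliffordAlgebra QA) (hy : y ∈ JJ Q A I) : x * y ∈ JJ Q A I := by
  refine Submodule.smul_induction_on hy ?_ ?_
  · intro a ha z _
    rw [mul_smul_comm]
    exact Submodule.smul_mem_smul ha Submodule.mem_top
  · intro y z hy hz
    rw [mul_add]
    exact Submodule.add_mem _ hy hz

theorem JJ_mul_zero (hI : I ^ 2 = ⊥) (x y : CliffordAlgebra QA) (hx : x ∈ JJ Q A I)
    (hy : y ∈ JJ Q A I) : x * y = 0 := by
  refine Submodule.smul_induction_on hx ?_ ?_
  · intro a ha x' _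
    refine Submodule.smul_induction_on hy ?_ ?_
    · intro c hc y' _
      rw [smul_mul_smul_comm]
      have : a * c = 0 := by
        have h : a * c ∈ I ^ 2 := by rw [pow_two]; exact Ideal.mul_mem_mul ha hc
        rwa [hI, Ideal.mem_bot] at h
      rw [this, zero_smul]
    · intro y z hy hz
      rw [mul_add, hy, hz, add_zero]
  · intro x' z hx' hz
    rw [add_mul, hx', hz, add_zero]

/-- conjugation by a unit as an algebra map -/
noncomputable def innerHom {C : Type*} [Ring C] [Algebra A C] (u : Cˣ) : C →ₐ[A] C where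
  toFun x := ↑u⁻¹ * x * u
  map_one' := by rw [mul_one, Units.inv_mul]
  map_mul' x y := by
    simp only [mul_assoc]
    rw [← mul_assoc (u : C) (↑u⁻¹ : C), Units.mul_inv, one_mul]
  map_zero' := by rw [mul_zero, zero_mul]
  map_add' x y := by rw [mul_add, add_mul]
  commutes' r := by rw [← Algebra.commutes, mul_assoc, Units.inv_mul, mul_one]

include b in
theorem exists_lift_GPin' (hI : I ^ 2 = ⊥) (hQA : IsRegular QA)
    (hlift : ∀ gbar ∈ O QI, ∃ g ∈ O QA, ∀ v, rT A I (g v) = gbar (rT A I v))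
    (Ubar : (CliffordAlgebra QI)ˣ) (hU : Ubar ∈ GPin' QI) :
    ∃ U : (CliffordAlgebra QA)ˣ, U ∈ GPin' QA ∧
      rho Q A I (U : CliffordAlgebra QA) = (Ubar : CliffordAlgebra QI) := by
  have hAz : IsAzumaya A (CliffordAlgebra QA) :=
    Groth.Agent.Lib.Seat37.CliffEvenAz.isAzumaya_clifford m (Algebra.TensorProduct.basis A b) QA hQA
  -- lifts of `Ubar` and its inverse
  obtain ⟨u0, hu0⟩ := rho_surjective Q m b A I (Ubar : CliffordAlgebra QI)
  obtain ⟨v0, hv0⟩ := rho_surjective Q m b A I (↑Ubar⁻¹ : CliffordAlgebra QI)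
  have hε : u0 * v0 - 1 ∈ JJ Q A I := by
    apply mem_JJ_of_rho Q m b A I
    rw [map_sub, map_mul, hu0, hv0, Units.mul_inv, map_one, sub_self]
  have hε' : v0 * u0 - 1 ∈ JJ Q A I := by
    apply mem_JJ_of_rho Q m b A I
    rw [map_sub, map_mul, hu0, hv0, Units.inv_mul, map_one, sub_self]
  -- `u0` is a unit
  have hr : u0 * (v0 * (1 - (u0 * v0 - 1))) = 1 := by
    have h0 := JJ_mul_zero Q A I hI _ _ hε hε
    have : u0 * (v0 * (1 - (u0 * v0 - 1))) = 1 - (u0 * v0 - 1) * (u0 * v0 - 1) := by noncomm_ring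
    rw [this, h0, sub_zero]
  have hl : ((1 - (v0 * u0 - 1)) * v0) * u0 = 1 := by
    have h0 := JJ_mul_zero Q A I hI _ _ hε' hε'
    have : ((1 - (v0 * u0 - 1)) * v0) * u0 = 1 - (v0 * u0 - 1) * (v0 * u0 - 1) := by noncomm_ring
    rw [this, h0, sub_zero]
  set r := v0 * (1 - (u0 * v0 - 1)) with hrdef
  have hlr : (1 - (v0 * u0 - 1)) * v0 = r := by
    calc (1 - (v0 * u0 - 1)) * v0 = ((1 - (v0 * u0 - 1)) * v0) * (u0 * r) := by rw [hr, mul_one]
      _ = (((1 - (v0 * u0 - 1)) * v0) * u0) * r := by simp only [mul_assoc]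
      _ = r := by rw [hl, one_mul]
  rw [hlr] at hl
  let U0 : (CliffordAlgebra QA)ˣ := ⟨u0, r, hr, hl⟩
  have hρr : rho Q A I r = (↑Ubar⁻¹ : CliffordAlgebra QI) := by
    rw [hrdef, map_mul, map_sub, map_one, rho_of_mem_JJ Q A I _ hε, sub_zero, mul_one, hv0]
  -- the isometry and its lift
  obtain ⟨g, hgO, hg⟩ := hlift (conjEquiv QI Ubar hU) (conjEquiv_mem_O QI Ubar hU)
  set Cg := CliffordAlgebra.map (isometryOfMem QA g hgO) with hCg
  have hρCg : ∀ x, rho Q A I (Cg x) =
      (Ubar : CliffordAlgebra QI) * rho Q A I x * (↑Ubar⁻¹ : CliffordAlgebra QI) := by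
    intro x
    induction x using CliffordAlgebra.induction with
    | algebraMap a =>
      rw [AlgHom.commutes, Fφ_algebraMap, ← Algebra.commutes, mul_assoc, Units.mul_inv, mul_one]
    | ι v =>
      rw [hCg, map_apply_ι, isometryOfMem_apply, Fφ_ι, Fφ_ι]
      have := hg v
      change LinearMap.rTensor M (Ideal.Quotient.mkₐ R I).toLinearMap (g v) = _ at this
      rw [this, ι_conjEquiv]
    | mul x y hx hy =>
      rw [map_mul, map_mul, hx, hy, map_mul]
      simp only [mul_assoc]
      rw [← mul_assoc (↑Ubar⁻¹ : CliffordAlgebra QI) (Ubar : CliffordAlgebra QI), Units.inv_mul,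
        one_mul]
    | add x y hx hy => rw [map_add, map_add, hx, hy, map_add, mul_add, add_mul]
  -- the automorphism congruent to the identity
  set σ : CliffordAlgebra QA →ₐ[A] CliffordAlgebra QA := (innerHom A U0).comp Cg with hσ
  have hσx : ∀ x, σ x = r * Cg x * u0 := fun x => rfl
  have hσJ : ∀ x, σ x - x ∈ JJ Q A I := by
    intro x
    apply mem_JJ_of_rho Q m b A I
    rw [map_sub, hσx, map_mul, map_mul, hρr, hu0, hρCg]
    simp only [← mul_assoc, Units.inv_mul, one_mul]
    rw [mul_assoc, Units.inv_mul, mul_one, sub_self]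
  obtain ⟨nn, hnJ, hn⟩ := exists_conj_of_sqZero (scalarPart QA) (scalarPart_one QA) σ (JJ Q A I)
    (JJ_mul_left Q A I) (JJ_mul_zero Q A I hI) hσJ
  have hnn : nn * nn = 0 := JJ_mul_zero Q A I hI _ _ hnJ hnJ
  let N : (CliffordAlgebra QA)ˣ := ⟨1 - nn, 1 + nn,
    by
      have : (1 - nn) * (1 + nn) = 1 - nn * nn := by noncomm_ring
      rw [this, hnn, sub_zero],
    by
      have : (1 + nn) * (1 - nn) = 1 - nn * nn := by noncomm_ring
      rw [this, hnn, sub_zero]⟩
  refine ⟨U0 * N, ?_, ?_⟩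
  · apply mem_GPin'_of_conj QA (U0 * N) g
    intro v
    have h1 := hn (ι QA v)
    rw [hσx, hCg, map_apply_ι, isometryOfMem_apply] at h1
    change u0 * (1 - nn) * ι QA v * ((1 + nn) * r) = ι QA (g v)
    calc u0 * (1 - nn) * ι QA v * ((1 + nn) * r)
        = u0 * ((1 - nn) * ι QA v * (1 + nn)) * r := by simp only [mul_assoc]
      _ = u0 * (r * ι QA (g v) * u0) * r := by rw [h1]
      _ = (u0 * r) * ι QA (g v) * (u0 * r) := by simp only [mul_assoc]
      _ = ι QA (g v) := by rw [hr, one_mul, mul_one]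
  · change rho Q A I (u0 * (1 - nn)) = _
    rw [map_mul, map_sub, map_one, rho_of_mem_JJ Q A I _ hnJ, sub_zero, mul_one, hu0]

end lift

end Groth.Agent.Lib.Seat37.GPinLift
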