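import Mathlib
import Groth.Prelude.Def_QuadGrp
import Groth.Agent.Lib.Seat37CliffSetup
import Groth.Agent.Lib.Seat37CliffGPinSO
import Groth.Agent.Lib.Seat37CliffAzumaya
import Groth.Agent.Lib.Seat37CliffPin

/-!
# Odd rank: units acting on the even part like an isometry of determinant one (seat 37)

`Q` semiregular of rank `2 m + 1` on a module with basis `b`.
* `conj_eq_map_of_even`: if conjugation by a unit `u` agrees with `C(g)`, `g ∈ SO' Q`, on the even
  part, it agrees everywhere (the centre is fixed by both and `C = C₀ + Σ zₖ C₀`);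
* `idem_unique`: the idempotent of a locally homogeneous unit is unique;
* `isAzumaya_even'`: the even Clifford algebra is Azumaya.
-/

set_option autoImplicit false
set_option linter.unusedSectionVars false
universe u

namespace Groth.Agent.Lib.Seat37.GPinOddAlg

open CliffordAlgebra TensorProduct QuadGrp
open Groth.Agent.Lib.Seat37.CliffGrade Groth.Agent.Lib.Seat37.CliffRank
  Groth.Agent.Lib.Seat37.CliffDescent Groth.Agent.Lib.Seat37.CliffPin
  Groth.Agent.Lib.Seat37.CliffSOCenter

variable {R : Type u} [CommRing R] {M : Type u} [AddCommGroup M] [Module R M] [Module.Free R M]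
  [Module.Finite R M]
variable (m : ℕ) (b : Module.Basis (Fin (2 * m + 1)) R M) (Q : QuadraticForm R M)
variable (hQ : IsSemiregular b (LinearEquiv.refl R R) Q)

include b hQ in
theorem isAzumaya_even' : IsAzumaya R (CliffordAlgebra.even Q) := by
  obtain ⟨A, iA, iAlg, hff, hfp, ⟨φ⟩⟩ := Groth.Agent.Lib.Seat37.CliffSetup.exists_split m b Q hQ
  exact Groth.Agent.Lib.Seat37.CliffAzumaya.isAzumaya_even A Q m φ

include b hQ in
theorem conj_eq_map_of_even (u : (CliffordAlgebra Q)ˣ) (g : M ≃ₗ[R] M) (hg : g ∈ SO' Q)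
    (h : ∀ x ∈ evenOdd Q 0, (u : CliffordAlgebra Q) * x * ↑u⁻¹ =
      CliffordAlgebra.map (isometryOfMem Q g hg.1) x) (x : CliffordAlgebra Q) :
    (u : CliffordAlgebra Q) * x * ↑u⁻¹ = CliffordAlgebra.map (isometryOfMem Q g hg.1) x := by
  obtain ⟨A, iA, iAlg, hff, hfp, ⟨φ⟩⟩ := Groth.Agent.Lib.Seat37.CliffSetup.exists_split m b Q hQ
  obtain ⟨N, z, w, hz, hw, hsum⟩ := exists_odd_central_pairs A Q m φ b
  have hdet : LinearMap.det (isometryOfMem Q g hg.1).toLinearMap = 1 := by
    have h1 : LinearEquiv.det g = 1 := hg.2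
    have h2 : (isometryOfMem Q g hg.1).toLinearMap = (g : M →ₗ[R] M) := rfl
    rw [h2, ← LinearEquiv.coe_det, h1, Units.val_one]
  have hzfix : ∀ k, CliffordAlgebra.map (isometryOfMem Q g hg.1) (z k) = z k := fun k =>
    map_odd_central_of_det_one A Q m φ _ hdet (z k) (hz k).2 (hz k).1
  have hP1 : P1 Q x = ∑ k, z k * (w k * P1 Q x) := by
    have e1 : ∑ k, z k * (w k * P1 Q x) = (∑ k, z k * w k) * P1 Q x := by
      rw [Finset.sum_mul]
      exact Finset.sum_congr rfl (fun k _ => (mul_assoc _ _ _).symm)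
    rw [e1, hsum, one_mul]
  have hx : x = P0 Q x + ∑ k, z k * (w k * P1 Q x) := by
    rw [← hP1, P0_add_P1]
  have hwe : ∀ k, w k * P1 Q x ∈ evenOdd Q 0 := fun k => by
    have := evenOdd_mul_mem Q 1 1 _ _ (hw k).1 (P1_mem Q x)
    rwa [show (1 : ZMod 2) + 1 = 0 from by decide] at this
  rw [hx, mul_add, add_mul, map_add, h _ (P0_mem Q x), Finset.mul_sum, Finset.sum_mul, map_sum]
  congr 1
  refine Finset.sum_congr rfl fun k _ => ?_
  have hc := Subalgebra.mem_center_iff.mp (hz k).2 (u : CliffordAlgebra Q)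
  rw [map_mul, hzfix, ← h _ (hwe k), ← mul_assoc, hc]
  simp only [mul_assoc]

theorem eq_zero_of_even_odd (x : CliffordAlgebra Q) (h0 : x ∈ evenOdd Q 0) (h1 : x ∈ evenOdd Q 1) :
    x = 0 := by
  rw [← P0_of_even Q x h0, P0_of_odd Q x h1]

theorem idem_unique (u : (CliffordAlgebra Q)ˣ) (e e' : R)
    (he0 : e • (u : CliffordAlgebra Q) ∈ evenOdd Q 0)
    (he1 : (1 - e) • (u : CliffordAlgebra Q) ∈ evenOdd Q 1)
    (he0' : e' • (u : CliffordAlgebra Q) ∈ evenOdd Q 0)
    (he1' : (1 - e') • (u : CliffordAlgebra Q) ∈ evenOdd Q 1) : e = e' := by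
  have key : ∀ a c : R, a • (u : CliffordAlgebra Q) ∈ evenOdd Q 0 →
      c • (u : CliffordAlgebra Q) ∈ evenOdd Q 1 → a * c = 0 := by
    intro a c ha hc
    have h1 : (a * c) • (u : CliffordAlgebra Q) = 0 := by
      apply eq_zero_of_even_odd Q
      · rw [mul_comm, mul_smul]; exact Submodule.smul_mem _ _ ha
      · rw [mul_smul]; exact Submodule.smul_mem _ _ hc
    have h2 : algebraMap R (CliffordAlgebra Q) (a * c) = 0 := by
      rw [Algebra.algebraMap_eq_smul_one, ← Units.mul_inv u, ← smul_mul_assoc, h1, zero_mul]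
    exact algebraMap_injective Q (by rw [h2, map_zero])
  have h1 := key e (1 - e') he0 he1'
  have h2 := key e' (1 - e) he0' he1
  linear_combination h1 - h2

end Groth.Agent.Lib.Seat37.GPinOddAlg
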