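import Mathlib
import Groth.Prelude.Def_QuadGrp
import Groth.Agent.Lib.Seat37GPinPts
import Groth.Agent.Lib.Seat37GPinOddAlg
import Groth.Agent.Lib.Seat37CliffEvenCenterBC

/-!
# The Clifford group `GPin = GPin' ⊓ LH` as a functor in coordinates (seat 37)

Adds to `GPinFam.fam` one variable `e` and the equations `e * e = e`, `e • u` even, `(1 - e) • u`
odd.  `famO`, `famO_eq_zero_iff`, `famO_nat`, `tOfO`, `famO_tOfO_iff`, `Fφ_mem`.
-/

set_option autoImplicit false
set_option linter.unusedSectionVars false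
universe u

namespace Groth.Agent.Lib.Seat37.GPinOddFam

open CliffordAlgebra TensorProduct QuadGrp
open Groth.Agent.Lib.Seat37.CliffGrade Groth.Agent.Lib.Seat37.CliffBC
  Groth.Agent.Lib.Seat37.CliffRank Groth.Agent.Lib.Seat37.CliffPin
  Groth.Agent.Lib.Seat37.CliffDescent Groth.Agent.Lib.Seat37.CliffEvenCenterBC
  Groth.Agent.Lib.Seat37.TensCoord Groth.Agent.Lib.Seat37.GPinFam
  Groth.Agent.Lib.Seat37.GPinPts

variable {R : Type u} [CommRing R] {M : Type u} [AddCommGroup M] [Module R M] [Module.Free R M]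
  [Module.Finite R M]
variable (Q : QuadraticForm R M) {n : ℕ} (b : Module.Basis (Fin n) R M)

local notation "K" => Finset (Fin n)

section one

variable (A : Type u) [CommRing A] [Algebra R A]

local notation "Q'" => baseChangeForm A Q
local notation "hQ'" => Groth.Agent.Lib.Helper25.HalfDisc.baseChangeForm_one_tmul A Q

theorem P0bc_add_P1bc (w : A ⊗[R] CliffordAlgebra Q) :
    (P0 Q).baseChange A w + (P1 Q).baseChange A w = w := by
  induction w with
  | zero => simp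
  | tmul a c =>
    rw [LinearMap.baseChange_tmul, LinearMap.baseChange_tmul, ← TensorProduct.tmul_add, P0_add_P1]
  | add w₁ w₂ h₁ h₂ =>
    rw [map_add, map_add]
    calc _ = ((P0 Q).baseChange A w₁ + (P1 Q).baseChange A w₁) +
        ((P0 Q).baseChange A w₂ + (P1 Q).baseChange A w₂) := by abel
      _ = w₁ + w₂ := by rw [h₁, h₂]

theorem P0bc_mem (w : A ⊗[R] CliffordAlgebra Q) :
    (P0 Q).baseChange A w ∈ (evenOdd Q 0).baseChange A := by
  induction w with
  | zero => rw [map_zero]; exact Submodule.zero_mem _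
  | tmul a c =>
    rw [LinearMap.baseChange_tmul]
    exact Submodule.tmul_mem_baseChange_of_mem a (P0_mem Q c)
  | add w₁ w₂ h₁ h₂ => rw [map_add]; exact Submodule.add_mem _ h₁ h₂

theorem P1bc_mem (w : A ⊗[R] CliffordAlgebra Q) :
    (P1 Q).baseChange A w ∈ (evenOdd Q 1).baseChange A := by
  induction w with
  | zero => rw [map_zero]; exact Submodule.zero_mem _
  | tmul a c =>
    rw [LinearMap.baseChange_tmul]
    exact Submodule.tmul_mem_baseChange_of_mem a (P1_mem Q c)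
  | add w₁ w₂ h₁ h₂ => rw [map_add]; exact Submodule.add_mem _ h₁ h₂

theorem P1bc_eq_zero_iff (w : A ⊗[R] CliffordAlgebra Q) :
    (P1 Q).baseChange A w = 0 ↔ toCl Q A w ∈ evenOdd Q' 0 := by
  constructor
  · intro h
    have h1 := P0bc_add_P1bc Q A w
    rw [h, add_zero] at h1
    rw [← h1]
    exact bcEquiv_mem Q Q' hQ' 0 _ (P0bc_mem Q A w)
  · intro h
    have h1 := bcEquiv_symm_mem Q Q' hQ' 0 _ h
    rw [AlgEquiv.symm_apply_apply] at h1
    exact P1_baseChange_of_mem A Q w h1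

theorem P0bc_eq_zero_iff (w : A ⊗[R] CliffordAlgebra Q) :
    (P0 Q).baseChange A w = 0 ↔ toCl Q A w ∈ evenOdd Q' 1 := by
  constructor
  · intro h
    have h1 := P0bc_add_P1bc Q A w
    rw [h, zero_add] at h1
    rw [← h1]
    exact bcEquiv_mem Q Q' hQ' 1 _ (P1bc_mem Q A w)
  · intro h
    have h1 := bcEquiv_symm_mem Q Q' hQ' 1 _ h
    rw [AlgEquiv.symm_apply_apply] at h1
    exact P0_baseChange_of_mem A Q w h1

/-- the equations of `GPin`: those of `GPin'`, `e * e = e`, `e • u` even, `(1 - e) • u` odd -/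
noncomputable def famO (t : (K ⊕ K) ⊕ Unit → A) :
    ((K ⊕ K) ⊕ ((Fin n × K) ⊕ (Fin n × K))) ⊕ (Unit ⊕ (K ⊕ K)) → A :=
  Sum.elim (fam Q b A (t ∘ Sum.inl))
    (Sum.elim (fun _ => t (Sum.inr ()) * t (Sum.inr ()) - t (Sum.inr ()))
      (Sum.elim
        (co (cliffBasis b Q) A
          ((P1 Q).baseChange A (t (Sum.inr ()) • uOf Q b A (t ∘ Sum.inl))))
        (co (cliffBasis b Q) A
          ((P0 Q).baseChange A ((1 - t (Sum.inr ())) • uOf Q b A (t ∘ Sum.inl))))))

theorem famO_eq_zero_iff (t : (K ⊕ K) ⊕ Unit → A) :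
    famO Q b A t = 0 ↔ fam Q b A (t ∘ Sum.inl) = 0 ∧
      t (Sum.inr ()) * t (Sum.inr ()) = t (Sum.inr ()) ∧
      (P1 Q).baseChange A (t (Sum.inr ()) • uOf Q b A (t ∘ Sum.inl)) = 0 ∧
      (P0 Q).baseChange A ((1 - t (Sum.inr ())) • uOf Q b A (t ∘ Sum.inl)) = 0 := by
  constructor
  · intro h
    refine ⟨?_, ?_, ?_, ?_⟩
    · funext p
      exact congrFun h (Sum.inl p)
    · exact sub_eq_zero.mp (congrFun h (Sum.inr (Sum.inl ())))
    · rw [← co_eq_zero_iff (cliffBasis b Q) A]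
      funext k
      exact congrFun h (Sum.inr (Sum.inr (Sum.inl k)))
    · rw [← co_eq_zero_iff (cliffBasis b Q) A]
      funext k
      exact congrFun h (Sum.inr (Sum.inr (Sum.inr k)))
  · rintro ⟨h1, h2, h3, h4⟩
    funext p
    rcases p with p | (⟨⟩ | (k | k))
    · exact congrFun h1 p
    · exact sub_eq_zero.mpr h2
    · change co (cliffBasis b Q) A
        ((P1 Q).baseChange A (t (Sum.inr ()) • uOf Q b A (t ∘ Sum.inl))) k = 0
      rw [h3, (co_eq_zero_iff (cliffBasis b Q) A 0).mpr rfl]; rfl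
    · change co (cliffBasis b Q) A
        ((P0 Q).baseChange A ((1 - t (Sum.inr ())) • uOf Q b A (t ∘ Sum.inl))) k = 0
      rw [h4, (co_eq_zero_iff (cliffBasis b Q) A 0).mpr rfl]; rfl

/-- coordinates of a unit together with an element of `A` -/
noncomputable def tOfO (U : (CliffordAlgebra Q')ˣ) (e : A) : (K ⊕ K) ⊕ Unit → A :=
  Sum.elim (tOf Q b A U) (fun _ => e)

theorem famO_tOfO_iff (U : (CliffordAlgebra Q')ˣ) (e : A) :
    famO Q b A (tOfO Q b A U e) = 0 ↔ U ∈ GPin' Q' ∧ e * e = e ∧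
      e • (U : CliffordAlgebra Q') ∈ evenOdd Q' 0 ∧
      (1 - e) • (U : CliffordAlgebra Q') ∈ evenOdd Q' 1 := by
  rw [famO_eq_zero_iff]
  have h1 : tOfO Q b A U e ∘ Sum.inl = tOf Q b A U := rfl
  have h2 : tOfO Q b A U e (Sum.inr ()) = e := rfl
  rw [h1, h2, fam_tOf_iff, uOf_tOf, P1bc_eq_zero_iff, P0bc_eq_zero_iff, map_smul, map_smul,
    AlgEquiv.apply_symm_apply]

end one

section two

variable {A B : Type u} [CommRing A] [Algebra R A] [CommRing B] [Algebra R B]

theorem famO_nat (φ : A →ₐ[R] B) (t : (K ⊕ K) ⊕ Unit → A) :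
    famO Q b B (φ ∘ t) = φ ∘ famO Q b A t := by
  funext p
  rcases p with p | (⟨⟩ | (k | k))
  · change fam Q b B ((φ ∘ t) ∘ Sum.inl) p = φ (fam Q b A (t ∘ Sum.inl) p)
    have := congrFun (fam_nat Q b φ (t ∘ Sum.inl)) p
    exact this
  · change φ (t (Sum.inr ())) * φ (t (Sum.inr ())) - φ (t (Sum.inr ())) =
      φ (t (Sum.inr ()) * t (Sum.inr ()) - t (Sum.inr ()))
    rw [map_sub, map_mul]
  · change co (cliffBasis b Q) B
        ((P1 Q).baseChange B (φ (t (Sum.inr ())) • uOf Q b B ((φ ∘ t) ∘ Sum.inl))) k =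
      φ (co (cliffBasis b Q) A
        ((P1 Q).baseChange A (t (Sum.inr ()) • uOf Q b A (t ∘ Sum.inl))) k)
    have e1 : (φ ∘ t) ∘ Sum.inl = φ ∘ (t ∘ Sum.inl) := rfl
    rw [e1, uOf_comp, ← tmap_smul, ← tmap_baseChange, co_tmap]
    rfl
  · change co (cliffBasis b Q) B
        ((P0 Q).baseChange B ((1 - φ (t (Sum.inr ()))) • uOf Q b B ((φ ∘ t) ∘ Sum.inl))) k =
      φ (co (cliffBasis b Q) A
        ((P0 Q).baseChange A ((1 - t (Sum.inr ())) • uOf Q b A (t ∘ Sum.inl))) k)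
    have e1 : (φ ∘ t) ∘ Sum.inl = φ ∘ (t ∘ Sum.inl) := rfl
    have e2 : (1 : B) - φ (t (Sum.inr ())) = φ (1 - t (Sum.inr ())) := by rw [map_sub, map_one]
    rw [e1, e2, uOf_comp, ← tmap_smul, ← tmap_baseChange, co_tmap]
    rfl

/-- `Fφ` respects the grading -/
theorem Fφ_mem (φ : A →ₐ[R] B) (i : ZMod 2) (x : CliffordAlgebra (baseChangeForm A Q))
    (hx : x ∈ evenOdd (baseChangeForm A Q) i) :
    Fφ Q φ x ∈ evenOdd (baseChangeForm B Q) i := by
  have key : ∀ j : ZMod 2, j = 0 ∨ j = 1 := by decide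
  rcases key i with rfl | rfl
  · rw [← AlgEquiv.apply_symm_apply (toCl Q B) (Fφ Q φ x), ← P1bc_eq_zero_iff, toCl_symm_Fφ,
      ← tmap_baseChange]
    have := (P1bc_eq_zero_iff Q A ((toCl Q A).symm x)).mpr (by
      rw [AlgEquiv.apply_symm_apply]; exact hx)
    rw [this, map_zero]
  · rw [← AlgEquiv.apply_symm_apply (toCl Q B) (Fφ Q φ x), ← P0bc_eq_zero_iff, toCl_symm_Fφ,
      ← tmap_baseChange]
    have := (P0bc_eq_zero_iff Q A ((toCl Q A).symm x)).mpr (by
      rw [AlgEquiv.apply_symm_apply]; exact hx)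
    rw [this, map_zero]

theorem Fφ_smul (φ : A →ₐ[R] B) (a : A) (x : CliffordAlgebra (baseChangeForm A Q)) :
    Fφ Q φ (a • x) = φ a • Fφ Q φ x := by
  rw [Algebra.smul_def, map_mul, Fφ_algebraMap, ← Algebra.smul_def]

end two

end Groth.Agent.Lib.Seat37.GPinOddFam
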