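import Mathlib
import Groth.Prelude.Def_QuadGrp
import Groth.Agent.Lib.Seat37GPinLift
import Groth.Agent.Lib.Seat37GPinOddFam
import Groth.Agent.S16994

/-!
# Infinitesimal lifting for the Clifford group of a semiregular form of odd rank (seat 37)

`exists_lift_GPin_odd`: for `I ^ 2 = ⊥`, if isometries of determinant one lift then points of
`GPin = GPin' ⊓ LH` lift (idempotent lifting, inner derivations of the Azumaya algebra `C₀(Q_A)`,
and `conj_eq_map_of_even`).
-/

set_option autoImplicit false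
set_option linter.unusedSectionVars false
set_option maxHeartbeats 800000
universe u

namespace Groth.Agent.Lib.Seat37.GPinOddLift

open CliffordAlgebra TensorProduct QuadGrp Matrix
open Groth.Agent.Lib.Seat37.CliffGrade Groth.Agent.Lib.Seat37.CliffBC
  Groth.Agent.Lib.Seat37.CliffRank Groth.Agent.Lib.Seat37.CliffPin
  Groth.Agent.Lib.Seat37.CliffDescent
  Groth.Agent.Lib.Seat37.CliffConj Groth.Agent.Lib.Seat37.CliffAzumaya
  Groth.Agent.Lib.Seat37.TensCoord Groth.Agent.Lib.Seat37.GPinFam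
  Groth.Agent.Lib.Seat37.GPinPts Groth.Agent.Lib.Seat37.AzDer
  Groth.Agent.Lib.Seat37.GPinLift Groth.Agent.Lib.Seat37.GPinOddFam
  Groth.Agent.Lib.Seat37.GPinOddAlg

variable {R : Type u} [CommRing R] {M : Type u} [AddCommGroup M] [Module R M] [Module.Free R M]
  [Module.Finite R M]
variable (Q : QuadraticForm R M)
variable (A : Type u) [CommRing A] [Algebra R A] (I : Ideal A)

local notation "QA" => baseChangeForm A Q
local notation "QI" => baseChangeForm (A ⧸ I) Q

section gen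

variable {n : ℕ} (b : Module.Basis (Fin n) R M)

include b in
theorem rho_surjective' : Function.Surjective (rho Q A I) := by
  intro x
  set c := co (cliffBasis b Q) (A ⧸ I) ((toCl Q (A ⧸ I)).symm x) with hc
  let c' : Finset (Fin n) → A := fun k => Function.surjInv Ideal.Quotient.mk_surjective (c k)
  have hc' : (Ideal.Quotient.mkₐ R I) ∘ c' = c := by
    funext k
    exact Function.surjInv_eq Ideal.Quotient.mk_surjective _
  refine ⟨toCl Q A (el (cliffBasis b Q) A c'), ?_⟩
  rw [Fφ_apply, AlgEquiv.symm_apply_apply, tmap_el, hc', hc, el_co, AlgEquiv.apply_symm_apply]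

include b in
theorem mem_JJ_of_rho' (x : CliffordAlgebra QA) (hx : rho Q A I x = 0) : x ∈ JJ Q A I := by
  set c := co (cliffBasis b Q) A ((toCl Q A).symm x) with hc
  have h1 : el (cliffBasis b Q) (A ⧸ I) ((Ideal.Quotient.mkₐ R I) ∘ c) = 0 := by
    rw [← tmap_el, hc, el_co]
    have := hx
    rw [Fφ_apply] at this
    exact (toCl Q (A ⧸ I)).injective (by rw [this, map_zero])
  have h2 : (Ideal.Quotient.mkₐ R I) ∘ c = 0 := by
    have := congrArg (co (cliffBasis b Q) (A ⧸ I)) h1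
    rw [co_el] at this
    rw [this]
    exact (co_eq_zero_iff (cliffBasis b Q) (A ⧸ I) 0).mpr rfl
  have h3 : ∀ k, c k ∈ I := by
    intro k
    have := congrFun h2 k
    exact Ideal.Quotient.eq_zero_iff_mem.mp this
  have h4 : x = toCl Q A (el (cliffBasis b Q) A c) := by
    rw [hc, el_co, AlgEquiv.apply_symm_apply]
  rw [h4, el_eq_sum, map_sum]
  refine Submodule.sum_mem _ fun k _ => ?_
  rw [map_smul]
  exact Submodule.smul_mem_smul (h3 k) Submodule.mem_top

end gen

theorem rho_smul (a : A) (x : CliffordAlgebra QA) :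
    rho Q A I (a • x) = (Ideal.Quotient.mk I a) • rho Q A I x :=
  Fφ_smul Q (Ideal.Quotient.mkₐ R I) a x

theorem rho_P0 (x : CliffordAlgebra QA) : rho Q A I (P0 QA x) = P0 QI (rho Q A I x) := by
  have h0 := Fφ_mem Q (Ideal.Quotient.mkₐ R I) 0 _ (P0_mem QA x)
  have h1 := Fφ_mem Q (Ideal.Quotient.mkₐ R I) 1 _ (P1_mem QA x)
  conv_rhs => rw [← P0_add_P1 QA x, map_add, map_add, P0_of_even QI _ h0, P0_of_odd QI _ h1,
    add_zero]

theorem rho_P1 (x : CliffordAlgebra QA) : rho Q A I (P1 QA x) = P1 QI (rho Q A I x) := by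
  have h0 := Fφ_mem Q (Ideal.Quotient.mkₐ R I) 0 _ (P0_mem QA x)
  have h1 := Fφ_mem Q (Ideal.Quotient.mkₐ R I) 1 _ (P1_mem QA x)
  conv_rhs => rw [← P0_add_P1 QA x, map_add, map_add, P1_of_even QI _ h0, P1_of_odd QI _ h1,
    zero_add]

/-- conjugation by a locally homogeneous unit preserves the even part -/
theorem conj_even (U : (CliffordAlgebra QA)ˣ) (e : A) (hee : e * e = e)
    (h0 : e • (U : CliffordAlgebra QA) ∈ evenOdd QA 0)
    (h1 : (1 - e) • (U : CliffordAlgebra QA) ∈ evenOdd QA 1)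
    (y : CliffordAlgebra QA) (hy : y ∈ evenOdd QA 0) :
    (↑U⁻¹ : CliffordAlgebra QA) * y * U ∈ evenOdd QA 0 := by
  obtain ⟨g0, g1⟩ := isLocHomog_inv_aux QA U e h0 h1
  have hee' : (1 - e) * (1 - e) = 1 - e := by linear_combination hee
  have e1 : (↑U⁻¹ : CliffordAlgebra QA) * y * U =
      (e • (↑U⁻¹ : CliffordAlgebra QA)) * y * (e • (U : CliffordAlgebra QA)) +
      ((1 - e) • (↑U⁻¹ : CliffordAlgebra QA)) * y * ((1 - e) • (U : CliffordAlgebra QA)) := by
    rw [smul_mul_assoc, smul_mul_assoc, mul_smul_comm, smul_smul, hee, smul_mul_assoc,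
      smul_mul_assoc, mul_smul_comm, smul_smul, hee', ← add_smul]
    have : e + (1 - e) = 1 := by ring
    rw [this, one_smul]
  rw [e1]
  refine Submodule.add_mem _ ?_ ?_
  · have := evenOdd_mul_mem QA 0 0 _ _ (evenOdd_mul_mem QA 0 0 _ _ g0 hy) h0
    simpa using this
  · have := evenOdd_mul_mem QA (1 + 0) 1 _ _ (evenOdd_mul_mem QA 1 0 _ _ g1 hy) h1
    rwa [show ((1 : ZMod 2) + 0 + 1) = 0 from by decide] at this

variable (m : ℕ) (b : Module.Basis (Fin (2 * m + 1)) R M)

include b in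
theorem exists_lift_GPin_odd (hI : I ^ 2 = ⊥)
    (hQA : IsSemiregular (Algebra.TensorProduct.basis A b) (LinearEquiv.refl A A) QA)
    (hQI : IsSemiregular (Algebra.TensorProduct.basis (A ⧸ I) b)
      (LinearEquiv.refl (A ⧸ I) (A ⧸ I)) QI)
    (hlift : ∀ gbar ∈ SO' QI, ∃ g ∈ SO' QA, ∀ v, rT A I (g v) = gbar (rT A I v))
    (Ubar : (CliffordAlgebra QI)ˣ) (hU : Ubar ∈ GPin' QI) (ebar : A ⧸ I)
    (hee : ebar * ebar = ebar)
    (h0 : ebar • (Ubar : CliffordAlgebra QI) ∈ evenOdd QI 0)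
    (h1 : (1 - ebar) • (Ubar : CliffordAlgebra QI) ∈ evenOdd QI 1) :
    ∃ (U : (CliffordAlgebra QA)ˣ) (e : A), U ∈ GPin' QA ∧ e * e = e ∧
      e • (U : CliffordAlgebra QA) ∈ evenOdd QA 0 ∧
      (1 - e) • (U : CliffordAlgebra QA) ∈ evenOdd QA 1 ∧
      rho Q A I (U : CliffordAlgebra QA) = (Ubar : CliffordAlgebra QI) ∧
      Ideal.Quotient.mk I e = ebar := by
  -- the idempotent
  obtain ⟨a, ha⟩ := Ideal.Quotient.mk_surjective ebar
  have haI : a * a - a ∈ I := by
    rw [← Ideal.Quotient.eq_zero_iff_mem, map_sub, map_mul, ha, hee, sub_self]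
  have hsq : (a * a - a) * (a * a - a) = 0 := by
    have h : (a * a - a) * (a * a - a) ∈ I ^ 2 := by rw [pow_two]; exact Ideal.mul_mem_mul haI haI
    rwa [hI, Ideal.mem_bot] at h
  set e : A := a * a * (3 - 2 * a) with he
  have hee' : e * e = e := by
    rw [he]; linear_combination (-(3 - 2 * a) * (2 * a + 1)) * hsq
  have hemk : Ideal.Quotient.mk I e = ebar := by
    rw [he, map_mul, map_mul, map_sub, map_mul, ha, map_ofNat, map_ofNat]
    linear_combination (3 - 2 * ebar) * hee - 2 * hee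
  have he1e : e * (1 - e) = 0 := by linear_combination -hee'
  have h1e : (1 - e) * (1 - e) = 1 - e := by linear_combination hee'
  -- a locally homogeneous lift of `Ubar`
  obtain ⟨u', hu'⟩ := rho_surjective' Q A I b (Ubar : CliffordAlgebra QI)
  set u0 : CliffordAlgebra QA := e • P0 QA u' + (1 - e) • P1 QA u' with hu0def
  have hu0 : rho Q A I u0 = (Ubar : CliffordAlgebra QI) := by
    rw [hu0def, map_add, rho_smul, rho_smul, rho_P0, rho_P1, hu', hemk, map_sub, map_one, hemk,
      ← map_smul, ← map_smul, P0_of_even QI _ h0, P1_of_odd QI _ h1, ← add_smul]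
    have : ebar + (1 - ebar) = 1 := by ring
    rw [this, one_smul]
  have hu0e : e • u0 ∈ evenOdd QA 0 := by
    rw [hu0def, smul_add, smul_smul, smul_smul, hee', he1e, zero_smul, add_zero]
    exact Submodule.smul_mem _ _ (P0_mem QA u')
  have hu0o : (1 - e) • u0 ∈ evenOdd QA 1 := by
    rw [hu0def, smul_add, smul_smul, smul_smul, h1e, mul_comm, he1e, zero_smul, zero_add]
    exact Submodule.smul_mem _ _ (P1_mem QA u')
  obtain ⟨v0, hv0⟩ := rho_surjective' Q A I b (↑Ubar⁻¹ : CliffordAlgebra QI)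
  have hε : u0 * v0 - 1 ∈ JJ Q A I := by
    apply mem_JJ_of_rho' Q A I b
    rw [map_sub, map_mul, hu0, hv0, Units.mul_inv, map_one, sub_self]
  have hε' : v0 * u0 - 1 ∈ JJ Q A I := by
    apply mem_JJ_of_rho' Q A I b
    rw [map_sub, map_mul, hu0, hv0, Units.inv_mul, map_one, sub_self]
  have hr : u0 * (v0 * (1 - (u0 * v0 - 1))) = 1 := by
    have h0 := JJ_mul_zero Q A I hI _ _ hε hε
    have : u0 * (v0 * (1 - (u0 * v0 - 1))) = 1 - (u0 * v0 - 1) * (u0 * v0 - 1) := by noncomm_ring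
    rw [this, h0, sub_zero]
  have hl : ((1 - (v0 * u0 - 1)) * v0) * u0 = 1 := by
    have h0 := JJ_mul_zero Q A I hI _ _ hε' hε'
    have : ((1 - (v0 * u0 - 1)) * v0) * u0 = 1 - (v0 * u0 - 1) * (v0 * u0 - 1) := by noncomm_ring
    rw [this, h0, sub_zero]
  set r := v0 * (1 - (u0 * v0 - 1)) with hrdef
  have hlr : (1 - (v0 * u0 - 1)) * v0 = r := by
    calc (1 - (v0 * u0 - 1)) * v0 = ((1 - (v0 * u0 - 1)) * v0) * (u0 * r) := by rw [hr, mul_one]
      _ = (((1 - (v0 * u0 - 1)) * v0) * u0) * r := by simp only [mul_assoc]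
      _ = r := by rw [hl, one_mul]
  rw [hlr] at hl
  let U0 : (CliffordAlgebra QA)ˣ := ⟨u0, r, hr, hl⟩
  have hρr : rho Q A I r = (↑Ubar⁻¹ : CliffordAlgebra QI) := by
    rw [hrdef, map_mul, map_sub, map_one, rho_of_mem_JJ Q A I _ hε, sub_zero, mul_one, hv0]
  -- the isometry and its lift
  obtain ⟨gbar, hgbar, hconj⟩ := Groth.Agent.S16994.result m
    (Algebra.TensorProduct.basis (A ⧸ I) b) QI hQI Ubar hU
  obtain ⟨g, hgS, hg⟩ := hlift gbar hgbar
  set Cg := CliffordAlgebra.map (isometryOfMem QA g hgS.1) with hCg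
  have hρCg : ∀ x, rho Q A I (Cg x) =
      (Ubar : CliffordAlgebra QI) * rho Q A I x * (↑Ubar⁻¹ : CliffordAlgebra QI) := by
    intro x
    induction x using CliffordAlgebra.induction with
    | algebraMap a =>
      rw [AlgHom.commutes, Fφ_algebraMap, ← Algebra.commutes, mul_assoc, Units.mul_inv, mul_one]
    | ι v =>
      rw [hCg, map_apply_ι, isometryOfMem_apply, Fφ_ι, Fφ_ι]
      have := hg v
      change LinearMap.rTensor M (Ideal.Quotient.mkₐ R I).toLinearMap (g v) = _ at this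
      rw [this, hconj]
    | mul x y hx hy =>
      rw [map_mul, map_mul, hx, hy, map_mul]
      simp only [mul_assoc]
      rw [← mul_assoc (↑Ubar⁻¹ : CliffordAlgebra QI) (Ubar : CliffordAlgebra QI), Units.inv_mul,
        one_mul]
    | add x y hx hy => rw [map_add, map_add, hx, hy, map_add, mul_add, add_mul]
  have hCgeven : ∀ x ∈ evenOdd QA 0, Cg x ∈ evenOdd QA 0 := fun x hx =>
    algHom_mem_evenOdd QA QA Cg (fun v => by
      rw [hCg, map_apply_ι]; exact ι_mem_evenOdd_one _ _) 0 x hx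
  -- the automorphism congruent to the identity
  set σ : CliffordAlgebra QA →ₐ[A] CliffordAlgebra QA := (innerHom A U0).comp Cg with hσ
  have hσx : ∀ x, σ x = r * Cg x * u0 := fun x => rfl
  have hσJ : ∀ x, σ x - x ∈ JJ Q A I := by
    intro x
    apply mem_JJ_of_rho' Q A I b
    rw [map_sub, hσx, map_mul, map_mul, hρr, hu0, hρCg]
    simp only [← mul_assoc, Units.inv_mul, one_mul]
    rw [mul_assoc, Units.inv_mul, mul_one, sub_self]
  have hσeven : ∀ x ∈ evenOdd QA 0, σ x ∈ evenOdd QA 0 := fun x hx => by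
    rw [hσx]
    exact conj_even Q A U0 e hee' hu0e hu0o _ (hCgeven x hx)
  -- restrict to the even subalgebra
  have hAz : IsAzumaya A (CliffordAlgebra.even QA) :=
    isAzumaya_even' m (Algebra.TensorProduct.basis A b) QA hQA
  let C0 := CliffordAlgebra.even QA
  let σ0 : C0 →ₐ[A] C0 := AlgHom.codRestrict (σ.comp C0.val) C0 (fun x => hσeven x.1 x.2)
  let J0 : Submodule A C0 := Submodule.comap C0.val.toLinearMap (JJ Q A I)
  let s0 : C0 →ₗ[A] A := (scalarPart QA) ∘ₗ C0.val.toLinearMap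
  have hs0 : s0 1 = 1 := scalarPart_one QA
  obtain ⟨n0, hn0J, hn0⟩ := exists_conj_of_sqZero s0 hs0 σ0 J0
    (fun x y hy => JJ_mul_left Q A I x.1 y.1 hy)
    (fun x y hx hy => Subtype.ext (JJ_mul_zero Q A I hI x.1 y.1 hx hy))
    (fun a => hσJ a.1)
  set nn : CliffordAlgebra QA := n0.1 with hnn_def
  have hnJ : nn ∈ JJ Q A I := hn0J
  have hneven : nn ∈ evenOdd QA 0 := n0.2
  have hnn : nn * nn = 0 := JJ_mul_zero Q A I hI _ _ hnJ hnJ
  have hn : ∀ x ∈ evenOdd QA 0, σ x = (1 - nn) * x * (1 + nn) := by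
    intro x hx
    have := congrArg Subtype.val (hn0 ⟨x, hx⟩)
    exact this
  let N : (CliffordAlgebra QA)ˣ := ⟨1 - nn, 1 + nn,
    by
      have : (1 - nn) * (1 + nn) = 1 - nn * nn := by noncomm_ring
      rw [this, hnn, sub_zero],
    by
      have : (1 + nn) * (1 - nn) = 1 - nn * nn := by noncomm_ring
      rw [this, hnn, sub_zero]⟩
  have h1n : (1 - nn) ∈ evenOdd QA 0 :=
    Submodule.sub_mem _ (SetLike.one_mem_graded _) hneven
  have hUconj : ∀ x, u0 * (1 - nn) * x * ((1 + nn) * r) = Cg x := by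
    have hUeven : ∀ x ∈ evenOdd QA 0, ((U0 * N : (CliffordAlgebra QA)ˣ) : CliffordAlgebra QA) * x *
        ↑(U0 * N)⁻¹ = Cg x := by
      intro x hx
      have h1 := hn x hx
      rw [hσx] at h1
      change u0 * (1 - nn) * x * ((1 + nn) * r) = Cg x
      calc u0 * (1 - nn) * x * ((1 + nn) * r)
          = u0 * ((1 - nn) * x * (1 + nn)) * r := by simp only [mul_assoc]
        _ = u0 * (r * Cg x * u0) * r := by rw [← h1]
        _ = (u0 * r) * Cg x * (u0 * r) := by simp only [mul_assoc]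
        _ = Cg x := by rw [hr, one_mul, mul_one]
    intro x
    exact conj_eq_map_of_even m (Algebra.TensorProduct.basis A b) QA hQA (U0 * N) g hgS hUeven x
  refine ⟨U0 * N, e, ?_, hee', ?_, ?_, ?_, hemk⟩
  · apply mem_GPin'_of_conj QA (U0 * N) g
    intro v
    have := hUconj (ι QA v)
    rw [hCg, map_apply_ι, isometryOfMem_apply] at this
    exact this
  · change e • (u0 * (1 - nn)) ∈ evenOdd QA 0
    rw [← smul_mul_assoc]
    have := evenOdd_mul_mem QA 0 0 _ _ hu0e h1n
    simpa using this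
  · change (1 - e) • (u0 * (1 - nn)) ∈ evenOdd QA 1
    rw [← smul_mul_assoc]
    have := evenOdd_mul_mem QA 1 0 _ _ hu0o h1n
    simpa using this
  · change rho Q A I (u0 * (1 - nn)) = _
    rw [map_mul, map_sub, map_one, rho_of_mem_JJ Q A I _ hnJ, sub_zero, mul_one, hu0]

end Groth.Agent.Lib.Seat37.GPinOddLift
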