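import Mathlib
import Groth.Prelude.Def_QuadGrp2
import Groth.Agent.Lib.Seat37AffYoneda
import Groth.Agent.Lib.Seat37QuadRel

/-!
# From a pinned linear representation to the explicit coordinate algebra (seat 37)

For `Q` a quadratic form on `R^n` with coefficient table `a`, a family `S A` of subgroups of
`Aut_A (A ⊗ R^n)` cut out by "`cc a (mat g) = a` (and `det = 1`)", and `D : LinRep R _ S G`:
`G ≅ Spec (Alg (rel sp a))` over `Spec R`, hence `Smooth G.hom ↔ Algebra.Smooth R (Alg (rel sp a))`.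
-/

set_option autoImplicit false
set_option linter.unusedSectionVars false
set_option linter.style.haveILetI false
universe u

namespace Groth.Agent.Lib.Seat37.QuadBridge

open CategoryTheory AlgebraicGeometry TensorProduct Matrix QuadGrp MonObj
open Groth.Agent.S17014.Aux.HD Groth.Agent.Lib.Helper25.HalfDisc
open Groth.Agent.Lib.Seat37.QuadTab Groth.Agent.Lib.Seat37.PolyRep Groth.Agent.Lib.Seat37.QuadRel
open Groth.Agent.Lib.Seat68.GrassHilb Groth.Agent.Lib.Seat68.GrassRep

variable {R : Type u} [CommRing R] {n : ℕ}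

section mat

variable (A : Type u) [CommRing A] [Algebra R A]

/-- the standard basis of `A ⊗ R^n` -/
noncomputable abbrev bA : Module.Basis (Fin n) A (A ⊗[R] (Fin n → R)) :=
  Algebra.TensorProduct.basis A (Pi.basisFun R (Fin n))

/-- the matrix of an automorphism of `A ⊗ R^n` -/
noncomputable def mat (g : (A ⊗[R] (Fin n → R)) ≃ₗ[A] (A ⊗[R] (Fin n → R))) :
    Matrix (Fin n) (Fin n) A :=
  LinearMap.toMatrix (bA A) (bA A) g.toLinearMap

lemma mat_apply (g : (A ⊗[R] (Fin n → R)) ≃ₗ[A] (A ⊗[R] (Fin n → R))) (i j : Fin n) :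
    mat A g i j = (bA A).repr (g ((1 : A) ⊗ₜ[R] (Pi.basisFun R (Fin n) j))) i := by
  rw [mat, LinearMap.toMatrix_apply, Algebra.TensorProduct.basis_apply]
  rfl

lemma isUnit_det_mat (g : (A ⊗[R] (Fin n → R)) ≃ₗ[A] (A ⊗[R] (Fin n → R))) :
    IsUnit (mat A g).det := LinearEquiv.isUnit_det g (bA A) (bA A)

lemma mat_injective : Function.Injective (mat (R := R) (n := n) A) := by
  intro g g' h
  apply LinearEquiv.toLinearMap_injective
  exact (LinearMap.toMatrix (bA A) (bA A)).injective h

/-- the automorphism with a given invertible matrix -/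
noncomputable def ofMat (X : Matrix (Fin n) (Fin n) A) (hX : IsUnit X.det) :
    (A ⊗[R] (Fin n → R)) ≃ₗ[A] (A ⊗[R] (Fin n → R)) :=
  LinearEquiv.ofIsUnitDet (f := Matrix.toLin (bA A) (bA A) X) (v := bA A) (v' := bA A)
    (by rwa [LinearMap.toMatrix_toLin])

lemma mat_ofMat (X : Matrix (Fin n) (Fin n) A) (hX : IsUnit X.det) :
    mat A (ofMat (R := R) A X hX) = X := by
  simp only [mat, ofMat, LinearEquiv.coe_ofIsUnitDet, LinearMap.toMatrix_toLin]

theorem mem_orth_iff (Q : QuadraticForm R (Fin n → R))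
    (g : (A ⊗[R] (Fin n → R)) ≃ₗ[A] (A ⊗[R] (Fin n → R))) :
    g ∈ orth Q A ↔
      cc (algebraMap R A ∘ coeffs (Pi.basisFun R (Fin n)) (LinearEquiv.refl R R) Q) (mat A g) =
        algebraMap R A ∘ coeffs (Pi.basisFun R (Fin n)) (LinearEquiv.refl R R) Q := by
  have h1 : g ∈ orth Q A ↔ (baseChangeForm A Q).comp g.toLinearMap = baseChangeForm A Q := by
    rw [orth, mem_O]
    constructor
    · intro h
      refine QuadraticMap.ext fun v => ?_
      simp only [QuadraticMap.comp_apply, baseChangeForm, LinearMap.compQuadraticMap_apply,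
        LinearEquiv.coe_coe]
      rw [h v]
    · intro h v
      have := QuadraticMap.congr_fun h v
      simp only [QuadraticMap.comp_apply, baseChangeForm, LinearMap.compQuadraticMap_apply,
        LinearEquiv.coe_coe] at this
      exact (AlgebraTensorModule.rid R A A).injective this
  rw [h1]
  constructor
  · intro h
    rw [← coeffs_baseChange, mat, ← coeffs_comp, h]
  · intro h
    apply eq_of_coeffs_eq (bA A)
    rw [coeffs_comp, coeffs_baseChange]
    exact h

theorem det_eq_one_iff (g : (A ⊗[R] (Fin n → R)) ≃ₗ[A] (A ⊗[R] (Fin n → R))) :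
    LinearEquiv.det g = 1 ↔ (mat A g).det = 1 := by
  rw [mat, LinearMap.det_toMatrix, ← LinearEquiv.coe_det, Units.ext_iff, Units.val_one]

theorem mem_sorth'_iff (Q : QuadraticForm R (Fin n → R))
    (g : (A ⊗[R] (Fin n → R)) ≃ₗ[A] (A ⊗[R] (Fin n → R))) :
    g ∈ sorth' Q A ↔
      cc (algebraMap R A ∘ coeffs (Pi.basisFun R (Fin n)) (LinearEquiv.refl R R) Q) (mat A g) =
        algebraMap R A ∘ coeffs (Pi.basisFun R (Fin n)) (LinearEquiv.refl R R) Q ∧
      (mat A g).det = 1 := by
  rw [← mem_orth_iff, ← det_eq_one_iff]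
  rfl

variable {A}
variable {B : Type u} [CommRing B] [Algebra R B]

lemma repr_rTensor (φ : A →ₐ[R] B) (v : A ⊗[R] (Fin n → R)) (i : Fin n) :
    (bA B).repr (LinearMap.rTensor (Fin n → R) φ.toLinearMap v) i = φ ((bA A).repr v i) := by
  induction v using TensorProduct.induction_on with
  | zero => simp
  | tmul x m =>
    rw [LinearMap.rTensor_tmul, Algebra.TensorProduct.basis_repr_tmul,
      Algebra.TensorProduct.basis_repr_tmul]
    simp only [AlgHom.toLinearMap_apply, Finsupp.smul_apply, Finsupp.mapRange_apply,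
      Pi.basisFun_repr, smul_eq_mul, map_mul, AlgHom.commutes]
  | add x y hx hy =>
    simp only [map_add, Finsupp.add_apply, hx, hy]

end mat

section rep

variable (sp : Bool) (Q : QuadraticForm R (Fin n → R))
  (S : ∀ (A : Type u) [CommRing A] [Algebra R A],
    Subgroup ((A ⊗[R] (Fin n → R)) ≃ₗ[A] (A ⊗[R] (Fin n → R))))
  (hS : ∀ (A : Type u) [CommRing A] [Algebra R A]
    (g : (A ⊗[R] (Fin n → R)) ≃ₗ[A] (A ⊗[R] (Fin n → R))),
    g ∈ S A ↔
      (cc (algebraMap R A ∘ coeffs (Pi.basisFun R (Fin n)) (LinearEquiv.refl R R) Q) (mat A g) =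
        algebraMap R A ∘ coeffs (Pi.basisFun R (Fin n)) (LinearEquiv.refl R R) Q ∧
      (sp = true → (mat A g).det = 1)))
  {G : Over (Spec (CommRingCat.of R))} [GrpObj G] (D : LinRep R (Fin n → R) S G)

/-- the table of `Q` -/
noncomputable abbrev tabQ : Sym2 (Fin n) → R :=
  coeffs (Pi.basisFun R (Fin n)) (LinearEquiv.refl R R) Q

lemma inverse_eq_of_mul_eq_one {A : Type*} [CommRing A] {d x : A} (h : d * x = 1) :
    Ring.inverse x = d := by
  have hx : IsUnit x := IsUnit.of_mul_eq_one _ ((mul_comm _ _).trans h)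
  calc Ring.inverse x = Ring.inverse x * (x * d) := by rw [mul_comm x d, h, _root_.mul_one]
    _ = d := by rw [← _root_.mul_assoc, Ring.inverse_mul_cancel x hx, _root_.one_mul]

/-- the solution vector of a point -/
noncomputable def Ψ (A : Type u) [CommRing A] [Algebra R A] (y : specOver R A ⟶ G) : Var n → A :=
  vec (mat A (D.pts A y).1) (Ring.inverse (mat A (D.pts A y).1).det)

include hS in
lemma Ψ_mem (A : Type u) [CommRing A] [Algebra R A] (y : specOver R A ⟶ G) :
    Ψ S D A y ∈ Sol (rel sp (tabQ Q)) A := by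
  rw [mem_Sol_iff]
  obtain ⟨h1, h2⟩ := (hS A (D.pts A y).1).mp (D.pts A y).2
  refine ⟨h1, ?_, ?_⟩
  · exact Ring.inverse_mul_cancel _ (isUnit_det_mat A _)
  · intro hsp
    change Ring.inverse (mat A (D.pts A y).1).det = 1
    rw [h2 hsp, Ring.inverse_one]

include hS in
lemma Ψ_bijective (A : Type u) [CommRing A] [Algebra R A] :
    Function.Bijective (fun y : specOver R A ⟶ G =>
      (⟨Ψ S D A y, Ψ_mem sp Q S hS D A y⟩ : Sol (rel sp (tabQ Q)) A)) := by
  constructor
  · intro y y' h
    have h1 : Ψ S D A y = Ψ S D A y' := congrArg Subtype.val h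
    have h2 : mat A (D.pts A y).1 = mat A (D.pts A y').1 := by
      have := congrArg vmat h1
      exact this
    exact (D.pts A).injective (Subtype.ext (mat_injective A h2))
  · rintro ⟨v, hv⟩
    obtain ⟨h1, h2, h3⟩ := (mem_Sol_iff sp (tabQ Q) v).mp hv
    have hu : IsUnit (vmat v).det := IsUnit.of_mul_eq_one _ ((mul_comm _ _).trans h2)
    have hg : ofMat (R := R) A (vmat v) hu ∈ S A := by
      rw [hS, mat_ofMat]
      refine ⟨h1, fun hsp => ?_⟩
      rw [h3 hsp, _root_.one_mul] at h2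
      exact h2
    refine ⟨(D.pts A).symm ⟨_, hg⟩, Subtype.ext ?_⟩
    change Ψ S D A ((D.pts A).symm ⟨_, hg⟩) = v
    rw [Ψ, MulEquiv.apply_symm_apply]
    simp only [mat_ofMat]
    rw [inverse_eq_of_mul_eq_one h2, vec_vmat_vdet]

lemma mat_natural (A B : Type u) [CommRing A] [Algebra R A] [CommRing B] [Algebra R B]
    (φ : A →ₐ[R] B) (y : specOver R A ⟶ G) :
    mat B (D.pts B (specOverMap R φ ≫ y)).1 = (mat A (D.pts A y).1).map φ := by
  ext i j
  rw [mat_apply, D.natural A B φ y, repr_rTensor, Matrix.map_apply, mat_apply]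

lemma Ψ_natural (A B : Type u) [CommRing A] [Algebra R A] [CommRing B] [Algebra R B]
    (φ : A →ₐ[R] B) (y : specOver R A ⟶ G) :
    Ψ S D B (specOverMap R φ ≫ y) = φ ∘ Ψ S D A y := by
  have hm := mat_natural S D A B φ y
  rw [Ψ, hm]
  have hd : Ring.inverse ((mat A (D.pts A y).1).map φ).det =
      φ (Ring.inverse (mat A (D.pts A y).1).det) := by
    apply inverse_eq_of_mul_eq_one
    have : ((mat A (D.pts A y).1).map φ).det = φ (mat A (D.pts A y).1).det := by
      have := RingHom.map_det φ.toRingHom (mat A (D.pts A y).1)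
      rw [RingHom.mapMatrix_apply] at this
      exact this.symm
    rw [this, ← map_mul, Ring.inverse_mul_cancel _ (isUnit_det_mat A _), map_one]
  rw [hd]
  funext s
  rcases s with ⟨i, j⟩ | ⟨⟩ <;> rfl

end rep

section affpts

variable {A B' : CommAlgCat.{u} R}

/-- the algebra map of a point of an affine scheme -/
noncomputable def ofPt (z : ov A ⟶ ov B') : B' →ₐ[R] A :=
  { (Spec.preimage z.left).hom with
    commutes' := fun r => by
      have hw : z.left ≫ Spec.map (CommRingCat.ofHom (algebraMap R B')) =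
          Spec.map (CommRingCat.ofHom (algebraMap R A)) := Over.w z
      rw [← Spec.map_preimage z.left, ← Spec.map_comp] at hw
      have := Spec.map_injective hw
      exact congr($this r) }

lemma ovMap_ofPt (z : ov A ⟶ ov B') : ovMap (CommAlgCat.ofHom (ofPt z)) = z := by
  apply Over.OverMorphism.ext
  rw [ovMap_left]
  exact Spec.map_preimage z.left

lemma ofPt_ovMap (φ : B' ⟶ A) : ofPt (ovMap φ) = φ.hom := by
  apply AlgHom.ext
  intro b
  change (Spec.preimage (ovMap φ).left).hom b = φ.hom b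
  rw [ovMap_left, Spec.preimage_map]
  rfl

lemma ofPt_comp {C : CommAlgCat.{u} R} (φ : A ⟶ C) (z : ov A ⟶ ov B') :
    ofPt (ovMap φ ≫ z) = φ.hom.comp (ofPt z) := by
  conv_lhs => rw [← ovMap_ofPt z]
  have : ovMap φ ≫ ovMap (CommAlgCat.ofHom (ofPt z)) =
      ovMap (CommAlgCat.ofHom (ofPt z) ≫ φ) := by
    apply Over.OverMorphism.ext
    rw [Over.comp_left, ovMap_left, ovMap_left, ovMap_left, ← Spec.map_comp]
    rfl
  rw [this, ofPt_ovMap]
  rfl

/-- points of `Spec B'` over `Spec R` are algebra maps. -/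
noncomputable def ptsEquiv : (ov A ⟶ ov B') ≃ (B' →ₐ[R] A) where
  toFun := ofPt
  invFun f := ovMap (CommAlgCat.ofHom f)
  left_inv := ovMap_ofPt
  right_inv f := by rw [ofPt_ovMap]; rfl

end affpts

section iso

variable (sp : Bool) (Q : QuadraticForm R (Fin n → R))
  (S : ∀ (A : Type u) [CommRing A] [Algebra R A],
    Subgroup ((A ⊗[R] (Fin n → R)) ≃ₗ[A] (A ⊗[R] (Fin n → R))))
  (hS : ∀ (A : Type u) [CommRing A] [Algebra R A]
    (g : (A ⊗[R] (Fin n → R)) ≃ₗ[A] (A ⊗[R] (Fin n → R))),
    g ∈ S A ↔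
      (cc (algebraMap R A ∘ coeffs (Pi.basisFun R (Fin n)) (LinearEquiv.refl R R) Q) (mat A g) =
        algebraMap R A ∘ coeffs (Pi.basisFun R (Fin n)) (LinearEquiv.refl R R) Q ∧
      (sp = true → (mat A g).det = 1)))
  {G : Over (Spec (CommRingCat.of R))} [GrpObj G] (D : LinRep R (Fin n → R) S G)

include hS D in
/-- `G` is the spectrum of the explicit coordinate algebra. -/
theorem nonempty_iso :
    Nonempty (ov (CommAlgCat.of R (Alg (rel sp (tabQ Q)))) ≅ G) := by
  let Z : Over (Spec (CommRingCat.of R)) := ov (CommAlgCat.of R (Alg (rel sp (tabQ Q))))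
  let e : ∀ A : CommAlgCat.{u} R, (ov A ⟶ Z) ≃ (ov A ⟶ G) := fun A =>
    (ptsEquiv (A := A) (B' := CommAlgCat.of R (Alg (rel sp (tabQ Q))))).trans
      ((homEquiv (rel sp (tabQ Q)) A).trans
        (Equiv.ofBijective _ (Ψ_bijective sp Q S hS D A)).symm)
  have he1 : ∀ (A : CommAlgCat.{u} R) (z : ov A ⟶ Z),
      Ψ S D A (e A z) = toSol (ofPt z) := by
    intro A z
    have := (Equiv.ofBijective _ (Ψ_bijective sp Q S hS D A)).apply_symm_apply
      (homEquiv (rel sp (tabQ Q)) A (ofPt z))
    exact congrArg Subtype.val this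
  have he : ∀ (A C : CommAlgCat.{u} R) (φ : A ⟶ C) (z : ov A ⟶ Z),
      e C (ovMap φ ≫ z) = ovMap φ ≫ e A z := by
    intro A C φ z
    apply (Ψ_bijective sp Q S hS D C).1
    apply Subtype.ext
    change Ψ S D C (e C (ovMap φ ≫ z)) = Ψ S D C (ovMap φ ≫ e A z)
    rw [he1, ofPt_comp, toSol_comp]
    have := Ψ_natural S D A C φ.hom (e A z)
    rw [he1] at this
    rw [← this]
    rfl
  obtain ⟨c, -⟩ := Groth.Agent.Lib.Seat37.AffYoneda.exists_iso_of_natural_equiv G Z e he
  exact ⟨c⟩

include hS D in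
theorem smooth_iff :
    Smooth G.hom ↔ Algebra.Smooth R (Alg (rel sp (tabQ Q))) := by
  obtain ⟨c⟩ := nonempty_iso sp Q S hS D
  have h1 : G.hom = c.inv.left ≫ Spec.map (CommRingCat.ofHom
      (algebraMap R (Alg (rel sp (tabQ Q))))) := (Over.w c.inv).symm
  haveI : IsIso c.inv.left := (Over.forget _).map_isIso c.inv
  haveI : MorphismProperty.RespectsIso @Smooth :=
    (inferInstance : MorphismProperty.IsStableUnderBaseChange @Smooth).respectsIso
  rw [h1, MorphismProperty.cancel_left_of_respectsIso (P := @Smooth),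
    HasRingHomProperty.Spec_iff (P := @Smooth)]
  exact RingHom.smooth_algebraMap

end iso

end Groth.Agent.Lib.Seat37.QuadBridge
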