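import Mathlib
import Groth.Prelude.Def_QuadGrp2
import Groth.Agent.Lib.Seat37AffYoneda
import Groth.Agent.Lib.Seat37QuadBridge

/-!
# From a functor of points in coordinates to the presented algebra (seat 37)

General form of `QuadBridge.nonempty_iso`: if the affine points of `G` over `Spec R` are, naturally
and bijectively, the solutions of polynomial relations `rel`, then `G ≅ Spec (Alg rel)` over
`Spec R`; consequences for smoothness and affineness.  Also `NatFam`: relations obtained from a
natural family of maps.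
-/

set_option autoImplicit false
set_option linter.unusedSectionVars false
set_option linter.style.haveILetI false
universe u

namespace Groth.Agent.Lib.Seat37.RepBridge

open CategoryTheory AlgebraicGeometry QuadGrp MvPolynomial
open Groth.Agent.Lib.Seat37.PolyRep Groth.Agent.Lib.Seat37.QuadBridge
open Groth.Agent.Lib.Seat68.GrassHilb Groth.Agent.Lib.Seat68.GrassRep

variable {R : Type u} [CommRing R]

section natfam

variable {σ ι : Type}

/-- relations attached to a natural family of maps `(σ → A) → (ι → A)` -/
noncomputable def relOf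
    (f : ∀ (A : Type u) [CommRing A] [Algebra R A], (σ → A) → (ι → A)) :
    ι → MvPolynomial σ R :=
  f (MvPolynomial σ R) X

theorem mem_Sol_relOf
    (f : ∀ (A : Type u) [CommRing A] [Algebra R A], (σ → A) → (ι → A))
    (hf : ∀ (A B : Type u) [CommRing A] [Algebra R A] [CommRing B] [Algebra R B]
      (φ : A →ₐ[R] B) (t : σ → A), f B (φ ∘ t) = φ ∘ f A t)
    (A : Type u) [CommRing A] [Algebra R A] (t : σ → A) :
    t ∈ Sol (relOf f) A ↔ f A t = 0 := by
  have h1 : f A t = (aeval t : MvPolynomial σ R →ₐ[R] A) ∘ f (MvPolynomial σ R) X := by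
    rw [← hf]
    congr 1
    funext s
    simp
  constructor
  · intro h
    rw [h1]
    funext i
    exact h i
  · intro h i
    have := congrFun h i
    rw [h1] at this
    exact this

end natfam

section iso

variable {σ ι : Type} (rel : ι → MvPolynomial σ R)
  {G : Over (Spec (CommRingCat.of R))}
  (Ψ : ∀ (A : Type u) [CommRing A] [Algebra R A], (specOver R A ⟶ G) → (σ → A))
  (hmem : ∀ (A : Type u) [CommRing A] [Algebra R A] (y : specOver R A ⟶ G), Ψ A y ∈ Sol rel A)
  (hbij : ∀ (A : Type u) [CommRing A] [Algebra R A],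
    Function.Bijective (fun y : specOver R A ⟶ G => (⟨Ψ A y, hmem A y⟩ : Sol rel A)))
  (hnat : ∀ (A B : Type u) [CommRing A] [Algebra R A] [CommRing B] [Algebra R B]
    (φ : A →ₐ[R] B) (y : specOver R A ⟶ G), Ψ B (specOverMap R φ ≫ y) = φ ∘ Ψ A y)

include hbij hnat in
/-- `G` is the spectrum of the presented algebra. -/
theorem nonempty_iso : Nonempty (ov (CommAlgCat.of R (Alg rel)) ≅ G) := by
  let Z : Over (Spec (CommRingCat.of R)) := ov (CommAlgCat.of R (Alg rel))
  let e : ∀ A : CommAlgCat.{u} R, (ov A ⟶ Z) ≃ (ov A ⟶ G) := fun A =>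
    (ptsEquiv (A := A) (B' := CommAlgCat.of R (Alg rel))).trans
      ((homEquiv rel A).trans (Equiv.ofBijective _ (hbij A)).symm)
  have he1 : ∀ (A : CommAlgCat.{u} R) (z : ov A ⟶ Z), Ψ A (e A z) = toSol (ofPt z) := by
    intro A z
    have := (Equiv.ofBijective _ (hbij A)).apply_symm_apply (homEquiv rel A (ofPt z))
    exact congrArg Subtype.val this
  have he : ∀ (A C : CommAlgCat.{u} R) (φ : A ⟶ C) (z : ov A ⟶ Z),
      e C (ovMap φ ≫ z) = ovMap φ ≫ e A z := by
    intro A C φ z
    apply (hbij C).1
    apply Subtype.ext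
    change Ψ C (e C (ovMap φ ≫ z)) = Ψ C (ovMap φ ≫ e A z)
    rw [he1, ofPt_comp, toSol_comp]
    have := hnat A C φ.hom (e A z)
    rw [he1] at this
    rw [← this]
    rfl
  obtain ⟨c, -⟩ := Groth.Agent.Lib.Seat37.AffYoneda.exists_iso_of_natural_equiv G Z e he
  exact ⟨c⟩

include hbij hnat in
theorem smooth_and_affine (hsm : Algebra.Smooth R (Alg rel)) :
    Smooth G.hom ∧ IsAffineHom G.hom := by
  obtain ⟨c⟩ := nonempty_iso rel Ψ hmem hbij hnat
  have h1 : G.hom = c.inv.left ≫ Spec.map (CommRingCat.ofHom (algebraMap R (Alg rel))) :=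
    (Over.w c.inv).symm
  haveI : IsIso c.inv.left := (Over.forget _).map_isIso c.inv
  constructor
  · haveI : MorphismProperty.RespectsIso @Smooth :=
      (inferInstance : MorphismProperty.IsStableUnderBaseChange @Smooth).respectsIso
    rw [h1, MorphismProperty.cancel_left_of_respectsIso (P := @Smooth),
      HasRingHomProperty.Spec_iff (P := @Smooth)]
    exact RingHom.smooth_algebraMap.mpr hsm
  · rw [h1]
    haveI : IsAffineHom (Spec.map (CommRingCat.ofHom (algebraMap R (Alg rel)))) := inferInstance
    haveI : IsAffineHom c.inv.left := inferInstance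
    infer_instance

end iso

end Groth.Agent.Lib.Seat37.RepBridge
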