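import Mathlib
import Groth.Prelude.Def_QuadGrp2
import Groth.Agent.Lib.Seat37GPinLift
import Groth.Agent.Lib.Seat37RepBridge
import Groth.Agent.Lib.Seat77AzInvA

/-!
# The Clifford group scheme of a regular form of even rank is smooth and affine (seat 37)

* `exists_lift_orth`: infinitesimal lifting of isometries (from `QuadRel.exists_lift_core`);
* `gpin'_le_lh`: for an Azumaya Clifford algebra `GPin' ≤ LH`;
* `formallySmooth_gpin`: the presented algebra of `GPin'` is formally smooth;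
* `smooth_affine`: a group scheme pinned by `GPinRep Q G` is smooth and affine.
-/

set_option autoImplicit false
set_option linter.unusedSectionVars false
universe u

namespace Groth.Agent.Lib.Seat37.GPinSmooth

open CategoryTheory AlgebraicGeometry CliffordAlgebra TensorProduct QuadGrp Matrix MonObj
open Groth.Agent.S17014.Aux.HD Groth.Agent.Lib.Helper25.HalfDisc
open Groth.Agent.Lib.Seat37.CliffGrade Groth.Agent.Lib.Seat37.CliffBC
  Groth.Agent.Lib.Seat37.CliffRank Groth.Agent.Lib.Seat37.CliffPin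
  Groth.Agent.Lib.Seat37.CliffConj Groth.Agent.Lib.Seat37.CliffAzumaya
  Groth.Agent.Lib.Seat37.TensCoord Groth.Agent.Lib.Seat37.GPinFam
  Groth.Agent.Lib.Seat37.GPinPts Groth.Agent.Lib.Seat37.GPinLift
  Groth.Agent.Lib.Seat37.PolyRep Groth.Agent.Lib.Seat37.QuadRel
  Groth.Agent.Lib.Seat37.QuadBridge Groth.Agent.Lib.Seat37.RepBridge
  Groth.Agent.Lib.Helper18Quad

variable {R : Type u} [CommRing R]

section orth

variable {n : ℕ} (Q : QuadraticForm R (Fin n → R))

theorem exists_lift_orth (hdisc : IsUnit (PM (tabQ Q)).det)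
    (A : Type u) [CommRing A] [Algebra R A] (I : Ideal A) (hI : I ^ 2 = ⊥)
    (gbar : ((A ⧸ I) ⊗[R] (Fin n → R)) ≃ₗ[A ⧸ I] ((A ⧸ I) ⊗[R] (Fin n → R)))
    (hg : gbar ∈ O (baseChangeForm (A ⧸ I) Q)) :
    ∃ g ∈ O (baseChangeForm A Q), ∀ v, rT A I (g v) = gbar (rT A I v) := by
  have hgo : gbar ∈ orth Q (A ⧸ I) := mem_orth_of (A ⧸ I) Q gbar hg
  have hcc := (QuadBridge.mem_orth_iff (A ⧸ I) Q gbar).mp hgo
  set w : Var n → A ⧸ I := vec (mat (A ⧸ I) gbar) (Ring.inverse (mat (A ⧸ I) gbar).det) with hw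
  have hwS : w ∈ Sol (rel false (tabQ Q)) (A ⧸ I) :=
    (mem_Sol_iff false (tabQ Q) w).mpr
      ⟨hcc, Ring.inverse_mul_cancel _ (isUnit_det_mat (A ⧸ I) gbar), fun h => absurd h (by simp)⟩
  obtain ⟨X', hX', hcc', hu⟩ := exists_lift_core false (tabQ Q) hdisc A I hI w hwS
  have hmem : ofMat (R := R) A X' hu ∈ orth Q A :=
    (QuadBridge.mem_orth_iff A Q _).mpr (by rw [mat_ofMat]; exact hcc')
  refine ⟨ofMat (R := R) A X' hu, fun v => bcf_of_mem_orth A Q _ hmem v, ?_⟩
  -- compatibility on `1 ⊗ e_j`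
  have hbasis : ∀ j : Fin n, rT A I (ofMat (R := R) A X' hu ((1 : A) ⊗ₜ[R] Pi.basisFun R (Fin n) j)) =
      gbar ((1 : A ⧸ I) ⊗ₜ[R] Pi.basisFun R (Fin n) j) := by
    intro j
    apply (bA (R := R) (n := n) (A ⧸ I)).repr.injective
    apply Finsupp.ext
    intro i
    rw [repr_rTensor, ← mat_apply, ← mat_apply, mat_ofMat]
    have := congrFun (congrFun hX' i) j
    rw [Matrix.map_apply] at this
    exact this
  have hone : ∀ x : Fin n → R, rT A I (ofMat (R := R) A X' hu ((1 : A) ⊗ₜ[R] x)) =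
      gbar ((1 : A ⧸ I) ⊗ₜ[R] x) := by
    intro x
    have h1 : (rT (R := R) (M := Fin n → R) A I ∘ₗ
        ((ofMat (R := R) A X' hu).toLinearMap.restrictScalars R) ∘ₗ
          (TensorProduct.mk R A (Fin n → R) 1)) =
        (gbar.toLinearMap.restrictScalars R) ∘ₗ (TensorProduct.mk R (A ⧸ I) (Fin n → R) 1) := by
      apply (Pi.basisFun R (Fin n)).ext
      intro j
      exact hbasis j
    exact LinearMap.congr_fun h1 x
  intro v
  induction v with
  | zero => simp
  | tmul a x =>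
    have e1 : (a ⊗ₜ[R] x : A ⊗[R] (Fin n → R)) = a • ((1 : A) ⊗ₜ[R] x) := by
      rw [TensorProduct.smul_tmul', smul_eq_mul, _root_.mul_one]
    have e2 : ∀ y : A ⊗[R] (Fin n → R), rT A I (a • y) = (Ideal.Quotient.mk I a) • rT A I y := by
      intro y
      induction y with
      | zero => simp
      | tmul c z =>
        rw [TensorProduct.smul_tmul', LinearMap.rTensor_tmul, LinearMap.rTensor_tmul,
          TensorProduct.smul_tmul']
        rfl
      | add y₁ y₂ h₁ h₂ => rw [smul_add, map_add, h₁, h₂, map_add, smul_add]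
    rw [e1, map_smul, e2, e2, map_smul, hone]
    congr 1
  | add v₁ v₂ h₁ h₂ => rw [map_add, map_add, h₁, h₂, map_add, map_add]

end orth

section lh

variable {M : Type u} [AddCommGroup M] [Module R M] [Module.Free R M] [Module.Finite R M]

theorem gpin'_le_lh (Q : QuadraticForm R M) [IsAzumaya R (CliffordAlgebra Q)] :
    GPin' Q ≤ LH Q := by
  intro u hu
  obtain ⟨hc0, -⟩ := central_parts Q u hu
  obtain ⟨a, ha⟩ := Groth.Agent.Lib.Seat77.AzInvA.mem_range_algebraMap_of_central (R := R)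
    ((↑u⁻¹ : CliffordAlgebra Q) * Groth.Agent.Lib.Seat37.CliffDescent.P0 Q (u : CliffordAlgebra Q))
    (fun x => (Subalgebra.mem_center_iff.mp hc0 x).symm)
  exact isLocHomog_of_scalar Q u a ha.symm

end lh

section main

variable (m : ℕ) (Q : QuadraticForm R (Fin (2 * m) → R)) (hQ : IsRegular Q)

local notation "bb" => Pi.basisFun R (Fin (2 * m))

/-- the relations of `GPin'` -/
noncomputable abbrev gpinRel :=
  relOf (R := R) (fun (A : Type u) [CommRing A] [Algebra R A] => fam Q bb A)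

theorem mem_Sol_gpinRel (A : Type u) [CommRing A] [Algebra R A]
    (t : Finset (Fin (2 * m)) ⊕ Finset (Fin (2 * m)) → A) :
    t ∈ Sol (gpinRel m Q) A ↔ fam Q bb A t = 0 :=
  mem_Sol_relOf (fun (A : Type u) [CommRing A] [Algebra R A] => fam Q bb A)
    (fun _ _ _ _ _ _ φ t => fam_nat Q bb φ t) A t

include hQ in
theorem formallySmooth_gpin : Algebra.FormallySmooth R (Alg (gpinRel m Q)) := by
  apply formallySmooth_of_lifting
  intro C _ _ I hI w hw
  rw [mem_Sol_gpinRel] at hw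
  obtain ⟨Ubar, hUbar⟩ := exists_unit_of_fam Q bb (C ⧸ I) w hw
  have hUmem : Ubar ∈ GPin' (baseChangeForm (C ⧸ I) Q) := by
    rw [← fam_tOf_iff Q bb, hUbar]; exact hw
  have hQC : IsRegular (baseChangeForm C Q) := isRegular_baseChangeForm bb Q hQ C
  have hdisc : IsUnit (PM (tabQ Q)).det :=
    Groth.Agent.Lib.Seat37.CliffEvenAz.isUnit_det_PM_of_isRegular bb Q hQ
  obtain ⟨U, hU, hρ⟩ := exists_lift_GPin' Q m bb C I hI hQC
    (fun gbar hg => exists_lift_orth Q hdisc C I hI gbar hg) Ubar hUmem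
  refine ⟨tOf Q bb C U, (mem_Sol_gpinRel m Q C _).mpr ((fam_tOf_iff Q bb C U).mpr hU), ?_⟩
  intro s
  have h := tOf_map Q bb (Ideal.Quotient.mkₐ R I) U Ubar hρ.symm
  rw [hUbar] at h
  exact (congrFun h s).symm

variable {G : Over (Spec (CommRingCat.of R))} [GrpObj G] (D : GPinRep Q G)

include hQ D in
theorem smooth_affine : Smooth G.hom ∧ IsAffineHom G.hom := by
  have hmemG : ∀ (A : Type u) [CommRing A] [Algebra R A] (y : specOver R A ⟶ G),
      ((D.pts A y : ↥(gpin Q A)) : (CliffordAlgebra (baseChangeForm A Q))ˣ) ∈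
        GPin' (baseChangeForm A Q) := by
    intro A _ _ y
    have h := (D.pts A y).2
    exact (Subgroup.mem_inf.mp h).1
  refine smooth_and_affine (gpinRel m Q)
    (fun (A : Type u) [CommRing A] [Algebra R A] (y : specOver R A ⟶ G) =>
      tOf Q bb A ((D.pts A y : ↥(gpin Q A)) : (CliffordAlgebra (baseChangeForm A Q))ˣ))
    (fun A _ _ y => (mem_Sol_gpinRel m Q A _).mpr ((fam_tOf_iff Q bb A _).mpr (hmemG A y)))
    ?_ ?_ ⟨formallySmooth_gpin m Q hQ, inferInstance⟩
  · intro A _ _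
    constructor
    · intro y y' h
      have h1 := congrArg Subtype.val h
      have h2 := tOf_injective Q bb A h1
      exact (D.pts A).injective (Subtype.ext h2)
    · rintro ⟨t, ht⟩
      rw [mem_Sol_gpinRel] at ht
      obtain ⟨U, hU⟩ := exists_unit_of_fam Q bb A t ht
      have hUmem : U ∈ GPin' (baseChangeForm A Q) := by
        rw [← fam_tOf_iff Q bb, hU]; exact ht
      have hAz : IsAzumaya A (CliffordAlgebra (baseChangeForm A Q)) :=
        Groth.Agent.Lib.Seat37.CliffEvenAz.isAzumaya_clifford m (Algebra.TensorProduct.basis A bb)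
          (baseChangeForm A Q) (isRegular_baseChangeForm bb Q hQ A)
      have hUg : U ∈ gpin Q A := Subgroup.mem_inf.mpr ⟨hUmem, gpin'_le_lh _ hUmem⟩
      refine ⟨(D.pts A).symm ⟨U, hUg⟩, Subtype.ext ?_⟩
      change tOf Q bb A ((D.pts A ((D.pts A).symm ⟨U, hUg⟩) : ↥(gpin Q A)) :
        (CliffordAlgebra (baseChangeForm A Q))ˣ) = t
      rw [MulEquiv.apply_symm_apply]
      exact hU
  · intro A B _ _ _ _ φ y
    exact tOf_map Q bb φ _ _ (D.natural A B φ (Fφ Q φ) (Fφ_ι Q φ) (Fφ_algebraMap Q φ) y)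

end main

end Groth.Agent.Lib.Seat37.GPinSmooth
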