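import Mathlib
import Groth.Prelude.Def_QuadGrp2
import Groth.Agent.Lib.Seat37GPinOddLift
import Groth.Agent.Lib.Seat37GPinSmooth
import Groth.Agent.Lib.Seat37QuadSO

/-!
# The Clifford group scheme of a semiregular form of odd rank is smooth and affine (seat 37)

* `lift_compat`, `exists_lift_sorth'`: infinitesimal lifting of isometries of determinant one;
* `eOf`: the idempotent of a locally homogeneous unit;
* `formallySmooth_gpinO`, `smooth_affine_odd`.
-/

set_option autoImplicit false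
set_option linter.unusedSectionVars false
universe u

namespace Groth.Agent.Lib.Seat37.GPinOddSmooth

open CategoryTheory AlgebraicGeometry CliffordAlgebra TensorProduct QuadGrp Matrix MonObj
open Groth.Agent.S17014.Aux.HD Groth.Agent.Lib.Helper25.HalfDisc
open Groth.Agent.Lib.Seat37.CliffGrade Groth.Agent.Lib.Seat37.CliffBC
  Groth.Agent.Lib.Seat37.CliffRank Groth.Agent.Lib.Seat37.CliffPin
  Groth.Agent.Lib.Seat37.CliffConj Groth.Agent.Lib.Seat37.CliffAzumaya
  Groth.Agent.Lib.Seat37.TensCoord Groth.Agent.Lib.Seat37.GPinFam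
  Groth.Agent.Lib.Seat37.GPinPts Groth.Agent.Lib.Seat37.GPinLift
  Groth.Agent.Lib.Seat37.GPinOddFam Groth.Agent.Lib.Seat37.GPinOddAlg
  Groth.Agent.Lib.Seat37.GPinOddLift
  Groth.Agent.Lib.Seat37.PolyRep Groth.Agent.Lib.Seat37.QuadRel
  Groth.Agent.Lib.Seat37.QuadBridge Groth.Agent.Lib.Seat37.RepBridge
  Groth.Agent.Lib.Helper18Quad

variable {R : Type u} [CommRing R]

section orth

variable {n : ℕ}

/-- an automorphism of `A ⊗ R^n` whose matrix reduces to that of `gbar` reduces to `gbar` -/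
theorem lift_compat (A : Type u) [CommRing A] [Algebra R A] (I : Ideal A)
    (gbar : ((A ⧸ I) ⊗[R] (Fin n → R)) ≃ₗ[A ⧸ I] ((A ⧸ I) ⊗[R] (Fin n → R)))
    (X' : Matrix (Fin n) (Fin n) A) (hu : IsUnit X'.det)
    (hX' : X'.map (Ideal.Quotient.mk I) = mat (A ⧸ I) gbar) (v : A ⊗[R] (Fin n → R)) :
    rT A I (ofMat (R := R) A X' hu v) = gbar (rT A I v) := by
  have hbasis : ∀ j : Fin n, rT A I (ofMat (R := R) A X' hu ((1 : A) ⊗ₜ[R] Pi.basisFun R (Fin n) j)) =
      gbar ((1 : A ⧸ I) ⊗ₜ[R] Pi.basisFun R (Fin n) j) := by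
    intro j
    apply (bA (R := R) (n := n) (A ⧸ I)).repr.injective
    apply Finsupp.ext
    intro i
    rw [repr_rTensor, ← mat_apply, ← mat_apply, mat_ofMat]
    have := congrFun (congrFun hX' i) j
    rw [Matrix.map_apply] at this
    exact this
  have hone : ∀ x : Fin n → R, rT A I (ofMat (R := R) A X' hu ((1 : A) ⊗ₜ[R] x)) =
      gbar ((1 : A ⧸ I) ⊗ₜ[R] x) := by
    intro x
    have h1 : (rT (R := R) (M := Fin n → R) A I ∘ₗ
        ((ofMat (R := R) A X' hu).toLinearMap.restrictScalars R) ∘ₗ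
          (TensorProduct.mk R A (Fin n → R) 1)) =
        (gbar.toLinearMap.restrictScalars R) ∘ₗ (TensorProduct.mk R (A ⧸ I) (Fin n → R) 1) := by
      apply (Pi.basisFun R (Fin n)).ext
      intro j
      exact hbasis j
    exact LinearMap.congr_fun h1 x
  induction v with
  | zero => simp
  | tmul a x =>
    have e1 : (a ⊗ₜ[R] x : A ⊗[R] (Fin n → R)) = a • ((1 : A) ⊗ₜ[R] x) := by
      rw [TensorProduct.smul_tmul', smul_eq_mul, _root_.mul_one]
    have e2 : ∀ y : A ⊗[R] (Fin n → R), rT A I (a • y) = (Ideal.Quotient.mk I a) • rT A I y := by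
      intro y
      induction y with
      | zero => simp
      | tmul c z =>
        rw [TensorProduct.smul_tmul', LinearMap.rTensor_tmul, LinearMap.rTensor_tmul,
          TensorProduct.smul_tmul']
        rfl
      | add y₁ y₂ h₁ h₂ => rw [smul_add, map_add, h₁, h₂, map_add, smul_add]
    rw [e1, map_smul, e2, e2, map_smul, hone]
    congr 1
  | add v₁ v₂ h₁ h₂ => rw [map_add, map_add, h₁, h₂, map_add, map_add]

theorem exists_lift_sorth' (m : ℕ) (Q : QuadraticForm R (Fin (2 * m + 1) → R))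
    (hQ : IsSemiregular (Pi.basisFun R (Fin (2 * m + 1))) (LinearEquiv.refl R R) Q)
    (A : Type u) [CommRing A] [Algebra R A] (I : Ideal A) (hI : I ^ 2 = ⊥)
    (gbar : ((A ⧸ I) ⊗[R] (Fin (2 * m + 1) → R)) ≃ₗ[A ⧸ I] ((A ⧸ I) ⊗[R] (Fin (2 * m + 1) → R)))
    (hg : gbar ∈ SO' (baseChangeForm (A ⧸ I) Q)) :
    ∃ g ∈ SO' (baseChangeForm A Q), ∀ v, rT A I (g v) = gbar (rT A I v) := by
  have hgo : gbar ∈ orth Q (A ⧸ I) := mem_orth_of (A ⧸ I) Q gbar hg.1
  have hcc := (QuadBridge.mem_orth_iff (A ⧸ I) Q gbar).mp hgo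
  have hdet : (mat (A ⧸ I) gbar).det = 1 := (det_eq_one_iff (A ⧸ I) gbar).mp hg.2
  set w : Var (2 * m + 1) → A ⧸ I := vec (mat (A ⧸ I) gbar) 1 with hw
  have hwS : w ∈ Sol (rel true (tabQ Q)) (A ⧸ I) :=
    (mem_Sol_iff true (tabQ Q) w).mpr
      ⟨hcc, by change (1 : A ⧸ I) * (mat (A ⧸ I) gbar).det = 1; rw [hdet, _root_.one_mul],
        fun _ => rfl⟩
  have : Algebra.FormallySmooth R (Alg (rel true (tabQ Q))) :=
    Groth.Agent.Lib.Seat37.QuadSO.formallySmooth_SO_odd m _ hQ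
  obtain ⟨v, hvS, hvw⟩ := lifting_of_formallySmooth A I hI w hwS
  obtain ⟨hcc', hd', hd1⟩ := (mem_Sol_iff true (tabQ Q) v).mp hvS
  have hdetX : (vmat v).det = 1 := by
    rw [hd1 rfl, _root_.one_mul] at hd'
    exact hd'
  have hu : IsUnit (vmat v).det := by rw [hdetX]; exact isUnit_one
  have hX' : (vmat v).map (Ideal.Quotient.mk I) = mat (A ⧸ I) gbar := by
    ext i j
    rw [Matrix.map_apply]
    exact hvw (Sum.inl (i, j))
  have hmem : ofMat (R := R) A (vmat v) hu ∈ orth Q A :=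
    (QuadBridge.mem_orth_iff A Q _).mpr (by rw [mat_ofMat]; exact hcc')
  refine ⟨ofMat (R := R) A (vmat v) hu,
    ⟨fun y => bcf_of_mem_orth A Q _ hmem y, ?_⟩, lift_compat A I gbar _ hu hX'⟩
  exact (det_eq_one_iff A _).mpr (by rw [mat_ofMat]; exact hdetX)

end orth

section eOf

variable {M : Type u} [AddCommGroup M] [Module R M] [Module.Free R M] [Module.Finite R M]
variable (Q : QuadraticForm R M)

/-- the idempotent of a locally homogeneous unit -/
noncomputable def eOf (U : (CliffordAlgebra Q)ˣ) (hU : U ∈ LH Q) : R := Classical.choose hU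

theorem eOf_spec (U : (CliffordAlgebra Q)ˣ) (hU : U ∈ LH Q) :
    eOf Q U hU * eOf Q U hU = eOf Q U hU ∧
      eOf Q U hU • (U : CliffordAlgebra Q) ∈ evenOdd Q 0 ∧
      (1 - eOf Q U hU) • (U : CliffordAlgebra Q) ∈ evenOdd Q 1 :=
  Classical.choose_spec hU

theorem eOf_eq (U : (CliffordAlgebra Q)ˣ) (hU : U ∈ LH Q) (e : R)
    (h0 : e • (U : CliffordAlgebra Q) ∈ evenOdd Q 0)
    (h1 : (1 - e) • (U : CliffordAlgebra Q) ∈ evenOdd Q 1) : eOf Q U hU = e :=
  idem_unique Q U _ _ (eOf_spec Q U hU).2.1 (eOf_spec Q U hU).2.2 h0 h1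

end eOf

section main

variable (m : ℕ) (Q : QuadraticForm R (Fin (2 * m + 1) → R))
  (hQ : IsSemiregular (Pi.basisFun R (Fin (2 * m + 1))) (LinearEquiv.refl R R) Q)

local notation "bb" => Pi.basisFun R (Fin (2 * m + 1))

/-- the relations of `GPin` -/
noncomputable abbrev gpinORel :=
  relOf (R := R) (fun (A : Type u) [CommRing A] [Algebra R A] => famO Q bb A)

theorem mem_Sol_gpinORel (A : Type u) [CommRing A] [Algebra R A]
    (t : (Finset (Fin (2 * m + 1)) ⊕ Finset (Fin (2 * m + 1))) ⊕ Unit → A) :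
    t ∈ Sol (gpinORel m Q) A ↔ famO Q bb A t = 0 :=
  mem_Sol_relOf (fun (A : Type u) [CommRing A] [Algebra R A] => famO Q bb A)
    (fun _ _ _ _ _ _ φ t => famO_nat Q bb φ t) A t

theorem tOfO_surj (A : Type u) [CommRing A] [Algebra R A]
    (t : (Finset (Fin (2 * m + 1)) ⊕ Finset (Fin (2 * m + 1))) ⊕ Unit → A)
    (ht : famO Q bb A t = 0) :
    ∃ U : (CliffordAlgebra (baseChangeForm A Q))ˣ, tOfO Q bb A U (t (Sum.inr ())) = t := by
  obtain ⟨h1, -⟩ := (famO_eq_zero_iff Q bb A t).mp ht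
  obtain ⟨U, hU⟩ := exists_unit_of_fam Q bb A (t ∘ Sum.inl) h1
  refine ⟨U, ?_⟩
  funext p
  rcases p with p | ⟨⟩
  · exact congrFun hU p
  · rfl

include hQ in
theorem isSemiregular_bc (A : Type u) [CommRing A] [Algebra R A] :
    IsSemiregular (Algebra.TensorProduct.basis A bb) (LinearEquiv.refl A A)
      (baseChangeForm A Q) := by
  unfold IsSemiregular
  rw [halfDisc_baseChange]
  exact hQ.map _

include hQ in
theorem formallySmooth_gpinO : Algebra.FormallySmooth R (Alg (gpinORel m Q)) := by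
  apply formallySmooth_of_lifting
  intro C _ _ I hI w hw
  rw [mem_Sol_gpinORel] at hw
  obtain ⟨Ubar, hUbar⟩ := tOfO_surj m Q (C ⧸ I) w hw
  have hw' := hw
  rw [← hUbar, famO_tOfO_iff] at hw'
  obtain ⟨hU1, hU2, hU3, hU4⟩ := hw'
  obtain ⟨U, e, hU, hee, he0, he1, hρ, hemk⟩ := exists_lift_GPin_odd Q C I m bb hI
    (isSemiregular_bc m Q hQ C) (isSemiregular_bc m Q hQ (C ⧸ I))
    (fun gbar hg => exists_lift_sorth' m Q hQ C I hI gbar hg) Ubar hU1 _ hU2 hU3 hU4
  refine ⟨tOfO Q bb C U e,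
    (mem_Sol_gpinORel m Q C _).mpr ((famO_tOfO_iff Q bb C U e).mpr ⟨hU, hee, he0, he1⟩), ?_⟩
  intro s
  rw [← hUbar]
  rcases s with p | ⟨⟩
  · have h := tOf_map Q bb (Ideal.Quotient.mkₐ R I) U Ubar hρ.symm
    exact (congrFun h p).symm
  · exact hemk

variable {G : Over (Spec (CommRingCat.of R))} [GrpObj G] (D : GPinRep Q G)

include hQ D in
theorem smooth_affine_odd : Smooth G.hom ∧ IsAffineHom G.hom := by
  have hmemG : ∀ (A : Type u) [CommRing A] [Algebra R A] (y : specOver R A ⟶ G),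
      ((D.pts A y : ↥(gpin Q A)) : (CliffordAlgebra (baseChangeForm A Q))ˣ) ∈
        GPin' (baseChangeForm A Q) ∧
      ((D.pts A y : ↥(gpin Q A)) : (CliffordAlgebra (baseChangeForm A Q))ˣ) ∈
        LH (baseChangeForm A Q) := by
    intro A _ _ y
    have h := (D.pts A y).2
    exact Subgroup.mem_inf.mp h
  refine smooth_and_affine (gpinORel m Q)
    (fun (A : Type u) [CommRing A] [Algebra R A] (y : specOver R A ⟶ G) =>
      tOfO Q bb A ((D.pts A y : ↥(gpin Q A)) : (CliffordAlgebra (baseChangeForm A Q))ˣ)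
        (eOf (baseChangeForm A Q) _ (hmemG A y).2))
    (fun A _ _ y => (mem_Sol_gpinORel m Q A _).mpr ((famO_tOfO_iff Q bb A _ _).mpr
      ⟨(hmemG A y).1, eOf_spec (baseChangeForm A Q) _ (hmemG A y).2⟩))
    ?_ ?_ ⟨formallySmooth_gpinO m Q hQ, inferInstance⟩
  · intro A _ _
    constructor
    · intro y y' h
      have h1 := congrArg Subtype.val h
      have h2 : tOf Q bb A ((D.pts A y : ↥(gpin Q A)) : (CliffordAlgebra (baseChangeForm A Q))ˣ) =
          tOf Q bb A ((D.pts A y' : ↥(gpin Q A)) : (CliffordAlgebra (baseChangeForm A Q))ˣ) := by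
        funext p
        exact congrFun h1 (Sum.inl p)
      exact (D.pts A).injective (Subtype.ext (tOf_injective Q bb A h2))
    · rintro ⟨t, ht⟩
      rw [mem_Sol_gpinORel] at ht
      obtain ⟨U, hU⟩ := tOfO_surj m Q A t ht
      have ht' := ht
      rw [← hU, famO_tOfO_iff] at ht'
      obtain ⟨hU1, hU2, hU3, hU4⟩ := ht'
      have hLH : U ∈ LH (baseChangeForm A Q) := ⟨t (Sum.inr ()), hU2, hU3, hU4⟩
      have hUg : U ∈ gpin Q A := Subgroup.mem_inf.mpr ⟨hU1, hLH⟩
      refine ⟨(D.pts A).symm ⟨U, hUg⟩, Subtype.ext ?_⟩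
      change tOfO Q bb A ((D.pts A ((D.pts A).symm ⟨U, hUg⟩) : ↥(gpin Q A)) :
        (CliffordAlgebra (baseChangeForm A Q))ˣ) (eOf (baseChangeForm A Q) _ _) = t
      rw [← hU]
      have h3 : ((D.pts A ((D.pts A).symm ⟨U, hUg⟩) : ↥(gpin Q A)) :
        (CliffordAlgebra (baseChangeForm A Q))ˣ) = U := by rw [MulEquiv.apply_symm_apply]
      funext p
      rcases p with p | ⟨⟩
      · change tOf Q bb A _ p = tOf Q bb A U p
        rw [h3]
      · change eOf (baseChangeForm A Q) _ _ = t (Sum.inr ())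
        apply eOf_eq
        · rw [h3]; exact hU3
        · rw [h3]; exact hU4
  · intro A B _ _ _ _ φ y
    have hnat := D.natural A B φ (Fφ Q φ) (Fφ_ι Q φ) (Fφ_algebraMap Q φ) y
    funext p
    rcases p with p | ⟨⟩
    · exact congrFun (tOf_map Q bb φ _ _ hnat) p
    · change eOf (baseChangeForm B Q) _ _ = φ (eOf (baseChangeForm A Q) _ _)
      obtain ⟨-, s0, s1⟩ := eOf_spec (baseChangeForm A Q) _ (hmemG A y).2
      apply eOf_eq
      · rw [hnat, ← Fφ_smul]
        exact Fφ_mem Q φ 0 _ s0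
      · rw [hnat, ← map_one φ, ← map_sub, ← Fφ_smul]
        exact Fφ_mem Q φ 1 _ s1

end main

end Groth.Agent.Lib.Seat37.GPinOddSmooth
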