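import Groth.Prelude.Def_LefMon
import Groth.Agent.Lib.Seat20PullConstComp
import Groth.Agent.Lib.Seat37ExtFunctor

/-!
# `EtAdic.Hmap` is compatible with composition

`Hmap_comp : Hmap ℓ (f ≫ g) = (Hmap ℓ f).comp (Hmap ℓ g)` and `Hmap_congr`.
-/

set_option autoImplicit false
universe u

namespace Groth.Agent.Lib.Seat37.HmapComp

open CategoryTheory CategoryTheory.Limits AlgebraicGeometry Opposite Abelian
open Groth.Agent.Lib.Seat37.ExtFunctor

section Sand

variable {C : Type*} [Category C] [Abelian C] [HasExt C]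

/-- `l ≫ e ≫ m` for a class `e` of degree `r` and morphisms `l`, `m` -/
noncomputable def sand {A' A B B' : C} {r : ℕ} (l : A' ⟶ A) (e : Ext A B r) (m : B ⟶ B') :
    Ext A' B' r :=
  ((Ext.mk₀ l).comp e (zero_add r)).comp (Ext.mk₀ m) (add_zero r)

theorem sand_sand {A'' A' A B B' B'' : C} {r : ℕ} (l' : A'' ⟶ A') (l : A' ⟶ A) (e : Ext A B r)
    (m : B ⟶ B') (m' : B' ⟶ B'') :
    sand l' (sand l e m) m' = sand (l' ≫ l) e (m ≫ m') := by
  unfold sand
  rw [Ext.comp_assoc_of_third_deg_zero, Ext.comp_assoc_of_third_deg_zero,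
    Ext.comp_assoc_of_third_deg_zero, Ext.mk₀_comp_mk₀, Ext.mk₀_comp_mk₀_assoc,
    Ext.comp_assoc_of_third_deg_zero]

theorem sand_id {A B : C} {r : ℕ} (e : Ext A B r) : sand (𝟙 A) e (𝟙 B) = e := by
  unfold sand
  simp

end Sand

section Map

variable {C D : Type*} [Category C] [Abelian C] [HasExt C] [Category D] [Abelian D] [HasExt D]
  (F : C ⥤ D) [F.Additive] [PreservesFiniteLimits F] [PreservesFiniteColimits F]

theorem mapExactFunctor_sand {A' A B B' : C} {r : ℕ} (l : A' ⟶ A) (e : Ext A B r) (m : B ⟶ B') :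
    (sand l e m).mapExactFunctor F = sand (F.map l) (e.mapExactFunctor F) (F.map m) := by
  unfold sand
  rw [Ext.mapExactFunctor_comp, Ext.mapExactFunctor_comp, Ext.mapExactFunctor_mk₀,
    Ext.mapExactFunctor_mk₀]

variable (G : C ⥤ D) [G.Additive] [PreservesFiniteLimits G] [PreservesFiniteColimits G]
  [EnoughInjectives C]

/-- transport of `mapExactFunctor` along a natural isomorphism -/
theorem mapExactFunctor_iso (α : F ≅ G) {A B : C} {r : ℕ} (e : Ext A B r) :
    e.mapExactFunctor F = sand (α.hom.app A) (e.mapExactFunctor G) (α.inv.app B) := by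
  have h := mk₀_comp_mapExactFunctor F G α.hom r e
  unfold sand
  rw [h, Ext.comp_assoc_of_third_deg_zero, Ext.mk₀_comp_mk₀, Iso.hom_inv_id_app, Ext.comp_mk₀_id]

end Map

variable {X Y Z : Scheme.{u}} (ℓ : ℕ)

theorem Hmap_apply (f : X ⟶ Y) (hf : PreservesFiniteLimits (EtCoh.pull f)) (r ν : ℕ)
    (y : EtAdic.Hmod Y ℓ r ν) :
    EtAdic.Hmap ℓ f hf r ν y =
      sand (EtCore.pullConst f ℤ).inv
        (haveI := hf; (y : Ext _ _ r).mapExactFunctor (EtCoh.pull f))
        (EtCore.pullConst f (ZMod (ℓ ^ ν))).hom := rfl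

theorem Hmap_congr {f f' : X ⟶ Y} (w : f = f') (hf : PreservesFiniteLimits (EtCoh.pull f))
    (hf' : PreservesFiniteLimits (EtCoh.pull f')) (r ν : ℕ) :
    EtAdic.Hmap ℓ f hf r ν = EtAdic.Hmap ℓ f' hf' r ν := by
  subst w
  rfl

theorem Hmap_comp (f : X ⟶ Y) (g : Y ⟶ Z) (hf : PreservesFiniteLimits (EtCoh.pull f))
    (hg : PreservesFiniteLimits (EtCoh.pull g)) (hfg : PreservesFiniteLimits (EtCoh.pull (f ≫ g)))
    (r ν : ℕ) (y : EtAdic.Hmod Z ℓ r ν) :
    EtAdic.Hmap ℓ (f ≫ g) hfg r ν y = EtAdic.Hmap ℓ f hf r ν (EtAdic.Hmap ℓ g hg r ν y) := by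
  have := hf
  have := hg
  have := hfg
  rw [Hmap_apply, Hmap_apply, Hmap_apply, mapExactFunctor_sand, sand_sand,
    ← mapExactFunctor_comp_functor (EtCoh.pull g) (EtCoh.pull f),
    mapExactFunctor_iso (EtCoh.pull (f ≫ g)) (EtCoh.pull g ⋙ EtCoh.pull f) (EtCore.pullComp f g),
    sand_sand]
  congr 1
  · exact Groth.Agent.Lib.Seat20.PullConstComp.pullConstIso_comp_inv f g _
  · exact Groth.Agent.Lib.Seat20.PullConstComp.pullConstIso_comp_hom f g _

end Groth.Agent.Lib.Seat37.HmapComp
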