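import Mathlib

/-! seat37: an algebra map `φ : C → D` of `R`-algebras with `D` flat over `R`, which is bijective
modulo a nilpotent ideal `I` of `R`, is bijective. -/

set_option autoImplicit false
universe u

namespace Groth.Agent.Lib.Seat37.NilIso

variable {R C D : Type*} [CommRing R] [CommRing C] [CommRing D] [Algebra R C] [Algebra R D]

theorem smul_top_eq (I : Ideal R) (x : D) :
    x ∈ (I • ⊤ : Submodule R D) ↔ x ∈ I.map (algebraMap R D) := by
  rw [Ideal.smul_top_eq_map]
  rfl

/-- surjectivity modulo a nilpotent ideal implies surjectivity -/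
theorem surjective_of_mod_nilpotent (I : Ideal R) (hI : IsNilpotent I) (φ : C →ₐ[R] D)
    (hsurj : ∀ d : D, ∃ c : C, φ c - d ∈ I.map (algebraMap R D)) : Function.Surjective φ := by
  set N : Submodule R D := LinearMap.range φ.toLinearMap with hN
  have h1 : (⊤ : Submodule R D) ≤ N ⊔ I • ⊤ := by
    intro d _
    obtain ⟨c, hc⟩ := hsurj d
    have : d = φ c - (φ c - d) := by ring
    rw [this]
    refine Submodule.sub_mem _ (Submodule.mem_sup_left ⟨c, rfl⟩) (Submodule.mem_sup_right ?_)
    exact (smul_top_eq I _).mpr hc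
  have hk : ∀ k : ℕ, (⊤ : Submodule R D) ≤ N ⊔ I ^ k • ⊤ := by
    intro k
    induction k with
    | zero =>
      rw [pow_zero, Ideal.one_eq_top, Submodule.top_smul]
      exact le_sup_right
    | succ k ih =>
      refine ih.trans (sup_le le_sup_left ?_)
      calc I ^ k • (⊤ : Submodule R D) ≤ I ^ k • (N ⊔ I • ⊤) := Submodule.smul_mono le_rfl h1
        _ = I ^ k • N ⊔ I ^ k • (I • ⊤) := Submodule.smul_sup _ _ _
        _ ≤ N ⊔ I ^ (k + 1) • ⊤ := by
          refine sup_le_sup Submodule.smul_le_right ?_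
          rw [← Submodule.mul_smul, ← pow_succ]
  obtain ⟨n, hn⟩ := hI
  have := hk n
  rw [hn, Submodule.zero_eq_bot, Submodule.bot_smul, sup_bot_eq] at this
  intro d
  obtain ⟨c, hc⟩ := this (Submodule.mem_top : d ∈ ⊤)
  exact ⟨c, hc⟩

/-- bijectivity modulo a nilpotent ideal implies bijectivity, for a flat target -/
theorem bijective_of_mod_nilpotent (I : Ideal R) (hI : IsNilpotent I) [Module.Flat R D]
    (φ : C →ₐ[R] D)
    (hsurj : ∀ d : D, ∃ c : C, φ c - d ∈ I.map (algebraMap R D))
    (hinj : ∀ c : C, φ c = 0 → c ∈ I.map (algebraMap R C)) : Function.Bijective φ := by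
  have hs := surjective_of_mod_nilpotent I hI φ hsurj
  refine ⟨?_, hs⟩
  set K : Submodule R C := LinearMap.ker φ.toLinearMap with hK
  have h1 : K ≤ I • K := by
    intro k hk
    have hk0 : φ k = 0 := hk
    have hkI := hinj k hk0
    rw [Ideal.map, Ideal.span, Submodule.mem_span_image_iff_exists_fun] at hkI
    obtain ⟨t, ht, c, hc⟩ := hkI
    -- relation in D
    have hrel : ∑ i : t, (i : R) • φ (c i) = 0 := by
      rw [← hk0, ← hc, map_sum]
      refine Finset.sum_congr rfl (fun i _ => ?_)
      rw [smul_eq_mul, map_mul, AlgHom.commutes, Algebra.smul_def, mul_comm]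
    obtain ⟨m, a, y, hy, ha⟩ := Module.Flat.isTrivialRelation_of_sum_smul_eq_zero (R := R) (M := D)
      (f := fun i : t => (i : R)) (x := fun i => φ (c i)) hrel
    simp only at hy ha
    choose x' hx' using fun j => hs (y j)
    have hki : ∀ i : t, c i - ∑ j, a i j • x' j ∈ K := by
      intro i
      change φ (c i - ∑ j, a i j • x' j) = 0
      rw [map_sub, map_sum, hy i, sub_eq_zero]
      refine Finset.sum_congr rfl (fun j _ => ?_)
      rw [map_smul, hx']
    have hsum : k = ∑ i : t, (i : R) • (c i - ∑ j, a i j • x' j) := by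
      have h2 : ∑ i : t, (i : R) • ∑ j, a i j • x' j = 0 := by
        simp_rw [Finset.smul_sum, smul_smul]
        rw [Finset.sum_comm]
        refine Finset.sum_eq_zero (fun j _ => ?_)
        rw [← Finset.sum_smul, ha j, zero_smul]
      simp_rw [smul_sub]
      rw [Finset.sum_sub_distrib, h2, sub_zero, ← hc]
      refine Finset.sum_congr rfl (fun i _ => ?_)
      rw [smul_eq_mul, Algebra.smul_def, mul_comm]
    rw [hsum]
    refine Submodule.sum_mem _ (fun i _ => ?_)
    exact Submodule.smul_mem_smul (ht i.2) (hki i)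
  have hk : ∀ k : ℕ, K ≤ I ^ k • K := by
    intro k
    induction k with
    | zero =>
      rw [pow_zero, Ideal.one_eq_top, Submodule.top_smul]
    | succ k ih =>
      calc K ≤ I ^ k • K := ih
        _ ≤ I ^ k • (I • K) := Submodule.smul_mono le_rfl h1
        _ = I ^ (k + 1) • K := by rw [← Submodule.mul_smul, ← pow_succ]
  obtain ⟨n, hn⟩ := hI
  have := hk n
  rw [hn, Submodule.zero_eq_bot, Submodule.bot_smul, le_bot_iff] at this
  rw [injective_iff_map_eq_zero]
  intro c hc
  have hcK : c ∈ K := hc
  rw [this] at hcK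
  exact hcK

end Groth.Agent.Lib.Seat37.NilIso
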