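import Mathlib
import Groth.Agent.Lib.Seat37NilIso

/-! seat37: a morphism `u : Y ⟶ Z` of schemes over `Spec R`, with `Y` flat over `R`, which is a
homeomorphism and has the unique lifting property for points killed by a nilpotent ideal `I`
(e.g. its base change to `R ⧸ I` is an isomorphism) is an isomorphism. -/

set_option autoImplicit false
set_option linter.style.haveILetI false
universe u

namespace Groth.Agent.Lib.Seat37.NilIsoSch

open CategoryTheory Limits AlgebraicGeometry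

variable {R : Type u} [CommRing R] (I : Ideal R)

/-- unique lifting along `u` of points of `Z` on which `I` vanishes -/
def HasLift {Y Z : Scheme.{u}} (u : Y ⟶ Z) (q : Z ⟶ Spec (CommRingCat.of R)) : Prop :=
  ∀ (T : Scheme.{u}) (t : T ⟶ Z),
    (∃ t₀ : T ⟶ Spec (CommRingCat.of (R ⧸ I)),
      t₀ ≫ Spec.map (CommRingCat.ofHom (Ideal.Quotient.mk I)) = t ≫ q) →
    ∃! t' : T ⟶ Y, t' ≫ u = t

/-- Spec form of the affine case -/
theorem bijective_of_hasLift_spec (hI : IsNilpotent I) {C D : Type u} [CommRing C] [CommRing D]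
    (ρ : R →+* C) (φ : C →+* D) (hflat : (φ.comp ρ).Flat)
    (h : HasLift I (Spec.map (CommRingCat.ofHom φ)) (Spec.map (CommRingCat.ofHom ρ))) :
    Function.Bijective φ := by
  letI : Algebra R C := ρ.toAlgebra
  letI : Algebra R D := (φ.comp ρ).toAlgebra
  haveI : Module.Flat R D := hflat
  let φa : C →ₐ[R] D := { φ with commutes' := fun r => rfl }
  set IC : Ideal C := I.map (algebraMap R C) with hIC
  set ID : Ideal D := I.map (algebraMap R D) with hID
  -- the point Spec (C/IC) → Spec C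
  have hfac1 : ∃ t₀ : Spec (CommRingCat.of (C ⧸ IC)) ⟶ Spec (CommRingCat.of (R ⧸ I)),
      t₀ ≫ Spec.map (CommRingCat.ofHom (Ideal.Quotient.mk I)) =
        Spec.map (CommRingCat.ofHom (Ideal.Quotient.mk IC)) ≫ Spec.map (CommRingCat.ofHom ρ) := by
    refine ⟨Spec.map (CommRingCat.ofHom
      (Ideal.quotientMap IC (algebraMap R C) Ideal.le_comap_map)), ?_⟩
    rw [← Spec.map_comp, ← Spec.map_comp, ← CommRingCat.ofHom_comp, ← CommRingCat.ofHom_comp,
      Ideal.quotientMap_comp_mk]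
  obtain ⟨t', ht', -⟩ := h _ _ hfac1
  obtain ⟨ψ₀', hψ₀'⟩ := Spec.map_surjective t'
  set ψ₀ : D →+* C ⧸ IC := ψ₀'.hom with hψ₀
  have hψφ : ψ₀.comp φ = Ideal.Quotient.mk IC := by
    have h1 : Spec.map (CommRingCat.ofHom (ψ₀.comp φ)) =
        Spec.map (CommRingCat.ofHom (Ideal.Quotient.mk IC)) := by
      rw [CommRingCat.ofHom_comp, Spec.map_comp, hψ₀, CommRingCat.ofHom_hom, hψ₀', ht']
    exact congrArg CommRingCat.Hom.hom (Spec.map_injective h1)
  have hinj : ∀ c : C, φa c = 0 → c ∈ IC := by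
    intro c hc
    have : ψ₀ (φ c) = Ideal.Quotient.mk IC c := congrArg (fun f => f c) hψφ
    rw [show φ c = 0 from hc, map_zero] at this
    exact Ideal.Quotient.eq_zero_iff_mem.mp this.symm
  -- second point: Spec (D/ID) → Spec D, two ways
  let φb : C ⧸ IC →+* D ⧸ ID := Ideal.quotientMap ID φ (by
    rw [hIC, Ideal.map_le_iff_le_comap]
    intro r hr
    exact Ideal.mem_map_of_mem (algebraMap R D) hr)
  have hφb : φb.comp (Ideal.Quotient.mk IC) = (Ideal.Quotient.mk ID).comp φ :=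
    Ideal.quotientMap_comp_mk _
  have hfac2 : ∃ t₀ : Spec (CommRingCat.of (D ⧸ ID)) ⟶ Spec (CommRingCat.of (R ⧸ I)),
      t₀ ≫ Spec.map (CommRingCat.ofHom (Ideal.Quotient.mk I)) =
        Spec.map (CommRingCat.ofHom ((Ideal.Quotient.mk ID).comp φ)) ≫
          Spec.map (CommRingCat.ofHom ρ) := by
    refine ⟨Spec.map (CommRingCat.ofHom
      (Ideal.quotientMap ID (algebraMap R D) Ideal.le_comap_map)), ?_⟩
    rw [← Spec.map_comp, ← Spec.map_comp, ← CommRingCat.ofHom_comp, ← CommRingCat.ofHom_comp,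
      Ideal.quotientMap_comp_mk]
  obtain ⟨t₂, -, huniq⟩ := h _ _ hfac2
  have ha₁ : Spec.map (CommRingCat.ofHom (Ideal.Quotient.mk ID)) ≫ Spec.map (CommRingCat.ofHom φ) =
      Spec.map (CommRingCat.ofHom ((Ideal.Quotient.mk ID).comp φ)) := by
    rw [← Spec.map_comp, ← CommRingCat.ofHom_comp]
  have ha₂ : Spec.map (CommRingCat.ofHom (φb.comp ψ₀)) ≫ Spec.map (CommRingCat.ofHom φ) =
      Spec.map (CommRingCat.ofHom ((Ideal.Quotient.mk ID).comp φ)) := by
    rw [← Spec.map_comp, ← CommRingCat.ofHom_comp, RingHom.comp_assoc, hψφ, hφb]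
  have hmk : Ideal.Quotient.mk ID = φb.comp ψ₀ := by
    have h1 := (huniq _ ha₁).trans (huniq _ ha₂).symm
    exact congrArg CommRingCat.Hom.hom (Spec.map_injective h1)
  have hsurj : ∀ d : D, ∃ c : C, φa c - d ∈ ID := by
    intro d
    obtain ⟨c, hc⟩ := Ideal.Quotient.mk_surjective (ψ₀ d)
    refine ⟨c, ?_⟩
    rw [← Ideal.Quotient.eq]
    have h1 : Ideal.Quotient.mk ID d = φb (ψ₀ d) := congrArg (fun f => f d) hmk
    rw [h1, ← hc]
    exact (Ideal.quotientMap_mk).symm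
  exact Groth.Agent.Lib.Seat37.NilIso.bijective_of_mod_nilpotent I hI φa hsurj hinj

/-- `HasLift` restricts to opens of the target. -/
theorem HasLift.restrict {Y Z : Scheme.{u}} {u : Y ⟶ Z} {q : Z ⟶ Spec (CommRingCat.of R)}
    (h : HasLift I u q) (V : Z.Opens) : HasLift I (u ∣_ V) (V.ι ≫ q) := by
  intro T t ht
  obtain ⟨t₀, ht₀⟩ := ht
  obtain ⟨t', ht', huniq⟩ := h T (t ≫ V.ι) ⟨t₀, by rw [ht₀, Category.assoc]⟩
  have hpb := isPullback_morphismRestrict u V
  refine ⟨hpb.lift t t' ht'.symm, hpb.lift_fst _ _ _, fun s hs => ?_⟩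
  apply hpb.hom_ext
  · rw [hs, hpb.lift_fst]
  · rw [hpb.lift_snd]
    apply huniq
    rw [Category.assoc, ← morphismRestrict_ι, ← Category.assoc, hs]

/-- `HasLift` is invariant under isomorphisms of source and target. -/
theorem HasLift.of_iso {Y Z Y' Z' : Scheme.{u}} {u : Y ⟶ Z} {q : Z ⟶ Spec (CommRingCat.of R)}
    (h : HasLift I u q) (eY : Y ≅ Y') (eZ : Z ≅ Z') (u' : Y' ⟶ Z')
    (q' : Z' ⟶ Spec (CommRingCat.of R)) (hu : eY.hom ≫ u' = u ≫ eZ.hom) (hq : eZ.hom ≫ q' = q) :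
    HasLift I u' q' := by
  intro T t ht
  obtain ⟨t₀, ht₀⟩ := ht
  obtain ⟨t', ht', huniq⟩ := h T (t ≫ eZ.inv) ⟨t₀, by
    rw [ht₀, ← hq, Category.assoc, Iso.inv_hom_id_assoc]⟩
  refine ⟨t' ≫ eY.hom, ?_, fun s hs => ?_⟩
  · show (t' ≫ eY.hom) ≫ u' = t
    rw [Category.assoc, hu, ← Category.assoc, ht', Category.assoc, Iso.inv_hom_id, Category.comp_id]
  · have : s ≫ eY.inv = t' := by
      apply huniq
      show (s ≫ eY.inv) ≫ u = t ≫ eZ.inv
      have h1 : eY.inv ≫ u = u' ≫ eZ.inv := by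
        rw [Iso.inv_comp_eq, ← Category.assoc, hu, Category.assoc, Iso.hom_inv_id, Category.comp_id]
      rw [Category.assoc, h1, ← Category.assoc, hs]
    rw [← this, Category.assoc, Iso.inv_hom_id, Category.comp_id]

/-- the affine case -/
theorem isIso_appTop_of_hasLift (hI : IsNilpotent I) {W V : Scheme.{u}} [IsAffine W] [IsAffine V]
    (g : W ⟶ V) (q : V ⟶ Spec (CommRingCat.of R)) [Flat (g ≫ q)] (h : HasLift I g q) :
    IsIso g.appTop := by
  let ρ' : CommRingCat.of R ⟶ Γ(V, ⊤) := (Scheme.ΓSpecIso (CommRingCat.of R)).inv ≫ q.appTop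
  have hq : V.isoSpec.hom ≫ Spec.map ρ' = q := by
    rw [Spec.map_comp, ← Category.assoc, Scheme.isoSpec_hom, ← Scheme.toSpecΓ_naturality,
      Category.assoc, toSpecΓ_SpecMap_ΓSpecIso_inv, Category.comp_id]
  have hg : W.isoSpec.hom ≫ Spec.map g.appTop = g ≫ V.isoSpec.hom :=
    Scheme.isoSpec_hom_naturality g
  have h' : HasLift I (Spec.map g.appTop) (Spec.map ρ') :=
    h.of_iso I W.isoSpec V.isoSpec _ _ hg hq
  have hflat : (g.appTop.hom.comp ρ'.hom).Flat := by
    have h1 : ((g ≫ q).appTop).hom.Flat :=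
      (HasRingHomProperty.iff_of_isAffine (P := @Flat)).mp (inferInstance : Flat (g ≫ q))
    have h2 : g.appTop.hom.comp ρ'.hom =
        ((g ≫ q).appTop).hom.comp (Scheme.ΓSpecIso (CommRingCat.of R)).inv.hom := by
      rw [Scheme.Hom.comp_appTop]
      rfl
    rw [h2]
    refine RingHom.Flat.comp (RingHom.Flat.of_bijective ?_) h1
    exact (ConcreteCategory.isIso_iff_bijective (Scheme.ΓSpecIso (CommRingCat.of R)).inv).mp
      inferInstance
  have hb := bijective_of_hasLift_spec I hI ρ'.hom g.appTop.hom hflat (by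
    simpa only [CommRingCat.ofHom_hom] using h')
  exact (ConcreteCategory.isIso_iff_bijective _).mpr hb

/-- for a homeomorphism `u`, every point of the target has an affine open neighbourhood with affine
preimage -/
theorem exists_affine_preimage_affine {Y Z : Scheme.{u}} (u : Y ⟶ Z) (hopen : IsOpenMap u)
    (hbij : Function.Bijective u) (z : Z) :
    ∃ V : Z.Opens, IsAffineOpen V ∧ z ∈ V ∧ IsAffineOpen (u ⁻¹ᵁ V) := by
  obtain ⟨y, rfl⟩ := hbij.2 z
  obtain ⟨V₁, hV₁, hyV₁, -⟩ := exists_isAffineOpen_mem_and_subset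
    (x := u y) (U := ⊤) trivial
  obtain ⟨W, hW, hyW, hWV⟩ := exists_isAffineOpen_mem_and_subset
    (x := y) (U := u ⁻¹ᵁ V₁) hyV₁
  have hWV' : W ≤ u ⁻¹ᵁ V₁ := hWV
  let O : Z.Opens := ⟨u '' W, hopen _ W.2⟩
  have hzO : u y ∈ O := ⟨y, hyW, rfl⟩
  obtain ⟨c, hcO, hzc⟩ := hV₁.exists_basicOpen_le ⟨u y, hzO⟩ hyV₁
  refine ⟨Z.basicOpen c, hV₁.basicOpen c, hzc, ?_⟩
  have h1 : u ⁻¹ᵁ Z.basicOpen c = Y.basicOpen (u.app V₁ c) := Scheme.preimage_basicOpen u c
  have h2 : u ⁻¹ᵁ Z.basicOpen c ≤ W := by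
    intro y' hy'
    obtain ⟨y'', hy''W, hy''⟩ := hcO hy'
    rw [← hbij.1 hy'']
    exact hy''W
  rw [h1] at h2 ⊢
  have h3 : Y.basicOpen (Y.presheaf.map (homOfLE hWV').op (u.app V₁ c)) =
      Y.basicOpen (u.app V₁ c) := by
    rw [Scheme.basicOpen_res]
    exact inf_eq_right.mpr h2
  rw [← h3]
  exact hW.basicOpen _

set_option backward.isDefEq.respectTransparency false in
/-- **Main lemma**: a homeomorphism with the unique lifting property modulo a nilpotent ideal, with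
flat source, is an isomorphism. -/
theorem isIso_of_hasLift (hI : IsNilpotent I) {Y Z : Scheme.{u}} (u : Y ⟶ Z)
    (q : Z ⟶ Spec (CommRingCat.of R)) [Flat (u ≫ q)] (h : HasLift I u q)
    (hopen : IsOpenMap u) (hbij : Function.Bijective u) : IsIso u := by
  choose V hV hzV hpre using exists_affine_preimage_affine u hopen hbij
  refine HasAffineProperty.of_iSup_eq_top (P := MorphismProperty.isomorphisms Scheme.{u})
    (Q := fun X _ f _ => IsAffine X ∧ IsIso f.appTop)
    (fun z => ⟨V z, hV z⟩) ?_ (fun z => ⟨hpre z, ?_⟩)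
  · rw [eq_top_iff]
    intro z _
    exact TopologicalSpace.Opens.mem_iSup.mpr ⟨z, hzV z⟩
  · haveI : IsAffine (V z).toScheme := hV z
    haveI : IsAffine (u ⁻¹ᵁ V z).toScheme := hpre z
    haveI : Flat (u ∣_ V z ≫ (V z).ι ≫ q) := by
      rw [← Category.assoc, morphismRestrict_ι, Category.assoc]
      infer_instance
    exact isIso_appTop_of_hasLift I hI (u ∣_ V z) ((V z).ι ≫ q) (h.restrict I (V z))

end Groth.Agent.Lib.Seat37.NilIsoSch
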