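import Mathlib
import Groth.Agent.Lib.Seat37NilIsoSch

/-! seat37: over `Spec R` with `I` a nilpotent ideal of `R`: a morphism `u : Y ⟶ Z` of `R`-schemes with
`Y` flat over `R` whose base change to `R ⧸ I` is an isomorphism is an isomorphism. -/

set_option autoImplicit false
set_option linter.style.haveILetI false
universe u

namespace Groth.Agent.Lib.Seat37.NilIsoOver

open CategoryTheory Limits AlgebraicGeometry Groth.Agent.Lib.Seat37.NilIsoSch

variable {R : Type u} [CommRing R] (I : Ideal R)

/-- the closed immersion `Spec (R ⧸ I) ⟶ Spec R` -/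
noncomputable abbrev iI : Spec (CommRingCat.of (R ⧸ I)) ⟶ Spec (CommRingCat.of R) :=
  Spec.map (CommRingCat.ofHom (Ideal.Quotient.mk I))

theorem surjective_iI (hI : IsNilpotent I) : Surjective (iI I) := by
  rw [surjective_iff]
  intro p
  have h1 : Set.range (PrimeSpectrum.comap (Ideal.Quotient.mk I)) =
      PrimeSpectrum.zeroLocus (RingHom.ker (Ideal.Quotient.mk I)) :=
    _root_.range_comap_of_surjective _ _ Ideal.Quotient.mk_surjective
  have h2 : PrimeSpectrum.zeroLocus (I : Set R) = Set.univ := by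
    rw [PrimeSpectrum.zeroLocus_eq_univ_iff]
    intro x hx
    obtain ⟨n, hn⟩ := hI
    refine ⟨n, ?_⟩
    have : x ^ n ∈ I ^ n := Ideal.pow_mem_pow hx n
    rw [hn] at this
    exact this
  rw [Ideal.mk_ker, h2] at h1
  have : p ∈ Set.range (PrimeSpectrum.comap (Ideal.Quotient.mk I)) := by rw [h1]; trivial
  obtain ⟨q, hq⟩ := this
  exact ⟨q, hq⟩

instance : IsClosedImmersion (iI I) :=
  IsClosedImmersion.spec_of_surjective _ Ideal.Quotient.mk_surjective

/-- the closed immersion `Y ×_R (R/I) ⟶ Y` is a homeomorphism -/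
noncomputable def homeoFst (hI : IsNilpotent I) {Y : Scheme.{u}} (f : Y ⟶ Spec (CommRingCat.of R)) :
    ↥(pullback f (iI I)) ≃ₜ ↥Y :=
  haveI := surjective_iI I hI
  (pullback.fst f (iI I)).isClosedEmbedding.isEmbedding.toHomeomorphOfSurjective
    (pullback.fst f (iI I)).surjective

theorem homeoFst_apply (hI : IsNilpotent I) {Y : Scheme.{u}} (f : Y ⟶ Spec (CommRingCat.of R))
    (y : ↥(pullback f (iI I))) : homeoFst I hI f y = pullback.fst f (iI I) y := rfl

variable {Y Z : Over (Spec (CommRingCat.of R))} (u : Y ⟶ Z)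

theorem map_left_fst :
    ((Over.pullback (iI I)).map u).left ≫ pullback.fst Z.hom (iI I) =
      pullback.fst Y.hom (iI I) ≫ u.left := by
  have h := Over.pullback_map_left (iI I) Y (k := u)
  rw [show Over.Hom.left ((Over.pullback (iI I)).map u) = _ from h, pullback.lift_fst]

theorem map_left_snd :
    ((Over.pullback (iI I)).map u).left ≫ pullback.snd Z.hom (iI I) =
      pullback.snd Y.hom (iI I) := by
  have h := Over.pullback_map_left (iI I) Y (k := u)
  rw [show Over.Hom.left ((Over.pullback (iI I)).map u) = _ from h, pullback.lift_snd]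

theorem hasLift_of_isIso (h : IsIso ((Over.pullback (iI I)).map u)) :
    HasLift I u.left Z.hom := by
  haveI : IsIso ((Over.pullback (iI I)).map u).left :=
    (inferInstance : IsIso ((Over.forget _).map ((Over.pullback (iI I)).map u)))
  intro T t ht
  obtain ⟨t₀, ht₀⟩ := ht
  let τ : T ⟶ pullback Z.hom (iI I) := pullback.lift t t₀ ht₀.symm
  refine ⟨τ ≫ inv ((Over.pullback (iI I)).map u).left ≫ pullback.fst Y.hom (iI I), ?_,
    fun s hs => ?_⟩
  · show (τ ≫ inv ((Over.pullback (iI I)).map u).left ≫ pullback.fst Y.hom (iI I)) ≫ u.left = t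
    rw [Category.assoc, Category.assoc, ← map_left_fst, IsIso.inv_hom_id_assoc, pullback.lift_fst]
  · have hs' : s ≫ u.left = t := hs
    have hsY : s ≫ Y.hom = t₀ ≫ iI I := by
      rw [ht₀, ← hs', Category.assoc, Over.w]
    have h1 : pullback.lift s t₀ hsY ≫ ((Over.pullback (iI I)).map u).left = τ := by
      apply pullback.hom_ext
      · rw [Category.assoc, map_left_fst, pullback.lift_fst_assoc, hs', pullback.lift_fst]
      · rw [Category.assoc, map_left_snd, pullback.lift_snd, pullback.lift_snd]
    rw [← h1, Category.assoc, IsIso.hom_inv_id_assoc, pullback.lift_fst]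

theorem isOpenMap_and_bijective_of_isIso (hI : IsNilpotent I)
    (h : IsIso ((Over.pullback (iI I)).map u)) :
    IsOpenMap u.left ∧ Function.Bijective u.left := by
  haveI : IsIso ((Over.pullback (iI I)).map u).left :=
    (inferInstance : IsIso ((Over.forget _).map ((Over.pullback (iI I)).map u)))
  let e₀ : ↥(pullback Y.hom (iI I)) ≃ₜ ↥(pullback Z.hom (iI I)) :=
    (asIso ((Over.pullback (iI I)).map u).left).schemeIsoToHomeo
  let eY := homeoFst I hI Y.hom
  let eZ := homeoFst I hI Z.hom
  have hfun : ⇑u.left = ⇑eZ ∘ ⇑e₀ ∘ ⇑eY.symm := by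
    funext y
    obtain ⟨y₀, rfl⟩ := eY.surjective y
    simp only [Function.comp_apply, Homeomorph.symm_apply_apply]
    have := congrArg (fun k => k y₀) (map_left_fst I u)
    exact this.symm
  rw [hfun]
  exact ⟨eZ.isOpenMap.comp (e₀.isOpenMap.comp eY.symm.isOpenMap),
    eZ.bijective.comp (e₀.bijective.comp eY.symm.bijective)⟩

/-- **Flat + isomorphism modulo a nilpotent ideal ⇒ isomorphism.** -/
theorem isIso_of_isIso_pullback_map (hI : IsNilpotent I) [Flat Y.hom]
    (h : IsIso ((Over.pullback (iI I)).map u)) : IsIso u := by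
  haveI : Flat (u.left ≫ Z.hom) := by rw [Over.w]; infer_instance
  obtain ⟨hopen, hbij⟩ := isOpenMap_and_bijective_of_isIso I u hI h
  haveI : IsIso u.left :=
    isIso_of_hasLift I hI u.left Z.hom (hasLift_of_isIso I u h) hopen hbij
  haveI : IsIso ((Over.forget (Spec (CommRingCat.of R))).map u) := ‹IsIso u.left›
  exact isIso_of_reflects_iso u (Over.forget _)

end Groth.Agent.Lib.Seat37.NilIsoOver
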