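import Groth.Agent.S2182
import Groth.Agent.S2183
import Groth.Agent.Lib.Helper11Genus

/-!
# The `768 g` bound for minimal numerical types (Stacks, Semistable Reduction §7)

For a minimal numerical type of genus `g ≥ 2` every `(-2)`-index `i` has
`m i * w i ≤ 64 * (6 g - 6)`.  The proof avoids the classification of Dynkin diagrams:
take a `(-2)`-index where `f = m w` is maximal and which is closest to the boundary
(the `(-2)`-indices meeting a non-`(-2)`-index); `f` is concave along a shortest path to the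
boundary and at most halves at each step, while a local analysis at the maximum shows that the
first drop of `f` is either `0` or at least `F / 7`.
-/

set_option autoImplicit false

namespace Groth.Agent.Lib.Seat37.NumType768

open Finset Models Models.NumericalType Groth.Agent.Lib.Helper11

variable {n : ℕ} (T : Models.NumericalType n)

/-- `f i = m i * w i` -/
def f (i : Fin n) : ℤ := T.m i * T.w i

theorem f_pos (i : Fin n) : 0 < f T i := mul_pos (T.m_pos i) (T.w_pos i)

/-- the term `a i j * m j` of the `i`-th row relation -/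
def tm (i j : Fin n) : ℤ := T.a i j * T.m j

theorem tm_nonneg {i j : Fin n} (h : j ≠ i) : 0 ≤ tm T i j :=
  mul_nonneg (T.offDiag_nonneg i j h.symm) (T.m_pos j).le

theorem a_pos_of_tm_pos {i j : Fin n} (h : 0 < tm T i j) : 0 < T.a i j := by
  unfold tm at h
  exact (mul_pos_iff_of_pos_right (T.m_pos j)).mp h

theorem row_eq {i : Fin n} (hi : T.IsMinusTwo i) :
    ∑ j ∈ univ.erase i, tm T i j = 2 * f T i := by
  have h := row_sum T i
  rw [← Finset.add_sum_erase univ (fun l => T.a i l * T.m l) (Finset.mem_univ i)] at h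
  rw [hi.2] at h
  unfold tm f
  linarith

theorem tm_eq {i j : Fin n} (h : 0 < T.a i j) : ∃ d : ℤ, 1 ≤ d ∧ tm T i j = d * f T j := by
  have hd : T.w j ∣ T.a i j := by rw [a_symm T i j]; exact T.w_dvd j i
  obtain ⟨d, hd⟩ := hd
  refine ⟨d, ?_, ?_⟩
  · have hw := T.w_pos j
    by_contra hcon
    have h0 : d ≤ 0 := by omega
    have := mul_nonpos_of_nonneg_of_nonpos hw.le h0
    omega
  · unfold tm f; rw [hd]; ring

theorem f_le_tm {i j : Fin n} (h : 0 < T.a i j) : f T j ≤ tm T i j := by
  obtain ⟨d, hd, he⟩ := tm_eq T h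
  rw [he]
  have := f_pos T j
  nlinarith

theorem ne_of_a_pos (hn : 1 < n) {i j : Fin n} (h : 0 < T.a i j) : j ≠ i := by
  rintro rfl
  have := diag_neg T hn j
  omega

theorem sum_le {i : Fin n} (hi : T.IsMinusTwo i) (A : Finset (Fin n)) (hA : i ∉ A) :
    ∑ j ∈ A, tm T i j ≤ 2 * f T i := by
  rw [← row_eq T hi]
  apply Finset.sum_le_sum_of_subset_of_nonneg
  · intro j hj
    exact Finset.mem_erase.mpr ⟨fun h => hA (h ▸ hj), mem_univ _⟩
  · intro j hj _
    exact tm_nonneg T (Finset.ne_of_mem_erase hj)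

open Classical in
theorem exists_other {i : Fin n} (hi : T.IsMinusTwo i) (A : Finset (Fin n)) (hA : i ∉ A)
    (hlt : ∑ j ∈ A, tm T i j < 2 * f T i) : ∃ k, k ∉ A ∧ k ≠ i ∧ 0 < tm T i k := by
  by_contra hcon
  push Not at hcon
  have key : ∑ j ∈ univ.erase i, tm T i j ≤ ∑ j ∈ A, tm T i j := by
    rw [← Finset.sum_filter_add_sum_filter_not (univ.erase i) (· ∈ A)]
    have h1 : ∑ j ∈ (univ.erase i).filter (· ∈ A), tm T i j = ∑ j ∈ A, tm T i j := by
      apply Finset.sum_congr _ (fun _ _ => rfl)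
      ext j
      simp only [mem_filter, mem_erase, mem_univ, and_true, and_iff_right_iff_imp]
      intro hj
      rintro rfl
      exact hA hj
    have h2 : ∑ j ∈ (univ.erase i).filter (fun j => ¬ j ∈ A), tm T i j ≤ 0 :=
      Finset.sum_nonpos (fun j hj => hcon j (Finset.mem_filter.mp hj).2
        (Finset.ne_of_mem_erase (Finset.mem_filter.mp hj).1))
    linarith
  rw [row_eq T hi] at key
  linarith

/-- a neighbour of a `(-2)`-index has `f` at most twice as large -/
theorem f_le_two {l k : Fin n} (hn : 1 < n) (hl : T.IsMinusTwo l) (h : 0 < T.a l k) :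
    f T k ≤ 2 * f T l := by
  have hk : k ≠ l := ne_of_a_pos T hn h
  have h1 := sum_le T hl {k} (by simpa using hk.symm)
  rw [Finset.sum_singleton] at h1
  have := f_le_tm T h
  linarith

/-! ### The local analysis -/

/-- If `k` is an interior `(-2)`-index adjacent to `i₀`, where `f i₀ = F`, and `2 f k ≤ F + 2 s`
with `6 s < F`, then `2 f k ≤ F`. -/
theorem half_of_adj (hn : 1 < n) {k i₀ : Fin n} {F s : ℤ} (hk : T.IsMinusTwo k)
    (hkint : ∀ l, 0 < T.a k l → T.IsMinusTwo l) (hki : 0 < T.a k i₀) (hF : f T i₀ = F)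
    (hk2 : 2 * f T k ≤ F + 2 * s) (hs : 6 * s < F) : 2 * f T k ≤ F := by
  by_contra hcon
  push Not at hcon
  have hi0k : i₀ ≠ k := ne_of_a_pos T hn hki
  obtain ⟨e, he1, hee⟩ := tm_eq T hki
  rw [hF] at hee
  have hFpos : 0 < F := hF ▸ f_pos T i₀
  have h1 := sum_le T hk {i₀} (by simpa using hi0k.symm)
  rw [Finset.sum_singleton] at h1
  -- e = 1
  have he : e = 1 := by
    by_contra hne
    have h2 : 2 ≤ e := by omega
    have : 2 * F ≤ e * F := by nlinarith
    linarith
  subst he
  rw [one_mul] at hee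
  obtain ⟨l, hlA, hlk, hlpos⟩ := exists_other T hk {i₀} (by simpa using hi0k.symm)
    (by rw [Finset.sum_singleton, hee]; exact hcon)
  have hl0 : l ≠ i₀ := by simpa using hlA
  have hal : 0 < T.a k l := a_pos_of_tm_pos T hlpos
  have hl2 : T.IsMinusTwo l := hkint l hal
  have h2 := sum_le T hk {i₀, l} (by
    simp only [mem_insert, mem_singleton, not_or]
    exact ⟨hi0k.symm, hlk.symm⟩)
  rw [Finset.sum_pair hl0.symm, hee] at h2
  have h3 := f_le_tm T hal
  have h4 : f T k ≤ 2 * f T l := f_le_two T hn hl2 (by rw [a_symm T l k]; exact hal)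
  linarith

/-- The local analysis at a maximum: the first drop of `f` from an interior maximum cannot lie
strictly between `0` and `F / 7`. -/
theorem local_gap (hn : 1 < n) {i₀ i₁ : Fin n} {F s : ℤ}
    (h0 : T.IsMinusTwo i₀) (hint0 : ∀ j, 0 < T.a i₀ j → T.IsMinusTwo j)
    (hint : ∀ k, 0 < T.a i₀ k → ∀ l, 0 < T.a k l → T.IsMinusTwo l)
    (hF : f T i₀ = F) (hmax : ∀ j, T.IsMinusTwo j → f T j ≤ F)
    (h01 : 0 < T.a i₀ i₁) (hs : f T i₁ = F - s) (hs0 : 0 < s) (hs7 : 7 * s < F) : False := by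
  have hFpos : 0 < F := hF ▸ f_pos T i₀
  -- facts about neighbours of `i₀`
  have nb : ∀ j, 0 < T.a i₀ j → T.IsMinusTwo j ∧ f T j ≤ F ∧ F ≤ 2 * f T j ∧ j ≠ i₀ := by
    intro j hj
    have hj2 := hint0 j hj
    refine ⟨hj2, hmax j hj2, ?_, ne_of_a_pos T hn hj⟩
    have := f_le_two T hn hj2 (by rw [a_symm T j i₀]; exact hj)
    rw [hF] at this
    exact this
  obtain ⟨-, -, -, h10⟩ := nb i₁ h01
  obtain ⟨d₁, hd₁, hx₁⟩ := tm_eq T h01
  rw [hs] at hx₁
  have hA1 : i₀ ∉ ({i₁} : Finset (Fin n)) := by simpa using h10.symm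
  have hle1 := sum_le T h0 {i₁} hA1
  rw [Finset.sum_singleton, hx₁, hF] at hle1
  -- d₁ ≤ 2
  have hd₁2 : d₁ ≤ 2 := by
    by_contra hcon
    have h3 : 3 ≤ d₁ := by omega
    have : 3 * (F - s) ≤ d₁ * (F - s) := by nlinarith
    linarith
  -- there is a second neighbour `k`
  have hlt1 : ∑ j ∈ ({i₁} : Finset (Fin n)), tm T i₀ j < 2 * f T i₀ := by
    rw [Finset.sum_singleton, hx₁, hF]
    have : d₁ * (F - s) ≤ 2 * (F - s) := by nlinarith
    linarith
  obtain ⟨k, hkA, hk0, hkpos⟩ := exists_other T h0 {i₁} hA1 hlt1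
  have hk1 : k ≠ i₁ := by simpa using hkA
  have hak : 0 < T.a i₀ k := a_pos_of_tm_pos T hkpos
  obtain ⟨hk2, hkF, hFk, -⟩ := nb k hak
  obtain ⟨dk, hdk, hxk⟩ := tm_eq T hak
  have hA2 : i₀ ∉ ({i₁, k} : Finset (Fin n)) := by
    simp only [mem_insert, mem_singleton, not_or]
    exact ⟨h10.symm, hk0.symm⟩
  have hle2 := sum_le T h0 {i₁, k} hA2
  rw [Finset.sum_pair hk1.symm, hx₁, hxk, hF] at hle2
  have hfk := f_pos T k
  -- d₁ = 1
  have hd₁1 : d₁ = 1 := by
    by_contra hne
    have h2 : d₁ = 2 := by omega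
    subst h2
    have : f T k ≤ dk * f T k := by nlinarith
    linarith
  subst hd₁1
  rw [one_mul] at hx₁ hle2
  -- dk ≤ 2
  have hdk2 : dk ≤ 2 := by
    by_contra hcon
    have h3 : 3 ≤ dk := by omega
    have : 3 * f T k ≤ dk * f T k := by nlinarith
    linarith
  have hkint : ∀ l, 0 < T.a k l → T.IsMinusTwo l := hint k hak
  have hki : 0 < T.a k i₀ := by rw [a_symm T k i₀]; exact hak
  rcases (by omega : dk = 2 ∨ dk = 1) with h2 | h1
  · -- the double edge case
    subst h2
    have hsum2 : ∑ j ∈ ({i₁, k} : Finset (Fin n)), tm T i₀ j = 2 * f T i₀ := by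
      by_contra hne
      have hlt2 : ∑ j ∈ ({i₁, k} : Finset (Fin n)), tm T i₀ j < 2 * f T i₀ :=
        lt_of_le_of_ne (sum_le T h0 {i₁, k} hA2) hne
      obtain ⟨k', hk'A, hk'0, hk'pos⟩ := exists_other T h0 {i₁, k} hA2 hlt2
      simp only [mem_insert, mem_singleton, not_or] at hk'A
      have hak' : 0 < T.a i₀ k' := a_pos_of_tm_pos T hk'pos
      obtain ⟨-, -, hFk', -⟩ := nb k' hak'
      have hA3 : i₀ ∉ ({i₁, k, k'} : Finset (Fin n)) := by
        simp only [mem_insert, mem_singleton, not_or]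
        exact ⟨h10.symm, hk0.symm, hk'0.symm⟩
      have hle3 := sum_le T h0 {i₁, k, k'} hA3
      rw [Finset.sum_insert (by
        simp only [mem_insert, mem_singleton, not_or]
        exact ⟨hk1.symm, fun h => hk'A.1 h.symm⟩), Finset.sum_pair (fun h => hk'A.2 h.symm),
        hx₁, hxk, hF] at hle3
      have := f_le_tm T hak'
      linarith
    rw [Finset.sum_pair hk1.symm, hx₁, hxk, hF] at hsum2
    have := half_of_adj T hn hk2 hkint hki hF (s := s) (by linarith) (by linarith)
    linarith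
  · -- two simple edges
    subst h1
    rw [one_mul] at hxk hle2
    have hlt2 : ∑ j ∈ ({i₁, k} : Finset (Fin n)), tm T i₀ j < 2 * f T i₀ := by
      rw [Finset.sum_pair hk1.symm, hx₁, hxk, hF]
      linarith
    obtain ⟨k', hk'A, hk'0, hk'pos⟩ := exists_other T h0 {i₁, k} hA2 hlt2
    simp only [mem_insert, mem_singleton, not_or] at hk'A
    have hak' : 0 < T.a i₀ k' := a_pos_of_tm_pos T hk'pos
    obtain ⟨hk'2, hk'F, hFk', -⟩ := nb k' hak'
    obtain ⟨dk', hdk', hxk'⟩ := tm_eq T hak'
    have hfk' := f_pos T k'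
    have hA3 : i₀ ∉ ({i₁, k, k'} : Finset (Fin n)) := by
      simp only [mem_insert, mem_singleton, not_or]
      exact ⟨h10.symm, hk0.symm, hk'0.symm⟩
    have hnm3 : i₁ ∉ ({k, k'} : Finset (Fin n)) := by
      simp only [mem_insert, mem_singleton, not_or]
      exact ⟨hk1.symm, fun h => hk'A.1 h.symm⟩
    have hkk' : k ≠ k' := fun h => hk'A.2 h.symm
    have hle3 := sum_le T h0 {i₁, k, k'} hA3
    rw [Finset.sum_insert hnm3, Finset.sum_pair hkk', hx₁, hxk, hxk', hF] at hle3
    have hdk'1 : dk' = 1 := by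
      by_contra hne
      have h2 : 2 ≤ dk' := by omega
      have : 2 * f T k' ≤ dk' * f T k' := by nlinarith
      linarith
    subst hdk'1
    rw [one_mul] at hxk' hle3
    have hsum3 : ∑ j ∈ ({i₁, k, k'} : Finset (Fin n)), tm T i₀ j = 2 * f T i₀ := by
      by_contra hne
      have hlt3 : ∑ j ∈ ({i₁, k, k'} : Finset (Fin n)), tm T i₀ j < 2 * f T i₀ :=
        lt_of_le_of_ne (sum_le T h0 {i₁, k, k'} hA3) hne
      obtain ⟨k'', hk''A, hk''0, hk''pos⟩ := exists_other T h0 {i₁, k, k'} hA3 hlt3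
      simp only [mem_insert, mem_singleton, not_or] at hk''A
      have hak'' : 0 < T.a i₀ k'' := a_pos_of_tm_pos T hk''pos
      obtain ⟨-, -, hFk'', -⟩ := nb k'' hak''
      have hA4 : i₀ ∉ ({k'', i₁, k, k'} : Finset (Fin n)) := by
        simp only [mem_insert, mem_singleton, not_or]
        exact ⟨hk''0.symm, h10.symm, hk0.symm, hk'0.symm⟩
      have hle4 := sum_le T h0 {k'', i₁, k, k'} hA4
      rw [Finset.sum_insert (by
        simp only [mem_insert, mem_singleton, not_or]
        exact ⟨hk''A.1, hk''A.2.1, hk''A.2.2⟩), Finset.sum_insert hnm3, Finset.sum_pair hkk',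
        hx₁, hxk, hxk', hF] at hle4
      have := f_le_tm T hak''
      linarith
    rw [Finset.sum_insert hnm3, Finset.sum_pair hkk', hx₁, hxk, hxk', hF] at hsum3
    have hk'int : ∀ l, 0 < T.a k' l → T.IsMinusTwo l := hint k' hak'
    have hk'i : 0 < T.a k' i₀ := by rw [a_symm T k' i₀]; exact hak'
    have e1 := half_of_adj T hn hk2 hkint hki hF (s := s) (by linarith) (by linarith)
    have e2 := half_of_adj T hn hk'2 hk'int hk'i hF (s := s) (by linarith) (by linarith)
    linarith

/-! ### Distance to the boundary -/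

/-- `Reach t i`: the `(-2)`-index `i` is joined to a boundary `(-2)`-index (one meeting a
non-`(-2)`-index) by a path of `t` steps through `(-2)`-indices. -/
inductive Reach : ℕ → Fin n → Prop
  | base {i : Fin n} : T.IsMinusTwo i → (∃ j, ¬ T.IsMinusTwo j ∧ 0 < T.a i j) → Reach 0 i
  | step {t : ℕ} {i j : Fin n} : Reach t j → T.IsMinusTwo i → 0 < T.a i j → Reach (t + 1) i

variable {T}

theorem Reach.isMinusTwo {t : ℕ} {i : Fin n} (h : Reach T t i) : T.IsMinusTwo i := by
  cases h <;> assumption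

variable (T)

open Classical in
theorem reach_all (hJ : ∃ j, ¬ T.IsMinusTwo j) (i : Fin n) (hi : T.IsMinusTwo i) :
    ∃ t, Reach T t i := by
  by_contra hcon
  let W : Finset (Fin n) := univ.filter (fun i => T.IsMinusTwo i ∧ ¬ ∃ t, Reach T t i)
  have hW : W.Nonempty := ⟨i, by simp only [W, mem_filter, mem_univ, true_and]; exact ⟨hi, hcon⟩⟩
  have hWne : W ≠ univ := by
    obtain ⟨j, hj⟩ := hJ
    intro h
    have : j ∈ W := h ▸ mem_univ j
    simp only [W, mem_filter, mem_univ, true_and] at this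
    exact hj this.1
  obtain ⟨a, ha, b, hb, hab⟩ := T.connected W hW hWne
  simp only [W, mem_filter, mem_univ, true_and] at ha hb
  have hne : a ≠ b := by
    rintro rfl
    exact hb ha
  have hpos : 0 < T.a a b := lt_of_le_of_ne (T.offDiag_nonneg a b hne) (Ne.symm hab)
  by_cases hb2 : T.IsMinusTwo b
  · have : ∃ t, Reach T t b := by
      by_contra h
      exact hb ⟨hb2, h⟩
    obtain ⟨t, ht⟩ := this
    exact ha.2 ⟨t + 1, Reach.step ht ha.1 hpos⟩
  · exact ha.2 ⟨0, Reach.base ha.1 ⟨b, hb2, hpos⟩⟩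

open Classical in
/-- the distance to the boundary (`0` by convention when unreachable) -/
noncomputable def dist (i : Fin n) : ℕ := if h : ∃ t, Reach T t i then Nat.find h else 0

open Classical in
theorem reach_dist {i : Fin n} (h : ∃ t, Reach T t i) : Reach T (dist T i) i := by
  unfold dist
  rw [dif_pos h]
  exact Nat.find_spec h

open Classical in
theorem dist_le {i : Fin n} {t : ℕ} (h : Reach T t i) : dist T i ≤ t := by
  unfold dist
  rw [dif_pos ⟨t, h⟩]
  exact Nat.find_min' _ h

theorem dist_succ {i : Fin n} {t : ℕ} (h : ∃ t, Reach T t i) (hd : dist T i = t + 1) :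
    ∃ j, 0 < T.a i j ∧ Reach T t j ∧ dist T j = t := by
  have hr := reach_dist T h
  rw [hd] at hr
  cases hr with
  | step hj hi ha =>
    rename_i j
    refine ⟨j, ha, hj, ?_⟩
    have h1 := dist_le T hj
    by_contra hne
    have hlt : dist T j < t := lt_of_le_of_ne h1 hne
    have h2 := dist_le T (Reach.step (reach_dist T ⟨t, hj⟩) hi ha)
    omega

/-- `f` at most doubles at each step away from the boundary -/
theorem f_le_pow (hn : 1 < n) {M : ℤ}
    (hB : ∀ b, T.IsMinusTwo b → (∃ j, ¬ T.IsMinusTwo j ∧ 0 < T.a b j) → f T b ≤ M)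
    {t : ℕ} {i : Fin n} (h : Reach T t i) : f T i ≤ 2 ^ t * M := by
  induction h with
  | base hi hb => simpa using hB _ hi hb
  | step hj hi ha ih =>
    have := f_le_two T hn hj.isMinusTwo (by rw [a_symm T _ _]; exact ha)
    rw [pow_succ]
    linarith

/-- concavity of `f` along a shortest path to the boundary -/
theorem descent (hn : 1 < n) (s : ℤ) :
    ∀ (L : ℕ) (i i' : Fin n), (∃ t, Reach T t i) → dist T i = L → 0 < T.a i i' →
      dist T i' = L + 1 → s ≤ f T i' - f T i → (L : ℤ) * s < f T i := by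
  intro L
  induction L with
  | zero =>
    intro i i' _ _ _ _ _
    simpa using f_pos T i
  | succ L ih =>
    intro i i' hr hd ha hd' hs
    obtain ⟨j, haj, hrj, hdj⟩ := dist_succ T hr hd
    have hi2 : T.IsMinusTwo i := (reach_dist T hr).isMinusTwo
    have hji : j ≠ i := ne_of_a_pos T hn haj
    have hi'i : i' ≠ i := ne_of_a_pos T hn ha
    have hi'j : i' ≠ j := by
      rintro rfl
      omega
    have hle := sum_le T hi2 {i', j} (by
      simp only [mem_insert, mem_singleton, not_or]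
      exact ⟨hi'i.symm, hji.symm⟩)
    rw [Finset.sum_pair hi'j] at hle
    have h1 := f_le_tm T ha
    have h2 := f_le_tm T haj
    have := ih j i ⟨L, hrj⟩ hdj (by rw [a_symm T j i]; exact haj) hd (by linarith)
    push_cast
    linarith

/-! ### The bound -/

open Classical in
theorem f_le (hmin : T.IsMinimal) (hn : 1 < n) (hg : 2 ≤ T.genus) (i : Fin n)
    (hi : T.IsMinusTwo i) : f T i ≤ 64 * (6 * T.genus - 6) := by
  set M : ℤ := 6 * T.genus - 6 with hM
  have hMpos : 0 < M := by omega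
  obtain ⟨-, h83⟩ := Groth.Agent.S2183.result T hmin hn hg
  -- there is a non-(-2)-index
  have hJ : ∃ j, ¬ T.IsMinusTwo j := by
    by_contra hcon
    push Not at hcon
    have h := two_genus T
    have h0 : ∑ i, T.m i * (2 * T.w i * (T.g i - 1) - T.a i i) = 0 := by
      apply Finset.sum_eq_zero
      intro i _
      rw [(hcon i).1, (hcon i).2]
      ring
    omega
  -- the boundary bound
  have hB : ∀ b, T.IsMinusTwo b → (∃ j, ¬ T.IsMinusTwo j ∧ 0 < T.a b j) → f T b ≤ M := by
    rintro b - ⟨j, hj, hbj⟩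
    have h1 := (h83 j hj).2.2 b
    have hw : T.w b ≤ T.a b j := Int.le_of_dvd hbj (T.w_dvd b j)
    have : T.m b * T.w b ≤ T.m b * T.a b j := mul_le_mul_of_nonneg_left hw (T.m_pos b).le
    unfold f
    linarith
  have hall := reach_all T hJ
  by_contra hcon
  push Not at hcon
  -- a maximum of `f` on the (-2)-indices
  let S : Finset (Fin n) := univ.filter (fun i => T.IsMinusTwo i)
  have hS : S.Nonempty := ⟨i, by simp only [S, mem_filter, mem_univ, true_and]; exact hi⟩
  obtain ⟨imax, himax, hmax'⟩ := Finset.exists_max_image S (f T) hS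
  set F : ℤ := f T imax with hFdef
  have hmax : ∀ j, T.IsMinusTwo j → f T j ≤ F := fun j hj =>
    hmax' j (by simp only [S, mem_filter, mem_univ, true_and]; exact hj)
  have hFbig : 64 * M < F := lt_of_lt_of_le hcon (hmax i hi)
  -- among the maxima, one closest to the boundary
  let S' : Finset (Fin n) := S.filter (fun i => f T i = F)
  have hS' : S'.Nonempty := ⟨imax, by simp only [S', mem_filter]; exact ⟨himax, rfl⟩⟩
  obtain ⟨i₀, hi₀, hmin₀⟩ := Finset.exists_min_image S' (dist T) hS'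
  simp only [S', S, mem_filter, mem_univ, true_and] at hi₀
  obtain ⟨h0, hF⟩ := hi₀
  have hr0 := hall i₀ h0
  have hpow := f_le_pow T hn hB (reach_dist T hr0)
  rw [hF] at hpow
  -- the distance is at least 7
  have hL7 : 7 ≤ dist T i₀ := by
    by_contra hlt
    have h6 : dist T i₀ ≤ 6 := by omega
    have : (2 : ℤ) ^ dist T i₀ ≤ 2 ^ 6 := pow_le_pow_right₀ (by norm_num) h6
    have h64 : (2 : ℤ) ^ 6 = 64 := by norm_num
    nlinarith
  obtain ⟨t, ht⟩ : ∃ t, dist T i₀ = t + 1 := ⟨dist T i₀ - 1, by omega⟩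
  obtain ⟨i₁, h01, hr1, hd1⟩ := dist_succ T hr0 ht
  have h12 : T.IsMinusTwo i₁ := hr1.isMinusTwo
  have hs0 : 0 < F - f T i₁ := by
    have hle := hmax i₁ h12
    rcases lt_or_eq_of_le hle with hlt | heq
    · linarith
    · exfalso
      have := hmin₀ i₁ (by
        simp only [S', S, mem_filter, mem_univ, true_and]
        exact ⟨h12, heq⟩)
      omega
  have hdesc := descent T hn (F - f T i₁) t i₁ i₀ ⟨t, hr1⟩ hd1
    (by rw [a_symm T i₁ i₀]; exact h01) ht (by rw [hF])
  have hs7 : 7 * (F - f T i₁) < F := by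
    have ht6 : (6 : ℤ) ≤ t := by
      have : 6 ≤ t := by omega
      exact_mod_cast this
    nlinarith
  -- interior conditions
  have hint0 : ∀ j, 0 < T.a i₀ j → T.IsMinusTwo j := by
    intro j hj
    by_contra hj2
    have := dist_le T (Reach.base h0 ⟨j, hj2, hj⟩)
    omega
  have hint : ∀ k, 0 < T.a i₀ k → ∀ l, 0 < T.a k l → T.IsMinusTwo l := by
    intro k hk l hl
    by_contra hl2
    have hk2 := hint0 k hk
    have h1 := hB k hk2 ⟨l, hl2, hl⟩
    have h2 := f_le_two T hn hk2 (by rw [a_symm T k i₀]; exact hk)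
    rw [hF] at h2
    linarith
  exact local_gap T hn h0 hint0 hint hF hmax h01 (s := F - f T i₁) (by ring) hs0 hs7

end Groth.Agent.Lib.Seat37.NumType768
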