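import Groth.Agent.S2184
import Groth.Agent.S2172
import Groth.Agent.S2179
import Groth.Agent.S2177
import Groth.Agent.Lib.Seat10NumPerm

/-!
# The `ℓ`-torsion of the Picard group of a numerical type (`ℓ > 768 g`)
-/

set_option autoImplicit false

namespace Groth.Agent.Lib.Seat37.PicTorsion

open Finset Models Models.NumericalType Groth.Agent.Lib.Helper11
open Groth.Agent.Lib.Seat10.NumPerm Groth.Agent.Lib.Seat10.Contraction

/-- the `ℓ`-torsion of a finitely generated abelian group is finite -/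
theorem finite_torsion (N : Type) [AddCommGroup N] [Module.Finite ℤ N] (ℓ : ℕ) (hℓ : ℓ ≠ 0) :
    Finite (Submodule.torsionBy ℤ N (ℓ : ℤ)) := by
  have : Module.Finite ℤ (Submodule.torsionBy ℤ N (ℓ : ℤ)) := inferInstance
  apply Module.finite_of_fg_torsion
  intro x
  refine ⟨⟨(ℓ : ℤ), mem_nonZeroDivisors_of_ne_zero (by exact_mod_cast hℓ)⟩, ?_⟩
  exact Submodule.smul_torsionBy (ℓ : ℤ) x

theorem card_torsion_le_of_injective {M N : Type} [AddCommGroup M] [AddCommGroup N]
    [Module.Finite ℤ N] (φ : M →+ N) (hφ : Function.Injective φ) (ℓ : ℕ) (hℓ : ℓ ≠ 0) :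
    Nat.card (Submodule.torsionBy ℤ M (ℓ : ℤ)) ≤ Nat.card (Submodule.torsionBy ℤ N (ℓ : ℤ)) := by
  have := finite_torsion N ℓ hℓ
  let g : Submodule.torsionBy ℤ M (ℓ : ℤ) → Submodule.torsionBy ℤ N (ℓ : ℤ) := fun x =>
    ⟨φ x.1, by
      rw [Submodule.mem_torsionBy_iff, ← map_zsmul, (Submodule.mem_torsionBy_iff _ _).mp x.2,
        map_zero]⟩
  apply Nat.card_le_card_of_injective g
  intro x y hxy
  apply Subtype.ext
  apply hφ
  exact congrArg Subtype.val hxy

variable {n : ℕ} (T : Models.NumericalType n)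

/-- the minimal case -/
theorem card_le_of_minimal (hmin : T.IsMinimal) (hg : 2 ≤ T.genus) (ℓ : ℕ) (hℓ : ℓ.Prime)
    (hℓg : 768 * T.genus < ℓ) :
    Nat.card (Submodule.torsionBy ℤ T.Pic (ℓ : ℤ)) ≤ ℓ ^ T.topGenus.toNat ∧
      T.topGenus ≤ T.genus := by
  rcases Nat.lt_or_ge 1 n with hn | hn
  · refine ⟨?_, Groth.Agent.S2177.result T hmin hn⟩
    obtain ⟨φ, hφ, -⟩ := Groth.Agent.S2179.result T
    have h1 := card_torsion_le_of_injective φ hφ ℓ hℓ.ne_zero
    have hb : ∀ i j, T.m i * |T.a i j| < ℓ := fun i j =>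
      lt_of_le_of_lt (Groth.Agent.S2184.result T hmin hg i j) hℓg
    have hℓA : ∀ i j, T.a i j ≠ 0 → ¬ ((ℓ : ℤ) ∣ T.a i j) := by
      intro i j hne hdvd
      apply hne
      apply Int.eq_zero_of_abs_lt_dvd hdvd
      have hm := T.m_pos i
      have h0 : 0 ≤ |T.a i j| := abs_nonneg _
      have := hb i j
      nlinarith
    have hℓm : ∀ i, ¬ ((ℓ : ℤ) ∣ T.m i) := by
      intro i hdvd
      have hm := T.m_pos i
      have hd := diag_neg T hn i
      have h1 : 1 ≤ |T.a i i| := by rw [abs_of_neg hd]; omega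
      have := hb i i
      have h0 : T.m i = 0 := by
        apply Int.eq_zero_of_abs_lt_dvd hdvd
        rw [abs_of_pos hm]
        nlinarith
      omega
    have h2 := Groth.Agent.S2172.result T.a T.m T.symm T.offDiag_nonneg T.m_pos T.mulVec_m
      T.connected ℓ hℓ hℓA hℓm
    have he : T.topGenus.toNat =
        (univ.filter fun p : Fin n × Fin n => p.1 < p.2 ∧ 0 < T.a p.1 p.2).card + 1 - n := by
      unfold NumericalType.topGenus NumericalType.edgeCount
      omega
    rw [he]
    exact h1.trans h2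
  · have hn1 : n = 1 := by have := T.pos; omega
    subst hn1
    obtain ⟨e⟩ := pic_equiv_int_one T
    have hsub : Subsingleton (Submodule.torsionBy ℤ T.Pic (ℓ : ℤ)) := by
      constructor
      intro a b
      have key : ∀ x : Submodule.torsionBy ℤ T.Pic (ℓ : ℤ), x.1 = 0 := by
        intro x
        have hx := (Submodule.mem_torsionBy_iff _ _).mp x.2
        have h2 : (ℓ : ℤ) • e x.1 = 0 := by rw [← map_zsmul, hx, map_zero]
        rw [smul_eq_mul] at h2
        rcases mul_eq_zero.mp h2 with h | h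
        · exact absurd (by exact_mod_cast h) hℓ.ne_zero
        · exact e.injective (by rw [h, map_zero])
      apply Subtype.ext
      rw [key a, key b]
    have h1 : Nat.card (Submodule.torsionBy ℤ T.Pic (ℓ : ℤ)) ≤ 1 :=
      Finite.card_le_one_iff_subsingleton.mpr hsub
    refine ⟨h1.trans (Nat.one_le_pow _ _ hℓ.pos), ?_⟩
    have he : T.edgeCount = 0 := by
      unfold NumericalType.edgeCount
      rw [Finset.card_eq_zero, Finset.filter_eq_empty_iff]
      rintro ⟨p, q⟩ _ ⟨hlt, -⟩
      have : p = q := Subsingleton.elim _ _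
      exact absurd hlt (this ▸ lt_irrefl _)
    unfold NumericalType.topGenus
    rw [he]
    push_cast
    omega

/-- the general bound, by contracting `(-1)`-indices -/
theorem card_le : ∀ (n : ℕ) (T : Models.NumericalType n), 2 ≤ T.genus → ∀ (ℓ : ℕ), ℓ.Prime →
    768 * T.genus < ℓ → Nat.card (Submodule.torsionBy ℤ T.Pic (ℓ : ℤ)) ≤ ℓ ^ T.genus.toNat := by
  intro n
  induction n with
  | zero => intro T; exact absurd T.pos (lt_irrefl 0)
  | succ k ih =>
    intro T hg ℓ hℓ hℓg
    by_cases hmin : T.IsMinimal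
    · obtain ⟨h1, h2⟩ := card_le_of_minimal T hmin hg ℓ hℓ hℓg
      exact h1.trans (Nat.pow_le_pow_right hℓ.pos (Int.toNat_le_toNat h2))
    · unfold NumericalType.IsMinimal at hmin
      push Not at hmin
      obtain ⟨i, hi⟩ := hmin
      let σ : Equiv.Perm (Fin (k + 1)) := Equiv.swap i (Fin.last k)
      have hl : (perm T σ).IsMinusOne (Fin.last k) := by
        rw [isMinusOne_perm]
        simpa [σ] using hi
      have hgen : (contract hl).genus = T.genus := by
        rw [genus_eq_of_isContraction hl _ (isContraction_contract hl), genus_perm]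
      obtain ⟨φ, hφ, -⟩ := exists_pic_hom hl _ (isContraction_contract hl)
      obtain ⟨e₂⟩ := nonempty_pic_equiv_perm T σ
      have h1 := card_torsion_le_of_injective (φ.comp e₂.toAddMonoidHom)
        (hφ.comp e₂.injective) ℓ hℓ.ne_zero
      have h2 := ih (contract hl) (by rw [hgen]; exact hg) ℓ hℓ (by rw [hgen]; exact hℓg)
      rw [hgen] at h2
      exact h1.trans h2

end Groth.Agent.Lib.Seat37.PicTorsion
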