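import Mathlib
import Groth.Prelude.Def_QuadGrp
import Groth.Agent.Lib.Seat37GPinOddAlg
import Groth.Agent.Lib.Seat37GPinFam

/-!
# Clifford norm on the Clifford group, odd rank (seat 37)

`Q` semiregular of rank `2 m + 1` on a module with basis `b`.
* `exists_polar_combination` (`1 ≤ m`): `∑ c i j * polar Q (b i) (b j) = 1` for some `c`;
* `norm_scalar`: for a locally homogeneous `U ∈ GPin' Q` the Clifford norm `star U * U` is a scalar;
* `yOf c`, `xOf c s`: the even unit `1 + s • ∑ c i j • b i * b j` (`s * s = 0`) of `GPin'` with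
  Clifford norm `1 + s * ∑ c i j * polar (b i) (b j)`.
-/

set_option autoImplicit false
set_option linter.unusedSectionVars false
universe u

namespace Groth.Agent.Lib.Seat37.PinOddAlg

open CliffordAlgebra TensorProduct QuadGrp
open Groth.Agent.Lib.Seat37.CliffGrade Groth.Agent.Lib.Seat37.CliffRank
  Groth.Agent.Lib.Seat37.CliffDescent Groth.Agent.Lib.Seat37.CliffPin
  Groth.Agent.Lib.Seat37.CliffZeta Groth.Agent.Lib.Seat37.GPinFam

section polar

variable {R : Type u} [CommRing R] {M : Type u} [AddCommGroup M] [Module R M] [Module.Free R M]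
  [Module.Finite R M]
variable (m : ℕ) (b : Module.Basis (Fin (2 * m + 1)) R M) (Q : QuadraticForm R M)
variable (hQ : IsSemiregular b (LinearEquiv.refl R R) Q)

include hQ in
theorem exists_polar_combination (hm : 1 ≤ m) :
    ∃ c : Fin (2 * m + 1) × Fin (2 * m + 1) → R,
      ∑ p, c p * QuadraticMap.polar Q (b p.1) (b p.2) = 1 := by
  obtain ⟨A, iA, iAlg, hff, hfp, ⟨φ⟩⟩ := Groth.Agent.Lib.Seat37.CliffSetup.exists_split m b Q hQ
  set E : Ideal R := Ideal.span (Set.range fun p : Fin (2 * m + 1) × Fin (2 * m + 1) =>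
    QuadraticMap.polar Q (b p.1) (b p.2)) with hE
  suffices h : E = ⊤ by
    have h1 : (1 : R) ∈ E := by rw [h]; trivial
    rw [hE, Ideal.mem_span_range_iff_exists_fun] at h1
    exact h1
  rw [← Ideal.comap_map_eq_self_of_faithfullyFlat (B := A) E]
  suffices h : E.map (algebraMap R A) = ⊤ by rw [h, Ideal.comap_top]
  rw [Ideal.eq_top_iff_one]
  set bA := Algebra.TensorProduct.basis A b with hbA
  set v := φ.symm (bv A m 1) with hv
  set w := φ.symm (bv A m 2) with hw
  have hpol : QuadraticMap.polar (baseChangeForm A Q) v w = 1 := by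
    have h1 : QuadraticMap.polar (baseChangeForm A Q) v w =
        QuadraticMap.polar (splitForm A (2 * m + 1)) (bv A m 1) (bv A m 2) := by
      unfold QuadraticMap.polar
      have e1 : ∀ x, baseChangeForm A Q (φ.symm x) = splitForm A (2 * m + 1) x := fun x => by
        have := φ.map_app (φ.symm x)
        rw [QuadraticMap.IsometryEquiv.apply_symm_apply] at this
        exact this.symm
      rw [hv, hw, ← map_add, e1, e1, e1]
    rw [h1, polar_bv A m (by omega) (by omega) (by omega), if_pos (Or.inl ⟨by norm_num, rfl⟩)]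
  have hsum := LinearMap.BilinForm.sum_repr_mul_repr_mul
    (B := QuadraticMap.polarBilin (baseChangeForm A Q)) bA v w
  rw [QuadraticMap.polarBilin_apply_apply, hpol] at hsum
  rw [← hsum]
  refine Ideal.sum_mem _ fun i _ => Ideal.sum_mem _ fun j _ => ?_
  beta_reduce
  rw [smul_eq_mul, smul_eq_mul]
  refine Ideal.mul_mem_left _ _ (Ideal.mul_mem_left _ _ ?_)
  rw [QuadraticMap.polarBilin_apply_apply, hbA, Algebra.TensorProduct.basis_apply,
    Algebra.TensorProduct.basis_apply,
    Groth.Agent.Lib.Helper25.HalfDisc.polar_baseChangeForm]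
  exact Ideal.mem_map_of_mem _ (Ideal.subset_span ⟨(i, j), rfl⟩)

end polar

section norm

variable {R : Type u} [CommRing R] {M : Type u} [AddCommGroup M] [Module R M] [Module.Free R M]
  [Module.Finite R M]
variable (m : ℕ) (b : Module.Basis (Fin (2 * m + 1)) R M) (Q : QuadraticForm R M)
variable (hQ : IsSemiregular b (LinearEquiv.refl R R) Q)

theorem norm_central (U : (CliffordAlgebra Q)ˣ) (hU : U ∈ GPin' Q) :
    star (U : CliffordAlgebra Q) * U ∈ Subalgebra.center R (CliffordAlgebra Q) := by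
  apply central_of_commute_ι
  intro v
  obtain ⟨w, hw⟩ := conj_mem_of_GPin' Q U hU v
  have h1 : (U : CliffordAlgebra Q) * ι Q v = ι Q w * U := by
    rw [← hw, mul_assoc, Units.inv_mul, mul_one]
  have h2 : ι Q v * star (U : CliffordAlgebra Q) = star (U : CliffordAlgebra Q) * ι Q w := by
    have := congrArg star h1
    rw [star_mul, star_mul, star_ι, star_ι, neg_mul, mul_neg, neg_inj] at this
    exact this
  rw [mul_assoc, h1, ← mul_assoc, ← h2, mul_assoc]

theorem norm_even (U : (CliffordAlgebra Q)ˣ) (e : R) (hee : e * e = e)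
    (h0 : e • (U : CliffordAlgebra Q) ∈ evenOdd Q 0)
    (h1 : (1 - e) • (U : CliffordAlgebra Q) ∈ evenOdd Q 1) :
    star (U : CliffordAlgebra Q) * U ∈ evenOdd Q 0 := by
  have hee' : (1 - e) * (1 - e) = 1 - e := by linear_combination hee
  have e1 : star (U : CliffordAlgebra Q) * U =
      star (e • (U : CliffordAlgebra Q)) * (e • (U : CliffordAlgebra Q)) +
      star ((1 - e) • (U : CliffordAlgebra Q)) * ((1 - e) • (U : CliffordAlgebra Q)) := by
    rw [CliffordAlgebra.star_smul, CliffordAlgebra.star_smul, smul_mul_smul_comm,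
      smul_mul_smul_comm, hee, hee', ← add_smul]
    have : e + (1 - e) = 1 := by ring
    rw [this, one_smul]
  rw [e1]
  refine Submodule.add_mem _ ?_ ?_
  · have := evenOdd_mul_mem Q 0 0 _ _ (star_mem_evenOdd Q h0) h0
    simpa using this
  · have := evenOdd_mul_mem Q 1 1 _ _ (star_mem_evenOdd Q h1) h1
    rwa [show ((1 : ZMod 2) + 1) = 0 from by decide] at this

include b hQ in
theorem norm_scalar (U : (CliffordAlgebra Q)ˣ) (hU : U ∈ GPin' Q) (e : R) (hee : e * e = e)
    (h0 : e • (U : CliffordAlgebra Q) ∈ evenOdd Q 0)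
    (h1 : (1 - e) • (U : CliffordAlgebra Q) ∈ evenOdd Q 1) :
    ∃ c : R, star (U : CliffordAlgebra Q) * U = algebraMap R _ c := by
  obtain ⟨A, iA, iAlg, hff, hfp, ⟨φ⟩⟩ := Groth.Agent.Lib.Seat37.CliffSetup.exists_split m b Q hQ
  obtain ⟨c, hc⟩ := even_central_scalar A Q m φ _ (norm_central Q U hU) (norm_even Q U e hee h0 h1)
  exact ⟨c, hc.symm⟩

end norm

section generic

variable {C : Type*} [Ring C]

theorem g1 (z : C) (hz : z * z = 0) : (1 + z) * (1 - z) = 1 := by
  have : (1 + z) * (1 - z) = 1 - z * z := by noncomm_ring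
  rw [this, hz, sub_zero]

theorem g1' (z : C) (hz : z * z = 0) : (1 - z) * (1 + z) = 1 := by
  have : (1 - z) * (1 + z) = 1 - z * z := by noncomm_ring
  rw [this, hz, sub_zero]

theorem g2 (z x : C) (hz : z * x * z = 0) : (1 + z) * x * (1 - z) = x + (z * x - x * z) := by
  have : (1 + z) * x * (1 - z) = x + (z * x - x * z) - z * x * z := by noncomm_ring
  rw [this, hz, sub_zero]

theorem g3 (z z' : C) (h : z' * z = 0) : (1 + z') * (1 + z) = 1 + (z + z') := by
  have : (1 + z') * (1 + z) = 1 + (z + z') + z' * z := by noncomm_ring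
  rw [this, h, add_zero]

end generic

section xOf

variable {R : Type u} [CommRing R] {M : Type u} [AddCommGroup M] [Module R M] [Module.Free R M]
  [Module.Finite R M]
variable {n : ℕ} (b : Module.Basis (Fin n) R M) (Q : QuadraticForm R M)
variable (c : Fin n × Fin n → R)

/-- `∑ c i j • b i * b j` -/
noncomputable def yOf : CliffordAlgebra Q := ∑ p, c p • (ι Q (b p.1) * ι Q (b p.2))

theorem yOf_even : yOf b Q c ∈ evenOdd Q 0 :=
  Submodule.sum_mem _ fun _ _ => Submodule.smul_mem _ _ (ι_mul_ι_mem_evenOdd_zero Q _ _)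

theorem yOf_add_star :
    yOf b Q c + star (yOf b Q c) =
      algebraMap R _ (∑ p, c p * QuadraticMap.polar Q (b p.1) (b p.2)) := by
  unfold yOf
  rw [star_sum, ← Finset.sum_add_distrib, map_sum]
  refine Finset.sum_congr rfl fun _ _ => ?_
  rw [CliffordAlgebra.star_smul, star_mul, star_ι, star_ι, neg_mul_neg, ← smul_add, map_mul,
    ← ι_mul_ι_add_swap, Algebra.smul_def]

/-- the vector `[y, v]` -/
noncomputable def brk (v : M) : M :=
  ∑ p, c p • (QuadraticMap.polar Q (b p.2) v • b p.1 - QuadraticMap.polar Q (b p.1) v • b p.2)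

theorem yOf_comm (v : M) : yOf b Q c * ι Q v - ι Q v * yOf b Q c = ι Q (brk b Q c v) := by
  unfold yOf brk
  rw [Finset.sum_mul, Finset.mul_sum, ← Finset.sum_sub_distrib, map_sum]
  refine Finset.sum_congr rfl fun p _ => ?_
  rw [map_smul, map_sub, map_smul, map_smul, smul_mul_assoc, mul_smul_comm, ← smul_sub]
  congr 1
  have h1 : ι Q (b p.2) * ι Q v = algebraMap R _ (QuadraticMap.polar Q (b p.2) v) -
      ι Q v * ι Q (b p.2) := by
    rw [← ι_mul_ι_add_swap]; abel
  have h2 : ι Q v * ι Q (b p.1) = algebraMap R _ (QuadraticMap.polar Q (b p.1) v) -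
      ι Q (b p.1) * ι Q v := by
    rw [← ι_mul_ι_add_swap]; abel
  calc ι Q (b p.1) * ι Q (b p.2) * ι Q v - ι Q v * (ι Q (b p.1) * ι Q (b p.2))
      = ι Q (b p.1) * (ι Q (b p.2) * ι Q v) - (ι Q v * ι Q (b p.1)) * ι Q (b p.2) := by
        simp only [mul_assoc]
    _ = QuadraticMap.polar Q (b p.2) v • ι Q (b p.1) -
        QuadraticMap.polar Q (b p.1) v • ι Q (b p.2) := by
        rw [h1, h2, mul_sub, sub_mul, ← Algebra.commutes, ← Algebra.smul_def,
          ← Algebra.smul_def]
        simp only [mul_assoc]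
        abel

variable (s : R) (hs : s * s = 0)

include hs in
theorem smul_yOf_sq (x : CliffordAlgebra Q) :
    (s • yOf b Q c) * x * (s • yOf b Q c) = 0 := by
  rw [smul_mul_assoc, smul_mul_assoc, mul_smul_comm, smul_smul, hs, zero_smul]

include hs in
theorem xOf_mul : (1 + s • yOf b Q c) * (1 - s • yOf b Q c) = 1 := by
  have h0 := smul_yOf_sq b Q c s hs 1
  rw [mul_one] at h0
  exact g1 _ h0

include hs in
theorem xOf_mul' : (1 - s • yOf b Q c) * (1 + s • yOf b Q c) = 1 := by
  have h0 := smul_yOf_sq b Q c s hs 1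
  rw [mul_one] at h0
  exact g1' _ h0

/-- the unit `1 + s • y` -/
noncomputable def xOf : (CliffordAlgebra Q)ˣ :=
  ⟨1 + s • yOf b Q c, 1 - s • yOf b Q c, xOf_mul b Q c s hs, xOf_mul' b Q c s hs⟩

theorem xOf_even : ((xOf b Q c s hs : (CliffordAlgebra Q)ˣ) : CliffordAlgebra Q) ∈ evenOdd Q 0 :=
  Submodule.add_mem _ (SetLike.one_mem_graded _) (Submodule.smul_mem _ _ (yOf_even b Q c))

include hs in
theorem conj_aux (v : M) :
    (1 + s • yOf b Q c) * ι Q v * (1 - s • yOf b Q c) = ι Q (v + s • brk b Q c v) := by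
  have h1 := yOf_comm b Q c v
  have h0 := smul_yOf_sq b Q c s hs (ι Q v)
  have e2 : (s • yOf b Q c) * ι Q v - ι Q v * (s • yOf b Q c) =
      s • (yOf b Q c * ι Q v - ι Q v * yOf b Q c) := by
    rw [smul_mul_assoc, mul_smul_comm, smul_sub]
  rw [g2 _ _ h0, e2, h1, map_add, map_smul]

theorem xOf_mem : xOf b Q c s hs ∈ GPin' Q := by
  rw [mem_GPin'_iff_forall]
  constructor
  · intro v
    exact ⟨_, conj_aux b Q c s hs v⟩
  · intro v
    have hs' : (-s) * (-s) = 0 := by rw [neg_mul_neg, hs]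
    have := conj_aux b Q c (-s) hs' v
    rw [neg_smul, ← sub_eq_add_neg, sub_neg_eq_add] at this
    exact ⟨_, this⟩

include hs in
theorem xOf_norm :
    star ((xOf b Q c s hs : (CliffordAlgebra Q)ˣ) : CliffordAlgebra Q) * (xOf b Q c s hs) =
      algebraMap R _ (1 + s * ∑ p, c p * QuadraticMap.polar Q (b p.1) (b p.2)) := by
  change star (1 + s • yOf b Q c) * (1 + s • yOf b Q c) = _
  have h1 := yOf_add_star b Q c
  have h0 : (s • star (yOf b Q c)) * (s • yOf b Q c) = 0 := by
    rw [smul_mul_smul_comm, hs, zero_smul]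
  rw [star_add, star_one, CliffordAlgebra.star_smul, g3 _ _ h0, ← smul_add, h1, map_add, map_one,
    map_mul, Algebra.smul_def]

end xOf

end Groth.Agent.Lib.Seat37.PinOddAlg
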