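import Mathlib
import Groth.Prelude.Def_QuadGrp2
import Groth.Agent.Lib.Seat37GPinOddSmooth
import Groth.Agent.Lib.Seat37PinOddAlg
import Groth.Agent.Lib.Seat37CliffStar

/-!
# The Pin group scheme of a semiregular form of odd rank at least three is smooth (seat 37)

`famP`: the equations of `GPin` and `star u * u = 1`; `exists_lift_Pin_odd`: infinitesimal lifting
(correct a lift in `GPin` by `1 + s • y` with `y + star y = 1`); `smooth_affine_pin`.
-/

set_option autoImplicit false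
set_option linter.unusedSectionVars false
universe u

namespace Groth.Agent.Lib.Seat37.PinOddSmooth

open CategoryTheory AlgebraicGeometry CliffordAlgebra TensorProduct QuadGrp Matrix
open Groth.Agent.S17014.Aux.HD Groth.Agent.Lib.Helper25.HalfDisc
open Groth.Agent.Lib.Seat37.CliffGrade Groth.Agent.Lib.Seat37.CliffBC
  Groth.Agent.Lib.Seat37.CliffRank Groth.Agent.Lib.Seat37.CliffPin
  Groth.Agent.Lib.Seat37.CliffConj Groth.Agent.Lib.Seat37.CliffAzumaya
  Groth.Agent.Lib.Seat37.TensCoord Groth.Agent.Lib.Seat37.GPinFam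
  Groth.Agent.Lib.Seat37.GPinPts Groth.Agent.Lib.Seat37.GPinLift
  Groth.Agent.Lib.Seat37.GPinOddFam Groth.Agent.Lib.Seat37.GPinOddAlg
  Groth.Agent.Lib.Seat37.GPinOddLift Groth.Agent.Lib.Seat37.GPinOddSmooth
  Groth.Agent.Lib.Seat37.PinOddAlg
  Groth.Agent.Lib.Seat37.PolyRep Groth.Agent.Lib.Seat37.QuadRel
  Groth.Agent.Lib.Seat37.QuadBridge Groth.Agent.Lib.Seat37.RepBridge

variable {R : Type u} [CommRing R]

section fam

variable {M : Type u} [AddCommGroup M] [Module R M] [Module.Free R M] [Module.Finite R M]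
variable (Q : QuadraticForm R M) {n : ℕ} (b : Module.Basis (Fin n) R M)

local notation "K" => Finset (Fin n)

section one

variable (A : Type u) [CommRing A] [Algebra R A]

/-- the Clifford norm equation in coordinates -/
noncomputable def normEq (t : (K ⊕ K) ⊕ Unit → A) : K → A :=
  co (cliffBasis b Q) A ((toCl Q A).symm
    (star (toCl Q A (uOf Q b A (t ∘ Sum.inl))) * toCl Q A (uOf Q b A (t ∘ Sum.inl)) - 1))

/-- the equations of `Pin` -/
noncomputable def famP (t : (K ⊕ K) ⊕ Unit → A) :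
    (((K ⊕ K) ⊕ ((Fin n × K) ⊕ (Fin n × K))) ⊕ (Unit ⊕ (K ⊕ K))) ⊕ K → A :=
  Sum.elim (famO Q b A t) (normEq Q b A t)

theorem famP_eq_zero_iff (t : (K ⊕ K) ⊕ Unit → A) :
    famP Q b A t = 0 ↔ famO Q b A t = 0 ∧
      star (toCl Q A (uOf Q b A (t ∘ Sum.inl))) * toCl Q A (uOf Q b A (t ∘ Sum.inl)) = 1 := by
  constructor
  · intro h
    refine ⟨?_, ?_⟩
    · funext p
      exact congrFun h (Sum.inl p)
    · rw [← sub_eq_zero, ← (toCl Q A).symm.map_eq_zero_iff,
        ← co_eq_zero_iff (cliffBasis b Q) A]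
      funext k
      exact congrFun h (Sum.inr k)
  · rintro ⟨h1, h2⟩
    funext p
    rcases p with p | k
    · exact congrFun h1 p
    · change normEq Q b A t k = 0
      unfold normEq
      rw [h2, sub_self, map_zero, (co_eq_zero_iff (cliffBasis b Q) A 0).mpr rfl]; rfl

theorem famP_tOfO_iff (U : (CliffordAlgebra (baseChangeForm A Q))ˣ) (e : A) :
    famP Q b A (tOfO Q b A U e) = 0 ↔
      (U ∈ GPin' (baseChangeForm A Q) ∧ e * e = e ∧
        e • (U : CliffordAlgebra (baseChangeForm A Q)) ∈ evenOdd (baseChangeForm A Q) 0 ∧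
        (1 - e) • (U : CliffordAlgebra (baseChangeForm A Q)) ∈ evenOdd (baseChangeForm A Q) 1) ∧
      star (U : CliffordAlgebra (baseChangeForm A Q)) * U = 1 := by
  rw [famP_eq_zero_iff, famO_tOfO_iff]
  have h1 : tOfO Q b A U e ∘ Sum.inl = tOf Q b A U := rfl
  rw [h1, uOf_tOf, AlgEquiv.apply_symm_apply]

end one

section two

variable {A B : Type u} [CommRing A] [Algebra R A] [CommRing B] [Algebra R B]

theorem Fφ_star (φ : A →ₐ[R] B) (x : CliffordAlgebra (baseChangeForm A Q)) :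
    Fφ Q φ (star x) = star (Fφ Q φ x) := by
  refine Groth.Agent.Lib.Seat37.CliffStar.ringHom_star _ _ (Fφ Q φ) (fun r => ?_) (fun v => ?_) x
  · rw [Fφ_algebraMap, star_algebraMap]
  · rw [Fφ_ι, star_ι]

theorem toCl_tmap (φ : A →ₐ[R] B) (w : A ⊗[R] CliffordAlgebra Q) :
    toCl Q B (tmap φ w) = Fφ Q φ (toCl Q A w) := by
  rw [Fφ_apply, AlgEquiv.symm_apply_apply]

theorem famP_nat (φ : A →ₐ[R] B) (t : (K ⊕ K) ⊕ Unit → A) :
    famP Q b B (φ ∘ t) = φ ∘ famP Q b A t := by
  funext p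
  rcases p with p | k
  · exact congrFun (famO_nat Q b φ t) p
  · change normEq Q b B (φ ∘ t) k = φ (normEq Q b A t k)
    unfold normEq
    have e1 : (φ ∘ t) ∘ Sum.inl = φ ∘ (t ∘ Sum.inl) := rfl
    rw [e1, uOf_comp, toCl_tmap, ← Fφ_star, ← map_mul, ← map_one (Fφ Q φ), ← map_sub,
      toCl_symm_Fφ, co_tmap]
    rfl

end two

end fam

section lift

variable {M : Type u} [AddCommGroup M] [Module R M] [Module.Free R M] [Module.Finite R M]
variable (Q : QuadraticForm R M)
variable (A : Type u) [CommRing A] [Algebra R A] (I : Ideal A)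
variable (m : ℕ) (b : Module.Basis (Fin (2 * m + 1)) R M)

local notation "QA" => baseChangeForm A Q
local notation "QI" => baseChangeForm (A ⧸ I) Q

include b in
theorem exists_lift_Pin_odd (hm : 1 ≤ m) (hI : I ^ 2 = ⊥)
    (hQA : IsSemiregular (Algebra.TensorProduct.basis A b) (LinearEquiv.refl A A) QA)
    (hQI : IsSemiregular (Algebra.TensorProduct.basis (A ⧸ I) b)
      (LinearEquiv.refl (A ⧸ I) (A ⧸ I)) QI)
    (hlift : ∀ gbar ∈ SO' QI, ∃ g ∈ SO' QA, ∀ v, rT A I (g v) = gbar (rT A I v))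
    (Ubar : (CliffordAlgebra QI)ˣ) (hU : Ubar ∈ GPin' QI) (ebar : A ⧸ I)
    (hee : ebar * ebar = ebar)
    (h0 : ebar • (Ubar : CliffordAlgebra QI) ∈ evenOdd QI 0)
    (h1 : (1 - ebar) • (Ubar : CliffordAlgebra QI) ∈ evenOdd QI 1)
    (hN : star (Ubar : CliffordAlgebra QI) * Ubar = 1) :
    ∃ (U : (CliffordAlgebra QA)ˣ) (e : A), (U ∈ GPin' QA ∧ e * e = e ∧
      e • (U : CliffordAlgebra QA) ∈ evenOdd QA 0 ∧
      (1 - e) • (U : CliffordAlgebra QA) ∈ evenOdd QA 1) ∧
      star (U : CliffordAlgebra QA) * U = 1 ∧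
      rho Q A I (U : CliffordAlgebra QA) = (Ubar : CliffordAlgebra QI) ∧
      Ideal.Quotient.mk I e = ebar := by
  obtain ⟨U, e, hUm, hee', he0, he1, hρ, hemk⟩ :=
    exists_lift_GPin_odd Q A I m b hI hQA hQI hlift Ubar hU ebar hee h0 h1
  obtain ⟨c0, hc0⟩ := norm_scalar m (Algebra.TensorProduct.basis A b) QA hQA U hUm e hee' he0 he1
  -- `c0 ≡ 1` modulo `I`
  have hc1 : Ideal.Quotient.mk I c0 = 1 := by
    have h2 := congrArg (rho Q A I) hc0
    rw [map_mul, Fφ_star, hρ, hN, Fφ_algebraMap] at h2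
    apply algebraMap_injective QI
    rw [map_one]
    exact h2.symm
  set t : A := c0 - 1 with ht
  have htI : t ∈ I := by
    rw [← Ideal.Quotient.eq_zero_iff_mem, ht, map_sub, hc1, map_one, sub_self]
  have htt : t * t = 0 := by
    have h : t * t ∈ I ^ 2 := by rw [pow_two]; exact Ideal.mul_mem_mul htI htI
    rwa [hI, Ideal.mem_bot] at h
  have hss : (-t) * (-t) = 0 := by rw [neg_mul_neg, htt]
  obtain ⟨cc, hcc⟩ := exists_polar_combination m (Algebra.TensorProduct.basis A b) QA hQA hm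
  set X := xOf (Algebra.TensorProduct.basis A b) QA cc (-t) hss with hX
  have hXn := xOf_norm (Algebra.TensorProduct.basis A b) QA cc (-t) hss
  rw [hcc, _root_.mul_one] at hXn
  have hXeven := xOf_even (Algebra.TensorProduct.basis A b) QA cc (-t) hss
  have hρX : rho Q A I (X : CliffordAlgebra QA) = 1 := by
    change rho Q A I (1 + (-t) • yOf (Algebra.TensorProduct.basis A b) QA cc) = 1
    rw [map_add, map_one, rho_smul, map_neg, Ideal.Quotient.eq_zero_iff_mem.mpr htI, neg_zero,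
      zero_smul, add_zero]
  refine ⟨U * X, e, ⟨(GPin' QA).mul_mem hUm (xOf_mem _ QA cc (-t) hss), hee', ?_, ?_⟩, ?_, ?_, hemk⟩
  · rw [Units.val_mul, ← smul_mul_assoc]
    have := evenOdd_mul_mem QA 0 0 _ _ he0 hXeven
    simpa using this
  · rw [Units.val_mul, ← smul_mul_assoc]
    have := evenOdd_mul_mem QA 1 0 _ _ he1 hXeven
    simpa using this
  · rw [Units.val_mul, star_mul]
    calc star (X : CliffordAlgebra QA) * star (U : CliffordAlgebra QA) * (U * X)
        = star (X : CliffordAlgebra QA) * (star (U : CliffordAlgebra QA) * U) * X := by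
          simp only [mul_assoc]
      _ = algebraMap A _ c0 * (star (X : CliffordAlgebra QA) * X) := by
          rw [hc0, ← Algebra.commutes, mul_assoc]
      _ = 1 := by
          rw [hXn, ← map_mul]
          have : c0 * (1 + -t) = 1 := by rw [ht]; linear_combination -htt
          rw [this, map_one]
  · rw [Units.val_mul, map_mul, hρ, hρX, _root_.mul_one]

end lift

section main

variable (m : ℕ) (Q : QuadraticForm R (Fin (2 * m + 1) → R))
  (hQ : IsSemiregular (Pi.basisFun R (Fin (2 * m + 1))) (LinearEquiv.refl R R) Q)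

local notation "bb" => Pi.basisFun R (Fin (2 * m + 1))

/-- the relations of `Pin` -/
noncomputable abbrev pinRel :=
  relOf (R := R) (fun (A : Type u) [CommRing A] [Algebra R A] => famP Q bb A)

theorem mem_Sol_pinRel (A : Type u) [CommRing A] [Algebra R A]
    (t : (Finset (Fin (2 * m + 1)) ⊕ Finset (Fin (2 * m + 1))) ⊕ Unit → A) :
    t ∈ Sol (pinRel m Q) A ↔ famP Q bb A t = 0 :=
  mem_Sol_relOf (fun (A : Type u) [CommRing A] [Algebra R A] => famP Q bb A)
    (fun _ _ _ _ _ _ φ t => famP_nat Q bb φ t) A t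

include hQ in
theorem formallySmooth_pin (hm : 1 ≤ m) : Algebra.FormallySmooth R (Alg (pinRel m Q)) := by
  apply formallySmooth_of_lifting
  intro C _ _ I hI w hw
  rw [mem_Sol_pinRel] at hw
  obtain ⟨Ubar, hUbar⟩ := tOfO_surj m Q (C ⧸ I) w ((famP_eq_zero_iff Q bb (C ⧸ I) w).mp hw).1
  have hw' := hw
  rw [← hUbar, famP_tOfO_iff] at hw'
  obtain ⟨⟨hU1, hU2, hU3, hU4⟩, hU5⟩ := hw'
  obtain ⟨U, e, hU, hN, hρ, hemk⟩ := exists_lift_Pin_odd Q C I m bb hm hI
    (isSemiregular_bc m Q hQ C) (isSemiregular_bc m Q hQ (C ⧸ I))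
    (fun gbar hg => exists_lift_sorth' m Q hQ C I hI gbar hg) Ubar hU1 _ hU2 hU3 hU4 hU5
  refine ⟨tOfO Q bb C U e,
    (mem_Sol_pinRel m Q C _).mpr ((famP_tOfO_iff Q bb C U e).mpr ⟨hU, hN⟩), ?_⟩
  intro s
  rw [← hUbar]
  rcases s with p | ⟨⟩
  · have h := tOf_map Q bb (Ideal.Quotient.mkₐ R I) U Ubar hρ.symm
    exact (congrFun h p).symm
  · exact hemk

open MonObj

variable {G : Over (Spec (CommRingCat.of R))} [GrpObj G] (D : PinRep Q G)

set_option maxHeartbeats 1600000 in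
include hQ D in
theorem smooth_affine_pin (hm : 1 ≤ m) : Smooth G.hom ∧ IsAffineHom G.hom := by
  have hmemG : ∀ (A : Type u) [CommRing A] [Algebra R A] (y : specOver R A ⟶ G),
      (((D.pts A y : ↥(pin Q A)) : (CliffordAlgebra (baseChangeForm A Q))ˣ) ∈
        GPin' (baseChangeForm A Q) ∧
      ((D.pts A y : ↥(pin Q A)) : (CliffordAlgebra (baseChangeForm A Q))ˣ) ∈
        LH (baseChangeForm A Q)) ∧
      star (((D.pts A y : ↥(pin Q A)) : (CliffordAlgebra (baseChangeForm A Q))ˣ) :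
        CliffordAlgebra (baseChangeForm A Q)) * ((D.pts A y : ↥(pin Q A)) :
          (CliffordAlgebra (baseChangeForm A Q))ˣ) = 1 := by
    intro A _ _ y
    have h := (D.pts A y).2
    obtain ⟨h1, h2⟩ := Subgroup.mem_inf.mp h
    exact ⟨Subgroup.mem_inf.mp h1, h2⟩
  refine smooth_and_affine (pinRel m Q)
    (fun (A : Type u) [CommRing A] [Algebra R A] (y : specOver R A ⟶ G) =>
      tOfO Q bb A ((D.pts A y : ↥(pin Q A)) : (CliffordAlgebra (baseChangeForm A Q))ˣ)
        (eOf (baseChangeForm A Q) _ (hmemG A y).1.2))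
    (fun A _ _ y => (mem_Sol_pinRel m Q A _).mpr ((famP_tOfO_iff Q bb A _ _).mpr
      ⟨⟨(hmemG A y).1.1, eOf_spec (baseChangeForm A Q) _ (hmemG A y).1.2⟩, (hmemG A y).2⟩))
    ?_ ?_ ⟨formallySmooth_pin m Q hQ hm, inferInstance⟩
  · intro A _ _
    constructor
    · intro y y' h
      have h1 := congrArg Subtype.val h
      have h2 : tOf Q bb A ((D.pts A y : ↥(pin Q A)) : (CliffordAlgebra (baseChangeForm A Q))ˣ) =
          tOf Q bb A ((D.pts A y' : ↥(pin Q A)) : (CliffordAlgebra (baseChangeForm A Q))ˣ) := by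
        funext p
        exact congrFun h1 (Sum.inl p)
      exact (D.pts A).injective (Subtype.ext (tOf_injective Q bb A h2))
    · rintro ⟨t, ht⟩
      rw [mem_Sol_pinRel] at ht
      obtain ⟨U, hU⟩ := tOfO_surj m Q A t ((famP_eq_zero_iff Q bb A t).mp ht).1
      have ht' := ht
      rw [← hU, famP_tOfO_iff] at ht'
      obtain ⟨⟨hU1, hU2, hU3, hU4⟩, hU5⟩ := ht'
      have hLH : U ∈ LH (baseChangeForm A Q) := ⟨t (Sum.inr ()), hU2, hU3, hU4⟩
      have hUg : U ∈ pin Q A :=
        Subgroup.mem_inf.mpr ⟨Subgroup.mem_inf.mpr ⟨hU1, hLH⟩, hU5⟩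
      refine ⟨(D.pts A).symm ⟨U, hUg⟩, Subtype.ext ?_⟩
      change tOfO Q bb A ((D.pts A ((D.pts A).symm ⟨U, hUg⟩) : ↥(pin Q A)) :
        (CliffordAlgebra (baseChangeForm A Q))ˣ) (eOf (baseChangeForm A Q) _ _) = t
      rw [← hU]
      have h3 : ((D.pts A ((D.pts A).symm ⟨U, hUg⟩) : ↥(pin Q A)) :
        (CliffordAlgebra (baseChangeForm A Q))ˣ) = U := by rw [MulEquiv.apply_symm_apply]
      funext p
      rcases p with p | ⟨⟩
      · change tOf Q bb A _ p = tOf Q bb A U p
        rw [h3]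
      · change eOf (baseChangeForm A Q) _ _ = t (Sum.inr ())
        apply eOf_eq
        · rw [h3]; exact hU3
        · rw [h3]; exact hU4
  · intro A B _ _ _ _ φ y
    have hnat := D.natural A B φ (Fφ Q φ) (Fφ_ι Q φ) (Fφ_algebraMap Q φ) y
    funext p
    rcases p with p | ⟨⟩
    · exact congrFun (tOf_map Q bb φ _ _ hnat) p
    · change eOf (baseChangeForm B Q) _ _ = φ (eOf (baseChangeForm A Q) _ _)
      obtain ⟨-, s0, s1⟩ := eOf_spec (baseChangeForm A Q) _ (hmemG A y).1.2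
      apply eOf_eq
      · rw [hnat, ← Fφ_smul]
        exact Fφ_mem Q φ 0 _ s0
      · rw [hnat, ← map_one φ, ← map_sub, ← Fφ_smul]
        exact Fφ_mem Q φ 1 _ s1

end main

end Groth.Agent.Lib.Seat37.PinOddSmooth
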