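import Mathlib
import Groth.Agent.Lib.Seat37QuadBridge

/-!
# Supplements to the bridge (seat 37)

* `hS_sorth'`, `hS_orth`: the point conditions of `sorth'`/`orth` in the form needed by
  `QuadBridge.nonempty_iso`, stated over a general base ring;
* `isReduced_of_iso`, `flat_of_iso`: transport of reducedness and flatness along
  `Spec A ≅ G` over `Spec R`.
-/

set_option autoImplicit false
set_option linter.unusedSectionVars false
set_option linter.style.haveILetI false
universe u

namespace Groth.Agent.Lib.Seat37.QuadBridgeS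

open CategoryTheory AlgebraicGeometry TensorProduct Matrix QuadGrp
open Groth.Agent.S17014.Aux.HD
open Groth.Agent.Lib.Seat37.QuadBridge
open Groth.Agent.Lib.Seat68.GrassHilb Groth.Agent.Lib.Seat68.GrassRep

variable {R : Type u} [CommRing R] {n : ℕ}

theorem hS_sorth' (Q : QuadraticForm R (Fin n → R)) :
    ∀ (A : Type u) [CommRing A] [Algebra R A]
      (g : (A ⊗[R] (Fin n → R)) ≃ₗ[A] (A ⊗[R] (Fin n → R))),
      g ∈ sorth' Q A ↔
        (cc (algebraMap R A ∘ coeffs (Pi.basisFun R (Fin n)) (LinearEquiv.refl R R) Q) (mat A g) =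
          algebraMap R A ∘ coeffs (Pi.basisFun R (Fin n)) (LinearEquiv.refl R R) Q ∧
        (true = true → (mat A g).det = 1)) := by
  intro A _ _ g
  rw [mem_sorth'_iff]
  exact ⟨fun h => ⟨h.1, fun _ => h.2⟩, fun h => ⟨h.1, h.2 rfl⟩⟩

variable (A : Type u) [CommRing A] [Algebra R A] {G : Over (Spec (CommRingCat.of R))}
  (c : ov (CommAlgCat.of R A) ≅ G)

include c in
theorem isReduced_of_iso (h : _root_.IsReduced A) : AlgebraicGeometry.IsReduced G.left := by
  haveI : IsIso c.inv.left := (Over.forget _).map_isIso c.inv
  haveI : AlgebraicGeometry.IsReduced (ov (CommAlgCat.of R A)).left := by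
    change AlgebraicGeometry.IsReduced (Spec (CommRingCat.of A))
    rw [affine_isReduced_iff]
    exact h
  exact isReduced_of_isOpenImmersion c.inv.left

include c in
theorem flat_of_iso (h : AlgebraicGeometry.Flat G.hom) : Module.Flat R A := by
  haveI : IsIso c.inv.left := (Over.forget _).map_isIso c.inv
  have h1 : G.hom = c.inv.left ≫ Spec.map (CommRingCat.ofHom (algebraMap R A)) :=
    (Over.w c.inv).symm
  haveI : MorphismProperty.RespectsIso @AlgebraicGeometry.Flat :=
    (inferInstance : MorphismProperty.IsStableUnderBaseChange @AlgebraicGeometry.Flat).respectsIso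
  rw [h1, MorphismProperty.cancel_left_of_respectsIso (P := @AlgebraicGeometry.Flat),
    HasRingHomProperty.Spec_iff (P := @AlgebraicGeometry.Flat)] at h
  exact RingHom.flat_algebraMap_iff.mp h

end Groth.Agent.Lib.Seat37.QuadBridgeS
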