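import Mathlib
import Groth.Agent.Lib.Seat37QuadBridge

/-!
# Invertibility of the polar matrix of a non-degenerate form (seat 37)

`isUnit_det_PM`: for `Q` non-degenerate (`QuadGrp.IsNondeg`) on `R^n`, with `n` even or `2` a unit,
the polar matrix of the coefficient table of `Q` has unit determinant.
-/

set_option autoImplicit false
universe u

namespace Groth.Agent.Lib.Seat37.QuadDisc

open Matrix QuadGrp
open Groth.Agent.S17014.Aux.HD Groth.Agent.Lib.Helper25.HalfDisc
open Groth.Agent.Lib.Seat37.QuadBridge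

variable {R : Type u} [CommRing R] {n : ℕ}

theorem isUnit_det_PM_of_isRegular (Q : QuadraticForm R (Fin n → R)) (h : IsRegular Q) :
    IsUnit (PM (tabQ Q)).det := by
  rw [tabQ, PM_coeffs]
  set b := Pi.basisFun R (Fin n) with hb
  let e : (Fin n → R) ≃ₗ[R] Module.Dual R (Fin n → R) :=
    LinearEquiv.ofBijective (QuadraticMap.polarBilin Q) h
  have h1 := LinearEquiv.isUnit_det e b b.dualBasis
  have h2 : LinearMap.toMatrix b b.dualBasis (e : (Fin n → R) →ₗ[R] Module.Dual R (Fin n → R)) =
      (LinearMap.BilinForm.toMatrix b (QuadraticMap.polarBilin Q))ᵀ := by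
    ext i j
    rw [LinearMap.toMatrix_apply, Matrix.transpose_apply, LinearMap.BilinForm.toMatrix_apply,
      Module.Basis.dualBasis_repr]
    rfl
  rw [h2, det_transpose] at h1
  exact h1

theorem isUnit_det_PM_of_semiregular (m : ℕ) (Q : QuadraticForm R (Fin (2 * m + 1) → R))
    (h : IsSemiregular (Pi.basisFun R (Fin (2 * m + 1))) (LinearEquiv.refl R R) Q)
    (h2 : IsUnit (2 : R)) : IsUnit (PM (tabQ Q)).det := by
  rw [← eval_disc, disc_eq_two_mul, MvPolynomial.eval₂_mul, eval_two]
  exact h2.mul h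

theorem isUnit_det_PM (Q : QuadraticForm R (Fin n → R))
    (hQ : IsNondeg (Pi.basisFun R (Fin n)) (LinearEquiv.refl R R) Q)
    (h : Even n ∨ IsUnit (2 : R)) : IsUnit (PM (tabQ Q)).det := by
  by_cases he : Even n
  · exact isUnit_det_PM_of_isRegular Q (hQ.1 he)
  · have h2 : IsUnit (2 : R) := h.resolve_left he
    obtain ⟨m, rfl⟩ := Nat.not_even_iff_odd.mp he
    exact isUnit_det_PM_of_semiregular m Q (hQ.2 ⟨m, rfl⟩) h2

end Groth.Agent.Lib.Seat37.QuadDisc
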