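import Mathlib
import Groth.Agent.Lib.Seat37QuadRel

/-!
# Non-smoothness of the orthogonal group in odd rank when `2` is not a unit (seat 37)

`not_formallySmooth_O`: for a table `a` of odd rank with unit half-discriminant over a ring in
which `2` is not a unit, the coordinate algebra of the orthogonal group is not formally smooth:
over `C = k[x]/(x³)` (`k` a residue field of characteristic two) the point `(1 + x) • 1` modulo
`x²` does not lift.
-/

set_option autoImplicit false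
set_option linter.unusedSectionVars false
universe u

namespace Groth.Agent.Lib.Seat37.QuadNonSm

open Matrix QuadGrp
open Groth.Agent.S17014.Aux.HD Groth.Agent.Lib.Seat37.QuadTab Groth.Agent.Lib.Seat37.PolyRep
  Groth.Agent.Lib.Seat37.QuadRel

section cube

variable (k : Type u) [Field k]

/-- `k[x]/(x³)` -/
abbrev Cube : Type u := Polynomial k ⧸ Ideal.span {(Polynomial.X : Polynomial k) ^ 3}

/-- the class of `x` -/
noncomputable def xx : Cube k := Ideal.Quotient.mk _ Polynomial.X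

theorem xx_pow_three : xx k ^ 3 = 0 := by
  rw [xx, ← map_pow]
  exact Ideal.Quotient.eq_zero_iff_mem.mpr (Ideal.subset_span rfl)

/-- evaluation at `x = 0` -/
noncomputable def ev0 : Cube k →+* k :=
  Ideal.Quotient.lift _ (Polynomial.evalRingHom 0) (by
    intro p hp
    obtain ⟨q, rfl⟩ := Ideal.mem_span_singleton.mp hp
    simp)

theorem ev0_mk (p : Polynomial k) : ev0 k (Ideal.Quotient.mk _ p) = p.eval 0 := rfl

theorem ev0_of_sq_mul (c : Cube k) (h : xx k ^ 2 * c = 0) : ev0 k c = 0 := by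
  obtain ⟨p, rfl⟩ := Ideal.Quotient.mk_surjective c
  rw [xx, ← map_pow, ← map_mul, Ideal.Quotient.eq_zero_iff_mem, Ideal.mem_span_singleton] at h
  have h1 : (Polynomial.X : Polynomial k) ^ 2 * Polynomial.X ∣ Polynomial.X ^ 2 * p := by
    rw [← pow_succ]
    exact h
  have h2 : (Polynomial.X : Polynomial k) ∣ p :=
    (mul_dvd_mul_iff_left (pow_ne_zero 2 Polynomial.X_ne_zero)).mp h1
  rw [ev0_mk, ← Polynomial.coeff_zero_eq_eval_zero]
  exact Polynomial.X_dvd_iff.mp h2

variable {R : Type u} [CommRing R] [Algebra R k]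

theorem ev0_algebraMap (r : R) : ev0 k (algebraMap R (Cube k) r) = algebraMap R k r := by
  rw [IsScalarTower.algebraMap_apply R (Polynomial k) (Cube k), Ideal.Quotient.algebraMap_eq,
    ev0_mk, Polynomial.algebraMap_apply, Polynomial.eval_C]

end cube

section expand

variable {C : Type*} [CommRing C] {n : ℕ}

theorem expand (u s : C) (U W : Matrix (Fin n) (Fin n) C) :
    (u • (1 : Matrix (Fin n) (Fin n) C) + s • W)ᵀ * U * (u • 1 + s • W) =
      (u * u) • U + (u * s) • (Wᵀ * U + U * W) + (s * s) • (Wᵀ * U * W) := by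
  simp only [transpose_add, transpose_smul, transpose_one, Matrix.add_mul, Matrix.mul_add,
    Matrix.smul_mul, Matrix.mul_smul, Matrix.one_mul, Matrix.mul_one, smul_smul, smul_add]
  rw [mul_comm s u]
  abel

theorem cc_smul_one (u : C) (a : Sym2 (Fin n) → C) :
    cc a (u • (1 : Matrix (Fin n) (Fin n) C)) = (u * u) • a := by
  have e := expand u 0 (UM a) 0
  simp only [zero_smul, add_zero, mul_zero] at e
  rw [cc_eq_tab, e, tab_smul, tab_UM]

theorem cc_expand (u s : C) (huu : u * u = 1 + s) (hus : u * s = s) (hss : s * s = 0)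
    (a : Sym2 (Fin n) → C) (W : Matrix (Fin n) (Fin n) C) :
    cc a (u • (1 : Matrix (Fin n) (Fin n) C) + s • W) = a + s • (a + tab (PM a * W)) := by
  rw [cc_eq_tab, expand, huu, hus, hss, zero_smul, add_zero, tab_add, tab_smul, tab_smul,
    tab_UM, tab_transpose_mul_add, ← PM_eq]
  funext p
  simp only [Pi.add_apply, Pi.smul_apply, smul_eq_mul]
  ring

end expand

variable {R : Type u} [CommRing R]

theorem not_formallySmooth_O (m : ℕ) (a : Sym2 (Fin (2 * m + 1)) → R)
    (hd : IsUnit (MvPolynomial.eval₂ (Int.castRingHom R) a (halfDiscUniv (2 * m + 1))))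
    (h2 : ¬ IsUnit (2 : R)) : ¬ Algebra.FormallySmooth R (Alg (rel false a)) := by
  intro hfs
  obtain ⟨𝔪, hmax, h2m⟩ := exists_max_ideal_of_mem_nonunits (show (2 : R) ∈ nonunits R from h2)
  let _ : Field (R ⧸ 𝔪) := Ideal.Quotient.field 𝔪
  have h2k : (2 : R ⧸ 𝔪) = 0 := by
    have := Ideal.Quotient.eq_zero_iff_mem.mpr h2m
    rwa [map_ofNat] at this
  have h2C : (2 : Cube (R ⧸ 𝔪)) = 0 := by
    have := congrArg (algebraMap (R ⧸ 𝔪) (Cube (R ⧸ 𝔪))) h2k
    rwa [map_ofNat, map_zero] at this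
  set x : Cube (R ⧸ 𝔪) := xx (R ⧸ 𝔪) with hx
  have hx3 : x ^ 3 = 0 := xx_pow_three _
  set s : Cube (R ⧸ 𝔪) := x ^ 2 with hs
  set I : Ideal (Cube (R ⧸ 𝔪)) := Ideal.span {s} with hIdef
  have hss : s * s = 0 := by
    rw [hs]
    linear_combination x * hx3
  have hI : I ^ 2 = ⊥ := by
    rw [pow_two, hIdef, Ideal.span_singleton_mul_span_singleton, hss]
    exact Ideal.span_singleton_eq_bot.mpr rfl
  set u : Cube (R ⧸ 𝔪) := 1 + x with hu
  set ui : Cube (R ⧸ 𝔪) := 1 - x + x ^ 2 with hui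
  have huui : ui * u = 1 := by
    rw [hu, hui]
    linear_combination hx3
  have huu : u * u = 1 + s := by
    rw [hu, hs]
    linear_combination x * h2C
  have hus : u * s = s := by
    rw [hu, hs]
    linear_combination hx3
  -- the point modulo `I`
  set X0 : Matrix (Fin (2 * m + 1)) (Fin (2 * m + 1)) (Cube (R ⧸ 𝔪)) := u • 1 with hX0
  set aC : Sym2 (Fin (2 * m + 1)) → Cube (R ⧸ 𝔪) := algebraMap R (Cube (R ⧸ 𝔪)) ∘ a with haC
  have hcc0 : ∀ p, cc aC X0 p - aC p ∈ I := by
    intro p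
    rw [hX0, cc_smul_one, huu, Pi.smul_apply, smul_eq_mul]
    have : (1 + s) * aC p - aC p = aC p * s := by ring
    rw [this]
    exact Ideal.mul_mem_left _ _ (Ideal.subset_span rfl)
  let w : Var (2 * m + 1) → Cube (R ⧸ 𝔪) ⧸ I :=
    (Ideal.Quotient.mk I) ∘ vec X0 (ui ^ (2 * m + 1))
  have hw : w ∈ Sol (rel false a) (Cube (R ⧸ 𝔪) ⧸ I) := by
    rw [mem_Sol_iff]
    refine ⟨?_, ?_, fun h => absurd h (by simp)⟩
    · have hmk0 : ∀ p, Ideal.Quotient.mk I (aC p) =
          algebraMap R (Cube (R ⧸ 𝔪) ⧸ I) (a p) := fun p => by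
        rw [IsScalarTower.algebraMap_apply R (Cube (R ⧸ 𝔪)) (Cube (R ⧸ 𝔪) ⧸ I),
          Ideal.Quotient.algebraMap_eq]
        rfl
      have hmk : (fun p => Ideal.Quotient.mk I (aC p)) =
          (fun p => algebraMap R (Cube (R ⧸ 𝔪) ⧸ I) (a p)) := funext hmk0
      have h := cc_map (S := Cube (R ⧸ 𝔪)) (T := Cube (R ⧸ 𝔪) ⧸ I) (Ideal.Quotient.mk I) aC X0
      change cc (fun p => algebraMap R (Cube (R ⧸ 𝔪) ⧸ I) (a p))
        (X0.map (Ideal.Quotient.mk I)) = (fun p => algebraMap R (Cube (R ⧸ 𝔪) ⧸ I) (a p))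
      rw [← hmk]
      change cc ((Ideal.Quotient.mk I) ∘ aC) (X0.map (Ideal.Quotient.mk I)) = _
      rw [← h]
      funext p
      simp only [Function.comp]
      exact Ideal.Quotient.eq.mpr (hcc0 p)
    · change Ideal.Quotient.mk I (ui ^ (2 * m + 1)) * (X0.map (Ideal.Quotient.mk I)).det = 1
      rw [← RingHom.mapMatrix_apply, ← RingHom.map_det, ← map_mul, hX0, det_smul, det_one, mul_one,
        Fintype.card_fin, ← mul_pow, huui, one_pow, map_one]
  obtain ⟨v, hv, hvw⟩ := lifting_of_formallySmooth (Cube (R ⧸ 𝔪)) I hI w hw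
  obtain ⟨hcc, -, -⟩ := (mem_Sol_iff false a v).mp hv
  have hW : ∀ i j, ∃ c, vmat v i j = X0 i j + s * c := by
    intro i j
    have h := hvw (Sum.inl (i, j))
    have h' : vmat v i j - X0 i j ∈ I := Ideal.Quotient.eq.mp h
    obtain ⟨c, hc⟩ := Ideal.mem_span_singleton'.mp h'
    exact ⟨c, by linear_combination -hc⟩
  choose W hW using hW
  have hX' : vmat v = u • 1 + s • (Matrix.of W) := by
    ext i j
    rw [hW i j, hX0]
    simp
  set Wm : Matrix (Fin (2 * m + 1)) (Fin (2 * m + 1)) (Cube (R ⧸ 𝔪)) := Matrix.of W with hWm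
  -- expand the isometry condition
  have e1 : cc aC (vmat v) = aC + s • (aC + tab (PM aC * Wm)) := by
    rw [hX', cc_expand u s huu hus hss]
  have e2 : ∀ p, s * (aC p + tab (PM aC * Wm) p) = 0 := by
    intro p
    have := congrFun (hcc.symm.trans e1) p
    simp only [Pi.add_apply, Pi.smul_apply, smul_eq_mul] at this
    linear_combination -this
  -- pass to the residue field
  set ak : Sym2 (Fin (2 * m + 1)) → R ⧸ 𝔪 := algebraMap R (R ⧸ 𝔪) ∘ a with hak
  have hevC : ((ev0 (R ⧸ 𝔪) : Cube (R ⧸ 𝔪) →+* R ⧸ 𝔪) : _ → _) ∘ aC = ak := by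
    funext p
    exact ev0_algebraMap (R ⧸ 𝔪) (a p)
  have e3 : tab (PM ak * Wm.map (ev0 (R ⧸ 𝔪))) = ak := by
    funext p
    have h := ev0_of_sq_mul (R ⧸ 𝔪) _ (e2 p)
    rw [map_add] at h
    have h1 : ev0 (R ⧸ 𝔪) (aC p) = ak p := congrFun hevC p
    have h2 : ev0 (R ⧸ 𝔪) (tab (PM aC * Wm) p) = tab (PM ak * Wm.map (ev0 (R ⧸ 𝔪))) p := by
      have := congrFun (tab_map (ev0 (R ⧸ 𝔪)) (PM aC * Wm)) p
      rw [Matrix.map_mul, PM_map, hevC] at this
      exact this
    rw [h1, h2] at h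
    have h3 : ak p + ak p = 0 := by
      rw [← two_mul, h2k, zero_mul]
    linear_combination h - h3
  refine ne_tab_PM_mul h2k m ak ?_ _ e3
  have hcomp : (algebraMap R (R ⧸ 𝔪)).comp (Int.castRingHom R) = Int.castRingHom (R ⧸ 𝔪) :=
    RingHom.ext_int _ _
  have := MvPolynomial.eval₂_comp_left (algebraMap R (R ⧸ 𝔪)) (Int.castRingHom R) a
    (halfDiscUniv (2 * m + 1))
  rw [hcomp] at this
  rw [hak, ← this]
  exact (hd.map (algebraMap R (R ⧸ 𝔪))).ne_zero

end Groth.Agent.Lib.Seat37.QuadNonSm
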