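import Mathlib
import Groth.Agent.Lib.Helper6ReducedSmooth
import Groth.Agent.Lib.Seat37QuadSplitEven
import Groth.Agent.Lib.Seat37QuadRel

/-!
# The naive special orthogonal group of the even split form over `ℤ` (seat 37)

Ring-theoretic core: for `B` smooth over `ℤ` and `D ∈ B` with `D ^ 2 = 1` there is an idempotent
`e` with `2 e = 1 - D`; the quotient `B ⧸ (2 e)` is reduced, and it is not flat over `ℤ` as soon as
some ring map `B → ℤ` sends `e` to `1`.
-/

set_option autoImplicit false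
set_option linter.unusedSectionVars false
universe u

namespace Groth.Agent.Lib.Seat37.QuadSOEvenZ

open TensorProduct

section ring

/-- reducedness of `B ⧸ (2 e)` -/
theorem isReduced_quot_two_mul_idem {B : Type*} [CommRing B] [IsReduced B] (e : B)
    (he : e * e = e) (h2 : IsReduced (B ⧸ Ideal.span {(2 : B)})) :
    IsReduced (B ⧸ Ideal.span {2 * e}) := by
  constructor
  intro x hx
  obtain ⟨y, rfl⟩ := Ideal.Quotient.mk_surjective x
  obtain ⟨N, hN⟩ := hx
  rw [← map_pow, Ideal.Quotient.eq_zero_iff_mem, Ideal.mem_span_singleton'] at hN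
  obtain ⟨z, hz⟩ := hN
  have he' : (1 - e) * e = 0 := by rw [sub_mul, one_mul, he, sub_self]
  -- the part away from `e` vanishes
  have h1 : (1 - e) * y = 0 := by
    apply IsReduced.eq_zero
    refine ⟨N + 1, ?_⟩
    calc ((1 - e) * y) ^ (N + 1) = (1 - e) ^ N * y * ((1 - e) * y ^ N) := by
          rw [mul_pow, pow_succ, pow_succ]
          generalize (1 - e) ^ N = t
          ring
      _ = (1 - e) ^ N * y * ((1 - e) * (z * (2 * e))) := by rw [hz]
      _ = (1 - e) ^ N * y * (z * 2 * ((1 - e) * e)) := by ring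
      _ = 0 := by rw [he', mul_zero, mul_zero]
  -- the part on `e` is divisible by two
  have h3 : e * y ∈ Ideal.span {(2 : B)} := by
    rw [← Ideal.Quotient.eq_zero_iff_mem]
    apply h2.eq_zero
    refine ⟨N, ?_⟩
    rw [← map_pow, Ideal.Quotient.eq_zero_iff_mem, Ideal.mem_span_singleton']
    refine ⟨e ^ N * z * e, ?_⟩
    calc e ^ N * z * e * 2 = e ^ N * (z * (2 * e)) := by ring
      _ = e ^ N * y ^ N := by rw [hz]
      _ = (e * y) ^ N := by ring
  obtain ⟨w, hw⟩ := Ideal.mem_span_singleton'.mp h3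
  rw [Ideal.Quotient.eq_zero_iff_mem, Ideal.mem_span_singleton']
  refine ⟨w, ?_⟩
  calc w * (2 * e) = e * (w * 2) := by ring
    _ = e * (e * y) := by rw [hw]
    _ = (e * e) * y := by ring
    _ = e * y := by rw [he]
    _ = y - (1 - e) * y := by ring
    _ = y := by rw [h1, sub_zero]

/-- non-flatness of `B ⧸ (2 e)` -/
theorem not_flat_quot_two_mul_idem {R₀ : Type*} [CommRing R₀] [IsDomain R₀] {B : Type*} [CommRing B]
    [Algebra R₀ B] (e : B) (ψ : B →ₐ[R₀] R₀) (hψ : ψ e = 1) (h20 : (2 : R₀) ≠ 0)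
    (h2 : ¬ IsUnit (2 : R₀)) : ¬ Module.Flat R₀ (B ⧸ Ideal.span {2 * e}) := by
  intro hflat
  have hreg : IsSMulRegular (B ⧸ Ideal.span {2 * e}) (2 : R₀) :=
    Module.Flat.isSMulRegular_of_isRegular (IsRegular.of_ne_zero h20)
  have h0 : (2 : R₀) • (Ideal.Quotient.mk (Ideal.span {2 * e}) e) = (2 : R₀) • 0 := by
    rw [smul_zero]
    change Ideal.Quotient.mk (Ideal.span {2 * e}) ((2 : R₀) • e) = 0
    rw [Ideal.Quotient.eq_zero_iff_mem, Algebra.smul_def, map_ofNat]
    exact Ideal.subset_span rfl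
  have h1 := hreg h0
  rw [Ideal.Quotient.eq_zero_iff_mem, Ideal.mem_span_singleton'] at h1
  obtain ⟨z, hz⟩ := h1
  have h3 := congrArg ψ hz
  rw [map_mul, map_mul, hψ, map_ofNat, mul_one] at h3
  exact h2 (IsUnit.of_mul_eq_one (ψ z) ((mul_comm _ _).trans h3))

end ring

section smoothZ

variable (R₀ : Type u) [CommRing R₀] [IsDomain R₀] [CharZero R₀]
  (hmax : (Ideal.span {(2 : R₀)}).IsMaximal)
  (B : Type u) [CommRing B] [Algebra R₀ B] [Algebra.Smooth R₀ B]

include R₀ in
theorem isReduced_of_smooth_dom : IsReduced B :=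
  Groth.Agent.Lib.Helper6.isReduced_of_smooth R₀ B

include hmax in
theorem isReduced_quot_two : IsReduced (B ⧸ Ideal.span {(2 : B)}) := by
  let I : Ideal R₀ := Ideal.span {2}
  have : I.IsMaximal := hmax
  let _ : Field (R₀ ⧸ I) := Ideal.Quotient.field I
  have hsm : Algebra.Smooth (R₀ ⧸ I) ((R₀ ⧸ I) ⊗[R₀] B) := inferInstance
  have hred : IsReduced ((R₀ ⧸ I) ⊗[R₀] B) :=
    Groth.Agent.Lib.Helper6.isReduced_of_smooth (R₀ ⧸ I) _
  have e := Algebra.TensorProduct.quotIdealMapEquivQuotTensor B I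
  have hmap : I.map (algebraMap R₀ B) = Ideal.span {(2 : B)} := by
    rw [Ideal.map_span, Set.image_singleton, map_ofNat]
  rw [← hmap]
  exact isReduced_of_injective e.toRingEquiv.toRingHom e.injective

include hmax in
theorem exists_idem (D : B) (hD : D * D = 1) : ∃ e : B, e * e = e ∧ 2 * e = 1 - D := by
  have hred2 := isReduced_quot_two R₀ hmax B
  have hu : (1 - D) * (1 - D) = 2 * (1 - D) := by linear_combination hD
  have hmem : (1 - D) ∈ Ideal.span {(2 : B)} := by
    rw [← Ideal.Quotient.eq_zero_iff_mem]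
    apply hred2.eq_zero
    refine ⟨2, ?_⟩
    rw [← map_pow, pow_two, hu, Ideal.Quotient.eq_zero_iff_mem]
    exact Ideal.mul_mem_right _ _ (Ideal.subset_span rfl)
  obtain ⟨e, he⟩ := Ideal.mem_span_singleton'.mp hmem
  refine ⟨e, ?_, by rw [mul_comm]; exact he⟩
  have h4 : (4 : R₀) • (e * e - e) = (4 : R₀) • 0 := by
    rw [smul_zero, Algebra.smul_def, map_ofNat]
    have h5 : (e * 2) * (e * 2) = 2 * (e * 2) := by rw [he]; exact hu
    linear_combination h5
  have hreg : IsSMulRegular B (4 : R₀) :=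
    Module.Flat.isSMulRegular_of_isRegular (IsRegular.of_ne_zero (by exact_mod_cast (show (4 : ℕ) ≠ 0 by norm_num)))
  exact sub_eq_zero.mp (hreg h4)

end smoothZ

section ideals

open MvPolynomial Matrix
open Groth.Agent.S17014.Aux.HD Groth.Agent.Lib.Seat37.QuadTab Groth.Agent.Lib.Seat37.PolyRep
  Groth.Agent.Lib.Seat37.QuadRel

variable {R : Type u} [CommRing R] {n : ℕ} (a : Sym2 (Fin n) → R)

theorem relIdeal_false_le : relIdeal (rel false a) ≤ relIdeal (rel true a) := by
  rw [relIdeal, Ideal.span_le]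
  rintro _ ⟨i, rfl⟩
  rcases i with s | b
  · exact Ideal.subset_span ⟨Sum.inl s, rfl⟩
  · cases b
    · have : rel false a (Sum.inr false) = 0 := by simp [rel]
      rw [this]
      exact zero_mem _
    · exact Ideal.subset_span ⟨Sum.inr true, rfl⟩

theorem relIdeal_true_map :
    (relIdeal (rel true a)).map (Ideal.Quotient.mkₐ R (relIdeal (rel false a))) =
      Ideal.span {Ideal.Quotient.mk (relIdeal (rel false a)) (du R n) - 1} := by
  rw [relIdeal, Ideal.map_span]
  apply le_antisymm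
  · rw [Ideal.span_le]
    rintro _ ⟨_, ⟨i, rfl⟩, rfl⟩
    rcases i with s | b
    · have h0 : Ideal.Quotient.mkₐ R (relIdeal (rel false a)) (rel true a (Sum.inl s)) = 0 :=
        Ideal.Quotient.eq_zero_iff_mem.mpr (Ideal.subset_span ⟨Sum.inl s, rfl⟩)
      rw [h0]
      exact zero_mem _
    · cases b
      · have : rel true a (Sum.inr false) = du R n - 1 := by simp [rel]
        rw [this, map_sub, map_one]
        exact Ideal.subset_span rfl
      · have h0 : Ideal.Quotient.mkₐ R (relIdeal (rel false a)) (rel true a (Sum.inr true)) = 0 :=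
          Ideal.Quotient.eq_zero_iff_mem.mpr (Ideal.subset_span ⟨Sum.inr true, rfl⟩)
        rw [h0]
        exact zero_mem _
  · rw [Ideal.span_le]
    rintro _ rfl
    apply Ideal.subset_span
    refine ⟨rel true a (Sum.inr false), ⟨_, rfl⟩, ?_⟩
    have : rel true a (Sum.inr false) = du R n - 1 := by simp [rel]
    rw [this, map_sub, map_one]
    rfl

end ideals

section main

open MvPolynomial Matrix
open Groth.Agent.S17014.Aux.HD Groth.Agent.Lib.Seat37.QuadTab Groth.Agent.Lib.Seat37.PolyRep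
  Groth.Agent.Lib.Seat37.QuadRel Groth.Agent.Lib.Seat37.QuadSplitEven

/-- the coordinate ring of the naive special orthogonal group of the even split form over `ℤ`
is reduced and not flat. -/
theorem main (m : ℕ) (hm : 1 ≤ m) :
    IsReduced (Alg (rel true (bspE ℤ (2 * m)))) ∧
      ¬ Module.Flat ℤ (Alg (rel true (bspE ℤ (2 * m)))) := by
  classical
  set a : Sym2 (Fin (2 * m)) → ℤ := bspE ℤ (2 * m) with ha
  have hfs : Algebra.FormallySmooth ℤ (Alg (rel false a)) :=
    formallySmooth_O a (isUnit_det_PM_bspE ℤ m)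
  have hsm : Algebra.Smooth ℤ (Alg (rel false a)) := ⟨hfs, inferInstance⟩
  let B := Alg (rel false a)
  have hredB : IsReduced B := isReduced_of_smooth_dom ℤ B
  have hmax : (Ideal.span {(2 : ℤ)}).IsMaximal :=
    PrincipalIdealRing.isMaximal_of_irreducible Int.prime_two.irreducible
  -- the universal point
  have hU := toSol_mem (AlgHom.id ℤ B)
  rw [mem_Sol_iff] at hU
  obtain ⟨hU1, hU2, -⟩ := hU
  set vU : Var (2 * m) → B := toSol (AlgHom.id ℤ B) with hvU
  set X : Matrix (Fin (2 * m)) (Fin (2 * m)) B := vmat vU with hX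
  set δ : B := vdet vU with hδ
  set D : B := X.det with hDdef
  have hdiscB : IsUnit (PM (algebraMap ℤ B ∘ a)).det := by
    rw [← PM_map, ← RingHom.mapMatrix_apply, ← RingHom.map_det]
    exact (isUnit_det_PM_bspE ℤ m).map _
  have hD : D * D = 1 := by
    have h := congrArg Matrix.det (PM_cc (algebraMap ℤ B ∘ a) X)
    rw [hU1, det_mul, det_mul, det_transpose] at h
    have h' : (D * D) * (PM (algebraMap ℤ B ∘ a)).det = 1 * (PM (algebraMap ℤ B ∘ a)).det := by
      rw [one_mul]
      linear_combination -h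
    exact hdiscB.mul_left_injective h'
  have hδD : δ = D := by
    calc δ = δ * (D * D) := by rw [hD, mul_one]
      _ = (δ * D) * D := by ring
      _ = D := by rw [hU2, one_mul]
  obtain ⟨e, he1, he2⟩ := exists_idem ℤ hmax B D hD
  have hδ' : δ = Ideal.Quotient.mk (relIdeal (rel false a)) (du ℤ (2 * m)) := rfl
  have hK : (relIdeal (rel true a)).map (Ideal.Quotient.mkₐ ℤ (relIdeal (rel false a))) =
      Ideal.span {2 * e} := by
    rw [relIdeal_true_map, ← hδ', hδD, he2, ← Ideal.span_singleton_neg, neg_sub]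
  let E3 : (B ⧸ Ideal.span {2 * e}) ≃ₐ[ℤ] Alg (rel true a) :=
    (Ideal.quotientEquivAlgOfEq ℤ hK).symm.trans
      (DoubleQuot.quotQuotEquivQuotOfLEₐ ℤ (relIdeal_false_le a))
  -- the reflection point
  obtain ⟨Xr, hXr1, hXr2⟩ := exists_reflection ℤ m hm
  have hv : QuadRel.vec Xr (-1) ∈ Sol (rel false a) ℤ := by
    rw [mem_Sol_iff]
    refine ⟨?_, ?_, fun h => absurd h (by simp)⟩
    · have : algebraMap ℤ ℤ ∘ a = a := by
        funext p
        simp
      rw [this, vmat_vec]
      exact hXr1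
    · rw [vmat_vec, vdet_vec, hXr2]
      norm_num
  let ψ : B →ₐ[ℤ] ℤ := ofSol (QuadRel.vec Xr (-1)) hv
  have hψX : X.map (ψ : B →+* ℤ) = Xr := by
    have h1 : toSol (ψ.comp (AlgHom.id ℤ B)) = ψ ∘ vU := toSol_comp ψ (AlgHom.id ℤ B)
    rw [AlgHom.comp_id, toSol_ofSol] at h1
    rw [hX, ← vmat_comp (ψ : B →+* ℤ) vU]
    have h2 : ((ψ : B →+* ℤ) : B → ℤ) ∘ vU = QuadRel.vec Xr (-1) := h1.symm
    rw [h2, vmat_vec]
  have hψD : ψ D = -1 := by
    have h1 : ψ D = ((ψ : B →+* ℤ)) X.det := rfl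
    rw [h1, RingHom.map_det, RingHom.mapMatrix_apply, hψX, hXr2]
  have hψe : ψ e = 1 := by
    have h := congrArg ψ he2
    rw [map_mul, map_sub, map_one, hψD, map_ofNat] at h
    omega
  constructor
  · have hred := isReduced_quot_two_mul_idem e he1 (isReduced_quot_two ℤ hmax B)
    exact isReduced_of_injective E3.symm.toRingEquiv.toRingHom E3.symm.injective
  · intro hflat
    apply not_flat_quot_two_mul_idem e ψ hψe two_ne_zero (by decide)
    exact Module.Flat.of_linearEquiv E3.toLinearEquiv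

end main

end Groth.Agent.Lib.Seat37.QuadSOEvenZ
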