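import Mathlib
import Groth.Prelude.Def_W4sga3xiixivxvCartan
import Groth.Agent.Lib.Seat37RankBC
import Groth.Agent.Lib.Seat37RegLocus

/-!
# The universal characteristic polynomial of `ad` on a projective Lie algebra

For a Lie algebra `L` over `A` which is a retract `s ∘ i = id` of `A ^ n`, the coefficients of the
characteristic polynomial of `i ∘ ad a ∘ s` are polynomial functions of `a`, compatibly with every base change.
Over a reduced ring, the coefficients of index below the (shifted) rank of the fibres vanish identically.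
-/

set_option autoImplicit false
universe u

open scoped TensorProduct
open Module

namespace Groth.Agent.Lib.Seat37.UnivCharpoly

open Groth.Agent.Lib.Seat37.RankBC Groth.Agent.Lib.Seat37.RegLocus

variable {A : Type u} [CommRing A] {L : Type u} [LieRing L] [LieAlgebra A L]
  {n : ℕ} (s : (Fin n → A) →ₗ[A] L) (i : L →ₗ[A] (Fin n → A))

/-- The linear family `x ↦ i ∘ ad (s x) ∘ s` of endomorphisms of `A ^ n`. -/
noncomputable def fam : (Fin n → A) →ₗ[A] Module.End A (Fin n → A) where
  toFun x := i ∘ₗ (LieAlgebra.ad A L (s x)) ∘ₗ s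
  map_add' x y := by
    apply LinearMap.ext
    intro z
    simp only [map_add, LinearMap.comp_apply, LinearMap.add_apply]
  map_smul' c x := by
    apply LinearMap.ext
    intro z
    simp only [map_smul, LinearMap.comp_apply, LinearMap.smul_apply, RingHom.id_apply]

theorem fam_apply (x : Fin n → A) : fam s i x = i ∘ₗ (LieAlgebra.ad A L (s x)) ∘ₗ s := rfl

section BaseChange

variable (A' : Type u) [CommRing A'] [Algebra A A']

theorem fam_baseChange (x' : A' ⊗[A] (Fin n → A)) :
    (LinearMap.tensorProduct A A' (Fin n → A) (Fin n → A) ∘ₗ (fam s i).baseChange A') x' =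
      (i.baseChange A') ∘ₗ (LieAlgebra.ad A' (A' ⊗[A] L) (s.baseChange A' x')) ∘ₗ
        (s.baseChange A') := by
  induction x' using TensorProduct.induction_on with
  | zero =>
    rw [map_zero, map_zero, map_zero, LinearMap.zero_comp, LinearMap.comp_zero]
  | tmul c x =>
    have h1 : (LinearMap.tensorProduct A A' (Fin n → A) (Fin n → A) ∘ₗ (fam s i).baseChange A')
        (c ⊗ₜ[A] x) = c • (fam s i x).baseChange A' := by
      rw [LinearMap.comp_apply, LinearMap.baseChange_tmul]
      rfl
    have h2 : LieAlgebra.ad A' (A' ⊗[A] L) (s.baseChange A' (c ⊗ₜ[A] x)) =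
        c • (LieAlgebra.ad A L (s x)).baseChange A' := by
      rw [LinearMap.baseChange_tmul]
      have : c ⊗ₜ[A] s x = c • ((1 : A') ⊗ₜ[A] s x) := by
        rw [TensorProduct.smul_tmul', smul_eq_mul, mul_one]
      rw [this, map_smul]
      congr 1
      exact LieModule.toEnd_baseChange (R := A) (A := A') (L := L) (M := L) (s x)
    rw [h1, h2, fam_apply, LinearMap.smul_comp, LinearMap.comp_smul, LinearMap.baseChange_comp,
      LinearMap.baseChange_comp]
  | add x y hx hy =>
    rw [map_add, hx, hy, map_add, map_add, LinearMap.add_comp, LinearMap.comp_add]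

end BaseChange

/-- The universal coefficients of the characteristic polynomial of `i ∘ ad (s x) ∘ s`. -/
noncomputable def univCoeff (j : ℕ) : MvPolynomial (Fin n) A :=
  (LinearMap.polyCharpoly (fam s i) (Pi.basisFun A (Fin n))).coeff j

theorem coeff_charpoly_eq (A' : Type u) [CommRing A'] [Algebra A A'] (x' : A' ⊗[A] (Fin n → A))
    (j : ℕ) :
    ((i.baseChange A') ∘ₗ (LieAlgebra.ad A' (A' ⊗[A] L) (s.baseChange A' x')) ∘ₗ
        (s.baseChange A')).charpoly.coeff j =
      MvPolynomial.eval ((Algebra.TensorProduct.basis A' (Pi.basisFun A (Fin n))).repr x')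
        (MvPolynomial.map (algebraMap A A') (univCoeff s i j)) := by
  rw [← fam_baseChange, ← LinearMap.polyCharpoly_coeff_eval _
    (Algebra.TensorProduct.basis A' (Pi.basisFun A (Fin n))), LinearMap.polyCharpoly_baseChange,
    Polynomial.coeff_map]
  rfl

section Field

variable [Module.Finite A L]

omit [Module.Finite A L] in
theorem finrank_tensor_pi (F : Type u) [Field F] [Algebra A F] :
    finrank F (F ⊗[A] (Fin n → A)) = n := by
  rw [Module.finrank_eq_card_basis (Algebra.TensorProduct.basis F (Pi.basisFun A (Fin n)))]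
  simp

/-- Over a field, the coefficients of index below `rank + n - dim` vanish. -/
theorem coeff_charpoly_eq_zero_of_lt (hsi : s ∘ₗ i = LinearMap.id) (F : Type u) [Field F]
    [Algebra A F] (y : F ⊗[A] L) (j : ℕ)
    (hj : j < LieAlgebra.rank F (F ⊗[A] L) + n - finrank F (F ⊗[A] L)) :
    ((i.baseChange F) ∘ₗ (LieAlgebra.ad F (F ⊗[A] L) y) ∘ₗ (s.baseChange F)).charpoly.coeff j = 0 := by
  set r := LieAlgebra.rank F (F ⊗[A] L) with hr
  set d := finrank F (F ⊗[A] L) with hd
  have hsi' : (s.baseChange F) ∘ₗ (i.baseChange F) = LinearMap.id := by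
    rw [← LinearMap.baseChange_comp, hsi, LinearMap.baseChange_id]
  have hS := charpoly_comp_comm ((i.baseChange F) ∘ₗ (LieAlgebra.ad F (F ⊗[A] L) y))
    (s.baseChange F)
  rw [finrank_tensor_pi, ← LinearMap.comp_assoc, hsi', LinearMap.id_comp,
    LinearMap.comp_assoc] at hS
  have h1 := congrArg (fun p => Polynomial.coeff p (j + d)) hS
  simp only [Polynomial.coeff_X_pow_mul', ← hd] at h1
  rw [if_pos (Nat.le_add_left d j), Nat.add_sub_cancel] at h1
  rw [h1]
  split_ifs with hnj
  · apply Polynomial.coeff_eq_zero_of_lt_natTrailingDegree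
    have := LieAlgebra.rank_le_natTrailingDegree_charpoly_ad F y
    omega
  · rfl

end Field

section Reduced

variable [Module.Finite A L]

/-- The dimension of a fibre does not change under extension of the field. -/
theorem finrank_tensor_field_ext (F F' : Type u) [Field F] [Field F'] [Algebra A F] [Algebra A F']
    [Algebra F F'] [IsScalarTower A F F'] :
    finrank F' (F' ⊗[A] L) = finrank F (F ⊗[A] L) := by
  rw [← (TensorProduct.AlgebraTensorModule.cancelBaseChange A F F' F' L).finrank_eq,
    Module.finrank_baseChange]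

/-- Over a reduced ring: if on `D(g)` the number `rank + n - dim` of the fibres is at least `v`, then `g` kills
the universal coefficients of index `< v`. -/
theorem smul_univCoeff_eq_zero [IsReduced A] (hsi : s ∘ₗ i = LinearMap.id) (g : A) (v : ℕ)
    (hv : ∀ q : PrimeSpectrum A, g ∉ q.asIdeal →
      v ≤ LieAlgebra.rank q.asIdeal.ResidueField (q.asIdeal.ResidueField ⊗[A] L) + n -
        finrank q.asIdeal.ResidueField (q.asIdeal.ResidueField ⊗[A] L))
    (j : ℕ) (hj : j < v) : g • univCoeff s i j = 0 := by
  ext m
  rw [MvPolynomial.coeff_smul, MvPolynomial.coeff_zero, smul_eq_mul]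
  have hnil : g * MvPolynomial.coeff m (univCoeff s i j) ∈ nilradical A := by
    rw [nilradical_eq_sInf, Ideal.mem_sInf]
    intro q hq
    haveI : q.IsPrime := hq
    by_cases hg : g ∈ q
    · exact q.mul_mem_right _ hg
    · apply q.mul_mem_left
      set F := AlgebraicClosure q.ResidueField with hF
      have hmap : MvPolynomial.map (algebraMap A F) (univCoeff s i j) = 0 := by
        apply MvPolynomial.funext
        intro x
        rw [map_zero]
        set b' := Algebra.TensorProduct.basis F (Pi.basisFun A (Fin n)) with hb'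
        set x' : F ⊗[A] (Fin n → A) := b'.repr.symm (Finsupp.equivFunOnFinite.symm x) with hx'
        have hx : ⇑(b'.repr x') = x := by
          rw [hx', LinearEquiv.apply_symm_apply]
          rfl
        rw [← hx, ← coeff_charpoly_eq]
        apply coeff_charpoly_eq_zero_of_lt s i hsi
        rw [rank_tensor_field_ext A L q.ResidueField F,
          finrank_tensor_field_ext q.ResidueField F]
        exact lt_of_lt_of_le hj (hv ⟨q, hq⟩ hg)
      have h0 : algebraMap A F (MvPolynomial.coeff m (univCoeff s i j)) = 0 := by
        rw [← MvPolynomial.coeff_map, hmap, MvPolynomial.coeff_zero]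
      rw [IsScalarTower.algebraMap_apply A q.ResidueField F] at h0
      have h1 := (map_eq_zero_iff _ (algebraMap q.ResidueField F).injective).1 h0
      exact Ideal.algebraMap_residueField_eq_zero.1 h1
  exact (nilradical_eq_zero A ▸ hnil : _ ∈ (0 : Ideal A))

/-- The same, for the characteristic polynomial of `i ∘ ad a' ∘ s` after any base change. -/
theorem algebraMap_mul_coeff_charpoly_eq_zero [IsReduced A] (hsi : s ∘ₗ i = LinearMap.id) (g : A)
    (v : ℕ)
    (hv : ∀ q : PrimeSpectrum A, g ∉ q.asIdeal →
      v ≤ LieAlgebra.rank q.asIdeal.ResidueField (q.asIdeal.ResidueField ⊗[A] L) + n -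
        finrank q.asIdeal.ResidueField (q.asIdeal.ResidueField ⊗[A] L))
    (A' : Type u) [CommRing A'] [Algebra A A'] (a' : A' ⊗[A] L) (j : ℕ) (hj : j < v) :
    algebraMap A A' g * ((i.baseChange A') ∘ₗ (LieAlgebra.ad A' (A' ⊗[A] L) a') ∘ₗ
      (s.baseChange A')).charpoly.coeff j = 0 := by
  have hsi' : (s.baseChange A') ∘ₗ (i.baseChange A') = LinearMap.id := by
    rw [← LinearMap.baseChange_comp, hsi, LinearMap.baseChange_id]
  have ha' : a' = s.baseChange A' (i.baseChange A' a') := by
    rw [← LinearMap.comp_apply, hsi', LinearMap.id_apply]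
  rw [ha', coeff_charpoly_eq]
  have h0 := smul_univCoeff_eq_zero s i hsi g v hv j hj
  have h1 : MvPolynomial.map (algebraMap A A') (g • univCoeff s i j) = 0 := by rw [h0, map_zero]
  rw [MvPolynomial.smul_eq_C_mul, map_mul, MvPolynomial.map_C] at h1
  have h2 := congrArg (MvPolynomial.eval
    ((Algebra.TensorProduct.basis A' (Pi.basisFun A (Fin n))).repr (i.baseChange A' a'))) h1
  rw [map_mul, MvPolynomial.eval_C, map_zero] at h2
  exact h2

end Reduced

end Groth.Agent.Lib.Seat37.UnivCharpoly
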