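import Mathlib
import Groth.Prelude.Def_W4sga3xiixivxvCartan
import Groth.Agent.Lib.Seat37UnivCharpoly
import Groth.Agent.Lib.Seat37Fitting
import Groth.Agent.Lib.Seat37RankLC

/-!
# (C₀) ⇒ (C₂) over a reduced base
-/

set_option autoImplicit false
universe u

open scoped TensorProduct
open SGA3t2b Polynomial Module

namespace Groth.Agent.Lib.Seat37.Reduced

open Groth.Agent.Lib.Seat37.CartanRel Groth.Agent.Lib.Seat37.RegLocus
  Groth.Agent.Lib.Seat37.UnivCharpoly Groth.Agent.Lib.Seat37.Fitting Groth.Agent.Lib.Seat37.RankLC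

section Retract

variable {R : Type u} [CommRing R] {M F : Type u} [AddCommGroup M] [Module R M] [AddCommGroup F]
  [Module R F] (s : F →ₗ[R] M) (i : M →ₗ[R] F)

theorem comp_pow_comp (hsi : s ∘ₗ i = LinearMap.id) (T : Module.End R M) (j : ℕ) :
    s ∘ₗ ((i ∘ₗ T ∘ₗ s : Module.End R F) ^ j) ∘ₗ i = T ^ j := by
  induction j with
  | zero =>
    rw [pow_zero, pow_zero, Module.End.one_eq_id, LinearMap.id_comp, hsi, Module.End.one_eq_id]
  | succ j ih =>
    rw [pow_succ, pow_succ, Module.End.mul_eq_comp, Module.End.mul_eq_comp]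
    calc s ∘ₗ (((i ∘ₗ T ∘ₗ s : Module.End R F) ^ j) ∘ₗ (i ∘ₗ T ∘ₗ s)) ∘ₗ i
        = (s ∘ₗ ((i ∘ₗ T ∘ₗ s : Module.End R F) ^ j) ∘ₗ i) ∘ₗ T ∘ₗ (s ∘ₗ i) := by
          simp only [LinearMap.comp_assoc]
      _ = (T ^ j) ∘ₗ T := by rw [ih, hsi, LinearMap.comp_id]

theorem comp_aeval_comp (hsi : s ∘ₗ i = LinearMap.id) (T : Module.End R M) (P : R[X]) :
    s ∘ₗ (aeval (i ∘ₗ T ∘ₗ s : Module.End R F) P) ∘ₗ i = aeval T P := by
  rw [Polynomial.aeval_eq_sum_range, Polynomial.aeval_eq_sum_range]
  apply LinearMap.ext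
  intro x
  rw [LinearMap.comp_apply, LinearMap.comp_apply, LinearMap.sum_apply, LinearMap.sum_apply, map_sum]
  apply Finset.sum_congr rfl
  intro j _
  rw [LinearMap.smul_apply, LinearMap.smul_apply, map_smul, ← comp_pow_comp s i hsi T j]
  rfl

end Retract

section Locus

variable {A : Type u} [CommRing A] {L : Type u} [LieRing L] [LieAlgebra A L] [Module.Finite A L]
  [Module.Projective A L]

/-- Version of `isRegular_iff_coeff_notMem` for an arbitrary finite free module in place of `A ^ n`. -/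
theorem isRegular_iff_coeff_notMem' {F : Type u} [AddCommGroup F] [Module A F] [Module.Free A F]
    [Module.Finite A F] (s : F →ₗ[A] L) (i : L →ₗ[A] F)
    (hsi : s ∘ₗ i = LinearMap.id) (a : L) (q : PrimeSpectrum A) :
    LieAlgebra.IsRegular q.asIdeal.ResidueField ((1 : q.asIdeal.ResidueField) ⊗ₜ[A] a) ↔
      (i ∘ₗ (LieAlgebra.ad A L a) ∘ₗ s).charpoly.coeff
        (LieAlgebra.rank q.asIdeal.ResidueField (q.asIdeal.ResidueField ⊗[A] L) + finrank A F -
          finrank q.asIdeal.ResidueField (q.asIdeal.ResidueField ⊗[A] L)) ∉ q.asIdeal := by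
  set K := q.asIdeal.ResidueField with hK
  set r := LieAlgebra.rank K (K ⊗[A] L) with hr
  set d := finrank K (K ⊗[A] L) with hd
  set n := finrank A F with hn'
  set P := (i ∘ₗ (LieAlgebra.ad A L a) ∘ₗ s).charpoly with hP
  haveI : Nontrivial A := q.nontrivial
  have hn : finrank K (K ⊗[A] F) = n := Module.finrank_baseChange
  have hdn : d ≤ n := by
    have hinj : Function.Injective (i.baseChange K) := by
      have h' : (s.baseChange K) ∘ₗ (i.baseChange K) = LinearMap.id := by
        rw [← LinearMap.baseChange_comp, hsi, LinearMap.baseChange_id]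
      exact Function.LeftInverse.injective (g := s.baseChange K) (fun x => LinearMap.congr_fun h' x)
    have := LinearMap.finrank_le_finrank_of_injective hinj
    rwa [hn] at this
  have hS := charpoly_comp_comm ((i ∘ₗ (LieAlgebra.ad A L a)).baseChange K) (s.baseChange K)
  rw [hn] at hS
  have e1 : ((i ∘ₗ (LieAlgebra.ad A L a)).baseChange K) ∘ₗ (s.baseChange K) =
      (i ∘ₗ (LieAlgebra.ad A L a) ∘ₗ s).baseChange K := by
    rw [← LinearMap.baseChange_comp, LinearMap.comp_assoc]
  have e2 : (s.baseChange K) ∘ₗ ((i ∘ₗ (LieAlgebra.ad A L a)).baseChange K) =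
      LieAlgebra.ad K (K ⊗[A] L) ((1 : K) ⊗ₜ[A] a) := by
    rw [← LinearMap.baseChange_comp, ← LinearMap.comp_assoc, hsi, LinearMap.id_comp, ad_one_tmul]
  rw [e1, e2, LinearMap.charpoly_baseChange] at hS
  rw [LieAlgebra.isRegular_def]
  have h1 := congrArg (fun p => Polynomial.coeff p (r + n)) hS
  simp only [Polynomial.coeff_X_pow_mul', Polynomial.coeff_map] at h1
  rw [if_pos (hdn.trans (Nat.le_add_left n r)), if_pos (Nat.le_add_left n r), Nat.add_sub_cancel] at h1
  rw [← h1, Ne, Ideal.algebraMap_residueField_eq_zero]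

end Locus

section Main

variable {A : Type u} [CommRing A] {L : Type u} [LieRing L] [LieAlgebra A L] [Module.Finite A L]
  [Module.Projective A L]

/-- The dimension of the fibre of `A' ⊗ L` at `q'` is that of the fibre of `L` at the contraction of `q'`. -/
theorem finrank_fibre_baseChange (A' : Type u) [CommRing A'] [Algebra A A'] (q' : PrimeSpectrum A') :
    finrank q'.asIdeal.ResidueField (q'.asIdeal.ResidueField ⊗[A'] (A' ⊗[A] L)) =
      finrank (PrimeSpectrum.comap (algebraMap A A') q').asIdeal.ResidueField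
        ((PrimeSpectrum.comap (algebraMap A A') q').asIdeal.ResidueField ⊗[A] L) := by
  have h1 := Module.rankAtStalk_eq (R := A') (M := A' ⊗[A] L) q'
  have h2 := Module.rankAtStalk_eq (R := A) (M := L) (PrimeSpectrum.comap (algebraMap A A') q')
  have h3 := Module.rankAtStalk_baseChange (R := A) (M := L) (S := A') q'
  rw [← h1, ← h2, h3]

/-- (C₀) ⇒ (C₂) over a reduced base. -/
theorem isRegularRel_of_reduced [IsReduced A]
    (hC0 : ∀ p : PrimeSpectrum A, ∃ f : A, f ∉ p.asIdeal ∧ ∀ q : PrimeSpectrum A, f ∉ q.asIdeal →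
        LieAlgebra.rank q.asIdeal.ResidueField (q.asIdeal.ResidueField ⊗[A] L) =
          LieAlgebra.rank p.asIdeal.ResidueField (p.asIdeal.ResidueField ⊗[A] L))
    (A' : Type u) [CommRing A'] [Algebra A A'] (a' : A' ⊗[A] L)
    (ha' : IsQuasiRegular A' (A' ⊗[A] L) a') : IsRegularRel A' (A' ⊗[A] L) a' := by
  obtain ⟨n, s, i, -, -, hsi⟩ := Module.Finite.exists_comp_eq_id_of_projective A L
  have hsi' : (s.baseChange A') ∘ₗ (i.baseChange A') = LinearMap.id := by
    rw [← LinearMap.baseChange_comp, hsi, LinearMap.baseChange_id]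
  set T := LieAlgebra.ad A' (A' ⊗[A] L) a' with hT
  set P := ((i.baseChange A') ∘ₗ T ∘ₗ (s.baseChange A')).charpoly with hP
  have hPT : aeval T P = 0 := by
    rw [← comp_aeval_comp (s.baseChange A') (i.baseChange A') hsi' T P, hP,
      LinearMap.aeval_self_charpoly, LinearMap.zero_comp, LinearMap.comp_zero]
  have : Module.FinitePresentation A L := Module.finitePresentation_of_projective A L
  have hlc : IsLocallyConstant (Module.rankAtStalk (R := A) L) := Module.isLocallyConstant_rankAtStalk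
  have hloc : ∀ m : Ideal A', m.IsMaximal → ∃ g : A', ∃ v ≤ n,
      (∀ j < v, g * P.coeff j = 0) ∧ g * P.coeff v ∉ m := by
    intro m hm
    set q' : PrimeSpectrum A' := ⟨m, hm.isPrime⟩ with hq'
    set q := PrimeSpectrum.comap (algebraMap A A') q' with hq
    haveI : Nontrivial A' := q'.nontrivial
    haveI : Nontrivial A := q.nontrivial
    obtain ⟨g₁, hg₁, hrank⟩ := hC0 q
    obtain ⟨g₂, hg₂, hdim⟩ := exists_basicOpen_of_isLocallyConstant _ hlc q
    have hdim' : ∀ q₂ : PrimeSpectrum A, g₂ ∉ q₂.asIdeal →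
        finrank q₂.asIdeal.ResidueField (q₂.asIdeal.ResidueField ⊗[A] L) =
          finrank q.asIdeal.ResidueField (q.asIdeal.ResidueField ⊗[A] L) := by
      intro q₂ h
      have := hdim q₂ h
      rwa [Module.rankAtStalk_eq, Module.rankAtStalk_eq] at this
    set r := LieAlgebra.rank q.asIdeal.ResidueField (q.asIdeal.ResidueField ⊗[A] L) with hr
    set d := finrank q.asIdeal.ResidueField (q.asIdeal.ResidueField ⊗[A] L) with hd
    have hrd : r ≤ d := LieAlgebra.rank_le_finrank _ _
    have hg : g₁ * g₂ ∉ q.asIdeal := fun h => (q.isPrime.mem_or_mem h).elim hg₁ hg₂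
    refine ⟨algebraMap A A' (g₁ * g₂), r + n - d, by omega, ?_, ?_⟩
    · intro j hj
      refine algebraMap_mul_coeff_charpoly_eq_zero s i hsi (g₁ * g₂) (r + n - d) ?_ A' a' j hj
      intro q₂ hq₂
      have h1 : g₁ ∉ q₂.asIdeal := fun h => hq₂ (Ideal.mul_mem_right _ _ h)
      have h2 : g₂ ∉ q₂.asIdeal := fun h => hq₂ (Ideal.mul_mem_left _ _ h)
      rw [hrank q₂ h1, hdim' q₂ h2]
    · intro hmem
      rcases hm.isPrime.mem_or_mem hmem with h | h
      · exact hg h
      · have hreg := (isRegular_iff_coeff_notMem' (s.baseChange A') (i.baseChange A') hsi' a' q').1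
          (ha' q')
        rw [rank_fibre_baseChange, finrank_fibre_baseChange, Module.finrank_baseChange,
          Module.finrank_pi, Fintype.card_fin] at hreg
        exact hreg h
  obtain ⟨S, hc, hS⟩ := exists_pow_eq_of_local T P hPT n hloc
  have hgood := engelGood_of_pow_eq a' S n hc hS
  exact ⟨ha', LieSubalgebra.engel A' a', hgood.isCartanRel ha', LieSubalgebra.self_mem_engel A' a'⟩

end Main

end Groth.Agent.Lib.Seat37.Reduced
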