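import Mathlib

/-! seat37: an associative composition law `P : X ⊗ X ⟶ X` in a cartesian monoidal category whose two
shear maps are isomorphisms and which has a global point is the multiplication of a group object. -/

set_option autoImplicit false
set_option linter.unusedSectionVars false
universe v u

namespace Groth.Agent.Lib.Seat37.Shear

open CategoryTheory MonoidalCategory CartesianMonoidalCategory MonObj

/-- pure algebra: an associative law with unique left and right division on a nonempty type has a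
two-sided unit and two-sided inverses -/
theorem exists_unit_inv {M : Type*} (mul : M → M → M)
    (assoc : ∀ a b c, mul (mul a b) c = mul a (mul b c))
    (hl : ∀ a b, ∃! c, mul a c = b) (hr : ∀ a b, ∃! c, mul c a = b) (m₀ : M) :
    ∃ e : M, (∀ a, mul a e = a) ∧ (∀ a, mul e a = a) ∧ ∀ a, ∃ b, mul b a = e ∧ mul a b = e := by
  obtain ⟨e, he, -⟩ := hl m₀ m₀
  obtain ⟨e', he', -⟩ := hr m₀ m₀
  have hre : ∀ b, mul b e = b := by
    intro b
    obtain ⟨d, hd, -⟩ := hr m₀ b
    rw [← hd, assoc, he]
  have hle : ∀ b, mul e' b = b := by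
    intro b
    obtain ⟨d, hd, -⟩ := hl m₀ b
    rw [← hd, ← assoc, he']
  have hee : e' = e := by rw [← hre e', hle e]
  rw [hee] at hle
  refine ⟨e, hre, hle, fun a => ?_⟩
  obtain ⟨c, hc, -⟩ := hl a e
  obtain ⟨c', hc', -⟩ := hr a e
  have : c' = c := by rw [← hre c', ← hc, ← assoc, hc', hle]
  exact ⟨c, this ▸ hc', hc⟩

variable {C : Type u} [Category.{v} C] [CartesianMonoidalCategory C] {X : C} (P : X ⊗ X ⟶ X)

/-- the operation induced by `P` on `T`-points -/
def star {T : C} (a b : T ⟶ X) : T ⟶ X := lift a b ≫ P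

lemma comp_star {T T' : C} (f : T' ⟶ T) (a b : T ⟶ X) :
    f ≫ star P a b = star P (f ≫ a) (f ≫ b) := by
  simp [star, comp_lift_assoc]

lemma star_assoc (hassoc : (P ▷ X) ≫ P = (α_ X X X).hom ≫ (X ◁ P) ≫ P) {T : C} (a b c : T ⟶ X) :
    star P (star P a b) c = star P a (star P b c) := by
  have := congrArg (fun k => lift (lift a b) c ≫ k) hassoc
  simpa [star] using this

lemma existsUnique_left [IsIso (lift (fst X X) P)] {T : C} (a b : T ⟶ X) :
    ∃! c, star P a c = b := by
  set w : T ⟶ X ⊗ X := lift a b ≫ inv (lift (fst X X) P) with hw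
  have hwΦ : w ≫ lift (fst X X) P = lift a b := by
    rw [hw, Category.assoc, IsIso.inv_hom_id, Category.comp_id]
  have hw1 : w ≫ fst X X = a := by
    have := congrArg (fun k => k ≫ fst X X) hwΦ
    simpa using this
  have hw2 : w ≫ P = b := by
    have := congrArg (fun k => k ≫ snd X X) hwΦ
    simpa using this
  refine ⟨w ≫ snd X X, ?_, fun c hc => ?_⟩
  · show lift a (w ≫ snd X X) ≫ P = b
    rw [← hw1, ← comp_lift, lift_fst_snd, Category.comp_id, hw2]
  · have hc' : lift a c ≫ P = b := hc
    have h1 : lift a c ≫ lift (fst X X) P = lift a b := by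
      rw [comp_lift, lift_fst, hc']
    have h2 : lift a c = w := by
      rw [hw, ← h1, Category.assoc, IsIso.hom_inv_id, Category.comp_id]
    rw [← h2, lift_snd]

lemma existsUnique_right [IsIso (lift P (snd X X))] {T : C} (a b : T ⟶ X) :
    ∃! c, star P c a = b := by
  set w : T ⟶ X ⊗ X := lift b a ≫ inv (lift P (snd X X)) with hw
  have hwΦ : w ≫ lift P (snd X X) = lift b a := by
    rw [hw, Category.assoc, IsIso.inv_hom_id, Category.comp_id]
  have hw1 : w ≫ snd X X = a := by
    have := congrArg (fun k => k ≫ snd X X) hwΦ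
    simpa using this
  have hw2 : w ≫ P = b := by
    have := congrArg (fun k => k ≫ fst X X) hwΦ
    simpa using this
  refine ⟨w ≫ fst X X, ?_, fun c hc => ?_⟩
  · show lift (w ≫ fst X X) a ≫ P = b
    rw [← hw1, ← comp_lift, lift_fst_snd, Category.comp_id, hw2]
  · have hc' : lift c a ≫ P = b := hc
    have h1 : lift c a ≫ lift P (snd X X) = lift b a := by
      rw [comp_lift, lift_snd, hc']
    have h2 : lift c a = w := by
      rw [hw, ← h1, Category.assoc, IsIso.hom_inv_id, Category.comp_id]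
    rw [← h2, lift_fst]

variable (hassoc : (P ▷ X) ≫ P = (α_ X X X).hom ≫ (X ◁ P) ≫ P)
  [IsIso (lift (fst X X) P)] [IsIso (lift P (snd X X))]

include hassoc in
/-- the points `T ⟶ X` form a group as soon as there is one -/
theorem exists_unit {T : C} (m₀ : T ⟶ X) :
    ∃ e : T ⟶ X, (∀ a, star P a e = a) ∧ (∀ a, star P e a = a) ∧
      ∀ a, ∃ b, star P b a = e ∧ star P a b = e :=
  exists_unit_inv (star P) (star_assoc P hassoc) (existsUnique_left P) (existsUnique_right P) m₀

include hassoc in
/-- units are compatible with pullback of points -/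
theorem comp_unit {T T' : C} (f : T' ⟶ T) (e : T ⟶ X) (he : ∀ a, star P a e = a)
    (e' : T' ⟶ X) (he' : ∀ a, star P a e' = a) : f ≫ e = e' := by
  have h1 : star P (f ≫ e) (f ≫ e) = f ≫ e := by rw [← comp_star, he]
  have h2 : star P (f ≫ e) e' = f ≫ e := he' _
  exact (existsUnique_left P (f ≫ e) (f ≫ e)).unique h1 h2

include hassoc in
/-- the group object structure -/
theorem exists_grpObj (s : 𝟙_ C ⟶ X) : ∃ _ : GrpObj X, μ[X] = P := by
  obtain ⟨η₀, hη₁, hη₂, -⟩ := exists_unit P hassoc s
  obtain ⟨eX, heX₁, heX₂, hinv⟩ := exists_unit P hassoc (𝟙 X)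
  have heX : toUnit X ≫ η₀ = eX := comp_unit P hassoc (toUnit X) η₀ hη₁ eX heX₁
  obtain ⟨i, hi₁, hi₂⟩ := hinv (𝟙 X)
  refine ⟨{ one := η₀, mul := P, one_mul := ?_, mul_one := ?_, mul_assoc := hassoc, inv := i,
            left_inv := ?_, right_inv := ?_ }, rfl⟩
  · rw [← cancel_epi (λ_ X).inv, Iso.inv_hom_id]
    have h1 : (λ_ X).inv ≫ η₀ ▷ X = lift (toUnit X ≫ η₀) (𝟙 X) := by
      apply CartesianMonoidalCategory.hom_ext <;> simp
    rw [← Category.assoc, h1, heX]
    exact heX₂ (𝟙 X)
  · rw [← cancel_epi (ρ_ X).inv, Iso.inv_hom_id]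
    have h1 : (ρ_ X).inv ≫ X ◁ η₀ = lift (𝟙 X) (toUnit X ≫ η₀) := by
      apply CartesianMonoidalCategory.hom_ext <;> simp
    rw [← Category.assoc, h1, heX]
    exact heX₁ (𝟙 X)
  · rw [heX]; exact hi₁
  · rw [heX]; exact hi₂

end Groth.Agent.Lib.Seat37.Shear
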