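import Mathlib

/-! seat37: shear maps of a group object are isomorphisms; if a product-preserving functor `F` carries a
composition law `P` on `X` to the multiplication of a group structure on `F X`, then `F` carries the
shear maps of `P` to isomorphisms. -/

set_option autoImplicit false
set_option linter.unusedSectionVars false
set_option linter.style.haveILetI false
universe v₁ v₂ u₁ u₂

namespace Groth.Agent.Lib.Seat37.ShearBC

open CategoryTheory MonoidalCategory CartesianMonoidalCategory MonObj

section grp

variable {D : Type u₂} [Category.{v₂} D] [CartesianMonoidalCategory D] (G : D) [GrpObj G]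

theorem mul_eq : μ[G] = fst G G * snd G G := by
  rw [Hom.mul_def, lift_fst_snd, Category.id_comp]

theorem isIso_shearL : IsIso (lift (fst G G) μ[G]) := by
  refine ⟨lift (fst G G) ((fst G G)⁻¹ * snd G G), ?_, ?_⟩
  · apply CartesianMonoidalCategory.hom_ext
    · simp
    · rw [Category.assoc, lift_snd, MonObj.comp_mul, GrpObj.comp_inv, lift_fst, lift_snd, mul_eq]
      simp
  · apply CartesianMonoidalCategory.hom_ext
    · simp
    · rw [Category.assoc, lift_snd, mul_eq, MonObj.comp_mul, lift_fst, lift_snd]
      simp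

theorem isIso_shearR : IsIso (lift μ[G] (snd G G)) := by
  refine ⟨lift (fst G G * (snd G G)⁻¹) (snd G G), ?_, ?_⟩
  · apply CartesianMonoidalCategory.hom_ext
    · rw [Category.assoc, lift_fst, MonObj.comp_mul, GrpObj.comp_inv, lift_fst, lift_snd, mul_eq]
      simp
    · simp
  · apply CartesianMonoidalCategory.hom_ext
    · rw [Category.assoc, lift_fst, mul_eq, MonObj.comp_mul, lift_fst, lift_snd]
      simp
    · simp

end grp

variable {C : Type u₁} [Category.{v₁} C] [CartesianMonoidalCategory C]
  {D : Type u₂} [Category.{v₂} D] [CartesianMonoidalCategory D] (F : C ⥤ D) [F.Monoidal]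
  {X : C} (P : X ⊗ X ⟶ X) [GrpObj (F.obj X)]
  (hμ : μ[F.obj X] = Functor.LaxMonoidal.μ F X X ≫ F.map P)

include hμ in
theorem isIso_map_shearL : IsIso (F.map (lift (fst X X) P)) := by
  haveI := isIso_shearL (F.obj X)
  have h1 : F.map (lift (fst X X) P) =
      lift (F.map (fst X X)) (F.map P) ≫ Functor.LaxMonoidal.μ F X X :=
    (Functor.Monoidal.lift_μ F _ _).symm
  have h2 : Functor.LaxMonoidal.μ F X X ≫ lift (F.map (fst X X)) (F.map P) =
      lift (fst (F.obj X) (F.obj X)) μ[F.obj X] := by
    rw [comp_lift, Functor.Monoidal.μ_fst, ← hμ]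
  haveI : IsIso (Functor.LaxMonoidal.μ F X X) :=
    (inferInstance : IsIso (Functor.Monoidal.μIso F X X).hom)
  have h3 : lift (F.map (fst X X)) (F.map P) =
      inv (Functor.LaxMonoidal.μ F X X) ≫ lift (fst (F.obj X) (F.obj X)) μ[F.obj X] := by
    rw [← h2, IsIso.inv_hom_id_assoc]
  rw [h1, h3]
  infer_instance

include hμ in
theorem isIso_map_shearR : IsIso (F.map (lift P (snd X X))) := by
  haveI := isIso_shearR (F.obj X)
  have h1 : F.map (lift P (snd X X)) =
      lift (F.map P) (F.map (snd X X)) ≫ Functor.LaxMonoidal.μ F X X :=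
    (Functor.Monoidal.lift_μ F _ _).symm
  have h2 : Functor.LaxMonoidal.μ F X X ≫ lift (F.map P) (F.map (snd X X)) =
      lift μ[F.obj X] (snd (F.obj X) (F.obj X)) := by
    rw [comp_lift, Functor.Monoidal.μ_snd, ← hμ]
  haveI : IsIso (Functor.LaxMonoidal.μ F X X) :=
    (inferInstance : IsIso (Functor.Monoidal.μIso F X X).hom)
  have h3 : lift (F.map P) (F.map (snd X X)) =
      inv (Functor.LaxMonoidal.μ F X X) ≫ lift μ[F.obj X] (snd (F.obj X) (F.obj X)) := by
    rw [← h2, IsIso.inv_hom_id_assoc]
  rw [h1, h3]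
  infer_instance

end Groth.Agent.Lib.Seat37.ShearBC
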