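import Groth.Statements.S11089
import Groth.Agent.Lib.Helper18ComplProd

/-!
# Seat 37: tamely, totally ramified extensions of a complete DVR with a coefficient field

Helper lemmas for S11089: if `B/A` is totally ramified of degree `m` prime to the residue
characteristic, some uniformizer `u` of `B` has `u ^ m ∈ A`, and `X ^ m - u ^ m` is Eisenstein.
-/

set_option autoImplicit false
set_option linter.unusedSectionVars false
universe u
open IsLocalRing Polynomial

namespace Groth.Agent.Lib.Seat37.Tame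

section dedekind
variable {A B : Type u} [CommRing A] [IsDomain A] [IsDiscreteValuationRing A]
  [CommRing B] [IsDedekindDomain B] [Algebra A B] [Module.Finite A B] [Module.IsTorsionFree A B]



/-- Step 1: totally ramified ⇒ unique prime over `𝔪`, residue degree one. -/
theorem step1 (M : Ideal B) [M.IsMaximal] (hram : M.ramificationIdx A = Module.finrank A B) :
    (∀ Q : Ideal B, Q.IsMaximal → Q = M) ∧ M.inertiaDeg A = 1 := by
  classical
  have hInt : Algebra.IsIntegral A B := Algebra.IsIntegral.of_finite A B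
  have hflat : Module.Flat A B := inferInstance
  set p := maximalIdeal A with hp
  have hover : ∀ Q : Ideal B, Q.IsMaximal → Q.LiesOver p := by
    intro Q hQ
    refine ⟨?_⟩
    have h1 : (Q.under A).IsMaximal := Ideal.isMaximal_comap_of_isIntegral_of_isMaximal Q
    exact (IsLocalRing.eq_maximalIdeal h1).symm
  have hfin : (p.primesOver B).Finite := Algebra.QuasiFinite.finite_primesOver p
  let _ : Fintype (p.primesOver B) := hfin.fintype
  have hsum := Ideal.sum_ramification_inertia_eq_finrank p B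
  have hMover := hover M inferInstance
  let M' : p.primesOver B := ⟨M, inferInstance, hMover⟩
  have hepos : 0 < M.ramificationIdx A := Ideal.ramificationIdx_pos M A
  have hfpos : 0 < M.inertiaDeg A := Ideal.inertiaDeg_pos M A
  have hterm : ∀ q : p.primesOver B, 1 ≤ q.1.ramificationIdx A * q.1.inertiaDeg A := by
    intro q
    have := q.2.1
    exact Nat.one_le_iff_ne_zero.mpr
      (Nat.mul_ne_zero (Ideal.ramificationIdx_pos q.1 A).ne' (Ideal.inertiaDeg_pos q.1 A).ne')
  rw [← Finset.add_sum_erase _ _ (Finset.mem_univ M')] at hsum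
  have hrest : ∀ q ∈ Finset.univ.erase M', 1 ≤ q.1.ramificationIdx A * q.1.inertiaDeg A :=
    fun q _ => hterm q
  have hcard : (Finset.univ.erase M').card ≤
      ∑ q ∈ Finset.univ.erase M', q.1.ramificationIdx A * q.1.inertiaDeg A := by
    calc (Finset.univ.erase M').card = ∑ q ∈ Finset.univ.erase M', 1 := by simp
      _ ≤ _ := Finset.sum_le_sum hrest
  have hM'e : (M' : Ideal B).ramificationIdx A = Module.finrank A B := hram
  have hM'1 : (M' : Ideal B) = M := rfl
  rw [hM'1, hram] at hsum
  set m := Module.finrank A B with hm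
  have hmpos : 0 < m := hram ▸ hepos
  have hf1 : M.inertiaDeg A = 1 := by
    by_contra hne
    have h2 : 2 ≤ M.inertiaDeg A := by omega
    have : m * 2 ≤ m * M.inertiaDeg A := Nat.mul_le_mul_left m h2
    omega
  refine ⟨?_, hf1⟩
  intro Q hQ
  by_contra hne
  have hQover := hover Q hQ
  let Q' : p.primesOver B := ⟨Q, hQ.isPrime, hQover⟩
  have hQmem : Q' ∈ Finset.univ.erase M' := by
    rw [Finset.mem_erase]
    refine ⟨?_, Finset.mem_univ _⟩
    intro h
    exact hne (congrArg Subtype.val h)
  have hc1 : 1 ≤ (Finset.univ.erase M').card := Finset.card_pos.mpr ⟨Q', hQmem⟩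
  rw [hf1] at hsum
  omega




theorem residue_surj (M : Ideal B) [M.IsMaximal] (hf : M.inertiaDeg A = 1) (b : B) :
    ∃ a : A, b - algebraMap A B a ∈ M := by
  have hInt : Algebra.IsIntegral A B := Algebra.IsIntegral.of_finite A B
  have hover : M.LiesOver (maximalIdeal A) := by
    refine ⟨?_⟩
    have h1 : (M.under A).IsMaximal := Ideal.isMaximal_comap_of_isIntegral_of_isMaximal M
    exact (IsLocalRing.eq_maximalIdeal h1).symm
  rw [Ideal.inertiaDeg_eq_of_isMaximal (maximalIdeal A) M] at hf
  let _ : Field (A ⧸ maximalIdeal A) := Ideal.Quotient.field _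
  let _ : Field (B ⧸ M) := Ideal.Quotient.field _
  have h1 := Subalgebra.bot_eq_top_of_finrank_eq_one hf
  have h2 : Ideal.Quotient.mk M b ∈ (⊤ : Subalgebra (A ⧸ maximalIdeal A) (B ⧸ M)) := trivial
  rw [← h1, Algebra.mem_bot] at h2
  obtain ⟨y, hy⟩ := h2
  obtain ⟨a, rfl⟩ := Ideal.Quotient.mk_surjective y
  refine ⟨a, ?_⟩
  rw [← Ideal.Quotient.eq, ← hy]
  rfl




omit [IsDiscreteValuationRing A] in
theorem not_isField_B (hA : ¬ IsField A) : ¬ IsField B := by
  have hInt : Algebra.IsIntegral A B := Algebra.IsIntegral.of_finite A B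
  intro h
  exact hA (isField_of_isIntegral_of_isField (FaithfulSMul.algebraMap_injective A B) h)

theorem map_eq_pow [IsLocalRing B] :
    (maximalIdeal A).map (algebraMap A B) =
      maximalIdeal B ^ ((maximalIdeal B).ramificationIdx A) := by
  have hInt : Algebra.IsIntegral A B := Algebra.IsIntegral.of_finite A B
  have hnf : ¬ IsField B := not_isField_B (IsDiscreteValuationRing.not_isField A)
  have hover : (maximalIdeal B).LiesOver (maximalIdeal A) := by
    refine ⟨?_⟩
    have h1 : ((maximalIdeal B).under A).IsMaximal :=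
      Ideal.isMaximal_comap_of_isIntegral_of_isMaximal (maximalIdeal B)
    exact (IsLocalRing.eq_maximalIdeal h1).symm
  have hp0 : maximalIdeal A ≠ ⊥ := IsDiscreteValuationRing.not_a_field A
  have hI0 : (maximalIdeal A).map (algebraMap A B) ≠ ⊥ := Ideal.map_ne_bot_of_ne_bot hp0
  have hD : IsDedekindDomain B := inferInstance
  have h6 := ((IsDiscreteValuationRing.TFAE B hnf).out 2 6).mp hD
  obtain ⟨k, hk⟩ := h6 _ hI0
  have hM0 : maximalIdeal B ≠ ⊥ := fun h => hnf (IsLocalRing.isField_iff_maximalIdeal_eq.mpr h)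
  have he : (maximalIdeal A).ramificationIdx' (maximalIdeal B) = k := by
    apply Ideal.ramificationIdx'_spec
    · rw [hk]
    · rw [hk]
      exact not_le_of_gt (Ideal.pow_succ_lt_pow hM0 k)
  rw [← Ideal.ramificationIdx'_eq_ramificationIdx (maximalIdeal A) (maximalIdeal B) hp0, he, hk]




theorem main_local (K : Type u) [Field K] [Algebra K A]
    (hK : Function.Bijective ((IsLocalRing.residue A).comp (algebraMap K A)))
    [IsAdicComplete (maximalIdeal A) A] [IsLocalRing B] (hnf : ¬ IsField B)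
    (hf : ∀ b : B, ∃ a : A, b - algebraMap A B a ∈ maximalIdeal B)
    (m : ℕ) (hmpos : 0 < m)
    (hpow : (maximalIdeal A).map (algebraMap A B) = maximalIdeal B ^ m)
    (hm : IsUnit ((m : ℕ) : A)) :
    ∃ u : B, u ∈ maximalIdeal B ∧ u ∉ maximalIdeal B ^ 2 ∧
      ∃ a : A, u ^ m = algebraMap A B a ∧ a ∈ maximalIdeal A ∧ a ∉ maximalIdeal A ^ 2 := by
  have hD : IsDedekindDomain B := inferInstance
  have hDVR : IsDiscreteValuationRing B := ((IsDiscreteValuationRing.TFAE B hnf).out 2 0).mp hD
  obtain ⟨v, hv⟩ := IsDiscreteValuationRing.exists_irreducible B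
  obtain ⟨π, hπ⟩ := IsDiscreteValuationRing.exists_irreducible A
  have hMv : maximalIdeal B = Ideal.span {v} := hv.maximalIdeal_eq
  have hpπ : maximalIdeal A = Ideal.span {π} := hπ.maximalIdeal_eq
  -- `π` and `v ^ m` are associated in `B`
  have hassoc : Associated (algebraMap A B π) (v ^ m) := by
    rw [← Ideal.span_singleton_eq_span_singleton]
    rw [← Ideal.span_singleton_pow, ← hMv, ← hpow, hpπ, Ideal.map_span, Set.image_singleton]
  obtain ⟨w, hw⟩ := hassoc
  -- `𝔪 B ≤ M`
  have hle : ∀ a : A, a ∈ maximalIdeal A → algebraMap A B a ∈ maximalIdeal B := by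
    intro a ha
    have h1 : algebraMap A B a ∈ (maximalIdeal A).map (algebraMap A B) := Ideal.mem_map_of_mem _ ha
    rw [hpow] at h1
    exact Ideal.pow_le_self hmpos.ne' h1
  -- residue class of `w` comes from `K`
  obtain ⟨a₀, ha₀⟩ := hf (w : B)
  obtain ⟨c, hc⟩ := hK.2 (IsLocalRing.residue A a₀)
  have hc' : a₀ - algebraMap K A c ∈ maximalIdeal A := by
    have : IsLocalRing.residue A (algebraMap K A c) = IsLocalRing.residue A a₀ := hc
    rw [← Ideal.Quotient.eq]
    exact this.symm
  set cA : A := algebraMap K A c with hcA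
  set cB : B := algebraMap A B cA with hcB
  have hwc : (w : B) - cB ∈ maximalIdeal B := by
    have h1 := hle _ hc'
    rw [map_sub] at h1
    have h2 := Ideal.add_mem _ ha₀ h1
    convert h2 using 1
    ring
  have hc0 : c ≠ 0 := by
    rintro rfl
    simp only [hcA, hcB, map_zero, sub_zero] at hwc
    exact (IsLocalRing.mem_maximalIdeal _).mp hwc w.isUnit
  have hcAu : IsUnit cA := (IsUnit.mk0 c hc0).map (algebraMap K A)
  have hcBu : IsUnit cB := hcAu.map (algebraMap A B)
  obtain ⟨cBu, hcBu'⟩ := hcBu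
  -- `w₁ = w / cB ≡ 1`
  set w₁ : Bˣ := w * cBu⁻¹ with hw₁
  have hw₁1 : (w₁ : B) - 1 ∈ maximalIdeal B := by
    have : (w₁ : B) - 1 = ((w : B) - cB) * ((cBu⁻¹ : Bˣ) : B) := by
      rw [hw₁, Units.val_mul, sub_mul, ← hcBu', Units.mul_inv]
    rw [this]
    exact Ideal.mul_mem_right _ _ hwc
  -- Hensel
  obtain ⟨hN, hcomp⟩ := Groth.Agent.Lib.Helper18ComplProd.isAdicComplete_of_finite A B
  have hHens : HenselianRing B (maximalIdeal B) := inferInstance
  have hmB : IsUnit ((m : ℕ) : B) := by
    have := hm.map (algebraMap A B)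
    rwa [map_natCast] at this
  obtain ⟨t, ht, ht1⟩ := hHens.is_henselian (X ^ m - C (w₁ : B)) (monic_X_pow_sub_C _ hmpos.ne') 1
    (by
      simp only [eval_sub, eval_pow, eval_X, eval_C, one_pow]
      have := Ideal.neg_mem_iff (maximalIdeal B) |>.mpr hw₁1
      rwa [neg_sub] at this)
    (by
      simp only [derivative_sub, derivative_X_pow, derivative_C, sub_zero, eval_mul, eval_C,
        eval_pow, eval_X, one_pow, mul_one]
      have := hmB.map (Ideal.Quotient.mk (maximalIdeal B))
      simpa using this)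
  have htm : t ^ m = (w₁ : B) := by
    have := ht
    simp only [IsRoot.def, eval_sub, eval_pow, eval_X, eval_C] at this
    exact sub_eq_zero.mp this
  have htu : IsUnit t := by
    by_contra h
    have h1 : t ∈ maximalIdeal B := (IsLocalRing.mem_maximalIdeal _).mpr h
    have h2 : (1 : B) ∈ maximalIdeal B := by
      have h3 := Ideal.sub_mem _ h1 ht1
      rwa [sub_sub_cancel] at h3
    exact (maximalIdeal.isMaximal B).ne_top ((Ideal.eq_top_iff_one _).mpr h2)
  obtain ⟨tu, rfl⟩ := htu
  refine ⟨v * ((tu⁻¹ : Bˣ) : B), ?_, ?_, π * cA, ?_, ?_, ?_⟩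
  · rw [hMv]
    exact Ideal.mul_mem_right _ _ (Ideal.mem_span_singleton_self v)
  · rw [hMv, Ideal.span_singleton_pow, Ideal.mem_span_singleton]
    rintro ⟨y, hy⟩
    have hv0 : v ≠ 0 := hv.ne_zero
    have h1 : ((tu⁻¹ : Bˣ) : B) = v * y := by
      apply mul_left_cancel₀ hv0
      rw [hy]; ring
    have h2 : IsUnit (v * y) := h1 ▸ (tu⁻¹).isUnit
    exact hv.not_isUnit (isUnit_of_mul_isUnit_left h2)
  · -- `u ^ m = π * cB`
    have h1 : (v * ((tu⁻¹ : Bˣ) : B)) ^ m * (tu : B) ^ m = v ^ m := by
      rw [← mul_pow, mul_assoc, Units.inv_mul, mul_one]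
    rw [htm, ← hw, hw₁, Units.val_mul] at h1
    -- h1 : u^m * (w * cBu⁻¹) = π * w
    have h2 : (v * ((tu⁻¹ : Bˣ) : B)) ^ m * (w : B) = algebraMap A B π * cB * (w : B) := by
      have h3 : (v * ((tu⁻¹ : Bˣ) : B)) ^ m * ((w : B) * ((cBu⁻¹ : Bˣ) : B)) * (cBu : B) =
          algebraMap A B π * (w : B) * (cBu : B) := by rw [h1]
      rw [mul_assoc, mul_assoc, Units.inv_mul, mul_one] at h3
      rw [h3, hcBu']; ring
    have h4 := mul_right_cancel₀ w.ne_zero h2
    rw [h4, map_mul]
  · rw [hpπ]
    exact Ideal.mul_mem_right _ _ (Ideal.mem_span_singleton_self π)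
  · rw [hpπ, Ideal.span_singleton_pow, Ideal.mem_span_singleton]
    rintro ⟨y, hy⟩
    have hπ0 : π ≠ 0 := hπ.ne_zero
    have h1 : cA = π * y := by
      apply mul_left_cancel₀ hπ0
      rw [hy]; ring
    have h2 : IsUnit (π * y) := h1 ▸ hcAu
    exact hπ.not_isUnit (isUnit_of_mul_isUnit_left h2)


end dedekind

section minpoly
variable {A B : Type u} [CommRing A] [IsDomain A] [IsDiscreteValuationRing A]
  [CommRing B] [IsDomain B] [Algebra A B] [Module.IsTorsionFree A B]



theorem natDegree_minpoly_of_pow_eq (u : B) (a : A) (m : ℕ) (hmpos : 0 < m)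
    (hu : u ^ m = algebraMap A B a) (ha : a ∈ maximalIdeal A) (ha2 : a ∉ maximalIdeal A ^ 2) :
    (minpoly A u).natDegree = m := by
  set g : A[X] := X ^ m - C a with hg
  have hgm : g.Monic := monic_X_pow_sub_C _ hmpos.ne'
  have hgd : g.natDegree = m := natDegree_X_pow_sub_C
  have hroot : aeval u g = 0 := by
    simp [hg, hu]
  have hint : IsIntegral A u := ⟨g, hgm, by rwa [← aeval_def]⟩
  have hE : g.IsEisensteinAt (maximalIdeal A) := by
    refine ⟨?_, ?_, ?_⟩
    · rw [hgm.leadingCoeff]
      exact fun h => (maximalIdeal.isMaximal A).ne_top ((Ideal.eq_top_iff_one _).mpr h)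
    · intro n hn
      rw [hgd] at hn
      rw [hg, coeff_sub, coeff_X_pow, if_neg hn.ne, zero_sub, coeff_C]
      split_ifs
      · exact (Ideal.neg_mem_iff _).mpr ha
      · simp
    · rw [hg, coeff_sub, coeff_X_pow, if_neg hmpos.ne, zero_sub, coeff_C_zero]
      exact fun h => ha2 ((Ideal.neg_mem_iff _).mp h)
  have hirr : Irreducible g := hE.irreducible inferInstance hgm.isPrimitive (hgd ▸ hmpos)
  have hdvd : minpoly A u ∣ g := minpoly.isIntegrallyClosed_dvd hint hroot
  obtain ⟨q, hq⟩ := hdvd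
  have hmu : ¬ IsUnit (minpoly A u) := minpoly.not_isUnit A u
  have hqu : IsUnit q := (hirr.isUnit_or_isUnit hq).resolve_left hmu
  have hassoc : Associated (minpoly A u) g := ⟨hqu.unit, hq.symm⟩
  have := eq_of_monic_of_associated (minpoly.monic hint) hgm hassoc
  rw [this, hgd]


end minpoly

end Groth.Agent.Lib.Seat37.Tame
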