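import Groth.Agent.Lib.Seat38RetractCx
import Mathlib.CategoryTheory.Abelian.RightDerived
import Mathlib.CategoryTheory.Abelian.Injective.Resolution
import Mathlib.Algebra.Homology.Augment
import Mathlib.Algebra.Homology.HomologicalComplexAbelian

/-!
# Objects of an adapted class are acyclic for right derived functors (seat 38)

Let `f : A ⥤ B` be an additive functor between abelian categories (`A` with enough injectives) and `𝒪` a class of
objects of `A`, stable under binary direct sums, such that `f` maps acyclic `ℕ`-indexed complexes of objects of `𝒪` to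
acyclic complexes and every object embeds into a member of `𝒪`.  Then `R^n f (X) = 0` for `X ∈ 𝒪`, `n > 0`.

Proof: the augmented injective resolution `X → I^•` has terms which are retracts of members of `𝒪`, so by
`Seat38RetractCx` it is a retract (up to homotopy) of an acyclic complex `K` with terms in `𝒪`; `f(K)` is acyclic, hence
so is its retract `f(X → I^•)`.
-/

set_option autoImplicit false
set_option linter.unusedSectionVars false
universe v v' u u'
open CategoryTheory CategoryTheory.Limits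

namespace Groth.Agent.Lib.Seat38.Adapted

open RetractCx

section General

variable {A : Type u} [Category.{v} A] [Abelian A]

/-- If `i ≫ r = 𝟙` on complexes and `K` is exact at `m`, so is `Y`. -/
lemma exactAt_of_retract {ι : Type*} {c : ComplexShape ι} {Y K : HomologicalComplex A c} (i : Y ⟶ K) (r : K ⟶ Y)
    (h : i ≫ r = 𝟙 Y) (m : ι) (hK : K.ExactAt m) : Y.ExactAt m := by
  rw [HomologicalComplex.exactAt_iff_isZero_homology] at hK ⊢
  rw [IsZero.iff_id_eq_zero, ← HomologicalComplex.homologyMap_id, ← h, HomologicalComplex.homologyMap_comp,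
    hK.eq_of_tgt (HomologicalComplex.homologyMap i m) 0, zero_comp]

/-- If `𝟙 K` is homotopic to `r ≫ i` and `Y` is exact at `m`, so is `K`. -/
lemma exactAt_of_homotopy {ι : Type*} {c : ComplexShape ι} {Y K : HomologicalComplex A c} (i : Y ⟶ K) (r : K ⟶ Y)
    (h : Homotopy (𝟙 K) (r ≫ i)) (m : ι) (hY : Y.ExactAt m) : K.ExactAt m := by
  rw [HomologicalComplex.exactAt_iff_isZero_homology] at hY ⊢
  rw [IsZero.iff_id_eq_zero, ← HomologicalComplex.homologyMap_id, h.homologyMap_eq m,
    HomologicalComplex.homologyMap_comp, hY.eq_of_tgt (HomologicalComplex.homologyMap r m) 0, zero_comp]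

end General

section Main

variable {A : Type u} [Category.{v} A] [Abelian A] [EnoughInjectives A]
  {B : Type u'} [Category.{v'} B] [Abelian B] (f : A ⥤ B) [f.Additive] (𝒪 : ObjectProperty A)

variable {X : A} (I : InjectiveResolution X)

/-- the augmented resolution `X → I⁰ → I¹ → ⋯` -/
noncomputable def aug : CochainComplex A ℕ :=
  I.cocomplex.augment (I.ι.f 0 : X ⟶ I.cocomplex.X 0) I.ι_f_zero_comp_complex_d

lemma aug_acyclic : (aug I).Acyclic := by
  intro m
  rcases m with _ | _ | m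
  · -- exactness at 0: the first differential is a monomorphism
    rw [HomologicalComplex.exactAt_iff' (aug I) 0 0 1 (by simp) (by simp)]
    have h0 : (aug I).d 0 0 = 0 := (aug I).shape _ _ (by simp)
    apply (ShortComplex.exact_iff_mono _ h0).2
    change Mono (I.ι.f 0)
    infer_instance
  · rw [HomologicalComplex.exactAt_iff' (aug I) 0 1 2 (by simp) (by simp)]
    exact I.exact₀
  · rw [HomologicalComplex.exactAt_iff' (aug I) (m + 1) (m + 2) (m + 3) (by simp) (by simp)]
    exact I.exact_succ m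

variable (h2 : ∀ X : A, ∃ (Y : A) (i : X ⟶ Y), 𝒪 Y ∧ Mono i)

/-- the members of `𝒪` containing the terms of the augmented resolution (`X` itself in degree 0) -/
noncomputable def EE : ℕ → A
  | 0 => X
  | (m + 1) => (h2 (I.cocomplex.X m)).choose

/-- the embeddings -/
noncomputable def ee : ∀ m, (aug I).X m ⟶ EE 𝒪 I h2 m
  | 0 => 𝟙 X
  | (m + 1) => (h2 (I.cocomplex.X m)).choose_spec.choose

lemma ee_mono (m : ℕ) : Mono (ee 𝒪 I h2 (m + 1)) := (h2 (I.cocomplex.X m)).choose_spec.choose_spec.2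

/-- retractions of the embeddings (the terms of the resolution are injective) -/
noncomputable def rr : ∀ m, EE 𝒪 I h2 m ⟶ (aug I).X m
  | 0 => 𝟙 X
  | (m + 1) =>
    (@Injective.factorThru A _ (I.cocomplex.X m) (I.cocomplex.X m) (EE 𝒪 I h2 (m + 1)) (I.injective m)
      (𝟙 (I.cocomplex.X m)) (ee 𝒪 I h2 (m + 1)) (ee_mono 𝒪 I h2 m) : EE 𝒪 I h2 (m + 1) ⟶ I.cocomplex.X m)

lemma ee_rr (m : ℕ) : ee 𝒪 I h2 m ≫ rr 𝒪 I h2 m = 𝟙 _ := by
  cases m with
  | zero => exact Category.id_comp _
  | succ m =>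
    exact @Injective.comp_factorThru A _ (I.cocomplex.X m) (I.cocomplex.X m) (EE 𝒪 I h2 (m + 1)) (I.injective m)
      (𝟙 (I.cocomplex.X m)) (ee 𝒪 I h2 (m + 1)) (ee_mono 𝒪 I h2 m)

lemma EE_mem (hX : 𝒪 X) (m : ℕ) : 𝒪 (EE 𝒪 I h2 m) := by
  cases m
  · exact hX
  · exact (h2 (I.cocomplex.X _)).choose_spec.choose_spec.1

lemma S_mem (hX : 𝒪 X) (h0 : ∀ X Y : A, 𝒪 X → 𝒪 Y → 𝒪 (X ⊞ Y)) (m : ℕ) : 𝒪 (S (EE 𝒪 I h2) m) := by
  induction m with
  | zero => exact hX
  | succ m ih => exact h0 _ _ (EE_mem 𝒪 I h2 hX (m + 1)) ih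

include h2 in
/-- `f` maps the augmented injective resolution of a member of `𝒪` to an acyclic complex. -/
lemma map_aug_acyclic (hX : 𝒪 X) (h0 : ∀ X Y : A, 𝒪 X → 𝒪 Y → 𝒪 (X ⊞ Y))
    (h1 : ∀ K : CochainComplex A ℕ, (∀ i, 𝒪 (K.X i)) → K.Acyclic →
      ((f.mapHomologicalComplex (ComplexShape.up ℕ)).obj K).Acyclic) :
    ((f.mapHomologicalComplex (ComplexShape.up ℕ)).obj (aug I)).Acyclic := by
  let KK := K (aug I) (EE 𝒪 I h2) (ee 𝒪 I h2) (rr 𝒪 I h2) (ee_rr 𝒪 I h2)
  have hK : KK.Acyclic := fun m =>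
    exactAt_of_homotopy (incl (aug I) _ _ _ (ee_rr 𝒪 I h2)) (retr (aug I) _ _ _ (ee_rr 𝒪 I h2))
      (homotopy (aug I) _ _ _ (ee_rr 𝒪 I h2)) m (aug_acyclic I m)
  have hfK := h1 KK (fun i => S_mem 𝒪 I h2 hX h0 i) hK
  intro m
  refine exactAt_of_retract ((f.mapHomologicalComplex _).map (incl (aug I) _ _ _ (ee_rr 𝒪 I h2)))
    ((f.mapHomologicalComplex _).map (retr (aug I) _ _ _ (ee_rr 𝒪 I h2))) ?_ m (hfK m)
  rw [← Functor.map_comp, incl_retr, CategoryTheory.Functor.map_id]

omit I in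
include h2 in
/-- Members of an adapted class are right acyclic. -/
theorem isZero_rightDerived (hX : 𝒪 X) (h0 : ∀ X Y : A, 𝒪 X → 𝒪 Y → 𝒪 (X ⊞ Y))
    (h1 : ∀ K : CochainComplex A ℕ, (∀ i, 𝒪 (K.X i)) → K.Acyclic →
      ((f.mapHomologicalComplex (ComplexShape.up ℕ)).obj K).Acyclic)
    (n : ℕ) (hn : 0 < n) : IsZero ((f.rightDerived n).obj X) := by
  obtain ⟨k, rfl⟩ : ∃ k, n = k + 1 := ⟨n - 1, by omega⟩
  let I : InjectiveResolution X := Classical.choice (HasInjectiveResolution.out (Z := X))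
  refine IsZero.of_iso ?_ (I.isoRightDerivedObj f (k + 1))
  change IsZero (((f.mapHomologicalComplex _).obj I.cocomplex).homology (k + 1))
  rw [← HomologicalComplex.exactAt_iff_isZero_homology,
    HomologicalComplex.exactAt_iff' _ k (k + 1) (k + 2) (by simp) (by simp)]
  have h := map_aug_acyclic f 𝒪 I h2 hX h0 h1 (k + 2)
  rw [HomologicalComplex.exactAt_iff' _ (k + 1) (k + 2) (k + 3) (by simp) (by simp)] at h
  exact h

end Main

end Groth.Agent.Lib.Seat38.Adapted
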