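import Mathlib
import Groth.Agent.Lib.Seat38Soft

/-!
# Seat38: sheaves flasque with respect to a basis of quasi-compact opens

`QCBasis Z`: a collection of quasi-compact opens of `Z`, containing `⊥` and `⊤`, stable under binary
meets and joins and forming a basis.  A sheaf `G` is `IsBFlasque` if every section over a member
of the collection extends to a global section.  Such sheaves are acyclic:
`ext_eq_zero_of_isBFlasque`.
-/

set_option autoImplicit false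
universe u
open CategoryTheory CategoryTheory.Limits TopologicalSpace Opposite Topology

namespace Groth.Agent.Lib.Seat38.BFlasque

open Groth.Agent.Lib.Seat38.CompactNhd Groth.Agent.Lib.Seat38.SheafLocal
  Groth.Agent.Lib.Seat38.Soft

/-- a basis of quasi-compact opens stable under finite meets and joins. -/
structure QCBasis (Z : TopCat.{u}) where
  /-- membership -/
  B : Opens Z → Prop
  bot : B ⊥
  top : B ⊤
  inf : ∀ V V', B V → B V' → B (V ⊓ V')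
  sup : ∀ V V', B V → B V' → B (V ⊔ V')
  qc : ∀ V, B V → IsCompact (V : Set Z)
  basis : ∀ (V : Opens Z) (z : Z), z ∈ V → ∃ V', B V' ∧ z ∈ V' ∧ V' ≤ V

variable {Z : TopCat.{u}} (𝔅 : QCBasis Z)

/-- every section over a member of the basis extends to a global section. -/
def IsBFlasque (G : CohTop.Ab Z) : Prop :=
  ∀ V, 𝔅.B V → ∀ s : G.obj.obj (op V), ∃ t : G.obj.obj (op ⊤), rs G le_top t = s

/-- the inductive predicate for lifting. -/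
def Good (S : ShortComplex (CohTop.Ab Z)) (V : Opens Z) (c : S.X₃.obj.obj (op V)) (V' : Opens Z) :
    Prop :=
  𝔅.B V' ∧ ∃ (hV' : V' ≤ V) (b : S.X₂.obj.obj (op V')), S.g.hom.app (op V') b = rs S.X₃ hV' c

theorem good_sup (S : ShortComplex (CohTop.Ab Z)) (hS : S.ShortExact)
    (h₁ : IsBFlasque 𝔅 S.X₁) (V : Opens Z) (c : S.X₃.obj.obj (op V)) (V₁ V₂ : Opens Z)
    (g₁ : Good 𝔅 S V c V₁) (g₂ : Good 𝔅 S V c V₂) : Good 𝔅 S V c (V₁ ⊔ V₂) := by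
  obtain ⟨hB₁, hV₁, b₁, e₁⟩ := g₁
  obtain ⟨hB₂, hV₂, b₂, e₂⟩ := g₂
  let d : S.X₂.obj.obj (op (V₁ ⊓ V₂)) := rs S.X₂ inf_le_left b₁ - rs S.X₂ inf_le_right b₂
  have hd : S.g.hom.app (op (V₁ ⊓ V₂)) d = 0 := by
    have h1 : S.g.hom.app (op (V₁ ⊓ V₂)) d =
        S.g.hom.app (op (V₁ ⊓ V₂)) (rs S.X₂ inf_le_left b₁) -
          S.g.hom.app (op (V₁ ⊓ V₂)) (rs S.X₂ inf_le_right b₂) := map_sub _ _ _
    rw [h1, app_rs, app_rs, e₁, e₂, rs_rs, rs_rs, sub_self]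
  obtain ⟨a, ha⟩ := exists_of_app_eq_zero S hS (V₁ ⊓ V₂) d hd
  obtain ⟨t, ht⟩ := h₁ (V₁ ⊓ V₂) (𝔅.inf V₁ V₂ hB₁ hB₂) a
  let b₂' : S.X₂.obj.obj (op V₂) := b₂ + S.f.hom.app (op V₂) (rs S.X₁ le_top t)
  have e₂' : S.g.hom.app (op V₂) b₂' = rs S.X₃ hV₂ c := by
    have h1 : S.g.hom.app (op V₂) b₂' = S.g.hom.app (op V₂) b₂ +
        S.g.hom.app (op V₂) (S.f.hom.app (op V₂) (rs S.X₁ le_top t)) := map_add _ _ _
    rw [h1, app_zero, add_zero, e₂]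
  have hagree : rs S.X₂ (inf_le_left : V₁ ⊓ V₂ ≤ V₁) b₁ =
      rs S.X₂ (inf_le_right : V₁ ⊓ V₂ ≤ V₂) b₂' := by
    have h2 : d = S.f.hom.app (op (V₁ ⊓ V₂)) (rs S.X₁ le_top t) := by
      rw [ht, ha]
    have h3 : rs S.X₂ (inf_le_right : V₁ ⊓ V₂ ≤ V₂) b₂' = rs S.X₂ inf_le_right b₂ +
        S.f.hom.app (op (V₁ ⊓ V₂)) (rs S.X₁ le_top t) := by
      rw [rs_add, ← app_rs, rs_rs]
    rw [h3, ← h2]
    change _ = rs S.X₂ inf_le_right b₂ + (rs S.X₂ inf_le_left b₁ - rs S.X₂ inf_le_right b₂)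
    abel
  obtain ⟨b, hb₁, hb₂⟩ := exists_glue₂ S.X₂ V₁ V₂ b₁ b₂' hagree
  refine ⟨𝔅.sup V₁ V₂ hB₁ hB₂, sup_le hV₁ hV₂, b, ?_⟩
  refine TopCat.Sheaf.eq_of_locally_eq₂ S.X₃ (homOfLE (le_sup_left : V₁ ≤ V₁ ⊔ V₂))
    (homOfLE (le_sup_right : V₂ ≤ V₁ ⊔ V₂)) le_rfl _ _ ?_ ?_
  · change rs S.X₃ _ (S.g.hom.app (op (V₁ ⊔ V₂)) b) = rs S.X₃ _ (rs S.X₃ (sup_le hV₁ hV₂) c)
    have hb₁' : rs S.X₂ le_sup_left b = b₁ := hb₁
    rw [← app_rs, hb₁', e₁, rs_rs]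
  · change rs S.X₃ _ (S.g.hom.app (op (V₁ ⊔ V₂)) b) = rs S.X₃ _ (rs S.X₃ (sup_le hV₁ hV₂) c)
    have hb₂' : rs S.X₂ le_sup_right b = b₂' := hb₂
    rw [← app_rs, hb₂', e₂', rs_rs]

/-- **lifting over members of the basis**: for a short exact sequence with `𝔅`-flasque kernel,
sections of the quotient over members of `𝔅` lift. -/
theorem exists_lift (S : ShortComplex (CohTop.Ab Z)) (hS : S.ShortExact)
    (h₁ : IsBFlasque 𝔅 S.X₁) (V : Opens Z) (hV : 𝔅.B V) (c : S.X₃.obj.obj (op V)) :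
    ∃ b : S.X₂.obj.obj (op V), S.g.hom.app (op V) b = c := by
  have key : ∃ V' : Opens Z, Good 𝔅 S V c V' ∧ (V : Set Z) ⊆ (V' : Set Z) := by
    refine (𝔅.qc V hV).induction_on (p := fun A => ∃ V' : Opens Z, Good 𝔅 S V c V' ∧
      A ⊆ (V' : Set Z)) ?_ ?_ ?_ ?_
    · exact ⟨⊥, ⟨𝔅.bot, bot_le, 0, subsingleton_bot S.X₃ _ _⟩, Set.empty_subset _⟩
    · rintro A A' hAA' ⟨V', hg, hA'⟩
      exact ⟨V', hg, hAA'.trans hA'⟩
    · rintro A A' ⟨V₁, g₁, hA⟩ ⟨V₂, g₂, hA'⟩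
      exact ⟨V₁ ⊔ V₂, good_sup 𝔅 S hS h₁ V c V₁ V₂ g₁ g₂, Set.union_subset_union hA hA'⟩
    · intro z hz
      have := hS.epi_g
      obtain ⟨V₀, hV₀, b, hzV₀, hb⟩ := local_of_epi S.g V c z hz
      obtain ⟨V', hB', hzV', hV'⟩ := 𝔅.basis V₀ z hzV₀
      refine ⟨V', mem_nhdsWithin_of_mem_nhds (V'.isOpen.mem_nhds hzV'), V',
        ⟨hB', hV'.trans hV₀, rs S.X₂ hV' b, ?_⟩, le_rfl⟩
      rw [app_rs, hb, rs_rs]
  obtain ⟨V', ⟨-, hV', b, hb⟩, hsub⟩ := key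
  have hle : V ≤ V' := fun z hz => hsub hz
  refine ⟨rs S.X₂ hle b, ?_⟩
  rw [app_rs, hb, rs_rs]
  exact rs_self S.X₃ c

/-- the quotient of a `𝔅`-flasque sheaf by a `𝔅`-flasque subsheaf is `𝔅`-flasque. -/
theorem isBFlasque_X₃ (S : ShortComplex (CohTop.Ab Z)) (hS : S.ShortExact)
    (h₁ : IsBFlasque 𝔅 S.X₁) (h₂ : IsBFlasque 𝔅 S.X₂) : IsBFlasque 𝔅 S.X₃ := by
  intro V hV c
  obtain ⟨b, hb⟩ := exists_lift 𝔅 S hS h₁ V hV c
  obtain ⟨t, ht⟩ := h₂ V hV b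
  refine ⟨S.g.hom.app (op ⊤) t, ?_⟩
  rw [← app_rs, ht, hb]

/-- flasque sheaves are `𝔅`-flasque. -/
theorem isBFlasque_of_isFlasque (G : CohTop.Ab Z) [TopCat.Sheaf.IsFlasque G] : IsBFlasque 𝔅 G := by
  intro V _ s
  have hepi : Epi (G.obj.map (homOfLE (le_top : V ≤ ⊤)).op) := TopCat.Presheaf.IsFlasque.epi _
  exact (AddCommGrpCat.epi_iff_surjective _).1 hepi s

/-- `𝔅`-flasque sheaves are acyclic (for `H^n(⊤, -)`). -/
theorem ext_eq_zero_of_isBFlasque (G : CohTop.Ab Z) (hG : IsBFlasque 𝔅 G) (n : ℕ)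
    (x : Abelian.Ext.{u} (CohCx.freeSheaf (Opens.grothendieckTopology Z) (⊤ : Opens Z)) G (n + 1)) :
    x = 0 := by
  refine Groth.Agent.Lib.Helper16.Flasque.ext_vanish (IsBFlasque 𝔅) _ (fun I hI => ?_)
    (fun S hS h₁ h₂ => ?_) (fun S hS h₁ x => ?_) n G hG x
  · have := Groth.Agent.Lib.Helper16.Flasque.injective_isFlasque I
    exact isBFlasque_of_isFlasque 𝔅 I
  · exact isBFlasque_X₃ 𝔅 S hS h₁ h₂
  · obtain ⟨b, hb⟩ := exists_lift 𝔅 S hS h₁ ⊤ 𝔅.top (CohFree.evalGen _ _ _ x)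
    refine ⟨CohFree.ofSect _ _ _ b, ?_⟩
    apply (CohFree.homEquivSect _ _ _).injective
    rw [CohFree.homEquivSect_apply, CohFree.homEquivSect_apply]
    change S.g.hom.app (op ⊤) (CohFree.evalGen _ _ _ (CohFree.ofSect _ _ _ b)) = _
    rw [CohFree.evalGen_ofSect]
    exact hb

end Groth.Agent.Lib.Seat38.BFlasque
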