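import Mathlib

set_option autoImplicit false
universe u
open CategoryTheory CategoryTheory.Limits HomologicalComplex Opposite Simplicial AlgebraicTopology

namespace Groth.Agent.Lib.Seat38.CechFree

/-- the codiscrete ("Čech") simplicial set on a type: `n ↦ (Fin (n+1) → X)` -/
def cech (X : Type u) : SimplicialObject (Type u) where
  obj n := Fin (n.unop.len + 1) → X
  map θ := TypeCat.ofHom (fun a => a ∘ θ.unop.toOrderHom)
  map_id n := by
    ext a
    rfl
  map_comp θ θ' := by
    ext a
    rfl

/-- functoriality -/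
def cechMap {X Y : Type u} (f : X → Y) : cech X ⟶ cech Y where
  app n := TypeCat.ofHom (fun a => f ∘ a)
  naturality n m θ := by
    ext a
    rfl

/-- `cech` as a functor -/
def cechFunctor : Type u ⥤ SimplicialObject (Type u) where
  obj X := cech X
  map f := cechMap f
  map_id X := by
    ext n a
    rfl
  map_comp f g := by
    ext n a
    rfl

/-- the augmented Čech simplicial set `cech X → pt` -/
def cechAug (X : Type u) : SimplicialObject.Augmented (Type u) where
  left := cech X
  right := PUnit.{u + 1}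
  hom := { app := fun _ => TypeCat.ofHom (fun _ => PUnit.unit), naturality := fun _ _ _ => rfl }

/-- the extra degeneracy given by a point -/
def extraDegeneracy (X : Type u) (x₀ : X) : SimplicialObject.Augmented.ExtraDegeneracy (cechAug X) where
  s' := TypeCat.ofHom (fun _ _ => x₀)
  s n := TypeCat.ofHom (fun a => (Fin.cons x₀ a : Fin (n + 2) → X))
  s'_comp_ε := by
    ext x
    rfl
  s₀_comp_δ₁ := by
    ext a
    funext j
    fin_cases j
    rfl
  s_comp_δ₀ n := by
    ext a
    rfl
  s_comp_δ n i := by
    ext a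
    funext j
    cases j using Fin.cases with
    | zero => rfl
    | succ j => 
      change (Fin.cons x₀ a : Fin (n + 3) → X) (Fin.succAbove i.succ j.succ) = a (Fin.succAbove i j)
      rw [Fin.succ_succAbove_succ]
      exact Fin.cons_succ (α := fun _ => X) x₀ (a : Fin (n + 2) → X) (Fin.succAbove i j)
  s_comp_σ n i := by
    ext a
    funext j
    cases j using Fin.cases with
    | zero => rfl
    | succ j =>
      change (Fin.cons x₀ a : Fin (n + 2) → X) (Fin.predAbove i.succ j.succ) = a (Fin.predAbove i j)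
      rw [Fin.succ_predAbove_succ]
      exact Fin.cons_succ (α := fun _ => X) x₀ (a : Fin (n + 1) → X) (Fin.predAbove i j)


/-! ### a quasi-isomorphism to a complex concentrated in degree zero gives a cokernel -/

section Cokernel

variable {𝒜 : Type*} [Category 𝒜] [Abelian 𝒜] (K : ChainComplex 𝒜 ℕ) (Z : 𝒜)
  (π : K ⟶ (ChainComplex.single₀ 𝒜).obj Z)

lemma d_comp_f_zero : K.d 1 0 ≫ π.f 0 = 0 := by
  rw [← π.comm 1 0, HomologicalComplex.single_obj_d, comp_zero]

set_option backward.isDefEq.respectTransparency.types false in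
set_option backward.defeqAttrib.useBackward true in
/-- `Z` is the cokernel of `K_1 ⟶ K_0` if `K ⟶ Z[0]` is a quasi-isomorphism in degree `0`. -/
noncomputable def isColimitOfQuasiIsoAt [QuasiIsoAt π 0] :
    IsColimit (CokernelCofork.ofπ (π.f 0) (d_comp_f_zero K Z π)) := by
  refine IsColimit.ofIsoColimit (K.opcyclesIsCokernel 1 0 (by simp)) ?_
  refine Cofork.ext (K.isoHomologyι₀.symm ≪≫ isoOfQuasiIsoAt π 0 ≪≫
    singleObjHomologySelfIso _ _ _) ?_
  rw [← cancel_mono (singleObjHomologySelfIso (ComplexShape.down ℕ) 0 _).inv,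
    ← cancel_mono (ChainComplex.isoHomologyι₀ _).hom]
  dsimp
  simp only [ChainComplex.isoHomologyι₀_inv_naturality_assoc, p_opcyclesMap_assoc,
    ChainComplex.single₀_obj_zero, Category.assoc,
    Iso.hom_inv_id, Category.comp_id, isoHomologyι_inv_hom_id, singleObjHomologySelfIso_inv_homologyι,
    singleObjOpcyclesSelfIso_hom, ChainComplex.single₀ObjXSelf, Iso.refl_inv, Category.id_comp]

end Cokernel

/-! ### the free Čech complex of a type -/

/-- the augmented free simplicial abelian group on the Čech simplicial set -/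
def freeAug (X : Type u) : SimplicialObject.Augmented AddCommGrpCat.{u} :=
  ((SimplicialObject.Augmented.whiskering _ _).obj AddCommGrpCat.free).obj (cechAug X)

/-- the free Čech chain complex `n ↦ ℤ[X^{n+1}]` of a type -/
noncomputable def KX (X : Type u) : ChainComplex AddCommGrpCat.{u} ℕ :=
  AlternatingFaceMapComplex.obj (cech X ⋙ AddCommGrpCat.free)

/-- the augmentation `ℤ[X] ⟶ ℤ[pt]` -/
noncomputable def augX (X : Type u) : (KX X).X 0 ⟶ AddCommGrpCat.free.obj PUnit.{u + 1} :=
  AddCommGrpCat.free.map (TypeCat.ofHom (fun _ => PUnit.unit))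

/-- the augmentation as a morphism of complexes -/
noncomputable def εX (X : Type u) : KX X ⟶ (ChainComplex.single₀ AddCommGrpCat.{u}).obj (AddCommGrpCat.free.obj PUnit.{u + 1}) :=
  AlternatingFaceMapComplex.ε.app (freeAug X)

lemma εX_f_zero (X : Type u) : (εX X).f 0 = augX X :=
  AlternatingFaceMapComplex.ε_app_f_zero (freeAug X)

/-- the homotopy equivalence given by a point -/
noncomputable def homotopyEquivX (X : Type u) (x₀ : X) :
    HomotopyEquiv (KX X) ((ChainComplex.single₀ AddCommGrpCat.{u}).obj (AddCommGrpCat.free.obj PUnit.{u + 1})) :=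
  ((extraDegeneracy X x₀).map AddCommGrpCat.free).homotopyEquiv

lemma homotopyEquivX_hom (X : Type u) (x₀ : X) : (homotopyEquivX X x₀).hom = εX X := rfl

lemma isZero_KX_X (X : Type u) [IsEmpty X] (n : ℕ) : IsZero ((KX X).X n) := by
  have : IsEmpty (Fin (n + 1) → X) := ⟨fun a => isEmptyElim (a 0)⟩
  have : Subsingleton (FreeAbelianGroup (Fin (n + 1) → X)) := inferInstance
  exact @AddCommGrpCat.isZero_of_subsingleton (AddCommGrpCat.of (FreeAbelianGroup (Fin (n + 1) → X))) this

theorem exactAt_KX (X : Type u) (n : ℕ) : (KX X).ExactAt (n + 1) := by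
  by_cases hX : Nonempty X
  · obtain ⟨x₀⟩ := hX
    have : QuasiIsoAt (homotopyEquivX X x₀).hom (n + 1) := inferInstance
    exact (quasiIsoAt_iff_exactAt' (homotopyEquivX X x₀).hom (n + 1)
      (ChainComplex.exactAt_succ_single_obj _ n)).1 this
  · have : IsEmpty X := not_nonempty_iff.1 hX
    exact ShortComplex.exact_of_isZero_X₂ _ (isZero_KX_X X (n + 1))

lemma d_comp_augX (X : Type u) : (KX X).d 1 0 ≫ augX X = 0 := by
  rw [← εX_f_zero]
  exact d_comp_f_zero _ _ _

theorem exact_augX (X : Type u) : (ShortComplex.mk _ _ (d_comp_augX X)).Exact := by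
  by_cases hX : Nonempty X
  · obtain ⟨x₀⟩ := hX
    have : QuasiIsoAt (εX X) 0 := by
      rw [← homotopyEquivX_hom X x₀]
      infer_instance
    have hc := isColimitOfQuasiIsoAt (KX X) _ (εX X)
    have h := ShortComplex.exact_of_g_is_cokernel
      (ShortComplex.mk ((KX X).d 1 0) ((εX X).f 0) (d_comp_f_zero _ _ _)) hc
    have e : (εX X).f 0 = augX X := εX_f_zero X
    simp only [e] at h
    exact h
  · have : IsEmpty X := not_nonempty_iff.1 hX
    exact ShortComplex.exact_of_isZero_X₂ _ (isZero_KX_X X 0)

theorem epi_augX (X : Type u) [hX : Nonempty X] : Epi (augX X) := by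
  obtain ⟨x₀⟩ := hX
  have : QuasiIsoAt (εX X) 0 := by
    rw [← homotopyEquivX_hom X x₀]
    infer_instance
  have hc := isColimitOfQuasiIsoAt (KX X) _ (εX X)
  rw [← εX_f_zero]
  exact epi_of_isColimit_cofork hc

end Groth.Agent.Lib.Seat38.CechFree
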