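import Mathlib

/-!
# The cochain complex `Hom(K_•, F)` as a functor of `F` (seat 38)

For a chain complex `K` in a preadditive category `D`, `homCxFunctor K : D ⥤ CochainComplex Ab ℕ` sends `F` to the complex
`p ↦ Hom(K_p, F)`.  Its `p`-th term is `Hom(K_p, -)` (`homCxEvalIso`); it sends injective objects to complexes exact in
degree `q + 1` when `K` is exact in degree `q + 1` (`isZero_homology_homCx`); its `H⁰` is `Hom(Z, -)` when `Z` is a cokernel
of `K_1 ⟶ K_0` (`homCxHomologyZeroIso`).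
-/

set_option autoImplicit false
universe v u
open CategoryTheory CategoryTheory.Limits HomologicalComplex Opposite

namespace Groth.Agent.Lib.Seat38.HomCx

variable {D : Type u} [Category.{v} D] [Preadditive D] (K : ChainComplex D ℕ)

/-- precomposition as a morphism of abelian groups -/
def pre {X Y : D} (f : X ⟶ Y) (F : D) : AddCommGrpCat.of (Y ⟶ F) ⟶ AddCommGrpCat.of (X ⟶ F) :=
  AddCommGrpCat.ofHom
    { toFun := fun g => f ≫ g
      map_zero' := Limits.comp_zero
      map_add' := fun _ _ => Preadditive.comp_add _ _ _ _ _ _ }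

/-- postcomposition as a morphism of abelian groups -/
def post (X : D) {F F' : D} (ψ : F ⟶ F') : AddCommGrpCat.of (X ⟶ F) ⟶ AddCommGrpCat.of (X ⟶ F') :=
  AddCommGrpCat.ofHom
    { toFun := fun g => g ≫ ψ
      map_zero' := Limits.zero_comp
      map_add' := fun _ _ => Preadditive.add_comp _ _ _ _ _ _ }

@[simp] lemma pre_apply {X Y : D} (f : X ⟶ Y) (F : D) (g : Y ⟶ F) : pre f F g = f ≫ g := rfl
@[simp] lemma post_apply (X : D) {F F' : D} (ψ : F ⟶ F') (g : X ⟶ F) : post X ψ g = g ≫ ψ := rfl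

/-- the complex `Hom(K_•, F)` -/
def homCx (F : D) : CochainComplex AddCommGrpCat.{v} ℕ where
  X p := AddCommGrpCat.of (K.X p ⟶ F)
  d i j := pre (K.d j i) F
  shape i j h := by
    ext g
    have : K.d j i = 0 := K.shape j i h
    change K.d j i ≫ g = 0
    rw [this, zero_comp]
  d_comp_d' i j k _ _ := by
    ext g
    change K.d k j ≫ (K.d j i ≫ g) = 0
    rw [← Category.assoc, K.d_comp_d, zero_comp]

@[simp] lemma homCx_d_apply (F : D) (i j : ℕ) (g : K.X i ⟶ F) : (homCx K F).d i j g = K.d j i ≫ g := rfl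

/-- functoriality in `F` -/
def homCxMap {F F' : D} (ψ : F ⟶ F') : homCx K F ⟶ homCx K F' where
  f p := post (K.X p) ψ
  comm' i j _ := by
    ext g
    exact (Category.assoc (K.d j i) (g : K.X i ⟶ F) ψ).symm

@[simp] lemma homCxMap_f_apply {F F' : D} (ψ : F ⟶ F') (p : ℕ) (g : K.X p ⟶ F) :
    (homCxMap K ψ).f p g = g ≫ ψ := rfl

/-- `F ↦ Hom(K_•, F)` -/
def homCxFunctor : D ⥤ CochainComplex AddCommGrpCat.{v} ℕ where
  obj F := homCx K F
  map ψ := homCxMap K ψ
  map_id F := by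
    ext p g
    change g ≫ 𝟙 F = g
    exact Category.comp_id g
  map_comp ψ ψ' := by
    ext p g
    change g ≫ (ψ ≫ ψ') = (g ≫ ψ) ≫ ψ'
    exact (Category.assoc _ _ _).symm

instance : (homCxFunctor K).Additive where
  map_add {F F'} ψ ψ' := by
    ext p g
    change g ≫ (ψ + ψ') = g ≫ ψ + g ≫ ψ'
    exact Preadditive.comp_add _ _ _ _ _ _

/-- the `p`-th term of `Hom(K_•, -)` is `Hom(K_p, -)` -/
def homCxEvalIso (p : ℕ) :
    homCxFunctor K ⋙ eval AddCommGrpCat.{v} (ComplexShape.up ℕ) p ≅ preadditiveCoyoneda.obj (op (K.X p)) :=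
  NatIso.ofComponents (fun F => Iso.refl _) (fun {F F'} ψ => by
    ext g
    rfl)


end Groth.Agent.Lib.Seat38.HomCx

namespace Groth.Agent.Lib.Seat38.HomCx

variable {D : Type u} [Category.{v} D] [Abelian D] (K : ChainComplex D ℕ)

/-- `Hom(K_•, Q)` is exact in degree `q + 1` if `K` is and `Q` is injective. -/
theorem isZero_homology_homCx (q : ℕ) (hK : K.ExactAt (q + 1)) (Q : D) [Injective Q] :
    IsZero ((homCx K Q).homology (q + 1)) := by
  rw [← exactAt_iff_isZero_homology,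
    exactAt_iff' (homCx K Q) q (q + 1) (q + 2) (by simp) (by simp), ShortComplex.ab_exact_iff]
  intro x₂ hx₂
  rw [exactAt_iff' K (q + 2) (q + 1) q (by simp) (by simp)] at hK
  have h : K.d (q + 2) (q + 1) ≫ (x₂ : K.X (q + 1) ⟶ Q) = 0 := hx₂
  exact ⟨hK.descToInjective (x₂ : K.X (q + 1) ⟶ Q) h, hK.comp_descToInjective _ h⟩

section HZero

variable {Z : D} (ε : K.X 0 ⟶ Z) (w : K.d 1 0 ≫ ε = 0) (hc : IsColimit (CokernelCofork.ofπ ε w))

include w in
lemma pre_comp_d (F : D) : pre ε F ≫ (homCx K F).d 0 1 = 0 := by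
  ext g
  change K.d 1 0 ≫ (ε ≫ (g : Z ⟶ F)) = 0
  rw [← Category.assoc, w, zero_comp]

include hc in
lemma mono_pre (F : D) : Mono (pre ε F) := by
  have : Epi ε := epi_of_isColimit_cofork hc
  rw [AddCommGrpCat.mono_iff_injective]
  intro g g' h
  exact (cancel_epi ε).1 h

include hc in
lemma exact_pre (F : D) : (ShortComplex.mk (pre ε F) ((homCx K F).d 0 1) (pre_comp_d K ε w F)).Exact := by
  rw [ShortComplex.ab_exact_iff]
  intro x₂ hx₂
  have h : K.d 1 0 ≫ (x₂ : K.X 0 ⟶ F) = 0 := hx₂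
  obtain ⟨l, hl⟩ := CokernelCofork.IsColimit.desc' hc (x₂ : K.X 0 ⟶ F) h
  exact ⟨l, hl⟩

/-- `Hom(Z, F)` is the group of `0`-cocycles of `Hom(K_•, F)`. -/
noncomputable def cyclesIso (F : D) : AddCommGrpCat.of (Z ⟶ F) ≅ (homCx K F).cycles 0 :=
  haveI := mono_pre K ε w hc F
  IsLimit.conePointUniqueUpToIso (exact_pre K ε w hc F).fIsKernel ((homCx K F).cyclesIsKernel 0 1 (by simp))

lemma cyclesIso_hom_iCycles (F : D) : (cyclesIso K ε w hc F).hom ≫ (homCx K F).iCycles 0 = pre ε F :=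
  haveI := mono_pre K ε w hc F
  IsLimit.conePointUniqueUpToIso_hom_comp (exact_pre K ε w hc F).fIsKernel
    ((homCx K F).cyclesIsKernel 0 1 (by simp)) WalkingParallelPair.zero

lemma isIso_homologyπ_zero (L : CochainComplex AddCommGrpCat.{v} ℕ) : IsIso (L.homologyπ 0) :=
  L.isIso_homologyπ 0 0 (by simp) (L.shape _ _ (by simp))

/-- `Hom(Z, F) ≅ H⁰(Hom(K_•, F))` -/
noncomputable def homologyZeroIsoApp (F : D) : AddCommGrpCat.of (Z ⟶ F) ≅ (homCx K F).homology 0 :=
  haveI := isIso_homologyπ_zero (homCx K F)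
  cyclesIso K ε w hc F ≪≫ asIso ((homCx K F).homologyπ 0)

/-- `H⁰(Hom(K_•, -)) ≅ Hom(Z, -)` when `Z` is a cokernel of `K_1 ⟶ K_0`. -/
noncomputable def homCxHomologyZeroIso :
    homCxFunctor K ⋙ homologyFunctor AddCommGrpCat.{v} (ComplexShape.up ℕ) 0 ≅
      preadditiveCoyoneda.obj (op Z) :=
  (NatIso.ofComponents (fun F => homologyZeroIsoApp K ε w hc F) (fun {F F'} ψ => by
    have h1 : post Z ψ ≫ (cyclesIso K ε w hc F').hom =
        (cyclesIso K ε w hc F).hom ≫ cyclesMap (homCxMap K ψ) 0 := by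
      rw [← cancel_mono ((homCx K F').iCycles 0), Category.assoc, Category.assoc, cyclesIso_hom_iCycles,
        cyclesMap_i, ← Category.assoc, cyclesIso_hom_iCycles]
      ext g
      exact (Category.assoc ε (g : Z ⟶ F) ψ).symm
    change post Z ψ ≫ (cyclesIso K ε w hc F').hom ≫ (homCx K F').homologyπ 0 =
      ((cyclesIso K ε w hc F).hom ≫ (homCx K F).homologyπ 0) ≫ homologyMap (homCxMap K ψ) 0
    rw [Category.assoc, homologyπ_naturality, ← Category.assoc, ← Category.assoc, h1])).symm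

end HZero

end Groth.Agent.Lib.Seat38.HomCx
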