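import Mathlib
import Groth.Agent.Lib.Helper9DeltaDerived

/-!
# Homology of `ℕ`-indexed cochain complexes as right derived functors of `H⁰` (seat 38)

For an abelian category `C`, the functors `Hⁿ : CochainComplex C ℕ ⥤ C` form an effaceable cohomological δ-functor:
`Hⁿ⁺¹` vanishes on injective cochain complexes (`isZero_homology_of_injective`), and `H⁰` is left exact
(`preservesFiniteLimits_homologyFunctor_zero`).  Hence `Hⁿ ≅ Rⁿ(H⁰)` (`homologyFunctor_iso_rightDerived`).
-/

set_option autoImplicit false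
set_option linter.unusedVariables false
universe v u
open CategoryTheory CategoryTheory.Limits HomologicalComplex

namespace Groth.Agent.Lib.Seat38.ChHomDer

variable {C : Type u} [Category.{v} C] [Abelian C]

/-- an injective object of the category of `ℕ`-indexed cochain complexes is exact in positive degrees. -/
theorem isZero_homology_of_injective (J : CochainComplex C ℕ) [Injective J] (n : ℕ) :
    IsZero (J.homology (n + 1)) := by
  have hrel : (ComplexShape.up ℕ).Rel n (n + 1) := rfl
  have hne : n ≠ n + 1 := by omega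
  let Z := J.cycles (n + 1)
  let a : Z ⟶ J.X (n + 1) := J.iCycles (n + 1)
  let D := double (𝟙 Z) hrel
  let φ : (single C (ComplexShape.up ℕ) (n + 1)).obj Z ⟶ J :=
    mkHomFromSingle a (fun k _ => J.iCycles_d (n + 1) k)
  let ι : (single C (ComplexShape.up ℕ) (n + 1)).obj Z ⟶ D :=
    mkHomFromSingle (doubleXIso₁ (𝟙 Z) hrel hne).inv (fun k _ => by
      rw [double_d_eq_zero₀ (𝟙 Z) hrel (n + 1) k (by omega), comp_zero])
  have hι : Mono ι := by
    have : ∀ k, Mono (ι.f k) := by
      intro k
      by_cases hk : k = n + 1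
      · subst hk
        have : ι.f (n + 1) = (singleObjXSelf (ComplexShape.up ℕ) (n + 1) Z).hom ≫
            (doubleXIso₁ (𝟙 Z) hrel hne).inv := mkHomFromSingle_f _ _
        rw [this]
        infer_instance
      · exact (isZero_single_obj_X (ComplexShape.up ℕ) (n + 1) Z k hk).mono _
    exact mono_of_mono_f ι this
  let ψ : D ⟶ J := Injective.factorThru φ ι
  have hψ : ι ≫ ψ = φ := Injective.comp_factorThru φ ι
  let h : Z ⟶ J.X n := (doubleXIso₀ (𝟙 Z) hrel).inv ≫ ψ.f n
  have h1 : (doubleXIso₁ (𝟙 Z) hrel hne).inv ≫ ψ.f (n + 1) = a := by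
    have e := congrArg (fun m => m.f (n + 1)) hψ
    have e1 : ι.f (n + 1) = (singleObjXSelf (ComplexShape.up ℕ) (n + 1) Z).hom ≫
        (doubleXIso₁ (𝟙 Z) hrel hne).inv := mkHomFromSingle_f _ _
    have e2 : φ.f (n + 1) = (singleObjXSelf (ComplexShape.up ℕ) (n + 1) Z).hom ≫ a :=
      mkHomFromSingle_f _ _
    simp only [comp_f] at e
    rw [e1, e2, Category.assoc] at e
    exact (cancel_epi _).1 e
  have h2 : h ≫ J.d n (n + 1) = a := by
    have e := ψ.comm n (n + 1)
    rw [double_d (𝟙 Z) hrel hne] at e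
    simp only [h, Category.assoc]
    rw [e]
    simp only [Category.id_comp, Category.assoc, Iso.inv_hom_id_assoc]
    exact h1
  have h3 : h ≫ J.toCycles n (n + 1) = 𝟙 _ := by
    rw [← cancel_mono (J.iCycles (n + 1)), Category.assoc, toCycles_i, Category.id_comp]
    exact h2
  have : Epi (J.toCycles n (n + 1)) := epi_of_epi_fac h3
  have h4 : J.homologyπ (n + 1) = 0 := by
    rw [← cancel_epi (J.toCycles n (n + 1)), toCycles_comp_homologyπ, comp_zero]
  exact IsZero.of_epi_eq_zero _ h4

/-- `H⁰` on `ℕ`-indexed cochain complexes preserves monomorphisms. -/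
theorem mono_homologyMap_zero {K L : CochainComplex C ℕ} (f : K ⟶ L) [Mono f] :
    Mono (homologyMap f 0) := by
  have hK : IsIso (K.homologyπ 0) := K.isIso_homologyπ 0 0 (by simp) (K.shape _ _ (by simp))
  have hL : IsIso (L.homologyπ 0) := L.isIso_homologyπ 0 0 (by simp) (L.shape _ _ (by simp))
  have : Mono (f.f 0) := inferInstance
  have hc : Mono (cyclesMap f 0) := by
    have e : cyclesMap f 0 ≫ L.iCycles 0 = K.iCycles 0 ≫ f.f 0 := cyclesMap_i f 0
    have : Mono (cyclesMap f 0 ≫ L.iCycles 0) := by rw [e]; infer_instance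
    exact mono_of_mono (cyclesMap f 0) (L.iCycles 0)
  have e : homologyMap f 0 = inv (K.homologyπ 0) ≫ cyclesMap f 0 ≫ L.homologyπ 0 := by
    rw [IsIso.eq_inv_comp, homologyπ_naturality]
  rw [e]
  infer_instance

instance preservesFiniteLimits_homologyFunctor_zero :
    PreservesFiniteLimits (homologyFunctor C (ComplexShape.up ℕ) 0) := by
  refine ((Functor.preservesFiniteLimits_tfae (homologyFunctor C (ComplexShape.up ℕ) 0)).out 0 3).1 ?_
  intro S hS
  exact ⟨hS.homology_exact₂ 0, by
    have := hS.mono_f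
    exact mono_homologyMap_zero S.f⟩

open Groth.Agent.Lib.Helper9.DeltaDerived in
/-- the homology functors on `ℕ`-indexed cochain complexes form an effaceable δ-functor. -/
noncomputable def effDelta :
    EffDelta (fun n : ℕ => homologyFunctor C (ComplexShape.up ℕ) n) where
  δ S hS n := hS.δ n (n + 1) rfl
  δ_nat hS hS' φ n := (HomologySequence.δ_naturality φ hS hS' n (n + 1) rfl).symm
  comp_δ S hS n := hS.comp_δ n (n + 1) rfl
  exact₃ S hS n := hS.homology_exact₃ n (n + 1) rfl
  δ_comp S hS n := hS.δ_comp n (n + 1) rfl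
  exact₁ S hS n := hS.homology_exact₁ n (n + 1) rfl
  isZero J _ n := isZero_homology_of_injective J n

/-- `Hⁿ ≅ Rⁿ(H⁰)` on `ℕ`-indexed cochain complexes. -/
theorem homologyFunctor_iso_rightDerived [HasInjectiveResolutions (CochainComplex C ℕ)] (n : ℕ) :
    Nonempty (homologyFunctor C (ComplexShape.up ℕ) n ≅
      (homologyFunctor C (ComplexShape.up ℕ) 0).rightDerived n) :=
  Groth.Agent.Lib.Helper9.DeltaDerived.iso_rightDerived (effDelta (C := C)) n

end Groth.Agent.Lib.Seat38.ChHomDer
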