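import Groth.Prelude.Def_SpSeq
import Mathlib.Algebra.Homology.Embedding.ExtendHomology
import Mathlib.Algebra.Homology.Embedding.Basic
import Mathlib.Order.Interval.Finset.Defs
import Mathlib.Data.Int.Interval

/-!
# A degenerate spectral sequence from exact rows (seat 38)

Given `ℕ`-indexed cochain complexes `R q` (`q : ℕ`) in an abelian category, each exact in positive degrees, and objects
`H n` (`n : ℤ`) with `H^0(R q) ≅ H q` and `H n = 0` for `n < 0`, we build a cohomological spectral sequence starting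
at page one whose first page has the complexes `R q` as rows (zero outside the first quadrant), whose later pages
have zero differentials, together with abutment data with abutment `H` (one-step filtrations).
-/

set_option autoImplicit false
set_option linter.unusedSectionVars false
set_option linter.unusedVariables false
universe v u
open CategoryTheory CategoryTheory.Limits

namespace Groth.Agent.Lib.Seat38.PageRows

variable {C : Type u} [Category.{v} C] [Abelian C]

/-! ### graded pieces of one-step filtrations -/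

section Gr

variable {X : C}

lemma isZero_subquot_of_eq (Z B : Subobject X) (h : B ≤ Z) (hZB : Z = B) : IsZero (SpSeq.subquot Z B h) := by
  subst hZB
  unfold SpSeq.subquot
  have h1 : Z.ofLE Z h = 𝟙 _ := Subobject.ofLE_refl _
  have : Epi (Z.ofLE Z h) := by rw [h1]; infer_instance
  exact isZero_cokernel_of_epi _

lemma nonempty_subquot_top_bot_iso (Z B : Subobject X) (h : B ≤ Z) (hZ : Z = ⊤) (hB : B = ⊥) :
    Nonempty (SpSeq.subquot Z B h ≅ X) := by
  subst hZ hB
  unfold SpSeq.subquot
  have hz : IsZero ((⊥ : Subobject X) : C) := (isZero_zero C).of_iso Subobject.botCoeIsoZero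
  have h0 : (⊥ : Subobject X).ofLE ⊤ h = 0 := hz.eq_of_src _ _
  exact ⟨cokernelIsoOfEq h0 ≪≫ cokernelZeroIsoTarget ≪≫ asIso (⊤ : Subobject X).arrow⟩

/-- the one-step filtration -/
noncomputable def fil1 (X : C) (p : ℤ) : Subobject X := if p ≤ 0 then ⊤ else ⊥

lemma fil1_anti (X : C) : Antitone (fil1 X) := by
  intro p p' hpp'
  unfold fil1
  by_cases h1 : p ≤ 0
  · rw [if_pos h1]
    exact le_top
  · rw [if_neg h1, if_neg (by omega)]

lemma isZero_grPiece_fil1 (X : C) (p : ℤ) (hp : p ≠ 0) : IsZero (SpSeq.grPiece (fil1 X) (fil1_anti X) p) := by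
  unfold SpSeq.grPiece
  apply isZero_subquot_of_eq
  unfold fil1
  rcases lt_or_gt_of_ne hp with h | h
  · rw [if_pos (by omega), if_pos (by omega)]
  · rw [if_neg (by omega), if_neg (by omega)]

lemma nonempty_grPiece_fil1_zero_iso (X : C) : Nonempty (SpSeq.grPiece (fil1 X) (fil1_anti X) 0 ≅ X) := by
  unfold SpSeq.grPiece
  apply nonempty_subquot_top_bot_iso
  · unfold fil1; rw [if_pos le_rfl]
  · unfold fil1; rw [if_neg (by omega)]

end Gr

/-! ### the complex with zero differentials -/

/-- a complex with zero differentials -/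
def zeroPage (X : ℤ × ℤ → C) (c : ComplexShape (ℤ × ℤ)) : HomologicalComplex C c where
  X := X
  d _ _ := 0
  shape _ _ _ := rfl
  d_comp_d' _ _ _ _ _ := zero_comp

/-- its homology -/
noncomputable def zeroPageHomologyIso (X : ℤ × ℤ → C) (c : ComplexShape (ℤ × ℤ)) (pq : ℤ × ℤ) :
    (zeroPage X c).homology pq ≅ X pq :=
  (ShortComplex.HomologyData.ofZeros ((zeroPage X c).sc pq) rfl rfl).left.homologyIso

/-! ### the first page from its rows -/

section PageOne

variable (W : ℤ → CochainComplex C ℤ)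

/-- The complex on `ℤ × ℤ` with differentials of bidegree `(1, 0)` whose rows are the `W q`. -/
def pageOne : HomologicalComplex C (ComplexShape.up' (((1 : ℤ), (1 : ℤ) - 1) : ℤ × ℤ)) where
  X pq := (W pq.2).X pq.1
  d pq pq' := if h : pq.2 = pq'.2 then (W pq.2).d pq.1 pq'.1 ≫ eqToHom (by rw [h]) else 0
  shape pq pq' hrel := by
    split_ifs with h
    · rw [(W pq.2).shape _ _ ?_, zero_comp]
      intro h2
      apply hrel
      change pq + ((1 : ℤ), (1 : ℤ) - 1) = pq'
      ext
      · exact h2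
      · simpa using h
    · rfl
  d_comp_d' pq pq' pq'' _ _ := by
    obtain ⟨p, q⟩ := pq
    obtain ⟨p', q'⟩ := pq'
    obtain ⟨p'', q''⟩ := pq''
    by_cases h1 : q = q'
    · by_cases h2 : q' = q''
      · subst h1 h2
        rw [dif_pos rfl, dif_pos rfl]
        simp
      · rw [dif_neg h2, comp_zero]
    · rw [dif_neg h1, zero_comp]

lemma pageOne_X (p q : ℤ) : (pageOne W).X (p, q) = (W q).X p := rfl

lemma pageOne_d (p p' q : ℤ) : (pageOne W).d (p, q) (p', q) = (W q).d p p' := by
  change (if h : q = q then (W q).d p p' ≫ eqToHom _ else 0) = _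
  rw [dif_pos rfl, eqToHom_refl, Category.comp_id]

/-- homology of the first page is computed row by row -/
noncomputable def pageOneHomologyIso (p q : ℤ) : (pageOne W).homology (p, q) ≅ (W q).homology p := by
  have hprev : (ComplexShape.up' (((1 : ℤ), (1 : ℤ) - 1) : ℤ × ℤ)).prev (p, q) = (p - 1, q) :=
    ComplexShape.prev_eq' _ (by change (p - 1, q) + ((1 : ℤ), (1 : ℤ) - 1) = (p, q); ext <;> simp)
  have hnext : (ComplexShape.up' (((1 : ℤ), (1 : ℤ) - 1) : ℤ × ℤ)).next (p, q) = (p + 1, q) :=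
    ComplexShape.next_eq' _ (by change (p, q) + ((1 : ℤ), (1 : ℤ) - 1) = (p + 1, q); ext <;> simp)
  refine (pageOne W).homologyIsoSc' (p - 1, q) (p, q) (p + 1, q) hprev hnext ≪≫ ?_ ≪≫
    ((W q).homologyIsoSc' (p - 1) p (p + 1) (by simp) (by simp)).symm
  refine ShortComplex.homologyMapIso (ShortComplex.isoMk (Iso.refl ((W q).X (p - 1))) (Iso.refl ((W q).X p))
    (Iso.refl ((W q).X (p + 1))) ?_ ?_)
  · have h1 := pageOne_d W (p - 1) p q
    change 𝟙 _ ≫ (W q).d (p - 1) p = (pageOne W).d (p - 1, q) (p, q) ≫ 𝟙 _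
    rw [h1]
    exact (Category.id_comp _).trans (Category.comp_id _).symm
  · have h1 := pageOne_d W p (p + 1) q
    change 𝟙 _ ≫ (W q).d p (p + 1) = (pageOne W).d (p, q) (p + 1, q) ≫ 𝟙 _
    rw [h1]
    exact (Category.id_comp _).trans (Category.comp_id _).symm

/-- the pages: page one is `pageOne W`, the later pages are the homology of page one with zero differentials -/
noncomputable def pageR (r : ℤ) : HomologicalComplex C (ComplexShape.up' ((r, 1 - r) : ℤ × ℤ)) :=
  if h : r = 1 then Eq.mpr (by rw [h]) (pageOne W)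
  else zeroPage (fun pq => (pageOne W).homology pq) (ComplexShape.up' ((r, 1 - r) : ℤ × ℤ))

lemma pageR_one : pageR W 1 = pageOne W := by
  unfold pageR
  rw [dif_pos rfl]
  rfl

lemma pageR_of_ne (r : ℤ) (h : r ≠ 1) :
    pageR W r = zeroPage (fun pq => (pageOne W).homology pq) (ComplexShape.up' ((r, 1 - r) : ℤ × ℤ)) := by
  unfold pageR
  rw [dif_neg h]

/-- The spectral sequence. -/
noncomputable def specSeq : CohomologicalSpectralSequence C 1 where
  page r hr := pageR W r
  iso r r' pq hrr' hr := by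
    subst hrr'
    by_cases h : r = 1
    · subst h
      rw [pageR_one, pageR_of_ne W (1 + 1) (by norm_num)]
      exact Iso.refl _
    · rw [pageR_of_ne W r h, pageR_of_ne W (r + 1) (by omega)]
      exact zeroPageHomologyIso _ _ pq

lemma specSeq_page_one : (specSeq W).page 1 le_rfl = pageOne W := pageR_one W

lemma specSeq_page_of_ne (r : ℤ) (hr : 1 ≤ r) (h : r ≠ 1) :
    (specSeq W).page r hr =
      zeroPage (fun pq => (pageOne W).homology pq) (ComplexShape.up' ((r, 1 - r) : ℤ × ℤ)) := pageR_of_ne W r h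

lemma specSeq_d_eq_zero (r : ℤ) (hr : 1 ≤ r) (h : 2 ≤ r) (a b : ℤ × ℤ) : ((specSeq W).page r hr).d a b = 0 := by
  rw [specSeq_page_of_ne W r hr (by omega)]
  rfl

lemma specSeq_stationary (pq : ℤ × ℤ) : SpSeq.StationaryAt (specSeq W) pq 2 :=
  ⟨by norm_num, fun r' h₀ hr' => ⟨specSeq_d_eq_zero W r' h₀ hr' _ _, specSeq_d_eq_zero W r' h₀ hr' _ _⟩⟩

/-- the objects of page two -/
noncomputable def specSeqPageTwoXIso (p q : ℤ) :
    ((specSeq W).page 2 (by norm_num)).X (p, q) ≅ (W q).homology p :=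
  eqToIso (by rw [specSeq_page_of_ne W 2 (by norm_num) (by norm_num)]; rfl) ≪≫ pageOneHomologyIso W p q

/-- Abutment data for `specSeq W`, given that the rows are exact outside degree `0` with `H⁰` the given objects. -/
noncomputable def abutment (H : ℤ → C) (h0 : ∀ q : ℤ, Nonempty ((W q).homology 0 ≅ H q))
    (hne : ∀ p q : ℤ, p ≠ 0 → IsZero ((W q).homology p)) : SpSeq.Abutment (specSeq W) H where
  fil n := fil1 (H n)
  anti n := fil1_anti (H n)
  rk _ := 2
  stat pq := specSeq_stationary W pq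
  β pq := by
    obtain ⟨p, q⟩ := pq
    refine specSeqPageTwoXIso W p q ≪≫ ?_
    by_cases hp : p = 0
    · subst hp
      refine (h0 q).some ≪≫ ?_ ≪≫ (nonempty_grPiece_fil1_zero_iso (H (0 + q))).some.symm
      exact eqToIso (by rw [zero_add])
    · exact (hne p q hp).iso (isZero_grPiece_fil1 _ p hp)

lemma abutment_isFinite (H : ℤ → C) (h0 : ∀ q : ℤ, Nonempty ((W q).homology 0 ≅ H q))
    (hne : ∀ p q : ℤ, p ≠ 0 → IsZero ((W q).homology p)) (n : ℤ) : (abutment W H h0 hne).IsFinite n := by
  refine ⟨⟨0, ?_⟩, ⟨1, ?_⟩⟩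
  · change fil1 (H n) 0 = ⊤
    unfold fil1; rw [if_pos le_rfl]
  · change fil1 (H n) 1 = ⊥
    unfold fil1; rw [if_neg (by omega)]

lemma specSeq_page_one_X (p q : ℤ) : ((specSeq W).page 1 le_rfl).X (p, q) = (W q).X p := by
  rw [specSeq_page_one]
  rfl

lemma specSeq_isBounded (hW : ∀ p q : ℤ, ¬ (0 ≤ p ∧ 0 ≤ q) → IsZero ((W q).X p)) : SpSeq.IsBounded (specSeq W) := by
  intro n
  refine (Set.finite_Icc (0 : ℤ) n).subset ?_
  intro p hp
  rw [Set.mem_ofPred_eq] at hp
  by_contra hcon
  apply hp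
  rw [specSeq_page_one_X]
  apply hW
  rintro ⟨h1, h2⟩
  exact hcon ⟨h1, by omega⟩

end PageOne

/-! ### rows indexed by `ℕ` -/

section Rows

variable (R : ℕ → CochainComplex C ℕ)

/-- the rows extended by zero to `ℤ`, for `q : ℤ` -/
noncomputable def rowZ : ℤ → CochainComplex C ℤ
  | Int.ofNat q => (R q).extend ComplexShape.embeddingUpNat
  | Int.negSucc _ => HomologicalComplex.zero

lemma rowZ_natCast (q : ℕ) : rowZ R (q : ℤ) = (R q).extend ComplexShape.embeddingUpNat := rfl

lemma isZero_rowZ_X (p q : ℤ) (h : ¬ (0 ≤ p ∧ 0 ≤ q)) : IsZero ((rowZ R q).X p) := by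
  cases q with
  | ofNat q =>
    change IsZero (((R q).extend ComplexShape.embeddingUpNat).X p)
    apply HomologicalComplex.isZero_extend_X
    intro i hi
    apply h
    change (i : ℤ) = p at hi
    exact ⟨by omega, Int.natCast_nonneg q⟩
  | negSucc q =>
    change IsZero ((HomologicalComplex.zero : CochainComplex C ℤ).X p)
    exact (HomologicalComplex.eval C (ComplexShape.up ℤ) p).map_isZero HomologicalComplex.isZero_zero

/-- the terms of the extended rows -/
noncomputable def rowZXIso (p q : ℕ) : (rowZ R (q : ℤ)).X (p : ℤ) ≅ (R q).X p :=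
  (R q).extendXIso ComplexShape.embeddingUpNat (i := p) (i' := (p : ℤ)) rfl

lemma isZero_rowZ_homology (hex : ∀ q p, (R q).ExactAt (p + 1)) (p q : ℤ) (hp : p ≠ 0) :
    IsZero ((rowZ R q).homology p) := by
  cases q with
  | ofNat q =>
    change IsZero (((R q).extend ComplexShape.embeddingUpNat).homology p)
    rw [← HomologicalComplex.exactAt_iff_isZero_homology]
    rcases lt_or_gt_of_ne hp with h | h
    · apply HomologicalComplex.extend_exactAt
      intro i hi
      change (i : ℤ) = p at hi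
      omega
    · obtain ⟨k, rfl⟩ : ∃ k : ℕ, p = ((k + 1 : ℕ) : ℤ) := ⟨(p - 1).toNat, by omega⟩
      exact (HomologicalComplex.extend_exactAt_iff (R q) ComplexShape.embeddingUpNat (j := k + 1)
        (j' := ((k + 1 : ℕ) : ℤ)) rfl).mpr (hex q k)
  | negSucc q =>
    change IsZero ((HomologicalComplex.zero : CochainComplex C ℤ).homology p)
    exact (HomologicalComplex.homologyFunctor C (ComplexShape.up ℤ) p).map_isZero HomologicalComplex.isZero_zero

lemma nonempty_rowZ_homology_zero_iso (H : ℤ → C) (hH : ∀ q : ℕ, Nonempty ((R q).homology 0 ≅ H q))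
    (hH' : ∀ n : ℤ, n < 0 → IsZero (H n)) (q : ℤ) : Nonempty ((rowZ R q).homology 0 ≅ H q) := by
  cases q with
  | ofNat q =>
    change Nonempty (((R q).extend ComplexShape.embeddingUpNat).homology 0 ≅ H (q : ℤ))
    exact ⟨(R q).extendHomologyIso ComplexShape.embeddingUpNat (j := 0) (j' := (0 : ℤ)) rfl ≪≫ (hH q).some⟩
  | negSucc q =>
    change Nonempty ((HomologicalComplex.zero : CochainComplex C ℤ).homology 0 ≅ H (Int.negSucc q))
    exact ⟨((HomologicalComplex.homologyFunctor C (ComplexShape.up ℤ) 0).map_isZero HomologicalComplex.isZero_zero).iso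
      (hH' _ (Int.negSucc_lt_zero q))⟩

/-- The main existence statement. -/
theorem exists_specSeq (H : ℤ → C) (hH : ∀ q : ℕ, Nonempty ((R q).homology 0 ≅ H q))
    (hH' : ∀ n : ℤ, n < 0 → IsZero (H n)) (hex : ∀ q p, (R q).ExactAt (p + 1)) :
    ∃ (E : CohomologicalSpectralSequence C 1) (a : SpSeq.Abutment E H),
      (∀ n, a.IsFinite n) ∧ SpSeq.IsBounded E ∧
      (∀ p q : ℕ, Nonempty ((E.page 1 le_rfl).X ((p : ℤ), (q : ℤ)) ≅ (R q).X p)) ∧
      (∀ p q : ℤ, ¬ (0 ≤ p ∧ 0 ≤ q) → IsZero ((E.page 1 le_rfl).X (p, q))) := by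
  refine ⟨specSeq (rowZ R), abutment (rowZ R) H (nonempty_rowZ_homology_zero_iso R H hH hH')
    (fun p q hp => isZero_rowZ_homology R hex p q hp), abutment_isFinite _ _ _ _,
    specSeq_isBounded _ (isZero_rowZ_X R), ?_, ?_⟩
  · intro p q
    exact ⟨eqToIso (specSeq_page_one_X (rowZ R) p q) ≪≫ rowZXIso R p q⟩
  · intro p q hpq
    rw [specSeq_page_one_X]
    exact isZero_rowZ_X R p q hpq

end Rows

end Groth.Agent.Lib.Seat38.PageRows
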