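import Groth.Prelude.Def_SpSeq

/-!
# Prepending a first page to an `E₂` spectral sequence (seat 38)

Given an `E₂` cohomological spectral sequence `E`, a complex `P` on `ℤ × ℤ` with differentials of bidegree `(1, 0)` and
isomorphisms `H(P)_{pq} ≅ E₂^{pq}`, we build a spectral sequence starting at page one with first page `P` and the
same later pages, and transport abutment data, finiteness and boundedness.
-/

set_option autoImplicit false
set_option linter.unusedSectionVars false
set_option linter.unusedVariables false
universe v u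
open CategoryTheory CategoryTheory.Limits

namespace Groth.Agent.Lib.Seat38.PrependPage

variable {C : Type u} [Category.{v} C] [Abelian C] (E : E₂CohomologicalSpectralSequence C)
  (P : HomologicalComplex C (ComplexShape.up' (((1 : ℤ), (1 : ℤ) - 1) : ℤ × ℤ)))
  (e : ∀ pq : ℤ × ℤ, P.homology pq ≅ (E.page 2 le_rfl).X pq)

/-- the pages -/
noncomputable def pageR (r : ℤ) (hr : 1 ≤ r) : HomologicalComplex C (ComplexShape.up' ((r, 1 - r) : ℤ × ℤ)) :=
  if h : 2 ≤ r then E.page r h else Eq.mpr (by have : r = 1 := by omega
                                               rw [this]) P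

lemma pageR_one : pageR E P 1 le_rfl = P := by
  unfold pageR
  rw [dif_neg (by norm_num)]
  rfl

lemma pageR_of_le (r : ℤ) (hr : 1 ≤ r) (h : 2 ≤ r) : pageR E P r hr = E.page r h := by
  unfold pageR
  rw [dif_pos h]

/-- The spectral sequence with the prepended page. -/
noncomputable def specSeq : CohomologicalSpectralSequence C 1 where
  page r hr := pageR E P r hr
  iso r r' pq hrr' hr := by
    subst hrr'
    by_cases h : 2 ≤ r
    · rw [pageR_of_le E P r hr h, pageR_of_le E P (r + 1) (by omega) (by omega)]
      exact E.iso r (r + 1) pq rfl h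
    · have h1 : r = 1 := by omega
      subst h1
      rw [pageR_one, pageR_of_le E P (1 + 1) (by norm_num) (by norm_num)]
      exact e pq

lemma specSeq_page_one : (specSeq E P e).page 1 le_rfl = P := pageR_one E P

lemma specSeq_page_of_le (r : ℤ) (hr : 1 ≤ r) (h : 2 ≤ r) :
    (specSeq E P e).page r hr = E.page r h := pageR_of_le E P r hr h

lemma specSeq_stationary (pq : ℤ × ℤ) (r : ℤ) (h : SpSeq.StationaryAt E pq r) :
    SpSeq.StationaryAt (specSeq E P e) pq r := by
  obtain ⟨h2, hd⟩ := h
  refine ⟨by omega, fun r' h₀ hr' => ?_⟩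
  have h2' : (2 : ℤ) ≤ r' := by omega
  rw [specSeq_page_of_le E P e r' h₀ h2']
  exact hd r' h2' hr'

variable {H : ℤ → C} (a : SpSeq.Abutment E H)

/-- transported abutment data -/
noncomputable def abutment : SpSeq.Abutment (specSeq E P e) H where
  fil := a.fil
  anti := a.anti
  rk := a.rk
  stat pq := specSeq_stationary E P e pq (a.rk pq) (a.stat pq)
  β pq := eqToIso (by rw [specSeq_page_of_le E P e (a.rk pq) _ (a.stat pq).1]) ≪≫ a.β pq

lemma abutment_isFinite (n : ℤ) (h : a.IsFinite n) : (abutment E P e a).IsFinite n := h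

lemma specSeq_isBounded (hP : ∀ n : ℤ, Set.Finite {p : ℤ | ¬ IsZero (P.X (p, n - p))}) :
    SpSeq.IsBounded (specSeq E P e) := by
  intro n
  rw [specSeq_page_one]
  exact hP n

include e in
/-- The main existence statement. -/
theorem exists_prepend (hfin : ∀ n, a.IsFinite n)
    (hP : ∀ n : ℤ, Set.Finite {p : ℤ | ¬ IsZero (P.X (p, n - p))}) :
    ∃ (E' : CohomologicalSpectralSequence C 1) (a' : SpSeq.Abutment E' H),
      (∀ n, a'.IsFinite n) ∧ SpSeq.IsBounded E' ∧ E'.page 1 le_rfl = P :=
  ⟨specSeq E P e, abutment E P e a, fun n => abutment_isFinite E P e a n (hfin n),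
    specSeq_isBounded E P e hP, specSeq_page_one E P e⟩

end Groth.Agent.Lib.Seat38.PrependPage
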