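import Mathlib
import Groth.Agent.Lib.Seat38ChHomDer
import Groth.Agent.Lib.Seat38PrependPage
import Groth.Agent.Lib.Seat38PageRows
import Groth.Agent.Lib.Helper21GSS
import Groth.Agent.Lib.Helper21DerPost
import Groth.Agent.Lib.Helper23ExtRD

/-!
# The spectral sequence of a "resolution in the first variable" (seat 38)

Let `𝒜` be an abelian category with injective resolutions and `T : 𝒜 ⥤ CochainComplex Ab ℕ` an additive functor such that
* `T(-)ᵖ ≅ Hom(A p, -)` for objects `A p` of `𝒜`,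
* `H⁰(T(-)) ≅ Hom(Z, -)`,
* `T(Q)` is exact in positive degrees for `Q` injective.
(Typical example: `T = Hom(K_•, -)` for a left resolution `K_• → Z`.)  Then for every `F` there is a bounded spectral
sequence starting at page one, `E₁^{p,q} ≅ Ext^q(A p, F) ⇒ Ext^{p+q}(Z, F)` (`exists_specSeq`).
-/

set_option autoImplicit false
universe u
open CategoryTheory CategoryTheory.Limits HomologicalComplex Opposite Abelian

namespace Groth.Agent.Lib.Seat38.ResolSS

open Groth.Agent.Lib.Seat38 Groth.Agent.Lib.Helper21.DerPost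

variable {𝒜 : Type (u + 1)} [Category.{u} 𝒜] [Abelian 𝒜] [HasInjectiveResolutions 𝒜] [HasExt.{u} 𝒜]
  (T : 𝒜 ⥤ CochainComplex AddCommGrpCat.{u} ℕ) [T.Additive]

theorem exists_specSeq
    (A : ℕ → 𝒜)
    (eA : ∀ p, Nonempty (T ⋙ eval AddCommGrpCat.{u} (ComplexShape.up ℕ) p ≅
      preadditiveCoyoneda.obj (op (A p))))
    (Z : 𝒜)
    (eZ : Nonempty (T ⋙ homologyFunctor AddCommGrpCat.{u} (ComplexShape.up ℕ) 0 ≅
      preadditiveCoyoneda.obj (op Z)))
    (hT : ∀ Q : 𝒜, Injective Q → ∀ q : ℕ, IsZero ((T.obj Q).homology (q + 1)))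
    (F : 𝒜) :
    ∃ (E : CohomologicalSpectralSequence AddCommGrpCat.{u} 1)
      (a : SpSeq.Abutment E (fun n : ℤ =>
        if 0 ≤ n then AddCommGrpCat.of (Ext.{u} Z F n.toNat) else AddCommGrpCat.of PUnit.{u + 1})),
      (∀ n, a.IsFinite n) ∧ SpSeq.IsBounded E ∧
      ∀ p q : ℤ, Nonempty ((E.page 1 le_rfl).X (p, q) ≅
        (if 0 ≤ p ∧ 0 ≤ q then AddCommGrpCat.of (Ext.{u} (A p.toNat) F q.toNat)
         else AddCommGrpCat.of PUnit.{u + 1})) := by
  have hz : IsZero (AddCommGrpCat.of PUnit.{u + 1}) := AddCommGrpCat.isZero_of_subsingleton _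
  let G := homologyFunctor AddCommGrpCat.{u} (ComplexShape.up ℕ) 0
  have hGder : ∀ n, Nonempty (homologyFunctor AddCommGrpCat.{u} (ComplexShape.up ℕ) n ≅ G.rightDerived n) :=
    ChHomDer.homologyFunctor_iso_rightDerived
  let R : ℕ → CochainComplex AddCommGrpCat.{u} ℕ := fun q => (T.rightDerived q).obj F
  let Hab : ℤ → AddCommGrpCat.{u} := fun n : ℤ =>
    if 0 ≤ n then AddCommGrpCat.of (Ext.{u} Z F n.toNat) else AddCommGrpCat.of PUnit.{u + 1}
  let W := PageRows.rowZ R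
  let E2 : ℤ → ℤ → AddCommGrpCat.{u} := fun p q => (W q).homology p
  have hT' : ∀ Q : 𝒜, Injective Q → ∀ q : ℕ, 0 < q → IsZero ((G.rightDerived q).obj (T.obj Q)) := by
    intro Q hQ q hq
    obtain ⟨k, rfl⟩ : ∃ k, q = k + 1 := ⟨q - 1, by omega⟩
    exact IsZero.of_iso (hT Q hQ k) ((hGder (k + 1)).some.app (T.obj Q)).symm
  have hH : ∀ n : ℕ, Nonempty (((T ⋙ G).rightDerived n).obj F ≅ Hab n) := by
    intro n
    obtain ⟨e1⟩ := Groth.Agent.Lib.Helper23ExtRD.rightDerived_coyoneda_iso Z F n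
    refine ⟨(natIsoRightDerived eZ.some n).app F ≪≫ e1 ≪≫ eqToIso ?_⟩
    change _ = if 0 ≤ (n : ℤ) then AddCommGrpCat.of (Ext.{u} Z F (n : ℤ).toNat) else _
    rw [if_pos (Int.natCast_nonneg n), Int.toNat_natCast]
  have hH' : ∀ n : ℤ, n < 0 → IsZero (Hab n) := by
    intro n hn
    change IsZero (if 0 ≤ n then _ else _)
    rw [if_neg (by omega)]
    exact hz
  have hE2 : ∀ p q : ℕ, Nonempty ((G.rightDerived p).obj ((T.rightDerived q).obj F) ≅ E2 p q) := by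
    intro p q
    exact ⟨((hGder p).some.app (R q)).symm ≪≫
      ((R q).extendHomologyIso ComplexShape.embeddingUpNat (j := p) (j' := (p : ℤ)) rfl).symm⟩
  have hE2' : ∀ p q : ℤ, ¬ (0 ≤ p ∧ 0 ≤ q) → IsZero (E2 p q) := by
    intro p q h
    exact ShortComplex.isZero_homology_of_isZero_X₂ _ (PageRows.isZero_rowZ_X R p q h)
  obtain ⟨E, a, hfin, hbd, hE⟩ := Groth.Agent.Lib.Helper21.GSS.gss_general T G hT' F Hab hH hH' E2 hE2 hE2'
  let P := PageRows.pageOne W
  let e : ∀ pq : ℤ × ℤ, P.homology pq ≅ (E.page 2 le_rfl).X pq := fun pq =>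
    PageRows.pageOneHomologyIso W pq.1 pq.2 ≪≫ (hE pq.1 pq.2).some.symm
  have hP : ∀ n : ℤ, Set.Finite {p : ℤ | ¬ IsZero (P.X (p, n - p))} := by
    intro n
    refine (Set.finite_Icc (0 : ℤ) n).subset ?_
    intro p hp
    rw [Set.mem_ofPred_eq] at hp
    by_contra hcon
    apply hp
    apply PageRows.isZero_rowZ_X R p (n - p)
    rintro ⟨h1, h2⟩
    exact hcon ⟨h1, by omega⟩
  obtain ⟨E', a', hfin', hbd', hpage⟩ := PrependPage.exists_prepend E P e a hfin hP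
  refine ⟨E', a', hfin', hbd', fun p q => ?_⟩
  rw [hpage]
  change Nonempty ((W q).X p ≅ _)
  by_cases hpq : 0 ≤ p ∧ 0 ≤ q
  · rw [if_pos hpq]
    obtain ⟨p', rfl⟩ : ∃ k : ℕ, p = (k : ℤ) := ⟨p.toNat, by omega⟩
    obtain ⟨q', rfl⟩ : ∃ k : ℕ, q = (k : ℤ) := ⟨q.toNat, by omega⟩
    rw [Int.toNat_natCast, Int.toNat_natCast]
    obtain ⟨e1⟩ := Groth.Agent.Lib.Helper23ExtRD.rightDerived_coyoneda_iso (A p') F q'
    exact ⟨PageRows.rowZXIso R p' q' ≪≫
      ((postIso T (eval AddCommGrpCat.{u} (ComplexShape.up ℕ) p') q').app F).symm ≪≫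
      (natIsoRightDerived (eA p').some q').app F ≪≫ e1⟩
  · rw [if_neg hpq]
    exact ⟨(PageRows.isZero_rowZ_X R p q hpq).iso hz⟩

end Groth.Agent.Lib.Seat38.ResolSS
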