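import Mathlib
import Groth.Agent.Lib.Seat38CechFree
import Groth.Agent.Lib.Seat38HomCx
import Groth.Agent.Lib.Seat38ResolSS

set_option autoImplicit false
universe u
open CategoryTheory CategoryTheory.Limits HomologicalComplex Opposite Simplicial AlgebraicTopology

namespace Groth.Agent.Lib.Seat38.CechPsh

open Groth.Agent.Lib.Seat38.CechFree

/-- exactness in a functor category can be checked objectwise -/
theorem exact_of_forall_evaluation {C : Type u} [SmallCategory C]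
    (S : ShortComplex (Cᵒᵖ ⥤ AddCommGrpCat.{u}))
    (h : ∀ U : Cᵒᵖ, (S.map ((evaluation Cᵒᵖ AddCommGrpCat.{u}).obj U)).Exact) : S.Exact := by
  rw [ShortComplex.exact_iff_isZero_homology, Functor.isZero_iff]
  intro U
  have hU := h U
  rw [ShortComplex.exact_iff_isZero_homology] at hU
  exact IsZero.of_iso hU (S.mapHomologyIso ((evaluation Cᵒᵖ AddCommGrpCat.{u}).obj U)).symm

variable {C : Type u} [SmallCategory C] (𝒳 : Cᵒᵖ ⥤ Type u)

/-- the simplicial presheaf of abelian groups `n ↦ ℤ[𝒳^{n+1}]` -/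
def simpPsh : SimplicialObject (Cᵒᵖ ⥤ AddCommGrpCat.{u}) :=
  (𝒳 ⋙ cechFunctor ⋙ (SimplicialObject.whiskering _ _).obj AddCommGrpCat.free).flip

/-- the Čech complex of presheaves `n ↦ ℤ[𝒳^{n+1}]` -/
noncomputable def P : ChainComplex (Cᵒᵖ ⥤ AddCommGrpCat.{u}) ℕ :=
  AlternatingFaceMapComplex.obj (simpPsh 𝒳)

lemma P_X_obj (n : ℕ) (U : Cᵒᵖ) : ((P 𝒳).X n).obj U = (KX (𝒳.obj U)).X n := rfl

lemma P_d_app (n : ℕ) (U : Cᵒᵖ) : ((P 𝒳).d (n + 1) n).app U = (KX (𝒳.obj U)).d (n + 1) n := by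
  unfold P KX
  rw [AlternatingFaceMapComplex.obj_d_eq, AlternatingFaceMapComplex.obj_d_eq, NatTrans.app_sum]
  refine Finset.sum_congr rfl (fun i _ => ?_)
  rw [NatTrans.app_zsmul]
  rfl


theorem exactAt_P (n : ℕ) : (P 𝒳).ExactAt (n + 1) := by
  rw [exactAt_iff' (P 𝒳) (n + 2) (n + 1) n (by simp) (by simp)]
  apply exact_of_forall_evaluation
  intro U
  have h := (exactAt_iff' (KX (𝒳.obj U)) (n + 2) (n + 1) n (by simp) (by simp)).1 (exactAt_KX (𝒳.obj U) n)
  let e : ((P 𝒳).sc' (n + 2) (n + 1) n).map ((evaluation Cᵒᵖ AddCommGrpCat.{u}).obj U) ≅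
      (KX (𝒳.obj U)).sc' (n + 2) (n + 1) n :=
    ShortComplex.isoMk (Iso.refl ((KX (𝒳.obj U)).X (n + 2))) (Iso.refl ((KX (𝒳.obj U)).X (n + 1)))
      (Iso.refl ((KX (𝒳.obj U)).X n))
      ((Category.id_comp _).trans ((P_d_app 𝒳 (n + 1) U).symm.trans (Category.comp_id _).symm))
      ((Category.id_comp _).trans ((P_d_app 𝒳 n U).symm.trans (Category.comp_id _).symm))
  exact (ShortComplex.exact_iff_of_iso e).2 h

/-- the augmentation `ℤ[𝒳] ⟶ ℤ[pt]` (constant presheaf) -/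
noncomputable def aug : (P 𝒳).X 0 ⟶ (Functor.const Cᵒᵖ).obj (AddCommGrpCat.free.obj PUnit.{u + 1}) where
  app U := augX (𝒳.obj U)
  naturality U V f := by
    refine ((AddCommGrpCat.free.map_comp ((cechFunctor.map (𝒳.map f)).app (op ⦋0⦌))
      (TypeCat.ofHom (fun _ => PUnit.unit))).symm.trans ?_).trans (Category.comp_id _).symm
    rfl

lemma d_comp_aug : (P 𝒳).d 1 0 ≫ aug 𝒳 = 0 := by
  ext U : 2
  exact (congrArg (· ≫ augX (𝒳.obj U)) (P_d_app 𝒳 0 U)).trans (d_comp_augX _)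

theorem exact_aug : (ShortComplex.mk _ _ (d_comp_aug 𝒳)).Exact := by
  apply exact_of_forall_evaluation
  intro U
  let e : (ShortComplex.mk _ _ (d_comp_aug 𝒳)).map ((evaluation Cᵒᵖ AddCommGrpCat.{u}).obj U) ≅
      ShortComplex.mk _ _ (d_comp_augX (𝒳.obj U)) :=
    ShortComplex.isoMk (Iso.refl ((KX (𝒳.obj U)).X 1)) (Iso.refl ((KX (𝒳.obj U)).X 0))
      (Iso.refl (AddCommGrpCat.free.obj PUnit.{u + 1}))
      ((Category.id_comp _).trans ((P_d_app 𝒳 0 U).symm.trans (Category.comp_id _).symm))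
      ((Category.id_comp _).trans (Category.comp_id _).symm)
  exact (ShortComplex.exact_iff_of_iso e).2 (exact_augX (𝒳.obj U))


/-! ### the sheaf level -/

section general

universe v'

/-- for an additive adjunction, `R ⋙ Hom(X, -) ≅ Hom(L X, -)`. -/
noncomputable def adjCoyonedaIso {A : Type*} {B : Type*} [Category.{v'} A] [Category.{v'} B]
    [Preadditive A] [Preadditive B] {L : A ⥤ B} {R : B ⥤ A} (adj : L ⊣ R) [L.Additive] (X : A) :
    R ⋙ preadditiveCoyoneda.obj (op X) ≅ preadditiveCoyoneda.obj (op (L.obj X)) :=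
  NatIso.ofComponents (fun Y => (adj.homAddEquiv X Y).symm.toAddCommGrpIso)
    (fun {Y Y'} f => by
      ext x
      exact adj.homEquiv_naturality_right_symm x f)

/-- `Hom(X, -) ≅ Hom(X', -)` for `X ≅ X'`. -/
noncomputable def coyonedaIsoOfIso {A : Type*} [Category.{v'} A] [Preadditive A] {X X' : A}
    (e : X ≅ X') : preadditiveCoyoneda.obj (op X) ≅ preadditiveCoyoneda.obj (op X') :=
  preadditiveCoyoneda.mapIso e.symm.op

end general

variable (J : GrothendieckTopology C)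

/-- the presheaf of sets `𝒳` covers the terminal presheaf -/
def IsCovering : Prop :=
  ∀ U : C, ∃ S : Sieve U, S ∈ J U ∧ ∀ {V : C} (f : V ⟶ U), S f → Nonempty (𝒳.obj (op V))

variable {𝒳 J}

lemma isLocallySurjective_aug (h𝒳 : IsCovering 𝒳 J) : Presheaf.IsLocallySurjective J (aug 𝒳) where
  imageSieve_mem {U} s := by
    obtain ⟨S, hS, hS'⟩ := h𝒳 U
    refine J.superset_covering ?_ hS
    intro V f hf
    have := hS' f hf
    have hepi : Epi (augX (𝒳.obj (op V))) := epi_augX _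
    rw [AddCommGrpCat.epi_iff_surjective] at hepi
    obtain ⟨t, ht⟩ := hepi s
    exact ⟨t, ht⟩

/-- the image of the augmentation -/
noncomputable abbrev Z0 (𝒳 : Cᵒᵖ ⥤ Type u) : Cᵒᵖ ⥤ AddCommGrpCat.{u} := Limits.image (aug 𝒳)

lemma d_comp_factorThruImage : (P 𝒳).d 1 0 ≫ factorThruImage (aug 𝒳) = 0 := by
  rw [← cancel_mono (image.ι (aug 𝒳)), Category.assoc, image.fac, zero_comp]
  exact d_comp_aug 𝒳

lemma exact_factorThruImage :
    (ShortComplex.mk _ _ (d_comp_factorThruImage (𝒳 := 𝒳))).Exact := by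
  let φ : ShortComplex.mk _ _ (d_comp_factorThruImage (𝒳 := 𝒳)) ⟶ ShortComplex.mk _ _ (d_comp_aug 𝒳) :=
    { τ₁ := 𝟙 _
      τ₂ := 𝟙 _
      τ₃ := image.ι (aug 𝒳)
      comm₁₂ := by simp
      comm₂₃ := by simp }
  have : Epi φ.τ₁ := by dsimp [φ]; infer_instance
  have : IsIso φ.τ₂ := by dsimp [φ]; infer_instance
  have : Mono φ.τ₃ := by dsimp [φ]; infer_instance
  exact (ShortComplex.exact_iff_of_epi_of_isIso_of_mono φ).2 (exact_aug 𝒳)

/-- `Z0` is the cokernel of `ℤ[𝒳²] ⟶ ℤ[𝒳]` -/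
noncomputable def isColimitZ0 :
    IsColimit (CokernelCofork.ofπ (factorThruImage (aug 𝒳)) (d_comp_factorThruImage (𝒳 := 𝒳))) :=
  (exact_factorThruImage (𝒳 := 𝒳)).gIsCokernel

lemma isIso_sheafify_image_ι (h𝒳 : IsCovering 𝒳 J) :
    IsIso ((presheafToSheaf J AddCommGrpCat.{u}).map (image.ι (aug 𝒳))) := by
  rw [← J.W_iff]
  have := isLocallySurjective_aug h𝒳
  have h1 : Presheaf.IsLocallySurjective J (image.ι (aug 𝒳)) :=
    Presheaf.isLocallySurjective_of_isLocallySurjective_fac J (image.fac (aug 𝒳))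
  have h2 : Presheaf.IsLocallyInjective J (image.ι (aug 𝒳)) := by
    apply Presheaf.isLocallyInjective_of_injective
    intro U
    have : Mono ((image.ι (aug 𝒳)).app U) := inferInstance
    exact (AddCommGrpCat.mono_iff_injective _).1 this
  exact J.W_of_isLocallyBijective _

/-- `ℤ[pt] ≅ ℤ` -/
noncomputable def freePUnitIso : AddCommGrpCat.free.obj PUnit.{u + 1} ≅ AddCommGrpCat.of (ULift.{u} ℤ) :=
  (FreeAbelianGroup.uniqueEquiv PUnit.{u + 1}).trans AddEquiv.ulift.symm |>.toAddCommGrpIso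

/-- the sheafification of `Z0` is the constant sheaf `ℤ` -/
noncomputable def sheafifyZ0Iso (h𝒳 : IsCovering 𝒳 J) :
    (presheafToSheaf J AddCommGrpCat.{u}).obj (Z0 𝒳) ≅
      (constantSheaf J AddCommGrpCat.{u}).obj (AddCommGrpCat.of (ULift.{u} ℤ)) :=
  haveI := isIso_sheafify_image_ι h𝒳
  asIso ((presheafToSheaf J AddCommGrpCat.{u}).map (image.ι (aug 𝒳))) ≪≫
    (constantSheaf J AddCommGrpCat.{u}).mapIso freePUnitIso

/-- the functor `F ↦ Hom(ℤ[𝒳^{•+1}], F)` on abelian sheaves -/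
noncomputable def T (𝒳 : Cᵒᵖ ⥤ Type u) (J : GrothendieckTopology C) :
    Sheaf J AddCommGrpCat.{u} ⥤ CochainComplex AddCommGrpCat.{u} ℕ :=
  sheafToPresheaf J AddCommGrpCat.{u} ⋙ HomCx.homCxFunctor (P 𝒳)

instance : (T 𝒳 J).Additive := by
  unfold T
  infer_instance

/-- the free abelian sheaf on `𝒳^{p+1}` -/
noncomputable def A (𝒳 : Cᵒᵖ ⥤ Type u) (J : GrothendieckTopology C) (p : ℕ) : Sheaf J AddCommGrpCat.{u} :=
  (presheafToSheaf J AddCommGrpCat.{u}).obj ((P 𝒳).X p)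

/-- **The Čech-to-derived functor spectral sequence of a covering presheaf of sets** `𝒳` on a small site:
`E₁^{p,q} = Ext^q(ℤ[𝒳^{p+1}]^#, F) ⇒ H^{p+q}(F)`. -/
theorem exists_specSeq (h𝒳 : IsCovering 𝒳 J) (F : Sheaf J AddCommGrpCat.{u}) :
    ∃ (E : CohomologicalSpectralSequence AddCommGrpCat.{u} 1)
      (a : SpSeq.Abutment E (fun n : ℤ =>
        if 0 ≤ n then AddCommGrpCat.of (Sheaf.H.{u} F n.toNat) else AddCommGrpCat.of PUnit.{u + 1})),
      (∀ n, a.IsFinite n) ∧ SpSeq.IsBounded E ∧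
      ∀ p q : ℤ, Nonempty ((E.page 1 le_rfl).X (p, q) ≅
        (if 0 ≤ p ∧ 0 ≤ q then AddCommGrpCat.of (Abelian.Ext.{u} (A 𝒳 J p.toNat) F q.toNat)
         else AddCommGrpCat.of PUnit.{u + 1})) := by
  refine ResolSS.exists_specSeq (T 𝒳 J) (A 𝒳 J) (fun p => ⟨?_⟩)
    ((constantSheaf J AddCommGrpCat.{u}).obj (AddCommGrpCat.of (ULift.{u} ℤ))) ⟨?_⟩ ?_ F
  · exact Functor.associator _ _ _ ≪≫
      Functor.isoWhiskerLeft (sheafToPresheaf J AddCommGrpCat.{u}) (HomCx.homCxEvalIso (P 𝒳) p) ≪≫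
      adjCoyonedaIso (sheafificationAdjunction J AddCommGrpCat.{u}) ((P 𝒳).X p)
  · exact Functor.associator _ _ _ ≪≫
      Functor.isoWhiskerLeft (sheafToPresheaf J AddCommGrpCat.{u})
        (HomCx.homCxHomologyZeroIso (P 𝒳) _ _ (isColimitZ0 (𝒳 := 𝒳))) ≪≫
      adjCoyonedaIso (sheafificationAdjunction J AddCommGrpCat.{u}) (Z0 𝒳) ≪≫
      coyonedaIsoOfIso (sheafifyZ0Iso h𝒳)
  · intro Q hQ q
    have : Injective ((sheafToPresheaf J AddCommGrpCat.{u}).obj Q) :=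
      Injective.injective_of_adjoint (sheafificationAdjunction J AddCommGrpCat.{u}) Q
    exact HomCx.isZero_homology_homCx (P 𝒳) q (exactAt_P 𝒳 q) ((sheafToPresheaf J AddCommGrpCat.{u}).obj Q)

end Groth.Agent.Lib.Seat38.CechPsh
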