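import Mathlib
import Groth.Agent.Lib.Seat38ClosedModel

/-!
# The closed Čech complex of a family of closed subsets (seat 38)

For a family `U : I → Set X` of closed subsets and an abelian sheaf `F`: `ZZ U σ = ⋂ k, U (σ k)`, the
cosimplicial abelian sheaf `K`, `[n] ↦ KX F n = ∏_{σ : Fin (n+1) → I} k_{σ*} k_σ^* F`, its alternating
coface complex `CK` with differential `dK`, the differential on sections (`d_secPi`); point-set lemmas on
locally finite families (`exists_good_nhd`, `finite_Sx`).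
-/

set_option autoImplicit false
universe u
open CategoryTheory CategoryTheory.Limits TopologicalSpace Opposite TopCat Simplicial

namespace Groth.Agent.Lib.Seat38.ClosedCech

open Groth.Agent.Lib.Seat38.SheafLocal Groth.Agent.Lib.Seat38.ClosedModel

variable {X : TopCat.{u}} {I : Type u} (U : I → Set X)

/-- the intersection of the members of a tuple -/
def ZZ {n : ℕ} (σ : Fin (n + 1) → I) : Set X := ⋂ k, U (σ k)

variable {U}

lemma isClosed_ZZ (hU : ∀ i, IsClosed (U i)) {n : ℕ} (σ : Fin (n + 1) → I) : IsClosed (ZZ U σ) :=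
  isClosed_iInter (fun k => hU (σ k))

/-- finite intersections of open neighbourhoods -/
lemma exists_opens_finite_inter {ι : Type*} (S : Set ι) (hS : S.Finite) (V : ι → Opens X) (x : X)
    (hx : ∀ i ∈ S, x ∈ V i) : ∃ V' : Opens X, x ∈ V' ∧ ∀ i ∈ S, V' ≤ V i := by
  refine ⟨⟨⋂ i ∈ S, (V i : Set X), hS.isOpen_biInter (fun i _ => (V i).2)⟩, ?_, ?_⟩
  · exact Set.mem_iInter₂.2 hx
  · intro i hi y hy
    exact Set.mem_iInter₂.1 hy i hi

/-- the tuples all of whose members contain `x` -/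
def Sx (U : I → Set X) (x : X) (n : ℕ) : Set (Fin (n + 1) → I) := {σ | ∀ k, x ∈ U (σ k)}

lemma finite_Sx (hlf : LocallyFinite U) (x : X) (n : ℕ) : (Sx U x n).Finite := by
  have h : (Sx U x n) = Set.pi Set.univ (fun _ : Fin (n + 1) => {i | x ∈ U i}) := by
    ext σ
    simp [Sx]
  rw [h]
  exact Set.Finite.pi (fun _ => hlf.point_finite x)

lemma mem_ZZ_of_mem_Sx {x : X} {n : ℕ} {σ : Fin (n + 1) → I} (h : σ ∈ Sx U x n) : x ∈ ZZ U σ :=
  Set.mem_iInter.2 h

/-- a neighbourhood of `x` meeting only the members of the covering which contain `x` -/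
lemma exists_good_nhd (hU : ∀ i, IsClosed (U i)) (hlf : LocallyFinite U) (x : X) (W : Opens X)
    (hx : x ∈ W) :
    ∃ V : Opens X, V ≤ W ∧ x ∈ V ∧ ∀ i, ((V : Set X) ∩ U i).Nonempty → x ∈ U i := by
  obtain ⟨t, ht, hfin⟩ := hlf x
  let B : Set X := ⋃ i ∈ {i | (U i ∩ t).Nonempty ∧ x ∉ U i}, U i
  have hB : IsClosed B := by
    apply Set.Finite.isClosed_biUnion
    · exact hfin.subset (fun i hi => hi.1)
    · intro i _
      exact hU i
  have hxB : x ∉ B := by
    intro h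
    obtain ⟨i, hi, hxi⟩ := Set.mem_iUnion₂.1 h
    exact hi.2 hxi
  refine ⟨⟨interior t ∩ Bᶜ ∩ W, (isOpen_interior.inter hB.isOpen_compl).inter W.2⟩, ?_, ?_, ?_⟩
  · intro y hy
    exact hy.2
  · exact ⟨⟨mem_interior_iff_mem_nhds.2 ht, hxB⟩, hx⟩
  · rintro i ⟨y, hy, hyi⟩
    by_contra hxi
    have hyt : y ∈ t := interior_subset hy.1.1
    exact hy.1.2 (Set.mem_iUnion₂.2 ⟨i, ⟨⟨y, hyi, hyt⟩, hxi⟩, hyi⟩)

lemma disjoint_ZZ_of_not_mem_Sx {x : X} {V : Opens X}
    (hV : ∀ i, ((V : Set X) ∩ U i).Nonempty → x ∈ U i) {n : ℕ} {σ : Fin (n + 1) → I}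
    (h : σ ∉ Sx U x n) : (V : Set X) ∩ ZZ U σ = ∅ := by
  rw [Set.eq_empty_iff_forall_notMem]
  rintro y ⟨hyV, hyZ⟩
  apply h
  intro k
  exact hV (σ k) ⟨y, hyV, Set.mem_iInter.1 hyZ k⟩

lemma ZZ_subset {n m : ℕ} (τ : Fin (m + 1) → I) (θ : Fin (n + 1) → Fin (m + 1)) :
    ZZ U τ ⊆ ZZ U (τ ∘ θ) := by
  intro x hx
  exact Set.mem_iInter.2 (fun j => Set.mem_iInter.1 hx (θ j))

variable (hU : ∀ i, IsClosed (U i)) (F : CohTop.Ab X)

/-- the terms of the closed Čech complex -/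
noncomputable abbrev KX (n : ℕ) : CohTop.Ab X := ∏ᶜ (fun σ : Fin (n + 1) → I => GZ F (ZZ U σ))

include hU in
/-- the cosimplicial structure maps -/
noncomputable def Kmap {n m : ℕ} (θ : Fin (n + 1) → Fin (m + 1)) : KX (U := U) F n ⟶ KX (U := U) F m :=
  Pi.lift (fun τ : Fin (m + 1) → I =>
    Pi.π (fun σ : Fin (n + 1) → I => GZ F (ZZ U σ)) (τ ∘ θ) ≫ rho (isClosed_ZZ hU (τ ∘ θ)) (ZZ_subset τ θ))

lemma Kmap_π {n m : ℕ} (θ : Fin (n + 1) → Fin (m + 1)) (τ : Fin (m + 1) → I) :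
    Kmap hU F θ ≫ Pi.π _ τ =
      Pi.π (fun σ : Fin (n + 1) → I => GZ F (ZZ U σ)) (τ ∘ θ) ≫
        rho (isClosed_ZZ hU (τ ∘ θ)) (ZZ_subset τ θ) :=
  Pi.lift_π _ _

lemma Kmap_id (n : ℕ) : Kmap hU F (id : Fin (n + 1) → Fin (n + 1)) = 𝟙 _ := by
  apply Pi.hom_ext
  intro τ
  rw [Kmap_π, Category.id_comp]
  exact (congrArg (fun m => Pi.π (fun σ : Fin (n + 1) → I => GZ F (ZZ U σ)) τ ≫ m)
    (rho_self (isClosed_ZZ hU τ))).trans (Category.comp_id _)

lemma Kmap_comp {n m l : ℕ} (θ : Fin (n + 1) → Fin (m + 1)) (θ' : Fin (m + 1) → Fin (l + 1)) :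
    Kmap hU F θ ≫ Kmap hU F θ' = Kmap hU F (θ' ∘ θ) := by
  apply Pi.hom_ext
  intro τ
  rw [Category.assoc, Kmap_π, Kmap_π, ← Category.assoc, Kmap_π, Category.assoc]
  congr 1
  exact rho_comp _ _ _ _

/-- the cosimplicial abelian sheaf `[n] ↦ ∏_σ k_{σ*} k_σ^* F` -/
noncomputable def K : CosimplicialObject (CohTop.Ab X) where
  obj n := KX (U := U) F n.len
  map θ := Kmap hU F θ.toOrderHom
  map_id n := Kmap_id hU F n.len
  map_comp θ θ' := (Kmap_comp hU F θ.toOrderHom θ'.toOrderHom).symm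

/-- evaluation of morphisms of abelian sheaves on sections, as an additive map -/
noncomputable def appHom (A B : CohTop.Ab X) (W : Opens X) :
    (A ⟶ B) →+ (A.obj.obj (op W) →+ B.obj.obj (op W)) where
  toFun f := (f.hom.app (op W)).hom
  map_zero' := rfl
  map_add' _ _ := rfl

lemma sum_app {A B : CohTop.Ab X} {ι : Type*} (s : Finset ι) (f : ι → (A ⟶ B)) (W : Opens X)
    (a : A.obj.obj (op W)) :
    (∑ i ∈ s, f i).hom.app (op W) a = ∑ i ∈ s, (f i).hom.app (op W) a := by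
  have h := map_sum (appHom A B W) f s
  have h' := DFunLike.congr_fun h a
  rw [AddMonoidHom.finsetSum_apply] at h'
  exact h'

lemma zsmul_app {A B : CohTop.Ab X} (n : ℤ) (f : A ⟶ B) (W : Opens X) (a : A.obj.obj (op W)) :
    (n • f).hom.app (op W) a = n • f.hom.app (op W) a := by
  have h := map_zsmul (appHom A B W) n f
  exact DFunLike.congr_fun h a

/-- the differential of the closed Čech complex -/
noncomputable def dK (n : ℕ) : KX (U := U) F n ⟶ KX (U := U) F (n + 1) :=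
  ∑ i : Fin (n + 2), (-1 : ℤ) ^ (i : ℕ) • Kmap hU F i.succAbove

lemma dK_sq (n : ℕ) : dK hU F n ≫ dK hU F (n + 1) = 0 :=
  AlgebraicTopology.AlternatingCofaceMapComplex.d_squared (K hU F) n

/-- the closed Čech complex -/
noncomputable def CK : CochainComplex (CohTop.Ab X) ℕ :=
  CochainComplex.of (fun n => KX (U := U) F n) (dK hU F) (dK_sq hU F)

lemma CK_d (n : ℕ) : (CK hU F).d n (n + 1) = dK hU F n := CochainComplex.of_d _ _ n

lemma secPi_Kmap {n m : ℕ} (θ : Fin (n + 1) → Fin (m + 1)) (W : Opens X)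
    (s : (KX (U := U) F n).obj.obj (op W)) (τ : Fin (m + 1) → I) :
    secPi _ W ((Kmap hU F θ).hom.app (op W) s) τ =
      (rho (isClosed_ZZ hU (τ ∘ θ)) (ZZ_subset τ θ)).hom.app (op W) (secPi _ W s (τ ∘ θ)) := by
  have h := congrArg (fun m => m.hom.app (op W)) (Kmap_π hU F θ τ)
  exact ConcreteCategory.congr_hom h s

lemma d_π (n : ℕ) (τ : Fin (n + 2) → I) :
    dK hU F n ≫ Pi.π (fun σ : Fin (n + 2) → I => GZ F (ZZ U σ)) τ =
      ∑ i : Fin (n + 2), (-1 : ℤ) ^ (i : ℕ) •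
        (Pi.π (fun σ : Fin (n + 1) → I => GZ F (ZZ U σ)) (τ ∘ i.succAbove) ≫
          rho (isClosed_ZZ hU (τ ∘ i.succAbove))
            (ZZ_subset τ i.succAbove)) := by
  rw [dK, Preadditive.sum_comp]
  refine Finset.sum_congr rfl (fun i _ => ?_)
  rw [Preadditive.zsmul_comp]
  congr 1
  exact Kmap_π hU F i.succAbove τ

/-- the differential on sections -/
lemma d_secPi (n : ℕ) (W : Opens X) (s : (KX (U := U) F n).obj.obj (op W)) (τ : Fin (n + 2) → I) :
    secPi (fun σ : Fin (n + 2) → I => GZ F (ZZ U σ)) W ((dK hU F n).hom.app (op W) s) τ =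
      ∑ i : Fin (n + 2), (-1 : ℤ) ^ (i : ℕ) •
        (rho (isClosed_ZZ hU (τ ∘ i.succAbove))
          (ZZ_subset τ i.succAbove)).hom.app (op W)
          (secPi _ W s (τ ∘ i.succAbove)) := by
  have h := congrArg (fun m => m.hom.app (op W)) (d_π hU F n τ)
  have h2 := ConcreteCategory.congr_hom h s
  refine h2.trans ?_
  refine (sum_app _ _ W s).trans ?_
  refine Finset.sum_congr rfl (fun i _ => ?_)
  exact zsmul_app _ _ W s

end Groth.Agent.Lib.Seat38.ClosedCech
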