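import Mathlib
import Groth.Agent.Lib.Seat38ClosedCech

/-!
# Exactness of the closed Čech complex of a locally finite closed covering (seat 38)

For a locally finite covering `U` of `X` by closed subsets and an abelian sheaf `F`, the closed Čech complex
`CK hU F` (`Seat38ClosedCech`) is a resolution of `F`: `exactAt_CK` (exact in positive degrees) and
`nonempty_iso_homology_zero` (`F ≅ H⁰`).  All proofs are on sections: near a point `x` only the finitely many
members of the covering through `x` matter, and the cone construction on one of them contracts the complex.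
-/

set_option autoImplicit false
universe u
open CategoryTheory CategoryTheory.Limits TopologicalSpace Opposite TopCat Simplicial

namespace Groth.Agent.Lib.Seat38.ClosedCech

open Groth.Agent.Lib.Seat38.SheafLocal Groth.Agent.Lib.Seat38.ClosedModel

variable {X : TopCat.{u}} {I : Type u} {U : I → Set X}
  (hU : ∀ i, IsClosed (U i)) (hlf : LocallyFinite U) (F : CohTop.Ab X)

include hU hlf in
/-- a section of `KX F n` is, near a point, represented by a family of sections of `F`, on a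
neighbourhood meeting only the members of the covering through the point -/
theorem local_rep (n : ℕ) (W : Opens X) (b : (KX (U := U) F n).obj.obj (op W)) (x : X) (hx : x ∈ W) :
    ∃ (V : Opens X) (hV : V ≤ W) (t : (Fin (n + 1) → I) → F.obj.obj (op V)), x ∈ V ∧
      (∀ i, ((V : Set X) ∩ U i).Nonempty → x ∈ U i) ∧
      ∀ σ, (uZ F (ZZ U σ)).hom.app (op V) (t σ) = rs (GZ F (ZZ U σ)) hV (secPi _ W b σ) := by
  classical
  obtain ⟨V₀, hV₀W, hxV₀, hgood⟩ := exists_good_nhd hU hlf x W hx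
  have h1 : ∀ σ : Fin (n + 1) → I, ∃ (Vσ : Opens X) (hVσ : Vσ ≤ W) (tσ : F.obj.obj (op Vσ)), x ∈ Vσ ∧
      (uZ F (ZZ U σ)).hom.app (op Vσ) tσ = rs (GZ F (ZZ U σ)) hVσ (secPi _ W b σ) :=
    fun σ => uZ_local (isClosed_ZZ hU σ) W (secPi _ W b σ) x hx
  choose Vσ hVσ tσ hxVσ htσ using h1
  obtain ⟨V₁, hxV₁, hV₁⟩ := exists_opens_finite_inter (Sx U x n) (finite_Sx hlf x n) Vσ x
    (fun σ _ => hxVσ σ)
  have hVW : V₀ ⊓ V₁ ≤ W := inf_le_left.trans hV₀W
  have hgood' : ∀ i, (((V₀ ⊓ V₁ : Opens X) : Set X) ∩ U i).Nonempty → x ∈ U i := by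
    rintro i ⟨y, hy, hyi⟩
    exact hgood i ⟨y, hy.1, hyi⟩
  refine ⟨V₀ ⊓ V₁, hVW, fun σ => if h : σ ∈ Sx U x n then
    rs F (inf_le_right.trans (hV₁ σ h)) (tσ σ) else 0, ⟨hxV₀, hxV₁⟩, hgood', ?_⟩
  intro σ
  by_cases h : σ ∈ Sx U x n
  · beta_reduce
    rw [dif_pos h, ← rs_app, htσ σ, rs_rs]
  · exact subsingleton_of_disjoint _ (disjoint_ZZ_of_not_mem_Sx hgood' h) _ _

include hlf in
/-- finitely many sections killed by the units vanish on a common neighbourhood -/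
theorem local_vanish (m : ℕ) (V : Opens X) (x : X) (hx : x ∈ V)
    (c : (Fin (m + 1) → I) → F.obj.obj (op V))
    (hc : ∀ τ ∈ Sx U x m, (uZ F (ZZ U τ)).hom.app (op V) (c τ) = 0) :
    ∃ (V' : Opens X) (hV' : V' ≤ V), x ∈ V' ∧ ∀ τ ∈ Sx U x m, rs F hV' (c τ) = 0 := by
  classical
  have h1 : ∀ τ : Fin (m + 1) → I, ∃ (Vτ : Opens X) (h : Vτ ≤ V), x ∈ Vτ ∧
      (τ ∈ Sx U x m → rs F h (c τ) = 0) := by
    intro τ
    by_cases hτ : τ ∈ Sx U x m
    · obtain ⟨Vτ, h, hxV, h0⟩ := (uZ_eq_zero_iff V (c τ)).1 (hc τ hτ) x hx (mem_ZZ_of_mem_Sx hτ)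
      exact ⟨Vτ, h, hxV, fun _ => h0⟩
    · exact ⟨V, le_rfl, hx, fun h => absurd h hτ⟩
  choose Vτ hVτ hxVτ h0 using h1
  obtain ⟨V₁, hxV₁, hV₁⟩ := exists_opens_finite_inter (Sx U x m) (finite_Sx hlf x m) Vτ x
    (fun τ _ => hxVτ τ)
  refine ⟨V ⊓ V₁, inf_le_left, ⟨hx, hxV₁⟩, fun τ hτ => ?_⟩
  have h2 : rs F (inf_le_left : V ⊓ V₁ ≤ V) (c τ) =
      rs F (inf_le_right.trans (hV₁ τ hτ) : V ⊓ V₁ ≤ Vτ τ) (rs F (hVτ τ) (c τ)) := (rs_rs F _ _ _).symm
  rw [h2, h0 τ hτ]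
  exact map_zero _

lemma cons_comp_succAbove_zero {n : ℕ} (i₀ : I) (σ : Fin (n + 1) → I) :
    (Fin.cons i₀ σ : Fin (n + 2) → I) ∘ (0 : Fin (n + 2)).succAbove = σ := by
  funext j
  simp [Fin.succAbove_zero]

lemma cons_comp_succAbove_succ {n : ℕ} (i₀ : I) (σ : Fin (n + 2) → I) (i : Fin (n + 2)) :
    (Fin.cons i₀ σ : Fin (n + 3) → I) ∘ i.succ.succAbove =
      (Fin.cons i₀ (σ ∘ i.succAbove) : Fin (n + 2) → I) := by
  funext j
  refine Fin.cases ?_ (fun j' => ?_) j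
  · simp
  · simp

lemma rs_sum (G : CohTop.Ab X) {W V : Opens X} (h : V ≤ W) {ι : Type*} (s : Finset ι)
    (f : ι → G.obj.obj (op W)) : rs G h (∑ i ∈ s, f i) = ∑ i ∈ s, rs G h (f i) :=
  map_sum (G.obj.map (homOfLE h).op).hom f s

lemma rs_zsmul (G : CohTop.Ab X) {W V : Opens X} (h : V ≤ W) (n : ℤ) (a : G.obj.obj (op W)) :
    rs G h (n • a) = n • rs G h a :=
  map_zsmul (G.obj.map (homOfLE h).op).hom n a

lemma rs_add (G : CohTop.Ab X) {W V : Opens X} (h : V ≤ W) (a b : G.obj.obj (op W)) :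
    rs G h (a + b) = rs G h a + rs G h b :=
  map_add (G.obj.map (homOfLE h).op).hom a b

lemma rs_neg (G : CohTop.Ab X) {W V : Opens X} (h : V ≤ W) (a : G.obj.obj (op W)) :
    rs G h (-a) = -rs G h a :=
  map_neg (G.obj.map (homOfLE h).op).hom a

/-- the unit applied to the alternating sum of a family of sections -/
lemma uZ_alt (m : ℕ) (W V : Opens X) (hV : V ≤ W) (b : (KX (U := U) F m).obj.obj (op W))
    (t : (Fin (m + 1) → I) → F.obj.obj (op V))
    (ht : ∀ σ, (uZ F (ZZ U σ)).hom.app (op V) (t σ) = rs (GZ F (ZZ U σ)) hV (secPi _ W b σ))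
    (τ : Fin (m + 2) → I) :
    (uZ F (ZZ U τ)).hom.app (op V) (∑ i : Fin (m + 2), (-1 : ℤ) ^ (i : ℕ) • t (τ ∘ i.succAbove)) =
      rs (GZ F (ZZ U τ)) hV (secPi _ W ((dK hU F m).hom.app (op W) b) τ) := by
  rw [d_secPi, map_sum, rs_sum]
  refine Finset.sum_congr rfl (fun i _ => ?_)
  rw [map_zsmul, rs_zsmul]
  congr 1
  rw [rs_app, ← ht, rho_uZ_app]

include hlf in
/-- exactness of the closed Čech complex in positive degrees, on sections -/
theorem local_exact (hcov : ⋃ i, U i = Set.univ) (n : ℕ) (W : Opens X)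
    (b : (KX (U := U) F (n + 1)).obj.obj (op W))
    (hb : (dK hU F (n + 1)).hom.app (op W) b = 0) (x : X) (hx : x ∈ W) :
    ∃ (V : Opens X) (hV : V ≤ W) (a : (KX (U := U) F n).obj.obj (op V)), x ∈ V ∧
      (dK hU F n).hom.app (op V) a = rs (KX (U := U) F (n + 1)) hV b := by
  obtain ⟨i₀, hi₀⟩ : ∃ i₀, x ∈ U i₀ := by
    have : x ∈ ⋃ i, U i := by rw [hcov]; trivial
    exact Set.mem_iUnion.1 this
  obtain ⟨V, hVW, t, hxV, hgood, ht⟩ := local_rep hU hlf F (n + 1) W b x hx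
  let c : (Fin (n + 3) → I) → F.obj.obj (op V) := fun τ =>
    ∑ i : Fin (n + 3), (-1 : ℤ) ^ (i : ℕ) • t (τ ∘ i.succAbove)
  have hc : ∀ τ ∈ Sx U x (n + 2), (uZ F (ZZ U τ)).hom.app (op V) (c τ) = 0 := by
    intro τ _
    rw [uZ_alt hU F (n + 1) W V hVW b t ht τ, hb, secPi_zero]
    exact map_zero _
  obtain ⟨V', hV'V, hxV', hc0⟩ := local_vanish hlf F (n + 2) V x hxV c hc
  let a : (KX (U := U) F n).obj.obj (op V') := mkPi _ V' (fun ρ =>
    (uZ F (ZZ U ρ)).hom.app (op V') (rs F hV'V (t (Fin.cons i₀ ρ))))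
  refine ⟨V', hV'V.trans hVW, a, hxV', ?_⟩
  apply secPi_ext
  intro σ
  by_cases hσ : σ ∈ Sx U x (n + 1)
  · have hτ : (Fin.cons i₀ σ : Fin (n + 3) → I) ∈ Sx U x (n + 2) := by
      intro k
      refine Fin.cases ?_ (fun k' => ?_) k
      · simpa using hi₀
      · simpa using hσ k'
    have h0 := hc0 _ hτ
    change rs F hV'V (∑ i : Fin (n + 3), (-1 : ℤ) ^ (i : ℕ) •
      t ((Fin.cons i₀ σ : Fin (n + 3) → I) ∘ i.succAbove)) = 0 at h0
    rw [Fin.sum_univ_succ, cons_comp_succAbove_zero] at h0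
    simp only [cons_comp_succAbove_succ, Fin.val_zero, pow_zero, one_smul, Fin.val_succ, pow_succ,
      mul_neg, mul_one, neg_smul, Finset.sum_neg_distrib] at h0
    rw [rs_add, rs_neg, add_neg_eq_zero, rs_sum] at h0
    simp only [rs_zsmul] at h0
    rw [d_secPi, secPi_rs]
    have h1 : ∀ i : Fin (n + 2),
        (rho (isClosed_ZZ hU (σ ∘ i.succAbove)) (ZZ_subset σ i.succAbove)).hom.app (op V')
          (secPi (fun σ : Fin (n + 1) → I => GZ F (ZZ U σ)) V' a (σ ∘ i.succAbove)) =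
        (uZ F (ZZ U σ)).hom.app (op V') (rs F hV'V (t (Fin.cons i₀ (σ ∘ i.succAbove)))) := by
      intro i
      rw [secPi_mkPi, rho_uZ_app]
    simp only [h1]
    have e1 : rs (GZ F (ZZ U σ)) (hV'V.trans hVW) (secPi _ W b σ) =
        (uZ F (ZZ U σ)).hom.app (op V') (rs F hV'V (t σ)) := by
      rw [← rs_app, ht σ, rs_rs]
    rw [e1, h0, map_sum]
    refine Finset.sum_congr rfl (fun i _ => ?_)
    rw [map_zsmul]
  · exact subsingleton_of_disjoint _ (disjoint_ZZ_of_not_mem_Sx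
      (fun i ⟨y, hy, hyi⟩ => hgood i ⟨y, hV'V hy, hyi⟩) hσ) _ _

/-- the augmentation of the closed Čech complex -/
noncomputable def eps : F ⟶ KX (U := U) F 0 := Pi.lift (fun σ : Fin 1 → I => uZ F (ZZ U σ))

lemma secPi_eps (W : Opens X) (t : F.obj.obj (op W)) (σ : Fin 1 → I) :
    secPi _ W ((eps (U := U) F).hom.app (op W) t) σ = (uZ F (ZZ U σ)).hom.app (op W) t :=
  secPi_lift _ _ W t σ

lemma eps_dK : eps (U := U) F ≫ dK hU F 0 = 0 := by
  apply Pi.hom_ext
  intro τ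
  rw [Category.assoc, d_π, zero_comp, Preadditive.comp_sum, Fin.sum_univ_two]
  simp only [Preadditive.comp_zsmul]
  have h : ∀ i : Fin 2, eps (U := U) F ≫ Pi.π (fun σ : Fin 1 → I => GZ F (ZZ U σ)) (τ ∘ i.succAbove) ≫
      rho (isClosed_ZZ hU (τ ∘ i.succAbove)) (ZZ_subset τ i.succAbove) = uZ F (ZZ U τ) := by
    intro i
    rw [← Category.assoc]
    have h1 : eps (U := U) F ≫ Pi.π (fun σ : Fin 1 → I => GZ F (ZZ U σ)) (τ ∘ i.succAbove) =
        uZ F (ZZ U (τ ∘ i.succAbove)) := Pi.lift_π _ _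
    rw [h1, uZ_rho]
  rw [h 0, h 1]
  simp

/-- the augmentation is injective on sections -/
theorem eps_injective (hcov : ⋃ i, U i = Set.univ) (W : Opens X) :
    Function.Injective ((eps (U := U) F).hom.app (op W)) := by
  rw [injective_iff_map_eq_zero]
  intro t ht
  have h1 : ∀ x : W, ∃ (V : Opens X) (hV : V ≤ W), x.1 ∈ V ∧ rs F hV t = 0 := by
    intro x
    obtain ⟨i₀, hi₀⟩ : ∃ i₀, x.1 ∈ U i₀ := by
      have : x.1 ∈ ⋃ i, U i := by rw [hcov]; trivial
      exact Set.mem_iUnion.1 this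
    have h2 : (uZ F (ZZ U (fun _ : Fin 1 => i₀))).hom.app (op W) t = 0 := by
      rw [← secPi_eps, ht, secPi_zero]
    exact (uZ_eq_zero_iff W t).1 h2 x.1 x.2 (Set.mem_iInter.2 (fun _ => hi₀))
  choose V hV hxV h0 using h1
  refine TopCat.Sheaf.eq_of_locally_eq' F V W (fun x => homOfLE (hV x)) ?_ _ _ ?_
  · intro y hy
    exact Opens.mem_iSup.2 ⟨⟨y, hy⟩, hxV ⟨y, hy⟩⟩
  · intro x
    exact (h0 x).trans (map_zero _).symm


include hlf in
/-- exactness of the augmented closed Čech complex in degree zero, on sections -/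
theorem local_exact_zero (hcov : ⋃ i, U i = Set.univ) (W : Opens X)
    (b : (KX (U := U) F 0).obj.obj (op W))
    (hb : (dK hU F 0).hom.app (op W) b = 0) (x : X) (hx : x ∈ W) :
    ∃ (V : Opens X) (hV : V ≤ W) (a : F.obj.obj (op V)), x ∈ V ∧
      (eps (U := U) F).hom.app (op V) a = rs (KX (U := U) F 0) hV b := by
  obtain ⟨i₀, hi₀⟩ : ∃ i₀, x ∈ U i₀ := by
    have : x ∈ ⋃ i, U i := by rw [hcov]; trivial
    exact Set.mem_iUnion.1 this
  obtain ⟨V, hVW, t, hxV, hgood, ht⟩ := local_rep hU hlf F 0 W b x hx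
  let c : (Fin 2 → I) → F.obj.obj (op V) := fun τ =>
    ∑ i : Fin 2, (-1 : ℤ) ^ (i : ℕ) • t (τ ∘ i.succAbove)
  have hc : ∀ τ ∈ Sx U x 1, (uZ F (ZZ U τ)).hom.app (op V) (c τ) = 0 := by
    intro τ _
    rw [uZ_alt hU F 0 W V hVW b t ht τ, hb, secPi_zero]
    exact map_zero _
  obtain ⟨V', hV'V, hxV', hc0⟩ := local_vanish hlf F 1 V x hxV c hc
  refine ⟨V', hV'V.trans hVW, rs F hV'V (t (fun _ => i₀)), hxV', ?_⟩
  apply secPi_ext
  intro σ
  rw [secPi_eps, secPi_rs]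
  by_cases hσ : σ ∈ Sx U x 0
  · have hτ : (Fin.cons i₀ σ : Fin 2 → I) ∈ Sx U x 1 := by
      intro k
      refine Fin.cases ?_ (fun k' => ?_) k
      · simpa using hi₀
      · simpa using hσ k'
    have h0 := hc0 _ hτ
    change rs F hV'V (∑ i : Fin 2, (-1 : ℤ) ^ (i : ℕ) •
      t ((Fin.cons i₀ σ : Fin 2 → I) ∘ i.succAbove)) = 0 at h0
    rw [Fin.sum_univ_two, cons_comp_succAbove_zero] at h0
    have h3 : (Fin.cons i₀ σ : Fin 2 → I) ∘ (1 : Fin 2).succAbove = fun _ => i₀ := by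
      funext j
      fin_cases j
      rfl
    rw [h3] at h0
    simp only [Fin.val_zero, pow_zero, one_smul, Fin.val_one, pow_one, neg_smul] at h0
    rw [rs_add, rs_neg, add_neg_eq_zero] at h0
    rw [← h0, ← rs_app, ht σ, rs_rs]
  · exact subsingleton_of_disjoint _ (disjoint_ZZ_of_not_mem_Sx
      (fun i ⟨y, hy, hyi⟩ => hgood i ⟨y, hV'V hy, hyi⟩) hσ) _ _


include hlf in
/-- the closed Čech complex of a locally finite closed covering is exact in positive degrees -/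
theorem exactAt_CK (hcov : ⋃ i, U i = Set.univ) (n : ℕ) : (CK hU F).ExactAt (n + 1) := by
  rw [HomologicalComplex.exactAt_iff' _ n (n + 1) (n + 2) (by simp) (by simp)]
  apply exact_of_local
  intro W b hb x hx
  have hb' : (dK hU F (n + 1)).hom.app (op W) b = 0 := by
    have h := congrArg (fun m => m.hom.app (op W)) (CK_d hU F (n + 1))
    exact (ConcreteCategory.congr_hom h b).symm.trans hb
  obtain ⟨V, hV, a, hxV, ha⟩ := local_exact hU hlf F hcov n W b hb' x hx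
  refine ⟨V, hV, a, hxV, ?_⟩
  have h := congrArg (fun m => m.hom.app (op V)) (CK_d hU F n)
  exact (ConcreteCategory.congr_hom h a).trans ha

include hlf in
/-- `F` is the degree-zero cohomology of the closed Čech complex of a locally finite closed covering -/
theorem nonempty_iso_homology_zero (hcov : ⋃ i, U i = Set.univ) :
    Nonempty (F ≅ (CK hU F).homology 0) := by
  let φ : F ⟶ (CK hU F).X 0 := eps (U := U) F
  have hφ : φ ≫ (CK hU F).d 0 1 = 0 := (congrArg (fun m => eps (U := U) F ≫ m) (CK_d hU F 0)).trans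
    (eps_dK hU F)
  have hmono : Mono φ := mono_of_injective φ (eps_injective F hcov)
  have hex : (ShortComplex.mk φ ((CK hU F).d 0 1) hφ).Exact := by
    apply exact_of_local
    intro W b hb x hx
    have hb' : (dK hU F 0).hom.app (op W) b = 0 := by
      have h := congrArg (fun m => m.hom.app (op W)) (CK_d hU F 0)
      exact (ConcreteCategory.congr_hom h b).symm.trans hb
    exact local_exact_zero hU hlf F hcov W b hb' x hx
  have h1 : (ComplexShape.up ℕ).next 0 = 1 := by simp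
  have hiso : IsIso ((CK hU F).liftCycles φ 1 h1 hφ) := by
    rw [CochainComplex.isIso_liftCycles_iff]
    exact ⟨hex, hmono⟩
  exact ⟨asIso ((CK hU F).liftCycles φ 1 h1 hφ) ≪≫
    CochainComplex.isoHomologyπ₀ (CK hU F)⟩

end Groth.Agent.Lib.Seat38.ClosedCech
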