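import Mathlib

/-!
# Right derived functors of the limit over the simplex category (seat 38)

For an abelian category `𝒜` with enough injectives and countable products:

* `PP J`: the product of the cosimplicial objects co-induced from a family `J m`; its alternating
  coface complex has an explicit contracting homotopy in positive degrees (`homotopy_identity`,
  `exactAt_PP`);
* `isZero_homology_of_injective`: the alternating coface complex of an injective cosimplicial object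
  is exact in positive degrees (an injective is a retract of some `PP J`);
* `altCx`: the alternating coface complex functor is additive and exact;
* `limIso`: `lim ≅ altCx ⋙ H⁰`.
-/

set_option autoImplicit false
universe v u
open CategoryTheory CategoryTheory.Limits Simplicial

namespace Groth.Agent.Lib.Seat38.CosimpLim

section Shift

open SSet.Augmented.StandardSimplex

lemma δ_zero_shift {n : ℕ} {Δ : SimplexCategory} (f : ⦋n⦌ ⟶ Δ) :
    SimplexCategory.δ 0 ≫ shift f = f := by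
  apply SimplexCategory.Hom.ext
  ext j : 2
  dsimp [SimplexCategory.δ]
  change shiftFun _ (Fin.succAbove 0 j) = _
  rw [Fin.succAbove_zero]
  rfl

lemma δ_succ_shift {n : ℕ} {Δ : SimplexCategory} (f : ⦋n + 1⦌ ⟶ Δ) (i : Fin (n + 2)) :
    SimplexCategory.δ i.succ ≫ shift f = shift (SimplexCategory.δ i ≫ f) := by
  apply SimplexCategory.Hom.ext
  ext j : 2
  dsimp [SimplexCategory.δ]
  cases j using Fin.cases with
  | zero => rfl
  | succ k =>
    change shiftFun _ (Fin.succAbove i.succ k.succ) = shiftFun _ (Fin.succAbove i k).succ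
    rw [Fin.succ_succAbove_succ]
    rfl

end Shift

section Exact

variable {𝒜 : Type u} [Category.{v} 𝒜] [Abelian 𝒜]

/-- a short complex with a contracting homotopy is exact -/
lemma exact_of_homotopy (S : ShortComplex 𝒜) (r : S.X₂ ⟶ S.X₁) (s : S.X₃ ⟶ S.X₂)
    (h : r ≫ S.f + S.g ≫ s = 𝟙 _) : S.Exact := by
  rw [S.exact_iff_epi_toCycles]
  have h1 : (S.iCycles ≫ r) ≫ S.toCycles = 𝟙 _ := by
    rw [← cancel_mono S.iCycles, Category.assoc, Category.assoc, S.toCycles_i, Category.id_comp]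
    have h2 := congrArg (fun m => S.iCycles ≫ m) h
    simp only [Preadditive.comp_add, S.iCycles_g_assoc, zero_comp, add_zero, Category.comp_id] at h2
    exact h2
  exact epi_of_epi_fac h1

end Exact

section Coinduced

open SSet.Augmented.StandardSimplex

variable {𝒜 : Type u} [Category.{v} 𝒜] [Abelian 𝒜] [HasProducts.{0} 𝒜]
  (J : SimplexCategory → 𝒜)

/-- the index family -/
abbrev Idx (a : SimplexCategory) : Type := Σ m : SimplexCategory, (a ⟶ m)

/-- the values of the family -/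
abbrev fam (a : SimplexCategory) : Idx a → 𝒜 := fun p => J p.1

lemma π_snd_congr {a m : SimplexCategory} {f g : a ⟶ m} (h : f = g) :
    Pi.π (fam J a) ⟨m, f⟩ = Pi.π (fam J a) ⟨m, g⟩ := by
  subst h
  rfl

/-- the transition maps of the co-induced product -/
noncomputable def PPmap {a b : SimplexCategory} (φ : a ⟶ b) : ∏ᶜ fam J a ⟶ ∏ᶜ fam J b :=
  Pi.lift fun p : Idx b => Pi.π (fam J a) ⟨p.1, φ ≫ p.2⟩

lemma PPmap_π {a b : SimplexCategory} (φ : a ⟶ b) (p : Idx b) :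
    PPmap J φ ≫ Pi.π (fam J b) p = Pi.π (fam J a) ⟨p.1, φ ≫ p.2⟩ :=
  Pi.lift_π _ _

/-- the product over all simplices `m` of the cosimplicial objects co-induced from `J m` -/
noncomputable def PP : SimplexCategory ⥤ 𝒜 where
  obj a := ∏ᶜ fam J a
  map {a b} φ := PPmap J φ
  map_id a := by
    apply Pi.hom_ext
    intro p
    exact (PPmap_π J (𝟙 a) p).trans
      ((π_snd_congr J (Category.id_comp _)).trans (Category.id_comp _).symm)
  map_comp {a b c} φ ψ := by
    apply Pi.hom_ext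
    intro p
    rw [PPmap_π, Category.assoc (PPmap J φ), PPmap_π, PPmap_π]
    exact π_snd_congr J (Category.assoc _ _ _)

lemma PP_map_π {a b : SimplexCategory} (φ : a ⟶ b) (p : Idx b) :
    (PP J).map φ ≫ Pi.π (fam J b) p = Pi.π (fam J a) ⟨p.1, φ ≫ p.2⟩ :=
  PPmap_π J φ p

variable {J}

/-- the canonical morphism to the co-induced product -/
noncomputable def toPPapp {I : SimplexCategory ⥤ 𝒜} (j : ∀ m, I.obj m ⟶ J m) (a : SimplexCategory) :
    I.obj a ⟶ ∏ᶜ fam J a :=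
  Pi.lift fun p : Idx a => I.map p.2 ≫ j p.1

lemma toPPapp_π {I : SimplexCategory ⥤ 𝒜} (j : ∀ m, I.obj m ⟶ J m) (a : SimplexCategory)
    (p : Idx a) : toPPapp j a ≫ Pi.π (fam J a) p = I.map p.2 ≫ j p.1 :=
  Pi.lift_π _ _

/-- the canonical morphism to the co-induced product -/
noncomputable def toPP {I : SimplexCategory ⥤ 𝒜} (j : ∀ m, I.obj m ⟶ J m) : I ⟶ PP J where
  app a := toPPapp j a
  naturality {a b} φ := by
    apply Pi.hom_ext
    intro p
    change (I.map φ ≫ toPPapp j b) ≫ Pi.π (fam J b) p =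
      (toPPapp j a ≫ PPmap J φ) ≫ Pi.π (fam J b) p
    rw [Category.assoc, Category.assoc, PPmap_π, toPPapp_π, toPPapp_π]
    exact ((congrArg (fun m => m ≫ j p.1) (I.map_comp φ p.2)).trans (Category.assoc _ _ _)).symm

instance mono_toPP {I : SimplexCategory ⥤ 𝒜} (j : ∀ m, I.obj m ⟶ J m) [∀ m, Mono (j m)] :
    Mono (toPP j) := by
  have : ∀ a, Mono ((toPP j).app a) := by
    intro a
    have h : (toPP j).app a ≫ Pi.π (fam J a) ⟨a, 𝟙 a⟩ = j a := by
      change toPPapp j a ≫ _ = _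
      rw [toPPapp_π, I.map_id, Category.id_comp]
    have : Mono ((toPP j).app a ≫ Pi.π (fam J a) ⟨a, 𝟙 a⟩) := by rw [h]; infer_instance
    exact mono_of_mono _ (Pi.π (fam J a) ⟨a, 𝟙 a⟩)
  exact NatTrans.mono_of_mono_app _

variable (J)

/-- the contracting homotopy -/
noncomputable def hh (n : ℕ) : ∏ᶜ fam J ⦋n + 1⦌ ⟶ ∏ᶜ fam J ⦋n⦌ :=
  Pi.lift fun p : Idx ⦋n⦌ => Pi.π (fam J ⦋n + 1⦌) ⟨p.1, shift p.2⟩

lemma hh_π (n : ℕ) (p : Idx ⦋n⦌) :
    hh J n ≫ Pi.π (fam J ⦋n⦌) p = Pi.π (fam J ⦋n + 1⦌) ⟨p.1, shift p.2⟩ :=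
  Pi.lift_π _ _

/-- the alternating sum of the cofaces of the co-induced product -/
noncomputable def dP (n : ℕ) : ∏ᶜ fam J ⦋n⦌ ⟶ ∏ᶜ fam J ⦋n + 1⦌ :=
  ∑ i : Fin (n + 2), (-1 : ℤ) ^ (i : ℕ) • PPmap J (SimplexCategory.δ i)

open AlgebraicTopology in
lemma objD_PP (n : ℕ) : AlternatingCofaceMapComplex.objD (PP J) n = dP J n := rfl

lemma homotopy_identity (n : ℕ) :
    hh J n ≫ dP J n + dP J (n + 1) ≫ hh J (n + 1) = 𝟙 _ := by
  apply Pi.hom_ext
  intro p
  obtain ⟨m, g⟩ := p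
  have h1 : ∀ i : Fin (n + 2), hh J n ≫ PPmap J (SimplexCategory.δ i) ≫
      Pi.π (fam J ⦋n + 1⦌) ⟨m, g⟩ =
      Pi.π (fam J ⦋n + 1⦌) ⟨m, shift (SimplexCategory.δ i ≫ g)⟩ := by
    intro i
    rw [PPmap_π, hh_π]
  have h2 : ∀ i : Fin (n + 3), PPmap J (SimplexCategory.δ i) ≫ hh J (n + 1) ≫
      Pi.π (fam J ⦋n + 1⦌) ⟨m, g⟩ =
      Pi.π (fam J ⦋n + 1⦌) ⟨m, SimplexCategory.δ i ≫ shift g⟩ := by
    intro i
    rw [hh_π, PPmap_π]
  have hA : (hh J n ≫ dP J n) ≫ Pi.π (fam J ⦋n + 1⦌) ⟨m, g⟩ =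
      ∑ i : Fin (n + 2), (-1 : ℤ) ^ (i : ℕ) •
        Pi.π (fam J ⦋n + 1⦌) ⟨m, shift (SimplexCategory.δ i ≫ g)⟩ := by
    rw [dP, Preadditive.comp_sum, Preadditive.sum_comp]
    refine Finset.sum_congr rfl (fun i _ => ?_)
    rw [Preadditive.comp_zsmul, Preadditive.zsmul_comp, Category.assoc, h1]
  have hB : (dP J (n + 1) ≫ hh J (n + 1)) ≫ Pi.π (fam J ⦋n + 1⦌) ⟨m, g⟩ =
      ∑ i : Fin (n + 3), (-1 : ℤ) ^ (i : ℕ) •
        Pi.π (fam J ⦋n + 1⦌) ⟨m, SimplexCategory.δ i ≫ shift g⟩ := by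
    rw [dP, Preadditive.sum_comp, Preadditive.sum_comp]
    refine Finset.sum_congr rfl (fun i _ => ?_)
    rw [Preadditive.zsmul_comp, Preadditive.zsmul_comp, Category.assoc, h2]
  rw [Preadditive.add_comp, hA, hB, Fin.sum_univ_succ (n := n + 2), Category.id_comp]
  have hC : ∀ i : Fin (n + 2), (-1 : ℤ) ^ ((i.succ : Fin (n + 3)) : ℕ) •
      Pi.π (fam J ⦋n + 1⦌) ⟨m, SimplexCategory.δ i.succ ≫ shift g⟩ =
      - ((-1 : ℤ) ^ (i : ℕ) • Pi.π (fam J ⦋n + 1⦌) ⟨m, shift (SimplexCategory.δ i ≫ g)⟩) := by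
    intro i
    rw [π_snd_congr J (δ_succ_shift g i), Fin.val_succ, pow_succ, mul_neg_one, neg_smul]
  have hsum : ∑ i : Fin (n + 2), (-1 : ℤ) ^ ((i.succ : Fin (n + 3)) : ℕ) •
      Pi.π (fam J ⦋n + 1⦌) ⟨m, SimplexCategory.δ i.succ ≫ shift g⟩ =
      - (∑ i : Fin (n + 2), ((-1 : ℤ) ^ (i : ℕ) •
        Pi.π (fam J ⦋n + 1⦌) ⟨m, shift (SimplexCategory.δ i ≫ g)⟩) :
          ∏ᶜ fam J ⦋n + 1⦌ ⟶ J m) := by
    rw [← Finset.sum_neg_distrib]
    exact Finset.sum_congr rfl (fun i _ => hC i)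
  rw [hsum, Fin.val_zero, pow_zero, one_smul, π_snd_congr J (δ_zero_shift g)]
  abel


open AlgebraicTopology in
lemma altObj_d (X : CosimplicialObject 𝒜) (n : ℕ) :
    ((alternatingCofaceMapComplex 𝒜).obj X).d n (n + 1) =
      AlternatingCofaceMapComplex.objD X n :=
  CochainComplex.of_d (fun n => X.obj ⦋n⦌) (AlternatingCofaceMapComplex.objD X) n

open AlgebraicTopology in
/-- the alternating coface complex of the co-induced product is exact in positive degrees -/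
theorem exactAt_PP (n : ℕ) : ((alternatingCofaceMapComplex 𝒜).obj (PP J)).ExactAt (n + 1) := by
  rw [HomologicalComplex.exactAt_iff' _ n (n + 1) (n + 2) (by simp) (by simp)]
  refine exact_of_homotopy _ (hh J n) (hh J (n + 1)) ?_
  have h1 : ((alternatingCofaceMapComplex 𝒜).obj (PP J)).d n (n + 1) = dP J n :=
    (altObj_d (PP J) n).trans (objD_PP J n)
  have h2 : ((alternatingCofaceMapComplex 𝒜).obj (PP J)).d (n + 1) (n + 2) = dP J (n + 1) :=
    (altObj_d (PP J) (n + 1)).trans (objD_PP J (n + 1))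
  exact (congrArg₂ (fun (a : ∏ᶜ fam J ⦋n⦌ ⟶ ∏ᶜ fam J ⦋n + 1⦌)
    (b : ∏ᶜ fam J ⦋n + 1⦌ ⟶ ∏ᶜ fam J ⦋n + 1 + 1⦌) => hh J n ≫ a + b ≫ hh J (n + 1)) h1 h2).trans
      (homotopy_identity J n)

end Coinduced

section Injective

variable {𝒜 : Type u} [Category.{v} 𝒜] [Abelian 𝒜] [HasProducts.{0} 𝒜] [EnoughInjectives 𝒜]

open AlgebraicTopology in
/-- the alternating coface complex of an injective cosimplicial object is exact in positive
degrees -/
theorem isZero_homology_of_injective (I : SimplexCategory ⥤ 𝒜) [Injective I] (n : ℕ) :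
    IsZero (((alternatingCofaceMapComplex 𝒜).obj I).homology (n + 1)) := by
  let J : SimplexCategory → 𝒜 := fun m => Injective.under (I.obj m)
  let j : ∀ m, I.obj m ⟶ J m := fun m => Injective.ι (I.obj m)
  haveI : ∀ m, Mono (j m) := fun m => inferInstanceAs (Mono (Injective.ι (I.obj m)))
  let ι : I ⟶ PP J := toPP (I := I) j
  haveI : Mono ι := mono_toPP (I := I) j
  let r : PP J ⟶ I := Injective.factorThru (𝟙 I) ι
  have hr : ι ≫ r = 𝟙 I := Injective.comp_factorThru (𝟙 I) ι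
  let T : (SimplexCategory ⥤ 𝒜) ⥤ 𝒜 :=
    (alternatingCofaceMapComplex 𝒜 : (SimplexCategory ⥤ 𝒜) ⥤ CochainComplex 𝒜 ℕ) ⋙
      HomologicalComplex.homologyFunctor 𝒜 (ComplexShape.up ℕ) (n + 1)
  have hT : T.map ι ≫ T.map r = 𝟙 (T.obj I) := by
    rw [← T.map_comp, hr, T.map_id]
  have hz : IsZero (T.obj (PP J)) :=
    (HomologicalComplex.exactAt_iff_isZero_homology _ _).1 (exactAt_PP J n)
  change IsZero (T.obj I)
  rw [IsZero.iff_id_eq_zero, ← hT, hz.eq_of_tgt (T.map ι) 0, zero_comp]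

end Injective

section AltCx

variable (𝒜 : Type u) [Category.{v} 𝒜] [Abelian 𝒜]

/-- the alternating coface complex functor, on the functor category -/
noncomputable def altCx : (SimplexCategory ⥤ 𝒜) ⥤ CochainComplex 𝒜 ℕ :=
  AlgebraicTopology.alternatingCofaceMapComplex 𝒜

variable {𝒜}

lemma altCx_map_f {X Y : SimplexCategory ⥤ 𝒜} (f : X ⟶ Y) (n : ℕ) :
    ((altCx 𝒜).map f).f n = f.app ⦋n⦌ := rfl

lemma altCx_obj_X (X : SimplexCategory ⥤ 𝒜) (n : ℕ) : ((altCx 𝒜).obj X).X n = X.obj ⦋n⦌ := rfl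

instance : (altCx 𝒜).Additive where
  map_add {X Y f g} := by
    ext n
    rfl

/-- evaluation of the alternating coface complex -/
noncomputable def altCxEval (n : ℕ) :
    altCx 𝒜 ⋙ HomologicalComplex.eval 𝒜 (ComplexShape.up ℕ) n ≅
      (evaluation SimplexCategory 𝒜).obj ⦋n⦌ :=
  NatIso.ofComponents (fun X => Iso.refl _) (fun {X Y} f => by
    change ((altCx 𝒜).map f).f n ≫ 𝟙 _ = 𝟙 _ ≫ f.app ⦋n⦌
    rw [Category.comp_id, Category.id_comp, altCx_map_f])

instance : PreservesFiniteLimits (altCx 𝒜) := by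
  constructor
  intro K _ _
  apply HomologicalComplex.preservesLimitsOfShape_of_eval
  intro n
  exact preservesLimitsOfShape_of_natIso (altCxEval n).symm

instance : PreservesFiniteColimits (altCx 𝒜) := by
  constructor
  intro K _ _
  apply HomologicalComplex.preservesColimitsOfShape_of_eval
  intro n
  exact preservesColimitsOfShape_of_natIso (altCxEval n).symm

end AltCx

section LimIso

variable {𝒜 : Type u} [Category.{v} 𝒜] [Abelian 𝒜] 

lemma δ_one_mkOfLe {n : ℕ} (i j : Fin (n + 1)) (h : i ≤ j) :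
    SimplexCategory.δ 1 ≫ SimplexCategory.mkOfLe i j h = SimplexCategory.const ⦋0⦌ ⦋n⦌ i :=
  SimplexCategory.Hom.ext_zero_left _ _ rfl

lemma δ_zero_mkOfLe {n : ℕ} (i j : Fin (n + 1)) (h : i ≤ j) :
    SimplexCategory.δ 0 ≫ SimplexCategory.mkOfLe i j h = SimplexCategory.const ⦋0⦌ ⦋n⦌ j :=
  SimplexCategory.Hom.ext_zero_left _ _ rfl

variable (F : SimplexCategory ⥤ 𝒜)

/-- the first differential -/
noncomputable def dd : F.obj ⦋0⦌ ⟶ F.obj ⦋1⦌ :=
  F.map (SimplexCategory.δ 0) - F.map (SimplexCategory.δ 1)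

open AlgebraicTopology in
lemma altCx_d01 : ((altCx 𝒜).obj F).d 0 1 = dd F := by
  have h : ((altCx 𝒜).obj F).d 0 1 = AlternatingCofaceMapComplex.objD F 0 :=
    CochainComplex.of_d (fun n => F.obj ⦋n⦌) (AlternatingCofaceMapComplex.objD F) 0
  have h2 : AlternatingCofaceMapComplex.objD F 0 =
      ∑ i : Fin 2, (-1 : ℤ) ^ (i : ℕ) • F.map (SimplexCategory.δ i) := rfl
  rw [h, h2, Fin.sum_univ_two, dd]
  simp only [Fin.val_zero, pow_zero, one_smul, Fin.val_one, pow_one, neg_smul]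
  rw [sub_eq_add_neg]

lemma comp_dd {A : 𝒜} (s : A ⟶ F.obj ⦋0⦌) :
    s ≫ dd F = s ≫ F.map (SimplexCategory.δ 0) - s ≫ F.map (SimplexCategory.δ 1) :=
  Preadditive.comp_sub _ _ _

lemma comp_d01 {A : 𝒜} (s : A ⟶ F.obj ⦋0⦌) :
    s ≫ ((altCx 𝒜).obj F).d 0 1 = s ≫ dd F :=
  congrArg (fun m : F.obj ⦋0⦌ ⟶ F.obj ⦋1⦌ => s ≫ m) (altCx_d01 F)

variable {F}

lemma const_indep {A : 𝒜} (s : A ⟶ F.obj ⦋0⦌)
    (hs : s ≫ F.map (SimplexCategory.δ 0) = s ≫ F.map (SimplexCategory.δ 1))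
    (b : SimplexCategory) (i : Fin (b.len + 1)) :
    s ≫ F.map (SimplexCategory.const ⦋0⦌ b i) = s ≫ F.map (SimplexCategory.const ⦋0⦌ b 0) := by
  have h1 := δ_zero_mkOfLe (n := b.len) 0 i (Fin.zero_le i)
  have h0 := δ_one_mkOfLe (n := b.len) 0 i (Fin.zero_le i)
  change s ≫ F.map (SimplexCategory.const ⦋0⦌ ⦋b.len⦌ i) =
    s ≫ F.map (SimplexCategory.const ⦋0⦌ ⦋b.len⦌ 0)
  rw [← h1, ← h0, F.map_comp, F.map_comp, ← Category.assoc, ← Category.assoc, hs]

/-- a morphism equalizing the two cofaces induces a cone -/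
noncomputable def coneOf {A : 𝒜} (s : A ⟶ F.obj ⦋0⦌)
    (hs : s ≫ F.map (SimplexCategory.δ 0) = s ≫ F.map (SimplexCategory.δ 1)) : Cone F where
  pt := A
  π :=
    { app := fun a => s ≫ F.map (SimplexCategory.const ⦋0⦌ a 0)
      naturality := fun a b ψ => by
        change 𝟙 A ≫ s ≫ F.map (SimplexCategory.const ⦋0⦌ b 0) =
          (s ≫ F.map (SimplexCategory.const ⦋0⦌ a 0)) ≫ F.map ψ
        rw [Category.id_comp, Category.assoc, ← F.map_comp, SimplexCategory.const_comp]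
        exact (const_indep s hs b _).symm }

variable (F) [HasLimitsOfShape SimplexCategory 𝒜]

lemma limit_π_d : limit.π F ⦋0⦌ ≫ ((altCx 𝒜).obj F).d 0 1 = 0 := by
  refine (comp_d01 F _).trans ((comp_dd F _).trans ?_)
  rw [limit.w, limit.w, sub_self]
  rfl

/-- the limit of a cosimplicial object is the kernel of the first differential -/
noncomputable def isLimitKernelFork :
    IsLimit (KernelFork.ofι (limit.π F ⦋0⦌) (limit_π_d F)) :=
  KernelFork.IsLimit.ofι _ _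
    (fun {A} s hs => limit.lift F (coneOf s (by
      have h : s ≫ F.map (SimplexCategory.δ 0) - s ≫ F.map (SimplexCategory.δ 1) = 0 :=
        (comp_dd F s).symm.trans ((comp_d01 F s).symm.trans hs)
      exact sub_eq_zero.1 h)))
    (fun {A} s hs => by
      refine (limit.lift_π _ _).trans ?_
      change s ≫ F.map (SimplexCategory.const ⦋0⦌ ⦋0⦌ 0) = s
      rw [SimplexCategory.const_eq_id, F.map_id, Category.comp_id])
    (fun {A} s hs m hm => by
      apply limit.hom_ext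
      intro a
      have h1 : m ≫ limit.π F a = s ≫ F.map (SimplexCategory.const ⦋0⦌ a 0) := by
        rw [← hm, Category.assoc, limit.w]
      exact h1.trans (limit.lift_π (coneOf s _) a).symm)


/-- the comparison `lim F ⟶ Z⁰` -/
noncomputable def toCycles₀ : limit F ⟶ ((altCx 𝒜).obj F).cycles 0 :=
  ((altCx 𝒜).obj F).liftCycles (limit.π F ⦋0⦌) 1 (by simp) (limit_π_d F)

instance isIso_toCycles₀ : IsIso (toCycles₀ F) := by
  exact (CochainComplex.isIso_liftCycles_iff ((altCx 𝒜).obj F) (limit.π F ⦋0⦌)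
    (limit_π_d F)).2
    ((ShortComplex.exact_and_mono_f_iff_f_is_kernel _).2 ⟨isLimitKernelFork F⟩)

lemma toCycles₀_i : toCycles₀ F ≫ ((altCx 𝒜).obj F).iCycles 0 = limit.π F ⦋0⦌ :=
  HomologicalComplex.liftCycles_i _ _ _ _ _

variable {F} in
lemma toCycles₀_naturality {G : SimplexCategory ⥤ 𝒜} (α : F ⟶ G) :
    limMap α ≫ toCycles₀ G =
      toCycles₀ F ≫ HomologicalComplex.cyclesMap ((altCx 𝒜).map α) 0 := by
  rw [← cancel_mono (((altCx 𝒜).obj G).iCycles 0), Category.assoc, Category.assoc, toCycles₀_i,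
    HomologicalComplex.cyclesMap_i, ← Category.assoc, toCycles₀_i]
  exact limMap_π α ⦋0⦌

/-- `lim F ≅ H⁰` of the alternating coface complex -/
noncomputable def limIsoApp : limit F ≅ ((altCx 𝒜).obj F).homology 0 :=
  asIso (toCycles₀ F) ≪≫ CochainComplex.isoHomologyπ₀ ((altCx 𝒜).obj F)

variable (𝒜) in
/-- `lim ≅ altCx ⋙ H⁰` -/
noncomputable def limIso : (lim : (SimplexCategory ⥤ 𝒜) ⥤ 𝒜) ≅
    altCx 𝒜 ⋙ HomologicalComplex.homologyFunctor 𝒜 (ComplexShape.up ℕ) 0 :=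
  NatIso.ofComponents (fun F => limIsoApp F) (fun {F G} α => by
    change limMap α ≫ toCycles₀ G ≫ ((altCx 𝒜).obj G).homologyπ 0 =
      (toCycles₀ F ≫ ((altCx 𝒜).obj F).homologyπ 0) ≫
        HomologicalComplex.homologyMap ((altCx 𝒜).map α) 0
    rw [Category.assoc, HomologicalComplex.homologyπ_naturality, ← Category.assoc,
      ← Category.assoc, toCycles₀_naturality])

end LimIso

end Groth.Agent.Lib.Seat38.CosimpLim
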