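import Groth.Agent.Lib.Seat38CosimpLim
import Groth.Agent.Lib.Seat38ChHomDer
import Groth.Agent.Lib.Helper21DerAcyc
import Groth.Agent.Lib.Helper21DerPost

/-!
# `Rⁿ lim` over the simplex category is the cohomology of the alternating coface complex (seat 38)

`nonempty_rightDerived_lim_iso`: for an abelian category `𝒜` with enough injectives (also in cosimplicial
objects and in `ℕ`-indexed cochain complexes), countable products and limits over `SimplexCategory`:
`(Rⁿ lim) F ≅ Hⁿ (alternating coface complex of F)`.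
-/

set_option autoImplicit false
universe v u
open CategoryTheory CategoryTheory.Limits Simplicial

namespace Groth.Agent.Lib.Seat38.CosimpLim

variable {𝒜 : Type u} [Category.{v} 𝒜] [Abelian 𝒜] [HasProducts.{0} 𝒜]
  [HasLimitsOfShape SimplexCategory 𝒜] [EnoughInjectives 𝒜]
  [EnoughInjectives (SimplexCategory ⥤ 𝒜)] [EnoughInjectives (CochainComplex 𝒜 ℕ)]
  [(lim : (SimplexCategory ⥤ 𝒜) ⥤ 𝒜).Additive]

theorem nonempty_rightDerived_lim_iso (F : SimplexCategory ⥤ 𝒜) (n : ℕ) :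
    Nonempty (((lim : (SimplexCategory ⥤ 𝒜) ⥤ 𝒜).rightDerived n).obj F ≅
      ((altCx 𝒜).obj F).homology n) := by
  have hder : ∀ q : ℕ, Nonempty (HomologicalComplex.homologyFunctor 𝒜 (ComplexShape.up ℕ) q ≅
      (HomologicalComplex.homologyFunctor 𝒜 (ComplexShape.up ℕ) 0).rightDerived q) :=
    fun q => Groth.Agent.Lib.Seat38.ChHomDer.homologyFunctor_iso_rightDerived (C := 𝒜) q
  have hE : ∀ I : SimplexCategory ⥤ 𝒜, Injective I → ∀ q : ℕ, 0 < q →
      IsZero (((HomologicalComplex.homologyFunctor 𝒜 (ComplexShape.up ℕ) 0).rightDerived q).obj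
        ((altCx 𝒜).obj I)) := by
    intro I hI q hq
    obtain ⟨q, rfl⟩ : ∃ k, q = k + 1 := ⟨q - 1, by omega⟩
    obtain ⟨e⟩ := hder (q + 1)
    exact IsZero.of_iso (isZero_homology_of_injective I q) (e.app ((altCx 𝒜).obj I)).symm
  let e1 := (Groth.Agent.Lib.Helper21.DerPost.natIsoRightDerived (limIso 𝒜) n).app F
  obtain ⟨e2⟩ := Groth.Agent.Lib.Helper21.DerAcyc.nonempty_rightDerived_comp_iso (altCx 𝒜)
    (HomologicalComplex.homologyFunctor 𝒜 (ComplexShape.up ℕ) 0) hE F n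
  obtain ⟨e3⟩ := hder n
  exact ⟨e1 ≪≫ e2 ≪≫ (e3.app ((altCx 𝒜).obj F)).symm⟩

end Groth.Agent.Lib.Seat38.CosimpLim
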