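import Groth.Agent.Lib.Seat38FakeRes
import Groth.Agent.Lib.Seat38PageRows

/-!
# The degenerate "descent" spectral sequence of a tower of retracts (seat 38)

Let `A q` and `G p q` (`p q : ℕ`) be objects of an abelian category such that `A q` is a retract of `G 0 q` and
`G p q` is a retract of `G (p+1) q`.  Then there is a cohomological spectral sequence starting at page one with
`E₁^{p,q} ≅ G p q` in the first quadrant (zero elsewhere), bounded, with abutment data of finite filtrations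
abutting to `A n` (zero for `n < 0`).
-/

set_option autoImplicit false
set_option linter.unusedSectionVars false
universe v u
open CategoryTheory CategoryTheory.Limits

namespace Groth.Agent.Lib.Seat38.DescentSS

variable {C : Type u} [Category.{v} C] [Abelian C]

section Tower

variable (A : C) (G : ℕ → C)

/-- the tower `A, G 0, G 1, …` -/
def tower : ℕ → C
  | 0 => A
  | (n + 1) => G n

variable {A G}

/-- the inclusions of the tower -/
def towerI (i₀ : A ⟶ G 0) (i : ∀ p, G p ⟶ G (p + 1)) : ∀ n, tower A G n ⟶ tower A G (n + 1)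
  | 0 => i₀
  | (n + 1) => i n

/-- the retractions of the tower -/
def towerR (r₀ : G 0 ⟶ A) (r : ∀ p, G (p + 1) ⟶ G p) : ∀ n, tower A G (n + 1) ⟶ tower A G n
  | 0 => r₀
  | (n + 1) => r n

lemma tower_ir (i₀ : A ⟶ G 0) (i : ∀ p, G p ⟶ G (p + 1)) (r₀ : G 0 ⟶ A) (r : ∀ p, G (p + 1) ⟶ G p)
    (h₀ : i₀ ≫ r₀ = 𝟙 A) (h : ∀ p, i p ≫ r p = 𝟙 (G p)) :
    ∀ n, towerI i₀ i n ≫ towerR r₀ r n = 𝟙 (tower A G n)
  | 0 => h₀
  | (n + 1) => h n

end Tower

/-- The abstract descent spectral sequence of a tower of retracts. -/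
theorem exists_specSeq (Z : C) (hZ : IsZero Z) (A : ℕ → C) (G : ℕ → ℕ → C)
    (h₀ : ∀ q, ∃ (i : A q ⟶ G 0 q) (r : G 0 q ⟶ A q), i ≫ r = 𝟙 (A q))
    (h : ∀ p q, ∃ (i : G p q ⟶ G (p + 1) q) (r : G (p + 1) q ⟶ G p q), i ≫ r = 𝟙 (G p q)) :
    ∃ (E : CohomologicalSpectralSequence C 1)
      (a : SpSeq.Abutment E (fun n : ℤ => if 0 ≤ n then A n.toNat else Z)),
      (∀ n, a.IsFinite n) ∧ SpSeq.IsBounded E ∧
      ∀ p q : ℤ, Nonempty ((E.page 1 le_rfl).X (p, q) ≅
        (if 0 ≤ p ∧ 0 ≤ q then G p.toNat q.toNat else Z)) := by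
  choose i₀ r₀ h₀ using h₀
  choose i r h using h
  -- the rows
  let R : ℕ → CochainComplex C ℕ := fun q =>
    FakeRes.row (tower (A q) (fun p => G p q)) (towerI (i₀ q) (fun p => i p q)) (towerR (r₀ q) (fun p => r p q))
      (tower_ir (i₀ q) (fun p => i p q) (r₀ q) (fun p => r p q) (h₀ q) (fun p => h p q))
  obtain ⟨E, a, ha, hE, hX, hX'⟩ := PageRows.exists_specSeq R (fun n : ℤ => if 0 ≤ n then A n.toNat else Z)
    (fun q => by
      have : (if 0 ≤ (q : ℤ) then A (q : ℤ).toNat else Z) = A q := by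
        rw [if_pos (Int.natCast_nonneg q), Int.toNat_natCast]
      rw [this]
      exact FakeRes.nonempty_row_homology_zero_iso _ _ _ _)
    (fun n hn => by
      have : (if 0 ≤ n then A n.toNat else Z) = Z := if_neg (by omega)
      rw [this]
      exact hZ)
    (fun q p => FakeRes.row_exactAt_succ _ _ _ _ p)
  refine ⟨E, a, ha, hE, fun p q => ?_⟩
  by_cases hpq : 0 ≤ p ∧ 0 ≤ q
  · rw [if_pos hpq]
    obtain ⟨p, rfl⟩ := Int.eq_ofNat_of_zero_le hpq.1
    obtain ⟨q, rfl⟩ := Int.eq_ofNat_of_zero_le hpq.2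
    rw [Int.toNat_natCast, Int.toNat_natCast]
    exact hX p q
  · rw [if_neg hpq]
    exact ⟨(hX' p q hpq).iso hZ⟩

end Groth.Agent.Lib.Seat38.DescentSS
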