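import Mathlib.Algebra.Homology.DerivedCategory.Ext.Map
import Mathlib.Algebra.Homology.DerivedCategory.Ext.ExactSequences
import Mathlib.Algebra.Homology.DerivedCategory.Ext.EnoughInjectives

/-!
# `Ext` groups and a pair of exact functors whose composite is isomorphic to the identity (seat 38)

Let `Φ : 𝒜 ⥤ ℬ`, `Ψ : ℬ ⥤ 𝒜` be exact functors between abelian categories with `τ : 𝟭 𝒜 ≅ Φ ⋙ Ψ`
(for instance inverse images along `u`, `v` with `v ≫ u = 𝟙`), and let `ZA`, `ZB` be objects with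
`Φ ZA ≅ ZB`, `Ψ ZB ≅ ZA`.  Then `Ext^n(ZA, G)` is a retract of `Ext^n(ZB, Φ G)` (as abelian groups).

* `nat2`: `(mk₀ τ_A).comp ((e.mapExactFunctor Φ).mapExactFunctor Ψ) = e.comp (mk₀ τ_B)`
  (after Seat20ExtNat2, for a composite of two functors);
* `exists_retract`.
-/

set_option autoImplicit false
universe w w' v v' u u'

namespace Groth.Agent.Lib.Seat38.ExtRetract

open CategoryTheory CategoryTheory.Limits Abelian

variable {𝒜 : Type u} [Category.{v} 𝒜] [Abelian 𝒜] [HasExt.{w} 𝒜]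
  {ℬ : Type u'} [Category.{v'} ℬ] [Abelian ℬ] [HasExt.{w'} ℬ]
  (Φ : 𝒜 ⥤ ℬ) [Φ.Additive] [PreservesFiniteLimits Φ] [PreservesFiniteColimits Φ]
  (Ψ : ℬ ⥤ 𝒜) [Ψ.Additive] [PreservesFiniteLimits Ψ] [PreservesFiniteColimits Ψ]
  (τ : 𝟭 𝒜 ⟶ Φ ⋙ Ψ)

theorem aux {n : ℕ} {A M B : 𝒜} (z : Ext.{w} A M n) (δ : Ext.{w} M B 1)
    (ih : (Ext.mk₀ (τ.app A)).comp ((z.mapExactFunctor Φ).mapExactFunctor Ψ) (zero_add n) =
      z.comp (Ext.mk₀ (τ.app M)) (add_zero n))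
    (hnat : δ.comp (Ext.mk₀ (τ.app B)) (add_zero 1) =
      (Ext.mk₀ (τ.app M)).comp ((δ.mapExactFunctor Φ).mapExactFunctor Ψ) (zero_add 1)) :
    (Ext.mk₀ (τ.app A)).comp (((z.comp δ rfl).mapExactFunctor Φ).mapExactFunctor Ψ) (zero_add (n + 1)) =
      (z.comp δ rfl).comp (Ext.mk₀ (τ.app B)) (add_zero (n + 1)) := by
  rw [Ext.mapExactFunctor_comp, Ext.mapExactFunctor_comp]
  rw [← Ext.comp_assoc (Ext.mk₀ (τ.app A)) ((z.mapExactFunctor Φ).mapExactFunctor Ψ)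
    ((δ.mapExactFunctor Φ).mapExactFunctor Ψ) (zero_add n) rfl (by omega), ih]
  rw [Ext.comp_assoc z (Ext.mk₀ (τ.app M)) ((δ.mapExactFunctor Φ).mapExactFunctor Ψ) (add_zero n) (zero_add 1)
    (by omega)]
  rw [Ext.comp_assoc z δ (Ext.mk₀ (τ.app B)) rfl (add_zero 1) (by omega)]
  rw [hnat]

variable [EnoughInjectives 𝒜]

/-- naturality of the maps on `Ext` induced by the composite of two exact functors `Φ`, `Ψ` with respect to
`τ : 𝟭 ⟶ Φ ⋙ Ψ` -/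
theorem nat2 : ∀ (n : ℕ) {A B : 𝒜} (e : Ext.{w} A B n),
    (Ext.mk₀ (τ.app A)).comp ((e.mapExactFunctor Φ).mapExactFunctor Ψ) (zero_add n) =
      e.comp (Ext.mk₀ (τ.app B)) (add_zero n)
  | 0, A, B, e => by
    obtain ⟨f, rfl⟩ := (Ext.mk₀_bijective A B).2 e
    rw [Ext.mapExactFunctor_mk₀, Ext.mapExactFunctor_mk₀, Ext.mk₀_comp_mk₀, Ext.mk₀_comp_mk₀]
    congr 1
    exact (τ.naturality f).symm
  | n + 1, A, B, e => by
    -- embed `B` in an injective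
    let ι := Injective.ι B
    let S : ShortComplex 𝒜 := ShortComplex.mk ι (cokernel.π ι) (cokernel.condition ι)
    have hS : S.ShortExact :=
      { exact := ShortComplex.exact_of_g_is_cokernel _ (cokernelIsCokernel S.f) }
    obtain ⟨z, rfl⟩ := Ext.covariant_sequence_exact₁ A hS e (Ext.eq_zero_of_injective _) rfl
    have ih := nat2 n z
    let f : S ⟶ (S.map Φ).map Ψ :=
      { τ₁ := τ.app _
        τ₂ := τ.app _
        τ₃ := τ.app _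
        comm₁₂ := (τ.naturality S.f).symm
        comm₂₃ := (τ.naturality S.g).symm }
    have hnat := ShortComplex.ShortExact.extClass_naturality hS ((hS.map_of_exact Φ).map_of_exact Ψ) f
    have h1 : (hS.extClass.mapExactFunctor Φ).mapExactFunctor Ψ =
        ((hS.map_of_exact Φ).map_of_exact Ψ).extClass := by
      rw [Ext.mapExactFunctor_extClass Φ hS]
      exact Ext.mapExactFunctor_extClass Ψ (hS.map_of_exact Φ)
    refine aux Φ Ψ τ z hS.extClass ih ?_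
    rw [h1]
    exact hnat

include τ in
/-- `Ext^n(ZA, G)` is a retract of `Ext^n(ZB, Φ G)`. -/
theorem exists_retract [IsIso τ] {ZA : 𝒜} {ZB : ℬ} (α : Φ.obj ZA ≅ ZB) (β : Ψ.obj ZB ≅ ZA) (G : 𝒜) (n : ℕ) :
    ∃ (i : Ext.{w} ZA G n →+ Ext.{w'} ZB (Φ.obj G) n) (r : Ext.{w'} ZB (Φ.obj G) n →+ Ext.{w} ZA G n),
      ∀ x, r (i x) = x := by
  -- the maps
  let i : Ext.{w} ZA G n →+ Ext.{w'} ZB (Φ.obj G) n :=
    AddMonoidHom.comp
      (AddMonoidHom.mk' (fun e => (Ext.mk₀ α.inv).comp e (zero_add n)) (fun _ _ => Ext.comp_add _ _ _ _))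
      (Φ.mapExtAddHom _ _ n)
  let r' : Ext.{w'} ZB (Φ.obj G) n →+ Ext.{w} ZA (Ψ.obj (Φ.obj G)) n :=
    AddMonoidHom.comp
      (AddMonoidHom.mk' (fun e => (Ext.mk₀ β.inv).comp e (zero_add n)) (fun _ _ => Ext.comp_add _ _ _ _))
      (Ψ.mapExtAddHom _ _ n)
  -- the correction: precompose with `γ` and postcompose with `τ_G⁻¹`
  let γ : ZA ⟶ ZA := τ.app ZA ≫ Ψ.map α.hom ≫ β.hom
  let c : Ext.{w} ZA (Ψ.obj (Φ.obj G)) n →+ Ext.{w} ZA G n :=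
    AddMonoidHom.comp
      (AddMonoidHom.mk' (fun e => (Ext.mk₀ γ).comp e (zero_add n)) (fun _ _ => Ext.comp_add _ _ _ _))
      (AddMonoidHom.mk' (fun e => e.comp (Ext.mk₀ (inv (τ.app G))) (add_zero n)) (fun _ _ => Ext.add_comp _ _ _ _))
  refine ⟨i, c.comp r', fun x => ?_⟩
  change (Ext.mk₀ γ).comp (((Ext.mk₀ β.inv).comp
    (((Ext.mk₀ α.inv).comp (x.mapExactFunctor Φ) (zero_add n)).mapExactFunctor Ψ) (zero_add n)).comp
      (Ext.mk₀ (inv (τ.app G))) (add_zero n)) (zero_add n) = x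
  rw [Ext.mapExactFunctor_comp, Ext.mapExactFunctor_mk₀]
  have key := nat2 Φ Ψ τ n x
  -- move everything to the left
  have e1 : (Ext.mk₀ β.inv).comp ((Ext.mk₀ (Ψ.map α.inv)).comp ((x.mapExactFunctor Φ).mapExactFunctor Ψ)
      (zero_add n)) (zero_add n) =
      (Ext.mk₀ (β.inv ≫ Ψ.map α.inv)).comp ((x.mapExactFunctor Φ).mapExactFunctor Ψ) (zero_add n) :=
    Ext.mk₀_comp_mk₀_assoc _ _ _
  rw [e1]
  have e2 : (Ext.mk₀ (β.inv ≫ Ψ.map α.inv)).comp ((x.mapExactFunctor Φ).mapExactFunctor Ψ) (zero_add n) =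
      (Ext.mk₀ (β.inv ≫ Ψ.map α.inv ≫ inv (τ.app ZA))).comp (x.comp (Ext.mk₀ (τ.app G)) (add_zero n))
        (zero_add n) := by
    rw [← key, Ext.mk₀_comp_mk₀_assoc]
    congr 2
    simp
  rw [e2]
  rw [Ext.comp_assoc_of_third_deg_zero, Ext.comp_assoc_of_third_deg_zero, Ext.mk₀_comp_mk₀, IsIso.hom_inv_id,
    Ext.comp_mk₀_id, Ext.mk₀_comp_mk₀_assoc]
  have e3 : γ ≫ β.inv ≫ Ψ.map α.inv ≫ inv (τ.app ZA) = 𝟙 ZA := by
    simp only [γ, Category.assoc, Iso.hom_inv_id_assoc]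
    rw [← Ψ.map_comp_assoc, Iso.hom_inv_id, Ψ.map_id, Category.id_comp, IsIso.hom_inv_id]
  rw [e3, Ext.mk₀_id_comp]

include τ in
/-- `Ext^n(ZA, G)` is a retract of `Ext^n(ZB, G')` for `G' ≅ Φ G`. -/
theorem exists_retract_iso [IsIso τ] {ZA : 𝒜} {ZB : ℬ} (α : Φ.obj ZA ≅ ZB) (β : Ψ.obj ZB ≅ ZA) (G : 𝒜) (G' : ℬ)
    (θ : Φ.obj G ≅ G') (n : ℕ) :
    ∃ (i : Ext.{w} ZA G n →+ Ext.{w'} ZB G' n) (r : Ext.{w'} ZB G' n →+ Ext.{w} ZA G n),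
      ∀ x, r (i x) = x := by
  obtain ⟨i, r, h⟩ := exists_retract Φ Ψ τ α β G n
  refine ⟨(AddMonoidHom.mk' (fun e => e.comp (Ext.mk₀ θ.hom) (add_zero n))
      (fun _ _ => Ext.add_comp _ _ _ _)).comp i,
    r.comp (AddMonoidHom.mk' (fun e => e.comp (Ext.mk₀ θ.inv) (add_zero n)) (fun _ _ => Ext.add_comp _ _ _ _)),
    fun x => ?_⟩
  change r (((i x).comp (Ext.mk₀ θ.hom) (add_zero n)).comp (Ext.mk₀ θ.inv) (add_zero n)) = x
  rw [Ext.comp_assoc_of_third_deg_zero, Ext.mk₀_comp_mk₀, θ.hom_inv_id, Ext.comp_mk₀_id, h]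

end Groth.Agent.Lib.Seat38.ExtRetract

namespace Groth.Agent.Lib.Seat38.ExtRetract

open CategoryTheory CategoryTheory.Limits Abelian

variable {𝒜 : Type u} [Category.{v} 𝒜] [Abelian 𝒜] [HasExt.{w} 𝒜]
  {ℬ : Type u'} [Category.{v'} ℬ] [Abelian ℬ] [HasExt.{w} ℬ]
  (Φ : 𝒜 ⥤ ℬ) [Φ.Additive] [PreservesFiniteLimits Φ] [PreservesFiniteColimits Φ]
  (Ψ : ℬ ⥤ 𝒜) [Ψ.Additive] [PreservesFiniteLimits Ψ] [PreservesFiniteColimits Ψ]
  (τ : 𝟭 𝒜 ⟶ Φ ⋙ Ψ) [EnoughInjectives 𝒜]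

include τ in
/-- the same, in the category of abelian groups -/
theorem exists_retract_grp [IsIso τ] {ZA : 𝒜} {ZB : ℬ} (α : Φ.obj ZA ≅ ZB) (β : Ψ.obj ZB ≅ ZA) (G : 𝒜) (G' : ℬ)
    (θ : Φ.obj G ≅ G') (n : ℕ) :
    ∃ (i : AddCommGrpCat.of (Ext.{w} ZA G n) ⟶ AddCommGrpCat.of (Ext.{w} ZB G' n))
      (r : AddCommGrpCat.of (Ext.{w} ZB G' n) ⟶ AddCommGrpCat.of (Ext.{w} ZA G n)), i ≫ r = 𝟙 _ := by
  obtain ⟨i, r, h⟩ := exists_retract_iso Φ Ψ τ α β G G' θ n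
  refine ⟨AddCommGrpCat.ofHom i, AddCommGrpCat.ofHom r, ?_⟩
  ext x
  exact h x

end Groth.Agent.Lib.Seat38.ExtRetract
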