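import Mathlib.CategoryTheory.Limits.Shapes.WidePullbacks

/-!
# Iterated fibre products of a morphism with a section (seat 38)

For `f : X ⟶ B` with a section `s` (`s ≫ f = 𝟙 B`) and `X_p` the `(p+1)`-fold fibre product of `X` over `B`
(a wide pullback indexed by `Fin (p+1)`):
* `dropFirst : X_{p+1} ⟶ X_p` forgets the first coordinate, `insertFirst : X_p ⟶ X_{p+1}` inserts `s` of the base point
  as first coordinate, `insertFirst ≫ dropFirst = 𝟙`, both over `B`;
* `sectionZero : B ⟶ X_0`, `sectionZero ≫ base = 𝟙`.
-/

set_option autoImplicit false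
universe v u
open CategoryTheory CategoryTheory.Limits

namespace Groth.Agent.Lib.Seat38.WideSection

variable {C : Type u} [Category.{v} C] {X B : C} (f : X ⟶ B) (s : B ⟶ X)

section Zero

variable [HasWidePullback B (fun _ : Fin (0 + 1) => X) (fun _ => f)]

/-- the section of `X_0 ⟶ B` -/
noncomputable def sectionZero (hs : s ≫ f = 𝟙 B) : B ⟶ widePullback B (fun _ : Fin (0 + 1) => X) (fun _ => f) :=
  WidePullback.lift (𝟙 B) (fun _ => s) (fun _ => hs)

lemma sectionZero_base (hs : s ≫ f = 𝟙 B) :
    sectionZero f s hs ≫ WidePullback.base (fun _ : Fin (0 + 1) => f) = 𝟙 B :=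
  WidePullback.lift_base _ _ _ _

end Zero

section Succ

variable (p : ℕ) [HasWidePullback B (fun _ : Fin (p + 1) => X) (fun _ => f)]
  [HasWidePullback B (fun _ : Fin (p + 1 + 1) => X) (fun _ => f)]

/-- forget the first coordinate -/
noncomputable def dropFirst :
    widePullback B (fun _ : Fin (p + 1 + 1) => X) (fun _ => f) ⟶
      widePullback B (fun _ : Fin (p + 1) => X) (fun _ => f) :=
  WidePullback.lift (WidePullback.base (fun _ : Fin (p + 1 + 1) => f))
    (fun j => WidePullback.π (fun _ : Fin (p + 1 + 1) => f) j.succ)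
    (fun j => WidePullback.π_arrow (fun _ : Fin (p + 1 + 1) => f) j.succ)

lemma dropFirst_base :
    dropFirst f p ≫ WidePullback.base (fun _ : Fin (p + 1) => f) =
      WidePullback.base (fun _ : Fin (p + 1 + 1) => f) :=
  WidePullback.lift_base _ _ _ _

lemma dropFirst_π (j : Fin (p + 1)) :
    dropFirst f p ≫ WidePullback.π (fun _ : Fin (p + 1) => f) j =
      WidePullback.π (fun _ : Fin (p + 1 + 1) => f) j.succ :=
  WidePullback.lift_π _ _ _ _ _

/-- insert the section as first coordinate -/
noncomputable def insertFirst (hs : s ≫ f = 𝟙 B) :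
    widePullback B (fun _ : Fin (p + 1) => X) (fun _ => f) ⟶
      widePullback B (fun _ : Fin (p + 1 + 1) => X) (fun _ => f) :=
  WidePullback.lift (WidePullback.base (fun _ : Fin (p + 1) => f))
    (fun j => Fin.cases (motive := fun _ => widePullback B (fun _ : Fin (p + 1) => X) (fun _ => f) ⟶ X)
      (WidePullback.base (fun _ : Fin (p + 1) => f) ≫ s)
      (fun j => WidePullback.π (fun _ : Fin (p + 1) => f) j) j)
    (fun j => by
      refine Fin.cases ?_ (fun j => ?_) j
      · rw [Fin.cases_zero, Category.assoc, hs, Category.comp_id]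
      · rw [Fin.cases_succ]
        exact WidePullback.π_arrow (fun _ : Fin (p + 1) => f) j)

lemma insertFirst_base (hs : s ≫ f = 𝟙 B) :
    insertFirst f s p hs ≫ WidePullback.base (fun _ : Fin (p + 1 + 1) => f) =
      WidePullback.base (fun _ : Fin (p + 1) => f) :=
  WidePullback.lift_base _ _ _ _

lemma insertFirst_dropFirst (hs : s ≫ f = 𝟙 B) : insertFirst f s p hs ≫ dropFirst f p = 𝟙 _ := by
  apply WidePullback.hom_ext
  · intro j
    rw [Category.assoc, dropFirst_π, Category.id_comp]
    unfold insertFirst
    rw [WidePullback.lift_π, Fin.cases_succ]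
  · rw [Category.assoc, dropFirst_base, insertFirst_base, Category.id_comp]

end Succ

end Groth.Agent.Lib.Seat38.WideSection
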