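import Groth.Prelude.Def_EtCore
import Groth.Agent.Lib.Seat38PullExact
import Groth.Agent.Lib.Seat38ExtRetract
import Groth.Agent.Lib.Seat38WideSection
import Groth.Agent.Lib.Seat38DescentSS

/-!
# Etale cohomology and morphisms with a section (seat 38)

* `bcId`, `pushId`: base change / direct image along the identity of a scheme;
* `tauIso`: for `v ≫ f = 𝟙`, `𝟭 ≅ f^{-1} ⋙ v^{-1}` on abelian etale sheaves;
* `exists_retract_H`: for `f : Z' ⟶ Z` with a section `v`, a sheaf `G` on `Z` and `G' ≅ f^{-1} G`, the group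
  `H^n(Z, G)` is a retract of `H^n(Z', G')`;
* `exists_descent_specSeq`: the (existence form of the) descent spectral sequence of a morphism with a section.
-/

set_option autoImplicit false
universe u
open CategoryTheory CategoryTheory.Limits AlgebraicGeometry Opposite

namespace Groth.Agent.Lib.Seat38.DescentEt

instance isIso_fst_id (Z : Scheme.{u}) (V : Z.Etale) : IsIso (pullback.fst V.hom (𝟙 Z)) :=
  pullback_fst_iso_of_right_iso V.hom (𝟙 Z)

/-- base change along the identity -/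
noncomputable def bcId (Z : Scheme.{u}) : EtCoh.bc (𝟙 Z) ≅ 𝟭 Z.Etale :=
  NatIso.ofComponents (fun V => MorphismProperty.Over.isoMk (@asIso _ _ _ _ _ (isIso_fst_id Z V))
    (by
      change pullback.fst V.hom (𝟙 Z) ≫ V.hom = pullback.snd V.hom (𝟙 Z)
      rw [pullback.condition, Category.comp_id]))
    (by
      intro V W g
      apply MorphismProperty.Over.Hom.ext
      change ((EtCoh.bc (𝟙 Z)).map g).left ≫ pullback.fst W.hom (𝟙 Z) = pullback.fst V.hom (𝟙 Z) ≫ g.left
      dsimp [EtCoh.bc]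
      exact pullback.lift_fst _ _ _)

/-- direct image along the identity -/
noncomputable def pushId (Z : Scheme.{u}) : EtCoh.push (𝟙 Z) ≅ 𝟭 (EtCoh.Ab Z) :=
  Functor.sheafPushforwardContinuousId' (bcId Z) AddCommGrpCat.{u + 1} Z.smallEtaleTopology

section Retract

variable {Z Z' : Scheme.{u}} (f : Z' ⟶ Z) (v : Z ⟶ Z') (h : v ≫ f = 𝟙 Z)

/-- `f_* v_* ≅ 𝟭` -/
noncomputable def pushRetr : EtCoh.push v ⋙ EtCoh.push f ≅ 𝟭 (EtCoh.Ab Z) :=
  EtCoh.pushComp f v ≪≫ EtCoh.pushCongr h ≪≫ pushId Z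

/-- `𝟭 ≅ v^{-1} f^{-1}` -/
noncomputable def tauIso : 𝟭 (EtCoh.Ab Z) ≅ EtCoh.pull f ⋙ EtCoh.pull v :=
  Adjunction.leftAdjointUniq Adjunction.id
    (((EtCoh.pullPushAdj f).comp (EtCoh.pullPushAdj v)).ofNatIsoRight (pushRetr f v h))

include v h in
/-- cohomology of `Z` is a retract of cohomology of `Z'` -/
theorem exists_retract_H (G : EtCoh.Ab Z) (G' : EtCoh.Ab Z') (θ : (EtCoh.pull f).obj G ≅ G') (n : ℕ) :
    ∃ (i : AddCommGrpCat.of (EtCoh.H Z G n) ⟶ AddCommGrpCat.of (EtCoh.H Z' G' n))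
      (r : AddCommGrpCat.of (EtCoh.H Z' G' n) ⟶ AddCommGrpCat.of (EtCoh.H Z G n)), i ≫ r = 𝟙 _ :=
  ExtRetract.exists_retract_grp (EtCoh.pull f) (EtCoh.pull v) (tauIso f v h).hom (EtCore.pullConst f ℤ)
    (EtCore.pullConst v ℤ) G G' θ n

end Retract

open WideSection

/-- The descent spectral sequence (existence form) for a morphism of schemes with a section. -/
theorem exists_descent_specSeq {X Y : Scheme.{u}} (f : X ⟶ Y) (s : Y ⟶ X) (hs : s ≫ f = 𝟙 Y) (F : EtCoh.Ab Y) :
    ∃ (E : CohomologicalSpectralSequence AddCommGrpCat.{u + 1} 1)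
      (a : SpSeq.Abutment E (fun n : ℤ =>
        if 0 ≤ n then AddCommGrpCat.of (EtCoh.H Y F n.toNat) else AddCommGrpCat.of PUnit.{u + 2})),
      (∀ n, a.IsFinite n) ∧ SpSeq.IsBounded E ∧
      ∀ p q : ℤ, Nonempty ((E.page 1 le_rfl).X (p, q) ≅
        (if 0 ≤ p ∧ 0 ≤ q then
          AddCommGrpCat.of (EtCoh.H (widePullback Y (fun _ : Fin (p.toNat + 1) => X) (fun _ => f))
            ((EtCoh.pull (WidePullback.base (fun _ : Fin (p.toNat + 1) => f) :
              widePullback Y (fun _ : Fin (p.toNat + 1) => X) (fun _ => f) ⟶ Y)).obj F) q.toNat)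
         else AddCommGrpCat.of PUnit.{u + 2})) := by
  refine DescentSS.exists_specSeq (AddCommGrpCat.of PUnit.{u + 2}) (AddCommGrpCat.isZero_of_subsingleton _)
    (fun n => AddCommGrpCat.of (EtCoh.H Y F n))
    (fun p q => AddCommGrpCat.of (EtCoh.H (widePullback Y (fun _ : Fin (p + 1) => X) (fun _ => f))
      ((EtCoh.pull (WidePullback.base (fun _ : Fin (p + 1) => f) :
        widePullback Y (fun _ : Fin (p + 1) => X) (fun _ => f) ⟶ Y)).obj F) q)) ?_ ?_
  · intro q
    exact exists_retract_H (WidePullback.base (fun _ : Fin (0 + 1) => f)) (sectionZero f s hs)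
      (sectionZero_base f s hs) F _ (Iso.refl _) q
  · intro p q
    refine exists_retract_H (dropFirst f p) (insertFirst f s p hs) (insertFirst_dropFirst f s p hs) _ _ ?_ q
    exact ((EtCore.pullComp (dropFirst f p) (WidePullback.base (fun _ : Fin (p + 1) => f))).symm ≪≫
      EtCore.pullCongr (dropFirst_base f p)).app F

end Groth.Agent.Lib.Seat38.DescentEt
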