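import Groth.Prelude.Def_CohTop
import Groth.Agent.Lib.Seat38ExtRetract
import Groth.Agent.Lib.Seat38WideSection
import Groth.Agent.Lib.Seat38DescentSS

/-!
# Sheaf cohomology of topological spaces and continuous maps with a section (seat 38)

* instances: `CohTop.pull f` is additive and exact;
* `pullConstIso`: inverse image of a constant sheaf is constant (after `FixPt.zpullConstIso`, for any continuous map);
* `tauIso`: for `v ≫ f = 𝟙`, `𝟭 ≅ f^{-1} ⋙ v^{-1}`;
* `exists_retract_H`, `exists_descent_specSeq`: as in `Seat38DescentEt`.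
-/

set_option autoImplicit false
universe u
open CategoryTheory CategoryTheory.Limits TopologicalSpace Opposite

namespace Groth.Agent.Lib.Seat38.DescentTop

section Basics

variable {X Y : TopCat.{u}} (f : X ⟶ Y)

/-- the adjunction `f^{-1} ⊣ f_*` -/
noncomputable abbrev adj : CohTop.pull f ⊣ CohTop.push f :=
  TopCat.Sheaf.pullbackPushforwardAdjunction AddCommGrpCat.{u} f

instance pull_additive : (CohTop.pull f).Additive := (adj f).left_adjoint_additive

instance pull_preservesFiniteColimits : PreservesFiniteColimits (CohTop.pull f) :=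
  have : PreservesColimitsOfSize.{0, 0} (CohTop.pull f) := (adj f).leftAdjoint_preservesColimits
  PreservesColimitsOfSize.preservesFiniteColimits _

instance pull_preservesFiniteLimits : PreservesFiniteLimits (CohTop.pull f) := by
  unfold CohTop.pull TopCat.Sheaf.pullback
  apply Functor.sheafPullbackConstruction.preservesFiniteLimits

/-- global sections -/
noncomputable abbrev gsec (X : TopCat.{u}) : CohTop.Ab X ⥤ AddCommGrpCat.{u} :=
  (sheafSections (Opens.grothendieckTopology X) AddCommGrpCat.{u}).obj (op ⊤)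

/-- constant sheaf ⊣ global sections -/
noncomputable abbrev constAdj (X : TopCat.{u}) :
    constantSheaf (Opens.grothendieckTopology X) AddCommGrpCat.{u} ⊣ gsec X :=
  constantSheafAdj (Opens.grothendieckTopology X) AddCommGrpCat.{u} isTerminalTop

/-- `f_*` followed by global sections is global sections -/
noncomputable def pushGsecIso : CohTop.push f ⋙ gsec Y ≅ gsec X :=
  NatIso.ofComponents (fun F => (F.obj.mapIso (eqToIso (Opens.map_top f)).op).symm)
    (fun {F G} φ => by
      simp only [Functor.comp_map, Iso.symm_hom, Functor.mapIso_inv, Iso.op_inv]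
      exact (φ.hom.naturality _).symm)

/-- inverse image of a constant sheaf is constant -/
noncomputable def pullConstIso :
    constantSheaf (Opens.grothendieckTopology Y) AddCommGrpCat.{u} ⋙ CohTop.pull f ≅
      constantSheaf (Opens.grothendieckTopology X) AddCommGrpCat.{u} :=
  Adjunction.leftAdjointUniq (((constAdj Y).comp (adj f)).ofNatIsoRight (pushGsecIso f)) (constAdj X)

end Basics

section Retract

variable {Z Z' : TopCat.{u}} (f : Z' ⟶ Z) (v : Z ⟶ Z') (h : v ≫ f = 𝟙 Z)

/-- `f_* v_* ≅ 𝟭` -/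
noncomputable def pushRetr : CohTop.push v ⋙ CohTop.push f ≅ 𝟭 (CohTop.Ab Z) :=
  (Iso.refl _ : CohTop.push v ⋙ CohTop.push f ≅ CohTop.push (v ≫ f)) ≪≫
    eqToIso (show CohTop.push (v ≫ f) = CohTop.push (𝟙 Z) by rw [h]) ≪≫
    (Iso.refl _ : CohTop.push (𝟙 Z) ≅ 𝟭 (CohTop.Ab Z))

/-- `𝟭 ≅ v^{-1} f^{-1}` -/
noncomputable def tauIso : 𝟭 (CohTop.Ab Z) ≅ CohTop.pull f ⋙ CohTop.pull v :=
  Adjunction.leftAdjointUniq Adjunction.id
    (((adj f).comp (adj v)).ofNatIsoRight (pushRetr f v h))

include v h in
/-- cohomology of `Z` is a retract of cohomology of `Z'` -/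
theorem exists_retract_H (G : CohTop.Ab Z) (G' : CohTop.Ab Z') (θ : (CohTop.pull f).obj G ≅ G') (n : ℕ) :
    ∃ (i : AddCommGrpCat.of (CohTop.H G n) ⟶ AddCommGrpCat.of (CohTop.H G' n))
      (r : AddCommGrpCat.of (CohTop.H G' n) ⟶ AddCommGrpCat.of (CohTop.H G n)), i ≫ r = 𝟙 _ :=
  ExtRetract.exists_retract_grp (CohTop.pull f) (CohTop.pull v) (tauIso f v h).hom
    ((pullConstIso f).app (AddCommGrpCat.of (ULift ℤ))) ((pullConstIso v).app (AddCommGrpCat.of (ULift ℤ))) G G' θ n

end Retract

section Comp

variable {X Y Z : TopCat.{u}} (f : X ⟶ Y) (g : Y ⟶ Z)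

/-- inverse images compose -/
noncomputable def pullComp : CohTop.pull (f ≫ g) ≅ CohTop.pull g ⋙ CohTop.pull f :=
  Adjunction.leftAdjointUniq (adj (f ≫ g))
    (((adj g).comp (adj f)).ofNatIsoRight (Iso.refl _ : CohTop.push f ⋙ CohTop.push g ≅ CohTop.push (f ≫ g)))

end Comp

open WideSection

/-- The descent spectral sequence (existence form) for a continuous map with a section. -/
theorem exists_descent_specSeq {X S : TopCat.{u}} (f : X ⟶ S) (s : S ⟶ X) (hs : s ≫ f = 𝟙 S) (F : CohTop.Ab S) :
    ∃ (E : CohomologicalSpectralSequence AddCommGrpCat.{u} 1)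
      (a : SpSeq.Abutment E (fun n : ℤ =>
        if 0 ≤ n then AddCommGrpCat.of (CohTop.H F n.toNat) else AddCommGrpCat.of PUnit.{u + 1})),
      (∀ n, a.IsFinite n) ∧ SpSeq.IsBounded E ∧
      ∀ p q : ℤ, Nonempty ((E.page 1 le_rfl).X (p, q) ≅
        (if 0 ≤ p ∧ 0 ≤ q then
          AddCommGrpCat.of (CohTop.H ((CohTop.pull
            (WidePullback.base (fun _ : Fin (p.toNat + 1) => f) :
              widePullback S (fun _ : Fin (p.toNat + 1) => X) (fun _ => f) ⟶ S)).obj F) q.toNat)
         else AddCommGrpCat.of PUnit.{u + 1})) := by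
  refine DescentSS.exists_specSeq (AddCommGrpCat.of PUnit.{u + 1}) (AddCommGrpCat.isZero_of_subsingleton _)
    (fun n => AddCommGrpCat.of (CohTop.H F n))
    (fun p q => AddCommGrpCat.of (CohTop.H ((CohTop.pull
      (WidePullback.base (fun _ : Fin (p + 1) => f) :
        widePullback S (fun _ : Fin (p + 1) => X) (fun _ => f) ⟶ S)).obj F) q)) ?_ ?_
  · intro q
    exact exists_retract_H (WidePullback.base (fun _ : Fin (0 + 1) => f)) (sectionZero f s hs)
      (sectionZero_base f s hs) F _ (Iso.refl _) q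
  · intro p q
    refine exists_retract_H (dropFirst f p) (insertFirst f s p hs) (insertFirst_dropFirst f s p hs) _ _ ?_ q
    exact ((pullComp (dropFirst f p) (WidePullback.base (fun _ : Fin (p + 1) => f))).symm ≪≫
      eqToIso (by rw [dropFirst_base f p])).app F

end Groth.Agent.Lib.Seat38.DescentTop
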