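import Mathlib.Algebra.Homology.HomologicalComplexAbelian
import Mathlib.Algebra.Homology.ShortComplex.ExactFunctor
import Mathlib.Algebra.Homology.Refinements

/-!
# A contractible complex from a tower of retractions (seat 38)

Let `G : ℕ → C` be objects of a preadditive category with maps `i n : G n ⟶ G (n+1)`, `r n : G (n+1) ⟶ G n`,
`i n ≫ r n = 𝟙`.  Define idempotents `Q 0 = 𝟙`, `Q (n+1) = 𝟙 - r n ≫ Q n ≫ i n` and `dd n = Q n ≫ i n`.
Then `dd n ≫ dd (n+1) = 0` and `hh n = r n ≫ Q n` is a contracting homotopy: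
`hh n ≫ dd n + dd (n+1) ≫ hh (n+1) = 𝟙`.  Consequently (in an abelian category) the complex
`row : G 1 ⟶ G 2 ⟶ G 3 ⟶ ⋯` is exact in positive degrees and its `H⁰` is isomorphic to `G 0`.

(The differentials are not the "natural" ones of any cosimplicial structure; they only use that each term is a
direct summand of the next.)
-/

set_option autoImplicit false
set_option linter.unusedSectionVars false
universe v u
open CategoryTheory CategoryTheory.Limits

namespace Groth.Agent.Lib.Seat38.FakeRes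

section Preadditive

variable {C : Type u} [Category.{v} C] [Preadditive C]
  (G : ℕ → C) (i : ∀ n, G n ⟶ G (n + 1)) (r : ∀ n, G (n + 1) ⟶ G n)

/-- the idempotents -/
def Q : ∀ n, G n ⟶ G n
  | 0 => 𝟙 _
  | (n + 1) => 𝟙 _ - r n ≫ Q n ≫ i n

lemma Q_zero : Q G i r 0 = 𝟙 _ := rfl
lemma Q_succ (n : ℕ) : Q G i r (n + 1) = 𝟙 _ - r n ≫ Q G i r n ≫ i n := rfl

/-- the differential -/
def dd (n : ℕ) : G n ⟶ G (n + 1) := Q G i r n ≫ i n

/-- the contracting homotopy -/
def hh (n : ℕ) : G (n + 1) ⟶ G n := r n ≫ Q G i r n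

variable (hir : ∀ n, i n ≫ r n = 𝟙 (G n))

include hir in
lemma Q_idem : ∀ n, Q G i r n ≫ Q G i r n = Q G i r n
  | 0 => by simp [Q_zero]
  | (n + 1) => by
    have ih := Q_idem n
    have h1 : (r n ≫ Q G i r n ≫ i n) ≫ (r n ≫ Q G i r n ≫ i n) = r n ≫ Q G i r n ≫ i n := by
      simp only [Category.assoc]
      rw [reassoc_of% (hir n), reassoc_of% ih]
    rw [Q_succ, Preadditive.sub_comp, Preadditive.comp_sub, Preadditive.comp_sub, Category.id_comp, Category.comp_id,
      Category.id_comp, h1]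
    abel

include hir in
lemma i_comp_Q_succ (n : ℕ) : i n ≫ Q G i r (n + 1) = i n - Q G i r n ≫ i n := by
  rw [Q_succ, Preadditive.comp_sub, Category.comp_id, reassoc_of% (hir n)]

include hir in
lemma dd_comp_dd (n : ℕ) : dd G i r n ≫ dd G i r (n + 1) = 0 := by
  have ih := Q_idem G i r hir n
  unfold dd
  rw [Category.assoc, ← Category.assoc (i n), i_comp_Q_succ G i r hir n, Preadditive.sub_comp,
    Preadditive.comp_sub, Category.assoc, reassoc_of% ih, sub_self]

include hir in
lemma homotopy_zero : dd G i r 0 ≫ hh G i r 0 = 𝟙 (G 0) := by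
  unfold dd hh
  rw [Q_zero, Category.id_comp, Category.comp_id, hir 0]

include hir in
lemma homotopy_succ (n : ℕ) :
    hh G i r n ≫ dd G i r n + dd G i r (n + 1) ≫ hh G i r (n + 1) = 𝟙 (G (n + 1)) := by
  have ih := Q_idem G i r hir n
  have ih' := Q_idem G i r hir (n + 1)
  unfold dd hh
  rw [Category.assoc, reassoc_of% ih, Category.assoc, ← Category.assoc (i (n + 1)), hir (n + 1), Category.id_comp,
    ih', Q_succ]
  abel

end Preadditive

section Abelian

variable {C : Type u} [Category.{v} C] [Abelian C]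

/-- A short complex with a contraction at the middle term is exact. -/
lemma exact_of_contraction (S : ShortComplex C) (s : S.X₂ ⟶ S.X₁) (t : S.X₃ ⟶ S.X₂)
    (h : s ≫ S.f + S.g ≫ t = 𝟙 S.X₂) : S.Exact := by
  rw [ShortComplex.exact_iff_exact_up_to_refinements]
  intro A x₂ hx₂
  refine ⟨A, 𝟙 A, inferInstance, x₂ ≫ s, ?_⟩
  rw [Category.id_comp, Category.assoc]
  have := congrArg (fun φ => x₂ ≫ φ) h
  simp only [Preadditive.comp_add, Category.comp_id] at this
  rw [reassoc_of% hx₂, zero_comp, add_zero] at this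
  exact this.symm

variable (G : ℕ → C) (i : ∀ n, G n ⟶ G (n + 1)) (r : ∀ n, G (n + 1) ⟶ G n)
  (hir : ∀ n, i n ≫ r n = 𝟙 (G n))

/-- The row complex `G 1 ⟶ G 2 ⟶ ⋯`. -/
noncomputable def row : CochainComplex C ℕ :=
  CochainComplex.of (fun p => G (p + 1)) (fun p => dd G i r (p + 1)) (fun p => dd_comp_dd G i r hir (p + 1))

lemma row_X (p : ℕ) : (row G i r hir).X p = G (p + 1) := rfl

lemma row_d (p : ℕ) : (row G i r hir).d p (p + 1) = dd G i r (p + 1) :=
  CochainComplex.of_d (fun p => G (p + 1)) (fun p => dd G i r (p + 1)) p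

lemma row_exactAt_succ (p : ℕ) : (row G i r hir).ExactAt (p + 1) := by
  rw [HomologicalComplex.exactAt_iff' _ p (p + 1) (p + 2) (by simp) (by simp)]
  refine exact_of_contraction _ (hh G i r (p + 1)) (hh G i r (p + 2)) ?_
  change (hh G i r (p + 1) ≫ (row G i r hir).d p (p + 1) : G (p + 2) ⟶ G (p + 2)) +
    ((row G i r hir).d (p + 1) (p + 2) ≫ hh G i r (p + 2) : G (p + 2) ⟶ G (p + 2)) = 𝟙 (G (p + 2))
  rw [row_d, row_d]
  exact homotopy_succ G i r hir (p + 1)

/-- `G 0 ⟶ G 1 ⟶ G 2` is exact with the first map a (split) monomorphism. -/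
lemma exact_aug : (ShortComplex.mk (dd G i r 0) (dd G i r 1) (dd_comp_dd G i r hir 0)).Exact :=
  exact_of_contraction _ (hh G i r 0) (hh G i r 1) (homotopy_succ G i r hir 0)

include hir in
lemma mono_dd_zero : Mono (dd G i r 0) :=
  (SplitMono.mk (hh G i r 0) (homotopy_zero G i r hir)).mono

/-- `H⁰` of the row complex is `G 0`. -/
lemma nonempty_row_homology_zero_iso : Nonempty ((row G i r hir).homology 0 ≅ G 0) := by
  have := mono_dd_zero G i r hir
  -- `G 0` is a kernel of `dd 1`
  have hker : IsLimit (KernelFork.ofι (dd G i r 0) (dd_comp_dd G i r hir 0)) :=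
    (exact_aug G i r hir).fIsKernel
  -- so are the cycles of the row complex in degree `0`
  have hcyc := (row G i r hir).cyclesIsKernel 0 1 (by simp)
  have hd : (row G i r hir).d 0 1 = dd G i r 1 := row_d G i r hir 0
  have hcyc' : ∀ (g : G 1 ⟶ G 2) (hg : (row G i r hir).d 0 1 = g),
      IsLimit (KernelFork.ofι (f := g) ((row G i r hir).iCycles 0)
        (by rw [← hg]; exact (row G i r hir).iCycles_d 0 1)) := by
    intro g hg
    subst hg
    exact hcyc
  exact ⟨(row G i r hir).isoHomologyπ₀.symm ≪≫ IsLimit.conePointUniqueUpToIso (hcyc' _ hd) hker⟩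

end Abelian

end Groth.Agent.Lib.Seat38.FakeRes
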