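import Mathlib
import Groth.Agent.Lib.Seat38ChHomDer
import Groth.Agent.Lib.Seat38PrependPage
import Groth.Agent.Lib.Seat38PageRows
import Groth.Agent.Lib.Helper21GSS
import Groth.Agent.Lib.Helper21DerPost

/-!
# The spectral sequence of a functor to cochain complexes (seat 38)

Let `𝒜` be an abelian category with injective resolutions and `T : 𝒜 ⥤ CochainComplex Ab ℕ` an additive functor
such that `T(Q)` is exact in positive degrees for `Q` injective.  Then for every `F` there is a bounded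
spectral sequence starting at page one, `E₁^{p,q} ≅ R^q(T(-)ᵖ)(F) ⇒ R^{p+q}(H⁰ T)(F)` (`exists_specSeq_gen`).
This is the general form of `Seat38ResolSS.exists_specSeq` (no representability assumption).
-/

set_option autoImplicit false
universe u
open CategoryTheory CategoryTheory.Limits HomologicalComplex Opposite Abelian

namespace Groth.Agent.Lib.Seat38.ResolSS2

open Groth.Agent.Lib.Seat38 Groth.Agent.Lib.Helper21.DerPost

variable {𝒜 : Type (u + 1)} [Category.{u} 𝒜] [Abelian 𝒜] [HasInjectiveResolutions 𝒜]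
  (T : 𝒜 ⥤ CochainComplex AddCommGrpCat.{u} ℕ) [T.Additive]

theorem exists_specSeq_gen
    (hT : ∀ Q : 𝒜, Injective Q → ∀ q : ℕ, IsZero ((T.obj Q).homology (q + 1)))
    (F : 𝒜)
    (Hab : ℕ → AddCommGrpCat.{u})
    (hHab : ∀ n : ℕ, Nonempty
      (((T ⋙ homologyFunctor AddCommGrpCat.{u} (ComplexShape.up ℕ) 0).rightDerived n).obj F ≅ Hab n))
    (E1 : ℕ → ℕ → AddCommGrpCat.{u})
    (hE1 : ∀ p q : ℕ, Nonempty
      (((T ⋙ eval AddCommGrpCat.{u} (ComplexShape.up ℕ) p).rightDerived q).obj F ≅ E1 p q)) :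
    ∃ (E : CohomologicalSpectralSequence AddCommGrpCat.{u} 1)
      (a : SpSeq.Abutment E (fun n : ℤ =>
        if 0 ≤ n then Hab n.toNat else AddCommGrpCat.of PUnit.{u + 1})),
      (∀ n, a.IsFinite n) ∧ SpSeq.IsBounded E ∧
      ∀ p q : ℤ, Nonempty ((E.page 1 le_rfl).X (p, q) ≅
        (if 0 ≤ p ∧ 0 ≤ q then E1 p.toNat q.toNat
         else AddCommGrpCat.of PUnit.{u + 1})) := by
  have hz : IsZero (AddCommGrpCat.of PUnit.{u + 1}) := AddCommGrpCat.isZero_of_subsingleton _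
  let G := homologyFunctor AddCommGrpCat.{u} (ComplexShape.up ℕ) 0
  have hGder : ∀ n, Nonempty (homologyFunctor AddCommGrpCat.{u} (ComplexShape.up ℕ) n ≅ G.rightDerived n) :=
    ChHomDer.homologyFunctor_iso_rightDerived
  let R : ℕ → CochainComplex AddCommGrpCat.{u} ℕ := fun q => (T.rightDerived q).obj F
  let H' : ℤ → AddCommGrpCat.{u} := fun n : ℤ =>
    if 0 ≤ n then Hab n.toNat else AddCommGrpCat.of PUnit.{u + 1}
  let W := PageRows.rowZ R
  let E2 : ℤ → ℤ → AddCommGrpCat.{u} := fun p q => (W q).homology p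
  have hT' : ∀ Q : 𝒜, Injective Q → ∀ q : ℕ, 0 < q → IsZero ((G.rightDerived q).obj (T.obj Q)) := by
    intro Q hQ q hq
    obtain ⟨k, rfl⟩ : ∃ k, q = k + 1 := ⟨q - 1, by omega⟩
    exact IsZero.of_iso (hT Q hQ k) ((hGder (k + 1)).some.app (T.obj Q)).symm
  have hH : ∀ n : ℕ, Nonempty (((T ⋙ G).rightDerived n).obj F ≅ H' n) := by
    intro n
    obtain ⟨e1⟩ := hHab n
    refine ⟨e1 ≪≫ eqToIso ?_⟩
    change _ = if 0 ≤ (n : ℤ) then Hab (n : ℤ).toNat else _
    rw [if_pos (Int.natCast_nonneg n), Int.toNat_natCast]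
  have hH' : ∀ n : ℤ, n < 0 → IsZero (H' n) := by
    intro n hn
    change IsZero (if 0 ≤ n then _ else _)
    rw [if_neg (by omega)]
    exact hz
  have hE2 : ∀ p q : ℕ, Nonempty ((G.rightDerived p).obj ((T.rightDerived q).obj F) ≅ E2 p q) := by
    intro p q
    exact ⟨((hGder p).some.app (R q)).symm ≪≫
      ((R q).extendHomologyIso ComplexShape.embeddingUpNat (j := p) (j' := (p : ℤ)) rfl).symm⟩
  have hE2' : ∀ p q : ℤ, ¬ (0 ≤ p ∧ 0 ≤ q) → IsZero (E2 p q) := by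
    intro p q h
    exact ShortComplex.isZero_homology_of_isZero_X₂ _ (PageRows.isZero_rowZ_X R p q h)
  obtain ⟨E, a, hfin, hbd, hE⟩ := Groth.Agent.Lib.Helper21.GSS.gss_general T G hT' F H' hH hH' E2 hE2 hE2'
  let P := PageRows.pageOne W
  let e : ∀ pq : ℤ × ℤ, P.homology pq ≅ (E.page 2 le_rfl).X pq := fun pq =>
    PageRows.pageOneHomologyIso W pq.1 pq.2 ≪≫ (hE pq.1 pq.2).some.symm
  have hP : ∀ n : ℤ, Set.Finite {p : ℤ | ¬ IsZero (P.X (p, n - p))} := by
    intro n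
    refine (Set.finite_Icc (0 : ℤ) n).subset ?_
    intro p hp
    rw [Set.mem_ofPred_eq] at hp
    by_contra hcon
    apply hp
    apply PageRows.isZero_rowZ_X R p (n - p)
    rintro ⟨h1, h2⟩
    exact hcon ⟨h1, by omega⟩
  obtain ⟨E', a', hfin', hbd', hpage⟩ := PrependPage.exists_prepend E P e a hfin hP
  refine ⟨E', a', hfin', hbd', fun p q => ?_⟩
  rw [hpage]
  change Nonempty ((W q).X p ≅ _)
  by_cases hpq : 0 ≤ p ∧ 0 ≤ q
  · rw [if_pos hpq]
    obtain ⟨p', rfl⟩ : ∃ k : ℕ, p = (k : ℤ) := ⟨p.toNat, by omega⟩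
    obtain ⟨q', rfl⟩ : ∃ k : ℕ, q = (k : ℤ) := ⟨q.toNat, by omega⟩
    rw [Int.toNat_natCast, Int.toNat_natCast]
    obtain ⟨e1⟩ := hE1 p' q'
    exact ⟨PageRows.rowZXIso R p' q' ≪≫
      ((postIso T (eval AddCommGrpCat.{u} (ComplexShape.up ℕ) p') q').app F).symm ≪≫ e1⟩
  · rw [if_neg hpq]
    exact ⟨(PageRows.isZero_rowZ_X R p q hpq).iso hz⟩

end Groth.Agent.Lib.Seat38.ResolSS2
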