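import Mathlib
import Groth.Agent.Lib.Seat38ChHomDer
import Groth.Agent.Lib.Seat38ResolSS2
import Groth.Agent.Lib.Helper21DerAcyc
import Groth.Agent.Lib.Helper21DerPost

/-!
# The first hypercohomology spectral sequence of a resolution (seat 38)

Let `𝒜` be an abelian category with enough injectives (also in `CochainComplex 𝒜 ℕ`), `G : 𝒜 ⥤ Ab` an additive left
exact functor and `K` an `ℕ`-indexed cochain complex in `𝒜` which is exact in positive degrees (a resolution of
`H⁰(K)`).  Then there is a bounded spectral sequence starting at page one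
`E₁^{p,q} ≅ R^q G (K^p) ⇒ R^{p+q} G (H⁰ K)` (`exists_specSeq`).

It is obtained from the Grothendieck spectral sequence of the composite
`CochainComplex 𝒜 ℕ ⥤ CochainComplex Ab ℕ ⥤ Ab` (`G` termwise, then `H⁰`) via `Seat38ResolSS2`.  Ingredients:
injective cochain complexes have injective terms (`injective_X`), injective degree-zero cycles (`injective_cycles_zero`),
are split in positive degrees (`exists_section`) and are sent by `G` to complexes exact in positive degrees
(`exactAt_map_of_injective`).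
-/

set_option autoImplicit false
universe v u w
open CategoryTheory CategoryTheory.Limits HomologicalComplex Opposite

namespace Groth.Agent.Lib.Seat38.HyperSS

section Injectives

variable {𝒜 : Type u} [Category.{v} 𝒜] [Abelian 𝒜]

/-- the terms of an injective cochain complex are injective -/
theorem injective_X (Q : CochainComplex 𝒜 ℕ) [Injective Q] (p : ℕ) : Injective (Q.X p) := by
  constructor
  intro A B g f hf
  have hrel : (ComplexShape.up ℕ).Rel p (p + 1) := rfl
  have hne : p ≠ p + 1 := by omega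
  let φ : double (𝟙 A) hrel ⟶ double (𝟙 B) hrel :=
    mkHomFromDouble hrel hne (f ≫ (doubleXIso₀ (𝟙 B) hrel).inv) (f ≫ (doubleXIso₁ (𝟙 B) hrel hne).inv)
      (by rw [Category.assoc, double_d (𝟙 B) hrel hne]; simp)
      (fun k hk => by rw [double_d_eq_zero₀ (𝟙 B) hrel (p + 1) k (by omega), comp_zero])
  have hφ : Mono φ := by
    have : ∀ k, Mono (φ.f k) := by
      intro k
      by_cases hk : k = p
      · subst hk
        have : φ.f k = (doubleXIso₀ (𝟙 A) hrel).hom ≫ f ≫ (doubleXIso₀ (𝟙 B) hrel).inv :=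
          mkHomFromDouble_f₀ _ _ _ _ _ _
        rw [this]
        infer_instance
      · by_cases hk' : k = p + 1
        · subst hk'
          have : φ.f (p + 1) = (doubleXIso₁ (𝟙 A) hrel hne).hom ≫ f ≫ (doubleXIso₁ (𝟙 B) hrel hne).inv :=
            mkHomFromDouble_f₁ _ _ _ _ _ _
          rw [this]
          infer_instance
        · exact (isZero_double_X (𝟙 A) hrel k hk hk').mono _
    exact mono_of_mono_f φ this
  let γ : double (𝟙 A) hrel ⟶ Q :=
    mkHomFromDouble hrel hne g (g ≫ Q.d p (p + 1)) (by simp) (by simp)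
  let ψ : double (𝟙 B) hrel ⟶ Q := Injective.factorThru γ φ
  have hψ : φ ≫ ψ = γ := Injective.comp_factorThru γ φ
  refine ⟨(doubleXIso₀ (𝟙 B) hrel).inv ≫ ψ.f p, ?_⟩
  have e := congrArg (fun m => m.f p) hψ
  simp only [comp_f] at e
  have e1 : φ.f p = (doubleXIso₀ (𝟙 A) hrel).hom ≫ f ≫ (doubleXIso₀ (𝟙 B) hrel).inv :=
    mkHomFromDouble_f₀ _ _ _ _ _ _
  have e2 : γ.f p = (doubleXIso₀ (𝟙 A) hrel).hom ≫ g := mkHomFromDouble_f₀ _ _ _ _ _ _
  rw [e1, e2, Category.assoc, Category.assoc] at e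
  exact (cancel_epi _).1 e

/-- the degree-zero cycles of an injective cochain complex form an injective object -/
theorem injective_cycles_zero (Q : CochainComplex 𝒜 ℕ) [Injective Q] : Injective (Q.cycles 0) := by
  constructor
  intro A B g f hf
  let γ : (single 𝒜 (ComplexShape.up ℕ) 0).obj A ⟶ Q :=
    mkHomFromSingle (g ≫ Q.iCycles 0) (fun k hk => by
      rw [Category.assoc, Q.iCycles_d 0 k, comp_zero])
  let φ : (single 𝒜 (ComplexShape.up ℕ) 0).obj A ⟶ (single 𝒜 (ComplexShape.up ℕ) 0).obj B :=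
    (single 𝒜 (ComplexShape.up ℕ) 0).map f
  have hφ : Mono φ := inferInstance
  let ψ := Injective.factorThru γ φ
  have hψ : φ ≫ ψ = γ := Injective.comp_factorThru γ φ
  let b : B ⟶ Q.X 0 := (singleObjXSelf (ComplexShape.up ℕ) 0 B).inv ≫ ψ.f 0
  have hb : b ≫ Q.d 0 1 = 0 := by
    simp only [b, Category.assoc]
    rw [ψ.comm 0 1, single_obj_d, zero_comp, comp_zero]
  refine ⟨Q.liftCycles b 1 (by simp) hb, ?_⟩
  rw [← cancel_mono (Q.iCycles 0), Category.assoc, liftCycles_i]
  have e := congrArg (fun m => m.f 0) hψ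
  simp only [comp_f] at e
  have e1 : φ.f 0 = (singleObjXSelf (ComplexShape.up ℕ) 0 A).hom ≫ f ≫
      (singleObjXSelf (ComplexShape.up ℕ) 0 B).inv := single_map_f_self _ _ _
  have e2 : γ.f 0 = (singleObjXSelf (ComplexShape.up ℕ) 0 A).hom ≫ g ≫ Q.iCycles 0 :=
    mkHomFromSingle_f _ _
  rw [e1, e2, Category.assoc, Category.assoc] at e
  exact (cancel_epi _).1 e

/-- in an injective cochain complex the differential onto the cycles has a section -/
theorem exists_section (J : CochainComplex 𝒜 ℕ) [Injective J] (n : ℕ) :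
    ∃ h : J.cycles (n + 1) ⟶ J.X n, h ≫ J.d n (n + 1) = J.iCycles (n + 1) := by
  have hrel : (ComplexShape.up ℕ).Rel n (n + 1) := rfl
  have hne : n ≠ n + 1 := by omega
  let Z := J.cycles (n + 1)
  let a : Z ⟶ J.X (n + 1) := J.iCycles (n + 1)
  let D := double (𝟙 Z) hrel
  let φ : (single 𝒜 (ComplexShape.up ℕ) (n + 1)).obj Z ⟶ J :=
    mkHomFromSingle a (fun k _ => J.iCycles_d (n + 1) k)
  let ι : (single 𝒜 (ComplexShape.up ℕ) (n + 1)).obj Z ⟶ D :=
    mkHomFromSingle (doubleXIso₁ (𝟙 Z) hrel hne).inv (fun k _ => by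
      rw [double_d_eq_zero₀ (𝟙 Z) hrel (n + 1) k (by omega), comp_zero])
  have hι : Mono ι := by
    have : ∀ k, Mono (ι.f k) := by
      intro k
      by_cases hk : k = n + 1
      · subst hk
        have : ι.f (n + 1) = (singleObjXSelf (ComplexShape.up ℕ) (n + 1) Z).hom ≫
            (doubleXIso₁ (𝟙 Z) hrel hne).inv := mkHomFromSingle_f _ _
        rw [this]
        infer_instance
      · exact (isZero_single_obj_X (ComplexShape.up ℕ) (n + 1) Z k hk).mono _
    exact mono_of_mono_f ι this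
  let ψ : D ⟶ J := Injective.factorThru φ ι
  have hψ : ι ≫ ψ = φ := Injective.comp_factorThru φ ι
  let h : Z ⟶ J.X n := (doubleXIso₀ (𝟙 Z) hrel).inv ≫ ψ.f n
  have h1 : (doubleXIso₁ (𝟙 Z) hrel hne).inv ≫ ψ.f (n + 1) = a := by
    have e := congrArg (fun m => m.f (n + 1)) hψ
    have e1 : ι.f (n + 1) = (singleObjXSelf (ComplexShape.up ℕ) (n + 1) Z).hom ≫
        (doubleXIso₁ (𝟙 Z) hrel hne).inv := mkHomFromSingle_f _ _
    have e2 : φ.f (n + 1) = (singleObjXSelf (ComplexShape.up ℕ) (n + 1) Z).hom ≫ a :=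
      mkHomFromSingle_f _ _
    simp only [comp_f] at e
    rw [e1, e2, Category.assoc] at e
    exact (cancel_epi _).1 e
  refine ⟨h, ?_⟩
  have e := ψ.comm n (n + 1)
  rw [double_d (𝟙 Z) hrel hne] at e
  simp only [h, Category.assoc]
  rw [e]
  simp only [Category.id_comp, Category.assoc, Iso.inv_hom_id_assoc]
  exact h1

/-- an additive left exact functor to abelian groups sends injective cochain complexes to complexes
exact in positive degrees -/
theorem exactAt_map_of_injective (G : 𝒜 ⥤ AddCommGrpCat.{w}) [G.Additive] [PreservesFiniteLimits G]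
    (Q : CochainComplex 𝒜 ℕ) [Injective Q] (n : ℕ) :
    ((G.mapHomologicalComplex (ComplexShape.up ℕ)).obj Q).ExactAt (n + 1) := by
  obtain ⟨h₀, hh₀⟩ := exists_section Q n
  obtain ⟨h₁, hh₁⟩ := exists_section Q (n + 1)
  let t := Q.toCycles (n + 1) (n + 2)
  have ht : t ≫ Q.iCycles (n + 2) = Q.d (n + 1) (n + 2) := Q.toCycles_i (n + 1) (n + 2)
  have hr : (𝟙 (Q.X (n + 1)) - t ≫ h₁) ≫ Q.d (n + 1) (n + 2) = 0 := by
    rw [Preadditive.sub_comp, Category.id_comp, Category.assoc, hh₁, ht, sub_self]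
  let r : Q.X (n + 1) ⟶ Q.cycles (n + 1) := Q.liftCycles _ (n + 2) (by simp) hr
  have hr' : r ≫ Q.iCycles (n + 1) = 𝟙 _ - t ≫ h₁ := Q.liftCycles_i _ _ _ _
  let s : Q.X (n + 1) ⟶ Q.X n := r ≫ h₀
  have hs : 𝟙 (Q.X (n + 1)) = s ≫ Q.d n (n + 1) + t ≫ h₁ := by
    simp only [s, Category.assoc]
    rw [hh₀, hr']
    abel
  rw [exactAt_iff' _ n (n + 1) (n + 2) (by simp) (by simp), ShortComplex.ab_exact_iff]
  intro y hy
  change (G.map (Q.d (n + 1) (n + 2))) y = 0 at hy
  have hmono : Mono (G.map (Q.iCycles (n + 2))) := inferInstance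
  have hinj : Function.Injective (G.map (Q.iCycles (n + 2))) :=
    (AddCommGrpCat.mono_iff_injective _).1 hmono
  have h1 : (G.map t) y = 0 := by
    apply hinj
    rw [map_zero]
    have : G.map t ≫ G.map (Q.iCycles (n + 2)) = G.map (Q.d (n + 1) (n + 2)) := by
      rw [← G.map_comp, ht]
    exact (ConcreteCategory.congr_hom this y).trans hy
  refine ⟨(G.map s) y, ?_⟩
  change (G.map (Q.d n (n + 1))) ((G.map s) y) = y
  have h2 : G.map (𝟙 (Q.X (n + 1))) = G.map s ≫ G.map (Q.d n (n + 1)) + G.map t ≫ G.map h₁ := by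
    rw [← G.map_comp, ← G.map_comp, ← G.map_add, ← hs]
  have h3 := ConcreteCategory.congr_hom h2 y
  rw [G.map_id] at h3
  have h4 : (G.map s ≫ G.map (Q.d n (n + 1)) + G.map t ≫ G.map h₁) y =
      (G.map (Q.d n (n + 1))) ((G.map s) y) + (G.map h₁) ((G.map t) y) := rfl
  rw [h4, h1, map_zero, add_zero] at h3
  exact h3.symm

end Injectives

section Main

open Groth.Agent.Lib.Helper21.DerPost

variable {𝒜 : Type (u + 1)} [Category.{u} 𝒜] [Abelian 𝒜] [EnoughInjectives 𝒜]
  [EnoughInjectives (CochainComplex 𝒜 ℕ)]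

/-- `H⁰` of an injective resolution (in the category of cochain complexes) of a complex `K` exact in positive
degrees is an injective resolution of `H⁰(K)`. -/
noncomputable def resH0 (K : CochainComplex 𝒜 ℕ) (hK : ∀ n, K.ExactAt (n + 1))
    (J : InjectiveResolution K) :
    InjectiveResolution ((homologyFunctor 𝒜 (ComplexShape.up ℕ) 0).obj K) where
  cocomplex := ((homologyFunctor 𝒜 (ComplexShape.up ℕ) 0).mapHomologicalComplex (ComplexShape.up ℕ)).obj
    J.cocomplex
  injective n := by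
    have : Injective (J.cocomplex.X n) := J.injective n
    have : Injective ((J.cocomplex.X n).cycles 0) := injective_cycles_zero _
    exact Injective.of_iso (CochainComplex.isoHomologyπ₀ (J.cocomplex.X n)) this
  ι := (CochainComplex.fromSingle₀Equiv _ _).symm
    ⟨(homologyFunctor 𝒜 (ComplexShape.up ℕ) 0).map (J.ι.f 0), by
      change (homologyFunctor 𝒜 (ComplexShape.up ℕ) 0).map (J.ι.f 0) ≫
        (homologyFunctor 𝒜 (ComplexShape.up ℕ) 0).map (J.cocomplex.d 0 1) = 0
      rw [← Functor.map_comp, J.ι_f_zero_comp_complex_d, Functor.map_zero]⟩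
  quasiIso := ⟨fun n => by
    cases n with
    | zero =>
      have hS : (ShortComplex.mk ((homologyFunctor 𝒜 (ComplexShape.up ℕ) 0).map (J.ι.f 0))
          ((homologyFunctor 𝒜 (ComplexShape.up ℕ) 0).map (J.cocomplex.d 0 1))
          (by rw [← Functor.map_comp, J.ι_f_zero_comp_complex_d, Functor.map_zero])).Exact ∧
          Mono ((homologyFunctor 𝒜 (ComplexShape.up ℕ) 0).map (J.ι.f 0)) := by
        rw [ShortComplex.exact_and_mono_f_iff_f_is_kernel]
        exact ⟨KernelFork.mapIsLimit _ J.isLimitKernelFork (homologyFunctor 𝒜 (ComplexShape.up ℕ) 0)⟩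
      rw [CochainComplex.quasiIsoAt₀_iff, ShortComplex.quasiIso_iff_of_zeros]
      · refine (ShortComplex.exact_and_mono_f_iff_of_iso ?_).2 hS
        refine ShortComplex.isoMk (Iso.refl _) (Iso.refl _) (Iso.refl _) ?_ ?_
        · have h1 := congrArg Subtype.val ((CochainComplex.fromSingle₀Equiv
            (((homologyFunctor 𝒜 (ComplexShape.up ℕ) 0).mapHomologicalComplex (ComplexShape.up ℕ)).obj
              J.cocomplex) ((homologyFunctor 𝒜 (ComplexShape.up ℕ) 0).obj K)).apply_symm_apply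
            ⟨(homologyFunctor 𝒜 (ComplexShape.up ℕ) 0).map (J.ι.f 0), by
              change (homologyFunctor 𝒜 (ComplexShape.up ℕ) 0).map (J.ι.f 0) ≫
                (homologyFunctor 𝒜 (ComplexShape.up ℕ) 0).map (J.cocomplex.d 0 1) = 0
              rw [← Functor.map_comp, J.ι_f_zero_comp_complex_d, Functor.map_zero]⟩)
          exact (Category.id_comp _).trans (h1.symm.trans (Category.comp_id _).symm)
        · exact (Category.id_comp _).trans (Category.comp_id _).symm
      · rfl
      · rfl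
      · exact HomologicalComplex.shape
          (((homologyFunctor 𝒜 (ComplexShape.up ℕ) 0).mapHomologicalComplex (ComplexShape.up ℕ)).obj
            J.cocomplex) 0 0 (show ¬ (ComplexShape.up ℕ).Rel 0 0 by simp)
    | succ n =>
      rw [quasiIsoAt_iff_exactAt]
      · rw [exactAt_iff_isZero_homology]
        obtain ⟨e⟩ := ChHomDer.homologyFunctor_iso_rightDerived (C := 𝒜) (n + 1)
        have hz : IsZero (K.homology (n + 1)) := (exactAt_iff_isZero_homology _ _).1 (hK n)
        exact IsZero.of_iso hz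
          ((J.isoRightDerivedObj (homologyFunctor 𝒜 (ComplexShape.up ℕ) 0) (n + 1)).symm ≪≫
            (e.app K).symm)
      · apply CochainComplex.exactAt_succ_single_obj⟩

variable (G : 𝒜 ⥤ AddCommGrpCat.{u}) [G.Additive] [PreservesFiniteLimits G]

/-- `G` applied termwise, then evaluated in degree `p`, is evaluation followed by `G` -/
noncomputable def evalIso (p : ℕ) :
    G.mapHomologicalComplex (ComplexShape.up ℕ) ⋙ eval AddCommGrpCat.{u} (ComplexShape.up ℕ) p ≅
      eval 𝒜 (ComplexShape.up ℕ) p ⋙ G :=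
  NatIso.ofComponents (fun K => Iso.refl _) (fun {K L} φ => by
    exact (Category.comp_id _).trans (Category.id_comp _).symm)

theorem e1_iso (K : CochainComplex 𝒜 ℕ) (p q : ℕ) :
    Nonempty (((G.mapHomologicalComplex (ComplexShape.up ℕ) ⋙
      eval AddCommGrpCat.{u} (ComplexShape.up ℕ) p).rightDerived q).obj K ≅
      (G.rightDerived q).obj (K.X p)) := by
  have hE : ∀ I : CochainComplex 𝒜 ℕ, Injective I → ∀ q : ℕ, 0 < q →
      IsZero ((G.rightDerived q).obj ((eval 𝒜 (ComplexShape.up ℕ) p).obj I)) := by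
    intro I hI q hq
    obtain ⟨k, rfl⟩ : ∃ k, q = k + 1 := ⟨q - 1, by omega⟩
    have : Injective (I.X p) := injective_X I p
    exact Functor.isZero_rightDerived_obj_injective_succ G k (I.X p)
  obtain ⟨e⟩ := Groth.Agent.Lib.Helper21.DerAcyc.nonempty_rightDerived_comp_iso
    (eval 𝒜 (ComplexShape.up ℕ) p) G hE K q
  exact ⟨(natIsoRightDerived (evalIso G p) q).app K ≪≫ e⟩

instance presLeft (K : CochainComplex 𝒜 ℕ) : G.PreservesLeftHomologyOf (K.sc 0) :=
  Functor.preservesLeftHomology_of_zero_f G (K.sc 0) (K.shape _ _ (by simp))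

/-- a left exact functor commutes with `H⁰` of `ℕ`-indexed cochain complexes -/
noncomputable def h0Iso :
    G.mapHomologicalComplex (ComplexShape.up ℕ) ⋙
      homologyFunctor AddCommGrpCat.{u} (ComplexShape.up ℕ) 0 ≅
      homologyFunctor 𝒜 (ComplexShape.up ℕ) 0 ⋙ G :=
  NatIso.ofComponents (fun K => (K.sc 0).mapHomologyIso G) (fun {K L} φ =>
    ShortComplex.mapHomologyIso_hom_naturality ((shortComplexFunctor 𝒜 (ComplexShape.up ℕ) 0).map φ) G)

/-- the abutment of the spectral sequence -/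
theorem abut_iso (K : CochainComplex 𝒜 ℕ) (hK : ∀ n, K.ExactAt (n + 1)) (n : ℕ) :
    Nonempty (((G.mapHomologicalComplex (ComplexShape.up ℕ) ⋙
      homologyFunctor AddCommGrpCat.{u} (ComplexShape.up ℕ) 0).rightDerived n).obj K ≅
      (G.rightDerived n).obj (K.homology 0)) := by
  let J := injectiveResolution K
  let I' := resH0 K hK J
  let e1 := (natIsoRightDerived (h0Iso G) n).app K
  let e2 := J.isoRightDerivedObj (homologyFunctor 𝒜 (ComplexShape.up ℕ) 0 ⋙ G) n
  let e3 := I'.isoRightDerivedObj G n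
  exact ⟨e1 ≪≫ e2 ≪≫ e3.symm⟩

/-- **The first hypercohomology spectral sequence of a resolution** `K` of `H⁰(K)`:
`E₁^{p,q} ≅ R^q G (K^p) ⇒ R^{p+q} G (H⁰ K)`. -/
theorem exists_specSeq (K : CochainComplex 𝒜 ℕ) (hK : ∀ n, K.ExactAt (n + 1))
    (Hab : ℕ → AddCommGrpCat.{u})
    (hHab : ∀ n : ℕ, Nonempty ((G.rightDerived n).obj (K.homology 0) ≅ Hab n))
    (E1 : ℕ → ℕ → AddCommGrpCat.{u})
    (hE1 : ∀ p q : ℕ, Nonempty ((G.rightDerived q).obj (K.X p) ≅ E1 p q)) :
    ∃ (E : CohomologicalSpectralSequence AddCommGrpCat.{u} 1)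
      (a : SpSeq.Abutment E (fun n : ℤ =>
        if 0 ≤ n then Hab n.toNat else AddCommGrpCat.of PUnit.{u + 1})),
      (∀ n, a.IsFinite n) ∧ SpSeq.IsBounded E ∧
      ∀ p q : ℤ, Nonempty ((E.page 1 le_rfl).X (p, q) ≅
        (if 0 ≤ p ∧ 0 ≤ q then E1 p.toNat q.toNat
         else AddCommGrpCat.of PUnit.{u + 1})) := by
  refine ResolSS2.exists_specSeq_gen (G.mapHomologicalComplex (ComplexShape.up ℕ))
    (fun Q hQ q => (exactAt_iff_isZero_homology _ _).1 (exactAt_map_of_injective G Q q)) K Hab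
    (fun n => ?_) E1 (fun p q => ?_)
  · obtain ⟨e⟩ := abut_iso G K hK n
    obtain ⟨e'⟩ := hHab n
    exact ⟨e ≪≫ e'⟩
  · obtain ⟨e⟩ := e1_iso G K p q
    obtain ⟨e'⟩ := hE1 p q
    exact ⟨e ≪≫ e'⟩

end Main

end Groth.Agent.Lib.Seat38.HyperSS
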