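import Mathlib
import Groth.Agent.Lib.Seat38CompactNhd
import Groth.Agent.Lib.Seat38PullUnitLocal

set_option autoImplicit false
universe u
open CategoryTheory CategoryTheory.Limits Opposite TopologicalSpace

namespace Groth.Agent.Lib.Seat38.LocalHomeo

open Groth.Agent.Lib.Seat38.CompactNhd Groth.Agent.Lib.Seat38.PullUnitLocal

section Glue

variable {X : TopCat.{u}} (F : CohTop.Ab X)

/-- gluing in the language of `res` -/
theorem glue {ι : Type u} (U : ι → Opens X) (V : Opens X) (hUV : ∀ i, U i ≤ V) (hcov : V ≤ iSup U)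
    (sf : ∀ i, F.obj.obj (op (U i)))
    (hc : ∀ i j, res F.obj (inf_le_left : U i ⊓ U j ≤ U i) (sf i) =
      res F.obj (inf_le_right : U i ⊓ U j ≤ U j) (sf j)) :
    ∃ s : F.obj.obj (op V), ∀ i, res F.obj (hUV i) s = sf i := by
  obtain ⟨s, hs, -⟩ := TopCat.Sheaf.existsUnique_gluing' F U V (fun i => homOfLE (hUV i)) hcov sf
    (fun i j => hc i j)
  exact ⟨s, hs⟩

/-- sections agreeing locally are equal -/
theorem ext_loc (V : Opens X) (s t : F.obj.obj (op V))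
    (h : ∀ z ∈ V, ∃ (V' : Opens X) (hV' : V' ≤ V), z ∈ V' ∧ res F.obj hV' s = res F.obj hV' t) :
    s = t := by
  choose V' hV' hz hst using h
  refine TopCat.Sheaf.eq_of_locally_eq' F (fun z : V => V' z.1 z.2) V
    (fun z => homOfLE (hV' z.1 z.2)) ?_ s t (fun z => hst z.1 z.2)
  intro z hzV
  exact Opens.mem_iSup.2 ⟨⟨z, hzV⟩, hz z hzV⟩

end Glue


section ClaimB

variable {X Z : TopCat.{u}} (k : Z ⟶ X) {F : CohTop.Ab X} {H : CohTop.Ab Z}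
  (η : F ⟶ (CohTop.push k).obj H)

theorem ev_injective (hLI : LI k η) (U : Opens X) (W : Opens Z) (h : W ≤ (Opens.map k).obj U)
    (hsurj : ∀ s ∈ U, ∃ z ∈ W, k z = s) : Function.Injective (ev k η U W h) := by
  intro t₁ t₂ ht
  have h0 : ev k η U W h (t₁ - t₂) = 0 := by rw [ev_sub, ht, sub_self]
  have h1 : t₁ - t₂ = 0 := by
    apply ext_loc F U
    intro s hs
    obtain ⟨z, hz, rfl⟩ := hsurj s hs
    obtain ⟨U', hU', hzU', hres⟩ := hLI U (t₁ - t₂) W h h0 z hz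
    exact ⟨U', hU', hzU', hres.trans (res_zero F.obj hU').symm⟩
  exact sub_eq_zero.1 h1

theorem ev_surjective (hLS : LS k η) (hLI : LI k η) (hopen : IsOpenMap k)
    (U : Opens X) (W : Opens Z) (h : W ≤ (Opens.map k).obj U)
    (hinj : Set.InjOn k (W : Set Z)) (hsurj : ∀ s ∈ U, ∃ z ∈ W, k z = s) :
    Function.Surjective (ev k η U W h) := by
  intro s
  have hls : ∀ z : W, ∃ (Uz : Opens X) (t : F.obj.obj (op Uz)) (W' : Opens Z) (h1 : W' ≤ W)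
      (h2 : W' ≤ (Opens.map k).obj Uz), z.1 ∈ W' ∧ ev k η Uz W' h2 t = res H.obj h1 s :=
    fun z => hLS W s z.1 z.2
  choose Uz tz W' hW'W hW'U hzW' hev using hls
  let V : W → Opens X := fun z => ⟨k '' (W' z : Set Z), hopen _ (W' z).2⟩
  have hVUz : ∀ z, V z ≤ Uz z := by
    rintro z _ ⟨w, hw, rfl⟩
    exact hW'U z hw
  have hVU : ∀ z, V z ≤ U := by
    rintro z _ ⟨w, hw, rfl⟩
    exact h (hW'W z hw)
  have hW'V : ∀ z, W' z ≤ (Opens.map k).obj (V z) := fun z w hw => ⟨w, hw, rfl⟩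
  let sf : ∀ z, F.obj.obj (op (V z)) := fun z => res F.obj (hVUz z) (tz z)
  have hcov : U ≤ iSup V := by
    intro x hx
    obtain ⟨z, hz, rfl⟩ := hsurj x hx
    exact Opens.mem_iSup.2 ⟨⟨z, hz⟩, ⟨z, hzW' ⟨z, hz⟩, rfl⟩⟩
  -- the value of `ev` on `sf z`
  have hsf : ∀ (z : W) (W'' : Opens Z) (hW'' : W'' ≤ W' z),
      ev k η (V z) W'' (hW''.trans (hW'V z)) (sf z) = res H.obj (hW''.trans (hW'W z)) s := by
    intro z W'' hW''
    rw [ev_natural k η (Uz z) (V z) (hVUz z) W'' (hW''.trans (hW'V z)) (tz z),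
      ← ev_res k η (Uz z) (W' z) W'' (hW'U z) hW'' (tz z), hev z, res_res]
  have hc : ∀ i j, res F.obj (inf_le_left : V i ⊓ V j ≤ V i) (sf i) =
      res F.obj (inf_le_right : V i ⊓ V j ≤ V j) (sf j) := by
    intro i j
    have hW'' : W' i ⊓ W' j ≤ (Opens.map k).obj (V i ⊓ V j) :=
      fun w hw => ⟨⟨w, hw.1, rfl⟩, ⟨w, hw.2, rfl⟩⟩
    apply ev_injective k η hLI (V i ⊓ V j) (W' i ⊓ W' j) hW''
    · rintro x ⟨⟨a, ha, rfl⟩, ⟨b, hb, hab⟩⟩
      have : b = a := hinj (hW'W j hb) (hW'W i ha) hab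
      subst this
      exact ⟨b, ⟨ha, hb⟩, rfl⟩
    · rw [ev_natural k η (V i) (V i ⊓ V j) inf_le_left (W' i ⊓ W' j) hW'' (sf i),
        ev_natural k η (V j) (V i ⊓ V j) inf_le_right (W' i ⊓ W' j) hW'' (sf j)]
      exact (hsf i (W' i ⊓ W' j) inf_le_left).trans (hsf j (W' i ⊓ W' j) inf_le_right).symm
  obtain ⟨t, ht⟩ := glue F V U hVU hcov sf hc
  refine ⟨t, ?_⟩
  apply ext_loc H W
  intro z hz
  refine ⟨W' ⟨z, hz⟩, hW'W ⟨z, hz⟩, hzW' ⟨z, hz⟩, ?_⟩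
  rw [ev_res, ← hsf ⟨z, hz⟩ (W' ⟨z, hz⟩) le_rfl, ← ht ⟨z, hz⟩,
    ev_natural k η U (V ⟨z, hz⟩) (hVU ⟨z, hz⟩) (W' ⟨z, hz⟩) (hW'V ⟨z, hz⟩) t]

end ClaimB

end Groth.Agent.Lib.Seat38.LocalHomeo
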