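import Mathlib
import Groth.Agent.Lib.Seat38LocalHomeoA

set_option autoImplicit false
universe u
open CategoryTheory CategoryTheory.Limits Opposite TopologicalSpace

namespace Groth.Agent.Lib.Seat38.LocalHomeo

open Groth.Agent.Lib.Seat38.CompactNhd Groth.Agent.Lib.Seat38.PullUnitLocal

variable {Y S : TopCat.{u}} (g : Y ⟶ S)

/-- continuous sections of `g` over the open `U` with values in the open `V` -/
structure LSec (V : Opens Y) (U : Opens S) where
  toFun : U → Y
  cont : Continuous toFun
  sec : ∀ x : U, g (toFun x) = x.1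
  mem : ∀ x : U, toFun x ∈ V

namespace LSec

variable {g} {V V' : Opens Y} {U U' : Opens S}

@[ext] lemma ext' (σ σ' : LSec g V U) (h : ∀ x, σ.toFun x = σ'.toFun x) : σ = σ' := by
  cases σ; cases σ'
  congr
  funext x
  exact h x

/-- restriction to a smaller open of the base -/
def restrict (h : U' ≤ U) (σ : LSec g V U) : LSec g V U' where
  toFun x := σ.toFun ⟨x.1, h x.2⟩
  cont := σ.cont.comp (continuous_inclusion h)
  sec x := σ.sec ⟨x.1, h x.2⟩
  mem x := σ.mem ⟨x.1, h x.2⟩

/-- enlarging the target open -/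
def weaken (h : V ≤ V') (σ : LSec g V U) : LSec g V' U where
  toFun := σ.toFun
  cont := σ.cont
  sec := σ.sec
  mem x := h (σ.mem x)

lemma isOpen_range (hg : IsLocalHomeomorph g) (σ : LSec g V U) : IsOpen (Set.range σ.toFun) := by
  refine (hg.isOpenEmbedding_of_comp ?_ σ.cont).isOpen_range
  have : (g : Y → S) ∘ σ.toFun = Subtype.val := funext σ.sec
  rw [this]
  exact U.2.isOpenEmbedding_subtypeVal

/-- the range of a section, as an open of `Y` -/
def range (hg : IsLocalHomeomorph g) (σ : LSec g V U) : Opens Y := ⟨Set.range σ.toFun, σ.isOpen_range hg⟩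

lemma range_le (hg : IsLocalHomeomorph g) (σ : LSec g V U) : σ.range hg ≤ V := by
  rintro _ ⟨x, rfl⟩
  exact σ.mem x

lemma range_le_map (hg : IsLocalHomeomorph g) (σ : LSec g V U) : σ.range hg ≤ (Opens.map g).obj U := by
  rintro _ ⟨x, rfl⟩
  change g (σ.toFun x) ∈ U
  rw [σ.sec x]
  exact x.2

lemma injOn_range (hg : IsLocalHomeomorph g) (σ : LSec g V U) : Set.InjOn g (σ.range hg : Set Y) := by
  rintro _ ⟨x, rfl⟩ _ ⟨x', rfl⟩ h
  rw [σ.sec x, σ.sec x'] at h
  rw [Subtype.ext h]

lemma surj_range (hg : IsLocalHomeomorph g) (σ : LSec g V U) : ∀ s ∈ U, ∃ z ∈ σ.range hg, g z = s :=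
  fun s hs => ⟨σ.toFun ⟨s, hs⟩, ⟨⟨s, hs⟩, rfl⟩, σ.sec ⟨s, hs⟩⟩

lemma range_restrict_le (hg : IsLocalHomeomorph g) (h : U' ≤ U) (σ : LSec g V U) :
    (σ.restrict h).range hg ≤ σ.range hg := by
  rintro _ ⟨x, rfl⟩
  exact ⟨⟨x.1, h x.2⟩, rfl⟩

end LSec

/-- the presheaf of sets of sections of `g` with values in `V` -/
def secPsh (V : Opens Y) : (Opens S)ᵒᵖ ⥤ Type u where
  obj U := LSec g V U.unop
  map i := TypeCat.ofHom (fun σ => σ.restrict i.unop.le)
  map_id U := by
    ext σ
    rfl
  map_comp i j := by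
    ext σ
    rfl


/-! ### the free abelian sheaf on the sections -/

/-- the free abelian presheaf on the sections with values in `V` -/
noncomputable def freePsh (V : Opens Y) : (Opens S)ᵒᵖ ⥤ AddCommGrpCat.{u} :=
  secPsh g V ⋙ AddCommGrpCat.free

/-- the free abelian sheaf on the sections with values in `V` -/
noncomputable def B (V : Opens Y) : CohTop.Ab S :=
  (presheafToSheaf (Opens.grothendieckTopology S) AddCommGrpCat.{u}).obj (freePsh g V)

variable {g}

/-- the generator attached to a section -/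
noncomputable def gen {V : Opens Y} {U : Opens S} (σ : LSec g V U) : (B g V).obj.obj (op U) :=
  (toSheafify (Opens.grothendieckTopology S) (freePsh g V)).app (op U)
    (FreeAbelianGroup.of σ : FreeAbelianGroup (LSec g V U))

theorem free_hom_ext {α : Type u} {A : AddCommGrpCat.{u}} (f f' : AddCommGrpCat.of (FreeAbelianGroup α) ⟶ A)
    (h : ∀ x, f.hom (FreeAbelianGroup.of x) = f'.hom (FreeAbelianGroup.of x)) : f = f' := by
  apply AddCommGrpCat.hom_ext
  exact FreeAbelianGroup.lift_ext _ _ h

lemma freePsh_map_of {V : Opens Y} {U U' : (Opens S)ᵒᵖ} (i : U ⟶ U') (σ : LSec g V U.unop) :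
    (freePsh g V).map i (FreeAbelianGroup.of σ : FreeAbelianGroup (LSec g V U.unop)) =
      (FreeAbelianGroup.of (σ.restrict i.unop.le) : FreeAbelianGroup (LSec g V U'.unop)) :=
  FreeAbelianGroup.map_of_apply σ

lemma res_gen {V : Opens Y} {U U' : Opens S} (h : U' ≤ U) (σ : LSec g V U) :
    res (B g V).obj h (gen σ) = gen (σ.restrict h) := by
  have hn := (toSheafify (Opens.grothendieckTopology S) (freePsh g V)).naturality (homOfLE h).op
  have h1 := ConcreteCategory.congr_hom hn (FreeAbelianGroup.of σ : FreeAbelianGroup (LSec g V U))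
  refine h1.symm.trans ?_
  exact congrArg (fun z => (toSheafify (Opens.grothendieckTopology S) (freePsh g V)).app (op U') z)
    (freePsh_map_of (homOfLE h).op σ)

theorem hom_ext_gen {V : Opens Y} {F : CohTop.Ab S} (φ φ' : B g V ⟶ F)
    (h : ∀ (U : Opens S) (σ : LSec g V U), φ.hom.app (op U) (gen σ) = φ'.hom.app (op U) (gen σ)) :
    φ = φ' := by
  apply Sheaf.hom_ext
  apply sheafify_hom_ext _ _ _ F.property
  ext U : 2
  obtain ⟨U⟩ := U
  apply free_hom_ext
  intro σ
  exact h U σ

theorem exists_hom_gen {V : Opens Y} {F : CohTop.Ab S}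
    (a : ∀ (U : Opens S), LSec g V U → F.obj.obj (op U))
    (ha : ∀ (U U' : Opens S) (h : U' ≤ U) (σ : LSec g V U), res F.obj h (a U σ) = a U' (σ.restrict h)) :
    ∃ φ : B g V ⟶ F, ∀ (U : Opens S) (σ : LSec g V U), φ.hom.app (op U) (gen σ) = a U σ := by
  let ψ : freePsh g V ⟶ F.obj :=
    { app := fun U => AddCommGrpCat.ofHom (FreeAbelianGroup.lift (fun σ : LSec g V U.unop => a U.unop σ))
      naturality := by
        intro U U' i
        apply free_hom_ext
        intro (σ : LSec g V U.unop)
        have e1 := freePsh_map_of i σ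
        refine (congrArg (FreeAbelianGroup.lift (fun σ : LSec g V U'.unop => a U'.unop σ)) e1).trans ?_
        refine (FreeAbelianGroup.lift_apply_of _ _).trans ?_
        refine Eq.trans ?_ (congrArg (fun z => F.obj.map i z)
          (FreeAbelianGroup.lift_apply_of (fun σ : LSec g V U.unop => a U.unop σ) σ).symm)
        exact (ha U.unop U'.unop i.unop.le σ).symm }
  refine ⟨⟨sheafifyLift _ ψ F.property⟩, fun U σ => ?_⟩
  have h1 := toSheafify_sheafifyLift (Opens.grothendieckTopology S) ψ F.property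
  have h2 := ConcreteCategory.congr_hom (NatTrans.congr_app h1 (op U))
    (FreeAbelianGroup.of σ : FreeAbelianGroup (LSec g V U))
  refine h2.trans ?_
  exact FreeAbelianGroup.lift_apply_of _ _

end Groth.Agent.Lib.Seat38.LocalHomeo
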