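import Mathlib
import Groth.Agent.Lib.Seat38LocalHomeoB

set_option autoImplicit false
universe u
open CategoryTheory CategoryTheory.Limits Opposite TopologicalSpace

namespace Groth.Agent.Lib.Seat38.LocalHomeo

open Groth.Agent.Lib.Seat38.CompactNhd Groth.Agent.Lib.Seat38.PullUnitLocal

variable {Y S : TopCat.{u}} (g : Y ⟶ S)

/-- `ev` for the unit of the pullback/pushforward adjunction is natural in the sheaf -/
theorem ev_map {F F' : CohTop.Ab S} (φ : F ⟶ F') (U : Opens S) (W : Opens Y)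
    (h : W ≤ (Opens.map g).obj U) (t : F.obj.obj (op U)) :
    ((CohTop.pull g).map φ).hom.app (op W) (ev g (unitF g F) U W h t) =
      ev g (unitF g F') U W h (φ.hom.app (op U) t) := by
  have h1 := ConcreteCategory.congr_hom
    (((CohTop.pull g).map φ).hom.naturality (homOfLE h).op) ((unitF g F).hom.app (op U) t)
  have h2 : (unitF g F ≫ (CohTop.push g).map ((CohTop.pull g).map φ)) = φ ≫ unitF g F' :=
    ((adj1 g).unit.naturality φ).symm
  have h3 := ConcreteCategory.congr_hom (congrArg (fun m => m.hom.app (op U)) h2) t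
  refine h1.trans ?_
  exact congrArg (fun z => ((CohTop.pull g).obj F').obj.map (homOfLE h).op z) h3


variable {g} (hg : IsLocalHomeomorph g)

include hg in
/-- local sections through every point -/
theorem exists_lsec (V : Opens Y) (y : Y) (hy : y ∈ V) :
    ∃ (U : Opens S) (σ : LSec g V U), y ∈ σ.range hg := by
  let e := hg.localInverseAt y
  have hO : IsOpen (e.source ∩ e ⁻¹' (V : Set Y)) := e.isOpen_inter_preimage V.2
  have hc : ContinuousOn e (e.source ∩ e ⁻¹' (V : Set Y)) := e.continuousOn.mono Set.inter_subset_left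
  refine ⟨⟨_, hO⟩, ⟨fun x => e x.1, continuousOn_iff_continuous_domRestrict.1 hc,
    fun x => hg.apply_localInverseAt_of_mem x.2.1, fun x => x.2.2⟩, ?_⟩
  have h1 : g y ∈ e.source := hg.apply_self_mem_localInverseAt_source
  have h2 : e (g y) = y := hg.localInverseAt_apply_self
  exact ⟨⟨g y, h1, by change e (g y) ∈ V; rw [h2]; exact hy⟩, h2⟩

/-- two sections agree on the image of the intersection of their ranges -/
theorem restrict_eq_of_le_range {V : Opens Y} {U U' U'' : Opens S} (σ : LSec g V U) (σ' : LSec g V U')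
    (h : U'' ≤ U) (h' : U'' ≤ U')
    (hU'' : ∀ x ∈ U'', ∃ w ∈ σ.range hg ⊓ σ'.range hg, g w = x) :
    σ.restrict h = σ'.restrict h' := by
  apply LSec.ext'
  intro x
  obtain ⟨w, ⟨⟨a, ha⟩, ⟨b, hb⟩⟩, hw⟩ := hU'' x.1 x.2
  have h1 : a.1 = x.1 := by rw [← σ.sec a, ha, hw]
  have h2 : b.1 = x.1 := by rw [← σ'.sec b, hb, hw]
  have e1 : (⟨x.1, h x.2⟩ : U) = a := Subtype.ext h1.symm
  have e2 : (⟨x.1, h' x.2⟩ : U') = b := Subtype.ext h2.symm
  change σ.toFun ⟨x.1, h x.2⟩ = σ'.toFun ⟨x.1, h' x.2⟩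
  rw [e1, e2, ha, hb]

/-- the open image of an open subset -/
def img (W : Opens Y) : Opens S := ⟨g '' (W : Set Y), hg.isOpenMap _ W.2⟩

lemma le_map_img (W : Opens Y) : W ≤ (Opens.map g).obj (img hg W) := fun w hw => ⟨w, hw, rfl⟩

section Tau

variable (V : Opens Y)

/-- the `ev` of a generator -/
noncomputable def evGen {U : Opens S} (σ : LSec g V U) (W : Opens Y) (hW : W ≤ σ.range hg) :
    ((CohTop.pull g).obj (B g V)).obj.obj (op W) :=
  ev g (unitF g (B g V)) U W (hW.trans (σ.range_le_map hg)) (gen σ)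

lemma evGen_restrict {U U' : Opens S} (h : U' ≤ U) (σ : LSec g V U) (W : Opens Y)
    (hW : W ≤ (σ.restrict h).range hg) :
    evGen hg V (σ.restrict h) W hW = evGen hg V σ W (hW.trans (σ.range_restrict_le hg h)) := by
  unfold evGen
  rw [← res_gen h σ]
  exact ev_natural g (unitF g (B g V)) U U' h W _ (gen σ)

lemma res_evGen {U : Opens S} (σ : LSec g V U) (W W' : Opens Y) (hW : W ≤ σ.range hg) (hW' : W' ≤ W) :
    res ((CohTop.pull g).obj (B g V)).obj hW' (evGen hg V σ W hW) = evGen hg V σ W' (hW'.trans hW) :=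
  ev_res g (unitF g (B g V)) U W W' _ hW' (gen σ)

/-- the tautological section of `g^* ℤ[Sec_V]^#` over `V` -/
theorem exists_tau : ∃ τ : ((CohTop.pull g).obj (B g V)).obj.obj (op V),
    ∀ (U : Opens S) (σ : LSec g V U),
      res ((CohTop.pull g).obj (B g V)).obj (σ.range_le hg) τ = evGen hg V σ (σ.range hg) le_rfl := by
  let ι := Σ U : Opens S, LSec g V U
  let Wf : ι → Opens Y := fun i => i.2.range hg
  obtain ⟨τ, hτ⟩ := glue ((CohTop.pull g).obj (B g V)) Wf V (fun i => i.2.range_le hg)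
    (by
      intro y hy
      obtain ⟨U, σ, hσ⟩ := exists_lsec hg V y hy
      exact Opens.mem_iSup.2 ⟨⟨U, σ⟩, hσ⟩)
    (fun i => evGen hg V i.2 (i.2.range hg) le_rfl)
    (by
      rintro ⟨U, σ⟩ ⟨U', σ'⟩
      change res _ _ (evGen hg V σ (σ.range hg) le_rfl) = res _ _ (evGen hg V σ' (σ'.range hg) le_rfl)
      rw [res_evGen, res_evGen]
      let U'' := img hg (σ.range hg ⊓ σ'.range hg)
      have hU : U'' ≤ U := by
        rintro _ ⟨w, hw, rfl⟩
        exact σ.range_le_map hg hw.1
      have hU' : U'' ≤ U' := by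
        rintro _ ⟨w, hw, rfl⟩
        exact σ'.range_le_map hg hw.2
      have heq : σ.restrict hU = σ'.restrict hU' :=
        restrict_eq_of_le_range hg σ σ' hU hU' (fun x ⟨w, hw, hwx⟩ => ⟨w, hw, hwx⟩)
      have hW1 : σ.range hg ⊓ σ'.range hg ≤ (σ.restrict hU).range hg := by
        rintro w ⟨⟨a, rfl⟩, hw2⟩
        exact ⟨⟨a.1, ⟨σ.toFun a, ⟨⟨a, rfl⟩, hw2⟩, σ.sec a⟩⟩, rfl⟩
      have hW2 : σ.range hg ⊓ σ'.range hg ≤ (σ'.restrict hU').range hg := heq ▸ hW1
      have e1 := evGen_restrict hg V hU σ (σ.range hg ⊓ σ'.range hg) hW1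
      have e2 := evGen_restrict hg V hU' σ' (σ.range hg ⊓ σ'.range hg) hW2
      refine e1.symm.trans (Eq.trans ?_ e2)
      congr 1)
  exact ⟨τ, fun U σ => hτ ⟨U, σ⟩⟩

end Tau


section Phi

variable (V : Opens Y)

/-- the tautological section -/
noncomputable def tau : ((CohTop.pull g).obj (B g V)).obj.obj (op V) := (exists_tau hg V).choose

lemma res_tau {U : Opens S} (σ : LSec g V U) :
    res ((CohTop.pull g).obj (B g V)).obj (σ.range_le hg) (tau hg V) = evGen hg V σ (σ.range hg) le_rfl :=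
  (exists_tau hg V).choose_spec U σ

variable {V} {F : CohTop.Ab S}

/-- the comparison map `Hom(ℤ[Sec_V]^#, F) → (g^* F)(V)` -/
noncomputable def Phi (φ : B g V ⟶ F) : ((CohTop.pull g).obj F).obj.obj (op V) :=
  ((CohTop.pull g).map φ).hom.app (op V) (tau hg V)

theorem res_Phi (φ : B g V ⟶ F) {U : Opens S} (σ : LSec g V U) :
    res ((CohTop.pull g).obj F).obj (σ.range_le hg) (Phi hg φ) =
      ev g (unitF g F) U (σ.range hg) (σ.range_le_map hg) (φ.hom.app (op U) (gen σ)) := by
  have h1 := ConcreteCategory.congr_hom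
    (((CohTop.pull g).map φ).hom.naturality (homOfLE (σ.range_le hg)).op) (tau hg V)
  refine h1.symm.trans ?_
  have h2 := res_tau hg V σ
  refine (congrArg (fun z => ((CohTop.pull g).map φ).hom.app (op (σ.range hg)) z) h2).trans ?_
  exact ev_map g φ U (σ.range hg) (σ.range_le_map hg) (gen σ)

theorem Phi_injective : Function.Injective (Phi hg (V := V) (F := F)) := by
  intro φ φ' h
  apply hom_ext_gen
  intro U σ
  apply ev_injective g (unitF g F) (unit_LI g F) U (σ.range hg) (σ.range_le_map hg) (σ.surj_range hg)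
  rw [← res_Phi, ← res_Phi, h]

theorem Phi_surjective : Function.Surjective (Phi hg (V := V) (F := F)) := by
  intro t
  have hs : ∀ (U : Opens S) (σ : LSec g V U), ∃ a : F.obj.obj (op U),
      ev g (unitF g F) U (σ.range hg) (σ.range_le_map hg) a =
        res ((CohTop.pull g).obj F).obj (σ.range_le hg) t := fun U σ =>
    ev_surjective g (unitF g F) (unit_LS g F) (unit_LI g F) hg.isOpenMap U (σ.range hg)
      (σ.range_le_map hg) (σ.injOn_range hg) (σ.surj_range hg) _
  choose a ha using hs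
  obtain ⟨φ, hφ⟩ := exists_hom_gen (F := F) a (by
    intro U U' h σ
    apply ev_injective g (unitF g F) (unit_LI g F) U' ((σ.restrict h).range hg)
      ((σ.restrict h).range_le_map hg) ((σ.restrict h).surj_range hg)
    rw [ha U' (σ.restrict h),
      ev_natural g (unitF g F) U U' h ((σ.restrict h).range hg) ((σ.restrict h).range_le_map hg) (a U σ),
      ← ev_res g (unitF g F) U (σ.range hg) ((σ.restrict h).range hg) (σ.range_le_map hg)
        (σ.range_restrict_le hg h) (a U σ), ha U σ, res_res])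
  refine ⟨φ, ?_⟩
  apply ext_loc ((CohTop.pull g).obj F) V
  intro z hz
  obtain ⟨U, σ, hσ⟩ := exists_lsec hg V z hz
  refine ⟨σ.range hg, σ.range_le hg, hσ, ?_⟩
  rw [res_Phi, hφ, ha]

end Phi

end Groth.Agent.Lib.Seat38.LocalHomeo
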