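import Mathlib
import Groth.Agent.Lib.Seat38LocalHomeoC
import Groth.Agent.Lib.Seat38DescentTop
import Groth.Agent.Lib.Helper21DerAcyc
import Groth.Agent.Lib.Helper21DerPost
import Groth.Agent.Lib.Helper23ExtRD
import Groth.Agent.S0453

set_option autoImplicit false
set_option linter.unusedVariables false
universe u
open CategoryTheory CategoryTheory.Limits Opposite TopologicalSpace

namespace Groth.Agent.Lib.Seat38.LocalHomeo

open Groth.Agent.Lib.Seat38.CompactNhd Groth.Agent.Lib.Seat38.PullUnitLocal Groth.Agent.Lib.Seat38.DescentTop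

/-- the constant sheaf `ℤ` -/
noncomputable abbrev ZZ (Y : TopCat.{u}) : CohTop.Ab Y :=
  (constantSheaf (Opens.grothendieckTopology Y) AddCommGrpCat.{u}).obj (AddCommGrpCat.of (ULift.{u} ℤ))

/-- `Hom(ℤ_Y, G) ≃ Γ(Y, G)` -/
noncomputable def e0 {Y : TopCat.{u}} (G : CohTop.Ab Y) : (ZZ Y ⟶ G) ≃+ G.obj.obj (op ⊤) :=
  ((constAdj Y).homAddEquiv _ G).trans (AddCommGrpCat.uliftZMultiplesAddEquiv _)

lemma e0_apply {Y : TopCat.{u}} (G : CohTop.Ab Y) (x : ZZ Y ⟶ G) :
    e0 G x = ((constAdj Y).homEquiv _ G x).hom ⟨1⟩ := rfl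

lemma e0_naturality {Y : TopCat.{u}} {G G' : CohTop.Ab Y} (f : G ⟶ G') (x : ZZ Y ⟶ G) :
    e0 G' (x ≫ f) = f.hom.app (op ⊤) (e0 G x) := by
  rw [e0_apply, e0_apply, Adjunction.homEquiv_naturality_right]
  rfl

variable {Y S : TopCat.{u}} {g : Y ⟶ S} (hg : IsLocalHomeomorph g)

/-! ### flasqueness of the inverse image of an injective sheaf -/

section Flasque

theorem freeMap_injective {α β : Type u} (f : α → β) (hf : Function.Injective f) :
    Function.Injective (FreeAbelianGroup.map f) := by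
  by_cases hα : Nonempty α
  · have hr : Function.LeftInverse (Function.invFun f) f := Function.leftInverse_invFun hf
    intro x y hxy
    have h1 := congrArg (FreeAbelianGroup.map (Function.invFun f)) hxy
    rw [← FreeAbelianGroup.map_comp_apply, ← FreeAbelianGroup.map_comp_apply] at h1
    have h2 : Function.invFun f ∘ f = id := funext hr
    rw [h2, FreeAbelianGroup.map_id_apply, FreeAbelianGroup.map_id_apply] at h1
    exact h1
  · have : IsEmpty α := not_nonempty_iff.1 hα
    intro x y _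
    exact Subsingleton.elim x y

variable {V V' : Opens Y} (h : V' ≤ V)

/-- the inclusion of sections with values in a smaller open -/
def secWeaken : secPsh g V' ⟶ secPsh g V where
  app U := TypeCat.ofHom (fun σ => LSec.weaken h σ)
  naturality U U' i := rfl

/-- the induced map of free sheaves -/
noncomputable def iotaB : B g V' ⟶ B g V :=
  (presheafToSheaf (Opens.grothendieckTopology S) AddCommGrpCat.{u}).map
    (Functor.whiskerRight (secWeaken (g := g) h) AddCommGrpCat.free)

instance : Mono (iotaB (g := g) h) := by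
  have h1 : ∀ U, Mono ((Functor.whiskerRight (secWeaken (g := g) h) AddCommGrpCat.free).app U) := by
    intro U
    rw [AddCommGrpCat.mono_iff_injective]
    apply freeMap_injective
    intro σ σ' hσ
    apply LSec.ext'
    intro x
    exact congrArg (fun τ : LSec g V U.unop => τ.toFun x) hσ
  have hm : Mono (Functor.whiskerRight (secWeaken (g := g) h) AddCommGrpCat.free) :=
    NatTrans.mono_of_mono_app _
  have hp : (presheafToSheaf (Opens.grothendieckTopology S) AddCommGrpCat.{u}).PreservesMonomorphisms :=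
    preservesMonomorphisms_of_preservesLimitsOfShape _
  exact @Functor.map_mono _ _ _ _ _ hp _ _ _ hm

lemma iotaB_gen {U : Opens S} (σ : LSec g V' U) :
    (iotaB (g := g) h).hom.app (op U) (gen σ) = gen (σ.weaken h) := by
  have h1 := toSheafify_naturality (Opens.grothendieckTopology S)
    (Functor.whiskerRight (secWeaken (g := g) h) AddCommGrpCat.free)
  have h2 := ConcreteCategory.congr_hom (NatTrans.congr_app h1 (op U))
    (FreeAbelianGroup.of σ : FreeAbelianGroup (LSec g V' U))
  refine h2.symm.trans ?_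
  exact congrArg (fun z => (toSheafify (Opens.grothendieckTopology S) (freePsh g V)).app (op U) z)
    (FreeAbelianGroup.map_of_apply σ)

include hg in
theorem res_surjective_of_injective (I : CohTop.Ab S) [Injective I] :
    Function.Surjective (res ((CohTop.pull g).obj I).obj h) := by
  intro t'
  obtain ⟨φ', hφ'⟩ := Phi_surjective hg (V := V') (F := I) t'
  let φ : B g V ⟶ I := Injective.factorThru φ' (iotaB (g := g) h)
  have hφ : iotaB (g := g) h ≫ φ = φ' := Injective.comp_factorThru φ' (iotaB (g := g) h)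
  refine ⟨Phi hg φ, ?_⟩
  apply ext_loc ((CohTop.pull g).obj I) V'
  intro z hz
  obtain ⟨U, σ, hσ⟩ := exists_lsec hg V' z hz
  refine ⟨σ.range hg, σ.range_le hg, hσ, ?_⟩
  rw [res_res, ← hφ', res_Phi hg φ' σ, ← hφ]
  have h1 := res_Phi hg φ (σ.weaken h)
  refine h1.trans ?_
  congr 1
  exact (congrArg (fun z => φ.hom.app (op U) z) (iotaB_gen h σ)).symm

include hg in
theorem isFlasque_pull_of_injective (I : CohTop.Ab S) [Injective I] :
    TopCat.Sheaf.IsFlasque ((CohTop.pull g).obj I) := by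
  constructor
  intro U V i
  rw [AddCommGrpCat.epi_iff_surjective]
  exact res_surjective_of_injective hg i.unop.le I

end Flasque


/-! ### `Ext^q(ℤ[Sec g]^#, F) ≅ H^q(Y, g^* F)` -/

section Main

/-- the morphism `ℤ_Y ⟶ g^* ℤ[Sec g]^#` given by the tautological section -/
noncomputable def tauHom : ZZ Y ⟶ (CohTop.pull g).obj (B g ⊤) := (e0 _).symm (tau hg ⊤)

/-- the comparison `Hom(ℤ[Sec g]^#, F) → Hom(ℤ_Y, g^* F)` -/
noncomputable def thetaHom (F : CohTop.Ab S) : (B g ⊤ ⟶ F) →+ (ZZ Y ⟶ (CohTop.pull g).obj F) where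
  toFun φ := tauHom hg ≫ (CohTop.pull g).map φ
  map_zero' := by rw [Functor.map_zero, comp_zero]
  map_add' φ φ' := by rw [Functor.map_add, Preadditive.comp_add]

lemma e0_thetaHom (F : CohTop.Ab S) (φ : B g ⊤ ⟶ F) : e0 _ (thetaHom hg F φ) = Phi hg φ := by
  change e0 _ (tauHom hg ≫ (CohTop.pull g).map φ) = _
  rw [e0_naturality]
  unfold tauHom Phi
  rw [AddEquiv.apply_symm_apply]

lemma thetaHom_bijective (F : CohTop.Ab S) : Function.Bijective (thetaHom hg F) := by
  have h : (e0 ((CohTop.pull g).obj F)) ∘ (thetaHom hg F) = Phi hg (V := ⊤) (F := F) :=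
    funext (e0_thetaHom hg F)
  have hb : Function.Bijective ((e0 ((CohTop.pull g).obj F)) ∘ (thetaHom hg F)) := by
    rw [h]
    exact ⟨Phi_injective hg, Phi_surjective hg⟩
  exact (Function.Bijective.of_comp_iff' (e0 ((CohTop.pull g).obj F)).bijective _).1 hb

/-- `Hom(ℤ[Sec g]^#, -) ≅ Hom(ℤ_Y, g^* -)` -/
noncomputable def thetaIso :
    preadditiveCoyoneda.obj (op (B g ⊤)) ≅ CohTop.pull g ⋙ preadditiveCoyoneda.obj (op (ZZ Y)) :=
  NatIso.ofComponents
    (fun F => (AddEquiv.ofBijective (thetaHom hg F) (thetaHom_bijective hg F)).toAddCommGrpIso)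
    (fun {F F'} ψ => by
      ext φ
      exact (congrArg (fun m => tauHom hg ≫ m) ((CohTop.pull g).map_comp (φ : B g ⊤ ⟶ F) ψ)).trans
        (Category.assoc _ _ _).symm)

open Groth.Agent.Lib.Helper21.DerPost in
include hg in
theorem ext_iso_H (F : CohTop.Ab S) (q : ℕ) :
    Nonempty (AddCommGrpCat.of (Abelian.Ext.{u} (B g ⊤) F q) ≅
      AddCommGrpCat.of (CohTop.H ((CohTop.pull g).obj F) q)) := by
  have hE : ∀ I : CohTop.Ab S, Injective I → ∀ q : ℕ, 0 < q →
      IsZero (((preadditiveCoyoneda.obj (op (ZZ Y))).rightDerived q).obj ((CohTop.pull g).obj I)) := by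
    intro I hI q hq
    obtain ⟨k, rfl⟩ : ∃ k, q = k + 1 := ⟨q - 1, by omega⟩
    obtain ⟨e4⟩ := Groth.Agent.Lib.Helper23ExtRD.rightDerived_coyoneda_iso (ZZ Y) ((CohTop.pull g).obj I) (k + 1)
    have := isFlasque_pull_of_injective hg I
    have hs : Subsingleton (CohTop.H ((CohTop.pull g).obj I) (k + 1)) := Groth.Agent.S0453.result _ k
    exact IsZero.of_iso (@AddCommGrpCat.isZero_of_subsingleton
      (AddCommGrpCat.of (CohTop.H ((CohTop.pull g).obj I) (k + 1))) hs) e4
  obtain ⟨e1⟩ := Groth.Agent.Lib.Helper23ExtRD.rightDerived_coyoneda_iso (B g ⊤) F q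
  have e2 := (natIsoRightDerived (thetaIso hg) q).app F
  obtain ⟨e3⟩ := Groth.Agent.Lib.Helper21.DerAcyc.nonempty_rightDerived_comp_iso (CohTop.pull g)
    (preadditiveCoyoneda.obj (op (ZZ Y))) hE F q
  obtain ⟨e4⟩ := Groth.Agent.Lib.Helper23ExtRD.rightDerived_coyoneda_iso (ZZ Y) ((CohTop.pull g).obj F) q
  exact ⟨e1.symm ≪≫ e2 ≪≫ e3 ≪≫ e4⟩

end Main

end Groth.Agent.Lib.Seat38.LocalHomeo
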