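import Mathlib

/-!
# Seat38: compactness in the constructible (patch) topology of a spectral space

* `compactSpace_constructible`: a spectral space is compact for its constructible topology
  (stated for the topology `constructibleTopology X` on `X` itself).
* `exists_inter_subset`: for a nonempty downward directed family `𝒰` of quasi-compact opens, a
  quasi-compact open `O` and an open `Ω` containing `⋂₀ 𝒰 ∩ O`, some member `U ∈ 𝒰` has
  `U ∩ O ⊆ Ω`.
-/

set_option autoImplicit false
open TopologicalSpace Topology

namespace Groth.Agent.Lib.Seat38.Patch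

variable {X : Type*} [TopologicalSpace X]

theorem compactSpace_constructible [CompactSpace X] [QuasiSober X] [PrespectralSpace X]
    [QuasiSeparatedSpace X] : @CompactSpace X (constructibleTopology X) :=
  @Function.Surjective.compactSpace (WithConstructibleTopology X) X _ (constructibleTopology X)
    WithTopology.ofTopology (WithTopology.continuous_ofTopology _) _
    (WithTopology.ofTopology_surjective _)

/-- quasi-compact opens are closed in the constructible topology. -/
theorem isClosed_constructible_of_isCompact_isOpen {s : Set X} (hs : IsCompact s) (ho : IsOpen s) :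
    IsClosed[constructibleTopology X] s := by
  have h : IsOpen[constructibleTopology X] sᶜ :=
    IsCompact.isOpen_constructibleTopology_of_isClosed (by rwa [compl_compl]) ho.isClosed_compl
  exact @IsClosed.mk X (constructibleTopology X) s h

/-- opens of a prespectral space are open in the constructible topology. -/
theorem isOpen_constructible_of_isOpen [PrespectralSpace X] {s : Set X} (ho : IsOpen s) :
    IsOpen[constructibleTopology X] s := by
  obtain ⟨S, hS, rfl⟩ := PrespectralSpace.isTopologicalBasis.open_eq_sUnion ho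
  refine @isOpen_sUnion X (constructibleTopology X) S (fun t ht => ?_)
  exact (hS ht).2.isOpen_constructibleTopology_of_isOpen (hS ht).1

/-- closed sets of a prespectral space are closed in the constructible topology. -/
theorem isClosed_constructible_of_isClosed [PrespectralSpace X] {s : Set X} (hc : IsClosed s) :
    IsClosed[constructibleTopology X] s :=
  @IsClosed.mk X (constructibleTopology X) s (isOpen_constructible_of_isOpen hc.isOpen_compl)

/-- **pro-constructible compactness**: if the intersection of a nonempty directed family `𝒰` of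
quasi-compact opens meets the quasi-compact open `O` inside the open `Ω`, then so does a member. -/
theorem exists_inter_subset [CompactSpace X] [QuasiSober X] [PrespectralSpace X]
    [QuasiSeparatedSpace X] (𝒰 : Set (Set X)) (h𝒰 : ∀ U ∈ 𝒰, IsOpen U ∧ IsCompact U)
    (hne : 𝒰.Nonempty) (hdir : ∀ U₁ ∈ 𝒰, ∀ U₂ ∈ 𝒰, ∃ U₃ ∈ 𝒰, U₃ ⊆ U₁ ∩ U₂)
    (O Ω : Set X) (hO : IsOpen O) (hOc : IsCompact O) (hΩ : IsOpen Ω) (h : ⋂₀ 𝒰 ∩ O ⊆ Ω) :
    ∃ U ∈ 𝒰, U ∩ O ⊆ Ω := by
  have hc := compactSpace_constructible (X := X)
  have hK : IsClosed[constructibleTopology X] (O ∩ Ωᶜ) :=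
    @IsClosed.inter X O Ωᶜ (constructibleTopology X)
      (isClosed_constructible_of_isCompact_isOpen hOc hO)
      (isClosed_constructible_of_isClosed hΩ.isClosed_compl)
  have hKc : @IsCompact X (constructibleTopology X) (O ∩ Ωᶜ) :=
    @IsClosed.isCompact X (constructibleTopology X) _ hc hK
  have : Nonempty 𝒰 := hne.to_subtype
  obtain ⟨i, hi⟩ := @IsCompact.elim_directed_family_closed X (constructibleTopology X) (O ∩ Ωᶜ)
    𝒰 _ hKc (fun U => (U : Set X))
    (fun U => isClosed_constructible_of_isCompact_isOpen (h𝒰 U.1 U.2).2 (h𝒰 U.1 U.2).1)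
    (by
      rw [Set.eq_empty_iff_forall_notMem]
      rintro x ⟨⟨hxO, hxΩ⟩, hx⟩
      refine hxΩ (h ⟨?_, hxO⟩)
      rw [Set.mem_sInter]
      intro U hU
      exact Set.mem_iInter.1 hx ⟨U, hU⟩)
    (by
      intro U₁ U₂
      obtain ⟨U₃, hU₃, h₃⟩ := hdir U₁.1 U₁.2 U₂.1 U₂.2
      exact ⟨⟨U₃, hU₃⟩, fun x hx => (h₃ hx).1, fun x hx => (h₃ hx).2⟩)
  refine ⟨i.1, i.2, ?_⟩
  rintro x ⟨hxU, hxO⟩
  by_contra hxΩ
  have : x ∈ (O ∩ Ωᶜ) ∩ (i : Set X) := ⟨⟨hxO, hxΩ⟩, hxU⟩
  rw [hi] at this
  exact this

end Groth.Agent.Lib.Seat38.Patch
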