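import Mathlib

/-!
# Homology of a product of complexes of abelian groups (seat 38)

Elementwise version: a family of morphisms of short complexes (or complexes) of abelian groups
`φ σ : S ⟶ T σ` which is jointly bijective degreewise induces a bijection
`H(S) → ∏ σ, H(T σ)`.

* `ShortComplexPi.bijective_homologyMap`
* `nonempty_homology_iso_pi`
-/

set_option autoImplicit false
universe u w
open CategoryTheory CategoryTheory.Limits

namespace Groth.Agent.Lib.Seat38.PiHomology

section SC

variable {ι : Type w} (S : ShortComplex AddCommGrpCat.{u}) (T : ι → ShortComplex AddCommGrpCat.{u})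
  (φ : ∀ σ, S ⟶ T σ)

lemma homologyπ_surjective (S : ShortComplex AddCommGrpCat.{u}) : Function.Surjective S.homologyπ :=
  (AddCommGrpCat.epi_iff_surjective _).1 inferInstance

lemma iCycles_injective (S : ShortComplex AddCommGrpCat.{u}) : Function.Injective S.iCycles :=
  (AddCommGrpCat.mono_iff_injective _).1 inferInstance

lemma exists_cycle (S : ShortComplex AddCommGrpCat.{u}) (x : S.X₂) (hx : S.g x = 0) :
    ∃ z : S.cycles, S.iCycles z = x :=
  ⟨S.abCyclesIso.inv ⟨x, hx⟩, S.abCyclesIso_inv_apply_iCycles ⟨x, hx⟩⟩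

lemma exists_of_homologyπ_eq_zero (S : ShortComplex AddCommGrpCat.{u}) (z : S.cycles)
    (hz : S.homologyπ z = 0) : ∃ x : S.X₁, S.toCycles x = z := by
  have hex : (ShortComplex.mk S.toCycles S.homologyπ S.toCycles_comp_homologyπ).Exact :=
    ShortComplex.exact_of_g_is_cokernel _ S.homologyIsCokernel
  exact (ShortComplex.ab_exact_iff _).1 hex z hz

lemma iCycles_cyclesMap {S T : ShortComplex AddCommGrpCat.{u}} (f : S ⟶ T) (z : S.cycles) :
    T.iCycles (ShortComplex.cyclesMap f z) = f.τ₂ (S.iCycles z) :=
  ConcreteCategory.congr_hom (ShortComplex.cyclesMap_i f) z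

lemma homologyMap_homologyπ {S T : ShortComplex AddCommGrpCat.{u}} (f : S ⟶ T) (z : S.cycles) :
    ShortComplex.homologyMap f (S.homologyπ z) = T.homologyπ (ShortComplex.cyclesMap f z) :=
  ConcreteCategory.congr_hom (ShortComplex.homologyπ_naturality f) z

lemma iCycles_toCycles (S : ShortComplex AddCommGrpCat.{u}) (x : S.X₁) :
    S.iCycles (S.toCycles x) = S.f x :=
  ConcreteCategory.congr_hom S.toCycles_i x

lemma τ₂_f {S T : ShortComplex AddCommGrpCat.{u}} (f : S ⟶ T) (x : S.X₁) :
    f.τ₂ (S.f x) = T.f (f.τ₁ x) :=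
  (ConcreteCategory.congr_hom f.comm₁₂ x).symm

lemma τ₃_g {S T : ShortComplex AddCommGrpCat.{u}} (f : S ⟶ T) (x : S.X₂) :
    f.τ₃ (S.g x) = T.g (f.τ₂ x) :=
  (ConcreteCategory.congr_hom f.comm₂₃ x).symm

/-- a jointly bijective family of morphisms of short complexes of abelian groups induces a jointly
bijective family on homology -/
theorem bijective_homologyMap
    (h₁ : ∀ y : ∀ σ, (T σ).X₁, ∃ x : S.X₁, ∀ σ, (φ σ).τ₁ x = y σ)
    (h₂ : Function.Bijective (fun (x : S.X₂) (σ : ι) => (φ σ).τ₂ x))
    (h₃ : ∀ x : S.X₃, (∀ σ, (φ σ).τ₃ x = 0) → x = 0) :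
    Function.Bijective (fun (x : S.homology) (σ : ι) => ShortComplex.homologyMap (φ σ) x) := by
  constructor
  · intro x x' hxx'
    obtain ⟨z, rfl⟩ := homologyπ_surjective S x
    obtain ⟨z', rfl⟩ := homologyπ_surjective S x'
    have hz : ∀ σ, (T σ).homologyπ (ShortComplex.cyclesMap (φ σ) (z - z')) = 0 := by
      intro σ
      have h := congrFun hxx' σ
      change ShortComplex.homologyMap (φ σ) (S.homologyπ z) =
        ShortComplex.homologyMap (φ σ) (S.homologyπ z') at h
      rw [homologyMap_homologyπ, homologyMap_homologyπ] at h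
      rw [map_sub, map_sub, h, sub_self]
    choose y hy using fun σ => exists_of_homologyπ_eq_zero (T σ) _ (hz σ)
    obtain ⟨x₁, hx₁⟩ := h₁ y
    have hzz : S.toCycles x₁ = z - z' := by
      apply iCycles_injective S
      rw [iCycles_toCycles]
      apply h₂.1
      funext σ
      change (φ σ).τ₂ (S.f x₁) = (φ σ).τ₂ (S.iCycles (z - z'))
      rw [τ₂_f, hx₁, ← iCycles_toCycles, hy, iCycles_cyclesMap]
    have h0 : S.homologyπ (z - z') = 0 := by
      rw [← hzz]
      exact ConcreteCategory.congr_hom S.toCycles_comp_homologyπ x₁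
    rw [map_sub, sub_eq_zero] at h0
    exact h0
  · intro x
    choose z hz using fun σ => homologyπ_surjective (T σ) (x σ)
    obtain ⟨w, hw⟩ := h₂.2 (fun σ => (T σ).iCycles (z σ))
    have hw' : ∀ σ, (φ σ).τ₂ w = (T σ).iCycles (z σ) := fun σ => congrFun hw σ
    have hgw : S.g w = 0 := by
      apply h₃
      intro σ
      rw [τ₃_g, hw']
      exact ConcreteCategory.congr_hom (T σ).iCycles_g (z σ)
    obtain ⟨c, hc⟩ := exists_cycle S w hgw
    refine ⟨S.homologyπ c, ?_⟩
    funext σ
    change ShortComplex.homologyMap (φ σ) (S.homologyπ c) = x σ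
    rw [homologyMap_homologyπ, ← hz σ]
    congr 1
    apply iCycles_injective (T σ)
    rw [iCycles_cyclesMap, hc, hw']

end SC

section Cx

variable {ι : Type u} {α : Type*} {c : ComplexShape α}
  (K : HomologicalComplex AddCommGrpCat.{u} c) (C : ι → HomologicalComplex AddCommGrpCat.{u} c)
  (π : ∀ σ, K ⟶ C σ)

/-- a degreewise jointly bijective family of morphisms of complexes of abelian groups
identifies the homology of the source with the product of the homologies of the targets -/
theorem nonempty_homology_iso_pi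
    (hπ : ∀ n, Function.Bijective (fun (x : K.X n) (σ : ι) => (π σ).f n x)) (q : α) :
    Nonempty (K.homology q ≅ AddCommGrpCat.of (∀ σ, (C σ).homology q)) := by
  let Φ : K.homology q →+ (∀ σ, (C σ).homology q) :=
    AddMonoidHom.mk' (fun x σ => HomologicalComplex.homologyMap (π σ) q x) (by
      intro a b
      funext σ
      exact map_add _ a b)
  have hΦ : Function.Bijective Φ := by
    refine bijective_homologyMap (K.sc q) (fun σ => (C σ).sc q)
      (fun σ => (HomologicalComplex.shortComplexFunctor _ _ q).map (π σ)) ?_ ?_ ?_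
    · intro y
      obtain ⟨x, hx⟩ := (hπ (c.prev q)).2 y
      exact ⟨x, fun σ => congrFun hx σ⟩
    · exact hπ q
    · intro x hx
      apply (hπ (c.next q)).1
      funext σ
      exact (hx σ).trans (map_zero _).symm
  exact ⟨AddEquiv.toAddCommGrpIso (X := K.homology q) (Y := AddCommGrpCat.of _)
    (AddEquiv.ofBijective Φ hΦ)⟩

end Cx

end Groth.Agent.Lib.Seat38.PiHomology
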