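import Groth.Agent.Lib.Seat38SheafLocal
import Groth.Agent.Lib.Seat38ClosedCech
import Groth.Agent.Lib.Seat38DescentTop
import Groth.Agent.Lib.Helper16ClosedEmb
import Groth.Agent.Lib.Helper23ExtRD
import Groth.Agent.Lib.Seat38PiHomology

/-!
# Cohomology of a locally finite product of sheaves pushed forward from closed subspaces (seat 38)

For a locally finite family of closed subsets `Z σ` of a space `X` and abelian sheaves `G σ` on
`Z σ`, with inclusions `k σ : Z σ → X`:

* `prod_exact`: a product of exact sequences of sheaves with locally finite middle terms is exact;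
* `JRes`: the product of the pushforwards of injective resolutions of the `G σ` is an injective
  resolution of `∏ σ, (k σ)_* (G σ)`;
* `nonempty_H_prod_iso`: `H^q(X, ∏ σ, (k σ)_* (G σ)) ≅ ∏ σ, H^q(Z σ, G σ)`.
-/

set_option autoImplicit false
universe u
open CategoryTheory CategoryTheory.Limits TopologicalSpace Opposite
open Groth.Agent.Lib.Seat38.SheafLocal Groth.Agent.Lib.Seat38.ClosedCech
  Groth.Agent.Lib.Seat38.ClosedModel

namespace Groth.Agent.Lib.Seat38.ProdRes

variable {X : TopCat.{u}} {ι : Type u}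

lemma secPi_map {A B : ι → CohTop.Ab X} (f : ∀ σ, A σ ⟶ B σ) (W : Opens X)
    (a : (∏ᶜ A).obj.obj (op W)) (σ : ι) :
    secPi B W ((Limits.Pi.map f).hom.app (op W) a) σ = (f σ).hom.app (op W) (secPi A W a σ) := by
  have h : Limits.Pi.map f ≫ Pi.π B σ = Pi.π A σ ≫ f σ := Limits.Pi.map_π f σ
  have h' := congrArg (fun m => m.hom.app (op W)) h
  exact ConcreteCategory.congr_hom h' a

/-- a family of abelian sheaves is locally finite if every point has a neighbourhood on which all
but finitely many members have no non-zero sections -/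
def LocFin (B : ι → CohTop.Ab X) : Prop :=
  ∀ x : X, ∃ W : Opens X, x ∈ W ∧ ∃ S : Set ι, S.Finite ∧
    ∀ σ, σ ∉ S → ∀ V : Opens X, V ≤ W → ∀ s : (B σ).obj.obj (op V), s = 0

/-- a product of exact sequences of abelian sheaves with locally finite middle terms is exact -/
theorem prod_exact (S : ι → ShortComplex (CohTop.Ab X)) (hS : ∀ σ, (S σ).Exact)
    (hB : LocFin (fun σ => (S σ).X₂)) :
    (ShortComplex.mk (Limits.Pi.map (fun σ => (S σ).f)) (Limits.Pi.map (fun σ => (S σ).g))
      (by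
        rw [Limits.Pi.map_comp_map]
        apply Pi.hom_ext
        intro σ
        rw [Limits.Pi.map_π, (S σ).zero, comp_zero, zero_comp])).Exact := by
  classical
  apply exact_of_local
  intro W b hb x hx
  obtain ⟨W₀, hxW₀, T, hT, hvan⟩ := hB x
  have hbσ : ∀ σ, (S σ).g.hom.app (op W) (secPi (fun σ => (S σ).X₂) W b σ) = 0 := by
    intro σ
    have h1 := secPi_map (fun σ => (S σ).g) W b σ
    rw [← h1]
    exact (congrArg (fun t => secPi (fun σ => (S σ).X₃) W t σ) hb).trans (secPi_zero _ W σ)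
  choose V hV a hxV ha using fun σ => local_of_exact (S σ) (hS σ) W _ (hbσ σ) x hx
  obtain ⟨V', hxV', hV'⟩ := exists_opens_finite_inter T hT V x (fun σ _ => hxV σ)
  let V'' : Opens X := V' ⊓ W₀ ⊓ W
  have hV''W : V'' ≤ W := inf_le_right
  have hV''W₀ : V'' ≤ W₀ := inf_le_left.trans inf_le_right
  have hV''V : ∀ σ ∈ T, V'' ≤ V σ := fun σ hσ => (inf_le_left.trans inf_le_left).trans (hV' σ hσ)
  refine ⟨V'', hV''W, mkPi _ V'' (fun σ => if hσ : σ ∈ T then rs (S σ).X₁ (hV''V σ hσ) (a σ) else 0),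
    ⟨⟨hxV', hxW₀⟩, hx⟩, ?_⟩
  apply secPi_ext
  intro σ
  refine (secPi_map (fun σ => (S σ).f) V'' _ σ).trans ?_
  rw [secPi_mkPi, secPi_rs]
  by_cases hσ : σ ∈ T
  · rw [dif_pos hσ, ← rs_app, ha σ, rs_rs]
  · rw [dif_neg hσ]
    exact (map_zero _).trans (hvan σ hσ V'' hV''W₀ _).symm

section Closed

variable (Z : ι → Set X)

/-- pushforward from the member `Z σ` -/
noncomputable abbrev P (σ : ι) : CohTop.Ab (TopCat.of (Z σ)) ⥤ CohTop.Ab X := CohTop.push (kk (Z σ))

instance P_additive (σ : ι) : (P Z σ).Additive := by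
  have h : ∀ {Y : TopCat.{u}} (f : Y ⟶ X), (CohTop.push f).Additive := fun f => inferInstance
  exact h _

variable {Z}

lemma isClosedEmbedding_kk (hZ : ∀ σ, IsClosed (Z σ)) (σ : ι) :
    Topology.IsClosedEmbedding (kk (Z σ)) := by
  change Topology.IsClosedEmbedding (Subtype.val : Z σ → X)
  exact (hZ σ).isClosedEmbedding_subtypeVal

/-- local finiteness of a family of subsets, in the form used here -/
def LocFinSets (Z : ι → Set X) : Prop :=
  ∀ x : X, ∃ W : Opens X, x ∈ W ∧ ∃ S : Set ι, S.Finite ∧ ∀ σ, σ ∉ S → (W : Set X) ∩ Z σ = ∅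

lemma locFin_push (hlf : LocFinSets Z) (M : ∀ σ, CohTop.Ab (TopCat.of (Z σ))) :
    LocFin (fun σ => (P Z σ).obj (M σ)) := by
  intro x
  obtain ⟨W, hxW, S, hS, hd⟩ := hlf x
  refine ⟨W, hxW, S, hS, ?_⟩
  intro σ hσ V hV s
  have hbot : (Opens.map (kk (Z σ))).obj V = ⊥ := by
    ext z
    simp only [Opens.coe_bot, Set.mem_empty_iff_false, iff_false]
    intro hz
    have : z.1 ∈ (W : Set X) ∩ Z σ := ⟨hV hz, z.2⟩
    rw [hd σ hσ] at this
    exact this
  have := Groth.Agent.Lib.Helper16.ClosedEmb.subsingleton_of_eq_bot (M σ) hbot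
  exact Subsingleton.elim (α := ToType ((M σ).obj.obj (op ((Opens.map (kk (Z σ))).obj V)))) s 0

variable (hZ : ∀ σ, IsClosed (Z σ)) (hlf : LocFinSets Z)
  (G : ∀ σ, CohTop.Ab (TopCat.of (Z σ))) (I : ∀ σ, InjectiveResolution (G σ))

include hZ in
lemma exact_map_P (σ : ι) (S : ShortComplex (CohTop.Ab (TopCat.of (Z σ)))) (hS : S.Exact) :
    (S.map (P Z σ)).Exact := by
  haveI := Groth.Agent.Lib.Helper16.ClosedEmb.push_preservesFiniteColimits (kk (Z σ))
    (isClosedEmbedding_kk hZ σ)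
  haveI := Groth.Agent.Lib.Helper16.ClosedEmb.push_preservesFiniteLimits (kk (Z σ))
  exact hS.map (P Z σ)

/-- the terms of the product resolution -/
noncomputable abbrev JX (n : ℕ) : CohTop.Ab X := ∏ᶜ fun σ => (P Z σ).obj ((I σ).cocomplex.X n)

/-- the differentials of the product resolution -/
noncomputable def Jd (n m : ℕ) : JX G I n ⟶ JX G I m :=
  Limits.Pi.map fun σ => (P Z σ).map ((I σ).cocomplex.d n m)

/-- the product resolution -/
noncomputable def J : CochainComplex (CohTop.Ab X) ℕ where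
  X := JX G I
  d := Jd G I
  shape n m h := by
    apply Pi.hom_ext
    intro σ
    rw [Jd, Limits.Pi.map_π, (I σ).cocomplex.shape n m h, Functor.map_zero, comp_zero, zero_comp]
  d_comp_d' n m l _ _ := by
    rw [Jd, Jd, Limits.Pi.map_comp_map]
    apply Pi.hom_ext
    intro σ
    rw [Limits.Pi.map_π, ← Functor.map_comp, HomologicalComplex.d_comp_d, Functor.map_zero,
      comp_zero, zero_comp]

/-- the product of the sheaves `k_* G σ` -/
noncomputable abbrev PG : CohTop.Ab X := ∏ᶜ fun σ => (P Z σ).obj (G σ)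

/-- the augmentation in degree zero -/
noncomputable def Jε : PG G ⟶ JX G I 0 :=
  Limits.Pi.map fun σ => (P Z σ).map ((I σ).ι.f 0)

lemma Jε_d : Jε G I ≫ (J G I).d 0 1 = 0 := by
  change Jε G I ≫ Jd G I 0 1 = 0
  rw [Jε, Jd, Limits.Pi.map_comp_map]
  apply Pi.hom_ext
  intro σ
  rw [Limits.Pi.map_π, zero_comp]
  have h := congrArg (fun m => (P Z σ).map m) (I σ).ι_f_zero_comp_complex_d
  simp only [Functor.map_comp, Functor.map_zero] at h
  exact (congrArg (fun m => Pi.π (fun σ => (P Z σ).obj (G σ)) σ ≫ m) h).trans comp_zero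

include hZ hlf in
lemma J_exactAt_succ (n : ℕ) : (J G I).ExactAt (n + 1) := by
  rw [HomologicalComplex.exactAt_iff' _ n (n + 1) (n + 2) (by simp) (by simp)]
  exact prod_exact
    (fun σ => (ShortComplex.mk _ _ ((I σ).cocomplex.d_comp_d n (n + 1) (n + 2))).map (P Z σ))
    (fun σ => exact_map_P hZ σ _ ((I σ).exact_succ n))
    (locFin_push hlf (fun σ => (I σ).cocomplex.X (n + 1)))

include hZ hlf in
lemma J_exact_zero : (ShortComplex.mk (Jε G I) ((J G I).d 0 1) (Jε_d G I)).Exact :=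
  prod_exact
    (fun σ => (ShortComplex.mk _ _ (I σ).ι_f_zero_comp_complex_d).map (P Z σ))
    (fun σ => exact_map_P hZ σ _ (ShortComplex.exact_of_f_is_kernel (ShortComplex.mk _ _ (I σ).ι_f_zero_comp_complex_d) (I σ).isLimitKernelFork))
    (locFin_push hlf (fun σ => (I σ).cocomplex.X 0))

instance mono_Jε : Mono (Jε G I) := by
  have h : ∀ σ, Mono ((P Z σ).map ((I σ).ι.f 0)) := fun σ => by
    haveI := Groth.Agent.Lib.Helper16.ClosedEmb.push_preservesFiniteLimits (kk (Z σ))
    infer_instance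
  exact @Limits.Pi.map_mono _ _ _ _ _ _ _ (fun σ => (P Z σ).map ((I σ).ι.f 0)) h

/-- the augmentation -/
noncomputable def Jι : (CochainComplex.single₀ (CohTop.Ab X)).obj (PG G) ⟶ J G I :=
  (CochainComplex.fromSingle₀Equiv _ _).symm ⟨Jε G I, Jε_d G I⟩

lemma Jι_f_zero : (Jι G I).f 0 = Jε G I :=
  CochainComplex.fromSingle₀Equiv_symm_apply_f_zero _ _

include hZ hlf in
lemma quasiIso_Jι : QuasiIso (Jι G I) := ⟨fun n => by
  cases n
  · rw [CochainComplex.quasiIsoAt₀_iff,
      ShortComplex.quasiIso_iff_of_zeros _ rfl rfl ((J G I).shape 0 0 (by simp))]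
    · refine (ShortComplex.exact_and_mono_f_iff_of_iso ?_).2
        ⟨J_exact_zero hZ hlf G I, by dsimp; infer_instance⟩
      exact ShortComplex.isoMk (Iso.refl _) (Iso.refl _) (Iso.refl _)
        ((Category.id_comp _).trans ((Jι_f_zero G I).symm.trans (Category.comp_id _).symm))
        ((Category.id_comp _).trans (Category.comp_id _).symm)
  · rw [quasiIsoAt_iff_exactAt]
    · exact J_exactAt_succ hZ hlf G I _
    · apply CochainComplex.exactAt_succ_single_obj⟩

include hZ hlf in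
/-- the product resolution is an injective resolution -/
noncomputable def JRes : InjectiveResolution (PG G) :=
  haveI := quasiIso_Jι hZ hlf G I
  { cocomplex := J G I
    injective := fun n => by
      haveI : ∀ σ, Injective ((P Z σ).obj ((I σ).cocomplex.X n)) := fun σ => by
        haveI := Groth.Agent.Lib.Helper16.ClosedEmb.push_preservesInjectiveObjects (kk (Z σ))
        exact Functor.injective_obj_of_injective (CohTop.push (kk (Z σ))) ((I σ).injective n)
      change Injective (∏ᶜ fun σ => (P Z σ).obj ((I σ).cocomplex.X n))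
      infer_instance
    ι := Jι G I }

end Closed

section Hom

open Groth.Agent.Lib.Seat38.DescentTop Groth.Agent.Lib.Helper23ExtRD

/-- the constant sheaf `ℤ` -/
noncomputable abbrev cZ (Y : TopCat.{u}) : CohTop.Ab Y :=
  (constantSheaf (Opens.grothendieckTopology Y) AddCommGrpCat.{u}).obj
    (AddCommGrpCat.of (ULift.{u} ℤ))

/-- `k^{-1} ℤ_X ≅ ℤ_Y` -/
noncomputable def pullZ {Y : TopCat.{u}} (k : Y ⟶ X) : (CohTop.pull k).obj (cZ X) ≅ cZ Y :=
  (pullConstIso k).app (AddCommGrpCat.of (ULift.{u} ℤ))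

/-- `Hom(ℤ_X, k_* A) ≃ Hom(ℤ_Y, A)` -/
noncomputable def homPush {Y : TopCat.{u}} (k : Y ⟶ X) (A : CohTop.Ab Y) :
    (cZ X ⟶ (CohTop.push k).obj A) ≃+ (cZ Y ⟶ A) where
  toFun φ := (pullZ k).inv ≫ ((adj k).homEquiv (cZ X) A).symm φ
  invFun ψ := (adj k).homEquiv (cZ X) A ((pullZ k).hom ≫ ψ)
  left_inv φ := by
    beta_reduce
    rw [Iso.hom_inv_id_assoc, Equiv.apply_symm_apply]
  right_inv ψ := by
    beta_reduce
    rw [Equiv.symm_apply_apply, Iso.inv_hom_id_assoc]
  map_add' φ φ' := by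
    have h := map_add ((adj k).homAddEquiv (cZ X) A).symm φ φ'
    simp only [Adjunction.homAddEquiv_symm_apply] at h
    rw [h, Preadditive.comp_add]

lemma homPush_naturality {Y : TopCat.{u}} (k : Y ⟶ X) {A B : CohTop.Ab Y} (f : A ⟶ B)
    (φ : cZ X ⟶ (CohTop.push k).obj A) :
    homPush k B (φ ≫ (CohTop.push k).map f) = homPush k A φ ≫ f := by
  change (pullZ k).inv ≫ ((adj k).homEquiv (cZ X) B).symm (φ ≫ (CohTop.push k).map f) =
    ((pullZ k).inv ≫ ((adj k).homEquiv (cZ X) A).symm φ) ≫ f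
  rw [Adjunction.homEquiv_naturality_right_symm, Category.assoc]

variable {Z : ι → Set X} (hZ : ∀ σ, IsClosed (Z σ)) (hlf : LocFinSets Z)
  (G : ∀ σ, CohTop.Ab (TopCat.of (Z σ))) (I : ∀ σ, InjectiveResolution (G σ))

/-- the components of the comparison maps -/
noncomputable def piHom (σ : ι) (n : ℕ) :
    (cZ X ⟶ JX G I n) →+ (cZ (TopCat.of (Z σ)) ⟶ (I σ).cocomplex.X n) :=
  (homPush (kk (Z σ)) ((I σ).cocomplex.X n)).toAddMonoidHom.comp
    ((preadditiveCoyoneda.obj (op (cZ X))).map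
      (Pi.π (fun σ => (P Z σ).obj ((I σ).cocomplex.X n)) σ)).hom

lemma piHom_apply (σ : ι) (n : ℕ) (φ : cZ X ⟶ JX G I n) :
    piHom G I σ n φ = homPush (kk (Z σ)) ((I σ).cocomplex.X n)
      (φ ≫ Pi.π (fun σ => (P Z σ).obj ((I σ).cocomplex.X n)) σ) := rfl

lemma piHom_d (σ : ι) (n m : ℕ) (φ : cZ X ⟶ JX G I n) :
    piHom G I σ m (φ ≫ Jd G I n m) = piHom G I σ n φ ≫ (I σ).cocomplex.d n m := by
  rw [piHom_apply, piHom_apply, ← homPush_naturality, Category.assoc, Category.assoc]
  congr 2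
  exact Limits.Pi.map_π _ σ

lemma piHom_bijective (n : ℕ) :
    Function.Bijective (fun (φ : cZ X ⟶ JX G I n) (σ : ι) => piHom G I σ n φ) := by
  constructor
  · intro φ φ' h
    apply Pi.hom_ext
    intro σ
    exact (homPush (kk (Z σ)) ((I σ).cocomplex.X n)).injective (congrFun h σ)
  · intro y
    refine ⟨Pi.lift (fun σ => (homPush (kk (Z σ)) ((I σ).cocomplex.X n)).symm (y σ)), ?_⟩
    funext σ
    change piHom G I σ n _ = y σ
    rw [piHom_apply, Pi.lift_π, AddEquiv.apply_symm_apply]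

include hZ hlf in
/-- the cohomology of a locally finite product of pushforwards from closed subspaces -/
theorem nonempty_H_prod_iso (q : ℕ) :
    Nonempty (AddCommGrpCat.of (CohTop.H (PG G) q) ≅
      AddCommGrpCat.of (∀ σ, CohTop.H (G σ) q)) := by
  let I : ∀ σ, InjectiveResolution (G σ) := fun σ => injectiveResolution (G σ)
  let R : InjectiveResolution (PG G) := JRes hZ hlf G I
  let K : CochainComplex AddCommGrpCat.{u} ℕ := homCx R (cZ X)
  let C : ι → CochainComplex AddCommGrpCat.{u} ℕ :=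
    fun σ => homCx (I σ) (cZ (TopCat.of (Z σ)))
  let π : ∀ σ, K ⟶ C σ := fun σ =>
    { f := fun n => AddCommGrpCat.ofHom (piHom G I σ n)
      comm' := fun n m _ => by
        ext φ
        exact (piHom_d G I σ n m φ).symm }
  obtain ⟨e₁⟩ := homology_homCx_iso (X := cZ X) R q
  have e₂ : ∀ σ, Nonempty ((C σ).homology q ≅
      AddCommGrpCat.of (CohTop.H (G σ) q)) := fun σ =>
    homology_homCx_iso (X := cZ (TopCat.of (Z σ))) (I σ) q
  obtain ⟨e₃⟩ := Groth.Agent.Lib.Seat38.PiHomology.nonempty_homology_iso_pi K C π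
    (fun n => piHom_bijective G I n) q
  let e₄ : (∀ σ, (C σ).homology q) ≃+ (∀ σ, CohTop.H (G σ) q) :=
    AddEquiv.piCongrRight (fun σ => (e₂ σ).some.addCommGroupIsoToAddEquiv)
  exact ⟨e₁.symm ≪≫ e₃ ≪≫ AddEquiv.toAddCommGrpIso (X := AddCommGrpCat.of _)
    (Y := AddCommGrpCat.of _) e₄⟩

end Hom

end Groth.Agent.Lib.Seat38.ProdRes
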