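import Groth.Prelude.Def_EtShriek2

/-!
# Restriction along a surjective étale morphism is faithful (seat 38)

For an étale surjective `u : X ⟶ Y`, the restriction functor `EtShriek.restrAlong u` on abelian étale sheaves is
faithful; consequently the counit `u_! u^* F ⟶ F` of `EtShriek.extZeroAdj u` is an epimorphism.
-/

set_option autoImplicit false
universe u
open CategoryTheory CategoryTheory.Limits AlgebraicGeometry Opposite

namespace Groth.Agent.Lib.Seat38.RestrFaithful

variable {X Y : Scheme.{u}}

/-- The object `X ×_Y W → X → Y` of the small étale site of `Y`, mapping to `W` by the first projection. -/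
noncomputable def coverObj (u : X ⟶ Y) [Etale u] (W : Y.Etale) : Y.Etale :=
  (EtShriek.compEtale u).obj ((EtCoh.bc u).obj W)

set_option backward.isDefEq.respectTransparency.types false in
/-- The projection `X ×_Y W ⟶ W` as a morphism of the small étale site of `Y`. -/
noncomputable def coverMap (u : X ⟶ Y) [Etale u] (W : Y.Etale) : coverObj u W ⟶ W :=
  MorphismProperty.Over.homMk (pullback.fst W.hom u) (by
    change pullback.fst W.hom u ≫ W.hom = pullback.snd W.hom u ≫ u
    exact pullback.condition)

set_option backward.isDefEq.respectTransparency.types false in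
lemma coverMap_left (u : X ⟶ Y) [Etale u] (W : Y.Etale) :
    (coverMap u W).left = pullback.fst W.hom u := rfl

set_option backward.isDefEq.respectTransparency.types false in
/-- The single projection `X ×_Y W ⟶ W` generates a covering sieve when `u` is surjective. -/
lemma ofArrows_coverMap_mem (u : X ⟶ Y) [Etale u] [Surjective u] (W : Y.Etale) :
    Sieve.ofArrows (fun _ : Unit => coverObj u W) (fun _ => coverMap u W) ∈ Y.smallEtaleTopology W := by
  have eY : Y.smallEtaleTopology =
      (Y.smallPretopology (P := EtCoh.etaleMP) (Q := EtCoh.etaleMP)).toGrothendieck :=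
    Scheme.smallGrothendieckTopology_eq_toGrothendieck_smallPretopology Y le_rfl
  rw [eY]
  refine (Scheme.mem_toGrothendieck_smallPretopology W _).2 ?_
  intro x
  have hsurj : Surjective (pullback.fst W.hom u) := inferInstance
  obtain ⟨y, hy⟩ := hsurj.surj x
  refine ⟨coverObj u W, coverMap u W, y, ?_, ?_, hy⟩
  · exact Sieve.ofArrows_mk _ _ ()
  · change Etale (pullback.fst W.hom u)
    infer_instance

set_option backward.isDefEq.respectTransparency.types false in
/-- Restriction along a surjective étale morphism is faithful. -/
instance faithful_restrAlong (u : X ⟶ Y) [Etale u] [Surjective u] [EtShriek.JCont u] :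
    (EtShriek.restrAlong u).Faithful where
  map_injective {F G} α β h := by
    apply Sheaf.hom_ext
    ext W : 2
    induction W using Opposite.rec with | _ W => ?_
    have hV : α.hom.app (op (coverObj u W)) = β.hom.app (op (coverObj u W)) := by
      have := congrArg (fun γ => γ.hom.app (op ((EtCoh.bc u).obj W))) h
      exact this
    refine Presheaf.IsSheaf.hom_ext_ofArrows G.property (fun _ : Unit => coverMap u W)
      (ofArrows_coverMap_mem u W) ?_
    intro _
    rw [← α.hom.naturality, ← β.hom.naturality, hV]

/-- The counit `u_! u^* F ⟶ F` is an epimorphism for `u` étale and surjective. -/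
theorem epi_counit (u : X ⟶ Y) [Etale u] [Surjective u] [EtShriek.JCont u] (F : EtCoh.Ab Y) :
    Epi ((EtShriek.extZeroAdj u).counit.app F) :=
  inferInstance

end Groth.Agent.Lib.Seat38.RestrFaithful
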