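import Mathlib.Algebra.Homology.Homotopy
import Mathlib.CategoryTheory.Limits.Shapes.BinaryBiproducts
import Mathlib.CategoryTheory.Preadditive.Biproducts

/-!
# A complex whose terms are retracts of objects `E m` is homotopy equivalent to a complex with terms
# `E m ⊞ (E (m-1) ⊞ (⋯ ⊞ E 0))` (seat 38)

Let `Y` be an `ℕ`-indexed cochain complex in a preadditive category with binary biproducts, and for each `m` let
`e m : Y.X m ⟶ E m`, `ρ m : E m ⟶ Y.X m` with `e m ≫ ρ m = 𝟙`.  We construct a cochain complex `K` with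
`K.X 0 = E 0`, `K.X (m+1) = E (m+1) ⊞ K.X m` (on the nose), chain maps `i : Y ⟶ K`, `r : K ⟶ Y` with `i ≫ r = 𝟙`
and a homotopy `r ≫ i ∼ 𝟙`.  (A finite Eilenberg swindle: `K ≅ Y ⊕ (contractible)`.)
-/

set_option autoImplicit false
set_option linter.unusedSectionVars false
universe v u
open CategoryTheory CategoryTheory.Limits

namespace Groth.Agent.Lib.Seat38.RetractCx

variable {A : Type u} [Category.{v} A] [Preadditive A] [HasBinaryBiproducts A]

section Objects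

variable (E : ℕ → A)

/-- `S 0 = E 0`, `S (m+1) = E (m+1) ⊞ S m`. -/
noncomputable def S : ℕ → A
  | 0 => E 0
  | (m + 1) => E (m + 1) ⊞ S m

lemma S_zero : S E 0 = E 0 := rfl
lemma S_succ (m : ℕ) : S E (m + 1) = (E (m + 1) ⊞ S E m) := rfl

/-! ### the biproduct API for `S E (m+1)` -/

/-- first projection -/
noncomputable def fstS (m : ℕ) : S E (m + 1) ⟶ E (m + 1) := (biprod.fst : E (m + 1) ⊞ S E m ⟶ _)
/-- second projection -/
noncomputable def sndS (m : ℕ) : S E (m + 1) ⟶ S E m := (biprod.snd : E (m + 1) ⊞ S E m ⟶ _)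
/-- first inclusion -/
noncomputable def inlS (m : ℕ) : E (m + 1) ⟶ S E (m + 1) := (biprod.inl : _ ⟶ E (m + 1) ⊞ S E m)
/-- second inclusion -/
noncomputable def inrS (m : ℕ) : S E m ⟶ S E (m + 1) := (biprod.inr : _ ⟶ E (m + 1) ⊞ S E m)
/-- pairing -/
noncomputable def liftS {m : ℕ} {W : A} (a : W ⟶ E (m + 1)) (b : W ⟶ S E m) : W ⟶ S E (m + 1) :=
  (biprod.lift a b : W ⟶ E (m + 1) ⊞ S E m)
/-- diagonal map -/
noncomputable def mapS {m : ℕ} (a : E (m + 1) ⟶ E (m + 1)) (b : S E m ⟶ S E m) : S E (m + 1) ⟶ S E (m + 1) :=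
  (biprod.map a b : E (m + 1) ⊞ S E m ⟶ E (m + 1) ⊞ S E m)

variable {E}

@[reassoc (attr := simp)]
lemma liftS_fstS {m : ℕ} {W : A} (a : W ⟶ E (m + 1)) (b : W ⟶ S E m) : liftS E a b ≫ fstS E m = a :=
  biprod.lift_fst _ _
@[reassoc (attr := simp)]
lemma liftS_sndS {m : ℕ} {W : A} (a : W ⟶ E (m + 1)) (b : W ⟶ S E m) : liftS E a b ≫ sndS E m = b :=
  biprod.lift_snd _ _
@[reassoc (attr := simp)]
lemma inlS_fstS (m : ℕ) : inlS E m ≫ fstS E m = 𝟙 _ := biprod.inl_fst
@[reassoc (attr := simp)]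
lemma inlS_sndS (m : ℕ) : inlS E m ≫ sndS E m = 0 := biprod.inl_snd
@[reassoc (attr := simp)]
lemma inrS_fstS (m : ℕ) : inrS E m ≫ fstS E m = 0 := biprod.inr_fst
@[reassoc (attr := simp)]
lemma inrS_sndS (m : ℕ) : inrS E m ≫ sndS E m = 𝟙 _ := biprod.inr_snd
@[reassoc (attr := simp)]
lemma mapS_fstS {m : ℕ} (a : E (m + 1) ⟶ E (m + 1)) (b : S E m ⟶ S E m) :
    mapS E a b ≫ fstS E m = fstS E m ≫ a := biprod.map_fst _ _
@[reassoc (attr := simp)]
lemma mapS_sndS {m : ℕ} (a : E (m + 1) ⟶ E (m + 1)) (b : S E m ⟶ S E m) :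
    mapS E a b ≫ sndS E m = sndS E m ≫ b := biprod.map_snd _ _
@[reassoc (attr := simp)]
lemma inlS_mapS {m : ℕ} (a : E (m + 1) ⟶ E (m + 1)) (b : S E m ⟶ S E m) :
    inlS E m ≫ mapS E a b = a ≫ inlS E m := biprod.inl_map _ _

lemma hom_ext_S {m : ℕ} {W : A} {f g : W ⟶ S E (m + 1)} (h₁ : f ≫ fstS E m = g ≫ fstS E m)
    (h₂ : f ≫ sndS E m = g ≫ sndS E m) : f = g :=
  biprod.hom_ext (X := E (m + 1)) (Y := S E m) f g h₁ h₂

lemma total_S (m : ℕ) : fstS E m ≫ inlS E m + sndS E m ≫ inrS E m = 𝟙 _ :=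
  biprod.total (X := E (m + 1)) (Y := S E m)

variable (E)

/-- projection to the top summand -/
noncomputable def top : ∀ m, S E m ⟶ E m
  | 0 => 𝟙 _
  | (m + 1) => fstS E m

/-- inclusion of the top summand -/
noncomputable def inn : ∀ m, E m ⟶ S E m
  | 0 => 𝟙 _
  | (m + 1) => inlS E m

lemma top_zero : top E 0 = 𝟙 (E 0) := rfl
lemma top_succ (m : ℕ) : top E (m + 1) = fstS E m := rfl
lemma inn_zero : inn E 0 = 𝟙 (E 0) := rfl
lemma inn_succ (m : ℕ) : inn E (m + 1) = inlS E m := rfl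

@[reassoc (attr := simp)]
lemma inn_top (m : ℕ) : inn E m ≫ top E m = 𝟙 _ := by
  cases m
  · exact Category.id_comp _
  · exact inlS_fstS _

variable (π : ∀ m, E m ⟶ E m)

/-- the two complementary "alternating" projectors on `S m` -/
noncomputable def PQ : ∀ m, (S E m ⟶ S E m) × (S E m ⟶ S E m)
  | 0 => (𝟙 _ - π 0, π 0)
  | (m + 1) => (mapS E (𝟙 _ - π (m + 1)) (PQ m).2, mapS E (π (m + 1)) (PQ m).1)

/-- the projector `P m` -/
noncomputable def P (m : ℕ) : S E m ⟶ S E m := (PQ E π m).1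
/-- the projector `Q m` -/
noncomputable def Q (m : ℕ) : S E m ⟶ S E m := (PQ E π m).2

lemma P_zero : P E π 0 = (𝟙 (E 0) - π 0 : E 0 ⟶ E 0) := rfl
lemma Q_zero : Q E π 0 = (π 0 : E 0 ⟶ E 0) := rfl
lemma P_succ (m : ℕ) : P E π (m + 1) = mapS E (𝟙 _ - π (m + 1)) (Q E π m) := rfl
lemma Q_succ (m : ℕ) : Q E π (m + 1) = mapS E (π (m + 1)) (P E π m) := rfl

lemma P_add_Q (m : ℕ) : P E π m + Q E π m = 𝟙 _ := by
  induction m with
  | zero => exact sub_add_cancel (𝟙 (E 0)) (π 0)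
  | succ m ih =>
    rw [P_succ, Q_succ]
    apply hom_ext_S
    · simp
    · rw [Preadditive.add_comp, mapS_sndS, mapS_sndS, ← Preadditive.comp_add, add_comm (Q E π m), ih,
        Category.comp_id, Category.id_comp]

variable (hπ : ∀ m, π m ≫ π m = π m)
include hπ

lemma P_comp_Q_and (m : ℕ) : P E π m ≫ Q E π m = 0 ∧ Q E π m ≫ P E π m = 0 := by
  induction m with
  | zero =>
    constructor
    · change (𝟙 (E 0) - π 0) ≫ π 0 = 0
      rw [Preadditive.sub_comp, Category.id_comp, hπ, sub_self]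
    · change π 0 ≫ (𝟙 (E 0) - π 0) = 0
      rw [Preadditive.comp_sub, Category.comp_id, hπ, sub_self]
  | succ m ih =>
    rw [P_succ, Q_succ]
    constructor
    · apply hom_ext_S
      · simp [hπ]
      · simp [ih.2]
    · apply hom_ext_S
      · simp [hπ]
      · simp [ih.1]

lemma P_comp_Q (m : ℕ) : P E π m ≫ Q E π m = 0 := (P_comp_Q_and E π hπ m).1
lemma Q_comp_P (m : ℕ) : Q E π m ≫ P E π m = 0 := (P_comp_Q_and E π hπ m).2

lemma P_comp_P (m : ℕ) : P E π m ≫ P E π m = P E π m := by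
  have h := P_add_Q E π m
  calc P E π m ≫ P E π m = P E π m ≫ (𝟙 _ - Q E π m) := by rw [← h, add_sub_cancel_right]
    _ = P E π m := by rw [Preadditive.comp_sub, Category.comp_id, P_comp_Q E π hπ, sub_zero]

omit hπ in
lemma inn_comp_P (m : ℕ) : inn E m ≫ P E π m = (𝟙 _ - π m) ≫ inn E m := by
  cases m
  · exact (Category.id_comp _).trans (Category.comp_id _).symm
  · rw [P_succ, inn_succ]; exact inlS_mapS _ _

omit hπ in
lemma P_comp_top (m : ℕ) : P E π m ≫ top E m = top E m ≫ (𝟙 _ - π m) := by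
  cases m
  · exact (Category.comp_id _).trans (Category.id_comp _).symm
  · rw [P_succ, top_succ]; exact mapS_fstS _ _

end Objects

section Complex

variable (Y : CochainComplex A ℕ) (E : ℕ → A) (e : ∀ m, Y.X m ⟶ E m) (ρ : ∀ m, E m ⟶ Y.X m)
  (he : ∀ m, e m ≫ ρ m = 𝟙 _)

/-- the idempotent `ρ ≫ e` of `E m` -/
def proj (m : ℕ) : E m ⟶ E m := ρ m ≫ e m

include he in
lemma proj_idem (m : ℕ) : proj Y E e ρ m ≫ proj Y E e ρ m = proj Y E e ρ m := by
  unfold proj
  rw [Category.assoc, ← Category.assoc (e m), he, Category.id_comp]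

include he in
@[reassoc]
lemma e_comp_one_sub_proj (m : ℕ) : e m ≫ (𝟙 _ - proj Y E e ρ m) = 0 := by
  unfold proj
  rw [Preadditive.comp_sub, Category.comp_id, ← Category.assoc, he, Category.id_comp, sub_self]

include he in
@[reassoc]
lemma one_sub_proj_comp_ρ (m : ℕ) : (𝟙 _ - proj Y E e ρ m) ≫ ρ m = 0 := by
  unfold proj
  rw [Preadditive.sub_comp, Category.id_comp, Category.assoc, he, Category.comp_id, sub_self]

/-- the differential of `K` -/
noncomputable def dK (m : ℕ) : S E m ⟶ S E (m + 1) :=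
  liftS E (top E m ≫ ρ m ≫ Y.d m (m + 1) ≫ e (m + 1)) (P E (proj Y E e ρ) m)

@[reassoc]
lemma dK_fstS (m : ℕ) :
    dK Y E e ρ m ≫ fstS E m = top E m ≫ ρ m ≫ Y.d m (m + 1) ≫ e (m + 1) :=
  liftS_fstS _ _

@[reassoc]
lemma dK_sndS (m : ℕ) : dK Y E e ρ m ≫ sndS E m = P E (proj Y E e ρ) m :=
  liftS_sndS _ _

include he in
lemma dK_comp_dK (m : ℕ) : dK Y E e ρ m ≫ dK Y E e ρ (m + 1) = 0 := by
  apply hom_ext_S
  · rw [Category.assoc, dK_fstS, top_succ, dK_fstS_assoc, zero_comp]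
    rw [← Category.assoc (e (m + 1)), he, Category.id_comp, ← Category.assoc (Y.d m (m + 1)),
      Y.d_comp_d, zero_comp, comp_zero, comp_zero]
  · rw [Category.assoc, dK_sndS, P_succ, zero_comp]
    apply hom_ext_S
    · rw [Category.assoc, mapS_fstS, dK_fstS_assoc, zero_comp]
      rw [e_comp_one_sub_proj Y E e ρ he, comp_zero, comp_zero, comp_zero]
    · rw [Category.assoc, mapS_sndS, dK_sndS_assoc, zero_comp]
      exact P_comp_Q E _ (proj_idem Y E e ρ he) m

/-- the complex `K` -/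
noncomputable def K : CochainComplex A ℕ :=
  CochainComplex.of (S E) (dK Y E e ρ) (dK_comp_dK Y E e ρ he)

lemma K_X (m : ℕ) : (K Y E e ρ he).X m = S E m := rfl

lemma K_d (m : ℕ) : (K Y E e ρ he).d m (m + 1) = dK Y E e ρ m :=
  CochainComplex.of_d _ _ _

/-- the inclusion `Y ⟶ K` -/
noncomputable def incl : Y ⟶ K Y E e ρ he where
  f m := e m ≫ inn E m
  comm' a b hab := by
    obtain rfl : a + 1 = b := hab
    rw [K_d]
    change (e a ≫ inn E a) ≫ dK Y E e ρ a = Y.d a (a + 1) ≫ e (a + 1) ≫ inlS E a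
    apply hom_ext_S
    · simp only [Category.assoc, dK_fstS, inn_top_assoc, inlS_fstS, Category.comp_id]
      rw [← Category.assoc (e a), he, Category.id_comp]
    · simp only [Category.assoc, dK_sndS, inlS_sndS, comp_zero]
      rw [inn_comp_P, e_comp_one_sub_proj_assoc Y E e ρ he, zero_comp]

/-- the retraction `K ⟶ Y` -/
noncomputable def retr : K Y E e ρ he ⟶ Y where
  f m := top E m ≫ ρ m
  comm' a b hab := by
    obtain rfl : a + 1 = b := hab
    rw [K_d]
    change (top E a ≫ ρ a) ≫ Y.d a (a + 1) = dK Y E e ρ a ≫ fstS E a ≫ ρ (a + 1)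
    rw [dK_fstS_assoc]
    simp only [Category.assoc]
    rw [he, Category.comp_id]

lemma incl_f (m : ℕ) : (incl Y E e ρ he).f m = e m ≫ inn E m := rfl
lemma retr_f (m : ℕ) : (retr Y E e ρ he).f m = top E m ≫ ρ m := rfl

lemma incl_retr : incl Y E e ρ he ≫ retr Y E e ρ he = 𝟙 Y := by
  ext m
  rw [HomologicalComplex.comp_f, incl_f, retr_f, HomologicalComplex.id_f]
  change (e m ≫ inn E m) ≫ top E m ≫ ρ m = 𝟙 (Y.X m)
  rw [Category.assoc, inn_top_assoc, he]

/-- the contracting maps -/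
noncomputable def hK (m : ℕ) : S E (m + 1) ⟶ S E m := sndS E m ≫ P E (proj Y E e ρ) m

include he in
lemma hK_comp_dK (m : ℕ) :
    hK Y E e ρ m ≫ dK Y E e ρ m = sndS E m ≫ P E (proj Y E e ρ) m ≫ inrS E m := by
  unfold hK
  apply hom_ext_S
  · simp only [Category.assoc, dK_fstS, inrS_fstS, comp_zero]
    rw [← Category.assoc (P E (proj Y E e ρ) m), P_comp_top]
    simp only [Category.assoc]
    rw [one_sub_proj_comp_ρ_assoc Y E e ρ he]
    simp
  · simp only [Category.assoc, dK_sndS, inrS_sndS, Category.comp_id]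
    rw [P_comp_P E _ (proj_idem Y E e ρ he)]

include he in
lemma homotopy_zero : 𝟙 (S E 0) - (top E 0 ≫ ρ 0) ≫ (e 0 ≫ inn E 0) = dK Y E e ρ 0 ≫ hK Y E e ρ 0 := by
  unfold hK
  rw [dK_sndS_assoc, P_comp_P E _ (proj_idem Y E e ρ he)]
  change 𝟙 (E 0) - (𝟙 (E 0) ≫ ρ 0) ≫ (e 0 ≫ 𝟙 (E 0)) = 𝟙 (E 0) - proj Y E e ρ 0
  simp [proj]

include he in
lemma homotopy_succ (m : ℕ) :
    𝟙 (S E (m + 1)) - (top E (m + 1) ≫ ρ (m + 1)) ≫ (e (m + 1) ≫ inn E (m + 1)) =
      dK Y E e ρ (m + 1) ≫ hK Y E e ρ (m + 1) + hK Y E e ρ m ≫ dK Y E e ρ m := by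
  rw [hK_comp_dK Y E e ρ he]
  unfold hK
  rw [dK_sndS_assoc, P_comp_P E _ (proj_idem Y E e ρ he), P_succ, top_succ, inn_succ]
  apply hom_ext_S
  · simp only [Preadditive.sub_comp, Preadditive.add_comp, Category.assoc, Category.id_comp, inlS_fstS,
      Category.comp_id, mapS_fstS, inrS_fstS, comp_zero, add_zero, Preadditive.comp_sub, proj]
  · simp only [Preadditive.sub_comp, Preadditive.add_comp, Category.assoc, Category.id_comp, inlS_sndS,
      comp_zero, sub_zero, mapS_sndS, inrS_sndS, Category.comp_id]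
    rw [← Preadditive.comp_add, add_comm (Q E (proj Y E e ρ) m), P_add_Q, Category.comp_id]

/-- the homotopy between `𝟙 K` and `retr ≫ incl` -/
noncomputable def homotopy : Homotopy (𝟙 (K Y E e ρ he)) (retr Y E e ρ he ≫ incl Y E e ρ he) where
  hom i j := if h : j + 1 = i then
      (eqToHom (congrArg (S E) h.symm) : S E i ⟶ S E (j + 1)) ≫ hK Y E e ρ j else 0
  zero i j hij := dif_neg hij
  comm i := by
    rw [HomologicalComplex.id_f, HomologicalComplex.comp_f, retr_f, incl_f, Homotopy.dNext_cochainComplex]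
    cases i with
    | zero =>
      rw [Homotopy.prevD_zero_cochainComplex, add_zero, dif_pos rfl, K_d, eqToHom_refl]
      change 𝟙 (S E 0) = dK Y E e ρ 0 ≫ 𝟙 (S E (0 + 1)) ≫ hK Y E e ρ 0 + (top E 0 ≫ ρ 0) ≫ e 0 ≫ inn E 0
      rw [Category.id_comp]
      have := homotopy_zero Y E e ρ he
      rw [sub_eq_iff_eq_add] at this
      exact this
    | succ m =>
      rw [Homotopy.prevD_succ_cochainComplex, dif_pos rfl, dif_pos rfl, K_d, K_d, eqToHom_refl, eqToHom_refl]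
      change 𝟙 (S E (m + 1)) = dK Y E e ρ (m + 1) ≫ 𝟙 (S E (m + 1 + 1)) ≫ hK Y E e ρ (m + 1) +
        (𝟙 (S E (m + 1)) ≫ hK Y E e ρ m) ≫ dK Y E e ρ m +
          (top E (m + 1) ≫ ρ (m + 1)) ≫ e (m + 1) ≫ inn E (m + 1)
      rw [Category.id_comp, Category.id_comp]
      have := homotopy_succ Y E e ρ he m
      rw [sub_eq_iff_eq_add] at this
      exact this

end Complex

end Groth.Agent.Lib.Seat38.RetractCx
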