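import Mathlib.LinearAlgebra.RootSystem.Base
import Mathlib.LinearAlgebra.RootSystem.Chain

/-!
# Bases of integral root pairings: reflection in a simple root (seat 38)

For a root pairing `P` over `ℤ` (arbitrary abelian groups `M`, `N`; no reducedness or torsion-freeness assumed) and a
`P.Base`:

* `mapBase`, `reflectBase`: transport of a base along a reflection (after Seat65RootChC, but over any commutative ring);
* `height_reflectBase`, `isPos_reflectBase`: positivity for the reflected base;
* `isPos_reflectionPerm_of_ne`: a simple reflection permutes the positive roots other than the simple root itself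
  (Mathlib's `IsPos.reflectionPerm` without the reducedness hypothesis);
* `mem_closure_iff_isPos`: `P.root a ∈ AddSubmonoid.closure (P.root '' b.support) ↔ b.IsPos a`;
* `exists_base_pos_subset_inter_neg`: Bourbaki Lie VI §1.7: two closed sets of roots containing positive systems with
  union everything: `R₁ ∩ (-R₂)` contains a positive system.
-/

set_option autoImplicit false
set_option linter.unusedSectionVars false
set_option linter.unusedVariables false

open Set Function

namespace Groth.Agent.Lib.Seat38.RootBase

section General

variable {ι R M N : Type*} [CommRing R] [AddCommGroup M] [Module R M] [AddCommGroup N] [Module R N]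
  {P : RootPairing ι R M N}

/-- Transport of a base along a permutation of the indices induced by linear automorphisms. -/
def mapBase (b : P.Base) (σ : ι ≃ ι) (g : M ≃ₗ[R] M) (g' : N ≃ₗ[R] N)
    (hg : ∀ i, g (P.root i) = P.root (σ i)) (hg' : ∀ i, g' (P.coroot i) = P.coroot (σ i)) :
    P.Base where
  support := b.support.map σ.toEmbedding
  linearIndepOn_root := by
    rw [Finset.coe_map]
    apply LinearIndepOn.image_of_comp
    have : (P.root ∘ (σ.toEmbedding : ι → ι)) = g ∘ P.root := by
      ext i; simp [hg]
    rw [this]
    exact b.linearIndepOn_root.map_injOn g.toLinearMap g.injective.injOn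
  linearIndepOn_coroot := by
    rw [Finset.coe_map]
    apply LinearIndepOn.image_of_comp
    have : (P.coroot ∘ (σ.toEmbedding : ι → ι)) = g' ∘ P.coroot := by
      ext i; simp [hg']
    rw [this]
    exact b.linearIndepOn_coroot.map_injOn g'.toLinearMap g'.injective.injOn
  root_mem_or_neg_mem i := by
    have himg : P.root '' ((b.support.map σ.toEmbedding : Finset ι) : Set ι) =
        g '' (P.root '' (b.support : Set ι)) := by
      rw [Finset.coe_map, ← Set.image_comp, ← Set.image_comp]
      apply Set.image_congr
      intro k _
      simp [hg]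
    have hcl : AddSubmonoid.closure (P.root '' ((b.support.map σ.toEmbedding : Finset ι) : Set ι)) =
        (AddSubmonoid.closure (P.root '' (b.support : Set ι))).map g.toAddMonoidHom := by
      rw [himg, AddMonoidHom.map_mclosure]
      rfl
    rw [hcl]
    have hi : P.root i = g (P.root (σ.symm i)) := by simp [hg]
    rcases b.root_mem_or_neg_mem (σ.symm i) with h | h
    · left
      rw [hi]
      exact AddSubmonoid.mem_map_of_mem g.toAddMonoidHom h
    · right
      rw [hi, ← map_neg]
      exact AddSubmonoid.mem_map_of_mem g.toAddMonoidHom h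
  coroot_mem_or_neg_mem i := by
    have himg : P.coroot '' ((b.support.map σ.toEmbedding : Finset ι) : Set ι) =
        g' '' (P.coroot '' (b.support : Set ι)) := by
      rw [Finset.coe_map, ← Set.image_comp, ← Set.image_comp]
      apply Set.image_congr
      intro k _
      simp [hg']
    have hcl : AddSubmonoid.closure
        (P.coroot '' ((b.support.map σ.toEmbedding : Finset ι) : Set ι)) =
        (AddSubmonoid.closure (P.coroot '' (b.support : Set ι))).map g'.toAddMonoidHom := by
      rw [himg, AddMonoidHom.map_mclosure]
      rfl
    rw [hcl]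
    have hi : P.coroot i = g' (P.coroot (σ.symm i)) := by simp [hg']
    rcases b.coroot_mem_or_neg_mem (σ.symm i) with h | h
    · left
      rw [hi]
      exact AddSubmonoid.mem_map_of_mem g'.toAddMonoidHom h
    · right
      rw [hi, ← map_neg]
      exact AddSubmonoid.mem_map_of_mem g'.toAddMonoidHom h

/-- The reflection of a base in a root. -/
def reflectBase (b : P.Base) (j : ι) : P.Base :=
  mapBase b (P.reflectionPerm j) (P.reflection j) (P.coreflection j)
    (fun i => (P.root_reflectionPerm j i).symm) (fun i => (P.coroot_reflectionPerm j i).symm)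

lemma reflectBase_support (b : P.Base) (j : ι) :
    (reflectBase b j).support = b.support.map (P.reflectionPerm j).toEmbedding := rfl

lemma mem_reflectBase_support (b : P.Base) (j i : ι) :
    i ∈ (reflectBase b j).support ↔ P.reflectionPerm j i ∈ b.support := by
  simp only [reflectBase_support, Finset.mem_map, Equiv.coe_toEmbedding]
  constructor
  · rintro ⟨k, hk, rfl⟩
    simpa using hk
  · intro h
    exact ⟨_, h, by simp⟩

lemma root_neg (i : ι) : P.root (P.reflectionPerm i i) = - P.root i := by
  rw [RootPairing.root_reflectionPerm, RootPairing.reflection_apply_self]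

lemma coroot_neg (i : ι) : P.coroot (P.reflectionPerm i i) = - P.coroot i := by
  rw [RootPairing.coroot_reflectionPerm, RootPairing.coreflection_apply_self]

lemma neg_neg_index (i : ι) : P.reflectionPerm (P.reflectionPerm i i) (P.reflectionPerm i i) = i := by
  apply P.root.injective
  rw [root_neg, root_neg, neg_neg]

variable [CharZero R]

/-- Heights for the reflected base. -/
lemma height_reflectBase (b : P.Base) (j i : ι) :
    (reflectBase b j).height i = b.height (P.reflectionPerm j i) := by
  obtain ⟨f, hf₀, hf₁, hf₂⟩ := (reflectBase b j).exists_root_eq_sum_int i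
  rw [RootPairing.Base.height_eq_sum hf₂]
  have h : P.root (P.reflectionPerm j i) =
      ∑ t ∈ b.support, (fun t => f (P.reflectionPerm j t)) t • P.root t := by
    rw [RootPairing.root_reflectionPerm, hf₂, map_sum, reflectBase_support, Finset.sum_map]
    refine Finset.sum_congr rfl fun t _ => ?_
    rw [map_zsmul, Equiv.coe_toEmbedding, ← RootPairing.root_reflectionPerm,
      RootPairing.reflectionPerm_self]
  rw [RootPairing.Base.height_eq_sum h, reflectBase_support, Finset.sum_map]
  rfl

lemma isPos_reflectBase (b : P.Base) (j i : ι) :
    (reflectBase b j).IsPos i ↔ b.IsPos (P.reflectionPerm j i) := by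
  rw [RootPairing.Base.isPos_iff, RootPairing.Base.isPos_iff, height_reflectBase]

lemma isPos_neg_iff (b : P.Base) (i : ι) :
    b.IsPos (P.reflectionPerm i i) ↔ ¬ b.IsPos i := by
  have h := RootPairing.Base.IsPos.neg_iff_not b i
  simpa only [RootPairing.indexNeg_neg] using h

lemma not_isPos_neg_simple (b : P.Base) {j : ι} (hj : j ∈ b.support) :
    ¬ b.IsPos (P.reflectionPerm j j) := by
  rw [isPos_neg_iff, not_not]
  exact RootPairing.Base.isPos_of_mem_support hj

/-- Membership in the monoid generated by the simple roots is positivity. -/
lemma mem_closure_iff_isPos (b : P.Base) (a : ι) :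
    P.root a ∈ AddSubmonoid.closure (P.root '' (b.support : Set ι)) ↔ b.IsPos a := by
  have key : ∀ a : ι, P.root a ∈ AddSubmonoid.closure (P.root '' (b.support : Set ι)) → b.IsPos a := by
    intro a ha
    have aux : ∀ x ∈ AddSubmonoid.closure (P.root '' (b.support : Set ι)),
        ∃ f : ι → ℤ, 0 ≤ f ∧ x = ∑ s ∈ b.support, f s • P.root s := by
      intro x hx
      induction hx using AddSubmonoid.closure_induction with
      | mem x hx =>
        classical
        obtain ⟨s, hs, rfl⟩ := hx
        refine ⟨Pi.single s 1, ?_, ?_⟩
        · intro t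
          by_cases hts : t = s
          · subst hts; simp
          · simp [Pi.single_eq_of_ne hts]
        · rw [Finset.sum_eq_single_of_mem s hs (fun t _ hts => by simp [Pi.single_eq_of_ne hts])]
          simp
      | zero => exact ⟨0, le_refl _, by simp⟩
      | add x y _ _ hx hy =>
        obtain ⟨f, hf, rfl⟩ := hx
        obtain ⟨g, hg, rfl⟩ := hy
        refine ⟨f + g, add_nonneg hf hg, ?_⟩
        simp only [Pi.add_apply, add_smul, Finset.sum_add_distrib]
    obtain ⟨f, hf, hfa⟩ := aux _ ha
    rw [RootPairing.Base.isPos_iff', RootPairing.Base.height_eq_sum hfa]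
    exact Finset.sum_nonneg fun s _ => hf s
  refine ⟨key a, fun ha => ?_⟩
  rcases b.root_mem_or_neg_mem a with h | h
  · exact h
  · exfalso
    rw [← root_neg] at h
    exact (isPos_neg_iff b a).mp (key _ h) ha

end General

section Int

variable {ι M N : Type*} [AddCommGroup M] [AddCommGroup N] {P : RootPairing ι ℤ M N} [Finite ι]

/-- A simple reflection maps a positive root other than the simple root to a positive root (no reducedness or
torsion-freeness needed). -/
lemma isPos_reflectionPerm_of_ne (b : P.Base) {i j : ι} (hi : b.IsPos i) (hj : j ∈ b.support) (hij : i ≠ j) :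
    b.IsPos (P.reflectionPerm j i) := by
  classical
  obtain ⟨f, hf₀, hf₁, hf₂⟩ := b.exists_root_eq_sum_int i
  have hfpos : 0 < f := by
    rcases hf₁ with h | h
    · exact h
    · exfalso
      rw [RootPairing.Base.isPos_iff, RootPairing.Base.height_eq_sum hf₂] at hi
      have : ∑ s ∈ b.support, f s ≤ 0 := Finset.sum_nonpos fun s _ => h.le s
      omega
  set c : ℤ := P.pairing i j with hc
  let f' : ι → ℤ := fun s => if s = j then f s - c else f s
  have hf' : P.root (P.reflectionPerm j i) = ∑ s ∈ b.support, f' s • P.root s := by
    rw [RootPairing.root_reflectionPerm, RootPairing.reflection_apply_root, hf₂]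
    have : ∑ s ∈ b.support, f' s • P.root s =
        ∑ s ∈ b.support, (f s • P.root s - (if s = j then c • P.root j else 0)) := by
      refine Finset.sum_congr rfl fun s _ => ?_
      by_cases hs : s = j
      · subst hs; simp [f', sub_smul]
      · simp [f', hs]
    rw [this, Finset.sum_sub_distrib, Finset.sum_ite_eq' b.support j, if_pos hj]
  have hsupp : f'.support ⊆ b.support := by
    intro s hs
    by_cases hsj : s = j
    · subst hsj; exact hj
    · apply hf₀
      simp only [Function.mem_support, f', if_neg hsj] at hs ⊢
      exact hs
  rcases b.pos_or_neg_of_sum_smul_root_mem f' (by rw [← hf']; exact Set.mem_range_self _) hsupp with h | h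
  · rw [RootPairing.Base.isPos_iff', RootPairing.Base.height_eq_sum hf']
    exact Finset.sum_nonneg fun s _ => h.le s
  · exfalso
    -- all coefficients of `i` other than that of `j` vanish
    have hz : ∀ s, s ≠ j → f s = 0 := by
      intro s hs
      have h1 : f' s ≤ 0 := h.le s
      simp only [f', if_neg hs] at h1
      have h2 : 0 ≤ f s := hfpos.le s
      exact le_antisymm h1 h2
    have hroot : P.root i = f j • P.root j := by
      rw [hf₂, Finset.sum_eq_single_of_mem j hj (fun s _ hs => by rw [hz s hs, zero_smul])]
    set n : ℤ := f j with hn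
    have hn0 : 0 ≤ n := hfpos.le j
    -- `n * ⟨j, i^∨⟩ = 2`
    have h2 : n * P.pairing j i = 2 := by
      have := P.pairing_same i
      rw [← this, ← P.root_coroot_eq_pairing i i, hroot, map_zsmul, LinearMap.smul_apply,
        P.root_coroot_eq_pairing, smul_eq_mul]
    have h4 : P.pairing i j = n * 2 := by
      rw [← P.root_coroot_eq_pairing i j, hroot, map_zsmul, LinearMap.smul_apply,
        P.root_coroot_eq_pairing, P.pairing_same, smul_eq_mul]
    have hn12 : n = 1 ∨ n = 2 := by
      have hdvd : n ∣ 2 := ⟨_, h2.symm⟩
      have hle : n ≤ 2 := Int.le_of_dvd (by norm_num) hdvd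
      have hne : n ≠ 0 := by rintro h0; rw [h0, zero_mul] at h2; omega
      omega
    rcases hn12 with h1 | h2n
    · rw [h1, one_smul] at hroot
      exact hij (P.root.injective hroot)
    · -- `root i = 2 root j`: compare heights of coroots
      rw [h2n] at h2 h4 hroot
      have hp : P.pairing j i = 1 := by omega
      have hrefl : P.reflectionPerm i j = P.reflectionPerm j j := by
        apply P.root.injective
        rw [RootPairing.root_reflectionPerm, RootPairing.reflection_apply_root, hp, one_smul, hroot, root_neg]
        abel
      have hco : P.flip.root (P.reflectionPerm j j) = P.flip.root j + (-4 : ℤ) • P.flip.root i := by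
        change P.coroot (P.reflectionPerm j j) = P.coroot j + (-4 : ℤ) • P.coroot i
        rw [← hrefl, RootPairing.coroot_reflectionPerm, RootPairing.coreflection_apply_coroot, h4]
        rw [neg_smul, sub_eq_add_neg]
        norm_num
      have hh := b.flip.height_add_zsmul hco
      have hj1 : b.flip.height j = 1 := RootPairing.Base.height_one_of_mem_support (b := b.flip) hj
      have hneg : b.flip.height (P.reflectionPerm j j) = - b.flip.height j := by
        have := b.flip.height_reflectionPerm_self j
        simp only [RootPairing.indexNeg_neg] at this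
        exact this
      rw [hneg, hj1] at hh
      simp only [smul_eq_mul] at hh
      omega

/-- A simple reflection permutes the positive roots other than the simple root itself. -/
lemma isPos_reflectionPerm_simple (b : P.Base) {j : ι} (hj : j ∈ b.support) (i : ι) :
    b.IsPos (P.reflectionPerm j i) ↔ (b.IsPos i ∧ i ≠ j) ∨ i = P.reflectionPerm j j := by
  constructor
  · intro h
    by_cases hij : P.reflectionPerm j i = j
    · right
      have := congrArg (P.reflectionPerm j) hij
      simpa using this
    · left
      have h2 := isPos_reflectionPerm_of_ne b h hj hij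
      rw [RootPairing.reflectionPerm_self] at h2
      refine ⟨h2, ?_⟩
      rintro rfl
      exact not_isPos_neg_simple b hj h
  · rintro (⟨hi, hij⟩ | rfl)
    · exact isPos_reflectionPerm_of_ne b hi hj hij
    · rw [RootPairing.reflectionPerm_self]
      exact RootPairing.Base.isPos_of_mem_support hj

/-- Two closed sets of roots, each containing a system of positive roots, whose union is everything: there is a
base `b` all of whose positive roots lie in `R₁` and have their negatives in `R₂`. -/
theorem exists_base_pos_subset_inter_neg (R₁ R₂ : Set ι)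
    (h₂ : ∀ a b c : ι, a ∈ R₂ → b ∈ R₂ → P.root a + P.root b = P.root c → c ∈ R₂)
    (hb₁ : ∃ b : P.Base, ∀ i, b.IsPos i → i ∈ R₁) (hb₂ : ∃ b : P.Base, ∀ i, b.IsPos i → i ∈ R₂)
    (hunion : R₁ ∪ R₂ = Set.univ) :
    ∃ b : P.Base, ∀ i, b.IsPos i → i ∈ R₁ ∧ P.reflectionPerm i i ∈ R₂ := by
  obtain ⟨b₂, hb₂⟩ := hb₂
  -- for every root, it or its negative lies in `R₂`
  have hor : ∀ i, P.reflectionPerm i i ∉ R₂ → i ∈ R₂ := by
    intro i hi
    apply hb₂
    by_contra hni
    exact hi (hb₂ _ ((isPos_neg_iff b₂ i).mpr hni))
  suffices H : ∀ n : ℕ, ∀ b : P.Base, (∀ i, b.IsPos i → i ∈ R₁) →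
      {i | b.IsPos i ∧ P.reflectionPerm i i ∉ R₂}.ncard = n →
      ∃ b : P.Base, ∀ i, b.IsPos i → i ∈ R₁ ∧ P.reflectionPerm i i ∈ R₂ by
    obtain ⟨b₁, hb₁⟩ := hb₁
    exact H _ b₁ hb₁ rfl
  intro n
  induction n with
  | zero =>
    intro b hb hcard
    have hfin : {i | b.IsPos i ∧ P.reflectionPerm i i ∉ R₂}.Finite := Set.toFinite _
    rw [Set.ncard_eq_zero hfin] at hcard
    refine ⟨b, fun i hi => ⟨hb i hi, ?_⟩⟩
    by_contra hni
    have : i ∈ {i | b.IsPos i ∧ P.reflectionPerm i i ∉ R₂} := ⟨hi, hni⟩
    rw [hcard] at this
    exact this
  | succ n ih =>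
    intro b hb hcard
    -- there is a simple root of `b` whose negative is not in `R₂`
    have hex : ∃ j ∈ b.support, P.reflectionPerm j j ∉ R₂ := by
      by_contra hcon
      push Not at hcon
      have hall : ∀ i, b.IsPos i → P.reflectionPerm i i ∈ R₂ := by
        intro i hi
        refine hi.induction_on_add (p := fun i => P.reflectionPerm i i ∈ R₂) hcon ?_
        intro i j k hk hi hj
        refine h₂ _ _ _ hi (hcon j hj) ?_
        rw [root_neg, root_neg, root_neg, hk]
        abel
      have : {i | b.IsPos i ∧ P.reflectionPerm i i ∉ R₂} = ∅ := by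
        ext i
        simp only [Set.mem_ofPred_eq, Set.mem_empty_iff_false, iff_false, not_and, not_not]
        exact hall i
      rw [this, Set.ncard_empty] at hcard
      omega
    obtain ⟨j, hj, hjn⟩ := hex
    have hj2 : j ∈ R₂ := hor j hjn
    have hj1 : P.reflectionPerm j j ∈ R₁ := by
      have : P.reflectionPerm j j ∈ R₁ ∪ R₂ := by rw [hunion]; trivial
      rcases this with h | h
      · exact h
      · exact absurd h hjn
    apply ih (reflectBase b j)
    · intro i hi
      rw [isPos_reflectBase, isPos_reflectionPerm_simple b hj] at hi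
      rcases hi with ⟨hi, -⟩ | rfl
      · exact hb i hi
      · exact hj1
    · have hset : {i | (reflectBase b j).IsPos i ∧ P.reflectionPerm i i ∉ R₂} =
          {i | b.IsPos i ∧ P.reflectionPerm i i ∉ R₂} \ {j} := by
        ext i
        simp only [Set.mem_ofPred_eq, Set.mem_sdiff, Set.mem_singleton_iff, isPos_reflectBase,
          isPos_reflectionPerm_simple b hj]
        constructor
        · rintro ⟨(⟨hi, hij⟩ | rfl), hi'⟩
          · exact ⟨⟨hi, hi'⟩, hij⟩
          · rw [neg_neg_index] at hi'
            exact absurd hj2 hi'
        · rintro ⟨⟨hi, hi'⟩, hij⟩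
          exact ⟨Or.inl ⟨hi, hij⟩, hi'⟩
      rw [hset]
      have hmem : j ∈ {i | b.IsPos i ∧ P.reflectionPerm i i ∉ R₂} :=
        ⟨RootPairing.Base.isPos_of_mem_support hj, hjn⟩
      rw [Set.ncard_sdiff_singleton_of_mem hmem]
      omega

end Int

end Groth.Agent.Lib.Seat38.RootBase
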