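import Mathlib
import Groth.Agent.Lib.Seat38Patch
import Groth.Agent.Lib.Seat38Taut

/-!
# Seat38: tautness of pro-constructible intersections in spectral spaces

A `Fam X` is a nonempty downward directed family of quasi-compact opens of `X` with intersection
`W`.  For `X` spectral and `k : W ⟶ X` the inclusion:
* `Fam.pc`: pro-constructible compactness for the family;
* `Fam.taut_surj_rel`: a section of `k^* G` over `k⁻¹ O` (`O` quasi-compact open) comes from a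
  section of `G` over `U ⊓ O` for some member `U` of the family;
* `Fam.taut_surj`, `Fam.taut_inj`: the absolute statements;
* `Fam.isCompact_pre`: `k⁻¹ O` is quasi-compact.
-/

set_option autoImplicit false
universe u
open CategoryTheory CategoryTheory.Limits TopologicalSpace Opposite Topology

namespace Groth.Agent.Lib.Seat38.SpecTaut

open Groth.Agent.Lib.Seat38.CompactNhd Groth.Agent.Lib.Seat38.SheafLocal
  Groth.Agent.Lib.Seat38.PullUnitLocal Groth.Agent.Lib.Seat38.ClosedModel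
  Groth.Agent.Lib.Seat38.Taut Groth.Agent.Lib.Seat38.Patch

/-- a nonempty downward directed family of quasi-compact opens with intersection `W`. -/
structure Fam (X : TopCat.{u}) where
  /-- membership in the family -/
  P : Opens X → Prop
  /-- the intersection of the family -/
  W : Set X
  qc : ∀ U, P U → IsCompact (U : Set X)
  ne : ∃ U, P U
  dir : ∀ U₁ U₂, P U₁ → P U₂ → ∃ U₃, P U₃ ∧ U₃ ≤ U₁ ⊓ U₂
  mem_W : ∀ x, x ∈ W ↔ ∀ U, P U → x ∈ U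

theorem subsingleton_of_le_bot {Z : TopCat.{u}} (H : CohTop.Ab Z) (V : Opens Z) (hV : V ≤ ⊥)
    (x y : H.obj.obj (op V)) : x = y :=
  TopCat.Sheaf.eq_of_locally_eq' H (fun i : PEmpty.{1} => i.elim) V (fun i => i.elim)
    (hV.trans bot_le) x y (fun i => i.elim)

namespace Fam

variable {X : TopCat.{u}} (𝔉 : Fam X)

lemma subset {U : Opens X} (hU : 𝔉.P U) : 𝔉.W ⊆ (U : Set X) :=
  fun x hx => (𝔉.mem_W x).1 hx U hU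

/-- **pro-constructible compactness** for the family. -/
theorem pc [SpectralSpace X] (O Ω : Opens X) (hO : IsCompact (O : Set X))
    (h : ∀ x ∈ 𝔉.W, x ∈ O → x ∈ Ω) : ∃ U, 𝔉.P U ∧ U ⊓ O ≤ Ω := by
  obtain ⟨s, ⟨U, hU, rfl⟩, hs⟩ := exists_inter_subset {s : Set X | ∃ U, 𝔉.P U ∧ (U : Set X) = s}
    (by rintro s ⟨U, hU, rfl⟩; exact ⟨U.isOpen, 𝔉.qc U hU⟩)
    (by obtain ⟨U, hU⟩ := 𝔉.ne; exact ⟨_, U, hU, rfl⟩)
    (by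
      rintro s₁ ⟨U₁, h₁, rfl⟩ s₂ ⟨U₂, h₂, rfl⟩
      obtain ⟨U₃, h₃, hle⟩ := 𝔉.dir U₁ U₂ h₁ h₂
      exact ⟨_, ⟨U₃, h₃, rfl⟩, fun x hx => hle hx⟩)
    (O : Set X) (Ω : Set X) O.isOpen hO Ω.isOpen
    (by
      rintro x ⟨hx, hxO⟩
      refine h x ((𝔉.mem_W x).2 fun U hU => ?_) hxO
      exact Set.mem_sInter.1 hx _ ⟨U, hU, rfl⟩)
  exact ⟨U, hU, fun x hx => hs ⟨hx.1, hx.2⟩⟩

/-- an open containing `W` contains a member of the family. -/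
theorem pc_top [SpectralSpace X] (Ω : Opens X) (h : 𝔉.W ⊆ (Ω : Set X)) : ∃ U, 𝔉.P U ∧ U ≤ Ω := by
  obtain ⟨U, hU, hle⟩ := 𝔉.pc ⊤ Ω isCompact_univ (fun x hx _ => h hx)
  exact ⟨U, hU, fun x hx => hle ⟨hx, trivial⟩⟩

/-- the inclusion of `W`. -/
noncomputable abbrev k : TopCat.of 𝔉.W ⟶ X := kk 𝔉.W

lemma le_pre {U : Opens X} (hU : 𝔉.P U) (O : Opens X) :
    (Opens.map 𝔉.k).obj O ≤ (Opens.map 𝔉.k).obj (U ⊓ O) :=
  fun z hz => ⟨𝔉.subset hU z.2, hz⟩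

lemma pre_mono {O' O : Opens X} (h : O' ≤ O) :
    (Opens.map 𝔉.k).obj O' ≤ (Opens.map 𝔉.k).obj O := fun _ hz => h hz

/-- `k⁻¹ O` is quasi-compact for `O` quasi-compact open. -/
theorem isCompact_inter [SpectralSpace X] (O : Opens X) (hO : IsCompact (O : Set X)) :
    IsCompact (𝔉.W ∩ (O : Set X)) := by
  refine isCompact_of_finite_subcover ?_
  intro ι Us hUs hcov
  let Ω : Opens X := ⨆ i, ⟨Us i, hUs i⟩
  obtain ⟨U₀, hU₀, hle⟩ := 𝔉.pc O Ω hO (fun x hx hxO => by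
    obtain ⟨i, hi⟩ := Set.mem_iUnion.1 (hcov ⟨hx, hxO⟩)
    exact Opens.mem_iSup.2 ⟨i, hi⟩)
  have hK : IsCompact ((U₀ : Set X) ∩ (O : Set X)) :=
    QuasiSeparatedSpace.inter_isCompact _ _ U₀.isOpen (𝔉.qc U₀ hU₀) O.isOpen hO
  obtain ⟨t, ht⟩ := hK.elim_finite_subcover Us hUs (fun x hx => by
    obtain ⟨i, hi⟩ := Opens.mem_iSup.1 (hle (show x ∈ U₀ ⊓ O from hx))
    exact Set.mem_iUnion.2 ⟨i, hi⟩)
  exact ⟨t, fun x hx => ht ⟨𝔉.subset hU₀ hx.1, hx.2⟩⟩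

theorem isCompact_pre [SpectralSpace X] (O : Opens X) (hO : IsCompact (O : Set X)) :
    IsCompact (((Opens.map 𝔉.k).obj O : Opens (TopCat.of 𝔉.W)) : Set (TopCat.of 𝔉.W)) := by
  rw [Subtype.isCompact_iff]
  have : (Subtype.val '' (((Opens.map 𝔉.k).obj O : Opens (TopCat.of 𝔉.W)) : Set (TopCat.of 𝔉.W)) :
      Set X) = 𝔉.W ∩ (O : Set X) := by
    ext x
    constructor
    · rintro ⟨z, hz, rfl⟩
      exact ⟨z.2, hz⟩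
    · rintro ⟨hx, hxO⟩
      exact ⟨⟨x, hx⟩, hxO, rfl⟩
  rw [this]
  exact 𝔉.isCompact_inter O hO

section Surj

variable [SpectralSpace X] (G : CohTop.Ab X) (O : Opens X)
  (σ : ((CohTop.pull 𝔉.k).obj G).obj.obj (op ((Opens.map 𝔉.k).obj O)))

/-- the inductive predicate: over the quasi-compact open `O' ≤ O` the section `σ` comes from a
section of `G` over `U ⊓ O'` for a member `U` of the family. -/
def Good (O' : Opens X) : Prop :=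
  ∃ (U : Opens X) (hU : 𝔉.P U) (hO' : O' ≤ O) (t : G.obj.obj (op (U ⊓ O'))),
    ev 𝔉.k (unitF 𝔉.k G) (U ⊓ O') ((Opens.map 𝔉.k).obj O') (𝔉.le_pre hU O') t =
      res ((CohTop.pull 𝔉.k).obj G).obj (𝔉.pre_mono hO') σ

omit [SpectralSpace X] in
theorem good_bot : Good 𝔉 G O σ ⊥ := by
  obtain ⟨U, hU⟩ := 𝔉.ne
  exact ⟨U, hU, bot_le, 0, subsingleton_of_le_bot _ _ (fun z hz => (hz : False).elim) _ _⟩

theorem good_local (z : TopCat.of 𝔉.W) (hz : z ∈ (Opens.map 𝔉.k).obj O) :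
    ∃ O' : Opens X, IsCompact (O' : Set X) ∧ 𝔉.k z ∈ O' ∧ Good 𝔉 G O σ O' := by
  obtain ⟨U₀, t₀, W', h1, h2, hzW', he⟩ := unit_LS 𝔉.k G ((Opens.map 𝔉.k).obj O) σ z hz
  obtain ⟨Pset, hPo, hP⟩ := isOpen_induced_iff.1 W'.isOpen
  let N : Opens X := O ⊓ U₀ ⊓ ⟨Pset, hPo⟩
  have hzP : z ∈ Subtype.val ⁻¹' Pset := by
    rw [hP]
    exact hzW'
  have hzN : 𝔉.k z ∈ N := ⟨⟨hz, h2 hzW'⟩, hzP⟩
  obtain ⟨O'set, ⟨hO'o, hO'c⟩, hzO', hO'N⟩ :=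
    PrespectralSpace.isTopologicalBasis.exists_subset_of_mem_open hzN N.isOpen
  let O' : Opens X := ⟨O'set, hO'o⟩
  obtain ⟨U, hU⟩ := 𝔉.ne
  have hO'O : O' ≤ O := fun x hx => (hO'N hx).1.1
  have hle : U ⊓ O' ≤ U₀ := fun x hx => (hO'N hx.2).1.2
  have hkW' : (Opens.map 𝔉.k).obj O' ≤ W' := by
    intro z' hz'
    have : z' ∈ Subtype.val ⁻¹' Pset := (hO'N hz').2
    rw [hP] at this
    exact this
  refine ⟨O', hO'c, hzO', U, hU, hO'O, res G.obj hle t₀, ?_⟩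
  rw [ev_natural]
  have e := ev_res 𝔉.k (unitF 𝔉.k G) U₀ W' ((Opens.map 𝔉.k).obj O') h2 hkW' t₀
  rw [he, res_res] at e
  exact e.symm

theorem good_sup (O₁ O₂ : Opens X) (hc₁ : IsCompact (O₁ : Set X)) (hc₂ : IsCompact (O₂ : Set X))
    (g₁ : Good 𝔉 G O σ O₁) (g₂ : Good 𝔉 G O σ O₂) : Good 𝔉 G O σ (O₁ ⊔ O₂) := by
  obtain ⟨U₁, hU₁, hO₁, t₁, e₁⟩ := g₁
  obtain ⟨U₂, hU₂, hO₂, t₂, e₂⟩ := g₂
  let η := unitF 𝔉.k G
  let H := (CohTop.pull 𝔉.k).obj G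
  let D : Opens X := (U₁ ⊓ O₁) ⊓ (U₂ ⊓ O₂)
  let d : G.obj.obj (op D) := res G.obj inf_le_left t₁ - res G.obj inf_le_right t₂
  let W₁₂ : Opens (TopCat.of 𝔉.W) := (Opens.map 𝔉.k).obj (O₁ ⊓ O₂)
  have hWD : W₁₂ ≤ (Opens.map 𝔉.k).obj D :=
    fun z hz => ⟨⟨𝔉.subset hU₁ z.2, hz.1⟩, ⟨𝔉.subset hU₂ z.2, hz.2⟩⟩
  have hd : ev 𝔉.k η D W₁₂ hWD d = 0 := by
    have a1 : ev 𝔉.k η D W₁₂ hWD (res G.obj inf_le_left t₁) =
        res H.obj (𝔉.pre_mono (inf_le_left.trans hO₁)) σ := by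
      rw [ev_natural]
      have := ev_res 𝔉.k η (U₁ ⊓ O₁) ((Opens.map 𝔉.k).obj O₁) W₁₂ (𝔉.le_pre hU₁ O₁)
        (𝔉.pre_mono inf_le_left) t₁
      rw [e₁, res_res] at this
      exact this.symm
    have a2 : ev 𝔉.k η D W₁₂ hWD (res G.obj inf_le_right t₂) =
        res H.obj (𝔉.pre_mono (inf_le_left.trans hO₁)) σ := by
      rw [ev_natural]
      have := ev_res 𝔉.k η (U₂ ⊓ O₂) ((Opens.map 𝔉.k).obj O₂) W₁₂ (𝔉.le_pre hU₂ O₂)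
        (𝔉.pre_mono inf_le_right) t₂
      rw [e₂, res_res] at this
      exact this.symm
    rw [ev_sub, a1, a2, sub_self]
  obtain ⟨Ω, hΩ, hkΩ, hdΩ⟩ := exists_nhd_res_eq_zero 𝔉.k η (unit_LI 𝔉.k G) D d W₁₂ hWD hd
  obtain ⟨U₃, hU₃, h₃⟩ := 𝔉.pc (O₁ ⊓ O₂) Ω
    (QuasiSeparatedSpace.inter_isCompact _ _ O₁.isOpen hc₁ O₂.isOpen hc₂)
    (fun x hx hxO => hkΩ ⟨x, hx⟩ hxO)
  obtain ⟨U₁₂, hU₁₂, hle₁₂⟩ := 𝔉.dir U₁ U₂ hU₁ hU₂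
  obtain ⟨U, hU, hle⟩ := 𝔉.dir U₁₂ U₃ hU₁₂ hU₃
  have hUU₁ : U ≤ U₁ := hle.trans (inf_le_left.trans (hle₁₂.trans inf_le_left))
  have hUU₂ : U ≤ U₂ := hle.trans (inf_le_left.trans (hle₁₂.trans inf_le_right))
  have hUU₃ : U ≤ U₃ := hle.trans inf_le_right
  let V₁ : Opens X := U ⊓ O₁
  let V₂ : Opens X := U ⊓ O₂
  have hV₁ : V₁ ≤ U₁ ⊓ O₁ := inf_le_inf_right _ hUU₁
  have hV₂ : V₂ ≤ U₂ ⊓ O₂ := inf_le_inf_right _ hUU₂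
  have hV₁₂ : V₁ ⊓ V₂ ≤ Ω := fun x hx => h₃ ⟨hUU₃ hx.1.1, hx.1.2, hx.2.2⟩
  have hcompat : res G.obj (inf_le_left : V₁ ⊓ V₂ ≤ V₁) (res G.obj hV₁ t₁) =
      res G.obj (inf_le_right : V₁ ⊓ V₂ ≤ V₂) (res G.obj hV₂ t₂) := by
    have e := congrArg (res G.obj hV₁₂) hdΩ
    rw [res_zero, res_res, res_sub, res_res, res_res, sub_eq_zero] at e
    rw [res_res, res_res]
    exact e
  obtain ⟨a, ha₁, ha₂⟩ := exists_glue₂ G V₁ V₂ _ _ hcompat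
  have hsup : U ⊓ (O₁ ⊔ O₂) ≤ V₁ ⊔ V₂ := le_of_eq (inf_sup_left _ _ _)
  refine ⟨U, hU, sup_le hO₁ hO₂, res G.obj hsup a, ?_⟩
  have hcov : (Opens.map 𝔉.k).obj (O₁ ⊔ O₂) ≤
      (Opens.map 𝔉.k).obj O₁ ⊔ (Opens.map 𝔉.k).obj O₂ := by
    intro z hz
    rcases hz with hz | hz
    · exact Or.inl hz
    · exact Or.inr hz
  refine TopCat.Sheaf.eq_of_locally_eq₂ H
    (homOfLE (𝔉.pre_mono (le_sup_left : O₁ ≤ O₁ ⊔ O₂)))
    (homOfLE (𝔉.pre_mono (le_sup_right : O₂ ≤ O₁ ⊔ O₂))) hcov _ _ ?_ ?_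
  · have l1 : res H.obj (𝔉.pre_mono (le_sup_left : O₁ ≤ O₁ ⊔ O₂))
        (ev 𝔉.k η (U ⊓ (O₁ ⊔ O₂)) ((Opens.map 𝔉.k).obj (O₁ ⊔ O₂)) (𝔉.le_pre hU _)
          (res G.obj hsup a)) = res H.obj (𝔉.pre_mono hO₁) σ := by
      rw [ev_res, ev_natural]
      have l2 := ev_natural 𝔉.k η (V₁ ⊔ V₂) V₁ le_sup_left ((Opens.map 𝔉.k).obj O₁)
        (𝔉.le_pre hU O₁) a
      rw [ha₁, ev_natural] at l2
      exact l2.symm.trans e₁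
    exact l1.trans (res_res H.obj _ _ σ).symm
  · have l1 : res H.obj (𝔉.pre_mono (le_sup_right : O₂ ≤ O₁ ⊔ O₂))
        (ev 𝔉.k η (U ⊓ (O₁ ⊔ O₂)) ((Opens.map 𝔉.k).obj (O₁ ⊔ O₂)) (𝔉.le_pre hU _)
          (res G.obj hsup a)) = res H.obj (𝔉.pre_mono hO₂) σ := by
      rw [ev_res, ev_natural]
      have l2 := ev_natural 𝔉.k η (V₁ ⊔ V₂) V₂ le_sup_right ((Opens.map 𝔉.k).obj O₂)
        (𝔉.le_pre hU O₂) a
      rw [ha₂, ev_natural] at l2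
      exact l2.symm.trans e₂
    exact l1.trans (res_res H.obj _ _ σ).symm

/-- **relative tautness, surjectivity**: a section of `k^* G` over `k⁻¹ O`, `O` quasi-compact open,
comes from a section of `G` over `U ⊓ O` for a member `U` of the family. -/
theorem taut_surj_rel (hO : IsCompact (O : Set X)) :
    ∃ (U : Opens X) (hU : 𝔉.P U) (t : G.obj.obj (op (U ⊓ O))),
      ev 𝔉.k (unitF 𝔉.k G) (U ⊓ O) ((Opens.map 𝔉.k).obj O) (𝔉.le_pre hU O) t = σ := by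
  classical
  let ι := {O' : Opens X // IsCompact (O' : Set X) ∧ Good 𝔉 G O σ O'}
  let Ω : Opens X := ⨆ i : ι, i.1
  obtain ⟨U₀, hU₀, hle₀⟩ := 𝔉.pc O Ω hO (fun x hx hxO => by
    obtain ⟨O', hO'c, hxO', hg⟩ := good_local 𝔉 G O σ ⟨x, hx⟩ hxO
    exact Opens.mem_iSup.2 ⟨⟨O', hO'c, hg⟩, hxO'⟩)
  have hK : IsCompact ((U₀ : Set X) ∩ (O : Set X)) :=
    QuasiSeparatedSpace.inter_isCompact _ _ U₀.isOpen (𝔉.qc U₀ hU₀) O.isOpen hO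
  have key : ∃ O' : Opens X, IsCompact (O' : Set X) ∧ Good 𝔉 G O σ O' ∧
      (U₀ : Set X) ∩ (O : Set X) ⊆ (O' : Set X) := by
    refine hK.induction_on (p := fun S => ∃ O' : Opens X, IsCompact (O' : Set X) ∧
      Good 𝔉 G O σ O' ∧ S ⊆ (O' : Set X)) ?_ ?_ ?_ ?_
    · exact ⟨⊥, by simp, good_bot 𝔉 G O σ, Set.empty_subset _⟩
    · rintro S T hST ⟨O', hc, hg, hT⟩
      exact ⟨O', hc, hg, hST.trans hT⟩
    · rintro S T ⟨O₁, hc₁, hg₁, hS⟩ ⟨O₂, hc₂, hg₂, hT⟩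
      exact ⟨O₁ ⊔ O₂, hc₁.union hc₂, good_sup 𝔉 G O σ O₁ O₂ hc₁ hc₂ hg₁ hg₂,
        Set.union_subset_union hS hT⟩
    · intro x hx
      obtain ⟨i, hi⟩ := Opens.mem_iSup.1 (hle₀ (show x ∈ U₀ ⊓ O from hx))
      exact ⟨i.1, mem_nhdsWithin_of_mem_nhds (i.1.isOpen.mem_nhds hi), i.1, i.2.1, i.2.2, le_rfl⟩
  obtain ⟨O', -, ⟨U₁, hU₁, hO'O, t, e⟩, hsub⟩ := key
  obtain ⟨U₂, hU₂, hle₂⟩ := 𝔉.dir U₀ U₁ hU₀ hU₁
  have hle : U₂ ⊓ O ≤ U₁ ⊓ O' :=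
    fun x hx => ⟨(hle₂ hx.1).2, hsub ⟨(hle₂ hx.1).1, hx.2⟩⟩
  have hOO' : (Opens.map 𝔉.k).obj O ≤ (Opens.map 𝔉.k).obj O' :=
    fun z hz => hsub ⟨𝔉.subset hU₀ z.2, hz⟩
  refine ⟨U₂, hU₂, res G.obj hle t, ?_⟩
  rw [ev_natural]
  have e' := ev_res 𝔉.k (unitF 𝔉.k G) (U₁ ⊓ O') ((Opens.map 𝔉.k).obj O') ((Opens.map 𝔉.k).obj O)
    (𝔉.le_pre hU₁ O') hOO' t
  rw [e, res_res] at e'
  exact e'.symm.trans (res_self _ σ)

end Surj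

section Abs

variable [SpectralSpace X] (G : CohTop.Ab X)

omit [SpectralSpace X] in
lemma le_map {U : Opens X} (hU : 𝔉.P U) :
    (⊤ : Opens (TopCat.of 𝔉.W)) ≤ (Opens.map 𝔉.k).obj U := fun z _ => 𝔉.subset hU z.2

/-- **tautness, surjectivity**. -/
theorem taut_surj (σ : ((CohTop.pull 𝔉.k).obj G).obj.obj (op ⊤)) :
    ∃ (U : Opens X) (hU : 𝔉.P U) (t : G.obj.obj (op U)),
      ev 𝔉.k (unitF 𝔉.k G) U ⊤ (𝔉.le_map hU) t = σ := by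
  have htop : (⊤ : Opens (TopCat.of 𝔉.W)) ≤ (Opens.map 𝔉.k).obj ⊤ := fun _ _ => trivial
  obtain ⟨σ', hσ'⟩ : ∃ σ' : ((CohTop.pull 𝔉.k).obj G).obj.obj (op ((Opens.map 𝔉.k).obj ⊤)),
      σ' = res ((CohTop.pull 𝔉.k).obj G).obj le_top σ := ⟨_, rfl⟩
  obtain ⟨U, hU, t, ht⟩ := 𝔉.taut_surj_rel G ⊤ σ' isCompact_univ
  refine ⟨U, hU, res G.obj (le_inf le_rfl le_top) t, ?_⟩
  rw [ev_natural]
  have e := ev_res 𝔉.k (unitF 𝔉.k G) (U ⊓ ⊤) ((Opens.map 𝔉.k).obj ⊤) ⊤ (𝔉.le_pre hU ⊤) htop t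
  rw [ht, hσ', res_res] at e
  exact e.symm.trans (res_self _ σ)

/-- **tautness, injectivity**. -/
theorem taut_inj (U : Opens X) (hU : 𝔉.P U) (t : G.obj.obj (op U))
    (h0 : ev 𝔉.k (unitF 𝔉.k G) U ⊤ (𝔉.le_map hU) t = 0) :
    ∃ (U' : Opens X) (hU' : U' ≤ U), 𝔉.P U' ∧ res G.obj hU' t = 0 := by
  obtain ⟨Ω, hΩ, hk, ht⟩ := exists_nhd_res_eq_zero 𝔉.k (unitF 𝔉.k G) (unit_LI 𝔉.k G) U t ⊤
    (𝔉.le_map hU) h0
  obtain ⟨U', hU', hle⟩ := 𝔉.pc_top Ω (fun x hx => hk ⟨x, hx⟩ trivial)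
  refine ⟨U', hle.trans hΩ, hU', ?_⟩
  have := congrArg (res G.obj hle) ht
  rw [res_res, res_zero] at this
  exact this

end Abs

end Fam

end Groth.Agent.Lib.Seat38.SpecTaut
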