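import Mathlib
import Groth.Agent.Lib.Seat38SpecTaut
import Groth.Agent.Lib.Seat38BFlasque
import Groth.Agent.Lib.Seat38TautCoh

/-!
# Seat38: cohomology of pro-constructible intersections in spectral spaces

For a `Fam X` on a spectral space with intersection `W` and inclusion `k`:
* `Fam.basis`: the `QCBasis` of `W` of opens `k⁻¹ O`, `O` quasi-compact open of `X`;
* `Fam.isBFlasque_pull_of_isFlasque`: `k^* G` is flasque for this basis if `G` is flasque;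
* `Fam.qS_surjective`, `Fam.qS_eq_zero_iff`: the presentation of `H^{n+1}(W, k^* F)` as a quotient
  of `Γ(W, k^* Z^{n+1})`.
-/

set_option autoImplicit false
universe u
open CategoryTheory CategoryTheory.Limits TopologicalSpace Opposite Topology Abelian

namespace Groth.Agent.Lib.Seat38.SpecTaut

open Groth.Agent.Lib.Seat38.CompactNhd Groth.Agent.Lib.Seat38.SheafLocal
  Groth.Agent.Lib.Seat38.PullUnitLocal Groth.Agent.Lib.Seat38.ClosedModel
  Groth.Agent.Lib.Seat38.Taut Groth.Agent.Lib.Seat38.BFlasque Groth.Agent.Lib.Seat38.TautCoh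
  Groth.Agent.Lib.Helper16.DimShift Groth.Agent.Lib.Helper16.RpushSh

namespace Fam

variable {X : TopCat.{u}} (𝔉 : Fam X) [SpectralSpace X]

/-- the basis of `W` of preimages of quasi-compact opens of `X`. -/
def basis : QCBasis (TopCat.of 𝔉.W) where
  B V := ∃ O : Opens X, IsCompact (O : Set X) ∧ V = (Opens.map 𝔉.k).obj O
  bot := ⟨⊥, by simp, rfl⟩
  top := ⟨⊤, isCompact_univ, rfl⟩
  inf := by
    rintro _ _ ⟨O, hO, rfl⟩ ⟨O', hO', rfl⟩
    exact ⟨O ⊓ O', QuasiSeparatedSpace.inter_isCompact _ _ O.isOpen hO O'.isOpen hO', rfl⟩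
  sup := by
    rintro _ _ ⟨O, hO, rfl⟩ ⟨O', hO', rfl⟩
    exact ⟨O ⊔ O', hO.union hO', rfl⟩
  qc := by
    rintro _ ⟨O, hO, rfl⟩
    exact 𝔉.isCompact_pre O hO
  basis := by
    intro V z hz
    obtain ⟨Pset, hPo, hP⟩ := isOpen_induced_iff.1 V.isOpen
    have hzP : 𝔉.k z ∈ Pset := by
      have : z ∈ Subtype.val ⁻¹' Pset := by
        rw [hP]
        exact hz
      exact this
    obtain ⟨Oset, ⟨hOo, hOc⟩, hzO, hOP⟩ :=
      PrespectralSpace.isTopologicalBasis.exists_subset_of_mem_open hzP hPo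
    refine ⟨(Opens.map 𝔉.k).obj ⟨Oset, hOo⟩, ⟨⟨Oset, hOo⟩, hOc, rfl⟩, hzO, ?_⟩
    intro z' hz'
    have : z' ∈ Subtype.val ⁻¹' Pset := hOP hz'
    rw [hP] at this
    exact this

/-- the pullback of a flasque sheaf to `W` is flasque with respect to `basis`. -/
theorem isBFlasque_pull_of_isFlasque (G : CohTop.Ab X) [TopCat.Sheaf.IsFlasque G] :
    IsBFlasque 𝔉.basis ((CohTop.pull 𝔉.k).obj G) := by
  rintro _ ⟨O, hO, rfl⟩ σ
  obtain ⟨U, hU, t, ht⟩ := 𝔉.taut_surj_rel G O σ hO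
  have hepi : Epi (G.obj.map (homOfLE (le_top : U ⊓ O ≤ ⊤)).op) :=
    TopCat.Presheaf.IsFlasque.epi _
  obtain ⟨t', ht'⟩ := (AddCommGrpCat.epi_iff_surjective _).1 hepi t
  have htop : (⊤ : Opens (TopCat.of 𝔉.W)) ≤ (Opens.map 𝔉.k).obj ⊤ := fun _ _ => trivial
  refine ⟨ev 𝔉.k (unitF 𝔉.k G) ⊤ ⊤ htop t', ?_⟩
  have h1 : res G.obj le_top t' = t := ht'
  have e := ev_res 𝔉.k (unitF 𝔉.k G) ⊤ ⊤ ((Opens.map 𝔉.k).obj O) htop le_top t'
  have e2 := ev_natural 𝔉.k (unitF 𝔉.k G) ⊤ (U ⊓ O) le_top ((Opens.map 𝔉.k).obj O)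
    (𝔉.le_pre hU O) t'
  rw [h1, ht] at e2
  exact e.trans e2.symm

variable {F : CohTop.Ab X} (I : InjectiveResolution F)

theorem DS_ext_subsingleton (k q : ℕ) :
    Subsingleton (Ext.{u} (CohCx.freeSheaf (Opens.grothendieckTopology (TopCat.of 𝔉.W))
      (⊤ : Opens (TopCat.of 𝔉.W))) ((DS I 𝔉.W).J k) (q + 1)) := by
  have hinj : Injective (I.cocomplex.X k) := I.injective k
  have hfl : TopCat.Sheaf.IsFlasque (I.cocomplex.X k) :=
    Groth.Agent.Lib.Helper16.Flasque.injective_isFlasque _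
  have hB : IsBFlasque 𝔉.basis ((DS I 𝔉.W).J k) := 𝔉.isBFlasque_pull_of_isFlasque (I.cocomplex.X k)
  exact subsingleton_of_forall_eq 0 (fun x => ext_eq_zero_of_isBFlasque 𝔉.basis _ hB q x)

theorem qS_surjective (n : ℕ) : Function.Surjective (qS I (S := 𝔉.W) n) :=
  τapp_cls_surjective' _ (DS I 𝔉.W) n ⊤ (𝔉.DS_ext_subsingleton I)

theorem qS_eq_zero_iff (n : ℕ)
    (σ : ((CohTop.pull (kk 𝔉.W)).obj (ZZ I (n + 1))).obj.obj (op ⊤)) :
    qS I n σ = 0 ↔ ∃ σ' : ((CohTop.pull (kk 𝔉.W)).obj (I.cocomplex.X n)).obj.obj (op ⊤),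
      ((CohTop.pull (kk 𝔉.W)).map (gg I n)).hom.app (op ⊤) σ' = σ :=
  τapp_cls_eq_zero_iff' _ (DS I 𝔉.W) n ⊤ (𝔉.DS_ext_subsingleton I) σ

end Fam

end Groth.Agent.Lib.Seat38.SpecTaut
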