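import Mathlib
import Groth.Agent.Lib.Seat38SpecTautCoh
import Groth.Agent.Lib.Seat38TautColim

/-!
# Seat38: colimits over a directed family of quasi-compact opens of a spectral space

`Fam.colimit_addEquiv`: the colimit over the members of the family of a cokernel presheaf is the
corresponding quotient of the sections over the intersection `W`.
-/

set_option autoImplicit false
universe u
open CategoryTheory CategoryTheory.Limits TopologicalSpace Opposite Topology Abelian

namespace Groth.Agent.Lib.Seat38.SpecTaut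

open Groth.Agent.Lib.Seat38.CompactNhd Groth.Agent.Lib.Seat38.SheafLocal
  Groth.Agent.Lib.Seat38.PullUnitLocal Groth.Agent.Lib.Seat38.ClosedModel
  Groth.Agent.Lib.Seat38.Taut Groth.Agent.Lib.Seat38.TautColim

namespace Fam

variable {X : TopCat.{u}} (𝔉 : Fam X) [SpectralSpace X]

/-- **colimit of a cokernel presheaf over the members of the family**. -/
theorem colimit_addEquiv (Q : ObjectProperty (Opens X)ᵒᵖ)
    (hQ : ∀ U : (Opens X)ᵒᵖ, Q U ↔ 𝔉.P U.unop) {A B : CohTop.Ab X} (g : B ⟶ A)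
    (P : (Opens X)ᵒᵖ ⥤ AddCommGrpCat.{u}) (τ : A.obj ⟶ P)
    (hτs : ∀ U : Opens X, Function.Surjective (τ.app (op U)))
    (hτk : ∀ (U : Opens X) (a : A.obj.obj (op U)),
      τ.app (op U) a = 0 ↔ ∃ b : B.obj.obj (op U), g.hom.app (op U) b = a)
    {T : Type u} [AddCommGroup T] (q : ((CohTop.pull (kk 𝔉.W)).obj A).obj.obj (op ⊤) →+ T)
    (hqs : Function.Surjective q)
    (hqk : ∀ σ, q σ = 0 ↔ ∃ σ' : ((CohTop.pull (kk 𝔉.W)).obj B).obj.obj (op ⊤),
      ((CohTop.pull (kk 𝔉.W)).map g).hom.app (op ⊤) σ' = σ) :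
    Nonempty ((colimit (ObjectProperty.ι Q ⋙ P) : AddCommGrpCat.{u}) ≃+ T) := by
  classical
  have hfilt : IsFiltered Q.FullSubcategory :=
    { cocone_objs := fun U V => by
        obtain ⟨U₃, h₃, hle⟩ := 𝔉.dir U.obj.unop V.obj.unop ((hQ _).1 U.property)
          ((hQ _).1 V.property)
        exact ⟨⟨op U₃, (hQ _).2 h₃⟩, ObjectProperty.homMk (homOfLE (hle.trans inf_le_left)).op,
          ObjectProperty.homMk (homOfLE (hle.trans inf_le_right)).op, trivial⟩
      cocone_maps := fun U V f g => ⟨V, 𝟙 V, by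
        have : f = g := by
          apply ObjectProperty.hom_ext
          exact Subsingleton.elim _ _
        rw [this]⟩
      nonempty := by
        obtain ⟨U, hU⟩ := 𝔉.ne
        exact ⟨⟨op U, (hQ _).2 hU⟩⟩ }
  have hsub : ∀ j : Q.FullSubcategory, 𝔉.W ⊆ (j.obj.unop : Set X) :=
    fun j => 𝔉.subset ((hQ _).1 j.property)
  let Dg : Q.FullSubcategory ⥤ AddCommGrpCat.{u} := ObjectProperty.ι Q ⋙ P
  -- the legs
  have hker : ∀ j : Q.FullSubcategory,
      (τ.app (op j.obj.unop)).hom.ker ≤ (q.comp (evHom A j.obj.unop (hsub j))).ker := by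
    intro j a ha
    rw [AddMonoidHom.mem_ker] at ha ⊢
    obtain ⟨b, rfl⟩ := (hτk j.obj.unop a).1 ha
    change q (evHom A j.obj.unop (hsub j) (g.hom.app (op j.obj.unop) b)) = 0
    rw [evHom_naturality]
    exact (hqk _).2 ⟨_, rfl⟩
  let leg : ∀ j : Q.FullSubcategory, P.obj (op j.obj.unop) →+ T := fun j =>
    (τ.app (op j.obj.unop)).hom.liftOfSurjective (hτs j.obj.unop)
      ⟨q.comp (evHom A j.obj.unop (hsub j)), hker j⟩
  have hleg : ∀ (j : Q.FullSubcategory) (a : A.obj.obj (op j.obj.unop)),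
      leg j (τ.app (op j.obj.unop) a) = q (evHom A j.obj.unop (hsub j) a) := by
    intro j a
    exact AddMonoidHom.liftOfRightInverse_comp_apply _ _ _ _ a
  have hnat : ∀ (j j' : Q.FullSubcategory) (φ : j ⟶ j') (x : P.obj (op j.obj.unop)),
      leg j' (P.map φ.hom x) = leg j x := by
    intro j j' φ x
    obtain ⟨a, rfl⟩ := hτs j.obj.unop x
    have h1 : P.map φ.hom (τ.app (op j.obj.unop) a) =
        τ.app (op j'.obj.unop) (A.obj.map φ.hom a) :=
      (ConcreteCategory.congr_hom (τ.naturality φ.hom) a).symm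
    rw [h1, hleg, hleg]
    exact congrArg q (evHom_res A j.obj.unop j'.obj.unop (hsub j') (leOfHom φ.hom.unop) a)
  let c : Cocone Dg :=
    { pt := AddCommGrpCat.of T
      ι :=
        { app := fun j => AddCommGrpCat.ofHom (leg j)
          naturality := by
            intro j j' φ
            ext x
            exact hnat j j' φ x } }
  let desc : colimit Dg ⟶ AddCommGrpCat.of T := colimit.desc Dg c
  have hdesc : ∀ (j : Q.FullSubcategory) (x : P.obj (op j.obj.unop)),
      desc (colimit.ι Dg j x) = leg j x := fun j x =>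
    ConcreteCategory.congr_hom (colimit.ι_desc c j) x
  have hsurj : Function.Surjective desc := by
    intro y
    obtain ⟨σ, rfl⟩ := hqs y
    obtain ⟨U, hU, t, ht⟩ := 𝔉.taut_surj A σ
    refine ⟨colimit.ι Dg ⟨op U, (hQ _).2 hU⟩ (τ.app (op U) t), ?_⟩
    rw [hdesc]
    exact (hleg ⟨op U, (hQ _).2 hU⟩ t).trans (congrArg q ht)
  have hinj : Function.Injective desc := by
    rw [injective_iff_map_eq_zero]
    intro x hx
    obtain ⟨j, xj, rfl⟩ := Concrete.colimit_exists_rep Dg x
    obtain ⟨a, rfl⟩ := hτs j.obj.unop xj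
    rw [hdesc, hleg] at hx
    obtain ⟨σ', hσ'⟩ := (hqk _).1 hx
    obtain ⟨U', hU', w, hw⟩ := 𝔉.taut_surj B σ'
    let U := j.obj.unop
    have hU : 𝔉.P U := (hQ _).1 j.property
    obtain ⟨U₃, hU₃, hle₃⟩ := 𝔉.dir U U' hU hU'
    have hl : U₃ ≤ U := hle₃.trans inf_le_left
    have hr : U₃ ≤ U' := hle₃.trans inf_le_right
    have hW₃ : 𝔉.W ⊆ (U₃ : Set X) := 𝔉.subset hU₃
    let e : A.obj.obj (op U₃) := res A.obj hl a - g.hom.app (op U₃) (res B.obj hr w)
    have he : evHom A U₃ hW₃ e = 0 := by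
      have h1 : evHom A U₃ hW₃ e = evHom A U₃ hW₃ (res A.obj hl a) -
          evHom A U₃ hW₃ (g.hom.app (op U₃) (res B.obj hr w)) := map_sub _ _ _
      rw [h1, evHom_res, evHom_naturality, evHom_res]
      have hw' : evHom B U' (𝔉.subset hU') w = σ' := hw
      rw [hw', hσ', sub_self]
    obtain ⟨U'', hU''le, hU'', he0⟩ := 𝔉.taut_inj A U₃ hU₃ e he
    let j'' : Q.FullSubcategory := ⟨op U'', (hQ _).2 hU''⟩
    let φ : j ⟶ j'' := ObjectProperty.homMk (homOfLE (hU''le.trans hl)).op
    have h2 : colimit.ι Dg j (τ.app (op U) a) = colimit.ι Dg j'' (P.map φ.hom (τ.app (op U) a)) :=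
      (ConcreteCategory.congr_hom (colimit.w Dg φ) (τ.app (op U) a)).symm
    rw [h2]
    have h3 : P.map φ.hom (τ.app (op U) a) = τ.app (op U'') (A.obj.map φ.hom a) :=
      (ConcreteCategory.congr_hom (τ.naturality φ.hom) a).symm
    have h4 : τ.app (op U'') (A.obj.map φ.hom a) = 0 := by
      rw [hτk]
      refine ⟨res B.obj (hU''le.trans hr) w, ?_⟩
      rw [res_sub, sub_eq_zero, res_res] at he0
      have h5 : res A.obj hU''le (g.hom.app (op U₃) (res B.obj hr w)) =
          g.hom.app (op U'') (res B.obj (hU''le.trans hr) w) := by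
        have := rs_app g hU''le (res B.obj hr w)
        exact this.trans (congrArg _ (res_res B.obj _ _ w))
      rw [h5] at he0
      exact he0.symm
    rw [h3, h4, map_zero]
  exact ⟨AddEquiv.ofBijective desc.hom ⟨hinj, hsurj⟩⟩

end Fam

end Groth.Agent.Lib.Seat38.SpecTaut
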