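import Mathlib
import Groth.Agent.Lib.Seat38SpecTautColim

/-!
# Seat38: cohomology of the intersection of a directed family of quasi-compact opens

For a `Fam X` on a spectral space:
* `Fam.isFiltered`: the index category of the family is filtered;
* `Fam.colimit_H_addEquiv`: `colim_{O ∈ 𝔉} H^p(O, F) ≃+ H^p(W, F|W)`;
* `Fam.exists_res_eq_zero`: if `H^p(W, F|W) = 0`, every class in `H^p(O, F)`, `O ∈ 𝔉`, dies on a
  smaller member of the family.
-/

set_option autoImplicit false
universe u
open CategoryTheory CategoryTheory.Limits TopologicalSpace Opposite Topology Abelian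

namespace Groth.Agent.Lib.Seat38.SpecTaut

open Groth.Agent.Lib.Seat38.CompactNhd Groth.Agent.Lib.Seat38.SheafLocal
  Groth.Agent.Lib.Seat38.PullUnitLocal Groth.Agent.Lib.Seat38.ClosedModel
  Groth.Agent.Lib.Seat38.Taut Groth.Agent.Lib.Seat38.TautColim Groth.Agent.Lib.Seat38.TautCoh
  Groth.Agent.Lib.Helper16.DimShift Groth.Agent.Lib.Helper16.RpushSh

namespace Fam

variable {X : TopCat.{u}} (𝔉 : Fam X)

theorem isFiltered (Q : ObjectProperty (Opens X)ᵒᵖ) (hQ : ∀ U : (Opens X)ᵒᵖ, Q U ↔ 𝔉.P U.unop) :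
    IsFiltered Q.FullSubcategory :=
  { cocone_objs := fun U V => by
      obtain ⟨U₃, h₃, hle⟩ := 𝔉.dir U.obj.unop V.obj.unop ((hQ _).1 U.property)
        ((hQ _).1 V.property)
      exact ⟨⟨op U₃, (hQ _).2 h₃⟩, ObjectProperty.homMk (homOfLE (hle.trans inf_le_left)).op,
        ObjectProperty.homMk (homOfLE (hle.trans inf_le_right)).op, trivial⟩
    cocone_maps := fun U V f g => ⟨V, 𝟙 V, by
      have : f = g := by
        apply ObjectProperty.hom_ext
        exact Subsingleton.elim _ _
      rw [this]⟩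
    nonempty := by
      obtain ⟨U, hU⟩ := 𝔉.ne
      exact ⟨⟨op U, (hQ _).2 hU⟩⟩ }

variable [SpectralSpace X]

/-- **cohomology of the intersection as a colimit**. -/
theorem colimit_H_addEquiv (Q : ObjectProperty (Opens X)ᵒᵖ)
    (hQ : ∀ U : (Opens X)ᵒᵖ, Q U ↔ 𝔉.P U.unop) (F : CohTop.Ab X) (p : ℕ) :
    Nonempty ((colimit (ObjectProperty.ι Q ⋙
        (Sheaf.cohomologyPresheafFunctor (Opens.grothendieckTopology X) p).obj F) :
          AddCommGrpCat.{u}) ≃+ CohTop.H ((CohTop.pull (kk 𝔉.W)).obj F) p) := by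
  classical
  let J := Opens.grothendieckTopology X
  let I : InjectiveResolution F := Classical.choice (HasInjectiveResolution.out)
  cases p with
  | zero =>
    have hτb : ∀ U : Opens X, Function.Bijective ((τ J (Abelian.Ext.mk₀ (𝟙 F))).app (op U)) :=
      fun U => τapp_zero_bijective J F U
    have hz : ∀ (U : Opens X) (b : F.obj.obj (op U)), (0 : F ⟶ F).hom.app (op U) b = 0 :=
      fun U b => rfl
    have hpz : (CohTop.pull (kk 𝔉.W)).map (0 : F ⟶ F) = 0 := by
      have := pull_additive (kk 𝔉.W)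
      exact Functor.map_zero _ _ _
    obtain ⟨e⟩ := 𝔉.colimit_addEquiv Q hQ (0 : F ⟶ F) (F.cohomologyPresheaf 0)
      (τ J (Abelian.Ext.mk₀ (𝟙 F))) (fun U => (hτb U).2)
      (fun U a => by
        constructor
        · intro h
          have : a = 0 := (hτb U).1 (h.trans (map_zero _).symm)
          exact ⟨0, (hz U 0).trans this.symm⟩
        · rintro ⟨b, rfl⟩
          rw [hz]
          exact map_zero _)
      (qS₀ ((CohTop.pull (kk 𝔉.W)).obj F)) (qS₀_bijective _).2
      (fun σ => by
        constructor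
        · intro h
          have : σ = 0 := (qS₀_bijective _).1 (h.trans (map_zero _).symm)
          refine ⟨0, ?_⟩
          rw [this]
          exact map_zero _
        · rintro ⟨σ', rfl⟩
          rw [hpz]
          exact map_zero _)
    exact ⟨e.trans (HEquiv _ 0)⟩
  | succ n =>
    have hD : ∀ k, Injective ((ofResolution I).J k) := fun k => I.injective k
    obtain ⟨e⟩ := 𝔉.colimit_addEquiv Q hQ (gg I n) (F.cohomologyPresheaf (n + 1))
      (τ J ((ofResolution I).cls n)) (fun U => τapp_cls_surjective J (ofResolution I) hD n U)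
      (fun U a => τapp_cls_eq_zero_iff J (ofResolution I) hD n U a)
      (qS I n) (𝔉.qS_surjective I n) (𝔉.qS_eq_zero_iff I n)
    exact ⟨e.trans (HEquiv _ (n + 1))⟩

/-- if the cohomology of the intersection vanishes in degree `p`, every class of degree `p` over a
member of the family dies on a smaller member. -/
theorem exists_res_eq_zero (F : CohTop.Ab X) (p : ℕ)
    (hvan : Subsingleton (CohTop.H ((CohTop.pull (kk 𝔉.W)).obj F) p))
    (O : Opens X) (hO : 𝔉.P O) (ξ : CohTop.HU F p O) :
    ∃ (O' : Opens X) (hle : O' ≤ O), 𝔉.P O' ∧ CohTop.res F p hle ξ = 0 := by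
  classical
  let Q : ObjectProperty (Opens X)ᵒᵖ := fun U => 𝔉.P U.unop
  have hQ : ∀ U : (Opens X)ᵒᵖ, Q U ↔ 𝔉.P U.unop := fun U => Iff.rfl
  have hfilt : IsFiltered Q.FullSubcategory := 𝔉.isFiltered Q hQ
  obtain ⟨e⟩ := 𝔉.colimit_H_addEquiv Q hQ F p
  let Dg : Q.FullSubcategory ⥤ AddCommGrpCat.{u} := ObjectProperty.ι Q ⋙
    (Sheaf.cohomologyPresheafFunctor (Opens.grothendieckTopology X) p).obj F
  let j : Q.FullSubcategory := ⟨op O, hO⟩
  have h0 : colimit.ι Dg j ξ = colimit.ι Dg j 0 := by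
    apply e.injective
    exact Subsingleton.elim _ _
  obtain ⟨k, f, g, hfg⟩ := (Concrete.colimit_rep_eq_iff_exists Dg (i := j) (j := j) ξ 0).1 h0
  refine ⟨k.obj.unop, leOfHom f.hom.unop, k.property, ?_⟩
  have h1 : Dg.map f ξ = 0 := hfg.trans (map_zero _)
  exact h1

end Fam

end Groth.Agent.Lib.Seat38.SpecTaut
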