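import Mathlib

/-!
# Seat38: Krull dimension drops on a subspace all of whose points specialize out of it

* `topologicalKrullDim_lt_of_specializes`: if every point of `S` specializes to a point of a closed
  set `Z` disjoint from `S` and `dim X < n + 1`, then `dim S < n`.
* `isEmpty_of_topologicalKrullDim_lt_zero`.
-/

set_option autoImplicit false
open Order TopologicalSpace Topology

namespace Groth.Agent.Lib.Seat38.SpecDim

theorem topologicalKrullDim_lt_of_specializes {X : Type*} [TopologicalSpace X] (S Z : Set X)
    (hZ : IsClosed Z) (hSZ : Disjoint S Z) (h : ∀ x ∈ S, ∃ z ∈ Z, x ⤳ z) (n : ℕ)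
    (hn : topologicalKrullDim X < ((n + 1 : ℕ) : WithBot ℕ∞)) :
    topologicalKrullDim S < ((n : ℕ) : WithBot ℕ∞) := by
  unfold topologicalKrullDim at hn ⊢
  rw [krullDim_lt_coe_iff] at hn ⊢
  intro l
  let f : IrreducibleCloseds S → IrreducibleCloseds X :=
    IrreducibleCloseds.map Subtype.val continuous_subtype_val
  have hf : StrictMono f :=
    IrreducibleCloseds.map_strictMono_of_isInducing Topology.IsInducing.subtypeVal
  obtain ⟨x, hx⟩ := l.head.isIrreducible.nonempty
  obtain ⟨z, hzZ, hxz⟩ := h x.1 x.2
  let b : IrreducibleCloseds X := ⟨closure {z}, isIrreducible_singleton.closure, isClosed_closure⟩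
  have hxf : x.1 ∈ (f l.head : Set X) := subset_closure ⟨x, hx, rfl⟩
  have hzcl : closure {z} ⊆ Z := closure_minimal (Set.singleton_subset_iff.2 hzZ) hZ
  have hle : (b : Set X) ⊆ (f l.head : Set X) := by
    refine closure_minimal ?_ (f l.head).isClosed
    rintro _ rfl
    have h1 : closure {x.1} ⊆ (f l.head : Set X) :=
      closure_minimal (Set.singleton_subset_iff.2 hxf) (f l.head).isClosed
    exact h1 (specializes_iff_mem_closure.1 hxz)
  have hb : b < (l.map f hf).head := by
    rw [LTSeries.head_map]
    refine lt_of_le_of_ne hle ?_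
    intro heq
    have h2 : x.1 ∈ (b : Set X) := by
      rw [heq]
      exact hxf
    exact Set.disjoint_left.1 hSZ x.2 (hzcl h2)
  have h3 := hn ((l.map f hf).cons b hb)
  simp only [RelSeries.cons_length, LTSeries.map_length] at h3
  omega

theorem isEmpty_of_topologicalKrullDim_lt_zero {X : Type*} [TopologicalSpace X]
    (h : topologicalKrullDim X < ((0 : ℕ) : WithBot ℕ∞)) : IsEmpty X := by
  unfold topologicalKrullDim at h
  rw [krullDim_lt_coe_iff] at h
  refine ⟨fun x => ?_⟩
  have h1 := h (RelSeries.singleton _
    (⟨closure {x}, isIrreducible_singleton.closure, isClosed_closure⟩ : IrreducibleCloseds X))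
  exact absurd h1 (Nat.not_lt_zero _)

end Groth.Agent.Lib.Seat38.SpecDim
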