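import Mathlib
import Groth.Agent.Lib.Seat38SpecTaut

/-!
# Seat38: the two standard families of quasi-compact opens in a spectral space

* `famOfCompact E hE`: the quasi-compact open neighbourhoods of a quasi-compact subset `E`; the
  intersection is the set of generalizations of points of `E`.
* `famOfPoint f hf y`: the preimages under a spectral map `f` of the quasi-compact open
  neighbourhoods of a point `y`; the intersection is the preimage of the set of generalizations
  of `y`.
-/

set_option autoImplicit false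
universe u
open CategoryTheory TopologicalSpace Opposite Topology

namespace Groth.Agent.Lib.Seat38.SpecTaut

variable {X : TopCat.{u}} [SpectralSpace X]

/-- the quasi-compact open neighbourhoods of a quasi-compact subset. -/
def famOfCompact (E : Set X) (hE : IsCompact E) : Fam X where
  P U := E ⊆ (U : Set X) ∧ IsCompact (U : Set X)
  W := {x | ∃ e ∈ E, e ∈ closure {x}}
  qc _ h := h.2
  ne := ⟨⊤, fun _ _ => trivial, isCompact_univ⟩
  dir U₁ U₂ h₁ h₂ := ⟨U₁ ⊓ U₂, ⟨fun _ hx => ⟨h₁.1 hx, h₂.1 hx⟩,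
    QuasiSeparatedSpace.inter_isCompact _ _ U₁.isOpen h₁.2 U₂.isOpen h₂.2⟩, le_rfl⟩
  mem_W x := by
    constructor
    · rintro ⟨e, he, hex⟩ U hU
      obtain ⟨x', hx'U, hx'⟩ := mem_closure_iff.1 hex U U.isOpen (hU.1 he)
      have : x' = x := hx'
      rw [← this]
      exact hx'U
    · intro h
      by_contra hx
      obtain ⟨Wset, hWc, hWo, hEW, hWx⟩ := PrespectralSpace.exists_isCompact_and_isOpen_between hE
        (isClosed_closure (s := {x})).isOpen_compl (fun e he hc => hx ⟨e, he, hc⟩)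
      exact hWx (h ⟨Wset, hWo⟩ ⟨hEW, hWc⟩) (subset_closure rfl)

/-- the preimages of the quasi-compact open neighbourhoods of a point under a spectral map. -/
def famOfPoint {Y : TopCat.{u}} [SpectralSpace Y] (f : X ⟶ Y) (hf : IsSpectralMap f) (y : Y) :
    Fam X where
  P U := ∃ V : Opens Y, y ∈ V ∧ IsCompact (V : Set Y) ∧ U = (Opens.map f).obj V
  W := {x | y ∈ closure {f x}}
  qc := by
    rintro _ ⟨V, -, hV, rfl⟩
    exact hf.isCompact_preimage_of_isOpen V.isOpen hV
  ne := ⟨_, ⊤, trivial, isCompact_univ, rfl⟩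
  dir := by
    rintro _ _ ⟨V₁, hy₁, hV₁, rfl⟩ ⟨V₂, hy₂, hV₂, rfl⟩
    exact ⟨_, ⟨V₁ ⊓ V₂, ⟨hy₁, hy₂⟩,
      QuasiSeparatedSpace.inter_isCompact _ _ V₁.isOpen hV₁ V₂.isOpen hV₂, rfl⟩, le_rfl⟩
  mem_W x := by
    constructor
    · rintro hx _ ⟨V, hyV, -, rfl⟩
      obtain ⟨x', hx'V, hx'⟩ := mem_closure_iff.1 hx V V.isOpen hyV
      have : x' = f x := hx'
      rw [this] at hx'V
      exact hx'V
    · intro h
      by_contra hx
      obtain ⟨Vset, ⟨hVo, hVc⟩, hyV, hVx⟩ :=
        PrespectralSpace.isTopologicalBasis.exists_subset_of_mem_open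
          (show y ∈ (closure {f x})ᶜ from hx) (isClosed_closure (s := {f x})).isOpen_compl
      have hfx : f x ∈ Vset := h _ ⟨⟨Vset, hVo⟩, hyV, hVc, rfl⟩
      exact hVx hfx (subset_closure rfl)

end Groth.Agent.Lib.Seat38.SpecTaut
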