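import Mathlib
import Groth.Agent.Lib.Seat38BFlasque
import Groth.Agent.Lib.Seat38TautCoh

/-!
# Seat38: from surjectivity of restriction in top degree to vanishing (spectral spaces)

* `exists_extend_of_res_eq_zero`: a class in `H^n(U, F)` which dies on `U ⊓ V` extends to
  `H^n(U ⊔ V, F)` (the relevant piece of Mayer–Vietoris).
* `qcBasis X`: the `QCBasis` of quasi-compact opens of a spectral space.
* `subsingleton_H_of_res_surjective`: if `H^n(X, F) → H^n(U, F)` is surjective for every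
  quasi-compact open `U` of the spectral space `X`, then `H^p(X, F) = 0` for `p > n`.
-/

set_option autoImplicit false
universe u
open CategoryTheory CategoryTheory.Limits TopologicalSpace Opposite Topology Abelian

namespace Groth.Agent.Lib.Seat38.SpecVanish

open Groth.Agent.Lib.Seat38.CompactNhd Groth.Agent.Lib.Seat38.SheafLocal
  Groth.Agent.Lib.Seat38.Soft Groth.Agent.Lib.Seat38.BFlasque Groth.Agent.Lib.Seat38.TautCoh
  Groth.Agent.Lib.Helper16.DimShift Groth.Agent.Lib.Helper16.RpushSh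

variable {X : TopCat.{u}}

lemma τ_res {A : CohTop.Ab X} {P : (Opens X)ᵒᵖ ⥤ AddCommGrpCat.{u}} (τ : A.obj ⟶ P)
    {W V : Opens X} (h : V ≤ W) (a : A.obj.obj (op W)) :
    res P h (τ.app (op W) a) = τ.app (op V) (res A.obj h a) :=
  (ConcreteCategory.congr_hom (τ.naturality (homOfLE h).op) a).symm

theorem glue_zero (G : CohTop.Ab X) (U V : Opens X) (g : G.obj.obj (op U))
    (h0 : res G.obj (inf_le_left : U ⊓ V ≤ U) g = 0) :
    ∃ a : G.obj.obj (op (U ⊔ V)), res G.obj le_sup_left a = g := by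
  obtain ⟨a, ha, -⟩ := exists_glue₂ G U V g 0 (h0.trans (res_zero _ _).symm)
  exact ⟨a, ha⟩

theorem exists_extend_flasque (G : CohTop.Ab X) [TopCat.Sheaf.IsFlasque G] {U V : Opens X}
    (h : V ≤ U) (b : G.obj.obj (op V)) : ∃ b' : G.obj.obj (op U), res G.obj h b' = b := by
  have hepi : Epi (G.obj.map (homOfLE h).op) := TopCat.Presheaf.IsFlasque.epi _
  exact (AddCommGrpCat.epi_iff_surjective _).1 hepi b

section MV

variable (F : CohTop.Ab X)

/-- a class over `U` dying on `U ⊓ V` extends over `U ⊔ V`. -/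
theorem exists_extend_of_res_eq_zero (U V : Opens X) (n : ℕ) (ξ : CohTop.HU F n U)
    (h : CohTop.res F n (inf_le_left : U ⊓ V ≤ U) ξ = 0) :
    ∃ ξ' : CohTop.HU F n (U ⊔ V), CohTop.res F n le_sup_left ξ' = ξ := by
  classical
  let J := Opens.grothendieckTopology X
  let I : InjectiveResolution F := Classical.choice (HasInjectiveResolution.out)
  cases n with
  | zero =>
    let τ₀ : F.obj ⟶ F.cohomologyPresheaf 0 := τ J (Ext.mk₀ (𝟙 F))
    have hb : ∀ W : Opens X, Function.Bijective (τ₀.app (op W)) := fun W => τapp_zero_bijective J F W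
    obtain ⟨g, hgξ⟩ := (hb U).2 ξ
    have hg : res F.obj (inf_le_left : U ⊓ V ≤ U) g = 0 := by
      apply (hb (U ⊓ V)).1
      have e1 := τ_res τ₀ (inf_le_left : U ⊓ V ≤ U) g
      rw [hgξ] at e1
      exact (e1.symm.trans h).trans (map_zero _).symm
    obtain ⟨a, ha⟩ := glue_zero F U V g hg
    refine ⟨τ₀.app (op (U ⊔ V)) a, ?_⟩
    have e2 := τ_res τ₀ (le_sup_left : U ≤ U ⊔ V) a
    rw [ha, hgξ] at e2
    exact e2
  | succ m =>
    let D := ofResolution I
    have hD : ∀ k, Injective (D.J k) := fun k => I.injective k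
    let τ₁ : (ZZ I (m + 1)).obj ⟶ F.cohomologyPresheaf (m + 1) := τ J (D.cls m)
    have hs : ∀ (W : Opens X) (ζ : CohTop.HU F (m + 1) W),
        ∃ g : (ZZ I (m + 1)).obj.obj (op W), τ₁.app (op W) g = ζ :=
      fun W => τapp_cls_surjective J D hD m W
    have hk : ∀ (W : Opens X) (s : (ZZ I (m + 1)).obj.obj (op W)), τ₁.app (op W) s = 0 ↔
        ∃ t : (I.cocomplex.X m).obj.obj (op W), (gg I m).hom.app (op W) t = s :=
      fun W s => τapp_cls_eq_zero_iff J D hD m W s
    obtain ⟨g, hgξ⟩ := hs U ξ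
    have h1 : τ₁.app (op (U ⊓ V)) (res (ZZ I (m + 1)).obj (inf_le_left : U ⊓ V ≤ U) g) = 0 := by
      have e1 := τ_res τ₁ (inf_le_left : U ⊓ V ≤ U) g
      rw [hgξ] at e1
      exact e1.symm.trans h
    obtain ⟨b, hb⟩ := (hk (U ⊓ V) _).1 h1
    have hinj : Injective (I.cocomplex.X m) := I.injective m
    have hfl : TopCat.Sheaf.IsFlasque (I.cocomplex.X m) :=
      Groth.Agent.Lib.Helper16.Flasque.injective_isFlasque _
    obtain ⟨b', hb'⟩ := exists_extend_flasque (I.cocomplex.X m) (inf_le_left : U ⊓ V ≤ U) b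
    let g' : (ZZ I (m + 1)).obj.obj (op U) := g - (gg I m).hom.app (op U) b'
    have hg' : τ₁.app (op U) g' = ξ := by
      have e1 : τ₁.app (op U) g' = τ₁.app (op U) g - τ₁.app (op U) ((gg I m).hom.app (op U) b') :=
        map_sub _ _ _
      rw [e1, (hk U _).2 ⟨b', rfl⟩, sub_zero, hgξ]
    have hg0 : res (ZZ I (m + 1)).obj (inf_le_left : U ⊓ V ≤ U) g' = 0 := by
      have e1 : res (ZZ I (m + 1)).obj (inf_le_left : U ⊓ V ≤ U) g' =
          res (ZZ I (m + 1)).obj (inf_le_left : U ⊓ V ≤ U) g -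
            res (ZZ I (m + 1)).obj (inf_le_left : U ⊓ V ≤ U) ((gg I m).hom.app (op U) b') :=
        res_sub _ _ _ _
      have e2 : res (ZZ I (m + 1)).obj (inf_le_left : U ⊓ V ≤ U) ((gg I m).hom.app (op U) b') =
          (gg I m).hom.app (op (U ⊓ V)) (res (I.cocomplex.X m).obj inf_le_left b') :=
        rs_app (gg I m) inf_le_left b'
      rw [e1, e2, hb', hb, sub_self]
    obtain ⟨a, ha⟩ := glue_zero (ZZ I (m + 1)) U V g' hg0
    refine ⟨τ₁.app (op (U ⊔ V)) a, ?_⟩
    have e2 := τ_res τ₁ (le_sup_left : U ≤ U ⊔ V) a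
    rw [ha, hg'] at e2
    exact e2

end MV

/-- the basis of quasi-compact opens of a spectral space. -/
def qcBasis (X : TopCat.{u}) [SpectralSpace X] : QCBasis X where
  B V := IsCompact (V : Set X)
  bot := by simp
  top := isCompact_univ
  inf V V' h h' := QuasiSeparatedSpace.inter_isCompact _ _ V.isOpen h V'.isOpen h'
  sup V V' h h' := h.union h'
  qc V h := h
  basis V z hz := by
    obtain ⟨O, ⟨hOo, hOc⟩, hzO, hOV⟩ :=
      PrespectralSpace.isTopologicalBasis.exists_subset_of_mem_open hz V.isOpen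
    exact ⟨⟨O, hOo⟩, hOc, hzO, hOV⟩

section Vanish

variable [SpectralSpace X] (F : CohTop.Ab X) (I : InjectiveResolution F) (n : ℕ)
  (hres : ∀ U : Opens X, IsCompact (U : Set X) →
    Function.Surjective (CohTop.res F n (le_top : U ≤ ⊤)))

include hres in
theorem isBFlasque_ZZ : IsBFlasque (qcBasis X) (ZZ I n) := by
  classical
  let J := Opens.grothendieckTopology X
  cases n with
  | zero =>
    let τ₀ : F.obj ⟶ F.cohomologyPresheaf 0 := τ J (Ext.mk₀ (𝟙 F))
    have hb : ∀ W : Opens X, Function.Bijective (τ₀.app (op W)) := fun W => τapp_zero_bijective J F W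
    intro V hV s
    let s' : F.obj.obj (op V) := s
    obtain ⟨ξ', hξ'⟩ := hres V hV (τ₀.app (op V) s')
    obtain ⟨t, ht⟩ := (hb ⊤).2 ξ'
    refine ⟨t, ?_⟩
    apply (hb V).1
    have e1 := τ_res τ₀ (le_top : V ≤ ⊤) t
    rw [ht] at e1
    exact e1.symm.trans hξ'
  | succ m =>
    let D := ofResolution I
    have hD : ∀ k, Injective (D.J k) := fun k => I.injective k
    let τ₁ : (ZZ I (m + 1)).obj ⟶ F.cohomologyPresheaf (m + 1) := τ J (D.cls m)
    have hs : ∀ (W : Opens X) (ζ : CohTop.HU F (m + 1) W),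
        ∃ g : (ZZ I (m + 1)).obj.obj (op W), τ₁.app (op W) g = ζ :=
      fun W => τapp_cls_surjective J D hD m W
    have hk : ∀ (W : Opens X) (s : (ZZ I (m + 1)).obj.obj (op W)), τ₁.app (op W) s = 0 ↔
        ∃ t : (I.cocomplex.X m).obj.obj (op W), (gg I m).hom.app (op W) t = s :=
      fun W s => τapp_cls_eq_zero_iff J D hD m W s
    intro V hV s
    obtain ⟨ξ', hξ'⟩ := hres V hV (τ₁.app (op V) s)
    obtain ⟨t, ht⟩ := hs ⊤ ξ'
    have h1 : τ₁.app (op V) (res (ZZ I (m + 1)).obj (le_top : V ≤ ⊤) t - s) = 0 := by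
      have e0 : τ₁.app (op V) (res (ZZ I (m + 1)).obj (le_top : V ≤ ⊤) t - s) =
          τ₁.app (op V) (res (ZZ I (m + 1)).obj (le_top : V ≤ ⊤) t) - τ₁.app (op V) s :=
        map_sub _ _ _
      have e1 := τ_res τ₁ (le_top : V ≤ ⊤) t
      rw [ht] at e1
      have hξ'' : res (F.cohomologyPresheaf (m + 1)) (le_top : V ≤ ⊤) ξ' = τ₁.app (op V) s := hξ'
      rw [e0, ← e1, hξ'', sub_self]
    obtain ⟨b, hb⟩ := (hk V _).1 h1
    have hinj : Injective (I.cocomplex.X m) := I.injective m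
    have hfl : TopCat.Sheaf.IsFlasque (I.cocomplex.X m) :=
      Groth.Agent.Lib.Helper16.Flasque.injective_isFlasque _
    obtain ⟨b', hb'⟩ := exists_extend_flasque (I.cocomplex.X m) (le_top : V ≤ ⊤) b
    refine ⟨t - (gg I m).hom.app (op ⊤) b', ?_⟩
    have e1 : res (ZZ I (m + 1)).obj (le_top : V ≤ ⊤) (t - (gg I m).hom.app (op ⊤) b') =
        res (ZZ I (m + 1)).obj (le_top : V ≤ ⊤) t -
          res (ZZ I (m + 1)).obj (le_top : V ≤ ⊤) ((gg I m).hom.app (op ⊤) b') := res_sub _ _ _ _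
    have e2 : res (ZZ I (m + 1)).obj (le_top : V ≤ ⊤) ((gg I m).hom.app (op ⊤) b') =
        (gg I m).hom.app (op V) (res (I.cocomplex.X m).obj le_top b') :=
      rs_app (gg I m) le_top b'
    change res (ZZ I (m + 1)).obj (le_top : V ≤ ⊤) (t - (gg I m).hom.app (op ⊤) b') = s
    rw [e1, e2, hb', hb]
    abel

include hres in
theorem isBFlasque_ZZ_add (j : ℕ) : IsBFlasque (qcBasis X) (ZZ I (n + j)) := by
  induction j with
  | zero => exact isBFlasque_ZZ F I n hres
  | succ j ih =>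
    have hinj : Injective (I.cocomplex.X (n + j)) := I.injective (n + j)
    have hfl : TopCat.Sheaf.IsFlasque (I.cocomplex.X (n + j)) :=
      Groth.Agent.Lib.Helper16.Flasque.injective_isFlasque _
    exact isBFlasque_X₃ (qcBasis X) _ (shortExact_ofResolution I (n + j)) ih
      (isBFlasque_of_isFlasque (qcBasis X) (I.cocomplex.X (n + j)))

include hres in
/-- **vanishing above the degree where restriction to quasi-compact opens is surjective**. -/
theorem subsingleton_H_of_res_surjective (p : ℕ) (hp : n < p) : Subsingleton (CohTop.H F p) := by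
  classical
  obtain ⟨I⟩ : Nonempty (InjectiveResolution F) := HasInjectiveResolution.out
  obtain ⟨j, rfl⟩ : ∃ j, p = n + j + 1 := ⟨p - n - 1, by omega⟩
  let J := Opens.grothendieckTopology X
  let D := ofResolution I
  have hD : ∀ k, Injective (D.J k) := fun k => I.injective k
  have hZ := isBFlasque_ZZ_add F I n hres j
  have hsub : Subsingleton (Ext.{u} (CohCx.freeSheaf J (⊤ : Opens X)) F (n + j + 1)) := by
    refine subsingleton_of_forall_eq 0 (fun x => ?_)
    obtain ⟨s, rfl⟩ := τapp_cls_surjective J D hD (n + j) ⊤ x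
    obtain ⟨b, hb⟩ := exists_lift (qcBasis X) _ (shortExact_ofResolution I (n + j)) hZ ⊤
      (qcBasis X).top s
    exact (τapp_cls_eq_zero_iff J D hD (n + j) ⊤ s).2 ⟨b, hb⟩
  exact (HEquiv F (n + j + 1)).symm.toEquiv.subsingleton

end Vanish

end Groth.Agent.Lib.Seat38.SpecVanish
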