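import Mathlib
import Groth.Agent.S7541
import Groth.Agent.Lib.Seat38SpecColimH
import Groth.Agent.Lib.Seat38SpecFam
import Groth.Agent.Lib.Seat38SpecVanish
import Groth.Agent.Lib.Seat38SpecDim

/-!
# Seat38: Scheiderer's theorem — cohomological dimension of spectral spaces

* `famDiff U hU`: the family `{V ⊓ U}`, `V` a quasi-compact open containing the complement of the
  quasi-compact open `U`; its intersection is the set of points of `U` specializing out of `U`.
* `res_surjective_of_vanishing`: if `H^n` of that intersection vanishes, `H^n(X,F) → H^n(U,F)` is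
  surjective.
* `vanishing`: `dim X < n ⇒ H^p(X, F) = 0` for `p ≥ n`; `res_surjective`: `dim X < n + 1 ⇒
  H^n(X, F) → H^n(U, F)` surjective for quasi-compact open `U`.
-/

set_option autoImplicit false
universe u
open CategoryTheory CategoryTheory.Limits TopologicalSpace Opposite Topology Abelian

namespace Groth.Agent.Lib.Seat38.Scheiderer

open Groth.Agent.Lib.Seat38.CompactNhd Groth.Agent.Lib.Seat38.SheafLocal
  Groth.Agent.Lib.Seat38.ClosedModel Groth.Agent.Lib.Seat38.SpecTaut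
  Groth.Agent.Lib.Seat38.SpecVanish Groth.Agent.Lib.Seat38.SpecDim
  Groth.Agent.Lib.Seat38.TautCoh Groth.Agent.Lib.Helper16.RpushSh

section Fam

variable {X : TopCat.{u}} [SpectralSpace X]

/-- the family `{V ⊓ U}` for `V` a quasi-compact open containing the complement of `U`. -/
def famDiff (U : Opens X) (hU : IsCompact (U : Set X)) : Fam X where
  P O := ∃ V : Opens X, (U : Set X)ᶜ ⊆ (V : Set X) ∧ IsCompact (V : Set X) ∧ O = V ⊓ U
  W := {x : X | ∃ e ∈ (U : Set X)ᶜ, x ⤳ e} \ (U : Set X)ᶜ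
  qc := by
    rintro _ ⟨V, -, hV, rfl⟩
    exact QuasiSeparatedSpace.inter_isCompact _ _ V.isOpen hV U.isOpen hU
  ne := ⟨⊤ ⊓ U, ⊤, Set.subset_univ _, isCompact_univ, rfl⟩
  dir := by
    rintro _ _ ⟨V₁, h₁, c₁, rfl⟩ ⟨V₂, h₂, c₂, rfl⟩
    refine ⟨(V₁ ⊓ V₂) ⊓ U, ⟨V₁ ⊓ V₂, fun x hx => ⟨h₁ hx, h₂ hx⟩,
      QuasiSeparatedSpace.inter_isCompact _ _ V₁.isOpen c₁ V₂.isOpen c₂, rfl⟩, ?_⟩
    exact fun x hx => ⟨⟨hx.1.1, hx.2⟩, ⟨hx.1.2, hx.2⟩⟩
  mem_W x := by
    constructor
    · rintro ⟨⟨e, he, hxe⟩, hxU⟩ _ ⟨V, hV, -, rfl⟩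
      refine ⟨hxe.mem_open V.isOpen (hV he), ?_⟩
      by_contra hx
      exact hxU hx
    · intro h
      have hxU : x ∈ U := (h (⊤ ⊓ U) ⟨⊤, Set.subset_univ _, isCompact_univ, rfl⟩).2
      have hc : IsCompact ((U : Set X)ᶜ) := U.isOpen.isClosed_compl.isCompact
      have hx : x ∈ (famOfCompact ((U : Set X)ᶜ) hc).W :=
        ((famOfCompact ((U : Set X)ᶜ) hc).mem_W x).2
          (fun V hV => (h (V ⊓ U) ⟨V, hV.1, hV.2, rfl⟩).1)
      obtain ⟨e, he, hex⟩ := hx
      exact ⟨⟨e, he, specializes_iff_mem_closure.2 hex⟩, fun hx' => hx' hxU⟩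

theorem spectralSpace_famDiff (U : Opens X) (hU : IsCompact (U : Set X)) :
    SpectralSpace (TopCat.of (famDiff U hU).W) :=
  Groth.Agent.S7541.result ((U : Set X)ᶜ) (hU.isConstructible U.isOpen).compl

theorem krullDim_famDiff (U : Opens X) (hU : IsCompact (U : Set X)) (n : ℕ)
    (hn : topologicalKrullDim X < ((n + 1 : ℕ) : WithBot ℕ∞)) :
    topologicalKrullDim (TopCat.of (famDiff U hU).W) < ((n : ℕ) : WithBot ℕ∞) :=
  topologicalKrullDim_lt_of_specializes (famDiff U hU).W ((U : Set X)ᶜ) U.isOpen.isClosed_compl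
    (Set.disjoint_left.2 fun _ hx hx' => hx.2 hx') (fun _ hx => hx.1) n hn

/-- **surjectivity of restriction in degree `n`** when the cohomology of the points of `U`
specializing out of `U` vanishes in degree `n`. -/
theorem res_surjective_of_vanishing (F : CohTop.Ab X) (U : Opens X) (hU : IsCompact (U : Set X))
    (n : ℕ)
    (hvan : Subsingleton (CohTop.H ((CohTop.pull (kk (famDiff U hU).W)).obj F) n)) :
    Function.Surjective (CohTop.res F n (le_top : U ≤ ⊤)) := by
  intro ξ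
  let P := F.cohomologyPresheaf n
  have hP0 : (famDiff U hU).P (⊤ ⊓ U) := ⟨⊤, Set.subset_univ _, isCompact_univ, rfl⟩
  obtain ⟨O', hle, ⟨V', hV', hV'c, rfl⟩, h0⟩ := (famDiff U hU).exists_res_eq_zero F n hvan (⊤ ⊓ U) hP0
    (res P (inf_le_right : ⊤ ⊓ U ≤ U) ξ)
  have hUV : U ⊓ V' ≤ V' ⊓ U := le_of_eq (inf_comm _ _)
  have h1 : res P (inf_le_left : U ⊓ V' ≤ U) ξ = 0 := by
    have h0' : res P hle (res P (inf_le_right : ⊤ ⊓ U ≤ U) ξ) = 0 := h0
    have e := congrArg (res P hUV) h0'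
    rw [res_res, res_res, res_zero] at e
    exact e
  obtain ⟨ξ', hξ'⟩ := exists_extend_of_res_eq_zero F U V' n ξ h1
  have htop : (⊤ : Opens X) ≤ U ⊔ V' := by
    intro x _
    by_cases hx : x ∈ U
    · exact Or.inl hx
    · exact Or.inr (hV' hx)
  refine ⟨res P htop ξ', ?_⟩
  have hξ'' : res P (le_sup_left : U ≤ U ⊔ V') ξ' = ξ := hξ'
  exact (res_res P htop le_top ξ').trans hξ''

end Fam

section Empty

variable {X : TopCat.{u}} [SpectralSpace X]

theorem subsingleton_H_of_isEmpty (hX : IsEmpty X) (F : CohTop.Ab X) (p : ℕ) :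
    Subsingleton (CohTop.H F p) := by
  classical
  let J := Opens.grothendieckTopology X
  let τ₀ : F.obj ⟶ F.cohomologyPresheaf 0 := τ J (Ext.mk₀ (𝟙 F))
  have hb : ∀ W : Opens X, Function.Bijective (τ₀.app (op W)) := fun W => τapp_zero_bijective J F W
  have hsub : ∀ W : Opens X, Subsingleton (F.obj.obj (op W)) := fun W =>
    ⟨fun a b => subsingleton_of_le_bot F W (fun x _ => (hX.false x).elim) a b⟩
  have hsubH : ∀ W : Opens X, Subsingleton (CohTop.HU F 0 W) := fun W =>
    ⟨fun a b => by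
      obtain ⟨a', rfl⟩ := (hb W).2 a
      obtain ⟨b', rfl⟩ := (hb W).2 b
      rw [(hsub W).elim a' b']⟩
  cases p with
  | zero =>
    have : Subsingleton (Ext.{u} (CohCx.freeSheaf J (⊤ : Opens X)) F 0) := hsubH ⊤
    exact (HEquiv F 0).symm.toEquiv.subsingleton
  | succ p =>
    refine subsingleton_H_of_res_surjective F 0 (fun U _ ξ => ?_) (p + 1) (Nat.succ_pos p)
    exact ⟨0, (hsubH U).elim _ _⟩

end Empty

/-- **Scheiderer's vanishing theorem**, inductive form. -/
theorem vanishing : ∀ (n : ℕ) (X : TopCat.{u}) [SpectralSpace X],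
    topologicalKrullDim X < ((n : ℕ) : WithBot ℕ∞) → ∀ (F : CohTop.Ab X) (p : ℕ), n ≤ p →
      Subsingleton (CohTop.H F p)
  | 0 => fun X _ hd F p _ =>
    subsingleton_H_of_isEmpty (isEmpty_of_topologicalKrullDim_lt_zero hd) F p
  | n + 1 => fun X _ hd F p hp => by
    refine subsingleton_H_of_res_surjective F n (fun U hU => ?_) p hp
    have hsp := spectralSpace_famDiff U hU
    exact res_surjective_of_vanishing F U hU n
      (vanishing n (TopCat.of (famDiff U hU).W) (krullDim_famDiff U hU n hd) _ n le_rfl)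

/-- surjectivity of restriction to quasi-compact opens in degree `n` when `dim X < n + 1`. -/
theorem res_surjective (n : ℕ) (X : TopCat.{u}) [SpectralSpace X]
    (hd : topologicalKrullDim X < ((n + 1 : ℕ) : WithBot ℕ∞)) (F : CohTop.Ab X) (U : Opens X)
    (hU : IsCompact (U : Set X)) : Function.Surjective (CohTop.res F n (le_top : U ≤ ⊤)) := by
  have hsp := spectralSpace_famDiff U hU
  exact res_surjective_of_vanishing F U hU n
    (vanishing n (TopCat.of (famDiff U hU).W) (krullDim_famDiff U hU n hd) _ n le_rfl)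

end Groth.Agent.Lib.Seat38.Scheiderer
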