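import Mathlib
import Groth.Agent.Lib.Seat38SpecTautColim
import Groth.Agent.Lib.Seat38SpecFam
import Groth.Agent.Lib.Seat38TautStalk

/-!
# Seat38: stalks of direct images along spectral maps

Abstract part: for `f : X ⟶ Y`, `y : Y` and a subset `S ⊆ X` contained in `f⁻¹ V` for every open
neighbourhood `V` of `y`, the comparison `θ : (f_* G)_y ⟶ Γ(S, G|S)`; under tautness hypotheses it
is bijective and computes stalks of cokernels (`stalk_iso_of_cokernel`).

Spectral part: for a spectral map `f` of spectral spaces and `S = f⁻¹(generalizations of y)` the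
tautness hypotheses hold (`spec_surj`, `spec_inj`).
-/

set_option autoImplicit false
universe u
open CategoryTheory CategoryTheory.Limits TopologicalSpace Opposite Topology Abelian

namespace Groth.Agent.Lib.Seat38.SpecStalk

open Groth.Agent.Lib.Seat38.CompactNhd Groth.Agent.Lib.Seat38.SheafLocal
  Groth.Agent.Lib.Seat38.PullUnitLocal Groth.Agent.Lib.Seat38.ClosedModel
  Groth.Agent.Lib.Seat38.Taut Groth.Agent.Lib.Seat38.TautColim Groth.Agent.Lib.Seat38.TautStalk
  Groth.Agent.Lib.Seat38.SpecTaut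

section Abstract

variable {X Y : TopCat.{u}} (f : X ⟶ Y) (y : Y) (S : Set X)
  (hS : ∀ V : Opens Y, y ∈ V → S ⊆ ((Opens.map f).obj V : Set X))

/-- global sections of the pullback to `S`. -/
noncomputable abbrev ΓS (G : CohTop.Ab X) : AddCommGrpCat.{u} :=
  ((CohTop.pull (kk S)).obj G).obj.obj (op ⊤)

/-- the comparison `(f_* G)_y ⟶ Γ(S, G|S)`. -/
noncomputable def θ (G : CohTop.Ab X) : CohTop.stalk ((CohTop.push f).obj G) y ⟶ ΓS S G :=
  colimit.desc ((OpenNhds.inclusion y).op ⋙ ((CohTop.push f).obj G).obj)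
    { pt := ΓS S G
      ι :=
        { app := fun V => AddCommGrpCat.ofHom
            (evHom G ((Opens.map f).obj V.unop.1) (hS V.unop.1 V.unop.2))
          naturality := by
            intro V V' φ
            ext t
            exact evHom_res G ((Opens.map f).obj V.unop.1) ((Opens.map f).obj V'.unop.1)
              (hS V'.unop.1 V'.unop.2)
              (fun x hx => (leOfHom φ.unop) hx) t } }

lemma θ_germ (G : CohTop.Ab X) (V : Opens Y) (hy : y ∈ V)
    (t : ((CohTop.push f).obj G).obj.obj (op V)) :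
    θ f y S hS G (TopCat.Presheaf.germ ((CohTop.push f).obj G).obj V y hy t) =
      evHom G ((Opens.map f).obj V) (hS V hy) t :=
  ConcreteCategory.congr_hom (colimit.ι_desc (F := (OpenNhds.inclusion y).op ⋙ ((CohTop.push f).obj G).obj)
    _ (op (⟨V, hy⟩ : OpenNhds y))) t

theorem θ_naturality {A B : CohTop.Ab X} (g : B ⟶ A)
    (x : CohTop.stalk ((CohTop.push f).obj B) y) :
    θ f y S hS A ((TopCat.Presheaf.stalkFunctor AddCommGrpCat.{u} y).map ((CohTop.push f).map g).hom x) =
      ((CohTop.pull (kk S)).map g).hom.app (op ⊤) (θ f y S hS B x) := by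
  obtain ⟨V, hyV, t, rfl⟩ := TopCat.Presheaf.exists_germ_eq ((CohTop.push f).obj B).obj x
  rw [TopCat.Presheaf.stalkFunctor_map_germ_apply, θ_germ, θ_germ]
  exact evHom_naturality g ((Opens.map f).obj V) (hS V hyV) t

/-- the surjectivity half of tautness for the neighbourhoods `f⁻¹ V`. -/
def TSurj : Prop :=
  ∀ (G : CohTop.Ab X) (σ : ΓS S G), ∃ (V : Opens Y) (hy : y ∈ V)
    (t : G.obj.obj (op ((Opens.map f).obj V))), evHom G ((Opens.map f).obj V) (hS V hy) t = σ

/-- the injectivity half of tautness for the neighbourhoods `f⁻¹ V`. -/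
def TInj : Prop :=
  ∀ (G : CohTop.Ab X) (V : Opens Y) (hy : y ∈ V) (t : G.obj.obj (op ((Opens.map f).obj V))),
    evHom G ((Opens.map f).obj V) (hS V hy) t = 0 →
      ∃ (V' : Opens Y) (_ : y ∈ V') (hle : V' ≤ V),
        res G.obj (show (Opens.map f).obj V' ≤ (Opens.map f).obj V from fun _ hx => hle hx) t = 0

theorem θ_surjective (hsurj : TSurj f y S hS) (G : CohTop.Ab X) :
    Function.Surjective (θ f y S hS G) := by
  intro σ
  obtain ⟨V, hyV, t, ht⟩ := hsurj G σ
  let t' : ((CohTop.push f).obj G).obj.obj (op V) := t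
  exact ⟨TopCat.Presheaf.germ ((CohTop.push f).obj G).obj V y hyV t',
    (θ_germ f y S hS G V hyV t').trans ht⟩

theorem θ_injective (hinj : TInj f y S hS) (G : CohTop.Ab X) :
    Function.Injective (θ f y S hS G) := by
  rw [injective_iff_map_eq_zero]
  intro x hx
  obtain ⟨V, hyV, t, rfl⟩ := TopCat.Presheaf.exists_germ_eq ((CohTop.push f).obj G).obj x
  rw [θ_germ] at hx
  obtain ⟨V', hyV', hle, ht0⟩ := hinj G V hyV t hx
  have h1 : TopCat.Presheaf.germ ((CohTop.push f).obj G).obj V y hyV t =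
      TopCat.Presheaf.germ ((CohTop.push f).obj G).obj V' y hyV'
        (((CohTop.push f).obj G).obj.map (homOfLE hle).op t) :=
    (TopCat.Presheaf.germ_res_apply ((CohTop.push f).obj G).obj (homOfLE hle) y hyV' t).symm
  rw [h1]
  have h2 : ((CohTop.push f).obj G).obj.map (homOfLE hle).op t = 0 := ht0
  rw [h2, map_zero]

/-- **the stalk of a cokernel of direct images** under tautness hypotheses. -/
theorem stalk_iso_of_cokernel (hsurj : TSurj f y S hS) (hinj : TInj f y S hS)
    {A B : CohTop.Ab X} (g : B ⟶ A) {Q : CohTop.Ab Y} (π : (CohTop.push f).obj A ⟶ Q)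
    (w : (CohTop.push f).map g ≫ π = 0) (hπ : IsColimit (CokernelCofork.ofπ π w))
    {T : Type u} [AddCommGroup T] (q : ΓS S A →+ T) (hqs : Function.Surjective q)
    (hqk : ∀ σ, q σ = 0 ↔ ∃ σ' : ΓS S B,
      ((CohTop.pull (kk S)).map g).hom.app (op ⊤) σ' = σ) :
    Nonempty (CohTop.stalk Q y ≅ AddCommGrpCat.of T) := by
  have h1 : IsColimit ((CokernelCofork.ofπ π w).map (stalkFun y)) :=
    CokernelCofork.mapIsColimit _ hπ (stalkFun y)
  have hzero : (stalkFun y).map ((CohTop.push f).map g) ≫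
      (θ f y S hS A ≫ AddCommGrpCat.ofHom q) = 0 := by
    ext x
    have h3 := θ_naturality f y S hS g x
    exact (congrArg q h3).trans ((hqk _).2 ⟨_, rfl⟩)
  let SC : ShortComplex AddCommGrpCat.{u} :=
    ShortComplex.mk ((stalkFun y).map ((CohTop.push f).map g))
      (θ f y S hS A ≫ AddCommGrpCat.ofHom q) hzero
  have hSC : SC.Exact := by
    rw [ShortComplex.ab_exact_iff]
    intro x₂ hx₂
    have hx₂' : q (θ f y S hS A x₂) = 0 := hx₂
    obtain ⟨σ', hσ'⟩ := (hqk _).1 hx₂'
    obtain ⟨x₁, hx₁⟩ := θ_surjective f y S hS hsurj B σ'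
    refine ⟨x₁, ?_⟩
    apply θ_injective f y S hS hinj A
    have h3 := θ_naturality f y S hS g x₁
    rw [hx₁, hσ'] at h3
    exact h3
  have hepi : Epi SC.g := by
    rw [AddCommGrpCat.epi_iff_surjective]
    intro t
    obtain ⟨σ, rfl⟩ := hqs t
    obtain ⟨x, rfl⟩ := θ_surjective f y S hS hsurj A σ
    exact ⟨x, rfl⟩
  have h2 : IsColimit (CokernelCofork.ofπ SC.g SC.zero) := hSC.gIsCokernel
  exact ⟨IsColimit.coconePointUniqueUpToIso h1 h2⟩

/-- degree zero: the stalk of the direct image itself. -/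
theorem isIso_θ (hsurj : TSurj f y S hS) (hinj : TInj f y S hS) (G : CohTop.Ab X) :
    IsIso (θ f y S hS G) :=
  (ConcreteCategory.isIso_iff_bijective _).2
    ⟨θ_injective f y S hS hinj G, θ_surjective f y S hS hsurj G⟩

end Abstract

section Spectral

variable {X Y : TopCat.{u}} [SpectralSpace X] [SpectralSpace Y] (f : X ⟶ Y)
  (hf : IsSpectralMap f) (y : Y)

/-- the preimage of the set of generalizations of `y`. -/
abbrev genFib : Set X := {x | y ∈ closure {f x}}

omit [SpectralSpace X] [SpectralSpace Y] in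
lemma genFib_subset (V : Opens Y) (hy : y ∈ V) : genFib f y ⊆ ((Opens.map f).obj V : Set X) := by
  intro x hx
  obtain ⟨x', hx'V, hx'⟩ := mem_closure_iff.1 hx V V.isOpen hy
  have : x' = f x := hx'
  rw [this] at hx'V
  exact hx'V

include hf in
theorem spec_surj : TSurj f y (genFib f y) (genFib_subset f y) := by
  intro G σ
  obtain ⟨U, ⟨V, hyV, hVc, rfl⟩, t, ht⟩ := (famOfPoint f hf y).taut_surj G σ
  exact ⟨V, hyV, t, ht⟩

include hf in
theorem spec_inj : TInj f y (genFib f y) (genFib_subset f y) := by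
  intro G V hyV t h0
  obtain ⟨Ω, hΩ, hk, ht⟩ := exists_nhd_res_eq_zero (kk (genFib f y)) (unitF (kk (genFib f y)) G)
    (unit_LI (kk (genFib f y)) G) ((Opens.map f).obj V) t ⊤
    (le_map_of_subset (genFib_subset f y V hyV)) h0
  obtain ⟨U', ⟨V₁, hyV₁, -, rfl⟩, hle⟩ := (famOfPoint f hf y).pc_top Ω
    (fun x hx => hk ⟨x, hx⟩ trivial)
  refine ⟨V ⊓ V₁, ⟨hyV, hyV₁⟩, inf_le_left, ?_⟩
  have hle' : (Opens.map f).obj (V ⊓ V₁) ≤ Ω := fun x hx => hle hx.2
  have := congrArg (res G.obj hle') ht
  rw [res_res, res_zero] at this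
  exact this

end Spectral

end Groth.Agent.Lib.Seat38.SpecStalk
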