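import Mathlib
import Groth.Agent.Lib.Seat38LocalHomeoD
import Groth.Agent.Lib.Seat38CechPsh

set_option autoImplicit false
set_option linter.unusedVariables false
universe u
open CategoryTheory CategoryTheory.Limits Opposite TopologicalSpace Simplicial

namespace Groth.Agent.Lib.Seat38.WideSec

open Groth.Agent.Lib.Seat38.LocalHomeo Groth.Agent.Lib.Seat38.CechFree

variable {X S : TopCat.{u}} (f : X ⟶ S) (n : ℕ)

/-- the `(n+1)`-fold fibre product -/
noncomputable abbrev WP : TopCat.{u} := widePullback S (fun _ : Fin (n + 1) => X) (fun _ => f)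

/-- its structure map -/
noncomputable abbrev bs : WP f n ⟶ S := WidePullback.base (fun _ : Fin (n + 1) => f)

/-- its projections -/
noncomputable abbrev pr (i : Fin (n + 1)) : WP f n ⟶ X := WidePullback.π (fun _ : Fin (n + 1) => f) i

lemma f_pr (i : Fin (n + 1)) (y : WP f n) : f (pr f n i y) = bs f n y := by
  have h := WidePullback.π_arrow (fun _ : Fin (n + 1) => f) i
  exact ConcreteCategory.congr_hom h y

lemma wp_ext (y y' : WP f n) (h : ∀ i, pr f n i y = pr f n i y') : y = y' :=
  Concrete.widePullback_ext' (fun _ : Fin (n + 1) => f) y y' h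

variable {f n} {U : Opens S}

/-- the inclusion of an open subspace -/
noncomputable abbrev incl (U : Opens S) : TopCat.of U ⟶ S := TopCat.ofHom ⟨Subtype.val, continuous_subtype_val⟩

/-- the morphism to the fibre product given by a family of sections -/
noncomputable def liftHom (σ : Fin (n + 1) → LSec f ⊤ U) : TopCat.of U ⟶ WP f n :=
  WidePullback.lift (incl U) (fun i => TopCat.ofHom ⟨(σ i).toFun, (σ i).cont⟩)
    (fun i => by
      ext x
      exact (σ i).sec x)

lemma liftHom_bs (σ : Fin (n + 1) → LSec f ⊤ U) (x : U) : bs f n (liftHom σ x) = x.1 := by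
  have h := WidePullback.lift_base (fun _ : Fin (n + 1) => f) (incl U)
    (fun i => TopCat.ofHom ⟨(σ i).toFun, (σ i).cont⟩) (fun i => by
      ext x
      exact (σ i).sec x)
  exact ConcreteCategory.congr_hom h x

lemma liftHom_pr (σ : Fin (n + 1) → LSec f ⊤ U) (i : Fin (n + 1)) (x : U) :
    pr f n i (liftHom σ x) = (σ i).toFun x := by
  have h := WidePullback.lift_π (fun _ : Fin (n + 1) => f) (incl U)
    (fun i => TopCat.ofHom ⟨(σ i).toFun, (σ i).cont⟩) (fun i => by
      ext x
      exact (σ i).sec x) i
  exact ConcreteCategory.congr_hom h x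

/-- a family of sections of `f` gives a section of the fibre product -/
noncomputable def toBase (σ : Fin (n + 1) → LSec f ⊤ U) : LSec (bs f n) ⊤ U where
  toFun x := liftHom σ x
  cont := (liftHom σ).hom.continuous
  sec x := liftHom_bs σ x
  mem x := trivial

/-- a section of the fibre product gives a family of sections of `f` -/
noncomputable def ofBase (τ : LSec (bs f n) ⊤ U) (i : Fin (n + 1)) : LSec f ⊤ U where
  toFun x := pr f n i (τ.toFun x)
  cont := (pr f n i).hom.continuous.comp τ.cont
  sec x := (f_pr f n i _).trans (τ.sec x)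
  mem x := trivial

lemma ofBase_toBase (σ : Fin (n + 1) → LSec f ⊤ U) : ofBase (toBase σ) = σ := by
  funext i
  apply LSec.ext'
  intro x
  exact liftHom_pr σ i x

lemma toBase_ofBase (τ : LSec (bs f n) ⊤ U) : toBase (ofBase τ) = τ := by
  apply LSec.ext'
  intro x
  apply wp_ext
  intro i
  exact liftHom_pr (ofBase τ) i x

/-- sections of the fibre product are families of sections -/
noncomputable def secEquiv : (Fin (n + 1) → LSec f ⊤ U) ≃ LSec (bs f n) ⊤ U where
  toFun := toBase
  invFun := ofBase
  left_inv := ofBase_toBase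
  right_inv := toBase_ofBase

variable (f n)

/-- the presheaf of `(n+1)`-tuples of sections of `f` -/
noncomputable abbrev powPsh : (Opens S)ᵒᵖ ⥤ Type u :=
  secPsh f ⊤ ⋙ cechFunctor ⋙ (evaluation SimplexCategoryᵒᵖ (Type u)).obj (op ⦋n⦌)

/-- tuples of sections of `f` are the sections of the fibre product, as presheaves -/
noncomputable def powPshIso : powPsh f n ≅ secPsh (bs f n) ⊤ :=
  NatIso.ofComponents (fun U => (secEquiv (f := f) (n := n) (U := U.unop)).toIso)
    (fun {U U'} i => by
      ext (σ : Fin (n + 1) → LSec f ⊤ U.unop)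
      apply LSec.ext'
      intro x
      apply wp_ext
      intro j
      exact (liftHom_pr (fun j => (σ j).restrict i.unop.le) j x).trans
        (liftHom_pr σ j ⟨x.1, i.unop.le x.2⟩).symm)


/-- the structure map of the fibre product of a local homeomorphism is a local homeomorphism -/
theorem isLocalHomeomorph_bs (hf : IsLocalHomeomorph f) : IsLocalHomeomorph (bs f n) := by
  classical
  apply IsLocalHomeomorph.mk
  intro y
  have hs : ∀ i, ∃ (U : Opens S) (σ : LSec f ⊤ U), pr f n i y ∈ σ.range hf :=
    fun i => exists_lsec hf ⊤ _ trivial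
  choose Ui σi hσi using hs
  let U : Opens S := ⟨⋂ i, (Ui i : Set S), isOpen_iInter_of_finite (fun i => (Ui i).2)⟩
  have hU : ∀ i, U ≤ Ui i := fun i x hx => Set.mem_iInter.1 hx i
  let σ : Fin (n + 1) → LSec f ⊤ U := fun i => (σi i).restrict (hU i)
  let τ := toBase σ
  have key : ∀ z : WP f n, (∀ i, pr f n i z ∈ (σi i).range hf) →
      ∃ hz : bs f n z ∈ U, τ.toFun ⟨bs f n z, hz⟩ = z := by
    intro z hz
    have h1 : ∀ i, ∃ a : Ui i, (σi i).toFun a = pr f n i z ∧ a.1 = bs f n z := by
      intro i
      obtain ⟨a, ha⟩ := hz i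
      exact ⟨a, ha, by rw [← (σi i).sec a, ha, f_pr]⟩
    have hzU : bs f n z ∈ U := by
      refine Set.mem_iInter.2 (fun i => ?_)
      obtain ⟨a, -, ha⟩ := h1 i
      rw [← ha]
      exact a.2
    refine ⟨hzU, ?_⟩
    apply wp_ext
    intro i
    refine (liftHom_pr σ i _).trans ?_
    obtain ⟨a, ha1, ha2⟩ := h1 i
    change (σi i).toFun ⟨bs f n z, _⟩ = pr f n i z
    rw [← ha1]
    congr 1
    exact Subtype.ext ha2.symm
  let N : Set (WP f n) := Set.range τ.toFun
  have hN : N = ⋂ i, (pr f n i) ⁻¹' ((σi i).range hf : Set X) := by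
    ext z
    constructor
    · rintro ⟨a, rfl⟩
      refine Set.mem_iInter.2 (fun i => ?_)
      change pr f n i (τ.toFun a) ∈ (σi i).range hf
      rw [show pr f n i (τ.toFun a) = (σ i).toFun a from liftHom_pr σ i a]
      exact ⟨⟨a.1, hU i a.2⟩, rfl⟩
    · intro hz
      obtain ⟨hzU, h⟩ := key z (fun i => Set.mem_iInter.1 hz i)
      exact ⟨_, h⟩
  have hNopen : IsOpen N := by
    rw [hN]
    exact isOpen_iInter_of_finite (fun i => ((σi i).range hf).2.preimage (pr f n i).hom.continuous)
  obtain ⟨hyU, hτy⟩ := key y hσi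
  refine ⟨{ toFun := bs f n
            invFun := fun s => if h : s ∈ U then τ.toFun ⟨s, h⟩ else y
            source := N
            target := U
            map_source' := ?_
            map_target' := ?_
            left_inv' := ?_
            right_inv' := ?_
            open_source := hNopen
            open_target := U.2
            continuousOn_toFun := (bs f n).hom.continuous.continuousOn
            continuousOn_invFun := ?_ }, ⟨⟨_, hyU⟩, hτy⟩, fun _ _ => rfl⟩
  · rintro _ ⟨a, rfl⟩
    change bs f n (τ.toFun a) ∈ U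
    rw [τ.sec a]
    exact a.2
  · intro s hs
    have hs' : s ∈ U := hs
    change (if h : s ∈ U then τ.toFun ⟨s, h⟩ else y) ∈ N
    rw [dif_pos hs']
    exact ⟨_, rfl⟩
  · rintro _ ⟨a, rfl⟩
    change (if h : bs f n (τ.toFun a) ∈ U then τ.toFun ⟨bs f n (τ.toFun a), h⟩ else y) = τ.toFun a
    have h1 : bs f n (τ.toFun a) = a.1 := τ.sec a
    rw [dif_pos (h1 ▸ a.2)]
    congr 1
    exact Subtype.ext h1
  · intro s hs
    have hs' : s ∈ U := hs
    change bs f n (if h : s ∈ U then τ.toFun ⟨s, h⟩ else y) = s
    rw [dif_pos hs']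
    exact τ.sec ⟨s, hs⟩
  · rw [continuousOn_iff_continuous_domRestrict]
    have : (U : Set S).domRestrict (fun s => if h : s ∈ U then τ.toFun ⟨s, h⟩ else y) = τ.toFun := by
      funext a
      have ha : a.1 ∈ U := a.2
      change (if h : a.1 ∈ U then τ.toFun ⟨a.1, h⟩ else y) = τ.toFun a
      exact dif_pos ha
    rw [this]
    exact τ.cont

end Groth.Agent.Lib.Seat38.WideSec
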