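import Groth.Prelude.Def_Adeq
import Mathlib.Algebra.Category.ModuleCat.Presheaf.Limits
import Mathlib.Algebra.Category.ModuleCat.Presheaf.Colimits
import Mathlib.Algebra.Category.ModuleCat.Presheaf.Abelian
import Mathlib.Algebra.Homology.ShortComplex.ModuleCat
import Mathlib.Algebra.Homology.ShortComplex.ExactFunctor

/-!
# Seat39: basic element-level API for presheaves of modules / module-valued functors
-/
set_option autoImplicit false
universe u v v₁ u₁
open CategoryTheory Limits

namespace Groth.Agent.Lib.Seat39.MVF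

section General

variable {C : Type u₁} [Category.{v₁} C] {R : Cᵒᵖ ⥤ RingCat.{u}}

/-- The transition map of a presheaf of modules as an additive map with clean types. -/
noncomputable def mp (F : PresheafOfModules.{v} R) {X Y : Cᵒᵖ} (f : X ⟶ Y) : F.obj X →+ F.obj Y :=
  (F.map f).hom.toAddMonoidHom

theorem mp_apply (F : PresheafOfModules.{v} R) {X Y : Cᵒᵖ} (f : X ⟶ Y) (x : F.obj X) :
    mp F f x = F.map f x := rfl

theorem mp_id (F : PresheafOfModules.{v} R) (X : Cᵒᵖ) (x : F.obj X) : mp F (𝟙 X) x = x := by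
  rw [mp_apply, F.map_id]
  rfl

theorem mp_comp (F : PresheafOfModules.{v} R) {X Y Z : Cᵒᵖ} (f : X ⟶ Y) (g : Y ⟶ Z) (x : F.obj X) :
    mp F (f ≫ g) x = mp F g (mp F f x) := by
  rw [mp_apply, F.map_comp_apply]
  rfl

theorem mp_congr (F : PresheafOfModules.{v} R) {X Y : Cᵒᵖ} {f g : X ⟶ Y} (h : f = g) (x : F.obj X) :
    mp F f x = mp F g x := by rw [h]

theorem mp_smul (F : PresheafOfModules.{v} R) {X Y : Cᵒᵖ} (f : X ⟶ Y) (r : R.obj X) (x : F.obj X) :
    mp F f (r • x) = (R.map f).hom r • mp F f x :=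
  F.map_smul f r x

/-- The component of a morphism as an additive map. -/
noncomputable def ap {F G : PresheafOfModules.{v} R} (φ : F ⟶ G) (X : Cᵒᵖ) : F.obj X →+ G.obj X :=
  (φ.app X).hom.toAddMonoidHom

theorem ap_apply {F G : PresheafOfModules.{v} R} (φ : F ⟶ G) (X : Cᵒᵖ) (x : F.obj X) :
    ap φ X x = φ.app X x := rfl

theorem ap_mp {F G : PresheafOfModules.{v} R} (φ : F ⟶ G) {X Y : Cᵒᵖ} (f : X ⟶ Y) (x : F.obj X) :
    ap φ Y (mp F f x) = mp G f (ap φ X x) :=
  PresheafOfModules.naturality_apply φ f x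

theorem ap_smul {F G : PresheafOfModules.{v} R} (φ : F ⟶ G) (X : Cᵒᵖ) (r : R.obj X) (x : F.obj X) :
    ap φ X (r • x) = r • ap φ X x :=
  (φ.app X).hom.map_smul r x

theorem ap_comp {F G H : PresheafOfModules.{v} R} (φ : F ⟶ G) (ψ : G ⟶ H) (X : Cᵒᵖ) (x : F.obj X) :
    ap (φ ≫ ψ) X x = ap ψ X (ap φ X x) := rfl

theorem ap_id (F : PresheafOfModules.{v} R) (X : Cᵒᵖ) (x : F.obj X) :
    ap (𝟙 F) X x = x := rfl

theorem ap_zero {F G : PresheafOfModules.{v} R} (X : Cᵒᵖ) (x : F.obj X) :
    ap (0 : F ⟶ G) X x = 0 := rfl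

variable (S : ShortComplex (PresheafOfModules.{v} R)) (hS : S.ShortExact) (X : Cᵒᵖ)

include hS

theorem evalShortExact :
    (S.map (PresheafOfModules.evaluation.{v} R X)).ShortExact :=
  hS.map_of_exact _

theorem f_injective : Function.Injective (ap S.f X) :=
  (evalShortExact S hS X).moduleCat_injective_f

theorem g_surjective : Function.Surjective (ap S.g X) :=
  (evalShortExact S hS X).moduleCat_surjective_g

theorem exact_mid (y : S.X₂.obj X) (hy : ap S.g X y = 0) : ∃ x : S.X₁.obj X, ap S.f X x = y := by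
  have h := (evalShortExact S hS X).exact
  rw [ShortComplex.moduleCat_exact_iff] at h
  exact h y hy

omit hS in
theorem g_f_apply (x : S.X₁.obj X) : ap S.g X (ap S.f X x) = 0 := by
  have h : (S.f ≫ S.g).app X x = 0 := by rw [S.zero]; rfl
  exact h

end General

end Groth.Agent.Lib.Seat39.MVF

namespace Groth.Agent.Lib.Seat39.MVF

section Exact

variable {C : Type u₁} [Category.{v₁} C] {R : Cᵒᵖ ⥤ RingCat.{u}}

theorem exact_apply (S : ShortComplex (PresheafOfModules.{v} R)) (hS : S.Exact) (X : Cᵒᵖ)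
    (y : S.X₂.obj X) (hy : ap S.g X y = 0) : ∃ x : S.X₁.obj X, ap S.f X x = y := by
  have h := hS.map (PresheafOfModules.evaluation.{v} R X)
  rw [ShortComplex.moduleCat_exact_iff] at h
  exact h y hy

theorem ap_injective_of_mono {F G : PresheafOfModules.{v} R} (φ : F ⟶ G) [Mono φ] (X : Cᵒᵖ) :
    Function.Injective (ap φ X) :=
  PresheafOfModules.injective_of_mono φ X

theorem ap_surjective_of_epi {F G : PresheafOfModules.{v} R} (φ : F ⟶ G) [Epi φ] (X : Cᵒᵖ) :
    Function.Surjective (ap φ X) :=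
  PresheafOfModules.surjective_of_epi φ X

theorem mono_of_ap_injective {F G : PresheafOfModules.{v} R} (φ : F ⟶ G)
    (h : ∀ X, Function.Injective (ap φ X)) : Mono φ :=
  PresheafOfModules.mono_of_injective (fun X => h X)

theorem epi_of_ap_surjective {F G : PresheafOfModules.{v} R} (φ : F ⟶ G)
    (h : ∀ X, Function.Surjective (ap φ X)) : Epi φ :=
  PresheafOfModules.epi_of_surjective (fun X => h X)

theorem isIso_of_ap_bijective {F G : PresheafOfModules.{v} R} (φ : F ⟶ G)
    (h : ∀ X, Function.Bijective (ap φ X)) : IsIso φ := by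
  have := mono_of_ap_injective φ (fun X => (h X).1)
  have := epi_of_ap_surjective φ (fun X => (h X).2)
  exact isIso_of_mono_of_epi φ

theorem ap_bijective_of_isIso {F G : PresheafOfModules.{v} R} (φ : F ⟶ G) [IsIso φ] (X : Cᵒᵖ) :
    Function.Bijective (ap φ X) :=
  ⟨ap_injective_of_mono φ X, ap_surjective_of_epi φ X⟩

/-- Element-level description of the kernel. -/
theorem kernel_ι_injective {F G : PresheafOfModules.{v} R} (ψ : F ⟶ G) (X : Cᵒᵖ) :
    Function.Injective (ap (kernel.ι ψ) X) := ap_injective_of_mono _ X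

theorem kernel_ι_exact {F G : PresheafOfModules.{v} R} (ψ : F ⟶ G) (X : Cᵒᵖ) (p : F.obj X)
    (hp : ap ψ X p = 0) : ∃ k : (kernel ψ).obj X, ap (kernel.ι ψ) X k = p :=
  exact_apply _ (ShortComplex.kernelSequence_exact ψ) X p hp

theorem kernel_ι_comp_apply {F G : PresheafOfModules.{v} R} (ψ : F ⟶ G) (X : Cᵒᵖ)
    (k : (kernel ψ).obj X) : ap ψ X (ap (kernel.ι ψ) X k) = 0 := by
  rw [← ap_comp, kernel.condition, ap_zero]

/-- Element-level description of the cokernel. -/
theorem cokernel_π_surjective {F G : PresheafOfModules.{v} R} (ψ : F ⟶ G) (X : Cᵒᵖ) :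
    Function.Surjective (ap (cokernel.π ψ) X) := ap_surjective_of_epi _ X

theorem cokernel_π_exact {F G : PresheafOfModules.{v} R} (ψ : F ⟶ G) (X : Cᵒᵖ) (q : G.obj X)
    (hq : ap (cokernel.π ψ) X q = 0) : ∃ p : F.obj X, ap ψ X p = q :=
  exact_apply _ (ShortComplex.cokernelSequence_exact ψ) X q hq

theorem cokernel_π_comp_apply {F G : PresheafOfModules.{v} R} (ψ : F ⟶ G) (X : Cᵒᵖ)
    (p : F.obj X) : ap (cokernel.π ψ) X (ap ψ X p) = 0 := by
  rw [← ap_comp, cokernel.condition, ap_zero]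

end Exact

end Groth.Agent.Lib.Seat39.MVF
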