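import Groth.Prelude.Def_Adeq
import Groth.Agent.Lib.Seat39MVF

/-!
# Seat39: adequate functors: element-level API for `underline` and presentations
-/
set_option autoImplicit false
universe u
open CategoryTheory Limits Opposite TensorProduct

namespace Groth.Agent.Lib.Seat39.AdeqF

open Adeq Groth.Agent.Lib.Seat39.MVF

variable {A : Type u} [CommRing A]

section Underline

variable (M N : ModuleCat.{u + 1} A)

/-- The value of `underline M` at `B` is `B ⊗[A] M`. -/
abbrev toT {B : Alg A} (t : ((underline A).obj M).obj (pt B)) : (B : Type u) ⊗[A] M := t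

/-- An element of `B ⊗[A] M` as an element of `underline M (B)`. -/
abbrev ofT {B : Alg A} (t : (B : Type u) ⊗[A] M) : ((underline A).obj M).obj (pt B) := t

variable {M N}

theorem underline_map_apply (φ : M ⟶ N) (B : Alg A) (t : (B : Type u) ⊗[A] M) :
    ap ((underline A).map φ) (pt B) (ofT M t) = ofT N (φ.hom.baseChange (B : Type u) t) := rfl

theorem underline_mp_apply {B B' : Alg A} (f : B ⟶ B') (t : (B : Type u) ⊗[A] M) :
    mp ((underline A).obj M) (ptHom f) (ofT M t) = ofT M (f.hom.toLinearMap.rTensor M t) := rfl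

theorem underline_smul {B : Alg A} (b : B) (t : (B : Type u) ⊗[A] M) :
    (b • ofT M t : ((underline A).obj M).obj (pt B)) = ofT M (b • t) := rfl

end Underline

/-- A presentation of a module-valued functor as a kernel of a map `underline M → underline N`,
in element-level terms. -/
structure Pres (F : MVF A) where
  /-- source module -/
  M : ModuleCat.{u + 1} A
  /-- target module -/
  N : ModuleCat.{u + 1} A
  /-- the map of modules -/
  φ : M ⟶ N
  /-- the embedding of `F` -/
  j : F ⟶ (underline A).obj M
  inj : ∀ X, Function.Injective (ap j X)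
  zero : j ≫ (underline A).map φ = 0
  exact : ∀ X (p : ((underline A).obj M).obj X), ap ((underline A).map φ) X p = 0 →
    ∃ x : F.obj X, ap j X x = p

theorem Pres.zero_apply {F : MVF A} (P : Pres F) (X) (x : F.obj X) :
    ap ((underline A).map P.φ) X (ap P.j X x) = 0 := by
  rw [← ap_comp, P.zero, ap_zero]

/-- The presentation of a kernel. -/
noncomputable def presOfIso {F : MVF A} {M N : ModuleCat.{u + 1} A} (φ : M ⟶ N)
    (e : F ≅ kernel ((underline A).map φ)) : Pres F where
  M := M
  N := N
  φ := φ
  j := e.hom ≫ kernel.ι _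
  inj X := ap_injective_of_mono _ X
  zero := by rw [Category.assoc, kernel.condition, comp_zero]
  exact X p hp := by
    obtain ⟨k, hk⟩ := kernel_ι_exact _ X p hp
    obtain ⟨x, hx⟩ := (ap_bijective_of_isIso e.hom X).2 k
    exact ⟨x, by rw [ap_comp, hx, hk]⟩

/-- A presented functor is isomorphic to the kernel. -/
theorem Pres.isIso_lift {F : MVF A} (P : Pres F) :
    IsIso (kernel.lift ((underline A).map P.φ) P.j P.zero) := by
  apply isIso_of_ap_bijective
  intro X
  constructor
  · intro x y h
    apply P.inj X
    have := congrArg (ap (kernel.ι ((underline A).map P.φ)) X) h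
    rwa [← ap_comp, ← ap_comp, kernel.lift_ι] at this
  · intro k
    obtain ⟨x, hx⟩ := P.exact X _ (kernel_ι_comp_apply _ X k)
    refine ⟨x, kernel_ι_injective _ X ?_⟩
    rw [← ap_comp, kernel.lift_ι, hx]

theorem Pres.adequate {F : MVF A} (P : Pres F) : adequate A F := by
  have := P.isIso_lift
  exact ⟨P.M, P.N, P.φ, ⟨asIso (kernel.lift ((underline A).map P.φ) P.j P.zero)⟩⟩

theorem adequate_iff_nonempty_pres (F : MVF A) : adequate A F ↔ Nonempty (Pres F) := by
  constructor
  · rintro ⟨M, N, φ, ⟨e⟩⟩
    exact ⟨presOfIso φ e⟩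
  · rintro ⟨P⟩
    exact P.adequate

end Groth.Agent.Lib.Seat39.AdeqF
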