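import Groth.Agent.Lib.Seat39AdeqCover
import Mathlib.CategoryTheory.Limits.Constructions.LimitsOfProductsAndEqualizers
import Mathlib.CategoryTheory.Preadditive.Basic

/-!
# Seat39: colimits of adequate functors are adequate
-/
set_option autoImplicit false
universe u
open CategoryTheory Limits Opposite

namespace Groth.Agent.Lib.Seat39.AdeqF

open Adeq Groth.Agent.Lib.Seat39.MVF

variable {A : Type u} [CommRing A]

/-- A coproduct of adequate functors is adequate (cofan version). -/
theorem adequate_cofan_pt {ι : Type (u + 1)} (F : ι → MVF A) (hF : ∀ i, adequate A (F i))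
    (c : Cofan F) (hc : IsColimit c) : adequate A c.pt := by
  classical
  have hP : ∀ i, Nonempty (Pres (F i)) := fun i => (adequate_iff_nonempty_pres (F i)).mp (hF i)
  exact (presCoprod F (fun i => (hP i).some) c hc).adequate

/-- A coproduct of adequate functors is adequate. -/
theorem adequate_sigma {ι : Type (u + 1)} (F : ι → MVF A) (hF : ∀ i, adequate A (F i)) :
    adequate A (∐ F) :=
  adequate_cofan_pt F hF (Cofan.mk (∐ F) (Sigma.ι F)) (coproductIsCoproduct F)

/-- A coequalizer of adequate functors is adequate. -/
theorem adequate_coequalizer {F G : MVF A} (s t : F ⟶ G) (hF : adequate A F) (hG : adequate A G) :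
    adequate A (coequalizer s t) := by
  have h1 : adequate A (cokernel (s - t)) := adequate_cokernel _ hF hG
  let e : coequalizer s t ≅ cokernel (s - t) :=
    IsColimit.coconePointUniqueUpToIso (colimit.isColimit _)
      (Preadditive.isColimitCoforkOfCokernelCofork (cokernelIsCokernel (s - t)))
  exact (adequate A).prop_of_iso e.symm h1

/-- A colimit of adequate functors is adequate. -/
theorem adequate_colimit {J : Type (u + 1)} [SmallCategory J] (D : J ⥤ MVF A)
    (hD : ∀ j, adequate A (D.obj j)) : adequate A (colimit D) := by
  let CC := colimitCoconeOfCoequalizerAndCoproduct D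
  have h1 : adequate A CC.cocone.pt := by
    apply adequate_coequalizer
    · exact adequate_sigma _ (fun f => hD _)
    · exact adequate_sigma _ hD
  exact (adequate A).prop_of_iso (colimit.isoColimitCocone CC).symm h1

end Groth.Agent.Lib.Seat39.AdeqF
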