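import Groth.Agent.Lib.Seat39AdeqKer
import Groth.Agent.Lib.Seat39AdeqColim
import Groth.Agent.Lib.Helper23PshModGroth
import Mathlib.CategoryTheory.Adjunction.AdjointFunctorTheorems
import Mathlib.CategoryTheory.Limits.FullSubcategory

/-!
# Seat39: the inclusion of adequate functors has a right adjoint; enough injectives
-/
set_option autoImplicit false
universe u
open CategoryTheory Limits Opposite

namespace Groth.Agent.Lib.Seat39.AdeqAdj

open Adeq Groth.Agent.Lib.Seat39.MVF Groth.Agent.Lib.Seat39.AdeqF

variable (A : Type u) [CommRing A]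

instance closedUnderColimits (J : Type (u + 1)) [SmallCategory J] :
    (adequate A).IsClosedUnderColimitsOfShape J where
  colimitsOfShape_le := by
    rintro X ⟨p⟩
    exact (adequate A).prop_of_iso
      (IsColimit.coconePointUniqueUpToIso (colimit.isColimit p.diag) p.isColimit)
      (adequate_colimit p.diag p.prop_diag_obj)

instance hasColimitsAdequate : HasColimitsOfSize.{u + 1, u + 1} (Adequate A) :=
  ⟨fun J _ => inferInstance⟩

instance preservesColimitsι : PreservesColimitsOfSize.{u + 1, u + 1} (adequate A).ι :=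
  ⟨fun {J} _ => inferInstance⟩

variable {A}

/-- An epimorphism of adequate functors is an epimorphism of module-valued functors. -/
theorem epi_hom_of_epi {X Y : Adequate A} (f : X ⟶ Y) [Epi f] : Epi f.hom := by
  apply Preadditive.epi_of_cokernel_zero
  let c : Adequate A := ⟨cokernel f.hom, adequate_cokernel f.hom X.property Y.property⟩
  let π : Y ⟶ c := ObjectProperty.homMk (cokernel.π f.hom)
  have h : f ≫ π = f ≫ ObjectProperty.homMk 0 := by
    apply ObjectProperty.hom_ext
    change f.hom ≫ cokernel.π f.hom = f.hom ≫ 0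
    rw [cokernel.condition, comp_zero]
  have h2 := (cancel_epi f).mp h
  exact congrArg InducedCategory.Hom.hom h2

/-- A monomorphism of adequate functors is a monomorphism of module-valued functors. -/
theorem mono_hom_of_mono {X Y : Adequate A} (f : X ⟶ Y) [Mono f] : Mono f.hom := by
  apply Preadditive.mono_of_kernel_zero
  let c : Adequate A := ⟨kernel f.hom, adequate_kernel f.hom X.property Y.property⟩
  let κ : c ⟶ X := ObjectProperty.homMk (kernel.ι f.hom)
  have h : κ ≫ f = ObjectProperty.homMk 0 ≫ f := by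
    apply ObjectProperty.hom_ext
    change kernel.ι f.hom ≫ f.hom = 0 ≫ f.hom
    rw [kernel.condition, zero_comp]
  have h2 := (cancel_mono f).mp h
  exact congrArg InducedCategory.Hom.hom h2

variable (A) in
theorem wellPoweredMVF : WellPowered.{u + 1} (MVF A) := by
  have := Groth.Agent.Lib.Helper23PshModGroth.isGrothendieckAbelian (ringOf A)
  exact IsGrothendieckAbelian.wellPowered.{u + 1} (MVF A)

/-- Quotients of an adequate functor with the same kernel are comparable. -/
theorem quot_le {X : (Adequate A)ᵒᵖ} (P Q : Subobject X)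
    (h : Subobject.mk (kernel.ι Q.arrow.unop.hom) ≤ Subobject.mk (kernel.ι P.arrow.unop.hom)) :
    P ≤ Q := by
  have hq : Epi Q.arrow.unop := inferInstance
  have hq' : Epi Q.arrow.unop.hom := epi_hom_of_epi _
  have h0 : kernel.ι Q.arrow.unop.hom ≫ P.arrow.unop.hom = 0 := by
    rw [← Subobject.ofMkLEMk_comp h, Category.assoc, kernel.condition, comp_zero]
  let d : (Q : (Adequate A)ᵒᵖ).unop.obj ⟶ (P : (Adequate A)ᵒᵖ).unop.obj :=
    Abelian.epiDesc Q.arrow.unop.hom P.arrow.unop.hom h0
  have hd : Q.arrow.unop.hom ≫ d = P.arrow.unop.hom := Abelian.comp_epiDesc _ _ h0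
  let d' : (Q : (Adequate A)ᵒᵖ).unop ⟶ (P : (Adequate A)ᵒᵖ).unop := ObjectProperty.homMk d
  refine Subobject.le_of_comm d'.op ?_
  apply Quiver.Hom.unop_inj
  apply ObjectProperty.hom_ext
  exact hd

variable (A) in
theorem wellPoweredAdequateOp : WellPowered.{u + 1} (Adequate A)ᵒᵖ where
  subobject_small X := by
    have := wellPoweredMVF A
    refine small_of_injective (β := Subobject X.unop.obj)
      (f := fun P => Subobject.mk (kernel.ι P.arrow.unop.hom)) ?_
    intro P Q h
    exact le_antisymm (quot_le P Q (le_of_eq h.symm)) (quot_le Q P (le_of_eq h))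

section Models

variable (A)

/-- The standard free module of rank `n`, one universe up. -/
abbrev FreeN (n : ℕ) : ModuleCat.{u + 1} A := ModuleCat.of A (ULift.{u + 1} (Fin n → A))

/-- The index type of the models of linearly adequate functors. -/
abbrev Idx : Type (u + 1) := Σ (n m : ℕ), (FreeN A n ⟶ FreeN A m)

/-- The model functors. -/
noncomputable def model (i : Idx A) : Adequate A :=
  ⟨kernel ((underline A).map i.2.2), ⟨_, _, i.2.2, ⟨Iso.refl _⟩⟩⟩

variable {A}

theorem exists_iso_freeN (P : ModuleCat.{u + 1} A) [Module.Finite A P] [Module.Free A P] :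
    ∃ n : ℕ, Nonempty (P ≅ FreeN A n) := by
  classical
  let b := Module.Free.chooseBasis A P
  let n := Fintype.card (Module.Free.ChooseBasisIndex A P)
  let e1 : P ≃ₗ[A] (Fin n → A) :=
    (b.reindex (Fintype.equivFin (Module.Free.ChooseBasisIndex A P))).equivFun
  let e2 : P ≃ₗ[A] ULift.{u + 1} (Fin n → A) := e1.trans ULift.moduleEquiv.symm
  exact ⟨n, ⟨e2.toModuleIso⟩⟩

theorem exists_iso_model (L : MVF A) (hL : linAdequate A L) :
    ∃ i : Idx A, Nonempty (L ≅ (model A i).obj) := by
  obtain ⟨P, P', φ, h1, h2, h3, h4, ⟨e⟩⟩ := hL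
  obtain ⟨n, ⟨eP⟩⟩ := exists_iso_freeN P
  obtain ⟨m, ⟨eP'⟩⟩ := exists_iso_freeN P'
  refine ⟨⟨n, m, eP.inv ≫ φ ≫ eP'.hom⟩, ⟨e ≪≫ ?_⟩⟩
  refine kernel.mapIso _ _ ((underline A).mapIso eP) ((underline A).mapIso eP') ?_
  change (underline A).map φ ≫ (underline A).map eP'.hom =
    (underline A).map eP.hom ≫ (underline A).map (eP.inv ≫ φ ≫ eP'.hom)
  rw [← Functor.map_comp, ← Functor.map_comp, eP.hom_inv_id_assoc]

theorem isSeparating_models : (ObjectProperty.ofObj (model A)).IsSeparating := by
  intro X Y f g h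
  apply ObjectProperty.hom_ext
  apply hom_ext_ap
  rintro ⟨⟨B⟩⟩ ξ
  obtain ⟨L, ψ, hL, η, hη⟩ :=
    Groth.Agent.Helper13Adeq.exists_linAdequate_hits X.obj X.property B ξ
  obtain ⟨i, ⟨e⟩⟩ := exists_iso_model L hL
  have h1 := h (model A i) ⟨i⟩ (ObjectProperty.homMk (e.inv ≫ ψ))
  have h2 : (e.inv ≫ ψ) ≫ f.hom = (e.inv ≫ ψ) ≫ g.hom :=
    congrArg InducedCategory.Hom.hom h1
  have h3 := congrArg (fun t => ap t (pt B) (ap e.hom (pt B) η)) h2
  simp only [ap_comp] at h3
  have h4 : ap e.inv (pt B) (ap e.hom (pt B) η) = η := by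
    rw [← ap_comp, e.hom_inv_id, ap_id]
  have h5 : ap ψ (pt B) η = ξ := hη
  rw [h4, h5] at h3
  exact h3

end Models

variable (A) in
/-- The inclusion of adequate functors into module-valued functors has a right adjoint. -/
theorem isLeftAdjoint_ι : (adequate A).ι.IsLeftAdjoint := by
  have := wellPoweredAdequateOp A
  exact isLeftAdjoint_of_preservesColimits_of_isSeparating (isSeparating_models (A := A))
    (adequate A).ι

instance preservesMonoι : (adequate A).ι.PreservesMonomorphisms where
  preserves f _ := mono_hom_of_mono f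

variable (A) in
/-- The category of adequate functors has enough injectives. -/
theorem enoughInjectives_adequate : EnoughInjectives (Adequate A) := by
  have := isLeftAdjoint_ι A
  have : EnoughInjectives (MVF A) :=
    Groth.Agent.Lib.Helper23PshModGroth.enoughInjectives (ringOf A)
  exact EnoughInjectives.of_adjunction (Adjunction.ofIsLeftAdjoint (adequate A).ι)

end Groth.Agent.Lib.Seat39.AdeqAdj
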