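import Groth.Agent.Lib.Seat69Amitsur
import Mathlib.LinearAlgebra.TensorProduct.Associator
import Mathlib.RingTheory.Flat.FaithfullyFlat.Basic

/-!
# Seat39: the Amitsur complex of a faithfully flat algebra tensored with a module is exact

With helper69's tower `M j` (`M 0 = R`, `M (j+1) = B ⊗ M j`) and differential `d j`, for every `R`-module `X`
the pair `(d j) ⊗ X`, `(d (j+1)) ⊗ X` is exact.
-/

set_option autoImplicit false
universe u v

namespace Groth.Agent.Lib.Seat39.AmitsurT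

open TensorProduct Groth.Agent.Lib.Seat69.Amitsur

variable (R B : Type u) [CommRing R] [CommRing B] [Algebra R B]
  (X : Type v) [AddCommGroup X] [Module R X]

/-- `(B ⊗ M j) ⊗ X ≃ B ⊗ (M j ⊗ X)`. -/
noncomputable def σ (j : ℕ) : (M R B (j + 1)) ⊗[R] X ≃ₗ[R] B ⊗[R] ((M R B j) ⊗[R] X) :=
  (TensorProduct.assoc R B (M R B j) X :
    (B ⊗[R] (M R B j)) ⊗[R] X ≃ₗ[R] B ⊗[R] ((M R B j) ⊗[R] X))

theorem σ_tm (j : ℕ) (b : B) (c : M R B j) (x : X) :
    σ R B X j (tm R B j b c ⊗ₜ[R] x) = b ⊗ₜ[R] (c ⊗ₜ[R] x) := rfl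

/-- The transported differential `M j ⊗ X → B ⊗ (M j ⊗ X)`. -/
noncomputable def dP (j : ℕ) : (M R B j) ⊗[R] X →ₗ[R] B ⊗[R] ((M R B j) ⊗[R] X) :=
  (σ R B X j).toLinearMap ∘ₗ (d R B j).rTensor X

theorem key (j : ℕ) :
    (((σ R B X j).toLinearMap.lTensor B) ∘ₗ (σ R B X (j + 1)).toLinearMap) ∘ₗ
        (d R B (j + 1)).rTensor X =
      (TensorProduct.mk R B (B ⊗[R] ((M R B j) ⊗[R] X)) 1 - (dP R B X j).lTensor B) ∘ₗ
        (σ R B X j).toLinearMap := by
  apply TensorProduct.ext'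
  intro y x
  induction y using tm_induction with
  | h0 => simp
  | htm b c =>
    have h1 : d R B (j + 1) (tm R B j b c) =
        tm R B (j + 1) 1 (tm R B j b c) - tm R B (j + 1) b (d R B j c) := by
      rw [d_succ, LinearMap.sub_apply]
      rfl
    simp only [LinearMap.coe_comp, Function.comp_apply, LinearEquiv.coe_coe,
      LinearMap.rTensor_tmul, h1, TensorProduct.sub_tmul, map_sub, σ_tm, LinearMap.lTensor_tmul,
      LinearMap.sub_apply, TensorProduct.mk_apply, dP]
  | hadd y z hy hz =>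
    rw [TensorProduct.add_tmul, map_add, map_add, hy, hz]

theorem exact_rTensor [Module.FaithfullyFlat R B] (j : ℕ) :
    Function.Exact ((d R B j).rTensor X) ((d R B (j + 1)).rTensor X) := by
  have h0 : (TensorProduct.mk R B (B ⊗[R] ((M R B j) ⊗[R] X)) 1 - (dP R B X j).lTensor B) ∘ₗ
      (dP R B X j) = 0 := by
    have hk := key R B X j
    have : (TensorProduct.mk R B (B ⊗[R] ((M R B j) ⊗[R] X)) 1 - (dP R B X j).lTensor B) ∘ₗ
        (dP R B X j) =
        ((((σ R B X j).toLinearMap.lTensor B) ∘ₗ (σ R B X (j + 1)).toLinearMap) ∘ₗ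
          (d R B (j + 1)).rTensor X) ∘ₗ (d R B j).rTensor X := by
      rw [hk, dP, LinearMap.comp_assoc]
    rw [this, LinearMap.comp_assoc, ← LinearMap.rTensor_comp, d_comp_d, LinearMap.rTensor_zero,
      LinearMap.comp_zero]
  have hex := exact_step (R := R) (A := B) ((M R B j) ⊗[R] X) (dP R B X j) h0
  intro y
  constructor
  · intro hy
    have h2 : (TensorProduct.mk R B (B ⊗[R] ((M R B j) ⊗[R] X)) 1 - (dP R B X j).lTensor B)
        (σ R B X j y) = 0 := by
      have := LinearMap.congr_fun (key R B X j) y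
      simp only [LinearMap.coe_comp, Function.comp_apply, LinearEquiv.coe_coe] at this
      rw [← this, hy, map_zero, map_zero]
    obtain ⟨p, hp⟩ := (hex _).mp h2
    refine ⟨p, (σ R B X j).injective ?_⟩
    exact hp
  · rintro ⟨p, rfl⟩
    rw [← LinearMap.comp_apply, ← LinearMap.rTensor_comp, d_comp_d, LinearMap.rTensor_zero,
      LinearMap.zero_apply]

end Groth.Agent.Lib.Seat39.AmitsurT
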