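import Groth.Agent.Lib.Seat39Adeq
import Groth.Agent.Lib.Seat39AmitsurT
import Mathlib.RingTheory.Flat.Stability
import Mathlib.RingTheory.Flat.Basic
import Mathlib.Algebra.Exact.Basic

/-!
# Seat39: exactness of the Amitsur complex of an adequate functor in positive degrees

For `B` faithfully flat over `R` and `F` an adequate module-valued functor on `R`-algebras, the complex
`F(M 1) → F(M 2) → …` (`M j` the `j`-fold tensor power of `B`, differential the alternating sum of the cofaces)
is exact at `F(M (n+1))` for `n ≥ 1`, and more precisely `F(M n) → F(M (n+1)) → F(M (n+2))` is exact for all `n`.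
-/

set_option autoImplicit false
universe u
open CategoryTheory Limits Opposite TensorProduct

namespace Groth.Agent.Lib.Seat39.AdeqAmitsur

open Adeq Groth.Agent.Lib.Seat39.MVF Groth.Agent.Lib.Seat39.AdeqF Groth.Agent.Lib.Seat69.Amitsur
  Groth.Agent.Lib.Seat39.AmitsurT

variable (R : Type u) [CommRing R] (B : Type u) [CommRing B] [Algebra R B]

/-- the coface as a morphism of `Alg R` -/
noncomputable def δh (n : ℕ) (i : Fin (n + 1)) : (M R B n : Alg R) ⟶ (M R B (n + 1) : Alg R) :=
  CommAlgCat.ofHom (δ R B n i)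

theorem flat_M [Module.Flat R B] : ∀ n : ℕ, Module.Flat R (M R B n)
  | 0 => (inferInstance : Module.Flat R R)
  | (n + 1) => by
    have := flat_M n
    exact (inferInstance : Module.Flat R (B ⊗[R] (M R B n)))

variable {R}

/-- the alternating sum of the cofaces on a module-valued functor -/
noncomputable def DF (F : MVF R) (n : ℕ) : F.obj (pt (M R B n)) →+ F.obj (pt (M R B (n + 1))) :=
  ∑ i : Fin (n + 1), ((-1 : ℤ) ^ (i : ℕ)) • mp F (ptHom (δh R B n i))

theorem DF_apply (F : MVF R) (n : ℕ) (x : F.obj (pt (M R B n))) :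
    DF B F n x = ∑ i : Fin (n + 1), ((-1 : ℤ) ^ (i : ℕ)) • mp F (ptHom (δh R B n i)) x := by
  unfold DF
  rw [AddMonoidHom.finsetSum_apply]
  rfl

theorem ap_DF {F G : MVF R} (ψ : F ⟶ G) (n : ℕ) (x : F.obj (pt (M R B n))) :
    ap ψ _ (DF B F n x) = DF B G n (ap ψ _ x) := by
  rw [DF_apply, DF_apply, map_sum]
  apply Finset.sum_congr rfl
  intro i _
  rw [map_zsmul, ap_mp]

theorem DF_underline (X : ModuleCat.{u + 1} R) (n : ℕ) (t : (M R B n : Type u) ⊗[R] X) :
    DF B ((underline R).obj X) n (ofT X t) = ofT X ((d R B n).rTensor X t) := by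
  rw [DF_apply]
  have h : (d R B n).rTensor X =
      ∑ i : Fin (n + 1), ((-1 : ℤ) ^ (i : ℕ)) • (δ R B n i).toLinearMap.rTensor X := by
    change LinearMap.rTensorHom X (d R B n) = _
    unfold d
    rw [map_sum]
    apply Finset.sum_congr rfl
    intro i _
    rw [map_zsmul]
    rfl
  rw [h, LinearMap.sum_apply]
  rfl

/-- Exactness of `F(M n) → F(M (n+1)) → F(M (n+2))` for an adequate functor `F` and a faithfully flat `B`. -/
theorem adequate_exact [Module.FaithfullyFlat R B] (F : MVF R) (hF : adequate R F) (n : ℕ)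
    (x : F.obj (pt (M R B (n + 1)))) (hx : DF B F (n + 1) x = 0) :
    ∃ y : F.obj (pt (M R B n)), DF B F n y = x := by
  obtain ⟨P⟩ := (adequate_iff_nonempty_pres F).mp hF
  have hfl : ∀ m, Module.Flat R (M R B m) := flat_M R B
  let K : Submodule R P.M := LinearMap.ker P.φ.hom
  let k : K →ₗ[R] P.M := K.subtype
  have hkφ : Function.Exact k P.φ.hom := LinearMap.exact_subtype_ker_map P.φ.hom
  have hkinj : ∀ m, Function.Injective (k.lTensor (M R B m)) := fun m =>
    Module.Flat.lTensor_preserves_injective_linearMap (M := (M R B m)) k K.subtype_injective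
  have hkex : ∀ m, Function.Exact (k.lTensor (M R B m)) (P.φ.hom.lTensor (M R B m)) := fun m =>
    Module.Flat.lTensor_exact (M R B m) hkφ
  -- commutation of the differential with `k`
  have hcomm : ∀ m (z : (M R B m : Type u) ⊗[R] K),
      k.lTensor (M R B (m + 1)) ((d R B m).rTensor K z) =
        (d R B m).rTensor P.M (k.lTensor (M R B m) z) := by
    intro m z
    rw [← LinearMap.comp_apply, ← LinearMap.comp_apply, LinearMap.lTensor_comp_rTensor,
      LinearMap.rTensor_comp_lTensor]
  -- the image of `x`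
  let t : (M R B (n + 1) : Type u) ⊗[R] P.M := toT P.M (ap P.j _ x)
  have ht : P.φ.hom.lTensor (M R B (n + 1)) t = 0 := P.zero_apply _ x
  obtain ⟨z, hz⟩ := (hkex (n + 1) t).mp ht
  have hDz : (d R B (n + 1)).rTensor K z = 0 := by
    apply hkinj (n + 2)
    rw [hcomm, hz, map_zero]
    have h1 := ap_DF B P.j (n + 1) x
    rw [hx, map_zero] at h1
    have h2 := DF_underline B P.M (n + 1) t
    exact h2.symm.trans h1.symm
  obtain ⟨z', hz'⟩ := (exact_rTensor R B K n z).mp hDz
  let t' : (M R B n : Type u) ⊗[R] P.M := k.lTensor (M R B n) z'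
  have ht' : ap ((underline R).map P.φ) (pt (M R B n)) (ofT P.M t') = 0 := by
    change P.φ.hom.lTensor (M R B n) (k.lTensor (M R B n) z') = 0
    exact (hkex n _).mpr ⟨z', rfl⟩
  obtain ⟨y, hy⟩ := P.exact _ _ ht'
  refine ⟨y, P.inj _ ?_⟩
  rw [ap_DF, hy]
  refine (DF_underline B P.M n t').trans ?_
  change (d R B n).rTensor P.M (k.lTensor (M R B n) z') = t
  rw [← hcomm, hz', hz]

end Groth.Agent.Lib.Seat39.AdeqAmitsur
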