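import Mathlib.LinearAlgebra.TensorProduct.RightExactness
import Mathlib.LinearAlgebra.TensorProduct.Tower
import Mathlib.RingTheory.TensorProduct.Basic
import Mathlib.LinearAlgebra.Quotient.Basic
import Mathlib.LinearAlgebra.Prod

/-!
# Seat39: the pushout-type modules used to present a cokernel of adequate functors
-/
set_option autoImplicit false
universe u v
open TensorProduct

namespace Groth.Agent.Lib.Seat39.CokerAlg

variable {A : Type u} [CommRing A] {M N P P' : Type v}
  [AddCommGroup M] [Module A M] [AddCommGroup N] [Module A N]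
  [AddCommGroup P] [Module A P] [AddCommGroup P'] [Module A P']
  (g : P →ₗ[A] M) (a : P →ₗ[A] P') (ψ : M →ₗ[A] N)

/-- `p ↦ (g p, a p)`. -/
def h : P →ₗ[A] M × P' := g.prod a

/-- The quotient `(M × P') / P`. -/
abbrev Q : Type v := (M × P') ⧸ LinearMap.range (h g a)

/-- The quotient map. -/
def q : M × P' →ₗ[A] Q g a := (LinearMap.range (h g a)).mkQ

theorem q_surjective : Function.Surjective (q g a) := Submodule.mkQ_surjective _

theorem exact_h_q : Function.Exact (h g a) (q g a) := by
  intro z
  unfold q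
  rw [Submodule.mkQ_apply, Submodule.Quotient.mk_eq_zero]
  rfl

/-- The induced map on quotients `(M × P')/P → (N × P')/P`. -/
def ψ' : Q g a →ₗ[A] Q (ψ ∘ₗ g) a :=
  Submodule.mapQ _ _ (ψ.prodMap LinearMap.id) (by
    rintro _ ⟨p, rfl⟩
    exact ⟨p, rfl⟩)

theorem ψ'_q (z : M × P') : ψ' g a ψ (q g a z) = q (ψ ∘ₗ g) a (ψ.prodMap LinearMap.id z) := rfl

theorem ψ'_comp_q : (ψ' g a ψ) ∘ₗ (q g a) = (q (ψ ∘ₗ g) a) ∘ₗ (ψ.prodMap LinearMap.id) := rfl

theorem q_inl_g : (q g a) ∘ₗ (LinearMap.inl A M P') ∘ₗ g = - ((q g a) ∘ₗ (LinearMap.inr A M P') ∘ₗ a) := by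
  ext p
  simp only [LinearMap.comp_apply, LinearMap.neg_apply, LinearMap.inl_apply, LinearMap.inr_apply]
  rw [eq_neg_iff_add_eq_zero, ← map_add, Prod.mk_add_mk, add_zero, zero_add]
  exact (exact_h_q g a _).mpr ⟨p, rfl⟩

variable (B : Type u) [CommRing B] [Algebra A B]

section BaseChange

theorem bc_q_surjective : Function.Surjective ((q g a).baseChange B) :=
  LinearMap.lTensor_surjective B (q_surjective g a)

theorem bc_q_eq_zero_iff (z : B ⊗[A] (M × P')) :
    (q g a).baseChange B z = 0 ↔ ∃ p : B ⊗[A] P, (h g a).baseChange B p = z :=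
  lTensor_exact B (exact_h_q g a) (q_surjective g a) z

theorem bc_decomp (z : B ⊗[A] (M × P')) :
    z = (LinearMap.inl A M P').baseChange B ((LinearMap.fst A M P').baseChange B z) +
      (LinearMap.inr A M P').baseChange B ((LinearMap.snd A M P').baseChange B z) := by
  rw [← LinearMap.comp_apply, ← LinearMap.comp_apply, ← LinearMap.baseChange_comp,
    ← LinearMap.baseChange_comp, ← LinearMap.add_apply, ← LinearMap.baseChange_add]
  have : (LinearMap.inl A M P') ∘ₗ (LinearMap.fst A M P') +
      (LinearMap.inr A M P') ∘ₗ (LinearMap.snd A M P') = LinearMap.id := by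
    ext <;> simp
  rw [this, LinearMap.baseChange_id, LinearMap.id_apply]

theorem bc_fst_h (p : B ⊗[A] P) :
    (LinearMap.fst A M P').baseChange B ((h g a).baseChange B p) = g.baseChange B p := by
  rw [← LinearMap.comp_apply, ← LinearMap.baseChange_comp]
  rfl

theorem bc_snd_h (p : B ⊗[A] P) :
    (LinearMap.snd A M P').baseChange B ((h g a).baseChange B p) = a.baseChange B p := by
  rw [← LinearMap.comp_apply, ← LinearMap.baseChange_comp]
  rfl

theorem bc_fst_inl (m : B ⊗[A] M) :
    (LinearMap.fst A M P').baseChange B ((LinearMap.inl A M P').baseChange B m) = m := by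
  rw [← LinearMap.comp_apply, ← LinearMap.baseChange_comp, LinearMap.fst_comp_inl,
    LinearMap.baseChange_id, LinearMap.id_apply]

theorem bc_snd_inl (m : B ⊗[A] M) :
    (LinearMap.snd A M P').baseChange B ((LinearMap.inl A M P').baseChange B m) = 0 := by
  rw [← LinearMap.comp_apply, ← LinearMap.baseChange_comp, LinearMap.snd_comp_inl,
    LinearMap.baseChange_zero, LinearMap.zero_apply]

theorem bc_fst_inr (r : B ⊗[A] P') :
    (LinearMap.fst A M P').baseChange B ((LinearMap.inr A M P').baseChange B r) = 0 := by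
  rw [← LinearMap.comp_apply, ← LinearMap.baseChange_comp, LinearMap.fst_comp_inr,
    LinearMap.baseChange_zero, LinearMap.zero_apply]

theorem bc_snd_inr (r : B ⊗[A] P') :
    (LinearMap.snd A M P').baseChange B ((LinearMap.inr A M P').baseChange B r) = r := by
  rw [← LinearMap.comp_apply, ← LinearMap.baseChange_comp, LinearMap.snd_comp_inr,
    LinearMap.baseChange_id, LinearMap.id_apply]

theorem bc_h_eq (p : B ⊗[A] P) :
    (h g a).baseChange B p = (LinearMap.inl A M P').baseChange B (g.baseChange B p) +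
      (LinearMap.inr A M P').baseChange B (a.baseChange B p) := by
  rw [bc_decomp B ((h g a).baseChange B p), bc_fst_h, bc_snd_h]

theorem bc_ψ'_q (z : B ⊗[A] (M × P')) :
    (ψ' g a ψ).baseChange B ((q g a).baseChange B z) =
      (q (ψ ∘ₗ g) a).baseChange B ((ψ.prodMap LinearMap.id).baseChange B z) := by
  rw [← LinearMap.comp_apply, ← LinearMap.baseChange_comp, ψ'_comp_q, LinearMap.baseChange_comp,
    LinearMap.comp_apply]

theorem bc_prodMap_inl (m : B ⊗[A] M) :
    (ψ.prodMap (LinearMap.id : P' →ₗ[A] P')).baseChange B ((LinearMap.inl A M P').baseChange B m) =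
      (LinearMap.inl A N P').baseChange B (ψ.baseChange B m) := by
  rw [← LinearMap.comp_apply, ← LinearMap.baseChange_comp, ← LinearMap.comp_apply,
    ← LinearMap.baseChange_comp]
  congr 2

theorem bc_prodMap_inr (r : B ⊗[A] P') :
    (ψ.prodMap (LinearMap.id : P' →ₗ[A] P')).baseChange B ((LinearMap.inr A M P').baseChange B r) =
      (LinearMap.inr A N P').baseChange B r := by
  rw [← LinearMap.comp_apply, ← LinearMap.baseChange_comp]
  congr 2
  ext <;> simp

end BaseChange

end Groth.Agent.Lib.Seat39.CokerAlg
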