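import Groth.Agent.Lib.Seat39Adeq
import Groth.Agent.Lib.Seat39CokerAlg

/-!
# Seat39: the cokernel of a map of presented functors covered by a module map is presented
-/
set_option autoImplicit false
universe u
open CategoryTheory Limits Opposite TensorProduct

namespace Groth.Agent.Lib.Seat39.AdeqF

open Adeq Groth.Agent.Lib.Seat39.MVF Groth.Agent.Lib.Seat39.CokerAlg

variable {A : Type u} [CommRing A]

theorem hom_ext_ap {F G : MVF A} {φ ψ : F ⟶ G} (h : ∀ X (x : F.obj X), ap φ X x = ap ψ X x) :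
    φ = ψ := by
  apply PresheafOfModules.hom_ext
  intro X
  apply ModuleCat.hom_ext
  apply LinearMap.ext
  intro x
  exact h X x

theorem underline_map_ofHom_apply {M N : ModuleCat.{u + 1} A} (f : M →ₗ[A] N) (B : Alg A)
    (t : (B : Type u) ⊗[A] M) :
    ap ((underline A).map (ModuleCat.ofHom f)) (pt B) (ofT M t) = ofT N (f.baseChange (B : Type u) t) :=
  rfl

section

variable {L G : MVF A} (PL : Pres L) (PG : Pres G) (lam : L ⟶ G) (g : PL.M ⟶ PG.M)
  (hg : PL.j ≫ (underline A).map g = lam ≫ PG.j)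

/-- Source module of the presentation of the cokernel. -/
noncomputable abbrev cokM : ModuleCat.{u + 1} A := ModuleCat.of A (Q g.hom PL.φ.hom)

/-- Target module of the presentation of the cokernel. -/
noncomputable abbrev cokN : ModuleCat.{u + 1} A :=
  ModuleCat.of A (Q (PG.φ.hom ∘ₗ g.hom) PL.φ.hom)

/-- The map of the presentation of the cokernel. -/
noncomputable abbrev cokφ : cokM PL PG g ⟶ cokN PL PG g :=
  ModuleCat.ofHom (ψ' g.hom PL.φ.hom PG.φ.hom)

/-- `M_G → (M_G × N_L)/M_L`. -/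
noncomputable abbrev cokIn : PG.M ⟶ cokM PL PG g :=
  ModuleCat.ofHom ((q g.hom PL.φ.hom) ∘ₗ (LinearMap.inl A PG.M PL.N))

include hg in
theorem hg_apply (X) (l : L.obj X) :
    ap ((underline A).map g) X (ap PL.j X l) = ap PG.j X (ap lam X l) := by
  rw [← ap_comp, hg, ap_comp]

include hg in
theorem cokJ_aux : lam ≫ PG.j ≫ (underline A).map (cokIn PL PG g) = 0 := by
  rw [← Category.assoc, ← hg, Category.assoc, ← Functor.map_comp]
  apply hom_ext_ap
  rintro ⟨⟨B⟩⟩ l
  rw [ap_zero, ap_comp]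
  have h0 := PL.zero_apply (pt B) l
  set p := ap PL.j (pt B) l with hp
  have h1 : PL.φ.hom.baseChange (B : Type u) (toT PL.M p) = 0 := h0
  change ((q g.hom PL.φ.hom ∘ₗ LinearMap.inl A PG.M PL.N) ∘ₗ g.hom).baseChange (B : Type u)
    (toT PL.M p) = 0
  rw [LinearMap.comp_assoc, q_inl_g, LinearMap.baseChange_neg, LinearMap.neg_apply,
    ← LinearMap.comp_assoc, LinearMap.baseChange_comp, LinearMap.comp_apply, h1, map_zero, neg_zero]

/-- The embedding of the cokernel. -/
noncomputable def cokJ : cokernel lam ⟶ (underline A).obj (cokM PL PG g) :=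
  cokernel.desc lam (PG.j ≫ (underline A).map (cokIn PL PG g)) (cokJ_aux PL PG lam g hg)

theorem π_cokJ : cokernel.π lam ≫ cokJ PL PG lam g hg = PG.j ≫ (underline A).map (cokIn PL PG g) :=
  cokernel.π_desc _ _ _

theorem cokJ_π_apply (B : Alg A) (x : G.obj (pt B)) :
    toT _ (ap (cokJ PL PG lam g hg) (pt B) (ap (cokernel.π lam) (pt B) x)) =
      (q g.hom PL.φ.hom).baseChange (B : Type u)
        ((LinearMap.inl A PG.M PL.N).baseChange (B : Type u) (toT PG.M (ap PG.j (pt B) x))) := by
  rw [← ap_comp, π_cokJ, ap_comp]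
  change ((q g.hom PL.φ.hom) ∘ₗ (LinearMap.inl A PG.M PL.N)).baseChange (B : Type u)
    (toT PG.M (ap PG.j (pt B) x)) = _
  rw [LinearMap.baseChange_comp, LinearMap.comp_apply]

/-- **Lemma E**: the cokernel of a map of presented functors which is covered by a module map
is presented. -/
noncomputable def presCoker : Pres (cokernel lam) where
  M := cokM PL PG g
  N := cokN PL PG g
  φ := cokφ PL PG g
  j := cokJ PL PG lam g hg
  zero := by
    rw [← cancel_epi (cokernel.π lam), ← Category.assoc, π_cokJ, comp_zero, Category.assoc,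
      ← Functor.map_comp]
    apply hom_ext_ap
    rintro ⟨⟨B⟩⟩ x
    rw [ap_zero, ap_comp]
    have h0 := PG.zero_apply (pt B) x
    set m := ap PG.j (pt B) x with hm
    have h1 : PG.φ.hom.baseChange (B : Type u) (toT PG.M m) = 0 := h0
    change ((ψ' g.hom PL.φ.hom PG.φ.hom) ∘ₗ ((q g.hom PL.φ.hom) ∘ₗ
      (LinearMap.inl A PG.M PL.N))).baseChange (B : Type u) (toT PG.M m) = 0
    rw [← LinearMap.comp_assoc, ψ'_comp_q, LinearMap.baseChange_comp, LinearMap.comp_apply,
      LinearMap.baseChange_comp, LinearMap.comp_apply, bc_prodMap_inl, h1, map_zero, map_zero]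
  inj X := by
    obtain ⟨⟨B⟩⟩ := X
    rw [injective_iff_map_eq_zero]
    intro y hy
    obtain ⟨x, rfl⟩ := cokernel_π_surjective lam (pt B) y
    have hy' : toT _ (ap (cokJ PL PG lam g hg) (pt B) (ap (cokernel.π lam) (pt B) x)) = 0 := hy
    rw [cokJ_π_apply, bc_q_eq_zero_iff] at hy'
    obtain ⟨p, hp⟩ := hy'
    have h1 := congrArg ((LinearMap.fst A PG.M PL.N).baseChange (B : Type u)) hp
    have h2 := congrArg ((LinearMap.snd A PG.M PL.N).baseChange (B : Type u)) hp
    rw [bc_fst_h, bc_fst_inl] at h1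
    rw [bc_snd_h, bc_snd_inl] at h2
    obtain ⟨l, hl⟩ := PL.exact (pt B) (ofT PL.M p) h2
    have h3 : ap PG.j (pt B) (ap lam (pt B) l) = ap PG.j (pt B) x := by
      rw [← hg_apply PL PG lam g hg, hl]
      exact h1
    have h4 := PG.inj (pt B) h3
    rw [← h4]
    exact cokernel_π_comp_apply lam (pt B) l
  exact X z' hz' := by
    obtain ⟨⟨B⟩⟩ := X
    obtain ⟨z, hz⟩ := bc_q_surjective g.hom PL.φ.hom (B : Type u) (toT _ z')
    have h0 : (ψ' g.hom PL.φ.hom PG.φ.hom).baseChange (B : Type u) (toT _ z') = 0 := hz'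
    rw [← hz, bc_ψ'_q, bc_q_eq_zero_iff] at h0
    obtain ⟨p, hp⟩ := h0
    set m := (LinearMap.fst A PG.M PL.N).baseChange (B : Type u) z with hm
    set r := (LinearMap.snd A PG.M PL.N).baseChange (B : Type u) z with hr
    have hz2 := bc_decomp (B : Type u) z
    rw [← hm, ← hr] at hz2
    have hp2 : (h (PG.φ.hom ∘ₗ g.hom) PL.φ.hom).baseChange (B : Type u) p =
        (LinearMap.inl A PG.N PL.N).baseChange (B : Type u) (PG.φ.hom.baseChange (B : Type u) m) +
          (LinearMap.inr A PG.N PL.N).baseChange (B : Type u) r := by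
      rw [hp, hz2, map_add, bc_prodMap_inl, bc_prodMap_inr]
    have h1 := congrArg ((LinearMap.fst A PG.N PL.N).baseChange (B : Type u)) hp2
    have h2 := congrArg ((LinearMap.snd A PG.N PL.N).baseChange (B : Type u)) hp2
    rw [bc_fst_h, map_add, bc_fst_inl, bc_fst_inr, add_zero] at h1
    rw [bc_snd_h, map_add, bc_snd_inl, bc_snd_inr, zero_add] at h2
    have h3 : PG.φ.hom.baseChange (B : Type u) (m - g.hom.baseChange (B : Type u) p) = 0 := by
      rw [map_sub, ← h1, LinearMap.baseChange_comp, LinearMap.comp_apply, sub_self]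
    obtain ⟨x, hx⟩ := PG.exact (pt B) (ofT PG.M (m - g.hom.baseChange (B : Type u) p)) h3
    refine ⟨ap (cokernel.π lam) (pt B) x, ?_⟩
    change toT _ (ap (cokJ PL PG lam g hg) (pt B) (ap (cokernel.π lam) (pt B) x)) = toT _ z'
    rw [cokJ_π_apply, hx, ← hz, hz2, map_add]
    change (q g.hom PL.φ.hom).baseChange (B : Type u)
      ((LinearMap.inl A PG.M PL.N).baseChange (B : Type u) (m - g.hom.baseChange (B : Type u) p)) = _
    rw [map_sub, map_sub, sub_eq_iff_eq_add, add_assoc, left_eq_add, ← h2, ← map_add, add_comm,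
      ← bc_h_eq]
    exact (bc_q_eq_zero_iff g.hom PL.φ.hom (B : Type u) _).mpr ⟨p, rfl⟩

end

end Groth.Agent.Lib.Seat39.AdeqF
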