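import Groth.Agent.Lib.Seat39MVF
import Mathlib.CategoryTheory.Limits.Preserves.Shapes.Products
import Mathlib.LinearAlgebra.DFinsupp
import Mathlib.LinearAlgebra.Finsupp.Span

/-!
# Seat39: coproducts in `ModuleCat` and in presheaves of modules: joint surjectivity
-/
set_option autoImplicit false
universe u v v₁ u₁ w
open CategoryTheory Limits

namespace Groth.Agent.Lib.Seat39.Coprod

open Groth.Agent.Lib.Seat39.MVF

section ModuleCat

variable {R : Type u} [Ring R] {ι : Type w} (Z : ι → ModuleCat.{v} R) (c : Cofan Z)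
  (hc : IsColimit c)

include hc

theorem iSup_range_eq_top : (⨆ i, LinearMap.range (c.inj i).hom) = ⊤ := by
  set V : Submodule R c.pt := ⨆ i, LinearMap.range (c.inj i).hom with hV
  have h : ModuleCat.ofHom V.mkQ = 0 := by
    apply Cofan.IsColimit.hom_ext hc
    intro i
    rw [comp_zero]
    ext x
    change V.mkQ ((c.inj i).hom x) = 0
    rw [Submodule.mkQ_apply, Submodule.Quotient.mk_eq_zero]
    exact Submodule.mem_iSup_of_mem i ⟨x, rfl⟩
  have h2 : V.mkQ = 0 := by
    have := congrArg ModuleCat.Hom.hom h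
    simpa using this
  rw [← Submodule.ker_mkQ V, h2, LinearMap.ker_zero]

theorem exists_finset_sum (x : c.pt) :
    ∃ (S : Finset ι) (y : ∀ i, Z i), x = ∑ i ∈ S, c.inj i (y i) := by
  classical
  have hx : x ∈ (⨆ i, LinearMap.range (c.inj i).hom) := by
    rw [iSup_range_eq_top Z c hc]; trivial
  rw [Submodule.mem_iSup_iff_exists_finsupp] at hx
  obtain ⟨f, hf, hsum⟩ := hx
  choose y hy using hf
  refine ⟨f.support, y, ?_⟩
  rw [← hsum, Finsupp.sum]
  exact Finset.sum_congr rfl (fun i _ => (hy i).symm)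

end ModuleCat

section Presheaf

variable {C : Type u₁} [Category.{v₁} C] {R : Cᵒᵖ ⥤ RingCat.{u}} {ι : Type w}
  (F : ι → PresheafOfModules.{v} R) (c : Cofan F) (hc : IsColimit c)
  [∀ X, PreservesColimit (Discrete.functor F) (PresheafOfModules.evaluation.{v} R X)]

include hc

/-- The evaluation of a colimit cofan is a colimit cofan. -/
noncomputable def evalIsColimit (X : Cᵒᵖ) :
    IsColimit (Cofan.mk (c.pt.obj X) (fun i => (c.inj i).app X) :
      Cofan (fun i => (F i).obj X)) := by
  have hc' : IsColimit (Cofan.mk c.pt c.inj) :=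
    IsColimit.ofIsoColimit hc (Cocone.ext (Iso.refl _) (fun ⟨i⟩ => by simp [Cofan.inj]))
  exact isColimitCofanMkObjOfIsColimit (PresheafOfModules.evaluation.{v} R X) F c.inj hc'

theorem exists_finset_sum_ap (X : Cᵒᵖ) (x : c.pt.obj X) :
    ∃ (S : Finset ι) (y : ∀ i, (F i).obj X), x = ∑ i ∈ S, ap (c.inj i) X (y i) :=
  exists_finset_sum (fun i => (F i).obj X) _ (evalIsColimit F c hc X) x

end Presheaf

end Groth.Agent.Lib.Seat39.Coprod
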