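import Mathlib.Algebra.DirectSum.Module
import Mathlib.LinearAlgebra.TensorProduct.Tower
import Mathlib.RingTheory.TensorProduct.Basic

/-!
# Seat39: base change of direct sums, element-level decomposition
-/
set_option autoImplicit false
universe u v w
open DirectSum TensorProduct

namespace Groth.Agent.Lib.Seat39.DSum

variable {A : Type u} [CommRing A] {ι : Type w} [DecidableEq ι]
  (M : ι → Type v) [∀ i, AddCommGroup (M i)] [∀ i, Module A (M i)]
  (N : ι → Type v) [∀ i, AddCommGroup (N i)] [∀ i, Module A (N i)]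
  (B : Type u) [CommRing B] [Algebra A B]

/-- `B ⊗ M i → B ⊗ ⨁ M`. -/
noncomputable def lofT (i : ι) : B ⊗[A] M i →ₗ[B] B ⊗[A] (⨁ i, M i) :=
  (DirectSum.lof A ι M i).baseChange B

/-- `B ⊗ ⨁ M → B ⊗ M i`. -/
noncomputable def compT (i : ι) : B ⊗[A] (⨁ i, M i) →ₗ[B] B ⊗[A] M i :=
  (DirectSum.component A ι M i).baseChange B

variable {M B}

theorem compT_lofT_same (i : ι) (t : B ⊗[A] M i) : compT M B i (lofT M B i t) = t := by
  unfold compT lofT
  rw [← LinearMap.comp_apply, ← LinearMap.baseChange_comp]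
  have : (DirectSum.component A ι M i) ∘ₗ (DirectSum.lof A ι M i) = LinearMap.id := by
    ext x; simp
  rw [this, LinearMap.baseChange_id, LinearMap.id_apply]

theorem compT_lofT_ne {i k : ι} (h : i ≠ k) (t : B ⊗[A] M i) : compT M B k (lofT M B i t) = 0 := by
  unfold compT lofT
  rw [← LinearMap.comp_apply, ← LinearMap.baseChange_comp]
  have : (DirectSum.component A ι M k) ∘ₗ (DirectSum.lof A ι M i) = 0 := by
    ext x
    simp only [LinearMap.comp_apply, LinearMap.zero_apply]
    rw [DirectSum.component.of, dif_neg h]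
  rw [this, LinearMap.baseChange_zero, LinearMap.zero_apply]

theorem compT_sum_lofT (S : Finset ι) (t : ∀ i, B ⊗[A] M i) (k : ι) :
    compT M B k (∑ i ∈ S, lofT M B i (t i)) = if k ∈ S then t k else 0 := by
  rw [map_sum]
  split_ifs with hk
  · rw [Finset.sum_eq_single k]
    · exact compT_lofT_same k _
    · intro i _ hik
      exact compT_lofT_ne hik _
    · intro h; exact absurd hk h
  · apply Finset.sum_eq_zero
    intro i hi
    apply compT_lofT_ne
    rintro rfl
    exact hk hi

/-- Every element of `B ⊗ ⨁ M` is a finite sum of elements coming from the summands. -/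
theorem exists_sum_lofT (p : B ⊗[A] (⨁ i, M i)) :
    ∃ (S : Finset ι) (t : ∀ i, B ⊗[A] M i), p = ∑ i ∈ S, lofT M B i (t i) := by
  classical
  induction p using TensorProduct.induction_on with
  | zero => exact ⟨∅, fun _ => 0, by simp⟩
  | tmul b m =>
    refine ⟨DFinsupp.support m, fun i => b ⊗ₜ[A] (m i), ?_⟩
    have hm : m = ∑ i ∈ DFinsupp.support m, DirectSum.lof A ι M i (m i) := by
      conv_lhs => rw [← DirectSum.sum_support_of m]
      exact Finset.sum_congr rfl (fun i _ => (DirectSum.lof_eq_of A ι M i (m i)).symm)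
    conv_lhs => rw [hm, TensorProduct.tmul_sum]
    apply Finset.sum_congr rfl
    intro i _
    unfold lofT
    rw [LinearMap.baseChange_tmul]
  | add p q hp hq =>
    obtain ⟨S₁, t₁, h₁⟩ := hp
    obtain ⟨S₂, t₂, h₂⟩ := hq
    refine ⟨S₁ ∪ S₂, fun i => (if i ∈ S₁ then t₁ i else 0) + (if i ∈ S₂ then t₂ i else 0), ?_⟩
    simp only [map_add, Finset.sum_add_distrib]
    congr 1
    · rw [h₁]
      have : ∀ i, lofT M B i (if i ∈ S₁ then t₁ i else 0) = if i ∈ S₁ then lofT M B i (t₁ i) else 0 := by
        intro i; split_ifs <;> simp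
      simp only [this]
      rw [Finset.sum_ite_mem, Finset.union_inter_cancel_left]
    · rw [h₂]
      have : ∀ i, lofT M B i (if i ∈ S₂ then t₂ i else 0) = if i ∈ S₂ then lofT M B i (t₂ i) else 0 := by
        intro i; split_ifs <;> simp
      simp only [this]
      rw [Finset.sum_ite_mem, Finset.union_inter_cancel_right]

variable {N}

theorem lmap_lofT (f : ∀ i, M i →ₗ[A] N i) (i : ι) (t : B ⊗[A] M i) :
    (DirectSum.lmap f).baseChange B (lofT M B i t) = lofT N B i ((f i).baseChange B t) := by
  unfold lofT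
  rw [← LinearMap.comp_apply, ← LinearMap.baseChange_comp, ← LinearMap.comp_apply,
    ← LinearMap.baseChange_comp]
  congr 2
  ext x
  simp [DirectSum.lmap_lof]

end Groth.Agent.Lib.Seat39.DSum
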