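import Groth.Agent.Lib.Seat39Adeq
import Groth.Agent.Lib.Seat39Coprod
import Groth.Agent.Lib.Seat39DSum

/-!
# Seat39: a coproduct of adequate functors is adequate (element-level presentation)
-/
set_option autoImplicit false
universe u
open CategoryTheory Limits Opposite TensorProduct DirectSum

namespace Groth.Agent.Lib.Seat39.AdeqF

open Adeq Groth.Agent.Lib.Seat39.MVF Groth.Agent.Lib.Seat39.Coprod Groth.Agent.Lib.Seat39.DSum

variable {A : Type u} [CommRing A] {ι : Type (u + 1)} [DecidableEq ι]
  (F : ι → MVF A) (P : ∀ i, Pres (F i)) (c : Cofan F) (hc : IsColimit c)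

/-- The direct sum of the source modules. -/
noncomputable abbrev sumM : ModuleCat.{u + 1} A := ModuleCat.of A (⨁ i, (P i).M)

/-- The direct sum of the target modules. -/
noncomputable abbrev sumN : ModuleCat.{u + 1} A := ModuleCat.of A (⨁ i, (P i).N)

/-- The direct sum of the maps. -/
noncomputable abbrev sumφ : sumM F P ⟶ sumN F P :=
  ModuleCat.ofHom (DirectSum.lmap (fun i => (P i).φ.hom))

/-- Inclusion of a summand. -/
noncomputable abbrev inM (i : ι) : (P i).M ⟶ sumM F P :=
  ModuleCat.ofHom (DirectSum.lof A ι (fun i => (P i).M) i)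

/-- Inclusion of a summand. -/
noncomputable abbrev inN (i : ι) : (P i).N ⟶ sumN F P :=
  ModuleCat.ofHom (DirectSum.lof A ι (fun i => (P i).N) i)

theorem inM_sumφ (i : ι) : inM F P i ≫ sumφ F P = (P i).φ ≫ inN F P i := by
  refine ModuleCat.hom_ext (LinearMap.ext fun x => ?_)
  exact DirectSum.lmap_lof (M := fun i => (P i).M) (N := fun i => (P i).N)
    (fun i => (P i).φ.hom) i x

include hc in
/-- The embedding of the coproduct into `underline (⨁ M_i)`. -/
noncomputable def sumJ : c.pt ⟶ (underline A).obj (sumM F P) :=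
  Cofan.IsColimit.desc hc (fun i => (P i).j ≫ (underline A).map (inM F P i))

theorem inj_sumJ (i : ι) : c.inj i ≫ sumJ F P c hc = (P i).j ≫ (underline A).map (inM F P i) :=
  Cofan.IsColimit.fac hc _ i

theorem sumJ_apply_inj (i : ι) (X) (y : (F i).obj X) :
    ap (sumJ F P c hc) X (ap (c.inj i) X y) = ap ((underline A).map (inM F P i)) X (ap (P i).j X y) := by
  rw [← ap_comp, inj_sumJ, ap_comp]


instance evalPreserves (X : (Alg A)ᵒᵖᵒᵖ) :
    PreservesColimit (Discrete.functor F) (PresheafOfModules.evaluation.{u + 1} (ringOf A) X) :=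
  PresheafOfModules.evaluation_preservesColimit _ X

theorem sumJ_apply_sum (B : Alg A) (S : Finset ι) (y : ∀ i, (F i).obj (pt B)) :
    ap (sumJ F P c hc) (pt B) (∑ i ∈ S, ap (c.inj i) (pt B) (y i)) =
      ofT (sumM F P) (∑ i ∈ S, lofT (fun i => (P i).M) (B : Type u) i
        (toT (P i).M (ap (P i).j (pt B) (y i)))) := by
  rw [map_sum]
  apply Finset.sum_congr rfl
  intro i _
  rw [sumJ_apply_inj]
  rfl

/-- A coproduct of presented functors is presented by the direct sums. -/
noncomputable def presCoprod : Pres c.pt where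
  M := sumM F P
  N := sumN F P
  φ := sumφ F P
  j := sumJ F P c hc
  zero := by
    apply Cofan.IsColimit.hom_ext hc
    intro i
    rw [← Category.assoc, inj_sumJ, Category.assoc, ← Functor.map_comp, inM_sumφ,
      Functor.map_comp, ← Category.assoc, (P i).zero, zero_comp, comp_zero]
  inj X := by
    obtain ⟨⟨B⟩⟩ := X
    rw [injective_iff_map_eq_zero]
    intro x hx
    obtain ⟨S, y, rfl⟩ := exists_finset_sum_ap F c hc (pt B) x
    rw [sumJ_apply_sum] at hx
    apply Finset.sum_eq_zero
    intro k hk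
    have hx' : (∑ i ∈ S, lofT (fun i => (P i).M) (B : Type u) i
        (toT (P i).M (ap (P i).j (pt B) (y i)))) = (0 : (B : Type u) ⊗[A] (⨁ i, (P i).M)) := hx
    have h1 := congrArg (compT (fun i => (P i).M) (B : Type u) k) hx'
    rw [map_zero, compT_sum_lofT, if_pos hk] at h1
    have h3 : y k = 0 := (P k).inj (pt B) (h1.trans (map_zero _).symm)
    rw [h3, map_zero]
  exact X p hp := by
    obtain ⟨⟨B⟩⟩ := X
    obtain ⟨S, t, ht⟩ := exists_sum_lofT (toT (sumM F P) p)
    have hk : ∀ k, k ∈ S → ((P k).φ.hom.baseChange (B : Type u)) (t k) = 0 := by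
      intro k hk
      have h1 : (sumφ F P).hom.baseChange (B : Type u) (toT (sumM F P) p) = 0 := hp
      rw [ht, map_sum] at h1
      simp only [ModuleCat.hom_ofHom, lmap_lofT] at h1
      have h2 := congrArg (compT (fun i => (P i).N) (B : Type u) k) h1
      rw [map_zero, compT_sum_lofT, if_pos hk] at h2
      exact h2
    have hex : ∀ k, ∃ y : (F k).obj (pt B), k ∈ S → toT (P k).M (ap (P k).j (pt B) y) = t k := by
      intro k
      by_cases hkS : k ∈ S
      · obtain ⟨y, hy⟩ := (P k).exact (pt B) (ofT (P k).M (t k)) (hk k hkS)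
        exact ⟨y, fun _ => hy⟩
      · exact ⟨0, fun h => absurd h hkS⟩
    choose y hy using hex
    refine ⟨∑ i ∈ S, ap (c.inj i) (pt B) (y i), ?_⟩
    rw [sumJ_apply_sum]
    change _ = toT (sumM F P) p
    rw [ht]
    apply Finset.sum_congr rfl
    intro i hi
    rw [hy i hi]

end Groth.Agent.Lib.Seat39.AdeqF
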