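import Groth.Agent.Lib.Seat39AdeqCoprod
import Groth.Agent.Lib.Seat39AdeqCoker
import Groth.Agent.Lib.Helper13AdeqD
import Groth.Agent.Lib.Helper13AdeqB

/-!
# Seat39: coproducts of linearly adequate functors: maps to `underline M` come from module maps
-/
set_option autoImplicit false
universe u
open CategoryTheory Limits Opposite TensorProduct DirectSum

namespace Groth.Agent.Lib.Seat39.AdeqF

open Adeq Groth.Agent.Lib.Seat39.MVF

variable {A : Type u} [CommRing A]

/-- A linearly adequate functor has a presentation by finite free modules all of whose maps to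
`underline M` extend. -/
theorem exists_pres_extends (L : MVF A) (hL : linAdequate A L) :
    ∃ P : Pres L, ∀ (M : ModuleCat.{u + 1} A) (θ : L ⟶ (underline A).obj M),
      ∃ g : P.M ⟶ M, P.j ≫ (underline A).map g = θ := by
  obtain ⟨P, P', φ₀, h1, h2, h3, h4, ⟨e⟩⟩ := hL
  refine ⟨presOfIso φ₀ e, ?_⟩
  intro M θ
  obtain ⟨g, hg⟩ := Groth.Agent.Helper13Adeq.exists_extension P P' M φ₀ (e.inv ≫ θ)
  refine ⟨g, ?_⟩
  change (e.hom ≫ kernel.ι _) ≫ (underline A).map g = θ
  rw [Category.assoc, hg, e.hom_inv_id_assoc]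

variable {ι : Type (u + 1)} [DecidableEq ι]
  (F : ι → MVF A) (P : ∀ i, Pres (F i)) (c : Cofan F) (hc : IsColimit c)

theorem inM_toModule (M : ModuleCat.{u + 1} A) (g : ∀ i, (P i).M ⟶ M) (i : ι) :
    inM F P i ≫ ModuleCat.ofHom (DirectSum.toModule A ι M (fun i => (g i).hom)) = g i := by
  refine ModuleCat.hom_ext (LinearMap.ext fun x => ?_)
  exact DirectSum.toModule_lof A (φ := fun i => (g i).hom) i x

/-- Maps from a coproduct of extendable presented functors to `underline M` extend. -/
theorem presCoprod_extends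
    (hP : ∀ i (M : ModuleCat.{u + 1} A) (θ : F i ⟶ (underline A).obj M),
      ∃ g : (P i).M ⟶ M, (P i).j ≫ (underline A).map g = θ)
    (M : ModuleCat.{u + 1} A) (θ : c.pt ⟶ (underline A).obj M) :
    ∃ g : sumM F P ⟶ M, sumJ F P c hc ≫ (underline A).map g = θ := by
  choose g hg using fun i => hP i M (c.inj i ≫ θ)
  refine ⟨ModuleCat.ofHom (DirectSum.toModule A ι M (fun i => (g i).hom)), ?_⟩
  apply Cofan.IsColimit.hom_ext hc
  intro i
  rw [← Category.assoc, inj_sumJ, Category.assoc, ← Functor.map_comp, inM_toModule, hg]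

/-- An adequate functor is a quotient of an extendable presented functor. -/
theorem exists_epi_pres_extends (F : MVF A) (hF : adequate A F) :
    ∃ (L : MVF A) (π : L ⟶ F) (_ : Epi π) (P : Pres L),
      ∀ (M : ModuleCat.{u + 1} A) (θ : L ⟶ (underline A).obj M),
        ∃ g : P.M ⟶ M, P.j ≫ (underline A).map g = θ := by
  classical
  obtain ⟨ι, L, hL, c, hc, π, hπ⟩ := Groth.Agent.Helper13Adeq.exists_epi_cofan_linAdequate F hF
  choose P hP using fun i => exists_pres_extends (L i) (hL i)
  exact ⟨c.pt, π, hπ, presCoprod L P c hc, presCoprod_extends L P c hc hP⟩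

/-- The cokernel of a map between adequate functors is adequate. -/
theorem adequate_cokernel {F G : MVF A} (φ : F ⟶ G) (hF : adequate A F) (hG : adequate A G) :
    adequate A (cokernel φ) := by
  obtain ⟨PG⟩ := (adequate_iff_nonempty_pres G).mp hG
  obtain ⟨L, π, hπ, PL, hPL⟩ := exists_epi_pres_extends F hF
  obtain ⟨g, hg⟩ := hPL PG.M ((π ≫ φ) ≫ PG.j)
  have h1 : adequate A (cokernel (π ≫ φ)) := (presCoker PL PG (π ≫ φ) g hg).adequate
  exact (adequate A).prop_of_iso (cokernelEpiComp π φ) h1

end Groth.Agent.Lib.Seat39.AdeqF
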