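import Mathlib.RingTheory.TensorProduct.IncludeLeftSubRight
import Mathlib.RingTheory.Flat.FaithfullyFlat.Basic

/-!
# Seat39: faithfully flat descent for modules (first two terms of the Amitsur complex)

For a faithfully flat `R`-algebra `B` and an `R`-module `M` the sequence
`0 → M → B ⊗ M → (B ⊗ B) ⊗ M` (with `m ↦ 1 ⊗ m` and `b ⊗ m ↦ (b ⊗ 1 - 1 ⊗ b) ⊗ m`) is exact.
-/
set_option autoImplicit false
universe u v w
open TensorProduct

namespace Groth.Agent.Lib.Seat39.ModDescent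

variable (R : Type u) [CommRing R] (B : Type v) [CommRing B] [Algebra R B]
  (M : Type w) [AddCommGroup M] [Module R M]

/-- `m ↦ 1 ⊗ m`. -/
noncomputable def d0 : M →ₗ[R] B ⊗[R] M := TensorProduct.mk R B M 1

/-- `b ⊗ m ↦ (b ⊗ 1 - 1 ⊗ b) ⊗ m`. -/
noncomputable def d1 : B ⊗[R] M →ₗ[R] (B ⊗[R] B) ⊗[R] M :=
  (Algebra.TensorProduct.includeLeftSubRight R B).rTensor M

theorem d0_apply (m : M) : d0 R B M m = (1 : B) ⊗ₜ[R] m := rfl

theorem d1_tmul (b : B) (m : M) :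
    d1 R B M (b ⊗ₜ[R] m) = (b ⊗ₜ[R] (1 : B) - (1 : B) ⊗ₜ[R] b) ⊗ₜ[R] m := rfl

theorem d1_comp_d0 : d1 R B M ∘ₗ d0 R B M = 0 := by
  ext m
  simp [d0_apply, d1_tmul]

/-- `b ⊗ (b' ⊗ m) ↦ (b b') ⊗ m`. -/
noncomputable def s : B ⊗[R] (B ⊗[R] M) →ₗ[R] B ⊗[R] M :=
  (LinearMap.mul' R B).rTensor M ∘ₗ (TensorProduct.assoc R B B M).symm.toLinearMap

theorem s_tmul (b b' : B) (m : M) : s R B M (b ⊗ₜ[R] (b' ⊗ₜ[R] m)) = (b * b') ⊗ₜ[R] m := by
  simp [s]

/-- `b ⊗ ((b' ⊗ b'') ⊗ m) ↦ (b b') ⊗ (b'' ⊗ m)`. -/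
noncomputable def t : B ⊗[R] ((B ⊗[R] B) ⊗[R] M) →ₗ[R] B ⊗[R] (B ⊗[R] M) :=
  (LinearMap.mul' R B).rTensor (B ⊗[R] M) ∘ₗ
    (TensorProduct.assoc R B B (B ⊗[R] M)).symm.toLinearMap ∘ₗ
      (TensorProduct.assoc R B B M).toLinearMap.lTensor B

theorem t_tmul (b b' b'' : B) (m : M) :
    t R B M (b ⊗ₜ[R] ((b' ⊗ₜ[R] b'') ⊗ₜ[R] m)) = (b * b') ⊗ₜ[R] (b'' ⊗ₜ[R] m) := by
  simp [t]

theorem homotopy :
    t R B M ∘ₗ (d1 R B M).lTensor B + LinearMap.id = (d0 R B M).lTensor B ∘ₗ s R B M := by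
  apply TensorProduct.ext_threefold'
  intro b b' m
  simp only [LinearMap.add_apply, LinearMap.comp_apply, LinearMap.lTensor_tmul, d1_tmul,
    LinearMap.id_apply, s_tmul, d0_apply, TensorProduct.sub_tmul, TensorProduct.tmul_sub, map_sub,
    t_tmul, mul_one]
  abel

theorem exact_lTensor : Function.Exact ((d0 R B M).lTensor B) ((d1 R B M).lTensor B) := by
  intro x
  constructor
  · intro hx
    refine ⟨s R B M x, ?_⟩
    have h := LinearMap.congr_fun (homotopy R B M) x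
    simp only [LinearMap.add_apply, LinearMap.comp_apply, LinearMap.id_apply, hx, map_zero,
      zero_add] at h
    exact h.symm
  · rintro ⟨y, rfl⟩
    rw [← LinearMap.comp_apply, ← LinearMap.lTensor_comp, d1_comp_d0, LinearMap.lTensor_zero,
      LinearMap.zero_apply]

theorem exact [Module.FaithfullyFlat R B] : Function.Exact (d0 R B M) (d1 R B M) :=
  Module.FaithfullyFlat.lTensor_reflects_exact R B _ _ (exact_lTensor R B M)

theorem d0_injective [Module.FaithfullyFlat R B] : Function.Injective (d0 R B M) := by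
  rw [injective_iff_map_eq_zero]
  intro m hm
  exact (Module.FaithfullyFlat.one_tmul_eq_zero_iff R M (A := B) m).mp hm

end Groth.Agent.Lib.Seat39.ModDescent
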