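import Groth.Agent.Lib.Seat39Adeq
import Groth.Agent.Lib.Seat39ModDescent

/-!
# Seat39: adequate functors satisfy faithfully flat descent (first two terms)
-/
set_option autoImplicit false
universe u
open CategoryTheory Limits Opposite TensorProduct

namespace Groth.Agent.Lib.Seat39.AdeqFF

open Adeq Groth.Agent.Lib.Seat39.MVF Groth.Agent.Lib.Seat39.AdeqF Groth.Agent.Lib.Seat39.ModDescent

variable (R : Type u) [CommRing R] (B : Type u) [CommRing B] [Algebra R B]

/-- `R → B` -/
noncomputable abbrev ι : algOf R R ⟶ algOf R B := CommAlgCat.ofHom (Algebra.ofId R B)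

/-- `b ↦ b ⊗ 1` -/
noncomputable abbrev iL : algOf R B ⟶ algOf R (B ⊗[R] B) :=
  CommAlgCat.ofHom (Algebra.TensorProduct.includeLeft : B →ₐ[R] B ⊗[R] B)

/-- `b ↦ 1 ⊗ b` -/
noncomputable abbrev iR : algOf R B ⟶ algOf R (B ⊗[R] B) :=
  CommAlgCat.ofHom (Algebra.TensorProduct.includeRight : B →ₐ[R] B ⊗[R] B)

variable (M : ModuleCat.{u + 1} R)

theorem ofId_rTensor :
    (Algebra.ofId R B).toLinearMap.rTensor M = d0 R B M ∘ₗ (TensorProduct.lid R M).toLinearMap := by
  ext m
  simp [d0_apply, Algebra.ofId_apply]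

theorem d1_eq :
    d1 R B M = (Algebra.TensorProduct.includeLeft : B →ₐ[R] B ⊗[R] B).toLinearMap.rTensor M -
      (Algebra.TensorProduct.includeRight : B →ₐ[R] B ⊗[R] B).toLinearMap.rTensor M := by
  rw [← LinearMap.rTensor_sub]
  rfl

variable [Module.FaithfullyFlat R B]

theorem underline_injective :
    Function.Injective (mp ((underline R).obj M) (ptHom (ι R B))) := by
  intro t t' h
  have h' : (Algebra.ofId R B).toLinearMap.rTensor M (toT M t) =
      (Algebra.ofId R B).toLinearMap.rTensor M (toT M t') := h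
  rw [ofId_rTensor] at h'
  exact (TensorProduct.lid R M).injective (d0_injective R B M h')

theorem underline_exact (z : ((underline R).obj M).obj (pt (algOf R B)))
    (hz : mp ((underline R).obj M) (ptHom (iL R B)) z = mp ((underline R).obj M) (ptHom (iR R B)) z) :
    ∃ w : ((underline R).obj M).obj (pt (algOf R R)),
      mp ((underline R).obj M) (ptHom (ι R B)) w = z := by
  have hz' : (Algebra.TensorProduct.includeLeft : B →ₐ[R] B ⊗[R] B).toLinearMap.rTensor M (toT M z) =
      (Algebra.TensorProduct.includeRight : B →ₐ[R] B ⊗[R] B).toLinearMap.rTensor M (toT M z) := hz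
  have h1 : d1 R B M (toT M z) = 0 := by
    rw [d1_eq, LinearMap.sub_apply, hz', sub_self]
  obtain ⟨m, hm⟩ := (ModDescent.exact R B M (toT M z)).mp h1
  refine ⟨ofT M ((TensorProduct.lid R M).symm m), ?_⟩
  change (Algebra.ofId R B).toLinearMap.rTensor M ((TensorProduct.lid R M).symm m) = toT M z
  rw [ofId_rTensor, LinearMap.comp_apply, LinearEquiv.coe_coe, LinearEquiv.apply_symm_apply, hm]

variable {R}

/-- Adequate functors satisfy faithfully flat descent: injectivity. -/
theorem adequate_injective (F : MVF R) (hF : adequate R F) :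
    Function.Injective (mp F (ptHom (ι R B))) := by
  obtain ⟨P⟩ := (adequate_iff_nonempty_pres F).mp hF
  intro x x' h
  apply P.inj _
  apply underline_injective R B P.M
  rw [← ap_mp, ← ap_mp, h]

/-- Adequate functors satisfy faithfully flat descent: exactness. -/
theorem adequate_exact (F : MVF R) (hF : adequate R F) (y : F.obj (pt (algOf R B)))
    (hy : mp F (ptHom (iL R B)) y = mp F (ptHom (iR R B)) y) :
    ∃ x : F.obj (pt (algOf R R)), mp F (ptHom (ι R B)) x = y := by
  obtain ⟨P⟩ := (adequate_iff_nonempty_pres F).mp hF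
  obtain ⟨w, hw⟩ := underline_exact R B P.M (ap P.j _ y) (by rw [← ap_mp, ← ap_mp, hy])
  have hw0 : ap ((underline R).map P.φ) _ w = 0 := by
    apply underline_injective R B P.N
    rw [← ap_mp, hw, P.zero_apply, map_zero]
  obtain ⟨x, hx⟩ := P.exact _ w hw0
  refine ⟨x, P.inj _ ?_⟩
  rw [ap_mp, hx, hw]

end Groth.Agent.Lib.Seat39.AdeqFF
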