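import Mathlib.LinearAlgebra.TensorProduct.Pi
import Mathlib.RingTheory.TensorProduct.Pi
import Mathlib.RingTheory.TensorProduct.Maps

/-!
# Seat39: tensor products and finite products of algebras (pure algebra)

* `cmp_bijective`: if `C → ∏ D i` is bijective (finite family of algebra maps), then
  `C ⊗ M → ∏ (D i ⊗ M)` is bijective.
* `pair_bijective`: `(∏ B j) ⊗ (∏ B k) → ∏_{j,k} B j ⊗ B k` is bijective.
-/
set_option autoImplicit false
universe u v w
open TensorProduct

namespace Groth.Agent.Lib.Seat39.PiTensor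

section Cmp

variable {R : Type u} [CommRing R] {ι : Type w} [Fintype ι] [DecidableEq ι]
  {C : Type u} [CommRing C] [Algebra R C] (D : ι → Type u) [∀ i, CommRing (D i)]
  [∀ i, Algebra R (D i)] (p : ∀ i, C →ₐ[R] D i)
  (M : Type v) [AddCommGroup M] [Module R M]

/-- the comparison map `C ⊗ M → ∏ (D i ⊗ M)` -/
noncomputable def cmp : C ⊗[R] M →ₗ[R] ∀ i, D i ⊗[R] M :=
  LinearMap.pi (fun i => (p i).toLinearMap.rTensor M)

omit [Fintype ι] [DecidableEq ι] in
theorem cmp_apply (x : C ⊗[R] M) (i : ι) : cmp D p M x i = (p i).toLinearMap.rTensor M x := rfl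

theorem cmp_bijective (hp : Function.Bijective (fun (c : C) (i : ι) => p i c)) :
    Function.Bijective (cmp D p M) := by
  let e : C ≃ₗ[R] ∀ i, D i :=
    LinearEquiv.ofBijective (LinearMap.pi fun i => (p i).toLinearMap) hp
  have h : cmp D p M = (TensorProduct.piLeft R M D).toLinearMap ∘ₗ (e.toLinearMap.rTensor M) := by
    ext c m i
    simp [cmp, e]
    try rfl
  rw [h]
  exact (TensorProduct.piLeft R M D).bijective.comp (e.rTensor M).bijective

end Cmp

section Pair

variable (R : Type u) [CommRing R] {ι : Type w} [Fintype ι] [DecidableEq ι]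
  (B : ι → Type u) [∀ i, CommRing (B i)] [∀ i, Algebra R (B i)]

/-- the projections `(∏ B) ⊗ (∏ B) → B j ⊗ B k` -/
noncomputable def pairProj (jk : ι × ι) :
    (∀ j, B j) ⊗[R] (∀ k, B k) →ₐ[R] B jk.1 ⊗[R] B jk.2 :=
  Algebra.TensorProduct.map (Pi.evalAlgHom R B jk.1) (Pi.evalAlgHom R B jk.2)

/-- the linear equivalence `(∏ B) ⊗ (∏ B) ≃ ∏_j ∏_k B j ⊗ B k` -/
noncomputable def pairEquiv :
    (∀ j, B j) ⊗[R] (∀ k, B k) ≃ₗ[R] ∀ j, ∀ k, B j ⊗[R] B k :=
  TensorProduct.piLeft R (∀ k, B k) B ≪≫ₗ
    LinearEquiv.piCongrRight (fun j => TensorProduct.piRight R R (B j) B)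

theorem pairEquiv_apply (x : (∀ j, B j) ⊗[R] (∀ k, B k)) (j k : ι) :
    pairEquiv R B x j k = pairProj R B (j, k) x := by
  induction x using TensorProduct.induction_on with
  | zero => simp
  | tmul b b' => simp [pairEquiv, pairProj]
  | add x y hx hy => simp only [map_add, Pi.add_apply, hx, hy]

theorem pair_bijective :
    Function.Bijective (fun (x : (∀ j, B j) ⊗[R] (∀ k, B k)) (jk : ι × ι) => pairProj R B jk x) := by
  constructor
  · intro x y h
    apply (pairEquiv R B).injective
    funext j k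
    rw [pairEquiv_apply, pairEquiv_apply]
    exact congrFun h (j, k)
  · intro z
    refine ⟨(pairEquiv R B).symm (fun j k => z (j, k)), ?_⟩
    funext jk
    obtain ⟨j, k⟩ := jk
    change pairProj R B (j, k) _ = _
    rw [← pairEquiv_apply, LinearEquiv.apply_symm_apply]

end Pair

end Groth.Agent.Lib.Seat39.PiTensor
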