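import Groth.Agent.Lib.Seat39AdeqFF
import Groth.Agent.Lib.Seat39PiTensor

/-!
# Seat39: adequate functors commute with finite products of algebras and satisfy faithfully flat
descent for finite families
-/
set_option autoImplicit false
universe u w
open CategoryTheory Limits Opposite TensorProduct

namespace Groth.Agent.Lib.Seat39.AdeqFam

open Adeq Groth.Agent.Lib.Seat39.MVF Groth.Agent.Lib.Seat39.AdeqF Groth.Agent.Lib.Seat39.PiTensor

section Prod

variable {R : Type u} [CommRing R] {ι : Type w} [Fintype ι] [DecidableEq ι]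
  {C : Type u} [CommRing C] [Algebra R C] (D : ι → Type u) [∀ i, CommRing (D i)]
  [∀ i, Algebra R (D i)] (p : ∀ i, C →ₐ[R] D i)
  (hp : Function.Bijective (fun (c : C) (i : ι) => p i c))

/-- the projections as maps of `Alg R` -/
noncomputable abbrev pA (i : ι) : algOf R C ⟶ algOf R (D i) := CommAlgCat.ofHom (p i)

include hp

theorem underline_prod_injective (M : ModuleCat.{u + 1} R)
    (z z' : ((underline R).obj M).obj (pt (algOf R C)))
    (h : ∀ i, mp ((underline R).obj M) (ptHom (pA D p i)) z =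
      mp ((underline R).obj M) (ptHom (pA D p i)) z') : z = z' := by
  apply (cmp_bijective D p M hp).1
  funext i
  exact h i

theorem underline_prod_surjective (M : ModuleCat.{u + 1} R)
    (y : ∀ i, ((underline R).obj M).obj (pt (algOf R (D i)))) :
    ∃ z : ((underline R).obj M).obj (pt (algOf R C)),
      ∀ i, mp ((underline R).obj M) (ptHom (pA D p i)) z = y i := by
  obtain ⟨z, hz⟩ := (cmp_bijective D p M hp).2 (fun i => toT M (y i))
  exact ⟨ofT M z, fun i => congrFun hz i⟩

/-- Adequate functors commute with finite products of algebras: injectivity. -/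
theorem adequate_prod_injective (F : MVF R) (hF : adequate R F)
    (x x' : F.obj (pt (algOf R C)))
    (h : ∀ i, mp F (ptHom (pA D p i)) x = mp F (ptHom (pA D p i)) x') : x = x' := by
  obtain ⟨P⟩ := (adequate_iff_nonempty_pres F).mp hF
  apply P.inj _
  apply underline_prod_injective D p hp P.M
  intro i
  rw [← ap_mp, ← ap_mp, h i]

/-- Adequate functors commute with finite products of algebras: surjectivity. -/
theorem adequate_prod_surjective (F : MVF R) (hF : adequate R F)
    (y : ∀ i, F.obj (pt (algOf R (D i)))) :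
    ∃ x : F.obj (pt (algOf R C)), ∀ i, mp F (ptHom (pA D p i)) x = y i := by
  obtain ⟨P⟩ := (adequate_iff_nonempty_pres F).mp hF
  obtain ⟨z, hz⟩ := underline_prod_surjective D p hp P.M (fun i => ap P.j _ (y i))
  have hz0 : ap ((underline R).map P.φ) _ z = 0 := by
    apply underline_prod_injective D p hp P.N
    intro i
    rw [← ap_mp, hz i, P.zero_apply, map_zero]
  obtain ⟨x, hx⟩ := P.exact _ z hz0
  refine ⟨x, fun i => P.inj _ ?_⟩
  rw [ap_mp, hx, hz i]

end Prod

section Descent

variable {R : Type u} [CommRing R] {ι : Type} [Fintype ι] [DecidableEq ι]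
  (B : ι → Type u) [∀ i, CommRing (B i)] [∀ i, Algebra R (B i)]

/-- `b ↦ b ⊗ 1` -/
noncomputable abbrev jL (B C : Type u) [CommRing B] [CommRing C]
    [Algebra R B] [Algebra R C] : algOf R B ⟶ algOf R (B ⊗[R] C) :=
  CommAlgCat.ofHom (Algebra.TensorProduct.includeLeft : B →ₐ[R] B ⊗[R] C)

/-- `c ↦ 1 ⊗ c` -/
noncomputable abbrev jR (B C : Type u) [CommRing B] [CommRing C]
    [Algebra R B] [Algebra R C] : algOf R C ⟶ algOf R (B ⊗[R] C) :=
  CommAlgCat.ofHom (Algebra.TensorProduct.includeRight : C →ₐ[R] B ⊗[R] C)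

/-- the projections of the product -/
noncomputable abbrev π (j : ι) : algOf R (∀ j, B j) ⟶ algOf R (B j) :=
  CommAlgCat.ofHom (Pi.evalAlgHom R B j)

omit [Fintype ι] [DecidableEq ι] in
theorem eval_bijective :
    Function.Bijective (fun (c : ∀ j, B j) (i : ι) => Pi.evalAlgHom R B i c) :=
  Function.bijective_id

omit [Fintype ι] [DecidableEq ι] in
theorem ι_π (j : ι) : AdeqFF.ι R (∀ j, B j) ≫ π B j = AdeqFF.ι R (B j) := by
  ext

omit [Fintype ι] [DecidableEq ι] in
theorem iL_pair (j k : ι) :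
    AdeqFF.iL R (∀ j, B j) ≫ CommAlgCat.ofHom (pairProj R B (j, k)) = π B j ≫ jL (B j) (B k) := by
  ext b
  change pairProj R B (j, k) (b ⊗ₜ 1) = (b j) ⊗ₜ 1
  simp [pairProj]

omit [Fintype ι] [DecidableEq ι] in
theorem iR_pair (j k : ι) :
    AdeqFF.iR R (∀ j, B j) ≫ CommAlgCat.ofHom (pairProj R B (j, k)) = π B k ≫ jR (B j) (B k) := by
  ext b
  change pairProj R B (j, k) (1 ⊗ₜ b) = 1 ⊗ₜ (b k)
  simp [pairProj]

variable [Module.FaithfullyFlat R (∀ j, B j)] (F : MVF R) (hF : adequate R F)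

include hF

/-- Descent for adequate functors along a finite faithfully flat family: separatedness. -/
theorem family_sep (x : F.obj (pt (algOf R R)))
    (h : ∀ j, mp F (ptHom (AdeqFF.ι R (B j))) x = 0) : x = 0 := by
  have h1 : mp F (ptHom (AdeqFF.ι R (∀ j, B j))) x = 0 := by
    apply adequate_prod_injective B (Pi.evalAlgHom R B) (eval_bijective B) F hF
    intro j
    rw [map_zero, ← mp_comp]
    refine (mp_congr F ?_ x).trans (h j)
    rw [← ι_π B j]
    rfl
  apply AdeqFF.adequate_injective (∀ j, B j) F hF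
  rw [h1, map_zero]

/-- Descent for adequate functors along a finite faithfully flat family: gluing. -/
theorem family_glue (y : ∀ j, F.obj (pt (algOf R (B j))))
    (h : ∀ j k, mp F (ptHom (jL (B j) (B k))) (y j) = mp F (ptHom (jR (B j) (B k))) (y k)) :
    ∃ x : F.obj (pt (algOf R R)), ∀ j, mp F (ptHom (AdeqFF.ι R (B j))) x = y j := by
  obtain ⟨y₁, hy₁⟩ := adequate_prod_surjective B (Pi.evalAlgHom R B) (eval_bijective B) F hF y
  have hcompat : mp F (ptHom (AdeqFF.iL R (∀ j, B j))) y₁ = mp F (ptHom (AdeqFF.iR R (∀ j, B j))) y₁ := by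
    apply adequate_prod_injective (fun jk : ι × ι => B jk.1 ⊗[R] B jk.2) (pairProj R B)
      (pair_bijective R B) F hF
    rintro ⟨j, k⟩
    rw [← mp_comp, ← mp_comp]
    have e1 : ptHom (AdeqFF.iL R (∀ j, B j)) ≫ ptHom (CommAlgCat.ofHom (pairProj R B (j, k))) =
        ptHom (π B j) ≫ ptHom (jL (B j) (B k)) := by
      change ptHom (AdeqFF.iL R (∀ j, B j) ≫ CommAlgCat.ofHom (pairProj R B (j, k))) = _
      rw [iL_pair]
      rfl
    have e2 : ptHom (AdeqFF.iR R (∀ j, B j)) ≫ ptHom (CommAlgCat.ofHom (pairProj R B (j, k))) =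
        ptHom (π B k) ≫ ptHom (jR (B j) (B k)) := by
      change ptHom (AdeqFF.iR R (∀ j, B j) ≫ CommAlgCat.ofHom (pairProj R B (j, k))) = _
      rw [iR_pair]
      rfl
    refine (mp_congr F e1 y₁).trans ?_
    refine Eq.trans ?_ (mp_congr F e2 y₁).symm
    rw [mp_comp, mp_comp]
    exact (congrArg _ (hy₁ j)).trans ((h j k).trans (congrArg _ (hy₁ k)).symm)
  obtain ⟨x, hx⟩ := AdeqFF.adequate_exact (∀ j, B j) F hF y₁ hcompat
  refine ⟨x, fun j => ?_⟩
  have e3 : ptHom (AdeqFF.ι R (B j)) = ptHom (AdeqFF.ι R (∀ j, B j)) ≫ ptHom (π B j) := by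
    change _ = ptHom (AdeqFF.ι R (∀ j, B j) ≫ π B j)
    rw [ι_π]
  rw [mp_congr F e3 x, mp_comp, hx, hy₁ j]

end Descent

end Groth.Agent.Lib.Seat39.AdeqFam
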