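import Groth.Agent.Lib.Seat69Amitsur
import Mathlib.RingTheory.TensorProduct.Maps

/-!
# Seat39: exactness of the Amitsur complex with coefficients in a module, in degree one
(the form used for module-valued functors: coefficients on the right, algebra maps acting on the left)
-/
set_option autoImplicit false
set_option maxSynthPendingDepth 3
universe u v
open TensorProduct

namespace Groth.Agent.Lib.Seat39.AmitsurH1

variable (R : Type u) [CommRing R] (B : Type u) [CommRing B] [Algebra R B]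
  (N : Type v) [AddCommGroup N] [Module R N]

/-- `x ↦ x ⊗ 1` -/
noncomputable abbrev p12 : B ⊗[R] B →ₐ[R] (B ⊗[R] B) ⊗[R] B :=
  Algebra.TensorProduct.includeLeft

/-- `a ⊗ c ↦ (a ⊗ 1) ⊗ c` -/
noncomputable abbrev p13 : B ⊗[R] B →ₐ[R] (B ⊗[R] B) ⊗[R] B :=
  Algebra.TensorProduct.map (Algebra.TensorProduct.includeLeft : B →ₐ[R] B ⊗[R] B) (AlgHom.id R B)

/-- `b ⊗ c ↦ (1 ⊗ b) ⊗ c` -/
noncomputable abbrev p23 : B ⊗[R] B →ₐ[R] (B ⊗[R] B) ⊗[R] B :=
  Algebra.TensorProduct.map (Algebra.TensorProduct.includeRight : B →ₐ[R] B ⊗[R] B) (AlgHom.id R B)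

/-- `b ↦ b ⊗ 1` -/
noncomputable abbrev iL : B →ₐ[R] B ⊗[R] B := Algebra.TensorProduct.includeLeft

/-- `b ↦ 1 ⊗ b` -/
noncomputable abbrev iR : B →ₐ[R] B ⊗[R] B := Algebra.TensorProduct.includeRight

/-- the first differential, coefficients on the right -/
noncomputable def D1 : B ⊗[R] N →ₗ[R] (B ⊗[R] B) ⊗[R] N :=
  (iL R B).toLinearMap.rTensor N - (iR R B).toLinearMap.rTensor N

/-- the second differential, coefficients on the right -/
noncomputable def D2 : (B ⊗[R] B) ⊗[R] N →ₗ[R] ((B ⊗[R] B) ⊗[R] B) ⊗[R] N :=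
  (p12 R B).toLinearMap.rTensor N - (p13 R B).toLinearMap.rTensor N +
    (p23 R B).toLinearMap.rTensor N

/-- the step differential `B ⊗ N → B ⊗ (B ⊗ N)` -/
noncomputable def dd : B ⊗[R] N →ₗ[R] B ⊗[R] (B ⊗[R] N) :=
  TensorProduct.mk R B (B ⊗[R] N) 1 - (TensorProduct.mk R B N 1).lTensor B

/-- the next step differential -/
noncomputable def ddp : B ⊗[R] (B ⊗[R] N) →ₗ[R] B ⊗[R] (B ⊗[R] (B ⊗[R] N)) :=
  TensorProduct.mk R B (B ⊗[R] (B ⊗[R] N)) 1 - (dd R B N).lTensor B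

theorem ddp_comp_dd : ddp R B N ∘ₗ dd R B N = 0 := by
  ext b n
  simp [ddp, dd, TensorProduct.tmul_sub]

theorem exact_dd [Module.FaithfullyFlat R B] : Function.Exact (dd R B N) (ddp R B N) :=
  Groth.Agent.Lib.Seat69.Amitsur.exact_step (B ⊗[R] N) (dd R B N) (ddp_comp_dd R B N)

/-- reassociation in degree two -/
noncomputable def α₂ : (B ⊗[R] B) ⊗[R] N ≃ₗ[R] B ⊗[R] (B ⊗[R] N) := TensorProduct.assoc R B B N

/-- reassociation in degree three -/
noncomputable def α₃ : ((B ⊗[R] B) ⊗[R] B) ⊗[R] N ≃ₗ[R] B ⊗[R] (B ⊗[R] (B ⊗[R] N)) :=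
  (TensorProduct.assoc R (B ⊗[R] B) B N).trans (TensorProduct.assoc R B B (B ⊗[R] N))

theorem α₂_D1 : (α₂ R B N).toLinearMap ∘ₗ D1 R B N = -dd R B N := by
  ext b n
  simp [α₂, D1, dd]

theorem α₃_D2 : (α₃ R B N).toLinearMap ∘ₗ D2 R B N = ddp R B N ∘ₗ (α₂ R B N).toLinearMap := by
  apply TensorProduct.ext_threefold
  intro a c n
  simp [α₃, α₂, D2, ddp, dd]
  abel

/-- Exactness of the Amitsur complex with coefficients in `N` in degree one. -/
theorem exists_of_D2_eq_zero [Module.FaithfullyFlat R B] (z : (B ⊗[R] B) ⊗[R] N)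
    (hz : D2 R B N z = 0) : ∃ w : B ⊗[R] N, D1 R B N w = z := by
  have h1 : ddp R B N (α₂ R B N z) = 0 := by
    have := LinearMap.congr_fun (α₃_D2 R B N) z
    rw [LinearMap.comp_apply, LinearMap.comp_apply, hz, map_zero] at this
    exact this.symm
  obtain ⟨w, hw⟩ := (exact_dd R B N (α₂ R B N z)).mp h1
  refine ⟨-w, (α₂ R B N).injective ?_⟩
  have h2 : α₂ R B N (D1 R B N (-w)) = -dd R B N (-w) :=
    LinearMap.congr_fun (α₂_D1 R B N) (-w)
  rw [h2, map_neg, neg_neg]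
  exact hw

end Groth.Agent.Lib.Seat39.AmitsurH1
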