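import Groth.Agent.Lib.Seat39AdeqFF
import Groth.Agent.Lib.Seat39AmitsurH1

/-!
# Seat39: vanishing of the first Cech (Amitsur) cohomology of an adequate functor for a faithfully
flat ring map
-/
set_option autoImplicit false
set_option maxSynthPendingDepth 3
universe u
open CategoryTheory Limits Opposite TensorProduct

namespace Groth.Agent.Lib.Seat39.AdeqH1

open Adeq Groth.Agent.Lib.Seat39.MVF Groth.Agent.Lib.Seat39.AdeqF Groth.Agent.Lib.Seat39.AmitsurH1

variable (R : Type u) [CommRing R] (B : Type u) [CommRing B] [Algebra R B]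

/-- `x ↦ x ⊗ 1` -/
noncomputable abbrev q12 : algOf R (B ⊗[R] B) ⟶ algOf R ((B ⊗[R] B) ⊗[R] B) :=
  CommAlgCat.ofHom (p12 R B)

/-- `a ⊗ c ↦ (a ⊗ 1) ⊗ c` -/
noncomputable abbrev q13 : algOf R (B ⊗[R] B) ⟶ algOf R ((B ⊗[R] B) ⊗[R] B) :=
  CommAlgCat.ofHom (p13 R B)

/-- `b ⊗ c ↦ (1 ⊗ b) ⊗ c` -/
noncomputable abbrev q23 : algOf R (B ⊗[R] B) ⟶ algOf R ((B ⊗[R] B) ⊗[R] B) :=
  CommAlgCat.ofHom (p23 R B)

section Underline

variable (M : ModuleCat.{u + 1} R)

theorem underline_h1 [Module.FaithfullyFlat R B]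
    (z : ((underline R).obj M).obj (pt (algOf R (B ⊗[R] B))))
    (hz : mp ((underline R).obj M) (ptHom (q12 R B)) z - mp ((underline R).obj M) (ptHom (q13 R B)) z +
      mp ((underline R).obj M) (ptHom (q23 R B)) z = 0) :
    ∃ w : ((underline R).obj M).obj (pt (algOf R B)),
      mp ((underline R).obj M) (ptHom (AdeqFF.iL R B)) w -
        mp ((underline R).obj M) (ptHom (AdeqFF.iR R B)) w = z := by
  have hz' : D2 R B M (toT M z) = 0 := hz
  obtain ⟨w, hw⟩ := exists_of_D2_eq_zero R B M (toT M z) hz'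
  exact ⟨ofT M w, hw⟩

variable {M} {N : ModuleCat.{u + 1} R} (φ : M ⟶ N)

/-- the cokernel module of `φ` -/
noncomputable abbrev Q : ModuleCat.{u + 1} R := ModuleCat.of R (N ⧸ LinearMap.range φ.hom)

/-- the projection to the cokernel -/
noncomputable abbrev qQ : N ⟶ Q R φ := ModuleCat.ofHom (LinearMap.range φ.hom).mkQ

theorem φ_qQ : φ ≫ qQ R φ = 0 := by
  ext m
  change (LinearMap.range φ.hom).mkQ (φ.hom m) = 0
  rw [Submodule.mkQ_apply, Submodule.Quotient.mk_eq_zero]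
  exact LinearMap.mem_range_self _ m

/-- exactness of `R ⊗ M → R ⊗ N → R ⊗ Q` -/
theorem underline_exact_base (n : ((underline R).obj N).obj (pt (algOf R R)))
    (hn : ap ((underline R).map (qQ R φ)) (pt (algOf R R)) n = 0) :
    ∃ m : ((underline R).obj M).obj (pt (algOf R R)),
      ap ((underline R).map φ) (pt (algOf R R)) m = n := by
  have h1 : toT N n = (1 : R) ⊗ₜ[R] (TensorProduct.lid R N (toT N n)) := by
    rw [← TensorProduct.lid_symm_apply, LinearEquiv.symm_apply_apply]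
  have hn' : (qQ R φ).hom.baseChange R (toT N n) = 0 := hn
  rw [h1, LinearMap.baseChange_tmul] at hn'
  have h2 := congrArg (TensorProduct.lid R (Q R φ)) hn'
  rw [TensorProduct.lid_tmul, one_smul, map_zero] at h2
  have h3 : TensorProduct.lid R N (toT N n) ∈ LinearMap.range φ.hom := by
    rw [← Submodule.Quotient.mk_eq_zero]
    exact h2
  obtain ⟨m, hm⟩ := h3
  refine ⟨ofT M ((1 : R) ⊗ₜ[R] m), ?_⟩
  change φ.hom.baseChange R ((1 : R) ⊗ₜ[R] m) = toT N n
  rw [LinearMap.baseChange_tmul, hm, ← h1]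

end Underline

variable {R}

/-- Vanishing of the first Amitsur cohomology of an adequate functor for a faithfully flat algebra. -/
theorem adequate_h1 [Module.FaithfullyFlat R B] (F : MVF R) (hF : adequate R F)
    (ξ : F.obj (pt (algOf R (B ⊗[R] B))))
    (hξ : mp F (ptHom (q12 R B)) ξ - mp F (ptHom (q13 R B)) ξ + mp F (ptHom (q23 R B)) ξ = 0) :
    ∃ θ : F.obj (pt (algOf R B)),
      mp F (ptHom (AdeqFF.iL R B)) θ - mp F (ptHom (AdeqFF.iR R B)) θ = ξ := by
  obtain ⟨P⟩ := (adequate_iff_nonempty_pres F).mp hF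
  -- step 1: the image cocycle is a coboundary
  have h1 : mp ((underline R).obj P.M) (ptHom (q12 R B)) (ap P.j _ ξ) -
      mp ((underline R).obj P.M) (ptHom (q13 R B)) (ap P.j _ ξ) +
      mp ((underline R).obj P.M) (ptHom (q23 R B)) (ap P.j _ ξ) = 0 := by
    rw [← ap_mp, ← ap_mp, ← ap_mp, ← map_sub, ← map_add, hξ, map_zero]
  obtain ⟨m₀, hm₀⟩ := underline_h1 R B P.M (ap P.j _ ξ) h1
  -- step 2: the image of `m₀` descends
  have h2 : mp ((underline R).obj P.N) (ptHom (AdeqFF.iL R B)) (ap ((underline R).map P.φ) _ m₀) =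
      mp ((underline R).obj P.N) (ptHom (AdeqFF.iR R B)) (ap ((underline R).map P.φ) _ m₀) := by
    rw [← sub_eq_zero, ← ap_mp, ← ap_mp, ← map_sub, hm₀, P.zero_apply]
  obtain ⟨n, hn⟩ := AdeqFF.underline_exact R B P.N _ h2
  -- step 3: `n` comes from `M`
  have h3 : ap ((underline R).map (qQ R P.φ)) (pt (algOf R R)) n = 0 := by
    apply AdeqFF.underline_injective R B (Q R P.φ)
    rw [← ap_mp, hn, map_zero, ← ap_comp, ← Functor.map_comp, φ_qQ, Functor.map_zero, ap_zero]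
  obtain ⟨m', hm'⟩ := underline_exact_base R P.φ n h3
  -- step 4: correct `m₀`
  have h4 : ap ((underline R).map P.φ) _
      (m₀ - mp ((underline R).obj P.M) (ptHom (AdeqFF.ι R B)) m') = 0 := by
    rw [map_sub, ap_mp, hm', hn, sub_self]
  obtain ⟨θ, hθ⟩ := P.exact _ _ h4
  refine ⟨θ, P.inj _ ?_⟩
  rw [map_sub, ap_mp, ap_mp, hθ, map_sub, map_sub, ← mp_comp, ← mp_comp]
  have e : ptHom (AdeqFF.ι R B) ≫ ptHom (AdeqFF.iL R B) =
      ptHom (AdeqFF.ι R B) ≫ ptHom (AdeqFF.iR R B) := by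
    change ptHom (AdeqFF.ι R B ≫ AdeqFF.iL R B) = ptHom (AdeqFF.ι R B ≫ AdeqFF.iR R B)
    congr 1
    ext
  rw [mp_congr _ e m', sub_sub_sub_cancel_right, hm₀]

end Groth.Agent.Lib.Seat39.AdeqH1
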