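import Groth.Agent.Lib.Seat39PiTensor
import Groth.Agent.Lib.Seat39AmitsurH1

/-!
# Seat39: tensor products of finite products of algebras, two families and triple products
-/
set_option autoImplicit false
set_option maxSynthPendingDepth 3
universe u w
open TensorProduct

namespace Groth.Agent.Lib.Seat39.PiTensor2

open Groth.Agent.Lib.Seat39.PiTensor Groth.Agent.Lib.Seat39.AmitsurH1

section Two

variable (R : Type u) [CommRing R] {ι κ : Type w} [Fintype ι] [DecidableEq ι] [Fintype κ]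
  [DecidableEq κ]
  {X Y : Type u} [CommRing X] [CommRing Y] [Algebra R X] [Algebra R Y]
  (D : ι → Type u) [∀ i, CommRing (D i)] [∀ i, Algebra R (D i)]
  (E : κ → Type u) [∀ l, CommRing (E l)] [∀ l, Algebra R (E l)]
  (p : ∀ i, X →ₐ[R] D i) (q : ∀ l, Y →ₐ[R] E l)
  (hp : Function.Bijective (fun (x : X) (i : ι) => p i x))
  (hq : Function.Bijective (fun (y : Y) (l : κ) => q l y))

/-- the projections `X ⊗ Y → D i ⊗ E l` -/
noncomputable def tproj (il : ι × κ) : X ⊗[R] Y →ₐ[R] D il.1 ⊗[R] E il.2 :=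
  Algebra.TensorProduct.map (p il.1) (q il.2)

/-- the linear equivalence `X ⊗ Y ≃ ∏_i ∏_l D i ⊗ E l` -/
noncomputable def tEquiv : X ⊗[R] Y ≃ₗ[R] ∀ i, ∀ l, D i ⊗[R] E l :=
  (TensorProduct.congr
    (LinearEquiv.ofBijective (LinearMap.pi fun i => (p i).toLinearMap) hp)
    (LinearEquiv.ofBijective (LinearMap.pi fun l => (q l).toLinearMap) hq)) ≪≫ₗ
  TensorProduct.piLeft R (∀ l, E l) D ≪≫ₗ
    LinearEquiv.piCongrRight (fun i => TensorProduct.piRight R R (D i) E)

theorem tEquiv_apply (z : X ⊗[R] Y) (i : ι) (l : κ) :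
    tEquiv R D E p q hp hq z i l = tproj R D E p q (i, l) z := by
  induction z using TensorProduct.induction_on with
  | zero => simp
  | tmul x y => simp [tEquiv, tproj]
  | add x y hx hy => simp only [map_add, Pi.add_apply, hx, hy]

include hp hq in
theorem tensor_bijective :
    Function.Bijective (fun (z : X ⊗[R] Y) (il : ι × κ) => tproj R D E p q il z) := by
  constructor
  · intro x y h
    apply (tEquiv R D E p q hp hq).injective
    funext i l
    rw [tEquiv_apply, tEquiv_apply]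
    exact congrFun h (i, l)
  · intro z
    refine ⟨(tEquiv R D E p q hp hq).symm (fun i l => z (i, l)), ?_⟩
    funext il
    obtain ⟨i, l⟩ := il
    change tproj R D E p q (i, l) _ = _
    rw [← tEquiv_apply R D E p q hp hq, LinearEquiv.apply_symm_apply]

end Two

section Triple

variable (R : Type u) [CommRing R] {ι : Type} [Fintype ι] [DecidableEq ι]
  (B : ι → Type u) [∀ i, CommRing (B i)] [∀ i, Algebra R (B i)]

/-- the projections `((∏ B) ⊗ (∏ B)) ⊗ (∏ B) → (B j ⊗ B k) ⊗ B l` -/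
noncomputable def tripProj (jkl : (ι × ι) × ι) :
    ((∀ j, B j) ⊗[R] (∀ k, B k)) ⊗[R] (∀ l, B l) →ₐ[R]
      (B jkl.1.1 ⊗[R] B jkl.1.2) ⊗[R] B jkl.2 :=
  tproj R (fun jk : ι × ι => B jk.1 ⊗[R] B jk.2) B (pairProj R B) (Pi.evalAlgHom R B) jkl

theorem trip_bijective :
    Function.Bijective (fun (z : ((∀ j, B j) ⊗[R] (∀ k, B k)) ⊗[R] (∀ l, B l))
      (jkl : (ι × ι) × ι) => tripProj R B jkl z) :=
  tensor_bijective R (fun jk : ι × ι => B jk.1 ⊗[R] B jk.2) B (pairProj R B)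
    (Pi.evalAlgHom R B) (pair_bijective R B) Function.bijective_id

/-- `x ↦ x ⊗ 1 : B j ⊗ B k → (B j ⊗ B k) ⊗ B l` -/
noncomputable abbrev r12 (j k l : ι) : B j ⊗[R] B k →ₐ[R] (B j ⊗[R] B k) ⊗[R] B l :=
  Algebra.TensorProduct.includeLeft

/-- `a ⊗ c ↦ (a ⊗ 1) ⊗ c : B j ⊗ B l → (B j ⊗ B k) ⊗ B l` -/
noncomputable abbrev r13 (j k l : ι) : B j ⊗[R] B l →ₐ[R] (B j ⊗[R] B k) ⊗[R] B l :=
  Algebra.TensorProduct.map (Algebra.TensorProduct.includeLeft : B j →ₐ[R] B j ⊗[R] B k)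
    (AlgHom.id R (B l))

/-- `b ⊗ c ↦ (1 ⊗ b) ⊗ c : B k ⊗ B l → (B j ⊗ B k) ⊗ B l` -/
noncomputable abbrev r23 (j k l : ι) : B k ⊗[R] B l →ₐ[R] (B j ⊗[R] B k) ⊗[R] B l :=
  Algebra.TensorProduct.map (Algebra.TensorProduct.includeRight : B k →ₐ[R] B j ⊗[R] B k)
    (AlgHom.id R (B l))

omit [Fintype ι] [DecidableEq ι] in
theorem trip_p12 (j k l : ι) :
    (tripProj R B ((j, k), l)).comp (p12 R (∀ j, B j)) =
      (r12 R B j k l).comp (pairProj R B (j, k)) := by
  ext x <;> simp [tripProj, tproj, pairProj]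

omit [Fintype ι] [DecidableEq ι] in
theorem trip_p13 (j k l : ι) :
    (tripProj R B ((j, k), l)).comp (p13 R (∀ j, B j)) =
      (r13 R B j k l).comp (pairProj R B (j, l)) := by
  ext x <;> simp [tripProj, tproj, pairProj]

omit [Fintype ι] [DecidableEq ι] in
theorem trip_p23 (j k l : ι) :
    (tripProj R B ((j, k), l)).comp (p23 R (∀ j, B j)) =
      (r23 R B j k l).comp (pairProj R B (k, l)) := by
  ext x <;> simp [tripProj, tproj, pairProj]

end Triple

end Groth.Agent.Lib.Seat39.PiTensor2
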