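import Groth.Agent.Lib.Seat39AdeqH1
import Groth.Agent.Lib.Seat39PiTensor2
import Groth.Agent.Lib.Seat39AdeqFam

/-!
# Seat39: vanishing of the first Cech cohomology of an adequate functor for a finite faithfully flat
family of algebras
-/
set_option autoImplicit false
set_option maxSynthPendingDepth 3
universe u
open CategoryTheory Limits Opposite TensorProduct

namespace Groth.Agent.Lib.Seat39.AdeqH1Fam

open Adeq Groth.Agent.Lib.Seat39.MVF Groth.Agent.Lib.Seat39.AdeqF Groth.Agent.Lib.Seat39.AmitsurH1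
  Groth.Agent.Lib.Seat39.PiTensor Groth.Agent.Lib.Seat39.PiTensor2 Groth.Agent.Lib.Seat39.AdeqFam
  Groth.Agent.Lib.Seat39.AdeqH1

variable {R : Type u} [CommRing R] {ι : Type} [Fintype ι] [DecidableEq ι]
  (B : ι → Type u) [∀ i, CommRing (B i)] [∀ i, Algebra R (B i)]

/-- `x ↦ x ⊗ 1` -/
noncomputable abbrev s12 (j k l : ι) :
    algOf R (B j ⊗[R] B k) ⟶ algOf R ((B j ⊗[R] B k) ⊗[R] B l) :=
  CommAlgCat.ofHom (r12 R B j k l)

/-- `a ⊗ c ↦ (a ⊗ 1) ⊗ c` -/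
noncomputable abbrev s13 (j k l : ι) :
    algOf R (B j ⊗[R] B l) ⟶ algOf R ((B j ⊗[R] B k) ⊗[R] B l) :=
  CommAlgCat.ofHom (r13 R B j k l)

/-- `b ⊗ c ↦ (1 ⊗ b) ⊗ c` -/
noncomputable abbrev s23 (j k l : ι) :
    algOf R (B k ⊗[R] B l) ⟶ algOf R ((B j ⊗[R] B k) ⊗[R] B l) :=
  CommAlgCat.ofHom (r23 R B j k l)

/-- the pair projections in `Alg R` -/
noncomputable abbrev pp (jk : ι × ι) :
    algOf R ((∀ j, B j) ⊗[R] (∀ k, B k)) ⟶ algOf R (B jk.1 ⊗[R] B jk.2) :=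
  CommAlgCat.ofHom (pairProj R B jk)

/-- the triple projections in `Alg R` -/
noncomputable abbrev tp (jkl : (ι × ι) × ι) :
    algOf R (((∀ j, B j) ⊗[R] (∀ k, B k)) ⊗[R] (∀ l, B l)) ⟶
      algOf R ((B jkl.1.1 ⊗[R] B jkl.1.2) ⊗[R] B jkl.2) :=
  CommAlgCat.ofHom (tripProj R B jkl)

omit [Fintype ι] [DecidableEq ι] in
theorem q12_tp (j k l : ι) :
    q12 R (∀ j, B j) ≫ tp B ((j, k), l) = pp B (j, k) ≫ s12 B j k l := by
  apply CommAlgCat.hom_ext
  exact trip_p12 R B j k l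

omit [Fintype ι] [DecidableEq ι] in
theorem q13_tp (j k l : ι) :
    q13 R (∀ j, B j) ≫ tp B ((j, k), l) = pp B (j, l) ≫ s13 B j k l := by
  apply CommAlgCat.hom_ext
  exact trip_p13 R B j k l

omit [Fintype ι] [DecidableEq ι] in
theorem q23_tp (j k l : ι) :
    q23 R (∀ j, B j) ≫ tp B ((j, k), l) = pp B (k, l) ≫ s23 B j k l := by
  apply CommAlgCat.hom_ext
  exact trip_p23 R B j k l

/-- Vanishing of the first Cech cohomology of an adequate functor for a finite faithfully flat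
family. -/
theorem family_h1 [Module.FaithfullyFlat R (∀ j, B j)] (F : MVF R) (hF : adequate R F)
    (η : ∀ j k, F.obj (pt (algOf R (B j ⊗[R] B k))))
    (hη : ∀ j k l, mp F (ptHom (s12 B j k l)) (η j k) - mp F (ptHom (s13 B j k l)) (η j l) +
      mp F (ptHom (s23 B j k l)) (η k l) = 0) :
    ∃ θ : ∀ j, F.obj (pt (algOf R (B j))), ∀ j k,
      mp F (ptHom (jL (B j) (B k))) (θ j) - mp F (ptHom (jR (B j) (B k))) (θ k) = η j k := by
  obtain ⟨ξ, hξ⟩ := adequate_prod_surjective (fun jk : ι × ι => B jk.1 ⊗[R] B jk.2) (pairProj R B)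
    (pair_bijective R B) F hF (fun jk => η jk.1 jk.2)
  have hcoc : mp F (ptHom (q12 R (∀ j, B j))) ξ - mp F (ptHom (q13 R (∀ j, B j))) ξ +
      mp F (ptHom (q23 R (∀ j, B j))) ξ = 0 := by
    apply adequate_prod_injective
      (fun jkl : (ι × ι) × ι => (B jkl.1.1 ⊗[R] B jkl.1.2) ⊗[R] B jkl.2) (tripProj R B)
      (trip_bijective R B) F hF
    rintro ⟨⟨j, k⟩, l⟩
    rw [map_zero, map_add, map_sub, ← mp_comp, ← mp_comp, ← mp_comp]
    have e1 : ptHom (q12 R (∀ j, B j)) ≫ ptHom (tp B ((j, k), l)) =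
        ptHom (pp B (j, k)) ≫ ptHom (s12 B j k l) := by
      change ptHom (q12 R (∀ j, B j) ≫ tp B ((j, k), l)) = _
      rw [q12_tp]
      rfl
    have e2 : ptHom (q13 R (∀ j, B j)) ≫ ptHom (tp B ((j, k), l)) =
        ptHom (pp B (j, l)) ≫ ptHom (s13 B j k l) := by
      change ptHom (q13 R (∀ j, B j) ≫ tp B ((j, k), l)) = _
      rw [q13_tp]
      rfl
    have e3 : ptHom (q23 R (∀ j, B j)) ≫ ptHom (tp B ((j, k), l)) =
        ptHom (pp B (k, l)) ≫ ptHom (s23 B j k l) := by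
      change ptHom (q23 R (∀ j, B j) ≫ tp B ((j, k), l)) = _
      rw [q23_tp]
      rfl
    refine Eq.trans ?_ (hη j k l)
    refine congrArg₂ (· + ·) (congrArg₂ (· - ·) ?_ ?_) ?_
    · refine (mp_congr F e1 ξ).trans ?_
      rw [mp_comp]
      exact congrArg _ (hξ (j, k))
    · refine (mp_congr F e2 ξ).trans ?_
      rw [mp_comp]
      exact congrArg _ (hξ (j, l))
    · refine (mp_congr F e3 ξ).trans ?_
      rw [mp_comp]
      exact congrArg _ (hξ (k, l))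
  obtain ⟨θ, hθ⟩ := adequate_h1 (∀ j, B j) F hF ξ hcoc
  refine ⟨fun j => mp F (ptHom (π B j)) θ, ?_⟩
  intro j k
  have h1 := congrArg (mp F (ptHom (pp B (j, k)))) hθ
  rw [map_sub, ← mp_comp, ← mp_comp] at h1
  have e1 : ptHom (AdeqFF.iL R (∀ j, B j)) ≫ ptHom (pp B (j, k)) =
      ptHom (π B j) ≫ ptHom (jL (B j) (B k)) := by
    change ptHom (AdeqFF.iL R (∀ j, B j) ≫ CommAlgCat.ofHom (pairProj R B (j, k))) = _
    rw [iL_pair]
    rfl
  have e2 : ptHom (AdeqFF.iR R (∀ j, B j)) ≫ ptHom (pp B (j, k)) =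
      ptHom (π B k) ≫ ptHom (jR (B j) (B k)) := by
    change ptHom (AdeqFF.iR R (∀ j, B j) ≫ CommAlgCat.ofHom (pairProj R B (j, k))) = _
    rw [iR_pair]
    rfl
  rw [mp_congr F e1 θ, mp_congr F e2 θ, mp_comp, mp_comp] at h1
  exact h1.trans (hξ (j, k))

end Groth.Agent.Lib.Seat39.AdeqH1Fam
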