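import Groth.Agent.Lib.Seat39AdeqCover

/-!
# Seat39: kernels of maps of adequate functors are adequate
-/
set_option autoImplicit false
universe u
open CategoryTheory Limits Opposite TensorProduct

namespace Groth.Agent.Lib.Seat39.AdeqF

open Adeq Groth.Agent.Lib.Seat39.MVF Groth.Agent.Lib.Seat39.CokerAlg

variable {A : Type u} [CommRing A]

theorem ap_add {F G : MVF A} (φ ψ : F ⟶ G) (X) (x : F.obj X) :
    ap (φ + ψ) X x = ap φ X x + ap ψ X x := rfl

/-- `underline M` is adequate. -/
noncomputable def presUnderline (M : ModuleCat.{u + 1} A) : Pres ((underline A).obj M) where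
  M := M
  N := M
  φ := 0
  j := 𝟙 _
  inj X := fun x y h => h
  zero := by rw [Functor.map_zero, comp_zero]
  exact X p _ := ⟨p, rfl⟩

theorem adequate_underline (M : ModuleCat.{u + 1} A) : adequate A ((underline A).obj M) :=
  (presUnderline M).adequate

section Full

variable {M K : ModuleCat.{u + 1} A} (θ : (underline A).obj M ⟶ (underline A).obj K)

/-- The structure map `A → B` as a morphism of algebras. -/
noncomputable abbrev fromA (B : Alg A) : algOf A A ⟶ B := CommAlgCat.ofHom (Algebra.ofId A B)

/-- The module map underlying a morphism `underline M → underline K`. -/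
noncomputable def fullMap : M →ₗ[A] K where
  toFun m := TensorProduct.lid A K (toT K (ap θ (pt (algOf A A)) (ofT M ((1 : A) ⊗ₜ[A] m))))
  map_add' m m' := by
    rw [TensorProduct.tmul_add]
    change TensorProduct.lid A K (toT K (ap θ (pt (algOf A A))
      (ofT M ((1 : A) ⊗ₜ[A] m) + ofT M ((1 : A) ⊗ₜ[A] m')))) = _
    rw [map_add]
    exact map_add (TensorProduct.lid A K) _ _
  map_smul' a m := by
    rw [TensorProduct.tmul_smul, RingHom.id_apply]
    change TensorProduct.lid A K (toT K (ap θ (pt (algOf A A))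
      ((a : (algOf A A : Type u)) • ofT M ((1 : A) ⊗ₜ[A] m)))) = _
    rw [ap_smul]
    exact map_smul (TensorProduct.lid A K) a _

theorem fullMap_spec (m : M) :
    toT K (ap θ (pt (algOf A A)) (ofT M ((1 : A) ⊗ₜ[A] m))) = (1 : A) ⊗ₜ[A] fullMap θ m := by
  apply (TensorProduct.lid A K).injective
  rw [TensorProduct.lid_tmul, one_smul]
  rfl

theorem underline_fullMap : (underline A).map (ModuleCat.ofHom (fullMap θ)) = θ := by
  apply hom_ext_ap
  rintro ⟨⟨B⟩⟩ t
  change toT K (ap ((underline A).map (ModuleCat.ofHom (fullMap θ))) (pt B) (ofT M (toT M t))) =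
    toT K (ap θ (pt B) (ofT M (toT M t)))
  rw [underline_map_ofHom_apply]
  generalize toT M t = t'
  induction t' using TensorProduct.induction_on with
  | zero =>
    rw [map_zero]
    exact (map_zero (ap θ (pt B))).symm
  | tmul b m =>
    rw [LinearMap.baseChange_tmul]
    have e1 : ofT M (b ⊗ₜ[A] m) =
        b • mp ((underline A).obj M) (ptHom (fromA B)) (ofT M ((1 : A) ⊗ₜ[A] m)) := by
      rw [underline_mp_apply, LinearMap.rTensor_tmul]
      change b ⊗ₜ[A] m = b • ((Algebra.ofId A B) 1 ⊗ₜ[A] m)
      rw [map_one, TensorProduct.smul_tmul', smul_eq_mul, mul_one]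
    rw [e1, ap_smul, ap_mp]
    have e2 := fullMap_spec θ m
    have e3 : ap θ (pt (algOf A A)) (ofT M ((1 : A) ⊗ₜ[A] m)) =
      ofT K ((1 : A) ⊗ₜ[A] fullMap θ m) := e2
    rw [e3, underline_mp_apply, LinearMap.rTensor_tmul]
    change b ⊗ₜ[A] (fullMap θ m) = b • ((Algebra.ofId A B) 1 ⊗ₜ[A] (fullMap θ m))
    rw [map_one, TensorProduct.smul_tmul', smul_eq_mul, mul_one]
  | add x y hx hy =>
    rw [map_add]
    change _ = toT K (ap θ (pt B) (ofT M x + ofT M y))
    rw [map_add]
    exact congrArg₂ (· + ·) hx hy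

/-- `underline` is full. -/
theorem underline_full : ∃ h : M ⟶ K, (underline A).map h = θ :=
  ⟨ModuleCat.ofHom (fullMap θ), underline_fullMap θ⟩

end Full

section Ker

variable {F : MVF A} {M M' : ModuleCat.{u + 1} A} (i : F ⟶ (underline A).obj M)
  (θ : F ⟶ (underline A).obj M')

/-- The product module. -/
abbrev prodM (M M' : ModuleCat.{u + 1} A) : ModuleCat.{u + 1} A := ModuleCat.of A (M × M')

/-- The map `(i, θ) : F → underline (M × M')`. -/
noncomputable def diag : F ⟶ (underline A).obj (prodM M M') :=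
  i ≫ (underline A).map (ModuleCat.ofHom (LinearMap.inl A M M')) +
    θ ≫ (underline A).map (ModuleCat.ofHom (LinearMap.inr A M M'))

theorem diag_apply (B : Alg A) (x : F.obj (pt B)) :
    toT (prodM M M') (ap (diag i θ) (pt B) x) =
      (LinearMap.inl A M M').baseChange (B : Type u) (toT M (ap i (pt B) x)) +
        (LinearMap.inr A M M').baseChange (B : Type u) (toT M' (ap θ (pt B) x)) := rfl

theorem fst_diag (B : Alg A) (x : F.obj (pt B)) :
    (LinearMap.fst A M M').baseChange (B : Type u) (toT (prodM M M') (ap (diag i θ) (pt B) x)) =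
      toT M (ap i (pt B) x) := by
  rw [diag_apply, map_add, bc_fst_inl, bc_fst_inr, add_zero]

theorem snd_diag (B : Alg A) (x : F.obj (pt B)) :
    (LinearMap.snd A M M').baseChange (B : Type u) (toT (prodM M M') (ap (diag i θ) (pt B) x)) =
      toT M' (ap θ (pt B) x) := by
  rw [diag_apply, map_add, bc_snd_inl, bc_snd_inr, zero_add]

theorem diag_injective (hi : ∀ X, Function.Injective (ap i X)) (B : Alg A) :
    Function.Injective (ap (diag i θ) (pt B)) := by
  intro x y hxy
  apply hi (pt B)
  have := congrArg (fun z => (LinearMap.fst A M M').baseChange (B : Type u) (toT (prodM M M') z)) hxy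
  simp only [fst_diag] at this
  exact this

theorem bc_fst_prod {K : Type (u + 1)} [AddCommGroup K] [Module A K] (B : Type u) [CommRing B]
    [Algebra A B] (h : (M × M') →ₗ[A] K) (z : B ⊗[A] (M × M')) :
    (LinearMap.fst A K M').baseChange B ((h.prod (LinearMap.snd A M M')).baseChange B z) =
      h.baseChange B z := by
  rw [← LinearMap.comp_apply, ← LinearMap.baseChange_comp, LinearMap.fst_prod]

theorem bc_snd_prod {K : Type (u + 1)} [AddCommGroup K] [Module A K] (B : Type u) [CommRing B]
    [Algebra A B] (h : (M × M') →ₗ[A] K) (z : B ⊗[A] (M × M')) :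
    (LinearMap.snd A K M').baseChange B ((h.prod (LinearMap.snd A M M')).baseChange B z) =
      (LinearMap.snd A M M').baseChange B z := by
  rw [← LinearMap.comp_apply, ← LinearMap.baseChange_comp, LinearMap.snd_prod]

/-- The kernel of a map from an adequate functor (embedded in some `underline M`) to an
`underline M'` is adequate. -/
theorem adequate_kernel_to_underline (hi : ∀ X, Function.Injective (ap i X)) (hF : adequate A F) :
    adequate A (kernel θ) := by
  have hQ : adequate A (cokernel (diag i θ)) := adequate_cokernel _ hF (adequate_underline _)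
  obtain ⟨PQ⟩ := (adequate_iff_nonempty_pres _).mp hQ
  obtain ⟨h, hh⟩ := underline_full (cokernel.π (diag i θ) ≫ PQ.j)
  have hh' : ∀ (B : Alg A) (z : (B : Type u) ⊗[A] (M × M')),
      h.hom.baseChange (B : Type u) z =
        toT PQ.M (ap PQ.j (pt B) (ap (cokernel.π (diag i θ)) (pt B) (ofT (prodM M M') z))) := by
    intro B z
    rw [← ap_comp, ← hh]
    rfl
  refine Pres.adequate (F := kernel θ)
    { M := prodM M M'
      N := ModuleCat.of A (PQ.M × M')
      φ := ModuleCat.ofHom (h.hom.prod (LinearMap.snd A M M'))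
      j := kernel.ι θ ≫ diag i θ
      inj := ?_
      zero := ?_
      exact := ?_ }
  · rintro ⟨⟨B⟩⟩
    intro x y hxy
    rw [ap_comp, ap_comp] at hxy
    exact kernel_ι_injective θ (pt B) (diag_injective i θ hi B hxy)
  · apply hom_ext_ap
    rintro ⟨⟨B⟩⟩ k
    rw [ap_zero, ap_comp, ap_comp]
    set f := ap (kernel.ι θ) (pt B) k with hf
    have hθ : ap θ (pt B) f = 0 := kernel_ι_comp_apply θ (pt B) k
    set z := toT (prodM M M') (ap (diag i θ) (pt B) f) with hz
    change (h.hom.prod (LinearMap.snd A M M')).baseChange (B : Type u) z = 0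
    rw [bc_decomp (B : Type u) ((h.hom.prod (LinearMap.snd A M M')).baseChange (B : Type u) z),
      bc_fst_prod, bc_snd_prod, hh', hz, snd_diag, hθ]
    have h0 : ap (cokernel.π (diag i θ)) (pt B) (ap (diag i θ) (pt B) f) = 0 :=
      cokernel_π_comp_apply (diag i θ) (pt B) f
    change (LinearMap.inl A PQ.M M').baseChange (B : Type u) (toT PQ.M (ap PQ.j (pt B)
      (ap (cokernel.π (diag i θ)) (pt B) (ap (diag i θ) (pt B) f)))) +
        (LinearMap.inr A PQ.M M').baseChange (B : Type u) (toT M' 0) = 0
    rw [h0, map_zero]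
    change (LinearMap.inl A PQ.M M').baseChange (B : Type u) 0 +
        (LinearMap.inr A PQ.M M').baseChange (B : Type u) 0 = 0
    rw [map_zero, map_zero, add_zero]
  · rintro ⟨⟨B⟩⟩ z hz
    have hz' : (h.hom.prod (LinearMap.snd A M M')).baseChange (B : Type u) (toT (prodM M M') z) = 0 :=
      hz
    have h1 := congrArg ((LinearMap.fst A PQ.M M').baseChange (B : Type u)) hz'
    have h2 := congrArg ((LinearMap.snd A PQ.M M').baseChange (B : Type u)) hz'
    rw [bc_fst_prod, map_zero, hh'] at h1
    rw [bc_snd_prod, map_zero] at h2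
    have h3 : ap (cokernel.π (diag i θ)) (pt B) z = 0 := by
      apply PQ.inj (pt B)
      rw [map_zero]
      exact h1
    obtain ⟨f, hf⟩ := cokernel_π_exact (diag i θ) (pt B) z h3
    have h4 : ap θ (pt B) f = 0 := by
      have := snd_diag i θ B f
      rw [hf] at this
      exact this.symm.trans h2
    obtain ⟨k, hk⟩ := kernel_ι_exact θ (pt B) f h4
    exact ⟨k, by rw [ap_comp, hk, hf]⟩

/-- The kernel of a map of adequate functors is adequate. -/
theorem adequate_kernel {F G : MVF A} (φ : F ⟶ G) (hF : adequate A F) (hG : adequate A G) :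
    adequate A (kernel φ) := by
  obtain ⟨PG⟩ := (adequate_iff_nonempty_pres G).mp hG
  obtain ⟨PF⟩ := (adequate_iff_nonempty_pres F).mp hF
  have h1 : adequate A (kernel (φ ≫ PG.j)) :=
    adequate_kernel_to_underline PF.j (φ ≫ PG.j) PF.inj hF
  have : Mono PG.j := mono_of_ap_injective _ PG.inj
  exact (adequate A).prop_of_iso (kernelCompMono φ PG.j) h1

end Ker

end Groth.Agent.Lib.Seat39.AdeqF
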