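import Mathlib.Algebra.Homology.DerivedCategory.Ext.ExactSequences
import Mathlib.Algebra.Homology.DerivedCategory.Ext.EnoughInjectives
import Mathlib.GroupTheory.QuotientGroup.Basic

/-!
# Seat39: dimension shifting for `Ext` along a short exact sequence with acyclic middle term, and the comparison of `Ext¹`
across two categories from a compatible identification of the `Hom` groups
-/

set_option autoImplicit false
universe w w' v v' u u'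
open CategoryTheory Abelian

namespace Groth.Agent.Lib.Seat39.ExtShift

section Shift

variable {𝒜 : Type u} [Category.{v} 𝒜] [Abelian 𝒜] [HasExt.{w} 𝒜]
  {S : ShortComplex 𝒜} (hS : S.ShortExact) (Z : 𝒜)

include hS in
/-- the connecting map is bijective when the middle term is acyclic in the two degrees involved -/
theorem nonempty_shift (n : ℕ) (h0 : ∀ x : Ext.{w} Z S.X₂ n, x = 0)
    (h1 : ∀ x : Ext.{w} Z S.X₂ (n + 1), x = 0) :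
    Nonempty (Ext.{w} Z S.X₃ n ≃+ Ext.{w} Z S.X₁ (n + 1)) := by
  refine ⟨AddEquiv.ofBijective (hS.extClass.postcomp Z (rfl : n + 1 = n + 1)) ⟨?_, ?_⟩⟩
  · rw [injective_iff_map_eq_zero]
    intro x hx
    obtain ⟨x₂, hx₂⟩ := Ext.covariant_sequence_exact₃ Z hS x rfl hx
    rw [← hx₂, h0 x₂, Ext.zero_comp]
  · intro x₁
    exact Ext.covariant_sequence_exact₁ Z hS x₁ (h1 _) rfl

/-- the connecting map from `Hom` -/
noncomputable def δ₀ : (Z ⟶ S.X₃) →+ Ext.{w} Z S.X₁ 1 :=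
  (hS.extClass.postcomp Z (zero_add 1)).comp
    (Ext.addEquiv₀ (X := Z) (Y := S.X₃)).symm.toAddMonoidHom

theorem δ₀_apply (φ : Z ⟶ S.X₃) : δ₀ hS Z φ = (Ext.mk₀ φ).comp hS.extClass (zero_add 1) := rfl

theorem δ₀_eq_zero_iff (φ : Z ⟶ S.X₃) : δ₀ hS Z φ = 0 ↔ ∃ ψ : Z ⟶ S.X₂, ψ ≫ S.g = φ := by
  rw [δ₀_apply]
  constructor
  · intro h
    obtain ⟨x₂, hx₂⟩ := Ext.covariant_sequence_exact₃ Z hS (Ext.mk₀ φ) (zero_add 1) h
    obtain ⟨ψ, rfl⟩ := (Ext.mk₀_bijective _ _).2 x₂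
    rw [Ext.mk₀_comp_mk₀] at hx₂
    exact ⟨ψ, (Ext.mk₀_bijective _ _).1 hx₂⟩
  · rintro ⟨ψ, rfl⟩
    rw [← Ext.mk₀_comp_mk₀, Ext.comp_assoc_of_second_deg_zero, hS.comp_extClass, Ext.comp_zero]

theorem δ₀_surjective (h1 : ∀ x : Ext.{w} Z S.X₂ 1, x = 0) : Function.Surjective (δ₀ hS Z) := by
  intro x₁
  obtain ⟨x₃, hx₃⟩ := Ext.covariant_sequence_exact₁ Z hS x₁ (h1 _) (zero_add 1)
  obtain ⟨φ, rfl⟩ := (Ext.mk₀_bijective _ _).2 x₃
  exact ⟨φ, hx₃⟩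

end Shift

section Compare

variable {𝒜 : Type u} [Category.{v} 𝒜] [Abelian 𝒜] [HasExt.{w} 𝒜]
  {ℬ : Type u'} [Category.{v'} ℬ] [Abelian ℬ] [HasExt.{w'} ℬ]
  {S : ShortComplex 𝒜} (hS : S.ShortExact) {S' : ShortComplex ℬ} (hS' : S'.ShortExact)
  (Z : 𝒜) (Z' : ℬ)

include hS hS' in
/-- `Ext¹` agrees across two categories when the `Hom` groups into the middle and right terms are compatibly identified
and the middle terms are acyclic -/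
theorem nonempty_ext_one (h1 : ∀ x : Ext.{w} Z S.X₂ 1, x = 0) (h1' : ∀ x : Ext.{w'} Z' S'.X₂ 1, x = 0)
    (e₂ : (Z ⟶ S.X₂) ≃+ (Z' ⟶ S'.X₂)) (e₃ : (Z ⟶ S.X₃) ≃+ (Z' ⟶ S'.X₃))
    (hcomm : ∀ φ : Z ⟶ S.X₂, e₃ (φ ≫ S.g) = e₂ φ ≫ S'.g) :
    Nonempty (Ext.{w} Z S.X₁ 1 ≃+ Ext.{w'} Z' S'.X₁ 1) := by
  have he : (δ₀ hS Z).ker.map (e₃ : (Z ⟶ S.X₃) →+ (Z' ⟶ S'.X₃)) = (δ₀ hS' Z').ker := by
    ext y
    rw [AddSubgroup.mem_map, AddMonoidHom.mem_ker, δ₀_eq_zero_iff]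
    constructor
    · rintro ⟨φ, hφ, rfl⟩
      rw [AddMonoidHom.mem_ker, δ₀_eq_zero_iff] at hφ
      obtain ⟨ψ, rfl⟩ := hφ
      exact ⟨e₂ ψ, (hcomm ψ).symm⟩
    · rintro ⟨ψ', rfl⟩
      obtain ⟨ψ, rfl⟩ := e₂.surjective ψ'
      refine ⟨ψ ≫ S.g, ?_, hcomm ψ⟩
      rw [AddMonoidHom.mem_ker, δ₀_eq_zero_iff]
      exact ⟨ψ, rfl⟩
  exact ⟨(QuotientAddGroup.quotientKerEquivOfSurjective (δ₀ hS Z) (δ₀_surjective hS Z h1)).symm.trans
    ((QuotientAddGroup.congr _ _ e₃ he).trans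
      (QuotientAddGroup.quotientKerEquivOfSurjective (δ₀ hS' Z') (δ₀_surjective hS' Z' h1')))⟩

end Compare

end Groth.Agent.Lib.Seat39.ExtShift
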