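import Groth.Agent.Lib.Seat39ShfAdeq
import Groth.Agent.Lib.Seat39AdeqCover

/-!
# Seat39: cokernels and colimits of sheaves of modules as sheafifications of presheaf
cokernels / colimits; adequacy of pointwise cokernels
-/
set_option autoImplicit false
universe u v v₁ u₁
open CategoryTheory Limits Opposite

namespace Groth.Agent.Lib.Seat39.ShfColim

open Groth.Agent.Lib.Seat39.MVF Groth.Agent.Lib.Seat39.EpiLoc

section General

variable {C : Type u₁} [Category.{v₁} C] {J : GrothendieckTopology C} (R : Sheaf J RingCat.{u})
  [HasSheafify J AddCommGrpCat.{v}] [J.WEqualsLocallyBijective AddCommGrpCat.{v}]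

/-- The cokernel of a morphism of sheaves of modules is the sheafification of the cokernel of the
underlying morphism of presheaves of modules. -/
noncomputable def cokernelIso {M N : SheafOfModules.{v} R} (φ : M ⟶ N) :
    (PresheafOfModules.sheafification (𝟙 R.obj)).obj (cokernel ((G R).map φ)) ≅ cokernel φ := by
  let a := PresheafOfModules.sheafification.{v} (𝟙 R.obj)
  let adj := PresheafOfModules.sheafificationAdjunction.{v} (𝟙 R.obj)
  haveI : a.IsLeftAdjoint := adj.isLeftAdjoint
  haveI : PreservesColimit (parallelPair ((G R).map φ) 0) a := inferInstance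
  exact PreservesCokernel.iso a ((G R).map φ) ≪≫
    cokernel.mapIso (a.map ((G R).map φ)) φ (asIso (adj.counit.app M)) (asIso (adj.counit.app N))
      (adj.counit.naturality φ)

end General

section Pointwise

open Adeq Groth.Agent.Lib.Seat39.AdeqF

variable {R : Type u} [CommRing R]

/-- Abstract form: a pointwise cokernel of a map of adequate functors is adequate. -/
theorem adequate_of_pointwise_cokernel {F G₀ H : MVF R} (hF : adequate R F) (hG : adequate R G₀)
    (α : F ⟶ G₀) (β : G₀ ⟶ H) (hαβ : α ≫ β = 0)
    (hsurj : ∀ X, Function.Surjective (ap β X))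
    (hex : ∀ X (y : G₀.obj X), ap β X y = 0 → ∃ x : F.obj X, ap α X x = y) :
    adequate R H := by
  have hC : adequate R (cokernel α) := adequate_cokernel α hF hG
  have hiso : IsIso (cokernel.desc α β hαβ) := by
    apply isIso_of_ap_bijective
    intro X
    constructor
    · refine (injective_iff_map_eq_zero _).mpr ?_
      intro c hc
      obtain ⟨y, rfl⟩ := cokernel_π_surjective α X c
      rw [← ap_comp, cokernel.π_desc] at hc
      obtain ⟨x, rfl⟩ := hex X y hc
      exact cokernel_π_comp_apply α X x
    · intro h
      obtain ⟨y, rfl⟩ := hsurj X h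
      refine ⟨ap (cokernel.π α) X y, ?_⟩
      rw [← ap_comp, cokernel.π_desc]
  exact (adequate R).prop_of_iso (asIso (cokernel.desc α β hαβ)) hC

end Pointwise

section Fppf

open Adeq AlgebraicGeometry

/-- adequate modules on the big fppf site have adequate functors over all affine objects -/
theorem adequate_of_adequateMod_fppf {S : Scheme.{u}}
    (M : BigSite.Mod Scheme.fppfPrecoverage S) (hM : adequateMod Scheme.fppfPrecoverage S M)
    (R : CommRingCat.{u}) (a : Spec R ⟶ S) :
    adequate R ((toMVF Scheme.fppfPrecoverage a).obj M) :=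
  Groth.Agent.Lib.Seat39.BigAdeq.adequate_of_adequateMod Scheme.fppfPrecoverage
    (fun X f h _ a => Groth.Agent.Lib.Seat39.CoverRefine.refine_fppf X f h a) S M hM R a

/-- The cokernel of a map of adequate modules on the big fppf site is adequate. -/
theorem adequateMod_cokernel_fppf {S : Scheme.{u}} {M N : BigSite.Mod Scheme.fppfPrecoverage S}
    (φ : M ⟶ N) (hM : adequateMod Scheme.fppfPrecoverage S M)
    (hN : adequateMod Scheme.fppfPrecoverage S N) :
    adequateMod Scheme.fppfPrecoverage S (cokernel φ) := by
  refine (adequateMod Scheme.fppfPrecoverage S).prop_of_iso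
    (cokernelIso (BigSite.ORing Scheme.fppfPrecoverage S) φ) ?_
  refine Groth.Agent.Lib.Seat39.ShfAdeq.adequateMod_shf _ ?_
  intro R a
  refine adequate_of_pointwise_cokernel (adequate_of_adequateMod_fppf M hM R a)
    (adequate_of_adequateMod_fppf N hN R a) ((toMVF Scheme.fppfPrecoverage a).map φ)
    ((toMVFPre Scheme.fppfPrecoverage a).map
      (cokernel.π ((G (BigSite.ORing Scheme.fppfPrecoverage S)).map φ))) ?_ ?_ ?_
  · have h1 := (toMVFPre Scheme.fppfPrecoverage a).map_comp
      ((G (BigSite.ORing Scheme.fppfPrecoverage S)).map φ)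
      (cokernel.π ((G (BigSite.ORing Scheme.fppfPrecoverage S)).map φ))
    refine h1.symm.trans ?_
    have h2 : (G (BigSite.ORing Scheme.fppfPrecoverage S)).map φ ≫
        cokernel.π ((G (BigSite.ORing Scheme.fppfPrecoverage S)).map φ) = 0 :=
      cokernel.condition _
    exact (congrArg (toMVFPre Scheme.fppfPrecoverage a).map h2).trans
      ((toMVFPre Scheme.fppfPrecoverage a).map_zero _ _)
  · intro X
    exact cokernel_π_surjective ((G (BigSite.ORing Scheme.fppfPrecoverage S)).map φ) _
  · intro X y hy
    exact cokernel_π_exact ((G (BigSite.ORing Scheme.fppfPrecoverage S)).map φ) _ y hy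

end Fppf

end Groth.Agent.Lib.Seat39.ShfColim
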