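import Groth.Agent.Lib.Seat39BigCartan
import Groth.Agent.Lib.Seat39ExtShift
import Groth.Agent.Lib.Seat39AdeqAmitsur
import Groth.Agent.Lib.Seat39ShfColim

/-!
# Seat39: abelian sheaves on the big fppf site whose higher `Ext` from the free sheaves on affine objects vanish

* the class is stable under cokernels of embeddings into injectives, contains the injectives and the underlying abelian sheaves
  of adequate modules;
* for a short exact sequence with kernel in the class, sections of the cokernel over objects with affine underlying scheme lift.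
-/

set_option autoImplicit false
universe u
open CategoryTheory Limits AlgebraicGeometry Opposite Abelian

namespace Groth.Agent.Lib.Seat39.AffAcyc

open Groth.Agent.Lib.Seat69.Amitsur Groth.Agent.Lib.Seat39.OverPower Groth.Agent.Lib.Seat39.FreeSh
  Groth.Agent.Lib.Seat39.AmitsurRes Groth.Agent.Lib.Seat39.BigCartan Groth.Agent.Lib.Seat39.Cartan
  Groth.Agent.Lib.Seat39.ExtShift

variable {S : Scheme.{u}}

local notation "JS" => QuotSh.J Scheme.fppfPrecoverage S

attribute [local instance] CovIdx.ring CovIdx.alg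

/-- vanishing of the higher `Ext` groups from the free sheaves on the affine objects -/
def IsAcyc (G : Sheaf JS AddCommGrpCat.{u + 1}) : Prop :=
  ∀ (R : CommRingCat.{u}) (w : Spec R ⟶ S) (p : ℕ)
    (x : Ext.{u + 1} (freeSheaf JS (Over.mk w)) G (p + 1)), x = 0

theorem affAcyc_of_injective (I : Sheaf JS AddCommGrpCat.{u + 1}) [Injective I] : IsAcyc I :=
  fun _ _ _ x => Ext.eq_zero_of_injective x

theorem affAcyc_cokernel {C : ShortComplex (Sheaf JS AddCommGrpCat.{u + 1})} (hC : C.ShortExact)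
    [Injective C.X₂] (h₁ : IsAcyc C.X₁) : IsAcyc C.X₃ := by
  intro R w p x
  have h0 : x.comp hC.extClass (rfl : p + 1 + 1 = p + 1 + 1) = 0 := h₁ R w (p + 1) _
  obtain ⟨x₂, hx₂⟩ := Ext.covariant_sequence_exact₃ _ hC x rfl h0
  rw [← hx₂, Ext.eq_zero_of_injective x₂, Ext.zero_comp]

/-- the criterion through Amitsur complexes -/
theorem affAcyc_of_amitsur (G : Sheaf JS AddCommGrpCat.{u + 1})
    (hG : ∀ (R : CommRingCat.{u}) (w : Spec R ⟶ S) (B : Type u) [CommRing B] [Algebra R B]
      [Module.FaithfullyFlat R B] (n : ℕ)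
      (x : ((Over.map w).op ⋙ G.obj).obj (op (W R B (n + 2)))),
      (Groth.Agent.Lib.Seat39.CechModel.DP ((Over.map w).op ⋙ G.obj) (W R B) (dW R B) (n + 1)).hom x = 0 →
        ∃ y, (Groth.Agent.Lib.Seat39.CechModel.DP ((Over.map w).op ⋙ G.obj) (W R B) (dW R B) n).hom y = x) :
    IsAcyc G := by
  intro R w p x
  exact ext_eq_zero covData p G
    (fun i => by
      have := i.ff
      exact acyc i.w i.B JS i.cov G (fun n x hx => hG i.R i.w i.B n x hx))
    _ ⟨R, w, ⟨Iso.refl _⟩⟩ x

open Adeq in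
/-- the underlying abelian sheaf of an adequate module is in the class -/
theorem affAcyc_of_adequate (M : BigSite.Mod Scheme.fppfPrecoverage S)
    (hM : Adeq.adequateMod Scheme.fppfPrecoverage S M) :
    IsAcyc ((BigSite.toAbMod Scheme.fppfPrecoverage S).obj M) := by
  apply affAcyc_of_amitsur
  intro R w B _ _ _ n
  have hF : adequate R ((toMVF Scheme.fppfPrecoverage w).obj M) :=
    Groth.Agent.Lib.Seat39.ShfColim.adequate_of_adequateMod_fppf M hM R w
  have hB : ∀ k : ℕ,
      AddCommGrpCat.Hom.hom (Groth.Agent.Lib.Seat39.CechModel.DP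
        ((Over.map w).op ⋙ ((BigSite.toAbMod Scheme.fppfPrecoverage S).obj M).obj)
        (W R B) (dW R B) k) =
      Groth.Agent.Lib.Seat39.AdeqAmitsur.DF B ((toMVF Scheme.fppfPrecoverage w).obj M) (k + 1) := by
    intro k
    unfold Groth.Agent.Lib.Seat39.CechModel.DP Groth.Agent.Lib.Seat39.AdeqAmitsur.DF
    refine (map_sum AddCommGrpCat.homAddEquiv _ _).trans ?_
    apply Finset.sum_congr rfl
    intro i _
    rfl
  intro y hy
  rw [hB] at hy
  obtain ⟨z, hz⟩ := Groth.Agent.Lib.Seat39.AdeqAmitsur.adequate_exact B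
    ((toMVF Scheme.fppfPrecoverage w).obj M) hF (n + 1) y hy
  refine ⟨z, ?_⟩
  rw [hB]
  exact hz

/-- an object with affine underlying scheme is isomorphic to an affine object -/
noncomputable def affIso (Y : Over S) [IsAffine Y.left] :
    Over.mk (Y.left.isoSpec.inv ≫ Y.hom) ≅ Y :=
  Over.isoMk Y.left.isoSpec.symm (by simp)

theorem ext_eq_zero_of_isAffine (G : Sheaf JS AddCommGrpCat.{u + 1}) (hG : IsAcyc G) (Y : Over S)
    [IsAffine Y.left] (p : ℕ) (x : Ext.{u + 1} (freeSheaf JS Y) G (p + 1)) : x = 0 := by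
  have h : (Ext.mk₀ (freeSheafIso JS (affIso Y)).hom).comp x (zero_add _) = 0 := hG _ _ p _
  have h2 : x = (Ext.mk₀ (freeSheafIso JS (affIso Y)).inv).comp
      ((Ext.mk₀ (freeSheafIso JS (affIso Y)).hom).comp x (zero_add _)) (zero_add _) := by
    rw [Ext.mk₀_comp_mk₀_assoc, Iso.inv_hom_id, Ext.mk₀_id_comp]
  rw [h2, h, Ext.comp_zero]

/-- sections of the cokernel over an object with affine underlying scheme lift, when the kernel is in the class -/
theorem lift_affine {C : ShortComplex (Sheaf JS AddCommGrpCat.{u + 1})} (hC : C.ShortExact)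
    (h₁ : IsAcyc C.X₁) (Y : Over S) [IsAffine Y.left] (t : C.X₃.obj.obj (op Y)) :
    ∃ r : C.X₂.obj.obj (op Y), (C.g.hom.app (op Y)).hom r = t := by
  have h0 : δ₀ hC (freeSheaf JS Y) ((homEquivSect JS Y C.X₃).symm t) = 0 :=
    ext_eq_zero_of_isAffine C.X₁ h₁ Y 0 _
  obtain ⟨ψ, hψ⟩ := (δ₀_eq_zero_iff hC _ _).mp h0
  refine ⟨homEquivSect JS Y C.X₂ ψ, ?_⟩
  rw [← homEquivSect_comp, hψ, AddEquiv.apply_symm_apply]

end Groth.Agent.Lib.Seat39.AffAcyc
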