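import Groth.Agent.Lib.Seat39EpiLoc

/-!
# Seat39: covering sieves of affine objects of the big fppf site contain finite affine families
-/
set_option autoImplicit false
universe u w
open CategoryTheory Limits Opposite AlgebraicGeometry

namespace Groth.Agent.Lib.Seat39.AffineFamily

open Groth.Agent.Lib.Seat39.CoverRefine Groth.Agent.Lib.Seat39.EpiLoc

/-- universe-general version of `CoverRefine.exists_finite_affine_refinement` -/
theorem exists_finite_affine_refinement' (P : MorphismProperty Scheme.{u})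
    [P.IsStableUnderBaseChange]
    [P.RespectsLeft @IsOpenImmersion] (hP : P ≤ fun _ _ f => IsOpenMap f.base)
    {S : Scheme.{u}} {ι : Type w} (X : ι → Scheme.{u}) (f : ∀ i, X i ⟶ S)
    (hcov : Presieve.ofArrows X f ∈ Scheme.precoverage P S) {R : CommRingCat.{u}} (a : Spec R ⟶ S) :
    ∃ (n : ℕ) (A : Fin n → CommRingCat.{u}) (φ : ∀ j, R ⟶ A j),
      Presieve.ofArrows (fun j => Spec (A j)) (fun j => Spec.map (φ j)) ∈
        Scheme.precoverage P (Spec R) ∧
      ∀ j, ∃ (i : ι) (h : Spec (A j) ⟶ X i), h ≫ f i = Spec.map (φ j) ≫ a := by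
  let 𝒰 : S.Cover (Scheme.precoverage P) := { I₀ := ι, X := X, f := f, mem₀ := hcov }
  let 𝒰' : (Spec R).Cover (Scheme.precoverage P) := 𝒰.pullback₁ a
  have hqc : QuasiCompactCover 𝒰'.toPreZeroHypercover :=
    QuasiCompactCover.of_isOpenMap (fun i => hP _ (𝒰'.map_prop i))
  obtain ⟨𝒱, g, hfin, -⟩ := QuasiCompactCover.exists_hom 𝒰'
  obtain ⟨n, ⟨e⟩⟩ := Finite.exists_equiv_fin 𝒱.I₀
  have key : ∀ j' : 𝒱.I₀, ∃ (i : ι) (h : Spec (𝒱.X j') ⟶ X i),
      h ≫ f i = Spec.map (Spec.preimage (𝒱.f j')) ≫ a := by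
    intro j'
    refine ⟨g.s₀ j', g.h₀ j' ≫ pullback.snd a (f (g.s₀ j')), ?_⟩
    have h1 : g.h₀ j' ≫ pullback.fst a (f (g.s₀ j')) = 𝒱.f j' := g.w₀ j'
    have h2 : pullback.snd a (f (g.s₀ j')) ≫ f (g.s₀ j') = pullback.fst _ _ ≫ a :=
      pullback.condition.symm
    rw [Spec.map_preimage]
    exact (Category.assoc _ _ _).trans ((congrArg (g.h₀ j' ≫ ·) h2).trans
      ((Category.assoc _ _ _).symm.trans (congrArg (· ≫ a) h1)))
  have hcovers : ∀ (x : Spec R) (k : 𝒱.I₀), k = 𝒱.idx x →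
      x ∈ Set.range (Spec.map (Spec.preimage (𝒱.f k))).base := by
    rintro x k rfl
    rw [Spec.map_preimage]
    exact 𝒱.covers x
  refine ⟨n, fun j => 𝒱.X (e.symm j), fun j => Spec.preimage (𝒱.f (e.symm j)), ?_, ?_⟩
  · rw [Scheme.ofArrows_mem_precoverage_iff]
    constructor
    · intro x
      exact ⟨e (𝒱.idx x), hcovers x _ (e.symm_apply_apply _)⟩
    · intro j
      rw [Spec.map_preimage]
      exact 𝒱.map_prop _
  · intro j
    exact key (e.symm j)

/-- refinement of an arbitrary fppf covering presieve of an affine scheme -/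
theorem refine_fppf_presieve {R : CommRingCat.{u}} (P₀ : Presieve (Spec R))
    (hP₀ : P₀ ∈ Scheme.fppfPrecoverage.coverings (Spec R)) :
    ∃ (n : ℕ) (A : Fin n → CommRingCat.{u}) (φ : ∀ j, R ⟶ A j),
      Presieve.ofArrows (fun j => Spec (A j)) (fun j => Spec.map (φ j)) ∈
        Scheme.fppfPrecoverage.coverings (Spec R) ∧
      ∀ j, ∃ (V : Scheme.{u}) (g : V ⟶ Spec R) (_ : P₀ g) (h : Spec (A j) ⟶ V),
        h ≫ g = Spec.map (φ j) := by
  obtain ⟨E, rfl⟩ := Precoverage.mem_iff_exists_zeroHypercover.mp hP₀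
  have := fppf_isStableUnderBaseChange.{u}
  have := fppf_respectsLeft.{u}
  obtain ⟨n, A, φ, hcov, hfac⟩ := exists_finite_affine_refinement'
    (@Flat ⊓ @LocallyOfFinitePresentation)
    (fun _ _ f ⟨_, _⟩ => f.isOpenMap) E.X E.f E.mem₀ (𝟙 (Spec R))
  refine ⟨n, A, φ, hcov, fun j => ?_⟩
  obtain ⟨i, h, hh⟩ := hfac j
  exact ⟨E.X i, E.f i, ⟨i⟩, h, hh.trans (Category.comp_id _)⟩

/-- A covering sieve of an affine object of the big fppf site contains a finite affine covering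
family. -/
theorem exists_affine_family_of_sieve {S : Scheme.{u}} {R : CommRingCat.{u}} (a : Spec R ⟶ S)
    (T : Sieve (Over.mk a)) (hT : T ∈ QuotSh.J Scheme.fppfPrecoverage S (Over.mk a)) :
    ∃ (n : ℕ) (A : Fin n → CommRingCat.{u}) (φ : ∀ j, R ⟶ A j),
      Presieve.ofArrows (fun j => Spec (A j)) (fun j => Spec.map (φ j)) ∈
        Scheme.fppfPrecoverage.coverings (Spec R) ∧
      ∀ j, T (Over.homMk (Spec.map (φ j)) rfl : Over.mk (Spec.map (φ j) ≫ a) ⟶ Over.mk a) := by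
  obtain ⟨P₀, hP₀, hle⟩ := exists_fppf_cover_le T hT
  obtain ⟨n, A, φ, hcov, hfac⟩ := refine_fppf_presieve P₀ hP₀
  refine ⟨n, A, φ, hcov, fun j => ?_⟩
  obtain ⟨V, g, hg, h, hh⟩ := hfac j
  have h1 := hle g hg
  have hw : h ≫ (g ≫ a) = Spec.map (φ j) ≫ a := by rw [← Category.assoc, hh]
  have h2 := T.downward_closed h1
    (Over.homMk h hw : Over.mk (Spec.map (φ j) ≫ a) ⟶ Over.mk (g ≫ a))
  have h3 : (Over.homMk h hw : Over.mk (Spec.map (φ j) ≫ a) ⟶ Over.mk (g ≫ a)) ≫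
      (Over.homMk g rfl : Over.mk (g ≫ a) ⟶ Over.mk a) =
      (Over.homMk (Spec.map (φ j)) rfl : Over.mk (Spec.map (φ j) ≫ a) ⟶ Over.mk a) := by
    ext
    exact hh
  rw [← h3]
  exact h2

end Groth.Agent.Lib.Seat39.AffineFamily
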