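import Mathlib.Algebra.Category.CommAlgCat.Basic
import Mathlib.Algebra.Category.Ring.FilteredColimits
import Mathlib.CategoryTheory.Limits.Preserves.Over
import Mathlib.CategoryTheory.Limits.Types.Filtered
import Mathlib.CategoryTheory.Limits.Preserves.Filtered

/-!
# Seat39: filtered colimits of commutative algebras, element by element

The forgetful functor from commutative `A`-algebras to types preserves filtered colimits; consequently
every element of a filtered colimit comes from a stage and two elements with the same image agree at a later stage.
-/

set_option autoImplicit false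
universe u
open CategoryTheory Limits

namespace Groth.Agent.Lib.Seat39.AlgColim

variable {A : Type u} [CommRing A]

/-- the forgetful functor factors through rings under `A` -/
noncomputable def forgetIso :
    (commAlgCatEquivUnder (.of A)).functor ⋙ Under.forget (CommRingCat.of A) ⋙ forget CommRingCat.{u} ≅
      forget (CommAlgCat.{u} A) :=
  NatIso.ofComponents (fun _ => Iso.refl _) (by intros; rfl)

variable {J : Type u} [SmallCategory J] [IsFiltered J] (D : J ⥤ CommAlgCat.{u} A)

theorem preservesColimit_forget : PreservesColimit D (forget (CommAlgCat.{u} A)) := by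
  have h : PreservesColimit D ((commAlgCatEquivUnder (.of A)).functor ⋙
      Under.forget (CommRingCat.of A) ⋙ forget CommRingCat.{u}) := inferInstance
  exact preservesColimit_of_natIso D forgetIso

variable {D} {c : Cocone D} (hc : IsColimit c)

include hc

theorem exists_rep (b : c.pt) : ∃ i, ∃ bi : D.obj i, (c.ι.app i).hom bi = b := by
  have := preservesColimit_forget D
  have hT := isColimitOfPreserves (forget (CommAlgCat.{u} A)) hc
  obtain ⟨i, bi, h⟩ := Types.jointly_surjective_of_isColimit hT b
  exact ⟨i, bi, h⟩

theorem exists_eq {i j : J} (bi : D.obj i) (bj : D.obj j)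
    (h : (c.ι.app i).hom bi = (c.ι.app j).hom bj) :
    ∃ k, ∃ f : i ⟶ k, ∃ g : j ⟶ k, (D.map f).hom bi = (D.map g).hom bj := by
  have := preservesColimit_forget D
  have hT := isColimitOfPreserves (forget (CommAlgCat.{u} A)) hc
  obtain ⟨k, f, g, hk⟩ := (Types.FilteredColimit.isColimit_eq_iff _ hT).mp h
  exact ⟨k, f, g, hk⟩

end Groth.Agent.Lib.Seat39.AlgColim
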