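import Mathlib.AlgebraicTopology.AlternatingFaceMapComplex
import Groth.Agent.Lib.Seat69Amitsur

/-!
# Seat39: the square of an alternating sum of face maps is zero (index-shifted copy of Mathlib's `d_squared`, so that the
augmentation is included), and the simplicial identity for the cofaces of helper69's tensor tower
-/

set_option autoImplicit false
universe v u
open CategoryTheory Limits Preadditive

namespace Groth.Agent.Lib.Seat39.AltSq

section Generic

variable {C : Type u} [Category.{v} C] [Preadditive C] (A : ℕ → C)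
  (f : ∀ n, Fin (n + 1) → (A (n + 1) ⟶ A n))

/-- the alternating sum -/
noncomputable def D (n : ℕ) : A (n + 1) ⟶ A n := ∑ i : Fin (n + 1), (-1 : ℤ) ^ (i : ℕ) • f n i

variable (H : ∀ (n : ℕ) (i : Fin (n + 2)) (j : Fin (n + 1)) (h : i ≤ Fin.castSucc j),
    f (n + 1) j.succ ≫ f n (i.castLT (Nat.lt_of_le_of_lt (Fin.le_iff_val_le_val.mp h) j.is_lt)) =
      f (n + 1) i ≫ f n j)

include H in
theorem D_comp_D (n : ℕ) : D A f (n + 1) ≫ D A f n = 0 := by
  unfold D
  simp only [comp_sum, sum_comp, ← Finset.sum_product']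
  let P := Fin (n + 1) × Fin (n + 2)
  let S : Finset P := {ij : P | (ij.2 : ℕ) ≤ (ij.1 : ℕ)}
  rw [Finset.univ_product_univ, ← Finset.sum_add_sum_compl S, ← eq_neg_iff_add_eq_zero,
    ← Finset.sum_neg_distrib]
  let φ : ∀ ij : P, ij ∈ S → P := fun ij hij =>
    (Fin.castLT ij.2 (lt_of_le_of_lt (Finset.mem_filter.mp hij).right (Fin.is_lt ij.1)), ij.1.succ)
  apply Finset.sum_bij φ
  · intro ij hij
    simp_rw [S, φ, Finset.compl_filter, Finset.mem_filter_univ, Fin.val_succ,
      Fin.val_castLT] at hij ⊢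
    lia
  · rintro ⟨i, j⟩ hij ⟨i', j'⟩ hij' h
    rw [Prod.mk_inj]
    exact ⟨by simpa [φ] using! congr_arg Prod.snd h,
      by simpa [φ, Fin.castSucc_castLT] using! congr_arg Fin.castSucc (congr_arg Prod.fst h)⟩
  · rintro ⟨i', j'⟩ hij'
    simp_rw [S, Finset.compl_filter, Finset.mem_filter_univ, not_le] at hij'
    refine ⟨(j'.pred <| ?_, Fin.castSucc i'), ?_, ?_⟩
    · rintro rfl
      simp only [Fin.val_zero, not_lt_zero] at hij'
    · simpa [S] using! Nat.le_sub_one_of_lt hij'
    · simp only [φ, Fin.castLT_castSucc, Fin.succ_pred]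
  · rintro ⟨i, j⟩ hij
    dsimp
    simp only [zsmul_comp, comp_zsmul, smul_smul, ← neg_smul]
    congr 1
    · simp only [φ, Fin.val_succ, pow_add, pow_one, mul_neg, neg_neg, mul_one]
      apply mul_comm
    · rw [H]
      simpa [S] using! hij

end Generic

section Fin

theorem fin_id (n : ℕ) (i : Fin (n + 2)) (j : Fin (n + 1)) (h : i ≤ Fin.castSucc j) (l : Fin n) :
    j.succ.succAbove
        ((i.castLT (Nat.lt_of_le_of_lt (Fin.le_iff_val_le_val.mp h) j.is_lt)).succAbove l) =
      i.succAbove (j.succAbove l) := by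
  rcases i with ⟨i, hi⟩
  rcases j with ⟨j, hj⟩
  rcases l with ⟨l, hl⟩
  simp only [Fin.succAbove, Fin.lt_def, Fin.le_def, Fin.castSucc_mk, Fin.succ_mk,
    Fin.castLT_mk] at h ⊢
  split_ifs <;> simp at * <;> omega

end Fin

section Tower

open Groth.Agent.Lib.Seat69.Amitsur

variable (R B : Type u) [CommRing R] [CommRing B] [Algebra R B]

/-- the simplicial identity for the cofaces of the tensor tower -/
theorem δ_comp_δ (n : ℕ) (i : Fin (n + 2)) (j : Fin (n + 1)) (h : i ≤ Fin.castSucc j) :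
    (δ R B (n + 1) j.succ).comp
        (δ R B n (i.castLT (Nat.lt_of_le_of_lt (Fin.le_iff_val_le_val.mp h) j.is_lt))) =
      (δ R B (n + 1) i).comp (δ R B n j) := by
  apply hom_ext R B n
  intro l
  rw [AlgHom.comp_assoc, AlgHom.comp_assoc, δ_comp_ι, δ_comp_ι, δ_comp_ι, δ_comp_ι, fin_id n i j h l]

end Tower

end Groth.Agent.Lib.Seat39.AltSq
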