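import Mathlib
import Groth.Agent.Lib.Helper16CoAcyc

/-!
# Seat39: an abstract Cartan criterion in an abelian category

A family of "resolution data" `… → A 2 → A 1 → A 0 → 0` (exact, with all terms in a class `B` of base objects) such that
every epimorphism onto-problem `Z → X₃ ← X₂` with `Z ∈ B` is solved after passing to some `A 1 → A 0 ≅ Z` of the family:
an object `G` for which every `Hom(A •, G)` is exact in positive degrees has `Ext^{p+1}(Z, G) = 0` for all `Z ∈ B`.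
(Adapted from the topos version by the earlier team: `S12106`, `Helper9TFCartan`.)
-/

set_option autoImplicit false
set_option linter.unusedSectionVars false
universe w v u
open CategoryTheory Limits Abelian

namespace Groth.Agent.Lib.Seat39.Cartan

open Groth.Agent.Lib.Helper16.CoAcyc

variable {𝒜 : Type u} [Category.{v} 𝒜] [Abelian 𝒜]

/-- resolution datum: an exact sequence `… → A 2 → A 1 → A 0 → 0` -/
structure Res (𝒜 : Type u) [Category.{v} 𝒜] [Abelian 𝒜] where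
  /-- the terms -/
  A : ℕ → 𝒜
  /-- the differentials -/
  d : ∀ n, A (n + 1) ⟶ A n
  dd : ∀ n, d (n + 1) ≫ d n = 0
  exact : ∀ n, (ShortComplex.mk (d (n + 1)) (d n) (dd n)).Exact
  epi0 : Epi (d 0)

/-- `Hom(A •, G)` is exact in positive degrees -/
def Res.Acyc (c : Res 𝒜) (G : 𝒜) : Prop :=
  ∀ (n : ℕ) (φ : c.A (n + 2) ⟶ G), c.d (n + 2) ≫ φ = 0 →
    ∃ ψ : c.A (n + 1) ⟶ G, c.d (n + 1) ≫ ψ = φ

theorem stepA1 (c : Res 𝒜) {S : ShortComplex 𝒜} (hS : S.ShortExact) (hF : c.Acyc S.X₁)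
    (s : c.A 0 ⟶ S.X₃) (t₀ : c.A 1 ⟶ S.X₂) (ht : t₀ ≫ S.g = c.d 0 ≫ s) :
    ∃ r : c.A 0 ⟶ S.X₂, r ≫ S.g = s := by
  have hc : (c.d 1 ≫ t₀) ≫ S.g = 0 := by
    rw [Category.assoc, ht, ← Category.assoc, c.dd, zero_comp]
  let c' : c.A 2 ⟶ S.X₁ := hS.fIsKernel.lift (KernelFork.ofι _ hc)
  have hc' : c' ≫ S.f = c.d 1 ≫ t₀ :=
    hS.fIsKernel.fac (KernelFork.ofι _ hc) WalkingParallelPair.zero
  have hcoc : c.d 2 ≫ c' = 0 := by
    have := hS.mono_f
    rw [← cancel_mono S.f, Category.assoc, hc', ← Category.assoc, c.dd, zero_comp, zero_comp]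
  obtain ⟨u, hu⟩ := hF 0 c' hcoc
  have ht' : c.d 1 ≫ (t₀ - u ≫ S.f) = 0 := by
    rw [Preadditive.comp_sub, ← Category.assoc, hu, hc', sub_self]
  have hepi : Epi (ShortComplex.mk (c.d 1) (c.d 0) (c.dd 0)).g := c.epi0
  let r : c.A 0 ⟶ S.X₂ := (c.exact 0).gIsCokernel.desc (CokernelCofork.ofπ _ ht')
  have hr : c.d 0 ≫ r = t₀ - u ≫ S.f :=
    (c.exact 0).gIsCokernel.fac (CokernelCofork.ofπ _ ht') WalkingParallelPair.one
  refine ⟨r, ?_⟩
  have := c.epi0
  rw [← cancel_epi (c.d 0), ← Category.assoc, hr, Preadditive.sub_comp, Category.assoc, S.zero,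
    comp_zero, sub_zero, ht]

variable [HasExt.{w} 𝒜]

theorem acyc_of_injective (c : Res 𝒜) (I : 𝒜) [Injective I] : c.Acyc I := by
  intro n φ hφ
  have := c.epi0
  exact exists_factor c.A c.d c.dd c.exact
    (fun _ _ x => Ext.eq_zero_of_injective x) (n + 1) φ hφ

variable {ι : Type*} (cov : ι → Res 𝒜) (B : 𝒜 → Prop)

/-- the data of the family: terms are base objects, and lifting problems over base objects are solved on a member -/
structure CovData : Prop where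
  terms : ∀ i n, B ((cov i).A n)
  refine : ∀ (Z : 𝒜), B Z → ∀ {X₂ X₃ : 𝒜} (p : X₂ ⟶ X₃), Epi p → ∀ s : Z ⟶ X₃,
    ∃ (i : ι) (e : (cov i).A 0 ≅ Z) (t₀ : (cov i).A 1 ⟶ X₂), t₀ ≫ p = (cov i).d 0 ≫ e.hom ≫ s

variable {cov B}

theorem stepA (D : CovData cov B) {S : ShortComplex 𝒜} (hS : S.ShortExact)
    (hF : ∀ i, (cov i).Acyc S.X₁) (Z : 𝒜) (hZ : B Z) (s : Z ⟶ S.X₃) :
    ∃ r : Z ⟶ S.X₂, r ≫ S.g = s := by
  have := hS.epi_g
  obtain ⟨i, e, t₀, ht⟩ := D.refine Z hZ S.g inferInstance s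
  obtain ⟨r, hr⟩ := stepA1 (cov i) hS (hF i) (e.hom ≫ s) t₀ ht
  refine ⟨e.inv ≫ r, ?_⟩
  rw [Category.assoc, hr, Iso.inv_hom_id_assoc]

theorem stepB (D : CovData cov B) {S : ShortComplex 𝒜} (hS : S.ShortExact) [Injective S.X₂]
    (hF : ∀ i, (cov i).Acyc S.X₁) : ∀ i, (cov i).Acyc S.X₃ := by
  intro i n γ hγ
  have := hS.mono_f
  obtain ⟨β, hβ⟩ : ∃ β : (cov i).A (n + 2) ⟶ S.X₂, β ≫ S.g = γ :=
    stepA D hS hF _ (D.terms i (n + 2)) γ
  have h1 : ((cov i).d (n + 2) ≫ β) ≫ S.g = 0 := by rw [Category.assoc, hβ, hγ]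
  let α : (cov i).A (n + 3) ⟶ S.X₁ := hS.fIsKernel.lift (KernelFork.ofι _ h1)
  have hα : α ≫ S.f = (cov i).d (n + 2) ≫ β :=
    hS.fIsKernel.fac (KernelFork.ofι _ h1) WalkingParallelPair.zero
  have hα0 : (cov i).d (n + 3) ≫ α = 0 := by
    rw [← cancel_mono S.f, Category.assoc, hα, ← Category.assoc, (cov i).dd, zero_comp, zero_comp]
  obtain ⟨α₁, hα₁⟩ := hF i (n + 1) α hα0
  have h2 : (cov i).d (n + 2) ≫ (β - α₁ ≫ S.f) = 0 := by
    rw [Preadditive.comp_sub, ← Category.assoc, hα₁, hα, sub_self]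
  obtain ⟨β'', hβ''⟩ := acyc_of_injective (cov i) S.X₂ n (β - α₁ ≫ S.f) h2
  refine ⟨β'' ≫ S.g, ?_⟩
  rw [← Category.assoc, hβ'', Preadditive.sub_comp, Category.assoc, S.zero, comp_zero, sub_zero, hβ]

variable [EnoughInjectives 𝒜]

/-- **Abstract Cartan criterion.** -/
theorem ext_eq_zero (D : CovData cov B) :
    ∀ (p : ℕ) (G : 𝒜), (∀ i, (cov i).Acyc G) → ∀ (Z : 𝒜), B Z →
      ∀ (x : Ext.{w} Z G (p + 1)), x = 0 := by
  intro p
  induction p with
  | zero =>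
    intro G hG Z hZ x
    let S : ShortComplex 𝒜 :=
      ShortComplex.mk (Injective.ι G) (cokernel.π (Injective.ι G)) (cokernel.condition _)
    have hS : S.ShortExact := ShortComplex.ShortExact.mk (ShortComplex.exact_cokernel _)
    have : Injective S.X₂ := inferInstanceAs (Injective (Injective.under G))
    obtain ⟨x₃, hx₃⟩ := Ext.covariant_sequence_exact₁ _ hS x (Ext.eq_zero_of_injective _) (n₀ := 0) rfl
    obtain ⟨φ, rfl⟩ := (Ext.mk₀_bijective _ _).2 x₃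
    obtain ⟨r, hr⟩ := stepA D hS hG Z hZ φ
    rw [← hx₃, ← hr, ← Ext.mk₀_comp_mk₀, Ext.comp_assoc_of_second_deg_zero, hS.comp_extClass,
      Ext.comp_zero]
  | succ p ih =>
    intro G hG Z hZ x
    let S : ShortComplex 𝒜 :=
      ShortComplex.mk (Injective.ι G) (cokernel.π (Injective.ι G)) (cokernel.condition _)
    have hS : S.ShortExact := ShortComplex.ShortExact.mk (ShortComplex.exact_cokernel _)
    have : Injective S.X₂ := inferInstanceAs (Injective (Injective.under G))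
    obtain ⟨x₃, hx₃⟩ := Ext.covariant_sequence_exact₁ _ hS x (Ext.eq_zero_of_injective _)
      (n₀ := p + 1) rfl
    rw [← hx₃, ih S.X₃ (stepB D hS hG) Z hZ x₃, Ext.zero_comp]

end Groth.Agent.Lib.Seat39.Cartan
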