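import Mathlib.CategoryTheory.Sites.SheafCohomology.Cech
import Mathlib.Algebra.Homology.ShortComplex.Ab
import Mathlib.Algebra.Homology.ShortComplex.HomologicalComplex
import Mathlib.Algebra.Category.Grp.Limits
import Mathlib.Algebra.Category.Grp.Preadditive
import Mathlib.CategoryTheory.Limits.Shapes.Products

/-!
# Seat39: the Cech complex of a one-member family, computed on a model of the powers

For a one-member family `V` in a category with finite products and an abelian-group-valued presheaf `P`,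
Mathlib's Cech complex is identified, through any model `W n` of the `n`-fold powers of `V` with cofaces `dW`,
with the complex `P(W 1) → P(W 2) → …` whose differential is the alternating sum of `P(dW)`.
-/

set_option autoImplicit false
universe w v u
open CategoryTheory Limits Opposite

namespace Groth.Agent.Lib.Seat39.CechModel

variable {C : Type u} [Category.{v} C] [HasFiniteProducts C] (V : C) (P : Cᵒᵖ ⥤ AddCommGrpCat.{w})

/-- Mathlib's Cech complex of the one-member family `V`. -/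
noncomputable abbrev K : CochainComplex AddCommGrpCat.{w} ℕ :=
  (cechComplexFunctor (A := AddCommGrpCat.{w}) (fun _ : PUnit.{w + 1} => V)).obj P

/-- the underlying cosimplicial object -/
noncomputable abbrev cs : CosimplicialObject AddCommGrpCat.{w} :=
  (FormalCoproduct.cosimplicialObjectFunctor
    (FormalCoproduct.mk _ (fun _ : PUnit.{w + 1} => V)).cech).obj P

theorem K_d (n : ℕ) :
    (K V P).d n (n + 1) = ∑ i : Fin (n + 2), (-1 : ℤ) ^ (i : ℕ) • (cs V P).δ i :=
  CochainComplex.of_d (V := AddCommGrpCat.{w}) (fun n => (cs V P).obj (SimplexCategory.mk n))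
    (AlgebraicTopology.AlternatingCofaceMapComplex.objD (cs V P)) n

/-- the terms, written out -/
noncomputable abbrev X (n : ℕ) : AddCommGrpCat.{w} :=
  ∏ᶜ fun (_ : Fin (n + 1) → PUnit.{w + 1}) => P.obj (op (∏ᶜ fun (_ : Fin (n + 1)) => V))

/-- the cofaces, written out -/
noncomputable def cf (n : ℕ) (i : Fin (n + 2)) : X V P n ⟶ X V P (n + 1) :=
  Pi.lift (fun (_ : Fin (n + 2) → PUnit.{w + 1}) =>
      Pi.π (fun (_ : Fin (n + 1) → PUnit.{w + 1}) => P.obj (op (∏ᶜ fun (_ : Fin (n + 1)) => V)))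
          (fun _ => PUnit.unit) ≫
        P.map (Pi.lift (fun a : Fin (n + 1) =>
          Pi.π (fun (_ : Fin (n + 2)) => V) (i.succAbove a))).op)

theorem cs_δ (n : ℕ) (i : Fin (n + 2)) : (cs V P).δ i = cf V P n i := rfl

/-- the differential, written out -/
noncomputable def dX (n : ℕ) : X V P n ⟶ X V P (n + 1) :=
  ∑ i : Fin (n + 2), (-1 : ℤ) ^ (i : ℕ) • cf V P n i

theorem K_d' (n : ℕ) : (K V P).d n (n + 1) = dX V P n := K_d V P n

variable {V} (W : ℕ → C) (pr : ∀ n, Fin n → (W n ⟶ V))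
  (hW : ∀ n, IsLimit (Fan.mk (W n) (pr n)))
  (dW : ∀ n, Fin (n + 1) → (W (n + 1) ⟶ W n))
  (hd : ∀ n (i : Fin (n + 1)) (l : Fin n), dW n i ≫ pr n l = pr (n + 1) (i.succAbove l))

/-- the comparison with Mathlib's chosen power -/
noncomputable def θ (n : ℕ) : W (n + 1) ⟶ ∏ᶜ (fun _ : Fin (n + 1) => V) := Pi.lift (pr (n + 1))

@[reassoc]
theorem θ_π (n : ℕ) (a : Fin (n + 1)) :
    θ W pr n ≫ Pi.π (fun _ : Fin (n + 1) => V) a = pr (n + 1) a :=
  Pi.lift_π _ _

include hW in
theorem isIso_θ (n : ℕ) : IsIso (θ W pr n) := by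
  refine ⟨Fan.IsLimit.lift (hW (n + 1)) (fun a => Pi.π (fun _ : Fin (n + 1) => V) a), ?_, ?_⟩
  · apply Fan.IsLimit.hom_ext (hW (n + 1))
    intro a
    rw [Category.assoc, Category.id_comp]
    refine (congrArg (fun t => θ W pr n ≫ t) (Fan.IsLimit.fac (hW (n + 1)) _ a)).trans ?_
    exact θ_π W pr n a
  · apply Pi.hom_ext
    intro a
    rw [Category.assoc, θ_π, Category.id_comp]
    exact Fan.IsLimit.fac (hW (n + 1)) _ a

include hd in
theorem θ_coface (n : ℕ) (i : Fin (n + 2)) :
    θ W pr (n + 1) ≫ Pi.lift (fun a : Fin (n + 1) =>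
        Pi.π (fun (_ : Fin (n + 2)) => V) (i.succAbove a)) = dW (n + 1) i ≫ θ W pr n := by
  apply Pi.hom_ext
  intro a
  rw [Category.assoc, Pi.lift_π, θ_π, Category.assoc, θ_π, hd]

/-- the comparison of the terms -/
noncomputable def e (n : ℕ) : X V P n ⟶ P.obj (op (W (n + 1))) :=
  Pi.π (fun (_ : Fin (n + 1) → PUnit.{w + 1}) => P.obj (op (∏ᶜ fun (_ : Fin (n + 1)) => V)))
      (fun _ => PUnit.unit) ≫ P.map (θ W pr n).op

include hW in
theorem isIso_e (n : ℕ) : IsIso (e P W pr n) := by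
  have h1 : IsIso (Pi.π (fun (_ : Fin (n + 1) → PUnit.{w + 1}) =>
      P.obj (op (∏ᶜ fun (_ : Fin (n + 1)) => V))) (fun _ => PUnit.unit)) :=
    (productUniqueIso (fun (_ : Fin (n + 1) → PUnit.{w + 1}) =>
      P.obj (op (∏ᶜ fun (_ : Fin (n + 1)) => V)))).isIso_hom
  have h2 := isIso_θ W pr hW n
  have h3 : IsIso (P.map (θ W pr n).op) := inferInstance
  exact IsIso.comp_isIso' h1 h3

/-- the differential of the model complex -/
noncomputable def DP (n : ℕ) : P.obj (op (W (n + 1))) ⟶ P.obj (op (W (n + 2))) :=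
  ∑ i : Fin (n + 2), (-1 : ℤ) ^ (i : ℕ) • P.map (dW (n + 1) i).op

include hd in
theorem δ_e (n : ℕ) (i : Fin (n + 2)) :
    cf V P n i ≫ e P W pr (n + 1) = e P W pr n ≫ P.map (dW (n + 1) i).op := by
  unfold e cf
  rw [← Category.assoc, Pi.lift_π, Category.assoc, Category.assoc, ← P.map_comp, ← P.map_comp,
    ← op_comp, ← op_comp, θ_coface W pr dW hd]

include hd in
theorem d_e (n : ℕ) : dX V P n ≫ e P W pr (n + 1) = e P W pr n ≫ DP P W dW n := by
  rw [dX, DP, Preadditive.sum_comp, Preadditive.comp_sum]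
  apply Finset.sum_congr rfl
  intro i _
  rw [Preadditive.zsmul_comp, Preadditive.comp_zsmul, δ_e P W pr dW hd]

include hW hd in
/-- Exactness of Mathlib's Cech complex at `n + 1` follows from exactness of the model complex. -/
theorem exactAt_of_model (n : ℕ)
    (hex : ∀ y : P.obj (op (W (n + 2))), (DP P W dW (n + 1)).hom y = 0 →
      ∃ x : P.obj (op (W (n + 1))), (DP P W dW n).hom x = y) :
    (K V P).ExactAt (n + 1) := by
  rw [HomologicalComplex.exactAt_iff' _ n (n + 1) (n + 2) (by simp) (by simp),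
    ShortComplex.ab_exact_iff]
  intro x₂ hx₂
  have hx₂' : (dX V P (n + 1)).hom x₂ = 0 := by
    rw [← K_d']
    exact hx₂
  have b0 := (ConcreteCategory.isIso_iff_bijective _).mp (isIso_e P W pr hW n)
  have b1 := (ConcreteCategory.isIso_iff_bijective _).mp (isIso_e P W pr hW (n + 1))
  have c0 : ∀ z, (e P W pr (n + 1)).hom ((dX V P n).hom z) =
      (DP P W dW n).hom ((e P W pr n).hom z) := fun z =>
    congrArg (fun f => f.hom z) (d_e P W pr dW hd n)
  have c1 : ∀ z, (e P W pr (n + 2)).hom ((dX V P (n + 1)).hom z) =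
      (DP P W dW (n + 1)).hom ((e P W pr (n + 1)).hom z) := fun z =>
    congrArg (fun f => f.hom z) (d_e P W pr dW hd (n + 1))
  have hy : (DP P W dW (n + 1)).hom ((e P W pr (n + 1)).hom x₂) = 0 := by
    rw [← c1, hx₂', map_zero]
  obtain ⟨x, hx⟩ := hex _ hy
  obtain ⟨x₁, hx₁⟩ := b0.2 x
  refine ⟨x₁, b1.1 ?_⟩
  have hx₁' : (e P W pr n).hom x₁ = x := hx₁
  have hK : ((K V P).d n (n + 1)).hom x₁ = (dX V P n).hom x₁ :=
    congrArg (fun f => AddCommGrpCat.Hom.hom f x₁) (K_d' V P n)
  exact (congrArg (e P W pr (n + 1)).hom hK).trans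
    ((c0 x₁).trans ((congrArg (DP P W dW n).hom hx₁').trans hx))

end Groth.Agent.Lib.Seat39.CechModel
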