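import Mathlib.GroupTheory.FreeAbelianGroup
import Mathlib.Algebra.Category.Grp.Adjunctions
import Mathlib.Algebra.Category.Grp.Limits
import Mathlib.Algebra.Category.Grp.Abelian
import Mathlib.CategoryTheory.Sites.Sheafification
import Mathlib.CategoryTheory.Sites.Abelian
import Mathlib.CategoryTheory.Yoneda

/-!
# Seat39: free abelian sheaves on objects of a large site

For a site `(C, J)` with `C : Type (u+1)` and morphisms in `Type u` (such as the big site of a scheme), and sheaves valued in
`AddCommGrpCat.{u+1}`: the free abelian sheaf `ℤ_U` on an object `U`, its functoriality, its canonical section, and the additive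
bijection `(ℤ_U ⟶ F) ≃+ F(U)`, natural in `U`.  (Universe-generalised copy of the prelude's `CohFree`, which is for small sites.)
-/

set_option autoImplicit false
universe u
open CategoryTheory Limits Opposite

namespace Groth.Agent.Lib.Seat39.FreeSh

variable {C : Type (u + 1)} [Category.{u} C] (J : GrothendieckTopology C)
  [HasSheafify J AddCommGrpCat.{u + 1}]

/-- the free abelian presheaf `T ↦ ℤ[Hom(T, U)]` -/
abbrev freePre (U : C) : Cᵒᵖ ⥤ AddCommGrpCat.{u + 1} :=
  uliftYoneda.{u + 1}.obj U ⋙ AddCommGrpCat.free.{u + 1}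

/-- the map of free presheaves attached to a morphism -/
abbrev freePreMap {U V : C} (f : V ⟶ U) : freePre V ⟶ freePre U :=
  Functor.whiskerRight (uliftYoneda.{u + 1}.map f) AddCommGrpCat.free.{u + 1}

/-- the free abelian sheaf `ℤ_U` -/
noncomputable abbrev freeSheaf (U : C) : Sheaf J AddCommGrpCat.{u + 1} :=
  (presheafToSheaf J AddCommGrpCat.{u + 1}).obj (freePre U)

/-- the map `ℤ_V ⟶ ℤ_U` attached to `V ⟶ U` -/
noncomputable abbrev freeSheafMap {U V : C} (f : V ⟶ U) : freeSheaf J V ⟶ freeSheaf J U :=
  (presheafToSheaf J AddCommGrpCat.{u + 1}).map (freePreMap f)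

theorem freeSheafMap_comp {U V W : C} (f : W ⟶ V) (g : V ⟶ U) :
    freeSheafMap J (f ≫ g) = freeSheafMap J f ≫ freeSheafMap J g := by
  simp only [freeSheafMap, freePreMap, Functor.map_comp, Functor.whiskerRight_comp]

theorem freeSheafMap_id (U : C) : freeSheafMap J (𝟙 U) = 𝟙 (freeSheaf J U) := by
  change (presheafToSheaf J _).map (Functor.whiskerRight (uliftYoneda.{u + 1}.map (𝟙 U)) _) = _
  rw [uliftYoneda.{u + 1}.map_id, Functor.whiskerRight_id']
  exact (presheafToSheaf J _).map_id _

/-- the sheafification adjunction -/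
noncomputable abbrev shAdj :
    presheafToSheaf J AddCommGrpCat.{u + 1} ⊣ sheafToPresheaf J AddCommGrpCat.{u + 1} :=
  sheafificationAdjunction J AddCommGrpCat.{u + 1}

/-- the canonical section of `ℤ_U` over `U` -/
noncomputable def gen (U : C) : (freeSheaf J U).obj.obj (op U) :=
  (((shAdj J).unit.app (freePre U)).app (op U)).hom (FreeAbelianGroup.of (ULift.up (𝟙 U)))

/-- the map of presheaves `ℤ[Hom(-, U)] ⟶ F` determined by a section -/
noncomputable def liftPre (U : C) (F : Sheaf J AddCommGrpCat.{u + 1}) (s : F.obj.obj (op U)) :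
    freePre U ⟶ F.obj where
  app T := AddCommGrpCat.ofHom
    (FreeAbelianGroup.lift fun f : ULift.{u + 1} (unop T ⟶ U) => (F.obj.map f.down.op).hom s)
  naturality T T' g := by
    apply AddCommGrpCat.hom_ext
    apply FreeAbelianGroup.lift_ext
    intro (f : ULift.{u + 1} (unop T ⟶ U))
    change FreeAbelianGroup.lift
        (fun f' : ULift.{u + 1} (unop T' ⟶ U) => (F.obj.map f'.down.op).hom s)
        (FreeAbelianGroup.map (fun f' : ULift.{u + 1} (unop T ⟶ U) => ULift.up (g.unop ≫ f'.down))
          (FreeAbelianGroup.of f)) =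
      (F.obj.map g).hom (FreeAbelianGroup.lift
        (fun f' : ULift.{u + 1} (unop T ⟶ U) => (F.obj.map f'.down.op).hom s)
        (FreeAbelianGroup.of f))
    rw [FreeAbelianGroup.map_of_apply, FreeAbelianGroup.lift_apply_of, FreeAbelianGroup.lift_apply_of,
      op_comp, Quiver.Hom.op_unop, F.obj.map_comp]
    rfl

/-- the morphism `ℤ_U ⟶ F` determined by a section -/
noncomputable def ofSect (U : C) (F : Sheaf J AddCommGrpCat.{u + 1}) (s : F.obj.obj (op U)) :
    freeSheaf J U ⟶ F :=
  ((shAdj J).homEquiv (freePre U) F).symm (liftPre J U F s)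

/-- evaluation at the canonical section -/
noncomputable def evalGen (U : C) (F : Sheaf J AddCommGrpCat.{u + 1}) :
    (freeSheaf J U ⟶ F) →+ F.obj.obj (op U) where
  toFun φ := (φ.hom.app (op U)).hom (gen J U)
  map_zero' := rfl
  map_add' φ ψ := by
    rw [Sheaf.Hom.add_app]
    rfl

theorem evalGen_ofSect (U : C) (F : Sheaf J AddCommGrpCat.{u + 1}) (s : F.obj.obj (op U)) :
    evalGen J U F (ofSect J U F s) = s := by
  have h2 : (shAdj J).unit.app (freePre U) ≫ (sheafToPresheaf J _).map (ofSect J U F s) =
      liftPre J U F s := by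
    have e : (shAdj J).homEquiv (freePre U) F (ofSect J U F s) =
        (shAdj J).unit.app (freePre U) ≫ (sheafToPresheaf J _).map (ofSect J U F s) :=
      (shAdj J).homEquiv_unit _ _ _
    rw [← e, ofSect, Equiv.apply_symm_apply]
  have h3 := ConcreteCategory.congr_hom (NatTrans.congr_app h2 (op U))
    (FreeAbelianGroup.of (ULift.up (𝟙 U)))
  refine (Eq.trans rfl h3).trans ?_
  change FreeAbelianGroup.lift
    (fun f : ULift.{u + 1} (U ⟶ U) => (F.obj.map f.down.op).hom s)
    (FreeAbelianGroup.of (ULift.up (𝟙 U))) = s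
  rw [FreeAbelianGroup.lift_apply_of, op_id, F.obj.map_id]
  rfl

/-- the image in `ℤ_U(T)` of the generator `f : T ⟶ U` is the restriction of the canonical section -/
theorem unit_app_of (U : C) {T : Cᵒᵖ} (f : unop T ⟶ U) :
    (((shAdj J).unit.app (freePre U)).app T).hom (FreeAbelianGroup.of (ULift.up f)) =
      ((freeSheaf J U).obj.map f.op).hom (gen J U) := by
  have hf : FreeAbelianGroup.of (ULift.up f) =
      ((freePre U).map f.op).hom (FreeAbelianGroup.of (ULift.up (𝟙 U))) := by
    change _ = FreeAbelianGroup.map _ _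
    rw [FreeAbelianGroup.map_of_apply]
    exact congrArg FreeAbelianGroup.of (congrArg ULift.up (Category.comp_id f).symm)
  rw [hf]
  exact ConcreteCategory.congr_hom (((shAdj J).unit.app (freePre U)).naturality f.op)
    (FreeAbelianGroup.of (ULift.up (𝟙 U)))

theorem ofSect_evalGen (U : C) (F : Sheaf J AddCommGrpCat.{u + 1}) (φ : freeSheaf J U ⟶ F) :
    ofSect J U F (evalGen J U F φ) = φ := by
  apply ((shAdj J).homEquiv (freePre U) F).injective
  rw [ofSect, Equiv.apply_symm_apply, Adjunction.homEquiv_unit]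
  apply NatTrans.ext
  funext T
  apply AddCommGrpCat.hom_ext
  apply FreeAbelianGroup.lift_ext
  intro (f : ULift.{u + 1} (unop T ⟶ U))
  change FreeAbelianGroup.lift
      (fun f' : ULift.{u + 1} (unop T ⟶ U) =>
        (F.obj.map f'.down.op).hom ((φ.hom.app (op U)).hom (gen J U)))
      (FreeAbelianGroup.of f) =
    (φ.hom.app T).hom ((((shAdj J).unit.app (freePre U)).app T).hom (FreeAbelianGroup.of f))
  rw [FreeAbelianGroup.lift_apply_of]
  have hf : f = ULift.up f.down := rfl
  rw [hf, unit_app_of]
  exact (ConcreteCategory.congr_hom (φ.hom.naturality f.down.op) (gen J U)).symm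

/-- morphisms `ℤ_U ⟶ F` are the sections of `F` over `U` -/
noncomputable def homEquivSect (U : C) (F : Sheaf J AddCommGrpCat.{u + 1}) :
    (freeSheaf J U ⟶ F) ≃+ F.obj.obj (op U) :=
  { evalGen J U F with
    invFun := ofSect J U F
    left_inv := ofSect_evalGen J U F
    right_inv := evalGen_ofSect J U F }

theorem homEquivSect_apply (U : C) (F : Sheaf J AddCommGrpCat.{u + 1}) (φ : freeSheaf J U ⟶ F) :
    homEquivSect J U F φ = (φ.hom.app (op U)).hom (gen J U) := rfl

/-- the maps `ℤ_V ⟶ ℤ_U` carry canonical sections to restrictions of canonical sections -/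
theorem freeSheafMap_gen {U V : C} (f : V ⟶ U) :
    ((freeSheafMap J f).hom.app (op V)).hom (gen J V) =
      ((freeSheaf J U).obj.map f.op).hom (gen J U) := by
  rw [← unit_app_of J U f]
  have hw : ((freePreMap f).app (op V)).hom (FreeAbelianGroup.of (ULift.up (𝟙 V))) =
      FreeAbelianGroup.of (ULift.up f) := by
    change FreeAbelianGroup.map
      (fun g : ULift.{u + 1} (V ⟶ V) => ULift.up (g.down ≫ f)) (FreeAbelianGroup.of (ULift.up (𝟙 V))) = _
    rw [FreeAbelianGroup.map_of_apply]
    exact congrArg FreeAbelianGroup.of (congrArg ULift.up (Category.id_comp f))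
  rw [← hw]
  exact (ConcreteCategory.congr_hom
    (NatTrans.congr_app ((shAdj J).unit.naturality (freePreMap f)) (op V))
    (FreeAbelianGroup.of (ULift.up (𝟙 V)))).symm

/-- composing with `ℤ_V ⟶ ℤ_U` is restriction of sections -/
theorem homEquivSect_freeSheafMap_comp {U V : C} (f : V ⟶ U) (F : Sheaf J AddCommGrpCat.{u + 1})
    (φ : freeSheaf J U ⟶ F) :
    homEquivSect J V F (freeSheafMap J f ≫ φ) = (F.obj.map f.op).hom (homEquivSect J U F φ) := by
  rw [homEquivSect_apply, homEquivSect_apply]
  change (φ.hom.app (op V)).hom (((freeSheafMap J f).hom.app (op V)).hom (gen J V)) = _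
  rw [freeSheafMap_gen]
  exact ConcreteCategory.congr_hom (φ.hom.naturality f.op) (gen J U)

/-- post-composition corresponds to applying the map on sections -/
theorem homEquivSect_comp (U : C) {F G : Sheaf J AddCommGrpCat.{u + 1}} (φ : freeSheaf J U ⟶ F)
    (g : F ⟶ G) :
    homEquivSect J U G (φ ≫ g) = (g.hom.app (op U)).hom (homEquivSect J U F φ) := rfl

end Groth.Agent.Lib.Seat39.FreeSh
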