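import Groth.Agent.Lib.Seat39OverPower
import Groth.Agent.Lib.Seat39FreeSh
import Groth.Agent.Lib.Seat39Cartan
import Groth.Agent.Lib.Seat39AltSq
import Groth.Agent.Lib.Helper16FreeContr
import Groth.Agent.Lib.Seat39CechModel
import Mathlib.AlgebraicGeometry.Pullbacks

/-!
# Seat39: the Amitsur (Čech) resolution of `ℤ_{Spec R}` by the free abelian sheaves on the spectra of the tensor powers of an
`R`-algebra `B`, on any site structure on schemes over `T` for which `Spec B → Spec R` generates a covering sieve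
-/

set_option autoImplicit false
universe u
open CategoryTheory Limits AlgebraicGeometry Opposite

namespace Groth.Agent.Lib.Seat39.AmitsurRes

open Groth.Agent.Lib.Seat69.Amitsur Groth.Agent.Lib.Seat39.OverPower Groth.Agent.Lib.Seat39.FreeSh

variable {T : Scheme.{u}} {R : CommRingCat.{u}} (w : Spec R ⟶ T) (B : Type u) [CommRing B] [Algebra R B]

/-- the spectra of the tensor powers, over `T` -/
noncomputable abbrev Wn (n : ℕ) : Over T := (Over.map w).obj (W R B n)

/-- the cofaces, over `T` -/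
noncomputable abbrev dWn (n : ℕ) (i : Fin (n + 1)) : Wn w B (n + 1) ⟶ Wn w B n :=
  (Over.map w).map (dW R B n i)

/-- the terms of the augmented simplicial scheme: `Spec R` in degree `0` -/
noncomputable def V : ℕ → Over T
  | 0 => Over.mk w
  | (n + 1) => Wn w B (n + 1)

/-- the augmentation -/
noncomputable def aug₀ : Wn w B 1 ⟶ Over.mk w := Over.homMk (W R B 1).hom rfl

/-- the faces of the augmented simplicial scheme -/
noncomputable def fV : ∀ n, Fin (n + 1) → (V w B (n + 1) ⟶ V w B n)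
  | 0, _ => aug₀ w B
  | (n + 1), i => dWn w B (n + 1) i

theorem dWn_aug₀ (i : Fin 2) : dWn w B 1 i ≫ aug₀ w B = Over.homMk (W R B 2).hom rfl := by
  apply Over.OverMorphism.ext
  exact Over.w (dW R B 1 i)

theorem fV_simplicial (n : ℕ) (i : Fin (n + 2)) (j : Fin (n + 1)) (h : i ≤ Fin.castSucc j) :
    fV w B (n + 1) j.succ ≫
        fV w B n (i.castLT (Nat.lt_of_le_of_lt (Fin.le_iff_val_le_val.mp h) j.is_lt)) =
      fV w B (n + 1) i ≫ fV w B n j := by
  cases n with
  | zero => exact (dWn_aug₀ w B _).trans (dWn_aug₀ w B _).symm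
  | succ m =>
    change (Over.map w).map (dW R B (m + 2) j.succ) ≫ (Over.map w).map (dW R B (m + 1) _) =
      (Over.map w).map (dW R B (m + 2) i) ≫ (Over.map w).map (dW R B (m + 1) j)
    rw [← Functor.map_comp, ← Functor.map_comp]
    congr 1
    unfold dW
    rw [ovAlg_comp, ovAlg_comp, Groth.Agent.Lib.Seat39.AltSq.δ_comp_δ R B (m + 1) i j h]

section Contraction

variable (R) in
/-- the structure map of `B` -/
noncomputable abbrev sB : R ⟶ CommRingCat.of B := CommRingCat.ofHom (algebraMap R B)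

variable (R) in
/-- the structure map of the tensor power -/
noncomputable abbrev sM (k : ℕ) : R ⟶ CommRingCat.of (M R B k) := sOf (R := R) (M R B k)

variable (R) in
/-- `b ↦ b ⊗ 1` -/
noncomputable abbrev rL (k : ℕ) : CommRingCat.of B ⟶ CommRingCat.of (M R B (k + 1)) :=
  CommRingCat.ofHom (inL R B k).toRingHom

variable (R) in
/-- `x ↦ 1 ⊗ x` -/
noncomputable abbrev rR (k : ℕ) : CommRingCat.of (M R B k) ⟶ CommRingCat.of (M R B (k + 1)) :=
  CommRingCat.ofHom (inR R B k).toRingHom

theorem sB_rL (k : ℕ) : sB R B ≫ rL R B k = sM R B (k + 1) := by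
  ext r
  exact (inL R B k).commutes r

theorem sM_rR (k : ℕ) : sM R B k ≫ rR R B k = sM R B (k + 1) := by
  ext r
  exact (inR R B k).commutes r

theorem isPullback_step (k : ℕ) :
    IsPullback (Spec.map (rL R B k)) (Spec.map (rR R B k)) (Spec.map (sB R B)) (Spec.map (sM R B k)) :=
  isPullback_SpecMap_of_isPushout _ _ _ _ (CommRingCat.isPushout_tensorProduct R B (M R B k))

variable {B} (Y : Over T)

/-- the map to `Spec R` under a morphism to the spectrum of a tensor power -/
noncomputable def base {k : ℕ} (σ : Y ⟶ Wn w B k) : Y.left ⟶ Spec R := σ.left ≫ Spec.map (sM R B k)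

theorem base_comp {k : ℕ} (σ : Y ⟶ Wn w B (k + 1)) (i : Fin (k + 1)) :
    base w Y (σ ≫ dWn w B k i) = base w Y σ := by
  unfold base
  rw [Over.comp_left, Category.assoc]
  exact congrArg (fun t => σ.left ≫ t) (Over.w (dW R B k i))

/-- a chosen morphism to `Spec B` over a given morphism to `Spec R` -/
noncomputable def ell (p : Y.left ⟶ Spec R)
    (h : ∃ ℓ : Y.left ⟶ Spec (CommRingCat.of B), ℓ ≫ Spec.map (sB R B) = p) :
    Y.left ⟶ Spec (CommRingCat.of B) := h.choose

theorem ell_spec (p : Y.left ⟶ Spec R)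
    (h : ∃ ℓ : Y.left ⟶ Spec (CommRingCat.of B), ℓ ≫ Spec.map (sB R B) = p) :
    ell Y p h ≫ Spec.map (sB R B) = p := h.choose_spec

theorem ell_congr {p p' : Y.left ⟶ Spec R} (e : p = p')
    (h : ∃ ℓ : Y.left ⟶ Spec (CommRingCat.of B), ℓ ≫ Spec.map (sB R B) = p)
    (h' : ∃ ℓ : Y.left ⟶ Spec (CommRingCat.of B), ℓ ≫ Spec.map (sB R B) = p') :
    ell Y p h = ell Y p' h' := by
  subst e
  rfl

theorem exists_ell {k : ℕ} (σ : Y ⟶ Wn w B (k + 1)) :
    ∃ ℓ : Y.left ⟶ Spec (CommRingCat.of B), ℓ ≫ Spec.map (sB R B) = base w Y σ :=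
  ⟨σ.left ≫ Spec.map (rL R B k), by
    rw [Category.assoc, ← Spec.map_comp, sB_rL]
    rfl⟩

/-- prepending the chosen component: on underlying schemes -/
noncomputable def cL {k : ℕ} (σ : Y ⟶ Wn w B (k + 1)) :
    Y.left ⟶ Spec (CommRingCat.of (M R B (k + 2))) :=
  (isPullback_step B (k + 1)).lift (ell Y (base w Y σ) (exists_ell w Y σ)) σ.left
    (ell_spec Y _ _)

theorem cL_fst {k : ℕ} (σ : Y ⟶ Wn w B (k + 1)) :
    cL w Y σ ≫ Spec.map (rL R B (k + 1)) = ell Y (base w Y σ) (exists_ell w Y σ) :=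
  (isPullback_step B (k + 1)).lift_fst _ _ _

theorem cL_snd {k : ℕ} (σ : Y ⟶ Wn w B (k + 1)) :
    cL w Y σ ≫ Spec.map (rR R B (k + 1)) = σ.left :=
  (isPullback_step B (k + 1)).lift_snd _ _ _

/-- prepending the chosen component -/
noncomputable def c {k : ℕ} (σ : Y ⟶ Wn w B (k + 1)) : Y ⟶ Wn w B (k + 2) :=
  Over.homMk (cL w Y σ) (by
    change cL w Y σ ≫ Spec.map (sM R B (k + 2)) ≫ w = Y.hom
    rw [← sM_rR, Spec.map_comp, ← Category.assoc, ← Category.assoc, cL_snd]
    exact Over.w σ)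

theorem c_zero {k : ℕ} (σ : Y ⟶ Wn w B (k + 1)) : c w Y σ ≫ dWn w B (k + 1) 0 = σ := by
  apply Over.OverMorphism.ext
  change cL w Y σ ≫ Spec.map (CommRingCat.ofHom (δ R B (k + 1) 0).toRingHom) = σ.left
  rw [δ_zero]
  exact cL_snd w Y σ

theorem rL_mapA {j k : ℕ} (f : M R B j →ₐ[R] M R B k) :
    rL R B j ≫ CommRingCat.ofHom (mapA R B f).toRingHom = rL R B k := by
  ext x
  change mapA R B f (inL R B j x) = inL R B k x
  rw [inL_apply, mapA_tm, map_one, inL_apply]

theorem rR_mapA {j k : ℕ} (f : M R B j →ₐ[R] M R B k) :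
    rR R B j ≫ CommRingCat.ofHom (mapA R B f).toRingHom =
      CommRingCat.ofHom f.toRingHom ≫ rR R B k := by
  ext x
  change mapA R B f (inR R B j x) = inR R B k (f x)
  rw [inR_apply, mapA_tm, inR_apply]

theorem c_succ {k : ℕ} (σ : Y ⟶ Wn w B (k + 2)) (i : Fin (k + 2)) :
    c w Y σ ≫ dWn w B (k + 2) i.succ = c w Y (σ ≫ dWn w B (k + 1) i) := by
  apply Over.OverMorphism.ext
  change cL w Y σ ≫ Spec.map (CommRingCat.ofHom (mapA R B (δ R B (k + 1) i)).toRingHom) =
    cL w Y (σ ≫ dWn w B (k + 1) i)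
  apply (isPullback_step B (k + 1)).hom_ext
  · rw [Category.assoc, ← Spec.map_comp, rL_mapA, cL_fst, cL_fst]
    exact ell_congr Y (base_comp w Y σ i).symm _ _
  · rw [Category.assoc, ← Spec.map_comp, rR_mapA, Spec.map_comp, ← Category.assoc, cL_snd, cL_snd]
    rfl

theorem rR_zero : (rR R B 0 : R ⟶ CommRingCat.of (M R B 1)) = sM R B 1 := by
  ext r
  exact (inR R B 0).commutes r

theorem c_one (σ σ' : Y ⟶ Wn w B 1) (h : σ ≫ aug₀ w B = σ' ≫ aug₀ w B) :
    c w Y σ ≫ dWn w B 1 1 = c w Y σ' ≫ dWn w B 1 1 := by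
  have hb : base w Y σ = base w Y σ' := congrArg (fun t => t.left) h
  apply Over.OverMorphism.ext
  change cL w Y σ ≫ Spec.map (CommRingCat.ofHom (mapA R B (δ R B 0 0)).toRingHom) =
    cL w Y σ' ≫ Spec.map (CommRingCat.ofHom (mapA R B (δ R B 0 0)).toRingHom)
  apply (isPullback_step B 0).hom_ext
  · rw [Category.assoc, Category.assoc, ← Spec.map_comp, rL_mapA, cL_fst, cL_fst]
    exact ell_congr Y hb _ _
  · rw [Category.assoc, Category.assoc, ← Spec.map_comp, rR_mapA, Spec.map_comp, ← Category.assoc,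
      ← Category.assoc, cL_snd, cL_snd]
    change σ.left ≫ Spec.map (rR R B 0) = σ'.left ≫ Spec.map (rR R B 0)
    rw [rR_zero]
    exact hb

end Contraction

section Presheaf

open Groth.Agent.Lib.Helper16.FreeContr

variable {B} (Y : Over T)

/-- `Y`-points of the spectra of the tensor powers -/
abbrev X (m : ℕ) : Type (u + 1) := ULift.{u + 1} (Y ⟶ Wn w B (m + 1))

/-- the faces on points -/
noncomputable def δX (m : ℕ) (i : Fin (m + 2)) (σ : X w (B := B) Y (m + 1)) : X w (B := B) Y m :=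
  ULift.up (σ.down ≫ dWn w B (m + 1) i)

/-- the contraction on points -/
noncomputable def cX (m : ℕ) (σ : X w (B := B) Y m) : X w (B := B) Y (m + 1) :=
  ULift.up (c w Y σ.down)

/-- the augmentation on points -/
noncomputable def augX (σ : X w (B := B) Y 0) : ULift.{u + 1} (Y ⟶ Over.mk w) :=
  ULift.up (σ.down ≫ aug₀ w B)

theorem pre_exact_succ (n : ℕ) (x : FreeAbelianGroup (X w (B := B) Y (n + 1)))
    (hx : bd (δX w Y) n x = 0) : ∃ y, bd (δX w Y) (n + 1) y = x :=
  exact_succ (δX w Y) (cX w Y)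
    (fun _ σ => congrArg ULift.up (c_zero w Y σ.down))
    (fun _ i σ => congrArg ULift.up (c_succ w Y σ.down i)) n x hx

theorem pre_exact_zero (x : FreeAbelianGroup (X w (B := B) Y 0))
    (hx : FreeAbelianGroup.map (augX w Y) x = 0) : ∃ y, bd (δX w Y) 0 y = x :=
  exact_zero (δX w Y) (cX w Y)
    (fun _ σ => congrArg ULift.up (c_zero w Y σ.down)) (augX w Y)
    (fun σ σ' h => congrArg ULift.up (c_one w Y σ.down σ'.down (congrArg ULift.down h))) x hx

end Presheaf

section Complex

open Groth.Agent.Lib.Helper16.FreeContr Groth.Agent.Lib.Seat39.AltSq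

/-- exactness of a short complex of presheaves of abelian groups can be checked pointwise (copy of the earlier team's lemma) -/
theorem exact_of_pointwise {E : Type*} [Category E] (S : ShortComplex (E ⥤ AddCommGrpCat.{u + 1}))
    (h : ∀ (t : E) (x : S.X₂.obj t), (S.g.app t).hom x = 0 → ∃ y, (S.f.app t).hom y = x) :
    S.Exact := by
  rw [ShortComplex.exact_iff_isZero_homology, Functor.isZero_iff]
  intro t
  have h1 : (S.map ((evaluation E AddCommGrpCat.{u + 1}).obj t)).Exact := by
    rw [ShortComplex.ab_exact_iff]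
    exact h t
  exact ((ShortComplex.exact_iff_isZero_homology _).1 h1).of_iso
    (S.mapHomologyIso ((evaluation E AddCommGrpCat.{u + 1}).obj t)).symm

theorem freePreMap_comp {C : Type (u + 1)} [Category.{u} C] {U₁ U₂ U₃ : C} (f : U₃ ⟶ U₂) (g : U₂ ⟶ U₁) :
    freePreMap (f ≫ g) = freePreMap f ≫ freePreMap g := by
  simp only [freePreMap, Functor.map_comp, Functor.whiskerRight_comp]

/-- the differential of the complex of free presheaves -/
noncomputable def dpre (n : ℕ) : freePre (V w B (n + 1)) ⟶ freePre (V w B n) :=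
  D (fun n => freePre (V w B n)) (fun n i => freePreMap (fV w B n i)) n

theorem dpre_dpre (n : ℕ) : dpre w B (n + 1) ≫ dpre w B n = 0 :=
  D_comp_D (fun n => freePre (V w B n)) (fun n i => freePreMap (fV w B n i))
    (fun n i j h => by
      rw [← freePreMap_comp, ← freePreMap_comp, fV_simplicial w B n i j h]) n

theorem dpre_app (n : ℕ) (Y : Over T) :
    ((dpre w B n).app (op Y)).hom =
      ∑ i : Fin (n + 1), ((-1 : ℤ) ^ (i : ℕ)) •
        FreeAbelianGroup.map (fun g : ULift.{u + 1} (Y ⟶ V w B (n + 1)) =>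
          (ULift.up (g.down ≫ fV w B n i) : ULift.{u + 1} (Y ⟶ V w B n))) := by
  unfold dpre D
  rw [NatTrans.app_sum]
  refine (map_sum AddCommGrpCat.homAddEquiv _ _).trans ?_
  apply Finset.sum_congr rfl
  intro i _
  rw [NatTrans.app_zsmul]
  rfl

theorem dpre_app_succ (m : ℕ) (Y : Over T) :
    ((dpre w B (m + 1)).app (op Y)).hom = bd (δX w (B := B) Y) m :=
  dpre_app w B (m + 1) Y

theorem dpre_app_zero (Y : Over T) :
    ((dpre w B 0).app (op Y)).hom = FreeAbelianGroup.map (augX w (B := B) Y) := by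
  rw [dpre_app, Fin.sum_univ_one]
  simp only [Fin.val_zero, pow_zero, one_smul]
  rfl

/-- the complex of free presheaves is exact -/
theorem pre_exact (n : ℕ) :
    (ShortComplex.mk (dpre w B (n + 1)) (dpre w B n) (dpre_dpre w B n)).Exact := by
  apply exact_of_pointwise
  intro t x hx
  obtain ⟨Y⟩ := t
  cases n with
  | zero =>
    change ((dpre w B 0).app (op Y)).hom x = 0 at hx
    rw [dpre_app_zero] at hx
    obtain ⟨y, hy⟩ := pre_exact_zero w Y x hx
    refine ⟨y, ?_⟩
    change ((dpre w B 1).app (op Y)).hom y = x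
    rw [dpre_app_succ]
    exact hy
  | succ m =>
    change ((dpre w B (m + 1)).app (op Y)).hom x = 0 at hx
    rw [dpre_app_succ] at hx
    obtain ⟨y, hy⟩ := pre_exact_succ w Y m x hx
    refine ⟨y, ?_⟩
    change ((dpre w B (m + 2)).app (op Y)).hom y = x
    rw [dpre_app_succ]
    exact hy

end Complex

section Sep

variable {C : Type (u + 1)} [Category.{u} C] (J : GrothendieckTopology C)

/-- the underlying sheaf of types of an abelian sheaf -/
theorem isSheaf_forget (Z : Sheaf J AddCommGrpCat.{u + 1}) :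
    Presieve.IsSheaf J (Z.obj ⋙ forget AddCommGrpCat.{u + 1}) :=
  (isSheaf_iff_isSheaf_of_type _ _).mp
    ((Presheaf.isSheaf_iff_isSheaf_forget J Z.obj (forget AddCommGrpCat.{u + 1})).mp Z.property)

/-- sections of an abelian sheaf agreeing on a covering sieve are equal -/
theorem sect_ext (Z : Sheaf J AddCommGrpCat.{u + 1}) {U : C} (S : Sieve U) (hS : S ∈ J U)
    (x x' : Z.obj.obj (op U))
    (h : ∀ ⦃V : C⦄ (f : V ⟶ U), S f → (Z.obj.map f.op).hom x = (Z.obj.map f.op).hom x') : x = x' :=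
  ((isSheaf_forget J Z) S hS).isSeparatedFor.ext (fun _ f hf => h f hf)

variable [HasSheafify J AddCommGrpCat.{u + 1}]

/-- a morphism generating a covering sieve induces an epimorphism of free sheaves -/
theorem epi_freeSheafMap {U V : C} (f : V ⟶ U)
    (hcov : Sieve.generate (Presieve.singleton f) ∈ J U) : Epi (freeSheafMap J f) := by
  constructor
  intro Z g h hgh
  apply (homEquivSect J U Z).injective
  have h1 := congrArg (homEquivSect J V Z) hgh
  rw [homEquivSect_freeSheafMap_comp, homEquivSect_freeSheafMap_comp] at h1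
  refine sect_ext J Z _ hcov _ _ ?_
  intro W k hk
  obtain ⟨W', a, b, hb, rfl⟩ := hk
  cases hb
  rw [op_comp, Functor.map_comp]
  exact congrArg (fun t => (Z.obj.map a.op).hom t) h1

end Sep

section Res

open Groth.Agent.Lib.Seat39.AltSq Groth.Agent.Lib.Seat39.Cartan

variable (J : GrothendieckTopology (Over T)) [HasSheafify J AddCommGrpCat.{u + 1}]

/-- the differential of the complex of free sheaves -/
noncomputable def dsh (n : ℕ) : freeSheaf J (V w B (n + 1)) ⟶ freeSheaf J (V w B n) :=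
  (presheafToSheaf J AddCommGrpCat.{u + 1}).map (dpre w B n)

theorem dsh_eq (n : ℕ) :
    dsh w B J n = ∑ i : Fin (n + 1), ((-1 : ℤ) ^ (i : ℕ)) • freeSheafMap J (fV w B n i) := by
  unfold dsh dpre D
  rw [Functor.map_sum]
  apply Finset.sum_congr rfl
  intro i _
  rw [Functor.map_zsmul]

theorem dsh_zero : dsh w B J 0 = freeSheafMap J (aug₀ w B) := by
  rw [dsh_eq, Fin.sum_univ_one]
  simp only [Fin.val_zero, pow_zero, one_smul]
  rfl

/-- the Amitsur resolution of `ℤ_{Spec R}` -/
noncomputable def res (hcov : Sieve.generate (Presieve.singleton (aug₀ w B)) ∈ J (Over.mk w)) :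
    Res (Sheaf J AddCommGrpCat.{u + 1}) where
  A n := freeSheaf J (V w B n)
  d n := dsh w B J n
  dd n := by
    unfold dsh
    rw [← Functor.map_comp, dpre_dpre, Functor.map_zero]
  exact n := (pre_exact w B n).map (presheafToSheaf J AddCommGrpCat.{u + 1})
  epi0 := by
    rw [dsh_zero]
    exact epi_freeSheafMap J (aug₀ w B) hcov

/-- the alternating sum of the restriction maps on sections -/
noncomputable def DG (G : Sheaf J AddCommGrpCat.{u + 1}) (n : ℕ) :
    G.obj.obj (op (V w B n)) →+ G.obj.obj (op (V w B (n + 1))) :=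
  ∑ i : Fin (n + 1), ((-1 : ℤ) ^ (i : ℕ)) • (G.obj.map (fV w B n i).op).hom

theorem homEquivSect_dsh_comp (G : Sheaf J AddCommGrpCat.{u + 1}) (n : ℕ)
    (φ : freeSheaf J (V w B n) ⟶ G) :
    homEquivSect J (V w B (n + 1)) G (dsh w B J n ≫ φ) =
      DG w B J G n (homEquivSect J (V w B n) G φ) := by
  rw [dsh_eq, Preadditive.sum_comp, map_sum]
  unfold DG
  rw [AddMonoidHom.finsetSum_apply]
  apply Finset.sum_congr rfl
  intro i _
  rw [Preadditive.zsmul_comp, map_zsmul, homEquivSect_freeSheafMap_comp]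
  rfl

omit [HasSheafify J AddCommGrpCat.{u + 1}] in
theorem DG_succ (G : Sheaf J AddCommGrpCat.{u + 1}) (n : ℕ) :
    DG w B J G (n + 1) =
      (Groth.Agent.Lib.Seat39.CechModel.DP ((Over.map w).op ⋙ G.obj) (W R B) (dW R B) n).hom := by
  unfold DG Groth.Agent.Lib.Seat39.CechModel.DP
  refine Eq.symm ((map_sum AddCommGrpCat.homAddEquiv _ _).trans ?_)
  apply Finset.sum_congr rfl
  intro i _
  rfl

/-- acyclicity of the Amitsur resolution for a sheaf whose sections on the spectra of the tensor powers form an exact complex -/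
theorem acyc (hcov : Sieve.generate (Presieve.singleton (aug₀ w B)) ∈ J (Over.mk w))
    (G : Sheaf J AddCommGrpCat.{u + 1})
    (h : ∀ (n : ℕ) (x : ((Over.map w).op ⋙ G.obj).obj (op (W R B (n + 2)))),
      (Groth.Agent.Lib.Seat39.CechModel.DP ((Over.map w).op ⋙ G.obj) (W R B) (dW R B) (n + 1)).hom x = 0 →
      ∃ y, (Groth.Agent.Lib.Seat39.CechModel.DP ((Over.map w).op ⋙ G.obj) (W R B) (dW R B) n).hom y = x) :
    (res w B J hcov).Acyc G := by
  intro n φ hφ
  have h0 : DG w B J G (n + 2) (homEquivSect J (V w B (n + 2)) G φ) = 0 := by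
    rw [← homEquivSect_dsh_comp]
    exact (congrArg (homEquivSect J (V w B (n + 3)) G) hφ).trans (map_zero _)
  rw [DG_succ] at h0
  obtain ⟨y, hy⟩ := h n _ h0
  refine ⟨(homEquivSect J (V w B (n + 1)) G).symm y, ?_⟩
  apply (homEquivSect J (V w B (n + 2)) G).injective
  refine (homEquivSect_dsh_comp w B J G (n + 1) _).trans ?_
  rw [AddEquiv.apply_symm_apply, DG_succ]
  exact hy

end Res

end Groth.Agent.Lib.Seat39.AmitsurRes
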