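import Groth.Prelude.Def_Adeq
import Groth.Agent.Lib.Seat39MVF

/-!
# Seat39: the base change map `bc` of a module-valued functor, element-level lemmas
-/
set_option autoImplicit false
universe u
open CategoryTheory Limits Opposite TensorProduct ChangeOfRings

namespace Groth.Agent.Lib.Seat39.BC

open Adeq Groth.Agent.Lib.Seat39.MVF

variable {A : Type u} [CommRing A]

theorem bc_one_tmul (F : MVF A) {B B' : Alg A} (f : B ⟶ B') (y : F.obj (pt B)) :
    (F.bc f) ((1 : (B' : Type u)) ⊗ₜ[(B : Type u), f.hom.toRingHom] y) = mp F (ptHom f) y := by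
  have h := ((ModuleCat.extendRestrictScalarsAdj.{u + 1, u, u} f.hom.toRingHom).homEquiv
    (F.obj (pt B)) (F.obj (pt B'))).apply_symm_apply (F.map (ptHom f))
  have h2 := congrArg (fun g => g y) h
  exact h2

/-- If `bc f` is an isomorphism and `y ↦ 1 ⊗ y` is injective then `F(B) → F(B')` is injective. -/
theorem mp_injective_of_isIso_bc (F : MVF A) {B B' : Alg A} (f : B ⟶ B') [IsIso (F.bc f)]
    (hinj : Function.Injective
      (fun y : F.obj (pt B) => (1 : (B' : Type u)) ⊗ₜ[(B : Type u), f.hom.toRingHom] y)) :
    Function.Injective (mp F (ptHom f)) := by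
  intro y y' h
  apply hinj
  have hbc : Function.Injective (F.bc f) :=
    (ModuleCat.mono_iff_injective _).mp inferInstance
  apply hbc
  exact (bc_one_tmul F f y).trans (h.trans (bc_one_tmul F f y').symm)

end Groth.Agent.Lib.Seat39.BC
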