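import Groth.Prelude.Def_Adeq2

/-!
# Seat39: finite affine refinements of coverings of an affine scheme

For a covering family `{X i ⟶ S}` in a precoverage `Scheme.precoverage P` whose members are open
maps (Zariski, fppf), and an affine scheme `Spec R ⟶ S`, there is a finite covering family
`{Spec (A j) ⟶ Spec R}` in the same precoverage, each member of which maps to some `X i` over `S`.
-/
set_option autoImplicit false
universe u
open CategoryTheory Limits Opposite AlgebraicGeometry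

namespace Groth.Agent.Lib.Seat39.CoverRefine

theorem exists_finite_affine_refinement (P : MorphismProperty Scheme.{u}) [P.IsStableUnderBaseChange]
    [P.RespectsLeft @IsOpenImmersion] (hP : P ≤ fun _ _ f => IsOpenMap f.base)
    {S : Scheme.{u}} {ι : Type u} (X : ι → Scheme.{u}) (f : ∀ i, X i ⟶ S)
    (hcov : Presieve.ofArrows X f ∈ Scheme.precoverage P S) {R : CommRingCat.{u}} (a : Spec R ⟶ S) :
    ∃ (n : ℕ) (A : Fin n → CommRingCat.{u}) (φ : ∀ j, R ⟶ A j),
      Presieve.ofArrows (fun j => Spec (A j)) (fun j => Spec.map (φ j)) ∈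
        Scheme.precoverage P (Spec R) ∧
      ∀ j, ∃ (i : ι) (h : Spec (A j) ⟶ X i), h ≫ f i = Spec.map (φ j) ≫ a := by
  let 𝒰 : S.Cover (Scheme.precoverage P) := { I₀ := ι, X := X, f := f, mem₀ := hcov }
  let 𝒰' : (Spec R).Cover (Scheme.precoverage P) := 𝒰.pullback₁ a
  have hqc : QuasiCompactCover 𝒰'.toPreZeroHypercover :=
    QuasiCompactCover.of_isOpenMap (fun i => hP _ (𝒰'.map_prop i))
  obtain ⟨𝒱, g, hfin, -⟩ := QuasiCompactCover.exists_hom 𝒰'
  obtain ⟨n, ⟨e⟩⟩ := Finite.exists_equiv_fin 𝒱.I₀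
  have key : ∀ j' : 𝒱.I₀, ∃ (i : ι) (h : Spec (𝒱.X j') ⟶ X i),
      h ≫ f i = Spec.map (Spec.preimage (𝒱.f j')) ≫ a := by
    intro j'
    refine ⟨g.s₀ j', g.h₀ j' ≫ pullback.snd a (f (g.s₀ j')), ?_⟩
    have h1 : g.h₀ j' ≫ pullback.fst a (f (g.s₀ j')) = 𝒱.f j' := g.w₀ j'
    have h2 : pullback.snd a (f (g.s₀ j')) ≫ f (g.s₀ j') = pullback.fst _ _ ≫ a :=
      pullback.condition.symm
    rw [Spec.map_preimage]
    exact (Category.assoc _ _ _).trans ((congrArg (g.h₀ j' ≫ ·) h2).trans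
      ((Category.assoc _ _ _).symm.trans (congrArg (· ≫ a) h1)))
  have hcovers : ∀ (x : Spec R) (k : 𝒱.I₀), k = 𝒱.idx x →
      x ∈ Set.range (Spec.map (Spec.preimage (𝒱.f k))).base := by
    rintro x k rfl
    rw [Spec.map_preimage]
    exact 𝒱.covers x
  refine ⟨n, fun j => 𝒱.X (e.symm j), fun j => Spec.preimage (𝒱.f (e.symm j)), ?_, ?_⟩
  · rw [Scheme.ofArrows_mem_precoverage_iff]
    constructor
    · intro x
      exact ⟨e (𝒱.idx x), hcovers x _ (e.symm_apply_apply _)⟩
    · intro j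
      rw [Spec.map_preimage]
      exact 𝒱.map_prop _
  · intro j
    exact key (e.symm j)

theorem fppf_isStableUnderBaseChange :
    MorphismProperty.IsStableUnderBaseChange
      ((@Flat.{u} ⊓ @LocallyOfFinitePresentation.{u} : MorphismProperty Scheme.{u})) :=
  MorphismProperty.IsStableUnderBaseChange.inf

theorem fppf_respectsLeft :
    MorphismProperty.RespectsLeft
      ((@Flat.{u} ⊓ @LocallyOfFinitePresentation.{u} : MorphismProperty Scheme.{u}))
      @IsOpenImmersion where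
  precomp i hi f hf := by
    have : IsOpenImmersion i := hi
    have : Flat f := hf.1
    have : LocallyOfFinitePresentation f := hf.2
    exact ⟨inferInstance, inferInstance⟩

theorem refine_fppf {S : Scheme.{u}} {ι : Type u} (X : ι → Scheme.{u}) (f : ∀ i, X i ⟶ S)
    (hcov : Presieve.ofArrows X f ∈ Scheme.fppfPrecoverage.coverings S) {R : CommRingCat.{u}}
    (a : Spec R ⟶ S) :
    ∃ (n : ℕ) (A : Fin n → CommRingCat.{u}) (φ : ∀ j, R ⟶ A j),
      Presieve.ofArrows (fun j => Spec (A j)) (fun j => Spec.map (φ j)) ∈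
        Scheme.fppfPrecoverage.coverings (Spec R) ∧
      ∀ j, ∃ (i : ι) (h : Spec (A j) ⟶ X i), h ≫ f i = Spec.map (φ j) ≫ a :=
  haveI := fppf_isStableUnderBaseChange.{u}
  haveI := fppf_respectsLeft.{u}
  exists_finite_affine_refinement (@Flat ⊓ @LocallyOfFinitePresentation)
    (fun _ _ f ⟨_, _⟩ => f.isOpenMap) X f hcov a

theorem refine_zariski {S : Scheme.{u}} {ι : Type u} (X : ι → Scheme.{u}) (f : ∀ i, X i ⟶ S)
    (hcov : Presieve.ofArrows X f ∈ Scheme.zariskiPrecoverage.coverings S) {R : CommRingCat.{u}}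
    (a : Spec R ⟶ S) :
    ∃ (n : ℕ) (A : Fin n → CommRingCat.{u}) (φ : ∀ j, R ⟶ A j),
      Presieve.ofArrows (fun j => Spec (A j)) (fun j => Spec.map (φ j)) ∈
        Scheme.zariskiPrecoverage.coverings (Spec R) ∧
      ∀ j, ∃ (i : ι) (h : Spec (A j) ⟶ X i), h ≫ f i = Spec.map (φ j) ≫ a :=
  exists_finite_affine_refinement (@IsOpenImmersion)
    (fun _ _ f _ => f.isOpenEmbedding.isOpenMap) X f hcov a

end Groth.Agent.Lib.Seat39.CoverRefine
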