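import Groth.Agent.Lib.Seat39BigMVF
import Groth.Agent.Lib.Seat39CoverRefine

/-!
# Seat39: adequacy of `F_{M,R}` is local on `Spec R` for the topology
-/
set_option autoImplicit false
universe u
open CategoryTheory Limits Opposite AlgebraicGeometry TensorProduct

namespace Groth.Agent.Lib.Seat39.BigAdeq

open Adeq Groth.Agent.Lib.Seat39.MVF Groth.Agent.Lib.Seat39.OverId
  Groth.Agent.Lib.Seat39.DescentFam Groth.Agent.Lib.Seat39.BigMVF

variable (K : Precoverage Scheme.{u}) [BigSite.OSh K] [K.IsStableUnderBaseChange]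
  {S : Scheme.{u}} (M : BigSite.Mod K S) {R : CommRingCat.{u}} (a : Spec R ⟶ S)
  {J : Type} [Fintype J] (A : J → Type u) [∀ j, CommRing (A j)] [∀ j, Algebra R (A j)]

omit [BigSite.OSh K] [Fintype J] in
theorem cover_baseChange
    (hcov : Presieve.ofArrows (fun j => Spec (CommRingCat.of (A j)))
      (fun j => Spec.map (CommRingCat.ofHom (algebraMap R (A j)))) ∈ K.coverings (Spec R))
    (B : Alg R) :
    Presieve.ofArrows (fun j => Spec (CommRingCat.of (TB (A j) B)))
      (fun j => Spec.map (rh (Alg.unit R (A j) B))) ∈ K.coverings (Spec (CommRingCat.of B)) :=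
  K.mem_coverings_of_isPullback _ hcov (Spec.map (sm B)) _ (fun j => Spec.map (inlB (A j) B))
    (fun j => isPullback_unit (A j) B)

theorem adequate_toMVF_of_cover
    (hcov : Presieve.ofArrows (fun j => Spec (CommRingCat.of (A j)))
      (fun j => Spec.map (CommRingCat.ofHom (algebraMap R (A j)))) ∈ K.coverings (Spec R))
    (hA : ∀ j, adequate (A j) ((toMVF K (bOf a (A j))).obj M)) :
    adequate R ((toMVF K a).obj M) := by
  refine adequate_of_family_descent A _ (fun j => (adequate_restr_iff K M a (A j)).mpr (hA j)) ?_ ?_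
  · intro B x hx
    refine sheaf_sep K M (fun j => (specOver a).obj (op (TB (A j) B)))
      (fun j => (specOver a).map (Alg.unit R (A j) B).op) (cover_baseChange K A hcov B) x 0 ?_
    intro j
    exact (hx j).trans (map_zero _).symm
  · intro B y hy
    exact sheaf_glue K M (fun j => (specOver a).obj (op (TB (A j) B)))
      (fun j => (specOver a).map (Alg.unit R (A j) B).op) (cover_baseChange K A hcov B)
      (fun j k => (specOver a).obj (op (TB (A k) (TB (A j) B))))
      (fun j k => (specOver a).map (Alg.unit R (A k) (TB (A j) B)).op)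
      (fun j k => (specOver a).map ((Alg.restr R (A k)).map ((Alg.baseChange R (A k)).map
        (Alg.unit R (A j) B))).op)
      (fun j k => isPullback_units_gen (A k) (Alg.unit R (A j) B)) y hy

end Groth.Agent.Lib.Seat39.BigAdeq

namespace Groth.Agent.Lib.Seat39.BigAdeq

open Adeq Groth.Agent.Lib.Seat39.MVF Groth.Agent.Lib.Seat39.OverId
  Groth.Agent.Lib.Seat39.DescentFam Groth.Agent.Lib.Seat39.BigMVF

/-- An adequate module on the big site has adequate module-valued functors over every affine
scheme over the base, provided coverings of affine schemes can be refined by finite affine ones. -/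
theorem adequate_of_adequateMod (K : Precoverage Scheme.{u}) [BigSite.OSh K]
    [K.IsStableUnderBaseChange]
    (hrefine : ∀ {S : Scheme.{u}} {ι : Type u} (X : ι → Scheme.{u}) (f : ∀ i, X i ⟶ S),
      Presieve.ofArrows X f ∈ K.coverings S → ∀ {R : CommRingCat.{u}} (a : Spec R ⟶ S),
      ∃ (n : ℕ) (A : Fin n → CommRingCat.{u}) (φ : ∀ j, R ⟶ A j),
        Presieve.ofArrows (fun j => Spec (A j)) (fun j => Spec.map (φ j)) ∈ K.coverings (Spec R) ∧
        ∀ j, ∃ (i : ι) (h : Spec (A j) ⟶ X i), h ≫ f i = Spec.map (φ j) ≫ a)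
    (S : Scheme.{u}) (M : BigSite.Mod K S) (hM : adequateMod K S M) (R : CommRingCat.{u})
    (a : Spec R ⟶ S) : adequate R ((toMVF K a).obj M) := by
  obtain ⟨ι, Ri, ai, hcov, hadq⟩ := hM
  obtain ⟨n, A, φ, hcov', hfac⟩ := hrefine (fun i => Spec (Ri i)) ai hcov a
  let _ : ∀ j, Algebra R (A j) := fun j => (φ j).hom.toAlgebra
  refine adequate_toMVF_of_cover K M a (fun j => A j) hcov' ?_
  intro j
  obtain ⟨i, h, hh⟩ := hfac j
  let _ : Algebra (Ri i) (A j) := (Spec.preimage h).hom.toAlgebra
  have h1 : adequate (A j) ((restr (Ri i) (A j)).obj ((toMVF K (ai i)).obj M)) :=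
    Groth.Agent.Lib.Seat39.Restr.adequate_restr _ _ _ (hadq i)
  have h2 := (adequate_restr_iff K M (ai i) (A j)).mp h1
  have e : bOf (ai i) (A j) = bOf a (A j) := by
    change Spec.map (Spec.preimage h) ≫ ai i = Spec.map (φ j) ≫ a
    rw [Spec.map_preimage, hh]
  rw [e] at h2
  exact h2


end Groth.Agent.Lib.Seat39.BigAdeq
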