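import Groth.Agent.Lib.Seat39BigRefine
import Groth.Prelude.Def_BigSite

/-!
# Seat39: a Cartan criterion on the big fppf site of an affine scheme

An abelian sheaf `G` on the big fppf site of an affine scheme `T` whose sections on the spectra of the tensor powers of every
faithfully flat algebra `B` over every affine object `Spec R → T` form an exact Amitsur complex has vanishing higher cohomology
on `T`.
-/

set_option autoImplicit false
universe u
open CategoryTheory Limits AlgebraicGeometry Opposite Abelian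

namespace Groth.Agent.Lib.Seat39.BigCartan

open Groth.Agent.Lib.Seat69.Amitsur Groth.Agent.Lib.Seat39.OverPower Groth.Agent.Lib.Seat39.FreeSh
  Groth.Agent.Lib.Seat39.AmitsurRes Groth.Agent.Lib.Seat39.BigRefine Groth.Agent.Lib.Seat39.Cartan

variable (T : Scheme.{u})

local notation "JT" => QuotSh.J Scheme.fppfPrecoverage T

/-- base objects: the free abelian sheaves on the affine objects -/
def BaseObj (Z : Sheaf JT AddCommGrpCat.{u + 1}) : Prop :=
  ∃ (R : CommRingCat.{u}) (w : Spec R ⟶ T), Nonempty (Z ≅ freeSheaf JT (Over.mk w))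

/-- the index of the family of Amitsur resolutions -/
structure CovIdx where
  /-- the ring -/
  R : CommRingCat.{u}
  /-- the affine object -/
  w : Spec R ⟶ T
  /-- the algebra -/
  B : Type u
  /-- its ring structure -/
  ring : CommRing B
  /-- its algebra structure -/
  alg : Algebra R B
  ff : Module.FaithfullyFlat R B
  cov : Sieve.generate (Presieve.singleton (aug₀ w B)) ∈ JT (Over.mk w)

attribute [local instance] CovIdx.ring CovIdx.alg

/-- the family of Amitsur resolutions -/
noncomputable def cov (i : CovIdx T) : Res (Sheaf JT AddCommGrpCat.{u + 1}) :=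
  AmitsurRes.res i.w i.B JT i.cov

variable {T}

theorem baseObj_term (i : CovIdx T) (n : ℕ) : BaseObj T ((cov T i).A n) := by
  cases n with
  | zero => exact ⟨i.R, i.w, ⟨Iso.refl _⟩⟩
  | succ m =>
    exact ⟨CommRingCat.of (M i.R i.B (m + 1)), Spec.map (sM i.R i.B (m + 1)) ≫ i.w, ⟨Iso.refl _⟩⟩

theorem covData : CovData (cov T) (BaseObj T) where
  terms := baseObj_term
  refine := by
    intro Z hZ X₂ X₃ p hp s
    obtain ⟨R, w, ⟨e'⟩⟩ := hZ
    obtain ⟨B, _, _, hff, hcov, t, ht⟩ :=
      exists_lift w p (homEquivSect JT (Over.mk w) X₃ (e'.inv ≫ s))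
    let i : CovIdx T := ⟨R, w, B, inferInstance, inferInstance, hff, hcov⟩
    refine ⟨i, e'.symm, (homEquivSect JT (Wn w B 1) X₂).symm t, ?_⟩
    change (homEquivSect JT (Wn w B 1) X₂).symm t ≫ p = dsh w B JT 0 ≫ e'.inv ≫ s
    apply (homEquivSect JT (Wn w B 1) X₃).injective
    rw [homEquivSect_comp, AddEquiv.apply_symm_apply, ht, dsh_zero]
    exact (homEquivSect_freeSheafMap_comp JT (aug₀ w B) X₃ (e'.inv ≫ s)).symm

section Const

variable {C : Type (u + 1)} [Category.{u} C] (J : GrothendieckTopology C)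
  [HasSheafify J AddCommGrpCat.{u + 1}] {X₁ : C} (hT : IsTerminal X₁)

theorem hom_ext_uliftZ {A : AddCommGrpCat.{u + 1}}
    (f g : AddCommGrpCat.of (ULift.{u + 1} ℤ) ⟶ A) (h : f.hom ⟨1⟩ = g.hom ⟨1⟩) : f = g := by
  apply AddCommGrpCat.hom_ext
  apply AddMonoidHom.ext
  rintro ⟨n⟩
  have hn : (ULift.up n : ULift.{u + 1} ℤ) = n • ULift.up 1 := by
    apply ULift.ext
    simp
  rw [hn, map_zsmul, map_zsmul, h]

/-- the constant sheaf `ℤ` -/
noncomputable abbrev constZ : Sheaf J AddCommGrpCat.{u + 1} :=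
  (constantSheaf J AddCommGrpCat.{u + 1}).obj (AddCommGrpCat.of (ULift.{u + 1} ℤ))

/-- the unit section of the constant sheaf over the terminal object -/
noncomputable def s₀ : (constZ J).obj.obj (op X₁) :=
  (((constantSheafAdj J AddCommGrpCat.{u + 1} hT).unit.app
    (AddCommGrpCat.of (ULift.{u + 1} ℤ))).hom (ULift.up 1) : _)

/-- `ℤ_{X₁} ⟶ ℤ` -/
noncomputable def toConst : freeSheaf J X₁ ⟶ constZ J :=
  (homEquivSect J X₁ (constZ J)).symm (s₀ J hT)

/-- the map `ℤ → ℤ_{X₁}(X₁)` sending `1` to the canonical section -/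
noncomputable def genHom : AddCommGrpCat.of (ULift.{u + 1} ℤ) ⟶ (freeSheaf J X₁).obj.obj (op X₁) :=
  AddCommGrpCat.ofHom
    ((zmultiplesHom _ (gen J X₁)).comp (AddEquiv.ulift : ULift.{u + 1} ℤ ≃+ ℤ).toAddMonoidHom)

theorem genHom_one : (genHom J (X₁ := X₁)).hom (ULift.up 1) = gen J X₁ := by
  change (zmultiplesHom _ (gen J X₁)) 1 = _
  simp

/-- `ℤ ⟶ ℤ_{X₁}` -/
noncomputable def ofConst : constZ J ⟶ freeSheaf J X₁ :=
  ((constantSheafAdj J AddCommGrpCat.{u + 1} hT).homEquiv _ _).symm (genHom J)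

theorem unit_ofConst :
    (constantSheafAdj J AddCommGrpCat.{u + 1} hT).unit.app (AddCommGrpCat.of (ULift.{u + 1} ℤ)) ≫
      ((sheafSections J AddCommGrpCat.{u + 1}).obj (op X₁)).map (ofConst J hT) = genHom J := by
  have h := (constantSheafAdj J AddCommGrpCat.{u + 1} hT).homEquiv_unit
    (f := ofConst J hT)
  rw [← h]
  exact Equiv.apply_symm_apply _ _

theorem ofConst_s₀ : ((ofConst J hT).hom.app (op X₁)).hom (s₀ J hT) = gen J X₁ := by
  have h2 := ConcreteCategory.congr_hom (unit_ofConst J hT) (ULift.up 1)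
  rw [genHom_one] at h2
  exact h2

theorem toConst_gen : ((toConst J hT).hom.app (op X₁)).hom (gen J X₁) = s₀ J hT :=
  (homEquivSect J X₁ (constZ J)).apply_symm_apply (s₀ J hT)

/-- the constant sheaf `ℤ` is the free abelian sheaf on a terminal object -/
noncomputable def constIso : constZ J ≅ freeSheaf J X₁ where
  hom := ofConst J hT
  inv := toConst J hT
  hom_inv_id := by
    apply ((constantSheafAdj J AddCommGrpCat.{u + 1} hT).homEquiv _ _).injective
    rw [Adjunction.homEquiv_unit, Adjunction.homEquiv_unit]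
    apply hom_ext_uliftZ
    rw [Functor.map_comp, ← Category.assoc, unit_ofConst]
    change ((toConst J hT).hom.app (op X₁)).hom ((genHom J (X₁ := X₁)).hom (ULift.up 1)) = s₀ J hT
    rw [genHom_one, toConst_gen]
  inv_hom_id := by
    apply (homEquivSect J X₁ (freeSheaf J X₁)).injective
    rw [homEquivSect_comp]
    change ((ofConst J hT).hom.app (op X₁)).hom (((toConst J hT).hom.app (op X₁)).hom (gen J X₁)) =
      gen J X₁
    rw [toConst_gen, ofConst_s₀]

/-- an isomorphism of objects induces an isomorphism of free sheaves -/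
noncomputable def freeSheafIso {U V : C} (e : U ≅ V) : freeSheaf J U ≅ freeSheaf J V where
  hom := freeSheafMap J e.hom
  inv := freeSheafMap J e.inv
  hom_inv_id := by rw [← freeSheafMap_comp, e.hom_inv_id, freeSheafMap_id]
  inv_hom_id := by rw [← freeSheafMap_comp, e.inv_hom_id, freeSheafMap_id]

end Const

section DPIso

open Groth.Agent.Lib.Seat39.CechModel

universe w₁ v₁ u₁

variable {C : Type u₁} [Category.{v₁} C] {P P' : Cᵒᵖ ⥤ AddCommGrpCat.{w₁}}
  (W : ℕ → C) (dW : ∀ n, Fin (n + 1) → (W (n + 1) ⟶ W n))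

theorem DP_natural (α : P ⟶ P') (n : ℕ) :
    DP P W dW n ≫ α.app (op (W (n + 2))) = α.app (op (W (n + 1))) ≫ DP P' W dW n := by
  unfold DP
  rw [Preadditive.sum_comp, Preadditive.comp_sum]
  apply Finset.sum_congr rfl
  intro i _
  rw [Preadditive.zsmul_comp, Preadditive.comp_zsmul, α.naturality]

/-- exactness of the model complex is invariant under isomorphisms of presheaves -/
theorem DP_exact_of_iso (e : P ≅ P') (n : ℕ)
    (h : ∀ x : P'.obj (op (W (n + 2))), (DP P' W dW (n + 1)).hom x = 0 →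
      ∃ y, (DP P' W dW n).hom y = x)
    (x : P.obj (op (W (n + 2)))) (hx : (DP P W dW (n + 1)).hom x = 0) :
    ∃ y, (DP P W dW n).hom y = x := by
  have h1 : (DP P' W dW (n + 1)).hom ((e.hom.app (op (W (n + 2)))).hom x) = 0 := by
    have h2 := ConcreteCategory.congr_hom (DP_natural W dW e.hom (n + 1)) x
    refine h2.symm.trans ?_
    change (e.hom.app (op (W (n + 3)))).hom ((DP P W dW (n + 1)).hom x) = 0
    rw [hx, map_zero]
  obtain ⟨y', hy'⟩ := h _ h1
  refine ⟨(e.inv.app (op (W (n + 1)))).hom y', ?_⟩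
  have h3 := ConcreteCategory.congr_hom (DP_natural W dW e.inv n) y'
  refine h3.symm.trans ?_
  change (e.inv.app (op (W (n + 2)))).hom ((DP P' W dW n).hom y') = x
  rw [hy']
  exact ConcreteCategory.congr_hom (e.hom_inv_id_app (op (W (n + 2)))) x

end DPIso

section Main

variable [IsAffine T]

theorem baseObj_const : BaseObj T (constZ JT) :=
  ⟨Γ(T, ⊤), T.isoSpec.inv,
    ⟨constIso JT Over.mkIdTerminal ≪≫
      freeSheafIso JT (Over.isoMk T.isoSpec (by simp) : Over.mk (𝟙 T) ≅ Over.mk T.isoSpec.inv)⟩⟩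

/-- **Cartan criterion on the big fppf site of an affine scheme.** -/
theorem ext_eq_zero_of_amitsur (G : Sheaf JT AddCommGrpCat.{u + 1})
    (hG : ∀ (R : CommRingCat.{u}) (w : Spec R ⟶ T) (B : Type u) [CommRing B] [Algebra R B]
      [Module.FaithfullyFlat R B] (n : ℕ)
      (x : ((Over.map w).op ⋙ G.obj).obj (op (W R B (n + 2)))),
      (Groth.Agent.Lib.Seat39.CechModel.DP ((Over.map w).op ⋙ G.obj) (W R B) (dW R B) (n + 1)).hom x = 0 →
        ∃ y, (Groth.Agent.Lib.Seat39.CechModel.DP ((Over.map w).op ⋙ G.obj) (W R B) (dW R B) n).hom y = x)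
    (p : ℕ) (x : Ext.{u + 1} (constZ JT) G (p + 1)) : x = 0 :=
  ext_eq_zero covData p G
    (fun i => by
      have := i.ff
      exact acyc i.w i.B JT i.cov G (fun n x hx => hG i.R i.w i.B n x hx))
    _ baseObj_const x

end Main

end Groth.Agent.Lib.Seat39.BigCartan
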