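import Groth.Agent.Lib.Seat39BigAdeq

/-!
# Seat39: kernels of maps of adequate modules on the big site
-/
set_option autoImplicit false
universe u
open CategoryTheory Limits Opposite AlgebraicGeometry TensorProduct

attribute [-instance] Groth.Agent.Lib.Seat39.Restr.algRestr

namespace Groth.Agent.Lib.Seat39.BigKer

open Adeq Groth.Agent.Lib.Seat39.MVF Groth.Agent.Lib.Seat39.OverId Groth.Agent.Lib.Seat39.BigMVF
  Groth.Agent.Lib.Seat39.BigAdeq Groth.Agent.Lib.Seat39.DescentFam

variable (K : Precoverage Scheme.{u}) [BigSite.OSh K] {S : Scheme.{u}}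

theorem toMVF_map_ap {M N : BigSite.Mod K S} (ψ : M ⟶ N) {R : CommRingCat.{u}} (a : Spec R ⟶ S)
    (B : Alg R) (x : ((toMVF K a).obj M).obj (pt B)) :
    ap ((toMVF K a).map ψ) (pt B) x = ap ψ.val (op ((specOver a).obj (op B))) x := rfl

/-- Sections of the kernel: injectivity. -/
theorem kernel_ι_val_injective {M N : BigSite.Mod K S} (φ : M ⟶ N) (U : (Over S)ᵒᵖ) :
    Function.Injective (ap (kernel.ι φ).val U) := by
  have : Mono ((SheafOfModules.forget _).map (kernel.ι φ)) := inferInstance
  exact ap_injective_of_mono ((SheafOfModules.forget _).map (kernel.ι φ)) U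

/-- Sections of the kernel: exactness. -/
theorem kernel_ι_val_exact {M N : BigSite.Mod K S} (φ : M ⟶ N) (U : (Over S)ᵒᵖ)
    (y : M.val.obj U) (hy : ap φ.val U y = 0) :
    ∃ x : (kernel φ).val.obj U, ap (kernel.ι φ).val U x = y := by
  have h1 : (ShortComplex.kernelSequence φ).Exact := ShortComplex.kernelSequence_exact φ
  have h2 : ((ShortComplex.kernelSequence φ).map (SheafOfModules.forget _)).Exact :=
    h1.map_of_mono_of_preservesKernel (SheafOfModules.forget _)
      (by dsimp [ShortComplex.kernelSequence]; infer_instance) inferInstance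
  exact exact_apply _ h2 U y hy

variable [K.IsStableUnderBaseChange]

/-- The kernel of a map of adequate modules is adequate. -/
theorem adequateMod_kernel
    (hrefine : ∀ {S : Scheme.{u}} {ι : Type u} (X : ι → Scheme.{u}) (f : ∀ i, X i ⟶ S),
      Presieve.ofArrows X f ∈ K.coverings S → ∀ {R : CommRingCat.{u}} (a : Spec R ⟶ S),
      ∃ (n : ℕ) (A : Fin n → CommRingCat.{u}) (φ : ∀ j, R ⟶ A j),
        Presieve.ofArrows (fun j => Spec (A j)) (fun j => Spec.map (φ j)) ∈ K.coverings (Spec R) ∧
        ∀ j, ∃ (i : ι) (h : Spec (A j) ⟶ X i), h ≫ f i = Spec.map (φ j) ≫ a)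
    {M N : BigSite.Mod K S} (φ : M ⟶ N) (hM : adequateMod K S M) (hN : adequateMod K S N) :
    adequateMod K S (kernel φ) := by
  obtain ⟨ι, R, a, hcov, hadq⟩ := hM
  refine ⟨ι, R, a, hcov, fun i => ?_⟩
  have hNi : adequate (R i) ((toMVF K (a i)).obj N) :=
    adequate_of_adequateMod K hrefine S N hN (R i) (a i)
  refine adequate_of_pointwise_kernel (hadq i) hNi ((toMVF K (a i)).map (kernel.ι φ))
    ((toMVF K (a i)).map φ) ?_ ?_ ?_
  · rw [← Functor.map_comp, kernel.condition, Functor.map_zero]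
  · rintro ⟨⟨B⟩⟩
    exact kernel_ι_val_injective K φ _
  · rintro ⟨⟨B⟩⟩ y hy
    exact kernel_ι_val_exact K φ _ y hy

end Groth.Agent.Lib.Seat39.BigKer
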