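import Groth.Agent.Lib.Seat39MVF

/-!
# Seat39: element-level description of finite biproducts of presheaves of modules
-/
set_option autoImplicit false
universe u v v₁ u₁ w
open CategoryTheory Limits

namespace Groth.Agent.Lib.Seat39.Biprod

open Groth.Agent.Lib.Seat39.MVF

variable {C : Type u₁} [Category.{v₁} C] {R : Cᵒᵖ ⥤ RingCat.{u}}

theorem ap_add' {F G : PresheafOfModules.{v} R} (φ ψ : F ⟶ G) (X : Cᵒᵖ) (x : F.obj X) :
    ap (φ + ψ) X x = ap φ X x + ap ψ X x := rfl

theorem ap_sub' {F G : PresheafOfModules.{v} R} (φ ψ : F ⟶ G) (X : Cᵒᵖ) (x : F.obj X) :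
    ap (φ - ψ) X x = ap φ X x - ap ψ X x := rfl

theorem ap_sum {J : Type w} {F G : PresheafOfModules.{v} R} (s : Finset J) (φ : J → (F ⟶ G))
    (X : Cᵒᵖ) (x : F.obj X) : ap (∑ j ∈ s, φ j) X x = ∑ j ∈ s, ap (φ j) X x := by
  classical
  induction s using Finset.induction_on with
  | empty => simp only [Finset.sum_empty]; rfl
  | insert a s ha ih =>
    rw [Finset.sum_insert ha, Finset.sum_insert ha, ap_add', ih]

variable {J : Type} [Fintype J] (G : J → PresheafOfModules.{v} R) [HasBiproduct G]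

theorem biproduct_ext_ap (X : Cᵒᵖ) (x y : (⨁ G).obj X)
    (h : ∀ j, ap (biproduct.π G j) X x = ap (biproduct.π G j) X y) : x = y := by
  classical
  have key : ∀ z : (⨁ G).obj X, z = ∑ j, ap (biproduct.ι G j) X (ap (biproduct.π G j) X z) := by
    intro z
    have h0 : (∑ j : J, biproduct.π G j ≫ biproduct.ι G j) = 𝟙 (⨁ G) := biproduct.total
    have h1 : ap (∑ j : J, biproduct.π G j ≫ biproduct.ι G j) X z = z := by rw [h0]; rfl
    rw [ap_sum] at h1
    exact h1.symm
  rw [key x, key y]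
  exact Finset.sum_congr rfl (fun j _ => by rw [h j])

theorem biproduct_exists_ap (X : Cᵒᵖ) (y : ∀ j, (G j).obj X) :
    ∃ x : (⨁ G).obj X, ∀ j, ap (biproduct.π G j) X x = y j := by
  classical
  refine ⟨∑ k, ap (biproduct.ι G k) X (y k), fun j => ?_⟩
  rw [map_sum]
  have : ∀ k, ap (biproduct.π G j) X (ap (biproduct.ι G k) X (y k)) =
      if k = j then y j else 0 := by
    intro k
    rw [← ap_comp]
    by_cases hkj : k = j
    · subst hkj
      rw [if_pos rfl, biproduct.ι_π_self]
      rfl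
    · rw [if_neg hkj, biproduct.ι_π_ne _ hkj]
      rfl
  rw [Finset.sum_congr rfl (fun k _ => this k), Finset.sum_ite_eq' Finset.univ j]
  simp

omit [Fintype J] in
theorem biproduct_lift_ap {F : PresheafOfModules.{v} R} (φ : ∀ j, F ⟶ G j) (j : J) (X : Cᵒᵖ)
    (x : F.obj X) : ap (biproduct.π G j) X (ap (biproduct.lift φ) X x) = ap (φ j) X x := by
  rw [← ap_comp, biproduct.lift_π]

end Groth.Agent.Lib.Seat39.Biprod
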