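import Groth.Agent.Lib.Seat39Descent
import Groth.Agent.Lib.Seat39Biprod
import Groth.Agent.Lib.Seat39AdeqAdj

/-!
# Seat39: descent of adequacy along a finite family of ring maps
-/
set_option autoImplicit false
universe u
open CategoryTheory Limits Opposite TensorProduct

namespace Groth.Agent.Lib.Seat39.DescentFam

open Adeq Groth.Agent.Lib.Seat39.MVF Groth.Agent.Lib.Seat39.AdeqF Groth.Agent.Lib.Seat39.Descent
  Groth.Agent.Lib.Seat39.Biprod

variable {R : Type u} [CommRing R]

noncomputable instance hasFiniteBiproductsMVF : HasFiniteBiproducts (MVF R) :=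
  Abelian.hasFiniteBiproducts

/-- Finite biproducts of adequate functors are adequate. -/
theorem adequate_biproduct {J : Type} [Finite J] (G : J → MVF R) (hG : ∀ j, adequate R (G j)) :
    adequate R (⨁ G) := by
  have : (adequate R).IsClosedUnderColimitsOfShape (Discrete J) :=
    ObjectProperty.IsClosedUnderColimitsOfShape.of_equivalence
      (Discrete.equivalence Equiv.ulift : Discrete (ULift.{u + 1} J) ≌ Discrete J)
  refine (adequate R).prop_of_isColimit (biproduct.isColimit G) ?_
  rintro ⟨j⟩
  exact hG j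

/-- the `R`-algebra `A ⊗ B` -/
noncomputable abbrev TB (A : Type u) [CommRing A] [Algebra R A] (B : Alg R) : Alg R :=
  (Alg.restr R A).obj ((Alg.baseChange R A).obj B)

/-- Abstract form: a functor embedded in an adequate functor as the kernel of a map to an adequate
functor (pointwise) is adequate. -/
theorem adequate_of_pointwise_kernel {F G₀ G₁ : MVF R} (hG₀ : adequate R G₀) (hG₁ : adequate R G₁)
    (u : F ⟶ G₀) (d : G₀ ⟶ G₁) (hd : u ≫ d = 0)
    (hinj : ∀ X, Function.Injective (ap u X))
    (hex : ∀ X (y : G₀.obj X), ap d X y = 0 → ∃ x : F.obj X, ap u X x = y) :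
    adequate R F := by
  have hK : adequate R (kernel d) := adequate_kernel d hG₀ hG₁
  have hiso : IsIso (kernel.lift d u hd) := by
    apply isIso_of_ap_bijective
    intro X
    constructor
    · intro x y hxy
      apply hinj X
      have := congrArg (ap (kernel.ι d) X) hxy
      rwa [← ap_comp, ← ap_comp, kernel.lift_ι] at this
    · intro k
      obtain ⟨x, hx⟩ := hex X _ (kernel_ι_comp_apply d X k)
      refine ⟨x, kernel_ι_injective d X ?_⟩
      rw [← ap_comp, kernel.lift_ι, hx]
  exact (adequate R).prop_of_iso (asIso (kernel.lift d u hd)).symm hK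

variable {J : Type} [Fintype J] (A : J → Type u) [∀ j, CommRing (A j)] [∀ j, Algebra R (A j)]

theorem adequate_of_family_descent (F : MVF R)
    (h₁ : ∀ j, adequate (A j) ((restr R (A j)).obj F))
    (hinj : ∀ (B : Alg R) (x : F.obj (pt B)),
      (∀ j, mp F (ptHom (Alg.unit R (A j) B)) x = 0) → x = 0)
    (hex : ∀ (B : Alg R) (y : ∀ j, F.obj (pt (TB (A j) B))),
      (∀ j k, mp F (ptHom (Alg.unit R (A k) (TB (A j) B))) (y j) =
        mp F (ptHom ((Alg.restr R (A k)).map ((Alg.baseChange R (A k)).map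
          (Alg.unit R (A j) B)))) (y k)) →
      ∃ x : F.obj (pt B), ∀ j, mp F (ptHom (Alg.unit R (A j) B)) x = y j) :
    adequate R F := by
  classical
  let G₀f : J → MVF R := fun j => PR R (A j) F
  let G₁f : J × J → MVF R := fun p => PR R (A p.1) (PR R (A p.2) F)
  have hG₀f : ∀ j, adequate R (G₀f j) := fun j => Push.adequate_push R (A j) _ (h₁ j)
  have hG₁f : ∀ p, adequate R (G₁f p) := fun p =>
    Push.adequate_push R (A p.1) _ (Restr.adequate_restr R (A p.1) _ (hG₀f p.2))
  have hG₀ : adequate R (⨁ G₀f) := adequate_biproduct G₀f hG₀f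
  have hG₁ : adequate R (⨁ G₁f) := adequate_biproduct G₁f hG₁f
  let u : F ⟶ ⨁ G₀f := biproduct.lift (fun j => uMor R (A j) F)
  let dc : ∀ p : J × J, (⨁ G₀f) ⟶ G₁f p := fun p =>
    biproduct.π G₀f p.1 ≫ (push R (A p.1)).map ((restr R (A p.1)).map (uMor R (A p.2) F)) -
      biproduct.π G₀f p.2 ≫ uMor R (A p.1) (PR R (A p.2) F)
  let d : (⨁ G₀f) ⟶ ⨁ G₁f := biproduct.lift dc
  have hd : u ≫ d = 0 := by
    apply biproduct.hom_ext
    intro p
    rw [Category.assoc, biproduct.lift_π, zero_comp]
    change u ≫ (biproduct.π G₀f p.1 ≫ _ - biproduct.π G₀f p.2 ≫ _) = 0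
    rw [Preadditive.comp_sub, ← Category.assoc, ← Category.assoc, biproduct.lift_π,
      biproduct.lift_π, uMor_natural, sub_self]
  refine adequate_of_pointwise_kernel hG₀ hG₁ u d hd ?_ ?_
  · rintro ⟨⟨B⟩⟩
    rw [injective_iff_map_eq_zero]
    intro x hx
    apply hinj B x
    intro j
    have := congrArg (ap (biproduct.π G₀f j) (pt B)) hx
    rw [biproduct_lift_ap, map_zero] at this
    exact this
  · rintro ⟨⟨B⟩⟩ y hy
    let yc : ∀ j, F.obj (pt (TB (A j) B)) := fun j => ap (biproduct.π G₀f j) (pt B) y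
    have hcomp : ∀ j k, mp F (ptHom (Alg.unit R (A k) (TB (A j) B))) (yc j) =
        mp F (ptHom ((Alg.restr R (A k)).map ((Alg.baseChange R (A k)).map
          (Alg.unit R (A j) B)))) (yc k) := by
      intro j k
      have h0 := congrArg (ap (biproduct.π G₁f (j, k)) (pt B)) hy
      rw [biproduct_lift_ap, map_zero] at h0
      change ap (biproduct.π G₀f j ≫ (push R (A j)).map ((restr R (A j)).map (uMor R (A k) F)) -
        biproduct.π G₀f k ≫ uMor R (A j) (PR R (A k) F)) (pt B) y = 0 at h0
      rw [ap_sub', sub_eq_zero, ap_comp, ap_comp] at h0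
      exact h0
    obtain ⟨x, hx⟩ := hex B yc hcomp
    refine ⟨x, ?_⟩
    apply biproduct_ext_ap G₀f
    intro j
    rw [biproduct_lift_ap]
    exact hx j

end Groth.Agent.Lib.Seat39.DescentFam
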