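import Groth.Agent.Lib.Seat39OverId
import Groth.Agent.Lib.Seat39DescentFam

/-!
# Seat39: the module-valued functor of a sheaf of modules on the big site of a scheme

* sheaf condition for coverings given by families in `Over S`;
* pushout squares of tensor products of algebras and the corresponding pullback squares of spectra;
* restriction of `F_{M,R}` to `A`-algebras is `F_{M,A}`;
* adequacy of `F_{M,R}` from adequacy of the `F_{M,A_j}` for a finite covering `{Spec A_j → Spec R}`.
-/
set_option autoImplicit false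
universe u w
open CategoryTheory Limits Opposite AlgebraicGeometry TensorProduct

namespace Groth.Agent.Lib.Seat39.BigMVF

open Adeq Groth.Agent.Lib.Seat39.MVF Groth.Agent.Lib.Seat39.OverId
  Groth.Agent.Lib.Seat39.DescentFam

section Sheaf

variable (K : Precoverage Scheme.{u}) {S : Scheme.{u}}

theorem ofArrows_mem_J {Y : Over S} {J : Type w} (Z : J → Over S) (g : ∀ j, Z j ⟶ Y)
    (hcov : Presieve.ofArrows (fun j => (Z j).left) (fun j => (g j).left) ∈ K.coverings Y.left) :
    Sieve.ofArrows Z g ∈ QuotSh.J K S Y := by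
  rw [GrothendieckTopology.mem_over_iff, Sieve.overEquiv_ofArrows]
  exact Precoverage.generate_mem_toGrothendieck hcov

variable [BigSite.OSh K] (M : BigSite.Mod K S)

theorem isSheafFor_ofArrows {Y : Over S} {J : Type w} (Z : J → Over S) (g : ∀ j, Z j ⟶ Y)
    (hcov : Presieve.ofArrows (fun j => (Z j).left) (fun j => (g j).left) ∈ K.coverings Y.left) :
    Presieve.IsSheafFor (M.val.presheaf ⋙ forget AddCommGrpCat) (Presieve.ofArrows Z g) := by
  have h1 := (Presheaf.isSheaf_iff_isSheaf_forget (QuotSh.J K S) M.val.presheaf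
    (forget AddCommGrpCat)).mp M.isSheaf
  have h2 := (isSheaf_iff_isSheaf_of_type _ _).mp h1
  have h3 := h2 _ (ofArrows_mem_J K Z g hcov)
  rwa [Sieve.ofArrows, ← Presieve.isSheafFor_iff_generate] at h3

/-- Separatedness of a sheaf of modules for a covering family. -/
theorem sheaf_sep {Y : Over S} {J : Type w} (Z : J → Over S) (g : ∀ j, Z j ⟶ Y)
    (hcov : Presieve.ofArrows (fun j => (Z j).left) (fun j => (g j).left) ∈ K.coverings Y.left)
    (x x' : M.val.obj (op Y)) (hx : ∀ j, mp M.val (g j).op x = mp M.val (g j).op x') : x = x' := by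
  have h := (Presieve.isSheafFor_arrows_iff _ _).mp (isSheafFor_ofArrows K M Z g hcov)
  obtain ⟨t, ht, huniq⟩ := h (fun j => mp M.val (g j).op x) (by
    intro i j T gi gj hij
    change mp M.val gi.op (mp M.val (g i).op x) = mp M.val gj.op (mp M.val (g j).op x)
    rw [← mp_comp, ← mp_comp]
    apply mp_congr
    rw [← op_comp, ← op_comp, hij])
  exact (huniq x (fun j => rfl)).trans (huniq x' (fun j => (hx j).symm)).symm

/-- Gluing for a sheaf of modules along a covering family with given fibre products. -/
theorem sheaf_glue {Y : Over S} {J : Type w} (Z : J → Over S) (g : ∀ j, Z j ⟶ Y)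
    (hcov : Presieve.ofArrows (fun j => (Z j).left) (fun j => (g j).left) ∈ K.coverings Y.left)
    (W : J → J → Over S) (p : ∀ j k, W j k ⟶ Z j) (q : ∀ j k, W j k ⟶ Z k)
    (hpb : ∀ j k, IsPullback (p j k).left (q j k).left (g j).left (g k).left)
    (y : ∀ j, M.val.obj (op (Z j)))
    (hy : ∀ j k, mp M.val (p j k).op (y j) = mp M.val (q j k).op (y k)) :
    ∃ x : M.val.obj (op Y), ∀ j, mp M.val (g j).op x = y j := by
  have h := (Presieve.isSheafFor_arrows_iff _ _).mp (isSheafFor_ofArrows K M Z g hcov)
  obtain ⟨t, ht, -⟩ := h y (by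
    intro i j T gi gj hij
    have hl : gi.left ≫ (g i).left = gj.left ≫ (g j).left := by
      rw [← Over.comp_left, ← Over.comp_left, hij]
    let l : T.left ⟶ (W i j).left := (hpb i j).lift gi.left gj.left hl
    have hl1 : l ≫ (p i j).left = gi.left := (hpb i j).lift_fst _ _ _
    have hl2 : l ≫ (q i j).left = gj.left := (hpb i j).lift_snd _ _ _
    let L : T ⟶ W i j := Over.homMk l (by
      rw [← Over.w (p i j), ← Category.assoc, hl1, Over.w])
    have hL1 : L ≫ p i j = gi := by ext; exact hl1
    have hL2 : L ≫ q i j = gj := by ext; exact hl2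
    change mp M.val gi.op (y i) = mp M.val gj.op (y j)
    rw [← hL1, ← hL2, op_comp, op_comp, mp_comp, mp_comp, hy])
  exact ⟨t, ht⟩

end Sheaf

section Squares

variable {R : Type u} [CommRing R] (A : Type u) [CommRing A] [Algebra R A]

/-- the underlying ring map of an algebra map, in `CommRingCat` -/
noncomputable abbrev rh {B C : Alg R} (f : B ⟶ C) : CommRingCat.of B ⟶ CommRingCat.of C :=
  CommRingCat.ofHom f.hom.toRingHom

/-- the structure map of an algebra, in `CommRingCat` -/
noncomputable abbrev sm (B : Alg R) : CommRingCat.of R ⟶ CommRingCat.of B :=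
  CommRingCat.ofHom (algebraMap R B)

/-- `a ↦ a ⊗ 1`, in `CommRingCat` -/
noncomputable abbrev inlB (B : Alg R) : CommRingCat.of A ⟶ CommRingCat.of (TB A B) :=
  CommRingCat.ofHom (Algebra.TensorProduct.includeLeftRingHom : A →+* A ⊗[R] B)

theorem isPushout_unit (B : Alg R) :
    IsPushout (sm B) (CommRingCat.ofHom (algebraMap R A)) (rh (Alg.unit R A B)) (inlB A B) :=
  (CommRingCat.isPushout_tensorProduct R A B).flip

theorem isPullback_unit (B : Alg R) :
    IsPullback (Spec.map (rh (Alg.unit R A B))) (Spec.map (inlB A B)) (Spec.map (sm B))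
      (Spec.map (CommRingCat.ofHom (algebraMap R A))) :=
  isPullback_SpecMap_of_isPushout _ _ _ _ (isPushout_unit A B)

theorem sm_comp {C D : Alg R} (f : C ⟶ D) : sm C ≫ rh f = sm D := by
  ext r
  exact f.hom.commutes r

theorem inlB_comp {C D : Alg R} (f : C ⟶ D) :
    inlB A C ≫ rh ((Alg.restr R A).map ((Alg.baseChange R A).map f)) = inlB A D := by
  ext x
  refine (Algebra.TensorProduct.map_tmul (AlgHom.id A A) f.hom x (1 : C)).trans ?_
  rw [map_one]
  rfl

theorem rh_comp {B C D : Alg R} (f : B ⟶ C) (g : C ⟶ D) : rh (f ≫ g) = rh f ≫ rh g := rfl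

theorem isPushout_units_gen {C D : Alg R} (f : C ⟶ D) :
    IsPushout (rh (Alg.unit R A C)) (rh f)
      (rh ((Alg.restr R A).map ((Alg.baseChange R A).map f))) (rh (Alg.unit R A D)) := by
  have s : IsPushout (sm C ≫ rh f) (CommRingCat.ofHom (algebraMap R A))
      (rh (Alg.unit R A D))
      (inlB A C ≫ rh ((Alg.restr R A).map ((Alg.baseChange R A).map f))) := by
    rw [sm_comp, inlB_comp]
    exact isPushout_unit A D
  have p : rh f ≫ rh (Alg.unit R A D) =
      rh (Alg.unit R A C) ≫ rh ((Alg.restr R A).map ((Alg.baseChange R A).map f)) := by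
    rw [← rh_comp, ← rh_comp, Groth.Agent.Lib.Seat39.Descent.unit_naturality]
  exact (IsPushout.of_left s p (isPushout_unit A C)).flip

theorem isPullback_units_gen {C D : Alg R} (f : C ⟶ D) :
    IsPullback (Spec.map (rh (Alg.unit R A D)))
      (Spec.map (rh ((Alg.restr R A).map ((Alg.baseChange R A).map f))))
      (Spec.map (rh f)) (Spec.map (rh (Alg.unit R A C))) :=
  isPullback_SpecMap_of_isPushout _ _ _ _ (isPushout_units_gen A f).flip

end Squares

section Restr

variable (K : Precoverage Scheme.{u}) [BigSite.OSh K] {S : Scheme.{u}} (M : BigSite.Mod K S)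
  {R : CommRingCat.{u}} (a : Spec R ⟶ S) (A : Type u) [CommRing A] [Algebra R A]

/-- the structure morphism of `Spec A` over `S` -/
noncomputable abbrev bOf : Spec (CommRingCat.of A) ⟶ S :=
  Spec.map (CommRingCat.ofHom (algebraMap R A)) ≫ a

theorem struct_eq (B : Alg A) :
    (Spec.map (CommRingCat.ofHom (algebraMap A B)) ≫
        Spec.map (CommRingCat.ofHom (algebraMap R A)) ≫ a : Spec (CommRingCat.of B) ⟶ S) =
      Spec.map (CommRingCat.ofHom (algebraMap R ((Alg.restr R A).obj B))) ≫ a := by
  rw [← Category.assoc, ← Spec.map_comp]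
  rfl

/-- The map `M(Spec B → Spec R → S) → M(Spec B → Spec A → S)`. -/
noncomputable def rmap (B : Alg A) :
    ((restr R A).obj ((toMVF K a).obj M)).obj (pt B) →+ ((toMVF K (bOf a A)).obj M).obj (pt B) :=
  mp M.val (idOver (struct_eq a A B)).op

theorem rmap_bijective (B : Alg A) : Function.Bijective (rmap K M a A B) :=
  mp_idOver_bijective K M (struct_eq a A B)

theorem rmap_natural {B B' : Alg A} (f : B ⟶ B')
    (x : ((restr R A).obj ((toMVF K a).obj M)).obj (pt B)) :
    rmap K M a A B' (mp ((restr R A).obj ((toMVF K a).obj M)) (ptHom f) x) =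
      mp ((toMVF K (bOf a A)).obj M) (ptHom f) (rmap K M a A B x) :=
  mp_idOver_natural K M (struct_eq a A B) (struct_eq a A B')
    (Spec.map (CommRingCat.ofHom f.hom.toRingHom)) (Over.w ((specOver (bOf a A)).map f.op))
    (Over.w ((specOver a).map ((Alg.restr R A).map f).op)) x

theorem rmap_smul (B : Alg A) (r : B)
    (x : ((restr R A).obj ((toMVF K a).obj M)).obj (pt B)) :
    rmap K M a A B (r • x) = r • rmap K M a A B x :=
  mp_idOver_smul K M (struct_eq a A B)
    (ULift.up ((Scheme.ΓSpecIso (CommRingCat.of B)).inv.hom r)) x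

/-- The restriction of `F_{M,R}` to `A`-algebras is `F_{M,A}`. -/
noncomputable def restrHom :
    (restr R A).obj ((toMVF K a).obj M) ⟶ (toMVF K (bOf a A)).obj M :=
  PresheafOfModules.homMk
    { app := fun X => AddCommGrpCat.ofHom (rmap K M a A X.unop.unop)
      naturality := by
        intro X Y f
        ext x
        exact rmap_natural K M a A f.unop.unop x }
    (by
      intro X r m
      exact rmap_smul K M a A X.unop.unop r m)

instance restrHom_isIso : IsIso (restrHom K M a A) :=
  isIso_of_ap_bijective _ (fun X => rmap_bijective K M a A X.unop.unop)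

theorem adequate_restr_iff :
    adequate A ((restr R A).obj ((toMVF K a).obj M)) ↔ adequate A ((toMVF K (bOf a A)).obj M) :=
  (adequate A).prop_iff_of_iso (asIso (restrHom K M a A))

end Restr

end Groth.Agent.Lib.Seat39.BigMVF
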