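import Groth.Agent.Lib.Seat39BigAdeq

/-!
# Seat39: the module-valued functors of a pulled back module on the big site

`F_{f^* M, R}` for `a : Spec R ⟶ T` is `F_{M,R}` for `a ≫ f : Spec R ⟶ S`; adequacy of `f^* M`,
and descent of adequacy along a covering of the base.
-/
set_option autoImplicit false
universe u
open CategoryTheory Limits Opposite AlgebraicGeometry TensorProduct

attribute [-instance] Groth.Agent.Lib.Seat39.Restr.algRestr

namespace Groth.Agent.Lib.Seat39.BigPull

open Adeq Groth.Agent.Lib.Seat39.MVF Groth.Agent.Lib.Seat39.OverId Groth.Agent.Lib.Seat39.BigMVF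
  Groth.Agent.Lib.Seat39.BigAdeq

section Iso

variable (K : Precoverage Scheme.{u}) [BigSite.OSh K] {S T : Scheme.{u}} (f : T ⟶ S)
  (M : BigSite.Mod K S) {R : CommRingCat.{u}} (a : Spec R ⟶ T)

theorem pull_struct_eq (B : Alg R) :
    (Spec.map (CommRingCat.ofHom (algebraMap R B)) ≫ a ≫ f : Spec (CommRingCat.of B) ⟶ S) =
      (Spec.map (CommRingCat.ofHom (algebraMap R B)) ≫ a) ≫ f :=
  (Category.assoc _ _ _).symm

/-- The map `(f^* M)(Spec B → T) → M(Spec B → T → S)`. -/
noncomputable def pmap (B : Alg R) :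
    ((toMVF K a).obj ((BigSite.pullMod K f).obj M)).obj (pt B) →+
      ((toMVF K (a ≫ f)).obj M).obj (pt B) :=
  mp M.val (idOver (pull_struct_eq f a B)).op

theorem pmap_bijective (B : Alg R) : Function.Bijective (pmap K f M a B) :=
  mp_idOver_bijective K M (pull_struct_eq f a B)

theorem pmap_natural {B B' : Alg R} (φ : B ⟶ B')
    (x : ((toMVF K a).obj ((BigSite.pullMod K f).obj M)).obj (pt B)) :
    pmap K f M a B' (mp ((toMVF K a).obj ((BigSite.pullMod K f).obj M)) (ptHom φ) x) =
      mp ((toMVF K (a ≫ f)).obj M) (ptHom φ) (pmap K f M a B x) :=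
  mp_idOver_natural K M (pull_struct_eq f a B) (pull_struct_eq f a B')
    (Spec.map (CommRingCat.ofHom φ.hom.toRingHom)) (Over.w ((specOver (a ≫ f)).map φ.op))
    (Over.w ((Over.map f).map ((specOver a).map φ.op))) x

theorem pmap_smul (B : Alg R) (r : B)
    (x : ((toMVF K a).obj ((BigSite.pullMod K f).obj M)).obj (pt B)) :
    pmap K f M a B (r • x) = r • pmap K f M a B x :=
  mp_idOver_smul K M (pull_struct_eq f a B)
    (ULift.up ((Scheme.ΓSpecIso (CommRingCat.of B)).inv.hom r)) x

/-- `F_{f^* M, R} ≅ F_{M, R}`. -/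
noncomputable def pullHom :
    (toMVF K a).obj ((BigSite.pullMod K f).obj M) ⟶ (toMVF K (a ≫ f)).obj M :=
  PresheafOfModules.homMk
    { app := fun X => AddCommGrpCat.ofHom (pmap K f M a X.unop.unop)
      naturality := by
        intro X Y g
        ext x
        exact pmap_natural K f M a g.unop.unop x }
    (by
      intro X r m
      exact pmap_smul K f M a X.unop.unop r m)

instance pullHom_isIso : IsIso (pullHom K f M a) :=
  isIso_of_ap_bijective _ (fun X => pmap_bijective K f M a X.unop.unop)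

theorem adequate_pull_iff :
    adequate R ((toMVF K a).obj ((BigSite.pullMod K f).obj M)) ↔
      adequate R ((toMVF K (a ≫ f)).obj M) :=
  (adequate R).prop_iff_of_iso (asIso (pullHom K f M a))

end Iso

section Main

variable (K : Precoverage Scheme.{u}) [BigSite.OSh K] [K.IsStableUnderBaseChange]
  (hrefine : ∀ {S : Scheme.{u}} {ι : Type u} (X : ι → Scheme.{u}) (f : ∀ i, X i ⟶ S),
      Presieve.ofArrows X f ∈ K.coverings S → ∀ {R : CommRingCat.{u}} (a : Spec R ⟶ S),
      ∃ (n : ℕ) (A : Fin n → CommRingCat.{u}) (φ : ∀ j, R ⟶ A j),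
        Presieve.ofArrows (fun j => Spec (A j)) (fun j => Spec.map (φ j)) ∈ K.coverings (Spec R) ∧
        ∀ j, ∃ (i : ι) (h : Spec (A j) ⟶ X i), h ≫ f i = Spec.map (φ j) ≫ a)
  (hzar : Scheme.zariskiPrecoverage ≤ K)

include hrefine hzar in
/-- The pullback of an adequate module is adequate. -/
theorem adequateMod_pullMod {S T : Scheme.{u}} (f : T ⟶ S) (M : BigSite.Mod K S)
    (hM : adequateMod K S M) : adequateMod K T ((BigSite.pullMod K f).obj M) := by
  refine ⟨T.affineOpenCover.I₀, T.affineOpenCover.X, T.affineOpenCover.f, ?_, ?_⟩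
  · exact hzar _ T.affineOpenCover.cover.mem₀
  · intro i
    exact (adequate_pull_iff K f M _).mpr (adequate_of_adequateMod K hrefine S M hM _ _)

omit [K.IsStableUnderBaseChange] in
/-- Adequacy can be checked after pulling back to the members of a covering. -/
theorem adequateMod_of_cover_pullMod [K.IsStableUnderComposition] (S : Scheme.{u})
    (M : BigSite.Mod K S) (ι : Type u) (T : ι → Scheme.{u}) (f : ∀ i, T i ⟶ S)
    (hcov : Presieve.ofArrows T f ∈ K.coverings S)
    (h : ∀ i, adequateMod K (T i) ((BigSite.pullMod K (f i)).obj M)) : adequateMod K S M := by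
  choose κ R a hc hadq using h
  refine ⟨Σ i, κ i, fun p => R p.1 p.2, fun p => a p.1 p.2 ≫ f p.1, ?_, ?_⟩
  · exact K.comp_mem_coverings f hcov (fun i l => a i l) hc
  · rintro ⟨i, l⟩
    exact (adequate_pull_iff K (f i) M (a i l)).mp (hadq i l)

end Main

end Groth.Agent.Lib.Seat39.BigPull
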