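import Groth.Agent.Lib.Seat39EpiLoc

/-!
# Seat39: the unit `P ⟶ P^#` of the sheafification of a presheaf of modules, element level
-/
set_option autoImplicit false
universe u v v₁ u₁
open CategoryTheory Limits Opposite

namespace Groth.Agent.Lib.Seat39.ShfUnit

open Groth.Agent.Lib.Seat39.MVF

variable {C : Type u₁} [Category.{v₁} C] {J : GrothendieckTopology C} (R : Sheaf J RingCat.{u})
  [HasSheafify J AddCommGrpCat.{v}] [J.WEqualsLocallyBijective AddCommGrpCat.{v}]

/-- The sheafification of a presheaf of modules. -/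
noncomputable abbrev shf (P : PresheafOfModules.{v} R.obj) : SheafOfModules.{v} R :=
  (PresheafOfModules.sheafification (𝟙 R.obj)).obj P

/-- The unit `P ⟶ P^#`. -/
noncomputable def unitHom (P : PresheafOfModules.{v} R.obj) : P ⟶ (shf R P).val :=
  (PresheafOfModules.sheafificationAdjunction (𝟙 R.obj)).unit.app P

theorem unitHom_app (P : PresheafOfModules.{v} R.obj) (U : C) (x : P.obj (op U)) :
    ap (unitHom R P) (op U) x = (CategoryTheory.toSheafify J P.presheaf).app (op U) x := rfl

theorem unit_locally_injective (P : PresheafOfModules.{v} R.obj) (U : C) (x : P.obj (op U))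
    (hx : ap (unitHom R P) (op U) x = 0) :
    ∃ T ∈ J U, ∀ ⦃V : C⦄ (f : V ⟶ U), T f → mp P f.op x = 0 := by
  have hmem := Presheaf.equalizerSieve_mem J (CategoryTheory.toSheafify J P.presheaf)
    (X := op U) (x : P.presheaf.obj (op U)) (0 : P.presheaf.obj (op U))
    (by rw [map_zero]; exact hx)
  refine ⟨_, hmem, ?_⟩
  intro V f hf
  have h3 : P.presheaf.map f.op x = P.presheaf.map f.op 0 := hf
  rw [map_zero] at h3
  exact h3

theorem unit_locally_surjective (P : PresheafOfModules.{v} R.obj) (U : C)
    (s : (shf R P).val.obj (op U)) :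
    ∃ T ∈ J U, ∀ ⦃V : C⦄ (f : V ⟶ U), T f →
      ∃ x : P.obj (op V), ap (unitHom R P) (op V) x = mp (shf R P).val f.op s := by
  have hmem := Presheaf.imageSieve_mem J (CategoryTheory.toSheafify J P.presheaf)
    (U := op U) (s : (sheafify J P.presheaf).obj (op U))
  refine ⟨_, hmem, ?_⟩
  intro V f hf
  obtain ⟨x, hx⟩ := hf
  exact ⟨x, hx⟩

end Groth.Agent.Lib.Seat39.ShfUnit
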