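import Groth.Agent.Lib.Seat39AffineFamily
import Groth.Agent.Lib.Seat39ShfUnit
import Groth.Agent.Lib.Seat39AdeqFF
import Groth.Agent.Lib.Seat39BigMVF

/-!
# Seat39: the unit `P ⟶ P^#` is bijective on affine objects, for a presheaf of modules on the big
fppf site satisfying descent for finite affine fppf families
-/
set_option autoImplicit false
universe u
open CategoryTheory Limits Opposite AlgebraicGeometry TensorProduct

attribute [-instance] Groth.Agent.Lib.Seat39.Restr.algRestr

namespace Groth.Agent.Lib.Seat39.LemmaD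

open Adeq Groth.Agent.Lib.Seat39.MVF Groth.Agent.Lib.Seat39.OverId Groth.Agent.Lib.Seat39.BigMVF
  Groth.Agent.Lib.Seat39.AffineFamily Groth.Agent.Lib.Seat39.ShfUnit

variable {S : Scheme.{u}}

section Family

variable {R : CommRingCat.{u}} (a : Spec R ⟶ S)

/-- the restriction morphism `Spec C → Spec R` over `S` -/
noncomputable abbrev res (C : Type u) [CommRing C] [Algebra R C] :
    Over.mk (bOf a C) ⟶ Over.mk a :=
  Over.homMk (Spec.map (CommRingCat.ofHom (algebraMap R C))) rfl

theorem e₀ : bOf a R = a := by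
  have h : Spec.map (CommRingCat.ofHom (algebraMap R R)) = 𝟙 (Spec R) := Spec.map_id R
  exact (congrArg (· ≫ a) h).trans (Category.id_comp a)

theorem specOver_ι_comp (C : Type u) [CommRing C] [Algebra R C] :
    (specOver a).map (AdeqFF.ι R C).op ≫ idOver (e₀ a) = res a C := by
  ext
  change Spec.map (CommRingCat.ofHom (Algebra.ofId R C).toRingHom) ≫ 𝟙 _ = _
  rw [Category.comp_id]
  rfl

/-- A covering sieve of an affine object of the big fppf site contains a finite affine covering
family (algebra form). -/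
theorem exists_algebra_family_of_sieve
    (T : Sieve (Over.mk a)) (hT : T ∈ QuotSh.J Scheme.fppfPrecoverage S (Over.mk a)) :
    ∃ (n : ℕ) (C : Fin n → Type u) (_ : ∀ j, CommRing (C j)) (_ : ∀ j, Algebra R (C j)),
      Presieve.ofArrows (fun j => Spec (CommRingCat.of (C j)))
        (fun j => Spec.map (CommRingCat.ofHom (algebraMap R (C j)))) ∈
        Scheme.fppfPrecoverage.coverings (Spec R) ∧
      ∀ j, T (res a (C j)) := by
  obtain ⟨n, A, φ, hcov, hφ⟩ := exists_affine_family_of_sieve a T hT
  exact ⟨n, fun j => A j, fun j => inferInstance, fun j => (φ j).hom.toAlgebra, hcov, hφ⟩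

end Family

section Main

local notation "K" => Scheme.fppfPrecoverage

variable (P : PresheafOfModules.{u + 1} (BigSite.ORing K S).obj)

/-- `F_{P,R}` -/
noncomputable abbrev FP {R : CommRingCat.{u}} (a : Spec R ⟶ S) : MVF R := (toMVFPre K a).obj P

/-- `b ↦ b ⊗ 1` -/
noncomputable abbrev iLf {R : Type u} [CommRing R] (B C : Type u) [CommRing B] [CommRing C]
    [Algebra R B] [Algebra R C] : algOf R B ⟶ algOf R (B ⊗[R] C) :=
  CommAlgCat.ofHom (Algebra.TensorProduct.includeLeft : B →ₐ[R] B ⊗[R] C)

/-- `c ↦ 1 ⊗ c` -/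
noncomputable abbrev iRf {R : Type u} [CommRing R] (B C : Type u) [CommRing B] [CommRing C]
    [Algebra R B] [Algebra R C] : algOf R C ⟶ algOf R (B ⊗[R] C) :=
  CommAlgCat.ofHom (Algebra.TensorProduct.includeRight : C →ₐ[R] B ⊗[R] C)

/-- Separatedness of `P` for finite affine fppf families. -/
def AffSep : Prop :=
  ∀ {R : CommRingCat.{u}} (a : Spec R ⟶ S) {n : ℕ} (C : Fin n → Type u) [∀ j, CommRing (C j)]
    [∀ j, Algebra R (C j)],
    Presieve.ofArrows (fun j => Spec (CommRingCat.of (C j)))
        (fun j => Spec.map (CommRingCat.ofHom (algebraMap R (C j)))) ∈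
        Scheme.fppfPrecoverage.coverings (Spec R) →
    ∀ x : (FP P a).obj (pt (algOf R R)),
      (∀ j, mp (FP P a) (ptHom (AdeqFF.ι R (C j))) x = 0) → x = 0

/-- Gluing for `P` for finite affine fppf families. -/
def AffGlue : Prop :=
  ∀ {R : CommRingCat.{u}} (a : Spec R ⟶ S) {n : ℕ} (C : Fin n → Type u) [∀ j, CommRing (C j)]
    [∀ j, Algebra R (C j)],
    Presieve.ofArrows (fun j => Spec (CommRingCat.of (C j)))
        (fun j => Spec.map (CommRingCat.ofHom (algebraMap R (C j)))) ∈
        Scheme.fppfPrecoverage.coverings (Spec R) →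
    ∀ y : ∀ j, (FP P a).obj (pt (algOf R (C j))),
      (∀ j k, mp (FP P a) (ptHom (iLf (C j) (C k))) (y j) =
        mp (FP P a) (ptHom (iRf (C j) (C k))) (y k)) →
      ∃ x : (FP P a).obj (pt (algOf R R)), ∀ j, mp (FP P a) (ptHom (AdeqFF.ι R (C j))) x = y j

theorem mpP_idOver_refl {T : Scheme.{u}} (h : T ⟶ S) (x : P.obj (op (Over.mk h))) :
    mp P (idOver (rfl : h = h)).op x = x := by
  rw [mp_congr P (congrArg Quiver.Hom.op (idOver_refl h))]
  exact mp_id P _ x

theorem mpP_idOver_bijective {T : Scheme.{u}} {h₁ h₂ : T ⟶ S} (e : h₁ = h₂) :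
    Function.Bijective (mp P (idOver e).op) := by
  subst e
  have : (mp P (idOver (rfl : h₁ = h₁)).op : _ → _) = id := funext (mpP_idOver_refl P h₁)
  rw [this]
  exact Function.bijective_id

variable {R : CommRingCat.{u}} (a : Spec R ⟶ S)

/-- transport to the base point of `F_{P,R}` -/
noncomputable abbrev toBase : P.obj (op (Over.mk a)) →+ (FP P a).obj (pt (algOf R R)) :=
  mp P (idOver (e₀ a)).op

theorem toBase_bijective : Function.Bijective (toBase P a) := mpP_idOver_bijective P (e₀ a)

theorem toBase_res (C : Type u) [CommRing C] [Algebra R C] (x : P.obj (op (Over.mk a))) :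
    mp (FP P a) (ptHom (AdeqFF.ι R C)) (toBase P a x) = mp P (res a C).op x := by
  have h1 := mp_comp P (idOver (e₀ a)).op ((specOver a).map (AdeqFF.ι R C).op).op x
  refine h1.symm.trans ?_
  exact mp_congr P (congrArg Quiver.Hom.op (specOver_ι_comp a C)) x

/-- The unit `P ⟶ P^#` is injective on affine objects. -/
theorem unit_injective (hsep : AffSep P) (x : P.obj (op (Over.mk a)))
    (hx : ap (unitHom (BigSite.ORing K S) P) (op (Over.mk a)) x = 0) : x = 0 := by
  obtain ⟨T, hT, hTx⟩ := unit_locally_injective (BigSite.ORing K S) P (Over.mk a) x hx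
  obtain ⟨n, C, _, _, hcov, hC⟩ := exists_algebra_family_of_sieve a T hT
  have h0 : toBase P a x = 0 := by
    refine hsep a C hcov _ (fun j => ?_)
    rw [toBase_res]
    exact hTx _ (hC j)
  exact (toBase_bijective P a).1 (h0.trans (map_zero _).symm)

theorem specOver_map_comp_res {B B' : Type u} [CommRing B] [CommRing B'] [Algebra R B]
    [Algebra R B'] (f : algOf R B ⟶ algOf R B') :
    (specOver a).map f.op ≫ res a B = res a B' := by
  ext
  change Spec.map (CommRingCat.ofHom f.hom.toRingHom) ≫
    Spec.map (CommRingCat.ofHom (algebraMap R B)) = Spec.map (CommRingCat.ofHom (algebraMap R B'))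
  rw [← Spec.map_comp]
  congr 1
  ext r
  exact f.hom.commutes r

theorem unit_mp_of_res {B B' : Type u} [CommRing B] [CommRing B'] [Algebra R B]
    [Algebra R B'] (f : algOf R B ⟶ algOf R B')
    (s : (shf (BigSite.ORing K S) P).val.obj (op (Over.mk a)))
    (y : (FP P a).obj (pt (algOf R B)))
    (hy : ap (unitHom (BigSite.ORing K S) P) (op (Over.mk (bOf a B))) y =
      mp (shf (BigSite.ORing K S) P).val (res a B).op s) :
    ap (unitHom (BigSite.ORing K S) P) (op (Over.mk (bOf a B'))) (mp (FP P a) (ptHom f) y) =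
      mp (shf (BigSite.ORing K S) P).val (res a B').op s := by
  have h1 := ap_mp (unitHom (BigSite.ORing K S) P) ((specOver a).map f.op).op y
  refine h1.trans ?_
  have h2 := congrArg (mp (shf (BigSite.ORing K S) P).val ((specOver a).map f.op).op) hy
  refine h2.trans ?_
  have h3 := mp_comp (shf (BigSite.ORing K S) P).val (res a B).op ((specOver a).map f.op).op s
  refine h3.symm.trans ?_
  exact mp_congr _ (congrArg Quiver.Hom.op (specOver_map_comp_res a f)) s

/-- The unit `P ⟶ P^#` is surjective on affine objects. -/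
theorem unit_surjective (hsep : AffSep P) (hglue : AffGlue P)
    (s : (shf (BigSite.ORing K S) P).val.obj (op (Over.mk a))) :
    ∃ x : P.obj (op (Over.mk a)), ap (unitHom (BigSite.ORing K S) P) (op (Over.mk a)) x = s := by
  obtain ⟨T, hT, hTs⟩ := unit_locally_surjective (BigSite.ORing K S) P (Over.mk a) s
  obtain ⟨n, C, _, _, hcov, hC⟩ := exists_algebra_family_of_sieve a T hT
  choose y hy using fun j => hTs _ (hC j)
  have hcompat : ∀ j k, mp (FP P a) (ptHom (iLf (C j) (C k))) (y j) =
      mp (FP P a) (ptHom (iRf (C j) (C k))) (y k) := by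
    intro j k
    have hd := unit_injective P (bOf a (C j ⊗[R] C k)) hsep
      (mp (FP P a) (ptHom (iLf (C j) (C k))) (y j) - mp (FP P a) (ptHom (iRf (C j) (C k))) (y k))
      ((map_sub (ap (unitHom (BigSite.ORing K S) P) (op (Over.mk (bOf a (C j ⊗[R] C k))))) _ _).trans
        (sub_eq_zero.mpr ((unit_mp_of_res P a (iLf (C j) (C k)) s (y j) (hy j)).trans
          (unit_mp_of_res P a (iRf (C j) (C k)) s (y k) (hy k)).symm)))
    exact sub_eq_zero.mp hd
  obtain ⟨x', hx'⟩ := hglue a C hcov y hcompat
  obtain ⟨x, rfl⟩ := (toBase_bijective P a).2 x'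
  refine ⟨x, ?_⟩
  have hres : ∀ j, mp P (res a (C j)).op x = y j := fun j => (toBase_res P a (C j) x).symm.trans (hx' j)
  have hz : ap (unitHom (BigSite.ORing K S) P) (op (Over.mk a)) x - s = 0 := by
    have hE := @Groth.Agent.Lib.Seat39.EpiLoc.eq_zero_of_cover.{u} Scheme.fppfPrecoverage.{u} S _
      (shf.{u + 1, u + 1, u, u + 1} (BigSite.ORing K S) P) (Over.mk a)
      (ap (unitHom (BigSite.ORing K S) P) (op (Over.mk a)) x - s) _ hcov
    refine hE ?_
    intro V g hg
    obtain ⟨j⟩ := hg
    refine (map_sub (mp (shf (BigSite.ORing K S) P).val (res a (C j)).op) _ _).trans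
      (sub_eq_zero.mpr ?_)
    refine (ap_mp (unitHom (BigSite.ORing K S) P) (res a (C j)).op x).symm.trans ?_
    rw [hres j]
    exact hy j
  exact sub_eq_zero.mp hz

end Main

end Groth.Agent.Lib.Seat39.LemmaD
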