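import Mathlib.RingTheory.RingHom.FaithfullyFlat
import Mathlib.RingTheory.Flat.Basic
import Mathlib.LinearAlgebra.DFinsupp

/-!
# Seat39: a finite product of flat algebras whose spectra jointly cover is faithfully flat
-/
set_option autoImplicit false
universe u w

namespace Groth.Agent.Lib.Seat39.FFPi

variable {R : Type u} [CommRing R] {ι : Type w} [Fintype ι] [DecidableEq ι]
  (B : ι → Type u) [∀ i, CommRing (B i)] [∀ i, Algebra R (B i)]

omit [DecidableEq ι] in
theorem flat_pi (hflat : ∀ i, Module.Flat R (B i)) : Module.Flat R (∀ i, B i) :=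
  Module.Flat.of_linearEquiv (DFinsupp.linearEquivFunOnFintype (R := R) (M := B)).symm

theorem faithfullyFlat_pi (hflat : ∀ i, Module.Flat R (B i))
    (hsurj : ∀ p : PrimeSpectrum R, ∃ i, p ∈ Set.range (PrimeSpectrum.comap (algebraMap R (B i)))) :
    Module.FaithfullyFlat R (∀ i, B i) := by
  have := flat_pi B hflat
  refine Module.FaithfullyFlat.of_comap_surjective ?_
  intro p
  obtain ⟨i, q, hq⟩ := hsurj p
  refine ⟨PrimeSpectrum.comap (Pi.evalRingHom B i) q, ?_⟩
  rw [← hq]
  rfl

end Groth.Agent.Lib.Seat39.FFPi
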