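import Groth.Agent.Lib.Seat39LemmaD
import Groth.Agent.Lib.Seat39AdeqFam
import Groth.Agent.Lib.Seat39FFPi

/-!
# Seat39: sheafification of a presheaf of modules with adequate affine values (big fppf site)
-/
set_option autoImplicit false
universe u
open CategoryTheory Limits Opposite AlgebraicGeometry TensorProduct

attribute [-instance] Groth.Agent.Lib.Seat39.Restr.algRestr

namespace Groth.Agent.Lib.Seat39.ShfAdeq

open Adeq Groth.Agent.Lib.Seat39.MVF Groth.Agent.Lib.Seat39.OverId Groth.Agent.Lib.Seat39.BigMVF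
  Groth.Agent.Lib.Seat39.ShfUnit Groth.Agent.Lib.Seat39.LemmaD

/-- An affine fppf covering family of a scheme. -/
theorem exists_affine_fppf_cover (S : Scheme.{u}) :
    ∃ (ι : Type u) (R : ι → CommRingCat.{u}) (a : ∀ i, Spec (R i) ⟶ S),
      Presieve.ofArrows (fun i => Spec (R i)) a ∈ Scheme.fppfPrecoverage.coverings S := by
  refine ⟨S.affineCover.I₀, fun i => Γ(S.affineCover.X i, ⊤),
    fun i => (S.affineCover.X i).isoSpec.inv ≫ S.affineCover.f i, ?_⟩
  unfold Scheme.fppfPrecoverage
  rw [Scheme.ofArrows_mem_precoverage_iff]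
  constructor
  · intro x
    refine ⟨S.affineCover.idx x, ?_⟩
    obtain ⟨y, hy⟩ := S.affineCover.covers x
    refine ⟨(S.affineCover.X _).isoSpec.hom.base y, ?_⟩
    refine Eq.trans ?_ hy
    rw [← Scheme.Hom.comp_apply, Iso.hom_inv_id_assoc]
  · intro i
    exact ⟨inferInstance, inferInstance⟩

/-- A finite affine fppf covering family gives a faithfully flat product. -/
theorem ff_of_cover {R : CommRingCat.{u}} {n : ℕ} (C : Fin n → Type u) [∀ j, CommRing (C j)]
    [∀ j, Algebra R (C j)]
    (hcov : Presieve.ofArrows (fun j => Spec (CommRingCat.of (C j)))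
        (fun j => Spec.map (CommRingCat.ofHom (algebraMap R (C j)))) ∈
        Scheme.fppfPrecoverage.coverings (Spec R)) :
    Module.FaithfullyFlat R (∀ j, C j) := by
  unfold Scheme.fppfPrecoverage at hcov
  rw [Scheme.ofArrows_mem_precoverage_iff] at hcov
  obtain ⟨hsurj, hprop⟩ := hcov
  refine FFPi.faithfullyFlat_pi C (fun j => ?_) (fun p => ?_)
  · have h1 : Flat (Spec.map (CommRingCat.ofHom (algebraMap R (C j)))) := (hprop j).1
    rw [Flat.SpecMap_iff] at h1
    exact (RingHom.flat_algebraMap_iff).mp h1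
  · obtain ⟨j, q, hq⟩ := hsurj p
    exact ⟨j, q, hq⟩

section Main

variable {S : Scheme.{u}}
  (P : PresheafOfModules.{u + 1} (BigSite.ORing Scheme.fppfPrecoverage S).obj)
  (h : ∀ (R : CommRingCat.{u}) (a : Spec R ⟶ S),
    adequate R ((toMVFPre Scheme.fppfPrecoverage a).obj P))

include h

theorem affSep_of_adequate : AffSep P := by
  intro R a n C _ _ hcov x hx
  have := ff_of_cover C hcov
  exact AdeqFam.family_sep C (FP P a) (h R a) x hx

theorem affGlue_of_adequate : AffGlue P := by
  intro R a n C _ _ hcov y hy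
  have := ff_of_cover C hcov
  exact AdeqFam.family_glue C (FP P a) (h R a) y hy

/-- The map `F_{P,R} ⟶ F_{P^#,R}` induced by the unit is an isomorphism. -/
theorem isIso_unit_toMVFPre {R : CommRingCat.{u}} (a : Spec R ⟶ S) :
    IsIso ((toMVFPre Scheme.fppfPrecoverage a).map
      (unitHom (BigSite.ORing Scheme.fppfPrecoverage S) P)) := by
  refine isIso_of_ap_bijective _ (fun X => ⟨?_, ?_⟩)
  · refine (injective_iff_map_eq_zero _).mpr ?_
    intro x hx
    exact unit_injective P (bOf a X.unop.unop) (affSep_of_adequate P h) x hx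
  · intro s
    exact unit_surjective P (bOf a X.unop.unop) (affSep_of_adequate P h)
      (affGlue_of_adequate P h) s

theorem adequate_toMVF_shf {R : CommRingCat.{u}} (a : Spec R ⟶ S) :
    adequate R ((toMVF Scheme.fppfPrecoverage a).obj
      ((PresheafOfModules.sheafification (𝟙 (BigSite.ORing Scheme.fppfPrecoverage S).obj)).obj P)) := by
  have hiso := isIso_unit_toMVFPre P h a
  exact (adequate R).prop_of_iso (@asIso _ _ _ _ _ hiso) (h R a)

/-- The sheafification of a presheaf of modules with adequate affine values is adequate. -/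
theorem adequateMod_shf :
    adequateMod Scheme.fppfPrecoverage S
      ((PresheafOfModules.sheafification (𝟙 (BigSite.ORing Scheme.fppfPrecoverage S).obj)).obj P) := by
  obtain ⟨ι, R, a, hcov⟩ := exists_affine_fppf_cover S
  exact ⟨ι, R, a, hcov, fun i => adequate_toMVF_shf P h (a i)⟩

end Main

end Groth.Agent.Lib.Seat39.ShfAdeq
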