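import Groth.Agent.Lib.Seat39AmitsurRes
import Groth.Agent.Lib.Seat39LemmaD
import Groth.Agent.Lib.Seat39ShfAdeq
import Mathlib.CategoryTheory.Sites.EpiMono

/-!
# Seat39: on the big fppf site of a scheme, a section of the target of an epimorphism of abelian sheaves over an affine object
`Spec R` lifts after pulling back to `Spec B` for one faithfully flat `R`-algebra `B` generating a covering sieve
-/

set_option autoImplicit false
universe u
open CategoryTheory Limits AlgebraicGeometry Opposite

attribute [-instance] Groth.Agent.Lib.Seat39.Restr.algRestr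

namespace Groth.Agent.Lib.Seat39.BigRefine

open Groth.Agent.Lib.Seat69.Amitsur Groth.Agent.Lib.Seat39.OverPower Groth.Agent.Lib.Seat39.FreeSh
  Groth.Agent.Lib.Seat39.AmitsurRes Groth.Agent.Lib.Seat39.BigMVF Groth.Agent.Lib.Seat39.LemmaD

variable {T : Scheme.{u}}

local notation "JT" => QuotSh.J Scheme.fppfPrecoverage T

/-- epimorphisms of abelian sheaves on the big fppf site are locally surjective -/
theorem epi_locally_surjective {X₂ X₃ : Sheaf JT AddCommGrpCat.{u + 1}} (p : X₂ ⟶ X₃) [Epi p]
    (U : Over T) (s : X₃.obj.obj (op U)) :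
    ∃ S ∈ JT U, ∀ ⦃V : Over T⦄ (f : V ⟶ U), S f →
      ∃ t : X₂.obj.obj (op V), (p.hom.app (op V)).hom t = (X₃.obj.map f.op).hom s := by
  have h : Sheaf.IsLocallySurjective p :=
    (Sheaf.isLocallySurjective_iff_epi' AddCommGrpCat.{u + 1} p).mpr inferInstance
  refine ⟨_, Presheaf.imageSieve_mem JT p.hom s, ?_⟩
  intro V f hf
  exact hf

section Empty

/-- the empty sieve covers an object with empty underlying scheme -/
theorem bot_mem_of_isEmpty (Z : Over T) [IsEmpty Z.left] : (⊥ : Sieve Z) ∈ JT Z := by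
  have h1 : Sieve.ofArrows (fun j : PEmpty.{1} => (j.elim : Over T)) (fun j => (j.elim : _ ⟶ Z)) ∈ JT Z := by
    apply ofArrows_mem_J
    unfold Scheme.fppfPrecoverage
    rw [Scheme.ofArrows_mem_precoverage_iff]
    exact ⟨fun x => (IsEmpty.false x).elim, fun j => j.elim⟩
  refine GrothendieckTopology.superset_covering _ ?_ h1
  rw [Sieve.ofArrows, Sieve.generate_le_iff]
  rintro W f ⟨j⟩
  exact j.elim

theorem sect_eq_of_isEmpty (G : Sheaf JT AddCommGrpCat.{u + 1}) (Z : Over T) [IsEmpty Z.left]
    (x x' : G.obj.obj (op Z)) : x = x' :=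
  sect_ext JT G ⊥ (bot_mem_of_isEmpty Z) x x' (fun _ _ hf => hf.elim)

end Empty

section Pi

variable {R : CommRingCat.{u}} (w : Spec R ⟶ T) {n : ℕ} (C : Fin n → Type u) [∀ j, CommRing (C j)]
  [∀ j, Algebra R (C j)]

/-- the projection to a factor, on spectra -/
noncomputable abbrev ev (j : Fin n) : CommRingCat.of (∀ j, C j) ⟶ CommRingCat.of (C j) :=
  CommRingCat.ofHom (Pi.evalRingHom C j)

instance isOpenImmersion_ev (j : Fin n) : IsOpenImmersion (Spec.map (ev C j)) := by
  classical
  let := (Pi.evalRingHom C j).toAlgebra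
  have : IsLocalization.Away (Function.update (β := C) 0 j 1) (C j) := by
    apply IsLocalization.away_of_isIdempotentElem_of_mul
    · ext k; by_cases h : k = j <;> aesop
    · intro x y
      constructor
      · intro e; ext k; by_cases h : k = j <;> aesop
      · intro e; simpa using! congr_fun e j
    · exact Function.surjective_eval _
  exact IsOpenImmersion.of_isLocalization (Function.update 0 j 1)

theorem pi_cover :
    Presieve.ofArrows (fun j => Spec (CommRingCat.of (C j))) (fun j => Spec.map (ev C j)) ∈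
      Scheme.fppfPrecoverage.coverings (Spec (CommRingCat.of (∀ j, C j))) := by
  unfold Scheme.fppfPrecoverage
  rw [Scheme.ofArrows_mem_precoverage_iff]
  constructor
  · intro x
    obtain ⟨j, q, hq⟩ := PrimeSpectrum.exists_comap_evalRingHom_eq (R := C) x
    exact ⟨j, q, hq⟩
  · intro j
    exact ⟨inferInstance, inferInstance⟩

/-- the inclusion of a factor, over `T` -/
noncomputable def πj (j : Fin n) : Over.mk (bOf w (C j)) ⟶ Over.mk (bOf w (∀ j, C j)) :=
  Over.homMk (Spec.map (ev C j)) (by
    change Spec.map (ev C j) ≫ Spec.map (CommRingCat.ofHom (algebraMap R (∀ j, C j))) ≫ w =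
      Spec.map (CommRingCat.ofHom (algebraMap R (C j))) ≫ w
    rw [← Category.assoc, ← Spec.map_comp]
    rfl)

theorem πj_res (j : Fin n) : πj w C j ≫ LemmaD.res w (∀ j, C j) = LemmaD.res w (C j) := by
  apply Over.OverMorphism.ext
  change Spec.map (ev C j) ≫ Spec.map (CommRingCat.ofHom (algebraMap R (∀ j, C j))) =
    Spec.map (CommRingCat.ofHom (algebraMap R (C j)))
  rw [← Spec.map_comp]
  rfl

theorem isEmpty_of_ne {Z : Over T} {i j : Fin n} (hij : i ≠ j) (gi : Z ⟶ Over.mk (bOf w (C i)))
    (gj : Z ⟶ Over.mk (bOf w (C j))) (h : gi ≫ πj w C i = gj ≫ πj w C j) : IsEmpty Z.left := by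
  constructor
  intro z
  have h1 : gi.left ≫ Spec.map (ev C i) = gj.left ≫ Spec.map (ev C j) :=
    congrArg (fun t => t.left) h
  have h2 : (Spec.map (ev C i)).base (gi.left.base z) = (Spec.map (ev C j)).base (gj.left.base z) := by
    rw [← Scheme.Hom.comp_apply, ← Scheme.Hom.comp_apply, h1]
  have h3 : PrimeSpectrum.sigmaToPi C ⟨i, gi.left.base z⟩ = PrimeSpectrum.sigmaToPi C ⟨j, gj.left.base z⟩ :=
    h2
  exact hij (congrArg Sigma.fst (PrimeSpectrum.sigmaToPi_injective C h3))

theorem isSheafFor_pi (G : Sheaf JT AddCommGrpCat.{u + 1}) :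
    Presieve.IsSheafFor (G.obj ⋙ forget AddCommGrpCat.{u + 1})
      (Presieve.ofArrows (fun j => Over.mk (bOf w (C j))) (πj w C)) := by
  have h3 := (isSheaf_forget JT G) _
    (ofArrows_mem_J Scheme.fppfPrecoverage (fun j => Over.mk (bOf w (C j))) (πj w C) (pi_cover C))
  rwa [Sieve.ofArrows, ← Presieve.isSheafFor_iff_generate] at h3

/-- sections over the spectra of the factors glue to a section over the spectrum of the product -/
theorem glue_pi (G : Sheaf JT AddCommGrpCat.{u + 1})
    (t : ∀ j, G.obj.obj (op (Over.mk (bOf w (C j))))) :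
    ∃ x : G.obj.obj (op (Over.mk (bOf w (∀ j, C j)))), ∀ j, (G.obj.map (πj w C j).op).hom x = t j := by
  have h := (Presieve.isSheafFor_arrows_iff _ _).mp (isSheafFor_pi w C G)
  obtain ⟨x, hx, -⟩ := h t (by
    intro i j Z gi gj hij
    by_cases hne : i = j
    · subst hne
      have hl : gi.left ≫ Spec.map (ev C i) = gj.left ≫ Spec.map (ev C i) :=
        congrArg (fun t => t.left) hij
      have h2 : gi = gj := Over.OverMorphism.ext ((cancel_mono _).mp hl)
      rw [h2]
    · have := isEmpty_of_ne w C hne gi gj hij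
      exact sect_eq_of_isEmpty G Z _ _)
  exact ⟨x, hx⟩

/-- sections over the spectrum of the product are determined by their restrictions to the spectra of the factors -/
theorem sep_pi (G : Sheaf JT AddCommGrpCat.{u + 1})
    (x x' : G.obj.obj (op (Over.mk (bOf w (∀ j, C j)))))
    (h : ∀ j, (G.obj.map (πj w C j).op).hom x = (G.obj.map (πj w C j).op).hom x') : x = x' := by
  have h0 := (Presieve.isSheafFor_arrows_iff _ _).mp (isSheafFor_pi w C G)
  obtain ⟨t, ht, huniq⟩ := h0 (fun j => (G.obj.map (πj w C j).op).hom x) (by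
    intro i j Z gi gj hij
    change (G.obj.map gi.op).hom ((G.obj.map (πj w C i).op).hom x) =
      (G.obj.map gj.op).hom ((G.obj.map (πj w C j).op).hom x)
    have e1 : (G.obj.map gi.op).hom ((G.obj.map (πj w C i).op).hom x) =
        (G.obj.map (gi ≫ πj w C i).op).hom x := by
      rw [op_comp, Functor.map_comp]
      rfl
    have e2 : (G.obj.map gj.op).hom ((G.obj.map (πj w C j).op).hom x) =
        (G.obj.map (gj ≫ πj w C j).op).hom x := by
      rw [op_comp, Functor.map_comp]
      rfl
    rw [e1, e2, hij])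
  exact (huniq x (fun j => rfl)).trans (huniq x' (fun j => (h j).symm)).symm

end Pi

section Lift

variable {R : CommRingCat.{u}} (w : Spec R ⟶ T) (B : Type u) [CommRing B] [Algebra R B]

/-- the multiplication map `B ⊗ R → B` -/
noncomputable abbrev mu : M R B 1 →ₐ[R] B := lift R B 1 B (fun _ => AlgHom.id R B)

/-- `Spec B → Spec (B ⊗ R)` over `T` -/
noncomputable def lam : Over.mk (bOf w B) ⟶ Wn w B 1 :=
  Over.homMk (Spec.map (CommRingCat.ofHom (mu B).toRingHom)) (by
    change Spec.map (CommRingCat.ofHom (mu B).toRingHom) ≫ Spec.map (sM R B 1) ≫ w =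
      Spec.map (CommRingCat.ofHom (algebraMap R B)) ≫ w
    rw [← Category.assoc, ← Spec.map_comp]
    congr 2
    ext r
    exact (mu B).commutes r)

theorem lam_aug₀ : lam w B ≫ aug₀ w B = LemmaD.res w B := by
  apply Over.OverMorphism.ext
  change Spec.map (CommRingCat.ofHom (mu B).toRingHom) ≫ Spec.map (sM R B 1) =
    Spec.map (CommRingCat.ofHom (algebraMap R B))
  rw [← Spec.map_comp]
  congr 1
  ext r
  exact (mu B).commutes r

/-- `Spec (B ⊗ R) → Spec B` over `T` -/
noncomputable def kap : Wn w B 1 ⟶ Over.mk (bOf w B) :=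
  Over.homMk (Spec.map (rL R B 0)) (by
    change Spec.map (rL R B 0) ≫ Spec.map (sB R B) ≫ w = Spec.map (sM R B 1) ≫ w
    rw [← Category.assoc, ← Spec.map_comp, sB_rL])

theorem kap_res : kap w B ≫ LemmaD.res w B = aug₀ w B := by
  apply Over.OverMorphism.ext
  change Spec.map (rL R B 0) ≫ Spec.map (sB R B) = Spec.map (sM R B 1)
  rw [← Spec.map_comp, sB_rL]

variable {n : ℕ} (C : Fin n → Type u) [∀ j, CommRing (C j)] [∀ j, Algebra R (C j)]

/-- the spectrum of the product of a finite affine covering family generates a covering sieve -/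
theorem cov_sieve
    (hcov : Presieve.ofArrows (fun j => Spec (CommRingCat.of (C j)))
        (fun j => Spec.map (CommRingCat.ofHom (algebraMap R (C j)))) ∈
        Scheme.fppfPrecoverage.coverings (Spec R)) :
    Sieve.generate (Presieve.singleton (aug₀ w (∀ j, C j))) ∈ JT (Over.mk w) := by
  have h1 : Sieve.ofArrows (fun j => Over.mk (bOf w (C j))) (fun j => LemmaD.res w (C j)) ∈
      JT (Over.mk w) :=
    ofArrows_mem_J Scheme.fppfPrecoverage _ _ hcov
  refine GrothendieckTopology.superset_covering _ ?_ h1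
  rw [Sieve.ofArrows, Sieve.generate_le_iff]
  rintro W f ⟨j⟩
  refine ⟨_, πj w C j ≫ lam w (∀ j, C j), aug₀ w (∀ j, C j), Presieve.singleton.mk, ?_⟩
  rw [Category.assoc, lam_aug₀, πj_res]

/-- **Refinement.** A section of the target of an epimorphism over `Spec R` lifts over `Spec (B ⊗ R)` for some faithfully flat
`R`-algebra `B` whose spectrum generates a covering sieve. -/
theorem exists_lift {X₂ X₃ : Sheaf JT AddCommGrpCat.{u + 1}} (p : X₂ ⟶ X₃) [Epi p]
    (σ : X₃.obj.obj (op (Over.mk w))) :
    ∃ (B : Type u) (_ : CommRing B) (_ : Algebra R B) (_ : Module.FaithfullyFlat R B)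
      (_ : Sieve.generate (Presieve.singleton (aug₀ w B)) ∈ JT (Over.mk w)),
      ∃ t : X₂.obj.obj (op (Wn w B 1)),
        (p.hom.app (op (Wn w B 1))).hom t = (X₃.obj.map (aug₀ w B).op).hom σ := by
  obtain ⟨Sv, hSv, hlift⟩ := epi_locally_surjective p (Over.mk w) σ
  obtain ⟨n, C, _, _, hcov, hC⟩ := exists_algebra_family_of_sieve w Sv hSv
  have hff := Groth.Agent.Lib.Seat39.ShfAdeq.ff_of_cover C hcov
  choose t ht using fun j => hlift _ (hC j)
  obtain ⟨tB, htB⟩ := glue_pi w C X₂ t
  have hp : (p.hom.app (op (Over.mk (bOf w (∀ j, C j))))).hom tB =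
      (X₃.obj.map (LemmaD.res w (∀ j, C j)).op).hom σ := by
    apply sep_pi w C X₃
    intro j
    have e1 : (X₃.obj.map (πj w C j).op).hom ((p.hom.app (op (Over.mk (bOf w (∀ j, C j))))).hom tB) =
        (p.hom.app (op (Over.mk (bOf w (C j))))).hom ((X₂.obj.map (πj w C j).op).hom tB) :=
      (ConcreteCategory.congr_hom (p.hom.naturality (πj w C j).op) tB).symm
    have e2 : (X₃.obj.map (πj w C j).op).hom ((X₃.obj.map (LemmaD.res w (∀ j, C j)).op).hom σ) =
        (X₃.obj.map (πj w C j ≫ LemmaD.res w (∀ j, C j)).op).hom σ := by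
      rw [op_comp, Functor.map_comp]
      rfl
    rw [e1, e2, htB, ht, πj_res]
  refine ⟨∀ j, C j, inferInstance, inferInstance, hff, cov_sieve w C hcov,
    (X₂.obj.map (kap w (∀ j, C j)).op).hom tB, ?_⟩
  have e3 : (p.hom.app (op (Wn w (∀ j, C j) 1))).hom ((X₂.obj.map (kap w (∀ j, C j)).op).hom tB) =
      (X₃.obj.map (kap w (∀ j, C j)).op).hom
        ((p.hom.app (op (Over.mk (bOf w (∀ j, C j))))).hom tB) :=
    ConcreteCategory.congr_hom (p.hom.naturality (kap w (∀ j, C j)).op) tB
  rw [e3, hp, ← kap_res]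
  rw [op_comp, Functor.map_comp]
  rfl

end Lift

end Groth.Agent.Lib.Seat39.BigRefine
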