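import Groth.Agent.Lib.Seat39Adeq
import Groth.Agent.Lib.Seat39AdeqCoker

/-!
# Seat39: pushforward of adequate functors along a ring map
-/
set_option autoImplicit false
universe u v
open CategoryTheory Limits Opposite TensorProduct

namespace Groth.Agent.Lib.Seat39.Push

section Alg

variable {A A' : Type u} [CommRing A] [CommRing A'] [Algebra A A']
  {B C : Type u} [CommRing B] [Algebra A B] [CommRing C] [Algebra A C]
  {M N : Type v} [AddCommGroup M] [Module A M] [Module A' M] [IsScalarTower A A' M]
  [AddCommGroup N] [Module A N] [Module A' N] [IsScalarTower A A' N]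

variable (A A' B M) in
/-- `(A' ⊗ B) ⊗_{A'} M ≃ B ⊗_A M`. -/
noncomputable def kap : (A' ⊗[A] B) ⊗[A'] M ≃+ B ⊗[A] M :=
  ((TensorProduct.comm A' (A' ⊗[A] B) M).toAddEquiv.trans
    (TensorProduct.AlgebraTensorModule.cancelBaseChange A A' A' M B).toAddEquiv).trans
    (TensorProduct.comm A M B).toAddEquiv

theorem kap_tmul (a' : A') (b : B) (m : M) :
    kap A A' B M ((a' ⊗ₜ[A] b) ⊗ₜ[A'] m) = b ⊗ₜ[A] (a' • m) := by
  simp [kap]

theorem kap_smul (b₀ : B) (t : (A' ⊗[A] B) ⊗[A'] M) :
    kap A A' B M (((1 : A') ⊗ₜ[A] b₀ : A' ⊗[A] B) • t) = b₀ • kap A A' B M t := by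
  induction t using TensorProduct.induction_on with
  | zero => simp
  | tmul s m =>
    induction s using TensorProduct.induction_on with
    | zero => simp
    | tmul a' b =>
      rw [TensorProduct.smul_tmul', smul_eq_mul, Algebra.TensorProduct.tmul_mul_tmul, one_mul,
        kap_tmul, kap_tmul, TensorProduct.smul_tmul', smul_eq_mul]
    | add x y hx hy =>
      rw [TensorProduct.add_tmul, smul_add, map_add, hx, hy, map_add, smul_add]
  | add x y hx hy => rw [smul_add, map_add, hx, hy, map_add, smul_add]

theorem kap_rTensor (f : B →ₐ[A] C) (t : (A' ⊗[A] B) ⊗[A'] M) :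
    kap A A' C M ((Algebra.TensorProduct.map (AlgHom.id A' A') f).toLinearMap.rTensor M t) =
      f.toLinearMap.rTensor M (kap A A' B M t) := by
  induction t using TensorProduct.induction_on with
  | zero => simp
  | tmul s m =>
    induction s using TensorProduct.induction_on with
    | zero => simp
    | tmul a' b =>
      rw [LinearMap.rTensor_tmul, AlgHom.toLinearMap_apply, Algebra.TensorProduct.map_tmul,
        kap_tmul, kap_tmul, LinearMap.rTensor_tmul]
      rfl
    | add x y hx hy =>
      rw [TensorProduct.add_tmul, map_add, map_add, hx, hy, map_add, map_add]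
  | add x y hx hy => rw [map_add, map_add, hx, hy, map_add, map_add]

theorem kap_baseChange (g : M →ₗ[A'] N) (t : (A' ⊗[A] B) ⊗[A'] M) :
    kap A A' B N (g.baseChange (A' ⊗[A] B) t) =
      (g.restrictScalars A).baseChange B (kap A A' B M t) := by
  induction t using TensorProduct.induction_on with
  | zero => simp
  | tmul s m =>
    induction s using TensorProduct.induction_on with
    | zero => simp
    | tmul a' b =>
      rw [LinearMap.baseChange_tmul, kap_tmul, kap_tmul, LinearMap.baseChange_tmul]
      congr 1
      exact (map_smul g a' m).symm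
    | add x y hx hy =>
      rw [TensorProduct.add_tmul, map_add, map_add, hx, hy, map_add, map_add]
  | add x y hx hy => rw [map_add, map_add, hx, hy, map_add, map_add]

end Alg

section MVF

open Adeq Groth.Agent.Lib.Seat39.MVF Groth.Agent.Lib.Seat39.AdeqF

variable (A A' : Type u) [CommRing A] [CommRing A'] [Algebra A A']

/-- Restriction of scalars of a module. -/
noncomputable abbrev rsMod (M' : ModuleCat.{u + 1} A') : ModuleCat.{u + 1} A :=
  (ModuleCat.restrictScalars (algebraMap A A')).obj M'

instance towerRs (M' : ModuleCat.{u + 1} A') : IsScalarTower A A' (rsMod A A' M') :=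
  IsScalarTower.of_algebraMap_smul (fun _ _ => rfl)

instance towerRs' (M' : ModuleCat.{u + 1} A') :
    letI : Module A' (rsMod A A' M') := M'.isModule
    IsScalarTower A A' (rsMod A A' M') :=
  letI : Module A' (rsMod A A' M') := M'.isModule
  IsScalarTower.of_algebraMap_smul (fun _ _ => rfl)

/-- Restriction of scalars of a map. -/
noncomputable abbrev rsHom {M' N' : ModuleCat.{u + 1} A'} (φ : M' ⟶ N') : rsMod A A' M' ⟶ rsMod A A' N' :=
  (ModuleCat.restrictScalars (algebraMap A A')).map φ

/-- The comparison `push (underline M') → underline (M'|_A)`. -/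
noncomputable def eta (M' : ModuleCat.{u + 1} A') :
    (push A A').obj ((underline A').obj M') ⟶ (underline A).obj (rsMod A A' M') :=
  PresheafOfModules.homMk
    { app := fun X => AddCommGrpCat.ofHom
        (kap A A' (X.unop.unop : Type u) (rsMod A A' M')).toAddMonoidHom
      naturality := by
        intro X Y f
        ext t
        exact kap_rTensor (A := A) (A' := A') (M := rsMod A A' M') f.unop.unop.hom t }
    (by
      intro X r m
      exact kap_smul (A := A) (A' := A') (B := (X.unop.unop : Type u)) (M := rsMod A A' M') r m)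

theorem eta_apply (M' : ModuleCat.{u + 1} A') (B : Alg A)
    (t : (A' ⊗[A] (B : Type u)) ⊗[A'] M') :
    ap (eta A A' M') (pt B) t = kap A A' (B : Type u) (rsMod A A' M') t := rfl

theorem eta_bijective (M' : ModuleCat.{u + 1} A') (X) : Function.Bijective (ap (eta A A' M') X) := by
  obtain ⟨⟨B⟩⟩ := X
  exact (kap A A' (B : Type u) (rsMod A A' M')).bijective

theorem eta_natural {M' N' : ModuleCat.{u + 1} A'} (φ : M' ⟶ N') :
    (push A A').map ((underline A').map φ) ≫ eta A A' N' =
      eta A A' M' ≫ (underline A).map (rsHom A A' φ) := by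
  apply hom_ext_ap
  rintro ⟨⟨B⟩⟩ t
  exact kap_baseChange (A := A) (A' := A') (B := (B : Type u)) (M := rsMod A A' M')
    (N := rsMod A A' N') φ.hom t

/-- The pushforward of a presented functor is presented by the restricted modules. -/
noncomputable def presPush {F' : MVF A'} (P : Pres F') : Pres ((push A A').obj F') where
  M := rsMod A A' P.M
  N := rsMod A A' P.N
  φ := rsHom A A' P.φ
  j := (push A A').map P.j ≫ eta A A' P.M
  inj := by
    rintro ⟨⟨B⟩⟩ x y hxy
    rw [ap_comp, ap_comp] at hxy
    exact P.inj (pt ((Alg.baseChange A A').obj B)) ((eta_bijective A A' P.M (pt B)).1 hxy)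
  zero := by
    rw [Category.assoc, ← eta_natural, ← Category.assoc, ← Functor.map_comp, P.zero]
    have h0 : (push A A').map (0 : F' ⟶ (underline A').obj P.N) = 0 := by
      apply hom_ext_ap
      intro X x
      rfl
    rw [h0, zero_comp]
  exact := by
    rintro ⟨⟨B⟩⟩ p hp
    obtain ⟨q, hq⟩ := (eta_bijective A A' P.M (pt B)).2 p
    have h1 : ap ((underline A').map P.φ) (pt ((Alg.baseChange A A').obj B)) q = 0 := by
      apply (eta_bijective A A' P.N (pt B)).1
      have := congrArg (fun t => ap t (pt B) q) (eta_natural A A' P.φ)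
      simp only [ap_comp] at this
      refine this.trans ?_
      rw [hq, hp]
      exact (map_zero (ap (eta A A' P.N) (pt B))).symm
    obtain ⟨y, hy⟩ := P.exact (pt ((Alg.baseChange A A').obj B)) _ h1
    refine ⟨y, ?_⟩
    exact (congrArg (ap (eta A A' P.M) (pt B)) hy).trans hq

theorem adequate_push (F' : MVF A') (hF' : adequate A' F') : adequate A ((push A A').obj F') := by
  obtain ⟨P⟩ := (adequate_iff_nonempty_pres F').mp hF'
  exact (presPush A A' P).adequate

end MVF

end Groth.Agent.Lib.Seat39.Push
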