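import Groth.Agent.Lib.Seat39Restr
import Groth.Agent.Lib.Seat39Push
import Groth.Agent.Lib.Seat39AdeqKer

/-!
# Seat39: descent of adequacy along a ring map
-/
set_option autoImplicit false
universe u
open CategoryTheory Limits Opposite TensorProduct

namespace Groth.Agent.Lib.Seat39.Descent

open Adeq Groth.Agent.Lib.Seat39.MVF Groth.Agent.Lib.Seat39.AdeqF

variable (A A' : Type u) [CommRing A] [CommRing A'] [Algebra A A']

theorem unit_naturality {B C : Alg A} (f : B ⟶ C) :
    Alg.unit A A' B ≫ (Alg.restr A A').map ((Alg.baseChange A A').map f) = f ≫ Alg.unit A A' C := by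
  apply ConcreteCategory.hom_ext
  intro b
  exact Algebra.TensorProduct.map_tmul (AlgHom.id A' A') f.hom (1 : A') b

theorem unit_square (G : MVF A) {X Y : (Alg A)ᵒᵖᵒᵖ} (f : X ⟶ Y) (x : G.obj X) :
    mp G (ptHom (Alg.unit A A' Y.unop.unop)) (mp G f x) =
      mp G (ptHom ((Alg.restr A A').map ((Alg.baseChange A A').map f.unop.unop)))
        (mp G (ptHom (Alg.unit A A' X.unop.unop)) x) := by
  rw [← mp_comp, ← mp_comp]
  apply mp_congr
  exact (congrArg ptHom (unit_naturality A A' f.unop.unop)).symm

/-- The functor `B ↦ G(A' ⊗ B)`. -/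
noncomputable abbrev PR (G : MVF A) : MVF A := (push A A').obj ((restr A A').obj G)

/-- The map `G(B) → G(A' ⊗ B)` as a morphism of module-valued functors. -/
noncomputable def uMor (G : MVF A) : G ⟶ PR A A' G :=
  PresheafOfModules.homMk
    { app := fun X => AddCommGrpCat.ofHom (mp G (ptHom (Alg.unit A A' X.unop.unop)))
      naturality := by
        intro X Y f
        ext x
        exact unit_square A A' G f x }
    (by
      intro X r m
      exact mp_smul G (ptHom (Alg.unit A A' X.unop.unop)) r m)

theorem uMor_apply (G : MVF A) (B : Alg A) (x : G.obj (pt B)) :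
    ap (uMor A A' G) (pt B) x = mp G (ptHom (Alg.unit A A' B)) x := rfl

theorem push_restr_map_apply {G G' : MVF A} (φ : G ⟶ G') (B : Alg A) (y : (PR A A' G).obj (pt B)) :
    ap ((push A A').map ((restr A A').map φ)) (pt B) y =
      ap φ (pt ((Alg.restr A A').obj ((Alg.baseChange A A').obj B))) y := rfl

theorem uMor_natural {G G' : MVF A} (φ : G ⟶ G') :
    uMor A A' G ≫ (push A A').map ((restr A A').map φ) = φ ≫ uMor A A' G' := by
  apply hom_ext_ap
  rintro ⟨⟨B⟩⟩ x
  rw [ap_comp, ap_comp]
  change ap ((push A A').map ((restr A A').map φ)) (pt B) (ap (uMor A A' G) (pt B) x) =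
    ap (uMor A A' G') (pt B) (ap φ (pt B) x)
  exact ap_mp φ (ptHom (Alg.unit A A' B)) x

variable {A A'} in
theorem adequate_of_descent (F : MVF A) (h₁ : adequate A' ((restr A A').obj F))
    (hinj : ∀ B : Alg A, Function.Injective (mp F (ptHom (Alg.unit A A' B))))
    (hex : ∀ (B : Alg A) (y : (PR A A' F).obj (pt B)),
      ap ((push A A').map ((restr A A').map (uMor A A' F))) (pt B) y =
        ap (uMor A A' (PR A A' F)) (pt B) y → ∃ x : F.obj (pt B), ap (uMor A A' F) (pt B) x = y) :
    adequate A F := by
  have hF₁ : adequate A (PR A A' F) := Push.adequate_push A A' _ h₁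
  have hF₂ : adequate A (PR A A' (PR A A' F)) :=
    Push.adequate_push A A' _ (Restr.adequate_restr A A' _ hF₁)
  let d : PR A A' F ⟶ PR A A' (PR A A' F) :=
    (push A A').map ((restr A A').map (uMor A A' F)) - uMor A A' (PR A A' F)
  have hd : uMor A A' F ≫ d = 0 := by
    rw [Preadditive.comp_sub, uMor_natural, sub_self]
  have hK : adequate A (kernel d) := adequate_kernel d hF₁ hF₂
  have hiso : IsIso (kernel.lift d (uMor A A' F) hd) := by
    apply isIso_of_ap_bijective
    rintro ⟨⟨B⟩⟩
    constructor
    · intro x y hxy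
      apply hinj B
      have := congrArg (ap (kernel.ι d) (pt B)) hxy
      rwa [← ap_comp, ← ap_comp, kernel.lift_ι] at this
    · intro k
      have h0 : ap d (pt B) (ap (kernel.ι d) (pt B) k) = 0 := kernel_ι_comp_apply d (pt B) k
      have h1 : ap ((push A A').map ((restr A A').map (uMor A A' F))) (pt B)
            (ap (kernel.ι d) (pt B) k) =
          ap (uMor A A' (PR A A' F)) (pt B) (ap (kernel.ι d) (pt B) k) := by
        exact sub_eq_zero.mp h0
      obtain ⟨x, hx⟩ := hex B _ h1
      refine ⟨x, kernel_ι_injective d (pt B) ?_⟩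
      rw [← ap_comp, kernel.lift_ι, hx]
  exact (adequate A).prop_of_iso (asIso (kernel.lift d (uMor A A' F) hd)).symm hK

end Groth.Agent.Lib.Seat39.Descent
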