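import Groth.Agent.Lib.Seat39BigKer
import Groth.Agent.Lib.Seat39CoverRefine

/-!
# Seat39: epimorphisms of sheaves of modules are locally surjective (element form);
covering sieves of the big site contain covering families; sections vanishing on a cover vanish.
-/
set_option autoImplicit false
universe u v v₁ u₁
open CategoryTheory Limits Opposite AlgebraicGeometry

namespace Groth.Agent.Lib.Seat39.EpiLoc

open Groth.Agent.Lib.Seat39.MVF

section General

variable {C : Type u₁} [Category.{v₁} C] {J : GrothendieckTopology C} (R : Sheaf J RingCat.{u})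
  [HasSheafify J AddCommGrpCat.{v}] [J.WEqualsLocallyBijective AddCommGrpCat.{v}]

/-- If the sheafification of a presheaf of modules is zero, every section is locally zero. -/
theorem locally_zero_of_isZero_sheafification (Q : PresheafOfModules.{v} R.obj)
    (hQ : IsZero ((PresheafOfModules.sheafification (𝟙 R.obj)).obj Q)) (U : C) (q : Q.obj (op U)) :
    ∃ T ∈ J U, ∀ ⦃V : C⦄ (f : V ⟶ U), T f → mp Q f.op q = 0 := by
  have hsub : ∀ x y : ((PresheafOfModules.sheafification (𝟙 R.obj)).obj Q).val.obj (op U), x = y := by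
    intro x y
    have h1 : (𝟙 ((PresheafOfModules.sheafification (𝟙 R.obj)).obj Q)) = 0 := hQ.eq_of_src _ _
    have h2 : ∀ z : ((PresheafOfModules.sheafification (𝟙 R.obj)).obj Q).val.obj (op U), z = 0 := by
      intro z
      have : ap (SheafOfModules.Hom.val
          (𝟙 ((PresheafOfModules.sheafification (𝟙 R.obj)).obj Q))) (op U) z = 0 := by
        rw [h1]; rfl
      exact this
    rw [h2 x, h2 y]
  have hinj : Presheaf.IsLocallyInjective J (CategoryTheory.toSheafify J Q.presheaf) := inferInstance
  have hmem := Presheaf.equalizerSieve_mem J (CategoryTheory.toSheafify J Q.presheaf)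
    (X := op U) (q : Q.presheaf.obj (op U)) (0 : Q.presheaf.obj (op U)) (hsub _ _)
  refine ⟨_, hmem, ?_⟩
  intro V f hf
  have h3 : Q.presheaf.map f.op q = Q.presheaf.map f.op 0 := hf
  rw [map_zero] at h3
  exact h3

/-- The right adjoint of sheafification. -/
noncomputable abbrev G : SheafOfModules.{v} R ⥤ PresheafOfModules.{v} R.obj :=
  SheafOfModules.forget R ⋙ PresheafOfModules.restrictScalars (𝟙 R.obj)

/-- The sheafification of the presheaf cokernel of an epimorphism of sheaves of modules is zero. -/
theorem isZero_sheafification_cokernel {M N : SheafOfModules.{v} R} (φ : M ⟶ N) [Epi φ] :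
    IsZero ((PresheafOfModules.sheafification (𝟙 R.obj)).obj
      (cokernel ((G R).map φ))) := by
  let a := PresheafOfModules.sheafification.{v} (𝟙 R.obj)
  let adj := PresheafOfModules.sheafificationAdjunction.{v} (𝟙 R.obj)
  have hnat : a.map ((G R).map φ) ≫ adj.counit.app N = adj.counit.app M ≫ φ :=
    adj.counit.naturality φ
  have hepi : Epi (a.map ((G R).map φ)) := by
    have h1 : a.map ((G R).map φ) = adj.counit.app M ≫ φ ≫ inv (adj.counit.app N) := by
      rw [← Category.assoc, ← hnat, Category.assoc, IsIso.hom_inv_id, Category.comp_id]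
    rw [h1]
    infer_instance
  have : a.IsLeftAdjoint := adj.isLeftAdjoint
  have hπ : Epi (a.map (cokernel.π ((G R).map φ))) := inferInstance
  have hz : a.map (cokernel.π ((G R).map φ)) = 0 := by
    rw [← cancel_epi (a.map ((G R).map φ)), ← a.map_comp, cokernel.condition, comp_zero,
      Functor.map_zero]
  rw [IsZero.iff_id_eq_zero, ← cancel_epi (a.map (cokernel.π ((G R).map φ))), hz, zero_comp,
    zero_comp]

/-- An epimorphism of sheaves of modules is locally surjective (element form). -/
theorem epi_locally_surjective {M N : SheafOfModules.{v} R} (φ : M ⟶ N) [Epi φ] (U : C)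
    (y : N.val.obj (op U)) :
    ∃ T ∈ J U, ∀ ⦃V : C⦄ (f : V ⟶ U), T f →
      ∃ z : M.val.obj (op V), ap φ.val (op V) z = mp N.val f.op y := by
  obtain ⟨T, hT, h⟩ := locally_zero_of_isZero_sheafification R _
    (isZero_sheafification_cokernel R φ) U
    (ap (cokernel.π ((G R).map φ)) (op U) (y : ((G R).obj N).obj (op U)))
  refine ⟨T, hT, fun V f hf => ?_⟩
  have h1 := h f hf
  have h2 := ap_mp (cokernel.π ((G R).map φ)) f.op (y : ((G R).obj N).obj (op U))
  obtain ⟨z, hz⟩ := cokernel_π_exact ((G R).map φ) (op V) _ (h2.trans h1)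
  exact ⟨z, hz⟩

end General

section Big

variable (K : Precoverage Scheme.{u}) {S : Scheme.{u}}

/-- A covering sieve of the big site contains (the lift of) a covering family. -/
theorem exists_cover_le [K.IsStableUnderComposition] [K.IsStableUnderBaseChange] [K.HasPullbacks]
    [K.HasIsos] {U : Over S} (T : Sieve U) (hT : T ∈ QuotSh.J K S U) :
    ∃ P ∈ K.coverings U.left, ∀ ⦃V : Scheme.{u}⦄ (g : V ⟶ U.left), P g →
      T (Over.homMk g rfl : Over.mk (g ≫ U.hom) ⟶ U) := by
  rw [GrothendieckTopology.mem_over_iff,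
    Precoverage.mem_toGrothendieck_iff_of_isStableUnderComposition] at hT
  obtain ⟨P, hP, hle⟩ := hT
  refine ⟨P, hP, fun V g hg => ?_⟩
  have := hle _ _ hg
  rwa [Sieve.overEquiv_iff] at this

variable [BigSite.OSh K]

/-- A section of a sheaf of modules on the big site which vanishes on a covering family is zero. -/
theorem eq_zero_of_cover (M : BigSite.Mod K S) {U : Over S} (x : M.val.obj (op U))
    (P : Presieve U.left) (hP : P ∈ K.coverings U.left)
    (h : ∀ ⦃V : Scheme.{u}⦄ (g : V ⟶ U.left), P g →
      mp M.val (Over.homMk g rfl : Over.mk (g ≫ U.hom) ⟶ U).op x = 0) : x = 0 := by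
  have h1 := (Presheaf.isSheaf_iff_isSheaf_forget (QuotSh.J K S) M.val.presheaf
    (forget AddCommGrpCat)).mp M.isSheaf
  have h2 := (isSheaf_iff_isSheaf_of_type _ _).mp h1
  have hmem : (Sieve.overEquiv U).symm (Sieve.generate P) ∈ QuotSh.J K S U := by
    rw [GrothendieckTopology.mem_over_iff]
    have := (Sieve.overEquiv U).apply_symm_apply (Sieve.generate P)
    rw [this]
    exact Precoverage.generate_mem_toGrothendieck hP
  have h3 := (h2 _ hmem).isSeparatedFor
  refine h3.ext ?_
  intro V f hf
  rw [Sieve.overEquiv_symm_iff] at hf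
  obtain ⟨W, l, r, hr, hlr⟩ := hf
  have hw : l ≫ (r ≫ U.hom) = V.hom := by
    rw [← Category.assoc, hlr, Over.w]
  have hfac : f = (Over.homMk l hw : V ⟶ Over.mk (r ≫ U.hom)) ≫ Over.homMk r rfl := by
    ext
    simp [hlr]
  change mp M.val f.op x = mp M.val f.op 0
  rw [map_zero, mp_congr M.val (congrArg Quiver.Hom.op hfac), op_comp, mp_comp, h r hr, map_zero]

end Big

section Fppf

theorem fppf_containsIdentities : MorphismProperty.ContainsIdentities
    ((@Flat.{u} ⊓ @LocallyOfFinitePresentation.{u} : MorphismProperty Scheme.{u})) where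
  id_mem X := ⟨inferInstanceAs (Flat (𝟙 X)), inferInstanceAs (LocallyOfFinitePresentation (𝟙 X))⟩

theorem fppf_respectsIso : MorphismProperty.RespectsIso
    ((@Flat.{u} ⊓ @LocallyOfFinitePresentation.{u} : MorphismProperty Scheme.{u})) := by
  have := Groth.Agent.Lib.Seat39.CoverRefine.fppf_isStableUnderBaseChange.{u}
  infer_instance

theorem fppf_hasIsos : Scheme.fppfPrecoverage.{u}.HasIsos := by
  unfold Scheme.fppfPrecoverage
  have := fppf_containsIdentities.{u}
  have := fppf_respectsIso.{u}
  infer_instance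

/-- A covering sieve of the big fppf site contains (the lift of) an fppf covering family. -/
theorem exists_fppf_cover_le {S : Scheme.{u}} {U : Over S} (T : Sieve U)
    (hT : T ∈ QuotSh.J Scheme.fppfPrecoverage S U) :
    ∃ P ∈ Scheme.fppfPrecoverage.coverings U.left, ∀ ⦃V : Scheme.{u}⦄ (g : V ⟶ U.left), P g →
      T (Over.homMk g rfl : Over.mk (g ≫ U.hom) ⟶ U) :=
  haveI := fppf_hasIsos.{u}
  exists_cover_le Scheme.fppfPrecoverage T hT

theorem flat_of_mem_fppf {X : Scheme.{u}} {P : Presieve X}
    (hP : P ∈ Scheme.fppfPrecoverage.coverings X) {V : Scheme.{u}} {g : V ⟶ X} (hg : P g) :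
    Flat g := (hP.2 hg).1

theorem lfp_of_mem_fppf {X : Scheme.{u}} {P : Presieve X}
    (hP : P ∈ Scheme.fppfPrecoverage.coverings X) {V : Scheme.{u}} {g : V ⟶ X} (hg : P g) :
    LocallyOfFinitePresentation g := (hP.2 hg).2

end Fppf

end Groth.Agent.Lib.Seat39.EpiLoc
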