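import Groth.Agent.Lib.Seat39Split
import Groth.Agent.Lib.Seat39AdeqColim

/-!
# Seat39: an extension of adequate functors is adequate
-/
set_option autoImplicit false
universe u v
open CategoryTheory Limits Opposite TensorProduct

namespace Groth.Agent.Lib.Seat39.Tsz

open Adeq Groth.Agent.Lib.Seat39.MVF Groth.Agent.Lib.Seat39.AdeqF

variable {A : Type u} [CommRing A]

section Biprod

variable {X Y Z : MVF A}

theorem biprod_decomp (U) (z : (X ⊞ Y).obj U) :
    z = ap biprod.inl U (ap biprod.fst U z) + ap biprod.inr U (ap biprod.snd U z) := by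
  have h := congrArg (fun t => ap t U z) (biprod.total (X := X) (Y := Y))
  simp only [ap_add, ap_comp, ap_id] at h
  exact h.symm

theorem ap_desc (a : X ⟶ Z) (b : Y ⟶ Z) (U) (z : (X ⊞ Y).obj U) :
    ap (biprod.desc a b) U z = ap a U (ap biprod.fst U z) + ap b U (ap biprod.snd U z) := by
  rw [biprod.desc_eq, ap_add, ap_comp, ap_comp]

theorem ap_fst_lift (a : Z ⟶ X) (b : Z ⟶ Y) (U) (w : Z.obj U) :
    ap biprod.fst U (ap (biprod.lift a b) U w) = ap a U w := by
  rw [← ap_comp, biprod.lift_fst]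

theorem ap_snd_lift (a : Z ⟶ X) (b : Z ⟶ Y) (U) (w : Z.obj U) :
    ap biprod.snd U (ap (biprod.lift a b) U w) = ap b U w := by
  rw [← ap_comp, biprod.lift_snd]

theorem biprod_ext_ap (U) (z z' : (X ⊞ Y).obj U) (h1 : ap biprod.fst U z = ap biprod.fst U z')
    (h2 : ap biprod.snd U z = ap biprod.snd U z') : z = z' := by
  rw [biprod_decomp U z, biprod_decomp U z', h1, h2]

theorem ap_fst_inl_inr (U) (x : X.obj U) (y : Y.obj U) :
    ap biprod.fst U (ap biprod.inl U x + ap biprod.inr U y) = x := by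
  rw [map_add, ← ap_comp, ← ap_comp, biprod.inl_fst, biprod.inr_fst, ap_id, ap_zero, add_zero]

theorem ap_snd_inl_inr (U) (x : X.obj U) (y : Y.obj U) :
    ap biprod.snd U (ap biprod.inl U x + ap biprod.inr U y) = y := by
  rw [map_add, ← ap_comp, ← ap_comp, biprod.inl_snd, biprod.inr_snd, ap_id, ap_zero, zero_add]

theorem ap_neg' {F G : MVF A} (φ : F ⟶ G) (U) (x : F.obj U) : ap (-φ) U x = -ap φ U x := rfl

end Biprod

section Key

variable (S : ShortComplex (MVF A)) (hS : S.ShortExact) {Λ : MVF A} (π : Λ ⟶ S.X₃) [Epi π]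
  (tt : Λ ⟶ S.X₂) (htt : tt ≫ S.g = π) (m : kernel π ⟶ S.X₁) (hm : m ≫ S.f = kernel.ι π ≫ tt)

include hm in
theorem kappa_rho : biprod.lift (-m) (kernel.ι π) ≫ biprod.desc S.f tt = 0 := by
  rw [biprod.lift_desc, Preadditive.neg_comp, hm, neg_add_cancel]

include hS htt hm in
theorem desc_injective (U) :
    Function.Injective (ap (cokernel.desc (biprod.lift (-m) (kernel.ι π)) (biprod.desc S.f tt)
      (kappa_rho S π tt m hm)) U) := by
  rw [injective_iff_map_eq_zero]
  intro z hz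
  obtain ⟨w, rfl⟩ := cokernel_π_surjective (biprod.lift (-m) (kernel.ι π)) U z
  rw [← ap_comp, cokernel.π_desc, ap_desc] at hz
  have e1 : ap π U (ap biprod.snd U w) = 0 := by
    have := congrArg (ap S.g U) hz
    rw [map_add, g_f_apply, zero_add, map_zero, ← ap_comp, htt] at this
    exact this
  obtain ⟨k, hk⟩ := kernel_ι_exact π U _ e1
  have e2 : ap biprod.fst U w = - ap m U k := by
    apply f_injective S hS U
    have hfm : ap S.f U (ap m U k) = ap tt U (ap (kernel.ι π) U k) := by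
      rw [← ap_comp, hm, ap_comp]
    rw [map_neg, hfm, hk]
    exact eq_neg_of_add_eq_zero_left hz
  have e3 : w = ap (biprod.lift (-m) (kernel.ι π)) U k := by
    apply biprod_ext_ap
    · rw [ap_fst_lift, e2]
      rfl
    · rw [ap_snd_lift, hk]
  rw [e3]
  exact cokernel_π_comp_apply _ U k

include hS htt in
theorem desc_surjective (U) :
    Function.Surjective (ap (cokernel.desc (biprod.lift (-m) (kernel.ι π)) (biprod.desc S.f tt)
      (kappa_rho S π tt m hm)) U) := by
  intro y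
  obtain ⟨l, hl⟩ := ap_surjective_of_epi π U (ap S.g U y)
  have e1 : ap S.g U (y - ap tt U l) = 0 := by
    rw [map_sub, ← ap_comp, htt, hl, sub_self]
  obtain ⟨x, hx⟩ := exact_mid S hS U _ e1
  refine ⟨ap (cokernel.π _) U (ap biprod.inl U x + ap biprod.inr U l), ?_⟩
  rw [← ap_comp, cokernel.π_desc, ap_desc, ap_fst_inl_inr, ap_snd_inl_inr, hx]
  exact sub_add_cancel y _

include hS htt in
theorem desc_isIso :
    IsIso (cokernel.desc (biprod.lift (-m) (kernel.ι π)) (biprod.desc S.f tt)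
      (kappa_rho S π tt m hm)) :=
  isIso_of_ap_bijective _ (fun U => ⟨desc_injective S hS π tt htt m hm U,
    desc_surjective S hS π tt htt m hm U⟩)

end Key

/-- An extension of adequate functors is adequate. -/
theorem adequate_of_shortExact (S : ShortComplex (MVF A)) (hS : S.ShortExact)
    (h₁ : adequate A S.X₁) (h₃ : adequate A S.X₃) : adequate A S.X₂ := by
  classical
  obtain ⟨P1⟩ := (adequate_iff_nonempty_pres _).mp h₁
  obtain ⟨P3⟩ := (adequate_iff_nonempty_pres _).mp h₃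
  have hI1 : TanInj S.X₂ 1 :=
    tanInj_of_shortExact S hS 1 (tanInj_of_pres P1 1) (tanInj_of_pres P3 1)
  have hS1 : TanSurj S.X₂ 1 :=
    tanSurj_of_shortExact S hS 1 (tanSurj_of_pres P1 1) (tanSurj_of_pres P3 1)
  have hS2 : TanSurj S.X₂ 2 :=
    tanSurj_of_shortExact S hS 2 (tanSurj_of_pres P1 2) (tanSurj_of_pres P3 2)
  have hI3 : TanInj S.X₃ 1 := tanInj_of_pres P3 1
  obtain ⟨ι, L, hL, c, hc, π, hπ⟩ :=
    Groth.Agent.Helper13Adeq.exists_epi_cofan_linAdequate S.X₃ h₃
  have lifts : ∀ i, ∃ t : L i ⟶ S.X₂, t ≫ S.g = c.inj i ≫ π := by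
    intro i
    obtain ⟨_, ⟨Rp⟩⟩ := exists_repr (L i) (hL i)
    let T := setLiftOfRepr Rp S.g (c.inj i ≫ π) (g_surjective S hS)
    exact ⟨linMor T hI1 hS1 hS2, linMor_comp T hI1 hS1 hS2 hI3⟩
  choose t ht using lifts
  obtain ⟨tt, htt⟩ : ∃ tt : c.pt ⟶ S.X₂, tt ≫ S.g = π := by
    refine ⟨Cofan.IsColimit.desc hc t, ?_⟩
    apply Cofan.IsColimit.hom_ext hc
    intro i
    rw [← Category.assoc, Cofan.IsColimit.fac, ht]
  have hΛ : adequate A c.pt :=
    adequate_cofan_pt L (fun i => Groth.Agent.Helper13Adeq.adequate_of_linAdequate (hL i)) c hc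
  have hK : adequate A (kernel π) := adequate_kernel π hΛ h₃
  have hm0 : (kernel.ι π ≫ tt) ≫ S.g = 0 := by rw [Category.assoc, htt, kernel.condition]
  have := hS.mono_f
  obtain ⟨m, hm⟩ : ∃ m : kernel π ⟶ S.X₁, m ≫ S.f = kernel.ι π ≫ tt :=
    ⟨hS.exact.lift (kernel.ι π ≫ tt) hm0, hS.exact.lift_f _ _⟩
  have hcok : adequate A (cokernel (biprod.lift (-m) (kernel.ι π))) :=
    adequate_cokernel _ hK (adequate_biprod _ _ h₁ hΛ)
  have hiso := desc_isIso S hS π tt htt m hm
  exact (adequate A).prop_of_iso (asIso (cokernel.desc _ _ (kappa_rho S π tt m hm))) hcok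

end Groth.Agent.Lib.Seat39.Tsz
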