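import Groth.Agent.Lib.Seat39AdeqH1Fam

/-!
# Seat39: lifting sections along `F₂ ⟶ F₃` with adequate kernel, given lifts over a finite faithfully
flat family (the `H¹`-vanishing argument at the level of module-valued functors)
-/
set_option autoImplicit false
set_option maxSynthPendingDepth 3
universe u
open CategoryTheory Limits Opposite TensorProduct

namespace Groth.Agent.Lib.Seat39.ExtLift

open Adeq Groth.Agent.Lib.Seat39.MVF Groth.Agent.Lib.Seat39.AdeqF Groth.Agent.Lib.Seat39.AdeqFam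
  Groth.Agent.Lib.Seat39.AdeqH1Fam

variable {R : Type u} [CommRing R] {ι : Type} [Fintype ι] [DecidableEq ι]
  (B : ι → Type u) [∀ i, CommRing (B i)] [∀ i, Algebra R (B i)]

omit [Fintype ι] [DecidableEq ι] in
theorem ι_jL_eq_ι_jR (j k : ι) :
    ptHom (AdeqFF.ι R (B j)) ≫ ptHom (jL (B j) (B k)) =
      ptHom (AdeqFF.ι R (B k)) ≫ ptHom (jR (B j) (B k)) := by
  change ptHom (AdeqFF.ι R (B j) ≫ jL (B j) (B k)) = ptHom (AdeqFF.ι R (B k) ≫ jR (B j) (B k))
  congr 1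
  ext

omit [Fintype ι] [DecidableEq ι] in
theorem jL_s12 (j k l : ι) :
    ptHom (jL (R := R) (B j) (B k)) ≫ ptHom (s12 B j k l) =
      ptHom (jL (R := R) (B j) (B l)) ≫ ptHom (s13 B j k l) := by
  change ptHom (jL (B j) (B k) ≫ s12 B j k l) = ptHom (jL (B j) (B l) ≫ s13 B j k l)
  congr 1

omit [Fintype ι] [DecidableEq ι] in
theorem jR_s12 (j k l : ι) :
    ptHom (jR (R := R) (B j) (B k)) ≫ ptHom (s12 B j k l) =
      ptHom (jL (R := R) (B k) (B l)) ≫ ptHom (s23 B j k l) := by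
  change ptHom (jR (B j) (B k) ≫ s12 B j k l) = ptHom (jL (B k) (B l) ≫ s23 B j k l)
  congr 1

omit [Fintype ι] [DecidableEq ι] in
theorem jR_s13 (j k l : ι) :
    ptHom (jR (R := R) (B j) (B l)) ≫ ptHom (s13 B j k l) =
      ptHom (jR (R := R) (B k) (B l)) ≫ ptHom (s23 B j k l) := by
  change ptHom (jR (B j) (B l) ≫ s13 B j k l) = ptHom (jR (B k) (B l) ≫ s23 B j k l)
  congr 1

variable [Module.FaithfullyFlat R (∀ j, B j)] {F₁ F₂ F₃ : MVF R} (f : F₁ ⟶ F₂) (g : F₂ ⟶ F₃)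
  (hF₁ : adequate R F₁) (hF₃ : adequate R F₃)
  (hf : ∀ X, Function.Injective (ap f X))
  (hfg : ∀ X (x : F₁.obj X), ap g X (ap f X x) = 0)
  (hex : ∀ X (y : F₂.obj X), ap g X y = 0 → ∃ x : F₁.obj X, ap f X x = y)
  (hglue : ∀ y : ∀ j, F₂.obj (pt (algOf R (B j))),
    (∀ j k, mp F₂ (ptHom (jL (B j) (B k))) (y j) = mp F₂ (ptHom (jR (B j) (B k))) (y k)) →
    ∃ x : F₂.obj (pt (algOf R R)), ∀ j, mp F₂ (ptHom (AdeqFF.ι R (B j))) x = y j)

include hF₁ hF₃ hf hfg hex hglue in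
/-- If `0 → F₁ → F₂ → F₃` is left exact with `F₁`, `F₃` adequate and `F₂` satisfies gluing for the
finite faithfully flat family `B`, then a section of `F₃` over `R` which lifts to `F₂` over every `B j`
lifts to `F₂` over `R`. -/
theorem lift_of_family (s : F₃.obj (pt (algOf R R))) (t : ∀ j, F₂.obj (pt (algOf R (B j))))
    (ht : ∀ j, ap g _ (t j) = mp F₃ (ptHom (AdeqFF.ι R (B j))) s) :
    ∃ x : F₂.obj (pt (algOf R R)), ap g _ x = s := by
  -- the difference cocycle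
  have hζ : ∀ j k, ap g _ (mp F₂ (ptHom (jL (B j) (B k))) (t j) -
      mp F₂ (ptHom (jR (B j) (B k))) (t k)) = 0 := by
    intro j k
    rw [map_sub, ap_mp, ap_mp, ht j, ht k, ← mp_comp, ← mp_comp,
      mp_congr F₃ (ι_jL_eq_ι_jR B j k) s, sub_self]
  choose η hη using fun j k => hex _ _ (hζ j k)
  have hcoc : ∀ j k l, mp F₁ (ptHom (s12 B j k l)) (η j k) - mp F₁ (ptHom (s13 B j k l)) (η j l) +
      mp F₁ (ptHom (s23 B j k l)) (η k l) = 0 := by
    intro j k l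
    apply hf
    rw [map_zero, map_add, map_sub, ap_mp, ap_mp, ap_mp, hη, hη, hη, map_sub, map_sub, map_sub,
      ← mp_comp, ← mp_comp, ← mp_comp, ← mp_comp, ← mp_comp, ← mp_comp,
      mp_congr F₂ (jL_s12 B j k l) (t j), mp_congr F₂ (jR_s12 B j k l) (t k),
      mp_congr F₂ (jR_s13 B j k l) (t l)]
    abel
  obtain ⟨θ, hθ⟩ := family_h1 B F₁ hF₁ η hcoc
  obtain ⟨x, hx⟩ := hglue (fun j => t j - ap f _ (θ j)) (by
    intro j k
    rw [← sub_eq_zero, map_sub, map_sub, ← ap_mp, ← ap_mp]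
    have h1 : ap f _ (mp F₁ (ptHom (jL (B j) (B k))) (θ j)) -
        ap f _ (mp F₁ (ptHom (jR (B j) (B k))) (θ k)) =
        mp F₂ (ptHom (jL (B j) (B k))) (t j) - mp F₂ (ptHom (jR (B j) (B k))) (t k) := by
      rw [← map_sub, hθ j k, hη j k]
    rw [sub_sub_sub_comm, h1, sub_self])
  refine ⟨x, ?_⟩
  rw [← sub_eq_zero]
  apply family_sep B F₃ hF₃
  intro j
  rw [map_sub, ← ap_mp, hx j, map_sub, hfg, sub_zero, ht j, sub_self]

end Groth.Agent.Lib.Seat39.ExtLift
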