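import Groth.Agent.Lib.Seat39ShfAdeq

/-!
# Seat39: the unit `P ⟶ P^#` is bijective on affine objects, for a presheaf of modules with adequate
affine values on the big site of a precoverage `K` whose covering sieves of affine objects contain
finite affine faithfully flat covering families (fppf, fpqc)
-/
set_option autoImplicit false
universe u
open CategoryTheory Limits Opposite AlgebraicGeometry TensorProduct

attribute [-instance] Groth.Agent.Lib.Seat39.Restr.algRestr

namespace Groth.Agent.Lib.Seat39.LemmaDK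

open Adeq Groth.Agent.Lib.Seat39.MVF Groth.Agent.Lib.Seat39.OverId Groth.Agent.Lib.Seat39.BigMVF
  Groth.Agent.Lib.Seat39.ShfUnit Groth.Agent.Lib.Seat39.LemmaD

variable (K : Precoverage Scheme.{u}) [BigSite.OSh K]

/-- Covering sieves of affine objects of the big `K`-site contain finite affine faithfully flat
`K`-covering families. -/
def HasAffineRefinement : Prop :=
  ∀ {S : Scheme.{u}} {R : CommRingCat.{u}} (a : Spec R ⟶ S) (T : Sieve (Over.mk a)),
    T ∈ QuotSh.J K S (Over.mk a) →
    ∃ (n : ℕ) (C : Fin n → Type u) (_ : ∀ j, CommRing (C j)) (_ : ∀ j, Algebra R (C j)),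
      Module.FaithfullyFlat R (∀ j, C j) ∧
      Presieve.ofArrows (fun j => Spec (CommRingCat.of (C j)))
        (fun j => Spec.map (CommRingCat.ofHom (algebraMap R (C j)))) ∈ K.coverings (Spec R) ∧
      ∀ j, T (res a (C j))

variable {K} (hK : HasAffineRefinement K) {S : Scheme.{u}}
  (P : PresheafOfModules.{u + 1} (BigSite.ORing K S).obj)
  (h : ∀ (R : CommRingCat.{u}) (a : Spec R ⟶ S), adequate R ((toMVFPre K a).obj P))

/-- `F_{P,R}` -/
noncomputable abbrev FP {R : CommRingCat.{u}} (a : Spec R ⟶ S) : MVF R := (toMVFPre K a).obj P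

theorem mpP_idOver_refl {T : Scheme.{u}} (h : T ⟶ S) (x : P.obj (op (Over.mk h))) :
    mp P (idOver (rfl : h = h)).op x = x := by
  rw [mp_congr P (congrArg Quiver.Hom.op (idOver_refl h))]
  exact mp_id P _ x

theorem mpP_idOver_bijective {T : Scheme.{u}} {h₁ h₂ : T ⟶ S} (e : h₁ = h₂) :
    Function.Bijective (mp P (idOver e).op) := by
  subst e
  have : (mp P (idOver (rfl : h₁ = h₁)).op : _ → _) = id := funext (mpP_idOver_refl P h₁)
  rw [this]
  exact Function.bijective_id

variable {R : CommRingCat.{u}} (a : Spec R ⟶ S)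

/-- transport to the base point of `F_{P,R}` -/
noncomputable abbrev toBase : P.obj (op (Over.mk a)) →+ (FP P a).obj (pt (algOf R R)) :=
  mp P (idOver (e₀ a)).op

theorem toBase_bijective : Function.Bijective (toBase P a) := mpP_idOver_bijective P (e₀ a)

theorem toBase_res (C : Type u) [CommRing C] [Algebra R C] (x : P.obj (op (Over.mk a))) :
    mp (FP P a) (ptHom (AdeqFF.ι R C)) (toBase P a x) = mp P (res a C).op x := by
  have h1 := mp_comp P (idOver (e₀ a)).op ((specOver a).map (AdeqFF.ι R C).op).op x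
  refine h1.symm.trans ?_
  exact mp_congr P (congrArg Quiver.Hom.op (specOver_ι_comp a C)) x

include hK h

/-- The unit `P ⟶ P^#` is injective on affine objects. -/
theorem unit_injective (x : P.obj (op (Over.mk a)))
    (hx : ap (unitHom (BigSite.ORing K S) P) (op (Over.mk a)) x = 0) : x = 0 := by
  obtain ⟨T, hT, hTx⟩ := unit_locally_injective (BigSite.ORing K S) P (Over.mk a) x hx
  obtain ⟨n, C, _, _, hff, hcov, hC⟩ := hK a T hT
  have h0 : toBase P a x = 0 := by
    refine AdeqFam.family_sep C (FP P a) (h R a) _ (fun j => ?_)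
    rw [toBase_res]
    exact hTx _ (hC j)
  exact (toBase_bijective P a).1 (h0.trans (map_zero _).symm)

omit hK h in
theorem unit_mp_of_res {B B' : Type u} [CommRing B] [CommRing B'] [Algebra R B]
    [Algebra R B'] (f : algOf R B ⟶ algOf R B')
    (s : (shf (BigSite.ORing K S) P).val.obj (op (Over.mk a)))
    (y : (FP P a).obj (pt (algOf R B)))
    (hy : ap (unitHom (BigSite.ORing K S) P) (op (Over.mk (bOf a B))) y =
      mp (shf (BigSite.ORing K S) P).val (res a B).op s) :
    ap (unitHom (BigSite.ORing K S) P) (op (Over.mk (bOf a B'))) (mp (FP P a) (ptHom f) y) =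
      mp (shf (BigSite.ORing K S) P).val (res a B').op s := by
  have h1 := ap_mp (unitHom (BigSite.ORing K S) P) ((specOver a).map f.op).op y
  refine h1.trans ?_
  have h2 := congrArg (mp (shf (BigSite.ORing K S) P).val ((specOver a).map f.op).op) hy
  refine h2.trans ?_
  have h3 := mp_comp (shf (BigSite.ORing K S) P).val (res a B).op ((specOver a).map f.op).op s
  refine h3.symm.trans ?_
  exact mp_congr _ (congrArg Quiver.Hom.op (specOver_map_comp_res a f)) s

/-- The unit `P ⟶ P^#` is surjective on affine objects. -/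
theorem unit_surjective
    (s : (shf (BigSite.ORing K S) P).val.obj (op (Over.mk a))) :
    ∃ x : P.obj (op (Over.mk a)), ap (unitHom (BigSite.ORing K S) P) (op (Over.mk a)) x = s := by
  obtain ⟨T, hT, hTs⟩ := unit_locally_surjective (BigSite.ORing K S) P (Over.mk a) s
  obtain ⟨n, C, _, _, hff, hcov, hC⟩ := hK a T hT
  choose y hy using fun j => hTs _ (hC j)
  have hcompat : ∀ j k, mp (FP P a) (ptHom (AdeqFam.jL (C j) (C k))) (y j) =
      mp (FP P a) (ptHom (AdeqFam.jR (C j) (C k))) (y k) := by
    intro j k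
    have hd := unit_injective hK P h (bOf a (C j ⊗[R] C k))
      (mp (FP P a) (ptHom (AdeqFam.jL (C j) (C k))) (y j) -
        mp (FP P a) (ptHom (AdeqFam.jR (C j) (C k))) (y k))
      ((map_sub (ap (unitHom (BigSite.ORing K S) P) (op (Over.mk (bOf a (C j ⊗[R] C k))))) _ _).trans
        (sub_eq_zero.mpr ((unit_mp_of_res P a (AdeqFam.jL (C j) (C k)) s (y j) (hy j)).trans
          (unit_mp_of_res P a (AdeqFam.jR (C j) (C k)) s (y k) (hy k)).symm)))
    exact sub_eq_zero.mp hd
  obtain ⟨x', hx'⟩ := AdeqFam.family_glue C (FP P a) (h R a) y hcompat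
  obtain ⟨x, rfl⟩ := (toBase_bijective P a).2 x'
  refine ⟨x, ?_⟩
  have hres : ∀ j, mp P (res a (C j)).op x = y j :=
    fun j => (toBase_res P a (C j) x).symm.trans (hx' j)
  have hz : ap (unitHom (BigSite.ORing K S) P) (op (Over.mk a)) x - s = 0 := by
    have hE := @Groth.Agent.Lib.Seat39.EpiLoc.eq_zero_of_cover.{u} K S _
      (shf.{u + 1, u + 1, u, u + 1} (BigSite.ORing K S) P) (Over.mk a)
      (ap (unitHom (BigSite.ORing K S) P) (op (Over.mk a)) x - s) _ hcov
    refine hE ?_
    intro V g hg
    obtain ⟨j⟩ := hg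
    refine (map_sub (mp (shf (BigSite.ORing K S) P).val (res a (C j)).op) _ _).trans
      (sub_eq_zero.mpr ?_)
    refine (ap_mp (unitHom (BigSite.ORing K S) P) (res a (C j)).op x).symm.trans ?_
    rw [hres j]
    exact hy j
  exact sub_eq_zero.mp hz

end Groth.Agent.Lib.Seat39.LemmaDK
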