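import Groth.Agent.Lib.Seat39ExtLift
import Groth.Agent.Lib.Seat39Ext
import Groth.Agent.Lib.Seat39LemmaDK
import Groth.Agent.Lib.Seat39ShfColim

/-!
# Seat39: an extension of adequate modules on the big fppf site is adequate
-/
set_option autoImplicit false
set_option maxSynthPendingDepth 3
universe u
open CategoryTheory Limits Opposite AlgebraicGeometry TensorProduct

attribute [-instance] Groth.Agent.Lib.Seat39.Restr.algRestr

namespace Groth.Agent.Lib.Seat39.ExtShf

open Adeq Groth.Agent.Lib.Seat39.MVF Groth.Agent.Lib.Seat39.OverId Groth.Agent.Lib.Seat39.BigMVF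
  Groth.Agent.Lib.Seat39.AdeqFam Groth.Agent.Lib.Seat39.LemmaD

section Exact

variable {S : Scheme.{u}} (C : ShortComplex (BigSite.Mod Scheme.fppfPrecoverage.{u} S))
  (hC : C.ShortExact)

include hC in
theorem isIso_kernel_lift : IsIso (kernel.lift C.g C.f C.zero) := by
  have := hC.mono_f
  have h1 : Mono (kernel.lift C.g C.f C.zero) :=
    mono_of_mono_fac (kernel.lift_ι C.g C.f C.zero)
  have h2 : Epi (kernel.lift C.g C.f C.zero) :=
    (ShortComplex.exact_iff_epi_kernel_lift C).mp hC.exact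
  exact isIso_of_mono_of_epi _

include hC in
theorem f_val_bijective_lift (U : (Over S)ᵒᵖ) :
    Function.Bijective (ap (kernel.lift C.g C.f C.zero).val U) := by
  have := isIso_kernel_lift C hC
  have h : IsIso ((SheafOfModules.forget _).map (kernel.lift C.g C.f C.zero)) := inferInstance
  exact @ap_bijective_of_isIso _ _ _ _ _ _ h U

theorem f_val_eq (U : (Over S)ᵒᵖ) (x : C.X₁.val.obj U) :
    ap C.f.val U x = ap (kernel.ι C.g).val U (ap (kernel.lift C.g C.f C.zero).val U x) := by
  have h : C.f.val = (kernel.lift C.g C.f C.zero).val ≫ (kernel.ι C.g).val := by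
    rw [← SheafOfModules.comp_val, kernel.lift_ι]
  rw [h, ap_comp]

include hC in
theorem f_val_injective (U : (Over S)ᵒᵖ) : Function.Injective (ap C.f.val U) := by
  intro x y h
  rw [f_val_eq, f_val_eq] at h
  exact (f_val_bijective_lift C hC U).1
    (Groth.Agent.Lib.Seat39.BigKer.kernel_ι_val_injective Scheme.fppfPrecoverage C.g U h)

theorem g_f_val (U : (Over S)ᵒᵖ) (x : C.X₁.val.obj U) : ap C.g.val U (ap C.f.val U x) = 0 := by
  have h : C.f.val ≫ C.g.val = 0 := by
    rw [← SheafOfModules.comp_val, C.zero]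
    rfl
  rw [← ap_comp, h, ap_zero]

include hC in
theorem exact_val (U : (Over S)ᵒᵖ) (y : C.X₂.val.obj U) (hy : ap C.g.val U y = 0) :
    ∃ x : C.X₁.val.obj U, ap C.f.val U x = y := by
  obtain ⟨k, hk⟩ := Groth.Agent.Lib.Seat39.BigKer.kernel_ι_val_exact Scheme.fppfPrecoverage C.g U y hy
  obtain ⟨x, hx⟩ := (f_val_bijective_lift C hC U).2 k
  exact ⟨x, by rw [f_val_eq, hx, hk]⟩

end Exact

section Glue

variable {S : Scheme.{u}} (M : BigSite.Mod Scheme.fppfPrecoverage.{u} S)
  {R : CommRingCat.{u}} (a : Spec R ⟶ S)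
  {n : ℕ} (B : Fin n → Type u) [∀ j, CommRing (B j)] [∀ j, Algebra R (B j)]
  (hcov : Presieve.ofArrows (fun j => Spec (CommRingCat.of (B j)))
    (fun j => Spec.map (CommRingCat.ofHom (algebraMap R (B j)))) ∈
    Scheme.fppfPrecoverage.coverings (Spec R))

theorem isPullback_pair (j k : Fin n) :
    IsPullback (Spec.map (rh (jL (R := R) (B j) (B k)))) (Spec.map (rh (jR (R := R) (B j) (B k))))
      (Spec.map (rh (AdeqFF.ι R (B j)))) (Spec.map (rh (AdeqFF.ι R (B k)))) :=
  isPullback_SpecMap_of_isPushout _ _ _ _ (CommRingCat.isPushout_tensorProduct R (B j) (B k))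

include hcov in
/-- Gluing for a sheaf of modules on the big fppf site along a finite affine fppf family. -/
theorem glue_family (y : ∀ j, ((toMVF Scheme.fppfPrecoverage a).obj M).obj (pt (algOf R (B j))))
    (hy : ∀ j k, mp ((toMVF Scheme.fppfPrecoverage a).obj M) (ptHom (jL (B j) (B k))) (y j) =
      mp ((toMVF Scheme.fppfPrecoverage a).obj M) (ptHom (jR (B j) (B k))) (y k)) :
    ∃ x : ((toMVF Scheme.fppfPrecoverage a).obj M).obj (pt (algOf R R)),
      ∀ j, mp ((toMVF Scheme.fppfPrecoverage a).obj M) (ptHom (AdeqFF.ι R (B j))) x = y j :=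
  sheaf_glue Scheme.fppfPrecoverage M (fun j => (specOver a).obj (op (algOf R (B j))))
    (fun j => (specOver a).map (AdeqFF.ι R (B j)).op) hcov
    (fun j k => (specOver a).obj (op (algOf R (B j ⊗[R] B k))))
    (fun j k => (specOver a).map (jL (B j) (B k)).op)
    (fun j k => (specOver a).map (jR (B j) (B k)).op)
    (fun j k => isPullback_pair B j k) y hy

end Glue

section Main

variable {S : Scheme.{u}} (C : ShortComplex (BigSite.Mod Scheme.fppfPrecoverage.{u} S))
  (hC : C.ShortExact)
  (h₁ : ∀ (R : CommRingCat.{u}) (a : Spec R ⟶ S),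
    adequate R ((toMVF Scheme.fppfPrecoverage a).obj C.X₁))
  (h₃ : ∀ (R : CommRingCat.{u}) (a : Spec R ⟶ S),
    adequate R ((toMVF Scheme.fppfPrecoverage a).obj C.X₃))

include hC h₁ h₃ in
/-- Sections of `C.X₃` over an affine object lift to `C.X₂`. -/
theorem g_val_surjective_affine {R : CommRingCat.{u}} (a : Spec R ⟶ S) :
    Function.Surjective (ap C.g.val (op (Over.mk a))) := by
  intro s
  have := hC.epi_g
  obtain ⟨T, hT, hTs⟩ := Groth.Agent.Lib.Seat39.EpiLoc.epi_locally_surjective
    (BigSite.ORing Scheme.fppfPrecoverage S) C.g (Over.mk a) s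
  obtain ⟨n, B, _, _, hcov, hB⟩ := exists_algebra_family_of_sieve a T hT
  have hff := Groth.Agent.Lib.Seat39.ShfAdeq.ff_of_cover B hcov
  choose t ht using fun j => hTs _ (hB j)
  obtain ⟨x, hx⟩ := Groth.Agent.Lib.Seat39.ExtLift.lift_of_family B
    ((toMVF Scheme.fppfPrecoverage a).map C.f) ((toMVF Scheme.fppfPrecoverage a).map C.g)
    (h₁ R a) (h₃ R a)
    (fun X => f_val_injective C hC _)
    (fun X x => g_f_val C _ x)
    (fun X y hy => exact_val C hC _ y hy)
    (glue_family C.X₂ a B hcov)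
    (Groth.Agent.Lib.Seat39.LemmaDK.toBase C.X₃.val a s) t
    (fun j => (ht j).trans
      (Groth.Agent.Lib.Seat39.LemmaDK.toBase_res C.X₃.val a (B j) s).symm)
  obtain ⟨x₀, rfl⟩ := (Groth.Agent.Lib.Seat39.LemmaDK.toBase_bijective C.X₂.val a).2 x
  refine ⟨x₀, (Groth.Agent.Lib.Seat39.LemmaDK.toBase_bijective C.X₃.val a).1 ?_⟩
  refine (ap_mp C.g.val (idOver (e₀ a)).op x₀).symm.trans ?_
  exact hx

include hC h₁ h₃ in
/-- The sequence of module-valued functors of a short exact sequence of modules with adequate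
outer terms is short exact. -/
theorem shortExact_toMVF {R : CommRingCat.{u}} (a : Spec R ⟶ S) :
    (C.map (toMVF Scheme.fppfPrecoverage a)).ShortExact := by
  have hmono : Mono ((toMVF Scheme.fppfPrecoverage a).map C.f) :=
    mono_of_ap_injective _ (fun X => f_val_injective C hC _)
  have hepi : Epi ((toMVF Scheme.fppfPrecoverage a).map C.g) := by
    apply epi_of_ap_surjective
    rintro ⟨⟨B⟩⟩
    exact g_val_surjective_affine C hC h₁ h₃ (bOf a B)
  have hex : (C.map (toMVF Scheme.fppfPrecoverage a)).Exact := by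
    rw [ShortComplex.exact_iff_epi_kernel_lift]
    apply epi_of_ap_surjective
    intro X k
    obtain ⟨x, hx⟩ := exact_val C hC _
      (ap (kernel.ι (C.map (toMVF Scheme.fppfPrecoverage a)).g) X k)
      (kernel_ι_comp_apply _ X k)
    refine ⟨x, kernel_ι_injective _ X ?_⟩
    rw [← ap_comp, kernel.lift_ι]
    exact hx
  exact { exact := hex, mono_f := hmono, epi_g := hepi }

include hC h₁ h₃ in
theorem adequate_toMVF_mid {R : CommRingCat.{u}} (a : Spec R ⟶ S) :
    adequate R ((toMVF Scheme.fppfPrecoverage a).obj C.X₂) :=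
  Groth.Agent.Lib.Seat39.Tsz.adequate_of_shortExact (C.map (toMVF Scheme.fppfPrecoverage a))
    (shortExact_toMVF C hC h₁ h₃ a) (h₁ R a) (h₃ R a)

end Main

/-- An extension of adequate modules on the big fppf site is adequate. -/
theorem adequateMod_of_shortExact_fppf {S : Scheme.{u}}
    (C : ShortComplex (BigSite.Mod Scheme.fppfPrecoverage.{u} S)) (hC : C.ShortExact)
    (h₁ : adequateMod Scheme.fppfPrecoverage S C.X₁)
    (h₃ : adequateMod Scheme.fppfPrecoverage S C.X₃) :
    adequateMod Scheme.fppfPrecoverage S C.X₂ := by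
  obtain ⟨ι, R, a, hcov⟩ := Groth.Agent.Lib.Seat39.ShfAdeq.exists_affine_fppf_cover S
  exact ⟨ι, R, a, hcov, fun i => adequate_toMVF_mid C hC
    (fun R a => Groth.Agent.Lib.Seat39.ShfColim.adequate_of_adequateMod_fppf C.X₁ h₁ R a)
    (fun R a => Groth.Agent.Lib.Seat39.ShfColim.adequate_of_adequateMod_fppf C.X₃ h₃ R a) (a i)⟩

end Groth.Agent.Lib.Seat39.ExtShf
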