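import Mathlib.CategoryTheory.Filtered.Basic
import Mathlib.Algebra.Category.Grp.FilteredColimits
import Mathlib.Algebra.Category.Grp.Colimits
import Mathlib.CategoryTheory.Limits.Types.Filtered
import Mathlib.CategoryTheory.Limits.Preserves.Filtered
import Mathlib.LinearAlgebra.TensorProduct.Basic
import Mathlib.LinearAlgebra.TensorProduct.Map

/-!
# Seat39: filtered systems of abelian groups with an element-wise colimit, by hand

A filtered system `P i` with maps `inc i : P i → Pc` that are jointly surjective and such that an element with zero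
image dies at a later stage has the universal property of the colimit for maps to any abelian group (in any universe);
the property passes to `P i ⊗ X`; and it characterises colimit cocones of abelian groups.
-/

set_option autoImplicit false
universe v₁ u₁ w w₂ w₃ u
open CategoryTheory Limits TensorProduct

namespace Groth.Agent.Lib.Seat39.FiltDesc

section Add

variable {J : Type u₁} [Category.{v₁} J] [IsFiltered J]
  {P : J → Type w} [∀ i, AddCommGroup (P i)] (tr : ∀ ⦃i j : J⦄, (i ⟶ j) → P i →+ P j)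
  {Pc : Type w₂} [AddCommGroup Pc] (inc : ∀ i, P i →+ Pc)
  (tr_comp : ∀ ⦃i j k : J⦄ (f : i ⟶ j) (g : j ⟶ k) (p : P i), tr (f ≫ g) p = tr g (tr f p))
  (inc_tr : ∀ ⦃i j : J⦄ (f : i ⟶ j) (p : P i), inc j (tr f p) = inc i p)
  (sur : ∀ x : Pc, ∃ i, ∃ p : P i, inc i p = x)
  (inj : ∀ i (p : P i), inc i p = 0 → ∃ k, ∃ f : i ⟶ k, tr f p = 0)

include tr_comp inc_tr inj in
theorem eq_of_inc_eq {i j : J} (p : P i) (q : P j) (h : inc i p = inc j q) :
    ∃ k, ∃ f : i ⟶ k, ∃ g : j ⟶ k, tr f p = tr g q := by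
  have h0 : inc (IsFiltered.max i j)
      (tr (IsFiltered.leftToMax i j) p - tr (IsFiltered.rightToMax i j) q) = 0 := by
    rw [map_sub, inc_tr, inc_tr, h, sub_self]
  obtain ⟨k, e, he⟩ := inj _ _ h0
  refine ⟨k, IsFiltered.leftToMax i j ≫ e, IsFiltered.rightToMax i j ≫ e, ?_⟩
  rw [tr_comp, tr_comp, ← sub_eq_zero, ← map_sub, he]

include tr_comp inc_tr sur inj in
theorem exists_desc {Q : Type w₃} [AddCommGroup Q] (φ : ∀ i, P i →+ Q)
    (hφ : ∀ ⦃i j : J⦄ (f : i ⟶ j) (p : P i), φ j (tr f p) = φ i p) :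
    ∃ Φ : Pc →+ Q, ∀ i (p : P i), Φ (inc i p) = φ i p := by
  choose ri rp hr using sur
  have key : ∀ i (p : P i), φ (ri (inc i p)) (rp (inc i p)) = φ i p := by
    intro i p
    obtain ⟨k, f, g, hk⟩ := eq_of_inc_eq tr inc tr_comp inc_tr inj (rp (inc i p)) p (hr _)
    rw [← hφ f, hk, hφ g]
  have hadd : ∀ x y : Pc, φ (ri (x + y)) (rp (x + y)) =
      φ (ri x) (rp x) + φ (ri y) (rp y) := by
    intro x y
    have hxy : x + y = inc (IsFiltered.max (ri x) (ri y))
        (tr (IsFiltered.leftToMax (ri x) (ri y)) (rp x) +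
          tr (IsFiltered.rightToMax (ri x) (ri y)) (rp y)) := by
      rw [map_add, inc_tr, inc_tr, hr, hr]
    rw [hxy, key, map_add, hφ, hφ]
  refine ⟨AddMonoidHom.mk' (fun x => φ (ri x) (rp x)) hadd, ?_⟩
  intro i p
  exact key i p

end Add

section Colimit

variable {J : Type u₁} [Category.{v₁} J] [IsFiltered J] (K : J ⥤ AddCommGrpCat.{w}) (t : Cocone K)

/-- A cocone of abelian groups over a filtered diagram which is jointly surjective and in which elements with
zero image die at a later stage is a colimit cocone. -/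
theorem nonempty_isColimit
    (sur : ∀ x : t.pt, ∃ i, ∃ p : K.obj i, (t.ι.app i).hom p = x)
    (inj : ∀ i (p : K.obj i), (t.ι.app i).hom p = 0 → ∃ k, ∃ f : i ⟶ k, (K.map f).hom p = 0) :
    Nonempty (IsColimit t) := by
  have tr_comp : ∀ ⦃i j k : J⦄ (f : i ⟶ j) (g : j ⟶ k) (p : K.obj i),
      (K.map (f ≫ g)).hom p = (K.map g).hom ((K.map f).hom p) := by
    intro i j k f g p
    rw [K.map_comp]
    rfl
  have inc_tr : ∀ ⦃i j : J⦄ (f : i ⟶ j) (p : K.obj i),
      (t.ι.app j).hom ((K.map f).hom p) = (t.ι.app i).hom p := by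
    intro i j f p
    exact congrArg (fun m => m.hom p) (t.w f)
  have hdesc : ∀ s : Cocone K, ∃ Φ : t.pt →+ s.pt, ∀ i (p : K.obj i),
      Φ ((t.ι.app i).hom p) = (s.ι.app i).hom p := by
    intro s
    refine exists_desc (P := fun i => K.obj i) (Pc := t.pt) (Q := s.pt)
      (fun i j f => (K.map f).hom) (fun i => ((t.ι.app i).hom : K.obj i →+ t.pt))
      tr_comp inc_tr sur inj (fun i => ((s.ι.app i).hom : K.obj i →+ s.pt)) ?_
    intro i j f p
    exact congrArg (fun m => m.hom p) (s.w f)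
  choose Φ hΦ using hdesc
  refine ⟨{ desc := fun s => AddCommGrpCat.ofHom (Φ s), fac := ?_, uniq := ?_ }⟩
  · intro s i
    ext p
    exact hΦ s i p
  · intro s m hm
    ext x
    obtain ⟨i, p, rfl⟩ := sur x
    refine (congrArg (fun n => n.hom p) (hm i)).trans ?_
    exact (hΦ s i p).symm

end Colimit

section Tensor

variable {A : Type u} [CommRing A] {J : Type u} [SmallCategory J] [IsFiltered J]
  {P : J → Type u} [∀ i, AddCommGroup (P i)] [∀ i, Module A (P i)]
  (tr : ∀ ⦃i j : J⦄, (i ⟶ j) → P i →ₗ[A] P j)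
  {Pc : Type u} [AddCommGroup Pc] [Module A Pc] (inc : ∀ i, P i →ₗ[A] Pc)
  (tr_id : ∀ i (p : P i), tr (𝟙 i) p = p)
  (tr_comp : ∀ ⦃i j k : J⦄ (f : i ⟶ j) (g : j ⟶ k) (p : P i), tr (f ≫ g) p = tr g (tr f p))
  (inc_tr : ∀ ⦃i j : J⦄ (f : i ⟶ j) (p : P i), inc j (tr f p) = inc i p)
  (sur : ∀ x : Pc, ∃ i, ∃ p : P i, inc i p = x)
  (inj : ∀ i (p : P i), inc i p = 0 → ∃ k, ∃ f : i ⟶ k, tr f p = 0)
  (X : Type (u + 1)) [AddCommGroup X] [Module A X]

omit [IsFiltered J] in
include inc_tr in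
theorem inc_tr_rTensor ⦃i j : J⦄ (f : i ⟶ j) (s : P i ⊗[A] X) :
    (inc j).rTensor X ((tr f).rTensor X s) = (inc i).rTensor X s := by
  have h : inc j ∘ₗ tr f = inc i := LinearMap.ext (inc_tr f)
  rw [← LinearMap.comp_apply, ← LinearMap.rTensor_comp, h]

include inc_tr sur in
theorem tensor_sur (t : Pc ⊗[A] X) : ∃ i, ∃ s : P i ⊗[A] X, (inc i).rTensor X s = t := by
  induction t using TensorProduct.induction_on with
  | zero => exact ⟨(IsFiltered.nonempty (C := J)).some, 0, map_zero _⟩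
  | tmul b x =>
    obtain ⟨i, p, rfl⟩ := sur b
    exact ⟨i, p ⊗ₜ[A] x, LinearMap.rTensor_tmul _ _ _ _⟩
  | add t t' ht ht' =>
    obtain ⟨i, s, rfl⟩ := ht
    obtain ⟨j, s', rfl⟩ := ht'
    refine ⟨IsFiltered.max i j, (tr (IsFiltered.leftToMax i j)).rTensor X s +
      (tr (IsFiltered.rightToMax i j)).rTensor X s', ?_⟩
    rw [map_add, inc_tr_rTensor tr inc inc_tr X, inc_tr_rTensor tr inc inc_tr X]

/-- the diagram of the tensor products -/
noncomputable def G (tr_id : ∀ i (p : P i), tr (𝟙 i) p = p)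
    (tr_comp : ∀ ⦃i j k : J⦄ (f : i ⟶ j) (g : j ⟶ k) (p : P i), tr (f ≫ g) p = tr g (tr f p)) :
    J ⥤ AddCommGrpCat.{u + 1} where
  obj i := AddCommGrpCat.of (P i ⊗[A] X)
  map f := AddCommGrpCat.ofHom ((tr f).rTensor X).toAddMonoidHom
  map_id i := by
    ext s
    change (tr (𝟙 i)).rTensor X s = s
    have h : tr (𝟙 i) = LinearMap.id := LinearMap.ext (tr_id i)
    rw [h, LinearMap.rTensor_id]
    rfl
  map_comp f g := by
    ext s
    change (tr (f ≫ g)).rTensor X s = (tr g).rTensor X ((tr f).rTensor X s)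
    have h : tr (f ≫ g) = tr g ∘ₗ tr f := LinearMap.ext (tr_comp f g)
    rw [h, LinearMap.rTensor_comp]
    rfl

include tr_id tr_comp inc_tr sur inj in
theorem tensor_inj (i : J) (s : P i ⊗[A] X) (hs : (inc i).rTensor X s = 0) :
    ∃ k, ∃ f : i ⟶ k, (tr f).rTensor X s = 0 := by
  have hpres : PreservesFilteredColimitsOfSize.{u, u} (forget AddCommGrpCat.{u + 1}) :=
    preservesFilteredColimitsOfSize_shrink.{u, u + 1, u, u + 1} _
  have hT := isColimitOfPreserves (forget AddCommGrpCat.{u + 1})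
    (colimit.isColimit (G tr X tr_id tr_comp))
  -- the additive bilinear map
  let κ : ∀ i, P i ⊗[A] X →+ (colimit (G tr X tr_id tr_comp) : AddCommGrpCat.{u + 1}) :=
    fun i => (colimit.ι (G tr X tr_id tr_comp) i).hom
  have hκ : ∀ ⦃i j : J⦄ (f : i ⟶ j) (s : P i ⊗[A] X), κ j ((tr f).rTensor X s) = κ i s := by
    intro i j f s
    exact congrArg (fun m => m.hom s) (colimit.w (G tr X tr_id tr_comp) f)
  let φ : ∀ i, P i →+ (X →+ (colimit (G tr X tr_id tr_comp) : AddCommGrpCat.{u + 1})) :=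
    fun i => AddMonoidHom.mk' (fun p => (κ i).comp (TensorProduct.mk A (P i) X p).toAddMonoidHom)
      (by
        intro p q
        ext x
        change κ i ((p + q) ⊗ₜ[A] x) = κ i (p ⊗ₜ[A] x) + κ i (q ⊗ₜ[A] x)
        rw [TensorProduct.add_tmul, map_add])
  have hφ : ∀ ⦃i j : J⦄ (f : i ⟶ j) (p : P i), φ j ((tr f).toAddMonoidHom p) = φ i p := by
    intro i j f p
    ext x
    change κ j ((tr f p) ⊗ₜ[A] x) = κ i (p ⊗ₜ[A] x)
    rw [← hκ f, LinearMap.rTensor_tmul]
  obtain ⟨β, hβ⟩ := exists_desc (P := P) (Pc := Pc)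
    (fun i j f => (tr f).toAddMonoidHom) (fun i => (inc i).toAddMonoidHom)
    (fun i j k f g p => tr_comp f g p) (fun i j f p => inc_tr f p) sur inj φ hφ
  have hβ' : ∀ i (p : P i) (x : X), β (inc i p) x = κ i (p ⊗ₜ[A] x) := by
    intro i p x
    exact congrArg (fun m => m x) (hβ i p)
  have hbal : ∀ (a : A) (b : Pc) (x : X), β (a • b) x = β b (a • x) := by
    intro a b x
    obtain ⟨i, p, rfl⟩ := sur b
    rw [← map_smul, hβ', hβ', TensorProduct.smul_tmul]
  let μ := TensorProduct.liftAddHom β hbal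
  have hμ : ∀ i (s : P i ⊗[A] X), μ ((inc i).rTensor X s) = κ i s := by
    intro i s
    induction s using TensorProduct.induction_on with
    | zero => rw [map_zero, map_zero, map_zero]
    | tmul p x =>
      rw [LinearMap.rTensor_tmul]
      exact hβ' i p x
    | add s s' h h' => rw [map_add, map_add, h, h', map_add]
  have h0 : κ i s = κ i 0 := by
    rw [← hμ, hs, map_zero, map_zero]
  obtain ⟨k, f, g, hk⟩ := (Types.FilteredColimit.isColimit_eq_iff _ hT).mp h0
  refine ⟨k, f, ?_⟩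
  have hk' : (tr f).rTensor X s = (tr g).rTensor X 0 := hk
  rw [hk', map_zero]

end Tensor

end Groth.Agent.Lib.Seat39.FiltDesc
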