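import Groth.Prelude.Def_Adeq
import Groth.Agent.Lib.Seat39MVF
import Groth.Agent.Lib.Seat39BC
import Groth.Agent.Lib.Seat39Adeq
import Mathlib.RingTheory.Flat.Basic
import Mathlib.RingTheory.RingHom.Flat
import Mathlib.RingTheory.TensorProduct.Maps
import Mathlib.LinearAlgebra.TensorProduct.Tower

/-!
# Seat39: flat base change for adequate functors
-/
set_option autoImplicit false
universe u v w
open CategoryTheory Limits Opposite TensorProduct ChangeOfRings

namespace Groth.Agent.Lib.Seat39.FlatBC

section Algebra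

variable {R S : Type u} [CommRing R] [CommRing S] [Algebra R S] [Module.Flat R S]
  {K P Q : Type v} [AddCommGroup K] [AddCommGroup P] [AddCommGroup Q]
  [Module R K] [Module R P] [Module R Q]
  (j : K →ₗ[R] P) (φ : P →ₗ[R] Q) (hj : Function.Injective j) (hex : Function.Exact j φ)
  {K' P' Q' : Type w} [AddCommGroup Q']
  (j' : K' → P') (φ' : P' → Q') (hj' : Function.Injective j')
  (θP : S ⊗[R] P → P') (hθP : Function.Bijective θP)
  (θQ : S ⊗[R] Q → Q') (hθQ : Function.Injective θQ) (hθQ0 : θQ 0 = 0)
  (bc : S ⊗[R] K → K')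
  (h1 : ∀ z, j' (bc z) = θP (j.lTensor S z))
  (h2 : ∀ w, θQ (φ.lTensor S w) = φ' (θP w))
  (h3 : ∀ k', φ' (j' k') = 0)

include hj hex hj' hθP hθQ hθQ0 h1 h2 h3

theorem bc_bijective : Function.Bijective bc := by
  constructor
  · intro z z' h
    apply Module.Flat.lTensor_preserves_injective_linearMap (M := S) j hj
    apply hθP.1
    rw [← h1, ← h1, h]
  · intro y
    obtain ⟨w, hw⟩ := hθP.2 (j' y)
    have hw0 : φ.lTensor S w = 0 := by
      apply hθQ
      rw [h2, hw, h3, hθQ0]
    obtain ⟨z, hz⟩ := (Module.Flat.lTensor_exact S hex w).mp hw0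
    refine ⟨z, hj' ?_⟩
    rw [h1, hz, hw]

end Algebra


section Cancel

variable {A₀ : Type u} {R S : Type v} [CommRing A₀] [CommRing R] [CommRing S] [Algebra A₀ R]
  [Algebra A₀ S] [Algebra R S] [IsScalarTower A₀ R S]
  {M N : Type w} [AddCommGroup M] [Module A₀ M] [AddCommGroup N] [Module A₀ N]

theorem cancel_tmul (g : R →ₗ[A₀] S) (hg : ∀ r, g r = algebraMap R S r) (s : S) (t : R ⊗[A₀] M) :
    TensorProduct.AlgebraTensorModule.cancelBaseChange A₀ R S S M (s ⊗ₜ[R] t) =
      s • (g.rTensor M t) := by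
  induction t using TensorProduct.induction_on with
  | zero => simp
  | tmul r m =>
    rw [TensorProduct.AlgebraTensorModule.cancelBaseChange_tmul, LinearMap.rTensor_tmul, hg,
      TensorProduct.smul_tmul', Algebra.smul_def, smul_eq_mul, mul_comm]
  | add x y hx hy => rw [TensorProduct.tmul_add, map_add, hx, hy, map_add, smul_add]

theorem cancel_natural (φ : M →ₗ[A₀] N) (w : S ⊗[R] (R ⊗[A₀] M)) :
    TensorProduct.AlgebraTensorModule.cancelBaseChange A₀ R S S N ((φ.baseChange R).lTensor S w) =
      φ.baseChange S (TensorProduct.AlgebraTensorModule.cancelBaseChange A₀ R S S M w) := by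
  induction w using TensorProduct.induction_on with
  | zero => simp
  | tmul s t =>
    induction t using TensorProduct.induction_on with
    | zero => simp
    | tmul r m =>
      rw [LinearMap.lTensor_tmul, LinearMap.baseChange_tmul,
        TensorProduct.AlgebraTensorModule.cancelBaseChange_tmul,
        TensorProduct.AlgebraTensorModule.cancelBaseChange_tmul, LinearMap.baseChange_tmul]
    | add x y hx hy =>
      rw [TensorProduct.tmul_add, map_add, map_add, hx, hy, map_add, map_add]
  | add x y hx hy => rw [map_add, map_add, hx, hy, map_add, map_add]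

end Cancel

section MVF

open Adeq Groth.Agent.Lib.Seat39.MVF Groth.Agent.Lib.Seat39.BC Groth.Agent.Lib.Seat39.AdeqF

variable {A : Type u} [CommRing A]

theorem bc_tmul (F : MVF A) {B B' : Alg A} (f : B ⟶ B') (s : B') (y : F.obj (pt B)) :
    (F.bc f) (s ⊗ₜ[(B : Type u), f.hom.toRingHom] y) = s • mp F (ptHom f) y := by
  have h := ModuleCat.ExtendScalars.smul_tmul f.hom.toRingHom (M := F.obj (pt B)) s 1 y
  rw [mul_one] at h
  refine (congrArg (F.bc f) h.symm).trans ?_
  refine ((F.bc f).hom.map_smul s _).trans ?_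
  exact congrArg (s • ·) (bc_one_tmul F f y)

theorem isIso_bc_of_pres {F : MVF A} (P : Pres F) {B B' : Alg A} (f : B ⟶ B')
    (hf : f.hom.toRingHom.Flat) : IsIso (F.bc f) := by
  letI : Algebra (B : Type u) (B' : Type u) := f.hom.toRingHom.toAlgebra
  haveI : Module.Flat (B : Type u) (B' : Type u) := hf
  haveI : IsScalarTower A (B : Type u) (B' : Type u) :=
    IsScalarTower.of_algebraMap_eq (fun a => (f.hom.commutes a).symm)
  rw [ConcreteCategory.isIso_iff_bijective]
  let j₀ : F.obj (pt B) →ₗ[(B : Type u)] (B : Type u) ⊗[A] P.M := (P.j.app (pt B)).hom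
  let φ₀ : (B : Type u) ⊗[A] P.M →ₗ[(B : Type u)] (B : Type u) ⊗[A] P.N := P.φ.hom.baseChange (B : Type u)
  let θP := TensorProduct.AlgebraTensorModule.cancelBaseChange A (B : Type u) (B' : Type u) (B' : Type u) P.M
  let θQ := TensorProduct.AlgebraTensorModule.cancelBaseChange A (B : Type u) (B' : Type u) (B' : Type u) P.N
  let g : (B' : Type u) ⊗[(B : Type u)] F.obj (pt B) →+ F.obj (pt B') :=
    (F.bc f).hom.toAddMonoidHom
  refine bc_bijective (S := (B' : Type u)) j₀ φ₀ (P.inj (pt B)) ?_
    (ap P.j (pt B')) (ap ((underline A).map P.φ) (pt B')) (P.inj (pt B'))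
    (fun w => θP w) θP.bijective (fun w => θQ w) θQ.injective (map_zero θQ)
    (fun z => g z) ?_ ?_ (P.zero_apply (pt B'))
  · intro p
    constructor
    · intro hp
      exact P.exact (pt B) p hp
    · rintro ⟨x, rfl⟩
      exact P.zero_apply (pt B) x
  · intro z
    induction z using TensorProduct.induction_on with
    | zero =>
      change ap P.j (pt B') (g 0) = θP (j₀.lTensor (B' : Type u) 0)
      rw [map_zero, map_zero, map_zero, map_zero]
      rfl
    | tmul s x =>
      have e1 : g (s ⊗ₜ[(B : Type u)] x) = s • mp F (ptHom f) x := bc_tmul F f s x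
      change ap P.j (pt B') (g (s ⊗ₜ[(B : Type u)] x)) = θP (s ⊗ₜ[(B : Type u)] (j₀ x))
      rw [e1, ap_smul, ap_mp]
      exact (cancel_tmul (A₀ := A) (M := P.M) f.hom.toLinearMap (fun r => rfl) s (j₀ x)).symm
    | add x y hx hy =>
      change ap P.j (pt B') (g (x + y)) = θP (j₀.lTensor (B' : Type u) (x + y))
      rw [map_add, map_add, map_add, map_add]
      exact congrArg₂ (· + ·) hx hy
  · intro w
    exact cancel_natural (A₀ := A) P.φ.hom w

end MVF

end Groth.Agent.Lib.Seat39.FlatBC
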