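import Groth.Prelude.Def_Adeq
import Groth.Agent.Lib.Seat39MVF
import Groth.Agent.Lib.Seat39BC
import Mathlib.RingTheory.AdjoinRoot
import Mathlib.RingTheory.Flat.Basic
import Mathlib.RingTheory.RingHom.Flat
import Mathlib.Tactic.ComputeDegree

/-!
# Seat39: additive unit-homogeneous transformations into functors with flat base change are linear
-/
set_option autoImplicit false
universe u
open CategoryTheory Limits Opposite TensorProduct ChangeOfRings Polynomial

namespace Groth.Agent.Lib.Seat39.FlatLin

section Quad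

variable {B : Type u} [CommRing B] (b : B)

/-- The monic quadratic `X² + bX - 1`; in the quotient both `x` and `x + b` are units. -/
noncomputable def qpoly : B[X] := X ^ 2 + C b * X - 1

theorem qpoly_monic : (qpoly b).Monic := by
  unfold qpoly
  monicity!

theorem qpoly_natDegree [Nontrivial B] : (qpoly b).natDegree = 2 := by
  unfold qpoly
  compute_degree!

/-- The quotient ring `B[x]/(x² + bx - 1)`. -/
abbrev Q : Type u := AdjoinRoot (qpoly b)

theorem root_mul : AdjoinRoot.root (qpoly b) * (AdjoinRoot.root (qpoly b) + algebraMap B (Q b) b) = 1 := by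
  have h := AdjoinRoot.eval₂_root (qpoly b)
  unfold qpoly at h
  simp only [eval₂_sub, eval₂_add, eval₂_pow, eval₂_X, eval₂_mul, eval₂_C, eval₂_one] at h
  have h' : AdjoinRoot.root (qpoly b) ^ 2 + algebraMap B (Q b) b * AdjoinRoot.root (qpoly b) = 1 :=
    sub_eq_zero.mp h
  rw [← h']
  ring

/-- A `B`-linear retraction of `B → Q b`. -/
noncomputable def retr : Q b →ₗ[B] B := by
  classical
  by_cases hB : Nontrivial B
  · exact (AdjoinRoot.powerBasis' (qpoly_monic b)).basis.coord
      ⟨0, by rw [AdjoinRoot.powerBasis'_dim, qpoly_natDegree]; norm_num⟩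
  · exact 0

theorem retr_one : retr b 1 = 1 := by
  classical
  unfold retr
  by_cases hB : Nontrivial B
  · rw [dif_pos hB]
    have h0 : (AdjoinRoot.powerBasis' (qpoly_monic b)).basis
        ⟨0, by rw [AdjoinRoot.powerBasis'_dim, qpoly_natDegree]; norm_num⟩ = 1 := by
      rw [PowerBasis.basis_eq_pow]
      exact pow_zero _
    conv_lhs => rw [← h0]
    rw [Module.Basis.coord_apply, Module.Basis.repr_self, Finsupp.single_eq_same]
  · rw [dif_neg hB]
    have : Subsingleton B := not_nontrivial_iff_subsingleton.mp hB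
    exact Subsingleton.elim _ _

instance : Module.Free B (Q b) :=
  Module.Free.of_basis (AdjoinRoot.powerBasis' (qpoly_monic b)).basis

end Quad

end Groth.Agent.Lib.Seat39.FlatLin

namespace Groth.Agent.Lib.Seat39.FlatLin

open Adeq Groth.Agent.Lib.Seat39.MVF Groth.Agent.Lib.Seat39.BC

section Tensor

variable {R S : Type u} [CommRing R] [CommRing S] (f : R →+* S)
  (M : Type (u + 1)) [AddCommGroup M] [Module R M]

/-- If `S` has an `R`-linear retraction onto `R` sending `1` to `1`, then `m ↦ 1 ⊗ m` is injective. -/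
theorem one_tmul_injective
    (r : S →+ R) (hr : ∀ (c : R) (s : S), r (f c * s) = c * r s) (h1 : r 1 = 1) :
    letI := Module.compHom S f
    Function.Injective (fun y : M => (1 : S) ⊗ₜ[R] y) := by
  letI := Module.compHom S f
  let r' : S →ₗ[R] R :=
    { toFun := r
      map_add' := r.map_add
      map_smul' := fun c s => hr c s }
  intro y y' h
  have h' := congrArg (fun z => TensorProduct.lid R M (r'.rTensor M z)) h
  have e : r' 1 = 1 := h1
  simpa [e] using h'

end Tensor

variable {A : Type u} [CommRing A]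

/-- The algebra `B[x]/(x² + bx - 1)` as an object of `Alg A`. -/
noncomputable abbrev QAlg (B : Alg A) (b : B) : Alg A := algOf A (Q b)

/-- The structure map `B ⟶ B[x]/(x² + bx - 1)`. -/
noncomputable def toQ (B : Alg A) (b : B) : B ⟶ QAlg B b :=
  CommAlgCat.ofHom
    { toRingHom := algebraMap (B : Type u) (Q b)
      commutes' := fun a => (IsScalarTower.algebraMap_apply A (B : Type u) (Q b) a).symm }

theorem toQ_flat (B : Alg A) (b : B) : (toQ B b).hom.toRingHom.Flat := by
  change (algebraMap (B : Type u) (Q b)).Flat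
  rw [RingHom.flat_algebraMap_iff]
  infer_instance

theorem mp_toQ_injective (G : MVF A) (B : Alg A) (b : B) [IsIso (G.bc (toQ B b))] :
    Function.Injective (mp G (ptHom (toQ B b))) := by
  apply mp_injective_of_isIso_bc
  refine one_tmul_injective (toQ B b).hom.toRingHom (G.obj (pt B))
    (retr b).toAddMonoidHom (fun c x => ?_) (retr_one b)
  change retr b (algebraMap (B : Type u) (Q b) c * x) = c • retr b x
  rw [← Algebra.smul_def, (retr b).map_smul]

theorem flat_linear (F G : MVF A)
    (φ : ∀ B : Alg A, F.obj (pt B) → G.obj (pt B))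
    (hnat : ∀ ⦃B B' : Alg A⦄ (f : B ⟶ B') (x : F.obj (pt B)),
      φ B' (mp F (ptHom f) x) = mp G (ptHom f) (φ B x))
    (hadd : ∀ (B : Alg A) (x y : F.obj (pt B)), φ B (x + y) = φ B x + φ B y)
    (hunit : ∀ (B : Alg A) (v : (B : Type u)ˣ) (x : F.obj (pt B)), φ B ((v : B) • x) = (v : B) • φ B x)
    (hG : ∀ ⦃B B' : Alg A⦄ (f : B ⟶ B'), f.hom.toRingHom.Flat → IsIso (G.bc f))
    (B : Alg A) (b : B) (x : F.obj (pt B)) : φ B (b • x) = b • φ B x := by
  have : IsIso (G.bc (toQ B b)) := hG _ (toQ_flat B b)
  apply mp_toQ_injective G B b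
  set f := toQ B b with hf
  set t : Q b := AdjoinRoot.root (qpoly b) with ht
  set b' : Q b := algebraMap (B : Type u) (Q b) b with hb'
  have h1 : t * (t + b') = 1 := root_mul b
  let v₁ : (Q b)ˣ := Units.mkOfMulEqOne t (t + b') h1
  let v₂ : (Q b)ˣ := Units.mkOfMulEqOne (t + b') t (by rw [mul_comm]; exact h1)
  set x' : F.obj (pt (QAlg B b)) := mp F (ptHom f) x with hx'
  have e1 : φ (QAlg B b) (t • x') = t • φ (QAlg B b) x' := hunit (QAlg B b) v₁ x'
  have e2 : φ (QAlg B b) ((t + b') • x') = (t + b') • φ (QAlg B b) x' := hunit (QAlg B b) v₂ x'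
  rw [add_smul, hadd, e1, add_smul] at e2
  have e3 : φ (QAlg B b) (b' • x') = b' • φ (QAlg B b) x' := add_left_cancel e2
  have e4 : mp F (ptHom f) (b • x) = b' • x' := mp_smul F (ptHom f) b x
  have e5 : mp G (ptHom f) (b • φ B x) = b' • mp G (ptHom f) (φ B x) := mp_smul G (ptHom f) b (φ B x)
  rw [← hnat, e4, e3, e5, hnat]

end Groth.Agent.Lib.Seat39.FlatLin
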