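import Groth.Agent.Lib.Seat39LemmaDK

/-!
# Seat39: covering sieves of affine objects of the big fpqc / fppf / Zariski sites contain finite
affine faithfully flat covering families
-/
set_option autoImplicit false
universe u
open CategoryTheory Limits Opposite AlgebraicGeometry TensorProduct

attribute [-instance] Groth.Agent.Lib.Seat39.Restr.algRestr

namespace Groth.Agent.Lib.Seat39.FpqcRefine

open Adeq Groth.Agent.Lib.Seat39.MVF Groth.Agent.Lib.Seat39.OverId Groth.Agent.Lib.Seat39.BigMVF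
  Groth.Agent.Lib.Seat39.LemmaD Groth.Agent.Lib.Seat39.LemmaDK Groth.Agent.Lib.Seat39.EpiLoc

theorem mem_sieve_of_factor {S : Scheme.{u}} {R : CommRingCat.{u}} (a : Spec R ⟶ S)
    (T : Sieve (Over.mk a)) {V : Scheme.{u}} (g : V ⟶ Spec R)
    (hg : T (Over.homMk g rfl : Over.mk (g ≫ a) ⟶ Over.mk a)) {A : CommRingCat.{u}} (φ : R ⟶ A)
    (h : Spec A ⟶ V) (hh : h ≫ g = Spec.map φ) :
    T (Over.homMk (Spec.map φ) rfl : Over.mk (Spec.map φ ≫ a) ⟶ Over.mk a) := by
  have hw : h ≫ (g ≫ a) = Spec.map φ ≫ a := by rw [← Category.assoc, hh]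
  have h2 := T.downward_closed hg
    (Over.homMk h hw : Over.mk (Spec.map φ ≫ a) ⟶ Over.mk (g ≫ a))
  have h3 : (Over.homMk h hw : Over.mk (Spec.map φ ≫ a) ⟶ Over.mk (g ≫ a)) ≫
      (Over.homMk g rfl : Over.mk (g ≫ a) ⟶ Over.mk a) =
      (Over.homMk (Spec.map φ) rfl : Over.mk (Spec.map φ ≫ a) ⟶ Over.mk a) := by
    ext
    exact hh
  rw [← h3]
  exact h2

/-- A finite flat jointly surjective affine family gives a faithfully flat product. -/
theorem ff_of_flat_surj {R : CommRingCat.{u}} {n : ℕ} (C : Fin n → Type u) [∀ j, CommRing (C j)]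
    [∀ j, Algebra R (C j)]
    (hsurj : ∀ x : Spec R, ∃ j, x ∈ Set.range
      (Spec.map (CommRingCat.ofHom (algebraMap R (C j)))).base)
    (hflat : ∀ j, Flat (Spec.map (CommRingCat.ofHom (algebraMap R (C j))))) :
    Module.FaithfullyFlat R (∀ j, C j) := by
  refine FFPi.faithfullyFlat_pi C (fun j => ?_) (fun p => ?_)
  · have h1 := hflat j
    rw [Flat.SpecMap_iff] at h1
    exact (RingHom.flat_algebraMap_iff).mp h1
  · obtain ⟨j, q, hq⟩ := hsurj p
    exact ⟨j, q, hq⟩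

/-- refinement of an fpqc covering presieve of an affine scheme -/
theorem refine_fpqc_presieve {R : CommRingCat.{u}} (P₀ : Presieve (Spec R))
    (hP₀ : P₀ ∈ Scheme.fpqcPrecoverage.coverings (Spec R)) :
    ∃ (n : ℕ) (A : Fin n → CommRingCat.{u}) (φ : ∀ j, R ⟶ A j),
      Presieve.ofArrows (fun j => Spec (A j)) (fun j => Spec.map (φ j)) ∈
        Scheme.fpqcPrecoverage.coverings (Spec R) ∧
      ∀ j, ∃ (V : Scheme.{u}) (g : V ⟶ Spec R) (_ : P₀ g) (h : Spec (A j) ⟶ V),
        h ≫ g = Spec.map (φ j) := by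
  unfold Scheme.fpqcPrecoverage at hP₀ ⊢
  obtain ⟨𝒰, hqc, rfl⟩ := Scheme.mem_propQCPrecoverage_iff_exists_quasiCompactCover.mp hP₀
  obtain ⟨𝒱, g, hfin, -⟩ : ∃ (𝒱 : Scheme.AffineCover.{u + 1} @Flat (Spec R)) (f : 𝒱.cover ⟶ 𝒰),
      Finite 𝒱.I₀ ∧ ∀ j, IsOpenImmersion (f.h₀ j) := QuasiCompactCover.exists_hom 𝒰
  obtain ⟨n, ⟨e⟩⟩ := Finite.exists_equiv_fin 𝒱.I₀
  refine ⟨n, fun j => 𝒱.X (e.symm j), fun j => Spec.preimage (𝒱.f (e.symm j)), ?_, ?_⟩
  · have hmem : Presieve.ofArrows (fun j : Fin n => Spec (𝒱.X (e.symm j)))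
        (fun j => Spec.map (Spec.preimage (𝒱.f (e.symm j)))) ∈
        Scheme.precoverage @Flat (Spec R) := by
      rw [Scheme.ofArrows_mem_precoverage_iff]
      constructor
      · intro x
        refine ⟨e (𝒱.idx x), ?_⟩
        rw [Spec.map_preimage, e.symm_apply_apply]
        exact 𝒱.covers x
      · intro j
        rw [Spec.map_preimage]
        exact 𝒱.map_prop _
    let 𝒲 : (Spec R).Cover (Scheme.precoverage @Flat) :=
      { I₀ := Fin n
        X := fun j => Spec (𝒱.X (e.symm j))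
        f := fun j => Spec.map (Spec.preimage (𝒱.f (e.symm j)))
        mem₀ := hmem }
    have hq1 : ∀ i, QuasiCompact (𝒲.f i) := fun i =>
      (inferInstance : QuasiCompact (Spec.map (Spec.preimage (𝒱.f (e.symm i)))))
    have hq2 : Finite 𝒲.I₀ := inferInstanceAs (Finite (Fin n))
    have hqc' : QuasiCompactCover 𝒲.toPreZeroHypercover := QuasiCompactCover.of_finite
    exact ⟨Scheme.presieve₀_mem_qcPrecoverage_iff.mpr hqc', hmem⟩
  · intro j
    refine ⟨𝒰.X (g.s₀ (e.symm j)), 𝒰.f (g.s₀ (e.symm j)), ⟨_⟩, g.h₀ (e.symm j), ?_⟩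
    rw [Spec.map_preimage]
    exact g.w₀ (e.symm j)

/-- Covering sieves of affine objects of the big fpqc site contain finite affine faithfully flat
covering families. -/
theorem hasAffineRefinement_fpqc : HasAffineRefinement Scheme.fpqcPrecoverage.{u} := by
  intro S R a T hT
  obtain ⟨P₀, hP₀, hle⟩ := exists_cover_le Scheme.fpqcPrecoverage T hT
  obtain ⟨n, A, φ, hcov, hfac⟩ := refine_fpqc_presieve P₀ hP₀
  let alg : ∀ j, Algebra R (A j) := fun j => (φ j).hom.toAlgebra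
  refine ⟨n, fun j => A j, fun j => inferInstance, alg, ?_, hcov, ?_⟩
  · have h1 := hcov
    unfold Scheme.fpqcPrecoverage at h1
    obtain ⟨-, h2⟩ := h1
    rw [Scheme.ofArrows_mem_precoverage_iff] at h2
    exact ff_of_flat_surj (fun j => A j) h2.1 h2.2
  · intro j
    obtain ⟨V, g, hg, h, hh⟩ := hfac j
    exact mem_sieve_of_factor a T g (hle g hg) (φ j) h hh

end Groth.Agent.Lib.Seat39.FpqcRefine
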