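import Groth.Agent.Lib.Seat39FpqcRefine

/-!
# Seat39: an adequate module on a big site (Zariski or finer, coarser than fpqc) is an fpqc sheaf
-/
set_option autoImplicit false
universe u
open CategoryTheory Limits Opposite AlgebraicGeometry TensorProduct

attribute [-instance] Groth.Agent.Lib.Seat39.Restr.algRestr

namespace Groth.Agent.Lib.Seat39.FpqcSheaf

open Adeq Groth.Agent.Lib.Seat39.MVF Groth.Agent.Lib.Seat39.OverId Groth.Agent.Lib.Seat39.BigMVF
  Groth.Agent.Lib.Seat39.LemmaD Groth.Agent.Lib.Seat39.LemmaDK Groth.Agent.Lib.Seat39.EpiLoc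
  Groth.Agent.Lib.Seat39.ShfUnit Groth.Agent.Lib.Seat39.FpqcRefine

/-- An affine Zariski covering family of a scheme. -/
theorem exists_affine_zariski_cover (X : Scheme.{u}) :
    ∃ (ι : Type u) (R : ι → CommRingCat.{u}) (g : ∀ i, Spec (R i) ⟶ X),
      Presieve.ofArrows (fun i => Spec (R i)) g ∈ Scheme.zariskiPrecoverage.coverings X := by
  refine ⟨X.affineCover.I₀, fun i => Γ(X.affineCover.X i, ⊤),
    fun i => (X.affineCover.X i).isoSpec.inv ≫ X.affineCover.f i, ?_⟩
  unfold Scheme.zariskiPrecoverage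
  rw [Scheme.ofArrows_mem_precoverage_iff]
  constructor
  · intro x
    refine ⟨X.affineCover.idx x, ?_⟩
    obtain ⟨y, hy⟩ := X.affineCover.covers x
    refine ⟨(X.affineCover.X _).isoSpec.hom.base y, ?_⟩
    refine Eq.trans ?_ hy
    rw [← Scheme.Hom.comp_apply, Iso.hom_inv_id_assoc]
  · intro i
    infer_instance

section Main

variable (K₀ : Precoverage Scheme.{u}) [BigSite.OSh K₀]
  (hK₀ : Scheme.zariskiPrecoverage.{u} ≤ K₀) {S : Scheme.{u}} (M : BigSite.Mod K₀ S)

/-- the underlying presheaf of modules, on the big fpqc site -/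
noncomputable abbrev Pq : PresheafOfModules.{u + 1} (BigSite.ORing Scheme.fpqcPrecoverage S).obj :=
  M.val

/-- its fpqc sheafification -/
noncomputable abbrev Mq : BigSite.Mod Scheme.fpqcPrecoverage S :=
  shf.{u + 1, u + 1, u, u + 1} (BigSite.ORing Scheme.fpqcPrecoverage S) (Pq K₀ M)

/-- the unit -/
noncomputable abbrev η : Pq K₀ M ⟶ (Mq K₀ M).val :=
  unitHom (BigSite.ORing Scheme.fpqcPrecoverage S) (Pq K₀ M)

variable (hadq : ∀ (R : CommRingCat.{u}) (a : Spec R ⟶ S),
  adequate R ((toMVFPre Scheme.fpqcPrecoverage a).obj (Pq K₀ M)))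

include hK₀ hadq

/-- The unit is injective on all objects. -/
theorem η_injective (V : Over S) (x : M.val.obj (op V))
    (hx : ap (η K₀ M) (op V) x = 0) : x = 0 := by
  obtain ⟨ι, R, g, hcov⟩ := exists_affine_zariski_cover V.left
  refine eq_zero_of_cover K₀ M x _ (hK₀ _ hcov) ?_
  intro W l hl
  obtain ⟨i⟩ := hl
  refine LemmaDK.unit_injective hasAffineRefinement_fpqc (Pq K₀ M) hadq (g i ≫ V.hom) _ ?_
  have h1 := ap_mp (η K₀ M) (Over.homMk (g i) rfl : Over.mk (g i ≫ V.hom) ⟶ V).op x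
  refine h1.trans ?_
  rw [hx, map_zero]

/-- The unit is surjective on all objects. -/
theorem η_surjective (V : Over S) (s : (Mq K₀ M).val.obj (op V)) :
    ∃ x : M.val.obj (op V), ap (η K₀ M) (op V) x = s := by
  obtain ⟨ι, R, g, hcov⟩ := exists_affine_zariski_cover V.left
  let Z : ι → Over S := fun i => Over.mk (g i ≫ V.hom)
  let g' : ∀ i, Z i ⟶ V := fun i => Over.homMk (g i) rfl
  have hsurj : ∀ i, ∃ y : M.val.obj (op (Z i)),
      ap (η K₀ M) (op (Z i)) y = mp (Mq K₀ M).val (g' i).op s := fun i =>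
    LemmaDK.unit_surjective hasAffineRefinement_fpqc (Pq K₀ M) hadq (g i ≫ V.hom) _
  choose y hy using hsurj
  let W : ι → ι → Over S := fun i j => Over.mk (pullback.fst (g i) (g j) ≫ g i ≫ V.hom)
  let p : ∀ i j, W i j ⟶ Z i := fun i j => Over.homMk (pullback.fst (g i) (g j)) rfl
  let q : ∀ i j, W i j ⟶ Z j := fun i j => Over.homMk (pullback.snd (g i) (g j)) (by
    change pullback.snd (g i) (g j) ≫ g j ≫ V.hom = pullback.fst (g i) (g j) ≫ g i ≫ V.hom
    rw [← Category.assoc, ← pullback.condition, Category.assoc])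
  have hpq : ∀ i j, p i j ≫ g' i = q i j ≫ g' j := by
    intro i j
    ext
    exact pullback.condition
  have hcompat : ∀ i j, mp M.val (p i j).op (y i) = mp M.val (q i j).op (y j) := by
    intro i j
    have hd := η_injective K₀ hK₀ M hadq (W i j)
      (mp M.val (p i j).op (y i) - mp M.val (q i j).op (y j)) (by
        refine (map_sub (ap (η K₀ M) (op (W i j))) _ _).trans (sub_eq_zero.mpr ?_)
        have e1 := ap_mp (η K₀ M) (p i j).op (y i)
        have e2 := ap_mp (η K₀ M) (q i j).op (y j)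
        refine e1.trans (Eq.trans ?_ e2.symm)
        rw [hy i, hy j, ← mp_comp, ← mp_comp, ← op_comp, ← op_comp, hpq i j])
    exact sub_eq_zero.mp hd
  obtain ⟨x, hx⟩ := sheaf_glue K₀ M Z g' (hK₀ _ hcov) W p q
    (fun i j => IsPullback.of_hasPullback (g i) (g j)) y hcompat
  refine ⟨x, ?_⟩
  have hz : ap (η K₀ M) (op V) x - s = 0 := by
    refine eq_zero_of_cover Scheme.fpqcPrecoverage.{u} (Mq K₀ M) _ _
      (Scheme.zariskiPrecoverage_le_fpqcPrecoverage _ hcov) ?_
    intro T l hl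
    obtain ⟨i⟩ := hl
    refine (map_sub (mp (Mq K₀ M).val (g' i).op) _ _).trans (sub_eq_zero.mpr ?_)
    refine (ap_mp (η K₀ M) (g' i).op x).symm.trans ?_
    exact (congrArg (ap (η K₀ M) (op (Z i))) (hx i)).trans (hy i)
  exact sub_eq_zero.mp hz

/-- The unit is an isomorphism. -/
theorem isIso_η : IsIso (η K₀ M) := by
  refine isIso_of_ap_bijective _ (fun X => ⟨?_, ?_⟩)
  · refine (injective_iff_map_eq_zero _).mpr ?_
    intro x hx
    exact η_injective K₀ hK₀ M hadq X.unop x hx
  · intro s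
    exact η_surjective K₀ hK₀ M hadq X.unop s

/-- The underlying presheaf of abelian groups of `M` is an fpqc sheaf. -/
theorem isSheaf_fpqc :
    Presheaf.IsSheaf (QuotSh.J Scheme.fpqcPrecoverage S) M.val.presheaf := by
  have hiso := isIso_η K₀ hK₀ M hadq
  have e : M.val.presheaf ≅ (Mq K₀ M).val.presheaf :=
    (PresheafOfModules.toPresheaf _).mapIso (@asIso _ _ _ _ (η K₀ M) hiso)
  exact (Presheaf.isSheaf_of_iso_iff e).mpr (Mq K₀ M).isSheaf

end Main

end Groth.Agent.Lib.Seat39.FpqcSheaf
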