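import Groth.Agent.Lib.Seat39DescentFam

/-!
# Seat39: a module-valued functor which is pointwise the equalizer of maps between finite families
of adequate functors is adequate
-/
set_option autoImplicit false
universe u
open CategoryTheory Limits Opposite

namespace Groth.Agent.Lib.Seat39.KerFam

open Adeq Groth.Agent.Lib.Seat39.MVF Groth.Agent.Lib.Seat39.Biprod
  Groth.Agent.Lib.Seat39.DescentFam

variable {R : Type u} [CommRing R] {J L : Type} [Fintype J] [Fintype L]

theorem adequate_of_family_equalizer (F : MVF R) (G₀f : J → MVF R) (G₁f : L → MVF R)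
    (hG₀f : ∀ j, adequate R (G₀f j)) (hG₁f : ∀ l, adequate R (G₁f l))
    (uc : ∀ j, F ⟶ G₀f j) (s t : L → J)
    (dL : ∀ l, G₀f (s l) ⟶ G₁f l) (dR : ∀ l, G₀f (t l) ⟶ G₁f l)
    (hcomm : ∀ l, uc (s l) ≫ dL l = uc (t l) ≫ dR l)
    (hinj : ∀ (B : Alg R) (x : F.obj (pt B)), (∀ j, ap (uc j) (pt B) x = 0) → x = 0)
    (hex : ∀ (B : Alg R) (y : ∀ j, (G₀f j).obj (pt B)),
      (∀ l, ap (dL l) (pt B) (y (s l)) = ap (dR l) (pt B) (y (t l))) →
      ∃ x : F.obj (pt B), ∀ j, ap (uc j) (pt B) x = y j) :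
    adequate R F := by
  classical
  have hG₀ : adequate R (⨁ G₀f) := adequate_biproduct G₀f hG₀f
  have hG₁ : adequate R (⨁ G₁f) := adequate_biproduct G₁f hG₁f
  let u : F ⟶ ⨁ G₀f := biproduct.lift uc
  let dc : ∀ l : L, (⨁ G₀f) ⟶ G₁f l := fun l =>
    biproduct.π G₀f (s l) ≫ dL l - biproduct.π G₀f (t l) ≫ dR l
  let d : (⨁ G₀f) ⟶ ⨁ G₁f := biproduct.lift dc
  have hd : u ≫ d = 0 := by
    apply biproduct.hom_ext
    intro l
    rw [Category.assoc, biproduct.lift_π, zero_comp]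
    change u ≫ (biproduct.π G₀f (s l) ≫ _ - biproduct.π G₀f (t l) ≫ _) = 0
    rw [Preadditive.comp_sub, ← Category.assoc, ← Category.assoc, biproduct.lift_π,
      biproduct.lift_π, hcomm l, sub_self]
  refine adequate_of_pointwise_kernel hG₀ hG₁ u d hd ?_ ?_
  · rintro ⟨⟨B⟩⟩
    rw [injective_iff_map_eq_zero]
    intro x hx
    apply hinj B x
    intro j
    have := congrArg (ap (biproduct.π G₀f j) (pt B)) hx
    rw [biproduct_lift_ap, map_zero] at this
    exact this
  · rintro ⟨⟨B⟩⟩ y hy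
    let yc : ∀ j, (G₀f j).obj (pt B) := fun j => ap (biproduct.π G₀f j) (pt B) y
    have hcomp : ∀ l, ap (dL l) (pt B) (yc (s l)) = ap (dR l) (pt B) (yc (t l)) := by
      intro l
      have h0 := congrArg (ap (biproduct.π G₁f l) (pt B)) hy
      rw [biproduct_lift_ap, map_zero] at h0
      change ap (biproduct.π G₀f (s l) ≫ dL l - biproduct.π G₀f (t l) ≫ dR l) (pt B) y = 0 at h0
      rw [ap_sub', sub_eq_zero, ap_comp, ap_comp] at h0
      exact h0
    obtain ⟨x, hx⟩ := hex B yc hcomp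
    refine ⟨x, ?_⟩
    apply biproduct_ext_ap G₀f
    intro j
    rw [biproduct_lift_ap]
    exact hx j

end Groth.Agent.Lib.Seat39.KerFam
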