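import Groth.Agent.Lib.Seat39TanDecomp

/-!
# Seat39: linearising a natural set-theoretic section of an epimorphism of module-valued functors
-/
set_option autoImplicit false
universe u v
open CategoryTheory Limits Opposite TensorProduct

namespace Groth.Agent.Lib.Seat39.Tsz

open Adeq Groth.Agent.Lib.Seat39.MVF Groth.Agent.Lib.Seat39.AdeqF

variable {A : Type u} [CommRing A]

/-- A natural transformation of the underlying set-valued functors which lifts `p` through `g`. -/
structure SetLift {G H L : MVF A} (g : G ⟶ H) (p : L ⟶ H) where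
  /-- the maps -/
  σ : ∀ C : Alg A, L.obj (pt C) → G.obj (pt C)
  nat : ∀ {C C' : Alg A} (k : C ⟶ C') (x : L.obj (pt C)),
    σ C' (mp L (ptHom k) x) = mp G (ptHom k) (σ C x)
  sec : ∀ (C : Alg A) (x : L.obj (pt C)), ap g (pt C) (σ C x) = ap p (pt C) x

/-- A natural transformation of the underlying set-valued functors which is a section of `g`. -/
abbrev SetSection {G L : MVF A} (g : G ⟶ L) := SetLift g (𝟙 L)

section Lin

variable {G H L : MVF A} {g : G ⟶ H} {p : L ⟶ H} (T : SetLift g p)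
  (hI1 : TanInj G 1) (hS1 : TanSurj G 1) (hS2 : TanSurj G 2) (hIL : TanInj H 1)

/-- The element `zp (σ (ε x))`. -/
noncomputable def sig1 (C : Alg A) (x : L.obj (pt C)) : G.obj (pt (dn C 1)) :=
  zp G C 1 (T.σ (dn C 1) (tan L C 1 (fun _ => x)))

include hS1 in
theorem exists_lin (C : Alg A) (x : L.obj (pt C)) :
    ∃ y : G.obj (pt C), tan G C 1 (fun _ => y) = sig1 T C x := by
  obtain ⟨y, hy⟩ := hS1 C (sig1 T C x) (dfst_zp G C 1 _)
  refine ⟨y 0, ?_⟩
  rw [← hy]
  congr 1
  funext l
  rw [Subsingleton.elim l 0]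

/-- The linearised section. -/
noncomputable def lin (C : Alg A) (x : L.obj (pt C)) : G.obj (pt C) :=
  (exists_lin T hS1 C x).choose

theorem lin_spec (C : Alg A) (x : L.obj (pt C)) :
    tan G C 1 (fun _ => lin T hS1 C x) = sig1 T C x :=
  (exists_lin T hS1 C x).choose_spec

include hI1 in
theorem lin_unique (C : Alg A) (x : L.obj (pt C)) (y : G.obj (pt C))
    (hy : tan G C 1 (fun _ => y) = sig1 T C x) : lin T hS1 C x = y := by
  have := hI1.eq ((lin_spec T hS1 C x).trans hy.symm)
  exact congrFun this 0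

theorem sig1_comb {C : Alg A} {r : ℕ} (γ : Fin r → (C : Type u)) (v : Fin r → L.obj (pt C)) :
    mp G (ptHom (dcomb γ)) (zp G C r (T.σ (dn C r) (tan L C r v))) =
      sig1 T C (∑ l, γ l • v l) := by
  rw [dcomb_zp, ← T.nat, dcomb_tan]
  rfl

include hI1 in
theorem lin_comb {C : Alg A} {r : ℕ} (γ : Fin r → (C : Type u)) (v : Fin r → L.obj (pt C))
    (y : Fin r → G.obj (pt C)) (hy : tan G C r y = zp G C r (T.σ (dn C r) (tan L C r v))) :
    lin T hS1 C (∑ l, γ l • v l) = ∑ l, γ l • y l := by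
  apply lin_unique T hI1 hS1
  rw [← sig1_comb, ← hy, dcomb_tan]

include hI1 in
theorem lin_smul (C : Alg A) (c : (C : Type u)) (x : L.obj (pt C)) :
    lin T hS1 C (c • x) = c • lin T hS1 C x := by
  have h := lin_comb T hI1 hS1 (fun _ : Fin 1 => c) (fun _ => x) (fun _ => lin T hS1 C x)
    (lin_spec T hS1 C x)
  rw [Fin.sum_univ_one, Fin.sum_univ_one] at h
  exact h

include hI1 hS2 in
theorem lin_add (C : Alg A) (x x' : L.obj (pt C)) :
    lin T hS1 C (x + x') = lin T hS1 C x + lin T hS1 C x' := by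
  let v : Fin 2 → L.obj (pt C) := ![x, x']
  obtain ⟨y, hy⟩ := hS2 C (zp G C 2 (T.σ (dn C 2) (tan L C 2 v))) (dfst_zp G C 2 _)
  have h10 := lin_comb T hI1 hS1 (![1, 0] : Fin 2 → (C : Type u)) v y hy
  have h01 := lin_comb T hI1 hS1 (![0, 1] : Fin 2 → (C : Type u)) v y hy
  have h11 := lin_comb T hI1 hS1 (![1, 1] : Fin 2 → (C : Type u)) v y hy
  simp only [Fin.sum_univ_two, Matrix.cons_val_zero, Matrix.cons_val_one, one_smul, zero_smul,
    add_zero, zero_add, v] at h10 h01 h11
  rw [h11, h10, h01]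

include hI1 in
theorem lin_nat {C C' : Alg A} (k : C ⟶ C') (x : L.obj (pt C)) :
    lin T hS1 C' (mp L (ptHom k) x) = mp G (ptHom k) (lin T hS1 C x) := by
  apply lin_unique T hI1 hS1
  have h1 := dmap_tan G k 1 (fun _ => lin T hS1 C x)
  rw [lin_spec, sig1, dmap_zp, ← T.nat, dmap_tan] at h1
  exact h1.symm

include hIL in
theorem lin_sec (C : Alg A) (x : L.obj (pt C)) :
    ap g (pt C) (lin T hS1 C x) = ap p (pt C) x := by
  have h1 := ap_tan g C 1 (fun _ => lin T hS1 C x)
  rw [lin_spec, sig1, ap_zp, T.sec, ap_tan, zp_tan] at h1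
  exact (congrFun (hIL.eq h1) 0).symm

include hI1 hS2 in
/-- The linearised section as a morphism. -/
noncomputable def linMor : L ⟶ G :=
  PresheafOfModules.homMk
    { app := fun X => AddCommGrpCat.ofHom
        (AddMonoidHom.mk' (lin T hS1 X.unop.unop) (lin_add T hI1 hS1 hS2 X.unop.unop))
      naturality := by
        intro X Y f
        ext x
        exact lin_nat T hI1 hS1 f.unop.unop x }
    (by
      intro X r m
      exact lin_smul T hI1 hS1 X.unop.unop r m)

theorem linMor_apply (C : Alg A) (x : L.obj (pt C)) :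
    ap (linMor T hI1 hS1 hS2) (pt C) x = lin T hS1 C x := rfl

include hIL in
theorem linMor_comp : linMor T hI1 hS1 hS2 ≫ g = p := by
  apply hom_ext_ap
  rintro ⟨⟨C⟩⟩ x
  rw [ap_comp]
  exact lin_sec T hS1 hIL C x

end Lin

end Groth.Agent.Lib.Seat39.Tsz
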