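import Groth.Prelude.Def_Adeq2
import Groth.Agent.Lib.Seat39MVF

/-!
# Seat39: identity-on-the-left morphisms in `Over S` between objects with equal structure maps

The kernel is very slow at comparing two objects `Over.mk h₁`, `Over.mk h₂` of `Over S` whose
structure morphisms are propositionally but not definitionally equal; everything here is stated
for variable structure morphisms, and proved by substitution.
-/
set_option autoImplicit false
universe u
open CategoryTheory Limits Opposite AlgebraicGeometry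

namespace Groth.Agent.Lib.Seat39.OverId

open Groth.Agent.Lib.Seat39.MVF

variable {S T T' : Scheme.{u}}

/-- The identity of `T`, as a morphism between two structures of `S`-scheme on `T` that are equal. -/
def idOver {h₁ h₂ : T ⟶ S} (e : h₁ = h₂) : Over.mk h₁ ⟶ Over.mk h₂ :=
  Over.homMk (𝟙 T) (by rw [e]; exact Category.id_comp _)

theorem idOver_refl (h : T ⟶ S) : idOver (rfl : h = h) = 𝟙 (Over.mk h) := by
  ext
  rfl

theorem idOver_comp {h₁ h₂ h₃ : T ⟶ S} (e : h₁ = h₂) (e' : h₂ = h₃) :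
    idOver e ≫ idOver e' = idOver (e.trans e') := by
  subst e e'
  rw [idOver_refl, Category.id_comp]

theorem idOver_natural {h₁ h₂ : T ⟶ S} {k₁ k₂ : T' ⟶ S} (e : h₁ = h₂) (e' : k₁ = k₂) (g : T' ⟶ T)
    (w₁ : g ≫ h₁ = k₁) (w₂ : g ≫ h₂ = k₂) :
    idOver e' ≫ (Over.homMk g w₂ : Over.mk k₂ ⟶ Over.mk h₂) =
      (Over.homMk g w₁ : Over.mk k₁ ⟶ Over.mk h₁) ≫ idOver e := by
  subst e e'
  rw [idOver_refl, idOver_refl, Category.id_comp, Category.comp_id]

variable (K : Precoverage Scheme.{u}) [BigSite.OSh K] (M : BigSite.Mod K S)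

theorem mp_idOver_refl (h : T ⟶ S) (x : M.val.obj (op (Over.mk h))) :
    mp M.val (idOver (rfl : h = h)).op x = x := by
  rw [mp_congr M.val (congrArg Quiver.Hom.op (idOver_refl h))]
  exact mp_id M.val _ x

theorem mp_idOver_bijective {h₁ h₂ : T ⟶ S} (e : h₁ = h₂) :
    Function.Bijective (mp M.val (idOver e).op) := by
  subst e
  have : (mp M.val (idOver (rfl : h₁ = h₁)).op : _ → _) = id := funext (mp_idOver_refl K M h₁)
  rw [this]
  exact Function.bijective_id

theorem mp_idOver_natural {h₁ h₂ : T ⟶ S} {k₁ k₂ : T' ⟶ S} (e : h₁ = h₂) (e' : k₁ = k₂)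
    (g : T' ⟶ T) (w₁ : g ≫ h₁ = k₁) (w₂ : g ≫ h₂ = k₂) (x : M.val.obj (op (Over.mk h₂))) :
    mp M.val (idOver e').op (mp M.val (Over.homMk g w₂ : Over.mk k₂ ⟶ Over.mk h₂).op x) =
      mp M.val (Over.homMk g w₁ : Over.mk k₁ ⟶ Over.mk h₁).op (mp M.val (idOver e).op x) := by
  rw [← mp_comp, ← mp_comp]
  apply mp_congr
  rw [← op_comp, ← op_comp, idOver_natural e e' g w₁ w₂]

/-- The sections of `O` over any structure of `S`-scheme on `T`: elements of `ULift Γ(T, ⊤)`. -/
abbrev sc (h : T ⟶ S) (r : ULift.{u + 1} Γ(T, ⊤)) : (BigSite.ORing K S).obj.obj (op (Over.mk h)) := r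

theorem mp_idOver_smul {h₁ h₂ : T ⟶ S} (e : h₁ = h₂) (r : ULift.{u + 1} Γ(T, ⊤))
    (x : M.val.obj (op (Over.mk h₂))) :
    mp M.val (idOver e).op (sc K h₂ r • x) = sc K h₁ r • mp M.val (idOver e).op x := by
  subst e
  rw [mp_idOver_refl, mp_idOver_refl]

end Groth.Agent.Lib.Seat39.OverId
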