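import Groth.Agent.Lib.Seat69Amitsur
import Mathlib.AlgebraicGeometry.GammaSpecAdjunction
import Mathlib.AlgebraicGeometry.AffineScheme
import Mathlib.CategoryTheory.Comma.Over.Basic
import Mathlib.CategoryTheory.Limits.Shapes.Products

/-!
# Seat39: the spectrum of the `n`-fold tensor power of `B` over `R` is the `n`-fold power of `Spec B` in
schemes over `Spec R`

Morphisms from an arbitrary scheme `T` over `Spec R` to `Spec C`, for an `R`-algebra `C`, are the `R`-algebra maps
from `C` to the global functions of `T`; the universal property of helper69's tensor tower does the rest.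
-/

set_option autoImplicit false
universe u
open CategoryTheory Limits AlgebraicGeometry Opposite

namespace Groth.Agent.Lib.Seat39.OverPower

open Groth.Agent.Lib.Seat69.Amitsur

variable {R : CommRingCat.{u}}

/-- the structure ring map of a scheme over `Spec R` -/
noncomputable def ρ (T : Over (Spec R)) : R ⟶ Γ(T.left, ⊤) :=
  (Scheme.ΓSpecIso R).inv ≫ T.hom.appTop

theorem toSpecΓ_ρ (T : Over (Spec R)) : T.left.toSpecΓ ≫ Spec.map (ρ T) = T.hom := by
  rw [ρ, Spec.map_comp, ← Scheme.toSpecΓ_naturality_assoc, toSpecΓ_SpecMap_ΓSpecIso_inv,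
    Category.comp_id]

section Ring

variable {C D : CommRingCat.{u}} (s : R ⟶ C) (s' : R ⟶ D) (T : Over (Spec R))

/-- the morphism over `Spec R` attached to a ring map to the global functions -/
noncomputable def mkOver (ψ : C ⟶ Γ(T.left, ⊤)) (h : s ≫ ψ = ρ T) : T ⟶ Over.mk (Spec.map s) :=
  Over.homMk (T.left.toSpecΓ ≫ Spec.map ψ) (by
    change (T.left.toSpecΓ ≫ Spec.map ψ) ≫ Spec.map s = T.hom
    rw [Category.assoc, ← Spec.map_comp, h, toSpecΓ_ρ])

/-- the ring map to the global functions attached to a morphism over `Spec R` -/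
noncomputable def ψOf (g : T ⟶ Over.mk (Spec.map s)) : C ⟶ Γ(T.left, ⊤) :=
  (Scheme.ΓSpecIso C).inv ≫ g.left.appTop

theorem ψOf_comm (g : T ⟶ Over.mk (Spec.map s)) : s ≫ ψOf s T g = ρ T := by
  have hw : g.left ≫ Spec.map s = T.hom := Over.w g
  rw [ψOf, ρ, Scheme.ΓSpecIso_inv_naturality_assoc, ← Scheme.Hom.comp_appTop, hw]

theorem mkOver_ψOf (g : T ⟶ Over.mk (Spec.map s)) :
    mkOver s T (ψOf s T g) (ψOf_comm s T g) = g := by
  apply Over.OverMorphism.ext
  change T.left.toSpecΓ ≫ Spec.map ((Scheme.ΓSpecIso C).inv ≫ g.left.appTop) = g.left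
  rw [Spec.map_comp, ← Scheme.toSpecΓ_naturality_assoc]
  exact (congrArg (fun t => g.left ≫ t) (toSpecΓ_SpecMap_ΓSpecIso_inv C)).trans (Category.comp_id _)

/-- the morphism over `Spec R` attached to a map of `R`-algebras -/
noncomputable def ovMap (κ : C ⟶ D) (h : s ≫ κ = s') : Over.mk (Spec.map s') ⟶ Over.mk (Spec.map s) :=
  Over.homMk (Spec.map κ) (by
    change Spec.map κ ≫ Spec.map s = Spec.map s'
    rw [← Spec.map_comp, h])

theorem mkOver_comp (κ : C ⟶ D) (h : s ≫ κ = s') (ψ : D ⟶ Γ(T.left, ⊤)) (hψ : s' ≫ ψ = ρ T) :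
    mkOver s' T ψ hψ ≫ ovMap s s' κ h =
      mkOver s T (κ ≫ ψ) (by rw [← Category.assoc, h, hψ]) := by
  apply Over.OverMorphism.ext
  change (T.left.toSpecΓ ≫ Spec.map ψ) ≫ Spec.map κ = T.left.toSpecΓ ≫ Spec.map (κ ≫ ψ)
  rw [Category.assoc, ← Spec.map_comp]

theorem ψOf_comp (κ : C ⟶ D) (h : s ≫ κ = s') (g : T ⟶ Over.mk (Spec.map s')) :
    ψOf s T (g ≫ ovMap s s' κ h) = κ ≫ ψOf s' T g := by
  change (Scheme.ΓSpecIso C).inv ≫ (g.left ≫ Spec.map κ).appTop =
    κ ≫ (Scheme.ΓSpecIso D).inv ≫ g.left.appTop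
  rw [Scheme.Hom.comp_appTop, Scheme.ΓSpecIso_inv_naturality_assoc]

end Ring

section Alg

/-- the `R`-algebra structure on the global functions of a scheme over `Spec R` -/
@[reducible] noncomputable def algΓ (T : Over (Spec R)) : Algebra R Γ(T.left, ⊤) := (ρ T).hom.toAlgebra

attribute [local instance] algΓ

/-- the structure map of an `R`-algebra -/
noncomputable abbrev sOf (C : Type u) [CommRing C] [Algebra R C] : R ⟶ CommRingCat.of C :=
  CommRingCat.ofHom (algebraMap R C)

/-- the spectrum of an `R`-algebra as a scheme over `Spec R` -/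
noncomputable abbrev ovObj (C : Type u) [CommRing C] [Algebra R C] : Over (Spec R) :=
  Over.mk (Spec.map (sOf (R := R) C))

variable {C D E : Type u} [CommRing C] [Algebra R C] [CommRing D] [Algebra R D]
  [CommRing E] [Algebra R E]

/-- the morphism of spectra over `Spec R` attached to a map of `R`-algebras -/
noncomputable def ovAlg (f : C →ₐ[R] D) : ovObj (R := R) D ⟶ ovObj (R := R) C :=
  ovMap (sOf C) (sOf D) (CommRingCat.ofHom f.toRingHom) (by
    ext r
    exact f.commutes r)

theorem ovAlg_comp (f : C →ₐ[R] D) (g : D →ₐ[R] E) : ovAlg g ≫ ovAlg f = ovAlg (g.comp f) := by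
  apply Over.OverMorphism.ext
  change Spec.map (CommRingCat.ofHom g.toRingHom) ≫ Spec.map (CommRingCat.ofHom f.toRingHom) =
    Spec.map (CommRingCat.ofHom (g.comp f).toRingHom)
  rw [← Spec.map_comp]
  rfl

variable (T : Over (Spec R))

/-- the algebra map attached to a morphism over `Spec R` -/
noncomputable def toAlg (g : T ⟶ ovObj (R := R) C) : C →ₐ[R] Γ(T.left, ⊤) :=
  { (ψOf (sOf C) T g).hom with
    commutes' := fun r => congrArg (fun f => f.hom r) (ψOf_comm (sOf C) T g) }

/-- the morphism over `Spec R` attached to an algebra map to the global functions -/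
noncomputable def ofAlg (φ : C →ₐ[R] Γ(T.left, ⊤)) : T ⟶ ovObj (R := R) C :=
  mkOver (sOf C) T (CommRingCat.ofHom φ.toRingHom) (by
    ext r
    exact φ.commutes r)

theorem ofAlg_toAlg (g : T ⟶ ovObj (R := R) C) : ofAlg T (toAlg T g) = g :=
  mkOver_ψOf (sOf C) T g

theorem ofAlg_comp (φ : D →ₐ[R] Γ(T.left, ⊤)) (f : C →ₐ[R] D) :
    ofAlg T φ ≫ ovAlg f = ofAlg T (φ.comp f) :=
  mkOver_comp (sOf C) (sOf D) T _ _ _ _

theorem toAlg_comp (g : T ⟶ ovObj (R := R) D) (f : C →ₐ[R] D) :
    toAlg T (g ≫ ovAlg f) = (toAlg T g).comp f := by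
  apply AlgHom.ext
  intro c
  exact congrArg (fun t => t.hom c) (ψOf_comp (sOf C) (sOf D) T _ _ g)

end Alg

section Power

attribute [local instance] algΓ

variable (R) (B : Type u) [CommRing B] [Algebra R B]

/-- the spectrum of the `n`-fold tensor power -/
noncomputable abbrev W (n : ℕ) : Over (Spec R) := ovObj (R := R) (M R B n)

/-- the projections -/
noncomputable def pr (n : ℕ) (i : Fin n) : W R B n ⟶ ovObj (R := R) B := ovAlg (ι R B n i)

/-- the cofaces -/
noncomputable def dW (n : ℕ) (i : Fin (n + 1)) : W R B (n + 1) ⟶ W R B n := ovAlg (δ R B n i)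

theorem dW_pr (n : ℕ) (i : Fin (n + 1)) (l : Fin n) :
    dW R B n i ≫ pr R B n l = pr R B (n + 1) (i.succAbove l) := by
  rw [dW, pr, ovAlg_comp, δ_comp_ι]
  rfl

/-- the spectrum of the tensor power is the power in schemes over `Spec R` -/
noncomputable def isLimitW (n : ℕ) : IsLimit (Fan.mk (W R B n) (pr R B n)) :=
  Fan.IsLimit.mk _
    (fun s => ofAlg s.pt (lift R B n Γ(s.pt.left, ⊤) (fun i => toAlg s.pt (s.proj i))))
    (fun s j => by
      change ofAlg s.pt _ ≫ ovAlg (ι R B n j) = s.proj j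
      rw [ofAlg_comp, lift_comp_ι, ofAlg_toAlg])
    (fun s m hm => by
      rw [← ofAlg_toAlg s.pt m]
      congr 1
      apply hom_ext
      intro i
      rw [lift_comp_ι, ← toAlg_comp]
      congr 1
      exact hm i)

end Power

end Groth.Agent.Lib.Seat39.OverPower
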