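import Groth.Agent.Lib.Seat39FlatBC
import Groth.Agent.Lib.Seat39ShfColim
import Groth.Agent.Lib.Seat39FpqcSheaf

/-!
# Seat39: parasitic adequate modules on the big fppf site
-/
set_option autoImplicit false
universe u
open CategoryTheory Limits Opposite AlgebraicGeometry TensorProduct

attribute [-instance] Groth.Agent.Lib.Seat39.Restr.algRestr

namespace Groth.Agent.Lib.Seat39.Parasitic

open Adeq Groth.Agent.Lib.Seat39.MVF Groth.Agent.Lib.Seat39.OverId Groth.Agent.Lib.Seat39.BigMVF
  Groth.Agent.Lib.Seat39.AdeqF Groth.Agent.Lib.Seat39.FlatBC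

/-- An adequate functor vanishing at `B` vanishes at every flat `B`-algebra. -/
theorem subsingleton_of_flat_bc {A : Type u} [CommRing A] {F : MVF A} (hF : adequate A F)
    {B B' : Alg A} (f : B ⟶ B') (hf : f.hom.toRingHom.Flat)
    (h0 : Subsingleton (F.obj (pt B))) : Subsingleton (F.obj (pt B')) := by
  obtain ⟨P⟩ := (adequate_iff_nonempty_pres F).mp hF
  have hiso := isIso_bc_of_pres P f hf
  have hsurj := ((ConcreteCategory.isIso_iff_bijective _).mp hiso).2
  have key : ∀ y : F.obj (pt B'), y = 0 := by
    intro y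
    obtain ⟨z, rfl⟩ := hsurj y
    induction z using TensorProduct.induction_on with
    | zero => exact map_zero _
    | tmul s x =>
      have e1 := bc_tmul F f s x
      refine e1.trans ?_
      rw [Subsingleton.elim x 0, map_zero, smul_zero]
    | add x y hx hy =>
      refine (map_add _ x y).trans ?_
      exact (congrArg₂ (· + ·) hx hy).trans (add_zero _)
  exact ⟨fun x y => (key x).trans (key y).symm⟩

section Site

variable {S : Scheme.{u}} (M : BigSite.Mod Scheme.fppfPrecoverage.{u} S)
  (hM : adequateMod Scheme.fppfPrecoverage.{u} S M)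

include hM in
/-- If an adequate module vanishes on an affine object `Spec R → S`, it vanishes on
`Spec C → Spec R → S` for every flat `R`-algebra `C`. -/
theorem subsingleton_of_flat {R C : CommRingCat.{u}} (a : Spec R ⟶ S) (φ : R ⟶ C)
    (hφ : φ.hom.Flat) (h0 : Subsingleton (M.val.obj (op (Over.mk a)))) :
    Subsingleton (M.val.obj (op (Over.mk (Spec.map φ ≫ a)))) := by
  let _ : Algebra R C := φ.hom.toAlgebra
  have hF := Groth.Agent.Lib.Seat39.ShfColim.adequate_of_adequateMod_fppf M hM R a
  have hB : Subsingleton (((toMVF Scheme.fppfPrecoverage a).obj M).obj (pt (algOf R R))) :=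
    (mp_idOver_bijective Scheme.fppfPrecoverage M
      (Groth.Agent.Lib.Seat39.LemmaD.e₀ a)).2.subsingleton
  exact subsingleton_of_flat_bc hF (Groth.Agent.Lib.Seat39.AdeqFF.ι R C) hφ hB

/-- Vanishing of sections is invariant under isomorphisms of objects of the big site. -/
theorem subsingleton_of_iso {U V : Over S} (e : U ≅ V)
    (h0 : Subsingleton (M.val.obj (op U))) : Subsingleton (M.val.obj (op V)) := by
  have key : ∀ x : M.val.obj (op V), x = 0 := by
    intro x
    have h1 : mp M.val e.hom.op x = 0 := Subsingleton.elim _ _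
    have h2 := congrArg (mp M.val e.inv.op) h1
    rw [← mp_comp, map_zero, ← op_comp, e.inv_hom_id] at h2
    exact (mp_id M.val _ x).symm.trans h2
  exact ⟨fun x y => (key x).trans (key y).symm⟩

include hM in
/-- An adequate module on the big fppf site vanishing on the members of an affine open covering
of `S` is parasitic. -/
theorem parasitic_of_affine_open_cover {ι : Type u} (U : ι → S.Opens)
    (hU : ∀ i, IsAffineOpen (U i)) (hcov : (⨆ i, U i) = ⊤)
    (h0 : ∀ i, Subsingleton (M.val.obj (op (Over.mk (U i).ι)))) :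
    parasitic Scheme.fppfPrecoverage S M := by
  intro V hV
  -- vanishing on the affine pieces
  have ha : ∀ i, Subsingleton (M.val.obj (op (Over.mk (hU i).fromSpec))) := by
    intro i
    have := hU i
    refine subsingleton_of_iso M (Over.isoMk (hU i).isoSpec (hU i).isoSpec_hom_fromSpec) (h0 i)
  -- cover `V` by affine opens mapping into the `U i`
  have hx : ∀ x : V.left, ∃ (i : ι) (W : V.left.Opens), IsAffineOpen W ∧ x ∈ W ∧
      W ≤ V.hom ⁻¹ᵁ (U i) := by
    intro x
    have hmem : V.hom.base x ∈ (⨆ i, U i) := by rw [hcov]; trivial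
    obtain ⟨i, hi⟩ := TopologicalSpace.Opens.mem_iSup.mp hmem
    obtain ⟨W, hW, hxW, hWU⟩ := exists_isAffineOpen_mem_and_subset (x := x)
      (U := V.hom ⁻¹ᵁ (U i)) hi
    exact ⟨i, W, hW, hxW, hWU⟩
  choose i W hW hxW hWU using hx
  have hcovV : Presieve.ofArrows (fun x : V.left => Spec Γ(V.left, W x))
      (fun x => (hW x).fromSpec) ∈ Scheme.zariskiPrecoverage.coverings V.left := by
    unfold Scheme.zariskiPrecoverage
    rw [Scheme.ofArrows_mem_precoverage_iff]
    constructor
    · intro x
      refine ⟨x, ?_⟩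
      rw [(hW x).range_fromSpec]
      exact hxW x
    · intro x
      infer_instance
  have key : ∀ y : M.val.obj (op V), y = 0 := by
    intro y
    refine Groth.Agent.Lib.Seat39.EpiLoc.eq_zero_of_cover Scheme.fppfPrecoverage M y _
      (Scheme.zariskiPrecoverage_le_fppfPrecoverage _ hcovV) ?_
    intro V' g hg
    obtain ⟨x⟩ := hg
    have hflat : (V.hom.appLE (U (i x)) (W x) (hWU x)).hom.Flat :=
      HasRingHomProperty.appLE (P := @Flat) V.hom hV ⟨U (i x), hU (i x)⟩ ⟨W x, hW x⟩ (hWU x)
    have hsub := subsingleton_of_flat M hM (hU (i x)).fromSpec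
      (V.hom.appLE (U (i x)) (W x) (hWU x)) hflat (ha (i x))
    have e : Spec.map (V.hom.appLE (U (i x)) (W x) (hWU x)) ≫ (hU (i x)).fromSpec =
        (hW x).fromSpec ≫ V.hom :=
      IsAffineOpen.SpecMap_appLE_fromSpec V.hom (hU (i x)) (hW x) (hWU x)
    have hsub' : Subsingleton (M.val.obj (op (Over.mk ((hW x).fromSpec ≫ V.hom)))) :=
      (mp_idOver_bijective Scheme.fppfPrecoverage M e).1.subsingleton
    exact Subsingleton.elim _ _
  exact ⟨fun x y => (key x).trans (key y).symm⟩

end Site

end Groth.Agent.Lib.Seat39.Parasitic
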