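import Groth.Agent.Lib.Seat39PushCompat
import Groth.Agent.Lib.Seat39KerFam
import Groth.Agent.Lib.Seat39Push
import Groth.Agent.Lib.Seat39ShfColim

/-!
# Seat39: adequacy of `F_{f_* M, R}` from a finite affine open cover of `Spec R ×_S T` together with
finite affine open covers of the pairwise overlaps
-/
set_option autoImplicit false
universe u
open CategoryTheory Limits Opposite AlgebraicGeometry TensorProduct

attribute [-instance] Groth.Agent.Lib.Seat39.Restr.algRestr

namespace Groth.Agent.Lib.Seat39.PushAdeq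

open Adeq Groth.Agent.Lib.Seat39.MVF Groth.Agent.Lib.Seat39.OverId
  Groth.Agent.Lib.Seat39.DescentFam Groth.Agent.Lib.Seat39.BigMVF Groth.Agent.Lib.Seat39.PushGeom
  Groth.Agent.Lib.Seat39.PushHom Groth.Agent.Lib.Seat39.PushCompat

section Data

variable (K : Precoverage Scheme.{u}) [BigSite.OSh K] (hzar : Scheme.zariskiPrecoverage.{u} ≤ K)
  {S T : Scheme.{u}} (f : T ⟶ S) (M : BigSite.Mod K T) {R : CommRingCat.{u}} (a : Spec R ⟶ S)
  {J : Type} [Fintype J] (A : J → Type u) [∀ i, CommRing (A i)] [∀ i, Algebra R (A i)]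
  (c : ∀ i, Spec (CommRingCat.of (A i)) ⟶ T) (hc : ∀ i, c i ≫ f = bOf a (A i))
  (hopen : ∀ i, IsOpenImmersion (wOf f a (A i) (c i) (hc i)))
  (hsurj : ∀ x : ↥(pullback a f), ∃ i, x ∈ Set.range (wOf f a (A i) (c i) (hc i)).base)
  {Kk : J → J → Type} [∀ i j, Fintype (Kk i j)]
  (A₃ : ∀ i j, Kk i j → Type u) [∀ i j k, CommRing (A₃ i j k)] [∀ i j k, Algebra R (A₃ i j k)]
  (c₃ : ∀ i j k, Spec (CommRingCat.of (A₃ i j k)) ⟶ T)
  (ψL : ∀ i j k, A i →ₐ[R] A₃ i j k) (ψR : ∀ i j k, A j →ₐ[R] A₃ i j k)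
  (hψL : ∀ i j k, Spec.map (CommRingCat.ofHom (ψL i j k).toRingHom) ≫ c i = c₃ i j k)
  (hψR : ∀ i j k, Spec.map (CommRingCat.ofHom (ψR i j k).toRingHom) ≫ c j = c₃ i j k)
  (v : ∀ i j k, Spec (CommRingCat.of (A₃ i j k)) ⟶
    pullback (wOf f a (A i) (c i) (hc i)) (wOf f a (A j) (c j) (hc j)))
  (hvL : ∀ i j k, v i j k ≫ pullback.fst _ _ = Spec.map (CommRingCat.ofHom (ψL i j k).toRingHom))
  (hvR : ∀ i j k, v i j k ≫ pullback.snd _ _ = Spec.map (CommRingCat.ofHom (ψR i j k).toRingHom))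
  (hvopen : ∀ i j k, IsOpenImmersion (v i j k))
  (hvsurj : ∀ i j (x : ↥(pullback (wOf f a (A i) (c i) (hc i)) (wOf f a (A j) (c j) (hc j)))),
    ∃ k, x ∈ Set.range (v i j k).base)
  (hadq : ∀ i, adequate (A i) ((toMVF K (c i)).obj M))
  (hadq₃ : ∀ i j k, adequate (A₃ i j k) ((toMVF K (c₃ i j k)).obj M))

omit [Fintype J] [∀ i j, Fintype (Kk i j)] in
include hc hψL in
theorem hc₃ (i j : J) (k : Kk i j) : c₃ i j k ≫ f = bOf a (A₃ i j k) := by
  rw [← hψL i j k, Category.assoc, hc i]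
  change _ ≫ Spec.map (CommRingCat.ofHom (algebraMap R (A i))) ≫ a =
    Spec.map (CommRingCat.ofHom (algebraMap R (A₃ i j k))) ≫ a
  rw [← Category.assoc, ← Spec.map_comp]
  congr 2
  ext r
  exact (ψL i j k).commutes r

include hzar hopen hsurj hψL hψR hvL hvR hvopen hvsurj hadq hadq₃ in
theorem adequate_push_of_data :
    adequate R ((toMVF K a).obj ((BigSite.pushMod K f).obj M)) := by
  classical
  have hc3 := hc₃ f a A c hc A₃ c₃ ψL hψL
  refine KerFam.adequate_of_family_equalizer (J := J) (L := Σ i, Σ j, Kk i j)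
    ((toMVF K a).obj ((BigSite.pushMod K f).obj M))
    (fun i => (push R (A i)).obj ((toMVF K (c i)).obj M))
    (fun l => (push R (A₃ l.1 l.2.1 l.2.2)).obj ((toMVF K (c₃ l.1 l.2.1 l.2.2)).obj M))
    (fun i => Push.adequate_push R (A i) _ (hadq i))
    (fun l => Push.adequate_push R (A₃ l.1 l.2.1 l.2.2) _ (hadq₃ _ _ _))
    (fun i => uHom K f M a (A i) (c i) (hc i))
    (fun l => l.1) (fun l => l.2.1)
    (fun l => dHom K M (A l.1) (c l.1) (A₃ l.1 l.2.1 l.2.2) (c₃ l.1 l.2.1 l.2.2)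
      (ψL l.1 l.2.1 l.2.2) (hψL l.1 l.2.1 l.2.2))
    (fun l => dHom K M (A l.2.1) (c l.2.1) (A₃ l.1 l.2.1 l.2.2) (c₃ l.1 l.2.1 l.2.2)
      (ψR l.1 l.2.1 l.2.2) (hψR l.1 l.2.1 l.2.2))
    ?_ ?_ ?_
  · rintro ⟨i, j, k⟩
    exact (uHom_dHom K f M a (A i) (c i) (hc i) (A₃ i j k) (c₃ i j k) (ψL i j k) (hψL i j k)
      (hc3 i j k)).trans
      (uHom_dHom K f M a (A j) (c j) (hc j) (A₃ i j k) (c₃ i j k) (ψR i j k) (hψR i j k)
      (hc3 i j k)).symm
  · intro B x hx
    refine sheaf_sep K M (fun i => YA (A i) (c i) B) (fun i => lam f a (A i) (c i) (hc i) B)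
      (hzar _ (lamLeft_cover f a A c hc hopen hsurj B)) x 0 ?_
    intro i
    exact (hx i).trans (map_zero _).symm
  · intro B y hy
    have h := (Presieve.isSheafFor_arrows_iff _ _).mp
      (isSheafFor_ofArrows K M (fun i => YA (A i) (c i) B)
        (fun i => lam f a (A i) (c i) (hc i) B)
        (hzar _ (lamLeft_cover f a A c hc hopen hsurj B)))
    obtain ⟨t, ht, -⟩ := h y (by
      intro i j Z' gi gj hij
      exact compat_of_cover K hzar f M a (A i) (c i) (hc i) (A j) (c j) (hc j) (A₃ i j) (c₃ i j)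
        (ψL i j) (ψR i j) (hψL i j) (hψR i j) (v i j) (hvL i j) (hvR i j) (hvopen i j)
        (hvsurj i j) B Z' gi gj hij (y i) (y j) (fun k => hy ⟨i, j, k⟩))
    exact ⟨t, ht⟩

end Data

theorem overlap_aux {X Y Z W V : Scheme.{u}} (w₁ : X ⟶ Z) (w₂ : Y ⟶ Z) (p : Z ⟶ W)
    (t : V ⟶ pullback w₁ w₂) (a₁ : X ⟶ W) (a₂ : Y ⟶ W) (h1 : w₁ ≫ p = a₁) (h2 : w₂ ≫ p = a₂) :
    (t ≫ pullback.snd w₁ w₂) ≫ a₂ = (t ≫ pullback.fst w₁ w₂) ≫ a₁ := by
  subst h1 h2
  rw [Category.assoc, Category.assoc, ← Category.assoc (pullback.snd w₁ w₂),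
    ← pullback.condition, Category.assoc]

section FromCover

variable (K : Precoverage Scheme.{u}) [BigSite.OSh K] (hzar : Scheme.zariskiPrecoverage.{u} ≤ K)
  {S T : Scheme.{u}} (f : T ⟶ S) (M : BigSite.Mod K T) {R : CommRingCat.{u}} (a : Spec R ⟶ S)
  {J : Type} [Fintype J] (A₀ : J → CommRingCat.{u}) (φ : ∀ i, R ⟶ A₀ i)
  (c : ∀ i, Spec (A₀ i) ⟶ T) (hc : ∀ i, c i ≫ f = Spec.map (φ i) ≫ a)
  (hopen : ∀ i, IsOpenImmersion (pullback.lift (Spec.map (φ i)) (c i) (hc i).symm))
  (hsurj : ∀ x : ↥(pullback a f), ∃ i,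
    x ∈ Set.range (pullback.lift (Spec.map (φ i)) (c i) (hc i).symm).base)
  {Kk : J → J → Type} [∀ i j, Fintype (Kk i j)]
  (A₃ : ∀ i j, Kk i j → CommRingCat.{u})
  (v : ∀ i j k, Spec (A₃ i j k) ⟶
    pullback (pullback.lift (Spec.map (φ i)) (c i) (hc i).symm)
      (pullback.lift (Spec.map (φ j)) (c j) (hc j).symm))
  (hvopen : ∀ i j k, IsOpenImmersion (v i j k))
  (hvsurj : ∀ i j (x : ↥(pullback (pullback.lift (Spec.map (φ i)) (c i) (hc i).symm)
      (pullback.lift (Spec.map (φ j)) (c j) (hc j).symm))), ∃ k, x ∈ Set.range (v i j k).base)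
  (hadq : ∀ (A : CommRingCat.{u}) (c : Spec A ⟶ T), adequate A ((toMVF K c).obj M))

include hzar hopen hsurj hvopen hvsurj hadq in
theorem adequate_push_of_cover :
    adequate R ((toMVF K a).obj ((BigSite.pushMod K f).obj M)) := by
  let algA : ∀ i, Algebra R (A₀ i) := fun i => (φ i).hom.toAlgebra
  let algA₃ : ∀ i j k, Algebra R (A₃ i j k) := fun i j k =>
    (φ i ≫ Spec.preimage (v i j k ≫ pullback.fst _ _)).hom.toAlgebra
  have hcomm : ∀ i j k, φ j ≫ Spec.preimage (v i j k ≫ pullback.snd _ _) =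
      φ i ≫ Spec.preimage (v i j k ≫ pullback.fst _ _) := by
    intro i j k
    apply Spec.map_injective
    rw [Spec.map_comp, Spec.map_comp, Spec.map_preimage, Spec.map_preimage]
    exact overlap_aux _ _ (pullback.fst a f) (v i j k) _ _
      (pullback.lift_fst (Spec.map (φ i)) (c i) (hc i).symm)
      (pullback.lift_fst (Spec.map (φ j)) (c j) (hc j).symm)
  let ψL : ∀ i j k, (A₀ i) →ₐ[R] (A₃ i j k) := fun i j k =>
    { toRingHom := (Spec.preimage (v i j k ≫ pullback.fst _ _)).hom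
      commutes' := fun r => rfl }
  let ψR : ∀ i j k, (A₀ j) →ₐ[R] (A₃ i j k) := fun i j k =>
    { toRingHom := (Spec.preimage (v i j k ≫ pullback.snd _ _)).hom
      commutes' := fun r => congrArg (fun t => t.hom r) (hcomm i j k) }
  have hψR : ∀ i j k, Spec.map (CommRingCat.ofHom (ψR i j k).toRingHom) ≫ c j =
      Spec.map (CommRingCat.ofHom (ψL i j k).toRingHom) ≫ c i := by
    intro i j k
    change Spec.map (Spec.preimage (v i j k ≫ pullback.snd _ _)) ≫ c j =
      Spec.map (Spec.preimage (v i j k ≫ pullback.fst _ _)) ≫ c i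
    rw [Spec.map_preimage, Spec.map_preimage]
    exact overlap_aux _ _ (pullback.snd a f) (v i j k) _ _
      (pullback.lift_snd (Spec.map (φ i)) (c i) (hc i).symm)
      (pullback.lift_snd (Spec.map (φ j)) (c j) (hc j).symm)
  exact adequate_push_of_data K hzar f M a (fun i => (A₀ i : Type u)) c hc hopen hsurj
    (fun i j k => (A₃ i j k : Type u))
    (fun i j k => Spec.map (CommRingCat.ofHom (ψL i j k).toRingHom) ≫ c i)
    ψL ψR (fun i j k => rfl) hψR v
    (fun i j k => (Spec.map_preimage _).symm) (fun i j k => (Spec.map_preimage _).symm)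
    hvopen hvsurj (fun i => hadq _ _) (fun i j k => hadq _ _)

end FromCover

section Final

variable (K : Precoverage Scheme.{u}) [BigSite.OSh K] (hzar : Scheme.zariskiPrecoverage.{u} ≤ K)
  {S T : Scheme.{u}} (f : T ⟶ S) [QuasiCompact f] [QuasiSeparated f] (M : BigSite.Mod K T)
  (hadq : ∀ (A : CommRingCat.{u}) (c : Spec A ⟶ T), adequate A ((toMVF K c).obj M))
  {R : CommRingCat.{u}} (a : Spec R ⟶ S)

include hzar hadq in
/-- For a qcqs morphism `f : T ⟶ S` and a module `M` on the big site of `T` all of whose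
module-valued functors `F_{M,A}` are adequate, the functor `F_{f_* M,R}` is adequate. -/
theorem adequate_toMVF_pushMod :
    adequate R ((toMVF K a).obj ((BigSite.pushMod K f).obj M)) := by
  have hcs : CompactSpace ↥(pullback a f) := inferInstance
  have hqs : QuasiSeparatedSpace ↥(pullback a f) :=
    quasiSeparatedSpace_of_quasiSeparated (pullback.fst a f)
  obtain ⟨n, A₀, w₀, hopen₀, hsurj₀⟩ := exists_finite_affine_open_cover (pullback a f)
  let φ : ∀ i, R ⟶ A₀ i := fun i => Spec.preimage (w₀ i ≫ pullback.fst a f)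
  let c : ∀ i, Spec (A₀ i) ⟶ T := fun i => w₀ i ≫ pullback.snd a f
  have hφ : ∀ i, Spec.map (φ i) = w₀ i ≫ pullback.fst a f := fun i => Spec.map_preimage _
  have hc : ∀ i, c i ≫ f = Spec.map (φ i) ≫ a := by
    intro i
    rw [hφ i, Category.assoc, Category.assoc, pullback.condition]
  have hw : ∀ i, pullback.lift (Spec.map (φ i)) (c i) (hc i).symm = w₀ i := by
    intro i
    apply pullback.hom_ext
    · rw [pullback.lift_fst, hφ i]
    · rw [pullback.lift_snd]
  have hopen : ∀ i, IsOpenImmersion (pullback.lift (Spec.map (φ i)) (c i) (hc i).symm) := by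
    intro i
    rw [hw i]
    exact hopen₀ i
  have hsurj : ∀ x : ↥(pullback a f), ∃ i,
      x ∈ Set.range (pullback.lift (Spec.map (φ i)) (c i) (hc i).symm).base := by
    intro x
    obtain ⟨i, hi⟩ := hsurj₀ x
    refine ⟨i, ?_⟩
    rw [hw i]
    exact hi
  have hcompact : ∀ i j, CompactSpace ↥(pullback
      (pullback.lift (Spec.map (φ i)) (c i) (hc i).symm)
      (pullback.lift (Spec.map (φ j)) (c j) (hc j).symm)) := by
    intro i j
    have : QuasiCompact (pullback.lift (Spec.map (φ j)) (c j) (hc j).symm) :=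
      quasiCompact_of_compactSpace _
    infer_instance
  choose m A₃ v hvopen hvsurj using fun i j =>
    @exists_finite_affine_open_cover _ (hcompact i j)
  exact adequate_push_of_cover K hzar f M a A₀ φ c hc hopen hsurj (Kk := fun i j => Fin (m i j))
    A₃ v hvopen hvsurj hadq

end Final

/-- For a quasi-compact and quasi-separated morphism `f : T ⟶ S` and an adequate module `M` on the
big fppf site of `T`, the pushforward `f_* M` is adequate. -/
theorem adequateMod_pushMod_fppf {S T : Scheme.{u}} (f : T ⟶ S) [QuasiCompact f]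
    [QuasiSeparated f] (M : BigSite.Mod Scheme.fppfPrecoverage T)
    (hM : adequateMod Scheme.fppfPrecoverage T M) :
    adequateMod Scheme.fppfPrecoverage S ((BigSite.pushMod Scheme.fppfPrecoverage f).obj M) := by
  obtain ⟨ι, R, a, hcov⟩ := Groth.Agent.Lib.Seat39.ShfAdeq.exists_affine_fppf_cover S
  exact ⟨ι, R, a, hcov, fun i => adequate_toMVF_pushMod Scheme.fppfPrecoverage
    Scheme.zariskiPrecoverage_le_fppfPrecoverage f M
    (fun A c => Groth.Agent.Lib.Seat39.ShfColim.adequate_of_adequateMod_fppf M hM A c) (a i)⟩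

end Groth.Agent.Lib.Seat39.PushAdeq
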