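import Groth.Agent.Lib.Seat39PushHom

/-!
# Seat39: compatibility on overlaps from compatibility on an affine open cover of the overlaps
-/
set_option autoImplicit false
universe u
open CategoryTheory Limits Opposite AlgebraicGeometry TensorProduct

attribute [-instance] Groth.Agent.Lib.Seat39.Restr.algRestr

namespace Groth.Agent.Lib.Seat39.PushCompat

open Adeq Groth.Agent.Lib.Seat39.MVF Groth.Agent.Lib.Seat39.OverId
  Groth.Agent.Lib.Seat39.DescentFam Groth.Agent.Lib.Seat39.BigMVF Groth.Agent.Lib.Seat39.PushGeom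
  Groth.Agent.Lib.Seat39.PushHom

variable (K : Precoverage Scheme.{u}) [BigSite.OSh K] (hzar : Scheme.zariskiPrecoverage.{u} ≤ K)
  {S T : Scheme.{u}} (f : T ⟶ S)
  (M : BigSite.Mod K T) {R : CommRingCat.{u}} (a : Spec R ⟶ S)
  (A₁ : Type u) [CommRing A₁] [Algebra R A₁] (c₁ : Spec (CommRingCat.of A₁) ⟶ T)
  (hc₁ : c₁ ≫ f = bOf a A₁)
  (A₂ : Type u) [CommRing A₂] [Algebra R A₂] (c₂ : Spec (CommRingCat.of A₂) ⟶ T)
  (hc₂ : c₂ ≫ f = bOf a A₂)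
  {Kk : Type} (A₃ : Kk → Type u) [∀ k, CommRing (A₃ k)] [∀ k, Algebra R (A₃ k)]
  (c₃ : ∀ k, Spec (CommRingCat.of (A₃ k)) ⟶ T)
  (ψL : ∀ k, A₁ →ₐ[R] A₃ k) (ψR : ∀ k, A₂ →ₐ[R] A₃ k)
  (hψL : ∀ k, Spec.map (CommRingCat.ofHom (ψL k).toRingHom) ≫ c₁ = c₃ k)
  (hψR : ∀ k, Spec.map (CommRingCat.ofHom (ψR k).toRingHom) ≫ c₂ = c₃ k)
  (v : ∀ k, Spec (CommRingCat.of (A₃ k)) ⟶ pullback (wOf f a A₁ c₁ hc₁) (wOf f a A₂ c₂ hc₂))
  (hvL : ∀ k, v k ≫ pullback.fst _ _ = Spec.map (CommRingCat.ofHom (ψL k).toRingHom))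
  (hvR : ∀ k, v k ≫ pullback.snd _ _ = Spec.map (CommRingCat.ofHom (ψR k).toRingHom))
  (hvopen : ∀ k, IsOpenImmersion (v k))
  (hvsurj : ∀ x : ↥(pullback (wOf f a A₁ c₁ hc₁) (wOf f a A₂ c₂ hc₂)),
    ∃ k, x ∈ Set.range (v k).base)

include hzar hvL hvR hvopen hvsurj in
theorem compat_of_cover (B : Alg R) (Z' : Over T) (g₁ : Z' ⟶ YA A₁ c₁ B) (g₂ : Z' ⟶ YA A₂ c₂ B)
    (hg : g₁ ≫ lam f a A₁ c₁ hc₁ B = g₂ ≫ lam f a A₂ c₂ hc₂ B)
    (y₁ : M.val.obj (op (YA A₁ c₁ B))) (y₂ : M.val.obj (op (YA A₂ c₂ B)))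
    (hy : ∀ k, mp M.val (mu A₁ c₁ (A₃ k) (c₃ k) (ψL k) (hψL k) B).op y₁ =
      mp M.val (mu A₂ c₂ (A₃ k) (c₃ k) (ψR k) (hψR k) B).op y₂) :
    mp M.val g₁.op y₁ = mp M.val g₂.op y₂ := by
  let l₁ : Z'.left ⟶ Spec (CommRingCat.of (TB A₁ B)) := g₁.left
  let l₂ : Z'.left ⟶ Spec (CommRingCat.of (TB A₂ B)) := g₂.left
  have hw₁ : l₁ ≫ Spec.map (inlB A₁ B) ≫ c₁ = Z'.hom := Over.w g₁
  have hw₂ : l₂ ≫ Spec.map (inlB A₂ B) ≫ c₂ = Z'.hom := Over.w g₂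
  -- the left parts of the hypothesis
  have hgl : l₁ ≫ lamLeft f a A₁ c₁ hc₁ B = l₂ ≫ lamLeft f a A₂ c₂ hc₂ B :=
    congrArg CommaMorphism.left hg
  have hgu : l₁ ≫ Spec.map (rh (Alg.unit R A₁ B)) = l₂ ≫ Spec.map (rh (Alg.unit R A₂ B)) := by
    have h := congrArg (fun t => t ≫ pullback.fst (bOf a B) f) hgl
    simp only [Category.assoc] at h
    rw [lamLeft_fst, lamLeft_fst] at h
    exact h
  -- the map to the overlap
  have hζ : (l₁ ≫ Spec.map (inlB A₁ B)) ≫ wOf f a A₁ c₁ hc₁ =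
      (l₂ ≫ Spec.map (inlB A₂ B)) ≫ wOf f a A₂ c₂ hc₂ := by
    have h := congrArg (fun t => t ≫ qB f a B) hgl
    simp only [Category.assoc] at h
    rw [lamLeft_qB, lamLeft_qB] at h
    simp only [Category.assoc]
    exact h
  let ζ : Z'.left ⟶ pullback (wOf f a A₁ c₁ hc₁) (wOf f a A₂ c₂ hc₂) :=
    pullback.lift _ _ hζ
  have hζ1 : ζ ≫ pullback.fst _ _ = l₁ ≫ Spec.map (inlB A₁ B) := pullback.lift_fst _ _ _
  have hζ2 : ζ ≫ pullback.snd _ _ = l₂ ≫ Spec.map (inlB A₂ B) := pullback.lift_snd _ _ _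
  -- the cover of Z'
  let e : ∀ k, pullback ζ (v k) ⟶ Z'.left := fun k => pullback.fst ζ (v k)
  have hcovZ : Presieve.ofArrows (fun k => pullback ζ (v k)) e ∈
      Scheme.zariskiPrecoverage.coverings Z'.left := by
    unfold Scheme.zariskiPrecoverage
    rw [Scheme.ofArrows_mem_precoverage_iff]
    constructor
    · intro z
      obtain ⟨k, y, hy⟩ := hvsurj (ζ.base z)
      obtain ⟨p, hp, -⟩ := Scheme.Pullback.exists_preimage_pullback (f := ζ) (g := v k) z y hy.symm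
      exact ⟨k, p, hp⟩
    · intro k
      have := hvopen k
      exact inferInstanceAs (IsOpenImmersion (pullback.fst ζ (v k)))
  refine sheaf_sep K M (fun k => Over.mk (e k ≫ Z'.hom))
    (fun k => (Over.homMk (e k) rfl : Over.mk (e k ≫ Z'.hom) ⟶ Z')) (hzar _ hcovZ) _ _ ?_
  intro k
  -- the map to Spec (A₃ k ⊗ B)
  have hcond : e k ≫ ζ = pullback.snd ζ (v k) ≫ v k := pullback.condition
  have hsL : pullback.snd ζ (v k) ≫ Spec.map (CommRingCat.ofHom (ψL k).toRingHom) =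
      e k ≫ l₁ ≫ Spec.map (inlB A₁ B) := by
    rw [← hvL k, ← Category.assoc, ← hcond, Category.assoc, hζ1]
  have hsR : pullback.snd ζ (v k) ≫ Spec.map (CommRingCat.ofHom (ψR k).toRingHom) =
      e k ≫ l₂ ≫ Spec.map (inlB A₂ B) := by
    rw [← hvR k, ← Category.assoc, ← hcond, Category.assoc, hζ2]
  have h2 : Spec.map (CommRingCat.ofHom (ψL k).toRingHom) ≫
        Spec.map (CommRingCat.ofHom (algebraMap R A₁)) =
      Spec.map (CommRingCat.ofHom (algebraMap R (A₃ k))) := by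
    rw [← Spec.map_comp]
    congr 1
    ext r
    exact (ψL k).commutes r
  have hh : (e k ≫ l₁ ≫ Spec.map (rh (Alg.unit R A₁ B))) ≫
        Spec.map (CommRingCat.ofHom (algebraMap R B)) =
      pullback.snd ζ (v k) ≫ Spec.map (CommRingCat.ofHom (algebraMap R (A₃ k))) := by
    have h1 : Spec.map (rh (Alg.unit R A₁ B)) ≫ Spec.map (CommRingCat.ofHom (algebraMap R B)) =
      Spec.map (inlB A₁ B) ≫ Spec.map (CommRingCat.ofHom (algebraMap R A₁)) :=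
      (isPullback_unit A₁ B).w
    rw [← h2, ← Category.assoc (pullback.snd ζ (v k)), hsL]
    simp only [Category.assoc]
    rw [h1]
  let h : pullback ζ (v k) ⟶ Spec (CommRingCat.of (TB (A₃ k) B)) :=
    (isPullback_unit (A₃ k) B).lift _ _ hh
  have hh1 : h ≫ Spec.map (rh (Alg.unit R (A₃ k) B)) =
      e k ≫ l₁ ≫ Spec.map (rh (Alg.unit R A₁ B)) := (isPullback_unit (A₃ k) B).lift_fst _ _ _
  have hh2 : h ≫ Spec.map (inlB (A₃ k) B) = pullback.snd ζ (v k) :=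
    (isPullback_unit (A₃ k) B).lift_snd _ _ _
  -- the two factorizations
  have hL : h ≫ Spec.map (tψ A₁ (A₃ k) (ψL k) B) = e k ≫ l₁ := by
    apply (isPullback_unit A₁ B).hom_ext
    · rw [Category.assoc, ← Spec.map_comp, unit_tψ, hh1, Category.assoc]
    · rw [Category.assoc, ← Spec.map_comp, inlB_tψ, Spec.map_comp, ← Category.assoc, hh2, hsL,
        Category.assoc]
  have hR : h ≫ Spec.map (tψ A₂ (A₃ k) (ψR k) B) = e k ≫ l₂ := by
    apply (isPullback_unit A₂ B).hom_ext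
    · rw [Category.assoc, ← Spec.map_comp, unit_tψ, hh1, Category.assoc, hgu]
    · rw [Category.assoc, ← Spec.map_comp, inlB_tψ, Spec.map_comp, ← Category.assoc, hh2, hsR,
        Category.assoc]
  have hHw : h ≫ (YA (A₃ k) (c₃ k) B).hom = e k ≫ Z'.hom := by
    change h ≫ Spec.map (inlB (A₃ k) B) ≫ c₃ k = e k ≫ Z'.hom
    rw [← Category.assoc, hh2, ← hψL k, ← Category.assoc, hsL, Category.assoc, Category.assoc, hw₁]
  let H : Over.mk (e k ≫ Z'.hom) ⟶ YA (A₃ k) (c₃ k) B := Over.homMk h hHw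
  have hHL : H ≫ mu A₁ c₁ (A₃ k) (c₃ k) (ψL k) (hψL k) B =
      (Over.homMk (e k) rfl : Over.mk (e k ≫ Z'.hom) ⟶ Z') ≫ g₁ := by
    ext
    exact hL
  have hHR : H ≫ mu A₂ c₂ (A₃ k) (c₃ k) (ψR k) (hψR k) B =
      (Over.homMk (e k) rfl : Over.mk (e k ≫ Z'.hom) ⟶ Z') ≫ g₂ := by
    ext
    exact hR
  have e1 := mp_comp M.val g₁.op (Over.homMk (e k) rfl : Over.mk (e k ≫ Z'.hom) ⟶ Z').op y₁
  have e2 := mp_comp M.val g₂.op (Over.homMk (e k) rfl : Over.mk (e k ≫ Z'.hom) ⟶ Z').op y₂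
  have e3 := mp_comp M.val (mu A₁ c₁ (A₃ k) (c₃ k) (ψL k) (hψL k) B).op H.op y₁
  have e4 := mp_comp M.val (mu A₂ c₂ (A₃ k) (c₃ k) (ψR k) (hψR k) B).op H.op y₂
  refine e1.symm.trans (Eq.trans ?_ e2)
  refine Eq.trans (mp_congr M.val ?_ y₁) (e3.trans (Eq.trans (congrArg _ (hy k))
    (e4.symm.trans (mp_congr M.val ?_ y₂))))
  · rw [← op_comp, ← op_comp, hHL]
  · rw [← op_comp, ← op_comp, hHR]

end Groth.Agent.Lib.Seat39.PushCompat
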