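import Groth.Agent.Lib.Seat39BigAdeq
import Groth.Agent.Lib.Seat39EpiLoc

/-!
# Seat39: geometry for the pushforward of modules on big sites along a qcqs morphism

For `f : T ⟶ S`, `a : Spec R ⟶ S`, an `R`-algebra `B`, and an affine scheme `Spec A` over
`Spec R ×_S T`: the open immersion/cover `Spec (A ⊗ B) ⟶ Spec B ×_S T`.
-/
set_option autoImplicit false
universe u
open CategoryTheory Limits Opposite AlgebraicGeometry TensorProduct

attribute [-instance] Groth.Agent.Lib.Seat39.Restr.algRestr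

namespace Groth.Agent.Lib.Seat39.PushGeom

open Adeq Groth.Agent.Lib.Seat39.MVF Groth.Agent.Lib.Seat39.OverId
  Groth.Agent.Lib.Seat39.DescentFam Groth.Agent.Lib.Seat39.BigMVF

section General

/-- A quasi-compact scheme has a finite affine open cover. -/
theorem exists_finite_affine_open_cover (X : Scheme.{u}) [CompactSpace X] :
    ∃ (n : ℕ) (A : Fin n → CommRingCat.{u}) (w : ∀ i, Spec (A i) ⟶ X),
      (∀ i, IsOpenImmersion (w i)) ∧ ∀ x : X, ∃ i, x ∈ Set.range (w i).base := by
  let 𝒰 : X.OpenCover := X.affineCover.finiteSubcover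
  have : ∀ i, IsAffine (𝒰.X i) := fun i => by dsimp [𝒰]; infer_instance
  obtain ⟨n, ⟨e⟩⟩ := Finite.exists_equiv_fin 𝒰.I₀
  refine ⟨n, fun i => Γ(𝒰.X (e.symm i), ⊤),
    fun i => (𝒰.X (e.symm i)).isoSpec.inv ≫ 𝒰.f (e.symm i), fun i => inferInstance, ?_⟩
  intro x
  refine ⟨e (𝒰.idx x), ?_⟩
  obtain ⟨y, hy⟩ := 𝒰.covers x
  have key : ∀ (k : 𝒰.I₀), k = 𝒰.idx x →
      x ∈ Set.range ((𝒰.X k).isoSpec.inv ≫ 𝒰.f k).base := by
    rintro k rfl
    refine ⟨(𝒰.X _).isoSpec.hom.base y, ?_⟩
    refine Eq.trans ?_ hy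
    rw [← Scheme.Hom.comp_apply, Iso.hom_inv_id_assoc]
  exact key _ (e.symm_apply_apply _)

/-- Points of a pullback square. -/
theorem exists_preimage_of_isPullback {P X Y Z : Scheme.{u}} {fst : P ⟶ X} {snd : P ⟶ Y}
    {f : X ⟶ Z} {g : Y ⟶ Z} (h : IsPullback fst snd f g) (x : X) (y : Y)
    (hxy : f.base x = g.base y) : ∃ z : P, fst.base z = x ∧ snd.base z = y := by
  obtain ⟨z, hz1, hz2⟩ := Scheme.Pullback.exists_preimage_pullback x y hxy
  refine ⟨h.isoPullback.inv.base z, ?_, ?_⟩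
  · rw [← Scheme.Hom.comp_apply, IsPullback.isoPullback_inv_fst]
    exact hz1
  · rw [← Scheme.Hom.comp_apply, IsPullback.isoPullback_inv_snd]
    exact hz2

end General

section Base

variable {S T : Scheme.{u}} (f : T ⟶ S) {R : CommRingCat.{u}} (a : Spec R ⟶ S)

/-- `Spec B ×_S T ⟶ Spec R ×_S T` -/
noncomputable def qB (B : Alg R) : pullback (bOf a B) f ⟶ pullback a f :=
  pullback.lift (pullback.fst (bOf a B) f ≫ Spec.map (sm B)) (pullback.snd (bOf a B) f)
    (by rw [Category.assoc]; exact pullback.condition)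

theorem qB_fst (B : Alg R) :
    qB f a B ≫ pullback.fst a f = pullback.fst (bOf a B) f ≫ Spec.map (sm B) :=
  pullback.lift_fst _ _ _

theorem qB_snd (B : Alg R) : qB f a B ≫ pullback.snd a f = pullback.snd (bOf a B) f :=
  pullback.lift_snd _ _ _

/-- `Spec B ×_S T = Spec B ×_{Spec R} (Spec R ×_S T)` -/
theorem isPullback_qB (B : Alg R) :
    IsPullback (qB f a B) (pullback.fst (bOf a B) f) (pullback.fst a f) (Spec.map (sm B)) := by
  refine IsPullback.of_right ?_ (qB_fst f a B) (IsPullback.of_hasPullback a f).flip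
  rw [qB_snd]
  exact (IsPullback.of_hasPullback (bOf a B) f).flip

variable (A : Type u) [CommRing A] [Algebra R A] (c : Spec (CommRingCat.of A) ⟶ T)
  (hc : c ≫ f = bOf a A)

/-- the induced morphism `Spec A ⟶ Spec R ×_S T` -/
noncomputable def wOf : Spec (CommRingCat.of A) ⟶ pullback a f :=
  pullback.lift (Spec.map (CommRingCat.ofHom (algebraMap R A))) c hc.symm

theorem wOf_fst : wOf f a A c hc ≫ pullback.fst a f =
    Spec.map (CommRingCat.ofHom (algebraMap R A)) := pullback.lift_fst _ _ _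

theorem wOf_snd : wOf f a A c hc ≫ pullback.snd a f = c := pullback.lift_snd _ _ _

/-- `Spec (A ⊗ B) ⟶ Spec B ×_S T` -/
noncomputable def lamLeft (B : Alg R) :
    Spec (CommRingCat.of (TB A B)) ⟶ pullback (bOf a B) f :=
  pullback.lift (Spec.map (rh (Alg.unit R A B))) (Spec.map (inlB A B) ≫ c) (by
    have h1 := (isPullback_unit A B).w
    rw [Category.assoc, hc]
    change _ ≫ Spec.map (sm B) ≫ a = _ ≫ Spec.map (CommRingCat.ofHom (algebraMap R A)) ≫ a
    rw [← Category.assoc, h1, Category.assoc])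

theorem lamLeft_fst (B : Alg R) :
    lamLeft f a A c hc B ≫ pullback.fst (bOf a B) f = Spec.map (rh (Alg.unit R A B)) :=
  pullback.lift_fst _ _ _

theorem lamLeft_snd (B : Alg R) :
    lamLeft f a A c hc B ≫ pullback.snd (bOf a B) f = Spec.map (inlB A B) ≫ c :=
  pullback.lift_snd _ _ _

theorem lamLeft_qB (B : Alg R) :
    lamLeft f a A c hc B ≫ qB f a B = Spec.map (inlB A B) ≫ wOf f a A c hc := by
  apply pullback.hom_ext
  · rw [Category.assoc, qB_fst, ← Category.assoc, lamLeft_fst, Category.assoc, wOf_fst]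
    exact (isPullback_unit A B).w
  · rw [Category.assoc, qB_snd, lamLeft_snd, Category.assoc, wOf_snd]

/-- `Spec (A ⊗ B)` is the base change of `Spec A ⟶ Spec R ×_S T` along
`Spec B ×_S T ⟶ Spec R ×_S T`. -/
theorem isPullback_lamLeft (B : Alg R) :
    IsPullback (Spec.map (inlB A B)) (lamLeft f a A c hc B) (wOf f a A c hc) (qB f a B) := by
  refine IsPullback.of_bot ?_ (lamLeft_qB f a A c hc B).symm (isPullback_qB f a B)
  rw [lamLeft_fst, wOf_fst]
  exact (isPullback_unit A B).flip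

theorem isOpenImmersion_lamLeft [IsOpenImmersion (wOf f a A c hc)] (B : Alg R) :
    IsOpenImmersion (lamLeft f a A c hc B) :=
  MorphismProperty.of_isPullback (P := @IsOpenImmersion) (isPullback_lamLeft f a A c hc B)
    inferInstance

end Base

section Cover

variable {S T : Scheme.{u}} (f : T ⟶ S) {R : CommRingCat.{u}} (a : Spec R ⟶ S)
  {J : Type} (A : J → Type u) [∀ i, CommRing (A i)] [∀ i, Algebra R (A i)]
  (c : ∀ i, Spec (CommRingCat.of (A i)) ⟶ T) (hc : ∀ i, c i ≫ f = bOf a (A i))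

/-- The base change of an open cover of `Spec R ×_S T` by affines `Spec (A i)` is the open cover
of `Spec B ×_S T` by the `Spec (A i ⊗ B)`. -/
theorem lamLeft_cover (hopen : ∀ i, IsOpenImmersion (wOf f a (A i) (c i) (hc i)))
    (hsurj : ∀ x : ↥(pullback a f), ∃ i, x ∈ Set.range (wOf f a (A i) (c i) (hc i)).base)
    (B : Alg R) :
    Presieve.ofArrows (fun i => Spec (CommRingCat.of (TB (A i) B)))
      (fun i => lamLeft f a (A i) (c i) (hc i) B) ∈
      Scheme.zariskiPrecoverage.coverings (pullback (bOf a B) f) := by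
  unfold Scheme.zariskiPrecoverage
  rw [Scheme.ofArrows_mem_precoverage_iff]
  constructor
  · intro x
    obtain ⟨i, y, hy⟩ := hsurj ((qB f a B).base x)
    obtain ⟨z, -, hz⟩ := exists_preimage_of_isPullback (isPullback_lamLeft f a (A i) (c i) (hc i) B)
      y x hy
    exact ⟨i, z, hz⟩
  · intro i
    have := hopen i
    exact isOpenImmersion_lamLeft f a (A i) (c i) (hc i) B

end Cover

end Groth.Agent.Lib.Seat39.PushGeom
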