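import Groth.Agent.Lib.Seat39PushGeom
import Groth.Agent.Lib.Seat39Descent

/-!
# Seat39: the restriction maps `F_{f_* M, R} ⟶ push (F_{M,A})` for an affine scheme `Spec A` over
`Spec R ×_S T`, and their functoriality in `A`
-/
set_option autoImplicit false
universe u
open CategoryTheory Limits Opposite AlgebraicGeometry TensorProduct

attribute [-instance] Groth.Agent.Lib.Seat39.Restr.algRestr

namespace Groth.Agent.Lib.Seat39.PushHom

open Adeq Groth.Agent.Lib.Seat39.MVF Groth.Agent.Lib.Seat39.OverId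
  Groth.Agent.Lib.Seat39.DescentFam Groth.Agent.Lib.Seat39.BigMVF Groth.Agent.Lib.Seat39.PushGeom

variable (K : Precoverage Scheme.{u}) [BigSite.OSh K] {S T : Scheme.{u}} (f : T ⟶ S)
  (M : BigSite.Mod K T) {R : CommRingCat.{u}} (a : Spec R ⟶ S)
  (A : Type u) [CommRing A] [Algebra R A] (c : Spec (CommRingCat.of A) ⟶ T)
  (hc : c ≫ f = bOf a A)

/-- `Spec (A ⊗ B)` as an object of `Over T` -/
noncomputable abbrev YA (B : Alg R) : Over T := (specOver c).obj (op ((Alg.baseChange R A).obj B))

/-- `Spec B ×_S T` as an object of `Over T` -/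
noncomputable abbrev ΦB (B : Alg R) : Over T := (Over.pullback f).obj ((specOver a).obj (op B))

/-- `Spec (A ⊗ B) ⟶ Spec B ×_S T` over `T` -/
noncomputable def lam (B : Alg R) : YA A c B ⟶ ΦB f a B :=
  Over.homMk (lamLeft f a A c hc B) (lamLeft_snd f a A c hc B)

theorem lam_natural {B B' : Alg R} (g : B ⟶ B') :
    lam f a A c hc B' ≫ (Over.pullback f).map ((specOver a).map g.op) =
      (specOver c).map ((Alg.baseChange R A).map g).op ≫ lam f a A c hc B := by
  ext
  change lamLeft f a A c hc B' ≫ pullback.lift (pullback.fst _ _ ≫ Spec.map (rh g))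
      (pullback.snd _ _) _ =
    Spec.map (rh ((Alg.restr R A).map ((Alg.baseChange R A).map g))) ≫ lamLeft f a A c hc B
  apply pullback.hom_ext
  · rw [Category.assoc, pullback.lift_fst, ← Category.assoc, lamLeft_fst, Category.assoc,
      lamLeft_fst, ← Spec.map_comp, ← Spec.map_comp, ← rh_comp, ← rh_comp,
      Groth.Agent.Lib.Seat39.Descent.unit_naturality]
  · rw [Category.assoc, pullback.lift_snd, lamLeft_snd, Category.assoc, lamLeft_snd,
      ← Category.assoc, ← Spec.map_comp, inlB_comp]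

/-- the components of the restriction map `F_{f_* M,R}(B) → F_{M,A}(A ⊗ B)` -/
noncomputable def uMap (B : Alg R) :
    ((toMVF K a).obj ((BigSite.pushMod K f).obj M)).obj (pt B) →+
      ((push R A).obj ((toMVF K c).obj M)).obj (pt B) :=
  mp M.val (lam f a A c hc B).op

theorem uMap_natural {B B' : Alg R} (g : B ⟶ B')
    (x : ((toMVF K a).obj ((BigSite.pushMod K f).obj M)).obj (pt B)) :
    uMap K f M a A c hc B' (mp ((toMVF K a).obj ((BigSite.pushMod K f).obj M)) (ptHom g) x) =
      mp ((push R A).obj ((toMVF K c).obj M)) (ptHom g) (uMap K f M a A c hc B x) := by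
  have h1 := mp_comp M.val ((Over.pullback f).map ((specOver a).map g.op)).op
    (lam f a A c hc B').op x
  have h2 := mp_comp M.val (lam f a A c hc B).op
    ((specOver c).map ((Alg.baseChange R A).map g).op).op x
  refine h1.symm.trans (Eq.trans ?_ h2)
  apply mp_congr
  rw [← op_comp, ← op_comp, lam_natural]

theorem uMap_smul (B : Alg R) (r : B)
    (x : ((toMVF K a).obj ((BigSite.pushMod K f).obj M)).obj (pt B)) :
    uMap K f M a A c hc B (r • x) = r • uMap K f M a A c hc B x := by
  have h1 := mp_smul M.val (lam f a A c hc B).op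
    (((Sheaf.toPushforwardOverPullback (BigSite.ORingAbs K) f).hom.app
      (op ((specOver a).obj (op B)))).hom (toSect K a B r)) x
  refine h1.trans ?_
  change _ • mp M.val (lam f a A c hc B).op x =
    toSect K c ((Alg.baseChange R A).obj B) ((Alg.unit R A B).hom r) •
      mp M.val (lam f a A c hc B).op x
  congr 1
  apply ULift.ext
  change ((Scheme.ΓSpecIso (CommRingCat.of B)).inv ≫ (pullback.fst (bOf a B) f).appTop ≫
      (lamLeft f a A c hc B).appTop) r =
    (rh (Alg.unit R A B) ≫ (Scheme.ΓSpecIso (CommRingCat.of (TB A B))).inv) r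
  rw [← Scheme.Hom.comp_appTop, lamLeft_fst, Scheme.ΓSpecIso_inv_naturality]

/-- The restriction map `F_{f_* M,R} ⟶ push (F_{M,A})`. -/
noncomputable def uHom :
    (toMVF K a).obj ((BigSite.pushMod K f).obj M) ⟶ (push R A).obj ((toMVF K c).obj M) :=
  PresheafOfModules.homMk
    { app := fun X => AddCommGrpCat.ofHom (uMap K f M a A c hc X.unop.unop)
      naturality := by
        intro X Y g
        ext x
        exact uMap_natural K f M a A c hc g.unop.unop x }
    (by
      intro X r m
      exact uMap_smul K f M a A c hc X.unop.unop r m)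

theorem uHom_ap (B : Alg R) (x : ((toMVF K a).obj ((BigSite.pushMod K f).obj M)).obj (pt B)) :
    ap (uHom K f M a A c hc) (pt B) x = mp M.val (lam f a A c hc B).op x := rfl

section Change

variable (A' : Type u) [CommRing A'] [Algebra R A'] (c' : Spec (CommRingCat.of A') ⟶ T)
  (ψ : A →ₐ[R] A') (hψ : Spec.map (CommRingCat.ofHom ψ.toRingHom) ≫ c = c')

/-- `ψ ⊗ id : A ⊗ B → A' ⊗ B` -/
noncomputable abbrev tψ (B : Alg R) : CommRingCat.of (TB A B) ⟶ CommRingCat.of (TB A' B) :=
  CommRingCat.ofHom (Algebra.TensorProduct.map ψ (AlgHom.id R B)).toRingHom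

theorem inlB_tψ (B : Alg R) :
    inlB A B ≫ tψ A A' ψ B = CommRingCat.ofHom ψ.toRingHom ≫ inlB A' B := by
  ext x
  change Algebra.TensorProduct.map ψ (AlgHom.id R B) (x ⊗ₜ 1) = (ψ x) ⊗ₜ 1
  rw [Algebra.TensorProduct.map_tmul, map_one]

theorem unit_tψ (B : Alg R) :
    rh (Alg.unit R A B) ≫ tψ A A' ψ B = rh (Alg.unit R A' B) := by
  ext b
  change Algebra.TensorProduct.map ψ (AlgHom.id R B) (1 ⊗ₜ b) = 1 ⊗ₜ b
  rw [Algebra.TensorProduct.map_tmul, map_one]
  rfl

theorem tψ_natural {B B' : Alg R} (g : B ⟶ B') :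
    tψ A A' ψ B ≫ rh ((Alg.restr R A').map ((Alg.baseChange R A').map g)) =
      rh ((Alg.restr R A).map ((Alg.baseChange R A).map g)) ≫ tψ A A' ψ B' := by
  refine CommRingCat.hom_ext (RingHom.ext fun x => ?_)
  change Algebra.TensorProduct.map (AlgHom.id A' A') g.hom
      (Algebra.TensorProduct.map ψ (AlgHom.id R B) x) =
    Algebra.TensorProduct.map ψ (AlgHom.id R B')
      (Algebra.TensorProduct.map (AlgHom.id A A) g.hom x)
  induction x using TensorProduct.induction_on with
  | zero => simp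
  | tmul x y => simp
  | add x y hx hy => simp only [map_add, hx, hy]

include hψ in
theorem mu_w (B : Alg R) :
    Spec.map (tψ A A' ψ B) ≫ (YA A c B).hom = (YA A' c' B).hom := by
  change Spec.map (tψ A A' ψ B) ≫ Spec.map (inlB A B) ≫ c = Spec.map (inlB A' B) ≫ c'
  rw [← Category.assoc, ← Spec.map_comp, inlB_tψ, Spec.map_comp, Category.assoc, hψ]

/-- `Spec (A' ⊗ B) ⟶ Spec (A ⊗ B)` over `T` -/
noncomputable def mu (B : Alg R) : YA A' c' B ⟶ YA A c B :=
  Over.homMk (Spec.map (tψ A A' ψ B)) (mu_w A c A' c' ψ hψ B)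

theorem mu_natural {B B' : Alg R} (g : B ⟶ B') :
    mu A c A' c' ψ hψ B' ≫ (specOver c).map ((Alg.baseChange R A).map g).op =
      (specOver c').map ((Alg.baseChange R A').map g).op ≫ mu A c A' c' ψ hψ B := by
  ext
  change Spec.map (tψ A A' ψ B') ≫ Spec.map (rh ((Alg.restr R A).map ((Alg.baseChange R A).map g))) =
    Spec.map (rh ((Alg.restr R A').map ((Alg.baseChange R A').map g))) ≫ Spec.map (tψ A A' ψ B)
  rw [← Spec.map_comp, ← Spec.map_comp, tψ_natural]

variable (hc' : c' ≫ f = bOf a A')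

theorem mu_lam (B : Alg R) :
    mu A c A' c' ψ hψ B ≫ lam f a A c hc B = lam f a A' c' hc' B := by
  ext
  change Spec.map (tψ A A' ψ B) ≫ lamLeft f a A c hc B = lamLeft f a A' c' hc' B
  apply pullback.hom_ext
  · rw [Category.assoc, lamLeft_fst, lamLeft_fst, ← Spec.map_comp, unit_tψ]
  · rw [Category.assoc, lamLeft_snd, lamLeft_snd]
    exact mu_w A c A' c' ψ hψ B

/-- components of the restriction `F_{M,A}(A ⊗ B) → F_{M,A'}(A' ⊗ B)` -/
noncomputable def dMap (B : Alg R) :
    ((push R A).obj ((toMVF K c).obj M)).obj (pt B) →+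
      ((push R A').obj ((toMVF K c').obj M)).obj (pt B) :=
  mp M.val (mu A c A' c' ψ hψ B).op

theorem dMap_natural {B B' : Alg R} (g : B ⟶ B')
    (x : ((push R A).obj ((toMVF K c).obj M)).obj (pt B)) :
    dMap K M A c A' c' ψ hψ B' (mp ((push R A).obj ((toMVF K c).obj M)) (ptHom g) x) =
      mp ((push R A').obj ((toMVF K c').obj M)) (ptHom g) (dMap K M A c A' c' ψ hψ B x) := by
  have h1 := mp_comp M.val ((specOver c).map ((Alg.baseChange R A).map g).op).op
    (mu A c A' c' ψ hψ B').op x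
  have h2 := mp_comp M.val (mu A c A' c' ψ hψ B).op
    ((specOver c').map ((Alg.baseChange R A').map g).op).op x
  refine h1.symm.trans (Eq.trans ?_ h2)
  apply mp_congr
  rw [← op_comp, ← op_comp, mu_natural]

theorem dMap_smul (B : Alg R) (r : B) (x : ((push R A).obj ((toMVF K c).obj M)).obj (pt B)) :
    dMap K M A c A' c' ψ hψ B (r • x) = r • dMap K M A c A' c' ψ hψ B x := by
  have h1 := mp_smul M.val (mu A c A' c' ψ hψ B).op
    (toSect K c ((Alg.baseChange R A).obj B) ((Alg.unit R A B).hom r)) x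
  refine h1.trans ?_
  change _ • mp M.val (mu A c A' c' ψ hψ B).op x =
    toSect K c' ((Alg.baseChange R A').obj B) ((Alg.unit R A' B).hom r) •
      mp M.val (mu A c A' c' ψ hψ B).op x
  congr 1
  apply ULift.ext
  change ((Scheme.ΓSpecIso (CommRingCat.of (TB A B))).inv ≫
      (Spec.map (tψ A A' ψ B)).appTop) ((Alg.unit R A B).hom r) =
    (Scheme.ΓSpecIso (CommRingCat.of (TB A' B))).inv ((Alg.unit R A' B).hom r)
  rw [← Scheme.ΓSpecIso_inv_naturality]
  change (Scheme.ΓSpecIso (CommRingCat.of (TB A' B))).inv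
    ((rh (Alg.unit R A B) ≫ tψ A A' ψ B) r) = _
  rw [unit_tψ]
  rfl

/-- The restriction map `push (F_{M,A}) ⟶ push (F_{M,A'})`. -/
noncomputable def dHom :
    (push R A).obj ((toMVF K c).obj M) ⟶ (push R A').obj ((toMVF K c').obj M) :=
  PresheafOfModules.homMk
    { app := fun X => AddCommGrpCat.ofHom (dMap K M A c A' c' ψ hψ X.unop.unop)
      naturality := by
        intro X Y g
        ext x
        exact dMap_natural K M A c A' c' ψ hψ g.unop.unop x }
    (by
      intro X r m
      exact dMap_smul K M A c A' c' ψ hψ X.unop.unop r m)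

theorem dHom_ap (B : Alg R) (x : ((push R A).obj ((toMVF K c).obj M)).obj (pt B)) :
    ap (dHom K M A c A' c' ψ hψ) (pt B) x = mp M.val (mu A c A' c' ψ hψ B).op x := rfl

theorem uHom_dHom :
    uHom K f M a A c hc ≫ dHom K M A c A' c' ψ hψ = uHom K f M a A' c' hc' := by
  apply PresheafOfModules.hom_ext
  rintro ⟨⟨B⟩⟩
  apply ConcreteCategory.hom_ext
  intro x
  change mp M.val (mu A c A' c' ψ hψ B).op (mp M.val (lam f a A c hc B).op x) =
    mp M.val (lam f a A' c' hc' B).op x
  rw [← mp_comp, ← op_comp, mu_lam]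

end Change

end Groth.Agent.Lib.Seat39.PushHom
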