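import Groth.Prelude.Def_Adeq
import Groth.Agent.Lib.Seat39MVF
import Mathlib.Algebra.Category.ModuleCat.Presheaf.EpiMono
import Mathlib.CategoryTheory.Preadditive.Injective.Basic
import Mathlib.LinearAlgebra.Finsupp.LinearCombination

/-!
# Seat39: the free module-valued functor on a representable functor, and its Yoneda property

For `C : Alg A`, `rep C` is the module-valued functor `D ↦ free D-module on Hom_A(C, D)`.
Morphisms `rep C ⟶ F` correspond to elements of `F(C)`.
-/
set_option autoImplicit false
universe u
open CategoryTheory Limits Opposite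

namespace Groth.Agent.Lib.Seat39.Rep

open Adeq Groth.Agent.Lib.Seat39.MVF

variable {A : Type u} [CommRing A]

/-- The index type of the free module `rep C (D)`: algebra maps `C ⟶ D`, lifted one universe. -/
abbrev Idx (C D : Alg A) : Type (u + 1) := ULift.{u + 1} (C ⟶ D)

/-- Postcomposition on indices. -/
def idxMap (C : Alg A) {D D' : Alg A} (g : D ⟶ D') : Idx C D → Idx C D' := fun φ => ⟨φ.down ≫ g⟩

/-- The transition map of `rep C`. -/
noncomputable def trans (C : Alg A) {D D' : Alg A} (g : D ⟶ D') :
    (Idx C D →₀ (D : Type u)) →+ (Idx C D' →₀ (D' : Type u)) :=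
  (Finsupp.mapDomain.addMonoidHom (idxMap C g)).comp
    (Finsupp.mapRange.addMonoidHom g.hom.toRingHom.toAddMonoidHom)

theorem trans_single (C : Alg A) {D D' : Alg A} (g : D ⟶ D') (φ : Idx C D) (d : D) :
    trans C g (Finsupp.single φ d) = Finsupp.single (idxMap C g φ) (g.hom d) := by
  simp only [trans, AddMonoidHom.coe_comp, Function.comp_apply, Finsupp.mapRange.addMonoidHom_apply,
    Finsupp.mapRange_single, Finsupp.mapDomain.addMonoidHom_apply, Finsupp.mapDomain_single]
  rfl

/-- The functor to abelian groups underlying `rep C`. -/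
noncomputable abbrev repAb (C : Alg A) : (Alg A)ᵒᵖᵒᵖ ⥤ Ab.{u + 1} where
  obj X := AddCommGrpCat.of (Idx C X.unop.unop →₀ (X.unop.unop : Type u))
  map {X Y} f := AddCommGrpCat.ofHom (trans C f.unop.unop)
  map_id X := by
    refine AddCommGrpCat.hom_ext (AddMonoidHom.ext fun x => ?_)
    change trans C (𝟙 X.unop.unop) x = x
    induction x using Finsupp.induction_linear with
    | zero => rw [map_zero]
    | add x y hx hy => rw [map_add, hx, hy]
    | single φ d =>
      rw [trans_single]
      congr 1
  map_comp {X Y Z} f g := by
    refine AddCommGrpCat.hom_ext (AddMonoidHom.ext fun x => ?_)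
    change trans C (f.unop.unop ≫ g.unop.unop) x = trans C g.unop.unop (trans C f.unop.unop x)
    induction x using Finsupp.induction_linear with
    | zero => rw [map_zero, map_zero, map_zero]
    | add x y hx hy => rw [map_add, map_add, map_add, hx, hy]
    | single φ d =>
      rw [trans_single, trans_single, trans_single]
      congr 1

/-- The free module-valued functor on the functor represented by `C`. -/
noncomputable def rep (C : Alg A) : MVF A :=
  PresheafOfModules.ofPresheaf (repAb C) (by
    intro X Y f r m
    change trans C f.unop.unop (r • m) = f.unop.unop.hom r • trans C f.unop.unop m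
    induction m using Finsupp.induction_linear with
    | zero => rw [smul_zero, map_zero, smul_zero]
    | add x y hx hy => rw [smul_add, map_add, map_add, smul_add, hx, hy]
    | single φ d =>
      rw [Finsupp.smul_single, trans_single, trans_single, Finsupp.smul_single]
      simp only [smul_eq_mul, map_mul])

end Groth.Agent.Lib.Seat39.Rep

namespace Groth.Agent.Lib.Seat39.Rep

open Adeq Groth.Agent.Lib.Seat39.MVF

variable {A : Type u} [CommRing A]

theorem rep_mp_single (C : Alg A) {D D' : Alg A} (g : D ⟶ D') (φ : Idx C D) (d : D) :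
    mp (rep C) (ptHom g) (Finsupp.single φ d : Idx C D →₀ (D : Type u)) =
      (Finsupp.single (idxMap C g φ) (g.hom d) : Idx C D' →₀ (D' : Type u)) :=
  trans_single C g φ d

/-- The universal element of `rep C`. -/
noncomputable def gen (C : Alg A) : (rep C).obj (pt C) :=
  (Finsupp.single (⟨𝟙 C⟩ : Idx C C) (1 : (C : Type u)) : Idx C C →₀ (C : Type u))

section Desc

variable {C : Alg A} (F : MVF A) (x : F.obj (pt C))

/-- The linear map `rep C (D) → F(D)` attached to `x ∈ F(C)`. -/
noncomputable def descLin (D : Alg A) : (Idx C D →₀ (D : Type u)) →ₗ[(D : Type u)] F.obj (pt D) :=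
  Finsupp.linearCombination (D : Type u) (fun φ : Idx C D => mp F (ptHom φ.down) x)

theorem descLin_single (D : Alg A) (φ : Idx C D) (d : D) :
    descLin F x D (Finsupp.single φ d) = d • mp F (ptHom φ.down) x :=
  Finsupp.linearCombination_single _ _ _

theorem descLin_natural {D D' : Alg A} (g : D ⟶ D') (m : Idx C D →₀ (D : Type u)) :
    descLin F x D' (trans C g m) = mp F (ptHom g) (descLin F x D m) := by
  induction m using Finsupp.induction_linear with
  | zero => simp only [map_zero]
  | add a b ha hb => simp only [map_add, ha, hb]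
  | single φ d =>
    rw [trans_single, descLin_single, descLin_single, mp_smul]
    congr 1
    exact mp_comp F (ptHom φ.down) (ptHom g) x

/-- The morphism `rep C ⟶ F` attached to an element `x ∈ F(C)` (Yoneda). -/
noncomputable def desc : rep C ⟶ F :=
  PresheafOfModules.homMk
    { app := fun X => AddCommGrpCat.ofHom (descLin F x X.unop.unop).toAddMonoidHom
      naturality := fun {X Y} f => by
        refine AddCommGrpCat.hom_ext (AddMonoidHom.ext fun m => ?_)
        exact descLin_natural F x f.unop.unop m }
    (fun X r m => (descLin F x X.unop.unop).map_smul r m)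

theorem desc_apply (D : Alg A) (m : Idx C D →₀ (D : Type u)) :
    ap (desc F x) (pt D) m = descLin F x D m := rfl

theorem desc_gen : ap (desc F x) (pt C) (gen C) = x := by
  rw [gen, desc_apply, descLin_single, one_smul]
  exact mp_id F _ x

end Desc

section Pre

variable {C₁ C₂ : Alg A} (p : C₁ ⟶ C₂)

/-- Precomposition on indices. -/
def idxPre (D : Alg A) : Idx C₂ D → Idx C₁ D := fun φ => ⟨p ≫ φ.down⟩

/-- The linear map `rep C₂ (D) → rep C₁ (D)` induced by `p : C₁ ⟶ C₂`. -/
noncomputable def preLin (D : Alg A) :
    (Idx C₂ D →₀ (D : Type u)) →ₗ[(D : Type u)] (Idx C₁ D →₀ (D : Type u)) :=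
  Finsupp.lmapDomain (D : Type u) (D : Type u) (idxPre p D)

theorem preLin_single (D : Alg A) (φ : Idx C₂ D) (d : D) :
    preLin p D (Finsupp.single φ d) = Finsupp.single (idxPre p D φ) d :=
  Finsupp.mapDomain_single

theorem preLin_natural {D D' : Alg A} (g : D ⟶ D') (m : Idx C₂ D →₀ (D : Type u)) :
    preLin p D' (trans C₂ g m) = trans C₁ g (preLin p D m) := by
  induction m using Finsupp.induction_linear with
  | zero => simp only [map_zero]
  | add a b ha hb => simp only [map_add, ha, hb]
  | single φ d =>
    rw [trans_single, preLin_single, preLin_single, trans_single]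
    congr 1

/-- The morphism `rep C₂ ⟶ rep C₁` induced by `p : C₁ ⟶ C₂`. -/
noncomputable def pre : rep C₂ ⟶ rep C₁ :=
  PresheafOfModules.homMk
    { app := fun X => AddCommGrpCat.ofHom (preLin p X.unop.unop).toAddMonoidHom
      naturality := fun {X Y} f => by
        refine AddCommGrpCat.hom_ext (AddMonoidHom.ext fun m => ?_)
        exact preLin_natural p f.unop.unop m }
    (fun X r m => (preLin p X.unop.unop).map_smul r m)

theorem pre_apply (D : Alg A) (m : Idx C₂ D →₀ (D : Type u)) :
    ap (pre p) (pt D) m = preLin p D m := rfl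

theorem pre_gen : ap (pre p) (pt C₂) (gen C₂) = mp (rep C₁) (ptHom p) (gen C₁) := by
  rw [gen, pre_apply, preLin_single, gen, rep_mp_single, map_one]
  congr 1

theorem pre_mono [Epi p] : Mono (pre p) := by
  apply PresheafOfModules.mono_of_injective
  intro X
  change Function.Injective (preLin p X.unop.unop)
  apply Finsupp.mapDomain_injective
  intro φ ψ h
  apply ULift.ext
  have := congrArg ULift.down h
  exact (cancel_epi p).mp this

end Pre

/-- For an injective module-valued functor `I` and an epimorphism of algebras `p : C₁ ⟶ C₂`,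
the map `I(C₁) → I(C₂)` is surjective. -/
theorem surjective_of_injective_of_epi (I : MVF A) [Injective I] {C₁ C₂ : Alg A} (p : C₁ ⟶ C₂)
    [Epi p] : Function.Surjective (mp I (ptHom p)) := by
  intro x
  have := pre_mono p
  have h := Injective.comp_factorThru (desc I x) (pre p)
  refine ⟨ap (Injective.factorThru (desc I x) (pre p)) (pt C₁) (gen C₁), ?_⟩
  rw [← ap_mp, ← pre_gen, ← ap_comp, h, desc_gen]

end Groth.Agent.Lib.Seat39.Rep
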