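import Groth.Agent.Lib.Seat39Linearize
import Groth.Agent.Lib.Helper13AdeqD

/-!
# Seat39: linearly adequate functors are representable as set-valued functors; set-theoretic
sections of epimorphisms onto them
-/
set_option autoImplicit false
universe u v
open CategoryTheory Limits Opposite TensorProduct

namespace Groth.Agent.Lib.Seat39.Tsz

open Adeq Groth.Agent.Lib.Seat39.MVF Groth.Agent.Lib.Seat39.AdeqF Groth.Agent.Helper13Adeq
  Groth.Agent.Helper13Adeq.Univ

variable {A : Type u} [CommRing A]

/-- `L` is representable as a set-valued functor. -/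
structure Repr (L : MVF A) where
  /-- the representing algebra -/
  R : Alg A
  /-- the universal element -/
  η : L.obj (pt R)
  ex : ∀ (C : Alg A) (x : L.obj (pt C)), ∃ f : R ⟶ C, mp L (ptHom f) η = x
  uniq : ∀ (C : Alg A) (f f' : R ⟶ C), mp L (ptHom f) η = mp L (ptHom f') η → f = f'

/-- A set-theoretic lift of a map from a representable functor through a pointwise surjection. -/
noncomputable def setLiftOfRepr {G H L : MVF A} (Rp : Repr L) (g : G ⟶ H) (p : L ⟶ H)
    (hg : ∀ X, Function.Surjective (ap g X)) : SetLift g p where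
  σ C x := mp G (ptHom (Rp.ex C x).choose) (hg (pt Rp.R) (ap p (pt Rp.R) Rp.η)).choose
  nat := by
    intro C C' k x
    rw [mp_comp']
    have h : (Rp.ex C' (mp L (ptHom k) x)).choose = (Rp.ex C x).choose ≫ k := by
      apply Rp.uniq
      rw [(Rp.ex C' _).choose_spec, ← mp_comp', (Rp.ex C x).choose_spec]
    rw [h]
  sec := by
    intro C x
    rw [ap_mp, (hg (pt Rp.R) (ap p (pt Rp.R) Rp.η)).choose_spec, ← ap_mp,
      (Rp.ex C x).choose_spec]

/-- A set-theoretic section of a pointwise surjection onto a representable functor. -/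
noncomputable def setSectionOfRepr {G L : MVF A} (Rp : Repr L) (g : G ⟶ L)
    (hg : ∀ X, Function.Surjective (ap g X)) : SetSection g :=
  setLiftOfRepr Rp g (𝟙 L) hg

theorem RU_algHom_ext {n m : ℕ} (a : Fin m → Fin n → A) {C : Type u} [CommRing C] [Algebra A C]
    (f f' : RU a →ₐ[A] C) (h : ∀ j, f (xb a j) = f' (xb a j)) : f = f' := by
  apply Ideal.Quotient.algHom_ext
  apply MvPolynomial.algHom_ext
  intro j
  exact h j

section

variable {L : MVF A} (PL : Pres L) {n m : ℕ} (eP : Module.Basis (Fin n) A PL.M)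
  (eP' : Module.Basis (Fin m) A PL.N)

/-- The matrix of the presentation. -/
noncomputable def mat : Fin m → Fin n → A := fun i j => eP'.repr (PL.φ.hom (eP j)) i

/-- The universal vector. -/
noncomputable def xiU : RU (mat PL eP eP') ⊗[A] PL.M := ∑ j, xb (mat PL eP eP') j ⊗ₜ[A] eP j

theorem phi_xiU :
    ap ((underline A).map PL.φ) (pt (algOf A (RU (mat PL eP eP')))) (ofT PL.M (xiU PL eP eP')) = 0 := by
  change PL.φ.hom.baseChange (RU (mat PL eP eP')) (xiU PL eP eP') = 0
  rw [xiU, baseChange_sum_basis eP eP']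
  refine Finset.sum_eq_zero (fun i _ => ?_)
  have : ∑ j, (eP'.repr (PL.φ.hom (eP j)) i) • xb (mat PL eP eP') j = 0 := rel (mat PL eP eP') i
  rw [this, TensorProduct.zero_tmul]

theorem rel_of_coords (C : Alg A) (x : L.obj (pt C)) (b : Fin n → (C : Type u))
    (hb : toT PL.M (ap PL.j (pt C) x) = ∑ j, b j ⊗ₜ[A] eP j) (i : Fin m) :
    ∑ j, mat PL eP eP' i j • b j = 0 := by
  have h0 := PL.zero_apply (pt C) x
  have h1 : PL.φ.hom.baseChange (C : Type u) (toT PL.M (ap PL.j (pt C) x)) = 0 := h0
  rw [hb, baseChange_sum_basis eP eP'] at h1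
  exact coords_eq_zero eP' (C : Type u) _ h1 i

/-- A linearly adequate functor is representable. -/
noncomputable def reprOfPres : Repr L where
  R := algOf A (RU (mat PL eP eP'))
  η := (PL.exact _ _ (phi_xiU PL eP eP')).choose
  ex := by
    intro C x
    obtain ⟨b, hb⟩ := exists_coords eP (C : Type u) (toT PL.M (ap PL.j (pt C) x))
    have hrel := rel_of_coords PL eP eP' C x b hb
    refine ⟨CommAlgCat.ofHom (classify (mat PL eP eP') b hrel), ?_⟩
    apply PL.inj (pt C)
    rw [ap_mp, (PL.exact _ _ (phi_xiU PL eP eP')).choose_spec]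
    change ofT PL.M ((classify (mat PL eP eP') b hrel).toLinearMap.rTensor PL.M (xiU PL eP eP')) =
      ofT PL.M (toT PL.M (ap PL.j (pt C) x))
    rw [hb, xiU, map_sum]
    congr 1
    refine Finset.sum_congr rfl (fun j _ => ?_)
    rw [LinearMap.rTensor_tmul, AlgHom.toLinearMap_apply, classify_xb]
  uniq := by
    intro C f f' h
    have h1 := congrArg (ap PL.j (pt C)) h
    rw [ap_mp, ap_mp, (PL.exact _ _ (phi_xiU PL eP eP')).choose_spec] at h1
    have h2 : f.hom.toLinearMap.rTensor PL.M (xiU PL eP eP') =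
        f'.hom.toLinearMap.rTensor PL.M (xiU PL eP eP') := h1
    rw [xiU, map_sum, map_sum, ← sub_eq_zero, ← Finset.sum_sub_distrib] at h2
    have h3 : ∑ j, (f.hom (xb (mat PL eP eP') j) - f'.hom (xb (mat PL eP eP') j)) ⊗ₜ[A] eP j = 0 := by
      rw [← h2]
      refine Finset.sum_congr rfl (fun j _ => ?_)
      rw [LinearMap.rTensor_tmul, LinearMap.rTensor_tmul, TensorProduct.sub_tmul]
      rfl
    have h4 := coords_eq_zero eP (C : Type u) _ h3
    apply CommAlgCat.hom_ext
    exact RU_algHom_ext _ _ _ (fun j => sub_eq_zero.mp (h4 j))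

end

end Groth.Agent.Lib.Seat39.Tsz
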