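import Groth.Agent.Lib.Seat39Adeq
import Groth.Agent.Lib.Seat39FlatBC
import Groth.Agent.Lib.Seat39AdeqCoker

/-!
# Seat39: restriction of adequate functors along a ring map
-/
set_option autoImplicit false
universe u v
open CategoryTheory Limits Opposite TensorProduct

namespace Groth.Agent.Lib.Seat39.Restr

section Alg

variable {A A' : Type u} [CommRing A] [CommRing A'] [Algebra A A']
  {B C : Type u} [CommRing B] [Algebra A B] [Algebra A' B] [IsScalarTower A A' B]
  [CommRing C] [Algebra A C] [Algebra A' C] [IsScalarTower A A' C]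
  {M N : Type v} [AddCommGroup M] [Module A M] [AddCommGroup N] [Module A N]

theorem cancel_rTensor (f : B →ₐ[A'] C) (t : B ⊗[A'] (A' ⊗[A] M)) :
    TensorProduct.AlgebraTensorModule.cancelBaseChange A A' C C M
        (f.toLinearMap.rTensor (A' ⊗[A] M) t) =
      (f.restrictScalars A).toLinearMap.rTensor M
        (TensorProduct.AlgebraTensorModule.cancelBaseChange A A' B B M t) := by
  induction t using TensorProduct.induction_on with
  | zero => simp
  | tmul b s =>
    induction s using TensorProduct.induction_on with
    | zero => simp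
    | tmul a' m =>
      rw [LinearMap.rTensor_tmul, TensorProduct.AlgebraTensorModule.cancelBaseChange_tmul,
        TensorProduct.AlgebraTensorModule.cancelBaseChange_tmul, LinearMap.rTensor_tmul]
      congr 1
      exact (map_smul f a' b).symm
    | add x y hx hy =>
      rw [TensorProduct.tmul_add, map_add, map_add, hx, hy, map_add, map_add]
  | add x y hx hy => rw [map_add, map_add, hx, hy, map_add, map_add]

theorem cancel_baseChange (g : M →ₗ[A] N) (t : B ⊗[A'] (A' ⊗[A] M)) :
    TensorProduct.AlgebraTensorModule.cancelBaseChange A A' B B N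
        ((g.baseChange A').baseChange B t) =
      g.baseChange B (TensorProduct.AlgebraTensorModule.cancelBaseChange A A' B B M t) :=
  Groth.Agent.Lib.Seat39.FlatBC.cancel_natural (A₀ := A) (R := A') (S := B) g t

end Alg

section MVF

open Adeq Groth.Agent.Lib.Seat39.MVF Groth.Agent.Lib.Seat39.AdeqF

variable (A A' : Type u) [CommRing A] [CommRing A'] [Algebra A A']

/-- The `A'`-algebra structure on the restriction of an `A'`-algebra. -/
instance algRestr (B' : Alg A') : Algebra A' ((Alg.restr A A').obj B' : Type u) :=
  inferInstanceAs (Algebra A' (B' : Type u))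

instance towerRestr (B' : Alg A') : IsScalarTower A A' ((Alg.restr A A').obj B' : Type u) :=
  IsScalarTower.of_algebraMap_eq (fun _ => rfl)

/-- The base-changed module. -/
abbrev bcMod (M : ModuleCat.{u + 1} A) : ModuleCat.{u + 1} A' := ModuleCat.of A' (A' ⊗[A] M)

/-- The base-changed map. -/
abbrev bcHom {M N : ModuleCat.{u + 1} A} (φ : M ⟶ N) : bcMod A A' M ⟶ bcMod A A' N :=
  ModuleCat.ofHom (φ.hom.baseChange A')

/-- The cancellation map at an `A'`-algebra. -/
noncomputable abbrev cbc (M : ModuleCat.{u + 1} A) (B' : Alg A') :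
    (B' : Type u) ⊗[A'] (A' ⊗[A] M) ≃ₗ[((Alg.restr A A').obj B' : Type u)]
      ((Alg.restr A A').obj B' : Type u) ⊗[A] M :=
  TensorProduct.AlgebraTensorModule.cancelBaseChange A A' ((Alg.restr A A').obj B' : Type u)
    ((Alg.restr A A').obj B' : Type u) M

/-- The comparison `underline (A' ⊗ M) → restr (underline M)`. -/
noncomputable def theta (M : ModuleCat.{u + 1} A) :
    (underline A').obj (bcMod A A' M) ⟶ (restr A A').obj ((underline A).obj M) :=
  PresheafOfModules.homMk
    { app := fun X => AddCommGrpCat.ofHom (cbc A A' M X.unop.unop).toLinearMap.toAddMonoidHom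
      naturality := by
        intro X Y f
        ext t
        exact cancel_rTensor (A := A) (A' := A')
          (B := ((Alg.restr A A').obj X.unop.unop : Type u))
          (C := ((Alg.restr A A').obj Y.unop.unop : Type u)) (M := M) f.unop.unop.hom t }
    (by
      intro X r m
      exact (cbc A A' M X.unop.unop).map_smul r m)

theorem theta_apply (M : ModuleCat.{u + 1} A) (B' : Alg A') (t : (B' : Type u) ⊗[A'] (A' ⊗[A] M)) :
    ap (theta A A' M) (pt B') t = cbc A A' M B' t := rfl

instance theta_isIso (M : ModuleCat.{u + 1} A) : IsIso (theta A A' M) := by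
  apply isIso_of_ap_bijective
  rintro ⟨⟨B'⟩⟩
  exact (cbc A A' M B').bijective

theorem theta_inv_apply (M : ModuleCat.{u + 1} A) (X) (t) :
    ap (theta A A' M) X (ap (inv (theta A A' M)) X t) = t := by
  rw [← ap_comp, IsIso.inv_hom_id, ap_id]

theorem inv_theta_apply (M : ModuleCat.{u + 1} A) (X) (t) :
    ap (inv (theta A A' M)) X (ap (theta A A' M) X t) = t := by
  rw [← ap_comp, IsIso.hom_inv_id, ap_id]

theorem theta_natural {M N : ModuleCat.{u + 1} A} (φ : M ⟶ N) :
    theta A A' M ≫ (restr A A').map ((underline A).map φ) =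
      (underline A').map (bcHom A A' φ) ≫ theta A A' N := by
  apply hom_ext_ap
  rintro ⟨⟨B'⟩⟩ t
  exact (cancel_baseChange (A := A) (A' := A')
    (B := ((Alg.restr A A').obj B' : Type u)) φ.hom t).symm

theorem inv_theta_natural {M N : ModuleCat.{u + 1} A} (φ : M ⟶ N) :
    inv (theta A A' M) ≫ (underline A').map (bcHom A A' φ) =
      (restr A A').map ((underline A).map φ) ≫ inv (theta A A' N) := by
  rw [IsIso.inv_comp_eq, ← Category.assoc, IsIso.eq_comp_inv, theta_natural]

/-- The restriction of a presented functor is presented by the base-changed modules. -/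
noncomputable def presRestr {F : MVF A} (P : Pres F) : Pres ((restr A A').obj F) where
  M := bcMod A A' P.M
  N := bcMod A A' P.N
  φ := bcHom A A' P.φ
  j := (restr A A').map P.j ≫ inv (theta A A' P.M)
  inj := by
    rintro ⟨⟨B'⟩⟩ x y hxy
    rw [ap_comp, ap_comp] at hxy
    have h1 := congrArg (ap (theta A A' P.M) (pt B')) hxy
    rw [theta_inv_apply, theta_inv_apply] at h1
    exact P.inj (pt ((Alg.restr A A').obj B')) h1
  zero := by
    rw [Category.assoc, inv_theta_natural, ← Category.assoc, ← Functor.map_comp, P.zero]
    have h0 : (restr A A').map (0 : F ⟶ (underline A).obj P.N) = 0 := by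
      apply hom_ext_ap
      intro X x
      rfl
    rw [h0, zero_comp]
  exact := by
    rintro ⟨⟨B'⟩⟩ p hp
    have h1 : ap ((underline A).map P.φ) (pt ((Alg.restr A A').obj B'))
        (ap (theta A A' P.M) (pt B') p) = 0 := by
      have := congrArg (fun t => ap t (pt B') p) (theta_natural A A' P.φ)
      simp only [ap_comp] at this
      refine this.trans ?_
      rw [hp, map_zero]
      rfl
    obtain ⟨y, hy⟩ := P.exact (pt ((Alg.restr A A').obj B')) _ h1
    refine ⟨y, ?_⟩
    exact (congrArg (ap (inv (theta A A' P.M)) (pt B')) hy).trans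
      (inv_theta_apply A A' P.M (pt B') p)

theorem adequate_restr (F : MVF A) (hF : adequate A F) : adequate A' ((restr A A').obj F) := by
  obtain ⟨P⟩ := (adequate_iff_nonempty_pres F).mp hF
  exact (presRestr A A' P).adequate

end MVF

end Groth.Agent.Lib.Seat39.Restr
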