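import Groth.Agent.Lib.Seat39Repr
import Groth.Agent.Lib.Seat39AdeqAdj

/-!
# Seat39: extensions of a linearly adequate functor by `underline M` split
-/
set_option autoImplicit false
universe u v
open CategoryTheory Limits Opposite TensorProduct

namespace Groth.Agent.Lib.Seat39.Tsz

open Adeq Groth.Agent.Lib.Seat39.MVF Groth.Agent.Lib.Seat39.AdeqF

variable {A : Type u} [CommRing A]

instance closedBinary : (adequate A).IsClosedUnderColimitsOfShape (Discrete WalkingPair) :=
  ObjectProperty.IsClosedUnderColimitsOfShape.of_equivalence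
    (Discrete.equivalence Equiv.ulift : Discrete (ULift.{u + 1} WalkingPair) ≌ Discrete WalkingPair)

theorem adequate_biprod (X Y : MVF A) (hX : adequate A X) (hY : adequate A Y) :
    adequate A (X ⊞ Y) := by
  refine (adequate A).prop_of_isColimit (BinaryBiproduct.isColimit X Y) ?_
  rintro ⟨j⟩
  cases j
  · exact hX
  · exact hY

theorem adequate_of_splitting (S : ShortComplex (MVF A)) (sp : S.Splitting)
    (h₁ : adequate A S.X₁) (h₃ : adequate A S.X₃) : adequate A S.X₂ :=
  (adequate A).prop_of_iso sp.isoBinaryBiproduct.symm (adequate_biprod _ _ h₁ h₃)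

/-- A functor isomorphic to `underline M` is presented. -/
noncomputable def presOfIsoUnderline {F : MVF A} {M : ModuleCat.{u + 1} A}
    (e : F ≅ (underline A).obj M) : Pres F where
  M := M
  N := M
  φ := 0
  j := e.hom
  inj X := (ap_bijective_of_isIso e.hom X).1
  zero := by rw [Functor.map_zero, comp_zero]
  exact X p _ := (ap_bijective_of_isIso e.hom X).2 p

theorem exists_basis_fin (P : ModuleCat.{u + 1} A) [Module.Finite A P] [Module.Free A P] :
    ∃ n : ℕ, Nonempty (Module.Basis (Fin n) A P) := by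
  classical
  exact ⟨_, ⟨(Module.Free.chooseBasis A P).reindex
    (Fintype.equivFin (Module.Free.ChooseBasisIndex A P))⟩⟩

theorem exists_repr (L : MVF A) (hL : linAdequate A L) : Nonempty (Pres L) ∧ Nonempty (Repr L) := by
  obtain ⟨P, P', φ₀, h1, h2, h3, h4, ⟨e⟩⟩ := hL
  obtain ⟨n, ⟨eP⟩⟩ := exists_basis_fin P
  obtain ⟨m, ⟨eP'⟩⟩ := exists_basis_fin P'
  exact ⟨⟨presOfIso φ₀ e⟩, ⟨reprOfPres (presOfIso φ₀ e) eP eP'⟩⟩

/-- **Splitting**: a short exact sequence `0 → underline M → G → L → 0` with `L` linearly adequate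
splits and `G` is adequate. -/
theorem splitting_of_shortExact (S : ShortComplex (MVF A)) (hS : S.ShortExact)
    (M : ModuleCat.{u + 1} A) (e : S.X₁ ≅ (underline A).obj M) (hL : linAdequate A S.X₃) :
    Nonempty S.Splitting ∧ adequate A S.X₂ := by
  obtain ⟨⟨PL⟩, ⟨Rp⟩⟩ := exists_repr S.X₃ hL
  let P1 : Pres S.X₁ := presOfIsoUnderline e
  let T : SetSection S.g := setSectionOfRepr Rp S.g (g_surjective S hS)
  have hI1 : TanInj S.X₂ 1 :=
    tanInj_of_shortExact S hS 1 (tanInj_of_pres P1 1) (tanInj_of_pres PL 1)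
  have hS1 : TanSurj S.X₂ 1 :=
    tanSurj_of_shortExact S hS 1 (tanSurj_of_pres P1 1) (tanSurj_of_pres PL 1)
  have hS2 : TanSurj S.X₂ 2 :=
    tanSurj_of_shortExact S hS 2 (tanSurj_of_pres P1 2) (tanSurj_of_pres PL 2)
  have hIL : TanInj S.X₃ 1 := tanInj_of_pres PL 1
  have hs : linMor T hI1 hS1 hS2 ≫ S.g = 𝟙 S.X₃ := linMor_comp T hI1 hS1 hS2 hIL
  have := hS.mono_f
  let sp : S.Splitting := ShortComplex.Splitting.ofExactOfSection S hS.exact _ hs inferInstance
  exact ⟨⟨sp⟩, adequate_of_splitting S sp P1.adequate PL.adequate⟩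

end Groth.Agent.Lib.Seat39.Tsz
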