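import Groth.Prelude.Def_W4stkadequateTF
import Groth.Agent.Lib.Seat39MVF

/-!
# Seat39: tangent functors of module-valued functors; element-level exactness lemmas
-/
set_option autoImplicit false
universe u
open CategoryTheory Limits

namespace Groth.Agent.Lib.Seat39.TF

open AdeqTF Groth.Agent.Lib.Seat39.MVF

variable {A : Type u} [CommRing A] (B : Adeq.Alg A)

section Basic

variable (N : ModuleCat.{u} B)

theorem inl_fst : AdeqTF.inl B N ≫ AdeqTF.fst B N = 𝟙 B := by
  apply CommAlgCat.hom_ext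
  refine AlgHom.ext fun x => ?_
  show TrivSqZeroExt.fst (algebraMap (B : Type u) (TrivSqZeroExt (B : Type u) N) x) = x
  rfl

theorem ptHom_inl_fst : Adeq.ptHom (inl B N) ≫ Adeq.ptHom (fst B N) = 𝟙 (Adeq.pt B) :=
  congrArg Adeq.ptHom (inl_fst B N)

variable {N}

theorem mem_tangent_iff (F : Adeq.MVF A) (x : F.obj (Adeq.pt (ext B N))) :
    x ∈ tangent B N F ↔ mp F (Adeq.ptHom (fst B N)) x = 0 := Iff.rfl

theorem tangentMap_coe (F : Adeq.MVF A) {N' : ModuleCat.{u} B} (g : N ⟶ N') (x : tangent B N F) :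
    ((tangentMap B F g x : tangent B N' F) : F.obj (Adeq.pt (ext B N'))) =
      mp F (Adeq.ptHom (AdeqTF.map B g)) (x : F.obj (Adeq.pt (ext B N))) := rfl

/-- The component of a morphism of module-valued functors on tangent modules. -/
noncomputable def tmor {F G : Adeq.MVF A} (φ : F ⟶ G) : tangent B N F →+ tangent B N G :=
  ((ap φ (Adeq.pt (ext B N))).comp (tangent B N F).subtype).codRestrict
    (tangent B N G) (fun x => by
      obtain ⟨x, hx⟩ := x
      rw [mem_tangent_iff] at hx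
      change mp G (Adeq.ptHom (fst B N)) (ap φ (Adeq.pt (ext B N)) x) = 0
      rw [← ap_mp, hx, map_zero])

theorem tmor_coe {F G : Adeq.MVF A} (φ : F ⟶ G) (x : tangent B N F) :
    ((tmor B φ x : tangent B N G) : G.obj (Adeq.pt (ext B N))) =
      ap φ (Adeq.pt (ext B N)) (x : F.obj (Adeq.pt (ext B N))) := rfl

theorem tmor_tangentMap {F G : Adeq.MVF A} (φ : F ⟶ G) {N' : ModuleCat.{u} B} (g : N ⟶ N')
    (x : tangent B N F) :
    tmor B φ (tangentMap B F g x) = tangentMap B G g (tmor B φ x) := by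
  apply Subtype.ext
  rw [tmor_coe, tangentMap_coe, tangentMap_coe, tmor_coe, ap_mp]

/-- The projection of `F(B[N])` onto the tangent module. -/
theorem sub_mem_tangent (F : Adeq.MVF A) (x : F.obj (Adeq.pt (ext B N))) :
    x - mp F (Adeq.ptHom (inl B N)) (mp F (Adeq.ptHom (fst B N)) x) ∈ tangent B N F := by
  rw [mem_tangent_iff, map_sub, ← mp_comp, mp_congr F (ptHom_inl_fst B N), mp_id, sub_self]

end Basic

section Exactness

variable {N : ModuleCat.{u} B} (C : ShortComplex (Adeq.MVF A)) (hC : C.ShortExact)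

include hC

theorem tmor_f_injective : Function.Injective (tmor B (N := N) C.f) := by
  intro x y h
  apply Subtype.ext
  have h' := congrArg Subtype.val h
  rw [tmor_coe, tmor_coe] at h'
  exact f_injective C hC _ h'

theorem tmor_g_surjective : Function.Surjective (tmor B (N := N) C.g) := by
  intro z
  obtain ⟨y₀, hy₀⟩ := g_surjective C hC (Adeq.pt (ext B N)) (z : C.X₃.obj (Adeq.pt (ext B N)))
  have hz : mp C.X₃ (Adeq.ptHom (fst B N)) (z : C.X₃.obj (Adeq.pt (ext B N))) = 0 := z.2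
  refine ⟨⟨_, sub_mem_tangent B C.X₂ y₀⟩, ?_⟩
  apply Subtype.ext
  rw [tmor_coe]
  change ap C.g _ (y₀ - _) = z
  rw [map_sub, ap_mp, ap_mp, hy₀, hz, map_zero, sub_zero]

theorem tmor_exact (y : tangent B N C.X₂) (hy : tmor B C.g y = 0) :
    ∃ x : tangent B N C.X₁, tmor B C.f x = y := by
  have hy' : ap C.g (Adeq.pt (ext B N)) (y : C.X₂.obj (Adeq.pt (ext B N))) = 0 := by
    have := congrArg Subtype.val hy
    rwa [tmor_coe] at this
  obtain ⟨x₀, hx₀⟩ := exact_mid C hC _ _ hy'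
  have hx1 : mp C.X₁ (Adeq.ptHom (fst B N)) x₀ = 0 := by
    apply f_injective C hC (Adeq.pt B)
    rw [ap_mp, hx₀, map_zero]
    exact y.2
  exact ⟨⟨x₀, hx1⟩, Subtype.ext hx₀⟩

omit hC in
theorem tmor_g_f (x : tangent B N C.X₁) : tmor B C.g (tmor B C.f x) = 0 := by
  apply Subtype.ext
  rw [tmor_coe, tmor_coe]
  exact g_f_apply C _ _

end Exactness

section Functoriality

variable {N N' N'' : ModuleCat.{u} B} (F : Adeq.MVF A)

theorem map_comp (g : N ⟶ N') (g' : N' ⟶ N'') :
    AdeqTF.map B (g ≫ g') = AdeqTF.map B g ≫ AdeqTF.map B g' := by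
  apply CommAlgCat.hom_ext
  refine AlgHom.ext fun x => ?_
  show TrivSqZeroExt.map (g ≫ g').hom x = TrivSqZeroExt.map g'.hom (TrivSqZeroExt.map g.hom x)
  rw [ModuleCat.hom_comp, TrivSqZeroExt.map_comp_map]
  rfl

theorem map_zero_eq : AdeqTF.map B (0 : N ⟶ N') = fst B N ≫ inl B N' := by
  apply CommAlgCat.hom_ext
  refine AlgHom.ext fun x => ?_
  show TrivSqZeroExt.map (0 : N ⟶ N').hom x =
    algebraMap (B : Type u) (TrivSqZeroExt (B : Type u) N') (TrivSqZeroExt.fst x)
  apply TrivSqZeroExt.ext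
  · rw [TrivSqZeroExt.fst_map]; rfl
  · rw [TrivSqZeroExt.snd_map]; rfl

theorem tangentMap_comp (g : N ⟶ N') (g' : N' ⟶ N'') (x : tangent B N F) :
    tangentMap B F (g ≫ g') x = tangentMap B F g' (tangentMap B F g x) := by
  apply Subtype.ext
  rw [tangentMap_coe, tangentMap_coe, tangentMap_coe, ← mp_comp]
  exact mp_congr F (congrArg Adeq.ptHom (map_comp B g g')) _

theorem tangentMap_zero (x : tangent B N F) : tangentMap B F (0 : N ⟶ N') x = 0 := by
  apply Subtype.ext
  rw [tangentMap_coe]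
  have e : Adeq.ptHom (AdeqTF.map B (0 : N ⟶ N')) = Adeq.ptHom (fst B N) ≫ Adeq.ptHom (inl B N') :=
    congrArg Adeq.ptHom (map_zero_eq B)
  rw [mp_congr F e, mp_comp]
  have hx : mp F (Adeq.ptHom (fst B N)) (x : F.obj (Adeq.pt (ext B N))) = 0 := x.2
  rw [hx, map_zero]
  rfl

theorem tangentMap_comp_eq_zero (g : N ⟶ N') (g' : N' ⟶ N'') (h : g ≫ g' = 0) (x : tangent B N F) :
    tangentMap B F g' (tangentMap B F g x) = 0 := by
  rw [← tangentMap_comp, h, tangentMap_zero]

theorem tangentMap_id (x : tangent B N F) : tangentMap B F (𝟙 N) x = x := by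
  apply Subtype.ext
  rw [tangentMap_coe]
  have e : Adeq.ptHom (AdeqTF.map B (𝟙 N)) = 𝟙 _ := by
    have : AdeqTF.map B (𝟙 N) = 𝟙 _ := by
      apply CommAlgCat.hom_ext
      refine AlgHom.ext fun x => ?_
      show TrivSqZeroExt.map (𝟙 N : N ⟶ N).hom x = x
      rw [ModuleCat.hom_id, TrivSqZeroExt.map_id]
      rfl
    rw [this]; rfl
  rw [mp_congr F e, mp_id]

end Functoriality

end Groth.Agent.Lib.Seat39.TF
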