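import Groth.Agent.Lib.Seat39Tsz

/-!
# Seat39: tangent decomposition `H(C[ε_1..ε_r]) = H(C) ⊕ ⨁ ε_l H(C)` for adequate functors and
extensions
-/
set_option autoImplicit false
universe u v
open CategoryTheory Limits Opposite TensorProduct

namespace Groth.Agent.Lib.Seat39.Tsz

open Adeq Groth.Agent.Lib.Seat39.MVF Groth.Agent.Lib.Seat39.AdeqF

variable {A : Type u} [CommRing A]

/-- `(y_l) ↦ Σ ε_l y_l` is injective. -/
def TanInj (H : MVF A) (r : ℕ) : Prop :=
  ∀ (C : Alg A) (y : Fin r → H.obj (pt C)), tan H C r y = 0 → y = 0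

/-- every element killed by `ε ↦ 0` is of the form `Σ ε_l y_l`. -/
def TanSurj (H : MVF A) (r : ℕ) : Prop :=
  ∀ (C : Alg A) (θ : H.obj (pt (dn C r))), mp H (ptHom (dfst C r)) θ = 0 →
    ∃ y : Fin r → H.obj (pt C), tan H C r y = θ

theorem TanInj.eq {H : MVF A} {r : ℕ} (h : TanInj H r) {C : Alg A} {y y' : Fin r → H.obj (pt C)}
    (hy : tan H C r y = tan H C r y') : y = y' := by
  have := h C (y - y') (by rw [tan_sub, hy, sub_self])
  exact sub_eq_zero.mp this

section Underline

theorem rTensor_sum' {R : Type*} [CommRing R] {N P M' : Type*} [AddCommGroup N] [Module R N]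
    [AddCommGroup P] [Module R P] [AddCommGroup M'] [Module R M'] {ι : Type*}
    (f : ι → N →ₗ[R] P) (s : Finset ι) :
    (∑ l ∈ s, f l).rTensor M' = ∑ l ∈ s, (f l).rTensor M' :=
  map_sum (LinearMap.rTensorHom M') f s

variable (M : ModuleCat.{u + 1} A) (C : Alg A) (r : ℕ)

theorem eps_smul_inl (l : Fin r) (y : (C : Type u) ⊗[A] M) :
    (eps C l • ofT M ((dinl C r).hom.toLinearMap.rTensor M y) :
      ((underline A).obj M).obj (pt (dn C r))) = ofT M ((iL A l).rTensor M y) := by
  rw [underline_smul]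
  congr 1
  induction y using TensorProduct.induction_on with
  | zero => simp
  | tmul c m =>
    rw [LinearMap.rTensor_tmul, LinearMap.rTensor_tmul, TensorProduct.smul_tmul', iL_apply]
    rfl
  | add x y hx hy => rw [map_add, smul_add, hx, hy, map_add]

theorem tan_underline (y : Fin r → ((underline A).obj M).obj (pt C)) :
    tan ((underline A).obj M) C r y =
      ofT M (∑ l, (iL A l).rTensor M (toT M (y l))) := by
  rw [tan]
  refine (Finset.sum_congr rfl (fun l _ => eps_smul_inl M C r l (toT M (y l)))).trans ?_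
  rfl

theorem tanInj_underline : TanInj ((underline A).obj M) r := by
  intro C y hy
  rw [tan_underline] at hy
  funext k
  have h1 := congrArg ((pL A k).rTensor M) (show (∑ l, (iL A l).rTensor M (toT M (y l))) = 0 from hy)
  rw [map_sum, map_zero] at h1
  simp_rw [← LinearMap.comp_apply, ← LinearMap.rTensor_comp, pL_iL] at h1
  rw [Finset.sum_eq_single k] at h1
  · rw [if_pos rfl, LinearMap.rTensor_id, LinearMap.id_apply] at h1
    exact h1
  · intro l _ hl
    rw [if_neg (Ne.symm hl), LinearMap.rTensor_zero, LinearMap.zero_apply]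
  · intro h
    exact absurd (Finset.mem_univ k) h

theorem tanSurj_underline : TanSurj ((underline A).obj M) r := by
  intro C θ hθ
  have h0 : (p0 A (C : Type u) r).rTensor M (toT M θ) = 0 := hθ
  refine ⟨fun l => ofT M ((pL A l).rTensor M (toT M θ)), ?_⟩
  rw [tan_underline]
  change ofT M _ = ofT M (toT M θ)
  congr 1
  have h1 := congrArg (fun f => LinearMap.rTensor M f (toT M θ)) (sum_i_p A (C := (C : Type u)) (r := r))
  simp only [LinearMap.rTensor_add, LinearMap.rTensor_id, LinearMap.id_apply, LinearMap.add_apply,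
    LinearMap.rTensor_comp, LinearMap.comp_apply, rTensor_sum', LinearMap.sum_apply] at h1
  rw [h0, map_zero, zero_add] at h1
  exact h1

end Underline

section Pres

variable {H : MVF A} (P : Pres H) (r : ℕ)

include P

theorem tanInj_of_pres : TanInj H r := by
  intro C y hy
  have h1 := congrArg (ap P.j (pt (dn C r))) hy
  rw [ap_tan, map_zero] at h1
  have h2 := tanInj_underline P.M r C _ h1
  funext l
  exact P.inj (pt C) ((congrFun h2 l).trans (map_zero _).symm)

theorem tanSurj_of_pres : TanSurj H r := by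
  intro C θ hθ
  have h1 : mp ((underline A).obj P.M) (ptHom (dfst C r)) (ap P.j _ θ) = 0 := by
    rw [← ap_mp, hθ, map_zero]
  obtain ⟨m, hm⟩ := tanSurj_underline P.M r C _ h1
  have h2 : tan ((underline A).obj P.N) C r
      (fun l => ap ((underline A).map P.φ) (pt C) (m l)) = 0 := by
    rw [← ap_tan, hm, P.zero_apply]
  have h3 := tanInj_underline P.N r C _ h2
  choose y hy using fun l => P.exact (pt C) (m l) (congrFun h3 l)
  refine ⟨y, P.inj _ ?_⟩
  rw [ap_tan, ← hm]
  congr 1
  funext l
  exact hy l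

end Pres

section Ext

variable (S : ShortComplex (MVF A)) (hS : S.ShortExact) (r : ℕ)

include hS

theorem tanInj_of_shortExact (h1 : TanInj S.X₁ r) (h3 : TanInj S.X₃ r) : TanInj S.X₂ r := by
  intro C y hy
  have e1 := congrArg (ap S.g (pt (dn C r))) hy
  rw [ap_tan, map_zero] at e1
  have e2 := h3 C _ e1
  choose x hx using fun l => exact_mid S hS (pt C) (y l) (congrFun e2 l)
  have e3 : tan S.X₁ C r x = 0 := by
    apply f_injective S hS (pt (dn C r))
    rw [ap_tan, map_zero, ← hy]
    congr 1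
    funext l
    exact hx l
  have e4 := h1 C x e3
  funext l
  rw [← hx l, congrFun e4 l]
  exact map_zero _

theorem tanSurj_of_shortExact (h1 : TanSurj S.X₁ r) (h3 : TanSurj S.X₃ r) : TanSurj S.X₂ r := by
  intro C θ hθ
  have e1 : mp S.X₃ (ptHom (dfst C r)) (ap S.g _ θ) = 0 := by
    rw [← ap_mp, hθ, map_zero]
  obtain ⟨z, hz⟩ := h3 C _ e1
  choose w hw using fun l => g_surjective S hS (pt C) (z l)
  have e2 : ap S.g (pt (dn C r)) (θ - tan S.X₂ C r w) = 0 := by
    rw [map_sub, ap_tan, ← hz, sub_eq_zero]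
    congr 1
    funext l
    exact (hw l).symm
  obtain ⟨μ, hμ⟩ := exact_mid S hS (pt (dn C r)) _ e2
  have e3 : mp S.X₁ (ptHom (dfst C r)) μ = 0 := by
    apply f_injective S hS (pt C)
    rw [ap_mp, hμ, map_sub, hθ, dfst_tan, sub_zero, map_zero]
  obtain ⟨x, hx⟩ := h1 C μ e3
  refine ⟨fun l => w l + ap S.f (pt C) (x l), ?_⟩
  have e4 : tan S.X₂ C r (fun l => w l + ap S.f (pt C) (x l)) =
      tan S.X₂ C r w + tan S.X₂ C r (fun l => ap S.f (pt C) (x l)) := tan_add S.X₂ C r _ _
  rw [e4, ← ap_tan, hx, hμ]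
  abel

end Ext

end Groth.Agent.Lib.Seat39.Tsz
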