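import Groth.Agent.Lib.Seat39ShfColim
import Groth.Agent.Lib.Seat39AdeqColim

/-!
# Seat39: `P ↦ F_{P,R}` preserves colimits; colimits of adequate modules on the big fppf site
-/
set_option autoImplicit false
universe u v v₁ u₁
open CategoryTheory Limits Opposite AlgebraicGeometry

namespace Groth.Agent.Lib.Seat39.ToMVFColim

open Adeq Groth.Agent.Lib.Seat39.MVF Groth.Agent.Lib.Seat39.EpiLoc

section Preserve

variable (K : Precoverage Scheme.{u}) [BigSite.OSh K] {S : Scheme.{u}} {R : CommRingCat.{u}}
  (a : Spec R ⟶ S)

/-- The value of `F_{P,R}` at `X`, as an abelian group, is the value of `P` at the corresponding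
object of the big site. -/
noncomputable def evalIso (X : (Alg R)ᵒᵖᵒᵖ) :
    toMVFPre K a ⋙ PresheafOfModules.evaluation (ringOf R) X ⋙
        forget₂ (ModuleCat _) AddCommGrpCat ≅
      PresheafOfModules.evaluation (BigSite.ORing K S).obj
          (op ((specOver a).obj (op X.unop.unop))) ⋙
        forget₂ (ModuleCat _) AddCommGrpCat :=
  NatIso.ofComponents (fun P => Iso.refl _) (by intros; rfl)

/-- `P ↦ F_{P,R}` preserves colimits. -/
noncomputable def isColimitMapCocone {J : Type (u + 1)} [SmallCategory J]
    (D' : J ⥤ PresheafOfModules.{u + 1} (BigSite.ORing K S).obj) (c : Cocone D')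
    (hc : IsColimit c) : IsColimit ((toMVFPre K a).mapCocone c) := by
  apply PresheafOfModules.evaluationJointlyReflectsColimits
  intro X
  apply isColimitOfReflects (forget₂ (ModuleCat _) AddCommGrpCat)
  have h2 : IsColimit ((PresheafOfModules.evaluation (BigSite.ORing K S).obj
      (op ((specOver a).obj (op X.unop.unop))) ⋙
        forget₂ (ModuleCat _) AddCommGrpCat).mapCocone c) := isColimitOfPreserves _ hc
  exact (IsColimit.mapCoconeEquiv (evalIso K a X).symm) h2

end Preserve

section General

variable {C : Type u₁} [Category.{v₁} C] {J₀ : GrothendieckTopology C} (R₀ : Sheaf J₀ RingCat.{u})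
  [HasSheafify J₀ AddCommGrpCat.{v}] [J₀.WEqualsLocallyBijective AddCommGrpCat.{v}]

/-- The colimit of a diagram of sheaves of modules is the sheafification of the colimit of the
underlying diagram of presheaves of modules. -/
noncomputable def colimitIso {J : Type*} [Category J] (D : J ⥤ SheafOfModules.{v} R₀)
    [HasColimit (D ⋙ G R₀)] [HasColimit D]
    [HasColimit ((D ⋙ G R₀) ⋙ PresheafOfModules.sheafification.{v} (𝟙 R₀.obj))] :
    (PresheafOfModules.sheafification (𝟙 R₀.obj)).obj (colimit (D ⋙ G R₀)) ≅ colimit D := by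
  let a := PresheafOfModules.sheafification.{v} (𝟙 R₀.obj)
  let adj := PresheafOfModules.sheafificationAdjunction.{v} (𝟙 R₀.obj)
  haveI : a.IsLeftAdjoint := adj.isLeftAdjoint
  haveI : PreservesColimit (D ⋙ G R₀) a := inferInstance
  exact preservesColimitIso a (D ⋙ G R₀) ≪≫
    HasColimit.isoOfNatIso (Functor.isoWhiskerLeft D (asIso adj.counit) ≪≫ Functor.rightUnitor D)

end General

section Fppf

/-- The colimit of a diagram of adequate modules on the big fppf site is adequate. -/
theorem adequateMod_colimit_fppf {S : Scheme.{u}} {J : Type (u + 1)} [SmallCategory J]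
    (D : J ⥤ BigSite.Mod Scheme.fppfPrecoverage S)
    (hD : ∀ j, adequateMod Scheme.fppfPrecoverage S (D.obj j)) :
    adequateMod Scheme.fppfPrecoverage S (colimit D) := by
  refine (adequateMod Scheme.fppfPrecoverage S).prop_of_iso
    (colimitIso (BigSite.ORing Scheme.fppfPrecoverage S) D) ?_
  refine Groth.Agent.Lib.Seat39.ShfAdeq.adequateMod_shf _ ?_
  intro R a
  have hc := isColimitMapCocone Scheme.fppfPrecoverage a
    (D ⋙ G (BigSite.ORing Scheme.fppfPrecoverage S)) _ (colimit.isColimit _)
  have h1 : adequate R (colimit ((D ⋙ G (BigSite.ORing Scheme.fppfPrecoverage S)) ⋙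
      toMVFPre Scheme.fppfPrecoverage a)) :=
    Groth.Agent.Lib.Seat39.AdeqF.adequate_colimit _
      (fun j => Groth.Agent.Lib.Seat39.ShfColim.adequate_of_adequateMod_fppf (D.obj j) (hD j) R a)
  exact (adequate R).prop_of_iso
    (IsColimit.coconePointUniqueUpToIso (colimit.isColimit _) hc) h1

end Fppf

end Groth.Agent.Lib.Seat39.ToMVFColim
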