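import Groth.Agent.Lib.Seat39Adeq
import Groth.Agent.Lib.Seat39AdeqCoker
import Mathlib.Algebra.TrivSqZeroExt.Basic

/-!
# Seat39: trivial square-zero extensions `C[ε_1..ε_r]` as objects of `Alg A`
-/
set_option autoImplicit false
universe u v
open CategoryTheory Limits Opposite TensorProduct

namespace Groth.Agent.Lib.Seat39.Tsz

open Adeq Groth.Agent.Lib.Seat39.MVF Groth.Agent.Lib.Seat39.AdeqF

section Alg

variable (A : Type u) [CommRing A] (C : Type u) [CommRing C] [Algebra A C] (r : ℕ)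

/-- `C[ε_1, …, ε_r]` with all products of the `ε` zero. -/
abbrev DT : Type u := TrivSqZeroExt C (Fin r → C)

variable {C r}

/-- `ε_l`. -/
def epsT (l : Fin r) : DT C r := TrivSqZeroExt.inr (Pi.single l 1)

variable (C r)

/-- `c ↦ c`. -/
def i0 : C →ₗ[A] DT C r := (TrivSqZeroExt.inlAlgHom A C (Fin r → C)).toLinearMap

/-- constant term. -/
def p0 : DT C r →ₗ[A] C := (TrivSqZeroExt.fstHom A C (Fin r → C)).toLinearMap

variable {C r}

/-- `c ↦ c ε_l`. -/
def iL (l : Fin r) : C →ₗ[A] DT C r :=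
  ((TrivSqZeroExt.inrHom C (Fin r → C)).restrictScalars A) ∘ₗ
    ((LinearMap.single C (fun _ => C) l).restrictScalars A)

/-- coefficient of `ε_l`. -/
def pL (l : Fin r) : DT C r →ₗ[A] C :=
  ((LinearMap.proj l : (Fin r → C) →ₗ[C] C).restrictScalars A) ∘ₗ
    ((TrivSqZeroExt.sndHom C (Fin r → C)).restrictScalars A)

theorem iL_apply (l : Fin r) (c : C) : iL A l c = epsT l * TrivSqZeroExt.inl c := by
  rw [epsT, TrivSqZeroExt.inr_mul_inl]
  change TrivSqZeroExt.inr (Pi.single l c : Fin r → C) = _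
  congr 1
  ext k
  by_cases h : k = l
  · subst h; simp
  · simp [Pi.single_apply, h]

theorem p0_i0 : p0 A C r ∘ₗ i0 A C r = LinearMap.id := by
  ext c; rfl

theorem p0_iL (l : Fin r) : p0 A C r ∘ₗ iL A l = 0 := by
  ext c; rfl

theorem pL_i0 (l : Fin r) : pL A l ∘ₗ i0 A C r = 0 := by
  ext c; rfl

theorem pL_iL (k l : Fin r) :
    pL A k ∘ₗ iL A l = if k = l then (LinearMap.id : C →ₗ[A] C) else 0 := by
  ext c
  change (Pi.single l c : Fin r → C) k = _
  by_cases h : k = l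
  · subst h; simp
  · simp [Pi.single_apply, h]

theorem sum_i_p : i0 A C r ∘ₗ p0 A C r + ∑ l, iL A l ∘ₗ pL A l = LinearMap.id := by
  apply LinearMap.ext
  intro x
  apply TrivSqZeroExt.ext
  · simp only [LinearMap.add_apply, LinearMap.comp_apply, LinearMap.sum_apply, LinearMap.id_apply,
      TrivSqZeroExt.fst_add, TrivSqZeroExt.fst_sum]
    change TrivSqZeroExt.fst x + ∑ l : Fin r, (0 : C) = _
    simp
  · simp only [LinearMap.add_apply, LinearMap.comp_apply, LinearMap.sum_apply, LinearMap.id_apply,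
      TrivSqZeroExt.snd_add, TrivSqZeroExt.snd_sum]
    change (0 : Fin r → C) + ∑ l : Fin r, (Pi.single l (TrivSqZeroExt.snd x l) : Fin r → C) = _
    rw [zero_add]
    ext k
    simp [Finset.sum_apply, Pi.single_apply]

/-- The linear map `v ↦ (Σ γ_l v_l) e_0`. -/
def combLin (γ : Fin r → C) : (Fin r → C) →ₗ[C] (Fin 1 → C) :=
  LinearMap.pi (fun _ => ∑ l, γ l • (LinearMap.proj l : (Fin r → C) →ₗ[C] C))

theorem combLin_single (γ : Fin r → C) (l : Fin r) (c : C) :
    combLin γ (Pi.single l c : Fin r → C) = (Pi.single 0 (γ l * c) : Fin 1 → C) := by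
  ext k
  have hk : k = 0 := Subsingleton.elim _ _
  subst hk
  simp [combLin, Pi.single_apply]

/-- The algebra map `ε_l ↦ γ_l ε_0`. -/
def combAlg (γ : Fin r → C) : DT C r →ₐ[A] DT C 1 :=
  (TrivSqZeroExt.map (combLin γ)).restrictScalars A

theorem combAlg_inl (γ : Fin r → C) (c : C) :
    combAlg A γ (TrivSqZeroExt.inl c) = TrivSqZeroExt.inl c :=
  TrivSqZeroExt.map_inl _ c

theorem combAlg_eps (γ : Fin r → C) (l : Fin r) :
    combAlg A γ (epsT l) = TrivSqZeroExt.inl (γ l) * epsT 0 := by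
  change TrivSqZeroExt.map (combLin γ) (TrivSqZeroExt.inr (Pi.single l 1)) = _
  rw [TrivSqZeroExt.map_inr, combLin_single, mul_one, epsT, TrivSqZeroExt.inl_mul_inr]
  congr 1
  ext k
  simp [Pi.single_apply]

theorem fst_combAlg (γ : Fin r → C) (x : DT C r) :
    TrivSqZeroExt.fst (combAlg A γ x) = TrivSqZeroExt.fst x :=
  TrivSqZeroExt.fst_map _ x

variable {C' : Type u} [CommRing C'] [Algebra A C']

/-- Functoriality of `C ↦ C[ε_1..ε_r]`. -/
def mapAlg (k : C →ₐ[A] C') (r : ℕ) : DT C r →ₐ[A] DT C' r :=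
  TrivSqZeroExt.lift ((TrivSqZeroExt.inlAlgHom A C' (Fin r → C')).comp k)
    (((TrivSqZeroExt.inrHom C' (Fin r → C')).restrictScalars A) ∘ₗ
      (LinearMap.pi (fun l => k.toLinearMap ∘ₗ
        ((LinearMap.proj l : (Fin r → C) →ₗ[C] C).restrictScalars A))))
    (by intro x y; exact TrivSqZeroExt.inr_mul_inr _ _ _)
    (by
      intro c v
      change TrivSqZeroExt.inr (fun l => k ((c • v) l)) = TrivSqZeroExt.inl (k c) *
        TrivSqZeroExt.inr (fun l => k (v l))
      rw [TrivSqZeroExt.inl_mul_inr]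
      congr 1
      ext l
      simp)
    (by
      intro c v
      change TrivSqZeroExt.inr (fun l => k ((MulOpposite.op c • v) l)) =
        TrivSqZeroExt.inr (fun l => k (v l)) * TrivSqZeroExt.inl (k c)
      rw [TrivSqZeroExt.inr_mul_inl]
      congr 1
      ext l
      simp [mul_comm])

theorem mapAlg_inl (k : C →ₐ[A] C') (c : C) :
    mapAlg A k r (TrivSqZeroExt.inl c) = TrivSqZeroExt.inl (k c) :=
  (TrivSqZeroExt.lift_apply_inl _ _ _ _ _ c).trans rfl

theorem mapAlg_eps (k : C →ₐ[A] C') (l : Fin r) : mapAlg A k r (epsT l) = epsT l := by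
  refine (TrivSqZeroExt.lift_apply_inr _ _ _ _ _ (Pi.single l 1 : Fin r → C)).trans ?_
  change TrivSqZeroExt.inr (fun l' => k ((Pi.single l 1 : Fin r → C) l')) = _
  rw [epsT]
  congr 1
  ext l'
  by_cases h : l' = l
  · subst h; simp
  · simp [Pi.single_apply, h]

theorem fst_mapAlg (k : C →ₐ[A] C') (x : DT C r) :
    TrivSqZeroExt.fst (mapAlg A k r x) = k (TrivSqZeroExt.fst x) := by
  refine (congrArg TrivSqZeroExt.fst (TrivSqZeroExt.lift_def _ _ _ _ _ x)).trans ?_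
  rw [TrivSqZeroExt.fst_add]
  change k (TrivSqZeroExt.fst x) + 0 = _
  rw [add_zero]

end Alg

section Obj

variable {A : Type u} [CommRing A]

/-- `C[ε_1..ε_r]` as an object of `Alg A`. -/
abbrev dn (C : Alg A) (r : ℕ) : Alg A := algOf A (DT (C : Type u) r)

/-- `C → C[ε]`. -/
noncomputable def dinl (C : Alg A) (r : ℕ) : C ⟶ dn C r :=
  CommAlgCat.ofHom (TrivSqZeroExt.inlAlgHom A (C : Type u) (Fin r → (C : Type u)))

/-- `C[ε] → C`. -/
noncomputable def dfst (C : Alg A) (r : ℕ) : dn C r ⟶ C :=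
  CommAlgCat.ofHom (TrivSqZeroExt.fstHom A (C : Type u) (Fin r → (C : Type u)))

/-- `ε_l ↦ γ_l ε`. -/
noncomputable def dcomb {C : Alg A} {r : ℕ} (γ : Fin r → (C : Type u)) : dn C r ⟶ dn C 1 :=
  CommAlgCat.ofHom (combAlg A γ)

/-- functoriality in `C`. -/
noncomputable def dmap {C C' : Alg A} (k : C ⟶ C') (r : ℕ) : dn C r ⟶ dn C' r :=
  CommAlgCat.ofHom (mapAlg A k.hom r)

/-- `ε_l` as an element of the algebra. -/
def eps (C : Alg A) {r : ℕ} (l : Fin r) : (dn C r : Type u) := epsT l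

theorem dinl_dfst (C : Alg A) (r : ℕ) : dinl C r ≫ dfst C r = 𝟙 C := by
  apply ConcreteCategory.hom_ext
  intro c
  rfl

theorem dinl_dcomb {C : Alg A} {r : ℕ} (γ : Fin r → (C : Type u)) :
    dinl C r ≫ dcomb γ = dinl C 1 := by
  apply ConcreteCategory.hom_ext
  intro c
  exact combAlg_inl A γ c

theorem dcomb_dfst {C : Alg A} {r : ℕ} (γ : Fin r → (C : Type u)) :
    dcomb γ ≫ dfst C 1 = dfst C r := by
  apply ConcreteCategory.hom_ext
  intro x
  exact fst_combAlg A γ x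

theorem dinl_dmap {C C' : Alg A} (k : C ⟶ C') (r : ℕ) : dinl C r ≫ dmap k r = k ≫ dinl C' r := by
  apply ConcreteCategory.hom_ext
  intro c
  exact mapAlg_inl A k.hom c

theorem dmap_dfst {C C' : Alg A} (k : C ⟶ C') (r : ℕ) : dmap k r ≫ dfst C' r = dfst C r ≫ k := by
  apply ConcreteCategory.hom_ext
  intro x
  exact fst_mapAlg A k.hom x

theorem dfst_eps (C : Alg A) {r : ℕ} (l : Fin r) : (dfst C r).hom (eps C l) = 0 := rfl

theorem dcomb_eps {C : Alg A} {r : ℕ} (γ : Fin r → (C : Type u)) (l : Fin r) :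
    (dcomb γ).hom (eps C l) = (dinl C 1).hom (γ l) * eps C 0 :=
  combAlg_eps A γ l

theorem dmap_eps {C C' : Alg A} (k : C ⟶ C') {r : ℕ} (l : Fin r) :
    (dmap k r).hom (eps C l) = eps C' l :=
  mapAlg_eps A k.hom l

end Obj

section Tan

variable {A : Type u} [CommRing A]

theorem mp_smul' (H : MVF A) {B B' : Alg A} (f : B ⟶ B') (b : B) (x : H.obj (pt B)) :
    mp H (ptHom f) (b • x) = f.hom b • mp H (ptHom f) x :=
  mp_smul H (ptHom f) b x

theorem mp_comp' (H : MVF A) {B B' B'' : Alg A} (f : B ⟶ B') (g : B' ⟶ B'') (x : H.obj (pt B)) :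
    mp H (ptHom g) (mp H (ptHom f) x) = mp H (ptHom (f ≫ g)) x :=
  (mp_comp H (ptHom f) (ptHom g) x).symm

theorem mp_id' (H : MVF A) (B : Alg A) (x : H.obj (pt B)) : mp H (ptHom (𝟙 B)) x = x :=
  mp_id H (pt B) x

/-- `(y_l) ↦ Σ ε_l · y_l`. -/
noncomputable def tan (H : MVF A) (C : Alg A) (r : ℕ) (y : Fin r → H.obj (pt C)) :
    H.obj (pt (dn C r)) :=
  ∑ l, eps C l • mp H (ptHom (dinl C r)) (y l)

theorem tan_add (H : MVF A) (C : Alg A) (r : ℕ) (y y' : Fin r → H.obj (pt C)) :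
    tan H C r (y + y') = tan H C r y + tan H C r y' := by
  simp only [tan, Pi.add_apply, map_add, smul_add, Finset.sum_add_distrib]

theorem tan_zero (H : MVF A) (C : Alg A) (r : ℕ) : tan H C r 0 = 0 := by
  simp only [tan, Pi.zero_apply, map_zero, smul_zero, Finset.sum_const_zero]

theorem tan_sub (H : MVF A) (C : Alg A) (r : ℕ) (y y' : Fin r → H.obj (pt C)) :
    tan H C r (y - y') = tan H C r y - tan H C r y' := by
  simp only [tan, Pi.sub_apply, map_sub, smul_sub, Finset.sum_sub_distrib]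

theorem dfst_tan (H : MVF A) (C : Alg A) (r : ℕ) (y : Fin r → H.obj (pt C)) :
    mp H (ptHom (dfst C r)) (tan H C r y) = 0 := by
  rw [tan, map_sum]
  apply Finset.sum_eq_zero
  intro l _
  rw [mp_smul', dfst_eps, zero_smul]

theorem dcomb_tan (H : MVF A) {C : Alg A} {r : ℕ} (γ : Fin r → (C : Type u))
    (y : Fin r → H.obj (pt C)) :
    mp H (ptHom (dcomb γ)) (tan H C r y) = tan H C 1 (fun _ => ∑ l, γ l • y l) := by
  rw [tan, map_sum, tan, Fin.sum_univ_one, map_sum, Finset.smul_sum]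
  apply Finset.sum_congr rfl
  intro l _
  rw [mp_smul', dcomb_eps, mp_comp', dinl_dcomb, mul_comm, mul_smul, ← mp_smul']

theorem dmap_tan (H : MVF A) {C C' : Alg A} (k : C ⟶ C') (r : ℕ) (y : Fin r → H.obj (pt C)) :
    mp H (ptHom (dmap k r)) (tan H C r y) = tan H C' r (fun l => mp H (ptHom k) (y l)) := by
  rw [tan, map_sum, tan]
  apply Finset.sum_congr rfl
  intro l _
  rw [mp_smul', dmap_eps, mp_comp', mp_comp', dinl_dmap]

theorem ap_tan {H H' : MVF A} (φ : H ⟶ H') (C : Alg A) (r : ℕ) (y : Fin r → H.obj (pt C)) :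
    ap φ (pt (dn C r)) (tan H C r y) = tan H' C r (fun l => ap φ (pt C) (y l)) := by
  rw [tan, map_sum, tan]
  apply Finset.sum_congr rfl
  intro l _
  rw [ap_smul, ap_mp]

/-- The part of an element of `H(C[ε])` killed by `ε ↦ 0`. -/
noncomputable def zp (H : MVF A) (C : Alg A) (r : ℕ) (θ : H.obj (pt (dn C r))) :
    H.obj (pt (dn C r)) :=
  θ - mp H (ptHom (dinl C r)) (mp H (ptHom (dfst C r)) θ)

theorem dfst_zp (H : MVF A) (C : Alg A) (r : ℕ) (θ : H.obj (pt (dn C r))) :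
    mp H (ptHom (dfst C r)) (zp H C r θ) = 0 := by
  rw [zp, map_sub, mp_comp', dinl_dfst, mp_id', sub_self]

theorem zp_of_dfst_eq_zero (H : MVF A) (C : Alg A) (r : ℕ) (θ : H.obj (pt (dn C r)))
    (h : mp H (ptHom (dfst C r)) θ = 0) : zp H C r θ = θ := by
  rw [zp, h, map_zero, sub_zero]

theorem zp_tan (H : MVF A) (C : Alg A) (r : ℕ) (y : Fin r → H.obj (pt C)) :
    zp H C r (tan H C r y) = tan H C r y :=
  zp_of_dfst_eq_zero H C r _ (dfst_tan H C r y)

theorem dcomb_zp (H : MVF A) {C : Alg A} {r : ℕ} (γ : Fin r → (C : Type u))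
    (θ : H.obj (pt (dn C r))) :
    mp H (ptHom (dcomb γ)) (zp H C r θ) = zp H C 1 (mp H (ptHom (dcomb γ)) θ) := by
  rw [zp, zp, map_sub, mp_comp', mp_comp', mp_comp', mp_comp', dinl_dcomb, ← Category.assoc,
    dcomb_dfst]

theorem dmap_zp (H : MVF A) {C C' : Alg A} (k : C ⟶ C') (r : ℕ) (θ : H.obj (pt (dn C r))) :
    mp H (ptHom (dmap k r)) (zp H C r θ) = zp H C' r (mp H (ptHom (dmap k r)) θ) := by
  rw [zp, zp, map_sub, mp_comp', mp_comp', mp_comp', mp_comp', dinl_dmap, ← Category.assoc,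
    ← Category.assoc (dmap k r), dmap_dfst]

theorem ap_zp {H H' : MVF A} (φ : H ⟶ H') (C : Alg A) (r : ℕ) (θ : H.obj (pt (dn C r))) :
    ap φ (pt (dn C r)) (zp H C r θ) = zp H' C r (ap φ (pt (dn C r)) θ) := by
  rw [zp, zp, map_sub, ap_mp, ap_mp]

end Tan

end Groth.Agent.Lib.Seat39.Tsz
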