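import Groth.Agent.Lib.Seat39AffAcyc
import Groth.Agent.Lib.Helper16BigZar

/-!
# Seat39: Zariski cohomology of the restriction to the small Zariski site agrees with fppf cohomology, for abelian sheaves on the
big fppf site whose higher `Ext` from the free sheaves on affine objects vanish (e.g. adequate modules)
-/

set_option autoImplicit false
universe u
open CategoryTheory Limits AlgebraicGeometry Opposite Abelian

namespace Groth.Agent.Lib.Seat39.ZarCompare

open Groth.Agent.Lib.Seat39.FreeSh Groth.Agent.Lib.Seat39.AffAcyc Groth.Agent.Lib.Seat39.ExtShift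
  Groth.Agent.Lib.Helper16.BigZar

variable (S : Scheme.{u}) [BigSite.ZarCont Scheme.fppfPrecoverage S]

local notation "JS" => QuotSh.J Scheme.fppfPrecoverage S

/-- restriction to the small Zariski site -/
noncomputable abbrev rz : BigSite.Ab Scheme.fppfPrecoverage S ⥤ EtZar.Ab S :=
  BigSite.resZar Scheme.fppfPrecoverage S

/-- the constant sheaf `ℤ` on the small Zariski site -/
noncomputable abbrev ZC : EtZar.Ab S :=
  (constantSheaf (Opens.grothendieckTopology S) AddCommGrpCat.{u + 1}).obj
    (AddCommGrpCat.of (ULift.{u + 1} ℤ))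

/-- the constant sheaf `ℤ` on the big fppf site -/
noncomputable abbrev ZD : BigSite.Ab Scheme.fppfPrecoverage S :=
  (constantSheaf JS AddCommGrpCat.{u + 1}).obj (AddCommGrpCat.of (ULift.{u + 1} ℤ))

variable {S}

section Exact

variable {C : ShortComplex (BigSite.Ab Scheme.fppfPrecoverage S)} (hC : C.ShortExact)
  (h₁ : IsAcyc C.X₁)

include hC h₁ in
theorem isLocallySurjective_resZar_g : Sheaf.IsLocallySurjective ((rz S).map C.g) := by
  constructor
  intro U s x hx
  obtain ⟨V, hV, hxV, hVU⟩ := TopologicalSpace.Opens.isBasis_iff_nbhd.mp S.isBasis_affineOpens hx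
  have : IsAffine ((BigSite.zarIncl S).obj V).left := hV
  obtain ⟨r, hr⟩ := lift_affine hC h₁ ((BigSite.zarIncl S).obj V)
    ((((rz S).obj C.X₃).obj.map (homOfLE hVU).op).hom s)
  exact ⟨V, homOfLE hVU, ⟨r, hr⟩, hxV⟩

include hC h₁ in
theorem epi_resZar_g : Epi ((rz S).map C.g) := by
  have := isLocallySurjective_resZar_g hC h₁
  exact Sheaf.epi_of_isLocallySurjective _

include hC h₁ in
/-- restriction to the small Zariski site keeps a short exact sequence with kernel in the class short exact -/
theorem shortExact_resZar : (C.map (rz S)).ShortExact := by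
  have hpf : PreservesFiniteLimits (rz S) := inferInstance
  have hm := hC.mono_f
  have h2 : (C.map (rz S)).Exact :=
    hC.exact.map_of_mono_of_preservesKernel (rz S) hm inferInstance
  have h3 : Mono (C.map (rz S)).f := by
    change Mono ((rz S).map C.f)
    infer_instance
  have h4 : Epi (C.map (rz S)).g := epi_resZar_g hC h₁
  exact ShortComplex.ShortExact.mk h2

end Exact

section Deg0

variable (S)

/-- the pullback of the constant sheaf `ℤ` is the constant sheaf `ℤ` -/
noncomputable def pullZ : (BigSite.piZarPull Scheme.fppfPrecoverage S).obj (ZC S) ≅ ZD S :=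
  (pullConstIso S Scheme.fppfPrecoverage).app (AddCommGrpCat.of (ULift.{u + 1} ℤ))

variable {S}

/-- morphisms from the constant sheaf `ℤ`: small Zariski site against big fppf site -/
noncomputable def e₀ (G : BigSite.Ab Scheme.fppfPrecoverage S) :
    (ZC S ⟶ (rz S).obj G) ≃+ (ZD S ⟶ G) :=
  have : (BigSite.piZarPull Scheme.fppfPrecoverage S).Additive :=
    (BigSite.piZarAdj Scheme.fppfPrecoverage S).left_adjoint_additive
  ((BigSite.piZarAdj Scheme.fppfPrecoverage S).homAddEquiv (ZC S) G).symm.trans
    { toFun := fun φ => (pullZ S).inv ≫ φ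
      invFun := fun ψ => (pullZ S).hom ≫ ψ
      left_inv := fun φ => by simp
      right_inv := fun ψ => by simp
      map_add' := fun φ φ' => Preadditive.comp_add _ _ _ _ _ _ }

theorem e₀_natural {G G' : BigSite.Ab Scheme.fppfPrecoverage S} (g : G ⟶ G')
    (φ : ZC S ⟶ (rz S).obj G) : e₀ G' (φ ≫ (rz S).map g) = e₀ G φ ≫ g := by
  change (pullZ S).inv ≫
      ((BigSite.piZarAdj Scheme.fppfPrecoverage S).homEquiv (ZC S) G').symm (φ ≫ (rz S).map g) =
    ((pullZ S).inv ≫ ((BigSite.piZarAdj Scheme.fppfPrecoverage S).homEquiv (ZC S) G).symm φ) ≫ g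
  rw [Adjunction.homEquiv_naturality_right_symm, Category.assoc]

end Deg0

section Main

/-- the comparison in positive degrees, by dimension shifting -/
theorem nonempty_ext_succ : ∀ (q : ℕ) (G : BigSite.Ab Scheme.fppfPrecoverage S), IsAcyc G →
    Nonempty (Ext.{u + 1} (ZC S) ((rz S).obj G) (q + 1) ≃+ Ext.{u + 1} (ZD S) G (q + 1)) := by
  intro q
  induction q with
  | zero =>
    intro G hG
    let C : ShortComplex (BigSite.Ab Scheme.fppfPrecoverage S) :=
      ShortComplex.mk (Injective.ι G) (cokernel.π (Injective.ι G)) (cokernel.condition _)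
    have hC : C.ShortExact := ShortComplex.ShortExact.mk (ShortComplex.exact_cokernel _)
    have hI : Injective C.X₂ := inferInstanceAs (Injective (Injective.under G))
    have hC' : (C.map (rz S)).ShortExact := shortExact_resZar hC hG
    have hI' : Injective ((rz S).obj C.X₂) := injective_resZar S Scheme.fppfPrecoverage C.X₂
    exact nonempty_ext_one hC' hC (ZC S) (ZD S)
      (fun x => @Ext.eq_zero_of_injective _ _ _ _ _ _ _ hI' x)
      (fun x => Ext.eq_zero_of_injective x)
      (e₀ C.X₂) (e₀ C.X₃) (fun φ => e₀_natural C.g φ)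
  | succ q ih =>
    intro G hG
    let C : ShortComplex (BigSite.Ab Scheme.fppfPrecoverage S) :=
      ShortComplex.mk (Injective.ι G) (cokernel.π (Injective.ι G)) (cokernel.condition _)
    have hC : C.ShortExact := ShortComplex.ShortExact.mk (ShortComplex.exact_cokernel _)
    have hI : Injective C.X₂ := inferInstanceAs (Injective (Injective.under G))
    have hC' : (C.map (rz S)).ShortExact := shortExact_resZar hC hG
    have hI' : Injective ((rz S).obj C.X₂) := injective_resZar S Scheme.fppfPrecoverage C.X₂
    have hQ : IsAcyc C.X₃ := affAcyc_cokernel hC hG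
    obtain ⟨a⟩ := nonempty_shift hC' (ZC S) (q + 1)
      (fun x => @Ext.eq_zero_of_injective _ _ _ _ _ _ _ hI' x)
      (fun x => @Ext.eq_zero_of_injective _ _ _ _ _ _ _ hI' x)
    obtain ⟨b⟩ := ih C.X₃ hQ
    obtain ⟨c⟩ := nonempty_shift hC (ZD S) (q + 1)
      (fun x => Ext.eq_zero_of_injective x) (fun x => Ext.eq_zero_of_injective x)
    exact ⟨a.symm.trans (b.trans c)⟩

/-- **Comparison.** Zariski cohomology of the restriction agrees with fppf cohomology. -/
theorem nonempty_ext (q : ℕ) (G : BigSite.Ab Scheme.fppfPrecoverage S) (hG : IsAcyc G) :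
    Nonempty (Ext.{u + 1} (ZC S) ((rz S).obj G) q ≃+ Ext.{u + 1} (ZD S) G q) := by
  cases q with
  | zero => exact ⟨Ext.addEquiv₀.trans ((e₀ G).trans Ext.addEquiv₀.symm)⟩
  | succ q => exact nonempty_ext_succ q G hG

end Main

end Groth.Agent.Lib.Seat39.ZarCompare
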