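import Mathlib

/-!
# Finite coproducts + filtered colimits ⇒ arbitrary coproducts are preserved (seat 3)

`preservesColimitsOfShape_discrete`: a functor preserving finite coproducts and colimits of shape
`Finset (Discrete α)` preserves coproducts indexed by `α`.
-/

set_option autoImplicit false
universe w v₁ v₂ u₁ u₂
open CategoryTheory CategoryTheory.Limits

namespace Groth.Agent.Lib.Seat3.CoprodFiltered

open CoproductsFromFiniteFiltered

variable {C : Type u₁} [Category.{v₁} C] {D : Type u₂} [Category.{v₂} D] {α : Type w}
  [HasFiniteCoproducts C] [HasColimitsOfShape (Finset (Discrete α)) C]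

set_option backward.isDefEq.respectTransparency false in
/-- the inclusion of a summand of a finite subcoproduct followed by the inclusion in the colimit is
the leg of the coproduct cocone -/
theorem ι_colimit_ι (K : Discrete α ⥤ C) (S : Finset (Discrete α)) (x : S) :
    Sigma.ι (fun y : S => K.obj y) x ≫ colimit.ι (liftToFinsetObj K) S =
      (liftToFinsetColimitCocone K).cocone.ι.app x.1 := by
  have hle : ({x.1} : Finset (Discrete α)) ≤ S := Finset.singleton_subset_iff.2 x.2
  have h0 : (liftToFinsetColimitCocone K).cocone.ι.app x.1 =
      Sigma.ι (fun y : ({x.1} : Finset (Discrete α)) => K.obj y) ⟨x.1, by simp⟩ ≫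
        colimit.ι (liftToFinsetObj K) {x.1} := rfl
  rw [h0, ← colimit.w (liftToFinsetObj K) (homOfLE hle), ← Category.assoc]
  congr 1
  simp [liftToFinsetObj]

variable (G : C ⥤ D) [PreservesFiniteCoproducts G]
  [PreservesColimitsOfShape (Finset (Discrete α)) G]

set_option backward.isDefEq.respectTransparency false in
theorem preservesColimit_discrete (K : Discrete α ⥤ C) : PreservesColimit K G := by
  apply preservesColimit_of_preserves_colimit_cocone (liftToFinsetColimitCocone K).isColimit
  let L := liftToFinsetObj K
  have hL : IsColimit (G.mapCocone (colimit.cocone L)) :=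
    isColimitOfPreserves G (colimit.isColimit L)
  have hS : ∀ S : Finset (Discrete α),
      IsColimit (G.mapCocone (colimit.cocone (Discrete.functor fun x : S => K.obj x))) :=
    fun S => isColimitOfPreserves G (colimit.isColimit _)
  -- the cocone on finite stages induced by a cocone on `K ⋙ G`
  let cS : ∀ (s : Cocone (K ⋙ G)) (S : Finset (Discrete α)),
      Cocone (Discrete.functor (fun x : S => K.obj x) ⋙ G) := fun s S =>
    { pt := s.pt
      ι := Discrete.natTrans fun x => s.ι.app x.as.1 }
  have hdS : ∀ (s : Cocone (K ⋙ G)) (S : Finset (Discrete α)) (x : S),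
      G.map (Sigma.ι (fun y : S => K.obj y) x) ≫ (hS S).desc (cS s S) = s.ι.app x.1 :=
    fun s S x => (hS S).fac (cS s S) ⟨x⟩
  let cL : ∀ (s : Cocone (K ⋙ G)), Cocone (L ⋙ G) := fun s =>
    { pt := s.pt
      ι :=
        { app := fun S => (hS S).desc (cS s S)
          naturality := by
            intro S S' h
            apply (hS S).hom_ext
            rintro ⟨x⟩
            have h1 : (G.mapCocone (colimit.cocone (Discrete.functor fun x : S => K.obj x))).ι.app ⟨x⟩ =
                G.map (Sigma.ι (fun y : S => K.obj y) x) := rfl
            rw [h1]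
            have h2 : Sigma.ι (fun y : S => K.obj y) x ≫ L.map h =
                Sigma.ι (fun y : S' => K.obj y) ⟨x.1, h.down.down x.2⟩ := by
              simp [L, liftToFinsetObj]
            simp only [Functor.comp_map, Functor.const_obj_obj, Functor.const_obj_map,
              Category.comp_id]
            rw [← Category.assoc, ← G.map_comp, h2, hdS s S' ⟨x.1, h.down.down x.2⟩, hdS s S x] } }
  refine
    { desc := fun s => hL.desc (cL s)
      fac := ?_
      uniq := ?_ }
  · intro s j
    have h1 : (G.mapCocone (liftToFinsetColimitCocone K).cocone).ι.app j =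
        G.map (Sigma.ι (fun y : ({j} : Finset (Discrete α)) => K.obj y) ⟨j, by simp⟩) ≫
          G.map (colimit.ι L {j}) := by
      rw [← G.map_comp]
      rfl
    rw [h1, Category.assoc]
    have h2 : G.map (colimit.ι L {j}) ≫ hL.desc (cL s) = (hS {j}).desc (cS s {j}) :=
      hL.fac (cL s) {j}
    rw [h2]
    exact hdS s {j} ⟨j, by simp⟩
  · intro s m hm
    apply hL.hom_ext
    intro S
    rw [hL.fac (cL s) S]
    apply (hS S).hom_ext
    rintro ⟨x⟩
    have h1 : (G.mapCocone (colimit.cocone (Discrete.functor fun x : S => K.obj x))).ι.app ⟨x⟩ =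
        G.map (Sigma.ι (fun y : S => K.obj y) x) := rfl
    rw [h1]
    have h3 : (cL s).ι.app S = (hS S).desc (cS s S) := rfl
    rw [h3, hdS s S x]
    have h2 : (G.mapCocone (colimit.cocone L)).ι.app S = G.map (colimit.ι L S) := rfl
    rw [h2, ← Category.assoc, ← G.map_comp, ι_colimit_ι K S x]
    exact hm x.1

theorem preservesColimitsOfShape_discrete : PreservesColimitsOfShape (Discrete α) G :=
  ⟨fun {K} => preservesColimit_discrete G K⟩

end Groth.Agent.Lib.Seat3.CoprodFiltered
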