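import Mathlib
import Groth.Agent.Lib.Helper3IndEt
import Groth.Agent.Lib.Helper3IndEtComp
import Groth.Agent.Lib.Helper3IndEtFlat
import Groth.Prelude.Def_ProEtW

set_option autoImplicit false

open CategoryTheory CategoryTheory.Limits TensorProduct

universe u

namespace Groth.Agent.Lib.Seat3.EtClosure

open Groth.Agent.Lib.Helper3.IndEt

/-- The coequalizer of two maps between étale algebras is étale. -/
theorem etale_quotient_of_equalizer {A E F : Type u} [CommRing A] [CommRing E] [CommRing F]
    [Algebra A E] [Algebra A F] [Algebra.Etale A E] [Algebra.Etale A F] (f g : E →ₐ[A] F)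
    (K : Ideal F) (hK : K.FG) (hfg : ∀ x, f x - g x ∈ K)
    (hK' : K ≤ Ideal.span (Set.range fun x => f x - g x)) : Algebra.Etale A (F ⧸ K) := by
  haveI : Algebra.FinitePresentation A (F ⧸ K) := Algebra.FinitePresentation.quotient hK
  haveI : Algebra.FormallyEtale A (F ⧸ K) := by
    rw [Algebra.FormallyEtale.iff_comp_bijective]
    intro B _ _ I hI
    constructor
    · intro h₁ h₂ h
      apply Ideal.Quotient.algHom_ext
      have h' : (Ideal.Quotient.mkₐ A I).comp (h₁.comp (Ideal.Quotient.mkₐ A K)) =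
          (Ideal.Quotient.mkₐ A I).comp (h₂.comp (Ideal.Quotient.mkₐ A K)) := by
        rw [← AlgHom.comp_assoc, ← AlgHom.comp_assoc]
        exact congrArg (fun t => t.comp (Ideal.Quotient.mkₐ A K)) h
      exact Algebra.FormallyUnramified.comp_injective I hI h'
    · intro hb
      obtain ⟨h, hh⟩ := Algebra.FormallySmooth.comp_surjective A F I hI
        (hb.comp (Ideal.Quotient.mkₐ A K))
      have h1 : h.comp f = h.comp g := by
        apply Algebra.FormallyUnramified.comp_injective I hI
        apply AlgHom.ext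
        intro x
        have e1 := congr($hh (f x))
        have e2 := congr($hh (g x))
        simp only [AlgHom.comp_apply] at e1 e2 ⊢
        rw [e1, e2]
        congr 1
        rw [← sub_eq_zero, ← map_sub]
        exact Ideal.Quotient.eq_zero_iff_mem.mpr (hfg x)
      have h2 : ∀ x ∈ K, h x = 0 := by
        intro x hx
        have hle : Ideal.span (Set.range fun x => f x - g x) ≤ RingHom.ker h.toRingHom := by
          rw [Ideal.span_le]
          rintro _ ⟨y, rfl⟩
          show h (f y - g y) = 0
          rw [map_sub, sub_eq_zero]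
          exact congr($h1 y)
        exact hle (hK' hx)
      refine ⟨Ideal.Quotient.liftₐ K h h2, ?_⟩
      apply Ideal.Quotient.algHom_ext
      apply AlgHom.ext
      intro x
      exact congr($hh x)
  exact {}

section

variable {A B : Type u} [CommRing A] [CommRing B] [Algebra A B]

/-- `Obj A B` is filtered for every `A`-algebra `B`. -/
theorem isFiltered' : IsFiltered (Obj A B) := by
  haveI : Nonempty (Obj A B) := by
    obtain ⟨j, -, -⟩ := Obj.exists_obj A (Algebra.ofId A B)
    exact ⟨j⟩
  haveI : IsFilteredOrEmpty (Obj A B) := by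
    refine ⟨fun j k => ?_, fun j k f g => ?_⟩
    · haveI := etale_tensor A j.E k.E
      obtain ⟨l, e, he⟩ := Obj.exists_obj A (E := j.E ⊗[A] k.E)
        (Algebra.TensorProduct.productMap j.φ k.φ)
      refine ⟨l, ⟨(e.symm : j.E ⊗[A] k.E →ₐ[A] l.E).comp Algebra.TensorProduct.includeLeft, ?_⟩,
        ⟨(e.symm : j.E ⊗[A] k.E →ₐ[A] l.E).comp Algebra.TensorProduct.includeRight, ?_⟩, trivial⟩
      · rw [← he]
        ext x
        simp
      · rw [← he]
        ext x
        simp
    · classical
      let K : Ideal k.E := Ideal.span (Set.range fun i : Fin j.n =>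
        f.1 (Ideal.Quotient.mk j.I (MvPolynomial.X i)) - g.1 (Ideal.Quotient.mk j.I (MvPolynomial.X i)))
      have hK : K.FG := Submodule.fg_span (Set.finite_range _)
      have hker : ∀ x ∈ K, k.φ x = 0 := by
        intro x hx
        have hle : K ≤ RingHom.ker k.φ.toRingHom := by
          rw [Ideal.span_le]
          rintro _ ⟨i, rfl⟩
          show k.φ _ = 0
          rw [map_sub, sub_eq_zero]
          have h1 := congr($(f.2) (Ideal.Quotient.mk j.I (MvPolynomial.X i)))
          have h2 := congr($(g.2) (Ideal.Quotient.mk j.I (MvPolynomial.X i)))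
          rw [AlgHom.comp_apply] at h1 h2
          rw [h1, h2]
        exact hle hx
      -- `f` and `g` agree modulo `K`
      have hfgK : ∀ x, f.1 x - g.1 x ∈ K := by
        intro x
        have heq : (Ideal.Quotient.mkₐ A K).comp f.1 = (Ideal.Quotient.mkₐ A K).comp g.1 := by
          apply Ideal.Quotient.algHom_ext
          apply MvPolynomial.algHom_ext
          intro i
          show Ideal.Quotient.mk K _ = Ideal.Quotient.mk K _
          rw [Ideal.Quotient.eq]
          exact Ideal.subset_span ⟨i, rfl⟩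
        have := congr($heq x)
        simp only [AlgHom.comp_apply] at this
        exact Ideal.Quotient.eq.mp this
      haveI : Algebra.Etale A (k.E ⧸ K) := by
        refine etale_quotient_of_equalizer f.1 g.1 K hK hfgK ?_
        rw [Ideal.span_le]
        rintro _ ⟨i, rfl⟩
        exact Ideal.subset_span ⟨_, rfl⟩
      obtain ⟨l, e, he⟩ := Obj.exists_obj A (E := k.E ⧸ K) (Ideal.Quotient.liftₐ K k.φ hker)
      refine ⟨l, ⟨(e.symm : (k.E ⧸ K) →ₐ[A] l.E).comp (Ideal.Quotient.mkₐ A K), ?_⟩,
        Subtype.ext ?_⟩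
      · rw [← he]
        apply AlgHom.ext
        intro x
        show Ideal.Quotient.liftₐ K k.φ hker (e (e.symm (Ideal.Quotient.mk K x))) = k.φ x
        rw [e.apply_symm_apply]
        rfl
      · rw [Obj.comp_val, Obj.comp_val]
        apply AlgHom.ext
        intro x
        show (e.symm : (k.E ⧸ K) →ₐ[A] l.E) (Ideal.Quotient.mk K (f.1 x)) =
          (e.symm : (k.E ⧸ K) →ₐ[A] l.E) (Ideal.Quotient.mk K (g.1 x))
        congr 1
        exact Ideal.Quotient.eq.mpr (hfgK x)
  exact {}

end

section closure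

variable (A W : Type u) [CommRing A] [CommRing W] [Algebra A W]

attribute [local instance] IsFiltered.isConnected

instance instIsFilteredObj : IsFiltered (Obj A W) := isFiltered'

/-- The diagram of all presented étale `A`-algebras with a map to `W`. -/
noncomputable def diag : Obj A W ⥤ Under (CommRingCat.of A) :=
  letI instR : ∀ j : Obj A W, Algebra (CommRingCat.of A) j.E :=
    fun j => inferInstanceAs (Algebra A j.E)
  { obj := fun j => CommRingCat.mkUnder (CommRingCat.of A) j.E
    map := fun {j k} g => AlgHom.toUnder (R := CommRingCat.of A) g.1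
    map_id := fun j => rfl
    map_comp := fun {j k l} f g => rfl }

/-- The étale closure of `A` in `W`. -/
noncomputable def Cl : Type u := ((colimit (diag A W)).right : CommRingCat.{u})

noncomputable instance : CommRing (Cl A W) :=
  inferInstanceAs (CommRing ((colimit (diag A W)).right : CommRingCat.{u}))

noncomputable instance : Algebra A (Cl A W) :=
  RingHom.toAlgebra (colimit (diag A W)).hom.hom

/-- The stage maps. -/
noncomputable def ι (j : Obj A W) : j.E →ₐ[A] Cl A W :=
  { toRingHom := (colimit.ι (diag A W) j).right.hom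
    commutes' := fun a => congr($(Under.w (colimit.ι (diag A W) j)).hom a) }

theorem ι_comp {j k : Obj A W} (g : j ⟶ k) : (ι A W k).comp g.1 = ι A W j := by
  apply AlgHom.ext
  intro x
  exact congr($(colimit.w (diag A W) g).right.hom x)

/-- The cocone with vertex `W`. -/
noncomputable def coconeW : Cocone (diag A W) :=
  letI : Algebra (CommRingCat.of A) W := inferInstanceAs (Algebra A W)
  letI instR : ∀ j : Obj A W, Algebra (CommRingCat.of A) j.E :=
    fun j => inferInstanceAs (Algebra A j.E)
  { pt := CommRingCat.mkUnder (CommRingCat.of A) W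
    ι :=
      { app := fun j => AlgHom.toUnder (R := CommRingCat.of A) j.φ
        naturality := fun j k g => by
          apply CommRingCat.mkUnder_ext
          intro x
          exact congr($(g.2) x) } }

/-- The canonical map to `W`. -/
noncomputable def σ : Cl A W →ₐ[A] W :=
  { toRingHom := (colimit.desc (diag A W) (coconeW A W)).right.hom
    commutes' := fun a => congr($(Under.w (colimit.desc (diag A W) (coconeW A W))).hom a) }

theorem σ_ι (j : Obj A W) : (σ A W).comp (ι A W j) = j.φ := by
  apply AlgHom.ext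
  intro x
  exact congr($(colimit.ι_desc (coconeW A W) j).right.hom x)

theorem isIndEtale : EtPBC.IsIndEtale A (Cl A W) := by
  refine ⟨Obj A W, inferInstance, inferInstance, diag A W, colimit.cocone _, colimit.isColimit _,
    fun j => ?_, ⟨?_⟩⟩
  · show @Algebra.Etale A j.E _ _ (RingHom.toAlgebra (algebraMap A j.E))
    convert (inferInstance : Algebra.Etale A j.E)
    exact Algebra.algebra_ext _ _ (fun r => rfl)
  · exact Iso.refl _

theorem exists_lift {E : Type u} [CommRing E] [Algebra A E] [Algebra.Etale A E] (s : E →ₐ[A] W) :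
    ∃ v : E →ₐ[A] Cl A W, (σ A W).comp v = s := by
  obtain ⟨j, e, he⟩ := Obj.exists_obj A s
  refine ⟨(ι A W j).comp (e.symm : E →ₐ[A] j.E), ?_⟩
  rw [← AlgHom.comp_assoc, σ_ι, ← he]
  apply AlgHom.ext
  intro x
  simp

theorem exists_factor {P : Type u} [CommRing P] [Algebra A P] [Algebra.FinitePresentation A P]
    (v : P →ₐ[A] Cl A W) : ∃ (j : Obj A W) (v' : P →ₐ[A] j.E), (ι A W j).comp v' = v := by
  letI : Algebra (CommRingCat.of A) P := inferInstanceAs (Algebra A P)
  let X : Under (CommRingCat.of A) := CommRingCat.mkUnder (CommRingCat.of A) P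
  haveI : IsFinitelyPresentable.{u} X := by
    apply CommRingCat.isFinitelyPresentable_under
    show (algebraMap A P).FinitePresentation
    rw [RingHom.finitePresentation_algebraMap]
    infer_instance
  let g : X ⟶ colimit (diag A W) :=
    Under.homMk (CommRingCat.ofHom v.toRingHom) (by
      ext a
      exact v.commutes a)
  obtain ⟨j, p, hp⟩ := IsFinitelyPresentable.exists_hom_of_isColimit (colimit.isColimit (diag A W)) g
  refine ⟨j,
    { toRingHom := p.right.hom
      commutes' := fun a => congr($(Under.w p).hom a) }, ?_⟩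
  apply AlgHom.ext
  intro x
  exact congr($(hp).right.hom x)

theorem ext_of_σ {E : Type u} [CommRing E] [Algebra A E] [Algebra.Etale A E]
    (v w : E →ₐ[A] Cl A W) (h : (σ A W).comp v = (σ A W).comp w) : v = w := by
  obtain ⟨j, v', hv⟩ := exists_factor A W v
  obtain ⟨j', w', hw⟩ := exists_factor A W w
  let k := IsFiltered.max j j'
  let v'' : E →ₐ[A] k.E := (IsFiltered.leftToMax j j').1.comp v'
  let w'' : E →ₐ[A] k.E := (IsFiltered.rightToMax j j').1.comp w'
  have hv'' : (ι A W k).comp v'' = v := by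
    rw [← AlgHom.comp_assoc, ι_comp, hv]
  have hw'' : (ι A W k).comp w'' = w := by
    rw [← AlgHom.comp_assoc, ι_comp, hw]
  obtain ⟨m, e, he⟩ := Obj.exists_obj A ((σ A W).comp v)
  have hkφ : k.φ = (σ A W).comp (ι A W k) := (σ_ι A W k).symm
  let fm : m ⟶ k := ⟨v''.comp (e : m.E →ₐ[A] E), by
    rw [hkφ, ← he, AlgHom.comp_assoc, ← AlgHom.comp_assoc (ι A W k), hv'', AlgHom.comp_assoc]⟩
  let gm : m ⟶ k := ⟨w''.comp (e : m.E →ₐ[A] E), by
    rw [hkφ, ← he, AlgHom.comp_assoc, ← AlgHom.comp_assoc (ι A W k), hw'', h, AlgHom.comp_assoc]⟩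
  let c := IsFiltered.coeqHom fm gm
  have hc : fm ≫ c = gm ≫ c := IsFiltered.coeq_condition fm gm
  have hc' : c.1.comp v'' = c.1.comp w'' := by
    apply AlgHom.ext
    intro x
    have := congr($(congrArg Subtype.val hc) (e.symm x))
    simp only [Obj.comp_val, AlgHom.comp_apply, fm, gm] at this
    simpa using this
  rw [← hv'', ← hw'', ← ι_comp A W c, AlgHom.comp_assoc, AlgHom.comp_assoc, hc']

end closure

/-- A nontrivial finite type algebra over an algebraically closed field has a point. -/
theorem exists_algHom_of_finiteType (Ω E : Type*) [Field Ω] [IsAlgClosed Ω] [CommRing E]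
    [Algebra Ω E] [Algebra.FiniteType Ω E] [Nontrivial E] : Nonempty (E →ₐ[Ω] Ω) := by
  obtain ⟨m, hm⟩ := Ideal.exists_maximal E
  letI := Ideal.Quotient.field m
  haveI : Algebra.FiniteType Ω (E ⧸ m) :=
    Algebra.FiniteType.of_surjective (Ideal.Quotient.mkₐ Ω m) Ideal.Quotient.mk_surjective
  haveI := finite_of_finite_type_of_isJacobsonRing Ω (E ⧸ m)
  have hb := IsAlgClosed.algebraMap_bijective_of_isIntegral (k := Ω) (K := E ⧸ m)
  let e : Ω ≃ₐ[Ω] (E ⧸ m) := AlgEquiv.ofBijective (Algebra.ofId Ω (E ⧸ m)) hb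
  exact ⟨(e.symm : (E ⧸ m) →ₐ[Ω] Ω).comp (Ideal.Quotient.mkₐ Ω m)⟩

/-- Points of a ring with values in an algebraically closed field lift along faithfully flat
finite type maps. -/
theorem exists_point_of_faithfullyFlat {C D Ω : Type*} [CommRing C] [CommRing D] [Field Ω]
    [IsAlgClosed Ω] [Algebra C D] [Module.FaithfullyFlat C D] [Algebra.FiniteType C D]
    (φ : C →+* Ω) : ∃ τ : D →+* Ω, τ.comp (algebraMap C D) = φ := by
  letI := φ.toAlgebra
  haveI : Nontrivial (Ω ⊗[C] D) := Module.FaithfullyFlat.rTensor_nontrivial C D Ω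
  obtain ⟨pt⟩ := exists_algHom_of_finiteType Ω (Ω ⊗[C] D)
  refine ⟨pt.toRingHom.comp (Algebra.TensorProduct.includeRight : D →ₐ[C] Ω ⊗[C] D).toRingHom, ?_⟩
  ext c
  show pt ((1 : Ω) ⊗ₜ[C] (algebraMap C D c)) = φ c
  rw [Algebra.algebraMap_eq_smul_one, ← TensorProduct.smul_tmul, ← Algebra.algebraMap_eq_smul_one]
  have : ((algebraMap C Ω c) ⊗ₜ[C] (1 : D) : Ω ⊗[C] D) = algebraMap Ω (Ω ⊗[C] D) (φ c) := rfl
  rw [this, pt.commutes]
  rfl

section

variable (A : Type u) [CommRing A]

/-- algebraic closure of the residue field at `p` -/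
abbrev Om (p : PrimeSpectrum A) : Type u := AlgebraicClosure p.asIdeal.ResidueField

/-- product of all the algebraic closures of the residue fields -/
abbrev OmPi : Type u := ∀ p : PrimeSpectrum A, Om A p

/-- the étale closure of `A` in `OmPi A` -/
abbrev ClA : Type u := Cl A (OmPi A)

/-- the canonical geometric point of `ClA A` over `p` -/
noncomputable def σp (p : PrimeSpectrum A) : ClA A →ₐ[A] Om A p :=
  (Pi.evalAlgHom A (Om A) p).comp (σ A (OmPi A))

theorem flat_ClA : Module.Flat A (ClA A) :=
  flat_of_factor' (factor_of_isIndEtale (isIndEtale A (OmPi A)))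

theorem faithfullyFlat_ClA : Module.FaithfullyFlat A (ClA A) := by
  haveI := flat_ClA A
  apply Module.FaithfullyFlat.of_comap_surjective
  intro p
  refine ⟨⟨RingHom.ker (σp A p).toRingHom, RingHom.ker_isPrime _⟩, ?_⟩
  apply PrimeSpectrum.ext
  show Ideal.comap (algebraMap A (ClA A)) (RingHom.ker (σp A p).toRingHom) = p.asIdeal
  ext a
  rw [Ideal.mem_comap, RingHom.mem_ker]
  show (σp A p) (algebraMap A (ClA A) a) = 0 ↔ _
  rw [AlgHom.commutes, IsScalarTower.algebraMap_apply A p.asIdeal.ResidueField (Om A p),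
    map_eq_zero_iff _ (algebraMap p.asIdeal.ResidueField (Om A p)).injective,
    ← RingHom.mem_ker, Ideal.ker_algebraMap_residueField]

set_option maxHeartbeats 1000000 in
theorem hasEtaleRetractions_ClA : ProEtW.HasEtaleRetractions (ClA A) := by
  intro D _ _ hff het
  obtain ⟨B₁, _, _, _, _, _, E₁, _, _, _, ⟨θ⟩⟩ :=
    exists_descent_etale (factor_of_isIndEtale (isIndEtale A (OmPi A))) D
  letI : Algebra A E₁ := ((algebraMap B₁ E₁).comp (algebraMap A B₁)).toAlgebra
  haveI : IsScalarTower A B₁ E₁ := IsScalarTower.of_algebraMap_eq (fun _ => rfl)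
  haveI : Algebra.Etale A E₁ := Algebra.Etale.comp A B₁ E₁
  -- the map `E₁ → D`
  let k : E₁ →+* D :=
    (θ : ClA A ⊗[B₁] E₁ →+* D).comp
      (Algebra.TensorProduct.includeRight : E₁ →ₐ[B₁] ClA A ⊗[B₁] E₁).toRingHom
  have hk : ∀ b : B₁, k (algebraMap B₁ E₁ b) = algebraMap (ClA A) D (algebraMap B₁ (ClA A) b) := by
    intro b
    show θ ((1 : ClA A) ⊗ₜ[B₁] (algebraMap B₁ E₁ b)) = _
    rw [Algebra.algebraMap_eq_smul_one, ← TensorProduct.smul_tmul,
      ← Algebra.algebraMap_eq_smul_one]
    have : ((algebraMap B₁ (ClA A) b) ⊗ₜ[B₁] (1 : E₁) : ClA A ⊗[B₁] E₁) =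
      algebraMap (ClA A) (ClA A ⊗[B₁] E₁) (algebraMap B₁ (ClA A) b) := rfl
    rw [this, θ.commutes]
  -- points of `D`
  have hpt : ∀ p : PrimeSpectrum A, ∃ τ : D →+* Om A p,
      τ.comp (algebraMap (ClA A) D) = (σp A p).toRingHom := fun p =>
    exists_point_of_faithfullyFlat (σp A p).toRingHom
  choose τ hτ using hpt
  let s' : E₁ →ₐ[A] OmPi A := AlgHom.pi (fun p =>
    { toRingHom := (τ p).comp k
      commutes' := fun a => by
        show τ p (k (algebraMap B₁ E₁ (algebraMap A B₁ a))) = _
        rw [hk]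
        have := congr($(hτ p) (algebraMap B₁ (ClA A) (algebraMap A B₁ a)))
        rw [RingHom.comp_apply] at this
        rw [this, ← IsScalarTower.algebraMap_apply A B₁ (ClA A)]
        exact (σp A p).commutes a })
  obtain ⟨v, hv⟩ := exists_lift A (OmPi A) s'
  have hvB : v.comp (IsScalarTower.toAlgHom A B₁ E₁) = IsScalarTower.toAlgHom A B₁ (ClA A) := by
    apply ext_of_σ A (OmPi A)
    rw [← AlgHom.comp_assoc, hv]
    apply AlgHom.ext
    intro b
    funext p
    show τ p (k (algebraMap B₁ E₁ b)) = (σ A (OmPi A)) (algebraMap B₁ (ClA A) b) p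
    rw [hk]
    have := congr($(hτ p) (algebraMap B₁ (ClA A) b))
    rw [RingHom.comp_apply] at this
    rw [this]
    rfl
  let v' : E₁ →ₐ[B₁] ClA A :=
    { toRingHom := v.toRingHom
      commutes' := fun b => congr($hvB b) }
  let ρ : ClA A ⊗[B₁] E₁ →ₐ[ClA A] ClA A :=
    Algebra.TensorProduct.lift (AlgHom.id (ClA A) (ClA A)) v' (fun _ _ => Commute.all _ _)
  exact ⟨ρ.comp (θ.symm : D →ₐ[ClA A] ClA A ⊗[B₁] E₁)⟩

end

end Groth.Agent.Lib.Seat3.EtClosure
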