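import Mathlib
import Groth.Agent.Lib.Seat3EtClosure
import Groth.Agent.Lib.Seat3EtaleLift

set_option autoImplicit false

open TensorProduct

universe u

namespace Groth.Agent.Lib.Seat3.EtClosureQuot

open Groth.Agent.Lib.Helper3.IndEt Groth.Agent.Lib.Seat3.EtClosure Groth.Agent.Lib.Seat3.EtaleLift

section

variable (A : Type u) [CommRing A] (I : Ideal A) (Cb : Type u) [CommRing Cb] [Algebra (A ⧸ I) Cb]
  [Algebra A Cb] [IsScalarTower A (A ⧸ I) Cb]

theorem σ_mem (x : Cl A Cb) (hx : x ∈ I.map (algebraMap A (Cl A Cb))) : σ A Cb x = 0 := by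
  have hle : I.map (algebraMap A (Cl A Cb)) ≤ RingHom.ker (σ A Cb).toRingHom := by
    rw [Ideal.map_le_iff_le_comap]
    intro a ha
    rw [Ideal.mem_comap, RingHom.mem_ker]
    show σ A Cb (algebraMap A _ a) = 0
    rw [AlgHom.commutes, IsScalarTower.algebraMap_apply A (A ⧸ I) Cb]
    show algebraMap (A ⧸ I) Cb (Ideal.Quotient.mk I a) = 0
    rw [Ideal.Quotient.eq_zero_iff_mem.mpr ha, map_zero]
  exact hle hx

/-- the comparison map `C/IC → Cb` -/
noncomputable def σbar : (Cl A Cb ⧸ I.map (algebraMap A (Cl A Cb))) →ₐ[A ⧸ I] Cb :=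
  { toRingHom := Ideal.Quotient.lift _ (σ A Cb).toRingHom (σ_mem A I Cb)
    commutes' := fun r => by
      obtain ⟨a, rfl⟩ := Ideal.Quotient.mk_surjective r
      show Ideal.Quotient.lift _ (σ A Cb).toRingHom (σ_mem A I Cb)
        (Ideal.Quotient.mk _ (algebraMap A (Cl A Cb) a)) = _
      rw [Ideal.Quotient.lift_mk]
      show σ A Cb (algebraMap A _ a) = _
      rw [AlgHom.commutes, IsScalarTower.algebraMap_apply A (A ⧸ I) Cb]
      rfl }

theorem σbar_mk (x : Cl A Cb) : σbar A I Cb (Ideal.Quotient.mk _ x) = σ A Cb x := rfl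

/-- surjectivity -/
theorem σ_surjective (h : EtPBC.IsIndEtale (A ⧸ I) Cb) : Function.Surjective (σ A Cb) := by
  intro x
  obtain ⟨Bb, _, _, _, v, w, hvw⟩ :=
    factor_of_isIndEtale h (Polynomial (A ⧸ I)) (Polynomial.aeval x)
  have hx : w (v Polynomial.X) = x := by
    have := congr($hvw Polynomial.X)
    rw [AlgHom.comp_apply] at this
    rw [this, Polynomial.aeval_X]
  obtain ⟨D, _, _, π', hDet, hπ'surj, hπ'comp, -⟩ :=
    exists_etale_lift (A := A) (Abar := A ⧸ I) (C := Bb) (Ideal.Quotient.mk I)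
      Ideal.Quotient.mk_surjective
  let s : D →ₐ[A] Cb :=
    { toRingHom := w.toRingHom.comp π'
      commutes' := fun a => by
        show w (π' (algebraMap A D a)) = _
        have := congr($hπ'comp a)
        rw [RingHom.comp_apply, RingHom.comp_apply] at this
        rw [this, w.commutes, IsScalarTower.algebraMap_apply A (A ⧸ I) Cb]
        rfl }
  obtain ⟨u, hu⟩ := exists_lift A Cb s
  obtain ⟨d, hd⟩ := hπ'surj (v Polynomial.X)
  refine ⟨u d, ?_⟩
  have := congr($hu d)
  rw [AlgHom.comp_apply] at this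
  rw [this]
  show w (π' d) = x
  rw [hd, hx]

/-- reduction of `E` modulo `I` -/
abbrev Eb (E : Type u) [CommRing E] [Algebra A E] : Type u := E ⧸ I.map (algebraMap A E)

/-- the ideal generated by the class of `y` -/
abbrev Ky (E : Type u) [CommRing E] [Algebra A E] (y : E) : Ideal (Eb A I E) :=
  Ideal.span {Ideal.Quotient.mk (I.map (algebraMap A E)) y}

set_option maxHeartbeats 1000000 in
/-- killing an element of the kernel modulo `I` at a later étale stage -/
theorem exists_kill (h : EtPBC.IsIndEtale (A ⧸ I) Cb) (E : Type u) [CommRing E] [Algebra A E]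
    [Algebra.Etale A E] (φ : E →ₐ[A] Cb) (y : E) (hφy : φ y = 0) :
    ∃ (E'' : Type u) (_ : CommRing E'') (_ : Algebra A E'') (_ : Algebra.Etale A E'')
      (g : E →ₐ[A] E'') (φ'' : E'' →ₐ[A] Cb), φ''.comp g = φ ∧ g y ∈ I.map (algebraMap A E'') := by
  haveI : Algebra.Etale (A ⧸ I) (Eb A I E) :=
    Algebra.Etale.of_equiv (Algebra.TensorProduct.quotIdealMapEquivQuotTensor E I).symm
  have hφIE : ∀ x ∈ I.map (algebraMap A E), φ x = 0 := by
    intro x hx
    have hle : I.map (algebraMap A E) ≤ RingHom.ker φ.toRingHom := by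
      rw [Ideal.map_le_iff_le_comap]
      intro a ha
      rw [Ideal.mem_comap, RingHom.mem_ker]
      show φ (algebraMap A _ a) = 0
      rw [AlgHom.commutes, IsScalarTower.algebraMap_apply A (A ⧸ I) Cb]
      show algebraMap (A ⧸ I) Cb (Ideal.Quotient.mk I a) = 0
      rw [Ideal.Quotient.eq_zero_iff_mem.mpr ha, map_zero]
    exact hle hx
  let φb : Eb A I E →ₐ[A ⧸ I] Cb :=
    { toRingHom := Ideal.Quotient.lift _ φ.toRingHom hφIE
      commutes' := fun r => by
        obtain ⟨a, rfl⟩ := Ideal.Quotient.mk_surjective r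
        show Ideal.Quotient.lift _ φ.toRingHom hφIE
          (Ideal.Quotient.mk _ (algebraMap A E a)) = _
        rw [Ideal.Quotient.lift_mk]
        show φ (algebraMap A _ a) = _
        rw [AlgHom.commutes, IsScalarTower.algebraMap_apply A (A ⧸ I) Cb]
        rfl }
  have hφb : ∀ e : E, φb (Ideal.Quotient.mk _ e) = φ e := fun e => rfl
  -- kill `y`
  haveI : Algebra.FinitePresentation (A ⧸ I) (Eb A I E ⧸ Ky A I E y) :=
    Algebra.FinitePresentation.quotient ⟨{Ideal.Quotient.mk _ y}, by simp⟩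
  have hK : ∀ x ∈ Ky A I E y, φb x = 0 := by
    intro x hx
    obtain ⟨z, rfl⟩ := Ideal.mem_span_singleton'.mp hx
    rw [map_mul, hφb, hφy, mul_zero]
  let ψ : (Eb A I E ⧸ Ky A I E y) →ₐ[A ⧸ I] Cb := Ideal.Quotient.liftₐ (Ky A I E y) φb hK
  obtain ⟨Bb, _, _, _, fb, wb, hfw⟩ := factor_of_isIndEtale h (Eb A I E ⧸ Ky A I E y) ψ
  -- `Bb` as an étale `Eb`-algebra
  let gb : Eb A I E →ₐ[A ⧸ I] Bb := fb.comp (Ideal.Quotient.mkₐ (A ⧸ I) (Ky A I E y))
  letI : Algebra (Eb A I E) Bb := gb.toRingHom.toAlgebra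
  haveI : IsScalarTower (A ⧸ I) (Eb A I E) Bb :=
    IsScalarTower.of_algebraMap_eq (fun r => (gb.commutes r).symm)
  haveI : Algebra.Etale (Eb A I E) Bb :=
    Algebra.Etale.of_restrictScalars (R := A ⧸ I) (A := Eb A I E) (B := Bb)
  obtain ⟨E'', _, _, π'', hEt, hπsurj, hπcomp, hπker⟩ :=
    exists_etale_lift (A := E) (Abar := Eb A I E) (C := Bb) (Ideal.Quotient.mk _)
      Ideal.Quotient.mk_surjective
  letI : Algebra A E'' := ((algebraMap E E'').comp (algebraMap A E)).toAlgebra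
  haveI : IsScalarTower A E E'' := IsScalarTower.of_algebraMap_eq (fun _ => rfl)
  haveI : Algebra.Etale A E'' := Algebra.Etale.comp A E E''
  have hπ : ∀ e : E, π'' (algebraMap E E'' e) =
      fb (Ideal.Quotient.mk (Ky A I E y) (Ideal.Quotient.mk _ e)) := by
    intro e
    have := congr($hπcomp e)
    rw [RingHom.comp_apply, RingHom.comp_apply] at this
    exact this
  have hwf : ∀ e : E, wb (fb (Ideal.Quotient.mk (Ky A I E y) (Ideal.Quotient.mk _ e))) = φ e := by
    intro e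
    have h1 := congr($hfw (Ideal.Quotient.mk (Ky A I E y) (Ideal.Quotient.mk _ e)))
    rw [AlgHom.comp_apply] at h1
    rw [h1]
    rfl
  let φ'' : E'' →ₐ[A] Cb :=
    { toRingHom := wb.toRingHom.comp π''
      commutes' := fun a => by
        show wb (π'' (algebraMap E E'' (algebraMap A E a))) = _
        rw [hπ, hwf, AlgHom.commutes] }
  refine ⟨E'', inferInstance, inferInstance, inferInstance, IsScalarTower.toAlgHom A E E'', φ'',
    ?_, ?_⟩
  · apply AlgHom.ext
    intro e
    show wb (π'' (algebraMap E E'' e)) = _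
    rw [hπ, hwf]
  · have h0 : π'' (algebraMap E E'' y) = 0 := by
      rw [hπ]
      have : Ideal.Quotient.mk (Ky A I E y) (Ideal.Quotient.mk _ y) = 0 :=
        Ideal.Quotient.eq_zero_iff_mem.mpr (Ideal.subset_span rfl)
      rw [this, map_zero]
    have h1 : algebraMap E E'' y ∈ RingHom.ker π'' := h0
    rw [hπker, Ideal.mk_ker, Ideal.map_map] at h1
    exact h1

/-- the kernel of `σ` is `I · Cl` -/
theorem mem_of_σ_eq_zero (h : EtPBC.IsIndEtale (A ⧸ I) Cb) (c : Cl A Cb) (hc : σ A Cb c = 0) :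
    c ∈ I.map (algebraMap A (Cl A Cb)) := by
  -- a stage
  obtain ⟨j, v', hv'⟩ := exists_factor A Cb (P := Polynomial A) (Polynomial.aeval c)
  have hy : ι A Cb j (v' Polynomial.X) = c := by
    have := congr($hv' Polynomial.X)
    rw [AlgHom.comp_apply] at this
    rw [this, Polynomial.aeval_X]
  have hφy : j.φ (v' Polynomial.X) = 0 := by
    have := congr($(σ_ι A Cb j) (v' Polynomial.X))
    rw [AlgHom.comp_apply] at this
    rw [← this, hy, hc]
  obtain ⟨E'', _, _, _, g₀, φ'', hφ'', hyI⟩ := exists_kill A I Cb h j.E j.φ (v' Polynomial.X) hφy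
  -- the new stage
  obtain ⟨l, e, he⟩ := Obj.exists_obj A φ''
  let g : j ⟶ l := ⟨(e.symm : E'' →ₐ[A] l.E).comp g₀, by
    rw [← he, ← hφ'']
    apply AlgHom.ext
    intro x
    show φ'' (e (e.symm (g₀ x))) = φ'' (g₀ x)
    rw [e.apply_symm_apply]⟩
  have hcl : c = ι A Cb l (e.symm (g₀ (v' Polynomial.X))) := by
    rw [← hy, ← ι_comp A Cb g]
    rfl
  rw [hcl]
  have hmap : ∀ {X Y : Type u} [CommRing X] [CommRing Y] [Algebra A X] [Algebra A Y]
      (f : X →ₐ[A] Y) (x : X), x ∈ I.map (algebraMap A X) → f x ∈ I.map (algebraMap A Y) := by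
    intro X Y _ _ _ _ f x hx
    have h1 : f x ∈ (I.map (algebraMap A X)).map f.toRingHom := Ideal.mem_map_of_mem _ hx
    rw [Ideal.map_map] at h1
    have h2 : f.toRingHom.comp (algebraMap A X) = algebraMap A Y := f.comp_algebraMap
    rw [h2] at h1
    exact h1
  exact hmap (ι A Cb l) _ (hmap (e.symm : E'' →ₐ[A] l.E) _ hyI)

/-- **S0755**: the étale closure of `A` in an ind-étale `A/I`-algebra lifts it. -/
theorem nonempty_algEquiv (h : EtPBC.IsIndEtale (A ⧸ I) Cb) :
    Nonempty ((Cl A Cb ⧸ I.map (algebraMap A (Cl A Cb))) ≃ₐ[A ⧸ I] Cb) := by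
  refine ⟨AlgEquiv.ofBijective (σbar A I Cb) ⟨?_, ?_⟩⟩
  · rw [injective_iff_map_eq_zero]
    intro x hx
    obtain ⟨c, rfl⟩ := Ideal.Quotient.mk_surjective x
    rw [σbar_mk] at hx
    exact Ideal.Quotient.eq_zero_iff_mem.mpr (mem_of_σ_eq_zero A I Cb h c hx)
  · intro x
    obtain ⟨c, hc⟩ := σ_surjective A I Cb h x
    exact ⟨Ideal.Quotient.mk _ c, hc⟩

end

end Groth.Agent.Lib.Seat3.EtClosureQuot
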