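import Mathlib
import Groth.Prelude.Def_Pi1
import Groth.Agent.Lib.Seat94LocIntegral
import Groth.Agent.Lib.Helper4EtNormalSch

/-!
# Étale schemes over a normal integral scheme: components (seat 85)

* `isOpen_of_mem_irreducibleComponents`: in a space where irreducible components are pairwise
  disjoint and locally finite, every irreducible component is open.
* `exists_integral_decomposition_of_isOpen`: a scheme with domain stalks whose irreducible
  components are open is the disjoint union of integral open subschemes.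
* `finite_components_meeting`: for a flat locally quasi-finite morphism to an irreducible scheme,
  an affine open of the source lying over an affine open of the target meets finitely many
  irreducible components.
* `map_genericPoint_of_flat`, `isIso_stalkMap_genericPoint_of_etale`: an étale morphism from an
  integral scheme to an integral scheme with separably closed function field is birational.
-/

set_option autoImplicit false
set_option linter.style.haveILetI false
universe u
open CategoryTheory CategoryTheory.Limits AlgebraicGeometry TopologicalSpace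

namespace Groth.Agent.Lib.Seat85.EtSepClosed

section Topology

variable {T : Type*} [TopologicalSpace T]

/-- Irreducible components are open when they are pairwise disjoint and locally finite. -/
theorem isOpen_of_mem_irreducibleComponents
    (huniq : ∀ Z₁ ∈ irreducibleComponents T, ∀ Z₂ ∈ irreducibleComponents T, ∀ x : T,
      x ∈ Z₁ → x ∈ Z₂ → Z₁ = Z₂)
    (hlf : ∀ u : T, ∃ W : Set T, IsOpen W ∧ u ∈ W ∧
      {Z | Z ∈ irreducibleComponents T ∧ (Z ∩ W).Nonempty}.Finite)
    (Z : Set T) (hZ : Z ∈ irreducibleComponents T) : IsOpen Z := by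
  rw [isOpen_iff_forall_mem_open]
  intro u hu
  obtain ⟨W, hWo, huW, hfin⟩ := hlf u
  set S : Set (Set T) := {Z' | Z' ∈ irreducibleComponents T ∧ (Z' ∩ W).Nonempty} with hS
  have hTc : IsClosed (⋃₀ (S \ {Z})) := by
    rw [Set.sUnion_eq_biUnion]
    exact (hfin.subset Set.sdiff_subset).isClosed_biUnion fun Z' hZ' =>
      isClosed_of_mem_irreducibleComponents Z' hZ'.1.1
  refine ⟨W ∩ (⋃₀ (S \ {Z}))ᶜ, ?_, hWo.inter hTc.isOpen_compl, huW, ?_⟩
  · rintro w ⟨hwW, hwT⟩
    have hmem : irreducibleComponent w ∈ S :=
      ⟨irreducibleComponent_mem_irreducibleComponents w, ⟨w, mem_irreducibleComponent, hwW⟩⟩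
    by_cases h : irreducibleComponent w = Z
    · exact h ▸ mem_irreducibleComponent
    · exact absurd ⟨irreducibleComponent w, ⟨hmem, h⟩, mem_irreducibleComponent⟩ hwT
  · rintro ⟨Z', ⟨hZ'S, hne⟩, huZ'⟩
    exact hne (huniq Z' hZ'S.1 Z hZ u huZ' hu)

end Topology

section Decomposition

/-- A scheme whose stalks are domains and whose irreducible components are open is the disjoint
union of integral open subschemes (indexed by its irreducible components). -/
theorem exists_integral_decomposition_of_isOpen (X : Scheme.{u})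
    (hX : ∀ x : X, IsDomain (X.presheaf.stalk x))
    (hopen : ∀ Z ∈ irreducibleComponents X, IsOpen Z) :
    ∃ (ι : Type u) (U : ι → X.Opens), (∀ i, IsIntegral (U i)) ∧
      (⨆ i, U i = ⊤) ∧ Pairwise (Function.onFun Disjoint U) := by
  have huniq : ∀ Z₁ ∈ irreducibleComponents X, ∀ Z₂ ∈ irreducibleComponents X, ∀ x : X,
      x ∈ Z₁ → x ∈ Z₂ → Z₁ = Z₂ := fun Z₁ h₁ Z₂ h₂ x hx₁ hx₂ => by
    have := hX x
    exact Groth.Agent.Lib.Seat94.LocIntegral.eq_of_mem_irreducibleComponents_of_isDomain_stalk
      X x h₁ h₂ hx₁ hx₂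
  have : ∀ x : X, _root_.IsReduced (X.presheaf.stalk x) := fun x => by
    have := hX x
    infer_instance
  have : IsReduced X := isReduced_of_isReduced_stalk X
  refine ⟨↥(irreducibleComponents X), fun Z => ⟨Z.1, hopen Z.1 Z.2⟩, ?_, ?_, ?_⟩
  · intro Z
    change IsIntegral (Scheme.Opens.toScheme (⟨Z.1, hopen Z.1 Z.2⟩ : X.Opens))
    have : IrreducibleSpace ↥(Scheme.Opens.toScheme (⟨Z.1, hopen Z.1 Z.2⟩ : X.Opens)) :=
      Subtype.irreducibleSpace Z.2.1
    exact isIntegral_of_irreducibleSpace_of_isReduced _
  · rw [eq_top_iff]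
    intro x _
    exact Opens.mem_iSup.mpr ⟨⟨irreducibleComponent x,
      irreducibleComponent_mem_irreducibleComponents x⟩, mem_irreducibleComponent⟩
  · intro Z Z' hne
    rw [Function.onFun, disjoint_iff]
    ext x
    simp only [Opens.coe_inf, Opens.coe_mk, Set.mem_inter_iff, Opens.coe_bot,
      Set.mem_empty_iff_false, iff_false, not_and]
    intro h1 h2
    exact hne (Subtype.ext (huniq Z.1 Z.2 Z'.1 Z'.2 x h1 h2))

end Decomposition

section Flat

/-- A flat morphism to an irreducible scheme maps maximal points to the generic point. -/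
theorem map_eq_genericPoint_of_flat {U X : Scheme.{u}} [IrreducibleSpace X] (g : U ⟶ X) [Flat g]
    (ξ : U) (hξ : ∀ ξ' : U, ξ' ⤳ ξ → ξ' = ξ) : g ξ = genericPoint X := by
  have hgen : genericPoint X ⤳ g ξ := (genericPoint_spec X).specializes trivial
  obtain ⟨ξ', hξ', hgξ'⟩ := Flat.generalizingMap g hgen
  rw [← hgξ', hξ ξ' hξ']

/-- For a flat locally quasi-finite morphism to an irreducible scheme, an affine open of the
source lying over an affine open of the target meets only finitely many irreducible components. -/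
theorem finite_components_meeting {U X : Scheme.{u}} [IrreducibleSpace X] (g : U ⟶ X) [Flat g]
    [LocallyQuasiFinite g] (X₀ : X.Opens) (hX₀ : IsAffineOpen X₀) (W : U.Opens)
    (hW : IsAffineOpen W) (e : W ≤ g ⁻¹ᵁ X₀) :
    {Z | Z ∈ irreducibleComponents U ∧ (Z ∩ (W : Set U)).Nonempty}.Finite := by
  by_cases hne : (W : Set U).Nonempty
  swap
  · refine Set.Finite.subset Set.finite_empty ?_
    rintro Z ⟨-, w, -, hw⟩
    exact hne ⟨w, hw⟩
  obtain ⟨w₀, hw₀⟩ := hne
  have hη : genericPoint X ∈ X₀ :=
    ((genericPoint_spec X).mem_open_set_iff X₀.isOpen).mpr ⟨g w₀, Set.mem_univ _, e hw₀⟩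
  have : IsAffine W.toScheme := hW
  have : IsAffine X₀.toScheme := hX₀
  let y : ↥(X₀.toScheme) := ⟨genericPoint X, hη⟩
  have hfin := Scheme.Hom.finite_preimage_singleton (g.resLE X₀ W e) y
  have : Nonempty ↥(W.toScheme) := ⟨⟨w₀, hw₀⟩⟩
  -- map components meeting `W` to their generic points
  have key : ∀ Z ∈ {Z | Z ∈ irreducibleComponents U ∧ (Z ∩ (W : Set U)).Nonempty},
      ∃ w : ↥(W.toScheme), w ∈ (g.resLE X₀ W e) ⁻¹' {y} ∧
        closure {w.1} = Z := by
    rintro Z ⟨hZ, hZW⟩
    have hZcl : IsClosed Z := isClosed_of_mem_irreducibleComponents Z hZ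
    have hgen := hZ.1.isGenericPoint_genericPoint hZcl
    set ξ := hZ.1.genericPoint with hξdef
    have hξW : ξ ∈ W := by
      obtain ⟨w, hwZ, hwW⟩ := hZW
      exact (hgen.mem_open_set_iff W.isOpen).mpr ⟨w, hwZ, hwW⟩
    have hmax : ∀ ξ' : U, ξ' ⤳ ξ → ξ' = ξ := by
      intro ξ' h
      have h1 : closure {ξ} ⊆ closure {ξ'} := h.closure_subset
      have h2 : closure {ξ'} = Z :=
        (hZ.2 isIrreducible_singleton.closure (hgen.def ▸ h1)).antisymm' (hgen.def ▸ h1) |>.symm
      have h3 : closure ({ξ'} : Set U) = closure {ξ} := h2.trans hgen.def.symm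
      exact (inseparable_iff_closure_eq.mpr h3).eq
    refine ⟨⟨ξ, hξW⟩, ?_, hgen.def⟩
    change (g.resLE X₀ W e) ⟨ξ, hξW⟩ = y
    apply Subtype.ext
    rw [Scheme.Hom.coe_resLE_apply]
    exact map_eq_genericPoint_of_flat g ξ hmax
  choose! φ hφ1 hφ2 using key
  refine Set.Finite.of_finite_image (f := φ) (hfin.subset ?_) ?_
  · rintro _ ⟨Z, hZ, rfl⟩
    exact hφ1 Z hZ
  · intro Z₁ h₁ Z₂ h₂ h
    rw [← hφ2 Z₁ h₁, ← hφ2 Z₂ h₂, h]

end Flat

section Birational

/-- An étale morphism of integral schemes, the target having separably closed function field,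
is birational. -/
theorem isIso_stalkMap_genericPoint_of_etale {V X : Scheme.{u}} [IsIntegral V] [IsIntegral X]
    [IsSepClosed X.functionField] (g : V ⟶ X) [Etale g] :
    g (genericPoint V) = genericPoint X ∧ IsIso (g.stalkMap (genericPoint V)) := by
  have hgen : g (genericPoint V) = genericPoint X := by
    refine map_eq_genericPoint_of_flat g _ fun ξ' h => ?_
    exact (h.antisymm (genericPoint_specializes ξ')).eq
  refine ⟨hgen, ?_⟩
  let c : X.presheaf.stalk (genericPoint X) ⟶ X.presheaf.stalk (g (genericPoint V)) :=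
    (X.presheaf.stalkCongr (.of_eq hgen.symm)).hom
  have hc : IsIso c := by dsimp only [c]; infer_instance
  let ψ : X.functionField ⟶ V.functionField := c ≫ g.stalkMap (genericPoint V)
  have h1 : ψ.hom.FormallyUnramified :=
    (RingHom.FormallyUnramified.respectsIso.cancel_left_isIso c _).mpr
      (FormallyUnramified.stalkMap g _)
  have h2 : ψ.hom.EssFiniteType :=
    (RingHom.EssFiniteType.respectsIso.cancel_left_isIso c _).mpr
      (LocallyOfFiniteType.stalkMap g _)
  algebraize [ψ.hom]
  have hsep : Algebra.IsSeparable X.functionField V.functionField :=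
    Algebra.FormallyUnramified.isSeparable _ _
  have hsurj : Function.Surjective ψ.hom :=
    IsSepClosed.algebraMap_surjective X.functionField V.functionField
  have hinj : Function.Injective ψ.hom := RingHom.injective _
  have hψ : IsIso ψ :=
    (ConcreteCategory.isIso_iff_bijective ψ).mpr ⟨hinj, hsurj⟩
  exact IsIso.of_isIso_comp_left c (g.stalkMap (genericPoint V))


end Birational

end Groth.Agent.Lib.Seat85.EtSepClosed
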