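import Mathlib
import Groth.Prelude.Def_EtBase
import Groth.Prelude.Def_EtCore
import Groth.Prelude.Def_Pi1
import Groth.Agent.Lib.Seat3EtConstLC
import Groth.Agent.Lib.Seat85EtSepClosed
import Groth.Agent.Lib.Helper9EtPull

/-!
# Constant étale sheaves on normal schemes (seat 3)

* `comap_bijective_of_dense`: on a locally irreducible space, locally constant functions extend
  uniquely from a dense open subspace.
* `exists_preirreducible_nhd`: étale schemes over an integral normal scheme are locally irreducible.
* `isIso_unit_const_open` (= S0627): on an integral normal scheme the constant sheaf is the direct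
  image of its restriction to any nonempty open.
-/

set_option autoImplicit false
universe u
open CategoryTheory CategoryTheory.Limits AlgebraicGeometry Opposite

namespace Groth.Agent.Lib.Seat3.EtConstNormal

section Topology

/-- On a space in which every point has a preirreducible open neighbourhood, locally constant
functions extend uniquely from a dense open subspace. -/
theorem comap_bijective_of_dense {V D : Type*} [TopologicalSpace V] [TopologicalSpace D]
    (ι : C(D, V)) (hι : Topology.IsOpenEmbedding ι) (hd : DenseRange ι)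
    (hV : ∀ v : V, ∃ N : Set V, IsOpen N ∧ v ∈ N ∧ IsPreirreducible N) (M : Type*) :
    Function.Bijective (LocallyConstant.comap ι : LocallyConstant V M → LocallyConstant D M) := by
  classical
  constructor
  · intro s s' h
    letI : TopologicalSpace M := ⊥
    haveI : DiscreteTopology M := ⟨rfl⟩
    have h1 : (s : V → M) = s' := by
      refine hd.equalizer s.continuous s'.continuous ?_
      funext d
      exact congrArg (fun t : LocallyConstant D M => t d) h
    exact LocallyConstant.ext (congrFun h1)
  · intro t
    choose N hNo hvN hNirr using hV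
    have hne : ∀ v, ∃ d : D, ι d ∈ N v := by
      intro v
      obtain ⟨_, hy, ⟨d, rfl⟩⟩ := hd.inter_open_nonempty (N v) (hNo v) ⟨v, hvN v⟩
      exact ⟨d, hy⟩
    choose dv hdv using hne
    have hconst : ∀ v (d : D), ι d ∈ N v → t d = t (dv v) := by
      intro v d hd'
      have hpre : IsPreconnected (ι ⁻¹' N v) := ((hNirr v).preimage hι).isPreconnected
      exact t.isLocallyConstant.apply_eq_of_isPreconnected hpre hd' (hdv v)
    have hlc : IsLocallyConstant (fun v => t (dv v)) := by
      rw [IsLocallyConstant.iff_exists_open]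
      intro v
      refine ⟨N v, hNo v, hvN v, ?_⟩
      intro v' hv'
      obtain ⟨_, hy, ⟨d, rfl⟩⟩ := hd.inter_open_nonempty (N v ∩ N v') ((hNo v).inter (hNo v'))
        ⟨v', hv', hvN v'⟩
      show t (dv v') = t (dv v)
      rw [← hconst v d hy.1, ← hconst v' d hy.2]
    refine ⟨⟨fun v => t (dv v), hlc⟩, ?_⟩
    ext d
    show t (dv (ι d)) = t d
    exact (hconst (ι d) d (hvN (ι d))).symm

end Topology

section Geometry

/-- An étale scheme over an integral normal scheme is locally irreducible. -/
theorem exists_preirreducible_nhd {V X : Scheme.{u}} [IsIntegral X]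
    (hN : ∀ x : X, IsIntegrallyClosed (X.presheaf.stalk x)) (g : V ⟶ X) [Etale g] (v : V) :
    ∃ N : Set V, IsOpen N ∧ v ∈ N ∧ IsPreirreducible N := by
  have hXn : Pi1.IsNormalScheme X := fun x => ⟨inferInstance, hN x⟩
  have hVn := Groth.Agent.Lib.Helper4.EtNormalSch.isNormalScheme_of_etale hXn g
  have hlqf : LocallyQuasiFinite g := by
    constructor
    intro U₀ hU₀ V₀ hV₀ e
    have h1 := g.etale_appLE hU₀ hV₀ e
    algebraize [(g.appLE U₀ V₀ e).hom]
    have : Algebra.Etale Γ(X, U₀) Γ(V, V₀) := h1
    exact RingHom.quasiFinite_algebraMap.mpr inferInstance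
  have huniq : ∀ Z₁ ∈ irreducibleComponents V, ∀ Z₂ ∈ irreducibleComponents V, ∀ x : V,
      x ∈ Z₁ → x ∈ Z₂ → Z₁ = Z₂ := fun Z₁ h₁ Z₂ h₂ x hx₁ hx₂ => by
    have := (hVn x).1
    exact Groth.Agent.Lib.Seat94.LocIntegral.eq_of_mem_irreducibleComponents_of_isDomain_stalk
      V x h₁ h₂ hx₁ hx₂
  have hopen : ∀ Z ∈ irreducibleComponents V, IsOpen Z := by
    intro Z hZ
    refine Groth.Agent.Lib.Seat85.EtSepClosed.isOpen_of_mem_irreducibleComponents huniq ?_ Z hZ
    intro u
    obtain ⟨_, ⟨X₀, hX₀, rfl⟩, huX₀, -⟩ := X.isBasis_affineOpens.exists_subset_of_mem_open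
      (Set.mem_univ (g u)) isOpen_univ
    obtain ⟨_, ⟨W, hW, rfl⟩, huW, hWX₀⟩ := V.isBasis_affineOpens.exists_subset_of_mem_open
      (show u ∈ (g ⁻¹ᵁ X₀ : Set V) from huX₀) (g ⁻¹ᵁ X₀).isOpen
    exact ⟨W, W.isOpen, huW,
      Groth.Agent.Lib.Seat85.EtSepClosed.finite_components_meeting g X₀ hX₀ W hW hWX₀⟩
  refine ⟨irreducibleComponent v, hopen _ (irreducibleComponent_mem_irreducibleComponents v),
    mem_irreducibleComponent, isIrreducible_irreducibleComponent.isPreirreducible⟩

end Geometry

section Unit

open Groth.Agent.Lib.Seat3.EtConstLC Groth.Agent.Lib.Helper9.EtPull Groth.Agent.S0651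

set_option backward.isDefEq.respectTransparency.types false in
/-- **S0627.** On an integral normal scheme, the constant sheaf is the direct image of its
restriction to any nonempty open. -/
theorem isIso_unit_const_open (X : Scheme.{u}) [IsIntegral X]
    (hN : ∀ x : X, IsIntegrallyClosed (X.presheaf.stalk x)) (U : X.Opens)
    (hU : (U : Set X).Nonempty) (M : Type) [AddCommGroup M] :
    IsIso ((EtCoh.pullPushAdj U.ι).unit.app (EtCoh.const X M)) := by
  have h1 := unit_rho U.ι (EtCoh.const X M)
  suffices h2 : IsIso ((restrPushAdj U.ι).unit.app (EtCoh.const X M)) by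
    have h3 : (EtCoh.pullPushAdj U.ι).unit.app (EtCoh.const X M) =
        (restrPushAdj U.ι).unit.app (EtCoh.const X M) ≫
          inv ((EtCoh.push U.ι).map ((rho U.ι).hom.app (EtCoh.const X M))) := by
      rw [← h1, Category.assoc, IsIso.hom_inv_id, Category.comp_id]
    rw [h3]
    infer_instance
  have h4 : IsIso ((sheafToPresheaf _ _).map ((restrPushAdj U.ι).unit.app (EtCoh.const X M))) := by
    apply (config := { allowSynthFailures := true }) NatIso.isIso_of_isIso_app
    intro P
    obtain ⟨P⟩ := P
    show IsIso (((restrPushAdj U.ι).unit.app (EtCoh.const X M)).hom.app (op P))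
    rw [restrPushAdj_unit_app_hom_app]
    rw [ConcreteCategory.isIso_iff_bijective]
    refine (const_map_bijective_iff X M ((compBcAdj U.ι).counit.app P)).mpr ?_
    let c := (compBcAdj U.ι).counit.app P
    have hopen : IsOpenImmersion c.left := by
      change IsOpenImmersion (pullback.fst (Z := X) P.hom U.ι)
      infer_instance
    have hr : Set.range c.left = (show P.left ⟶ X from P.hom) ⁻¹' Set.range U.ι :=
      Scheme.Pullback.range_fst (f := (show P.left ⟶ X from P.hom)) (g := U.ι)
    have hpet : Etale (show P.left ⟶ X from P.hom) := inferInstanceAs (Etale P.hom)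
    have hdense : DenseRange c.left := by
      rw [DenseRange, dense_iff_inter_open]
      intro O hO hOne
      have hO' : IsOpen ((show P.left ⟶ X from P.hom) '' O) :=
        (show P.left ⟶ X from P.hom).isOpenMap O hO
      have hOne' : ((show P.left ⟶ X from P.hom) '' O).Nonempty := hOne.image _
      obtain ⟨x, ⟨o, ho, rfl⟩, hxU⟩ :=
        nonempty_preirreducible_inter hO' U.isOpen hOne' hU
      refine ⟨o, ho, ?_⟩
      rw [hr, Scheme.Opens.range_ι]
      exact hxU
    exact comap_bijective_of_dense ⟨c.left, c.left.continuous⟩ c.left.isOpenEmbedding hdense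
      (exists_preirreducible_nhd hN (show P.left ⟶ X from P.hom)) M
  exact isIso_of_reflects_iso _ (sheafToPresheaf _ _)

end Unit

end Groth.Agent.Lib.Seat3.EtConstNormal
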