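import Mathlib
import Groth.Prelude.Def_EtBase
import Groth.Prelude.Def_EtCore
import Groth.Agent.Lib.Seat3EtConstLC
import Groth.Agent.Lib.Seat3EtConstNormal
import Groth.Agent.Lib.Helper9EtPull

/-!
# The constant étale sheaf on a normal integral scheme and its generic point (seat 3)

* `comap_bijective_of_denseRange`, `subsingleton_inter_of_isDiscrete`: topology.
* `locallyQuasiFinite_of_etale`, `comap_bijective_generic`: for `V` étale over an integral normal
  scheme, locally constant functions on `V` and on its generic fibre agree.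
* `unit_constIso`: on global constants `constIso` is the inclusion of constants.
* `rhoLC g`: pullback of locally constant functions as a map of sheaves
  `lcSheaf X M ⟶ g_* lcSheaf T M`; `unit_pullConst_eq`: it is the adjoint of `EtCore.pullConst g M`
  (for ANY morphism `g`).
* `isIso_unit_const_genericPoint` (= S0626).
-/

set_option autoImplicit false
universe u
open CategoryTheory CategoryTheory.Limits AlgebraicGeometry Opposite

namespace Groth.Agent.Lib.Seat3.EtConstGeneric

section Topology

/-- Locally constant functions extend uniquely along a continuous map with dense range, provided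
every point of the target has an open neighbourhood with preconnected preimage. -/
theorem comap_bijective_of_denseRange {V D : Type*} [TopologicalSpace V] [TopologicalSpace D]
    (ι : C(D, V)) (hd : DenseRange ι)
    (hV : ∀ v : V, ∃ N : Set V, IsOpen N ∧ v ∈ N ∧ IsPreconnected (ι ⁻¹' N)) (M : Type*) :
    Function.Bijective (LocallyConstant.comap ι : LocallyConstant V M → LocallyConstant D M) := by
  classical
  constructor
  · intro s s' h
    letI : TopologicalSpace M := ⊥
    haveI : DiscreteTopology M := ⟨rfl⟩
    have h1 : (s : V → M) = s' := by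
      refine hd.equalizer s.continuous s'.continuous ?_
      funext d
      exact congrArg (fun t : LocallyConstant D M => t d) h
    exact LocallyConstant.ext (congrFun h1)
  · intro t
    choose N hNo hvN hNpre using hV
    have hne : ∀ v, ∃ d : D, ι d ∈ N v := by
      intro v
      obtain ⟨_, hy, ⟨d, rfl⟩⟩ := hd.inter_open_nonempty (N v) (hNo v) ⟨v, hvN v⟩
      exact ⟨d, hy⟩
    choose dv hdv using hne
    have hconst : ∀ v (d : D), ι d ∈ N v → t d = t (dv v) := by
      intro v d hd'
      exact t.isLocallyConstant.apply_eq_of_isPreconnected (hNpre v) hd' (hdv v)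
    have hlc : IsLocallyConstant (fun v => t (dv v)) := by
      rw [IsLocallyConstant.iff_exists_open]
      intro v
      refine ⟨N v, hNo v, hvN v, ?_⟩
      intro v' hv'
      obtain ⟨_, hy, ⟨d, rfl⟩⟩ := hd.inter_open_nonempty (N v ∩ N v') ((hNo v).inter (hNo v'))
        ⟨v', hv', hvN v'⟩
      show t (dv v') = t (dv v)
      rw [← hconst v d hy.1, ← hconst v' d hy.2]
    refine ⟨⟨fun v => t (dv v), hlc⟩, ?_⟩
    ext d
    show t (dv (ι d)) = t d
    exact (hconst (ι d) d (hvN (ι d))).symm

/-- A preirreducible open set meets a dense discrete subset in at most one point. -/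
theorem subsingleton_inter_of_isDiscrete {V : Type*} [TopologicalSpace V] {F N : Set V}
    (hF : Dense F) (hFd : IsDiscrete F) (hN : IsOpen N) (hNirr : IsPreirreducible N) :
    (N ∩ F).Subsingleton := by
  rintro a ⟨haN, haF⟩ b ⟨hbN, hbF⟩
  rw [isDiscrete_iff_forall_mem_exists_isOpen] at hFd
  obtain ⟨Oa, hOa, hOaF⟩ := hFd a haF
  obtain ⟨Ob, hOb, hObF⟩ := hFd b hbF
  have haOa : a ∈ Oa := by
    have : a ∈ Oa ∩ F := by rw [hOaF]; rfl
    exact this.1
  have hbOb : b ∈ Ob := by
    have : b ∈ Ob ∩ F := by rw [hObF]; rfl
    exact this.1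
  obtain ⟨w, hwN, hwOa, hwOb⟩ := hNirr Oa Ob hOa hOb ⟨a, haN, haOa⟩ ⟨b, hbN, hbOb⟩
  obtain ⟨c, ⟨⟨hcN, hcOa⟩, hcOb⟩, hcF⟩ :=
    hF.inter_open_nonempty (N ∩ Oa ∩ Ob) ((hN.inter hOa).inter hOb) ⟨w, ⟨hwN, hwOa⟩, hwOb⟩
  have hca : c = a := by
    have : c ∈ Oa ∩ F := ⟨hcOa, hcF⟩
    rw [hOaF] at this
    exact this
  have hcb : c = b := by
    have : c ∈ Ob ∩ F := ⟨hcOb, hcF⟩
    rw [hObF] at this
    exact this
  rw [← hca, ← hcb]

end Topology

section Geometry

/-- étale morphisms are locally quasi-finite -/
theorem locallyQuasiFinite_of_etale {V X : Scheme.{u}} (p : V ⟶ X) [Etale p] :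
    LocallyQuasiFinite p := by
  constructor
  intro U₀ hU₀ V₀ hV₀ e
  have h1 := p.etale_appLE hU₀ hV₀ e
  algebraize [(p.appLE U₀ V₀ e).hom]
  have : Algebra.Etale Γ(X, U₀) Γ(V, V₀) := h1
  exact RingHom.quasiFinite_algebraMap.mpr inferInstance

/-- For `V` étale over an integral normal scheme `X`, locally constant functions on `V` are the same
as locally constant functions on the generic fibre. -/
theorem comap_bijective_generic {V X : Scheme.{u}} [IsIntegral X]
    (hN : ∀ x : X, IsIntegrallyClosed (X.presheaf.stalk x)) (p : V ⟶ X) [Etale p] (M : Type*) :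
    Function.Bijective
      (LocallyConstant.comap ⟨pullback.fst p (X.fromSpecStalk (genericPoint X)),
        (pullback.fst p (X.fromSpecStalk (genericPoint X))).continuous⟩ :
        LocallyConstant V M →
          LocallyConstant ↥(pullback p (X.fromSpecStalk (genericPoint X))) M) := by
  set g := X.fromSpecStalk (genericPoint X) with hg
  set pr := pullback.fst p g with hpr
  have hlqf := locallyQuasiFinite_of_etale p
  let F : Set V := p ⁻¹' {genericPoint X}
  have hrg : Set.range g = {genericPoint X} := by
    rw [hg, Scheme.range_fromSpecStalk]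
    ext y
    simp only [Set.mem_ofPred_eq, Set.mem_singleton_iff]
    constructor
    · intro h
      exact (h.antisymm (genericPoint_specializes y)).eq
    · rintro rfl
      exact specializes_rfl
  have hrange : Set.range pr = F := by
    rw [hpr, Scheme.Pullback.range_fst, hrg]
  have hFdense : Dense F := by
    rw [dense_iff_inter_open]
    intro O hO hOne
    have hO' : IsOpen (p '' O) := p.isOpenMap O hO
    have hη : genericPoint X ∈ p '' O :=
      ((genericPoint_spec X).mem_open_set_iff hO').mpr (by
        rw [Set.univ_inter]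
        exact hOne.image _)
    obtain ⟨o, ho, hpo⟩ := hη
    exact ⟨o, ho, hpo⟩
  have hFdisc : _root_.IsDiscrete F := p.isDiscrete_preimage_singleton (genericPoint X)
  have hinj : Function.Injective pr := pr.isEmbedding.injective
  refine comap_bijective_of_denseRange ⟨pr, pr.continuous⟩ ?_ ?_ M
  · show Dense (Set.range pr)
    rw [hrange]
    exact hFdense
  · intro v
    obtain ⟨N, hNo, hvN, hNirr⟩ :=
      Groth.Agent.Lib.Seat3.EtConstNormal.exists_preirreducible_nhd hN p v
    refine ⟨N, hNo, hvN, Set.Subsingleton.isPreconnected ?_⟩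
    intro d hd d' hd'
    apply hinj
    have hF : ∀ e, pr e ∈ F := fun e => by
      rw [← hrange]
      exact ⟨e, rfl⟩
    exact subsingleton_inter_of_isDiscrete hFdense hFdisc hNo hNirr ⟨hd, hF d⟩ ⟨hd', hF d'⟩

end Geometry

section Chase

open Groth.Agent.Lib.Seat3.EtConstLC Groth.Agent.Lib.Helper9.EtPull

variable (X : Scheme.{u}) (M : Type) [AddCommGroup M]

/-- the group `M`, lifted -/
abbrev NN : AddCommGrpCat.{u + 1} := AddCommGrpCat.of (ULift.{u + 1} M)

/-- on global constants, `constIso` is the inclusion of constants into locally constant functions -/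
lemma unit_constIso :
    (EtCore.constAdj X).unit.app (NN.{u} M) ≫ (EtCore.gsec X).map (constIso X M).hom =
      (eta X M).app (op (EtCoh.top X)) := by
  have h1 : (EtCore.constAdj X).unit.app (NN.{u} M) =
      (toSheafify X.smallEtaleTopology ((Functor.const X.Etaleᵒᵖ).obj (NN.{u} M))).app
        (op (EtCoh.top X)) := by
    simp [EtCore.constAdj, constantSheafAdj, Adjunction.comp_unit_app]
  rw [h1]
  have h3 : toSheafify X.smallEtaleTopology (lcPre X M) ≫
      (isoSheafify X.smallEtaleTopology (lcPre_isSheaf X M)).inv = 𝟙 _ :=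
    (isoSheafify X.smallEtaleTopology (lcPre_isSheaf X M)).hom_inv_id
  show (toSheafify X.smallEtaleTopology ((Functor.const X.Etaleᵒᵖ).obj (NN.{u} M)) ≫
      (sheafifyMap X.smallEtaleTopology (eta X M) ≫
        (isoSheafify X.smallEtaleTopology (lcPre_isSheaf X M)).inv)).app (op (EtCoh.top X)) = _
  rw [← Category.assoc, ← toSheafify_naturality, Category.assoc, h3, Category.comp_id]

variable {X} in
open Groth.Agent.Lib.Helper16.SmallEtale in
/-- pullback of locally constant functions along `g`, as a morphism of sheaves on `X` -/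
noncomputable def rhoLC {T : Scheme.{u}} (g : T ⟶ X) :
    lcSheaf X M ⟶ (EtCoh.push g).obj (lcSheaf T M) where
  hom :=
    { app := fun V => AddCommGrpCat.ofHom
        (AddEquiv.ulift.symm.toAddMonoidHom.comp
          ((LocallyConstant.comapAddMonoidHom
            ⟨pullback.fst V.unop.hom g, (pullback.fst V.unop.hom g).continuous⟩).comp
              AddEquiv.ulift.toAddMonoidHom))
      naturality := fun V W f => by
        ext ⟨s⟩
        refine ULift.ext _ _ (LocallyConstant.ext fun z => ?_)
        show s (f.unop.left ((pullback.fst W.unop.hom g) z)) =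
          s ((pullback.fst V.unop.hom g) (((EtCoh.bc g).map f.unop).left z))
        congr 1
        have h := bc_map_left_fst g f.unop
        have h' := congrArg (fun m => m z) h
        simp only [Scheme.Hom.comp_apply] at h'
        exact h'.symm }

variable {X} in
lemma rhoLC_app_apply {T : Scheme.{u}} (g : T ⟶ X) (V : X.Etaleᵒᵖ)
    (s : ULift.{u + 1} (LocallyConstant V.unop.left M)) (z : ((EtCoh.bc g).obj V.unop).left) :
    (((rhoLC M g).hom.app V) s).down z = s.down ((pullback.fst V.unop.hom g) z) := rfl

variable {X} in
/-- constants pull back to constants -/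
lemma eta_rhoLC {T : Scheme.{u}} (g : T ⟶ X) :
    (eta X M).app (op (EtCoh.top X)) ≫ (EtCore.gsec X).map (rhoLC M g) ≫
      (EtCore.pushGsecIso g).hom.app (lcSheaf T M) = (eta T M).app (op (EtCoh.top T)) := by
  ext ⟨m⟩
  refine ULift.ext _ _ (LocallyConstant.ext fun z => ?_)
  rfl

variable {X} in
/-- the adjoint of `pullConst`, expressed through locally constant functions -/
theorem unit_pullConst_eq {T : Scheme.{u}} (g : T ⟶ X) :
    (EtCoh.pullPushAdj g).unit.app (EtCoh.const X M) ≫
        (EtCoh.push g).map (EtCore.pullConst g M).hom =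
      (constIso X M).hom ≫ rhoLC M g ≫ (EtCoh.push g).map (constIso T M).inv := by
  apply ((EtCore.constAdj X).homEquiv (NN.{u} M) _).injective
  rw [Adjunction.homEquiv_unit, Adjunction.homEquiv_unit]
  have hiso : IsIso ((EtCore.pushGsecIso g).hom.app (EtCoh.const T M)) := inferInstance
  rw [← cancel_mono ((EtCore.pushGsecIso g).hom.app (EtCoh.const T M))]
  -- left hand side
  have hL : ((EtCore.constAdj X).unit.app (NN.{u} M) ≫
      (EtCore.gsec X).map ((EtCoh.pullPushAdj g).unit.app (EtCoh.const X M) ≫
        (EtCoh.push g).map (EtCore.pullConst g M).hom)) ≫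
      (EtCore.pushGsecIso g).hom.app (EtCoh.const T M) =
      (EtCore.constAdj T).unit.app (NN.{u} M) := by
    have h1 := unit_pullConst_inv g (NN.{u} M)
    rw [adj1_unit_app] at h1
    have h2 := (EtCore.pushGsecIso g).hom.naturality (EtCore.pullConst g M).hom
    rw [Functor.map_comp, Category.assoc, Category.assoc]
    erw [h2]
    rw [← Category.assoc ((EtCore.gsec X).map _), ← Category.assoc]
    have h3 : (EtCore.constAdj X).unit.app (NN.{u} M) ≫
        ((EtCore.gsec X).map ((EtCoh.pullPushAdj g).unit.app (EtCoh.const X M)) ≫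
          (EtCore.pushGsecIso g).hom.app ((EtCoh.pull g).obj (EtCoh.const X M))) =
        (EtCore.constAdj T).unit.app (NN.{u} M) ≫
          (EtCore.gsec T).map ((EtCore.pullConstIso g).inv.app (NN.{u} M)) := h1.symm
    rw [h3, Category.assoc, ← Functor.map_comp]
    have h4 : (EtCore.pullConstIso g).inv.app (NN.{u} M) ≫ (EtCore.pullConst g M).hom = 𝟙 _ :=
      (EtCore.pullConst g M).inv_hom_id
    rw [h4, CategoryTheory.Functor.map_id]
    exact Category.comp_id _
  -- right hand side
  have hR : ((EtCore.constAdj X).unit.app (NN.{u} M) ≫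
      (EtCore.gsec X).map ((constIso X M).hom ≫ rhoLC M g ≫
        (EtCoh.push g).map (constIso T M).inv)) ≫
      (EtCore.pushGsecIso g).hom.app (EtCoh.const T M) =
      (EtCore.constAdj T).unit.app (NN.{u} M) := by
    have h2 := (EtCore.pushGsecIso g).hom.naturality (constIso T M).inv
    rw [Functor.map_comp, Functor.map_comp, Category.assoc, Category.assoc, Category.assoc]
    erw [h2]
    rw [← Category.assoc ((EtCore.constAdj X).unit.app (NN.{u} M)), unit_constIso,
      ← Category.assoc ((EtCore.gsec X).map (rhoLC M g)), ← Category.assoc]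
    erw [eta_rhoLC M g]
    rw [← unit_constIso T M, Category.assoc, ← Functor.map_comp, Iso.hom_inv_id,
      CategoryTheory.Functor.map_id]
    exact Category.comp_id _
  rw [hL, hR]

lemma bijective_ulift {A B : Type u} (f : A → B) (hf : Function.Bijective f) :
    Function.Bijective (fun a : ULift.{u + 1} A => (ULift.up (f a.down) : ULift.{u + 1} B)) := by
  constructor
  · intro a b hab
    exact ULift.ext _ _ (hf.1 (congrArg ULift.down hab))
  · intro b
    obtain ⟨a, ha⟩ := hf.2 b.down
    exact ⟨⟨a⟩, ULift.ext _ _ ha⟩

set_option backward.isDefEq.respectTransparency.types false in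
/-- **S0626.** On an integral normal scheme, the constant sheaf is the direct image of the constant
sheaf on the generic point. -/
theorem isIso_unit_const_genericPoint [IsIntegral X]
    (hN : ∀ x : X, IsIntegrallyClosed (X.presheaf.stalk x)) :
    IsIso ((EtCoh.pullPushAdj (X.fromSpecStalk (genericPoint X))).unit.app (EtCoh.const X M)) := by
  have h1 := unit_pullConst_eq M (X.fromSpecStalk (genericPoint X))
  have hρ : IsIso (rhoLC M (X.fromSpecStalk (genericPoint X))) := by
    have h4 : IsIso ((sheafToPresheaf _ _).map (rhoLC M (X.fromSpecStalk (genericPoint X)))) := by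
      apply (config := { allowSynthFailures := true }) NatIso.isIso_of_isIso_app
      intro P
      obtain ⟨P⟩ := P
      show IsIso ((rhoLC M (X.fromSpecStalk (genericPoint X))).hom.app (op P))
      rw [ConcreteCategory.isIso_iff_bijective]
      have hpet : Etale (show P.left ⟶ X from P.hom) := inferInstanceAs (Etale P.hom)
      exact bijective_ulift _
        (comap_bijective_generic hN (show P.left ⟶ X from P.hom) M)
    exact isIso_of_reflects_iso _ (sheafToPresheaf _ _)
  have h5 : IsIso ((EtCoh.pullPushAdj (X.fromSpecStalk (genericPoint X))).unit.app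
      (EtCoh.const X M) ≫ (EtCoh.push (X.fromSpecStalk (genericPoint X))).map
        (EtCore.pullConst (X.fromSpecStalk (genericPoint X)) M).hom) := by
    rw [h1]
    infer_instance
  exact IsIso.of_isIso_comp_right _ ((EtCoh.push (X.fromSpecStalk (genericPoint X))).map
    (EtCore.pullConst (X.fromSpecStalk (genericPoint X)) M).hom)

end Chase

end Groth.Agent.Lib.Seat3.EtConstGeneric
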