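import Mathlib
import Groth.Prelude.Def_EtBase
import Groth.Prelude.Def_EtCore
import Groth.Agent.Lib.Seat3EtConstGeneric
import Groth.Agent.Lib.Helper23DerComp
import Groth.Agent.Lib.Seat1FinPush
import Groth.Agent.S0101

/-!
# Étale sheaves on the spectrum of a separably closed field (seat 3)

* `algebraMap_bijective_of_unique`, `isIso_of_etale_of_subsingleton`: a one-point scheme étale over
  a separably closed field is isomorphic to it.
* `IsSepClosedPoint T`; `isSepClosedPoint_spec`.
* `surjective_app_of_epi`: over a separably closed point, epimorphisms of abelian étale sheaves are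
  surjective on sections over EVERY étale `T`-scheme.
* `preservesHomology_push`, `preservesHomology_push_comp`: direct images from a separably closed
  point are exact; `isZero_Rpush_push`: `R^q f_* (g_* H) = 0` for `q ≥ 1`.
* `isZero_Rpush_const` (= S0628).
-/

set_option autoImplicit false
set_option linter.style.haveILetI false
universe u
open CategoryTheory CategoryTheory.Limits AlgebraicGeometry Opposite

namespace Groth.Agent.Lib.Seat3.EtSepClosedPt

section Algebra

/-- An étale algebra with exactly one prime over a separably closed field is trivial. -/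
theorem algebraMap_bijective_of_unique {K A : Type u} [Field K] [IsSepClosed K] [CommRing A]
    [Algebra K A] [Algebra.Etale K A] [Subsingleton (PrimeSpectrum A)]
    [Nonempty (PrimeSpectrum A)] : Function.Bijective (algebraMap K A) := by
  let e : A ≃ₐ[K] (PrimeSpectrum A → K) := Algebra.FormallyEtale.equivPiOfIsSepClosed K A
  obtain ⟨p₀⟩ := (inferInstance : Nonempty (PrimeSpectrum A))
  have h1 : Function.Bijective (algebraMap K (PrimeSpectrum A → K)) := by
    constructor
    · intro a b hab
      exact congrFun hab p₀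
    · intro f
      refine ⟨f p₀, ?_⟩
      funext p
      rw [Subsingleton.elim p p₀]
      rfl
  have h2 : (algebraMap K A : K → A) = e.symm ∘ algebraMap K (PrimeSpectrum A → K) := by
    funext k
    exact (e.symm.commutes k).symm
  rw [h2]
  exact e.symm.bijective.comp h1

end Algebra

section Point

variable {K : Type u} [Field K] [IsSepClosed K]

local notation "R" => CommRingCat.of K

/-- A one-point scheme étale over a separably closed field is isomorphic to it. -/
theorem isIso_of_etale_of_subsingleton {U : Scheme.{u}} (p : U ⟶ Spec R) [Etale p]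
    [Subsingleton U] [Nonempty U] : IsIso p := by
  have hA : IsAffine U := inferInstance
  have hφ : p.appTop.hom.Etale :=
    (HasRingHomProperty.iff_of_isAffine (P := @Etale) (f := p)).mp inferInstance
  -- the `R`-algebra structure on `Γ(U, ⊤)`
  let ψ : R ⟶ Γ(U, ⊤) := (Scheme.ΓSpecIso R).inv ≫ p.appTop
  have hinv : (Scheme.ΓSpecIso R).inv.hom.Etale :=
    RingHom.Etale.of_bijective (ConcreteCategory.bijective_of_isIso (Scheme.ΓSpecIso R).inv)
  have hψ : ψ.hom.Etale := RingHom.Etale.stableUnderComposition _ _ hinv hφ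
  letI : Algebra K Γ(U, ⊤) := ψ.hom.toAlgebra
  haveI : Algebra.Etale K Γ(U, ⊤) := hψ
  let h := Scheme.homeoOfIso U.isoSpec
  haveI : Subsingleton (PrimeSpectrum Γ(U, ⊤)) := h.symm.injective.subsingleton
  haveI : Nonempty (PrimeSpectrum Γ(U, ⊤)) := by
    obtain ⟨x⟩ := (inferInstance : Nonempty U)
    exact ⟨h x⟩
  have hb : Function.Bijective ψ.hom := algebraMap_bijective_of_unique (K := K) (A := Γ(U, ⊤))
  have hiso : IsIso ψ := (ConcreteCategory.isIso_iff_bijective ψ).mpr hb
  have hiso' : IsIso p.appTop := by
    have : p.appTop = (Scheme.ΓSpecIso R).hom ≫ ψ := by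
      simp [ψ]
    rw [this]
    infer_instance
  exact (HasAffineProperty.iff_of_isAffine (P := MorphismProperty.isomorphisms Scheme)).mpr
    ⟨hA, hiso'⟩

end Point

section Abstract

open Groth.Agent.Lib.Seat1.FinSplit Groth.Agent.Lib.Seat1.DisjCover
  Groth.Agent.Lib.Helper16.SmallEtale Groth.Agent.Lib.Seat1.FinPush

/-- `T` behaves like the spectrum of a separably closed field: it has at most one point and every
one-point étale `T`-scheme is isomorphic to `T`. -/
structure IsSepClosedPoint (T : Scheme.{u}) : Prop where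
  subsingleton : Subsingleton T
  isIso : ∀ (U : Scheme.{u}) (p : U ⟶ T), Etale p → Subsingleton U → Nonempty U → IsIso p

variable {T : Scheme.{u}}

/-- gluing sections of a sheaf of sets over a covering of an étale `T`-scheme by pairwise disjoint
opens (arbitrary index type) -/
lemma existsUnique_glue_opens' (P : T.Etaleᵒᵖ ⥤ Type (u + 1))
    (hP : Presieve.IsSheaf T.smallEtaleTopology P) (Z : T.Etale) {ι : Type u}
    (W : ι → Z.left.Opens)
    (hdisj : ∀ i j, i ≠ j → Disjoint (W i) (W j)) (hcov : ∀ z : Z.left, ∃ i, z ∈ W i)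
    (x : ∀ i, P.obj (op (opnOf Z (W i)))) :
    ∃! t : P.obj (op Z), ∀ i, P.map (opnIn Z (W i)).op t = x i := by
  have hmem : Sieve.ofArrows (fun i => opnOf Z (W i)) (fun i => opnIn Z (W i)) ∈
      T.smallEtaleTopology Z := by
    rw [mem_smallEtale_iff]
    intro y
    obtain ⟨i, hi⟩ := hcov y
    exact ⟨opnOf Z (W i), opnIn Z (W i), ⟨y, hi⟩, Sieve.ofArrows_mk _ _ i, rfl⟩
  have h1 := hP _ hmem
  have h2 : (Presieve.ofArrows (fun i => opnOf Z (W i)) (fun i => opnIn Z (W i))).IsSheafFor P :=
    (Presieve.isSheafFor_iff_generate _).2 h1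
  refine (Presieve.isSheafFor_arrows_iff P _).1 h2 x ?_
  intro i j Z' gi gj hg
  by_cases hij : i = j
  · subst hij
    rw [opnIn_mono_left gi gj hg]
  · haveI := isEmpty_of_disjoint_opens (hdisj i j hij) gi gj hg
    exact (subsingleton_of_isEmpty P hP Z').elim _ _

/-- points of an étale scheme over a one-point scheme are open -/
lemma isOpen_singleton_of_etale [Subsingleton T] {W : Scheme.{u}} (p : W ⟶ T) [Etale p] (w : W) :
    IsOpen ({w} : Set W) := by
  have hlqf := Groth.Agent.Lib.Seat3.EtConstGeneric.locallyQuasiFinite_of_etale p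
  have hd : _root_.IsDiscrete (p ⁻¹' {p w}) := p.isDiscrete_preimage_singleton (p w)
  rw [isDiscrete_iff_forall_mem_exists_isOpen] at hd
  obtain ⟨O, hO, hOF⟩ := hd w rfl
  have huniv : p ⁻¹' {p w} = Set.univ := by
    ext y
    simp only [Set.mem_preimage, Set.mem_singleton_iff, Set.mem_univ, iff_true]
    exact Subsingleton.elim _ _
  rw [huniv, Set.inter_univ] at hOF
  rw [← hOF]
  exact hO

end Abstract

section Surj

open Groth.Agent.Lib.Seat1.FinSplit Groth.Agent.Lib.Seat1.DisjCover
  Groth.Agent.Lib.Helper16.SmallEtale Groth.Agent.Lib.Seat1.FinPush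

variable {T : Scheme.{u}}

/-- the one-point open subscheme at a point of an étale scheme over a one-point scheme -/
noncomputable def ptOpen [Subsingleton T] (W : T.Etale) (w : W.left) : W.left.Opens :=
  ⟨{w}, @isOpen_singleton_of_etale T _ W.left (show W.left ⟶ T from W.hom)
    (inferInstanceAs (Etale W.hom)) w⟩

instance [Subsingleton T] (W : T.Etale) (w : W.left) : Subsingleton (ptOpen W w : Scheme.{u}) :=
  ⟨fun a b => Subtype.ext ((a.2 : a.1 = w).trans (b.2 : b.1 = w).symm)⟩

instance [Subsingleton T] (W : T.Etale) (w : W.left) : Nonempty (ptOpen W w : Scheme.{u}) :=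
  ⟨⟨w, rfl⟩⟩

/-- A covering sieve of an étale scheme over a separably closed point contains all the one-point
opens. -/
lemma sieve_ptOpen (hT : IsSepClosedPoint T) (W : T.Etale) (S : Sieve W)
    (hS : S ∈ T.smallEtaleTopology W) (w : W.left) :
    haveI := hT.subsingleton
    S (opnIn W (ptOpen W w)) := by
  haveI := hT.subsingleton
  rw [mem_smallEtale_iff] at hS
  obtain ⟨W', f', w', hf', hw'⟩ := hS w
  -- the two one-point schemes
  let q : (ptOpen W w : Scheme.{u}) ⟶ T := (ptOpen W w).ι ≫ W.hom
  let q' : (ptOpen W' w' : Scheme.{u}) ⟶ T := (ptOpen W' w').ι ≫ W'.hom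
  have hq : IsIso q := hT.isIso _ q inferInstance inferInstance inferInstance
  have hq' : IsIso q' := hT.isIso _ q' inferInstance inferInstance inferInstance
  let σ₀ : (ptOpen W w : Scheme.{u}) ⟶ (ptOpen W' w' : Scheme.{u}) := q ≫ inv q'
  let σ : opnOf W (ptOpen W w) ⟶ W' :=
    MorphismProperty.Over.homMk (σ₀ ≫ (ptOpen W' w').ι) (by
      show (σ₀ ≫ (ptOpen W' w').ι) ≫ W'.hom = (ptOpen W w).ι ≫ W.hom
      rw [Category.assoc]
      show (q ≫ inv q') ≫ q' = q
      rw [Category.assoc, IsIso.inv_hom_id, Category.comp_id])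
  have hσ : σ ≫ f' = opnIn W (ptOpen W w) := by
    apply MorphismProperty.Over.Hom.ext
    show (σ₀ ≫ (ptOpen W' w').ι) ≫ f'.left = (ptOpen W w).ι
    -- both sides factor through the open `{w}`
    set a : (ptOpen W w : Scheme.{u}) ⟶ W.left := (σ₀ ≫ (ptOpen W' w').ι) ≫ f'.left with ha
    have hrange : Set.range a ⊆ Set.range (ptOpen W w).ι := by
      rintro _ ⟨y, rfl⟩
      rw [Scheme.Opens.range_ι]
      show a y ∈ ({w} : Set W.left)
      have h1 : ((ptOpen W' w').ι (σ₀ y)) = w' := ((σ₀ y).2 : (σ₀ y).1 = w')
      show a y = w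
      rw [ha, Scheme.Hom.comp_apply, Scheme.Hom.comp_apply, h1, hw']
    let a' := IsOpenImmersion.lift (ptOpen W w).ι a hrange
    have ha' : a' ≫ (ptOpen W w).ι = a := IsOpenImmersion.lift_fac _ _ _
    have h2 : a ≫ W.hom = q := by
      have h3 : f'.left ≫ W.hom = W'.hom := CategoryTheory.Over.w f'.hom
      rw [ha, Category.assoc, h3, Category.assoc]
      show (q ≫ inv q') ≫ q' = q
      rw [Category.assoc, IsIso.inv_hom_id, Category.comp_id]
    have h4 : a' ≫ q = 𝟙 _ ≫ q := by
      calc a' ≫ q = (a' ≫ (ptOpen W w).ι) ≫ W.hom := (Category.assoc _ _ _).symm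
        _ = a ≫ W.hom := by rw [ha']
        _ = q := h2
        _ = 𝟙 _ ≫ q := (Category.id_comp _).symm
    have h5 : a' = 𝟙 _ := (cancel_mono q).mp h4
    rw [← ha', h5, Category.id_comp]
  rw [← hσ]
  exact S.downward_closed hf' σ

/-- **Exactness of sections over a separably closed point.** Every epimorphism of abelian étale
sheaves is surjective on sections over every étale `T`-scheme. -/
theorem surjective_app_of_epi (hT : IsSepClosedPoint T) {E E' : EtCoh.Ab T} (e : E ⟶ E') [Epi e]
    (W : T.Etale) : Function.Surjective (e.hom.app (op W)) := by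
  haveI := hT.subsingleton
  haveI : Sheaf.IsLocallySurjective e := (Sheaf.isLocallySurjective_iff_epi' _ e).mpr inferInstance
  intro y
  have hS := Presheaf.imageSieve_mem T.smallEtaleTopology e.hom y
  have hpt := fun w => sieve_ptOpen hT W _ hS w
  choose x hx using hpt
  have hdisj : ∀ w w' : W.left, w ≠ w' → Disjoint (ptOpen W w) (ptOpen W w') := by
    intro w w' hww
    rw [disjoint_iff, eq_bot_iff]
    rintro z ⟨hz1, hz2⟩
    exact hww ((hz1 : z = w).symm.trans (hz2 : z = w'))
  have hcov : ∀ z : W.left, ∃ w, z ∈ ptOpen W w := fun z => ⟨z, rfl⟩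
  obtain ⟨t, ht, -⟩ := existsUnique_glue_opens' (E.obj ⋙ forget _) (isSheaf_forget E) W
    (fun w => ptOpen W w) hdisj hcov x
  refine ⟨t, ?_⟩
  obtain ⟨t', -, huniq⟩ := existsUnique_glue_opens' (E'.obj ⋙ forget _) (isSheaf_forget E') W
    (fun w => ptOpen W w) hdisj hcov (fun w => E'.obj.map (opnIn W (ptOpen W w)).op y)
  rw [huniq (e.hom.app _ t) ?_, huniq y (fun i => rfl)]
  intro w
  have hnat := ConcreteCategory.congr_hom (e.hom.naturality (opnIn W (ptOpen W w)).op) t
  have htw : E.obj.map (opnIn W (ptOpen W w)).op t = x w := ht w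
  change E'.obj.map (opnIn W (ptOpen W w)).op (e.hom.app _ t) = _
  have : E'.obj.map (opnIn W (ptOpen W w)).op (e.hom.app _ t) =
      e.hom.app _ (E.obj.map (opnIn W (ptOpen W w)).op t) := hnat.symm
  rw [this, htw]
  exact hx w

end Surj

section Push

variable {T : Scheme.{u}}

/-- a morphism of abelian étale sheaves which is surjective on all sections is an epimorphism -/
lemma epi_of_surjective_app {Y : Scheme.{u}} {E E' : EtCoh.Ab Y} (e : E ⟶ E')
    (h : ∀ V : Y.Etale, Function.Surjective (e.hom.app (op V))) : Epi e := by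
  rw [← Sheaf.isLocallySurjective_iff_epi']
  exact Presheaf.isLocallySurjective_of_surjective _ _ (fun V => h V.unop)

/-- direct image from a separably closed point is exact -/
theorem preservesHomology_push (hT : IsSepClosedPoint T) {Y : Scheme.{u}} (h : T ⟶ Y) :
    (EtCoh.push h).PreservesHomology := by
  haveI : (EtCoh.push h).PreservesEpimorphisms :=
    ⟨fun e _ => epi_of_surjective_app _ (fun V =>
      surjective_app_of_epi hT e ((EtCoh.bc h).obj V))⟩
  haveI : PreservesLimits (EtCoh.push h) := (EtCoh.pullPushAdj h).rightAdjoint_preservesLimits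
  exact Functor.preservesHomology_of_preservesEpis_and_kernels _

/-- iterated direct image from a separably closed point is exact -/
theorem preservesHomology_push_comp (hT : IsSepClosedPoint T) {X Y : Scheme.{u}} (g : T ⟶ X)
    (f : X ⟶ Y) : (EtCoh.push g ⋙ EtCoh.push f).PreservesHomology := by
  haveI : (EtCoh.push g ⋙ EtCoh.push f).PreservesEpimorphisms :=
    ⟨fun e _ => epi_of_surjective_app _ (fun V =>
      surjective_app_of_epi hT e ((EtCoh.bc g).obj ((EtCoh.bc f).obj V)))⟩
  haveI : PreservesLimits (EtCoh.push g) := (EtCoh.pullPushAdj g).rightAdjoint_preservesLimits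
  haveI : PreservesLimits (EtCoh.push f) := (EtCoh.pullPushAdj f).rightAdjoint_preservesLimits
  haveI : ∀ {A B : EtCoh.Ab T} (a : A ⟶ B),
      PreservesLimit (parallelPair a 0) (EtCoh.push g ⋙ EtCoh.push f) := fun a =>
    comp_preservesLimit _ _
  exact Functor.preservesHomology_of_preservesEpis_and_kernels _

/-- higher derived functors of an exact functor vanish -/
lemma isZero_rightDerived_of_preservesHomology {C D : Type*} [Category C] [Category D] [Abelian C]
    [Abelian D] [HasInjectiveResolutions C] (F : C ⥤ D) [F.Additive] [F.PreservesHomology]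
    (Z : C) (n : ℕ) : IsZero ((F.rightDerived (n + 1)).obj Z) := by
  let I := injectiveResolution Z
  refine IsZero.of_iso ?_ (I.isoRightDerivedObj F (n + 1))
  have h : (I.cocomplex).ExactAt (n + 1) := I.cocomplex_exactAt_succ n
  have h' : ((F.mapHomologicalComplex _).obj I.cocomplex).ExactAt (n + 1) :=
    ShortComplex.Exact.map h F
  exact (HomologicalComplex.exactAt_iff_isZero_homology _ _).1 h'

/-- higher direct images of a sheaf pushed forward from a separably closed point vanish -/
theorem isZero_Rpush_push (hT : IsSepClosedPoint T) {X Y : Scheme.{u}} (g : T ⟶ X) (f : X ⟶ Y)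
    (H : EtCoh.Ab T) (q : ℕ) (hq : 1 ≤ q) :
    IsZero ((EtCoh.Rpush f q).obj ((EtCoh.push g).obj H)) := by
  obtain ⟨n, rfl⟩ : ∃ n, q = n + 1 := ⟨q - 1, by omega⟩
  haveI := preservesHomology_push hT g
  haveI := preservesHomology_push_comp hT g f
  haveI : (EtCoh.pull g).PreservesMonomorphisms :=
    ⟨fun a _ => Groth.Agent.S0101.mono_pull_map g a⟩
  haveI : (EtCoh.push g).PreservesInjectiveObjects :=
    Functor.preservesInjectiveObjects_of_adjunction_of_preservesMonomorphisms
      (EtCoh.pullPushAdj g)
  have e := (Groth.Agent.Lib.Helper23DerComp.compIso (EtCoh.push g) (EtCoh.push f) (n + 1)).app H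
  refine IsZero.of_iso ?_ e.symm
  exact isZero_rightDerived_of_preservesHomology (EtCoh.push g ⋙ EtCoh.push f) H n

end Push

section Main

/-- the spectrum of a separably closed field is a separably closed point -/
theorem isSepClosedPoint_spec (K : Type u) [Field K] [IsSepClosed K] :
    IsSepClosedPoint (Spec (CommRingCat.of K)) where
  subsingleton := (inferInstance : Subsingleton (PrimeSpectrum K))
  isIso U p _ _ _ := isIso_of_etale_of_subsingleton p

/-- **S0628.** Higher direct images of a constant sheaf on an integral normal scheme with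
separably closed function field vanish. -/
theorem isZero_Rpush_const {X Y : Scheme.{u}} (f : X ⟶ Y) [IsIntegral X]
    (hN : ∀ x : X, IsIntegrallyClosed (X.presheaf.stalk x)) [IsSepClosed X.functionField]
    (M : Type) [AddCommGroup M] (q : ℕ) (hq : 1 ≤ q) :
    IsZero ((EtCoh.Rpush f q).obj (EtCoh.const X M)) := by
  have hT : IsSepClosedPoint (Spec (X.presheaf.stalk (genericPoint X))) :=
    isSepClosedPoint_spec X.functionField
  have hiso := Groth.Agent.Lib.Seat3.EtConstGeneric.isIso_unit_const_genericPoint X M hN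
  let α := asIso ((EtCoh.pullPushAdj (X.fromSpecStalk (genericPoint X))).unit.app
    (EtCoh.const X M))
  refine IsZero.of_iso ?_ ((EtCoh.Rpush f q).mapIso α)
  exact isZero_Rpush_push hT (X.fromSpecStalk (genericPoint X)) f _ q hq

end Main

end Groth.Agent.Lib.Seat3.EtSepClosedPt
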