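import Mathlib
import Groth.Agent.S0728
import Groth.Agent.Lib.Helper9EtLocCoh
import Groth.Agent.Lib.Helper9JContAll
import Groth.Agent.Lib.Helper9EtMVCompare
import Groth.Agent.Lib.Helper23DerComp
import Groth.Agent.S0101

/-!
# Étale excision for cohomology with supports (helper3)

`Γ_Z(X, F) ≅ Γ_{Z'}(X', f⁻¹F)` naturally in `F` for an étale `f : X' ⟶ X` that is an
isomorphism over `Z` (bijective with trivial residue field extensions), and the consequence for
the right derived functors `H^r_Z`.
-/

set_option autoImplicit false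
universe u
open CategoryTheory CategoryTheory.Limits AlgebraicGeometry Opposite

namespace Groth.Agent.Lib.Seat3.Excision

open Groth.Agent.Lib.Helper16.SmallEtale Groth.Agent.Lib.Helper16.EtStalk EtShriek
open Groth.Agent.Lib.Helper9.EtPull Groth.Agent.Lib.Helper9.EtLocCoh


section Basic

variable {X : Scheme.{u}} (F : EtCoh.Ab X)

/-- restriction along `k : Q ⟶ P` kills `t` iff the support of `t` misses the image of `k` -/
theorem map_eq_zero_iff {P Q : X.Etale} (k : Q ⟶ P) (t : EtCoh.sect F P) :
    F.obj.map k.op t = 0 ↔ Disjoint (sectSupp F P t) (Set.range k.left.base) := by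
  constructor
  · intro h
    rw [Set.disjoint_right]
    rintro _ ⟨q, rfl⟩ hq
    exact hq Q k ⟨q, rfl⟩ h
  · intro h
    apply Groth.Agent.S0728.eq_of_germs
    intro q
    obtain ⟨Ω, _, _, ξ, x₀, hx₀⟩ := exists_geometric_point Q q
    refine ⟨Ω, _, _, ξ, x₀, hx₀, ?_⟩
    rw [map_zero, Groth.Agent.S0728.germ_map]
    apply Groth.Agent.S0728.germ_eq_zero_of_not_mem_supp
    rw [Groth.Agent.S0728.fiber_map_pt]
    intro hmem
    exact Set.disjoint_left.mp h hmem ⟨_, rfl⟩

/-- Two subfunctors of `G`, `G'` matched bijectively by `ρ : G ⟶ G'` are isomorphic. -/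
theorem nonempty_iso_of_bijOn {C : Type*} [Category C] {H₁ H₂ G G' : C ⥤ AddCommGrpCat.{u + 1}}
    (m₁ : H₁ ⟶ G) (m₂ : H₂ ⟶ G') (ρ : G ⟶ G')
    (h₁ : ∀ F, Function.Injective (m₁.app F)) (h₂ : ∀ F, Function.Injective (m₂.app F))
    (hb : ∀ F, Set.BijOn (ρ.app F) (Set.range (m₁.app F)) (Set.range (m₂.app F))) :
    Nonempty (H₁ ≅ H₂) := by
  classical
  -- the componentwise maps
  have hex : ∀ F (x : H₁.obj F), ∃ y : H₂.obj F, m₂.app F y = ρ.app F (m₁.app F x) := by
    intro F x
    obtain ⟨y, hy⟩ := (hb F).mapsTo ⟨x, rfl⟩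
    exact ⟨y, hy⟩
  choose φ hφ using hex
  have hφadd : ∀ F (x y : H₁.obj F), φ F (x + y) = φ F x + φ F y := by
    intro F x y
    apply h₂ F
    rw [hφ, map_add, map_add, map_add, hφ, hφ]
  have hφinj : ∀ F, Function.Injective (φ F) := by
    intro F x y hxy
    apply h₁ F
    apply (hb F).injOn ⟨x, rfl⟩ ⟨y, rfl⟩
    rw [← hφ, ← hφ, hxy]
  have hφsurj : ∀ F, Function.Surjective (φ F) := by
    intro F y
    obtain ⟨_, ⟨x, rfl⟩, hx⟩ := (hb F).surjOn ⟨y, rfl⟩
    refine ⟨x, ?_⟩
    apply h₂ F
    rw [hφ, hx]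
  let e : ∀ F, H₁.obj F ≅ H₂.obj F := fun F =>
    (AddEquiv.ofBijective (AddMonoidHom.mk' (φ F) (hφadd F)) ⟨hφinj F, hφsurj F⟩).toAddCommGrpIso
  refine ⟨NatIso.ofComponents e ?_⟩
  intro F F' f
  ext x
  apply h₂ F'
  show m₂.app F' (φ F' (H₁.map f x)) = m₂.app F' (H₂.map f (φ F x))
  rw [hφ]
  have n1 : m₁.app F' (H₁.map f x) = G.map f (m₁.app F x) :=
    congr($(m₁.naturality f) x)
  have n2 : m₂.app F' (H₂.map f (φ F x)) = G'.map f (m₂.app F (φ F x)) :=
    congr($(m₂.naturality f) (φ F x))
  have n3 : ρ.app F' (G.map f (m₁.app F x)) = G'.map f (ρ.app F (m₁.app F x)) :=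
    congr($(ρ.naturality f) (m₁.app F x))
  rw [n1, n2, n3, hφ]

end Basic


/-- the image of the kernel under a left exact functor to abelian groups -/
theorem range_map_kernel_ι {𝒜 : Type*} [Category 𝒜] [Abelian 𝒜] {A B : 𝒜} (f : A ⟶ B)
    (G : 𝒜 ⥤ AddCommGrpCat.{u + 1}) [G.PreservesZeroMorphisms]
    [PreservesLimit (parallelPair f 0) G] :
    Set.range (G.map (kernel.ι f)) = {s | G.map f s = 0} := by
  ext s
  constructor
  · rintro ⟨t, rfl⟩
    show (G.map (kernel.ι f) ≫ G.map f) t = 0
    rw [← G.map_comp, kernel.condition, G.map_zero]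
    rfl
  · intro hs
    have hs' : s ∈ (G.map f).hom.ker := hs
    let t₀ : (AddCommGrpCat.of (G.map f).hom.ker : AddCommGrpCat) := ⟨s, hs'⟩
    refine ⟨(PreservesKernel.iso G f).inv ((AddCommGrpCat.kernelIsoKer (G.map f)).inv t₀), ?_⟩
    have h1 : (PreservesKernel.iso G f).inv ≫ G.map (kernel.ι f) = kernel.ι (G.map f) := by
      rw [Iso.inv_comp_eq, PreservesKernel.iso_hom, kernelComparison_comp_ι]
    have h2 := AddCommGrpCat.kernelIsoKer_inv_comp_ι (G.map f)
    have := congr($h1 ((AddCommGrpCat.kernelIsoKer (G.map f)).inv t₀))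
    rw [ConcreteCategory.comp_apply] at this
    rw [this]
    have := congr($h2 t₀)
    rw [ConcreteCategory.comp_apply] at this
    rw [this]
    rfl

section

variable {U X : Scheme.{u}} (j : U ⟶ X) [IsOpenImmersion j]

/-- the inclusion `Γ_Z(X, -) ⟶ Γ(X, -)` -/
noncomputable def m₁ : EtDual.gammaSupp j ⟶ EtCore.gsec X :=
  Functor.whiskerRight (αΓ j) (EtCore.gsec X)

theorem m₁_app (F : EtCoh.Ab X) :
    (m₁ j).app F = (EtCore.gsec X).map (kernel.ι (EtDual.unitApp j F)) := rfl

instance gsec_preservesLimits (X : Scheme.{u}) :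
    PreservesLimitsOfSize.{0, 0} (EtCore.gsec X) :=
  (EtCore.constAdj X).rightAdjoint_preservesLimits

instance gsec_preservesLimit (X : Scheme.{u}) {A B : EtCoh.Ab X} (f : A ⟶ B) :
    PreservesLimit (parallelPair f 0) (EtCore.gsec X) := inferInstance

instance (X : Scheme.{u}) : (EtCore.gsec X).PreservesZeroMorphisms := inferInstance

theorem range_m₁' (F : EtCoh.Ab X) :
    Set.range ((EtCore.gsec X).map (kernel.ι (EtDual.unitApp j F))) =
      {s | F.obj.map ((EtCore.topIsTerminal X).from (obj j)).op s = 0} := by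
  rw [range_map_kernel_ι]
  ext s
  have h := pullSec_rho j F
  have key : F.obj.map ((EtCore.topIsTerminal X).from (obj j)).op s =
      (EtCore.gsec U).map ((rho j).hom.app F) ((EtCore.pushGsecIso j).hom.app _
        ((EtCore.gsec X).map (EtDual.unitApp j F) s)) := by
    rw [← h]
    rfl
  show (EtCore.gsec X).map (EtDual.unitApp j F) s = 0 ↔ _ = 0
  rw [key]
  constructor
  · intro h0
    rw [h0, map_zero, map_zero]
    rfl
  · intro h0
    have i1 : Function.Injective ((EtCore.gsec U).map ((rho j).hom.app F)) := by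
      have : IsIso ((EtCore.gsec U).map ((rho j).hom.app F)) := inferInstance
      exact ((ConcreteCategory.isIso_iff_bijective _).mp this).1
    have i2 : Function.Injective ((EtCore.pushGsecIso j).hom.app ((EtCoh.pull j).obj F)) := by
      have : IsIso ((EtCore.pushGsecIso j).hom.app ((EtCoh.pull j).obj F)) := inferInstance
      exact ((ConcreteCategory.isIso_iff_bijective _).mp this).1
    apply i2
    apply i1
    rw [h0, map_zero, map_zero]
    rfl

theorem range_m₁ (F : EtCoh.Ab X) :
    Set.range ((m₁ j).app F) =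
      {s | F.obj.map ((EtCore.topIsTerminal X).from (obj j)).op s = 0} :=
  range_m₁' j F

theorem injective_m₁ (F : EtCoh.Ab X) : Function.Injective ((m₁ j).app F) := by
  show Function.Injective ((EtCore.gsec X).map (kernel.ι (EtDual.unitApp j F)))
  have : Mono ((EtCore.gsec X).map (kernel.ι (EtDual.unitApp j F))) := inferInstance
  exact (AddCommGrpCat.mono_iff_injective _).mp this

end


section Excision

variable {X X' U U' : Scheme.{u}} (f : X' ⟶ X) [AlgebraicGeometry.Etale f] [EtShriek.JCont f]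
  (j : U ⟶ X) [IsOpenImmersion j] (j' : U' ⟶ X') [IsOpenImmersion j']

/-- sections over the étale `X`-scheme `X'` -/
noncomputable abbrev evf : EtCoh.Ab X ⥤ AddCommGrpCat.{u + 1} :=
  (sheafSections X.smallEtaleTopology AddCommGrpCat.{u + 1}).obj (op (obj f))

/-- global sections of the restriction are sections over `X'` -/
noncomputable def restrGsec : EtShriek.restrAlong f ⋙ EtCore.gsec X' ⟶ evf f where
  app F := 𝟙 _
  naturality := by
    intro F G φ
    exact (Category.comp_id _).trans (Category.id_comp _).symm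

/-- `Γ_{Z'}(X', f⁻¹F) ⟶ F(X')` -/
noncomputable def m₂ : EtCoh.pull f ⋙ EtDual.gammaSupp j' ⟶ evf f :=
  Functor.whiskerLeft (EtCoh.pull f) (m₁ j') ≫
    Functor.whiskerRight (rho f).hom (EtCore.gsec X') ≫ restrGsec f

theorem m₂_app (F : EtCoh.Ab X) :
    (m₂ f j').app F = (m₁ j').app ((EtCoh.pull f).obj F) ≫
      (EtCore.gsec X').map ((rho f).hom.app F) := by
  simp only [m₂, restrGsec, NatTrans.comp_app, Functor.whiskerLeft_app, Functor.whiskerRight_app]
  erw [Category.comp_id]
  rfl

theorem injective_m₂ (F : EtCoh.Ab X) : Function.Injective ((m₂ f j').app F) := by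
  rw [m₂_app]
  have i1 : Function.Injective ((EtCore.gsec X').map ((rho f).hom.app F)) := by
    have : IsIso ((EtCore.gsec X').map ((rho f).hom.app F)) := inferInstance
    exact ((ConcreteCategory.isIso_iff_bijective _).mp this).1
  intro a b hab
  apply injective_m₁ j' ((EtCoh.pull f).obj F)
  apply i1
  exact hab

/-- the restriction map `X' ⊇ U' ⟶ X'` seen in the small étale site of `X` -/
noncomputable abbrev r₂ : (EtShriek.compEtale f).obj (obj j') ⟶ obj f :=
  (EtShriek.compEtale f).map ((EtCore.topIsTerminal X').from (obj j'))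

theorem range_m₂ (F : EtCoh.Ab X) :
    Set.range ((m₂ f j').app F) = {t | F.obj.map (r₂ f j').op t = 0} := by
  rw [m₂_app]
  have hiso : ∀ P : X'.Etale, Function.Bijective (((rho f).hom.app F).hom.app (op P)) := by
    intro P
    have : IsIso (((rho f).hom.app F).hom.app (op P)) := by
      have h1 : IsIso ((sheafToPresheaf _ _).map ((rho f).hom.app F)) := inferInstance
      exact (NatIso.isIso_app_of_isIso ((sheafToPresheaf _ _).map ((rho f).hom.app F)) (op P))
    exact (ConcreteCategory.isIso_iff_bijective _).mp this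
  have hnat : ∀ s, F.obj.map (r₂ f j').op (((rho f).hom.app F).hom.app (op (EtCoh.top X')) s) =
      ((rho f).hom.app F).hom.app (op (obj j'))
        (((EtCoh.pull f).obj F).obj.map ((EtCore.topIsTerminal X').from (obj j')).op s) := by
    intro s
    exact congr($(((rho f).hom.app F).hom.naturality
      ((EtCore.topIsTerminal X').from (obj j')).op) s).symm
  ext t
  constructor
  · rintro ⟨a, rfl⟩
    have ha : (m₁ j').app ((EtCoh.pull f).obj F) a ∈
        {s | ((EtCoh.pull f).obj F).obj.map ((EtCore.topIsTerminal X').from (obj j')).op s = 0} := by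
      rw [← range_m₁]
      exact ⟨a, rfl⟩
    show F.obj.map (r₂ f j').op (((rho f).hom.app F).hom.app (op (EtCoh.top X'))
      ((m₁ j').app ((EtCoh.pull f).obj F) a)) = 0
    rw [hnat, ha, map_zero]
    rfl
  · intro ht
    obtain ⟨s, rfl⟩ := (hiso (EtCoh.top X')).2 t
    have hs : s ∈ Set.range ((m₁ j').app ((EtCoh.pull f).obj F)) := by
      rw [range_m₁]
      apply (hiso (obj j')).1
      rw [map_zero, ← hnat]
      exact ht
    obtain ⟨a, rfl⟩ := hs
    exact ⟨a, rfl⟩

/-- restriction of sections from `X` to `X'` -/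
noncomputable def ρ : EtCore.gsec X ⟶ evf f :=
  (sheafSections X.smallEtaleTopology AddCommGrpCat.{u + 1}).map
    ((EtCore.topIsTerminal X).from (obj f)).op

theorem ρ_app (F : EtCoh.Ab X) :
    (ρ f).app F = F.obj.map ((EtCore.topIsTerminal X).from (obj f)).op := rfl

theorem from_obj_left : ((EtCore.topIsTerminal X).from (obj f)).left = f := by
  have h := Over.w ((EtCore.topIsTerminal X).from (obj f)).hom
  exact (Category.comp_id _).symm.trans (h.trans (Category.id_comp _))

omit [JCont f] in
theorem r₂_left : (r₂ f j').left = j' := by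
  rw [EtShriek.compEtale_map_left]
  exact from_obj_left j'

theorem residueFieldMap_bijective_congr {X Y : Scheme.{u}} {f g : X ⟶ Y} (h : f = g) (x : X) :
    Function.Bijective (f.residueFieldMap x) ↔ Function.Bijective (g.residueFieldMap x) := by
  subst h
  rfl

theorem bijOn_ρ
    (hU' : Set.range j'.base = f.base ⁻¹' Set.range j.base)
    (hZ : Set.BijOn f.base (Set.range j'.base)ᶜ (Set.range j.base)ᶜ)
    (hκ : ∀ x' : ↥X', x' ∉ Set.range j'.base → Function.Surjective (f.residueFieldMap x'))
    (F : EtCoh.Ab X) :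
    Set.BijOn ((ρ f).app F) (Set.range ((m₁ j).app F)) (Set.range ((m₂ f j').app F)) := by
  rw [range_m₁, range_m₂, ρ_app]
  have hφl : ((EtCore.topIsTerminal X).from (obj f)).left = f := from_obj_left f
  have hb : ∀ x : X', ((EtCore.topIsTerminal X).from (obj f)).left.base x = f.base x :=
    fun x => congr(($hφl).base x)
  have hZc : IsClosed ((Set.range j.base)ᶜ : Set X) :=
    (IsOpenImmersion.isOpen_range j).isClosed_compl
  have hpre : ((EtCore.topIsTerminal X).from (obj f)).left.base ⁻¹' (Set.range j.base)ᶜ =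
      (Set.range j'.base)ᶜ := by
    ext x
    have h1 : x ∈ Set.range j'.base ↔ f.base x ∈ Set.range j.base := by
      rw [hU']
      rfl
    show ¬ (((EtCore.topIsTerminal X).from (obj f)).left.base x ∈ Set.range j.base) ↔
      ¬ (x ∈ Set.range j'.base)
    rw [h1, hb]
    exact Iff.rfl
  have h := Groth.Agent.S0728.result F ((EtCore.topIsTerminal X).from (obj f))
    ((Set.range j.base)ᶜ) hZc ?_ ?_
  · have e1 : {s : EtCoh.sect F (EtCoh.top X) |
        F.obj.map ((EtCore.topIsTerminal X).from (obj j)).op s = 0} =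
        {s | sectSupp F (EtCoh.top X) s ⊆ (Set.range j.base)ᶜ} := by
      ext s
      rw [Set.mem_ofPred_eq, map_eq_zero_iff, from_obj_left, Set.mem_ofPred_eq,
        Set.subset_compl_iff_disjoint_right]
      exact Iff.rfl
    have e2 : {t : EtCoh.sect F (obj f) | F.obj.map (r₂ f j').op t = 0} =
        {t | sectSupp F (obj f) t ⊆
          ((EtCore.topIsTerminal X).from (obj f)).left.base ⁻¹' (Set.range j.base)ᶜ} := by
      ext t
      rw [Set.mem_ofPred_eq, map_eq_zero_iff, r₂_left, Set.mem_ofPred_eq, hpre]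
      exact Set.subset_compl_iff_disjoint_right.symm
    rw [e1, e2]
    exact h
  · rw [hpre]
    exact hZ.congr (fun x _ => (hb x).symm)
  · intro x hx
    rw [hpre] at hx
    exact (residueFieldMap_bijective_congr hφl x).mpr
      ⟨(f.residueFieldMap x).hom.injective, hκ x hx⟩

/-- **Excision in degree zero**, naturally in the sheaf. -/
theorem nonempty_gammaSupp_iso
    (hU' : Set.range j'.base = f.base ⁻¹' Set.range j.base)
    (hZ : Set.BijOn f.base (Set.range j'.base)ᶜ (Set.range j.base)ᶜ)
    (hκ : ∀ x' : ↥X', x' ∉ Set.range j'.base → Function.Surjective (f.residueFieldMap x')) :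
    Nonempty (EtDual.gammaSupp j ≅ EtCoh.pull f ⋙ EtDual.gammaSupp j') :=
  nonempty_iso_of_bijOn (m₁ j) (m₂ f j') (ρ f) (injective_m₁ j) (injective_m₂ f j')
    (bijOn_ρ f j j' hU' hZ hκ)

/-- **Étale excision** for the cohomology groups with supports. -/
theorem nonempty_HY_iso
    (hU' : Set.range j'.base = f.base ⁻¹' Set.range j.base)
    (hZ : Set.BijOn f.base (Set.range j'.base)ᶜ (Set.range j.base)ᶜ)
    (hκ : ∀ x' : ↥X', x' ∉ Set.range j'.base → Function.Surjective (f.residueFieldMap x'))
    (F : EtCoh.Ab X) (r : ℕ) :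
    Nonempty ((EtDual.HY j r).obj F ≅ (EtDual.HY j' r).obj ((EtCoh.pull f).obj F)) := by
  haveI : PreservesFiniteLimits (EtCoh.pull f) := Groth.Agent.S0101.result f
  haveI : PreservesFiniteColimits (EtCoh.pull f) := by
    haveI : PreservesColimitsOfSize.{0, 0} (EtCoh.pull f) :=
      (EtCoh.pullPushAdj f).leftAdjoint_preservesColimits
    exact PreservesColimitsOfSize.preservesFiniteColimits _
  haveI : (EtCoh.pull f).PreservesInjectiveObjects :=
    ⟨fun {Q} hQ => by haveI := hQ; exact Groth.Agent.Lib.Helper9.EtMV.injective_pull_obj f Q⟩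
  obtain ⟨e⟩ := nonempty_gammaSupp_iso f j j' hU' hZ hκ
  let e' : (EtDual.gammaSupp j).rightDerived r ≅
      (EtCoh.pull f ⋙ EtDual.gammaSupp j').rightDerived r :=
    { hom := NatTrans.rightDerived e.hom r
      inv := NatTrans.rightDerived e.inv r
      hom_inv_id := by
        rw [← NatTrans.rightDerived_comp, e.hom_inv_id, NatTrans.rightDerived_id]
      inv_hom_id := by
        rw [← NatTrans.rightDerived_comp, e.inv_hom_id, NatTrans.rightDerived_id] }
  exact ⟨e'.app F ≪≫
    (Groth.Agent.Lib.Helper23DerComp.compIso (EtCoh.pull f) (EtDual.gammaSupp j') r).app F⟩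

end Excision

end Groth.Agent.Lib.Seat3.Excision
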