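import Mathlib
import Groth.Prelude.Def_PBC
import Groth.Agent.Lib.Helper3IndEt

/-!
# A criterion for ind-Zariski algebras (seat 3)

`B` is an ind-Zariski `A`-algebra (`EtPBC.IsIndZariski`) as soon as
* (S) every element of `B` is hit by some `A`-algebra map `R → B` from a local isomorphism `R`, and
* (I) every element of such an `R` which dies in `B` already dies in a further such `R'`.

Also: `Hit A B`, the subalgebra of elements hit by local isomorphisms; it contains all
idempotents of `B`.  (Port of the prior `Helper3IndEt` criterion to `Algebra.IsLocalIso`.)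
-/

set_option autoImplicit false

open CategoryTheory CategoryTheory.Limits TensorProduct

universe u

namespace Groth.Agent.Lib.Seat3.IndZar

open Groth.Agent.Lib.Helper3.IndEt (nonempty_isColimit_under)

attribute [local instance] IsFiltered.isConnected

/-- local isomorphisms are of finite presentation -/
theorem finitePresentation_of_isLocalIso (A E : Type*) [CommRing A] [CommRing E] [Algebra A E]
    [Algebra.IsLocalIso A E] : Algebra.FinitePresentation A E := by
  apply Algebra.FinitePresentation.of_span_eq_top_target _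
    (Algebra.IsLocalIso.span_isStandardOpenImmersion_eq_top A E)
  intro g hg
  obtain ⟨r, hr⟩ := (hg : Algebra.IsStandardOpenImmersion A (Localization.Away g)).exists_away
  exact IsLocalization.Away.finitePresentation r

theorem isLocalIso_tensor (A E F : Type*) [CommRing A] [CommRing E] [CommRing F] [Algebra A E]
    [Algebra A F] [Algebra.IsLocalIso A E] [Algebra.IsLocalIso A F] :
    Algebra.IsLocalIso A (E ⊗[A] F) :=
  Algebra.IsLocalIso.trans A E (E ⊗[A] F)

/-- Constructing `IsIndZariski` from elementary filtered data. -/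
theorem isIndZariski_of_filtered {A B : Type u} [CommRing A] [CommRing B] [Algebra A B]
    {J : Type u} [SmallCategory J] [IsFiltered J]
    (R : J → Type u) [∀ j, CommRing (R j)] [∀ j, Algebra A (R j)]
    [∀ j, Algebra.IsLocalIso A (R j)]
    (t : ∀ {j k : J}, (j ⟶ k) → (R j →ₐ[A] R k))
    (t_id : ∀ j, t (𝟙 j) = AlgHom.id A (R j))
    (t_comp : ∀ {j k l : J} (f : j ⟶ k) (g : k ⟶ l), t (f ≫ g) = (t g).comp (t f))
    (ι : ∀ j, R j →ₐ[A] B)
    (compat : ∀ {j k : J} (g : j ⟶ k) (x : R j), ι k (t g x) = ι j x)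
    (surj : ∀ b : B, ∃ j x, ι j x = b)
    (inj : ∀ j (x : R j), ι j x = 0 → ∃ k, ∃ g : j ⟶ k, t g x = 0) :
    EtPBC.IsIndZariski A B := by
  letI instR : ∀ j, Algebra (CommRingCat.of A) (R j) := fun j => inferInstanceAs (Algebra A (R j))
  letI instB : Algebra (CommRingCat.of A) B := inferInstanceAs (Algebra A B)
  let D : J ⥤ Under (CommRingCat.of A) :=
    { obj := fun j => CommRingCat.mkUnder (CommRingCat.of A) (R j)
      map := fun {j k} g => AlgHom.toUnder (R := CommRingCat.of A) (t g)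
      map_id := fun j => by
        rw [t_id]
        rfl
      map_comp := fun {j k l} f g => by
        rw [t_comp]
        rfl }
  let c : Cocone D :=
    { pt := CommRingCat.mkUnder (CommRingCat.of A) B
      ι :=
        { app := fun j => AlgHom.toUnder (R := CommRingCat.of A) (ι j)
          naturality := fun j k g => by
            apply CommRingCat.mkUnder_ext
            intro x
            exact compat g x } }
  obtain ⟨hc⟩ := nonempty_isColimit_under D c
    (fun x => by
      obtain ⟨j, y, hy⟩ := surj x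
      exact ⟨j, y, hy⟩)
    (fun j y hy => by
      obtain ⟨k, g, hg⟩ := inj j y hy
      exact ⟨k, g, hg⟩)
  refine ⟨J, inferInstance, inferInstance, D, c, hc, fun j => ?_, ⟨Iso.refl _⟩⟩
  show @Algebra.IsLocalIso A (R j) _ _ (RingHom.toAlgebra (algebraMap A (R j)))
  convert (inferInstance : Algebra.IsLocalIso A (R j))
  exact Algebra.algebra_ext _ _ (fun r => rfl)

section crit

variable (A B : Type u) [CommRing A] [CommRing B] [Algebra A B]

/-- Presented local-iso `A`-algebras with a map to `B`. -/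
structure Obj where
  n : ℕ
  I : Ideal (MvPolynomial (Fin n) A)
  li : Algebra.IsLocalIso A (MvPolynomial (Fin n) A ⧸ I)
  φ : (MvPolynomial (Fin n) A ⧸ I) →ₐ[A] B

/-- (S): every element of `B` is hit by a local isomorphism. -/
def HitAll : Prop :=
  ∀ b : B, ∃ (R : Type u) (_ : CommRing R) (_ : Algebra A R) (_ : Algebra.IsLocalIso A R)
    (ρ : R →ₐ[A] B) (r : R), ρ r = b

/-- (I): elements dying in `B` die at a further stage. -/
def KillAll : Prop :=
  ∀ (R : Type u) [CommRing R] [Algebra A R] [Algebra.IsLocalIso A R] (ρ : R →ₐ[A] B) (r : R),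
    ρ r = 0 → ∃ (R' : Type u) (_ : CommRing R') (_ : Algebra A R') (_ : Algebra.IsLocalIso A R')
      (ρ' : R' →ₐ[A] B) (θ : R →ₐ[A] R'), ρ'.comp θ = ρ ∧ θ r = 0

namespace Obj

variable {A B}

/-- the underlying algebra -/
abbrev E (j : Obj A B) : Type u := MvPolynomial (Fin j.n) A ⧸ j.I

instance (j : Obj A B) : Algebra.IsLocalIso A j.E := j.li

noncomputable instance : SmallCategory (Obj A B) where
  Hom j k := {f : j.E →ₐ[A] k.E // k.φ.comp f = j.φ}
  id j := ⟨AlgHom.id A _, AlgHom.comp_id _⟩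
  comp f g := ⟨g.1.comp f.1, by rw [← AlgHom.comp_assoc, g.2, f.2]⟩
  id_comp _ := Subtype.ext (AlgHom.comp_id _)
  comp_id _ := Subtype.ext (AlgHom.id_comp _)
  assoc _ _ _ := Subtype.ext (AlgHom.comp_assoc _ _ _).symm

theorem comp_val {j k l : Obj A B} (f : j ⟶ k) (g : k ⟶ l) : (f ≫ g).1 = g.1.comp f.1 := rfl

theorem id_val (j : Obj A B) : (𝟙 j : j ⟶ j).1 = AlgHom.id A j.E := rfl

variable (A) in
theorem exists_obj {E : Type u} [CommRing E] [Algebra A E] [Algebra.IsLocalIso A E]
    (φ : E →ₐ[A] B) :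
    ∃ (j : Obj A B) (e : j.E ≃ₐ[A] E), φ.comp (e : j.E →ₐ[A] E) = j.φ := by
  haveI := finitePresentation_of_isLocalIso A E
  obtain ⟨n, f, hf, -⟩ := Algebra.FinitePresentation.out (R := A) (A := E)
  let e := Ideal.quotientKerAlgEquivOfSurjective hf
  exact ⟨⟨n, RingHom.ker f, Algebra.IsLocalIso.of_algEquiv e.symm, φ.comp e⟩, e, rfl⟩

/-- killing one element of the kernel -/
theorem exists_hom_kill (H : KillAll A B) (k : Obj A B) (x : k.E) (hx : k.φ x = 0) :
    ∃ (l : Obj A B) (h : k ⟶ l), h.1 x = 0 := by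
  obtain ⟨R', _, _, _, ρ', θ, hθ, hx'⟩ := H k.E k.φ x hx
  obtain ⟨l, e, he⟩ := exists_obj A ρ'
  refine ⟨l, ⟨(e.symm : R' →ₐ[A] l.E).comp θ, ?_⟩, ?_⟩
  · rw [← he, ← hθ]
    apply AlgHom.ext
    intro y
    show ρ' (e (e.symm (θ y))) = ρ' (θ y)
    rw [e.apply_symm_apply]
  · show (e.symm : R' →ₐ[A] l.E) (θ x) = 0
    rw [hx', map_zero]

/-- killing finitely many elements of the kernel -/
theorem exists_hom_kill_finset (H : KillAll A B) (k : Obj A B) (s : Finset k.E)
    (hs : ∀ x ∈ s, k.φ x = 0) : ∃ (l : Obj A B) (h : k ⟶ l), ∀ x ∈ s, h.1 x = 0 := by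
  classical
  induction s using Finset.induction_on with
  | empty => exact ⟨k, 𝟙 k, fun x hx => absurd hx (Finset.notMem_empty x)⟩
  | insert a s has ih =>
    obtain ⟨l, h, hl⟩ := ih (fun x hx => hs x (Finset.mem_insert_of_mem hx))
    have ha : l.φ (h.1 a) = 0 := by
      have := congr($(h.2) a)
      rw [AlgHom.comp_apply] at this
      rw [this]
      exact hs a (Finset.mem_insert_self a s)
    obtain ⟨l', h', hl'⟩ := exists_hom_kill H l (h.1 a) ha
    refine ⟨l', h ≫ h', fun x hx => ?_⟩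
    rw [comp_val, AlgHom.comp_apply]
    rcases Finset.mem_insert.mp hx with rfl | hx
    · exact hl'
    · rw [hl x hx, map_zero]

theorem isFiltered (H : KillAll A B) : IsFiltered (Obj A B) := by
  haveI : Nonempty (Obj A B) := by
    obtain ⟨j, -, -⟩ := exists_obj A (Algebra.ofId A B)
    exact ⟨j⟩
  haveI : IsFilteredOrEmpty (Obj A B) := by
    refine ⟨fun j k => ?_, fun j k f g => ?_⟩
    · haveI := isLocalIso_tensor A j.E k.E
      obtain ⟨l, e, he⟩ := exists_obj A (E := j.E ⊗[A] k.E)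
        (Algebra.TensorProduct.productMap j.φ k.φ)
      refine ⟨l, ⟨(e.symm : j.E ⊗[A] k.E →ₐ[A] l.E).comp Algebra.TensorProduct.includeLeft, ?_⟩,
        ⟨(e.symm : j.E ⊗[A] k.E →ₐ[A] l.E).comp Algebra.TensorProduct.includeRight, ?_⟩, trivial⟩
      · rw [← he]
        ext x
        simp
      · rw [← he]
        ext x
        simp
    · classical
      let s : Finset k.E := Finset.univ.image (fun i : Fin j.n =>
        f.1 (Ideal.Quotient.mk j.I (MvPolynomial.X i)) - g.1 (Ideal.Quotient.mk j.I (MvPolynomial.X i)))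
      have hs : ∀ x ∈ s, k.φ x = 0 := by
        intro x hx
        obtain ⟨i, -, rfl⟩ := Finset.mem_image.mp hx
        rw [map_sub, sub_eq_zero]
        have h1 := congr($(f.2) (Ideal.Quotient.mk j.I (MvPolynomial.X i)))
        have h2 := congr($(g.2) (Ideal.Quotient.mk j.I (MvPolynomial.X i)))
        rw [AlgHom.comp_apply] at h1 h2
        rw [h1, h2]
      obtain ⟨l, h, hh⟩ := exists_hom_kill_finset H k s hs
      refine ⟨l, h, Subtype.ext ?_⟩
      rw [comp_val, comp_val]
      apply Ideal.Quotient.algHom_ext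
      apply MvPolynomial.algHom_ext
      intro i
      have := hh _ (Finset.mem_image.mpr ⟨i, Finset.mem_univ i, rfl⟩)
      rw [map_sub, sub_eq_zero] at this
      exact this
  exact {}

end Obj

end crit

/-- **Criterion**: (S) and (I) imply ind-Zariski. -/
theorem isIndZariski_of_hitAll_killAll {A B : Type u} [CommRing A] [CommRing B] [Algebra A B]
    (HS : HitAll A B) (HI : KillAll A B) : EtPBC.IsIndZariski A B := by
  haveI := Obj.isFiltered HI
  refine isIndZariski_of_filtered (J := Obj A B) (fun j => j.E)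
    (fun {j k} (g : j ⟶ k) => g.1) (fun _ => rfl)
    (fun _ _ => rfl) (fun j => j.φ) (fun {j k} (g : j ⟶ k) x => congr($(g.2) x)) ?_ ?_
  · intro b
    obtain ⟨R, _, _, _, ρ, r, hr⟩ := HS b
    obtain ⟨j, e, he⟩ := Obj.exists_obj A ρ
    refine ⟨j, e.symm r, ?_⟩
    rw [← he]
    show ρ (e (e.symm r)) = b
    rw [e.apply_symm_apply, hr]
  · intro j x hx
    obtain ⟨l, h, hh⟩ := Obj.exists_hom_kill HI j x hx
    exact ⟨l, h, hh⟩

section hit

variable (A B : Type u) [CommRing A] [CommRing B] [Algebra A B]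

/-- `b` is in the image of an `A`-algebra map from a local isomorphism. -/
def IsHit (b : B) : Prop :=
  ∃ (R : Type u) (_ : CommRing R) (_ : Algebra A R) (_ : Algebra.IsLocalIso A R)
    (ρ : R →ₐ[A] B) (r : R), ρ r = b

variable {A B}

theorem isHit_algebraMap (a : A) : IsHit A B (algebraMap A B a) :=
  ⟨A, inferInstance, inferInstance, inferInstance, Algebra.ofId A B, a, rfl⟩

theorem IsHit.add {b c : B} (hb : IsHit A B b) (hc : IsHit A B c) : IsHit A B (b + c) := by
  obtain ⟨R₁, _, _, _, ρ₁, r₁, rfl⟩ := hb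
  obtain ⟨R₂, _, _, _, ρ₂, r₂, rfl⟩ := hc
  haveI := isLocalIso_tensor A R₁ R₂
  exact ⟨R₁ ⊗[A] R₂, inferInstance, inferInstance, inferInstance,
    Algebra.TensorProduct.productMap ρ₁ ρ₂, r₁ ⊗ₜ 1 + 1 ⊗ₜ r₂, by simp⟩

theorem IsHit.mul {b c : B} (hb : IsHit A B b) (hc : IsHit A B c) : IsHit A B (b * c) := by
  obtain ⟨R₁, _, _, _, ρ₁, r₁, rfl⟩ := hb
  obtain ⟨R₂, _, _, _, ρ₂, r₂, rfl⟩ := hc
  haveI := isLocalIso_tensor A R₁ R₂
  exact ⟨R₁ ⊗[A] R₂, inferInstance, inferInstance, inferInstance,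
    Algebra.TensorProduct.productMap ρ₁ ρ₂, r₁ ⊗ₜ r₂, by simp⟩

theorem IsHit.neg {b : B} (hb : IsHit A B b) : IsHit A B (-b) := by
  obtain ⟨R₁, _, _, _, ρ₁, r₁, rfl⟩ := hb
  exact ⟨R₁, inferInstance, inferInstance, inferInstance, ρ₁, -r₁, map_neg _ _⟩

theorem IsHit.sub {b c : B} (hb : IsHit A B b) (hc : IsHit A B c) : IsHit A B (b - c) := by
  rw [sub_eq_add_neg]
  exact hb.add hc.neg

theorem isHit_one : IsHit A B (1 : B) := by
  simpa using isHit_algebraMap (A := A) (B := B) 1

theorem isHit_zero : IsHit A B (0 : B) := by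
  simpa using isHit_algebraMap (A := A) (B := B) 0

/-- `A × A` is a local isomorphism over `A`. -/
instance isLocalIso_prod_self : Algebra.IsLocalIso A (A × A) := by
  haveI : Algebra.IsLocalIso A (Fin 2 → A) := Algebra.IsLocalIso.pi_of_finite A (fun _ => A)
  let e : (Fin 2 → A) ≃ₐ[A] A × A :=
    AlgEquiv.ofRingEquiv (f := RingEquiv.piFinTwo (fun _ => A)) (fun a => rfl)
  exact Algebra.IsLocalIso.of_algEquiv e

/-- The `A`-algebra map `A × A → B` attached to an idempotent of `B`. -/
def prodHom (e : B) (he : IsIdempotentElem e) : A × A →ₐ[A] B where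
  toFun p := algebraMap A B p.1 * e + algebraMap A B p.2 * (1 - e)
  map_one' := by simp
  map_zero' := by simp
  map_add' p q := by simp only [Prod.fst_add, Prod.snd_add, map_add]; ring
  map_mul' p q := by
    simp only [Prod.fst_mul, Prod.snd_mul, map_mul]
    have h : e * e = e := he.eq
    linear_combination (-(algebraMap A B p.1 - algebraMap A B p.2) *
      (algebraMap A B q.1 - algebraMap A B q.2)) * h
  commutes' a := by
    show algebraMap A B a * e + algebraMap A B a * (1 - e) = algebraMap A B a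
    ring

@[simp] theorem prodHom_apply (e : B) (he : IsIdempotentElem e) (p : A × A) :
    prodHom e he p = algebraMap A B p.1 * e + algebraMap A B p.2 * (1 - e) := rfl

/-- If `s` is invertible on the clopen `D(e)` of `Spec B`, with inverse `u`, then `u * e` is hit. -/
theorem isHit_mul_idem_of_inv {e : B} (he : IsIdempotentElem e) (s : A) (u : B)
    (h : algebraMap A B s * u * e = e) : IsHit A B (u * e) := by
  let x : A × A := (s, 1)
  let L := Localization.Away x
  have hee : e * e = e := he.eq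
  have hunit : ∀ y : Submonoid.powers x, IsUnit (prodHom (A := A) e he y) := by
    rintro ⟨_, n, rfl⟩
    rw [map_pow]
    apply IsUnit.pow
    refine IsUnit.of_mul_eq_one (u * e + (1 - e)) ?_
    simp only [prodHom_apply, x, map_one]
    linear_combination (2 - algebraMap A B s - u) * hee + e * h
  haveI : Algebra.IsLocalIso A L := Algebra.IsLocalIso.trans A (A × A) L
  refine ⟨L, inferInstance, inferInstance, inferInstance,
    IsLocalization.liftAlgHom (M := Submonoid.powers x) (f := prodHom (A := A) e he) hunit,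
    IsLocalization.mk' L ((1, 0) : A × A) (⟨x, Submonoid.mem_powers x⟩ : Submonoid.powers x), ?_⟩
  rw [IsLocalization.liftAlgHom_apply, IsLocalization.lift_mk'_spec]
  show prodHom (A := A) e he (1, 0) = prodHom (A := A) e he x * (u * e)
  simp only [prodHom_apply, x, map_one, map_zero]
  linear_combination (u - 1) * hee - e * h

theorem isHit_of_isIdempotentElem {e : B} (he : IsIdempotentElem e) : IsHit A B e := by
  have := isHit_mul_idem_of_inv (A := A) he 1 1 (by simp)
  simpa using this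

theorem hitAll_iff : HitAll A B ↔ ∀ b : B, IsHit A B b := Iff.rfl

/-- (I) follows from (S) together with: for every `r` dying in `B`, the image of the annihilator
of `r` generates the unit ideal of `B`. -/
theorem killAll_of_hitAll (HS : HitAll A B)
    (Hann : ∀ (R : Type u) [CommRing R] [Algebra A R] [Algebra.IsLocalIso A R] (ρ : R →ₐ[A] B)
      (r : R), ρ r = 0 → Ideal.span (ρ '' {g : R | g * r = 0}) = ⊤) : KillAll A B := by
  intro R _ _ _ ρ r hr
  -- the predicate `M`
  let M : B → Prop := fun y => ∃ (R₀ : Type u) (_ : CommRing R₀) (_ : Algebra A R₀)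
    (_ : Algebra.IsLocalIso A R₀) (ρ₀ : R₀ →ₐ[A] B) (w : R ⊗[A] R₀),
    (r ⊗ₜ[A] (1 : R₀)) * w = 0 ∧ Algebra.TensorProduct.productMap ρ ρ₀ w = y
  -- extension of the auxiliary factor
  have hext : ∀ (R₀ R₁ : Type u) [CommRing R₀] [Algebra A R₀] [CommRing R₁] [Algebra A R₁]
      (ρ₀ : R₀ →ₐ[A] B) (ρ₁ : R₁ →ₐ[A] B) (w : R ⊗[A] R₀),
      (r ⊗ₜ[A] (1 : R₀)) * w = 0 →
      (r ⊗ₜ[A] (1 : R₀ ⊗[A] R₁)) * (Algebra.TensorProduct.map (AlgHom.id A R)
        (Algebra.TensorProduct.includeLeft : R₀ →ₐ[A] R₀ ⊗[A] R₁) w) = 0 ∧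
      Algebra.TensorProduct.productMap ρ (Algebra.TensorProduct.productMap ρ₀ ρ₁)
        (Algebra.TensorProduct.map (AlgHom.id A R)
          (Algebra.TensorProduct.includeLeft : R₀ →ₐ[A] R₀ ⊗[A] R₁) w) =
        Algebra.TensorProduct.productMap ρ ρ₀ w := by
    intro R₀ R₁ _ _ _ _ ρ₀ ρ₁ w hw
    constructor
    · have : (r ⊗ₜ[A] (1 : R₀ ⊗[A] R₁)) = Algebra.TensorProduct.map (AlgHom.id A R)
          (Algebra.TensorProduct.includeLeft : R₀ →ₐ[A] R₀ ⊗[A] R₁) (r ⊗ₜ[A] (1 : R₀)) := by
        simp [Algebra.TensorProduct.one_def]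
      rw [this, ← map_mul, hw, map_zero]
    · have : (Algebra.TensorProduct.productMap ρ (Algebra.TensorProduct.productMap ρ₀ ρ₁)).comp
          (Algebra.TensorProduct.map (AlgHom.id A R)
            (Algebra.TensorProduct.includeLeft : R₀ →ₐ[A] R₀ ⊗[A] R₁)) =
          Algebra.TensorProduct.productMap ρ ρ₀ := by
        apply Algebra.TensorProduct.ext'
        intro a b
        simp
      exact congr($this w)
  have hextR : ∀ (R₀ R₁ : Type u) [CommRing R₀] [Algebra A R₀] [CommRing R₁] [Algebra A R₁]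
      (ρ₀ : R₀ →ₐ[A] B) (ρ₁ : R₁ →ₐ[A] B) (w : R ⊗[A] R₁),
      (r ⊗ₜ[A] (1 : R₁)) * w = 0 →
      (r ⊗ₜ[A] (1 : R₀ ⊗[A] R₁)) * (Algebra.TensorProduct.map (AlgHom.id A R)
        (Algebra.TensorProduct.includeRight : R₁ →ₐ[A] R₀ ⊗[A] R₁) w) = 0 ∧
      Algebra.TensorProduct.productMap ρ (Algebra.TensorProduct.productMap ρ₀ ρ₁)
        (Algebra.TensorProduct.map (AlgHom.id A R)
          (Algebra.TensorProduct.includeRight : R₁ →ₐ[A] R₀ ⊗[A] R₁) w) =
        Algebra.TensorProduct.productMap ρ ρ₁ w := by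
    intro R₀ R₁ _ _ _ _ ρ₀ ρ₁ w hw
    constructor
    · have : (r ⊗ₜ[A] (1 : R₀ ⊗[A] R₁)) = Algebra.TensorProduct.map (AlgHom.id A R)
          (Algebra.TensorProduct.includeRight : R₁ →ₐ[A] R₀ ⊗[A] R₁) (r ⊗ₜ[A] (1 : R₁)) := by
        simp [Algebra.TensorProduct.one_def]
      rw [this, ← map_mul, hw, map_zero]
    · have : (Algebra.TensorProduct.productMap ρ (Algebra.TensorProduct.productMap ρ₀ ρ₁)).comp
          (Algebra.TensorProduct.map (AlgHom.id A R)
            (Algebra.TensorProduct.includeRight : R₁ →ₐ[A] R₀ ⊗[A] R₁)) =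
          Algebra.TensorProduct.productMap ρ ρ₁ := by
        apply Algebra.TensorProduct.ext'
        intro a b
        simp
      exact congr($this w)
  have h1 : (1 : B) ∈ Ideal.span (ρ '' {g : R | g * r = 0}) := by
    rw [Hann R ρ r hr]; trivial
  have hM1 : M 1 := by
    refine Submodule.span_induction (p := fun y _ => M y) ?_ ?_ ?_ ?_ h1
    · rintro _ ⟨g, hg, rfl⟩
      refine ⟨A, inferInstance, inferInstance, inferInstance, Algebra.ofId A B, g ⊗ₜ 1, ?_, ?_⟩
      · rw [Algebra.TensorProduct.tmul_mul_tmul, mul_comm r g, (hg : g * r = 0), zero_tmul]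
      · simp
    · exact ⟨A, inferInstance, inferInstance, inferInstance, Algebra.ofId A B, 0, by simp, by simp⟩
    · rintro y y' - - ⟨R₀, _, _, _, ρ₀, w, hw, rfl⟩ ⟨R₁, _, _, _, ρ₁, w', hw', rfl⟩
      haveI := isLocalIso_tensor A R₀ R₁
      obtain ⟨e1, e2⟩ := hext R₀ R₁ ρ₀ ρ₁ w hw
      obtain ⟨e1', e2'⟩ := hextR R₀ R₁ ρ₀ ρ₁ w' hw'
      refine ⟨R₀ ⊗[A] R₁, inferInstance, inferInstance, inferInstance,
        Algebra.TensorProduct.productMap ρ₀ ρ₁,
        (Algebra.TensorProduct.map (AlgHom.id A R)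
          (Algebra.TensorProduct.includeLeft : R₀ →ₐ[A] R₀ ⊗[A] R₁) w) +
        (Algebra.TensorProduct.map (AlgHom.id A R)
          (Algebra.TensorProduct.includeRight : R₁ →ₐ[A] R₀ ⊗[A] R₁) w'), ?_, ?_⟩
      · rw [mul_add, e1, e1', add_zero]
      · rw [map_add, e2, e2']
    · rintro c y - ⟨R₀, _, _, _, ρ₀, w, hw, rfl⟩
      obtain ⟨R₁, _, _, _, ρ₁, r₁, rfl⟩ := HS c
      haveI := isLocalIso_tensor A R₀ R₁
      obtain ⟨e1, e2⟩ := hext R₀ R₁ ρ₀ ρ₁ w hw
      refine ⟨R₀ ⊗[A] R₁, inferInstance, inferInstance, inferInstance,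
        Algebra.TensorProduct.productMap ρ₀ ρ₁,
        (Algebra.TensorProduct.map (AlgHom.id A R)
          (Algebra.TensorProduct.includeLeft : R₀ →ₐ[A] R₀ ⊗[A] R₁) w) *
            ((1 : R) ⊗ₜ[A] ((1 : R₀) ⊗ₜ[A] r₁)), ?_, ?_⟩
      · rw [← mul_assoc, e1, zero_mul]
      · rw [map_mul, e2, smul_eq_mul, mul_comm]
        congr 1
        simp
  obtain ⟨R₀, _, _, _, ρ₀, w, hw, hw1⟩ := hM1
  haveI := isLocalIso_tensor A R R₀
  let R'' := R ⊗[A] R₀
  let ρ'' : R'' →ₐ[A] B := Algebra.TensorProduct.productMap ρ ρ₀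
  let R' := Localization.Away w
  haveI : Algebra.IsLocalIso A R' := Algebra.IsLocalIso.trans A R'' R'
  have hunit : ∀ y : Submonoid.powers w, IsUnit (ρ'' y) := by
    rintro ⟨_, n, rfl⟩
    rw [map_pow]
    show IsUnit ((Algebra.TensorProduct.productMap ρ ρ₀ w) ^ n)
    rw [hw1, one_pow]
    exact isUnit_one
  refine ⟨R', inferInstance, inferInstance, inferInstance,
    IsLocalization.liftAlgHom (M := Submonoid.powers w) (f := ρ'') hunit,
    (IsScalarTower.toAlgHom A R'' R').comp Algebra.TensorProduct.includeLeft, ?_, ?_⟩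
  · apply AlgHom.ext
    intro x
    show IsLocalization.liftAlgHom (M := Submonoid.powers w) (f := ρ'') hunit
      (algebraMap R'' R' (x ⊗ₜ 1)) = ρ x
    rw [IsLocalization.liftAlgHom_apply, IsLocalization.lift_eq]
    simp [ρ'']
  · show algebraMap R'' R' (r ⊗ₜ 1) = 0
    rw [IsLocalization.map_eq_zero_iff (Submonoid.powers w)]
    exact ⟨⟨w, Submonoid.mem_powers w⟩, by rw [mul_comm]; exact hw⟩

/-- The local step for the annihilator condition: if `A_m → B_n` is injective
(`m = n ∩ A`), `R` is a local isomorphism over `A` mapping to `B` and `r ∈ R` dies in `B`, then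
some `g` outside the contraction of `n` annihilates `r`. -/
theorem exists_annihilator_notMem {R : Type u} [CommRing R] [Algebra A R] [Algebra.IsLocalIso A R]
    (ρ : R →ₐ[A] B) (n : Ideal B) [n.IsPrime]
    (hinj : ∀ a : A, (∃ c : B, c ∉ n ∧ c * algebraMap A B a = 0) →
      ∃ s : A, algebraMap A B s ∉ n ∧ s * a = 0)
    (r : R) (hr : ρ r = 0) : ∃ g : R, ρ g ∉ n ∧ g * r = 0 := by
  let q : Ideal R := n.comap ρ
  haveI : q.IsPrime := Ideal.comap_isPrime _ _
  obtain ⟨g₀, hg₀, hstd⟩ := Algebra.IsLocalIso.exists_notMem_isStandardOpenImmersion (R := A) q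
  obtain ⟨s₀, hs₀⟩ := hstd.exists_away
  let L := Localization.Away g₀
  -- `s₀ ∉ q`
  have hs₀q : algebraMap A R s₀ ∉ q := by
    intro hmem
    have hq : (⟨q, inferInstance⟩ : PrimeSpectrum R) ∈ PrimeSpectrum.basicOpen g₀ := hg₀
    rw [← SetLike.mem_coe, ← PrimeSpectrum.localization_away_comap_range L g₀] at hq
    obtain ⟨q', hq'⟩ := hq
    have h1 : algebraMap R L (algebraMap A R s₀) ∈ q'.asIdeal := by
      have : algebraMap A R s₀ ∈ (PrimeSpectrum.comap (algebraMap R L) q').asIdeal := by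
        rw [hq']; exact hmem
      exact this
    have h2 : IsUnit (algebraMap R L (algebraMap A R s₀)) := by
      rw [← IsScalarTower.algebraMap_apply]
      exact IsLocalization.Away.algebraMap_isUnit s₀
    exact q'.2.ne_top (Ideal.eq_top_of_isUnit_mem _ h1 h2)
  -- write `r` as a fraction
  obtain ⟨⟨a, ⟨_, k, rfl⟩⟩, hz⟩ := IsLocalization.surj (Submonoid.powers s₀) (algebraMap R L r)
  simp only at hz
  have hz' : algebraMap R L (r * algebraMap A R s₀ ^ k - algebraMap A R a) = 0 := by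
    rw [map_sub, map_mul, map_pow, ← IsScalarTower.algebraMap_apply A R L,
      ← IsScalarTower.algebraMap_apply A R L, ← map_pow, hz, sub_self]
  rw [IsLocalization.map_eq_zero_iff (Submonoid.powers g₀)] at hz'
  obtain ⟨⟨_, j, rfl⟩, hj⟩ := hz'
  simp only at hj
  -- apply `ρ`
  have hρ : ρ g₀ ^ j * algebraMap A B a = 0 := by
    have := congrArg ρ hj
    rw [map_mul, map_sub, map_mul, hr, zero_mul, zero_sub, map_zero, map_pow, AlgHom.commutes,
      mul_neg, neg_eq_zero] at this
    exact this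
  obtain ⟨s₁, hs₁, hs₁a⟩ := hinj a ⟨ρ g₀ ^ j, fun h => hg₀ (Ideal.IsPrime.mem_of_pow_mem (inferInstance : n.IsPrime) j h), hρ⟩
  refine ⟨g₀ ^ j * algebraMap A R s₁ * algebraMap A R s₀ ^ k, ?_, ?_⟩
  · intro hmem
    rw [map_mul, map_mul, map_pow, map_pow, AlgHom.commutes, AlgHom.commutes] at hmem
    rcases Ideal.IsPrime.mem_or_mem inferInstance hmem with h | h
    · rcases Ideal.IsPrime.mem_or_mem inferInstance h with h | h
      · exact hg₀ (Ideal.IsPrime.mem_of_pow_mem (inferInstance : n.IsPrime) j h)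
      · exact hs₁ h
    · have := Ideal.IsPrime.mem_of_pow_mem inferInstance k h
      apply hs₀q
      show ρ (algebraMap A R s₀) ∈ n
      rw [AlgHom.commutes]
      exact this
  · have h3 : g₀ ^ j * (r * algebraMap A R s₀ ^ k) = g₀ ^ j * algebraMap A R a := by
      have := hj
      rw [mul_sub, sub_eq_zero] at this
      exact this
    calc g₀ ^ j * algebraMap A R s₁ * algebraMap A R s₀ ^ k * r
        = algebraMap A R s₁ * (g₀ ^ j * (r * algebraMap A R s₀ ^ k)) := by ring
      _ = algebraMap A R s₁ * (g₀ ^ j * algebraMap A R a) := by rw [h3]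
      _ = g₀ ^ j * algebraMap A R (s₁ * a) := by rw [map_mul]; ring
      _ = 0 := by rw [hs₁a, map_zero, mul_zero]

/-- **Local criterion for being hit**: if near every maximal ideal `b` is hit after multiplying
by an idempotent not in that maximal ideal, then `b` is hit. -/
theorem isHit_of_forall_maximal {b : B}
    (h : ∀ n : Ideal B, n.IsMaximal → ∃ e, IsIdempotentElem e ∧ e ∉ n ∧ IsHit A B (b * e)) :
    IsHit A B b := by
  let J : Ideal B :=
    { carrier := {x | ∃ e, IsIdempotentElem e ∧ IsHit A B (b * e) ∧ x * e = x}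
      zero_mem' := ⟨0, IsIdempotentElem.zero, by rw [mul_zero]; exact isHit_zero, by simp⟩
      add_mem' := by
        rintro x y ⟨e₁, he₁, hb₁, hx⟩ ⟨e₂, he₂, hb₂, hy⟩
        have h₁ : e₁ * e₁ = e₁ := he₁.eq
        have h₂ : e₂ * e₂ = e₂ := he₂.eq
        refine ⟨e₁ + e₂ - e₁ * e₂, ?_, ?_, ?_⟩
        · show (e₁ + e₂ - e₁ * e₂) * (e₁ + e₂ - e₁ * e₂) = e₁ + e₂ - e₁ * e₂
          linear_combination (1 + e₂ ^ 2 - 2 * e₂) * h₁ + (1 - e₁) * h₂
        · have : b * (e₁ + e₂ - e₁ * e₂) = b * e₁ + b * e₂ - b * e₁ * e₂ := by ring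
          rw [this]
          exact (hb₁.add hb₂).sub (hb₁.mul (isHit_of_isIdempotentElem he₂))
        · linear_combination (1 - e₂) * hx + (1 - e₁) * hy
      smul_mem' := by
        rintro c x ⟨e, he, hbe, hxe⟩
        exact ⟨e, he, hbe, by rw [smul_eq_mul, mul_assoc, hxe]⟩ }
  by_cases hJ : J = ⊤
  · have h1' : (1 : B) ∈ J := by rw [hJ]; trivial
    obtain ⟨e, he, hbe, h1e⟩ := h1'
    rw [one_mul] at h1e
    rw [h1e, mul_one] at hbe
    exact hbe
  · exfalso
    obtain ⟨n, hn, hJn⟩ := Ideal.exists_le_maximal J hJ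
    obtain ⟨e, he, hen, hbe⟩ := h n hn
    exact hen (hJn ⟨e, he, hbe, he.eq⟩)

/-- (I) from (S) and the local injectivity statement at maximal ideals. -/
theorem killAll_of_hitAll_of_hinj (HS : HitAll A B)
    (hinj : ∀ (n : Ideal B), n.IsMaximal → ∀ a : A,
      (∃ c : B, c ∉ n ∧ c * algebraMap A B a = 0) → ∃ s : A, algebraMap A B s ∉ n ∧ s * a = 0) :
    KillAll A B := by
  apply killAll_of_hitAll HS
  intro R _ _ _ ρ r hr
  by_contra hne
  obtain ⟨n, hn, hle⟩ := Ideal.exists_le_maximal _ hne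
  haveI := hn.isPrime
  obtain ⟨g, hg, hgr⟩ := exists_annihilator_notMem ρ n (hinj n hn) r hr
  exact hg (hle (Ideal.subset_span ⟨g, hgr, rfl⟩))

end hit

end Groth.Agent.Lib.Seat3.IndZar
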