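import Mathlib

/-!
# The spectrum of the ring of locally constant functions `T → A` (seat 3)

For a profinite space `T` and a commutative ring `A`, the map
`Spec A × T → Spec (LocallyConstant T A)`, `(p, t) ↦ {f | f t ∈ p}` is a homeomorphism
(`thetaHomeo`).
-/

set_option autoImplicit false

universe u v

namespace Groth.Agent.Lib.Seat3.LCSpec

variable {T : Type u} [TopologicalSpace T] {A : Type v} [CommRing A]

/-- the point `(p, t) ↦ {f | f t ∈ p}` -/
noncomputable def theta (x : PrimeSpectrum A × T) : PrimeSpectrum (LocallyConstant T A) :=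
  PrimeSpectrum.comap (LocallyConstant.evalRingHom x.2) x.1

theorem mem_theta {x : PrimeSpectrum A × T} {f : LocallyConstant T A} :
    f ∈ (theta x).asIdeal ↔ f x.2 ∈ x.1.asIdeal := Iff.rfl

theorem charFn_apply_of_mem {U : Set T} (hU : IsClopen U) {t : T} (ht : t ∈ U) :
    LocallyConstant.charFn A hU t = 1 := by
  rw [LocallyConstant.coe_charFn, Set.indicator_of_mem ht, Pi.one_apply]

theorem charFn_apply_of_notMem {U : Set T} (hU : IsClopen U) {t : T} (ht : t ∉ U) :
    LocallyConstant.charFn A hU t = 0 := by
  rw [LocallyConstant.coe_charFn, Set.indicator_of_notMem ht]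

theorem isIdempotentElem_charFn {U : Set T} (hU : IsClopen U) :
    IsIdempotentElem (LocallyConstant.charFn A hU) := by
  ext t
  by_cases ht : t ∈ U
  · simp [charFn_apply_of_mem hU ht]
  · simp [charFn_apply_of_notMem hU ht]

theorem const_apply (a : A) (t : T) : (algebraMap A (LocallyConstant T A) a) t = a := rfl

/-- on the fibre of `f` through `t`, `f` is the constant `f t` -/
theorem mul_charFn_fiber (f : LocallyConstant T A) (t : T) :
    f * LocallyConstant.charFn A (f.isLocallyConstant.isClopen_fiber (f t)) =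
      algebraMap A (LocallyConstant T A) (f t) *
        LocallyConstant.charFn A (f.isLocallyConstant.isClopen_fiber (f t)) := by
  ext t'
  by_cases ht' : t' ∈ {x | f x = f t}
  · rw [LocallyConstant.mul_apply, LocallyConstant.mul_apply, charFn_apply_of_mem _ ht',
      const_apply]
    rw [show f t' = f t from ht']
  · rw [LocallyConstant.mul_apply, LocallyConstant.mul_apply, charFn_apply_of_notMem _ ht',
      mul_zero, mul_zero]

variable [CompactSpace T] [T2Space T] [TotallyDisconnectedSpace T]

theorem theta_injective : Function.Injective (theta (T := T) (A := A)) := by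
  rintro ⟨p, t⟩ ⟨p', t'⟩ h
  have ht : t = t' := by
    by_contra hne
    obtain ⟨U, hU, htU, ht'U⟩ := exists_isClopen_of_totally_separated hne
    have h1 : LocallyConstant.charFn A hU ∈ (theta (p', t')).asIdeal := by
      rw [mem_theta]
      show LocallyConstant.charFn A hU t' ∈ p'.asIdeal
      rw [charFn_apply_of_notMem hU (by simpa using ht'U)]
      exact zero_mem _
    rw [← h, mem_theta] at h1
    change LocallyConstant.charFn A hU t ∈ p.asIdeal at h1
    rw [charFn_apply_of_mem hU htU] at h1
    exact p.2.ne_top ((Ideal.eq_top_iff_one _).mpr h1)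
  subst ht
  have hp : p = p' := by
    ext a
    have h1 : algebraMap A (LocallyConstant T A) a ∈ (theta (p, t)).asIdeal ↔ a ∈ p.asIdeal :=
      Iff.rfl
    have h2 : algebraMap A (LocallyConstant T A) a ∈ (theta (p', t)).asIdeal ↔ a ∈ p'.asIdeal :=
      Iff.rfl
    rw [← h1, ← h2, h]
  rw [hp]

theorem theta_surjective : Function.Surjective (theta (T := T) (A := A)) := by
  classical
  intro P
  -- find the point `t₀`
  have hex : ∃ t₀ : T, ∀ (U : Set T) (hU : IsClopen U), t₀ ∈ U →
      LocallyConstant.charFn A hU ∉ P.asIdeal := by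
    by_contra hcon
    push Not at hcon
    choose U hU htU hUP using hcon
    obtain ⟨s, hs⟩ := isCompact_univ.elim_finite_subcover U (fun t => (hU t).isOpen)
      (fun t _ => Set.mem_iUnion.mpr ⟨t, htU t⟩)
    have hprod : ∏ t ∈ s, (1 - LocallyConstant.charFn A (hU t)) = 0 := by
      ext t'
      obtain ⟨t, hts, ht't⟩ : ∃ t ∈ s, t' ∈ U t := by
        have := hs (Set.mem_univ t')
        simpa using this
      have : (∏ t ∈ s, (1 - LocallyConstant.charFn A (hU t))) t' =
          ∏ t ∈ s, (1 - LocallyConstant.charFn A (hU t) t') := by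
        change LocallyConstant.evalRingHom t' _ = _
        rw [map_prod]
        rfl
      rw [this]
      exact Finset.prod_eq_zero hts (by rw [charFn_apply_of_mem _ ht't, sub_self])
    have hmem : ∏ t ∈ s, (1 - LocallyConstant.charFn A (hU t)) ∉ P.asIdeal := by
      rw [P.2.prod_mem_iff]
      push Not
      intro t _ h
      have h1 : (1 : LocallyConstant T A) ∈ P.asIdeal := by
        have := P.asIdeal.add_mem h (hUP t)
        simpa using this
      exact P.2.ne_top ((Ideal.eq_top_iff_one _).mpr h1)
    rw [hprod] at hmem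
    exact hmem (zero_mem _)
  obtain ⟨t₀, ht₀⟩ := hex
  refine ⟨(PrimeSpectrum.comap (algebraMap A (LocallyConstant T A)) P, t₀), ?_⟩
  ext f
  rw [mem_theta]
  show (algebraMap A (LocallyConstant T A) (f t₀)) ∈ P.asIdeal ↔ f ∈ P.asIdeal
  have hV := ht₀ _ (f.isLocallyConstant.isClopen_fiber (f t₀)) rfl
  have hmul := mul_charFn_fiber f t₀
  constructor
  · intro h
    have h1 : f * LocallyConstant.charFn A (f.isLocallyConstant.isClopen_fiber (f t₀)) ∈
        P.asIdeal := by
      rw [hmul]
      exact Ideal.mul_mem_right _ _ h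
    rcases P.2.mem_or_mem h1 with h2 | h2
    · exact h2
    · exact absurd h2 hV
  · intro h
    have h1 : algebraMap A (LocallyConstant T A) (f t₀) *
        LocallyConstant.charFn A (f.isLocallyConstant.isClopen_fiber (f t₀)) ∈ P.asIdeal := by
      rw [← hmul]
      exact Ideal.mul_mem_right _ _ h
    rcases P.2.mem_or_mem h1 with h2 | h2
    · exact h2
    · exact absurd h2 hV

theorem theta_continuous : Continuous (theta (T := T) (A := A)) := by
  rw [PrimeSpectrum.isTopologicalBasis_basic_opens.continuous_iff]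
  rintro _ ⟨f, rfl⟩
  rw [isOpen_iff_forall_mem_open]
  rintro ⟨p, t⟩ hpt
  have hpt' : f t ∉ p.asIdeal := hpt
  refine ⟨(PrimeSpectrum.basicOpen (f t) : Set (PrimeSpectrum A)) ×ˢ {x | f x = f t}, ?_,
    (PrimeSpectrum.basicOpen (f t)).2.prod (f.isLocallyConstant.isClopen_fiber (f t)).isOpen,
    ⟨hpt', rfl⟩⟩
  rintro ⟨p', t'⟩ ⟨hp', ht'⟩
  show f t' ∉ p'.asIdeal
  rw [show f t' = f t from ht']
  exact hp'

theorem theta_image_prod (a : A) {V : Set T} (hV : IsClopen V) :
    theta '' ((PrimeSpectrum.basicOpen a : Set (PrimeSpectrum A)) ×ˢ V) =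
      (PrimeSpectrum.basicOpen (algebraMap A (LocallyConstant T A) a *
        LocallyConstant.charFn A hV) : Set (PrimeSpectrum (LocallyConstant T A))) := by
  apply Set.Subset.antisymm
  · rintro _ ⟨⟨p, t⟩, ⟨hp, ht⟩, rfl⟩
    show (algebraMap A (LocallyConstant T A) a * LocallyConstant.charFn A hV) t ∉ p.asIdeal
    rw [LocallyConstant.mul_apply, const_apply, charFn_apply_of_mem hV ht, mul_one]
    exact hp
  · intro P hP
    obtain ⟨⟨p, t⟩, rfl⟩ := theta_surjective P
    have hP' : (algebraMap A (LocallyConstant T A) a * LocallyConstant.charFn A hV) t ∉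
        p.asIdeal := hP
    rw [LocallyConstant.mul_apply, const_apply] at hP'
    have htV : t ∈ V := by
      by_contra h
      rw [charFn_apply_of_notMem hV h, mul_zero] at hP'
      exact hP' (zero_mem _)
    rw [charFn_apply_of_mem hV htV, mul_one] at hP'
    exact ⟨(p, t), ⟨hP', htV⟩, rfl⟩

theorem theta_isOpenMap : IsOpenMap (theta (T := T) (A := A)) := by
  have hb := (PrimeSpectrum.isTopologicalBasis_basic_opens (R := A)).prod
    (isTopologicalBasis_isClopen (X := T))
  rw [hb.isOpenMap_iff]
  rintro _ ⟨_, ⟨a, rfl⟩, V, hV, rfl⟩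
  rw [theta_image_prod a hV]
  exact (PrimeSpectrum.basicOpen _).2

/-- `Spec A × T ≃ₜ Spec (LocallyConstant T A)` -/
noncomputable def thetaHomeo : PrimeSpectrum A × T ≃ₜ PrimeSpectrum (LocallyConstant T A) :=
  (Equiv.ofBijective theta ⟨theta_injective, theta_surjective⟩).toHomeomorphOfContinuousOpen
    theta_continuous theta_isOpenMap

@[simp] theorem thetaHomeo_apply (x : PrimeSpectrum A × T) : thetaHomeo x = theta x := rfl

theorem comap_theta (x : PrimeSpectrum A × T) :
    PrimeSpectrum.comap (algebraMap A (LocallyConstant T A)) (theta x) = x.1 := by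
  ext a
  rfl

end Groth.Agent.Lib.Seat3.LCSpec
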