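import Mathlib
import Groth.Prelude.Def_ProEtW
import Groth.Prelude.Def_PBC
import Groth.Agent.Lib.Seat3LCSpec
import Groth.Agent.Lib.Helper10Pi0

/-!
# w-localization of a ring, explicitly (seat 3)

For a ring `A`, a profinite space `T` and a continuous map `π : T → Spec A` we study
`Bw π = S⁻¹ LocallyConstant(T, A)`, `S = {f | ∀ t, f t ∉ π t}`.

* `psi`: `Spec (Bw π) → Spec A × T` is an embedding with image `{(p, t) | p ⊆ π t}`;
* closed points are the `(π t, t)`; every point has a unique closed specialization; if `π` is
  continuous for the constructible topology the closed points form a closed set (`isWLocal`);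
* `π₀ (Spec (Bw π)) ≃ₜ T` (`exists_pi0_homeo`);
* `A → Bw π` identifies local rings (`identifiesLocalRings`), hence is flat, and faithfully flat
  if `π` is surjective;
* `PT A`: the patch space (constructible topology on `Spec A`) as a closed subspace of `A → Bool`.

With `T = PT A` this gives the w-localization `A_w`.
-/

set_option autoImplicit false
universe u
open Topology

namespace Groth.Agent.Lib.Seat3.WLoc

open Groth.Agent.Lib.Seat3.LCSpec Groth.Agent.Lib.Helper10.Pi0

section general

/-- criterion for bijectivity of the induced map of local rings -/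
theorem localRingHom_bijective_of {R R' : Type*} [CommRing R] [CommRing R'] (φ : R →+* R')
    (q' : Ideal R') [q'.IsPrime] (q : Ideal R) [q.IsPrime] (hq : q = q'.comap φ)
    (hinj : ∀ r : R, (∃ c : R', c ∉ q' ∧ c * φ r = 0) → ∃ s : R, s ∉ q ∧ s * r = 0)
    (hsurj : ∀ x : R', ∃ (r s : R) (c : R'), s ∉ q ∧ c ∉ q' ∧ c * (φ s * x - φ r) = 0) :
    Function.Bijective (Localization.localRingHom q q' φ hq) := by
  constructor
  · rw [injective_iff_map_eq_zero]
    intro z hz
    obtain ⟨r, s, rfl⟩ := IsLocalization.exists_mk'_eq q.primeCompl z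
    rw [Localization.localRingHom_mk', IsLocalization.mk'_eq_zero_iff] at hz
    obtain ⟨⟨c, hc⟩, hcr⟩ := hz
    obtain ⟨s', hs', hs'r⟩ := hinj r ⟨c, hc, hcr⟩
    rw [IsLocalization.mk'_eq_zero_iff]
    exact ⟨⟨s', hs'⟩, hs'r⟩
  · intro z'
    obtain ⟨x, ⟨u, hu⟩, rfl⟩ := IsLocalization.exists_mk'_eq q'.primeCompl z'
    obtain ⟨r, s, c, hs, hc, hx⟩ := hsurj x
    obtain ⟨r', s', c', hs', hc', hu'⟩ := hsurj u
    have hφs' : φ s' ∉ q' := fun h => hs' (hq ▸ h)
    have hr' : r' ∉ q := by
      intro h
      have h1 : φ r' ∈ q' := by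
        have : r' ∈ q'.comap φ := hq ▸ h
        exact this
      have h2 : c' * (φ s' * u) ∈ q' := by
        have : c' * (φ s' * u) = c' * φ r' + c' * (φ s' * u - φ r') := by ring
        rw [this, hu', add_zero]
        exact Ideal.mul_mem_left _ _ h1
      rcases ‹q'.IsPrime›.mem_or_mem h2 with h3 | h3
      · exact hc' h3
      · rcases ‹q'.IsPrime›.mem_or_mem h3 with h4 | h4
        · exact hφs' h4
        · exact hu h4
    have hsr' : s * r' ∈ q.primeCompl := q.primeCompl.mul_mem hs hr'
    refine ⟨IsLocalization.mk' _ (r * s') ⟨s * r', hsr'⟩, ?_⟩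
    rw [Localization.localRingHom_mk', IsLocalization.eq]
    refine ⟨⟨c * c', q'.primeCompl.mul_mem hc hc'⟩, ?_⟩
    simp only [map_mul]
    linear_combination (c * φ r) * hu' - (c' * φ r') * hx

/-- transport of bijectivity of `localRingHom` along equalities -/
theorem localRingHom_bijective_congr {R P : Type*} [CommRing R] [CommRing P] (J : Ideal P)
    [J.IsPrime] (f g : R →+* P) (hfg : f = g) (I : Ideal R) [I.IsPrime] (hI : I = J.comap f)
    (I' : Ideal R) [I'.IsPrime] (hI' : I' = J.comap g)
    (h : Function.Bijective (Localization.localRingHom I J f hI)) :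
    Function.Bijective (Localization.localRingHom I' J g hI') := by
  subst hfg
  obtain rfl : I = I' := hI.trans hI'.symm
  exact h

/-- identifying local rings is stable under composition -/
theorem identifiesLocalRings_comp {A B C : Type u} [CommRing A] [CommRing B] [CommRing C]
    [Algebra A B] [Algebra B C] [Algebra A C] [IsScalarTower A B C]
    (h1 : EtPBC.IdentifiesLocalRings A B) (h2 : EtPBC.IdentifiesLocalRings B C) :
    EtPBC.IdentifiesLocalRings A C := by
  intro q
  have hb1 := h1 (PrimeSpectrum.comap (algebraMap B C) q)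
  have hb2 := h2 q
  have hcomp := Localization.localRingHom_comp
    (I := (q.asIdeal.comap (algebraMap B C)).comap (algebraMap A B))
    (q.asIdeal.comap (algebraMap B C)) q.asIdeal (algebraMap A B) rfl (algebraMap B C) rfl
  refine localRingHom_bijective_congr q.asIdeal _ _ (IsScalarTower.algebraMap_eq A B C).symm
    ((q.asIdeal.comap (algebraMap B C)).comap (algebraMap A B)) rfl _ rfl ?_
  rw [hcomp, RingHom.coe_comp]
  exact hb2.comp hb1

/-- extremal disconnectedness is invariant under homeomorphisms -/
theorem extremallyDisconnected_of_homeomorph {X Y : Type*} [TopologicalSpace X]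
    [TopologicalSpace Y] [ExtremallyDisconnected X] (e : X ≃ₜ Y) : ExtremallyDisconnected Y :=
  ⟨fun U hU => by
    have h1 : IsOpen (e ⁻¹' U) := hU.preimage e.continuous
    have h2 := ExtremallyDisconnected.open_closure _ h1
    rw [← e.preimage_closure] at h2
    exact e.isOpen_preimage.mp h2⟩

end general

section flat

/-- A ring map identifying local rings is flat. -/
theorem flat_of_identifiesLocalRings {A B : Type u} [CommRing A] [CommRing B] [Algebra A B]
    (h : EtPBC.IdentifiesLocalRings A B) : Module.Flat A B := by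
  refine Module.flat_of_isLocalized_maximal B B (fun P _ => Localization.AtPrime P)
    (fun P _ => Algebra.linearMap B (Localization.AtPrime P)) ?_
  intro P hP
  have hb := h ⟨P, hP.isPrime⟩
  let p : Ideal A := P.comap (algebraMap A B)
  let e : Localization.AtPrime p ≃+* Localization.AtPrime P := RingEquiv.ofBijective _ hb
  let e' : Localization.AtPrime p ≃ₗ[A] Localization.AtPrime P :=
    { e with
      map_smul' := by
        intro a x
        show e (a • x) = a • e x
        rw [Algebra.smul_def, Algebra.smul_def, map_mul]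
        congr 1
        show Localization.localRingHom p P (algebraMap A B) rfl (algebraMap A _ a) = _
        rw [Localization.localRingHom_to_map]
        rw [← IsScalarTower.algebraMap_apply A B (Localization.AtPrime P)] }
  exact Module.Flat.of_linearEquiv e'.symm

end flat

section patch

variable (A : Type u) [CommRing A]

/-- indicator functions of prime ideals, a closed subset of the Cantor cube `A → Bool` -/
def PTset : Set (A → Bool) :=
  {s | s 0 = true ∧ s 1 = false ∧ (∀ a b, s a = true → s b = true → s (a + b) = true) ∧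
    (∀ a b, s b = true → s (a * b) = true) ∧ (∀ a b, s (a * b) = true → s a = true ∨ s b = true)}

theorem isClosed_PTset : IsClosed (PTset A) := by
  have hev : ∀ a : A, Continuous fun s : A → Bool => s a := fun a => continuous_apply a
  have h0 : IsClosed {s : A → Bool | s 0 = true} :=
    (isClosed_discrete ({true} : Set Bool)).preimage (hev 0)
  have h1 : IsClosed {s : A → Bool | s 1 = false} :=
    (isClosed_discrete ({false} : Set Bool)).preimage (hev 1)
  have h2 : IsClosed {s : A → Bool | ∀ a b, s a = true → s b = true → s (a + b) = true} := by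
    simp only [Set.setOf_forall]
    refine isClosed_iInter fun a => isClosed_iInter fun b => ?_
    have hc : Continuous fun s : A → Bool => (s a, s b, s (a + b)) :=
      (hev a).prodMk ((hev b).prodMk (hev (a + b)))
    exact (isClosed_discrete {p : Bool × Bool × Bool | p.1 = true → p.2.1 = true →
      p.2.2 = true}).preimage hc
  have h3 : IsClosed {s : A → Bool | ∀ a b, s b = true → s (a * b) = true} := by
    simp only [Set.setOf_forall]
    refine isClosed_iInter fun a => isClosed_iInter fun b => ?_
    have hc : Continuous fun s : A → Bool => (s b, s (a * b)) :=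
      (hev b).prodMk (hev (a * b))
    exact (isClosed_discrete {p : Bool × Bool | p.1 = true → p.2 = true}).preimage hc
  have h4 : IsClosed {s : A → Bool | ∀ a b, s (a * b) = true → s a = true ∨ s b = true} := by
    simp only [Set.setOf_forall]
    refine isClosed_iInter fun a => isClosed_iInter fun b => ?_
    have hc : Continuous fun s : A → Bool => (s (a * b), s a, s b) :=
      (hev (a * b)).prodMk ((hev a).prodMk (hev b))
    exact (isClosed_discrete {p : Bool × Bool × Bool | p.1 = true → p.2.1 = true ∨
      p.2.2 = true}).preimage hc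
  exact h0.inter (h1.inter (h2.inter (h3.inter h4)))

/-- the patch space: `Spec A` with its constructible topology, as a profinite space -/
def PT : Type u := PTset A

instance : TopologicalSpace (PT A) := inferInstanceAs (TopologicalSpace (PTset A))
instance : CompactSpace (PT A) := isCompact_iff_compactSpace.mp (isClosed_PTset A).isCompact
instance : T2Space (PT A) := inferInstanceAs (T2Space (PTset A))
instance : TotallyDisconnectedSpace (PT A) := inferInstanceAs (TotallyDisconnectedSpace (PTset A))

variable {A}

/-- the prime ideal of a point of the patch space -/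
def PT.toPrime (s : PT A) : PrimeSpectrum A :=
  ⟨{ carrier := {a | s.1 a = true}
     zero_mem' := s.2.1
     add_mem' := fun {a b} ha hb => s.2.2.2.1 a b ha hb
     smul_mem' := fun c a ha => s.2.2.2.2.1 c a ha },
   ⟨by
      intro h
      have h1 : (1 : A) ∈ ({ carrier := {a | s.1 a = true}
                             zero_mem' := s.2.1
                             add_mem' := fun {a b} ha hb => s.2.2.2.1 a b ha hb
                             smul_mem' := fun c a ha => s.2.2.2.2.1 c a ha } : Ideal A) := by
        rw [h]; trivial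
      have h2 : s.1 1 = true := h1
      rw [s.2.2.1] at h2
      exact Bool.false_ne_true h2,
    fun {a b} hab => s.2.2.2.2.2 a b hab⟩⟩

theorem PT.mem_toPrime {s : PT A} {a : A} : a ∈ (PT.toPrime s).asIdeal ↔ s.1 a = true := Iff.rfl

theorem PT.toPrime_bijective : Function.Bijective (PT.toPrime (A := A)) := by
  classical
  constructor
  · intro s s' h
    apply Subtype.ext
    funext a
    have : a ∈ (PT.toPrime s).asIdeal ↔ a ∈ (PT.toPrime s').asIdeal := by rw [h]
    rw [PT.mem_toPrime, PT.mem_toPrime] at this
    cases h1 : s.1 a <;> cases h2 : s'.1 a <;> simp_all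
  · intro p
    refine ⟨⟨fun a => decide (a ∈ p.asIdeal), ?_, ?_, ?_, ?_, ?_⟩, ?_⟩
    · simp
    · simp only [decide_eq_false_iff_not]
      exact fun h => p.2.ne_top ((Ideal.eq_top_iff_one _).mpr h)
    · intro a b ha hb
      simp only [decide_eq_true_eq] at ha hb ⊢
      exact Ideal.add_mem _ ha hb
    · intro a b hb
      simp only [decide_eq_true_eq] at hb ⊢
      exact Ideal.mul_mem_left _ _ hb
    · intro a b hab
      simp only [decide_eq_true_eq] at hab ⊢
      exact p.2.mem_or_mem hab
    · ext a
      rw [PT.mem_toPrime]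
      simp

theorem PT.isOpen_preimage_basicOpen (a : A) :
    IsOpen (PT.toPrime ⁻¹' (PrimeSpectrum.basicOpen a : Set (PrimeSpectrum A))) := by
  have : PT.toPrime ⁻¹' (PrimeSpectrum.basicOpen a : Set (PrimeSpectrum A)) =
      (fun s : PT A => s.1 a) ⁻¹' {false} := by
    ext s
    show a ∉ (PT.toPrime s).asIdeal ↔ s.1 a = false
    rw [PT.mem_toPrime]
    simp
  rw [this]
  exact (isOpen_discrete _).preimage
    ((continuous_apply a : Continuous fun s : A → Bool => s a).comp continuous_subtype_val)

theorem PT.isOpen_preimage_zeroLocus (a : A) :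
    IsOpen (PT.toPrime ⁻¹' (PrimeSpectrum.zeroLocus {a} : Set (PrimeSpectrum A))) := by
  have : PT.toPrime ⁻¹' (PrimeSpectrum.zeroLocus {a} : Set (PrimeSpectrum A)) =
      (fun s : PT A => s.1 a) ⁻¹' {true} := by
    ext s
    simp only [Set.mem_preimage, PrimeSpectrum.mem_zeroLocus, Set.singleton_subset_iff,
      SetLike.mem_coe, Set.mem_singleton_iff]
    exact PT.mem_toPrime
  rw [this]
  exact (isOpen_discrete _).preimage
    ((continuous_apply a : Continuous fun s : A → Bool => s a).comp continuous_subtype_val)

theorem PT.continuous_toPrime : Continuous (PT.toPrime (A := A)) := by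
  rw [PrimeSpectrum.isTopologicalBasis_basic_opens.continuous_iff]
  rintro _ ⟨a, rfl⟩
  exact PT.isOpen_preimage_basicOpen a

end patch

section construction

variable {A : Type u} [CommRing A] {T : Type u} [TopologicalSpace T] (π : T → PrimeSpectrum A)

/-- the multiplicative set of locally constant functions with `f t ∉ π t` for all `t` -/
def S : Submonoid (LocallyConstant T A) where
  carrier := {f | ∀ t, f t ∉ (π t).asIdeal}
  one_mem' := fun t h => (π t).2.ne_top ((Ideal.eq_top_iff_one _).mpr h)
  mul_mem' := fun {f g} hf hg t h => ((π t).2.mem_or_mem h).elim (hf t) (hg t)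

theorem mem_S {f : LocallyConstant T A} : f ∈ S π ↔ ∀ t, f t ∉ (π t).asIdeal := Iff.rfl

/-- the ring `S⁻¹ LocallyConstant(T, A)` -/
abbrev Bw : Type u := Localization (S π)

variable [CompactSpace T] [T2Space T] [TotallyDisconnectedSpace T]

/-- the embedding `Spec Bw → Spec A × T` -/
noncomputable def psi (y : PrimeSpectrum (Bw π)) : PrimeSpectrum A × T :=
  thetaHomeo.symm (PrimeSpectrum.comap (algebraMap (LocallyConstant T A) (Bw π)) y)

theorem theta_psi (y : PrimeSpectrum (Bw π)) :
    theta (psi π y) = PrimeSpectrum.comap (algebraMap (LocallyConstant T A) (Bw π)) y :=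
  thetaHomeo.apply_symm_apply _

theorem psi_fst (y : PrimeSpectrum (Bw π)) :
    (psi π y).1 = PrimeSpectrum.comap (algebraMap A (Bw π)) y := by
  rw [← comap_theta (psi π y), theta_psi]
  ext a
  simp only [PrimeSpectrum.comap_asIdeal, Ideal.mem_comap]
  rw [IsScalarTower.algebraMap_apply A (LocallyConstant T A) (Bw π)]

theorem isEmbedding_psi : IsEmbedding (psi π) :=
  thetaHomeo.symm.isEmbedding.comp
    (PrimeSpectrum.localization_comap_isEmbedding (Bw π) (S π))

theorem algebraMap_mem_iff (y : PrimeSpectrum (Bw π)) (f : LocallyConstant T A) :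
    algebraMap (LocallyConstant T A) (Bw π) f ∈ y.asIdeal ↔
      f (psi π y).2 ∈ (psi π y).1.asIdeal := by
  rw [← mem_theta, theta_psi]
  rfl

theorem mk'_mem_iff (y : PrimeSpectrum (Bw π)) (f : LocallyConstant T A) (s : S π) :
    IsLocalization.mk' (Bw π) f s ∈ y.asIdeal ↔ f (psi π y).2 ∈ (psi π y).1.asIdeal := by
  rw [IsLocalization.mk'_mem_iff, algebraMap_mem_iff]

theorem algebraMap_mem_iff' (y : PrimeSpectrum (Bw π)) (a : A) :
    algebraMap A (Bw π) a ∈ y.asIdeal ↔ a ∈ (psi π y).1.asIdeal := by
  rw [psi_fst]
  rfl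

theorem range_psi (hπ : Continuous π) :
    Set.range (psi π) = {z : PrimeSpectrum A × T | z.1.asIdeal ≤ (π z.2).asIdeal} := by
  have hr := PrimeSpectrum.localization_comap_range (Bw π) (S π)
  ext z
  have h1 : z ∈ Set.range (psi π) ↔
      theta z ∈ Set.range (PrimeSpectrum.comap (algebraMap (LocallyConstant T A) (Bw π))) := by
    constructor
    · rintro ⟨y, rfl⟩
      exact ⟨y, (theta_psi π y).symm⟩
    · rintro ⟨y, hy⟩
      refine ⟨y, ?_⟩
      unfold psi
      rw [hy]
      exact thetaHomeo.symm_apply_apply z
  rw [h1, hr]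
  obtain ⟨p, t⟩ := z
  simp only [Set.mem_setOf_eq]
  constructor
  · intro hdisj
    by_contra hle
    obtain ⟨a, hap, haπ⟩ := SetLike.not_le_iff_exists.mp hle
    have hap : a ∈ p.asIdeal := hap
    have haπ : a ∉ (π t).asIdeal := haπ
    have hopen : IsOpen (π ⁻¹' (PrimeSpectrum.basicOpen a : Set (PrimeSpectrum A))) :=
      (PrimeSpectrum.basicOpen a).2.preimage hπ
    obtain ⟨U, hU, htU, hUsub⟩ := compact_exists_isClopen_in_isOpen hopen
      (show t ∈ π ⁻¹' (PrimeSpectrum.basicOpen a : Set (PrimeSpectrum A)) from haπ)
    let f : LocallyConstant T A :=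
      algebraMap A (LocallyConstant T A) a * LocallyConstant.charFn A hU +
        (1 - LocallyConstant.charFn A hU)
    have hfS : f ∈ S π := by
      intro t'
      by_cases ht' : t' ∈ U
      · have : f t' = a := by
          simp only [f, LocallyConstant.add_apply, LocallyConstant.mul_apply,
            LocallyConstant.sub_apply, LocallyConstant.one_apply, const_apply,
            charFn_apply_of_mem hU ht']
          ring
        rw [this]
        exact hUsub ht'
      · have : f t' = 1 := by
          simp only [f, LocallyConstant.add_apply, LocallyConstant.mul_apply,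
            LocallyConstant.sub_apply, LocallyConstant.one_apply, const_apply,
            charFn_apply_of_notMem hU ht']
          ring
        rw [this]
        exact fun h => (π t').2.ne_top ((Ideal.eq_top_iff_one _).mpr h)
    have hfθ : f ∈ (theta (p, t)).asIdeal := by
      rw [mem_theta]
      have : f t = a := by
        simp only [f, LocallyConstant.add_apply, LocallyConstant.mul_apply,
          LocallyConstant.sub_apply, LocallyConstant.one_apply, const_apply,
          charFn_apply_of_mem hU htU]
        ring
      show f t ∈ p.asIdeal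
      rw [this]
      exact hap
    exact Set.disjoint_left.mp hdisj hfS hfθ
  · intro hle
    rw [Set.disjoint_left]
    intro f hfS hfθ
    rw [SetLike.mem_coe, mem_theta] at hfθ
    exact hfS t (hle hfθ)

theorem psi_le (hπ : Continuous π) (y : PrimeSpectrum (Bw π)) :
    (psi π y).1 ≤ π (psi π y).2 := by
  show (psi π y).1.asIdeal ≤ (π (psi π y).2).asIdeal
  have : psi π y ∈ Set.range (psi π) := ⟨y, rfl⟩
  rw [range_psi π hπ] at this
  exact this

theorem exists_psi_eq (hπ : Continuous π) (z : PrimeSpectrum A × T) (hz : z.1 ≤ π z.2) :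
    ∃ y, psi π y = z := by
  have : z ∈ Set.range (psi π) := by
    rw [range_psi π hπ]
    exact hz
  exact this

theorem specializes_iff (y y' : PrimeSpectrum (Bw π)) :
    y ⤳ y' ↔ (psi π y).1 ⤳ (psi π y').1 ∧ (psi π y).2 = (psi π y').2 := by
  rw [← (isEmbedding_psi π).isInducing.specializes_iff]
  have h := specializes_prod (x₁ := (psi π y).1) (x₂ := (psi π y').1) (y₁ := (psi π y).2)
    (y₂ := (psi π y').2)
  rw [specializes_iff_eq (x := (psi π y).2)] at h
  exact h

/-- the closed point in the component of `t` -/
theorem exists_closedPt (hπ : Continuous π) (t : T) : ∃ y, psi π y = (π t, t) :=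
  exists_psi_eq π hπ (π t, t) le_rfl

theorem isClosed_singleton_iff (hπ : Continuous π) (y : PrimeSpectrum (Bw π)) :
    IsClosed ({y} : Set (PrimeSpectrum (Bw π))) ↔ (psi π y).1 = π (psi π y).2 := by
  rw [isClosed_singleton_iff_forall_specializes]
  constructor
  · intro h
    obtain ⟨y₀, hy₀⟩ := exists_closedPt π hπ (psi π y).2
    have hsp : y ⤳ y₀ := by
      rw [specializes_iff, hy₀]
      exact ⟨(PrimeSpectrum.le_iff_specializes _ _).mp (psi_le π hπ y), rfl⟩
    have := h y₀ hsp
    rw [← this, hy₀]
  · intro h y' hy'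
    rw [specializes_iff] at hy'
    apply (isEmbedding_psi π).injective
    have h1 : (psi π y).1 ≤ (psi π y').1 := (PrimeSpectrum.le_iff_specializes _ _).mpr hy'.1
    have h2 : (psi π y').1 ≤ π (psi π y').2 := psi_le π hπ y'
    rw [← hy'.2, ← h] at h2
    exact Prod.ext (le_antisymm h2 h1) hy'.2.symm

theorem existsUnique_closed_specialization (hπ : Continuous π) (y : PrimeSpectrum (Bw π)) :
    ∃! y₀, IsClosed ({y₀} : Set (PrimeSpectrum (Bw π))) ∧ y ⤳ y₀ := by
  obtain ⟨y₀, hy₀⟩ := exists_closedPt π hπ (psi π y).2
  refine ⟨y₀, ⟨?_, ?_⟩, ?_⟩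
  · rw [isClosed_singleton_iff π hπ, hy₀]
  · rw [specializes_iff, hy₀]
    exact ⟨(PrimeSpectrum.le_iff_specializes _ _).mp (psi_le π hπ y), rfl⟩
  · rintro y₁ ⟨hy₁c, hy₁s⟩
    rw [isClosed_singleton_iff π hπ] at hy₁c
    rw [specializes_iff] at hy₁s
    apply (isEmbedding_psi π).injective
    rw [hy₀]
    exact Prod.ext (by rw [hy₁c, hy₁s.2]) hy₁s.2.symm

theorem isClosed_closedPoints (hπ : Continuous π)
    (hcons : ∀ a : A, IsOpen (π ⁻¹' (PrimeSpectrum.zeroLocus {a} : Set (PrimeSpectrum A)))) :
    IsClosed {y : PrimeSpectrum (Bw π) | IsClosed ({y} : Set (PrimeSpectrum (Bw π)))} := by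
  rw [← isOpen_compl_iff, isOpen_iff_forall_mem_open]
  intro y hy
  have hy' : (psi π y).1 ≠ π (psi π y).2 := fun h => hy ((isClosed_singleton_iff π hπ y).mpr h)
  have hle := psi_le π hπ y
  have hnle : ¬ (π (psi π y).2).asIdeal ≤ (psi π y).1.asIdeal := fun h => hy' (le_antisymm hle h)
  obtain ⟨a, haπ, hap⟩ := SetLike.not_le_iff_exists.mp hnle
  have haπ : a ∈ (π (psi π y).2).asIdeal := haπ
  have hap : a ∉ (psi π y).1.asIdeal := hap
  refine ⟨psi π ⁻¹' ((PrimeSpectrum.basicOpen a : Set (PrimeSpectrum A)) ×ˢ
    (π ⁻¹' (PrimeSpectrum.zeroLocus {a} : Set (PrimeSpectrum A)))), ?_, ?_, ?_⟩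
  · rintro y' ⟨h1, h2⟩ hy'c
    have h3 := (isClosed_singleton_iff π hπ y').mp hy'c
    have h4 : a ∈ (π (psi π y').2).asIdeal := by
      simpa using h2
    rw [← h3] at h4
    exact h1 h4
  · exact ((PrimeSpectrum.basicOpen a).2.prod (hcons a)).preimage (isEmbedding_psi π).continuous
  · refine ⟨hap, ?_⟩
    show π (psi π y).2 ∈ PrimeSpectrum.zeroLocus {a}
    simpa using haπ

theorem isWLocal (hπ : Continuous π)
    (hcons : ∀ a : A, IsOpen (π ⁻¹' (PrimeSpectrum.zeroLocus {a} : Set (PrimeSpectrum A)))) :
    ProEtW.IsWLocal (PrimeSpectrum (Bw π)) :=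
  ⟨inferInstance, isClosed_closedPoints π hπ hcons, existsUnique_closed_specialization π hπ⟩

theorem exists_pi0_homeo (hπ : Continuous π) :
    ∃ e : _root_.ConnectedComponents (PrimeSpectrum (Bw π)) ≃ₜ T,
      ∀ y, e (_root_.ConnectedComponents.mk y) = (psi π y).2 := by
  let τ : PrimeSpectrum (Bw π) → T := fun y => (psi π y).2
  have hτ : Continuous τ := continuous_snd.comp (isEmbedding_psi π).continuous
  have hinj : Function.Injective hτ.connectedComponentsLift := by
    intro a b hab
    obtain ⟨y₁, rfl⟩ := _root_.ConnectedComponents.surjective_coe a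
    obtain ⟨y₂, rfl⟩ := _root_.ConnectedComponents.surjective_coe b
    rw [hτ.connectedComponentsLift_apply_coe, hτ.connectedComponentsLift_apply_coe] at hab
    obtain ⟨y₀, hy₀⟩ := exists_closedPt π hπ (psi π y₁).2
    have h1 : y₁ ⤳ y₀ := by
      rw [specializes_iff, hy₀]
      exact ⟨(PrimeSpectrum.le_iff_specializes _ _).mp (psi_le π hπ y₁), rfl⟩
    have h2 : y₂ ⤳ y₀ := by
      rw [specializes_iff, hy₀]
      refine ⟨?_, hab.symm⟩
      have := (PrimeSpectrum.le_iff_specializes _ _).mp (psi_le π hπ y₂)
      rw [show (psi π y₂).2 = (psi π y₁).2 from hab.symm] at this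
      exact this
    rw [← mk_eq_of_specializes _ h1, ← mk_eq_of_specializes _ h2]
  have hsurj : Function.Surjective hτ.connectedComponentsLift := by
    intro t
    obtain ⟨y₀, hy₀⟩ := exists_closedPt π hπ t
    refine ⟨_root_.ConnectedComponents.mk y₀, ?_⟩
    rw [hτ.connectedComponentsLift_apply_coe]
    show (psi π y₀).2 = t
    rw [hy₀]
  let e₀ := Equiv.ofBijective _ ⟨hinj, hsurj⟩
  have he₀ : Continuous e₀ := hτ.connectedComponentsLift_continuous
  exact ⟨he₀.homeoOfEquivCompactToT2, fun y => hτ.connectedComponentsLift_apply_coe y⟩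

theorem identifiesLocalRings (hπ : Continuous π) : EtPBC.IdentifiesLocalRings A (Bw π) := by
  intro y
  apply localRingHom_bijective_of
  · rintro r ⟨c, hc, hcr⟩
    obtain ⟨f, s, rfl⟩ := IsLocalization.exists_mk'_eq (S π) c
    rw [mk'_mem_iff] at hc
    rw [IsScalarTower.algebraMap_apply A (LocallyConstant T A) (Bw π), mul_comm,
      IsLocalization.mul_mk'_eq_mk'_of_mul, IsLocalization.mk'_eq_zero_iff] at hcr
    obtain ⟨⟨m, hm⟩, hmr⟩ := hcr
    have h1 := congrArg (fun k : LocallyConstant T A => k (psi π y).2) hmr
    simp only [LocallyConstant.mul_apply, const_apply, LocallyConstant.zero_apply] at h1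
    refine ⟨m (psi π y).2 * f (psi π y).2, ?_, ?_⟩
    · show algebraMap A (Bw π) (m (psi π y).2 * f (psi π y).2) ∉ y.asIdeal
      rw [algebraMap_mem_iff']
      intro hmem
      rcases (psi π y).1.2.mem_or_mem hmem with h | h
      · exact hm _ (psi_le π hπ y h)
      · exact hc h
    · linear_combination h1
  · intro x
    obtain ⟨f, s, rfl⟩ := IsLocalization.exists_mk'_eq (S π) x
    let s' : LocallyConstant T A := s
    let U : Set T := {t' | f t' = f (psi π y).2} ∩ {t' | s' t' = s' (psi π y).2}
    have hU : IsClopen U := (f.isLocallyConstant.isClopen_fiber _).inter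
      (s'.isLocallyConstant.isClopen_fiber _)
    refine ⟨f (psi π y).2, s' (psi π y).2,
      algebraMap (LocallyConstant T A) (Bw π) (LocallyConstant.charFn A hU), ?_, ?_, ?_⟩
    · show algebraMap A (Bw π) (s' (psi π y).2) ∉ y.asIdeal
      rw [algebraMap_mem_iff']
      exact fun h => s.2 _ (psi_le π hπ y h)
    · rw [algebraMap_mem_iff, charFn_apply_of_mem hU ⟨rfl, rfl⟩]
      exact fun h => (psi π y).1.2.ne_top ((Ideal.eq_top_iff_one _).mpr h)
    · have key : LocallyConstant.charFn A hU *
          (algebraMap A (LocallyConstant T A) (s' (psi π y).2) * f -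
            algebraMap A (LocallyConstant T A) (f (psi π y).2) * s') = 0 := by
        ext t'
        by_cases ht' : t' ∈ U
        · simp only [LocallyConstant.mul_apply, LocallyConstant.sub_apply, const_apply,
            LocallyConstant.zero_apply]
          rw [show f t' = f (psi π y).2 from ht'.1, show s' t' = s' (psi π y).2 from ht'.2]
          ring
        · simp only [LocallyConstant.mul_apply, charFn_apply_of_notMem hU ht', zero_mul,
            LocallyConstant.zero_apply]
      have h0 : algebraMap (LocallyConstant T A) (Bw π) (LocallyConstant.charFn A hU) *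
          (algebraMap A (Bw π) (s' (psi π y).2) * IsLocalization.mk' (Bw π) f s -
            algebraMap A (Bw π) (f (psi π y).2)) =
          IsLocalization.mk' (Bw π) (LocallyConstant.charFn A hU *
            (algebraMap A (LocallyConstant T A) (s' (psi π y).2) * f -
              algebraMap A (LocallyConstant T A) (f (psi π y).2) * s')) s := by
        rw [IsLocalization.eq_mk'_iff_mul_eq,
          IsScalarTower.algebraMap_apply A (LocallyConstant T A) (Bw π),
          IsScalarTower.algebraMap_apply A (LocallyConstant T A) (Bw π)]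
        have hspec := IsLocalization.mk'_spec (Bw π) f s
        simp only [map_mul, map_sub]
        linear_combination (algebraMap (LocallyConstant T A) (Bw π) (LocallyConstant.charFn A hU) *
          algebraMap (LocallyConstant T A) (Bw π)
            (algebraMap A (LocallyConstant T A) (s' (psi π y).2))) * hspec
      rw [h0, key, IsLocalization.mk'_zero]

theorem flat (hπ : Continuous π) : Module.Flat A (Bw π) :=
  flat_of_identifiesLocalRings (identifiesLocalRings π hπ)

theorem faithfullyFlat (hπ : Continuous π) (hsurj : Function.Surjective π) :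
    Module.FaithfullyFlat A (Bw π) := by
  haveI : Module.Flat A (Bw π) := flat π hπ
  apply Module.FaithfullyFlat.of_comap_surjective
  intro p
  obtain ⟨t, rfl⟩ := hsurj p
  obtain ⟨y, hy⟩ := exists_closedPt π hπ t
  exact ⟨y, by rw [← psi_fst, hy]⟩

theorem bijOn_closedPoints (hπ : Continuous π) (hbij : Function.Bijective π) :
    Set.BijOn (PrimeSpectrum.comap (algebraMap A (Bw π)))
      (ProEtW.closedPoints (PrimeSpectrum (Bw π))) Set.univ := by
  refine ⟨fun _ _ => Set.mem_univ _, ?_, ?_⟩
  · intro y₁ h₁ y₂ h₂ h
    have h₁' := (isClosed_singleton_iff π hπ y₁).mp h₁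
    have h₂' := (isClosed_singleton_iff π hπ y₂).mp h₂
    rw [← psi_fst, ← psi_fst] at h
    apply (isEmbedding_psi π).injective
    have : (psi π y₁).2 = (psi π y₂).2 := hbij.1 (by rw [← h₁', ← h₂', h])
    exact Prod.ext h this
  · intro p _
    obtain ⟨t, rfl⟩ := hbij.2 p
    obtain ⟨y, hy⟩ := exists_closedPt π hπ t
    refine ⟨y, ?_, by rw [← psi_fst, hy]⟩
    show IsClosed ({y} : Set (PrimeSpectrum (Bw π)))
    rw [isClosed_singleton_iff π hπ, hy]

end construction

end Groth.Agent.Lib.Seat3.WLoc
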