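import Mathlib
import Groth.Prelude.Def_PBC
import Groth.Agent.Lib.Seat3IndZar
import Groth.Agent.Lib.Seat3WLoc

/-!
# Ind-Zariski algebras identify local rings (seat 3)

* `factor_of_isIndZariski`: maps from finitely presented algebras into an ind-Zariski algebra factor
  through a local isomorphism; hence `hitAll_of_isIndZariski`, `killAll_of_isIndZariski` (the
  converse of the criterion `isIndZariski_of_hitAll_killAll`);
* `localIso_surj`, `localIso_inj`: a local isomorphism identifies local rings (elementwise form);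
* `identifiesLocalRings_of_isIndZariski`, `flat_of_isIndZariski`.
-/

set_option autoImplicit false

open CategoryTheory CategoryTheory.Limits

universe u

namespace Groth.Agent.Lib.Seat3.IndZarILR

open Groth.Agent.Lib.Seat3.IndZar Groth.Agent.Lib.Seat3.WLoc

/-- maps from finitely presented algebras to an ind-Zariski algebra factor through a local
isomorphism -/
theorem factor_of_isIndZariski {A B : Type u} [CommRing A] [CommRing B] [Algebra A B]
    (h : EtPBC.IsIndZariski A B) (P : Type u) [CommRing P] [Algebra A P]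
    [Algebra.FinitePresentation A P] (ψ : P →ₐ[A] B) :
    ∃ (E : Type u) (_ : CommRing E) (_ : Algebra A E) (_ : Algebra.IsLocalIso A E)
      (u : P →ₐ[A] E) (v : E →ₐ[A] B), v.comp u = ψ := by
  obtain ⟨J, _, _, D, c, hc, hD, ⟨e⟩⟩ := h
  letI : Algebra (CommRingCat.of A) P := inferInstanceAs (Algebra A P)
  letI : Algebra (CommRingCat.of A) B := inferInstanceAs (Algebra A B)
  let X : Under (CommRingCat.of A) := CommRingCat.mkUnder (CommRingCat.of A) P
  haveI : IsFinitelyPresentable.{u} X := by
    apply CommRingCat.isFinitelyPresentable_under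
    show (algebraMap A P).FinitePresentation
    rw [RingHom.finitePresentation_algebraMap]
    infer_instance
  let g : X ⟶ c.pt := AlgHom.toUnder (R := CommRingCat.of A) ψ ≫ e.inv
  obtain ⟨j, p, hp⟩ := IsFinitelyPresentable.exists_hom_of_isColimit hc g
  letI := (D.obj j).hom.hom.toAlgebra
  have hp' : p ≫ (c.ι.app j ≫ e.hom) = AlgHom.toUnder (R := CommRingCat.of A) ψ := by
    rw [← Category.assoc, hp, Category.assoc, e.inv_hom_id]
    exact Category.comp_id _
  refine ⟨(D.obj j).right, inferInstance, inferInstance, hD j,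
    { toRingHom := p.right.hom
      commutes' := fun a => congr($(Under.w p).hom a) },
    { toRingHom := (c.ι.app j ≫ e.hom).right.hom
      commutes' := fun a => congr($(Under.w (c.ι.app j ≫ e.hom)).hom a) }, ?_⟩
  apply AlgHom.ext
  intro x
  exact congr($(hp').right.hom x)

theorem hitAll_of_isIndZariski {A B : Type u} [CommRing A] [CommRing B] [Algebra A B]
    (h : EtPBC.IsIndZariski A B) : HitAll A B := by
  intro b
  obtain ⟨E, _, _, _, u, v, huv⟩ := factor_of_isIndZariski h (Polynomial A) (Polynomial.aeval b)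
  refine ⟨E, inferInstance, inferInstance, inferInstance, v, u Polynomial.X, ?_⟩
  have := congr($huv Polynomial.X)
  rw [AlgHom.comp_apply] at this
  rw [this, Polynomial.aeval_X]

theorem killAll_of_isIndZariski {A B : Type u} [CommRing A] [CommRing B] [Algebra A B]
    (h : EtPBC.IsIndZariski A B) : KillAll A B := by
  intro R _ _ _ ρ r hr
  haveI : Algebra.FinitePresentation A R := finitePresentation_of_isLocalIso A R
  haveI : Algebra.FinitePresentation A (R ⧸ Ideal.span ({r} : Set R)) :=
    Algebra.FinitePresentation.quotient ⟨{r}, by simp⟩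
  let ψ : (R ⧸ Ideal.span ({r} : Set R)) →ₐ[A] B :=
    Ideal.Quotient.liftₐ (Ideal.span ({r} : Set R)) ρ (fun a ha => by
      obtain ⟨z, rfl⟩ := Ideal.mem_span_singleton'.mp ha
      rw [map_mul, hr, mul_zero])
  obtain ⟨E, _, _, _, u, v, huv⟩ := factor_of_isIndZariski h _ ψ
  refine ⟨E, inferInstance, inferInstance, inferInstance, v,
    u.comp (Ideal.Quotient.mkₐ A (Ideal.span ({r} : Set R))), ?_, ?_⟩
  · rw [← AlgHom.comp_assoc, huv]
    apply AlgHom.ext
    intro x
    rfl
  · rw [AlgHom.comp_apply]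
    have : Ideal.Quotient.mkₐ A (Ideal.span ({r} : Set R)) r = 0 :=
      Ideal.Quotient.eq_zero_iff_mem.mpr (Ideal.subset_span rfl)
    rw [this, map_zero]

section localIso

variable {A R : Type u} [CommRing A] [CommRing R] [Algebra A R] [Algebra.IsLocalIso A R]

/-- local structure of a local isomorphism at a prime -/
theorem localIso_aux (q : Ideal R) [q.IsPrime] :
    ∃ (g₀ : R) (s₀ : A), g₀ ∉ q ∧ algebraMap A R s₀ ∉ q ∧
      IsLocalization.Away s₀ (Localization.Away g₀) := by
  obtain ⟨g₀, hg₀, hstd⟩ := Algebra.IsLocalIso.exists_notMem_isStandardOpenImmersion (R := A) q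
  obtain ⟨s₀, hs₀⟩ := hstd.exists_away
  refine ⟨g₀, s₀, hg₀, ?_, hs₀⟩
  intro hmem
  have hq : (⟨q, inferInstance⟩ : PrimeSpectrum R) ∈ PrimeSpectrum.basicOpen g₀ := hg₀
  rw [← SetLike.mem_coe, ← PrimeSpectrum.localization_away_comap_range (Localization.Away g₀) g₀]
    at hq
  obtain ⟨q', hq'⟩ := hq
  have h1 : algebraMap R (Localization.Away g₀) (algebraMap A R s₀) ∈ q'.asIdeal := by
    have : algebraMap A R s₀ ∈
        (PrimeSpectrum.comap (algebraMap R (Localization.Away g₀)) q').asIdeal := by
      rw [hq']; exact hmem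
    exact this
  have h2 : IsUnit (algebraMap R (Localization.Away g₀) (algebraMap A R s₀)) := by
    rw [← IsScalarTower.algebraMap_apply]
    exact IsLocalization.Away.algebraMap_isUnit s₀
  exact q'.2.ne_top (Ideal.eq_top_of_isUnit_mem _ h1 h2)

/-- a local isomorphism is surjective on local rings (elementwise form) -/
theorem localIso_surj (q : Ideal R) [q.IsPrime] (x : R) :
    ∃ (r s : A) (c : R), algebraMap A R s ∉ q ∧ c ∉ q ∧
      c * (algebraMap A R s * x - algebraMap A R r) = 0 := by
  obtain ⟨g₀, s₀, hg₀, hs₀q, hs₀⟩ := localIso_aux (A := A) q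
  obtain ⟨⟨a, ⟨_, k, rfl⟩⟩, hz⟩ := IsLocalization.surj (Submonoid.powers s₀)
    (algebraMap R (Localization.Away g₀) x)
  simp only at hz
  have hz' : algebraMap R (Localization.Away g₀)
      (algebraMap A R s₀ ^ k * x - algebraMap A R a) = 0 := by
    rw [map_sub, map_mul, map_pow, ← IsScalarTower.algebraMap_apply A R (Localization.Away g₀),
      ← IsScalarTower.algebraMap_apply A R (Localization.Away g₀), ← map_pow, mul_comm, hz, sub_self]
  rw [IsLocalization.map_eq_zero_iff (Submonoid.powers g₀)] at hz'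
  obtain ⟨⟨_, j, rfl⟩, hj⟩ := hz'
  simp only at hj
  refine ⟨a, s₀ ^ k, g₀ ^ j, ?_, ?_, ?_⟩
  · rw [map_pow]
    exact fun h => hs₀q (Ideal.IsPrime.mem_of_pow_mem inferInstance k h)
  · exact fun h => hg₀ (Ideal.IsPrime.mem_of_pow_mem inferInstance j h)
  · rw [map_pow]
    exact hj

/-- a local isomorphism is injective on local rings (elementwise form) -/
theorem localIso_inj (q : Ideal R) [q.IsPrime] (a : A)
    (h : ∃ c : R, c ∉ q ∧ c * algebraMap A R a = 0) :
    ∃ s : A, algebraMap A R s ∉ q ∧ s * a = 0 := by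
  obtain ⟨c, hc, hca⟩ := h
  obtain ⟨g₀, s₀, hg₀, hs₀q, hs₀⟩ := localIso_aux (A := A) q
  obtain ⟨⟨α, ⟨_, k, rfl⟩⟩, hz⟩ := IsLocalization.surj (Submonoid.powers s₀)
    (algebraMap R (Localization.Away g₀) c)
  simp only at hz
  have hz' : algebraMap R (Localization.Away g₀)
      (algebraMap A R s₀ ^ k * c - algebraMap A R α) = 0 := by
    rw [map_sub, map_mul, map_pow, ← IsScalarTower.algebraMap_apply A R (Localization.Away g₀),
      ← IsScalarTower.algebraMap_apply A R (Localization.Away g₀), ← map_pow, mul_comm, hz, sub_self]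
  rw [IsLocalization.map_eq_zero_iff (Submonoid.powers g₀)] at hz'
  obtain ⟨⟨_, j, rfl⟩, hj⟩ := hz'
  simp only at hj
  -- `g₀^j * φ(α) = g₀^j * φ(s₀)^k * c`
  have h1 : g₀ ^ j * algebraMap A R α = g₀ ^ j * (algebraMap A R s₀ ^ k * c) := by
    rw [mul_sub, sub_eq_zero] at hj
    exact hj.symm
  have hαq : algebraMap A R α ∉ q := by
    intro hmem
    have h2 : g₀ ^ j * (algebraMap A R s₀ ^ k * c) ∈ q := by
      rw [← h1]
      exact Ideal.mul_mem_left _ _ hmem
    rcases Ideal.IsPrime.mem_or_mem inferInstance h2 with h | h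
    · exact hg₀ (Ideal.IsPrime.mem_of_pow_mem inferInstance j h)
    · rcases Ideal.IsPrime.mem_or_mem inferInstance h with h | h
      · exact hs₀q (Ideal.IsPrime.mem_of_pow_mem inferInstance k h)
      · exact hc h
  -- `α * a` dies in the localization
  have h3 : algebraMap A (Localization.Away g₀) (α * a) = 0 := by
    rw [IsScalarTower.algebraMap_apply A R (Localization.Away g₀),
      IsLocalization.map_eq_zero_iff (Submonoid.powers g₀)]
    refine ⟨⟨g₀ ^ j, j, rfl⟩, ?_⟩
    show g₀ ^ j * algebraMap A R (α * a) = 0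
    rw [map_mul, ← mul_assoc, h1, mul_assoc, mul_assoc, hca, mul_zero, mul_zero]
  rw [IsLocalization.map_eq_zero_iff (Submonoid.powers s₀)] at h3
  obtain ⟨⟨_, m, rfl⟩, hm⟩ := h3
  simp only at hm
  refine ⟨s₀ ^ m * α, ?_, by rw [mul_assoc]; exact hm⟩
  rw [map_mul, map_pow]
  intro hmem
  rcases Ideal.IsPrime.mem_or_mem inferInstance hmem with h | h
  · exact hs₀q (Ideal.IsPrime.mem_of_pow_mem inferInstance m h)
  · exact hαq h

end localIso

/-- the criterion (S) + (I) implies that local rings are identified -/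
theorem identifiesLocalRings_of_hitAll_killAll {A B : Type u} [CommRing A] [CommRing B]
    [Algebra A B] (HS : HitAll A B) (HK : KillAll A B) : EtPBC.IdentifiesLocalRings A B := by
  intro y
  apply localRingHom_bijective_of
  · rintro r₀ ⟨c, hc, hcr⟩
    obtain ⟨R, _, _, _, ρ, c₁, rfl⟩ := HS c
    have h0 : ρ (c₁ * algebraMap A R r₀) = 0 := by
      rw [map_mul, AlgHom.commutes]
      exact hcr
    obtain ⟨R', _, _, _, ρ', θ, hρθ, hθ⟩ := HK R ρ _ h0
    haveI : (y.asIdeal.comap ρ'.toRingHom).IsPrime := Ideal.comap_isPrime _ _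
    have hθc : θ c₁ ∉ y.asIdeal.comap ρ'.toRingHom := by
      intro hmem
      apply hc
      have : ρ' (θ c₁) ∈ y.asIdeal := hmem
      rw [← AlgHom.comp_apply, hρθ] at this
      exact this
    obtain ⟨s, hs, hsr⟩ := localIso_inj (A := A) (y.asIdeal.comap ρ'.toRingHom) r₀
      ⟨θ c₁, hθc, by rw [← AlgHom.commutes θ, ← map_mul]; exact hθ⟩
    refine ⟨s, ?_, hsr⟩
    intro hmem
    apply hs
    show ρ' (algebraMap A R' s) ∈ y.asIdeal
    rw [AlgHom.commutes]
    exact hmem
  · intro x
    obtain ⟨R, _, _, _, ρ, x₁, rfl⟩ := HS x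
    haveI : (y.asIdeal.comap ρ.toRingHom).IsPrime := Ideal.comap_isPrime _ _
    obtain ⟨r, s, c, hs, hc, hcx⟩ := localIso_surj (A := A) (y.asIdeal.comap ρ.toRingHom) x₁
    refine ⟨r, s, ρ c, ?_, hc, ?_⟩
    · intro hmem
      apply hs
      show ρ (algebraMap A R s) ∈ y.asIdeal
      rw [AlgHom.commutes]
      exact hmem
    · have := congrArg ρ hcx
      rw [map_mul, map_sub, map_mul, AlgHom.commutes, AlgHom.commutes, map_zero] at this
      exact this

/-- an ind-Zariski algebra identifies local rings -/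
theorem identifiesLocalRings_of_isIndZariski {A B : Type u} [CommRing A] [CommRing B]
    [Algebra A B] (h : EtPBC.IsIndZariski A B) : EtPBC.IdentifiesLocalRings A B :=
  identifiesLocalRings_of_hitAll_killAll (hitAll_of_isIndZariski h) (killAll_of_isIndZariski h)

/-- an ind-Zariski algebra is flat -/
theorem flat_of_isIndZariski {A B : Type u} [CommRing A] [CommRing B]
    [Algebra A B] (h : EtPBC.IsIndZariski A B) : Module.Flat A B :=
  flat_of_identifiesLocalRings (identifiesLocalRings_of_isIndZariski h)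

end Groth.Agent.Lib.Seat3.IndZarILR
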