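import Mathlib
import Groth.Agent.Lib.Helper3IndEt
import Groth.Agent.Lib.Seat3IndZarILR
import Groth.Prelude.Def_ProEtW
import Groth.Prelude.Def_EtBase

/-!
Auxiliary lemmas for the w-strictly-local cover (S0692): local isomorphisms are étale, ind-Zariski
implies ind-étale, transfer of (strictly) henselian local rings along ring isomorphisms, primes of a
tensor product over a pair of primes, algebraic residue field extensions for ind-étale maps and
their stability under base change, lifting primes along a map which is bijective modulo an ideal.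
-/

set_option autoImplicit false

open TensorProduct AlgebraicGeometry CategoryTheory

universe u

namespace Groth.Agent.Lib.Seat3.WStrict

open Groth.Agent.Lib.Helper3.IndEt

/-- A local isomorphism is étale. -/
theorem etale_of_isLocalIso (R S : Type u) [CommRing R] [CommRing S] [Algebra R S]
    [Algebra.IsLocalIso R S] : Algebra.Etale R S := by
  rw [← RingHom.etale_algebraMap]
  refine RingHom.Etale.ofLocalizationSpanTarget (algebraMap R S)
    {g | Algebra.IsStandardOpenImmersion R (Localization.Away g)}
    (Algebra.IsLocalIso.span_isStandardOpenImmersion_eq_top R S) ?_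
  rintro ⟨g, hg⟩
  have hg' : Algebra.IsStandardOpenImmersion R (Localization.Away g) := hg
  obtain ⟨r, hr⟩ := hg'.exists_away
  rw [← IsScalarTower.algebraMap_eq R S (Localization.Away g), RingHom.etale_algebraMap]
  exact Algebra.Etale.of_isLocalizationAway r

/-- Ind-Zariski implies ind-étale. -/
theorem isIndEtale_of_isIndZariski {A B : Type u} [CommRing A] [CommRing B] [Algebra A B]
    (h : EtPBC.IsIndZariski A B) : EtPBC.IsIndEtale A B := by
  apply isIndEtale_of_factor
  intro P _ _ _ ψ
  obtain ⟨E, _, _, hE, v, w, hvw⟩ :=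
    Groth.Agent.Lib.Seat3.IndZarILR.factor_of_isIndZariski h P ψ
  exact ⟨E, inferInstance, inferInstance, etale_of_isLocalIso A E, v, w, hvw⟩

/-- Henselian local rings transfer along ring isomorphisms. -/
theorem henselianLocalRing_of_ringEquiv {R S : Type*} [CommRing R] [CommRing S] (e : R ≃+* S)
    [HenselianLocalRing R] : HenselianLocalRing S := by
  haveI : IsLocalRing S := e.isLocalRing
  refine ⟨fun f hf a₀ h₁ h₂ => ?_⟩
  have hmem : ∀ x : S, x ∈ IsLocalRing.maximalIdeal S ↔ e.symm x ∈ IsLocalRing.maximalIdeal R := by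
    intro x
    rw [IsLocalRing.mem_maximalIdeal, IsLocalRing.mem_maximalIdeal, mem_nonunits_iff,
      mem_nonunits_iff, not_iff_not]
    exact (isUnit_map_iff e.symm x).symm
  have h1 : (f.map (e.symm : S →+* R)).eval (e.symm a₀) ∈ IsLocalRing.maximalIdeal R := by
    rw [Polynomial.eval_map]
    show Polynomial.eval₂ (e.symm : S →+* R) ((e.symm : S →+* R) a₀) f ∈ _
    rw [Polynomial.eval₂_at_apply]
    exact (hmem _).mp h₁
  have h2 : IsUnit ((f.map (e.symm : S →+* R)).derivative.eval (e.symm a₀)) := by
    rw [Polynomial.derivative_map, Polynomial.eval_map]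
    show IsUnit (Polynomial.eval₂ (e.symm : S →+* R) ((e.symm : S →+* R) a₀) _)
    rw [Polynomial.eval₂_at_apply]
    exact h₂.map (e.symm : S →+* R)
  obtain ⟨a, ha, haa⟩ := HenselianLocalRing.is_henselian (f.map (e.symm : S →+* R))
    (hf.map _) (e.symm a₀) h1 h2
  refine ⟨e a, ?_, ?_⟩
  · rw [Polynomial.IsRoot.def] at ha ⊢
    have := congrArg (e : R →+* S) ha
    rw [Polynomial.eval_map, Polynomial.hom_eval₂, map_zero] at this
    have hid : (e : R →+* S).comp (e.symm : S →+* R) = RingHom.id S := by
      ext x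
      simp
    rw [hid, Polynomial.eval₂_id] at this
    exact this
  · rw [hmem, map_sub, e.symm_apply_apply]
    exact haa

/-- primes containing `I` lift along a ring map inducing a bijection modulo `I` -/
theorem exists_prime_of_bijective_quotientMap {R S : Type u} [CommRing R] [CommRing S]
    [Algebra R S] (I : Ideal R)
    (hbij : Function.Bijective (Ideal.quotientMap (I.map (algebraMap R S)) (algebraMap R S)
      Ideal.le_comap_map))
    (q : PrimeSpectrum R) (hq : I ≤ q.asIdeal) :
    ∃ y : PrimeSpectrum S, PrimeSpectrum.comap (algebraMap R S) y = q := by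
  let φ := Ideal.quotientMap (I.map (algebraMap R S)) (algebraMap R S) Ideal.le_comap_map
  let e : (R ⧸ I) ≃+* (S ⧸ I.map (algebraMap R S)) := RingEquiv.ofBijective φ hbij
  have hker : RingHom.ker (Ideal.Quotient.mk I) ≤ q.asIdeal := by
    rw [Ideal.mk_ker]
    exact hq
  haveI hprime : (q.asIdeal.map (Ideal.Quotient.mk I)).IsPrime :=
    Ideal.map_isPrime_of_surjective Ideal.Quotient.mk_surjective hker
  let Qb : Ideal (S ⧸ I.map (algebraMap R S)) :=
    (q.asIdeal.map (Ideal.Quotient.mk I)).comap (e.symm : (S ⧸ I.map (algebraMap R S)) →+* (R ⧸ I))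
  haveI : Qb.IsPrime := Ideal.comap_isPrime _ _
  refine ⟨⟨Qb.comap (Ideal.Quotient.mk _), Ideal.comap_isPrime _ _⟩, ?_⟩
  apply PrimeSpectrum.ext
  ext x
  show (e.symm : (S ⧸ I.map (algebraMap R S)) →+* (R ⧸ I)) (Ideal.Quotient.mk _ (algebraMap R S x)) ∈
    q.asIdeal.map (Ideal.Quotient.mk I) ↔ x ∈ q.asIdeal
  have h1 : Ideal.Quotient.mk (I.map (algebraMap R S)) (algebraMap R S x) =
      e (Ideal.Quotient.mk I x) := rfl
  rw [h1]
  show e.symm (e (Ideal.Quotient.mk I x)) ∈ _ ↔ _
  rw [e.symm_apply_apply, Ideal.mem_map_iff_of_surjective _ Ideal.Quotient.mk_surjective]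
  constructor
  · rintro ⟨x', hx', hxx'⟩
    have : x' - x ∈ I := Ideal.Quotient.eq.mp hxx'
    have h2 : x = x' - (x' - x) := by ring
    rw [h2]
    exact q.asIdeal.sub_mem hx' (hq this)
  · intro hx
    exact ⟨x, hx, rfl⟩

theorem isSepClosed_of_ringEquiv {K K' : Type*} [Field K] [Field K'] [IsSepClosed K]
    (e : K ≃+* K') : IsSepClosed K' := by
  refine ⟨fun p hp => ?_⟩
  have h1 : (p.map (e.symm : K' →+* K)).Separable := hp.map
  have h2 := IsSepClosed.splits_of_separable _ h1
  have h3 := h2.map (e : K →+* K')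
  rw [Polynomial.map_map] at h3
  have h4 : (e : K →+* K').comp (e.symm : K' →+* K) = RingHom.id K' := by
    ext x; simp
  rwa [h4, Polynomial.map_id] at h3

/-- Strictly henselian local rings transfer along ring isomorphisms. -/
theorem isStrictlyHenselian_of_ringEquiv {R S : Type u} [CommRing R] [CommRing S] (e : R ≃+* S)
    (h : EtCoh.IsStrictlyHenselianLocalRing R) : EtCoh.IsStrictlyHenselianLocalRing S := by
  obtain ⟨hH, hsep⟩ := h
  haveI := henselianLocalRing_of_ringEquiv e
  refine ⟨inferInstance, ?_⟩
  exact isSepClosed_of_ringEquiv (IsLocalRing.ResidueField.mapEquiv e)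

/-- Two primes over the same prime come from a prime of the tensor product. -/
theorem exists_prime_tensor {A B C : Type u} [CommRing A] [CommRing B] [CommRing C] [Algebra A B]
    [Algebra A C] (b : PrimeSpectrum B) (c : PrimeSpectrum C)
    (h : PrimeSpectrum.comap (algebraMap A B) b = PrimeSpectrum.comap (algebraMap A C) c) :
    ∃ Q : PrimeSpectrum (B ⊗[A] C), PrimeSpectrum.comap (algebraMap B (B ⊗[A] C)) Q = b ∧
      PrimeSpectrum.comap (Algebra.TensorProduct.includeRight : C →ₐ[A] B ⊗[A] C).toRingHom Q
        = c := by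
  obtain ⟨z, hz1, hz2⟩ := AlgebraicGeometry.Scheme.Pullback.exists_preimage_pullback
    (f := Spec.map (CommRingCat.ofHom (algebraMap A B)))
    (g := Spec.map (CommRingCat.ofHom (algebraMap A C))) b c h
  refine ⟨(pullbackSpecIso A B C).hom z, ?_, ?_⟩
  · have := congr($(pullbackSpecIso_hom_fst' A B C) z)
    rw [hz1] at this
    exact this
  · have := congr($(pullbackSpecIso_hom_snd A B C) z)
    rw [hz2] at this
    exact this

/-- quasi-finite algebras induce algebraic residue extensions -/
theorem isAlgebraic_quotient_of_quasiFinite {A E : Type u} [CommRing A] [CommRing E] [Algebra A E]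
    [Algebra.QuasiFinite A E] (Q : Ideal E) [Q.IsPrime] :
    Algebra.IsAlgebraic (A ⧸ Q.comap (algebraMap A E)) (E ⧸ Q) := by
  let R := A ⧸ Q.comap (algebraMap A E)
  let S := E ⧸ Q
  haveI : Algebra.QuasiFinite R S := Algebra.QuasiFinite.of_restrictScalars A R S
  let K := FractionRing R
  let L := FractionRing S
  have hinj : Function.Injective (algebraMap R S) := Ideal.algebraMap_quotient_injective
  haveI : IsScalarTower R S L := by
    have h0 := IsScalarTower.of_algebraMap_eq (R := R) (S := S) (A := L) (fun x => rfl)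
    exact h0
  haveI : FaithfulSMul R L := by
    rw [faithfulSMul_iff_algebraMap_injective]
    exact (IsFractionRing.injective S L).comp hinj
  letI : Algebra K L := FractionRing.liftAlgebra R L
  haveI : IsScalarTower R K L := FractionRing.isScalarTower_liftAlgebra R L
  haveI : Algebra.QuasiFinite R L := Algebra.QuasiFinite.trans R S L
  haveI : Algebra.QuasiFinite K L := Algebra.QuasiFinite.of_restrictScalars R K L
  haveI : Module.Finite K L := Module.Finite.of_quasiFinite
  constructor
  intro s
  have h1 : IsAlgebraic K (algebraMap S L s) := (Algebra.IsIntegral.isIntegral _).isAlgebraic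
  have h2 : IsAlgebraic R (algebraMap S L s) := (IsFractionRing.isAlgebraic_iff R K L).mpr h1
  exact (isAlgebraic_algebraMap_iff (IsFractionRing.injective S L)).mp h2

/-- elementwise form of algebraicity of a residue extension -/
theorem isAlgebraic_mk_iff {A B : Type u} [CommRing A] [CommRing B] [Algebra A B] (q : Ideal B)
    (b : B) :
    IsAlgebraic (A ⧸ q.comap (algebraMap A B)) (Ideal.Quotient.mk q b) ↔
      ∃ G : Polynomial A, (∃ i, G.coeff i ∉ q.comap (algebraMap A B)) ∧
        Polynomial.aeval b G ∈ q := by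
  have key : ∀ G : Polynomial A,
      Polynomial.aeval (Ideal.Quotient.mk q b) (G.map (Ideal.Quotient.mk (q.comap (algebraMap A B))))
        = Ideal.Quotient.mk q (Polynomial.aeval b G) := by
    intro G
    have h1 : Polynomial.aeval (Ideal.Quotient.mk q b)
        (G.map (algebraMap A (A ⧸ q.comap (algebraMap A B)))) =
        Polynomial.aeval (Ideal.Quotient.mk q b) G := Polynomial.aeval_map_algebraMap _ _ _
    rw [show Ideal.Quotient.mk (q.comap (algebraMap A B)) = algebraMap A _ from rfl, h1]
    exact Polynomial.aeval_algHom_apply (Ideal.Quotient.mkₐ A q) b G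
  constructor
  · rintro ⟨g, hg0, hg⟩
    obtain ⟨G, rfl⟩ := Polynomial.map_surjective _ Ideal.Quotient.mk_surjective g
    refine ⟨G, ?_, ?_⟩
    · by_contra hcon
      push Not at hcon
      apply hg0
      ext i
      rw [Polynomial.coeff_map, Polynomial.coeff_zero]
      exact Ideal.Quotient.eq_zero_iff_mem.mpr (hcon i)
    · rw [key] at hg
      exact Ideal.Quotient.eq_zero_iff_mem.mp hg
  · rintro ⟨G, ⟨i, hi⟩, hG⟩
    refine ⟨G.map (Ideal.Quotient.mk (q.comap (algebraMap A B))), ?_, ?_⟩
    · intro h0
      apply hi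
      have := congrArg (fun p => p.coeff i) h0
      simp only [Polynomial.coeff_map, Polynomial.coeff_zero] at this
      exact Ideal.Quotient.eq_zero_iff_mem.mp this
    · rw [key]
      exact Ideal.Quotient.eq_zero_iff_mem.mpr hG

/-- étale algebras induce algebraic residue field extensions (elementwise form) -/
theorem exists_poly_of_etale {A E : Type u} [CommRing A] [CommRing E] [Algebra A E]
    [Algebra.Etale A E] (Q : Ideal E) [Q.IsPrime] (e : E) :
    ∃ G : Polynomial A, (∃ i, G.coeff i ∉ Q.comap (algebraMap A E)) ∧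
      Polynomial.aeval e G ∈ Q := by
  haveI := isAlgebraic_quotient_of_quasiFinite (A := A) Q
  exact (isAlgebraic_mk_iff Q e).mp (Algebra.IsAlgebraic.isAlgebraic _)

/-- Ind-étale maps induce algebraic residue field extensions. -/
theorem algebraicResidueExtensions_of_isIndEtale {A B : Type u} [CommRing A] [CommRing B]
    [Algebra A B] (h : EtPBC.IsIndEtale A B) : ProEtW.AlgebraicResidueExtensions A B := by
  intro q _
  constructor
  intro x
  obtain ⟨b, rfl⟩ := Ideal.Quotient.mk_surjective x
  rw [isAlgebraic_mk_iff]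
  obtain ⟨E, _, _, _, v, w, hvw⟩ := factor_of_isIndEtale h (Polynomial A) (Polynomial.aeval b)
  have hb : w (v Polynomial.X) = b := by
    have := congr($hvw Polynomial.X)
    rw [AlgHom.comp_apply] at this
    rw [this, Polynomial.aeval_X]
  haveI : (q.comap w.toRingHom).IsPrime := Ideal.comap_isPrime _ _
  obtain ⟨G, ⟨i, hi⟩, hG⟩ := exists_poly_of_etale (A := A) (q.comap w.toRingHom) (v Polynomial.X)
  refine ⟨G, ⟨i, ?_⟩, ?_⟩
  · intro hmem
    apply hi
    rw [Ideal.mem_comap] at hmem ⊢
    show w (algebraMap A E (G.coeff i)) ∈ q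
    rw [w.commutes]
    exact hmem
  · have : w (Polynomial.aeval (v Polynomial.X) G) ∈ q := hG
    rw [← Polynomial.aeval_algHom_apply, hb] at this
    exact this

attribute [local instance] Algebra.TensorProduct.rightAlgebra

/-- Algebraic residue field extensions are stable under base change. -/
theorem algebraicResidueExtensions_baseChange {A B C : Type u} [CommRing A] [CommRing B]
    [CommRing C] [Algebra A B] [Algebra A C] (h : ProEtW.AlgebraicResidueExtensions A B) :
    ProEtW.AlgebraicResidueExtensions C (B ⊗[A] C) := by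
  intro Q _
  -- algebraic elements form a subalgebra
  let R := C ⧸ Q.comap (algebraMap C (B ⊗[A] C))
  let S := (B ⊗[A] C) ⧸ Q
  have hleft : ∀ b : B, IsAlgebraic R (Ideal.Quotient.mk Q (b ⊗ₜ[A] (1 : C))) := by
    intro b
    haveI : (Q.comap (algebraMap B (B ⊗[A] C))).IsPrime := Ideal.comap_isPrime _ _
    haveI := h (Q.comap (algebraMap B (B ⊗[A] C)))
    obtain ⟨G, ⟨i, hi⟩, hG⟩ := (isAlgebraic_mk_iff (A := A) (Q.comap (algebraMap B (B ⊗[A] C))) b).mp
      (Algebra.IsAlgebraic.isAlgebraic _)
    rw [isAlgebraic_mk_iff]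
    refine ⟨G.map (algebraMap A C), ⟨i, ?_⟩, ?_⟩
    · intro hmem
      apply hi
      rw [Polynomial.coeff_map, Ideal.mem_comap] at hmem
      rw [Ideal.mem_comap, Ideal.mem_comap]
      rw [← IsScalarTower.algebraMap_apply A C (B ⊗[A] C)] at hmem
      rw [← IsScalarTower.algebraMap_apply A B (B ⊗[A] C)]
      exact hmem
    · rw [Polynomial.aeval_map_algebraMap]
      have : (Algebra.TensorProduct.includeLeft : B →ₐ[A] B ⊗[A] C) (Polynomial.aeval b G) ∈ Q := hG
      rw [← Polynomial.aeval_algHom_apply] at this
      exact this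
  constructor
  intro x
  obtain ⟨t, rfl⟩ := Ideal.Quotient.mk_surjective x
  induction t using TensorProduct.induction_on with
  | zero => rw [map_zero]; exact isAlgebraic_zero
  | tmul b c =>
    have : (b ⊗ₜ[A] c : B ⊗[A] C) = (b ⊗ₜ[A] (1 : C)) * algebraMap C (B ⊗[A] C) c := by
      show _ = (b ⊗ₜ[A] (1 : C)) * ((1 : B) ⊗ₜ[A] c)
      rw [Algebra.TensorProduct.tmul_mul_tmul, mul_one, one_mul]
    rw [this, map_mul]
    refine IsAlgebraic.mul (hleft b) ?_
    exact isAlgebraic_algebraMap (R := R) (A := S) (Ideal.Quotient.mk _ c)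
  | add x y hx hy =>
    rw [map_add]
    exact hx.add hy

end Groth.Agent.Lib.Seat3.WStrict
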