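import Mathlib
import Groth.Agent.S9633
import Groth.Agent.Lib.Seat3WStrict

/-!
# Extremally disconnected spectra of quasi-finite algebras (helper3)

If `Spec A` is Hausdorff and extremally disconnected with separably closed residue fields and
`B` is a quasi-finite finitely presented `A`-algebra, then `Spec B` is extremally disconnected:
`Spec B → Spec A` is locally (on `Spec B`) an open embedding, because the diagonal of
`Spec (B ⊗[A] B)` is open and residue field extensions are purely inseparable.
-/

set_option autoImplicit false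
universe u
open TensorProduct Topology

namespace Groth.Agent.Lib.Seat3.ExtrDisc

section Top

variable {X Y : Type*} [TopologicalSpace X] [TopologicalSpace Y]

/-- an open subspace (along an open embedding) of an extremally disconnected space is extremally
disconnected -/
theorem extremallyDisconnected_of_isOpenEmbedding {g : X → Y} (hg : IsOpenEmbedding g)
    [ExtremallyDisconnected Y] : ExtremallyDisconnected X := by
  constructor
  intro V hV
  rw [hg.isInducing.closure_eq_preimage_closure_image]
  exact (ExtremallyDisconnected.open_closure _ (hg.isOpenMap V hV)).preimage hg.continuous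

/-- a space covered by open extremally disconnected subspaces is extremally disconnected -/
theorem extremallyDisconnected_of_cover {ι : Type*} (W : ι → Set X) (hW : ∀ i, IsOpen (W i))
    (hcov : ∀ x : X, ∃ i, x ∈ W i) (hED : ∀ i, ExtremallyDisconnected (W i)) :
    ExtremallyDisconnected X := by
  constructor
  intro V hV
  rw [isOpen_iff_forall_mem_open]
  intro x hx
  obtain ⟨i, hi⟩ := hcov x
  haveI := hED i
  have hemb : IsOpenEmbedding (Subtype.val : W i → X) := (hW i).isOpenEmbedding_subtypeVal
  have hVi : IsOpen ((Subtype.val : W i → X) ⁻¹' V) := hV.preimage continuous_subtype_val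
  have hcl := ExtremallyDisconnected.open_closure _ hVi
  refine ⟨Subtype.val '' closure ((Subtype.val : W i → X) ⁻¹' V), ?_, hemb.isOpenMap _ hcl, ?_⟩
  · rintro _ ⟨y, hy, rfl⟩
    have := image_closure_subset_closure_image (continuous_subtype_val (p := (· ∈ W i))) 
      (Set.mem_image_of_mem _ hy)
    exact closure_mono (Set.image_preimage_subset _ _) this
  · refine ⟨⟨x, hi⟩, ?_, rfl⟩
    rw [hemb.isInducing.closure_eq_preimage_closure_image]
    show x ∈ closure (Subtype.val '' ((Subtype.val : W i → X) ⁻¹' V))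
    rw [Subtype.image_preimage_coe]
    exact (hW i).inter_closure ⟨hi, hx⟩

end Top

section Alg

open Groth.Agent.Lib.Seat3.WStrict

variable {A B : Type u} [CommRing A] [CommRing B] [Algebra A B]

/-- quasi-finite algebras over a zero-dimensional ring are zero-dimensional -/
theorem isMaximal_of_quasiFinite [Algebra.QuasiFinite A B]
    (hA : ∀ p : Ideal A, p.IsPrime → p.IsMaximal) (q : Ideal B) [q.IsPrime] : q.IsMaximal := by
  haveI : (q.comap (algebraMap A B)).IsMaximal := hA _ inferInstance
  letI : Field (A ⧸ q.comap (algebraMap A B)) := Ideal.Quotient.field _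
  haveI := isAlgebraic_quotient_of_quasiFinite (A := A) q
  haveI : Algebra.IsIntegral (A ⧸ q.comap (algebraMap A B)) (B ⧸ q) := inferInstance
  have hf : IsField (B ⧸ q) := isField_of_isIntegral_of_isField'
    (Field.toIsField (A ⧸ q.comap (algebraMap A B)))
  exact Ideal.Quotient.maximal_of_isField _ hf

theorem t2Space_of_quasiFinite [Algebra.QuasiFinite A B] [T2Space (PrimeSpectrum A)] :
    T2Space (PrimeSpectrum B) := by
  have hA : ∀ p : Ideal A, p.IsPrime → p.IsMaximal :=
    ((Groth.Agent.S9633.result (R := A)).out 1 5).mp (inferInstance : T2Space (PrimeSpectrum A))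
  exact ((Groth.Agent.S9633.result (R := B)).out 1 5).mpr
    (fun q hq => by haveI := hq; exact isMaximal_of_quasiFinite hA q)

/-- residue fields of a quasi-finite algebra over a separably closed residue field are purely
inseparable, in elementwise form -/
theorem exists_pow_sub_mem [Algebra.QuasiFinite A B] (q : Ideal B) [q.IsPrime]
    (hmax : (q.comap (algebraMap A B)).IsMaximal)
    (hsep : IsSepClosed (q.comap (algebraMap A B)).ResidueField) (ℓ : ℕ)
    [ExpChar (A ⧸ q.comap (algebraMap A B)) ℓ] (b : B) :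
    ∃ (n : ℕ) (a : A), b ^ ℓ ^ n - algebraMap A B a ∈ q := by
  haveI := hmax
  letI : Field (A ⧸ q.comap (algebraMap A B)) := Ideal.Quotient.field _
  haveI := isAlgebraic_quotient_of_quasiFinite (A := A) q
  haveI : Algebra.IsIntegral (A ⧸ q.comap (algebraMap A B)) (B ⧸ q) := inferInstance
  have hf : IsField (B ⧸ q) := isField_of_isIntegral_of_isField'
    (Field.toIsField (A ⧸ q.comap (algebraMap A B)))
  letI : Field (B ⧸ q) := hf.toField
  haveI : IsSepClosed (A ⧸ q.comap (algebraMap A B)) := by
    let e : (A ⧸ q.comap (algebraMap A B)) ≃+* (q.comap (algebraMap A B)).ResidueField :=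
      RingEquiv.ofBijective _ (Ideal.bijective_algebraMap_quotient_residueField _)
    exact isSepClosed_of_ringEquiv e.symm
  haveI : IsPurelyInseparable (A ⧸ q.comap (algebraMap A B)) (B ⧸ q) :=
    Algebra.IsAlgebraic.isPurelyInseparable_of_isSepClosed
  obtain ⟨n, a', ha'⟩ := IsPurelyInseparable.pow_mem (A ⧸ q.comap (algebraMap A B)) ℓ
    (Ideal.Quotient.mk q b)
  obtain ⟨a, rfl⟩ := Ideal.Quotient.mk_surjective a'
  refine ⟨n, a, ?_⟩
  rw [← Ideal.Quotient.eq, map_pow, ← ha']
  rfl

/-- a prime of `B ⊗[A] B` with equal contractions to both factors contains the diagonal ideal -/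
theorem ideal_le_of_comap_eq [Algebra.QuasiFinite A B]
    (hA : ∀ p : Ideal A, p.IsPrime → p.IsMaximal)
    (hres : ∀ p : PrimeSpectrum A, IsSepClosed p.asIdeal.ResidueField)
    (P : PrimeSpectrum (B ⊗[A] B))
    (h : PrimeSpectrum.comap (algebraMap B (B ⊗[A] B)) P =
      PrimeSpectrum.comap (Algebra.TensorProduct.includeRight : B →ₐ[A] B ⊗[A] B).toRingHom P) :
    KaehlerDifferential.ideal A B ≤ P.asIdeal := by
  rw [← KaehlerDifferential.span_range_eq_ideal, Ideal.span_le]
  rintro _ ⟨b, rfl⟩
  let q : PrimeSpectrum B := PrimeSpectrum.comap (algebraMap B (B ⊗[A] B)) P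
  let p : Ideal A := q.asIdeal.comap (algebraMap A B)
  have hmax : p.IsMaximal := hA _ inferInstance
  letI : Field (A ⧸ p) := Ideal.Quotient.field p
  obtain ⟨ℓ, hℓ⟩ := ExpChar.exists (A ⧸ p)
  obtain ⟨n, a, hna⟩ := exists_pow_sub_mem q.asIdeal hmax (hres ⟨p, inferInstance⟩) ℓ b
  have h1 : (b ⊗ₜ[A] (1 : B)) ^ ℓ ^ n - algebraMap A (B ⊗[A] B) a ∈ P.asIdeal := by
    have h0 : algebraMap B (B ⊗[A] B) (b ^ ℓ ^ n - algebraMap A B a) ∈ P.asIdeal := hna
    rw [map_sub, map_pow, ← IsScalarTower.algebraMap_apply] at h0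
    exact h0
  have h2 : ((1 : B) ⊗ₜ[A] b) ^ ℓ ^ n - algebraMap A (B ⊗[A] B) a ∈ P.asIdeal := by
    have hq2 : q = PrimeSpectrum.comap
        (Algebra.TensorProduct.includeRight : B →ₐ[A] B ⊗[A] B).toRingHom P := h
    have h0 : (Algebra.TensorProduct.includeRight : B →ₐ[A] B ⊗[A] B)
        (b ^ ℓ ^ n - algebraMap A B a) ∈ P.asIdeal := by
      have : b ^ ℓ ^ n - algebraMap A B a ∈ (PrimeSpectrum.comap
        (Algebra.TensorProduct.includeRight : B →ₐ[A] B ⊗[A] B).toRingHom P).asIdeal := by
        rw [← hq2]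
        exact hna
      exact this
    rw [map_sub, map_pow, AlgHom.commutes] at h0
    exact h0
  let D := (B ⊗[A] B) ⧸ P.asIdeal
  let f : A ⧸ p →+* D := Ideal.Quotient.lift p
    ((Ideal.Quotient.mk P.asIdeal).comp (algebraMap A (B ⊗[A] B))) (by
      intro x hx
      rw [RingHom.comp_apply, Ideal.Quotient.eq_zero_iff_mem, IsScalarTower.algebraMap_apply A B]
      exact hx)
  haveI : ExpChar D ℓ := expChar_of_injective_ringHom f.injective ℓ
  have e1 : (Ideal.Quotient.mk P.asIdeal (b ⊗ₜ[A] (1 : B))) ^ ℓ ^ n =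
      Ideal.Quotient.mk P.asIdeal (algebraMap A (B ⊗[A] B) a) := by
    rw [← map_pow]
    exact Ideal.Quotient.eq.mpr h1
  have e2 : (Ideal.Quotient.mk P.asIdeal ((1 : B) ⊗ₜ[A] b)) ^ ℓ ^ n =
      Ideal.Quotient.mk P.asIdeal (algebraMap A (B ⊗[A] B) a) := by
    rw [← map_pow]
    exact Ideal.Quotient.eq.mpr h2
  have e3 : (Ideal.Quotient.mk P.asIdeal ((1 : B) ⊗ₜ[A] b) -
      Ideal.Quotient.mk P.asIdeal (b ⊗ₜ[A] (1 : B)) : D) ^ ℓ ^ n = 0 := by
    rw [sub_pow_expChar_pow, e1, e2, sub_self]
  have e4 := pow_eq_zero_iff (pow_ne_zero n (expChar_pos D ℓ).ne') |>.mp e3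
  rw [← map_sub, Ideal.Quotient.eq_zero_iff_mem] at e4
  exact e4

/-- a prime of `B ⊗[A] B` containing the diagonal ideal has equal contractions -/
theorem comap_eq_of_ideal_le (P : PrimeSpectrum (B ⊗[A] B))
    (hP : KaehlerDifferential.ideal A B ≤ P.asIdeal) :
    PrimeSpectrum.comap (algebraMap B (B ⊗[A] B)) P =
      PrimeSpectrum.comap (Algebra.TensorProduct.includeRight : B →ₐ[A] B ⊗[A] B).toRingHom P := by
  ext b
  have hb := hP (KaehlerDifferential.one_smul_sub_smul_one_mem_ideal A b)
  show b ⊗ₜ[A] (1 : B) ∈ P.asIdeal ↔ (1 : B) ⊗ₜ[A] b ∈ P.asIdeal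
  constructor
  · intro h
    have := P.asIdeal.add_mem hb h
    rwa [sub_add_cancel] at this
  · intro h
    have := P.asIdeal.sub_mem h hb
    rwa [sub_sub_cancel] at this

/-- quasi-finite maps to a Hausdorff spectrum with separably closed residue fields are locally
injective on spectra -/
theorem exists_basicOpen_injOn [Algebra.QuasiFinite A B] [Algebra.FiniteType A B]
    [T2Space (PrimeSpectrum A)]
    (hres : ∀ p : PrimeSpectrum A, IsSepClosed p.asIdeal.ResidueField) (q : PrimeSpectrum B) :
    ∃ g : B, q ∈ PrimeSpectrum.basicOpen g ∧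
      Set.InjOn (PrimeSpectrum.comap (algebraMap A B))
        (PrimeSpectrum.basicOpen g : Set (PrimeSpectrum B)) := by
  have hA : ∀ p : Ideal A, p.IsPrime → p.IsMaximal :=
    ((Groth.Agent.S9633.result (R := A)).out 1 5).mp (inferInstance : T2Space (PrimeSpectrum A))
  haveI : T2Space (PrimeSpectrum B) := t2Space_of_quasiFinite (A := A)
  haveI : Algebra.QuasiFinite A (B ⊗[A] B) := Algebra.QuasiFinite.trans A B (B ⊗[A] B)
  haveI : T2Space (PrimeSpectrum (B ⊗[A] B)) := t2Space_of_quasiFinite (A := A)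
  have hJ : (KaehlerDifferential.ideal A B).FG := KaehlerDifferential.ideal_fg A B
  let C : Set (PrimeSpectrum (B ⊗[A] B)) :=
    (PrimeSpectrum.zeroLocus (KaehlerDifferential.ideal A B : Set (B ⊗[A] B)))ᶜ
  have hCc : IsCompact C :=
    (PrimeSpectrum.isCompact_isOpen_iff_ideal.mpr ⟨_, hJ, rfl⟩).1
  let π := PrimeSpectrum.tensorProductTo A B B
  have hπC : IsClosed (π '' C) :=
    (hCc.image (PrimeSpectrum.continuous_tensorProductTo A B B)).isClosed
  have hq : (q, q) ∉ π '' C := by
    rintro ⟨P, hPC, hP⟩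
    apply hPC
    apply ideal_le_of_comap_eq hA hres P
    have h1 : PrimeSpectrum.comap (algebraMap B (B ⊗[A] B)) P = q := congrArg Prod.fst hP
    have h2 : PrimeSpectrum.comap
        (Algebra.TensorProduct.includeRight : B →ₐ[A] B ⊗[A] B).toRingHom P = q :=
      congrArg Prod.snd hP
    rw [h1, h2]
  obtain ⟨W₁, W₂, hW₁, hW₂, hq1, hq2, hsub⟩ := isOpen_prod_iff.mp hπC.isOpen_compl q q hq
  obtain ⟨_, ⟨g, rfl⟩, hqg, hgW⟩ :=
    PrimeSpectrum.isTopologicalBasis_basic_opens.exists_subset_of_mem_open
      (⟨hq1, hq2⟩ : q ∈ W₁ ∩ W₂) (hW₁.inter hW₂)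
  refine ⟨g, hqg, ?_⟩
  intro q₁ hq₁ q₂ hq₂ heq
  by_contra hne
  obtain ⟨P, hP1, hP2⟩ := exists_prime_tensor q₁ q₂ heq
  have hPC : P ∈ C := by
    intro hPJ
    apply hne
    rw [← hP1, ← hP2]
    exact comap_eq_of_ideal_le P hPJ
  have hmem : π P ∈ W₁ ×ˢ W₂ := by
    refine ⟨?_, ?_⟩
    · show PrimeSpectrum.comap (algebraMap B (B ⊗[A] B)) P ∈ W₁
      rw [hP1]
      exact (hgW hq₁).1
    · show PrimeSpectrum.comap
        (Algebra.TensorProduct.includeRight : B →ₐ[A] B ⊗[A] B).toRingHom P ∈ W₂
      rw [hP2]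
      exact (hgW hq₂).2
  exact hsub hmem ⟨P, hPC, rfl⟩

/-- **Quasi-finite finitely presented algebras over an extremally disconnected Hausdorff
spectrum with separably closed residue fields have extremally disconnected spectrum.** -/
theorem extremallyDisconnected_of_quasiFinite [Algebra.QuasiFinite A B]
    [Algebra.FinitePresentation A B]
    (hres : ∀ p : PrimeSpectrum A, IsSepClosed p.asIdeal.ResidueField)
    [T2Space (PrimeSpectrum A)] [ExtremallyDisconnected (PrimeSpectrum A)] :
    ExtremallyDisconnected (PrimeSpectrum B) := by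
  choose g hg1 hg2 using exists_basicOpen_injOn (A := A) (B := B) hres
  refine extremallyDisconnected_of_cover
    (fun q : PrimeSpectrum B => (PrimeSpectrum.basicOpen (g q) : Set (PrimeSpectrum B)))
    (fun q => (PrimeSpectrum.basicOpen (g q)).isOpen) (fun q => ⟨q, hg1 q⟩) ?_
  intro q
  let W : Set (PrimeSpectrum B) := PrimeSpectrum.basicOpen (g q)
  let f : W → PrimeSpectrum A := fun w => PrimeSpectrum.comap (algebraMap A B) w.1
  have hfc : Continuous f := (PrimeSpectrum.continuous_comap _).comp continuous_subtype_val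
  have hfi : Function.Injective f := fun a b hab => Subtype.ext (hg2 q a.2 b.2 hab)
  haveI : CompactSpace W := isCompact_iff_compactSpace.mp (PrimeSpectrum.isCompact_basicOpen _)
  have hemb : IsClosedEmbedding f := hfc.isClosedEmbedding hfi
  have hrange : IsOpen (Set.range f) := by
    have hr : Set.range f = PrimeSpectrum.comap (algebraMap A B) '' W := by
      ext x
      constructor
      · rintro ⟨w, rfl⟩
        exact ⟨w.1, w.2, rfl⟩
      · rintro ⟨w, hw, rfl⟩
        exact ⟨⟨w, hw⟩, rfl⟩
    rw [hr]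
    apply PrimeSpectrum.isOpen_of_stableUnderGeneralization_of_isConstructible
    · intro x y hyx hx
      rw [hyx.eq]
      exact hx
    · exact PrimeSpectrum.isConstructible_comap_image
        (RingHom.finitePresentation_algebraMap.mpr inferInstance)
        PrimeSpectrum.isConstructible_basicOpen
  exact extremallyDisconnected_of_isOpenEmbedding (g := f) ⟨hemb.isEmbedding, hrange⟩

end Alg

end Groth.Agent.Lib.Seat3.ExtrDisc
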