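import Mathlib
import Groth.Prelude.Def_PBC
import Groth.Agent.Lib.Seat3WLoc

/-!
# Ring maps identifying local rings and bijective on spectra are isomorphisms (seat 3)

* `exists_of_identifiesLocalRings_inj`, `exists_of_identifiesLocalRings_surj`: elementwise forms of
  "identifies local rings";
* `bijective_of_identifiesLocalRings_of_comap_bijective`.
-/

set_option autoImplicit false

universe u

namespace Groth.Agent.Lib.Seat3.ILRIso

open Groth.Agent.Lib.Seat3.WLoc

variable {A C : Type u} [CommRing A] [CommRing C] [Algebra A C]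

theorem exists_of_identifiesLocalRings_inj (h : EtPBC.IdentifiesLocalRings A C)
    (y : PrimeSpectrum C) (a : A) (hc : ∃ c : C, c ∉ y.asIdeal ∧ c * algebraMap A C a = 0) :
    ∃ s : A, algebraMap A C s ∉ y.asIdeal ∧ s * a = 0 := by
  obtain ⟨c, hc, hca⟩ := hc
  have hbij := h y
  have hz : algebraMap A (Localization.AtPrime (y.asIdeal.comap (algebraMap A C))) a = 0 := by
    apply hbij.1
    rw [Localization.localRingHom_to_map, map_zero,
      IsLocalization.map_eq_zero_iff y.asIdeal.primeCompl]
    exact ⟨⟨c, hc⟩, hca⟩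
  rw [IsLocalization.map_eq_zero_iff (y.asIdeal.comap (algebraMap A C)).primeCompl] at hz
  obtain ⟨s, hs⟩ := hz
  exact ⟨s, s.2, hs⟩

theorem exists_of_identifiesLocalRings_surj (h : EtPBC.IdentifiesLocalRings A C)
    (y : PrimeSpectrum C) (x : C) :
    ∃ (r s : A) (c : C), algebraMap A C s ∉ y.asIdeal ∧ c ∉ y.asIdeal ∧
      c * (algebraMap A C s * x - algebraMap A C r) = 0 := by
  obtain ⟨z, hz⟩ := (h y).2 (algebraMap C (Localization.AtPrime y.asIdeal) x)
  obtain ⟨a, s, rfl⟩ := IsLocalization.exists_mk'_eq
    (y.asIdeal.comap (algebraMap A C)).primeCompl z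
  rw [Localization.localRingHom_mk'] at hz
  rw [IsLocalization.mk'_eq_iff_eq_mul, ← map_mul,
    IsLocalization.eq_iff_exists y.asIdeal.primeCompl] at hz
  obtain ⟨t, ht⟩ := hz
  refine ⟨a, s, t, s.2, t.2, ?_⟩
  have ht' : (t : C) * algebraMap A C a = t * (x * algebraMap A C s) := ht
  linear_combination -ht'

/-- A ring map which identifies local rings and is bijective on spectra is bijective. -/
theorem bijective_of_identifiesLocalRings_of_comap_bijective
    (h : EtPBC.IdentifiesLocalRings A C)
    (hbij : Function.Bijective (PrimeSpectrum.comap (algebraMap A C))) :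
    Function.Bijective (algebraMap A C) := by
  haveI : Module.Flat A C := flat_of_identifiesLocalRings h
  constructor
  · rw [injective_iff_map_eq_zero]
    intro a ha
    by_contra hne
    have hK : (⊥ : Ideal A).colon {a} ≠ ⊤ := by
      intro htop
      have h1 : (1 : A) ∈ (⊥ : Ideal A).colon {a} := by rw [htop]; trivial
      rw [Submodule.mem_colon_singleton, one_smul, Submodule.mem_bot] at h1
      exact hne h1
    obtain ⟨m, hm, hKm⟩ := Ideal.exists_le_maximal _ hK
    obtain ⟨y, hy⟩ := hbij.2 ⟨m, hm.isPrime⟩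
    obtain ⟨s, hs, hsa⟩ := exists_of_identifiesLocalRings_inj h y a
      ⟨1, fun h1 => y.2.ne_top ((Ideal.eq_top_iff_one _).mpr h1), by rw [ha, mul_zero]⟩
    have h2 : s ∈ (⊥ : Ideal A).colon {a} := by
      rw [Submodule.mem_colon_singleton, smul_eq_mul, Submodule.mem_bot]
      exact hsa
    have h3 : s ∈ (PrimeSpectrum.comap (algebraMap A C) y).asIdeal := by
      rw [hy]
      exact hKm h2
    exact hs h3
  · intro c
    let φ := algebraMap A C
    let D : Ideal A :=
      { carrier := {a | ∃ r : A, φ a * c = φ r}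
        zero_mem' := ⟨0, by simp⟩
        add_mem' := by
          rintro a₁ a₂ ⟨r₁, h₁⟩ ⟨r₂, h₂⟩
          exact ⟨r₁ + r₂, by rw [map_add, map_add, add_mul, h₁, h₂]⟩
        smul_mem' := by
          rintro b a ⟨r, hr⟩
          exact ⟨b * r, by rw [smul_eq_mul, map_mul, map_mul, mul_assoc, hr]⟩ }
    by_cases hD : D = ⊤
    · have h1 : (1 : A) ∈ D := by rw [hD]; trivial
      obtain ⟨r, hr⟩ := h1
      exact ⟨r, by rw [← hr, map_one, one_mul]⟩
    · exfalso
      obtain ⟨m, hm, hDm⟩ := Ideal.exists_le_maximal D hD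
      haveI := hm.isPrime
      obtain ⟨y, hy⟩ := hbij.2 ⟨m, hm.isPrime⟩
      have hym : y.asIdeal.comap φ = m := congrArg PrimeSpectrum.asIdeal hy
      obtain ⟨r, s, u, hs, hu, hus⟩ := exists_of_identifiesLocalRings_surj h y c
      let K : Ideal C := (⊥ : Ideal C).colon {φ s * c - φ r}
      have huK : u ∈ K := by
        rw [Submodule.mem_colon_singleton, smul_eq_mul, Submodule.mem_bot]
        exact hus
      have hnot : ¬ K.comap φ ≤ m := by
        intro hle
        obtain ⟨y', hKy', hy'p, hy'm⟩ := Ideal.exists_ideal_comap_le_prime m K hle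
        haveI : (y'.comap φ).IsPrime := Ideal.comap_isPrime _ _
        haveI : y.asIdeal.LiesOver m := ⟨hym.symm⟩
        obtain ⟨y'', hy''le, hy''p, hy''over⟩ :=
          Ideal.exists_ideal_le_liesOver_of_le (p := y'.comap φ) (q := m) y.asIdeal hy'm
        have heq : (⟨y'', hy''p⟩ : PrimeSpectrum C) = ⟨y', hy'p⟩ := by
          apply hbij.1
          ext a
          have h1 : y'.comap φ = y''.comap φ := hy''over.over
          show a ∈ y''.comap φ ↔ a ∈ y'.comap φ
          rw [h1]
        have heq' : y'' = y' := congrArg PrimeSpectrum.asIdeal heq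
        exact hu (hy''le (heq' ▸ hKy' huK))
      obtain ⟨t, htK, htm⟩ := SetLike.not_le_iff_exists.mp hnot
      have htK' : φ t * (φ s * c - φ r) = 0 := by
        have : φ t ∈ K := htK
        rw [Submodule.mem_colon_singleton, smul_eq_mul, Submodule.mem_bot] at this
        exact this
      have hmem : t * s ∈ D := ⟨t * r, by
        rw [map_mul, map_mul]
        linear_combination htK'⟩
      have hsm : s ∉ m := by
        intro hsm
        apply hs
        have : s ∈ y.asIdeal.comap φ := hym ▸ hsm
        exact this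
      rcases hm.isPrime.mem_or_mem (hDm hmem) with h1 | h1
      · exact htm h1
      · exact hsm h1

end Groth.Agent.Lib.Seat3.ILRIso
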