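import Mathlib
import Groth.Prelude.Def_PBC

/-!
# Quotients by ideals generated by idempotents are ind-Zariski (seat 3)

For a set `S` of idempotents of a ring `A`, the quotient `A ⧸ Ideal.span S` is the filtered colimit
(in `Under A`) of the quotients `A ⧸ (1 - e)` over the idempotents `e` with `1 - e ∈ span S`, and
each of these is a localization `A_e`, hence a local isomorphism.
-/

set_option autoImplicit false

universe u

open CategoryTheory CategoryTheory.Limits

namespace Groth.Agent.Lib.Seat3.IndZarQuot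

variable {A : Type u} [CommRing A]

/-- Index type: idempotents `e` with `1 - e ∈ I`. -/
def Idx (I : Ideal A) : Type u := {e : A // IsIdempotentElem e ∧ 1 - e ∈ I}

/-- The principal ideal `(1 - e)` attached to an index. -/
def Idx.ideal {I : Ideal A} (e : Idx I) : Ideal A := Ideal.span {1 - e.1}

instance (I : Ideal A) : Preorder (Idx I) := Preorder.lift (fun e => e.ideal)

theorem Idx.le_iff {I : Ideal A} (e e' : Idx I) : e ≤ e' ↔ e.ideal ≤ e'.ideal := Iff.rfl

theorem Idx.ideal_le {I : Ideal A} (e : Idx I) : e.ideal ≤ I := by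
  rw [Idx.ideal, Ideal.span_le, Set.singleton_subset_iff]
  exact e.2.2

instance (I : Ideal A) : Nonempty (Idx I) := ⟨⟨1, IsIdempotentElem.one, by simp⟩⟩

instance (I : Ideal A) : IsDirected (Idx I) (· ≤ ·) := by
  refine ⟨fun e e' => ?_⟩
  have h1 : (1 : A) - e.1 * e'.1 = (1 - e.1) + e.1 * (1 - e'.1) := by ring
  have hmem : (1 : A) - e.1 * e'.1 ∈ I := by
    rw [h1]
    exact I.add_mem e.2.2 (I.mul_mem_left _ e'.2.2)
  refine ⟨⟨e.1 * e'.1, e.2.1.mul e'.2.1, hmem⟩, ?_, ?_⟩
  · change Ideal.span {1 - e.1} ≤ Ideal.span {1 - e.1 * e'.1}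
    rw [Ideal.span_singleton_le_span_singleton]
    refine ⟨1 - e.1, ?_⟩
    have := e.2.1.eq
    linear_combination (-e'.1) * this
  · change Ideal.span {1 - e'.1} ≤ Ideal.span {1 - e.1 * e'.1}
    rw [Ideal.span_singleton_le_span_singleton]
    refine ⟨1 - e'.1, ?_⟩
    have := e'.2.1.eq
    linear_combination (-e.1) * this

instance (I : Ideal A) : IsFiltered (Idx I) := isFiltered_of_directed_le_nonempty _

/-- The diagram `e ↦ A ⧸ (1 - e)` in `Under A`. -/
noncomputable def diagram (I : Ideal A) : Idx I ⥤ Under (CommRingCat.of A) where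
  obj e := Under.mk (CommRingCat.ofHom (Ideal.Quotient.mk e.ideal))
  map {e e'} h := Under.homMk (CommRingCat.ofHom (Ideal.Quotient.factor (leOfHom h))) (by
    ext x
    rfl)
  map_id e := by
    ext x
    obtain ⟨x, rfl⟩ := Ideal.Quotient.mk_surjective x
    rfl
  map_comp f g := by
    ext x
    obtain ⟨x, rfl⟩ := Ideal.Quotient.mk_surjective x
    rfl

/-- The cocone with point `A ⧸ I`. -/
noncomputable def cocone (I : Ideal A) : Cocone (diagram I) where
  pt := Under.mk (CommRingCat.ofHom (Ideal.Quotient.mk I))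
  ι :=
    { app e := Under.homMk (CommRingCat.ofHom (Ideal.Quotient.factor e.ideal_le)) (by
        ext x
        rfl)
      naturality e e' h := by
        ext x
        obtain ⟨x, rfl⟩ := Ideal.Quotient.mk_surjective x
        rfl }

/-- Compatibility of a cocone leg with the structure maps, elementwise. -/
theorem cocone_leg_apply {I : Ideal A} (s : Cocone (diagram I)) (e : Idx I) (x : A) :
    (s.ι.app e).right.hom (Ideal.Quotient.mk e.ideal x) = s.pt.hom.hom x :=
  congrArg (fun φ : CommRingCat.of A ⟶ s.pt.right => φ.hom x) (Under.w (s.ι.app e))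

/-- The structure map of any cocone kills `I`, when `I` is generated by idempotents. -/
theorem cocone_hom_mem_ker {I : Ideal A} {S : Set A} (hS : ∀ s ∈ S, IsIdempotentElem s)
    (hI : I = Ideal.span S) (s : Cocone (diagram I)) (a : A) (ha : a ∈ I) :
    s.pt.hom.hom a = 0 := by
  have hle : Ideal.span S ≤ RingHom.ker s.pt.hom.hom := by
    rw [Ideal.span_le]
    intro g hg
    have hgI : g ∈ I := hI ▸ Ideal.subset_span hg
    let e : Idx I := ⟨1 - g, (hS g hg).one_sub, by simpa using hgI⟩
    have h3 : Ideal.Quotient.mk e.ideal g = 0 := by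
      rw [Ideal.Quotient.eq_zero_iff_mem]
      change g ∈ Ideal.span {1 - (1 - g)}
      rw [sub_sub_cancel]
      exact Ideal.mem_span_singleton_self g
    change s.pt.hom.hom g = 0
    rw [← cocone_leg_apply s e g, h3]
    exact map_zero (s.ι.app e).right.hom
  exact hle (hI ▸ ha)

/-- The cocone `A ⧸ I` is a colimit. -/
noncomputable def isColimitCocone {I : Ideal A} {S : Set A} (hS : ∀ s ∈ S, IsIdempotentElem s)
    (hI : I = Ideal.span S) : IsColimit (cocone I) where
  desc s := Under.homMk (CommRingCat.ofHom (Ideal.Quotient.lift I s.pt.hom.hom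
      (cocone_hom_mem_ker hS hI s))) (by
    ext x
    rfl)
  fac s e := by
    ext x
    obtain ⟨x, rfl⟩ := Ideal.Quotient.mk_surjective x
    exact (cocone_leg_apply s e x).symm
  uniq s m hm := by
    ext x
    obtain ⟨x, rfl⟩ := Ideal.Quotient.mk_surjective x
    exact congrArg (fun φ : CommRingCat.of A ⟶ s.pt.right => φ.hom x) (Under.w m)

/-- `A ⧸ (1 - e)` is a local isomorphism for an idempotent `e`. -/
theorem isLocalIso_quotient {e : A} (he : IsIdempotentElem e) :
    Algebra.IsLocalIso A (A ⧸ Ideal.span {1 - e}) := by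
  have : IsLocalization.Away e (A ⧸ Ideal.span {1 - e}) :=
    IsLocalization.Away.quotient_of_isIdempotentElem he
  have : Algebra.IsStandardOpenImmersion A (A ⧸ Ideal.span {1 - e}) := ⟨e, inferInstance⟩
  infer_instance

/-- The quotient of `A` by an ideal generated by idempotents is ind-Zariski over `A`. -/
theorem isIndZariski_quotient {I : Ideal A} {S : Set A} (hS : ∀ s ∈ S, IsIdempotentElem s)
    (hI : I = Ideal.span S) : EtPBC.IsIndZariski A (A ⧸ I) := by
  refine ⟨Idx I, inferInstance, inferInstance, diagram I, cocone I, isColimitCocone hS hI, ?_,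
    ⟨Iso.refl _⟩⟩
  intro e
  show @Algebra.IsLocalIso A (A ⧸ Ideal.span {1 - e.1}) _ _
    (RingHom.toAlgebra (Ideal.Quotient.mk (Ideal.span {1 - e.1})))
  convert isLocalIso_quotient e.2.1
  exact Algebra.algebra_ext _ _ (fun r => rfl)

end Groth.Agent.Lib.Seat3.IndZarQuot
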