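import Mathlib
import Groth.Prelude.Def_ProEtW
import Groth.Agent.Lib.Helper10Spectral
import Groth.Agent.Lib.Helper10Pi0

/-!
# w-local spectral spaces: closed points versus connected components (seat 3)

For a w-local space `X` (spectral, closed points closed, unique closed specialization):
* the set of generalizations of a closed set of closed points is closed;
* a `T1` spectral space is totally separated, so the closed points form a profinite space;
* distinct closed points are separated by a clopen subset of `X`; hence two closed points in the same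
  connected component are equal, and `X^c → π₀(X)` is bijective.
-/

set_option autoImplicit false

open Topology TopologicalSpace Set

namespace Groth.Agent.Lib.Seat3.WLocal

open Groth.Agent.Lib.Helper10.Spectral

universe u

variable {X : Type u} [TopologicalSpace X]

/-- In a `T1` spectral space every quasi-compact open is closed. -/
theorem isClosed_of_isCompact_isOpen_of_t1 [SpectralSpace X] [T1Space X] {U : Set X}
    (hUo : IsOpen U) (hUc : IsCompact U) : IsClosed U := by
  apply isClosed_of_isClosed_constr_of_stableUnderSpecialization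
    (isClosed_constr_of_isCompact_isOpen hUo hUc)
  intro x y hxy hx
  rw [← hxy.eq]
  exact hx

/-- A `T1` spectral space is totally separated. -/
theorem totallySeparatedSpace_of_t1 [SpectralSpace X] [T1Space X] : TotallySeparatedSpace X := by
  rw [totallySeparatedSpace_iff_exists_isClopen]
  intro x y hxy
  obtain ⟨U, hUo, hUc, h⟩ := exists_isCompact_isOpen_separating hxy
  have hcl : IsClopen U := ⟨isClosed_of_isCompact_isOpen_of_t1 hUo hUc, hUo⟩
  rcases h with ⟨hx, hy⟩ | ⟨hy, hx⟩
  · exact ⟨U, hcl, hx, hy⟩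
  · exact ⟨Uᶜ, hcl.compl, hx, fun h => h hy⟩

variable (hX : ProEtW.IsWLocal X)
include hX

/-- The set of generalizations of a closed set of closed points of a w-local space is closed. -/
theorem isClosed_generalizations {E : Set X} (hE : IsClosed E)
    (hEc : ∀ e ∈ E, IsClosed ({e} : Set X)) : IsClosed {x | ∃ e ∈ E, x ⤳ e} := by
  have : SpectralSpace X := hX.1
  apply isClosed_of_isClosed_constr_of_stableUnderSpecialization
  · rw [generalizations_eq_sInter hE.isCompact]
    apply @isClosed_sInter _ (constructibleTopology X)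
    rintro U ⟨hUo, hUc, -⟩
    exact isClosed_constr_of_isCompact_isOpen hUo hUc
  · rintro y z hyz ⟨e, he, hye⟩
    obtain ⟨z₀, ⟨hz₀, hzz₀⟩, -⟩ := hX.2.2 z
    obtain ⟨y₀, -, huniq⟩ := hX.2.2 y
    have h1 : z₀ = y₀ := huniq z₀ ⟨hz₀, hyz.trans hzz₀⟩
    have h2 : e = y₀ := huniq e ⟨hEc e he, hye⟩
    exact ⟨e, he, by rw [h2, ← h1]; exact hzz₀⟩

/-- Distinct closed points of a w-local space are separated by a clopen subset. -/
theorem exists_isClopen_separating {x x' : X} (hx : IsClosed ({x} : Set X))
    (hx' : IsClosed ({x'} : Set X)) (hne : x ≠ x') : ∃ U : Set X, IsClopen U ∧ x ∈ U ∧ x' ∉ U := by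
  have : SpectralSpace X := hX.1
  -- the closed points, a closed subspace
  let Z : Set X := {x : X | IsClosed ({x} : Set X)}
  have hZ : IsClosed Z := hX.2.1
  have : SpectralSpace Z := spectralSpace_of_isClosed_constr (isClosed_constr_of_isClosed hZ)
  have : T1Space Z := by
    refine ⟨fun z => ?_⟩
    have : ({z} : Set Z) = Subtype.val ⁻¹' ({z.1} : Set X) := by
      ext w
      simp [Subtype.ext_iff]
    rw [this]
    exact z.2.preimage continuous_subtype_val
  have : TotallySeparatedSpace Z := totallySeparatedSpace_of_t1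
  have hne' : (⟨x, hx⟩ : Z) ≠ ⟨x', hx'⟩ := fun h => hne (congrArg Subtype.val h)
  obtain ⟨V, hV, hxV, hx'V⟩ := exists_isClopen_of_totally_separated hne'
  have hemb : IsClosedEmbedding (Subtype.val : Z → X) := hZ.isClosedEmbedding_subtypeVal
  let E : Set X := Subtype.val '' V
  let E' : Set X := Subtype.val '' Vᶜ
  have hE : IsClosed E := hemb.isClosedMap _ hV.1
  have hE' : IsClosed E' := hemb.isClosedMap _ hV.compl.1
  have hEc : ∀ e ∈ E, IsClosed ({e} : Set X) := by
    rintro _ ⟨z, -, rfl⟩
    exact z.2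
  have hE'c : ∀ e ∈ E', IsClosed ({e} : Set X) := by
    rintro _ ⟨z, -, rfl⟩
    exact z.2
  have hcompl : {y | ∃ e ∈ E, y ⤳ e}ᶜ = {y | ∃ e ∈ E', y ⤳ e} := by
    ext y
    obtain ⟨y₀, ⟨hy₀, hyy₀⟩, huniq⟩ := hX.2.2 y
    simp only [Set.mem_compl_iff, Set.mem_ofPred_eq]
    constructor
    · intro hy
      refine ⟨y₀, ?_, hyy₀⟩
      by_cases hyV : (⟨y₀, hy₀⟩ : Z) ∈ V
      · exact absurd ⟨y₀, ⟨⟨y₀, hy₀⟩, hyV, rfl⟩, hyy₀⟩ hy
      · exact ⟨⟨y₀, hy₀⟩, hyV, rfl⟩
    · rintro ⟨e', ⟨z', hz'V, rfl⟩, hye'⟩ ⟨e, ⟨z, hzV, rfl⟩, hye⟩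
      have h1 : z.1 = y₀ := huniq z.1 ⟨z.2, hye⟩
      have h2 : z'.1 = y₀ := huniq z'.1 ⟨z'.2, hye'⟩
      have : z = z' := Subtype.ext (h1.trans h2.symm)
      exact hz'V (this ▸ hzV)
  refine ⟨{y | ∃ e ∈ E, y ⤳ e}, ⟨isClosed_generalizations hX hE hEc, ?_⟩, ?_, ?_⟩
  · rw [← isClosed_compl_iff, hcompl]
    exact isClosed_generalizations hX hE' hE'c
  · exact ⟨x, ⟨⟨x, hx⟩, hxV, rfl⟩, specializes_rfl⟩
  · rintro ⟨e, ⟨z, hzV, rfl⟩, hx'e⟩
    have : z.1 = x' := by
      have := hx'e.mem_closure
      rw [hx'.closure_eq] at this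
      exact this
    have hz : z = ⟨x', hx'⟩ := Subtype.ext this
    exact hx'V (hz ▸ hzV)

/-- Two closed points of a w-local space lying in the same connected component are equal. -/
theorem eq_of_mk_eq {x x' : X} (hx : IsClosed ({x} : Set X)) (hx' : IsClosed ({x'} : Set X))
    (h : (ConnectedComponents.mk x : ConnectedComponents X) = ConnectedComponents.mk x') :
    x = x' := by
  by_contra hne
  obtain ⟨U, hU, hxU, hx'U⟩ := exists_isClopen_separating hX hx hx' hne
  have hsub : connectedComponent x ⊆ U := hU.connectedComponent_subset hxU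
  have hmem : x' ∈ connectedComponent x := by
    have h' := h.symm
    rw [ConnectedComponents.coe_eq_coe'] at h'
    exact h'
  exact hx'U (hsub hmem)

/-- Every connected component of a w-local space contains a closed point. -/
theorem exists_closed_mk_eq (c : ConnectedComponents X) :
    ∃ x : X, IsClosed ({x} : Set X) ∧ ConnectedComponents.mk x = c := by
  obtain ⟨y, rfl⟩ := ConnectedComponents.surjective_coe c
  obtain ⟨y₀, ⟨hy₀, hyy₀⟩, -⟩ := hX.2.2 y
  exact ⟨y₀, hy₀, Groth.Agent.Lib.Helper10.Pi0.mk_eq_of_specializes X hyy₀⟩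

end Groth.Agent.Lib.Seat3.WLocal
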