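import Mathlib
import Groth.Prelude.Def_ProEtW
import Groth.Prelude.Def_PBC
import Groth.Agent.Lib.Seat3IndZar
import Groth.Agent.Lib.Seat3WLocal

/-!
# Recognizing ind-Zariski algebras (seat 3)

`isIndZariski_of_identifiesLocalRings_of_isWLocal`: if `A → B` identifies local rings and `Spec B`
is w-local, then `B` is ind-Zariski over `A` (no hypothesis on `Spec A` is needed). This is the
proof of milestone S0700 with the unused hypotheses removed.
-/

set_option autoImplicit false
open CategoryTheory CategoryTheory.Limits Topology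
universe u

namespace Groth.Agent.Lib.Seat3.IndZarRecog

open Groth.Agent.Lib.Seat3.WLocal Groth.Agent.Lib.Seat3.IndZar

/-- In a w-local spectrum every neighbourhood `D(t)` of a closed point contains a clopen
neighbourhood: there is an idempotent `e ∉ n` which is a multiple of `t`. -/
theorem exists_idem_of_notMem {B : Type u} [CommRing B] (h3 : ProEtW.IsWLocal (PrimeSpectrum B))
    (n : PrimeSpectrum B) (hn : IsClosed ({n} : Set (PrimeSpectrum B))) (t : B)
    (ht : t ∉ n.asIdeal) : ∃ e u : B, IsIdempotentElem e ∧ e ∉ n.asIdeal ∧ e = t * u := by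
  let ι := {U : Set (PrimeSpectrum B) // IsClopen U ∧ n ∈ U}
  have hempty : PrimeSpectrum.zeroLocus {t} ∩ ⋂ i : ι, i.1 = ∅ := by
    rw [Set.eq_empty_iff_forall_notMem]
    rintro p ⟨hp1, hp2⟩
    obtain ⟨p₀, ⟨hp₀, hpp₀⟩, -⟩ := h3.2.2 p
    have hpn : p₀ = n := by
      by_contra hne
      obtain ⟨U, hU, hnU, hp₀U⟩ := exists_isClopen_separating h3 hn hp₀ (Ne.symm hne)
      have hpU : p ∈ U := Set.mem_iInter.mp hp2 ⟨U, hU, hnU⟩
      exact hp₀U (hU.1.stableUnderSpecialization hpp₀ hpU)
    rw [hpn] at hpp₀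
    have hle : p ≤ n := (PrimeSpectrum.le_iff_specializes _ _).mpr hpp₀
    have htp : t ∈ p.asIdeal := by
      rw [PrimeSpectrum.mem_zeroLocus] at hp1
      exact hp1 (Set.mem_singleton t)
    exact ht (hle htp)
  obtain ⟨F, hF⟩ := (PrimeSpectrum.isClosed_zeroLocus ({t} : Set B)).isCompact.elim_finite_subfamily_closed
    (fun i : ι => i.1) (fun i => i.2.1.1) hempty
  have hU₀ : IsClopen (⋂ i ∈ F, (i : ι).1) := isClopen_biInter_finset (fun i _ => i.2.1)
  have hnU₀ : n ∈ ⋂ i ∈ F, (i : ι).1 := Set.mem_iInter₂.mpr (fun i _ => i.2.2)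
  obtain ⟨e, he, hUe⟩ := PrimeSpectrum.isClopen_iff.mp hU₀
  have hle : PrimeSpectrum.basicOpen e ≤ PrimeSpectrum.basicOpen t := by
    intro p hp
    have hp' : p ∈ ⋂ i ∈ F, (i : ι).1 := by rw [hUe]; exact hp
    show t ∉ p.asIdeal
    intro htp
    have : p ∈ PrimeSpectrum.zeroLocus {t} ∩ ⋂ i ∈ F, (i : ι).1 := by
      refine ⟨?_, hp'⟩
      rw [PrimeSpectrum.mem_zeroLocus]
      intro x hx
      rw [Set.mem_singleton_iff.mp hx]
      exact htp
    rw [hF] at this
    exact this
  rw [PrimeSpectrum.basicOpen_le_basicOpen_iff] at hle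
  obtain ⟨k, hk⟩ := hle
  have hek : e ∈ Ideal.span ({t} : Set B) := by
    have : e ^ (k + 1) ∈ Ideal.span ({t} : Set B) := by
      rw [pow_succ]
      exact Ideal.mul_mem_right _ _ hk
    rwa [he.pow_succ_eq] at this
  obtain ⟨a, ha⟩ := Ideal.mem_span_singleton'.mp hek
  refine ⟨e, a, he, ?_, by rw [← ha, mul_comm]⟩
  have : n ∈ (PrimeSpectrum.basicOpen e : Set (PrimeSpectrum B)) := by rw [← hUe]; exact hnU₀
  exact this

/-- If `A → B` identifies local rings and `Spec B` is w-local then `B` is ind-Zariski over `A`. -/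
theorem isIndZariski_of_identifiesLocalRings_of_isWLocal (A B : Type u) [CommRing A] [CommRing B]
    [Algebra A B] (h1 : EtPBC.IdentifiesLocalRings A B)
    (h3 : ProEtW.IsWLocal (PrimeSpectrum B)) :
    EtPBC.IsIndZariski A B := by
  classical
  have hinj : ∀ (n : PrimeSpectrum B) (a : A),
      (∃ c : B, c ∉ n.asIdeal ∧ c * algebraMap A B a = 0) →
      ∃ s : A, algebraMap A B s ∉ n.asIdeal ∧ s * a = 0 := by
    rintro n a ⟨c, hc, hca⟩
    have hbij := h1 n
    have hz : algebraMap A (Localization.AtPrime (n.asIdeal.comap (algebraMap A B))) a = 0 := by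
      apply hbij.1
      rw [Localization.localRingHom_to_map, map_zero,
        IsLocalization.map_eq_zero_iff n.asIdeal.primeCompl]
      exact ⟨⟨c, hc⟩, hca⟩
    rw [IsLocalization.map_eq_zero_iff (n.asIdeal.comap (algebraMap A B)).primeCompl] at hz
    obtain ⟨s, hs⟩ := hz
    exact ⟨s, s.2, hs⟩
  have HS : HitAll A B := by
    intro b
    let J : Ideal B :=
      { carrier := {x | ∃ e, IsIdempotentElem e ∧ IsHit A B (b * e) ∧ x * e = x}
        zero_mem' := ⟨0, IsIdempotentElem.zero, by rw [mul_zero]; exact isHit_zero, by simp⟩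
        add_mem' := by
          rintro x y ⟨e₁, he₁, hb₁, hx⟩ ⟨e₂, he₂, hb₂, hy⟩
          have h₁ : e₁ * e₁ = e₁ := he₁.eq
          have h₂ : e₂ * e₂ = e₂ := he₂.eq
          refine ⟨e₁ + e₂ - e₁ * e₂, ?_, ?_, ?_⟩
          · show (e₁ + e₂ - e₁ * e₂) * (e₁ + e₂ - e₁ * e₂) = e₁ + e₂ - e₁ * e₂
            linear_combination (1 + e₂ ^ 2 - 2 * e₂) * h₁ + (1 - e₁) * h₂
          · have : b * (e₁ + e₂ - e₁ * e₂) = b * e₁ + b * e₂ - b * e₁ * e₂ := by ring
            rw [this]
            exact (hb₁.add hb₂).sub (hb₁.mul (isHit_of_isIdempotentElem he₂))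
          · linear_combination (1 - e₂) * hx + (1 - e₁) * hy
        smul_mem' := by
          rintro c x ⟨e, he, hbe, hxe⟩
          exact ⟨e, he, hbe, by rw [smul_eq_mul, mul_assoc, hxe]⟩ }
    by_cases hJ : J = ⊤
    · have h1' : (1 : B) ∈ J := by rw [hJ]; trivial
      obtain ⟨e, he, hbe, h1e⟩ := h1'
      rw [one_mul] at h1e
      rw [h1e, mul_one] at hbe
      exact hbe
    · exfalso
      obtain ⟨n, hn, hJn⟩ := Ideal.exists_le_maximal J hJ
      let np : PrimeSpectrum B := ⟨n, hn.isPrime⟩
      have hncl : IsClosed ({np} : Set (PrimeSpectrum B)) :=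
        (PrimeSpectrum.isClosed_singleton_iff_isMaximal np).mpr hn
      obtain ⟨z, hz⟩ := (h1 np).2 (algebraMap B (Localization.AtPrime np.asIdeal) b)
      obtain ⟨a, s, rfl⟩ := IsLocalization.exists_mk'_eq
        (np.asIdeal.comap (algebraMap A B)).primeCompl z
      rw [Localization.localRingHom_mk'] at hz
      rw [IsLocalization.mk'_eq_iff_eq_mul, ← map_mul,
        IsLocalization.eq_iff_exists np.asIdeal.primeCompl] at hz
      obtain ⟨t, ht⟩ := hz
      have hts : (t : B) * algebraMap A B s ∉ np.asIdeal := by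
        intro hmem
        rcases hn.isPrime.mem_or_mem hmem with h | h
        · exact t.2 h
        · exact s.2 h
      obtain ⟨e, u₀, he, hen, heq⟩ := exists_idem_of_notMem h3 np hncl _ hts
      have hee : e * e = e := he.eq
      have hhit1 : IsHit A B ((t * u₀) * e) := by
        apply isHit_mul_idem_of_inv he (s : A) ((t : B) * u₀)
        calc algebraMap A B s * ((t : B) * u₀) * e = ((t : B) * algebraMap A B s * u₀) * e := by ring
          _ = e * e := by rw [← heq]
          _ = e := hee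
      have hbe : IsHit A B (b * e) := by
        have : b * e = algebraMap A B a * (((t : B) * u₀) * e) := by
          have ht' : (t : B) * algebraMap A B a = t * (b * algebraMap A B s) := ht
          linear_combination (-b) * hee + (b * e) * heq - (u₀ * e) * ht'
        rw [this]
        exact (isHit_algebraMap a).mul hhit1
      exact hen (hJn ⟨e, he, hbe, hee⟩)
  have HI : KillAll A B := by
    apply killAll_of_hitAll HS
    intro R _ _ _ ρ r hr
    by_contra hne
    obtain ⟨n, hn, hle⟩ := Ideal.exists_le_maximal _ hne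
    haveI := hn.isPrime
    obtain ⟨g, hg, hgr⟩ := exists_annihilator_notMem ρ n (hinj ⟨n, hn.isPrime⟩) r hr
    exact hg (hle (Ideal.subset_span ⟨g, hgr, rfl⟩))
  exact isIndZariski_of_hitAll_killAll HS HI


end Groth.Agent.Lib.Seat3.IndZarRecog
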