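import Groth.Agent.Lib.Helper17KInjD5

/-!
# Units of unbounded total right derived functors on K-injective complexes (seat 3)

* `isIso_unit_app_quotient`: for an additive functor `G : B ⥤ A` out of a Grothendieck abelian
  category and a total right derived functor `RG` of `G_K ⋙ Qh` (homotopy-category level, as in
  `DCoh.RpushEt`), the unit is an isomorphism on (the image of) every K-injective complex.
* `exists_kInjective_iso`: every object of `D(B)` is isomorphic to `Qh (quotient I)` with `I`
  K-injective.
-/

set_option autoImplicit false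
universe w w₁ w₂ v v' u u'
open CategoryTheory CategoryTheory.Limits

open Groth.Agent.Lib.Helper17.KInj

namespace Groth.Agent.Lib.Seat3.KInjUnit

section
variable {A : Type u} [Category.{v} A] [Abelian A] {B : Type u'} [Category.{v'} B] [Abelian B]
  [IsGrothendieckAbelian.{w} B] [HasDerivedCategory.{w₁} A] [HasDerivedCategory.{w₂} B]
  (G : B ⥤ A) [G.Additive] (RG : DerivedCategory B ⥤ DerivedCategory A)
  (βK : G.mapHomotopyCategory (ComplexShape.up ℤ) ⋙ DerivedCategory.Qh ⟶
    DerivedCategory.Qh ⋙ RG)
  [RG.IsRightDerivedFunctor βK (HomotopyCategory.quasiIso B (ComplexShape.up ℤ))]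

/-- The unit of a total right derived functor (on the homotopy category) is an isomorphism on
K-injective complexes. -/
lemma isIso_unit_app_quotient (I : CochainComplex B ℤ) [I.IsKInjective] :
    IsIso (βK.app ((HomotopyCategory.quotient B (ComplexShape.up ℤ)).obj I)) := by
  have h := isIso_app_of_isKInjective.{w} G RG (unitOfK G RG βK) I
  have e : (unitOfK G RG βK).app I = (isoF₀ G).inv.app I ≫
      βK.app ((HomotopyCategory.quotient B (ComplexShape.up ℤ)).obj I) ≫
      RG.map ((DerivedCategory.quotientCompQhIso B).hom.app I) := by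
    simp [unitOfK, γOfK]
  rw [e] at h
  have h2 : IsIso (βK.app ((HomotopyCategory.quotient B (ComplexShape.up ℤ)).obj I) ≫
      RG.map ((DerivedCategory.quotientCompQhIso B).hom.app I)) :=
    IsIso.of_isIso_comp_left ((isoF₀ G).inv.app I) _
  exact IsIso.of_isIso_comp_right _ (RG.map ((DerivedCategory.quotientCompQhIso B).hom.app I))

/-- every object of the derived category of a Grothendieck abelian category is isomorphic to the
image of a K-injective complex. -/
lemma exists_kInjective_iso (K : DerivedCategory B) :
    ∃ (I : CochainComplex B ℤ) (_ : I.IsKInjective),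
      Nonempty (DerivedCategory.Qh.obj ((HomotopyCategory.quotient B (ComplexShape.up ℤ)).obj I) ≅ K) := by
  obtain ⟨X, ⟨e⟩⟩ : ∃ X : CochainComplex B ℤ, Nonempty (DerivedCategory.Q.obj X ≅ K) :=
    ⟨_, ⟨DerivedCategory.Q.objObjPreimageIso K⟩⟩
  have hq : trivCof ((fibReplι₀ B).app X) := trivCof_fibReplι₀ B X
  have : QuasiIso ((fibReplι₀ B).app X) := hq.2
  have : IsIso (DerivedCategory.Q.map ((fibReplι₀ B).app X)) := by
    rw [DerivedCategory.isIso_Q_map_iff_quasiIso]
    infer_instance
  refine ⟨(fibRepl₀ B).obj X, (fibrant_fibRepl₀ B X).isKInjective, ⟨?_⟩⟩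
  exact (DerivedCategory.quotientCompQhIso B).app _ ≪≫
    (asIso (DerivedCategory.Q.map ((fibReplι₀ B).app X))).symm ≪≫ e

end

end Groth.Agent.Lib.Seat3.KInjUnit
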