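import Mathlib
import Groth.Agent.Lib.Seat3EtaleLift

/-!
# Étale algebras over quotients of a normal domain with separably closed fraction field (seat 3)

Let `A` be a normal domain whose fraction field `K` is separably closed.

* `exists_tmul_one_of_isIntegral`: an étale `A`-algebra `D` is integrally closed in `D ⊗[A] K`.
* `exists_idempotents`: an étale `A`-algebra splits as a finite product of pieces which are
  generically of degree one.
* `isEpi_quotient`: such a piece is an epimorphic `A`-algebra.
* `exists_idempotents_epi`: for a quotient `Ā` of `A`, every étale `Ā`-algebra is a finite product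
  of epimorphic `Ā`-algebras (lift the algebra to `A` with `Seat3EtaleLift`).
-/

set_option autoImplicit false
universe u
open TensorProduct

namespace Groth.Agent.Lib.Seat3.NormalSepClosed

section IntClosure

variable {A K D : Type u} [CommRing A] [IsDomain A] [IsIntegrallyClosed A] [Field K] [Algebra A K]
  [IsFractionRing A K] [CommRing D] [Algebra A D] [Algebra.Etale A D]

/-- An étale algebra over a normal domain is integrally closed in its generic fibre: every element
of `D ⊗[A] K` integral over `D` comes from `D`. -/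
theorem exists_tmul_one_of_isIntegral (y : D ⊗[A] K) (hy : IsIntegral D y) :
    ∃ d : D, d ⊗ₜ[A] (1 : K) = y := by
  have hbij := TensorProduct.toIntegralClosure_bijective_of_smooth (R := A) (S := D) (B := K)
  obtain ⟨x, hx⟩ := hbij.2 ⟨y, hy⟩
  have hbot : integralClosure A K = ⊥ :=
    (IsIntegrallyClosed.integralClosure_eq_bot_iff K).mpr inferInstance
  have key : ∀ x : D ⊗[A] integralClosure A K, ∃ d : D,
      ((TensorProduct.toIntegralClosure A D K x : integralClosure D (D ⊗[A] K)) : D ⊗[A] K) =
        d ⊗ₜ[A] (1 : K) := by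
    intro x
    induction x using TensorProduct.induction_on with
    | zero => exact ⟨0, by simp⟩
    | tmul d k =>
      obtain ⟨k, hk⟩ := k
      have hk' : k ∈ (⊥ : Subalgebra A K) := hbot ▸ hk
      obtain ⟨a, rfl⟩ := Algebra.mem_bot.mp hk'
      refine ⟨a • d, ?_⟩
      simp only [TensorProduct.toIntegralClosure, AlgHom.coe_codRestrict,
        Algebra.TensorProduct.map_tmul, AlgHom.coe_id, id_eq, Subalgebra.coe_val]
      rw [Algebra.algebraMap_eq_smul_one, TensorProduct.smul_tmul]
    | add x y hx hy =>
      obtain ⟨d, hd⟩ := hx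
      obtain ⟨d', hd'⟩ := hy
      refine ⟨d + d', ?_⟩
      rw [map_add, Subalgebra.coe_add, hd, hd', TensorProduct.add_tmul]
  obtain ⟨d, hd⟩ := key x
  refine ⟨d, ?_⟩
  rw [← hd, hx]

omit [IsIntegrallyClosed A] [Algebra.Etale A D] in
theorem tmul_one_injective [Module.Flat A D] :
    Function.Injective (fun d : D => d ⊗ₜ[A] (1 : K)) := by
  have h1 : Function.Injective ((Algebra.linearMap A K).lTensor D) :=
    Module.Flat.lTensor_preserves_injective_linearMap _ (IsFractionRing.injective A K)
  intro d d' h
  have h2 : (Algebra.linearMap A K).lTensor D (d ⊗ₜ 1) =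
      (Algebra.linearMap A K).lTensor D (d' ⊗ₜ 1) := by
    simpa using h
  have h3 := h1 h2
  have h4 := congrArg (TensorProduct.rid A D) h3
  simpa using h4

end IntClosure


section Idem

variable (A K D : Type u) [CommRing A] [IsDomain A] [IsIntegrallyClosed A] [Field K] [Algebra A K]
  [IsFractionRing A K] [IsSepClosed K] [CommRing D] [Algebra A D] [Algebra.Etale A D]

include K in
/-- An étale algebra over a normal domain with separably closed fraction field splits into
finitely many pieces, each generically of degree one. -/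
theorem exists_idempotents :
    ∃ (P : Type u) (_ : Fintype P) (d : P → D), (∀ p, IsIdempotentElem (d p)) ∧
      (∀ p q, p ≠ q → d p * d q = 0) ∧ (∑ p, d p = 1) ∧
      ∀ p (x : D), ∃ (s a : A), s ≠ 0 ∧ s • (d p * x) = a • d p := by
  classical
  let E := K ⊗[A] D
  haveI : Module.Finite K E := Algebra.FormallyUnramified.finite_of_free K E
  haveI : IsArtinianRing E := isArtinian_of_tower K inferInstance
  let e : E ≃ₐ[K] (PrimeSpectrum E → K) := Algebra.FormallyEtale.equivPiOfIsSepClosed K E
  haveI : Finite (PrimeSpectrum E) := inferInstance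
  cases nonempty_fintype (PrimeSpectrum E)
  let c : D ⊗[A] K ≃ₐ[A] K ⊗[A] D := Algebra.TensorProduct.comm A D K
  let et : PrimeSpectrum E → E := fun p => e.symm (Pi.single p 1)
  have het_mul : ∀ p q, et p * et q = if p = q then et p else 0 := by
    intro p q
    show e.symm (Pi.single p 1) * e.symm (Pi.single q 1) = _
    rw [← map_mul]
    split_ifs with h
    · subst h
      congr 1
      ext r
      by_cases hr : r = p
      · subst hr; simp
      · simp [Pi.single_eq_of_ne hr]
    · have : (Pi.single p (1 : K) * Pi.single q (1 : K) : PrimeSpectrum E → K) = 0 := by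
        ext r
        by_cases hr : r = p
        · subst hr
          simp [Pi.single_eq_of_ne h]
        · simp [Pi.single_eq_of_ne hr]
      rw [this, map_zero]
  have het_sum : ∑ p, et p = 1 := by
    show ∑ p, e.symm (Pi.single p 1) = 1
    rw [← map_sum, Finset.univ_sum_single]
    exact map_one e.symm
  have het_scal : ∀ p (z : E), et p * z = (e z p) • et p := by
    intro p z
    apply e.injective
    rw [map_mul, map_smul]
    show e (e.symm (Pi.single p 1)) * e z = e z p • e (e.symm (Pi.single p 1))
    rw [AlgEquiv.apply_symm_apply]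
    ext r
    by_cases hr : r = p
    · subst hr; simp
    · simp [Pi.single_eq_of_ne hr]
  let y : PrimeSpectrum E → D ⊗[A] K := fun p => c.symm (et p)
  have hyint : ∀ p, IsIntegral D (y p) := by
    intro p
    have hid : y p * y p = y p := by
      show c.symm (et p) * c.symm (et p) = c.symm (et p)
      rw [← map_mul, het_mul, if_pos rfl]
    refine ⟨Polynomial.X ^ 2 - Polynomial.X, ?_, ?_⟩
    · exact Polynomial.monic_X_pow_sub (lt_of_le_of_lt Polynomial.degree_X_le (by norm_num))
    · simp [pow_two, hid]
  choose d hd using fun p => exists_tmul_one_of_isIntegral (A := A) (K := K) (y p) (hyint p)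
  have hinj := tmul_one_injective (A := A) (K := K) (D := D)
  have hmul : ∀ a b : D, (a * b) ⊗ₜ[A] (1 : K) = a ⊗ₜ[A] (1 : K) * b ⊗ₜ[A] (1 : K) := by
    intro a b
    simp
  refine ⟨PrimeSpectrum E, inferInstance, d, ?_, ?_, ?_, ?_⟩
  · intro p
    apply hinj
    show (d p * d p) ⊗ₜ[A] (1 : K) = d p ⊗ₜ[A] (1 : K)
    rw [hmul, hd]
    show c.symm (et p) * c.symm (et p) = c.symm (et p)
    rw [← map_mul, het_mul, if_pos rfl]
  · intro p q hpq
    apply hinj
    show (d p * d q) ⊗ₜ[A] (1 : K) = (0 : D) ⊗ₜ[A] (1 : K)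
    rw [hmul, hd, hd, TensorProduct.zero_tmul]
    show c.symm (et p) * c.symm (et q) = 0
    rw [← map_mul, het_mul, if_neg hpq, map_zero]
  · apply hinj
    show (∑ p, d p) ⊗ₜ[A] (1 : K) = (1 : D) ⊗ₜ[A] (1 : K)
    rw [TensorProduct.sum_tmul]
    simp_rw [hd]
    show ∑ p, c.symm (et p) = 1
    rw [← map_sum, het_sum, map_one]
  · intro p x
    obtain ⟨a, s, hs, hk⟩ := IsFractionRing.div_surjective (A := A) (e ((1 : K) ⊗ₜ[A] x) p)
    have hs0 : (s : A) ≠ 0 := nonZeroDivisors.ne_zero hs
    refine ⟨s, a, hs0, ?_⟩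
    apply hinj
    show (s • (d p * x)) ⊗ₜ[A] (1 : K) = (a • d p) ⊗ₜ[A] (1 : K)
    rw [← TensorProduct.smul_tmul', ← TensorProduct.smul_tmul', hmul, hd]
    have h1 : x ⊗ₜ[A] (1 : K) = c.symm ((1 : K) ⊗ₜ[A] x) := by
      simp [c]
    rw [h1]
    show s • (c.symm (et p) * c.symm ((1 : K) ⊗ₜ[A] x)) = a • c.symm (et p)
    rw [← map_mul, ← map_smul, ← map_smul, het_scal, ← hk]
    congr 1
    rw [← algebraMap_smul K s, ← algebraMap_smul K a, smul_smul]
    congr 1
    have hs1 : algebraMap A K s ≠ 0 := by
      rwa [Ne, map_eq_zero_iff _ (IsFractionRing.injective A K)]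
    field_simp

end Idem


section Epi

variable {A D : Type u} [CommRing A] [IsDomain A] [CommRing D] [Algebra A D] [Module.Flat A D]

/-- A generically degree one idempotent piece of a flat algebra over a domain is an epimorphic
image. -/
theorem isEpi_quotient (d : D) (hd : IsIdempotentElem d)
    (h : ∀ x : D, ∃ (s a : A), s ≠ 0 ∧ s • (d * x) = a • d) :
    Algebra.IsEpi A (D ⧸ Ideal.span {1 - d}) := by
  rw [Algebra.isEpi_iff_forall_one_tmul_eq]
  intro c
  obtain ⟨x, rfl⟩ := Ideal.Quotient.mk_surjective c
  let q : D →ₐ[A] D ⧸ Ideal.span {1 - d} := Ideal.Quotient.mkₐ A _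
  let Φ : D ⊗[A] D →ₐ[A] (D ⧸ Ideal.span {1 - d}) ⊗[A] (D ⧸ Ideal.span {1 - d}) :=
    Algebra.TensorProduct.map q q
  have hqd : q d = 1 := by
    have : q (1 - d) = 0 := by
      show Ideal.Quotient.mk _ (1 - d) = 0
      exact Ideal.Quotient.eq_zero_iff_mem.mpr (Ideal.subset_span rfl)
    rw [map_sub, map_one, sub_eq_zero] at this
    exact this.symm
  obtain ⟨s, a, hs, hsa⟩ := h x
  have hz : d ⊗ₜ[A] (d * x) - (d * x) ⊗ₜ[A] d = (0 : D ⊗[A] D) := by
    have hreg : IsSMulRegular (D ⊗[A] D) s :=
      Module.Flat.isSMulRegular_of_isRegular (isRegular_of_ne_zero hs)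
    apply hreg
    show s • (d ⊗ₜ[A] (d * x) - (d * x) ⊗ₜ[A] d) = s • (0 : D ⊗[A] D)
    rw [smul_zero, smul_sub, ← TensorProduct.tmul_smul, TensorProduct.smul_tmul', hsa,
      TensorProduct.tmul_smul, TensorProduct.smul_tmul', sub_self]
  have h1 := congrArg Φ hz
  rw [map_sub, map_zero] at h1
  simp only [Φ, Algebra.TensorProduct.map_tmul, map_mul, hqd, one_mul] at h1
  have h2 : q x = Ideal.Quotient.mk _ x := rfl
  rw [h2, sub_eq_zero] at h1
  exact h1

end Epi

section Core

open CategoryTheory in
/-- Ring homomorphisms out of an epimorphic algebra are determined by their restriction to the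
base. -/
theorem ringHom_ext_of_isEpi {R S T : Type u} [CommRing R] [CommRing S] [CommRing T] [Algebra R S]
    [Algebra.IsEpi R S] (g h : S →+* T)
    (e : g.comp (algebraMap R S) = h.comp (algebraMap R S)) : g = h := by
  have hepi : CategoryTheory.Epi (CommRingCat.ofHom (algebraMap R S)) :=
    CommRingCat.epi_iff_epi.mpr inferInstance
  have h1 : CommRingCat.ofHom (algebraMap R S) ≫ CommRingCat.ofHom g =
      CommRingCat.ofHom (algebraMap R S) ≫ CommRingCat.ofHom h := by
    ext x
    exact RingHom.congr_fun e x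
  have h2 := (CategoryTheory.cancel_epi _).mp h1
  exact congrArg CommRingCat.Hom.hom h2

variable {A Abar C : Type u} [CommRing A] [IsDomain A] [IsIntegrallyClosed A]
  (K : Type u) [Field K] [Algebra A K] [IsFractionRing A K] [IsSepClosed K]
  [CommRing Abar] [CommRing C] [Algebra Abar C] [Algebra.Etale Abar C]

include K in
/-- **Core lemma.** Let `A` be a normal domain with separably closed fraction field, `Ā` a quotient
of `A` and `C` an étale `Ā`-algebra. Then `C` is a finite product of epimorphic `Ā`-algebras. -/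
theorem exists_idempotents_epi (π : A →+* Abar) (hπ : Function.Surjective π) :
    ∃ (P : Type u) (_ : Fintype P) (ε : P → C), (∀ p, IsIdempotentElem (ε p)) ∧
      (∀ p q, p ≠ q → ε p * ε q = 0) ∧ (∑ p, ε p = 1) ∧
      ∀ p (T : Type u) [CommRing T] (g h : C →+* T),
        g.comp (algebraMap Abar C) = h.comp (algebraMap Abar C) → g (ε p) = 1 → h (ε p) = 1 →
          g = h := by
  obtain ⟨D, _, _, π', hD, hπ', hcomm, -⟩ :=
    Groth.Agent.Lib.Seat3.EtaleLift.exists_etale_lift (C := C) π hπ
  obtain ⟨P, _, d, hid, horth, hsum, hscal⟩ := exists_idempotents A K D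
  refine ⟨P, inferInstance, fun p => π' (d p), ?_, ?_, ?_, ?_⟩
  · intro p
    show π' (d p) * π' (d p) = π' (d p)
    rw [← map_mul, (hid p).eq]
  · intro p q hpq
    show π' (d p) * π' (d q) = 0
    rw [← map_mul, horth p q hpq, map_zero]
  · rw [← map_sum, hsum, map_one]
  · intro p T _ g h hgh hg1 hh1
    have : Module.Flat A D := inferInstance
    have : Algebra.IsEpi A (D ⧸ Ideal.span {1 - d p}) := isEpi_quotient (d p) (hid p) (hscal p)
    have hker : ∀ f : C →+* T, f (π' (d p)) = 1 →
        ∀ a ∈ Ideal.span {1 - d p}, (f.comp π') a = 0 := by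
      intro f hf a ha
      obtain ⟨c, rfl⟩ := Ideal.mem_span_singleton'.mp ha
      simp [hf]
    let g₂ : D ⧸ Ideal.span {1 - d p} →+* T := Ideal.Quotient.lift _ (g.comp π') (hker g hg1)
    let h₂ : D ⧸ Ideal.span {1 - d p} →+* T := Ideal.Quotient.lift _ (h.comp π') (hker h hh1)
    have h1 : g₂ = h₂ := by
      apply ringHom_ext_of_isEpi (R := A)
      ext a
      show g (π' (algebraMap A D a)) = h (π' (algebraMap A D a))
      have := RingHom.congr_fun hcomm a
      simp only [RingHom.comp_apply] at this
      rw [this]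
      exact RingHom.congr_fun hgh (π a)
    ext c
    obtain ⟨x, rfl⟩ := hπ' c
    have := RingHom.congr_fun h1 (Ideal.Quotient.mk _ x)
    simpa [g₂, h₂] using this

end Core

end Groth.Agent.Lib.Seat3.NormalSepClosed
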