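import Mathlib
import Groth.Agent.Lib.Seat3NormalSepClosed

/-!
# Étale schemes over closed subschemes of a normal scheme with separably closed function field
(seat 3)

Let `X` be an affine integral normal scheme whose function field is separably closed and `Z ⟶ X` a
closed immersion.

* `exists_sigma_iso_of_etale`: an affine étale `Z`-scheme is a finite disjoint union of opens of `Z`.
* `exists_section_of_finite_etale`: a surjective finite étale morphism to `Z` has a section.

General tools: `isIntegrallyClosed_top`, `mono_of_epi_appTop`, `exists_sigma_iso`,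
`exists_disjoint_refinement`, `exists_section_of_cover`, `isClosed_of_disjoint_cover`.
-/

set_option autoImplicit false
universe u
open CategoryTheory CategoryTheory.Limits AlgebraicGeometry Opposite

namespace Groth.Agent.Lib.Seat3.NormalSepClosedSch

/-- Global sections of an affine integral scheme with integrally closed stalks are integrally
closed. -/
theorem isIntegrallyClosed_top (X : Scheme.{u}) [IsAffine X] [IsIntegral X]
    (hN : ∀ x : X, IsIntegrallyClosed (X.presheaf.stalk x)) : IsIntegrallyClosed Γ(X, ⊤) := by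
  apply IsIntegrallyClosed.of_localization_maximal
  intro p _ hp
  let y : PrimeSpectrum Γ(X, ⊤) := ⟨p, hp.isPrime⟩
  have hU := isAffineOpen_top X
  have := hN (hU.fromSpec y)
  let : Algebra Γ(X, ⊤) (X.presheaf.stalk (hU.fromSpec y)) :=
    TopCat.Presheaf.algebra_section_stalk X.presheaf (U := ⊤) ⟨hU.fromSpec y, trivial⟩
  have hloc : IsLocalization p.primeCompl (X.presheaf.stalk (hU.fromSpec y)) :=
    hU.isLocalization_stalk' y (by trivial)
  exact IsIntegrallyClosed.of_equiv (IsLocalization.algEquiv p.primeCompl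
    (X.presheaf.stalk (hU.fromSpec y)) (Localization.AtPrime p)).toRingEquiv

/-- A morphism of affine schemes which is an epimorphism on global sections is a monomorphism. -/
theorem mono_of_epi_appTop {X Y : Scheme.{u}} [IsAffine X] [IsAffine Y] (f : X ⟶ Y)
    [Epi f.appTop] : Mono f := by
  have h1 : Mono (Spec.map f.appTop) := by
    have : Mono f.appTop.op := inferInstance
    exact inferInstanceAs (Mono (Scheme.Spec.map f.appTop.op))
  have h2 : f = X.isoSpec.hom ≫ Spec.map f.appTop ≫ Y.isoSpec.inv := by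
    rw [← Category.assoc, Scheme.isoSpec_hom_naturality, Category.assoc, Iso.hom_inv_id,
      Category.comp_id]
  rw [h2]
  infer_instance

/-- An étale morphism of affine schemes, restricted to the locus of an idempotent on which it is
an epimorphism of rings, is an open immersion. -/
theorem isOpenImmersion_basicOpen_ι_comp {V Z : Scheme.{u}} [IsAffine V] [IsAffine Z] (φ : V ⟶ Z)
    [Etale φ] (ε : Γ(V, ⊤)) (hε : IsIdempotentElem ε)
    (H : ∀ (T : Type u) [CommRing T] (g h : Γ(V, ⊤) →+* T),
      g.comp φ.appTop.hom = h.comp φ.appTop.hom → g ε = 1 → h ε = 1 → g = h) :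
    IsOpenImmersion ((V.basicOpen ε).ι ≫ φ) := by
  have : IsAffine (V.basicOpen ε).toScheme := (isAffineOpen_top V).basicOpen ε
  have hunit : IsUnit ((V.basicOpen ε).ι.appTop.hom ε) :=
    IsLocalization.Away.algebraMap_isUnit (S := Γ((V.basicOpen ε).toScheme, ⊤)) ε
  have hone : (V.basicOpen ε).ι.appTop.hom ε = 1 := by
    have hid : IsIdempotentElem ((V.basicOpen ε).ι.appTop.hom ε) := hε.map _
    obtain ⟨w, hw⟩ := hunit
    have h1 : (w : Γ((V.basicOpen ε).toScheme, ⊤)) * w = w := by rw [hw]; exact hid.eq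
    have h2 := congrArg (fun t => ((w⁻¹ : Units _) : Γ((V.basicOpen ε).toScheme, ⊤)) * t) h1
    simp only [Units.inv_mul_cancel_left, Units.inv_mul] at h2
    rw [← hw, h2]
  have hepi : Epi (V.basicOpen ε).ι.appTop :=
    IsLocalization.epi (Submonoid.powers ε) Γ((V.basicOpen ε).toScheme, ⊤)
  have : Epi ((V.basicOpen ε).ι ≫ φ).appTop := by
    rw [Scheme.Hom.comp_appTop]
    constructor
    intro T g h hgh
    have key : ((V.basicOpen ε).ι.appTop ≫ g).hom = ((V.basicOpen ε).ι.appTop ≫ h).hom := by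
      apply H
      · have := congrArg CommRingCat.Hom.hom hgh
        simpa [CommRingCat.hom_comp, RingHom.comp_assoc] using this
      · show g.hom ((V.basicOpen ε).ι.appTop.hom ε) = 1
        rw [hone, map_one]
      · show h.hom ((V.basicOpen ε).ι.appTop.hom ε) = 1
        rw [hone, map_one]
    have key' : (V.basicOpen ε).ι.appTop ≫ g = (V.basicOpen ε).ι.appTop ≫ h :=
      CommRingCat.hom_ext key
    exact (cancel_epi _).mp key'
  have : Mono ((V.basicOpen ε).ι ≫ φ) := mono_of_epi_appTop _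
  exact IsOpenImmersion.of_flat_of_mono _

open scoped Function in
/-- A scheme which is covered by pairwise disjoint opens, each mapping by an open immersion to `Z`,
is the disjoint union of opens of `Z`. -/
theorem exists_sigma_iso {V Z : Scheme.{u}} (φ : V ⟶ Z) {P : Type u} (U : P → V.Opens)
    (hcov : ⨆ p, U p = ⊤) (hdisj : Pairwise (Disjoint on U))
    (hopen : ∀ p, IsOpenImmersion ((U p).ι ≫ φ)) :
    ∃ (W : P → Z.Opens) (e : (∐ fun k => (W k : Scheme.{u})) ≅ V),
      ∀ k, Sigma.ι (fun k => (W k : Scheme.{u})) k ≫ e.hom ≫ φ = (W k).ι := by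
  let W : P → Z.Opens := fun p => ((U p).ι ≫ φ).opensRange
  have hrange : ∀ p, Set.range (W p).ι = Set.range ((U p).ι ≫ φ) := by
    intro p
    rw [Scheme.Opens.range_ι]
    rfl
  let iso : ∀ p, (W p : Scheme.{u}) ≅ (U p : Scheme.{u}) := fun p =>
    IsOpenImmersion.isoOfRangeEq (W p).ι ((U p).ι ≫ φ) (hrange p)
  have hiso : ∀ p, (iso p).hom ≫ (U p).ι ≫ φ = (W p).ι := fun p =>
    IsOpenImmersion.isoOfRangeEq_hom_fac _ _ _
  let α : ∀ p, (W p : Scheme.{u}) ⟶ V := fun p => (iso p).hom ≫ (U p).ι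
  have hα : ∀ p, (α p).opensRange = U p := by
    intro p
    show ((iso p).hom ≫ (U p).ι).opensRange = U p
    rw [Scheme.Hom.opensRange_comp_of_isIso, Scheme.Opens.opensRange_ι]
  have hcolim : Nonempty (IsColimit (Cofan.mk V α)) := by
    apply nonempty_isColimit_cofanMk_of
    · simp_rw [hα]
      exact hcov
    · intro p q hpq
      show Disjoint (α p).opensRange (α q).opensRange
      rw [hα, hα]
      exact hdisj hpq
  have hisIso : IsIso (Sigma.desc α) := by
    have := (Cofan.nonempty_isColimit_iff_isIso_sigmaDesc (Cofan.mk V α)).mp hcolim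
    simpa using this
  refine ⟨W, asIso (Sigma.desc α), ?_⟩
  intro k
  show Sigma.ι (fun k => (W k : Scheme.{u})) k ≫ Sigma.desc α ≫ φ = (W k).ι
  rw [← Category.assoc, Sigma.ι_desc]
  show ((iso k).hom ≫ (U k).ι) ≫ φ = (W k).ι
  rw [Category.assoc]
  exact hiso k

/-- Over a closed subscheme `Z` of an affine normal integral scheme with separably closed function
field, an affine étale `Z`-scheme is covered by finitely many pairwise disjoint basic opens (cut out
by idempotents), each of which is an open subscheme of `Z`. -/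
theorem exists_idempotents_isOpenImmersion {V Z X : Scheme.{u}} [IsAffine X] [IsIntegral X]
    (hN : ∀ x : X, IsIntegrallyClosed (X.presheaf.stalk x)) [IsSepClosed X.functionField]
    (i : Z ⟶ X) [IsClosedImmersion i] (φ : V ⟶ Z) [Etale φ] [IsAffine V] :
    ∃ (P : Type u) (_ : Fintype P) (ε : P → Γ(V, ⊤)), (∀ p, IsIdempotentElem (ε p)) ∧
      (∀ p q, p ≠ q → ε p * ε q = 0) ∧ (∑ p, ε p = 1) ∧
      ∀ p, IsOpenImmersion ((V.basicOpen (ε p)).ι ≫ φ) := by
  have hZ : IsAffine Z := (IsClosedImmersion.isAffine_surjective_of_isAffine i).1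
  have hπ : Function.Surjective i.appTop.hom :=
    (IsClosedImmersion.isAffine_surjective_of_isAffine i).2
  haveI : Nonempty (⊤ : X.Opens) := by
    obtain ⟨x⟩ := (inferInstance : Nonempty X)
    exact ⟨⟨x, trivial⟩⟩
  haveI : IsDomain Γ(X, ⊤) := inferInstance
  haveI : IsIntegrallyClosed Γ(X, ⊤) := isIntegrallyClosed_top X hN
  haveI : IsFractionRing Γ(X, ⊤) X.functionField :=
    functionField_isFractionRing_of_isAffineOpen X ⊤ (isAffineOpen_top X)
  letI : Algebra Γ(Z, ⊤) Γ(V, ⊤) := φ.appTop.hom.toAlgebra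
  haveI : Algebra.Etale Γ(Z, ⊤) Γ(V, ⊤) :=
    (HasRingHomProperty.iff_of_isAffine (P := @Etale) (f := φ)).mp inferInstance
  obtain ⟨P, hP, ε, hid, horth, hsum, H⟩ :=
    Groth.Agent.Lib.Seat3.NormalSepClosed.exists_idempotents_epi (A := Γ(X, ⊤)) (Abar := Γ(Z, ⊤))
      (C := Γ(V, ⊤)) X.functionField i.appTop.hom hπ
  refine ⟨P, hP, ε, hid, horth, hsum, fun p => ?_⟩
  exact isOpenImmersion_basicOpen_ι_comp φ (ε p) (hid p) (fun T _ g h hgh hg hh => H p T g h hgh hg hh)

open scoped Function in
/-- Over a closed subscheme `Z` of an affine normal integral scheme with separably closed function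
field, an affine étale `Z`-scheme is covered by finitely many pairwise disjoint opens, each of which
is an open subscheme of `Z`. -/
theorem exists_opens_isOpenImmersion {V Z X : Scheme.{u}} [IsAffine X] [IsIntegral X]
    (hN : ∀ x : X, IsIntegrallyClosed (X.presheaf.stalk x)) [IsSepClosed X.functionField]
    (i : Z ⟶ X) [IsClosedImmersion i] (φ : V ⟶ Z) [Etale φ] [IsAffine V] :
    ∃ (P : Type u) (_ : Fintype P) (U : P → V.Opens), (⨆ p, U p = ⊤) ∧
      Pairwise (Disjoint on U) ∧ ∀ p, IsOpenImmersion ((U p).ι ≫ φ) := by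
  obtain ⟨P, hP, ε, hid, horth, hsum, hopen⟩ := exists_idempotents_isOpenImmersion hN i φ
  have hcov : ⨆ p, V.basicOpen (ε p) = ⊤ := by
    have h1 := iSup_basicOpen_of_span_eq_top (X := V) ⊤ (Set.range ε) (by
      rw [Ideal.eq_top_iff_one, ← hsum]
      exact Ideal.sum_mem _ (fun p _ => Ideal.subset_span ⟨p, rfl⟩))
    refine le_antisymm le_top (h1.symm.le.trans ?_)
    refine iSup₂_le fun f hf => ?_
    obtain ⟨p, rfl⟩ := hf
    exact le_iSup (fun p => V.basicOpen (ε p)) p
  have hdisj : Pairwise (Disjoint on fun p => V.basicOpen (ε p)) := by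
    intro p q hpq
    show Disjoint (V.basicOpen (ε p)) (V.basicOpen (ε q))
    rw [disjoint_iff, ← Scheme.basicOpen_mul, horth p q hpq, Scheme.basicOpen_zero]
  exact ⟨P, hP, fun p => V.basicOpen (ε p), hcov, hdisj, hopen⟩

/-- Over a closed subscheme `Z` of an affine normal integral scheme with separably closed function
field, an affine étale `Z`-scheme is a finite disjoint union of opens of `Z`. -/
theorem exists_sigma_iso_of_etale {V Z X : Scheme.{u}} [IsAffine X] [IsIntegral X]
    (hN : ∀ x : X, IsIntegrallyClosed (X.presheaf.stalk x)) [IsSepClosed X.functionField]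
    (i : Z ⟶ X) [IsClosedImmersion i] (φ : V ⟶ Z) [Etale φ] [IsAffine V] :
    ∃ (ι : Type u) (_ : Finite ι) (W : ι → Z.Opens) (e : (∐ fun k => (W k : Scheme.{u})) ≅ V),
      ∀ k, Sigma.ι (fun k => (W k : Scheme.{u})) k ≫ e.hom ≫ φ = (W k).ι := by
  obtain ⟨P, hP, U, hcov, hdisj, hopen⟩ := exists_opens_isOpenImmersion hN i φ
  obtain ⟨W, e, he⟩ := exists_sigma_iso φ U hcov hdisj hopen
  exact ⟨P, Finite.of_fintype P, W, e, he⟩

open scoped Function in
/-- A finite cover of a topological space by clopen sets can be refined to a partition into open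
sets. -/
theorem exists_disjoint_refinement {Z : Type*} [TopologicalSpace Z] {P : Type*} [Finite P]
    (W : P → Set Z) (hW : ∀ p, IsClopen (W p)) (hcov : ⋃ p, W p = Set.univ) :
    ∃ W' : P → Set Z, (∀ p, IsOpen (W' p)) ∧ (∀ p, W' p ⊆ W p) ∧ Pairwise (Disjoint on W') ∧
      ⋃ p, W' p = Set.univ := by
  classical
  cases nonempty_fintype P
  obtain ⟨n, ⟨e⟩⟩ := Finite.exists_equiv_fin P
  refine ⟨fun p => W p ∩ ⋂ q ∈ {q : P | e q < e p}, (W q)ᶜ, ?_, ?_, ?_, ?_⟩
  · intro p
    refine (hW p).isOpen.inter ?_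
    exact Set.Finite.isOpen_biInter (Set.toFinite _) (fun q _ => (hW q).isClosed.isOpen_compl)
  · intro p
    exact Set.inter_subset_left
  · intro p q hpq
    have hne : e p ≠ e q := fun h => hpq (e.injective h)
    show Disjoint (W p ∩ ⋂ r ∈ {r : P | e r < e p}, (W r)ᶜ)
      (W q ∩ ⋂ r ∈ {r : P | e r < e q}, (W r)ᶜ)
    rw [Set.disjoint_left]
    rintro z ⟨hzp, hzp'⟩ ⟨hzq, hzq'⟩
    rcases lt_or_gt_of_ne hne with h | h
    · have := Set.mem_iInter₂.mp hzq' p h
      exact this hzp
    · have := Set.mem_iInter₂.mp hzp' q h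
      exact this hzq
  · rw [Set.eq_univ_iff_forall]
    intro z
    have hz : z ∈ ⋃ p, W p := by rw [hcov]; trivial
    obtain ⟨p₀, hp₀⟩ := Set.mem_iUnion.mp hz
    have hne : (Finset.univ.filter (fun p => z ∈ W p)).Nonempty := ⟨p₀, by simp [hp₀]⟩
    obtain ⟨p, hp, hmin⟩ := Finset.exists_min_image _ e hne
    simp only [Finset.mem_filter, Finset.mem_univ, true_and] at hp hmin
    refine Set.mem_iUnion.mpr ⟨p, hp, ?_⟩
    refine Set.mem_iInter₂.mpr fun q hq hzq => ?_
    exact absurd (hmin q hzq) (not_le.mpr hq)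

open scoped Function in
/-- If `V` has finitely many opens, each mapping isomorphically onto a clopen subset of `Z`, whose
images cover `Z`, then `V ⟶ Z` has a section. -/
theorem exists_section_of_cover {V Z : Scheme.{u}} (φ : V ⟶ Z) {P : Type u} [Finite P]
    (U : P → V.Opens) (hopen : ∀ p, IsOpenImmersion ((U p).ι ≫ φ))
    (hclosed : ∀ p, IsClosed (Set.range ((U p).ι ≫ φ)))
    (hcov : ⋃ p, Set.range ((U p).ι ≫ φ) = Set.univ) : ∃ s : Z ⟶ V, s ≫ φ = 𝟙 Z := by
  let W : P → Z.Opens := fun p => ((U p).ι ≫ φ).opensRange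
  have hrange : ∀ p, Set.range (W p).ι = Set.range ((U p).ι ≫ φ) := by
    intro p
    rw [Scheme.Opens.range_ι]
    rfl
  let iso : ∀ p, (W p : Scheme.{u}) ≅ (U p : Scheme.{u}) := fun p =>
    IsOpenImmersion.isoOfRangeEq (W p).ι ((U p).ι ≫ φ) (hrange p)
  have hiso : ∀ p, (iso p).hom ≫ (U p).ι ≫ φ = (W p).ι := fun p =>
    IsOpenImmersion.isoOfRangeEq_hom_fac _ _ _
  obtain ⟨W', hW'o, hW'le, hW'disj, hW'cov⟩ :=
    exists_disjoint_refinement (fun p => Set.range ((U p).ι ≫ φ))
      (fun p => ⟨hclosed p, ((U p).ι ≫ φ).isOpenEmbedding.isOpen_range⟩) hcov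
  let W'o : P → Z.Opens := fun p => ⟨W' p, hW'o p⟩
  have hle : ∀ p, W'o p ≤ W p := fun p => hW'le p
  have hcolim : Nonempty (IsColimit (Cofan.mk Z (fun p => (W'o p).ι))) := by
    apply nonempty_isColimit_cofanMk_of
    · simp_rw [Scheme.Opens.opensRange_ι]
      rw [eq_top_iff]
      intro z _
      have hz : z ∈ ⋃ p, W' p := by rw [hW'cov]; trivial
      obtain ⟨p, hp⟩ := Set.mem_iUnion.mp hz
      exact TopologicalSpace.Opens.mem_iSup.mpr ⟨p, hp⟩
    · intro p q hpq
      show Disjoint ((W'o p).ι).opensRange ((W'o q).ι).opensRange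
      rw [Scheme.Opens.opensRange_ι, Scheme.Opens.opensRange_ι, disjoint_iff, eq_bot_iff]
      intro z hz
      exact Set.disjoint_left.mp (hW'disj hpq) hz.1 hz.2
  obtain ⟨hc⟩ := hcolim
  let t : ∀ p, (W'o p : Scheme.{u}) ⟶ V := fun p => Z.homOfLE (hle p) ≫ (iso p).hom ≫ (U p).ι
  refine ⟨Cofan.IsColimit.desc hc t, ?_⟩
  refine Cofan.IsColimit.hom_ext hc _ _ (fun p => ?_)
  rw [← Category.assoc, Cofan.IsColimit.fac hc t p]
  show (Z.homOfLE (hle p) ≫ (iso p).hom ≫ (U p).ι) ≫ φ = (W'o p).ι ≫ 𝟙 Z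
  rw [Category.comp_id, Category.assoc, Category.assoc, hiso p, Scheme.homOfLE_ι]

open scoped Function in
/-- The members of a pairwise disjoint open cover are closed. -/
theorem isClosed_of_disjoint_cover {V : Type*} [TopologicalSpace V] {P : Type*}
    (U : P → TopologicalSpace.Opens V) (hcov : ⨆ p, U p = ⊤) (hdisj : Pairwise (Disjoint on U))
    (p : P) : IsClosed (U p : Set V) := by
  rw [← isOpen_compl_iff]
  have h : (U p : Set V)ᶜ = ⋃ q ∈ {q : P | q ≠ p}, (U q : Set V) := by
    ext v
    simp only [Set.mem_compl_iff, SetLike.mem_coe, Set.mem_iUnion, Set.mem_ofPred_eq, exists_prop]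
    constructor
    · intro hv
      have hv' : v ∈ ⨆ q, U q := by rw [hcov]; trivial
      obtain ⟨q, hq⟩ := TopologicalSpace.Opens.mem_iSup.mp hv'
      refine ⟨q, ?_, hq⟩
      rintro rfl
      exact hv hq
    · rintro ⟨q, hqp, hq⟩ hv
      have := hdisj hqp
      rw [Function.onFun, disjoint_iff, eq_bot_iff] at this
      exact this ⟨hq, hv⟩
  rw [h]
  exact isOpen_biUnion fun q _ => (U q).isOpen

/-- Over a closed subscheme `Z` of an affine normal integral scheme with separably closed function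
field, every surjective finite étale morphism to `Z` has a section. -/
theorem exists_section_of_finite_etale {V Z X : Scheme.{u}} [IsAffine X] [IsIntegral X]
    (hN : ∀ x : X, IsIntegrallyClosed (X.presheaf.stalk x)) [IsSepClosed X.functionField]
    (i : Z ⟶ X) [IsClosedImmersion i] (φ : V ⟶ Z) [Etale φ] [IsFinite φ] [Surjective φ] :
    ∃ s : Z ⟶ V, s ≫ φ = 𝟙 Z := by
  have hZ : IsAffine Z := (IsClosedImmersion.isAffine_surjective_of_isAffine i).1
  have hV : IsAffine V := isAffine_of_isAffineHom φ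
  obtain ⟨P, hP, U, hcov, hdisj, hopen⟩ := exists_opens_isOpenImmersion hN i φ
  have hrange : ∀ p, Set.range ((U p).ι ≫ φ) = φ '' (U p : Set V) := by
    intro p
    ext z
    constructor
    · rintro ⟨v, rfl⟩
      exact ⟨v.1, v.2, rfl⟩
    · rintro ⟨v, hv, rfl⟩
      exact ⟨⟨v, hv⟩, rfl⟩
  refine exists_section_of_cover φ U hopen ?_ ?_
  · intro p
    rw [hrange p]
    exact φ.isClosedMap _ (isClosed_of_disjoint_cover U hcov hdisj p)
  · rw [Set.eq_univ_iff_forall]
    intro z
    obtain ⟨v, rfl⟩ := φ.surjective z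
    have hv : v ∈ ⨆ q, U q := by rw [hcov]; trivial
    obtain ⟨p, hp⟩ := TopologicalSpace.Opens.mem_iSup.mp hv
    refine Set.mem_iUnion.mpr ⟨p, ?_⟩
    rw [hrange p]
    exact ⟨v, hp, rfl⟩

end Groth.Agent.Lib.Seat3.NormalSepClosedSch
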