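import Mathlib
import Groth.Prelude.Def_CohB1
import Groth.Agent.Lib.Seat92ChowUnion
import Groth.Agent.Lib.Helper22LimClosed
import Groth.Agent.Lib.Helper22FTLimit
import Groth.Agent.Lib.Helper22NA13
import Groth.Agent.S9199

/-!
# A proper morphism over a qcqs base is a limit of proper morphisms of finite presentation

* `exists_isClosed_image_of_directed`: a directed family of closed subsets of the source of a
  quasi-compact immersion into a quasi-compact scheme, whose intersection has closed image, has a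
  member with closed image.
* `exists_proper_fp_of_separated`: Step B: a closed subscheme `X`, proper over `S`, of a separated
  finitely presented `S`-scheme `Y` lies in a closed subscheme of `Y` proper and of finite presentation
  over `S`.
-/

set_option autoImplicit false
set_option linter.style.haveILetI false
universe u
open CategoryTheory CategoryTheory.Limits AlgebraicGeometry TopologicalSpace

namespace Groth.Agent.Lib.Seat92.ProperLimit

open Groth.Agent.Lib.Helper22.LimClosed Groth.Agent.Lib.Helper22.FTLimit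
  Groth.Agent.Lib.Helper22.FTIdeal

/-- A directed family of closed subsets of the source of a quasi-compact immersion `j` into a
quasi-compact scheme: if the intersection has closed image, so has some member. -/
theorem exists_isClosed_image_of_directed {Y' P : Scheme.{u}} [CompactSpace P] (j : Y' ⟶ P)
    [IsImmersion j] [QuasiCompact j] {κ : Type*} [Nonempty κ] (Z : κ → Set Y')
    (hZc : ∀ k, IsClosed (Z k)) (hdir : Directed (· ⊇ ·) Z) (hE : IsClosed (j '' ⋂ k, Z k)) :
    ∃ k, IsClosed (j '' Z k) := by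
  have hT : IsClosed (closure (Set.range j) \ Set.range j) := by
    have := isLocallyClosed_iff_isOpen_coborder.mp j.isLocallyClosed_range
    exact isOpen_compl_iff.mp this
  have hsub : closure (Set.range j) \ Set.range j ⊆ (j '' ⋂ k, Z k)ᶜ := by
    rintro x ⟨-, hx⟩ ⟨y, -, rfl⟩
    exact hx ⟨y, rfl⟩
  obtain ⟨W, hWc, hTW, hWE⟩ := exists_compact_open_between P _ _ hT.isCompact hE.isOpen_compl hsub
  have hK : IsCompact (j ⁻¹' (W : Set P)) := QuasiCompact.isCompact_preimage (f := j) _ W.isOpen hWc
  have hKE : j ⁻¹' (W : Set P) ∩ ⋂ k, Z k = ∅ := by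
    rw [Set.eq_empty_iff_forall_notMem]
    rintro y ⟨hyW, hyE⟩
    exact hWE hyW ⟨y, hyE, rfl⟩
  obtain ⟨k, hk⟩ := hK.elim_directed_family_closed Z hZc hKE hdir
  refine ⟨k, ?_⟩
  rw [← closure_subset_iff_isClosed]
  intro x hx
  have hxW : x ∉ (W : Set P) := by
    intro hxW
    obtain ⟨z, hzW, y, hy, rfl⟩ := mem_closure_iff.mp hx W W.isOpen hxW
    have : y ∈ j ⁻¹' (W : Set P) ∩ Z k := ⟨hzW, hy⟩
    rw [hk] at this
    exact this
  have hxr : x ∈ Set.range j := by
    by_contra hxr
    exact hxW (hTW ⟨closure_mono (Set.image_subset_range _ _) hx, hxr⟩)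
  obtain ⟨y, rfl⟩ := hxr
  refine ⟨y, ?_, rfl⟩
  have hind : Topology.IsInducing j := j.isEmbedding.isInducing
  have : y ∈ closure (Z k) := by
    rw [hind.closure_eq_preimage_closure_image]
    exact hx
  rwa [(hZc k).closure_eq] at this

lemma iInter_support_idx {Y : Scheme.{u}} [CompactSpace Y] [QuasiSeparatedSpace Y]
    (I : Y.IdealSheafData) : ⋂ J : Idx I, (J.1.support : Set Y) = (I.support : Set Y) := by
  conv_rhs => rw [← sSup_ftSub I, Scheme.IdealSheafData.support_sSup]
  rw [Closeds.coe_iInf]
  ext x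
  simp only [Set.mem_iInter, Closeds.coe_iInf, Subtype.forall]

lemma range_eq_support_ker {X Y : Scheme.{u}} (ι : X ⟶ Y) [IsClosedImmersion ι] :
    Set.range ι = (ι.ker.support : Set Y) := by
  rw [Scheme.Hom.support_ker, ι.isClosedEmbedding.isClosed_range.closure_eq]

/-- Step B: a closed subscheme `X`, proper over a qcqs `S`, of a separated finitely presented
`S`-scheme `Y` lies in a finitely presented closed subscheme of `Y` which is proper over `S`. -/
theorem exists_proper_fp_of_separated {X Y S : Scheme.{u}} [CompactSpace S]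
    [QuasiSeparatedSpace S] (ι : X ⟶ Y) [IsClosedImmersion ι] (f₁ : Y ⟶ S) [IsSeparated f₁]
    [LocallyOfFiniteType f₁] [QuasiCompact f₁] [IsProper (ι ≫ f₁)] :
    ∃ J : Idx ι.ker, IsProper (J.1.subschemeι ≫ f₁) := by
  haveI : CompactSpace Y := QuasiCompact.compactSpace_of_compactSpace f₁
  haveI : QuasiSeparatedSpace Y := quasiSeparatedSpace_of_quasiSeparated f₁
  obtain ⟨n, Y', π, j, hj, hsq, hπ, hsurj⟩ := Groth.Agent.Lib.Seat92.ChowUnion.chow_general f₁
  haveI : Surjective π := ⟨hsurj⟩
  haveI : IsProper (CohB1.ProjSpaceOver.toBase n S) := Groth.Agent.S9705.isProper_toBase n S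
  haveI : CompactSpace (CohB1.ProjSpaceOver n S) :=
    QuasiCompact.compactSpace_of_compactSpace (CohB1.ProjSpaceOver.toBase n S)
  haveI : QuasiSeparatedSpace (CohB1.ProjSpaceOver n S) :=
    quasiSeparatedSpace_of_quasiSeparated (CohB1.ProjSpaceOver.toBase n S)
  haveI : CompactSpace Y' := QuasiCompact.compactSpace_of_compactSpace π
  haveI : QuasiCompact j := inferInstance
  let Z : Idx ι.ker → Set Y' := fun J => π ⁻¹' (J.1.support : Set Y)
  have hZc : ∀ J, IsClosed (Z J) := fun J => J.1.support.isClosed.preimage π.continuous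
  have hdir : Directed (· ⊇ ·) Z := by
    intro J K
    obtain ⟨L, hJL, hKL⟩ :=
      (inferInstance : IsDirected (Idx ι.ker) (fun a b => a ≤ b)).directed J K
    exact ⟨L, Set.preimage_mono (Scheme.IdealSheafData.support_antitone hJL),
      Set.preimage_mono (Scheme.IdealSheafData.support_antitone hKL)⟩
  have hint : ⋂ J, Z J = π ⁻¹' Set.range ι := by
    rw [range_eq_support_ker, ← iInter_support_idx, Set.preimage_iInter]
  have hE : IsClosed (j '' ⋂ J, Z J) := by
    rw [hint, ← Scheme.Pullback.range_snd, ← Set.range_comp]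
    haveI : IsProper ((pullback.snd ι π ≫ j) ≫ CohB1.ProjSpaceOver.toBase n S) := by
      have : (pullback.snd ι π ≫ j) ≫ CohB1.ProjSpaceOver.toBase n S =
          pullback.fst ι π ≫ (ι ≫ f₁) := by
        rw [Category.assoc, hsq, ← Category.assoc, ← pullback.condition, Category.assoc]
      rw [this]; infer_instance
    haveI := IsProper.of_comp (pullback.snd ι π ≫ j) (CohB1.ProjSpaceOver.toBase n S)
    exact (pullback.snd ι π ≫ j).isClosedMap.isClosed_range
  obtain ⟨J, hJ⟩ := exists_isClosed_image_of_directed j Z hZc hdir hE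
  refine ⟨J, ?_⟩
  have hr : Set.range (pullback.snd J.1.subschemeι π ≫ j) = j '' Z J := by
    show Set.range (pullback.snd J.1.subschemeι π ≫ j) = j '' (π ⁻¹' (J.1.support : Set Y))
    rw [← J.1.range_subschemeι, ← Scheme.Pullback.range_snd, ← Set.range_comp]
    rfl
  haveI : IsClosedImmersion (pullback.snd J.1.subschemeι π ≫ j) :=
    IsClosedImmersion.of_isPreimmersion _ (hr ▸ hJ)
  haveI : UniversallyClosed (pullback.fst J.1.subschemeι π ≫ (J.1.subschemeι ≫ f₁)) := by
    have : (pullback.snd J.1.subschemeι π ≫ j) ≫ CohB1.ProjSpaceOver.toBase n S =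
        pullback.fst J.1.subschemeι π ≫ (J.1.subschemeι ≫ f₁) := by
      rw [Category.assoc, hsq, ← Category.assoc, ← pullback.condition, Category.assoc]
    rw [← this]; infer_instance
  haveI : Surjective (pullback.fst J.1.subschemeι π) :=
    MorphismProperty.of_isPullback (P := @Surjective)
      (IsPullback.of_hasPullback J.1.subschemeι π).flip ‹_›
  haveI : UniversallyClosed (J.1.subschemeι ≫ f₁) :=
    UniversallyClosed.of_comp_surjective (pullback.fst J.1.subschemeι π) _
  exact {}

instance isClosedImmersion_inclusion {Y : Scheme.{u}} {I J : Y.IdealSheafData} (h : I ≤ J) :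
    IsClosedImmersion (Scheme.IdealSheafData.inclusion h) := by
  haveI : IsClosedImmersion (Scheme.IdealSheafData.inclusion h ≫ I.subschemeι) := by
    rw [Scheme.IdealSheafData.inclusion_subschemeι]; infer_instance
  exact IsClosedImmersion.of_comp (Scheme.IdealSheafData.inclusion h) I.subschemeι

section sys

variable {Y S : Scheme.{u}} (I : Y.IdealSheafData) (f' : Y ⟶ S)

/-- The system of finitely presented closed subschemes containing `V(I)`, as schemes. -/
noncomputable def sysD : (Idx I)ᵒᵖ ⥤ Scheme.{u} :=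
  Groth.Agent.Lib.Helper22.FTLimit.diag I ⋙ Over.forget Y

lemma sysT_naturality {J K : (Idx I)ᵒᵖ} (a : J ⟶ K) :
    ((Groth.Agent.Lib.Helper22.FTLimit.diag I).map a).left ≫ (K.unop.1.subschemeι ≫ f') =
      J.unop.1.subschemeι ≫ f' := by
  have h := Over.w ((Groth.Agent.Lib.Helper22.FTLimit.diag I).map a)
  exact (Category.assoc _ _ _).symm.trans (congrArg (· ≫ f') h)

/-- The structure maps to `S`. -/
noncomputable def sysT : sysD I ⟶ (Functor.const (Idx I)ᵒᵖ).obj S where
  app J := J.unop.1.subschemeι ≫ f'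
  naturality _ _ a := (sysT_naturality I f' a).trans (Category.comp_id _).symm

/-- The cone with apex `V(I)`. -/
noncomputable def sysC : Cone (sysD I) := (Over.forget Y).mapCone (cone I)

/-- It is a limit cone. -/
noncomputable def sysIsLimit [CompactSpace Y] [QuasiSeparatedSpace Y] : IsLimit (sysC I) :=
  isLimitOfPreserves (Over.forget Y) (coneIsLimit I)

instance sysD_affine (i j : (Idx I)ᵒᵖ) (a : i ⟶ j) : IsAffineHom ((sysD I).map a) :=
  (inferInstance : IsAffineHom (Scheme.IdealSheafData.inclusion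
      (show j.unop.1 ≤ i.unop.1 from a.unop.le)))

instance sysD_compact [CompactSpace Y] (i : (Idx I)ᵒᵖ) : CompactSpace ((sysD I).obj i) :=
  (QuasiCompact.compactSpace_of_compactSpace i.unop.1.subschemeι :
    CompactSpace i.unop.1.subscheme)

instance sysD_qs [QuasiSeparatedSpace Y] (i : (Idx I)ᵒᵖ) :
    QuasiSeparatedSpace ((sysD I).obj i) :=
  (quasiSeparatedSpace_of_quasiSeparated i.unop.1.subschemeι :
    QuasiSeparatedSpace i.unop.1.subscheme)

lemma sysC_π_sysT (i : (Idx I)ᵒᵖ) :
    (sysC I).π.app i ≫ (sysT I f').app i = I.subschemeι ≫ f' := by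
  show Scheme.IdealSheafData.inclusion i.unop.2.1 ≫ (i.unop.1.subschemeι ≫ f') = _
  rw [← Category.assoc, Scheme.IdealSheafData.inclusion_subschemeι]

end sys

/-- Step A: a separated morphism of finite type to a qcqs scheme factors as a closed immersion into
a separated `S`-scheme of finite presentation. -/
theorem exists_separated_fp {X S : Scheme.{u}} [CompactSpace S] [QuasiSeparatedSpace S]
    (f : X ⟶ S) [IsSeparated f] [LocallyOfFiniteType f] [QuasiCompact f] :
    ∃ (Y : Scheme.{u}) (f₁ : Y ⟶ S) (ι : X ⟶ Y), LocallyOfFinitePresentation f₁ ∧ QuasiCompact f₁ ∧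
      IsSeparated f₁ ∧ IsClosedImmersion ι ∧ ι ≫ f₁ = f := by
  haveI : CompactSpace X := QuasiCompact.compactSpace_of_compactSpace f
  haveI : QuasiSeparatedSpace X := quasiSeparatedSpace_of_quasiSeparated f
  obtain ⟨Y, f', ι, h1, h2, h3, h4, h5, h6, h7⟩ :=
    Groth.Agent.Lib.Helper22.NA13.exists_closedImmersion_fp f
  let i₀ : (Idx ι.ker)ᵒᵖ := Opposite.op ⟨⊥, bot_mem_ftSub ι.ker⟩
  haveI : IsIso ι.toImage := inferInstance
  have h8 : ι.ker.subschemeι ≫ f' = inv ι.toImage ≫ f := by
    rw [IsIso.eq_inv_comp, ← Category.assoc]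
    erw [ι.toImage_imageι]
    exact h7
  have h9 : IsSeparated (ι.ker.subschemeι ≫ f') := by
    rw [h8]; infer_instance
  have hsep : IsSeparated ((sysC ι.ker).π.app i₀ ≫ (sysT ι.ker f').app i₀) := by
    rw [sysC_π_sysT]
    exact h9
  obtain ⟨i₁, hi₁⟩ := Groth.Agent.S9199.result S (sysD ι.ker) (sysT ι.ker f') (sysC ι.ker)
    (sysIsLimit ι.ker) i₀
  have hs : IsSeparated (i₁.unop.1.subschemeι ≫ f') := hi₁ i₁ (𝟙 _)
  have hlfp : LocallyOfFinitePresentation i₁.unop.1.subschemeι :=
    locallyOfFinitePresentation_subschemeι _ i₁.unop.2.2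
  have hle : i₁.unop.1.subschemeι.ker ≤ ι.ker := by
    rw [Scheme.IdealSheafData.ker_subschemeι]; exact i₁.unop.2.1
  refine ⟨i₁.unop.1.subscheme, i₁.unop.1.subschemeι ≫ f',
    IsClosedImmersion.lift i₁.unop.1.subschemeι ι hle, inferInstance, inferInstance, hs, ?_, ?_⟩
  · haveI : IsClosedImmersion (IsClosedImmersion.lift i₁.unop.1.subschemeι ι hle ≫
        i₁.unop.1.subschemeι) := by
      rw [IsClosedImmersion.lift_fac]; infer_instance
    exact IsClosedImmersion.of_comp _ i₁.unop.1.subschemeι
  · rw [← Category.assoc, IsClosedImmersion.lift_fac, h7]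

/-- A proper morphism to a qcqs scheme is a cofiltered limit, along closed immersions, of proper
morphisms of finite presentation. -/
theorem exists_proper_fp_limit {X S : Scheme.{u}} (f : X ⟶ S) [IsProper f] [CompactSpace S]
    [QuasiSeparatedSpace S] :
    ∃ (I : Type u) (_ : SmallCategory I) (_ : IsCofiltered I) (D : I ⥤ Over S) (c : Limits.Cone D)
      (_ : Limits.IsLimit c) (_ : c.pt ≅ Over.mk f),
      (∀ (i j : I) (a : i ⟶ j), IsClosedImmersion (D.map a).left) ∧
      (∀ i, IsClosedImmersion (c.π.app i).left ∧ IsProper (D.obj i).hom ∧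
        LocallyOfFinitePresentation (D.obj i).hom) := by
  obtain ⟨Y, f₁, ι, h1, h2, h3, h4, h5⟩ := exists_separated_fp f
  haveI : IsProper (ι ≫ f₁) := by rw [h5]; infer_instance
  haveI : LocallyOfFiniteType f₁ := inferInstance
  obtain ⟨J, hJ⟩ := exists_proper_fp_of_separated ι f₁
  have hlfpJ : LocallyOfFinitePresentation J.1.subschemeι :=
    locallyOfFinitePresentation_subschemeι _ J.2.2
  have hle : J.1.subschemeι.ker ≤ ι.ker := by
    rw [Scheme.IdealSheafData.ker_subschemeι]; exact J.2.1
  set f₂ := J.1.subschemeι ≫ f₁ with hf₂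
  set ι₂ := IsClosedImmersion.lift J.1.subschemeι ι hle with hι₂
  have hι₂f : ι₂ ≫ J.1.subschemeι = ι := IsClosedImmersion.lift_fac _ _ _
  haveI : IsClosedImmersion ι₂ := by
    haveI : IsClosedImmersion (ι₂ ≫ J.1.subschemeι) := by rw [hι₂f]; infer_instance
    exact IsClosedImmersion.of_comp _ J.1.subschemeι
  have hfac : ι₂ ≫ f₂ = f := by rw [hf₂, ← Category.assoc, hι₂f, h5]
  haveI : LocallyOfFinitePresentation f₂ := by rw [hf₂]; infer_instance
  haveI : CompactSpace J.1.subscheme := QuasiCompact.compactSpace_of_compactSpace f₂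
  haveI : QuasiSeparatedSpace J.1.subscheme := quasiSeparatedSpace_of_quasiSeparated f₂
  have hconn : IsConnected (Idx ι₂.ker)ᵒᵖ := IsCofiltered.isConnected _
  have hlim : IsLimit ((Over.map f₂).mapCone (cone ι₂.ker)) := by
    refine isLimitOfReflects (Over.forget S) ?_
    exact isLimitOfPreserves (Over.forget J.1.subscheme) (coneIsLimit ι₂.ker)
  haveI : IsIso ι₂.toImage := inferInstance
  have hw : (asIso ι₂.toImage).hom ≫ (ι₂.ker.subschemeι ≫ f₂) = f := by
    rw [← Category.assoc]
    erw [ι₂.toImage_imageι]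
    exact hfac
  refine ⟨(Idx ι₂.ker)ᵒᵖ, inferInstance, inferInstance,
    Groth.Agent.Lib.Helper22.FTLimit.diag ι₂.ker ⋙ Over.map f₂,
    (Over.map f₂).mapCone (cone ι₂.ker), hlim,
    (Over.isoMk (f := Over.mk f) (g := Over.mk (ι₂.ker.subschemeι ≫ f₂)) (asIso ι₂.toImage)
      hw).symm, fun i j a => ?_, fun i => ⟨?_, ?_, ?_⟩⟩
  · exact (inferInstance : IsClosedImmersion (Scheme.IdealSheafData.inclusion
      (show j.unop.1 ≤ i.unop.1 from a.unop.le)))
  · exact (inferInstance : IsClosedImmersion (Scheme.IdealSheafData.inclusion i.unop.2.1))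
  · exact (inferInstance : IsProper (i.unop.1.subschemeι ≫ f₂))
  · have : LocallyOfFinitePresentation i.unop.1.subschemeι :=
      locallyOfFinitePresentation_subschemeι _ i.unop.2.2
    exact (inferInstance : LocallyOfFinitePresentation (i.unop.1.subschemeι ≫ f₂))

end Groth.Agent.Lib.Seat92.ProperLimit
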