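import Mathlib
import Groth.Prelude.Def_ClSub2
import Groth.Agent.Lib.Helper1ProperOver
import Groth.Agent.Lib.Seat92ProperLimit

/-!
# A closed subset proper over a qcqs base sits in a constructible closed subset proper over the base (seat 3)

`exists_proper_nbhd`: let `g : T ⟶ S` be separated of finite type with `S` quasi-compact and quasi-separated, and
`Z ⊆ T` closed and proper over `S`.  Then `Z ⊆ K` for a closed `K ⊆ T`, proper over `S`, whose complement is
quasi-compact.  (Uses helper92's Chow-lemma consequence `exists_proper_fp_of_separated`.)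
-/

set_option autoImplicit false
set_option linter.style.haveILetI false
set_option linter.unusedSectionVars false
universe u
open CategoryTheory CategoryTheory.Limits AlgebraicGeometry TopologicalSpace

namespace Groth.Agent.Lib.Seat3.ProperNbhd

open Groth.Agent.Lib.Helper1 Groth.Agent.Lib.Helper22.FTIdeal Groth.Agent.Lib.Helper22.FTLimit
  Groth.Agent.Lib.Seat92.ProperLimit

/-- the complement of the support of a finite type ideal sheaf, inside an affine open, is quasi-compact -/
theorem isCompact_affine_diff_support {T : Scheme.{u}} (J : T.IdealSheafData) (hJ : FT J)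
    (U : T.affineOpens) : IsCompact ((U.1 : Set T) \ (J.support : Set T)) := by
  obtain ⟨s, hs⟩ := hJ U
  have h1 : (U.1 : Set T) \ (J.support : Set T) = ⋃ f ∈ s, (T.basicOpen f : Set T) := by
    have h2 : (U.1 : Set T) \ (J.support : Set T) =
        (U.1 : Set T) \ ((J.support : Set T) ∩ U.1) := by
      ext x; simp only [Set.mem_diff, Set.mem_inter_iff, not_and]; tauto
    rw [h2, J.coe_support_inter U, ← hs, Scheme.zeroLocus_span, Scheme.zeroLocus_def]
    ext x
    simp only [Set.mem_diff, Set.mem_inter_iff, Set.mem_iInter, Set.mem_compl_iff, not_and,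
      Set.mem_iUnion, exists_prop]
    constructor
    · rintro ⟨hxU, hx⟩
      by_contra hcon
      push Not at hcon
      exact hx (fun f hf hxf => hcon f hf hxf) hxU
    · rintro ⟨f, hf, hxf⟩
      exact ⟨T.basicOpen_le f hxf, fun h _ => h f hf hxf⟩
  rw [h1]
  exact s.finite_toSet.isCompact_biUnion fun f _ => (U.2.basicOpen f).isCompact

/-- the complement of the support of a finite type ideal sheaf on a quasi-compact scheme is quasi-compact -/
theorem isCompact_compl_support {T : Scheme.{u}} [CompactSpace T] (J : T.IdealSheafData)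
    (hJ : FT J) : IsCompact ((J.support : Set T)ᶜ) := by
  obtain ⟨s, hsf, hs⟩ := (isCompact_iff_finite_and_eq_biUnion_affineOpens (U := (⊤ : T.Opens))).1
    (by simpa using isCompact_univ)
  have h1 : ((J.support : Set T)ᶜ) = ⋃ U ∈ s, ((U.1 : Set T) \ (J.support : Set T)) := by
    ext x
    simp only [Set.mem_compl_iff, Set.mem_iUnion, Set.mem_diff, exists_prop]
    constructor
    · intro hx
      have hx' : x ∈ (⊤ : T.Opens) := trivial
      rw [hs] at hx'
      simp only [Opens.mem_iSup, exists_prop] at hx'
      obtain ⟨U, hU, hxU⟩ := hx'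
      exact ⟨U, hU, hxU, hx⟩
    · rintro ⟨U, _, _, hx⟩
      exact hx
  rw [h1]
  exact hsf.isCompact_biUnion fun U _ => isCompact_affine_diff_support J hJ U

/-- **Key lemma**: a closed subset proper over a qcqs base lies in a closed subset, proper over the base,
with quasi-compact complement. -/
theorem exists_proper_nbhd {T S : Scheme.{u}} [CompactSpace S] [QuasiSeparatedSpace S]
    (g : T ⟶ S) [IsSeparated g] [LocallyOfFiniteType g] [QuasiCompact g] (Z : Set T)
    (hZ : ClSub.IsProperOver g Z) :
    ∃ K : Set T, Z ⊆ K ∧ ClSub.IsProperOver g K ∧ IsCompact Kᶜ := by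
  obtain ⟨h, hp⟩ := hZ
  haveI : IsProper (redι Z h ≫ g) := hp
  haveI : CompactSpace T := QuasiCompact.compactSpace_of_compactSpace g
  obtain ⟨J, hJ⟩ := exists_proper_fp_of_separated (redι Z h) g
  refine ⟨(J.1.support : Set T), ?_, ?_, ?_⟩
  · have h1 : Z = ((redι Z h).ker.support : Set T) := by
      rw [← range_eq_support_ker, range_redι]
    have h2 : ((redι Z h).ker.support : Set T) ⊆ (J.1.support : Set T) :=
      Scheme.IdealSheafData.support_antitone J.2.1
    exact h1.le.trans h2
  · rw [isProperOver_iff_isProper_comp g J.1.subschemeι _ J.1.range_subschemeι]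
    exact hJ
  · exact isCompact_compl_support J.1 J.2.2

end Groth.Agent.Lib.Seat3.ProperNbhd
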