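import Mathlib
import Groth.Prelude.Def_EtCore
import Groth.Agent.Lib.Helper9EtFpH
import Groth.Agent.Lib.Helper16QcSect

/-!
# Sections of abelian étale sheaves over a qcqs étale scheme commute with filtered colimits (seat 3)

* `preservesColimitsOfShape_sectionsAt`: for `W` in the small étale site of `X` with `W.left` quasi-compact and
  quasi-separated, `F ↦ F(W)` preserves filtered colimits (indexed by small filtered categories in `Type u`).
* `exists_rep`, `exists_map_eq_zero`: the elementwise form.
-/

set_option autoImplicit false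
set_option linter.style.haveILetI false
set_option linter.unusedSectionVars false
universe u
open CategoryTheory CategoryTheory.Limits AlgebraicGeometry Opposite

namespace Groth.Agent.Lib.Seat3.QcSections

open Groth.Agent.Lib.Helper9.EtFp Groth.Agent.Lib.Helper16.QcSect

variable (X : Scheme.{u})

lemma qc_Cfp (U : Cfp X) : QC (Jfp X) U := by
  intro T hT
  obtain ⟨ι, Y, ⟨hfin, hcov⟩, hT'⟩ := exists_finite_subcover X T hT
  exact ⟨ι, hfin, Y, hT', hcov⟩

lemma qc2_Cfp (U : Cfp X) : QC2 (Jfp X) U := by
  intro T hT
  obtain ⟨ι, Y, ⟨hfin, hcov⟩, hT'⟩ := exists_finite_subcover X T hT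
  exact ⟨ι, hfin, Y, hT', hcov, fun a b => ⟨_, 𝟙 _, 𝟙 _, Category.id_comp _, qc_Cfp X _⟩⟩

/-- the sections functor at `W` -/
noncomputable abbrev sectionsAt (W : X.Etale) : EtCoh.Ab X ⥤ AddCommGrpCat.{u + 1} :=
  sheafToPresheaf X.smallEtaleTopology AddCommGrpCat.{u + 1} ⋙
    (evaluation X.Etaleᵒᵖ AddCommGrpCat.{u + 1}).obj (op W)

variable {X}

theorem preservesColimitsOfShape_sectionsAt_big (W : X.Etale) [CompactSpace W.left]
    [QuasiSeparatedSpace W.left] (I : Type (u + 1)) [SmallCategory I] [IsFiltered I] :
    PreservesColimitsOfShape I (sectionsAt X W) := by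
  let W' : Cfp X := mk X W ⟨inferInstance, inferInstance⟩
  have h : PreservesColimitsOfShape I (Γ (Jfp X) W') := by
    constructor
    intro F
    exact preservesColimit_sections (Jfp X) F W' (qc2_Cfp X W')
  haveI := h
  let e : sectionsAt X W ≅ Rab X ⋙ Γ (Jfp X) W' :=
    NatIso.ofComponents (fun F => Iso.refl _) (by intro F G f; rfl)
  exact preservesColimitsOfShape_of_natIso e.symm

theorem preservesColimitsOfShape_sectionsAt (W : X.Etale) [CompactSpace W.left]
    [QuasiSeparatedSpace W.left] (J : Type u) [SmallCategory J] [IsFiltered J] :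
    PreservesColimitsOfShape J (sectionsAt X W) :=
  preservesColimitsOfShape_of_small_up (sectionsAt X W)
    (fun I _ _ => preservesColimitsOfShape_sectionsAt_big W I) J

theorem preservesColimitsOfShape_forget (J : Type u) [SmallCategory J] [IsFiltered J] :
    PreservesColimitsOfShape J (forget AddCommGrpCat.{u + 1}) :=
  preservesColimitsOfShape_of_small_up (forget AddCommGrpCat.{u + 1})
    (fun I _ _ => inferInstance) J

variable {J : Type u} [SmallCategory J] [IsFiltered J] (D : J ⥤ EtCoh.Ab X) (c : Cocone D)
  (hc : IsColimit c)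

include hc in
/-- every section of a filtered colimit over a qcqs `W` comes from a finite stage -/
theorem exists_rep (W : X.Etale) [CompactSpace W.left] [QuasiSeparatedSpace W.left]
    (x : c.pt.obj.obj (op W)) :
    ∃ (j : J) (y : (D.obj j).obj.obj (op W)), (c.ι.app j).hom.app (op W) y = x := by
  haveI := preservesColimitsOfShape_sectionsAt W J
  haveI := preservesColimitsOfShape_forget.{u} J
  have h1 : IsColimit ((sectionsAt X W).mapCocone c) := isColimitOfPreserves _ hc
  exact Concrete.isColimit_exists_rep (D ⋙ sectionsAt X W) h1 x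

include hc in
/-- a section at a finite stage dying in the filtered colimit over a qcqs `W` dies at a later stage -/
theorem exists_map_eq_zero (W : X.Etale) [CompactSpace W.left] [QuasiSeparatedSpace W.left]
    (j : J) (y : (D.obj j).obj.obj (op W)) (hy : (c.ι.app j).hom.app (op W) y = 0) :
    ∃ (k : J) (a : j ⟶ k), (D.map a).hom.app (op W) y = 0 := by
  haveI := preservesColimitsOfShape_sectionsAt W J
  haveI := preservesColimitsOfShape_forget.{u} J
  have h1 : IsColimit ((sectionsAt X W).mapCocone c) := isColimitOfPreserves _ hc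
  have h2 : ((sectionsAt X W).mapCocone c).ι.app j y =
      ((sectionsAt X W).mapCocone c).ι.app j (0 : (D.obj j).obj.obj (op W)) := by
    rw [map_zero]; exact hy
  obtain ⟨k, a, b, hab⟩ :=
    (Concrete.isColimit_rep_eq_iff_exists (D ⋙ sectionsAt X W) h1 y
      (0 : (D.obj j).obj.obj (op W))).1 h2
  refine ⟨k, a, ?_⟩
  have h3 : ((D ⋙ sectionsAt X W).map b) (0 : (D.obj j).obj.obj (op W)) = 0 := map_zero _
  rw [h3] at hab
  exact hab

end Groth.Agent.Lib.Seat3.QcSections
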