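import Mathlib

/-!
# An abstract recollement (gluing) equivalence (seat 3)
-/

set_option autoImplicit false
universe v₁ v₂ v₃ u₁ u₂ u₃

open CategoryTheory CategoryTheory.Limits

namespace Groth.Agent.Lib.Seat3.Recoll

variable {𝒜 : Type u₁} {ℬ : Type u₂} {𝒞 : Type u₃} [Category.{v₁} 𝒜] [Category.{v₂} ℬ]
  [Category.{v₃} 𝒞]
  {iS : 𝒜 ⥤ ℬ} {iP : ℬ ⥤ 𝒜} (adjI : iS ⊣ iP) {jS : 𝒜 ⥤ 𝒞} {jP : 𝒞 ⥤ 𝒜} (adjJ : jS ⊣ jP)

/-- The functor `F ↦ (i^* F, j^* F, i^*(F ⟶ j_* j^* F))`. -/
def triple (iS : 𝒜 ⥤ ℬ) {jS : 𝒜 ⥤ 𝒞} {jP : 𝒞 ⥤ 𝒜} (adjJ : jS ⊣ jP) :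
    𝒜 ⥤ Comma (𝟭 ℬ) (jP ⋙ iS) where
  obj F :=
    { left := iS.obj F
      right := jS.obj F
      hom := iS.map (adjJ.unit.app F) }
  map {F G} φ :=
    { left := iS.map φ
      right := jS.map φ
      w := by
        dsimp
        rw [← Functor.map_comp, ← Functor.map_comp]
        congr 1
        exact (adjJ.unit.naturality φ) }
  map_id F := by ext <;> simp
  map_comp φ ψ := by ext <;> simp

variable [HasFiniteLimits 𝒜] [PreservesFiniteLimits iS] [PreservesFiniteLimits jS]

omit [HasFiniteLimits 𝒜] [PreservesFiniteLimits iS] [PreservesFiniteLimits jS] in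
include adjI in
/-- `i^*` of the unit of `i^* ⊣ i_*` is an isomorphism when the counit is. -/
lemma isIso_map_unit_I [IsIso adjI.counit] (A : 𝒜) : IsIso (iS.map (adjI.unit.app A)) := by
  have tri := adjI.left_triangle_components A
  have h3 : IsIso (iS.map (adjI.unit.app A) ≫ adjI.counit.app (iS.obj A)) := by
    rw [tri]; exact IsIso.id _
  exact IsIso.of_isIso_comp_right _ (adjI.counit.app (iS.obj A))

omit [HasFiniteLimits 𝒜] [PreservesFiniteLimits iS] [PreservesFiniteLimits jS] in
/-- joint faithfulness from joint conservativity -/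
lemma eq_of_map_eq [HasEqualizers 𝒜] [PreservesLimitsOfShape WalkingParallelPair iS]
    [PreservesLimitsOfShape WalkingParallelPair jS]
    (hcons : ∀ {F F' : 𝒜} (a : F ⟶ F'), IsIso (iS.map a) → IsIso (jS.map a) → IsIso a)
    {F F' : 𝒜} (a b : F ⟶ F') (hi : iS.map a = iS.map b) (hj : jS.map a = jS.map b) : a = b := by
  have h1 : IsIso (iS.map (equalizer.ι a b)) := by
    have hl := isLimitForkMapOfIsLimit iS (equalizer.condition a b) (equalizerIsEqualizer a b)
    exact isIso_limit_cone_parallelPair_of_eq hi hl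
  have h2 : IsIso (jS.map (equalizer.ι a b)) := by
    have hl := isLimitForkMapOfIsLimit jS (equalizer.condition a b) (equalizerIsEqualizer a b)
    exact isIso_limit_cone_parallelPair_of_eq hj hl
  have h3 : IsIso (equalizer.ι a b) := hcons _ h1 h2
  exact (cancel_epi (equalizer.ι a b)).mp (equalizer.condition a b)

section Square

variable [IsIso adjI.counit] (hz : ∀ G : ℬ, IsZero (jS.obj (iP.obj G)))
  (G : ℬ) (H : 𝒞) (φ : G ⟶ iS.obj (jP.obj H))

/-- the glued object `j_* H ×_{i_* i^* j_* H} i_* G` -/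
noncomputable abbrev glue : 𝒜 := pullback (adjI.unit.app (jP.obj H)) (iP.map φ)

include hz in
omit [PreservesFiniteLimits iS] [IsIso adjI.counit] in
lemma isIso_jS_fst : IsIso (jS.map (pullback.fst (adjI.unit.app (jP.obj H)) (iP.map φ))) := by
  have sq := (IsPullback.of_hasPullback (adjI.unit.app (jP.obj H)) (iP.map φ)).map jS
  have hg : IsIso (jS.map (iP.map φ)) :=
    ⟨⟨(hz _).to_ _, (hz _).eq_of_src _ _, (hz _).eq_of_src _ _⟩⟩
  exact sq.isIso_fst_of_isIso hg

omit [PreservesFiniteLimits jS] in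
lemma isIso_iS_snd : IsIso (iS.map (pullback.snd (adjI.unit.app (jP.obj H)) (iP.map φ))) := by
  have sq := (IsPullback.of_hasPullback (adjI.unit.app (jP.obj H)) (iP.map φ)).map iS
  have hf : IsIso (iS.map (adjI.unit.app (jP.obj H))) := isIso_map_unit_I adjI _
  exact sq.isIso_snd_of_isIso hf

end Square

section Main

variable [IsIso adjI.counit] [IsIso adjJ.counit] (hz : ∀ G : ℬ, IsZero (jS.obj (iP.obj G)))

include adjI hz in
theorem essSurj : (triple iS adjJ).EssSurj := by
  constructor
  intro Y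
  have h1 := isIso_jS_fst adjI hz Y.left Y.right Y.hom
  have h2 := isIso_iS_snd adjI Y.left Y.right Y.hom
  let P := glue adjI Y.left Y.right Y.hom
  let eH : jS.obj P ≅ Y.right :=
    asIso (jS.map (pullback.fst (adjI.unit.app (jP.obj Y.right)) (iP.map Y.hom))) ≪≫
      asIso (adjJ.counit.app Y.right)
  let eG : iS.obj P ≅ Y.left :=
    asIso (iS.map (pullback.snd (adjI.unit.app (jP.obj Y.right)) (iP.map Y.hom))) ≪≫
      asIso (adjI.counit.app Y.left)
  refine ⟨P, ⟨Comma.isoMk eG eH ?_⟩⟩
  change (iS.map (pullback.snd (adjI.unit.app (jP.obj Y.right)) (iP.map Y.hom)) ≫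
      adjI.counit.app Y.left) ≫ Y.hom =
    iS.map (adjJ.unit.app P) ≫ iS.map (jP.map
      (jS.map (pullback.fst (adjI.unit.app (jP.obj Y.right)) (iP.map Y.hom)) ≫
        adjJ.counit.app Y.right))
  have eR : adjJ.unit.app P ≫ jP.map
      (jS.map (pullback.fst (adjI.unit.app (jP.obj Y.right)) (iP.map Y.hom)) ≫
        adjJ.counit.app Y.right) =
      pullback.fst (adjI.unit.app (jP.obj Y.right)) (iP.map Y.hom) := by
    rw [Functor.map_comp, ← Category.assoc]
    have := adjJ.unit_naturality (pullback.fst (adjI.unit.app (jP.obj Y.right)) (iP.map Y.hom))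
    rw [this, Category.assoc]
    have t := adjJ.right_triangle_components Y.right
    exact (congrArg (fun m => pullback.fst (adjI.unit.app (jP.obj Y.right)) (iP.map Y.hom) ≫ m) t).trans
      (Category.comp_id _)
  rw [← Functor.map_comp, eR]
  have eL : adjI.counit.app Y.left ≫ Y.hom =
      iS.map (iP.map Y.hom) ≫ adjI.counit.app (iS.obj (jP.obj Y.right)) :=
    (adjI.counit_naturality Y.hom).symm
  rw [Category.assoc, eL, ← Category.assoc, ← Functor.map_comp, ← pullback.condition,
    Functor.map_comp, Category.assoc]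
  have t := adjI.left_triangle_components (jP.obj Y.right)
  exact (congrArg (fun m => iS.map (pullback.fst (adjI.unit.app (jP.obj Y.right)) (iP.map Y.hom)) ≫ m)
    t).trans (Category.comp_id _)

variable (hcons : ∀ {F F' : 𝒜} (a : F ⟶ F'), IsIso (iS.map a) → IsIso (jS.map a) → IsIso a)

include hcons in
omit [IsIso adjJ.counit] in
theorem faithful : (triple iS adjJ).Faithful := by
  constructor
  intro F F' a b hab
  have hi : iS.map a = iS.map b := congrArg CommaMorphism.left hab
  have hj : jS.map a = jS.map b := congrArg CommaMorphism.right hab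
  exact eq_of_map_eq hcons a b hi hj

include adjI hz hcons in
theorem full : (triple iS adjJ).Full := by
  constructor
  intro F F' m
  obtain ⟨α, hα⟩ : ∃ α : iS.obj F ⟶ iS.obj F', α = m.left := ⟨m.left, rfl⟩
  obtain ⟨β, hβ⟩ : ∃ β : jS.obj F ⟶ jS.obj F', β = m.right := ⟨m.right, rfl⟩
  have hw : α ≫ iS.map (adjJ.unit.app F') =
      iS.map (adjJ.unit.app F) ≫ iS.map (jP.map β) := by
    rw [hα, hβ]; exact m.w
  let φ' : iS.obj F' ⟶ iS.obj (jP.obj (jS.obj F')) := iS.map (adjJ.unit.app F')
  have hcomm : adjJ.unit.app F' ≫ adjI.unit.app (jP.obj (jS.obj F')) =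
      adjI.unit.app F' ≫ iP.map φ' := (adjI.unit_naturality (adjJ.unit.app F')).symm
  let c : F' ⟶ glue adjI (iS.obj F') (jS.obj F') φ' :=
    pullback.lift (adjJ.unit.app F') (adjI.unit.app F') hcomm
  have hc1 : c ≫ pullback.fst _ _ = adjJ.unit.app F' := pullback.lift_fst _ _ _
  have hc2 : c ≫ pullback.snd _ _ = adjI.unit.app F' := pullback.lift_snd _ _ _
  have hfst := isIso_jS_fst adjI hz (iS.obj F') (jS.obj F') φ'
  have hsnd := isIso_iS_snd adjI (iS.obj F') (jS.obj F') φ'
  have hc : IsIso c := by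
    apply hcons
    · have h3 : IsIso (iS.map c ≫ iS.map (pullback.snd (adjI.unit.app (jP.obj (jS.obj F')))
          (iP.map φ'))) := by
        rw [← Functor.map_comp, hc2]
        exact isIso_map_unit_I adjI F'
      exact IsIso.of_isIso_comp_right _ (iS.map (pullback.snd (adjI.unit.app (jP.obj (jS.obj F')))
          (iP.map φ')))
    · have h3 : IsIso (jS.map c ≫ jS.map (pullback.fst (adjI.unit.app (jP.obj (jS.obj F')))
          (iP.map φ'))) := by
        rw [← Functor.map_comp, hc1]
        exact isIso_map_unit_I adjJ F'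
      exact IsIso.of_isIso_comp_right _ (jS.map (pullback.fst (adjI.unit.app (jP.obj (jS.obj F')))
          (iP.map φ')))
  have hcompat : (adjJ.unit.app F ≫ jP.map β) ≫ adjI.unit.app (jP.obj (jS.obj F')) =
      (adjI.unit.app F ≫ iP.map α) ≫ iP.map φ' := by
    have n1 := adjI.unit_naturality (adjJ.unit.app F ≫ jP.map β)
    rw [← n1, Category.assoc, ← Functor.map_comp]
    congr 2
    rw [Functor.map_comp]
    exact hw.symm
  let a' : F ⟶ glue adjI (iS.obj F') (jS.obj F') φ' :=
    pullback.lift (adjJ.unit.app F ≫ jP.map β) (adjI.unit.app F ≫ iP.map α) hcompat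
  have ha1 : a' ≫ pullback.fst _ _ = adjJ.unit.app F ≫ jP.map β := pullback.lift_fst _ _ _
  have ha2 : a' ≫ pullback.snd _ _ = adjI.unit.app F ≫ iP.map α := pullback.lift_snd _ _ _
  let a : F ⟶ F' := a' ≫ inv c
  have hac : a ≫ c = a' := by simp [a]
  have hJ : a ≫ adjJ.unit.app F' = adjJ.unit.app F ≫ jP.map β := by
    rw [← hc1, ← Category.assoc, hac, ha1]
  have hI : a ≫ adjI.unit.app F' = adjI.unit.app F ≫ iP.map α := by
    rw [← hc2, ← Category.assoc, hac, ha2]
  refine ⟨a, ?_⟩
  apply CommaMorphism.ext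
  · change iS.map a = m.left
    rw [← hα]
    apply (adjI.homEquiv _ _).injective
    rw [Adjunction.homEquiv_unit, Adjunction.homEquiv_unit, adjI.unit_naturality]
    exact hI
  · change jS.map a = m.right
    rw [← hβ]
    apply (adjJ.homEquiv _ _).injective
    rw [Adjunction.homEquiv_unit, Adjunction.homEquiv_unit, adjJ.unit_naturality]
    exact hJ

include adjI hz hcons in
theorem isEquivalence : (triple iS adjJ).IsEquivalence where
  faithful := faithful adjJ hcons
  full := full adjI adjJ hz hcons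
  essSurj := essSurj adjI adjJ hz

end Main

end Groth.Agent.Lib.Seat3.Recoll
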