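import Mathlib
import Groth.Agent.Lib.Seat3ShStalk
import Groth.Agent.Lib.Seat3ClosedOpen
import Groth.Agent.S5596
import Groth.Agent.S0069

/-!
# Pushforward of étale sheaves of sets along a closed immersion (seat 3)

Set-valued analogue of `Seat3ClosedPush` / `Seat3ClosedOpen`.
-/

set_option autoImplicit false
universe u

open CategoryTheory CategoryTheory.Limits AlgebraicGeometry Opposite

namespace Groth.Agent.Lib.Seat3.ShClosed

open Groth.Agent.S0100 Groth.Agent.Lib.Seat3.ShStalk Groth.Agent.Lib.Helper16.SmallEtale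
  Groth.Agent.Lib.Seat3.ClosedPush Groth.Agent.Lib.Seat3.ClosedOpen

variable {Z X : Scheme.{u}} (i : Z ⟶ X) {Ω : Type u} [Field Ω] [IsSepClosed Ω]
  (ζ : Spec (CommRingCat.of Ω) ⟶ Z)

/-- The comparison map `(i_* G)_{ζ ≫ i} ⟶ G_ζ` (defined for any morphism `i`). -/
noncomputable def cmpSh (G : EtDesc.Sh Z) :
    (stalkSh (ζ ≫ i)).obj ((EtDesc.pushSh i).obj G) ⟶ (stalkSh ζ).obj G :=
  (stalkPullIsoSh i ζ).hom.app ((EtDesc.pushSh i).obj G) ≫
    (stalkSh ζ).map ((EtDesc.adjSh i).counit.app G)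

set_option backward.isDefEq.respectTransparency.types false in
lemma cmpSh_germ (G : EtDesc.Sh Z) (V : X.Etale)
    (v : (Scheme.pointSmallEtale (ζ ≫ i)).fiber.obj V)
    (σ : G.obj.obj (op ((EtCoh.bc i).obj V))) :
    cmpSh i ζ G (germ (ζ ≫ i) ((EtDesc.pushSh i).obj G) V v σ) =
      germ ζ G ((EtCoh.bc i).obj V) ((fiberIso i ζ).inv.app V v) σ := by
  have h1 := germ_compat i ζ ((EtDesc.pushSh i).obj G) V v σ
  have h2 := (Scheme.pointSmallEtale ζ).toPresheafFiber_naturality_apply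
    ((EtDesc.adjSh i).counit.app G).hom ((EtCoh.bc i).obj V) ((fiberIso i ζ).inv.app V v)
    (((EtDesc.adjSh i).unit.app ((EtDesc.pushSh i).obj G)).hom.app (op V) σ)
  have t := (EtDesc.adjSh i).right_triangle_components G
  have t' : ((EtDesc.adjSh i).counit.app G).hom.app (op ((EtCoh.bc i).obj V))
      (((EtDesc.adjSh i).unit.app ((EtDesc.pushSh i).obj G)).hom.app (op V) σ) = σ := by
    have := congrArg (fun m : (EtDesc.pushSh i).obj G ⟶ (EtDesc.pushSh i).obj G => m.hom.app (op V) σ) t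
    exact this
  change (stalkSh ζ).map ((EtDesc.adjSh i).counit.app G)
    ((stalkPullIsoSh i ζ).hom.app ((EtDesc.pushSh i).obj G)
      (germ (ζ ≫ i) ((EtDesc.pushSh i).obj G) V v σ)) = _
  rw [h1]
  refine h2.trans ?_
  exact congrArg _ t'

set_option backward.isDefEq.respectTransparency.types false in
lemma cmpSh_surjective [IsClosedImmersion i] (G : EtDesc.Sh Z) :
    Function.Surjective (cmpSh i ζ G) := by
  intro x
  let Φ := Scheme.pointSmallEtale ζ
  obtain ⟨W, w, τ, rfl⟩ := Φ.toPresheafFiber_jointly_surjective (P := G.obj) x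
  obtain ⟨V, h, w', hw'⟩ := exists_lift_nbhd i ζ W w
  refine ⟨germ (ζ ≫ i) ((EtDesc.pushSh i).obj G) V ((fiberIso i ζ).hom.app V w') (G.obj.map h.op τ), ?_⟩
  rw [cmpSh_germ]
  have e1 : (fiberIso i ζ).inv.app V ((fiberIso i ζ).hom.app V w') = w' := by
    simp
  rw [e1]
  change Φ.toPresheafFiber _ w' G.obj (G.obj.map h.op τ) = _
  rw [Φ.toPresheafFiber_w_apply, hw']

set_option backward.isDefEq.respectTransparency.types false in
lemma cmpSh_injective [IsClosedImmersion i] (G : EtDesc.Sh Z) :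
    Function.Injective (cmpSh i ζ G) := by
  intro y₁ y₂ hy
  let Φ := Scheme.pointSmallEtale ζ
  let Ψ := Scheme.pointSmallEtale (ζ ≫ i)
  obtain ⟨V, v, σ₁, σ₂, rfl, rfl⟩ :=
    Ψ.toPresheafFiber_jointly_surjective₂ (P := ((EtDesc.pushSh i).obj G).obj) y₁ y₂
  have h1 := cmpSh_germ i ζ G V v σ₁
  have h2 := cmpSh_germ i ζ G V v σ₂
  change cmpSh i ζ G (germ (ζ ≫ i) ((EtDesc.pushSh i).obj G) V v σ₁) =
    cmpSh i ζ G (germ (ζ ≫ i) ((EtDesc.pushSh i).obj G) V v σ₂) at hy
  rw [h1, h2] at hy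
  obtain ⟨W, g, w, hw, hg⟩ := (Φ.toPresheafFiber_eq_iff' _ _ σ₁ σ₂).mp hy
  have hg' : G.obj.map g.op σ₁ = G.obj.map g.op σ₂ := hg
  obtain ⟨V', q, k, w', hk, hkw⟩ := exists_lift_nbhd_rel i ζ V W g w
  have hv : Ψ.fiber.map q ((fiberIso i ζ).hom.app V' w') = v := by
    have nat := ConcreteCategory.congr_hom ((fiberIso i ζ).hom.naturality q) w'
    refine nat.symm.trans ?_
    change (fiberIso i ζ).hom.app V (Φ.fiber.map ((EtCoh.bc i).map q) w') = v
    rw [← hk, Functor.map_comp]
    change (fiberIso i ζ).hom.app V (Φ.fiber.map g (Φ.fiber.map k w')) = v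
    rw [hkw, hw]
    simp
  change Ψ.toPresheafFiber V v ((EtDesc.pushSh i).obj G).obj σ₁ =
    Ψ.toPresheafFiber V v ((EtDesc.pushSh i).obj G).obj σ₂
  rw [← hv, ← Ψ.toPresheafFiber_w_apply, ← Ψ.toPresheafFiber_w_apply]
  have e0 : ((EtDesc.pushSh i).obj G).obj.map q.op σ₁ = ((EtDesc.pushSh i).obj G).obj.map q.op σ₂ := by
    change G.obj.map ((EtCoh.bc i).map q).op σ₁ = G.obj.map ((EtCoh.bc i).map q).op σ₂
    rw [← hk, op_comp, Functor.map_comp, ConcreteCategory.comp_apply, ConcreteCategory.comp_apply, hg']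
  rw [e0]

lemma isIso_cmpSh [IsClosedImmersion i] (G : EtDesc.Sh Z) : IsIso (cmpSh i ζ G) :=
  (isIso_iff_bijective _).mpr ⟨cmpSh_injective i ζ G, cmpSh_surjective i ζ G⟩

lemma stalk_counit_bijective_sh [IsClosedImmersion i] (G : EtDesc.Sh Z) :
    Function.Bijective ((stalkSh ζ).map ((EtDesc.adjSh i).counit.app G)) := by
  have hiso := isIso_cmpSh i ζ G
  have : IsIso ((stalkSh ζ).map ((EtDesc.adjSh i).counit.app G)) := by
    have e : (stalkSh ζ).map ((EtDesc.adjSh i).counit.app G) =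
        (stalkPullIsoSh i ζ).inv.app ((EtDesc.pushSh i).obj G) ≫ cmpSh i ζ G := by
      simp [cmpSh]
    rw [e]
    infer_instance
  exact (isIso_iff_bijective _).mp this

/-- a morphism of étale sheaves of sets which is bijective on all geometric stalks is an isomorphism -/
lemma isIso_of_stalks {Y : Scheme.{u}} {F G : EtDesc.Sh Y} (v : F ⟶ G)
    (h : ∀ (Ω : Type u) [Field Ω] [IsSepClosed Ω] (ξ : Spec (CommRingCat.of Ω) ⟶ Y),
      Function.Bijective ((stalkSh ξ).map v)) : IsIso v := by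
  have hm : Mono v := (Groth.Agent.S5596.result v).1.mpr (fun Ω _ _ ξ => (h Ω ξ).1)
  have he : Epi v := (Groth.Agent.S5596.result v).2.mpr (fun Ω _ _ ξ => (h Ω ξ).2)
  exact isIso_of_mono_of_epi v

/-- For a closed immersion `i`, the counit `i⁻¹ i_* G ⟶ G` on sheaves of sets is an isomorphism. -/
theorem isIso_counit_app_sh [IsClosedImmersion i] (G : EtDesc.Sh Z) :
    IsIso ((EtDesc.adjSh i).counit.app G) :=
  isIso_of_stalks _ (fun Ω _ _ ξ => stalk_counit_bijective_sh i ξ G)

instance isIso_counit_sh [IsClosedImmersion i] : IsIso (EtDesc.adjSh i).counit :=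
  haveI : ∀ G, IsIso ((EtDesc.adjSh i).counit.app G) := isIso_counit_app_sh i
  NatIso.isIso_of_isIso_app _

lemma isSheaf_type (G : EtDesc.Sh Z) : Presieve.IsSheaf Z.smallEtaleTopology G.obj :=
  (isSheaf_iff_isSheaf_of_type _ _).mp G.property

set_option backward.isDefEq.respectTransparency.types false in
/-- a sheaf of sets has exactly one section over an empty scheme -/
lemma nonempty_sections_of_isEmpty (G : EtDesc.Sh Z) (W : Z.Etale) [IsEmpty W.left] :
    Nonempty (G.obj.obj (op W)) := by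
  have hbot : (⊥ : Sieve W) ∈ Z.smallEtaleTopology W := by
    rw [mem_smallEtale_iff]
    intro x
    exact (IsEmpty.false x).elim
  have hs := isSheaf_type G _ hbot
  let x : Presieve.FamilyOfElements G.obj (⊥ : Sieve W).arrows := fun Y f hf => hf.elim
  have hx : x.Compatible := by
    intro Y₁ Y₂ T g₁ g₂ f₁ f₂ h₁ h₂ _
    exact h₁.elim
  exact ⟨hs.amalgamate x hx⟩

set_option backward.isDefEq.respectTransparency.types false in
/-- the stalk of `i_* G` at a geometric point outside the closed subscheme is a singleton -/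
lemma unique_stalk_push [IsClosedImmersion i] (G : EtDesc.Sh Z) (ξ : Spec (CommRingCat.of Ω) ⟶ X)
    (hξ : Disjoint (Set.range ξ.base) (Set.range i.base)) :
    Nonempty (Unique ((stalkSh ξ).obj ((EtDesc.pushSh i).obj G))) := by
  let Φ := Scheme.pointSmallEtale ξ
  let P : X.Etaleᵒᵖ ⥤ Type (u + 1) := ((EtDesc.pushSh i).obj G).obj
  have hGs := isSheaf_type G
  -- shrinking lemma
  have shrink : ∀ (V : X.Etale) (x : Φ.fiber.obj V), ∃ (V' : X.Etale) (k : V' ⟶ V)
      (x' : Φ.fiber.obj V'), Φ.fiber.map k x' = x ∧ IsEmpty ((EtCoh.bc i).obj V').left := by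
    intro V x
    obtain ⟨xl, hxl, hxw⟩ : ∃ xl : Spec (CommRingCat.of Ω) ⟶ V.left,
        xl = x.left ∧ xl ≫ V.hom = ξ := ⟨x.left, rfl, Over.w x⟩
    obtain ⟨O, l, hl, hempty⟩ := Groth.Agent.S0069.exists_open_missing i V.hom xl
      (by rw [hxw]; exact hξ)
    let V' : X.Etale := Scheme.Etale.mk (O.ι ≫ V.hom)
    let k : V' ⟶ V := MorphismProperty.Over.homMk O.ι rfl
    have hlw : l ≫ O.ι ≫ V.hom = ξ :=
      (Category.assoc _ _ _).symm.trans ((congrArg (fun m => m ≫ V.hom) hl).trans hxw)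
    let x' : Φ.fiber.obj V' := Over.homMk l hlw
    refine ⟨V', k, x', ?_, hempty⟩
    apply Over.OverMorphism.ext
    exact hl.trans hxl
  have hsub : Subsingleton (Φ.presheafFiber.obj P) := by
    constructor
    intro p₁ p₂
    obtain ⟨V, x, z₁, z₂, rfl, rfl⟩ := Φ.toPresheafFiber_jointly_surjective₂ (P := P) p₁ p₂
    obtain ⟨V', k, x', hx', hE⟩ := shrink V x
    have hss : Subsingleton (G.obj.obj (op ((EtCoh.bc i).obj V'))) :=
      Groth.Agent.Lib.Helper16.EtGlue.subsingleton_of_isEmpty _ hGs _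
    have hz : P.map k.op z₁ = P.map k.op z₂ := hss.elim _ _
    rw [← hx', ← Φ.toPresheafFiber_w_apply, ← Φ.toPresheafFiber_w_apply, hz]
  have hne : Nonempty (Φ.presheafFiber.obj P) := by
    let x₀ : Φ.fiber.obj (EtCoh.top X) := Over.homMk ξ (Category.comp_id ξ)
    obtain ⟨V', k, x', hx', hE⟩ := shrink (EtCoh.top X) x₀
    obtain ⟨s⟩ := nonempty_sections_of_isEmpty G ((EtCoh.bc i).obj V')
    exact ⟨Φ.toPresheafFiber V' x' P s⟩
  obtain ⟨p⟩ := hne
  exact ⟨⟨⟨p⟩, fun q => hsub.elim q p⟩⟩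

instance ab5Type : AB5OfSize.{u, u} (Type (u + 1)) := AB5OfSize_of_univLE.{u, u, u + 1, u + 1} _

set_option backward.isDefEq.respectTransparency.types false in
/-- the stalk of a terminal sheaf is a singleton -/
lemma unique_stalk_of_isTerminal {Y : Scheme.{u}} (T : EtDesc.Sh Y) (hT : IsTerminal T)
    (v : Spec (CommRingCat.of Ω) ⟶ Y) : Nonempty (Unique ((stalkSh v).obj T)) := by
  have h1 : IsTerminal ((stalkSh v).obj T) := hT.isTerminalObj (stalkSh v) T
  let e : (stalkSh v).obj T ≅ PUnit.{u + 2} := h1.uniqueUpToIso Types.isTerminalPUnit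
  exact ⟨(e.toEquiv).unique⟩

lemma bijective_of_unique {A B : Type*} (f : A → B) (hA : Nonempty (Unique A))
    (hB : Nonempty (Unique B)) : Function.Bijective f := by
  obtain ⟨hA⟩ := hA
  obtain ⟨hB⟩ := hB
  exact ⟨fun a b _ => Subsingleton.elim a b, fun b => ⟨default, Subsingleton.elim _ _⟩⟩

set_option backward.isDefEq.respectTransparency.types false in
/-- a sheaf of sets all of whose stalks are singletons is terminal -/
lemma isIso_terminal_from_of_stalks {Y : Scheme.{u}} (F : EtDesc.Sh Y)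
    (h : ∀ (Ω : Type u) [Field Ω] [IsSepClosed Ω] (v : Spec (CommRingCat.of Ω) ⟶ Y),
      Nonempty (Unique ((stalkSh v).obj F))) : IsIso (terminal.from F) := by
  apply isIso_of_stalks
  intro Ω _ _ v
  exact bijective_of_unique _ (h Ω v) (unique_stalk_of_isTerminal _ terminalIsTerminal v)

lemma unique_of_iso {A B : Type (u + 1)} (e : A ≅ B) (h : Nonempty (Unique B)) :
    Nonempty (Unique A) := by
  obtain ⟨h⟩ := h
  exact ⟨e.toEquiv.unique⟩

omit [IsSepClosed Ω] in
lemma disjoint_of_comp_open {U : Scheme.{u}} (j : U ⟶ X)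
    (hZU : Set.range j.base = (Set.range i.base)ᶜ) (v : Spec (CommRingCat.of Ω) ⟶ U) :
    Disjoint (Set.range (v ≫ j).base) (Set.range i.base) := by
  rw [Set.disjoint_left]
  rintro _ ⟨a, rfl⟩ h2
  have h3 : (v ≫ j) a ∈ Set.range j.base := by
    rw [Scheme.Hom.comp_apply]
    exact ⟨_, rfl⟩
  rw [hZU] at h3
  exact h3 h2

set_option backward.isDefEq.respectTransparency.types false in
/-- `j⁻¹ i_* G` is terminal for the open complement `j` of the closed immersion `i` -/
theorem isIso_terminal_from_pull_push [IsClosedImmersion i] {U : Scheme.{u}} (j : U ⟶ X)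
    (hZU : Set.range j.base = (Set.range i.base)ᶜ) (G : EtDesc.Sh Z) :
    IsIso (terminal.from ((EtDesc.pullSh j).obj ((EtDesc.pushSh i).obj G))) := by
  apply isIso_terminal_from_of_stalks
  intro Ω _ _ v
  refine unique_of_iso ((stalkPullIsoSh j v).app ((EtDesc.pushSh i).obj G)).symm ?_
  exact unique_stalk_push i G (v ≫ j) (disjoint_of_comp_open i j hZU v)

variable (ζ : Spec (CommRingCat.of Ω) ⟶ Z)

set_option backward.isDefEq.respectTransparency.types false in
/-- the unit `F ⟶ i_* i⁻¹ F` is bijective on stalks at geometric points of the closed subscheme -/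
lemma stalk_unit_bijective_sh [IsClosedImmersion i] (F : EtDesc.Sh X) :
    Function.Bijective ((stalkSh (ζ ≫ i)).map ((EtDesc.adjSh i).unit.app F)) := by
  have tri := (EtDesc.adjSh i).left_triangle_components F
  have h1 : IsIso ((EtDesc.pullSh i).map ((EtDesc.adjSh i).unit.app F)) := by
    have := isIso_counit_app_sh i ((EtDesc.pullSh i).obj F)
    have h3 : IsIso ((EtDesc.pullSh i).map ((EtDesc.adjSh i).unit.app F) ≫
        (EtDesc.adjSh i).counit.app ((EtDesc.pullSh i).obj F)) := by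
      rw [tri]; exact IsIso.id _
    exact IsIso.of_isIso_comp_right _ ((EtDesc.adjSh i).counit.app _)
  have nat := (stalkPullIsoSh i ζ).hom.naturality ((EtDesc.adjSh i).unit.app F)
  have h4 : IsIso ((EtDesc.pullSh i ⋙ stalkSh ζ).map ((EtDesc.adjSh i).unit.app F)) := by
    rw [Functor.comp_map]; infer_instance
  have h5 : IsIso ((stalkSh (ζ ≫ i)).map ((EtDesc.adjSh i).unit.app F) ≫
      (stalkPullIsoSh i ζ).hom.app _) := nat ▸ inferInstance
  have h2 : IsIso ((stalkSh (ζ ≫ i)).map ((EtDesc.adjSh i).unit.app F)) :=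
    IsIso.of_isIso_comp_right _ ((stalkPullIsoSh i ζ).hom.app _)
  exact (isIso_iff_bijective _).mp h2

set_option backward.isDefEq.respectTransparency.types false in
/-- if `j⁻¹ F` is terminal then `F ⟶ i_* i⁻¹ F` is an isomorphism -/
theorem isIso_unit_sh_of_terminal [IsClosedImmersion i] {U : Scheme.{u}} (j : U ⟶ X)
    [IsOpenImmersion j] (hZU : Set.range j.base = (Set.range i.base)ᶜ) (F : EtDesc.Sh X)
    (hF : IsIso (terminal.from ((EtDesc.pullSh j).obj F))) :
    IsIso ((EtDesc.adjSh i).unit.app F) := by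
  apply isIso_of_stalks
  intro Ω _ _ ξ
  by_cases hξ : ξ (default : Spec (CommRingCat.of Ω)) ∈ Set.range i.base
  · obtain ⟨ζ, rfl⟩ := exists_fac_of_mem_range i ξ hξ
    exact stalk_unit_bijective_sh i ζ F
  · have hd := disjoint_range_of_not_mem i ξ hξ
    have hr : Set.range ξ.base ⊆ Set.range j.base := by
      rw [Groth.Agent.S0652.range_spec_field, hZU]
      exact Set.singleton_subset_iff.mpr hξ
    have hfac : IsOpenImmersion.lift j ξ hr ≫ j = ξ := IsOpenImmersion.lift_fac _ _ _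
    have hT : IsTerminal ((EtDesc.pullSh j).obj F) :=
      terminalIsTerminal.ofIso (asIso (terminal.from ((EtDesc.pullSh j).obj F))).symm
    have hu : Nonempty (Unique ((stalkSh ξ).obj F)) := by
      rw [← hfac]
      refine unique_of_iso ((stalkPullIsoSh j (IsOpenImmersion.lift j ξ hr)).app F) ?_
      exact unique_stalk_of_isTerminal _ hT _
    exact bijective_of_unique _ hu (unique_stalk_push i _ ξ hd)

end Groth.Agent.Lib.Seat3.ShClosed
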