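import Groth.Agent.Lib.Seat3ShriekComp

/-!
# The composition isomorphism `(h ≫ g)_! ≅ h_! ⋙ g_!` compatible with direct images (seat 3)

* `exists_iso_of_bijOn`, `exists_natIso_of_bijOn`: versions of the sub-functor matching lemmas that
  record the compatibility `e.hom ≫ m₂ = m₁ ≫ ρ`.
* `lowerShriekToPush_eq`: `lowerShriekToPush f F = (lowerShriekIso f).hom.app F ≫ (shriekToPush f).app F`.
* `existsUnique_lowerShriek_comp`.
-/

set_option autoImplicit false
universe u
open CategoryTheory CategoryTheory.Limits AlgebraicGeometry Opposite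

namespace Groth.Agent.Lib.Seat3.ShriekCompUniq

open EtShriek Groth.Agent.Lib.Seat3.ShriekSheaf Groth.Agent.Lib.Seat3.ShriekComp

/-- Two subfunctors of `G`, `G'` matched bijectively by `ρ : G ⟶ G'` are isomorphic, compatibly. -/
theorem exists_iso_of_bijOn {C : Type*} [Category C] {H₁ H₂ G G' : C ⥤ AddCommGrpCat.{u + 1}}
    (m₁ : H₁ ⟶ G) (m₂ : H₂ ⟶ G') (ρ : G ⟶ G')
    (h₁ : ∀ F, Function.Injective (m₁.app F)) (h₂ : ∀ F, Function.Injective (m₂.app F))
    (hb : ∀ F, Set.BijOn (ρ.app F) (Set.range (m₁.app F)) (Set.range (m₂.app F))) :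
    ∃ e : H₁ ≅ H₂, e.hom ≫ m₂ = m₁ ≫ ρ := by
  classical
  have hex : ∀ F (x : H₁.obj F), ∃ y : H₂.obj F, m₂.app F y = ρ.app F (m₁.app F x) := by
    intro F x
    obtain ⟨y, hy⟩ := (hb F).mapsTo ⟨x, rfl⟩
    exact ⟨y, hy⟩
  choose φ hφ using hex
  have hφadd : ∀ F (x y : H₁.obj F), φ F (x + y) = φ F x + φ F y := by
    intro F x y
    apply h₂ F
    rw [hφ, map_add, map_add, map_add, hφ, hφ]
  have hφinj : ∀ F, Function.Injective (φ F) := by
    intro F x y hxy
    apply h₁ F
    apply (hb F).injOn ⟨x, rfl⟩ ⟨y, rfl⟩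
    rw [← hφ, ← hφ, hxy]
  have hφsurj : ∀ F, Function.Surjective (φ F) := by
    intro F y
    obtain ⟨_, ⟨x, rfl⟩, hx⟩ := (hb F).surjOn ⟨y, rfl⟩
    refine ⟨x, ?_⟩
    apply h₂ F
    rw [hφ, hx]
  let e : ∀ F, H₁.obj F ≅ H₂.obj F := fun F =>
    (AddEquiv.ofBijective (AddMonoidHom.mk' (φ F) (hφadd F)) ⟨hφinj F, hφsurj F⟩).toAddCommGrpIso
  have hnat : ∀ {F F' : C} (f : F ⟶ F'), H₁.map f ≫ (e F').hom = (e F).hom ≫ H₂.map f := by
    intro F F' f
    ext x
    apply h₂ F'
    show m₂.app F' (φ F' (H₁.map f x)) = m₂.app F' (H₂.map f (φ F x))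
    rw [hφ]
    have n1 : m₁.app F' (H₁.map f x) = G.map f (m₁.app F x) :=
      congr($(m₁.naturality f) x)
    have n2 : m₂.app F' (H₂.map f (φ F x)) = G'.map f (m₂.app F (φ F x)) :=
      congr($(m₂.naturality f) (φ F x))
    have n3 : ρ.app F' (G.map f (m₁.app F x)) = G'.map f (ρ.app F (m₁.app F x)) :=
      congr($(ρ.naturality f) (m₁.app F x))
    rw [n1, n2, n3, hφ]
  refine ⟨NatIso.ofComponents e hnat, ?_⟩
  ext F x
  exact hφ F x

theorem exists_natIso_of_bijOn {𝒜 : Type*} [Category 𝒜] {C : Type*} [Category C]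
    {H₁ H₂ G G' : 𝒜 ⥤ (C ⥤ AddCommGrpCat.{u + 1})} (m₁ : H₁ ⟶ G) (m₂ : H₂ ⟶ G') (ρ : G ⟶ G')
    (h₁ : ∀ F W, Function.Injective ((m₁.app F).app W))
    (h₂ : ∀ F W, Function.Injective ((m₂.app F).app W))
    (hb : ∀ F W, Set.BijOn ((ρ.app F).app W) (Set.range ((m₁.app F).app W))
      (Set.range ((m₂.app F).app W))) :
    ∃ e : H₁ ≅ H₂, e.hom ≫ m₂ = m₁ ≫ ρ := by
  obtain ⟨e, he⟩ := exists_iso_of_bijOn (Functor.uncurry.map m₁) (Functor.uncurry.map m₂)
    (Functor.uncurry.map ρ) (fun FW => h₁ FW.1 FW.2) (fun FW => h₂ FW.1 FW.2)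
    (fun FW => hb FW.1 FW.2)
  let ff := Functor.currying (C := 𝒜) (D := C) (E := AddCommGrpCat.{u + 1}) |>.fullyFaithfulFunctor
  refine ⟨ff.preimageIso e, ?_⟩
  apply ff.map_injective
  rw [Functor.map_comp, Functor.map_comp, Functor.FullyFaithful.preimageIso_hom,
    Functor.FullyFaithful.map_preimage]
  exact he

section Compat

variable {X Y Z : Scheme.{u}} (f : X ⟶ Y) (g : Y ⟶ Z)

theorem exists_compatible_iso [LocallyOfFiniteType f] [LocallyOfFiniteType g] [IsSeparated g] :
    ∃ E : shriekSheafFunctor f ⋙ shriekSheafFunctor g ≅ shriekSheafFunctor (f ≫ g),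
      E.hom ≫ shriekToPush (f ≫ g) =
        (Functor.whiskerLeft (shriekSheafFunctor f) (shriekToPush g) ≫
          Functor.whiskerRight (shriekToPush f) (EtCoh.push g)) ≫ (EtCoh.pushComp g f).hom := by
  let S := sheafToPresheaf Z.smallEtaleTopology AddCommGrpCat.{u + 1}
  let m₁ : (shriekSheafFunctor f ⋙ shriekSheafFunctor g) ⋙ S ⟶
      (EtCoh.push f ⋙ EtCoh.push g) ⋙ S :=
    Functor.whiskerRight (Functor.whiskerLeft (shriekSheafFunctor f) (shriekToPush g) ≫
      Functor.whiskerRight (shriekToPush f) (EtCoh.push g)) S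
  let m₂ : shriekSheafFunctor (f ≫ g) ⋙ S ⟶ EtCoh.push (f ≫ g) ⋙ S :=
    Functor.whiskerRight (shriekToPush (f ≫ g)) S
  let ρ : (EtCoh.push f ⋙ EtCoh.push g) ⋙ S ⟶ EtCoh.push (f ≫ g) ⋙ S :=
    Functor.whiskerRight (EtCoh.pushComp g f).hom S
  have hm₁ : ∀ (F : EtCoh.Ab X) (W : Z.Etaleᵒᵖ)
      (t : ↥(shriekSubgroup g ((shriekSheafFunctor f).obj F) W.unop)),
      (m₁.app F).app W t = (t.1 : ↥(shriekSubgroup f F ((EtCoh.bc g).obj W.unop))).1 :=
    fun _ _ _ => rfl
  have hρ : ∀ (F : EtCoh.Ab X) (W : Z.Etaleᵒᵖ)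
      (s : EtCoh.sect F ((EtCoh.bc f).obj ((EtCoh.bc g).obj W.unop))),
      (ρ.app F).app W s = F.obj.map ((cIso f g).hom.app W.unop).op s := by
    intro F W s
    change ((EtCoh.pushComp g f).hom.app F).hom.app (op W.unop) s = _
    rw [pushComp_hom_app_hom_app']
    rfl
  have h₁ : ∀ F W, Function.Injective ((m₁.app F).app W) := by
    intro F W a b hab
    have ha := hm₁ F W a
    have hb := hm₁ F W b
    exact Subtype.ext (Subtype.ext (ha.symm.trans (hab.trans hb)))
  have h₂ : ∀ F W, Function.Injective ((m₂.app F).app W) := by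
    intro F W
    exact shriekToPush_app_injective (f ≫ g) F W
  have hb : ∀ F W, Set.BijOn ((ρ.app F).app W) (Set.range ((m₁.app F).app W))
      (Set.range ((m₂.app F).app W)) := by
    intro F W
    have hr₂ : Set.range ((m₂.app F).app W) =
        (shriekSubgroup (f ≫ g) F W.unop :
          Set (EtCoh.sect F ((EtCoh.bc (f ≫ g)).obj W.unop))) :=
      range_shriekToPush (f ≫ g) F W
    have hr₁ : Set.range ((m₁.app F).app W) =
        {s | ∃ hs : s ∈ shriekSubgroup f F ((EtCoh.bc g).obj W.unop),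
          (⟨s, hs⟩ : ↥(shriekSubgroup f F ((EtCoh.bc g).obj W.unop))) ∈
            shriekSubgroup g ((shriekSheafFunctor f).obj F) W.unop} := by
      ext s
      constructor
      · rintro ⟨t, rfl⟩
        rw [hm₁]
        exact ⟨t.1.2, t.2⟩
      · rintro ⟨hs, ht⟩
        exact ⟨⟨⟨s, hs⟩, ht⟩, hm₁ F W _⟩
    rw [hr₁, hr₂]
    have hiff : ∀ s : EtCoh.sect F ((EtCoh.bc f).obj ((EtCoh.bc g).obj W.unop)),
        F.obj.map ((cIso f g).hom.app W.unop).op s ∈ shriekSubgroup (f ≫ g) F W.unop ↔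
          ∃ hs : s ∈ shriekSubgroup f F ((EtCoh.bc g).obj W.unop),
            (⟨s, hs⟩ : ↥(shriekSubgroup f F ((EtCoh.bc g).obj W.unop))) ∈
              shriekSubgroup g ((shriekSheafFunctor f).obj F) W.unop := by
      intro s
      rw [mem_shriekSubgroup_iff, shriekPred_comp_iff]
      exact exists_congr fun hs => (mem_shriekSubgroup_iff g _ _ _).symm
    have hbij : Function.Bijective ((ρ.app F).app W) := by
      have : IsIso ((ρ.app F).app W) := by
        change IsIso ((S.map ((EtCoh.pushComp g f).hom.app F)).app W)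
        infer_instance
      exact ConcreteCategory.bijective_of_isIso _
    refine ⟨?_, hbij.injective.injOn, ?_⟩
    · intro s hs
      have h := (hiff s).2 hs
      rw [← hρ] at h
      exact h
    · intro s' hs'
      obtain ⟨s, rfl⟩ := hbij.surjective s'
      have h : F.obj.map ((cIso f g).hom.app W.unop).op s ∈ shriekSubgroup (f ≫ g) F W.unop := by
        rw [← hρ]
        exact hs'
      exact ⟨s, (hiff s).1 h, rfl⟩
  obtain ⟨e, he⟩ := exists_natIso_of_bijOn m₁ m₂ ρ h₁ h₂ hb
  refine ⟨Functor.fullyFaithfulCancelRight S e, ?_⟩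
  ext F : 2
  apply S.map_injective
  have := congrArg (fun α => α.app F) he
  simp only [NatTrans.comp_app] at this
  rw [NatTrans.comp_app, S.map_comp, Functor.fullyFaithfulCancelRight_hom_app,
    Functor.map_preimage]
  exact this

end Compat


section Final

variable {X Y Z : Scheme.{u}}

theorem lowerShriekIso_hom_app (f : X ⟶ Y) [LocallyOfFiniteType f] (F : EtCoh.Ab X) :
    (lowerShriekIso f).hom.app F =
      (sheafificationAdjunction Y.smallEtaleTopology AddCommGrpCat.{u + 1}).counit.app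
        ((shriekSheafFunctor f).obj F) := by
  apply Sheaf.hom_ext
  simp [lowerShriekIso, sheafificationNatIso]

theorem lowerShriekToPush_eq (f : X ⟶ Y) [LocallyOfFiniteType f] (F : EtCoh.Ab X) :
    lowerShriekToPush f F = (lowerShriekIso f).hom.app F ≫ (shriekToPush f).app F := by
  rw [lowerShriekIso_hom_app]
  change ((sheafificationAdjunction Y.smallEtaleTopology AddCommGrpCat.{u + 1}).homEquiv
    (lowerShriekPre f F) ((EtCoh.push f).obj F)).symm (lowerShriekPreι f F) = _
  rw [Adjunction.homEquiv_counit]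
  exact ((sheafificationAdjunction Y.smallEtaleTopology AddCommGrpCat.{u + 1}).counit.naturality
    ((shriekToPush f).app F))

instance mono_shriekToPush_app (f : X ⟶ Y) [LocallyOfFiniteType f] (F : EtCoh.Ab X) :
    Mono ((shriekToPush f).app F) :=
  Sheaf.mono_of_injective _ (fun V => shriekToPush_app_injective f F V)

variable (h : X ⟶ Y) (g : Y ⟶ Z) [LocallyOfFiniteType h] [LocallyOfFiniteType g]

/-- the composite `g_!(h_! F) ⟶ g_!(h_* F) ⟶ g_* h_* F` in terms of `shriekToPush` -/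
theorem comp_toPush (F : EtCoh.Ab X) :
    (lowerShriek g).map (lowerShriekToPush h F) ≫ lowerShriekToPush g ((EtCoh.push h).obj F) =
      (lowerShriek g).map ((lowerShriekIso h).hom.app F) ≫
        (lowerShriekIso g).hom.app ((shriekSheafFunctor h).obj F) ≫
          (shriekToPush g).app ((shriekSheafFunctor h).obj F) ≫
            (EtCoh.push g).map ((shriekToPush h).app F) := by
  rw [lowerShriekToPush_eq h, lowerShriekToPush_eq g, Functor.map_comp, Category.assoc]
  congr 1
  have n1 := (lowerShriekIso g).hom.naturality ((shriekToPush h).app F)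
  have n2 := (shriekToPush g).naturality ((shriekToPush h).app F)
  rw [← Category.assoc, n1, Category.assoc, n2]

instance mono_comp_toPush (F : EtCoh.Ab X) :
    Mono ((lowerShriek g).map (lowerShriekToPush h F) ≫
      lowerShriekToPush g ((EtCoh.push h).obj F)) := by
  rw [comp_toPush]
  have : Mono ((EtCoh.push g).map ((shriekToPush h).app F)) := inferInstance
  infer_instance

theorem existsUnique_lowerShriek_comp [IsSeparated g] :
    ∃! φ : lowerShriek (h ≫ g) ≅ lowerShriek h ⋙ lowerShriek g,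
      ∀ F : EtCoh.Ab X,
        φ.hom.app F ≫ (lowerShriek g).map (lowerShriekToPush h F) ≫
            lowerShriekToPush g ((EtCoh.push h).obj F) =
          lowerShriekToPush (h ≫ g) F ≫ (EtCoh.pushComp g h).inv.app F := by
  obtain ⟨E, hE⟩ := exists_compatible_iso h g
  let φ : lowerShriek (h ≫ g) ≅ lowerShriek h ⋙ lowerShriek g :=
    (lowerShriekIso (h ≫ g)).trans (E.symm.trans
      (Functor.isoWhiskerLeft _ (lowerShriekIso g).symm ≪≫
        Functor.isoWhiskerRight (lowerShriekIso h).symm _))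
  have hφ : ∀ F : EtCoh.Ab X,
      φ.hom.app F ≫ (lowerShriek g).map (lowerShriekToPush h F) ≫
          lowerShriekToPush g ((EtCoh.push h).obj F) =
        lowerShriekToPush (h ≫ g) F ≫ (EtCoh.pushComp g h).inv.app F := by
    intro F
    have hE' := congrArg (fun α => α.app F) hE
    simp only [NatTrans.comp_app, Functor.whiskerLeft_app, Functor.whiskerRight_app] at hE'
    rw [comp_toPush, lowerShriekToPush_eq (h ≫ g)]
    have hφF : φ.hom.app F = (lowerShriekIso (h ≫ g)).hom.app F ≫ E.inv.app F ≫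
        (lowerShriekIso g).inv.app ((shriekSheafFunctor h).obj F) ≫
          (lowerShriek g).map ((lowerShriekIso h).inv.app F) := by
      simp [φ]
    rw [hφF]
    simp only [Category.assoc]
    congr 1
    rw [← (lowerShriek g).map_comp_assoc, Iso.inv_hom_id_app, CategoryTheory.Functor.map_id,
      Category.id_comp, Iso.inv_hom_id_app_assoc]
    rw [← cancel_epi (E.hom.app F), Iso.hom_inv_id_app_assoc, ← Category.assoc, hE',
      Category.assoc, Iso.hom_inv_id_app, Category.comp_id]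
  refine ⟨φ, hφ, ?_⟩
  intro ψ hψ
  ext F : 3
  rw [← cancel_mono ((lowerShriek g).map (lowerShriekToPush h F) ≫
    lowerShriekToPush g ((EtCoh.push h).obj F))]
  rw [hψ F, hφ F]

end Final

end Groth.Agent.Lib.Seat3.ShriekCompUniq
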