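import Groth.Agent.Lib.Seat3ShriekOpen
import Groth.Agent.Lib.Seat3ShriekCompUniq
import Groth.Agent.Lib.Seat3QcSections
import Groth.Agent.Lib.Seat3ProperNbhd
import Groth.Agent.Lib.Seat1ShriekIso
import Groth.Agent.S0102

/-!
# `f_!` commutes with filtered colimits (seat 3)

For `f : X ⟶ Y` separated and locally of finite type, the functor `f_!` (sections with proper support) on abelian
étale sheaves commutes with filtered colimits.  The key points are: sections over a quasi-compact quasi-separated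
étale scheme commute with filtered colimits (`Seat3QcSections`), and a closed subset proper over an affine base lies
in a closed subset, proper over the base, with quasi-compact complement (`Seat3ProperNbhd`, via Chow's lemma).
-/

set_option autoImplicit false
set_option linter.style.haveILetI false
set_option linter.unusedSectionVars false
universe u
open CategoryTheory CategoryTheory.Limits AlgebraicGeometry Opposite TopologicalSpace

namespace Groth.Agent.Lib.Seat3.ShriekColim

open EtShriek Groth.Agent.Lib.Helper1 Groth.Agent.Lib.Seat1.FinSplit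
open Groth.Agent.Lib.Helper16.SmallEtale
open Groth.Agent.Lib.Seat3.ShriekSheaf Groth.Agent.Lib.Seat3.ShriekComp
open Groth.Agent.Lib.Seat3.QcSections Groth.Agent.Lib.Seat3.ProperNbhd

section Toolkit

variable {X : Scheme.{u}}

/-- a morphism landing in an open subscheme factors through it -/
noncomputable def opnLiftLeft {P Q : X.Etale} (g : Q ⟶ P) (O : P.left.Opens)
    (h : ∀ q : Q.left, g.left q ∈ O) : Q.left ⟶ (O : Scheme.{u}) :=
  IsOpenImmersion.lift O.ι g.left (by
    rintro _ ⟨q, rfl⟩
    exact ⟨⟨g.left q, h q⟩, rfl⟩)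

theorem opnLiftLeft_ι {P Q : X.Etale} (g : Q ⟶ P) (O : P.left.Opens)
    (h : ∀ q : Q.left, g.left q ∈ O) : opnLiftLeft g O h ≫ O.ι = g.left :=
  IsOpenImmersion.lift_fac _ _ _

/-- a morphism landing in an open subscheme factors through it -/
noncomputable def opnLift {P Q : X.Etale} (g : Q ⟶ P) (O : P.left.Opens)
    (h : ∀ q : Q.left, g.left q ∈ O) : Q ⟶ opnOf P O :=
  MorphismProperty.Over.homMk (opnLiftLeft g O h)
    (by
      show opnLiftLeft g O h ≫ O.ι ≫ P.hom = Q.hom
      rw [← Category.assoc, opnLiftLeft_ι]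
      exact MorphismProperty.Over.w g) trivial

theorem opnLift_opnIn {P Q : X.Etale} (g : Q ⟶ P) (O : P.left.Opens)
    (h : ∀ q : Q.left, g.left q ∈ O) : opnLift g O h ≫ opnIn P O = g := by
  apply MorphismProperty.Over.Hom.ext
  exact opnLiftLeft_ι g O h

variable (F : EtCoh.Ab X)

/-- a section restricts to zero along any map missing its support -/
theorem map_eq_zero_of_forall_notMem {P Q : X.Etale} (g : Q ⟶ P) (s : EtCoh.sect F P)
    (h : ∀ q : Q.left, g.left q ∉ sectSupp F P s) : F.obj.map g.op s = 0 := by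
  apply Groth.Agent.S0102.section_eq_zero_of_locally
  intro q
  have hq : q ∉ sectSupp F Q (F.obj.map g.op s) := by
    rw [sectSupp_map]
    exact h q
  simp only [sectSupp, Set.mem_ofPred_eq, not_forall, not_not] at hq
  obtain ⟨N, k, ⟨n, hn⟩, hk⟩ := hq
  exact ⟨N, k, n, hn, hk⟩

/-- a section vanishing on an open has support in the complement -/
theorem sectSupp_subset_compl {P : X.Etale} (U : P.left.Opens) (t : EtCoh.sect F P)
    (h : F.obj.map (opnIn P U).op t = 0) : sectSupp F P t ⊆ (U : Set P.left)ᶜ := by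
  intro x hx hxU
  exact hx (opnOf P U) (opnIn P U) ⟨⟨x, hxU⟩, rfl⟩ h

/-- a section vanishing on two opens covering `P` is zero -/
theorem eq_zero_of_cover_two {P : X.Etale} (U₁ U₂ : P.left.Opens)
    (hcov : ∀ x : P.left, x ∈ U₁ ∨ x ∈ U₂) (t : EtCoh.sect F P)
    (h₁ : F.obj.map (opnIn P U₁).op t = 0) (h₂ : F.obj.map (opnIn P U₂).op t = 0) : t = 0 := by
  apply Groth.Agent.S0102.section_eq_zero_of_locally
  intro x
  rcases hcov x with hx | hx
  · exact ⟨opnOf P U₁, opnIn P U₁, ⟨x, hx⟩, rfl, h₁⟩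
  · exact ⟨opnOf P U₂, opnIn P U₂, ⟨x, hx⟩, rfl, h₂⟩

/-- glue a section over `W` with zero over `U`, when the section vanishes on everything landing in `U` -/
theorem exists_glue_zero {P : X.Etale} (W U : P.left.Opens)
    (hcov : ∀ x : P.left, x ∈ W ∨ x ∈ U) (y : EtCoh.sect F (opnOf P W))
    (hy : ∀ (Q : X.Etale) (g : Q ⟶ opnOf P W), (∀ q : Q.left, (g ≫ opnIn P W).left q ∈ U) →
      F.obj.map g.op y = 0) :
    ∃ t : EtCoh.sect F P, F.obj.map (opnIn P W).op t = y ∧ F.obj.map (opnIn P U).op t = 0 := by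
  let gc : Bool → P.left.Opens := fun b => bif b then W else U
  have hP : Presieve.IsSheaf X.smallEtaleTopology (F.obj ⋙ forget AddCommGrpCat.{u + 1}) :=
    (isSheaf_iff_isSheaf_of_type _ _).1
      ((Presheaf.isSheaf_iff_isSheaf_forget _ F.obj (forget AddCommGrpCat.{u + 1})).1 F.2)
  have hmem : Sieve.ofArrows (fun b => opnOf P (gc b)) (fun b => opnIn P (gc b)) ∈
      X.smallEtaleTopology P := by
    rw [mem_smallEtale_iff]
    intro x
    rcases hcov x with hx | hx
    · exact ⟨opnOf P (gc true), opnIn P (gc true), ⟨x, hx⟩, Sieve.ofArrows_mk _ _ true, rfl⟩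
    · exact ⟨opnOf P (gc false), opnIn P (gc false), ⟨x, hx⟩, Sieve.ofArrows_mk _ _ false, rfl⟩
  have h1 := hP _ hmem
  have h2 : (Presieve.ofArrows (fun b => opnOf P (gc b)) (fun b => opnIn P (gc b))).IsSheafFor
      (F.obj ⋙ forget AddCommGrpCat.{u + 1}) :=
    (Presieve.isSheafFor_iff_generate _).2 h1
  let x : ∀ b : Bool, (F.obj ⋙ forget AddCommGrpCat.{u + 1}).obj (op (opnOf P (gc b))) :=
    fun b => match b with
      | true => y
      | false => (0 : F.obj.obj (op (opnOf P U)))
  have hmono : ∀ (O : P.left.Opens) {Z' : X.Etale} (g g' : Z' ⟶ opnOf P O),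
      g ≫ opnIn P O = g' ≫ opnIn P O → g = g' := by
    intro O Z' g g' h
    have h1 : g.left ≫ O.ι = g'.left ≫ O.ι := congrArg (fun m => m.left) h
    have h2 : g.left = g'.left := (cancel_mono O.ι).1 h1
    exact MorphismProperty.Over.Hom.ext h2
  obtain ⟨t, ht, -⟩ := (Presieve.isSheafFor_arrows_iff _ _).1 h2 x (by
    intro a b Z' ga gb hg
    cases a <;> cases b
    · rw [hmono U ga gb hg]
    · -- a = false (U), b = true (W)
      have h0 : F.obj.map gb.op y = 0 := by
        apply hy Z' gb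
        intro q
        have : (gb ≫ opnIn P W).left q = (ga ≫ opnIn P U).left q := by
          have hg' : ga ≫ opnIn P U = gb ≫ opnIn P W := hg
          rw [hg']
        rw [this]
        exact (ga.left q).2
      show F.obj.map ga.op (0 : F.obj.obj (op (opnOf P U))) = F.obj.map gb.op y
      rw [h0, map_zero]
    · have h0 : F.obj.map ga.op y = 0 := by
        apply hy Z' ga
        intro q
        have : (ga ≫ opnIn P W).left q = (gb ≫ opnIn P U).left q := by
          have hg' : ga ≫ opnIn P W = gb ≫ opnIn P U := hg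
          rw [hg']
        rw [this]
        exact (gb.left q).2
      show F.obj.map ga.op y = F.obj.map gb.op (0 : F.obj.obj (op (opnOf P U)))
      rw [h0, map_zero]
    · rw [hmono W ga gb hg])
  exact ⟨t, ht true, ht false⟩

end Toolkit

section Geometry

open Groth.Agent.Lib.Helper22.LimClosed

/-- a closed subset proper over a quasi-compact base lies in a quasi-compact open -/
theorem exists_qc_open_of_isProperOver {T B : Scheme.{u}} [CompactSpace B] (p : T ⟶ B)
    (Z : Set T) (hZ : ClSub.IsProperOver p Z) :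
    ∃ W : T.Opens, IsCompact (W : Set T) ∧ Z ⊆ W := by
  obtain ⟨h, hp⟩ := hZ
  haveI : IsProper (redι Z h ≫ p) := hp
  haveI : CompactSpace ↥(Scheme.IdealSheafData.vanishingIdeal ⟨Z, h⟩).subscheme :=
    QuasiCompact.compactSpace_of_compactSpace (redι Z h ≫ p)
  have hc : IsCompact Z := by
    rw [← range_redι Z h]
    exact isCompact_range (redι Z h).continuous
  obtain ⟨W, hW, hZW, -⟩ := exists_compact_open_between T Z Set.univ hc isOpen_univ
    (Set.subset_univ _)
  exact ⟨W, hW, hZW⟩

/-- restriction of a proper closed subset to an open containing it -/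
theorem isProperOver_preimage_ι {T B : Scheme.{u}} (p : T ⟶ B) [LocallyOfFiniteType p]
    (W : T.Opens) (Z : Set T) (hZ : ClSub.IsProperOver p Z) (hZW : Z ⊆ W) :
    ClSub.IsProperOver (W.ι ≫ p) (W.ι ⁻¹' Z) := by
  obtain ⟨h, hp⟩ := hZ
  haveI : IsProper (redι Z h ≫ p) := hp
  have hr : Set.range (redι Z h) ⊆ Set.range W.ι := by
    rw [range_redι, Scheme.Opens.range_ι]
    exact hZW
  let i := IsOpenImmersion.lift W.ι (redι Z h) hr
  have hi : i ≫ W.ι = redι Z h := IsOpenImmersion.lift_fac _ _ _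
  haveI : IsClosedImmersion (i ≫ W.ι) := by rw [hi]; infer_instance
  haveI : IsClosedImmersion i := IsClosedImmersion.of_comp i W.ι
  have hri : Set.range i = W.ι ⁻¹' Z := by
    ext w
    constructor
    · rintro ⟨z, rfl⟩
      show W.ι (i z) ∈ Z
      rw [← Scheme.Hom.comp_apply, hi]
      exact (range_redι Z h).le ⟨z, rfl⟩
    · intro hw
      obtain ⟨z, hz⟩ := (range_redι Z h).ge hw
      refine ⟨z, ?_⟩
      apply W.ι.isOpenEmbedding.injective
      rw [← Scheme.Hom.comp_apply, hi]
      exact hz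
  rw [isProperOver_iff_isProper_comp (W.ι ≫ p) i _ hri, ← Category.assoc, hi]
  infer_instance

/-- image in `T` of a closed subset of an open `W` proper over the base -/
theorem isProperOver_image_ι {T B : Scheme.{u}} (p : T ⟶ B) [LocallyOfFiniteType p]
    [IsSeparated p] (W : T.Opens) (K : Set W) (hK : ClSub.IsProperOver (W.ι ≫ p) K) :
    ClSub.IsProperOver p (W.ι '' K) := by
  obtain ⟨h, hp⟩ := hK
  haveI : IsProper ((redι K h ≫ W.ι) ≫ p) := by rw [Category.assoc]; exact hp
  haveI : IsProper (redι K h ≫ W.ι) := IsProper.of_comp (redι K h ≫ W.ι) p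
  exact isProperOver_image (W.ι ≫ p) p W.ι rfl K h hp inferInstance

end Geometry

section Sections

variable {X : Scheme.{u}}

theorem nat_apply {F G : EtCoh.Ab X} (φ : F ⟶ G) {P Q : X.Etale} (g : Q ⟶ P)
    (x : EtCoh.sect F P) :
    φ.hom.app (op Q) (F.obj.map g.op x) = G.obj.map g.op (φ.hom.app (op P) x) :=
  ConcreteCategory.congr_hom (φ.hom.naturality g.op) x

theorem map_comp_apply (F : EtCoh.Ab X) {P Q R : X.Etale} (g : Q ⟶ P) (h : R ⟶ Q)
    (x : EtCoh.sect F P) :
    F.obj.map h.op (F.obj.map g.op x) = F.obj.map (h ≫ g).op x := by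
  rw [op_comp, F.obj.map_comp]
  rfl

variable {J : Type u} [SmallCategory J] [IsFiltered J] (D : J ⥤ EtCoh.Ab X) (c : Cocone D)
  (hc : IsColimit c)

theorem cocone_w_apply {j k : J} (a : j ⟶ k) (P : X.Etale) (y : EtCoh.sect (D.obj j) P) :
    (c.ι.app k).hom.app (op P) ((D.map a).hom.app (op P) y) = (c.ι.app j).hom.app (op P) y := by
  have h := c.w a
  rw [← h]
  rfl

variable {B : Scheme.{u}} [CompactSpace B] [QuasiSeparatedSpace B] (P : X.Etale)
  (p : P.left ⟶ B) [IsSeparated p] [LocallyOfFiniteType p]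

include hc in
/-- a section with proper support at a finite stage dying in the colimit dies at a later stage -/
theorem exists_map_eq_zero_proper (j : J) (y : EtCoh.sect (D.obj j) P)
    (hy : HasProperSupport (D.obj j) P y p) (h0 : (c.ι.app j).hom.app (op P) y = 0) :
    ∃ (k : J) (a : j ⟶ k), (D.map a).hom.app (op P) y = 0 := by
  obtain ⟨Z, hsub, hZ⟩ := hy
  obtain ⟨W, hWc, hZW⟩ := exists_qc_open_of_isProperOver p Z hZ
  haveI : QuasiSeparatedSpace P.left := quasiSeparatedSpace_of_quasiSeparated p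
  haveI : CompactSpace (opnOf P W).left :=
    (isCompact_iff_compactSpace.mp hWc : CompactSpace ↥(W : Scheme.{u}))
  haveI : QuasiSeparatedSpace (opnOf P W).left :=
    (quasiSeparatedSpace_of_quasiSeparated W.ι : QuasiSeparatedSpace ↥(W : Scheme.{u}))
  have h1 : (c.ι.app j).hom.app (op (opnOf P W)) ((D.obj j).obj.map (opnIn P W).op y) = 0 := by
    rw [nat_apply, h0, map_zero]
  obtain ⟨k, a, hk⟩ := exists_map_eq_zero D c hc (opnOf P W) j _ h1
  refine ⟨k, a, ?_⟩
  let U : P.left.Opens := ⟨Zᶜ, hZ.1.isOpen_compl⟩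
  apply eq_zero_of_cover_two (D.obj k) W U
  · intro x
    by_cases hx : x ∈ Z
    · exact Or.inl (hZW hx)
    · exact Or.inr hx
  · rw [← nat_apply]
    exact hk
  · rw [← nat_apply]
    have h2 : (D.obj j).obj.map (opnIn P U).op y = 0 := by
      apply map_eq_zero_of_forall_notMem
      intro q hq
      exact q.2 (hsub hq)
    rw [h2, map_zero]

include hc in
/-- a section of the colimit with proper support comes from a section with proper support at a finite stage -/
theorem exists_rep_proper (s : EtCoh.sect c.pt P) (hs : HasProperSupport c.pt P s p) :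
    ∃ (k : J) (t : EtCoh.sect (D.obj k) P), HasProperSupport (D.obj k) P t p ∧
      (c.ι.app k).hom.app (op P) t = s := by
  obtain ⟨Z, hsub, hZ⟩ := hs
  obtain ⟨W, hWc, hZW⟩ := exists_qc_open_of_isProperOver p Z hZ
  haveI : QuasiSeparatedSpace P.left := quasiSeparatedSpace_of_quasiSeparated p
  haveI hWcs : CompactSpace ↥(W : Scheme.{u}) := isCompact_iff_compactSpace.mp hWc
  haveI hWqs : QuasiSeparatedSpace ↥(W : Scheme.{u}) := quasiSeparatedSpace_of_quasiSeparated W.ι
  haveI : CompactSpace (opnOf P W).left := hWcs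
  haveI : QuasiSeparatedSpace (opnOf P W).left := hWqs
  -- the proper neighbourhood
  have hZ' : ClSub.IsProperOver (W.ι ≫ p) (W.ι ⁻¹' Z) := isProperOver_preimage_ι p W Z hZ hZW
  obtain ⟨K', hZK', hK', hK'c⟩ := exists_proper_nbhd (W.ι ≫ p) (W.ι ⁻¹' Z) hZ'
  have hK : ClSub.IsProperOver p (W.ι '' K') := isProperOver_image_ι p W K' hK'
  have hZK : Z ⊆ W.ι '' K' := by
    intro z hz
    exact ⟨⟨z, hZW hz⟩, hZK' hz, rfl⟩
  have hKW : W.ι '' K' ⊆ (W : Set P.left) := by
    rintro _ ⟨w, -, rfl⟩
    exact w.2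
  let U : P.left.Opens := ⟨(W.ι '' K')ᶜ, hK.1.isOpen_compl⟩
  let O' : (W : Scheme.{u}).Opens := ⟨K'ᶜ, hK'.1.isOpen_compl⟩
  let O : P.left.Opens := W.ι ''ᵁ O'
  have hOc : IsCompact (O : Set P.left) := by
    have : (O : Set P.left) = W.ι '' (K'ᶜ) := rfl
    rw [this]
    exact hK'c.image W.ι.continuous
  have hOW : O ≤ W := by
    rintro _ ⟨w, -, rfl⟩
    exact w.2
  have hOU : ∀ x : P.left, x ∈ O → x ∈ U := by
    rintro _ ⟨w, hw, rfl⟩ ⟨w', hw', hww'⟩
    have : w' = w := W.ι.isOpenEmbedding.injective hww'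
    exact hw (this ▸ hw')
  have hWU : ∀ x : P.left, x ∈ W → x ∈ U → x ∈ O := by
    intro x hxW hxU
    refine ⟨⟨x, hxW⟩, ?_, rfl⟩
    intro hk
    exact hxU ⟨⟨x, hxW⟩, hk, rfl⟩
  haveI hOcs : CompactSpace ↥(O : Scheme.{u}) := isCompact_iff_compactSpace.mp hOc
  haveI hOqs : QuasiSeparatedSpace ↥(O : Scheme.{u}) := quasiSeparatedSpace_of_quasiSeparated O.ι
  haveI : CompactSpace (opnOf P O).left := hOcs
  haveI : QuasiSeparatedSpace (opnOf P O).left := hOqs
  let ιOW : opnOf P O ⟶ opnOf P W := opnLift (opnIn P O) W (fun q => hOW q.2)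
  have hιOW : ιOW ≫ opnIn P W = opnIn P O := opnLift_opnIn _ _ _
  -- support facts
  have hsU : c.pt.obj.map (opnIn P U).op s = 0 := by
    apply map_eq_zero_of_forall_notMem
    intro q hq
    exact q.2 (hZK (hsub hq))
  have hsO : c.pt.obj.map (opnIn P O).op s = 0 := by
    apply map_eq_zero_of_forall_notMem
    intro q hq
    exact hOU _ q.2 (hZK (hsub hq))
  -- represent on `W`
  obtain ⟨j, y, hy⟩ := exists_rep D c hc (opnOf P W) (c.pt.obj.map (opnIn P W).op s)
  have h1 : (c.ι.app j).hom.app (op (opnOf P O)) ((D.obj j).obj.map ιOW.op y) = 0 := by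
    have e1 := nat_apply (c.ι.app j) ιOW y
    have e2 : c.pt.obj.map ιOW.op (c.pt.obj.map (opnIn P W).op s) =
        c.pt.obj.map (opnIn P O).op s := by rw [map_comp_apply, hιOW]
    exact e1.trans ((congrArg (c.pt.obj.map ιOW.op) hy).trans (e2.trans hsO))
  obtain ⟨k, a, hk⟩ := exists_map_eq_zero D c hc (opnOf P O) j _ h1
  let yk : EtCoh.sect (D.obj k) (opnOf P W) := (D.map a).hom.app (op (opnOf P W)) y
  have hykO : (D.obj k).obj.map ιOW.op yk = 0 := by
    rw [← nat_apply]
    exact hk
  have hyk : (c.ι.app k).hom.app (op (opnOf P W)) yk = c.pt.obj.map (opnIn P W).op s := by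
    rw [cocone_w_apply]
    exact hy
  have hcov : ∀ x : P.left, x ∈ W ∨ x ∈ U := by
    intro x
    by_cases hx : x ∈ W.ι '' K'
    · exact Or.inl (hKW hx)
    · exact Or.inr hx
  obtain ⟨t, htW, htU⟩ := exists_glue_zero (D.obj k) W U hcov yk (by
    intro Q g hg
    have hgO : ∀ q : Q.left, (g ≫ opnIn P W).left q ∈ O := fun q =>
      hWU _ (g.left q).2 (hg q)
    have hfac : g = opnLift (g ≫ opnIn P W) O hgO ≫ ιOW := by
      have h2 : (opnLift (g ≫ opnIn P W) O hgO ≫ ιOW) ≫ opnIn P W = g ≫ opnIn P W := by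
        rw [Category.assoc, hιOW, opnLift_opnIn]
      have h3 : (opnLift (g ≫ opnIn P W) O hgO ≫ ιOW).left ≫ W.ι = g.left ≫ W.ι :=
        congrArg (fun m => m.left) h2
      exact MorphismProperty.Over.Hom.ext ((cancel_mono W.ι).1 h3).symm
    rw [hfac, ← map_comp_apply, hykO, map_zero])
  refine ⟨k, t, ⟨W.ι '' K', ?_, hK⟩, ?_⟩
  · have := sectSupp_subset_compl (D.obj k) U t htU
    intro x hx
    have hx' := this hx
    by_contra hcon
    exact hx' hcon
  · rw [← sub_eq_zero]
    apply eq_zero_of_cover_two c.pt W U hcov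
    · rw [map_sub, ← nat_apply, htW, hyk, sub_self]
    · rw [map_sub, ← nat_apply, htU, map_zero, hsU, sub_self]

end Sections

section Main

open Groth.Agent.Lib.Seat1.ShriekIso

/-- a morphism of abelian étale sheaves which is bijective on sections over affine objects is an isomorphism -/
theorem isIso_of_bijective_affine {T : Scheme.{u}} {G G' : EtCoh.Ab T} (φ : G ⟶ G')
    (h : ∀ V : T.Etale, IsAffine V.left → Function.Bijective (φ.hom.app (op V))) : IsIso φ := by
  have hmono : Mono φ := by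
    apply Sheaf.mono_of_injective
    intro W
    rw [injective_iff_map_eq_zero]
    intro t ht
    apply Groth.Agent.S0102.section_eq_zero_of_locally
    intro w
    obtain ⟨A, hA, hwA, -⟩ := TopologicalSpace.Opens.isBasis_iff_nbhd.mp
      W.unop.left.isBasis_affineOpens (show w ∈ (⊤ : W.unop.left.Opens) from trivial)
    refine ⟨opnOf W.unop A, opnIn W.unop A, ⟨w, hwA⟩, rfl, ?_⟩
    apply (h (opnOf W.unop A) hA).1
    rw [map_zero]
    have hnat := nat_apply φ (opnIn W.unop A) t
    refine hnat.trans ?_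
    have ht' : φ.hom.app (op W.unop) t = 0 := ht
    rw [ht', map_zero]
  have hepi : Epi φ := by
    rw [← Sheaf.isLocallySurjective_iff_epi']
    constructor
    intro W t'
    rw [mem_smallEtale_iff]
    intro w
    obtain ⟨A, hA, hwA, -⟩ := TopologicalSpace.Opens.isBasis_iff_nbhd.mp
      W.left.isBasis_affineOpens (show w ∈ (⊤ : W.left.Opens) from trivial)
    obtain ⟨t, ht⟩ := (h (opnOf W A) hA).2 (G'.obj.map (opnIn W A).op t')
    exact ⟨opnOf W A, opnIn W A, ⟨w, hwA⟩, ⟨t, ht⟩, rfl⟩
  exact isIso_of_mono_of_epi φ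

variable {X Y : Scheme.{u}} (f : X ⟶ Y) [IsSeparated f] [LocallyOfFiniteType f]

theorem shriekSheaf_map_apply_val {F F' : EtCoh.Ab X} (α : F ⟶ F') (V : Y.Etale)
    (σ : ((shriekSheafFunctor f).obj F).obj.obj (op V)) :
    ((((shriekSheafFunctor f).map α).hom.app (op V)) σ).1 =
      α.hom.app (op ((EtCoh.bc f).obj V)) σ.1 := rfl

variable {J : Type u} [SmallCategory J] [IsFiltered J] (D : J ⥤ EtCoh.Ab X)

theorem preservesColimit_shriekSheafFunctor : PreservesColimit D (shriekSheafFunctor f) := by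
  apply preservesColimit_of_preserves_colimit_cocone (colimit.isColimit D)
  have hc := colimit.isColimit D
  have hc' := colimit.isColimit (D ⋙ shriekSheafFunctor f)
  generalize colimit.cocone D = c at hc ⊢
  generalize colimit.cocone (D ⋙ shriekSheafFunctor f) = c' at hc'
  let φ : c'.pt ⟶ ((shriekSheafFunctor f).mapCocone c).pt :=
    hc'.desc ((shriekSheafFunctor f).mapCocone c)
  have hφ : ∀ j, c'.ι.app j ≫ φ = (shriekSheafFunctor f).map (c.ι.app j) :=
    fun j => hc'.fac _ j
  have hφ' : ∀ (j : J) (V : Y.Etale) (σ : ((shriekSheafFunctor f).obj (D.obj j)).obj.obj (op V)),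
      φ.hom.app (op V) ((c'.ι.app j).hom.app (op V) σ) =
        ((shriekSheafFunctor f).map (c.ι.app j)).hom.app (op V) σ := by
    intro j V σ
    rw [← hφ j]
    rfl
  suffices IsIso φ from IsColimit.ofPointIso hc'
  apply isIso_of_bijective_affine
  intro V hV
  haveI : IsAffine V.left := hV
  constructor
  · rw [injective_iff_map_eq_zero]
    intro τ hτ
    obtain ⟨j, σ, hσ⟩ := exists_rep (D ⋙ shriekSheafFunctor f) c' hc' V τ
    have hσmem : σ.1 ∈ shriekSubgroup f (D.obj j) V := σ.2
    have hprop : HasProperSupport (D.obj j) ((EtCoh.bc f).obj V) σ.1 (prV f V) :=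
      hasProperSupport_of_shriekPred f _ ((mem_shriekSubgroup_iff f _ V σ.1).1 hσmem)
    have h1 : (c.ι.app j).hom.app (op ((EtCoh.bc f).obj V)) σ.1 = 0 := by
      have e := hφ' j V σ
      rw [hσ, hτ] at e
      have e2 := congrArg Subtype.val e
      rw [shriekSheaf_map_apply_val] at e2
      exact e2.symm
    obtain ⟨k, a, hk⟩ := exists_map_eq_zero_proper D c hc ((EtCoh.bc f).obj V) (prV f V) j σ.1
      hprop h1
    have h2 : ((D ⋙ shriekSheafFunctor f).map a).hom.app (op V) σ = 0 := by
      apply Subtype.ext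
      exact hk
    rw [← hσ, ← cocone_w_apply (D ⋙ shriekSheafFunctor f) c' a V σ, h2, map_zero]
  · intro ρ
    have hρmem : ρ.1 ∈ shriekSubgroup f c.pt V := ρ.2
    have hprop : HasProperSupport c.pt ((EtCoh.bc f).obj V) ρ.1 (prV f V) :=
      hasProperSupport_of_shriekPred f _ ((mem_shriekSubgroup_iff f _ V ρ.1).1 hρmem)
    obtain ⟨k, t, ht, hts⟩ := exists_rep_proper D c hc ((EtCoh.bc f).obj V) (prV f V) ρ.1 hprop
    have htmem : t ∈ shriekSubgroup f (D.obj k) V :=
      (mem_shriekSubgroup_iff f _ V t).2 (shriekPred_of_hasProperSupport f (D.obj k) V t ht)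
    let σ : ((shriekSheafFunctor f).obj (D.obj k)).obj.obj (op V) := ⟨t, htmem⟩
    refine ⟨(c'.ι.app k).hom.app (op V) σ, ?_⟩
    rw [hφ' k V σ]
    apply Subtype.ext
    rw [shriekSheaf_map_apply_val]
    exact hts

theorem preservesFilteredColimits_shriekSheafFunctor :
    PreservesFilteredColimitsOfSize.{u, u} (shriekSheafFunctor f) :=
  ⟨fun J _ _ => ⟨fun {D} => preservesColimit_shriekSheafFunctor f D⟩⟩

theorem preservesFilteredColimits_lowerShriek :
    PreservesFilteredColimitsOfSize.{u, u} (lowerShriek f) := by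
  haveI := preservesFilteredColimits_shriekSheafFunctor f
  constructor
  intro J _ _
  exact preservesColimitsOfShape_of_natIso (lowerShriekIso f).symm

end Main

end Groth.Agent.Lib.Seat3.ShriekColim
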