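import Groth.Agent.Lib.Seat3ShriekSheaf
import Groth.Agent.Lib.Seat3Excision

/-!
# Composition of direct images with proper support (seat 3)

* `nonempty_natIso_of_bijOn`: two sub-functors (valued in presheaves of abelian groups) matched
  sectionwise by a natural map of the ambient functors are isomorphic.
* calculus of `ClSub.IsProperOver`: `isProperOver_of_comp`, `isProperOver_iso_iff`,
  `isProperOver_preimage`, `isProperOver_inter_preimage`, `isProperOver_image'`.
* `suppPush`: support of a section of `f_* F`; `subset_preimage_suppPush`, `suppPush_subset`.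
* `hasProperSupport_comp_iff`: the key comparison of supports for a composite.
-/

set_option autoImplicit false
universe u
open CategoryTheory CategoryTheory.Limits AlgebraicGeometry Opposite

namespace Groth.Agent.Lib.Seat3.ShriekComp

open EtShriek Groth.Agent.Lib.Helper1 Groth.Agent.Lib.Seat3.EtConstLC
open Groth.Agent.Lib.Seat3.Excision Groth.Agent.Lib.Seat3.ShriekSheaf

theorem nonempty_natIso_of_bijOn {𝒜 : Type*} [Category 𝒜] {C : Type*} [Category C]
    {H₁ H₂ G G' : 𝒜 ⥤ (C ⥤ AddCommGrpCat.{u + 1})} (m₁ : H₁ ⟶ G) (m₂ : H₂ ⟶ G') (ρ : G ⟶ G')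
    (h₁ : ∀ F W, Function.Injective ((m₁.app F).app W))
    (h₂ : ∀ F W, Function.Injective ((m₂.app F).app W))
    (hb : ∀ F W, Set.BijOn ((ρ.app F).app W) (Set.range ((m₁.app F).app W))
      (Set.range ((m₂.app F).app W))) :
    Nonempty (H₁ ≅ H₂) := by
  obtain ⟨e⟩ := nonempty_iso_of_bijOn (Functor.uncurry.map m₁) (Functor.uncurry.map m₂)
    (Functor.uncurry.map ρ) (fun FW => h₁ FW.1 FW.2) (fun FW => h₂ FW.1 FW.2)
    (fun FW => hb FW.1 FW.2)
  exact ⟨(Functor.currying.fullyFaithfulFunctor).preimageIso e⟩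

section ProperOver

/-- cancellation: proper over `S` through a separated `q` implies proper over the middle -/
theorem isProperOver_of_comp {T V S : Scheme.{u}} (p : T ⟶ V) (q : V ⟶ S) [IsSeparated q]
    {Z : Set T} (hZ : ClSub.IsProperOver (p ≫ q) Z) : ClSub.IsProperOver p Z := by
  obtain ⟨h, hp⟩ := hZ
  refine ⟨h, ?_⟩
  have : IsProper ((redι Z h ≫ p) ≫ q) := by rw [Category.assoc]; exact hp
  exact IsProper.of_comp (redι Z h ≫ p) q

/-- transport along an isomorphism of the total space -/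
theorem isProperOver_iso_iff {T T' S : Scheme.{u}} (e : T' ≅ T) (g : T ⟶ S)
    [LocallyOfFiniteType g] (Z : Set T) :
    ClSub.IsProperOver (e.hom ≫ g) (e.hom.base ⁻¹' Z) ↔ ClSub.IsProperOver g Z := by
  by_cases hcl : IsClosed Z
  · have hcl' : IsClosed (e.hom.base ⁻¹' Z) := hcl.preimage e.hom.continuous
    have hrange : Set.range (redι (e.hom.base ⁻¹' Z) hcl' ≫ e.hom).base = Z := by
      rw [Scheme.Hom.comp_base, TopCat.coe_comp, Set.range_comp, range_redι,
        Set.image_preimage_eq _ e.hom.surjective]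
    rw [isProperOver_iff_isProper_comp g (redι (e.hom.base ⁻¹' Z) hcl' ≫ e.hom) Z hrange,
      isProperOver_iff_isProper_redι _ _ hcl', Category.assoc]
  · constructor
    · rintro ⟨h, -⟩
      exfalso
      apply hcl
      have : Z = e.inv.base ⁻¹' (e.hom.base ⁻¹' Z) := by
        rw [← Set.preimage_comp, ← TopCat.coe_comp, ← Scheme.Hom.comp_base, e.inv_hom_id]
        rfl
      rw [this]
      exact h.preimage e.inv.continuous
    · rintro ⟨h, -⟩
      exact absurd h hcl

/-- intersection of a closed subset proper over the middle with the preimage of a closed subset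
proper over the base -/
theorem isProperOver_inter_preimage {T V S : Scheme.{u}} (p : T ⟶ V) (q : V ⟶ S)
    [LocallyOfFiniteType p] [LocallyOfFiniteType q] {Za : Set T} {Zb : Set V}
    (ha : ClSub.IsProperOver p Za) (hb : ClSub.IsProperOver q Zb) :
    ClSub.IsProperOver (p ≫ q) (Za ∩ p.base ⁻¹' Zb) := by
  obtain ⟨ha, hpa⟩ := ha
  obtain ⟨hb, hpb⟩ := hb
  have hpa' : IsProper (redι Za ha ≫ p) := hpa
  have hpb' : IsProper (redι Zb hb ≫ q) := hpb
  let i : pullback (redι Za ha ≫ p) (redι Zb hb) ⟶ T :=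
    pullback.fst (redι Za ha ≫ p) (redι Zb hb) ≫ redι Za ha
  have hrange : Set.range i.base = Za ∩ p.base ⁻¹' Zb := by
    rw [Scheme.Hom.comp_base, TopCat.coe_comp, Set.range_comp, Scheme.Pullback.range_fst,
      range_redι]
    ext x
    constructor
    · rintro ⟨z, hz, rfl⟩
      exact ⟨(range_redι Za ha).le ⟨z, rfl⟩, hz⟩
    · rintro ⟨hx1, hx2⟩
      obtain ⟨z, rfl⟩ := (range_redι Za ha).ge hx1
      exact ⟨z, hx2, rfl⟩
  rw [isProperOver_iff_isProper_comp (p ≫ q) i _ hrange]
  have e : i ≫ p ≫ q = pullback.snd (redι Za ha ≫ p) (redι Zb hb) ≫ redι Zb hb ≫ q := by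
    simp only [i, Category.assoc]
    rw [← pullback.condition_assoc, Category.assoc]
  rw [e]
  infer_instance

/-- the image of a closed subset proper over the base is proper over the base -/
theorem isProperOver_image' {T V S : Scheme.{u}} (p : T ⟶ V) (q : V ⟶ S) [IsSeparated q]
    [LocallyOfFiniteType q] {Z : Set T} (hZ : ClSub.IsProperOver (p ≫ q) Z) :
    ClSub.IsProperOver q (p.base '' Z) := by
  obtain ⟨h, hp⟩ := hZ
  have h1 : IsProper ((redι Z h ≫ p) ≫ q) := by rw [Category.assoc]; exact hp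
  have h2 : IsProper (redι Z h ≫ p) := IsProper.of_comp (redι Z h ≫ p) q
  exact isProperOver_image (p ≫ q) q p rfl Z h hp inferInstance

end ProperOver

section SuppPush

open Groth.Agent.Lib.Helper16.SmallEtale

variable {X Y : Scheme.{u}} (f : X ⟶ Y) (F : EtCoh.Ab X)

/-- support of a section of `f_* F` over `V` (in terms of `F`) -/
def suppPush (V : Y.Etale) (u : EtCoh.sect F ((EtCoh.bc f).obj V)) : Set V.left :=
  {y | ∀ (N : Y.Etale) (k : N ⟶ V), (∃ n : N.left, k.left.base n = y) →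
    F.obj.map ((EtCoh.bc f).map k).op u ≠ 0}

theorem subset_preimage_suppPush (V : Y.Etale) (u : EtCoh.sect F ((EtCoh.bc f).obj V)) :
    sectSupp F ((EtCoh.bc f).obj V) u ⊆ (prV f V).base ⁻¹' suppPush f F V u := by
  rintro x hx N k ⟨n, hn⟩ h0
  obtain ⟨z, hz1, -⟩ := Scheme.exists_preimage_of_isPullback (EtCoh.isPullback_bc_map f k) x n
    hn.symm
  exact hx ((EtCoh.bc f).obj N) ((EtCoh.bc f).map k) ⟨z, hz1⟩ h0

theorem suppPush_subset (V : Y.Etale) (u : EtCoh.sect F ((EtCoh.bc f).obj V)) (C : Set V.left)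
    (hC : IsClosed C) (h : sectSupp F ((EtCoh.bc f).obj V) u ⊆ (prV f V).base ⁻¹' C) :
    suppPush f F V u ⊆ C := by
  intro y hy
  by_contra hyC
  let O : V.left.Opens := ⟨Cᶜ, hC.isOpen_compl⟩
  have hV : Etale (show V.left ⟶ Y from V.hom) := V.prop
  let N : Y.Etale := Scheme.Etale.mk (O.ι ≫ (show V.left ⟶ Y from V.hom))
  let k : N ⟶ V := MorphismProperty.Over.homMk O.ι rfl
  refine hy N k ⟨⟨y, hyC⟩, rfl⟩ ?_
  rw [map_eq_zero_iff, Set.disjoint_right]
  rintro _ ⟨z, rfl⟩ hz
  have h1 : (prV f V).base (((EtCoh.bc f).map k).left.base z) ∈ C := h hz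
  have e := bc_map_left_fst f k
  have h2 : (prV f V).base (((EtCoh.bc f).map k).left.base z) =
      k.left.base ((prV f N).base z) := by
    rw [← Scheme.Hom.comp_apply, ← Scheme.Hom.comp_apply]
    exact congrArg (fun m => m.base z) e
  rw [h2] at h1
  exact ((prV f N).base z).2 h1

theorem isProperOver_preimage [LocallyOfFiniteType f] {V V' : Y.Etale} (φ : V' ⟶ V)
    {Z : Set ((EtCoh.bc f).obj V).left} (hZ : ClSub.IsProperOver (prV f V) Z) :
    ClSub.IsProperOver (prV f V') (((EtCoh.bc f).map φ).left.base ⁻¹' Z) := by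
  obtain ⟨h, hp⟩ := hZ
  rw [isProperOver_preimage_iff f φ Z h]
  have : IsProper (redι Z h ≫ prV f V) := hp
  exact MorphismProperty.pullback_snd (P := @IsProper) _ _ this

variable {S : Scheme.{u}} (V : Y.Etale) (q : V.left ⟶ S)

theorem hasProperSupport_of_comp [IsSeparated q] {u : EtCoh.sect F ((EtCoh.bc f).obj V)}
    (h : HasProperSupport F ((EtCoh.bc f).obj V) u (prV f V ≫ q)) :
    HasProperSupport F ((EtCoh.bc f).obj V) u (prV f V) := by
  obtain ⟨Z, hZ, hp⟩ := h
  exact ⟨Z, hZ, isProperOver_of_comp _ q hp⟩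

theorem exists_suppPush_subset [IsSeparated q] [LocallyOfFiniteType q]
    {u : EtCoh.sect F ((EtCoh.bc f).obj V)}
    (h : HasProperSupport F ((EtCoh.bc f).obj V) u (prV f V ≫ q)) :
    ∃ C, suppPush f F V u ⊆ C ∧ ClSub.IsProperOver q C := by
  obtain ⟨Z, hZ, hp⟩ := h
  have h1 := isProperOver_of_subset _ hp (isClosed_sectSupp F _ u) hZ
  have h2 := isProperOver_image' (prV f V) q h1
  exact ⟨_, suppPush_subset f F V u _ h2.1 (Set.subset_preimage_image _ _), h2⟩

theorem hasProperSupport_comp [LocallyOfFiniteType f] [LocallyOfFiniteType q]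
    {u : EtCoh.sect F ((EtCoh.bc f).obj V)}
    (h1 : HasProperSupport F ((EtCoh.bc f).obj V) u (prV f V))
    (h2 : ∃ C, suppPush f F V u ⊆ C ∧ ClSub.IsProperOver q C) :
    HasProperSupport F ((EtCoh.bc f).obj V) u (prV f V ≫ q) := by
  obtain ⟨Za, hZa, hpa⟩ := h1
  obtain ⟨C, hC, hpC⟩ := h2
  exact ⟨Za ∩ (prV f V).base ⁻¹' C,
    Set.subset_inter hZa ((subset_preimage_suppPush f F V u).trans (Set.preimage_mono hC)),
    isProperOver_inter_preimage _ q hpa hpC⟩

end SuppPush


section Comp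

variable {X Y Z : Scheme.{u}} (f : X ⟶ Y) (g : Y ⟶ Z)

instance isSeparated_prV [IsSeparated g] (W : Z.Etale) : IsSeparated (prV g W) :=
  MorphismProperty.pullback_fst (P := @IsSeparated) _ _ ‹_›

/-- `bc (f ≫ g) ≅ bc g ⋙ bc f` -/
noncomputable def cIso : EtCoh.bc (f ≫ g) ≅ EtCoh.bc g ⋙ EtCoh.bc f :=
  MorphismProperty.Over.pullbackComp (P := EtCoh.etaleMP.{u}) (Q := ⊤) f g

set_option backward.isDefEq.respectTransparency.types false in
theorem cIso_fst (W : Z.Etale) :
    ((cIso f g).hom.app W).left ≫ prV f ((EtCoh.bc g).obj W) ≫ prV g W = prV (f ≫ g) W :=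
  MorphismProperty.Over.pullbackComp_left_fst_fst (P := EtCoh.etaleMP.{u}) (Q := ⊤) f g W

/-- the underlying isomorphism of schemes -/
noncomputable def cIsoLeft (W : Z.Etale) :
    ((EtCoh.bc (f ≫ g)).obj W).left ≅ ((EtCoh.bc f).obj ((EtCoh.bc g).obj W)).left :=
  (Scheme.Etale.forget X ⋙ Over.forget X).mapIso ((cIso f g).app W)

theorem cIsoLeft_hom (W : Z.Etale) : (cIsoLeft f g W).hom = ((cIso f g).hom.app W).left := rfl

variable (F : EtCoh.Ab X)

theorem hasProperSupport_cIso_iff [LocallyOfFiniteType f] [LocallyOfFiniteType g] (W : Z.Etale)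
    (s : EtCoh.sect F ((EtCoh.bc f).obj ((EtCoh.bc g).obj W))) :
    HasProperSupport F ((EtCoh.bc (f ≫ g)).obj W) (F.obj.map ((cIso f g).hom.app W).op s)
        (prV (f ≫ g) W) ↔
      HasProperSupport F ((EtCoh.bc f).obj ((EtCoh.bc g).obj W)) s
        (prV f ((EtCoh.bc g).obj W) ≫ prV g W) := by
  have hsupp := sectSupp_map F ((cIso f g).hom.app W) s
  have hfst := cIso_fst f g W
  rw [← cIsoLeft_hom] at hfst hsupp
  constructor
  · rintro ⟨Z', hZ', hp⟩
    refine ⟨(cIsoLeft f g W).inv.base ⁻¹' Z', ?_, ?_⟩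
    · intro x hx
      change (cIsoLeft f g W).inv.base x ∈ Z'
      apply hZ'
      rw [hsupp]
      change (cIsoLeft f g W).hom.base ((cIsoLeft f g W).inv.base x) ∈ sectSupp F _ s
      rw [← Scheme.Hom.comp_apply, Iso.inv_hom_id]
      exact hx
    · rw [← isProperOver_iso_iff (cIsoLeft f g W), hfst]
      have : (cIsoLeft f g W).hom.base ⁻¹' ((cIsoLeft f g W).inv.base ⁻¹' Z') = Z' := by
        rw [← Set.preimage_comp, ← TopCat.coe_comp, ← Scheme.Hom.comp_base, Iso.hom_inv_id]
        rfl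
      rw [this]
      exact hp
  · rintro ⟨Z', hZ', hp⟩
    refine ⟨(cIsoLeft f g W).hom.base ⁻¹' Z', ?_, ?_⟩
    · rw [hsupp]
      exact Set.preimage_mono hZ'
    · rw [← hfst, isProperOver_iso_iff (cIsoLeft f g W)]
      exact hp

/-- restriction maps of `f_! F` -/
theorem shriekSheaf_map_val [LocallyOfFiniteType f] {V V' : Y.Etale} (k : V' ⟶ V)
    (t : ↥(shriekSubgroup f F V)) :
    ((show ↥(shriekSubgroup f F V') from ((shriekSheafFunctor f).obj F).obj.map k.op t) :
      EtCoh.sect F ((EtCoh.bc f).obj V')) =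
      F.obj.map ((EtCoh.bc f).map k).op t.1 := rfl

theorem sectSupp_shriekSheaf [LocallyOfFiniteType f] (V : Y.Etale) (t : ↥(shriekSubgroup f F V)) :
    sectSupp ((shriekSheafFunctor f).obj F) V t = suppPush f F V t.1 := by
  ext y
  simp only [sectSupp, suppPush, Set.mem_ofPred_eq]
  refine forall_congr' fun N => forall_congr' fun k => forall_congr' fun _ => ?_
  rw [not_iff_not]
  constructor
  · intro h
    have := congrArg Subtype.val h
    exact this
  · intro h
    exact Subtype.ext h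

theorem comp_naturality {W W' : Z.Etale} (φ : W' ⟶ W)
    (s : EtCoh.sect F ((EtCoh.bc f).obj ((EtCoh.bc g).obj W))) :
    F.obj.map ((EtCoh.bc (f ≫ g)).map φ).op (F.obj.map ((cIso f g).hom.app W).op s) =
      F.obj.map ((cIso f g).hom.app W').op
        (F.obj.map ((EtCoh.bc f).map ((EtCoh.bc g).map φ)).op s) := by
  rw [← ConcreteCategory.comp_apply, ← ConcreteCategory.comp_apply, ← F.obj.map_comp,
    ← F.obj.map_comp, ← op_comp, ← op_comp]
  have e : (EtCoh.bc (f ≫ g)).map φ ≫ (cIso f g).hom.app W =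
      (cIso f g).hom.app W' ≫ (EtCoh.bc f).map ((EtCoh.bc g).map φ) :=
    (cIso f g).hom.naturality φ
  rw [e]

theorem shriekPred_comp_iff [LocallyOfFiniteType f] [LocallyOfFiniteType g] [IsSeparated g]
    (W : Z.Etale) (s : EtCoh.sect F ((EtCoh.bc f).obj ((EtCoh.bc g).obj W))) :
    ShriekPred (f ≫ g) F W (F.obj.map ((cIso f g).hom.app W).op s) ↔
      ∃ hs : s ∈ shriekSubgroup f F ((EtCoh.bc g).obj W),
        ShriekPred g ((shriekSheafFunctor f).obj F) W
          (⟨s, hs⟩ : ↥(shriekSubgroup f F ((EtCoh.bc g).obj W))) := by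
  constructor
  · intro H
    have hs : ShriekPred f F ((EtCoh.bc g).obj W) s := by
      intro V' ψ
      have h0 := hasProperSupport_of_shriekPred (f ≫ g) F H
      rw [hasProperSupport_cIso_iff] at h0
      obtain ⟨Z₀, hZ₀, hp₀⟩ := hasProperSupport_of_comp f F _ (prV g W) h0
      refine ⟨((EtCoh.bc f).map ψ).left.base ⁻¹' Z₀, ?_, isProperOver_preimage f ψ hp₀⟩
      rw [sectSupp_map]
      exact Set.preimage_mono hZ₀
    refine ⟨(mem_shriekSubgroup_iff f F _ s).2 hs, ?_⟩
    intro W' φ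
    have h1 := H W' φ
    rw [comp_naturality, hasProperSupport_cIso_iff] at h1
    obtain ⟨C, hC, hpC⟩ := exists_suppPush_subset f F _ (prV g W') h1
    refine ⟨C, ?_, hpC⟩
    rw [sectSupp_shriekSheaf]
    exact hC
  · rintro ⟨hs, ht⟩ W' φ
    rw [comp_naturality, hasProperSupport_cIso_iff]
    have hs' := (mem_shriekSubgroup_iff f F _ s).1 hs
    refine hasProperSupport_comp f F _ (prV g W') (hs' _ ((EtCoh.bc g).map φ)) ?_
    obtain ⟨C, hC, hpC⟩ := ht W' φ
    rw [sectSupp_shriekSheaf] at hC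
    exact ⟨C, hC, hpC⟩

end Comp

section Assemble

variable {X Y Z : Scheme.{u}} (f : X ⟶ Y) (g : Y ⟶ Z)

/-- the inclusion `f_! ⊆ f_*` -/
noncomputable def shriekToPush [LocallyOfFiniteType f] : shriekSheafFunctor f ⟶ EtCoh.push f where
  app F := ⟨lowerShriekPreι f F⟩
  naturality F G α := by
    apply Sheaf.hom_ext
    ext V ⟨s, hs⟩
    rfl

theorem shriekToPush_app_injective [LocallyOfFiniteType f] (F : EtCoh.Ab X) (V : Y.Etaleᵒᵖ) :
    Function.Injective (((shriekToPush f).app F).hom.app V) := by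
  intro a b hab
  exact Subtype.ext hab

theorem range_shriekToPush [LocallyOfFiniteType f] (F : EtCoh.Ab X) (V : Y.Etaleᵒᵖ) :
    Set.range (((shriekToPush f).app F).hom.app V) =
      (shriekSubgroup f F V.unop : Set (EtCoh.sect F ((EtCoh.bc f).obj V.unop))) := by
  ext s
  constructor
  · rintro ⟨t, rfl⟩
    exact t.2
  · intro hs
    exact ⟨⟨s, hs⟩, rfl⟩

set_option backward.isDefEq.respectTransparency.types false in
theorem pushComp_hom_app_hom_app' (H : EtCoh.Ab X) (P : Z.Etale) :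
    ((EtCoh.pushComp g f).hom.app H).hom.app (op P) = H.obj.map ((cIso f g).hom.app P).op := by
  simp [EtCoh.pushComp]
  rfl

theorem nonempty_shriekSheafFunctor_comp [LocallyOfFiniteType f] [LocallyOfFiniteType g]
    [IsSeparated g] :
    Nonempty (shriekSheafFunctor f ⋙ shriekSheafFunctor g ≅ shriekSheafFunctor (f ≫ g)) := by
  let S := sheafToPresheaf Z.smallEtaleTopology AddCommGrpCat.{u + 1}
  let m₁ : (shriekSheafFunctor f ⋙ shriekSheafFunctor g) ⋙ S ⟶
      (EtCoh.push f ⋙ EtCoh.push g) ⋙ S :=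
    Functor.whiskerRight (Functor.whiskerLeft (shriekSheafFunctor f) (shriekToPush g) ≫
      Functor.whiskerRight (shriekToPush f) (EtCoh.push g)) S
  let m₂ : shriekSheafFunctor (f ≫ g) ⋙ S ⟶ EtCoh.push (f ≫ g) ⋙ S :=
    Functor.whiskerRight (shriekToPush (f ≫ g)) S
  let ρ : (EtCoh.push f ⋙ EtCoh.push g) ⋙ S ⟶ EtCoh.push (f ≫ g) ⋙ S :=
    Functor.whiskerRight (EtCoh.pushComp g f).hom S
  have hm₁ : ∀ (F : EtCoh.Ab X) (W : Z.Etaleᵒᵖ)
      (t : ↥(shriekSubgroup g ((shriekSheafFunctor f).obj F) W.unop)),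
      (m₁.app F).app W t = (t.1 : ↥(shriekSubgroup f F ((EtCoh.bc g).obj W.unop))).1 :=
    fun _ _ _ => rfl
  have hρ : ∀ (F : EtCoh.Ab X) (W : Z.Etaleᵒᵖ)
      (s : EtCoh.sect F ((EtCoh.bc f).obj ((EtCoh.bc g).obj W.unop))),
      (ρ.app F).app W s = F.obj.map ((cIso f g).hom.app W.unop).op s := by
    intro F W s
    change ((EtCoh.pushComp g f).hom.app F).hom.app (op W.unop) s = _
    rw [pushComp_hom_app_hom_app']
    rfl
  have h₁ : ∀ F W, Function.Injective ((m₁.app F).app W) := by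
    intro F W a b hab
    have ha := hm₁ F W a
    have hb := hm₁ F W b
    exact Subtype.ext (Subtype.ext (ha.symm.trans (hab.trans hb)))
  have h₂ : ∀ F W, Function.Injective ((m₂.app F).app W) := by
    intro F W
    exact shriekToPush_app_injective (f ≫ g) F W
  have hb : ∀ F W, Set.BijOn ((ρ.app F).app W) (Set.range ((m₁.app F).app W))
      (Set.range ((m₂.app F).app W)) := by
    intro F W
    have hr₂ : Set.range ((m₂.app F).app W) =
        (shriekSubgroup (f ≫ g) F W.unop :
          Set (EtCoh.sect F ((EtCoh.bc (f ≫ g)).obj W.unop))) :=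
      range_shriekToPush (f ≫ g) F W
    have hr₁ : Set.range ((m₁.app F).app W) =
        {s | ∃ hs : s ∈ shriekSubgroup f F ((EtCoh.bc g).obj W.unop),
          (⟨s, hs⟩ : ↥(shriekSubgroup f F ((EtCoh.bc g).obj W.unop))) ∈
            shriekSubgroup g ((shriekSheafFunctor f).obj F) W.unop} := by
      ext s
      constructor
      · rintro ⟨t, rfl⟩
        rw [hm₁]
        exact ⟨t.1.2, t.2⟩
      · rintro ⟨hs, ht⟩
        exact ⟨⟨⟨s, hs⟩, ht⟩, hm₁ F W _⟩
    rw [hr₁, hr₂]
    have hiff : ∀ s : EtCoh.sect F ((EtCoh.bc f).obj ((EtCoh.bc g).obj W.unop)),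
        F.obj.map ((cIso f g).hom.app W.unop).op s ∈ shriekSubgroup (f ≫ g) F W.unop ↔
          ∃ hs : s ∈ shriekSubgroup f F ((EtCoh.bc g).obj W.unop),
            (⟨s, hs⟩ : ↥(shriekSubgroup f F ((EtCoh.bc g).obj W.unop))) ∈
              shriekSubgroup g ((shriekSheafFunctor f).obj F) W.unop := by
      intro s
      rw [mem_shriekSubgroup_iff, shriekPred_comp_iff]
      exact exists_congr fun hs => (mem_shriekSubgroup_iff g _ _ _).symm
    have hbij : Function.Bijective ((ρ.app F).app W) := by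
      have : IsIso ((ρ.app F).app W) := by
        change IsIso ((S.map ((EtCoh.pushComp g f).hom.app F)).app W)
        infer_instance
      exact ConcreteCategory.bijective_of_isIso _
    refine ⟨?_, hbij.injective.injOn, ?_⟩
    · intro s hs
      have h := (hiff s).2 hs
      rw [← hρ] at h
      exact h
    · intro s' hs'
      obtain ⟨s, rfl⟩ := hbij.surjective s'
      have h : F.obj.map ((cIso f g).hom.app W.unop).op s ∈ shriekSubgroup (f ≫ g) F W.unop := by
        rw [← hρ]
        exact hs'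
      exact ⟨s, (hiff s).1 h, rfl⟩
  obtain ⟨e⟩ := nonempty_natIso_of_bijOn m₁ m₂ ρ h₁ h₂ hb
  exact ⟨Functor.fullyFaithfulCancelRight S e⟩

theorem nonempty_lowerShriek_comp [LocallyOfFiniteType f] [LocallyOfFiniteType g]
    [IsSeparated g] :
    Nonempty (lowerShriek (f ≫ g) ≅ lowerShriek f ⋙ lowerShriek g) := by
  obtain ⟨e⟩ := nonempty_shriekSheafFunctor_comp f g
  exact ⟨(lowerShriekIso (f ≫ g)).trans (e.symm.trans
    (Functor.isoWhiskerLeft _ (lowerShriekIso g).symm ≪≫
      Functor.isoWhiskerRight (lowerShriekIso f).symm _))⟩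

end Assemble

end Groth.Agent.Lib.Seat3.ShriekComp
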