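import Groth.Agent.Lib.Seat3ShriekColim
import Groth.Agent.Lib.Seat3CoprodFiltered

/-!
# `f_!` is additive, left exact and commutes with coproducts (seat 3)

* `additive_lowerShriek`, `preservesFiniteLimits_lowerShriek`
* `preservesCoproducts_lowerShriek`
-/

set_option autoImplicit false
set_option linter.style.haveILetI false
set_option linter.unusedSectionVars false
universe u
open CategoryTheory CategoryTheory.Limits AlgebraicGeometry Opposite TopologicalSpace

namespace Groth.Agent.Lib.Seat3.ShriekExact

open EtShriek Groth.Agent.Lib.Seat3.ShriekSheaf Groth.Agent.Lib.Seat3.ShriekComp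
  Groth.Agent.Lib.Seat3.ShriekCompUniq Groth.Agent.Lib.Seat3.ShriekColim

variable {X Y : Scheme.{u}} (f : X ⟶ Y) [LocallyOfFiniteType f]

instance additive_shriekSheafFunctor : (shriekSheafFunctor f).Additive where
  map_add {F F' α β} := by
    apply Sheaf.hom_ext
    ext V σ
    apply Subtype.ext
    rfl

instance additive_lowerShriek : (lowerShriek f).Additive :=
  Functor.additive_of_iso (lowerShriekIso f).symm

/-- sections of a monomorphism of sheaves are injective -/
theorem injective_app_of_mono {T : Scheme.{u}} {F F' : EtCoh.Ab T} (i : F ⟶ F') [Mono i]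
    (P : T.Etale) : Function.Injective (i.hom.app (op P)) := by
  have h1 : Mono ((sheafToPresheaf _ _).map i) := inferInstance
  have h2 : Mono (i.hom.app (op P)) :=
    (NatTrans.mono_iff_mono_app ((sheafToPresheaf _ _).map i)).1 h1 (op P)
  exact (AddCommGrpCat.mono_iff_injective _).1 h2

theorem sectSupp_subset_of_injective {F F' : EtCoh.Ab X} (i : F ⟶ F')
    (hi : ∀ P : X.Etale, Function.Injective (i.hom.app (op P))) (U : X.Etale)
    (s : EtCoh.sect F U) : sectSupp F U s ⊆ sectSupp F' U (i.hom.app (op U) s) := by
  intro x hx N k hk h0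
  apply hx N k hk
  apply hi N
  rw [map_zero, nat_apply]
  exact h0

theorem mem_shriekSubgroup_of_injective {F F' : EtCoh.Ab X} (i : F ⟶ F')
    (hi : ∀ P : X.Etale, Function.Injective (i.hom.app (op P))) (V : Y.Etale)
    (s : EtCoh.sect F ((EtCoh.bc f).obj V))
    (h : i.hom.app (op ((EtCoh.bc f).obj V)) s ∈ shriekSubgroup f F' V) :
    s ∈ shriekSubgroup f F V := by
  rw [mem_shriekSubgroup_iff] at h ⊢
  intro V' φ
  obtain ⟨Z, hsub, hZ⟩ := h V' φ
  refine ⟨Z, ?_, hZ⟩
  refine (sectSupp_subset_of_injective i hi _ _).trans ?_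
  rw [nat_apply]
  exact hsub

/-- a morphism to `f_* F` with values in sections with proper support factors through `f_! F` -/
noncomputable def liftShriek {A : EtCoh.Ab Y} {F : EtCoh.Ab X} (l' : A ⟶ (EtCoh.push f).obj F)
    (h : ∀ (V : Y.Etale) (a : A.obj.obj (op V)), l'.hom.app (op V) a ∈ shriekSubgroup f F V) :
    A ⟶ (shriekSheafFunctor f).obj F :=
  ⟨{ app := fun V => AddCommGrpCat.ofHom
        ((l'.hom.app V).hom.codRestrict (shriekSubgroup f F V.unop) (h V.unop))
     naturality := by
      intro V V' φ
      ext a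
      apply Subtype.ext
      exact ConcreteCategory.congr_hom (l'.hom.naturality φ) a }⟩

theorem liftShriek_toPush {A : EtCoh.Ab Y} {F : EtCoh.Ab X} (l' : A ⟶ (EtCoh.push f).obj F)
    (h : ∀ (V : Y.Etale) (a : A.obj.obj (op V)), l'.hom.app (op V) a ∈ shriekSubgroup f F V) :
    liftShriek f l' h ≫ (shriekToPush f).app F = l' := by
  apply Sheaf.hom_ext
  ext V a
  rfl

theorem preservesLimit_kernel {A₀ B₀ : EtCoh.Ab X} (g : A₀ ⟶ B₀) :
    PreservesLimit (parallelPair g 0) (shriekSheafFunctor f) := by
  refine preservesLimit_of_preserves_limit_cone (kernelIsKernel g) ?_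
  apply (KernelFork.isLimitMapConeEquiv _ (shriekSheafFunctor f)).2
  have hinj : ∀ P : X.Etale, Function.Injective ((kernel.ι g).hom.app (op P)) :=
    fun P => injective_app_of_mono (kernel.ι g) P
  haveI : Mono ((shriekSheafFunctor f).map (kernel.ι g)) := by
    apply Sheaf.mono_of_injective
    intro V a b hab
    apply Subtype.ext
    apply hinj
    exact congrArg Subtype.val hab
  have hlift : ∀ {A : EtCoh.Ab Y} (k : A ⟶ (shriekSheafFunctor f).obj A₀),
      k ≫ (shriekSheafFunctor f).map g = 0 →
        { l : A ⟶ (shriekSheafFunctor f).obj (kernel g) //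
          l ≫ (shriekSheafFunctor f).map (kernel.ι g) = k } := by
    intro A k hk
    haveI : PreservesLimits (EtCoh.push f) := (EtCoh.pullPushAdj f).rightAdjoint_preservesLimits
    have hP := KernelFork.mapIsLimit _ (kernelIsKernel g) (EtCoh.push f)
    have hk' : (k ≫ (shriekToPush f).app A₀) ≫ (EtCoh.push f).map g = 0 := by
      rw [Category.assoc, ← (shriekToPush f).naturality g, ← Category.assoc, hk, zero_comp]
    obtain ⟨l', hl'⟩ := KernelFork.IsLimit.lift' hP (k ≫ (shriekToPush f).app A₀) hk'
    have hl'' : l' ≫ (EtCoh.push f).map (kernel.ι g) = k ≫ (shriekToPush f).app A₀ := hl'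
    have hmem : ∀ (V : Y.Etale) (a : A.obj.obj (op V)),
        l'.hom.app (op V) a ∈ shriekSubgroup f (kernel g) V := by
      intro V a
      apply mem_shriekSubgroup_of_injective f (kernel.ι g) hinj
      have h1 : (kernel.ι g).hom.app (op ((EtCoh.bc f).obj V)) (l'.hom.app (op V) a) =
          ((k ≫ (shriekToPush f).app A₀).hom.app (op V)) a := by
        rw [← hl'']
        rfl
      rw [h1]
      exact ((k.hom.app (op V)) a).2
    refine ⟨liftShriek f l' hmem, ?_⟩
    rw [← cancel_mono ((shriekToPush f).app A₀), Category.assoc, (shriekToPush f).naturality,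
      ← Category.assoc, liftShriek_toPush]
    exact hl''
  have hw : (shriekSheafFunctor f).map (kernel.ι g) ≫ (shriekSheafFunctor f).map g = 0 := by
    rw [← Functor.map_comp, kernel.condition, Functor.map_zero]
  exact KernelFork.IsLimit.ofι' ((shriekSheafFunctor f).map (kernel.ι g)) hw (hi := ‹_›)
    (fun k hk => hlift k hk)

variable [IsSeparated f]

theorem preservesFiniteLimits_shriekSheafFunctor : PreservesFiniteLimits (shriekSheafFunctor f) :=
  ((Functor.preservesFiniteLimits_tfae (shriekSheafFunctor f)).out 2 3).1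
    (fun _ _ g => preservesLimit_kernel f g)

theorem preservesFiniteLimits_lowerShriek : PreservesFiniteLimits (lowerShriek f) := by
  haveI := preservesFiniteLimits_shriekSheafFunctor f
  exact preservesFiniteLimits_of_natIso (lowerShriekIso f).symm

theorem preservesCoproducts_lowerShriek (ι : Type u) :
    PreservesColimitsOfShape (Discrete ι) (lowerShriek f) := by
  haveI := preservesFilteredColimits_lowerShriek f
  exact Groth.Agent.Lib.Seat3.CoprodFiltered.preservesColimitsOfShape_discrete (lowerShriek f)

end Groth.Agent.Lib.Seat3.ShriekExact
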