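import Groth.Agent.Lib.Seat3ShriekComp
import Groth.Agent.S0651
import Groth.Agent.S0647
import Groth.Agent.Lib.Helper16EtSupp

/-!
# Extension by zero along an open immersion as sections with proper support (seat 3)

For an open immersion `j : U ⟶ X`:
* `isProperOver_iff_of_isOpenImmersion`, `shriekPred_iff_isClosed_image`: a section of `F` over
  `U ×_X W` has proper support over `W` iff the image of its support in `W` is closed.
* `extZeroIsoShriek j : extZero j ≅ shriekSheafFunctor j`.
-/

set_option autoImplicit false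
universe u
open CategoryTheory CategoryTheory.Limits AlgebraicGeometry Opposite

namespace Groth.Agent.Lib.Seat3.ShriekOpen

open EtShriek Groth.Agent.Lib.Helper1 Groth.Agent.Lib.Seat3.EtConstLC
open Groth.Agent.Lib.Seat3.Excision Groth.Agent.Lib.Seat3.ShriekSheaf
open Groth.Agent.Lib.Seat3.ShriekComp

section Top

theorem isProperOver_iff_of_isOpenImmersion {T V : Scheme.{u}} (p : T ⟶ V) [IsOpenImmersion p]
    (Z : Set T) : ClSub.IsProperOver p Z ↔ IsClosed Z ∧ IsClosed (p.base '' Z) := by
  constructor
  · rintro ⟨h, hp⟩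
    refine ⟨h, ?_⟩
    have hp' : IsProper (redι Z h ≫ p) := hp
    have := (redι Z h ≫ p).isClosedMap.isClosed_range
    rwa [Scheme.Hom.comp_base, TopCat.coe_comp, Set.range_comp, range_redι] at this
  · rintro ⟨h, h2⟩
    refine ⟨h, ?_⟩
    change IsProper (redι Z h ≫ p)
    have hr : IsClosed (Set.range (redι Z h ≫ p).base) := by
      rwa [Scheme.Hom.comp_base, TopCat.coe_comp, Set.range_comp, range_redι]
    have : IsClosedImmersion (redι Z h ≫ p) := IsClosedImmersion.of_isPreimmersion _ hr
    infer_instance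

variable {U X : Scheme.{u}} (j : U ⟶ X) [IsOpenImmersion j]

instance isOpenImmersion_prV (W : X.Etale) : IsOpenImmersion (prV j W) :=
  MorphismProperty.pullback_fst (P := @IsOpenImmersion) _ _ ‹_›

theorem range_prV (W : X.Etale) :
    Set.range (prV j W).base = (show W.left ⟶ X from W.hom).base ⁻¹' Set.range j.base :=
  Scheme.Pullback.range_fst _ _

variable (F : EtCoh.Ab U)

theorem shriekPred_iff_isClosed_image (W : X.Etale) (t : EtCoh.sect F ((EtCoh.bc j).obj W)) :
    ShriekPred j F W t ↔ IsClosed ((prV j W).base '' sectSupp F ((EtCoh.bc j).obj W) t) := by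
  constructor
  · intro h
    obtain ⟨Z, hZ, hp⟩ := hasProperSupport_of_shriekPred j F h
    have h1 := isProperOver_of_subset _ hp (isClosed_sectSupp F _ t) hZ
    exact ((isProperOver_iff_of_isOpenImmersion _ _).1 h1).2
  · intro h W' φ
    refine ⟨_, le_rfl, ?_⟩
    rw [isProperOver_iff_of_isOpenImmersion]
    refine ⟨isClosed_sectSupp F _ _, ?_⟩
    rw [sectSupp_map, Scheme.image_preimage_eq_of_isPullback (EtCoh.isPullback_bc_map j φ)]
    exact h.preimage φ.left.continuous

end Top

section Criterion

open Groth.Agent.Lib.Helper16.SmallEtale Groth.Agent.S0651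

variable {U X : Scheme.{u}} (j : U ⟶ X) [IsOpenImmersion j]

/-- sections of `G` vanish near points not lying over `U` -/
def VanishOutside (G : EtCoh.Ab X) : Prop :=
  ∀ (W : X.Etale) (t : EtCoh.sect G W) (w : W.left),
    (show W.left ⟶ X from W.hom).base w ∉ Set.range j.base → w ∉ sectSupp G W t

set_option backward.isDefEq.respectTransparency.types false in
theorem counit_left (W : X.Etale) : ((compBcAdj j).counit.app W).left = prV j W := by
  simp [compBcAdj]

theorem exists_counit_point (W : X.Etale) (w : W.left)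
    (hw : (show W.left ⟶ X from W.hom).base w ∈ Set.range j.base) :
    ∃ z : ((compEtale j).obj ((EtCoh.bc j).obj W)).left,
      ((compBcAdj j).counit.app W).left.base z = w := by
  have : w ∈ Set.range (prV j W).base := by rw [range_prV]; exact hw
  obtain ⟨z, hz⟩ := this
  refine ⟨z, ?_⟩
  rw [counit_left]
  exact hz

theorem isIso_of_restr {G G' : EtCoh.Ab X} (φ : G ⟶ G')
    (h : IsIso ((restrAlong j).map φ)) (hG : VanishOutside j G) (hG' : VanishOutside j G') :
    IsIso φ := by
  have hbij : ∀ V : U.Etale, Function.Bijective (φ.hom.app (op ((compEtale j).obj V))) := by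
    intro V
    have h1 : IsIso (((restrAlong j).map φ).hom.app (op V)) := by
      have : IsIso ((sheafToPresheaf _ _).map ((restrAlong j).map φ)) := inferInstance
      exact NatIso.isIso_app_of_isIso ((sheafToPresheaf _ _).map ((restrAlong j).map φ)) (op V)
    exact ConcreteCategory.bijective_of_isIso (((restrAlong j).map φ).hom.app (op V))
  have hmono : Mono φ := by
    apply Sheaf.mono_of_injective
    intro W
    rw [injective_iff_map_eq_zero]
    intro t ht
    apply Groth.Agent.S0102.section_eq_zero_of_locally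
    intro w
    by_cases hw : (show W.unop.left ⟶ X from W.unop.hom).base w ∈ Set.range j.base
    · obtain ⟨z, hz⟩ := exists_counit_point j W.unop w hw
      refine ⟨_, (compBcAdj j).counit.app W.unop, z, hz, ?_⟩
      apply (hbij ((EtCoh.bc j).obj W.unop)).1
      rw [map_zero]
      have hnat := ConcreteCategory.congr_hom
        (φ.hom.naturality ((compBcAdj j).counit.app W.unop).op) t
      rw [ConcreteCategory.comp_apply, ConcreteCategory.comp_apply] at hnat
      refine hnat.trans ?_
      have ht' : φ.hom.app (op ((𝟭 X.Etale).obj (unop W))) t = 0 := ht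
      rw [ht', map_zero]
    · have := hG W.unop t w hw
      simp only [sectSupp, Set.mem_ofPred_eq, not_forall, not_not] at this
      obtain ⟨N, k, ⟨n, hn⟩, hk⟩ := this
      exact ⟨N, k, n, hn, hk⟩
  have hepi : Epi φ := by
    rw [← Sheaf.isLocallySurjective_iff_epi']
    constructor
    intro W t'
    rw [mem_smallEtale_iff]
    intro w
    by_cases hw : (show W.left ⟶ X from W.hom).base w ∈ Set.range j.base
    · obtain ⟨z, hz⟩ := exists_counit_point j W w hw
      obtain ⟨t, ht⟩ := (hbij ((EtCoh.bc j).obj W)).2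
        (G'.obj.map ((compBcAdj j).counit.app W).op t')
      exact ⟨_, (compBcAdj j).counit.app W, z, ⟨t, ht⟩, hz⟩
    · have := hG' W t' w hw
      simp only [sectSupp, Set.mem_ofPred_eq, not_forall, not_not] at this
      obtain ⟨N, k, ⟨n, hn⟩, hk⟩ := this
      refine ⟨N, k, n, ⟨0, ?_⟩, hn⟩
      rw [map_zero]
      exact hk.symm
  exact isIso_of_mono_of_epi φ

end Criterion

section Iso

open Groth.Agent.Lib.Helper16.SmallEtale Groth.Agent.S0651 Groth.Agent.Lib.Helper16.EtStalk
open Groth.Agent.Lib.Helper16.EtSupp Groth.Agent.Lib.Helper16.StalkPull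

variable {U X : Scheme.{u}} (j : U ⟶ X) [IsOpenImmersion j]

/-- over an object coming from `U`, every section has proper support -/
theorem mem_shriekSubgroup_over (F : EtCoh.Ab U) (V : U.Etale)
    (s : EtCoh.sect F ((EtCoh.bc j).obj ((compEtale j).obj V))) :
    s ∈ shriekSubgroup j F ((compEtale j).obj V) := by
  rw [mem_shriekSubgroup_iff, shriekPred_iff_isClosed_image]
  have hsurj : Function.Surjective (prV j ((compEtale j).obj V)).base := by
    rw [← Set.range_eq_univ, range_prV, Set.eq_univ_iff_forall]
    intro v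
    change ((show V.left ⟶ U from V.hom) ≫ j).base v ∈ Set.range j.base
    rw [Scheme.Hom.comp_apply]
    exact ⟨_, rfl⟩
  have hbij : Function.Bijective (prV j ((compEtale j).obj V)).base :=
    ⟨(prV j ((compEtale j).obj V)).isOpenEmbedding.injective, hsurj⟩
  rw [← isOpen_compl_iff, ← Set.image_compl_eq hbij]
  exact (prV j ((compEtale j).obj V)).isOpenEmbedding.isOpenMap _
    (isClosed_sectSupp F _ s).isOpen_compl

/-- a morphism of abelian étale sheaves bijective on all sections is an isomorphism -/
theorem isIso_of_bijective_app {T : Scheme.{u}} {G G' : EtCoh.Ab T} (φ : G ⟶ G')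
    (h : ∀ V : T.Etale, Function.Bijective (φ.hom.app (op V))) : IsIso φ := by
  have h1 : IsIso ((sheafToPresheaf _ _).map φ) := by
    apply (config := { allowSynthFailures := true }) NatIso.isIso_of_isIso_app
    intro V
    exact (ConcreteCategory.isIso_iff_bijective _).2 (h V.unop)
  exact isIso_of_reflects_iso _ (sheafToPresheaf _ _)

/-- `(j_♯ F)|_U ⟶ (j_* F)|_U ⟶ F` -/
noncomputable def kappa : shriekSheafFunctor j ⋙ restrAlong j ⟶ 𝟭 (EtCoh.Ab U) :=
  Functor.whiskerRight (shriekToPush j) (restrAlong j) ≫ (restrPushAdj j).counit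

instance isIso_kappa_app (F : EtCoh.Ab U) : IsIso ((kappa j).app F) := by
  have h1 : IsIso ((restrAlong j).map ((shriekToPush j).app F)) := by
    apply isIso_of_bijective_app
    intro V
    refine ⟨shriekToPush_app_injective j F (op ((compEtale j).obj V)), ?_⟩
    intro s
    have : s ∈ Set.range (((shriekToPush j).app F).hom.app (op ((compEtale j).obj V))) := by
      rw [range_shriekToPush]
      exact mem_shriekSubgroup_over j F V s
    exact this
  have h2 : IsIso ((restrPushAdj j).counit.app F) := isIso_counit j F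
  change IsIso ((restrAlong j).map ((shriekToPush j).app F) ≫ (restrPushAdj j).counit.app F)
  infer_instance

instance isIso_kappa : IsIso (kappa j) := NatIso.isIso_of_isIso_app _

/-- the comparison `j_! ⟶ j_♯` -/
noncomputable def alpha : extZero j ⟶ shriekSheafFunctor j where
  app F := ((extZeroAdj j).homEquiv F ((shriekSheafFunctor j).obj F)).symm ((inv (kappa j)).app F)
  naturality F F' a := by
    rw [← Adjunction.homEquiv_naturality_left_symm, ← Adjunction.homEquiv_naturality_right_symm]
    congr 1
    exact (inv (kappa j)).naturality a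

theorem isIso_restr_alpha (F : EtCoh.Ab U) : IsIso ((restrAlong j).map ((alpha j).app F)) := by
  have h1 : (extZeroAdj j).unit.app F ≫ (restrAlong j).map ((alpha j).app F) =
      (inv (kappa j)).app F := by
    have := Equiv.apply_symm_apply ((extZeroAdj j).homEquiv F ((shriekSheafFunctor j).obj F))
      ((inv (kappa j)).app F)
    rw [Adjunction.homEquiv_unit] at this
    exact this
  have h2 : IsIso ((extZeroAdj j).unit.app F) := by
    have := isIso_unit_extZero j
    infer_instance
  have h3 : IsIso ((extZeroAdj j).unit.app F ≫ (restrAlong j).map ((alpha j).app F)) := by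
    rw [h1]
    infer_instance
  exact IsIso.of_isIso_comp_left ((extZeroAdj j).unit.app F) _

theorem vanishOutside_shriek (F : EtCoh.Ab U) :
    VanishOutside j ((shriekSheafFunctor j).obj F) := by
  intro W t w hw
  have ht : ShriekPred j F W (show ↥(shriekSubgroup j F W) from t).1 :=
    (mem_shriekSubgroup_iff j F W _).1 (show ↥(shriekSubgroup j F W) from t).2
  rw [shriekPred_iff_isClosed_image] at ht
  rw [sectSupp_shriekSheaf]
  intro hmem
  have := suppPush_subset j F W _ _ ht (Set.subset_preimage_image _ _) hmem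
  obtain ⟨x, -, hx⟩ := this
  apply hw
  have : w ∈ Set.range (prV j W).base := ⟨x, hx⟩
  rw [range_prV] at this
  exact this

theorem vanishOutside_extZero (F : EtCoh.Ab U) : VanishOutside j ((extZero j).obj F) := by
  intro W t w hw
  obtain ⟨Ω, _, _, ξ, x₀, hx₀⟩ := exists_geometric_point W w
  rw [← germ_eq_zero_iff ((extZero j).obj F) ξ W x₀ t w hx₀]
  obtain ⟨e⟩ := Groth.Agent.S0647.result j F ξ
  have hempty : IsEmpty {u : Spec (CommRingCat.of Ω) ⟶ U // u ≫ j = ξ} := by
    constructor
    rintro ⟨u, hu⟩
    apply hw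
    have h1 : (x₀.left ≫ (show W.left ⟶ X from W.hom)) = ξ := Over.w x₀
    refine ⟨u.base default, ?_⟩
    rw [← Scheme.Hom.comp_apply, hu, ← h1, Scheme.Hom.comp_apply, hx₀]
    rfl
  have hz : IsZero ((EtCoh.stalk ξ).obj ((extZero j).obj F)) := by
    refine IsZero.of_iso ?_ e
    have : IsInitial (∐ fun u : {u : Spec (CommRingCat.of Ω) ⟶ U // u ≫ j = ξ} =>
        (EtCoh.stalk u.1).obj F) := by
      refine IsInitial.ofUniqueHom (fun Y => Sigma.desc fun u => hempty.elim u) ?_
      intro Y m
      apply Sigma.hom_ext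
      intro u
      exact hempty.elim u
    exact (isZero_zero _).of_iso (this.uniqueUpToIso (HasZeroObject.zeroIsInitial))
  exact (AddCommGrpCat.subsingleton_of_isZero hz).elim _ _

instance isIso_alpha_app (F : EtCoh.Ab U) : IsIso ((alpha j).app F) :=
  isIso_of_restr j _ (isIso_restr_alpha j F) (vanishOutside_extZero j F) (vanishOutside_shriek j F)

instance isIso_alpha : IsIso (alpha j) := NatIso.isIso_of_isIso_app _

/-- extension by zero along an open immersion is the sheaf of sections with proper support -/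
noncomputable def extZeroIsoShriek : extZero j ≅ shriekSheafFunctor j := asIso (alpha j)

end Iso


section Proper

variable {X Y : Scheme.{u}} (f : X ⟶ Y) [IsProper f]

instance isProper_prV (V : Y.Etale) : IsProper (prV f V) :=
  MorphismProperty.pullback_fst (P := @IsProper) _ _ ‹_›

theorem shriekPred_of_isProper (F : EtCoh.Ab X) (V : Y.Etale)
    (s : EtCoh.sect F ((EtCoh.bc f).obj V)) : ShriekPred f F V s := by
  intro V' φ
  refine ⟨Set.univ, Set.subset_univ _, isClosed_univ, ?_⟩
  change IsProper (redι Set.univ isClosed_univ ≫ prV f V')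
  infer_instance

instance isIso_shriekToPush_app (F : EtCoh.Ab X) : IsIso ((shriekToPush f).app F) := by
  apply isIso_of_bijective_app
  intro V
  refine ⟨shriekToPush_app_injective f F (op V), ?_⟩
  intro s
  have : s ∈ Set.range (((shriekToPush f).app F).hom.app (op V)) := by
    rw [range_shriekToPush]
    exact (mem_shriekSubgroup_iff f F V s).2 (shriekPred_of_isProper f F V s)
  exact this

instance isIso_shriekToPush : IsIso (shriekToPush f) := NatIso.isIso_of_isIso_app _

/-- for proper `f`, `f_! = f_*` -/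
noncomputable def shriekIsoPush : shriekSheafFunctor f ≅ EtCoh.push f := asIso (shriekToPush f)

end Proper

theorem nonempty_lowerShriek_iso_extZero_push {X Xb Y : Scheme.{u}} (j : X ⟶ Xb)
    [IsOpenImmersion j] (fb : Xb ⟶ Y) [IsProper fb] :
    Nonempty (lowerShriek (j ≫ fb) ≅ extZero j ⋙ EtCoh.push fb) := by
  obtain ⟨e⟩ := nonempty_shriekSheafFunctor_comp j fb
  exact ⟨(lowerShriekIso (j ≫ fb)).trans (e.symm.trans
    (Functor.isoWhiskerLeft _ (shriekIsoPush fb) ≪≫
      Functor.isoWhiskerRight (extZeroIsoShriek j).symm _))⟩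


section H0c

variable {X Xb : Scheme.{u}} (j : X ⟶ Xb)

/-- `X ×_{Xb} Xb ≅ X` as schemes -/
noncomputable def topIsoLeft : pullback (𝟙 Xb) j ≅ X := asIso (pullback.snd (𝟙 Xb) j)

/-- `X ×_{Xb} Xb ≅ X` in the small étale site of `X` -/
noncomputable def topIso : (EtCoh.bc j).obj (EtCoh.top Xb) ≅ EtCoh.top X :=
  MorphismProperty.Over.isoMk (topIsoLeft j) (Category.comp_id _)

theorem topIso_hom_left : (topIso j).hom.left = (topIsoLeft j).hom := rfl

theorem prV_top : prV j (EtCoh.top Xb) = (topIso j).hom.left ≫ j := by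
  rw [topIso_hom_left]
  have := pullback.condition (f := 𝟙 Xb) (g := j)
  rw [Category.comp_id] at this
  exact this

variable [IsOpenImmersion j] (F : EtCoh.Ab X)

theorem shriekPred_top_iff (s : EtCoh.sect F (EtCoh.top X)) :
    ShriekPred j F (EtCoh.top Xb) (F.obj.map (topIso j).hom.op s) ↔
      IsClosed (j.base '' sectSupp F (EtCoh.top X) s) := by
  have hsurj : Function.Surjective (topIso j).hom.left.base := by
    rw [topIso_hom_left]
    exact (topIsoLeft j).hom.surjective
  have himg : (prV j (EtCoh.top Xb)).base ''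
      ((topIso j).hom.left.base ⁻¹' sectSupp F (EtCoh.top X) s) =
      j.base '' sectSupp F (EtCoh.top X) s := by
    rw [prV_top]
    ext y
    constructor
    · rintro ⟨z, hz, rfl⟩
      exact ⟨(topIso j).hom.left.base z, hz, rfl⟩
    · rintro ⟨x, hx, rfl⟩
      obtain ⟨z, rfl⟩ := hsurj x
      exact ⟨z, hx, rfl⟩
  rw [shriekPred_iff_isClosed_image, sectSupp_map, himg]
  exact Iff.rfl

theorem hasProperSupport_iff {S : Scheme.{u}} (pb : Xb ⟶ S) [IsProper pb]
    (s : EtCoh.sect F (EtCoh.top X)) :
    HasProperSupport F (EtCoh.top X) s (j ≫ pb) ↔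
      IsClosed (j.base '' sectSupp F (EtCoh.top X) s) := by
  constructor
  · rintro ⟨Z, hZ, hp⟩
    have h1 := isProperOver_of_comp j pb hp
    have h2 := isProperOver_of_subset _ h1 (isClosed_sectSupp F _ s) hZ
    exact ((isProperOver_iff_of_isOpenImmersion j _).1 h2).2
  · intro h
    refine ⟨_, le_rfl, ?_⟩
    obtain ⟨hcl, hp⟩ := (isProperOver_iff_of_isOpenImmersion j _).2 ⟨isClosed_sectSupp F _ s, h⟩
    refine ⟨hcl, ?_⟩
    have hp' : IsProper (redι _ hcl ≫ j) := hp
    change IsProper (redι _ hcl ≫ j ≫ pb)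
    rw [← Category.assoc]
    infer_instance

theorem nonempty_H0c_equiv {k : Type u} [Field k] (pb : Xb ⟶ Spec (CommRingCat.of k))
    [IsProper pb] :
    Nonempty ((H0c (j ≫ pb) F) ≃+ EtCoh.sect ((extZero j).obj F) (EtCoh.top Xb)) := by
  let eF : EtCoh.sect F (EtCoh.top X) ≃+ EtCoh.sect F ((EtCoh.bc j).obj (EtCoh.top Xb)) :=
    (F.obj.mapIso (topIso j).op).addCommGroupIsoToAddEquiv
  have heF : ∀ s, eF s = F.obj.map (topIso j).hom.op s := fun s => rfl
  have hmap : (H0c (j ≫ pb) F).map eF.toAddMonoidHom = shriekSubgroup j F (EtCoh.top Xb) := by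
    rw [H0c, AddMonoidHom.map_closure, shriekSubgroup]
    congr 1
    ext t
    constructor
    · rintro ⟨s, hs, rfl⟩
      change ShriekPred j F (EtCoh.top Xb) (eF s)
      rw [heF, shriekPred_top_iff]
      exact (hasProperSupport_iff j F pb s).1 hs
    · intro ht
      obtain ⟨s, rfl⟩ := eF.surjective t
      refine ⟨s, ?_, rfl⟩
      change ShriekPred j F (EtCoh.top Xb) (eF s) at ht
      rw [heF, shriekPred_top_iff] at ht
      exact (hasProperSupport_iff j F pb s).2 ht
  let e1 : H0c (j ≫ pb) F ≃+ (H0c (j ≫ pb) F).map eF.toAddMonoidHom :=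
    eF.addSubgroupMap (H0c (j ≫ pb) F)
  let e2 : (H0c (j ≫ pb) F).map eF.toAddMonoidHom ≃+ shriekSubgroup j F (EtCoh.top Xb) :=
    AddEquiv.addSubgroupCongr hmap
  let e3 : EtCoh.sect ((extZero j).obj F) (EtCoh.top Xb) ≃+ shriekSubgroup j F (EtCoh.top Xb) :=
    ((sheafSections _ _).obj (op (EtCoh.top Xb)) |>.mapIso
      ((extZeroIsoShriek j).app F)).addCommGroupIsoToAddEquiv
  exact ⟨(e1.trans e2).trans e3.symm⟩

end H0c

end Groth.Agent.Lib.Seat3.ShriekOpen
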