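import Mathlib
import Groth.Agent.Lib.Helper10WEtaleSch
import Groth.Agent.Lib.Helper14WEField

/-!
# Sections of weakly étale schemes over a separably closed field (seat 3)

* `exists_retraction_of_weaklyEtale`: a nonzero weakly étale algebra over a separably closed field `k`
  has a `k`-algebra retraction onto `k`.
* `exists_section_of_weaklyEtale`: a nonempty scheme weakly étale over `Spec k`, `k` separably closed,
  has a section.
* `exists_lift_of_weaklyEtale`: geometric points lift along weakly étale morphisms to points of the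
  fibre.
-/

set_option autoImplicit false
set_option linter.style.haveILetI false
universe u
open CategoryTheory CategoryTheory.Limits AlgebraicGeometry TopologicalSpace Opposite

namespace Groth.Agent.Lib.Seat3.WEPoint

open Groth.Agent.Lib.Helper14.WEField

/-- A nonzero weakly étale algebra over a separably closed field has a retraction. -/
theorem exists_retraction_of_weaklyEtale (k C : Type u) [Field k] [IsSepClosed k] [CommRing C]
    [Algebra k C] [Nontrivial C] [Algebra.WeaklyEtale k C] :
    ∃ ψ : C →+* k, ψ.comp (algebraMap k C) = RingHom.id k := by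
  classical
  obtain ⟨m, hm⟩ := Ideal.exists_maximal C
  letI : Field (C ⧸ m) := Ideal.Quotient.field m
  have hsepalg : IsSepAlg k (C ⧸ m) :=
    IsSepAlg.of_surjective (exists_separable_aeval_eq_zero k C) (Ideal.Quotient.mkₐ k m)
      Ideal.Quotient.mk_surjective
  haveI : Algebra.IsSeparable k (C ⧸ m) := by
    refine ⟨fun x => ?_⟩
    obtain ⟨f, hf, hx⟩ := hsepalg x
    exact hf.of_dvd (minpoly.dvd k x hx)
  have hbij : Function.Bijective (algebraMap k (C ⧸ m)) := IsSepClosed.algebraMap_bijective k (C ⧸ m)
  let e : k ≃+* (C ⧸ m) := RingEquiv.ofBijective (algebraMap k (C ⧸ m)) hbij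
  refine ⟨e.symm.toRingHom.comp (Ideal.Quotient.mk m), ?_⟩
  ext x
  simp only [RingHom.coe_comp, Function.comp_apply, RingHom.id_apply, RingEquiv.toRingHom_eq_coe,
    RingHom.coe_coe]
  apply e.injective
  rw [RingEquiv.apply_symm_apply]
  rfl

/-- A nonempty scheme weakly étale over the spectrum of a separably closed field has a section. -/
theorem exists_section_of_weaklyEtale {k : Type u} [Field k] [IsSepClosed k] {W : Scheme.{u}}
    (p : W ⟶ Spec (CommRingCat.of k)) [WeaklyEtale p] [Nonempty W] :
    ∃ s : Spec (CommRingCat.of k) ⟶ W, s ≫ p = 𝟙 _ := by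
  obtain ⟨w⟩ := ‹Nonempty W›
  obtain ⟨W', hW', hwW', -⟩ := exists_isAffineOpen_mem_and_subset (X := W) (x := w)
    (U := ⊤) (by trivial)
  -- the affine open as a spectrum
  let C : CommRingCat.{u} := Γ(W, W')
  let q : Spec C ⟶ Spec (CommRingCat.of k) := hW'.fromSpec ≫ p
  haveI : WeaklyEtale q := by
    dsimp only [q]
    infer_instance
  obtain ⟨φ, hφ⟩ : ∃ φ : CommRingCat.of k ⟶ C, Spec.map φ = q := ⟨Spec.preimage q, Spec.map_preimage q⟩
  letI : Algebra k C := φ.hom.toAlgebra
  haveI : Algebra.WeaklyEtale k C := by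
    have h := (Groth.Agent.Lib.Helper10.WEtaleSch.specMap_iff φ).mp (hφ ▸ inferInstance)
    exact h
  haveI : Nontrivial C := by
    have hne : Nonempty (Spec C) := ⟨hW'.isoSpec.hom.base ⟨w, hwW'⟩⟩
    by_contra hC
    rw [not_nontrivial_iff_subsingleton] at hC
    have : IsEmpty (PrimeSpectrum C) := inferInstance
    exact this.elim (hne.some)
  obtain ⟨ψ, hψ⟩ := exists_retraction_of_weaklyEtale k C
  refine ⟨Spec.map (CommRingCat.ofHom ψ) ≫ hW'.fromSpec, ?_⟩
  rw [Category.assoc]
  change Spec.map (CommRingCat.ofHom ψ) ≫ q = _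
  rw [← hφ, ← Spec.map_comp]
  have : φ ≫ CommRingCat.ofHom ψ = 𝟙 _ := by
    ext x
    exact congrArg (fun g : k →+* k => g x) hψ
  rw [this, Spec.map_id]

/-- Geometric points lift along weakly étale morphisms as soon as the image point is hit. -/
theorem exists_lift_of_weaklyEtale {k : Type u} [Field k] [IsSepClosed k] {V U : Scheme.{u}}
    (g : V ⟶ U) [WeaklyEtale g] (ξ : Spec (CommRingCat.of k) ⟶ U) (v : V)
    (hv : g.base v = ξ.base default) :
    ∃ ξ' : Spec (CommRingCat.of k) ⟶ V, ξ' ≫ g = ξ := by
  obtain ⟨z, -, -⟩ := Scheme.Pullback.exists_preimage_pullback (f := g) (g := ξ) v default hv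
  haveI : Nonempty ↥(pullback g ξ) := ⟨z⟩
  obtain ⟨s, hs⟩ := exists_section_of_weaklyEtale (pullback.snd g ξ)
  refine ⟨s ≫ pullback.fst g ξ, ?_⟩
  rw [Category.assoc, pullback.condition, ← Category.assoc, hs, Category.id_comp]

end Groth.Agent.Lib.Seat3.WEPoint
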