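import Mathlib
import Groth.Agent.Lib.Seat3WLoc

/-!
# The ring `Bw π` modulo an ideal of `A` (seat 3)

For `Bw π = S⁻¹ LocallyConstant(T, A)` (see `Seat3WLoc`) and an ideal `I` of `A`:
* `algebraMap_mem_map_of_forall_mem`: an `I`-valued locally constant function lies in `I · Bw π`;
* `evalAt`: evaluation `Bw π → A_{π t}`;
* `comap_map_le`: `A/I → Bw π / I Bw π` is injective if every maximal ideal over `I` is a `π t`;
* `exists_sub_mem_map`: it is surjective if moreover clopen subsets of `T` are cut out by elements
  of `A` idempotent modulo `I`.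
-/

set_option autoImplicit false
universe u
open Topology

namespace Groth.Agent.Lib.Seat3.WLoc

open Groth.Agent.Lib.Seat3.LCSpec

section quot

variable {A : Type u} [CommRing A] {T : Type u} [TopologicalSpace T] (π : T → PrimeSpectrum A)

/-- a locally constant function on a compact space is a finite combination of characteristic
functions of its fibres -/
theorem eq_sum_charFn [CompactSpace T] (g : LocallyConstant T A) :
    g = ∑ v ∈ g.range_finite.toFinset, algebraMap A (LocallyConstant T A) v *
      LocallyConstant.charFn A (g.isLocallyConstant.isClopen_fiber v) := by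
  ext t
  have h1 : (∑ v ∈ g.range_finite.toFinset, algebraMap A (LocallyConstant T A) v *
      LocallyConstant.charFn A (g.isLocallyConstant.isClopen_fiber v)) t =
      ∑ v ∈ g.range_finite.toFinset, (algebraMap A (LocallyConstant T A) v *
      LocallyConstant.charFn A (g.isLocallyConstant.isClopen_fiber v)) t := by
    change LocallyConstant.evalRingHom t _ = _
    rw [map_sum]
    rfl
  rw [h1, Finset.sum_eq_single (g t)]
  · rw [LocallyConstant.mul_apply, const_apply,
      charFn_apply_of_mem _ (show t ∈ {x | g x = g t} from rfl), mul_one]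
  · intro v _ hv
    rw [LocallyConstant.mul_apply,
      charFn_apply_of_notMem _ (show t ∉ {x | g x = v} from fun h => hv h.symm), mul_zero]
  · intro h
    exact absurd (g.range_finite.mem_toFinset.mpr ⟨t, rfl⟩) h

/-- an `I`-valued locally constant function lies in `I · Bw π` -/
theorem algebraMap_mem_map_of_forall_mem [CompactSpace T] (I : Ideal A) (g : LocallyConstant T A)
    (hg : ∀ t, g t ∈ I) :
    algebraMap (LocallyConstant T A) (Bw π) g ∈ I.map (algebraMap A (Bw π)) := by
  rw [eq_sum_charFn g, map_sum]
  refine Ideal.sum_mem _ fun v hv => ?_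
  obtain ⟨t, rfl⟩ := g.range_finite.mem_toFinset.mp hv
  rw [map_mul, ← IsScalarTower.algebraMap_apply A (LocallyConstant T A) (Bw π)]
  exact Ideal.mul_mem_right _ _ (Ideal.mem_map_of_mem _ (hg t))

/-- evaluation at `t`, with values in the local ring at `π t` -/
noncomputable def evalAt (t : T) : Bw π →+* Localization.AtPrime (π t).asIdeal :=
  IsLocalization.lift (M := S π)
    (g := (algebraMap A (Localization.AtPrime (π t).asIdeal)).comp (LocallyConstant.evalRingHom t))
    (by
      rintro ⟨s, hs⟩
      exact IsLocalization.map_units (Localization.AtPrime (π t).asIdeal)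
        (⟨s t, hs t⟩ : (π t).asIdeal.primeCompl))

theorem evalAt_algebraMap (t : T) (a : A) :
    evalAt π t (algebraMap A (Bw π) a) = algebraMap A (Localization.AtPrime (π t).asIdeal) a := by
  rw [IsScalarTower.algebraMap_apply A (LocallyConstant T A) (Bw π)]
  unfold evalAt
  rw [IsLocalization.lift_eq]
  rfl

/-- `A/I → Bw π / I Bw π` is injective, if every maximal ideal over `I` is of the form `π t`. -/
theorem comap_map_le (I : Ideal A)
    (hmax : ∀ m : Ideal A, m.IsMaximal → I ≤ m → ∃ t, (π t).asIdeal = m) :
    (I.map (algebraMap A (Bw π))).comap (algebraMap A (Bw π)) ≤ I := by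
  intro a ha
  rw [Ideal.mem_comap] at ha
  by_contra haI
  have hK : I.colon {a} ≠ ⊤ := by
    intro h
    have h1 : (1 : A) ∈ I.colon {a} := by rw [h]; trivial
    rw [Submodule.mem_colon_singleton, one_smul] at h1
    exact haI h1
  obtain ⟨m, hm, hKm⟩ := Ideal.exists_le_maximal _ hK
  have hIm : I ≤ m := by
    intro i hi
    apply hKm
    rw [Submodule.mem_colon_singleton]
    exact Ideal.mul_mem_right _ _ hi
  obtain ⟨t, ht⟩ := hmax m hm hIm
  have h2 : evalAt π t (algebraMap A (Bw π) a) ∈
      (I.map (algebraMap A (Bw π))).map (evalAt π t) := Ideal.mem_map_of_mem _ ha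
  rw [Ideal.map_map, evalAt_algebraMap] at h2
  have h3 : (evalAt π t).comp (algebraMap A (Bw π)) =
      algebraMap A (Localization.AtPrime (π t).asIdeal) := by
    ext x
    exact evalAt_algebraMap π t x
  rw [h3, IsLocalization.mem_map_algebraMap_iff (π t).asIdeal.primeCompl] at h2
  obtain ⟨⟨⟨i, hi⟩, ⟨u, hu⟩⟩, h4⟩ := h2
  simp only at h4
  rw [← map_mul, IsLocalization.eq_iff_exists (π t).asIdeal.primeCompl] at h4
  obtain ⟨⟨c, hc⟩, h5⟩ := h4
  simp only at h5
  have h6 : c * u ∈ I.colon {a} := by
    rw [Submodule.mem_colon_singleton, smul_eq_mul]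
    have : c * u * a = c * i := by rw [← h5]; ring
    rw [this]
    exact Ideal.mul_mem_left _ _ hi
  have h7 : c * u ∈ (π t).asIdeal := by rw [ht]; exact hKm h6
  rcases (π t).2.mem_or_mem h7 with h | h
  · exact hc h
  · exact hu h

/-- `A/I → Bw π / I Bw π` is surjective, if every maximal ideal over `I` is of the form `π t` and
clopen subsets of `T` are cut out by elements of `A` which are idempotent modulo `I`. -/
theorem exists_sub_mem_map [CompactSpace T] (I : Ideal A)
    (hmax : ∀ m : Ideal A, m.IsMaximal → I ≤ m → ∃ t, (π t).asIdeal = m)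
    (hsep : ∀ U : Set T, IsClopen U → ∃ e : A, e * (1 - e) ∈ I ∧
      (∀ t ∈ U, e ∉ (π t).asIdeal) ∧ ∀ t ∉ U, (1 - e) ∉ (π t).asIdeal)
    (b : Bw π) : ∃ a : A, algebraMap A (Bw π) a - b ∈ I.map (algebraMap A (Bw π)) := by
  let φ := algebraMap A (Bw π)
  let D : Ideal A :=
    { carrier := {r | ∃ a : A, φ a - φ r * b ∈ I.map φ}
      zero_mem' := ⟨0, by simp⟩
      add_mem' := by
        rintro r₁ r₂ ⟨a₁, h₁⟩ ⟨a₂, h₂⟩
        refine ⟨a₁ + a₂, ?_⟩
        have : φ (a₁ + a₂) - φ (r₁ + r₂) * b = (φ a₁ - φ r₁ * b) + (φ a₂ - φ r₂ * b) := by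
          rw [map_add, map_add]; ring
        rw [this]
        exact Ideal.add_mem _ h₁ h₂
      smul_mem' := by
        rintro c r ⟨a, h⟩
        refine ⟨c * a, ?_⟩
        have : φ (c * a) - φ (c • r) * b = φ c * (φ a - φ r * b) := by
          rw [smul_eq_mul, map_mul, map_mul]; ring
        rw [this]
        exact Ideal.mul_mem_left _ _ h }
  have hID : I ≤ D := by
    intro i hi
    refine ⟨0, ?_⟩
    rw [map_zero, zero_sub, neg_mem_iff]
    exact Ideal.mul_mem_right _ _ (Ideal.mem_map_of_mem _ hi)
  by_cases hD : D = ⊤
  · have h1 : (1 : A) ∈ D := by rw [hD]; trivial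
    obtain ⟨a, ha⟩ := h1
    exact ⟨a, by simpa using ha⟩
  · exfalso
    obtain ⟨m, hm, hDm⟩ := Ideal.exists_le_maximal D hD
    obtain ⟨t, ht⟩ := hmax m hm (hID.trans hDm)
    obtain ⟨f, s, rfl⟩ := IsLocalization.exists_mk'_eq (S π) b
    let s' : LocallyConstant T A := s
    let U : Set T := {t' | f t' = f t} ∩ {t' | s' t' = s' t}
    have hU : IsClopen U := (f.isLocallyConstant.isClopen_fiber _).inter
      (s'.isLocallyConstant.isClopen_fiber _)
    obtain ⟨e, heI, heU, heU'⟩ := hsep U hU
    -- the function `g` and the multiplier `s''`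
    let g : LocallyConstant T A := algebraMap A (LocallyConstant T A) e *
      (algebraMap A (LocallyConstant T A) (f t) * s' - algebraMap A (LocallyConstant T A) (s' t) * f)
    let s'' : LocallyConstant T A := LocallyConstant.charFn A hU +
      (1 - LocallyConstant.charFn A hU) * algebraMap A (LocallyConstant T A) (1 - e)
    have hs'' : s'' ∈ S π := by
      intro t'
      by_cases ht' : t' ∈ U
      · have : s'' t' = 1 := by
          simp only [s'', LocallyConstant.add_apply, LocallyConstant.mul_apply,
            LocallyConstant.sub_apply, LocallyConstant.one_apply, const_apply,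
            charFn_apply_of_mem hU ht']
          ring
        rw [this]
        exact fun h => (π t').2.ne_top ((Ideal.eq_top_iff_one _).mpr h)
      · have : s'' t' = 1 - e := by
          simp only [s'', LocallyConstant.add_apply, LocallyConstant.mul_apply,
            LocallyConstant.sub_apply, LocallyConstant.one_apply, const_apply,
            charFn_apply_of_notMem hU ht']
          ring
        rw [this]
        exact heU' t' ht'
    have hgI : ∀ t', (s'' * g) t' ∈ I := by
      intro t'
      by_cases ht' : t' ∈ U
      · have : (s'' * g) t' = 0 := by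
          simp only [s'', g, LocallyConstant.add_apply, LocallyConstant.mul_apply,
            LocallyConstant.sub_apply, LocallyConstant.one_apply, const_apply,
            charFn_apply_of_mem hU ht']
          rw [show f t' = f t from ht'.1, show s' t' = s' t from ht'.2]
          ring
        rw [this]
        exact zero_mem _
      · have : (s'' * g) t' = e * (1 - e) * (f t * s' t' - s' t * f t') := by
          simp only [s'', g, LocallyConstant.add_apply, LocallyConstant.mul_apply,
            LocallyConstant.sub_apply, LocallyConstant.one_apply, const_apply,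
            charFn_apply_of_notMem hU ht']
          ring
        rw [this]
        exact Ideal.mul_mem_right _ _ heI
    have hmem : e * s' t ∈ D := by
      refine ⟨e * f t, ?_⟩
      have h0 : φ (e * f t) - φ (e * s' t) * IsLocalization.mk' (Bw π) f s =
          IsLocalization.mk' (Bw π) (s'' * g) (⟨s'', hs''⟩ * s) := by
        rw [IsLocalization.eq_mk'_iff_mul_eq]
        show (algebraMap A (Bw π) (e * f t) - algebraMap A (Bw π) (e * s' t) *
          IsLocalization.mk' (Bw π) f s) * _ = _
        rw [IsScalarTower.algebraMap_apply A (LocallyConstant T A) (Bw π),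
          IsScalarTower.algebraMap_apply A (LocallyConstant T A) (Bw π)]
        have hspec := IsLocalization.mk'_spec (Bw π) f s
        simp only [Submonoid.coe_mul, map_mul, map_sub, g]
        linear_combination (-(algebraMap (LocallyConstant T A) (Bw π) s'') *
          algebraMap (LocallyConstant T A) (Bw π) (algebraMap A (LocallyConstant T A) e) *
          algebraMap (LocallyConstant T A) (Bw π) (algebraMap A (LocallyConstant T A) (s' t))) *
            hspec
      rw [h0, IsLocalization.mk'_mem_iff]
      exact algebraMap_mem_map_of_forall_mem π I _ hgI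
    have hnot : e * s' t ∉ (π t).asIdeal := by
      intro h
      rcases (π t).2.mem_or_mem h with h | h
      · exact heU t ⟨rfl, rfl⟩ h
      · exact s.2 t h
    rw [ht] at hnot
    exact hnot (hDm hmem)

end quot

end Groth.Agent.Lib.Seat3.WLoc
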