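import Mathlib
import Groth.Agent.Lib.Seat3WLoc
import Groth.Agent.Lib.Seat3WLocal
import Groth.Agent.Lib.Seat3ILRIso
import Groth.Agent.Lib.Helper10Spectral
import Groth.Agent.Lib.Helper10Pi0

/-!
# A ring with w-local spectrum is its own `Bw` along the closed points (seat 3)

For `B` with `Spec B` w-local, let `ClPt B` be the (profinite) space of closed points and
`ι : ClPt B → Spec B` the inclusion. Then `B → Bw ι` is bijective (`bijective_algebraMap_Bw`).
-/

set_option autoImplicit false
universe u
open Topology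

namespace Groth.Agent.Lib.Seat3.WLocSelf

open Groth.Agent.Lib.Seat3.WLoc Groth.Agent.Lib.Seat3.WLocal Groth.Agent.Lib.Seat3.ILRIso
  Groth.Agent.Lib.Helper10.Spectral Groth.Agent.Lib.Helper10.Pi0

/-- the space of closed points of `Spec B` -/
abbrev ClPt (B : Type u) [CommRing B] : Type u :=
  ↥{x : PrimeSpectrum B | IsClosed ({x} : Set (PrimeSpectrum B))}

variable {B : Type u} [CommRing B]

theorem t1Space_clPt : T1Space (ClPt B) := by
  rw [t1Space_iff_specializes_imp_eq]
  intro x y hxy
  rw [subtype_specializes_iff] at hxy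
  exact Subtype.ext ((isClosed_singleton_iff_forall_specializes.mp x.2) y.1 hxy).symm

section

variable (hW : ProEtW.IsWLocal (PrimeSpectrum B))
include hW

theorem compactSpace_clPt : CompactSpace (ClPt B) :=
  isCompact_iff_compactSpace.mp hW.2.1.isCompact

theorem spectralSpace_clPt : SpectralSpace (ClPt B) :=
  spectralSpace_of_isClosed_constr (isClosed_constr_of_isClosed hW.2.1)

theorem totallySeparatedSpace_clPt : TotallySeparatedSpace (ClPt B) := by
  haveI := spectralSpace_clPt hW
  haveI := t1Space_clPt (B := B)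
  exact totallySeparatedSpace_of_t1

/-- the closed specialization of a point -/
noncomputable def cl (y : PrimeSpectrum B) : ClPt B :=
  ⟨(hW.2.2 y).choose, (hW.2.2 y).choose_spec.1.1⟩

theorem specializes_cl (y : PrimeSpectrum B) : y ⤳ (cl hW y).1 :=
  (hW.2.2 y).choose_spec.1.2

theorem cl_eq_of {y z : PrimeSpectrum B} (hz : IsClosed ({z} : Set (PrimeSpectrum B)))
    (hyz : y ⤳ z) : (cl hW y).1 = z :=
  ((hW.2.2 y).choose_spec.2 z ⟨hz, hyz⟩).symm

theorem cl_of_isClosed {y : PrimeSpectrum B} (hy : IsClosed ({y} : Set (PrimeSpectrum B))) :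
    (cl hW y).1 = y :=
  cl_eq_of hW hy specializes_rfl

variable [CompactSpace (ClPt B)] [T2Space (ClPt B)] [TotallyDisconnectedSpace (ClPt B)]

theorem psi_snd_eq_cl (y' : PrimeSpectrum (Bw (Subtype.val : ClPt B → PrimeSpectrum B))) :
    (psi (Subtype.val : ClPt B → PrimeSpectrum B) y').2 =
      cl hW (psi (Subtype.val : ClPt B → PrimeSpectrum B) y').1 := by
  apply Subtype.ext
  symm
  apply cl_eq_of hW (psi (Subtype.val : ClPt B → PrimeSpectrum B) y').2.2
  exact (PrimeSpectrum.le_iff_specializes _ _).mp (psi_le _ continuous_subtype_val y')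

/-- `B → Bw ι` is bijective on spectra -/
theorem bijective_comap_Bw :
    Function.Bijective (PrimeSpectrum.comap
      (algebraMap B (Bw (Subtype.val : ClPt B → PrimeSpectrum B)))) := by
  constructor
  · intro y₁ y₂ h
    rw [← psi_fst, ← psi_fst] at h
    apply (isEmbedding_psi (Subtype.val : ClPt B → PrimeSpectrum B)).injective
    refine Prod.ext h ?_
    rw [psi_snd_eq_cl hW y₁, psi_snd_eq_cl hW y₂, h]
  · intro q
    obtain ⟨y', hy'⟩ := exists_psi_eq (Subtype.val : ClPt B → PrimeSpectrum B)
      continuous_subtype_val (q, cl hW q)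
      ((PrimeSpectrum.le_iff_specializes _ _).mpr (specializes_cl hW q))
    refine ⟨y', ?_⟩
    rw [← psi_fst, hy']

/-- `B → Bw ι` is bijective -/
theorem bijective_algebraMap_Bw :
    Function.Bijective (algebraMap B (Bw (Subtype.val : ClPt B → PrimeSpectrum B))) :=
  bijective_of_identifiesLocalRings_of_comap_bijective
    (identifiesLocalRings _ continuous_subtype_val) (bijective_comap_Bw hW)

end

end Groth.Agent.Lib.Seat3.WLocSelf
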