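import Mathlib
import Groth.Agent.Lib.Seat3WStrict
import Groth.Agent.Lib.Helper3IndEtFlat
import Groth.Agent.S0694
import Groth.Agent.S0693
import Groth.Agent.S0675
import Groth.Agent.S0737
import Groth.Agent.S0734
import Groth.Agent.S0733

set_option autoImplicit false

open TensorProduct

universe u

namespace Groth.Agent.Lib.Seat3.WStrictMain

open Groth.Agent.Lib.Helper3.IndEt Groth.Agent.Lib.Seat3.WStrict

/-- the radical ideal of the closed points of a w-local spectrum -/
theorem exists_ideal_closedPoints (R : Type u) [CommRing R]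
    (hR : ProEtW.IsWLocal (PrimeSpectrum R)) :
    ∃ I : Ideal R, I.IsRadical ∧
      PrimeSpectrum.zeroLocus (R := R) I = ProEtW.closedPoints (PrimeSpectrum R) := by
  refine ⟨PrimeSpectrum.vanishingIdeal (ProEtW.closedPoints (PrimeSpectrum R)),
    PrimeSpectrum.isRadical_vanishingIdeal _, ?_⟩
  rw [PrimeSpectrum.zeroLocus_vanishingIdeal_eq_closure]
  exact hR.2.1.closure_eq

/-- **The C-side**: a faithfully flat ind-étale w-local cover with strictly henselian local rings
at closed points, whose closed points surject onto `Spec A`. -/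
theorem exists_wStrictlyLocal_cover (A : Type u) [CommRing A] :
    ∃ (C : Type u) (_ : CommRing C) (_ : Algebra A C),
      Module.FaithfullyFlat A C ∧ EtPBC.IsIndEtale A C ∧ ProEtW.IsWLocal (PrimeSpectrum C) ∧
      PrimeSpectrum.comap (algebraMap A C) '' ProEtW.closedPoints (PrimeSpectrum C) = Set.univ ∧
      ∀ (m : Ideal C) [m.IsMaximal], EtCoh.IsStrictlyHenselianLocalRing (Localization.AtPrime m) := by
  obtain ⟨A', _, _, hff1, hiz1, hw1, hbij1⟩ := Groth.Agent.S0694.result A
  obtain ⟨I, hIrad, hI0⟩ := exists_ideal_closedPoints A' hw1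
  obtain ⟨C', _, _, hff2, hie2, hret⟩ := Groth.Agent.S0693.result A'
  have hARE := algebraicResidueExtensions_of_isIndEtale hie2
  obtain ⟨hcl', C, _, _, _, _, hiz3, hbij3, hw3, hwm3, hcp3⟩ :=
    Groth.Agent.S0737.result A' C' hw1 I hIrad hI0 hARE
  letI : Algebra A C := ((algebraMap A' C).comp (algebraMap A A')).toAlgebra
  haveI : IsScalarTower A A' C := IsScalarTower.of_algebraMap_eq (fun _ => rfl)
  have hie : EtPBC.IsIndEtale A C :=
    Groth.Agent.S0734.result A A' C (isIndEtale_of_isIndZariski hiz1)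
      (Groth.Agent.S0734.result A' C' C hie2 (isIndEtale_of_isIndZariski hiz3))
  haveI hflat : Module.Flat A C := flat_of_factor' (factor_of_isIndEtale hie)
  -- closed points surject
  have h7 : ∀ p : PrimeSpectrum A, ∃ y ∈ ProEtW.closedPoints (PrimeSpectrum C),
      PrimeSpectrum.comap (algebraMap A C) y = p := by
    intro p
    obtain ⟨z, hz, hzp⟩ := hbij1.surjOn (Set.mem_univ p)
    obtain ⟨q', hq'⟩ := PrimeSpectrum.comap_surjective_of_faithfullyFlat (A := A') (B := C') z
    have hzI : I ≤ z.asIdeal := by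
      rw [← hI0] at hz
      exact hz
    have hq'I : I.map (algebraMap A' C') ≤ q'.asIdeal := by
      rw [Ideal.map_le_iff_le_comap]
      have : (PrimeSpectrum.comap (algebraMap A' C') q').asIdeal = z.asIdeal := by rw [hq']
      rw [← this] at hzI
      exact hzI
    obtain ⟨y, hy⟩ := exists_prime_of_bijective_quotientMap (I.map (algebraMap A' C')) hbij3 q' hq'I
    have hyz : PrimeSpectrum.comap (algebraMap A' C) y = z := by
      rw [IsScalarTower.algebraMap_eq A' C' C, PrimeSpectrum.comap_comp_apply, hy, hq']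
    refine ⟨y, ?_, ?_⟩
    · rw [hcp3]
      show PrimeSpectrum.comap (algebraMap A' C) y ∈ ProEtW.closedPoints (PrimeSpectrum A')
      rw [hyz]
      exact hz
    · rw [IsScalarTower.algebraMap_eq A A' C, PrimeSpectrum.comap_comp_apply, hyz, hzp]
  have hff : Module.FaithfullyFlat A C := by
    apply Module.FaithfullyFlat.of_comap_surjective
    intro p
    obtain ⟨y, -, hy⟩ := h7 p
    exact ⟨y, hy⟩
  refine ⟨C, inferInstance, inferInstance, hff, hie, hw3, ?_, ?_⟩
  · apply Set.eq_univ_of_forall
    intro p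
    obtain ⟨y, hy, hyp⟩ := h7 p
    exact ⟨y, hy, hyp⟩
  · intro m _
    let y : PrimeSpectrum C := ⟨m, inferInstance⟩
    have hy : y ∈ ProEtW.closedPoints (PrimeSpectrum C) :=
      (PrimeSpectrum.isClosed_singleton_iff_isMaximal y).mpr ‹m.IsMaximal›
    rw [hcp3] at hy
    have hz : PrimeSpectrum.comap (algebraMap A' C) y ∈ ProEtW.closedPoints (PrimeSpectrum A') := hy
    rw [← hI0] at hz
    let m' : PrimeSpectrum C' := PrimeSpectrum.comap (algebraMap C' C) y
    have hm'I : m' ∈ PrimeSpectrum.zeroLocus (R := C') (I.map (algebraMap A' C')) := by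
      show ((I.map (algebraMap A' C') : Ideal C') : Set C') ⊆ m'.asIdeal
      rw [SetLike.coe_subset_coe, Ideal.map_le_iff_le_comap]
      have hzI : I ≤ (PrimeSpectrum.comap (algebraMap A' C) y).asIdeal := hz
      rw [IsScalarTower.algebraMap_eq A' C' C, PrimeSpectrum.comap_comp_apply] at hzI
      exact hzI
    have hm'cl := hcl' hm'I
    haveI hm'max : m'.asIdeal.IsMaximal := (PrimeSpectrum.isClosed_singleton_iff_isMaximal m').mp hm'cl
    have hsh := Groth.Agent.S0675.result C' hret m'.asIdeal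
    have hilr := Groth.Agent.Lib.Seat3.IndZarILR.identifiesLocalRings_of_isIndZariski hiz3 y
    exact isStrictlyHenselian_of_ringEquiv (RingEquiv.ofBijective _ hilr) hsh

attribute [local instance] Algebra.TensorProduct.rightAlgebra

set_option maxHeartbeats 1000000 in
/-- **The D-side**. -/
theorem exists_wLocal_square (A B : Type u) [CommRing A] [CommRing B] [Algebra A B]
    (h : ProEtW.AlgebraicResidueExtensions A B) :
    ∃ (C D : Type u) (_ : CommRing C) (_ : CommRing D) (_ : Algebra A C) (_ : Algebra B D)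
      (_ : Algebra C D) (_ : Algebra A D) (_ : IsScalarTower A C D) (_ : IsScalarTower A B D),
      Module.FaithfullyFlat A C ∧ EtPBC.IsIndEtale A C ∧ Module.FaithfullyFlat B D ∧
      EtPBC.IsIndEtale B D ∧ ProEtW.IsWLocal (PrimeSpectrum C) ∧ ProEtW.IsWLocal (PrimeSpectrum D) ∧
      ProEtW.IsWLocalMap (PrimeSpectrum.comap (algebraMap C D)) ∧
      ProEtW.closedPoints (PrimeSpectrum D) =
        PrimeSpectrum.comap (algebraMap C D) ⁻¹' ProEtW.closedPoints (PrimeSpectrum C) ∧
      PrimeSpectrum.comap (algebraMap A C) '' ProEtW.closedPoints (PrimeSpectrum C) = Set.univ ∧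
      PrimeSpectrum.comap (algebraMap B D) '' ProEtW.closedPoints (PrimeSpectrum D) = Set.univ ∧
      ∀ (m : Ideal C) [m.IsMaximal], EtCoh.IsStrictlyHenselianLocalRing (Localization.AtPrime m) := by
  obtain ⟨C, _, _, hffC, hieC, hwC, h7, h9⟩ := exists_wStrictlyLocal_cover A
  have hARE' : ProEtW.AlgebraicResidueExtensions C (B ⊗[A] C) :=
    algebraicResidueExtensions_baseChange h
  obtain ⟨J, hJrad, hJ0⟩ := exists_ideal_closedPoints C hwC
  obtain ⟨hclB', D, _, _, _, _, hizD, hbijD, hwD, hwmD, hcpD⟩ :=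
    Groth.Agent.S0737.result C (B ⊗[A] C) hwC J hJrad hJ0 hARE'
  letI : Algebra B D := ((algebraMap (B ⊗[A] C) D).comp (algebraMap B (B ⊗[A] C))).toAlgebra
  haveI : IsScalarTower B (B ⊗[A] C) D := IsScalarTower.of_algebraMap_eq (fun _ => rfl)
  letI : Algebra A D := ((algebraMap C D).comp (algebraMap A C)).toAlgebra
  haveI t1 : IsScalarTower A C D := IsScalarTower.of_algebraMap_eq (fun _ => rfl)
  haveI t2 : IsScalarTower A B D := IsScalarTower.of_algebraMap_eq (fun a => by
    show algebraMap C D (algebraMap A C a) =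
      algebraMap (B ⊗[A] C) D (algebraMap B (B ⊗[A] C) (algebraMap A B a))
    rw [IsScalarTower.algebraMap_apply C (B ⊗[A] C) D,
      ← IsScalarTower.algebraMap_apply A C (B ⊗[A] C),
      ← IsScalarTower.algebraMap_apply A B (B ⊗[A] C)])
  have hieD : EtPBC.IsIndEtale B D :=
    Groth.Agent.S0734.result B (B ⊗[A] C) D (Groth.Agent.S0733.result A C B hieC)
      (isIndEtale_of_isIndZariski hizD)
  haveI hflatD : Module.Flat B D := flat_of_factor' (factor_of_isIndEtale hieD)
  have h8 : ∀ b : PrimeSpectrum B, ∃ y ∈ ProEtW.closedPoints (PrimeSpectrum D),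
      PrimeSpectrum.comap (algebraMap B D) y = b := by
    intro b
    have hp : PrimeSpectrum.comap (algebraMap A B) b ∈
        PrimeSpectrum.comap (algebraMap A C) '' ProEtW.closedPoints (PrimeSpectrum C) := by
      rw [h7]
      exact Set.mem_univ _
    obtain ⟨c, hc, hcp⟩ := hp
    obtain ⟨Q, hQb, hQc⟩ := exists_prime_tensor b c hcp.symm
    have hQc' : PrimeSpectrum.comap (algebraMap C (B ⊗[A] C)) Q = c := hQc
    have hcJ : J ≤ c.asIdeal := by
      rw [← hJ0] at hc
      exact hc
    have hQJ : J.map (algebraMap C (B ⊗[A] C)) ≤ Q.asIdeal := by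
      rw [Ideal.map_le_iff_le_comap]
      have : (PrimeSpectrum.comap (algebraMap C (B ⊗[A] C)) Q).asIdeal = c.asIdeal := by rw [hQc']
      rw [← this] at hcJ
      exact hcJ
    obtain ⟨y, hy⟩ := exists_prime_of_bijective_quotientMap (J.map (algebraMap C (B ⊗[A] C)))
      hbijD Q hQJ
    refine ⟨y, ?_, ?_⟩
    · rw [hcpD]
      show PrimeSpectrum.comap (algebraMap C D) y ∈ ProEtW.closedPoints (PrimeSpectrum C)
      rw [IsScalarTower.algebraMap_eq C (B ⊗[A] C) D, PrimeSpectrum.comap_comp_apply, hy, hQc']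
      exact hc
    · rw [IsScalarTower.algebraMap_eq B (B ⊗[A] C) D, PrimeSpectrum.comap_comp_apply, hy, hQb]
  have hffD : Module.FaithfullyFlat B D := by
    apply Module.FaithfullyFlat.of_comap_surjective
    intro b
    obtain ⟨y, -, hy⟩ := h8 b
    exact ⟨y, hy⟩
  refine ⟨C, D, inferInstance, inferInstance, inferInstance, inferInstance, inferInstance,
    inferInstance, t1, t2, hffC, hieC, hffD, hieD, hwC, hwD, hwmD, hcpD, h7, ?_, h9⟩
  apply Set.eq_univ_of_forall
  intro b
  obtain ⟨y, hy, hyb⟩ := h8 b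
  exact ⟨y, hy, hyb⟩

end Groth.Agent.Lib.Seat3.WStrictMain
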