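import Mathlib
import Groth.Prelude.Def_RegImm
import Groth.Agent.Lib.Seat40RegSeqFlat
import Groth.Agent.S3824

/-!
# Permanence properties of `H_1`-regular and quasi-regular sequences (Seat 40)

For the kinds `h1` and `quasi` we prove the four properties packaged in `KindAx`:
* `flat`: flat base change (from `Seat40RegSeqFlat`);
* `span_eq`: independence of the choice of generators (same length, same ideal):
  `h1_span_eq` (adjugate argument), quasi: `S3824`;
* `descent`: faithfully flat descent: `h1_descent`, `quasi_descent`;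
* `quot`: passing to the quotient by a member of the sequence: `h1_quot`, `quasi_quot`.
-/

set_option autoImplicit false
set_option linter.style.haveILetI false
universe u

namespace Groth.Agent.Lib.Seat40.KindAx

open Matrix MvPolynomial
open scoped TensorProduct

section H1

variable {A : Type u} [CommRing A] {n : ℕ}

/-- the submodule of trivial (Koszul) relations -/
def triv (g : Fin n → A) : Submodule A (Fin n → A) :=
  Submodule.span A {v | ∃ i j : Fin n, v = Pi.single i (g j) - Pi.single j (g i)}

lemma isH1Regular_iff (g : Fin n → A) :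
    CAlgX.IsH1Regular g ↔ ∀ a : Fin n → A, a ⬝ᵥ g = 0 → a ∈ triv g := by
  rfl

/-- the alternating bilinear expression whose values are trivial relations -/
def tau (g u v : Fin n → A) : Fin n → A := (v ⬝ᵥ g) • u - (u ⬝ᵥ g) • v

lemma tau_mem (g u v : Fin n → A) : tau g u v ∈ triv g := by
  classical
  have h : tau g u v = ∑ i, ∑ j, (u i * v j) • (Pi.single i (g j) - Pi.single j (g i)) := by
    funext k
    simp only [tau, Pi.sub_apply, Pi.smul_apply, smul_eq_mul, Finset.sum_apply, dotProduct,
      Pi.single_apply, mul_sub, Finset.sum_sub_distrib, mul_ite, mul_zero]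
    congr 1
    · rw [Finset.sum_mul]
      rw [Finset.sum_comm]
      refine Finset.sum_congr rfl fun j _ => ?_
      rw [Finset.sum_ite_eq Finset.univ k]
      simp only [Finset.mem_univ, if_true]
      ring
    · rw [Finset.sum_mul]
      refine Finset.sum_congr rfl fun i _ => ?_
      rw [Finset.sum_ite_eq Finset.univ k]
      simp only [Finset.mem_univ, if_true]
      ring
  rw [h]
  refine Submodule.sum_mem _ fun i _ => Submodule.sum_mem _ fun j _ => ?_
  exact Submodule.smul_mem _ _ (Submodule.subset_span ⟨i, j, rfl⟩)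

lemma smul_mem_triv_of_rel (g a : Fin n → A) (ha : a ⬝ᵥ g = 0) (x : A)
    (hx : x ∈ Ideal.span (Set.range g)) : x • a ∈ triv g := by
  classical
  obtain ⟨c, rfl⟩ := Ideal.mem_span_range_iff_exists_fun.1 hx
  rw [Finset.sum_smul]
  refine Submodule.sum_mem _ fun j _ => ?_
  rw [mul_smul]
  refine Submodule.smul_mem _ _ ?_
  have : g j • a = tau g a (Pi.single j 1) := by
    simp [tau, ha]
  rw [this]
  exact tau_mem _ _ _

lemma entry_mem_of_mem_triv (g v : Fin n → A) (hv : v ∈ triv g) (k : Fin n) :
    v k ∈ Ideal.span (Set.range g) := by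
  classical
  refine Submodule.span_induction (p := fun v _ => v k ∈ Ideal.span (Set.range g)) ?_ ?_ ?_ ?_ hv
  · rintro _ ⟨i, j, rfl⟩
    simp only [Pi.sub_apply, Pi.single_apply]
    refine Ideal.sub_mem _ ?_ ?_ <;> split_ifs <;>
      first | exact Ideal.subset_span ⟨_, rfl⟩ | exact zero_mem _
  · simp
  · intro x y _ _ hx hy
    exact Ideal.add_mem _ hx hy
  · intro c x _ hx
    exact Ideal.mul_mem_left _ _ hx

lemma tau_vecMul (X : Matrix (Fin n) (Fin n) A) (g u v : Fin n → A) :
    (tau (X *ᵥ g) u v) ᵥ* X = tau g (u ᵥ* X) (v ᵥ* X) := by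
  simp only [tau, Matrix.sub_vecMul, Matrix.smul_vecMul, Matrix.dotProduct_mulVec]

lemma vecMul_mem_triv (X : Matrix (Fin n) (Fin n) A) (g w : Fin n → A)
    (hw : w ∈ triv (X *ᵥ g)) : w ᵥ* X ∈ triv g := by
  classical
  refine Submodule.span_induction (p := fun w _ => w ᵥ* X ∈ triv g) ?_ ?_ ?_ ?_ hw
  · rintro _ ⟨i, j, rfl⟩
    have : (Pi.single i ((X *ᵥ g) j) - Pi.single j ((X *ᵥ g) i) : Fin n → A) =
        tau (X *ᵥ g) (Pi.single i 1) (Pi.single j 1) := by
      funext k
      simp [tau, Pi.single_apply]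
    rw [this, tau_vecMul]
    exact tau_mem _ _ _
  · simp
  · intro x y _ _ hx hy
    rw [Matrix.add_vecMul]
    exact Submodule.add_mem _ hx hy
  · intro c x _ hx
    rw [Matrix.smul_vecMul]
    exact Submodule.smul_mem _ _ hx

lemma smul_mem_triv_smul (g w : Fin n → A) (d : A) (hw : w ∈ triv g) : d • w ∈ triv (d • g) := by
  classical
  refine Submodule.span_induction (p := fun w _ => d • w ∈ triv (d • g)) ?_ ?_ ?_ ?_ hw
  · rintro _ ⟨i, j, rfl⟩
    refine Submodule.subset_span ⟨i, j, ?_⟩
    funext k
    simp [Pi.single_apply, mul_sub]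
  · simp
  · intro x y _ _ hx hy
    rw [smul_add]
    exact Submodule.add_mem _ hx hy
  · intro c x _ hx
    rw [smul_comm]
    exact Submodule.smul_mem _ _ hx

/-- **Independence of generators for `H_1`-regular sequences.** -/
theorem h1_span_eq (f f' : Fin n → A) (hf : CAlgX.IsH1Regular f)
    (h : Ideal.span (Set.range f') = Ideal.span (Set.range f)) : CAlgX.IsH1Regular f' := by
  classical
  rw [isH1Regular_iff] at hf ⊢
  have h1 : ∀ i, ∃ c : Fin n → A, ∑ j, c j * f j = f' i := fun i =>
    Ideal.mem_span_range_iff_exists_fun.mp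
      (h ▸ Ideal.subset_span ⟨i, rfl⟩ : f' i ∈ Ideal.span (Set.range f))
  have h2 : ∀ i, ∃ c : Fin n → A, ∑ j, c j * f' j = f i := fun i =>
    Ideal.mem_span_range_iff_exists_fun.mp
      (h.symm ▸ Ideal.subset_span ⟨i, rfl⟩ : f i ∈ Ideal.span (Set.range f'))
  choose M0 hM0 using h1
  choose N0 hN0 using h2
  let M : Matrix (Fin n) (Fin n) A := Matrix.of M0
  let N : Matrix (Fin n) (Fin n) A := Matrix.of N0
  have hM : M *ᵥ f = f' := by
    funext i
    simp only [Matrix.mulVec, dotProduct, M, Matrix.of_apply]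
    exact hM0 i
  have hN : N *ᵥ f' = f := by
    funext i
    simp only [Matrix.mulVec, dotProduct, N, Matrix.of_apply]
    exact hN0 i
  -- entries of `1 - N * M` lie in `J`
  have hent : ∀ i k, (1 - N * M) i k ∈ Ideal.span (Set.range f) := by
    intro i k
    have hrel : (fun k => (1 - N * M) i k) ⬝ᵥ f = 0 := by
      have : ((1 - N * M) *ᵥ f) i = 0 := by
        rw [Matrix.sub_mulVec, Matrix.one_mulVec, ← Matrix.mulVec_mulVec, hM, hN]
        simp
      exact this
    exact entry_mem_of_mem_triv f _ (hf _ hrel) k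
  set mk := Ideal.Quotient.mk (Ideal.span (Set.range f)) with hmk
  have hNM : (N * M).map mk = 1 := by
    ext i k
    have := hent i k
    rw [← Ideal.Quotient.eq_zero_iff_mem, ← hmk, Matrix.sub_apply, map_sub, sub_eq_zero] at this
    rw [Matrix.map_apply, ← this, Matrix.one_apply, Matrix.one_apply]
    split_ifs <;> simp
  set δ := (M * N).det with hδ
  have hδ1 : δ - 1 ∈ Ideal.span (Set.range f) := by
    rw [← Ideal.Quotient.eq_zero_iff_mem, ← hmk, map_sub, map_one, sub_eq_zero, hδ,
      Matrix.det_mul, mul_comm, ← Matrix.det_mul, RingHom.map_det, RingHom.mapMatrix_apply, hNM,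
      Matrix.det_one]
  have hMNf' : (M * N) *ᵥ f' = f' := by
    rw [← Matrix.mulVec_mulVec, hN, hM]
  intro a' ha'
  -- step 3
  have h3 : (a' ᵥ* M) ᵥ* N ∈ triv f' := by
    apply vecMul_mem_triv
    rw [hN]
    apply hf
    rw [← Matrix.dotProduct_mulVec, hM]
    exact ha'
  rw [Matrix.vecMul_vecMul] at h3
  -- step 4
  set X := (M * N).adjugate with hX
  have hXf' : X *ᵥ f' = δ • f' := by
    conv_lhs => rw [← hMNf']
    rw [Matrix.mulVec_mulVec, hX, Matrix.adjugate_mul, Matrix.smul_mulVec, Matrix.one_mulVec]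
  have h4 : (δ • (a' ᵥ* (M * N))) ᵥ* X ∈ triv f' := by
    apply vecMul_mem_triv
    rw [hXf']
    exact smul_mem_triv_smul _ _ _ h3
  have h4' : (δ • (a' ᵥ* (M * N))) ᵥ* X = (δ * δ) • a' := by
    rw [Matrix.smul_vecMul, Matrix.vecMul_vecMul, hX, Matrix.mul_adjugate, Matrix.vecMul_smul,
      Matrix.vecMul_one, smul_smul]
  rw [h4'] at h4
  -- step 5
  have h5 : (δ * δ - 1) • a' ∈ triv f' := by
    apply smul_mem_triv_of_rel _ _ ha'
    rw [h]
    have : δ * δ - 1 = (δ - 1) * (δ + 1) := by ring
    rw [this]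
    exact Ideal.mul_mem_right _ _ hδ1
  have : a' = (δ * δ) • a' - (δ * δ - 1) • a' := by
    rw [sub_smul, one_smul]
    abel
  rw [this]
  exact Submodule.sub_mem _ h4 h5

end H1

section Desc

variable {S T : Type u} [CommRing S] [CommRing T] (φ : S →+* T)

/-- `H_1`-regularity descends along faithfully flat (even pure) ring maps. -/
theorem h1_descent (hφ : φ.FaithfullyFlat) {c : ℕ} (f : Fin c → S)
    (h : CAlgX.IsH1Regular (fun i => φ (f i))) : CAlgX.IsH1Regular f := by
  classical
  letI : Algebra S T := φ.toAlgebra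
  haveI : Module.FaithfullyFlat S T := hφ
  rw [isH1Regular_iff] at h ⊢
  intro a ha
  let M := (Fin c → S) ⧸ triv f
  let q : (Fin c → S) →ₗ[S] M := (triv f).mkQ
  let m : Fin c → M := fun i => q (Pi.single i 1)
  let Ψ : (Fin c → T) →ₗ[T] T ⊗[S] M := Fintype.linearCombination T (fun i => (1 : T) ⊗ₜ[S] m i)
  have hΨ : ∀ v : Fin c → T, Ψ v = ∑ i, v i ⊗ₜ[S] m i := by
    intro v
    simp only [Ψ, Fintype.linearCombination_apply, TensorProduct.smul_tmul', smul_eq_mul, mul_one]
  have hkill : ∀ v ∈ triv (fun i => φ (f i)), Ψ v = 0 := by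
    intro v hv
    refine Submodule.span_induction (p := fun v _ => Ψ v = 0) ?_ ?_ ?_ ?_ hv
    · rintro _ ⟨i, j, rfl⟩
      rw [map_sub, hΨ, hΨ]
      simp only [Pi.single_apply, TensorProduct.ite_tmul, TensorProduct.zero_tmul]
      rw [Finset.sum_ite_eq' Finset.univ i, Finset.sum_ite_eq' Finset.univ j]
      simp only [Finset.mem_univ, if_true]
      have e1 : φ (f j) ⊗ₜ[S] m i = (1 : T) ⊗ₜ[S] (f j • m i) := by
        rw [TensorProduct.tmul_smul, TensorProduct.smul_tmul', Algebra.smul_def, mul_one]
        rfl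
      have e2 : φ (f i) ⊗ₜ[S] m j = (1 : T) ⊗ₜ[S] (f i • m j) := by
        rw [TensorProduct.tmul_smul, TensorProduct.smul_tmul', Algebra.smul_def, mul_one]
        rfl
      rw [e1, e2, ← TensorProduct.tmul_sub]
      have : f j • m i - f i • m j = 0 := by
        simp only [m, ← map_smul, ← map_sub]
        rw [Submodule.mkQ_apply, Submodule.Quotient.mk_eq_zero]
        refine Submodule.subset_span ⟨i, j, ?_⟩
        funext k
        simp [Pi.single_apply]
      rw [this, TensorProduct.tmul_zero]
    · exact map_zero _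
    · intro x y _ _ hx hy
      rw [map_add, hx, hy, add_zero]
    · intro t x _ hx
      rw [map_smul, hx, smul_zero]
  have hrel : (fun i => φ (a i)) ⬝ᵥ (fun i => φ (f i)) = 0 := by
    have : (fun i => φ (a i)) ⬝ᵥ (fun i => φ (f i)) = φ (a ⬝ᵥ f) := by
      simp [dotProduct, map_sum, map_mul]
    rw [this, ha, map_zero]
  have h0 := hkill _ (h _ hrel)
  rw [hΨ] at h0
  have h1 : ∑ i, φ (a i) ⊗ₜ[S] m i = (1 : T) ⊗ₜ[S] (q a) := by
    have ha' : a = ∑ i, a i • (Pi.single i 1 : Fin c → S) := by
      funext k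
      simp [Pi.single_apply]
    conv_rhs => rw [ha']
    rw [map_sum, TensorProduct.tmul_sum]
    refine Finset.sum_congr rfl fun i _ => ?_
    rw [map_smul, TensorProduct.tmul_smul, TensorProduct.smul_tmul',
      Algebra.smul_def, mul_one]
    rfl
  rw [h1] at h0
  have hinj := Module.FaithfullyFlat.tensorProduct_mk_injective (A := S) (B := T) M
  have h2 : q a = 0 := by
    apply hinj
    rw [map_zero]
    exact h0
  exact (Submodule.Quotient.mk_eq_zero _).1 h2

/-- quasi-regularity descends along faithfully flat ring maps. -/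
theorem quasi_descent (hφ : φ.FaithfullyFlat) {c : ℕ} (f : Fin c → S)
    (h : CAlgX.IsQuasiRegular (fun i => φ (f i))) : CAlgX.IsQuasiRegular f := by
  classical
  letI : Algebra S T := φ.toAlgebra
  haveI : Module.FaithfullyFlat S T := hφ
  intro n P hP hmem d
  have hspan : Ideal.span (Set.range fun i => φ (f i)) = (Ideal.span (Set.range f)).map φ := by
    rw [Ideal.map_span, ← Set.range_comp]
    rfl
  have hev : MvPolynomial.eval₂ φ (fun i => φ (f i)) P = φ (MvPolynomial.eval f P) := by
    have := MvPolynomial.eval₂_comp_left φ (RingHom.id S) f P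
    rw [RingHom.comp_id] at this
    exact this.symm
  have h1 := h n (MvPolynomial.map φ P) (hP.map φ) (by
    rw [MvPolynomial.eval_map, hev, hspan, ← Ideal.map_pow]
    exact Ideal.mem_map_of_mem _ hmem) d
  rw [MvPolynomial.coeff_map, hspan] at h1
  have h2 : P.coeff d ∈ ((Ideal.span (Set.range f)).map φ).comap φ := h1
  rwa [show φ = algebraMap S T from rfl, Ideal.comap_map_eq_self_of_faithfullyFlat] at h2

end Desc

section Quot

variable {S R' : Type u} [CommRing S] [CommRing R'] (φ : S →+* R')

/-- `H_1`-regularity passes to the quotient by the first element. -/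
theorem h1_quot (hφ : Function.Surjective φ) {c : ℕ} (l : Fin c → S) (t : S)
    (hker : RingHom.ker φ = Ideal.span {t})
    (h : CAlgX.IsH1Regular (Fin.cons t l : Fin (c + 1) → S)) :
    CAlgX.IsH1Regular (fun i => φ (l i)) := by
  classical
  rw [isH1Regular_iff] at h ⊢
  have hφt : φ t = 0 := by
    rw [← RingHom.mem_ker, hker]
    exact Ideal.subset_span rfl
  intro a ha
  choose a' ha' using fun i => hφ (a i)
  have h1 : ∑ i, a' i * l i ∈ RingHom.ker φ := by
    rw [RingHom.mem_ker, map_sum]
    simp only [map_mul, ha']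
    exact ha
  rw [hker, Ideal.mem_span_singleton'] at h1
  obtain ⟨s, hs⟩ := h1
  set b : Fin (c + 1) → S := Fin.cons (-s) a' with hb
  have hrel : b ⬝ᵥ (Fin.cons t l : Fin (c + 1) → S) = 0 := by
    simp only [dotProduct, Fin.sum_univ_succ, hb, Fin.cons_zero, Fin.cons_succ]
    rw [← hs]
    ring
  have key : ∀ v ∈ triv (Fin.cons t l : Fin (c + 1) → S),
      (fun k : Fin c => φ (v k.succ)) ∈ triv (fun i => φ (l i)) := by
    intro v hv
    refine Submodule.span_induction
      (p := fun v _ => (fun k : Fin c => φ (v k.succ)) ∈ triv (fun i => φ (l i))) ?_ ?_ ?_ ?_ hv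
    · rintro _ ⟨i, j, rfl⟩
      induction i using Fin.cases with
      | zero =>
        induction j using Fin.cases with
        | zero =>
          convert Submodule.zero_mem _ using 1
          funext k
          simp
        | succ j' =>
          convert Submodule.zero_mem _ using 1
          funext k
          simp [Pi.single_apply, Fin.succ_ne_zero, hφt, apply_ite φ]
      | succ i' =>
        induction j using Fin.cases with
        | zero =>
          convert Submodule.zero_mem _ using 1
          funext k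
          simp [Pi.single_apply, Fin.succ_ne_zero, hφt, apply_ite φ]
        | succ j' =>
          refine Submodule.subset_span ⟨i', j', ?_⟩
          funext k
          simp only [Pi.sub_apply, Pi.single_apply, Fin.cons_succ, Fin.succ_inj, map_sub]
          congr 1 <;> split_ifs <;> simp
    · convert Submodule.zero_mem _ using 1
      funext k
      simp
    · intro x y _ _ hx hy
      convert Submodule.add_mem _ hx hy using 1
      funext k
      simp
    · intro r x _ hx
      convert Submodule.smul_mem _ (φ r) hx using 1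
      funext k
      simp
  have := key b (h b hrel)
  convert this using 1
  funext k
  simp [hb, ha']

end Quot

section QQuot

variable {S R' : Type u} [CommRing S] [CommRing R']

/-- the value of a monomial of degree `j` lies in `J ^ j` -/
lemma eval_mem_pow_of_coeff_mem {σ : Type*} [Fintype σ] (f : σ → S) (j : ℕ) (Q : MvPolynomial σ S)
    (hQ : Q.IsHomogeneous j) (hco : ∀ d, Q.coeff d ∈ Ideal.span (Set.range f)) :
    eval f Q ∈ Ideal.span (Set.range f) ^ (j + 1) := by
  classical
  rw [eval_eq', pow_succ']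
  refine Ideal.sum_mem _ fun d hd => ?_
  refine Ideal.mul_mem_mul (hco d) ?_
  rw [Ideal.mem_span_pow_iff_exists_isHomogeneous]
  refine ⟨monomial d 1, ?_, ?_⟩
  · have := isHomogeneous_monomial (R := S) (1 : S) (d := d) (n := j)
      (hQ.degree_eq_sum_deg_support hd ▸ rfl)
    exact this
  · rw [eval_monomial, one_mul]
    rw [Finsupp.prod_fintype]
    simp

/-- colon property of a quasi-regular sequence with respect to one of its members -/
lemma mem_pow_of_mul_mem {c : ℕ} (f : Fin (c + 1) → S) (h : CAlgX.IsQuasiRegular f) :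
    ∀ (j : ℕ) (s : S), f 0 * s ∈ Ideal.span (Set.range f) ^ (j + 1) →
      s ∈ Ideal.span (Set.range f) ^ j := by
  classical
  intro j
  induction j with
  | zero =>
    intro s _
    rw [pow_zero, Ideal.one_eq_top]
    trivial
  | succ j ih =>
    intro s hs
    have hs' : f 0 * s ∈ Ideal.span (Set.range f) ^ (j + 1) :=
      Ideal.pow_le_pow_right (Nat.le_succ _) hs
    obtain ⟨Q, hQ, hQs⟩ := (Ideal.mem_span_pow_iff_exists_isHomogeneous f s).1 (ih s hs')
    have hXQ : (X 0 * Q).IsHomogeneous (j + 1) := by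
      have := (isHomogeneous_X S (0 : Fin (c + 1))).mul hQ
      convert this using 1
      ring
    have hco := h (j + 1) (X 0 * Q) hXQ (by
      rw [map_mul, eval_X, hQs]
      exact hs)
    have hcoQ : ∀ d, Q.coeff d ∈ Ideal.span (Set.range f) := by
      intro d
      have := hco (Finsupp.single 0 1 + d)
      rwa [coeff_X_mul] at this
    rw [← hQs]
    exact eval_mem_pow_of_coeff_mem f j Q hQ hcoQ

lemma span_range_cons_zero {c : ℕ} (g : Fin c → R') :
    Ideal.span (Set.range (Fin.cons 0 g : Fin (c + 1) → R')) = Ideal.span (Set.range g) := by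
  rw [Fin.range_cons, Ideal.span_insert_zero]

/-- quasi-regularity passes to the quotient by the first element. -/
theorem quasi_quot (φ : S →+* R') (hφ : Function.Surjective φ) {c : ℕ} (l : Fin c → S) (t : S)
    (hker : RingHom.ker φ = Ideal.span {t})
    (h : CAlgX.IsQuasiRegular (Fin.cons t l : Fin (c + 1) → S)) :
    CAlgX.IsQuasiRegular (fun i => φ (l i)) := by
  classical
  set f : Fin (c + 1) → S := Fin.cons t l with hf
  set J := Ideal.span (Set.range f) with hJ
  have hφt : φ t = 0 := by
    rw [← RingHom.mem_ker, hker]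
    exact Ideal.subset_span rfl
  have htJ : t ∈ J := Ideal.subset_span ⟨0, by simp [hf]⟩
  have hJmap : J.map φ = Ideal.span (Set.range fun i => φ (l i)) := by
    rw [hJ, Ideal.map_span, ← Set.range_comp]
    have : φ ∘ f = Fin.cons 0 (fun i => φ (l i)) := by
      funext i
      induction i using Fin.cases with
      | zero => simp [hf, hφt]
      | succ i => simp [hf]
    rw [this, span_range_cons_zero]
  intro n Pbar hPbar hmem d
  -- lift the polynomial
  let P : MvPolynomial (Fin c) S :=
    ∑ m ∈ Pbar.support, monomial m (Function.surjInv hφ (Pbar.coeff m))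
  have hPhom : P.IsHomogeneous n := by
    refine IsHomogeneous.sum _ _ _ fun m hm => ?_
    exact isHomogeneous_monomial _ (hPbar.degree_eq_sum_deg_support hm ▸ rfl)
  have hPmap : map φ P = Pbar := by
    simp only [P, map_sum, map_monomial, Function.surjInv_eq hφ]
    exact Pbar.support_sum_monomial_coeff
  set P' : MvPolynomial (Fin (c + 1)) S := rename Fin.succ P with hP'
  have hP'hom : P'.IsHomogeneous n := hPhom.rename_isHomogeneous
  have hP'ev : eval f P' = eval l P := by
    rw [hP', eval_rename]
    congr 1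
  have hP'co : ∀ m : Fin c →₀ ℕ, P'.coeff (m.mapDomain Fin.succ) = P.coeff m := fun m =>
    coeff_rename_mapDomain Fin.succ (Fin.succ_injective c) P m
  -- it suffices to show that the coefficients of `P` lie in `J`
  suffices hsuff : ∀ m, P.coeff m ∈ J by
    rw [← hJmap, ← hPmap, coeff_map]
    exact Ideal.mem_map_of_mem _ (hsuff d)
  have hev : φ (eval l P) = eval (fun i => φ (l i)) Pbar := by
    rw [← hPmap, eval_map]
    have := eval₂_comp_left φ (RingHom.id S) l P
    rw [RingHom.comp_id] at this
    exact this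
  have hmem' : φ (eval l P) ∈ (J ^ (n + 1)).map φ := by
    rw [Ideal.map_pow, hJmap, hev]
    exact hmem
  obtain ⟨q₀, hq₀, hq₀e⟩ := (Ideal.mem_map_iff_of_surjective φ hφ).1 hmem'
  have hk : eval l P - q₀ ∈ RingHom.ker φ := by
    rw [RingHom.mem_ker, map_sub, hq₀e, sub_self]
  rw [hker, Ideal.mem_span_singleton'] at hk
  obtain ⟨s, hs⟩ := hk
  have hf0 : f 0 = t := by simp [hf]
  cases n with
  | zero =>
    have h0 : eval f P' ∈ J ^ (0 + 1) := by
      rw [hP'ev, zero_add, pow_one]
      have : eval l P = s * t + q₀ := by rw [hs]; ring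
      rw [this]
      refine Ideal.add_mem _ (Ideal.mul_mem_left _ _ htJ) ?_
      simpa using hq₀
    intro m
    rw [← hP'co]
    exact h 0 P' hP'hom h0 _
  | succ j =>
    have hts : f 0 * s ∈ J ^ (j + 1) := by
      rw [hf0, mul_comm, hs]
      refine Ideal.sub_mem _ ?_ (Ideal.pow_le_pow_right (Nat.le_succ _) hq₀)
      rw [← hP'ev]
      exact (Ideal.mem_span_pow_iff_exists_isHomogeneous f _).2 ⟨P', hP'hom, rfl⟩
    obtain ⟨Q, hQ, hQs⟩ := (Ideal.mem_span_pow_iff_exists_isHomogeneous f s).1
      (mem_pow_of_mul_mem f h j s hts)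
    have hXQ : (X 0 * Q).IsHomogeneous (j + 1) := by
      have := (isHomogeneous_X S (0 : Fin (c + 1))).mul hQ
      convert this using 1
      ring
    have hP'' : (P' - X 0 * Q).IsHomogeneous (j + 1) := hP'hom.sub hXQ
    have hev'' : eval f (P' - X 0 * Q) ∈ J ^ (j + 1 + 1) := by
      rw [map_sub, map_mul, eval_X, hQs, hP'ev, hf0, mul_comm, hs]
      simpa using hq₀
    have hco := h (j + 1) _ hP'' hev''
    intro m
    have := hco (m.mapDomain Fin.succ)
    rw [coeff_sub, hP'co, coeff_X_mul', if_neg, sub_zero] at this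
    · exact this
    · intro hmem0
      have := Finsupp.mapDomain_support hmem0
      rw [Finset.mem_image] at this
      obtain ⟨i, _, hi⟩ := this
      exact Fin.succ_ne_zero i hi

end QQuot

section Lists

variable {R : Type u} [CommRing R]

lemma span_range_get (l : List R) : Ideal.span (Set.range l.get) = Ideal.span {x | x ∈ l} := by
  rw [Set.range_list_get]

lemma span_range_get_cast {l l' : List R} (hlen : l'.length = l.length) :
    Ideal.span (Set.range fun i : Fin l.length => l'.get (Fin.cast hlen.symm i)) =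
      Ideal.span {x | x ∈ l'} := by
  rw [← span_range_get]
  congr 1
  have : (fun i : Fin l.length => l'.get (Fin.cast hlen.symm i)) = l'.get ∘ Fin.cast hlen.symm :=
    rfl
  rw [this, Function.Surjective.range_comp]
  intro i
  exact ⟨Fin.cast hlen i, by simp⟩

lemma span_eq_of_forall (l l' : List R) (h1 : ∀ y ∈ l', y ∈ Ideal.span {a | a ∈ l})
    (h2 : ∀ x ∈ l, x ∈ Ideal.span {a | a ∈ l'}) :
    Ideal.span {x | x ∈ l'} = Ideal.span {x | x ∈ l} :=
  le_antisymm (Ideal.span_le.2 h1) (Ideal.span_le.2 h2)

theorem h1_span_eq_list (l l' : List R) (hl : CAlgX.IsH1Regular l.get)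
    (hlen : l'.length = l.length) (h1 : ∀ y ∈ l', y ∈ Ideal.span {a | a ∈ l})
    (h2 : ∀ x ∈ l, x ∈ Ideal.span {a | a ∈ l'}) : CAlgX.IsH1Regular l'.get := by
  have := h1_span_eq l.get (fun i : Fin l.length => l'.get (Fin.cast hlen.symm i)) hl (by
    rw [span_range_get_cast hlen, span_range_get, span_eq_of_forall l l' h1 h2])
  exact Groth.Agent.Lib.Seat40.RegSeqFlat.h1_congr hlen.symm _ _ (fun i => rfl) this

theorem quasi_span_eq_list (l l' : List R) (hl : CAlgX.IsQuasiRegular l.get)
    (hlen : l'.length = l.length) (h1 : ∀ y ∈ l', y ∈ Ideal.span {a | a ∈ l})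
    (h2 : ∀ x ∈ l, x ∈ Ideal.span {a | a ∈ l'}) : CAlgX.IsQuasiRegular l'.get := by
  have := Groth.Agent.S3824.result l.get (fun i : Fin l.length => l'.get (Fin.cast hlen.symm i))
    hl (by rw [span_range_get_cast hlen, span_range_get, span_eq_of_forall l l' h1 h2])
  exact Groth.Agent.Lib.Seat40.RegSeqFlat.quasi_congr hlen.symm _ _ (fun i => rfl) this

lemma get_cons_eq (t : R) (q : List R) :
    (t :: q).get = (Fin.cons t q.get : Fin (q.length + 1) → R) := by
  funext i
  induction i using Fin.cases with
  | zero => rfl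
  | succ j => rfl

end Lists

section ListMaps

variable {S T : Type u} [CommRing S] [CommRing T] (φ : S →+* T)

lemma get_map_cast' (rs : List S) (i : Fin (rs.map φ).length) :
    φ (rs.get (Fin.cast (List.length_map (as := rs) φ) i)) = (rs.map φ).get i := by
  simp

theorem h1_descent_list (hφ : φ.FaithfullyFlat) (l : List S)
    (h : CAlgX.IsH1Regular (l.map φ).get) : CAlgX.IsH1Regular l.get := by
  apply h1_descent φ hφ
  exact Groth.Agent.Lib.Seat40.RegSeqFlat.h1_congr (List.length_map (as := l) φ) _ _
    (get_map_cast' φ l) h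

theorem quasi_descent_list (hφ : φ.FaithfullyFlat) (l : List S)
    (h : CAlgX.IsQuasiRegular (l.map φ).get) : CAlgX.IsQuasiRegular l.get := by
  apply quasi_descent φ hφ
  exact Groth.Agent.Lib.Seat40.RegSeqFlat.quasi_congr (List.length_map (as := l) φ) _ _
    (get_map_cast' φ l) h

lemma mem_span_cons_of_mem_append (t : S) (q : List S) :
    ∀ y ∈ t :: q, y ∈ Ideal.span {a | a ∈ q ++ [t]} := fun y hy =>
  Ideal.subset_span (by
    rw [List.mem_cons] at hy
    simp only [Set.mem_setOf_eq, List.mem_append, List.mem_singleton]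
    tauto)

lemma mem_span_append_of_mem_cons (t : S) (q : List S) :
    ∀ x ∈ q ++ [t], x ∈ Ideal.span {a | a ∈ t :: q} := fun y hy =>
  Ideal.subset_span (by
    rw [List.mem_append, List.mem_singleton] at hy
    simp only [Set.mem_setOf_eq, List.mem_cons]
    tauto)

theorem h1_quot_list (hφ : Function.Surjective φ) (t : S) (q : List S)
    (hker : RingHom.ker φ = Ideal.span {t}) (h : CAlgX.IsH1Regular (q ++ [t]).get) :
    CAlgX.IsH1Regular (q.map φ).get := by
  have h1 : CAlgX.IsH1Regular (t :: q).get :=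
    h1_span_eq_list (q ++ [t]) (t :: q) h (by simp) (mem_span_cons_of_mem_append t q)
      (mem_span_append_of_mem_cons t q)
  rw [get_cons_eq] at h1
  have h2 := h1_quot φ hφ q.get t hker h1
  exact Groth.Agent.Lib.Seat40.RegSeqFlat.h1_congr (List.length_map (as := q) φ).symm _ _
    (Groth.Agent.Lib.Seat40.RegSeqFlat.get_map_cast φ q) h2

theorem quasi_quot_list (hφ : Function.Surjective φ) (t : S) (q : List S)
    (hker : RingHom.ker φ = Ideal.span {t}) (h : CAlgX.IsQuasiRegular (q ++ [t]).get) :
    CAlgX.IsQuasiRegular (q.map φ).get := by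
  have h1 : CAlgX.IsQuasiRegular (t :: q).get :=
    quasi_span_eq_list (q ++ [t]) (t :: q) h (by simp) (mem_span_cons_of_mem_append t q)
      (mem_span_append_of_mem_cons t q)
  rw [get_cons_eq] at h1
  have h2 := quasi_quot φ hφ q.get t hker h1
  exact Groth.Agent.Lib.Seat40.RegSeqFlat.quasi_congr (List.length_map (as := q) φ).symm _ _
    (Groth.Agent.Lib.Seat40.RegSeqFlat.get_map_cast φ q) h2

end ListMaps

/-- The permanence properties of a kind of sequences needed for the smooth-local arguments. -/
structure KindAx (k : RegImm.Kind) : Prop where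
  flat : ∀ {S T : Type u} [CommRing S] [CommRing T] (φ : S →+* T), φ.Flat →
    ∀ l : List S, k.Seq S l → k.Seq T (l.map φ)
  span_eq : ∀ {R : Type u} [CommRing R] (l l' : List R), k.Seq R l → l'.length = l.length →
    (∀ y ∈ l', y ∈ Ideal.span {a | a ∈ l}) → (∀ x ∈ l, x ∈ Ideal.span {a | a ∈ l'}) →
    k.Seq R l'
  descent : ∀ {S T : Type u} [CommRing S] [CommRing T] (φ : S →+* T), φ.FaithfullyFlat →
    ∀ l : List S, k.Seq T (l.map φ) → k.Seq S l
  quot : ∀ {S R' : Type u} [CommRing S] [CommRing R'] (φ : S →+* R'), Function.Surjective φ →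
    ∀ (t : S) (q : List S), RingHom.ker φ = Ideal.span {t} → k.Seq S (q ++ [t]) →
    k.Seq R' (q.map φ)

theorem kindAx_h1 : KindAx.{u} RegImm.Kind.h1 where
  flat φ hφ l h :=
    Groth.Agent.Lib.Seat40.RegSeqFlat.h1_congr (List.length_map (as := l) φ).symm _ _
      (Groth.Agent.Lib.Seat40.RegSeqFlat.get_map_cast φ l)
      (Groth.Agent.Lib.Seat40.RegSeqFlat.h1_of_flat_fun φ hφ l.get h)
  span_eq l l' h hlen h1 h2 := h1_span_eq_list l l' h hlen h1 h2
  descent φ hφ l h := h1_descent_list φ hφ l h
  quot φ hφ t q hker h := h1_quot_list φ hφ t q hker h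

theorem kindAx_quasi : KindAx.{u} RegImm.Kind.quasi where
  flat φ hφ l h :=
    Groth.Agent.Lib.Seat40.RegSeqFlat.quasi_congr (List.length_map (as := l) φ).symm _ _
      (Groth.Agent.Lib.Seat40.RegSeqFlat.get_map_cast φ l)
      (Groth.Agent.Lib.Seat40.RegSeqFlat.quasi_of_flat_fun φ hφ l.get h)
  span_eq l l' h hlen h1 h2 := quasi_span_eq_list l l' h hlen h1 h2
  descent φ hφ l h := quasi_descent_list φ hφ l h
  quot φ hφ t q hker h := quasi_quot_list φ hφ t q hker h

end Groth.Agent.Lib.Seat40.KindAx
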