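import Mathlib
import Groth.Prelude.Def_RegImm
import Groth.Agent.Lib.Seat40FibreLift
import Groth.Agent.Lib.Seat40SmoothSec
import Groth.Agent.Lib.Seat7FibDict
import Groth.Agent.Lib.Seat7SpreadRing

/-!
# Fibrewise criterion for effective Cartier divisors: ring level (Seat 40)

`PIdeal J`: the ideal `J` is, around every prime, generated by one nonzerodivisor.

* `pIdeal_of_fibre`: `A → P` flat of finite presentation, `I` f.g. with `P ⧸ I` flat over `A`; if
  all fibre ideals `I · (P ⊗ κ(p))` are `PIdeal`, so is `I`.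
* `exists_nzd_flat_of_fibre`: `I = (f₁)` principal, no flatness of `P ⧸ I` assumed; if the fibre
  ideal at `q` is `PIdeal`, then near `q` the element `f₁` is a nonzerodivisor and `P ⧸ (f₁)` is
  flat over `A`.
-/

set_option autoImplicit false
set_option linter.style.haveILetI false
universe u

namespace Groth.Agent.Lib.Seat40.CartierCrit

open TensorProduct RingTheory.Sequence
open Groth.Agent.Lib.Seat40

section Defs

variable {F : Type u} [CommRing F]

/-- `J` becomes principal, generated by a nonzerodivisor, after inverting `t` -/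
def PLoc (J : Ideal F) (t : F) : Prop :=
  ∃ f₀ : Localization.Away t, IsSMulRegular (Localization.Away t) f₀ ∧
    J.map (algebraMap F (Localization.Away t)) = Ideal.span {f₀}

/-- `J` is, around every prime, generated by one nonzerodivisor -/
def PIdeal (J : Ideal F) : Prop :=
  ∀ 𝔭 : PrimeSpectrum F, ∃ t : F, t ∉ 𝔭.asIdeal ∧ PLoc J t

theorem mem_nonZeroDivisors_iff_isSMulRegular (r : F) :
    r ∈ nonZeroDivisors F ↔ IsSMulRegular F r := by
  rw [mem_nonZeroDivisors_iff_right, isSMulRegular_iff_right_eq_zero_of_smul]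
  simp only [smul_eq_mul, mul_comm]

/-- transport along ring isomorphisms -/
theorem pIdeal_map_equiv {F' : Type u} [CommRing F'] (e : F ≃+* F') (J : Ideal F)
    (h : PIdeal J) : PIdeal (J.map (e : F →+* F')) := by
  intro 𝔭'
  obtain ⟨t, ht, f₀, hf₀, hspan⟩ := h ⟨𝔭'.asIdeal.comap (e : F →+* F'), inferInstance⟩
  letI : Algebra F F' := (e : F →+* F').toAlgebra
  haveI : Module.Flat F F' := RingHom.Flat.of_bijective (f := (e : F →+* F')) e.bijective
  have hfl := SmoothSec.flat_awayMap (B := F') t
  refine ⟨algebraMap F F' t, ht, Localization.awayMap (algebraMap F F') t f₀, ?_, ?_⟩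
  · letI := (Localization.awayMap (algebraMap F F') t).toAlgebra
    haveI : Module.Flat (Localization.Away t) (Localization.Away (algebraMap F F' t)) := hfl
    exact hf₀.of_flat
  · rw [← Set.image_singleton, ← Ideal.map_span, ← hspan, Ideal.map_map, Ideal.map_map]
    congr 1
    exact (IsLocalization.map_comp _).symm

/-- in the local ring of a prime, a `PIdeal` is generated by one nonzerodivisor -/
theorem exists_atPrime (J : Ideal F) (hK : PIdeal J) (Q : Ideal F) [Q.IsPrime] :
    ∃ f' : Localization.AtPrime Q, IsWeaklyRegular (Localization.AtPrime Q) [f'] ∧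
      Ideal.ofList [f'] = J.map (algebraMap F (Localization.AtPrime Q)) := by
  obtain ⟨t, ht, f₀, hf₀, hspan⟩ := hK ⟨Q, inferInstance⟩
  have hunit : IsUnit (algebraMap F (Localization.AtPrime Q) t) :=
    IsLocalization.map_units (Localization.AtPrime Q) (⟨t, ht⟩ : Q.primeCompl)
  let ρ : Localization.Away t →+* Localization.AtPrime Q := IsLocalization.Away.lift t hunit
  have hρ : ρ.comp (algebraMap F (Localization.Away t)) = algebraMap F (Localization.AtPrime Q) :=
    IsLocalization.Away.lift_comp t hunit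
  letI : Algebra (Localization.Away t) (Localization.AtPrime Q) := ρ.toAlgebra
  haveI : IsScalarTower F (Localization.Away t) (Localization.AtPrime Q) :=
    IsScalarTower.of_algebraMap_eq' hρ.symm
  have hle : Submonoid.powers t ≤ Q.primeCompl := by
    rintro _ ⟨n, rfl⟩
    exact fun h => ht (Ideal.IsPrime.mem_of_pow_mem inferInstance n h)
  haveI : IsLocalization (Q.primeCompl.map (algebraMap F (Localization.Away t)))
      (Localization.AtPrime Q) :=
    IsLocalization.isLocalization_of_submonoid_le (Localization.Away t) (Localization.AtPrime Q)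
      (Submonoid.powers t) Q.primeCompl hle
  haveI hflat : Module.Flat (Localization.Away t) (Localization.AtPrime Q) :=
    IsLocalization.flat _ (Q.primeCompl.map (algebraMap F (Localization.Away t)))
  refine ⟨ρ f₀, ?_, ?_⟩
  · rw [isWeaklyRegular_singleton_iff]
    exact hf₀.of_flat
  · have h1 : Ideal.ofList [ρ f₀] = (Ideal.span {f₀}).map ρ := by
      rw [Ideal.map_span, Set.image_singleton]
      ext x
      simp
    rw [h1, ← hspan, Ideal.map_map, hρ]

end Defs

section Crit

open Groth.Agent.Lib.Seat7.FibDict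

variable {A P : Type u} [CommRing A] [CommRing P] [Algebra A P] [Algebra.FinitePresentation A P]
  [Module.Flat A P]

/-- **Fibrewise criterion for effective Cartier divisors (ring form).** -/
theorem pIdeal_of_fibre (I : Ideal P) (hI : I.FG) [Module.Flat A (P ⧸ I)]
    (hK : ∀ (q : Ideal P) [q.IsPrime], I ≤ q → PIdeal
      (I.map (algebraMap P (P ⊗[A] (q.comap (algebraMap A P)).ResidueField)))) :
    PIdeal I := by
  intro 𝔭
  by_cases hIq : I ≤ 𝔭.asIdeal
  · obtain ⟨Q, hQp, hQ⟩ := exists_fibre_prime (A := A) 𝔭.asIdeal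
    haveI := hQp
    obtain ⟨f', hf', hgen⟩ := exists_atPrime _ (hK 𝔭.asIdeal hIq) Q
    rw [Ideal.map_map, ← IsScalarTower.algebraMap_eq] at hgen
    obtain ⟨g, h, -, hlen, hh, H⟩ :=
      FibreLift.exists_regular_generators 𝔭.asIdeal Q hQ I hI hIq [f'] hf' hgen
    obtain ⟨hw, hid, -⟩ := H 1
    obtain ⟨g₀, rfl⟩ : ∃ g₀, g = [g₀] := by
      match g, hlen with
      | [g₀], _ => exact ⟨g₀, rfl⟩
    refine ⟨h * 1, by rwa [mul_one], algebraMap P _ g₀, ?_, ?_⟩
    · exact (isWeaklyRegular_singleton_iff _ _).1 hw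
    · rw [← hid]
      ext x
      simp
  · obtain ⟨a, haI, haq⟩ := SetLike.not_le_iff_exists.1 hIq
    refine ⟨a, haq, 1, ?_, ?_⟩
    · exact IsSMulRegular.one _
    · rw [Ideal.span_singleton_one, Ideal.eq_top_iff_one]
      have hu : IsUnit (algebraMap P (Localization.Away a) a) :=
        IsLocalization.Away.algebraMap_isUnit a
      obtain ⟨v, hv⟩ := hu.exists_left_inv
      rw [← hv]
      exact Ideal.mul_mem_left _ v (Ideal.mem_map_of_mem _ haI)

/-- **Principal ideals: fibrewise nonzerodivisor ⇒ nonzerodivisor with flat quotient.** -/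
theorem exists_nzd_flat_of_fibre (f₁ : P) (q : Ideal P) [q.IsPrime] (hf₁ : f₁ ∈ q)
    (hK : PIdeal ((Ideal.span {f₁}).map
      (algebraMap P (P ⊗[A] (q.comap (algebraMap A P)).ResidueField)))) :
    ∃ h : P, h ∉ q ∧ ∀ h' : P,
      IsSMulRegular (Localization.Away (h * h')) (algebraMap P (Localization.Away (h * h')) f₁) ∧
      Module.Flat A (Localization.Away (h * h') ⧸
        Ideal.span {algebraMap P (Localization.Away (h * h')) f₁}) := by
  obtain ⟨Q, hQp, hQ⟩ := exists_fibre_prime (A := A) q
  haveI := hQp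
  obtain ⟨f', hf', hgen⟩ := exists_atPrime _ hK Q
  rw [Ideal.map_map, ← IsScalarTower.algebraMap_eq, Ideal.map_span, Set.image_singleton] at hgen
  have hf'r : IsSMulRegular (Localization.AtPrime Q) f' :=
    (isWeaklyRegular_singleton_iff _ _).1 hf'
  have hof : Ideal.ofList [f'] = Ideal.span {f'} := by
    ext x
    simp
  rw [hof] at hgen
  -- `f̄₁ = u f'`, `f' = v f̄₁`
  obtain ⟨u, hu⟩ : ∃ u, algebraMap P (Localization.AtPrime Q) f₁ = u * f' := by
    have : algebraMap P (Localization.AtPrime Q) f₁ ∈ Ideal.span {f'} := by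
      rw [hgen]; exact Ideal.mem_span_singleton_self _
    obtain ⟨u, hu⟩ := Ideal.mem_span_singleton'.1 this
    exact ⟨u, hu.symm⟩
  obtain ⟨v, hv⟩ : ∃ v, f' = v * algebraMap P (Localization.AtPrime Q) f₁ := by
    have : f' ∈ Ideal.span {algebraMap P (Localization.AtPrime Q) f₁} := by
      rw [← hgen]; exact Ideal.mem_span_singleton_self _
    obtain ⟨v, hv⟩ := Ideal.mem_span_singleton'.1 this
    exact ⟨v, hv.symm⟩
  have huv : u * v = 1 := by
    have h1 : f' • (u * v) = f' • (1 : Localization.AtPrime Q) := by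
      rw [smul_eq_mul, smul_eq_mul, mul_one]
      calc f' * (u * v) = v * (u * f') := by ring
        _ = f' := by rw [← hu, ← hv]
    exact hf'r h1
  have huu : IsUnit u := IsUnit.of_mul_eq_one v huv
  have hw : IsWeaklyRegular (Localization.AtPrime Q)
      ([f₁].map (algebraMap P (Localization.AtPrime Q))) := by
    have h2 : [f₁].map (algebraMap P (Localization.AtPrime Q)) = [f'].map (fun x => u * x) := by
      simp [hu]
    rw [h2]
    exact FibreLift.isWeaklyRegular_map_unit_mul _ huu [f'] hf'
  have hreg := isRegular_localizedModule_fibre (A := A) q [f₁]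
    (fun b hb => by rw [List.mem_singleton] at hb; rw [hb]; exact hf₁) Q hQ hw
  obtain ⟨h, hh, H⟩ := Groth.Agent.Lib.Seat7.SpreadRing.exists_away_isWeaklyRegular (A := A) q [f₁]
    hreg.toIsWeaklyRegular
  refine ⟨h, hh, fun h' => ?_⟩
  obtain ⟨h1, h2⟩ := H h'
  refine ⟨(isWeaklyRegular_singleton_iff _ _).1 h1, ?_⟩
  have h3 := h2 1 (by simp)
  have h4 : Ideal.ofList (([f₁].take 1).map (algebraMap P (Localization.Away (h * h')))) =
      Ideal.span {algebraMap P (Localization.Away (h * h')) f₁} := by
    ext x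
    simp
  rwa [h4] at h3

end Crit

end Groth.Agent.Lib.Seat40.CartierCrit
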