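import Mathlib
import Groth.Prelude.Def_RegImm
import Groth.Prelude.Def_BlowUp2
import Groth.Prelude.Def_CurvBase
import Groth.Agent.Lib.Seat40CartierCrit
import Groth.Agent.Lib.Seat40FibreChart
import Groth.Agent.Lib.Seat40FibreImm

set_option autoImplicit false
set_option linter.style.haveILetI false
universe u

namespace Groth.Agent.Lib.Seat40.CartierChart

open CategoryTheory CategoryTheory.Limits AlgebraicGeometry TensorProduct
open Groth.Agent.Lib.Seat40 Groth.Agent.Lib.Seat40.CartierCrit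
  Groth.Agent.Lib.Seat40.SmoothChart

variable {X : Scheme.{u}}

/-- every prime of the sections of an affine open is the prime of a point -/
theorem exists_point_of_prime (U : X.affineOpens) (𝔭 : PrimeSpectrum Γ(X, U.1)) :
    ∃ (x : X) (hx : x ∈ U.1), U.2.primeIdealOf ⟨x, hx⟩ = 𝔭 := by
  let x : X := U.2.fromSpec 𝔭
  have hx : x ∈ U.1 := by
    have : x ∈ Set.range U.2.fromSpec := ⟨𝔭, rfl⟩
    rwa [U.2.range_fromSpec] at this
  exact ⟨x, hx, U.2.fromSpec.isOpenEmbedding.injective (U.2.fromSpec_primeIdealOf ⟨x, hx⟩)⟩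

theorem isSMulRegular_map_of_flat {R R' : Type u} [CommRing R] [CommRing R'] (ψ : R →+* R')
    (hψ : ψ.Flat) {r : R} (hr : IsSMulRegular R r) : IsSMulRegular R' (ψ r) := by
  letI := ψ.toAlgebra
  haveI : Module.Flat R R' := hψ
  exact hr.of_flat

/-- restriction between affine opens is flat -/
theorem flat_res {U U' : X.affineOpens} (h : U'.1 ≤ U.1) :
    (X.presheaf.map (homOfLE h).op).hom.Flat := by
  have hle : U'.1 ≤ (𝟙 X) ⁻¹ᵁ U.1 := h
  have h1 : ((𝟙 X : X ⟶ X).appLE U.1 U'.1 hle).hom.Flat :=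
    HasRingHomProperty.appLE (P := @Flat) (𝟙 X) inferInstance U U' hle
  have h2 : ((𝟙 X : X ⟶ X).appLE U.1 U'.1 hle) = X.presheaf.map (homOfLE h).op := by
    simp only [Scheme.Hom.appLE, Scheme.Hom.id_app]
    rfl
  rwa [h2] at h1

/-- **scheme ⇒ ring** -/
theorem pIdeal_of_isEffCartierIdeal (𝓙 : X.IdealSheafData) (h : BlowUp.IsEffCartierIdeal 𝓙)
    (W : X.affineOpens) : PIdeal (𝓙.ideal W) := by
  intro 𝔭
  obtain ⟨y, hyW, rfl⟩ := exists_point_of_prime W 𝔭
  obtain ⟨U', hyU', f, hf, hid⟩ := h y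
  obtain ⟨a, b, hab, hya⟩ := exists_basicOpen_le_affine_inter W.2 U'.2 y ⟨hyW, hyU'⟩
  have hDU' : X.basicOpen a ≤ U'.1 := by
    rw [hab]; exact X.basicOpen_le b
  let ρ : Γ(X, U'.1) →+* Γ(X, X.basicOpen a) := (X.presheaf.map (homOfLE hDU').op).hom
  have hρ : ρ.Flat := flat_res (U := U') (U' := X.affineBasicOpen a) hDU'
  have h1 : (𝓙.ideal U').map ρ =
      (𝓙.ideal W).map (algebraMap Γ(X, W.1) Γ(X, X.basicOpen a)) :=
    (𝓙.map_ideal (U := X.affineBasicOpen a) (V := U') hDU').trans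
      (𝓙.map_ideal_basicOpen W a).symm
  refine ⟨a, (mem_basicOpen_iff W.2 hyW a).1 hya, ?_⟩
  haveI := W.2.isLocalization_basicOpen a
  let ε := IsLocalization.algEquiv (Submonoid.powers a) Γ(X, X.basicOpen a) (Localization.Away a)
  have hε : (ε : Γ(X, X.basicOpen a) →+* Localization.Away a).comp
      (algebraMap Γ(X, W.1) Γ(X, X.basicOpen a)) = algebraMap Γ(X, W.1) (Localization.Away a) := by
    ext r
    exact ε.commutes r
  refine ⟨ε (ρ f), ?_, ?_⟩
  · have h3 : IsSMulRegular Γ(X, U'.1) f := (mem_nonZeroDivisors_iff_isSMulRegular f).1 hf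
    have h4 := isSMulRegular_map_of_flat ρ hρ h3
    exact isSMulRegular_map_of_flat (ε : Γ(X, X.basicOpen a) →+* Localization.Away a)
      (RingHom.Flat.of_bijective ε.bijective) h4
  · have key : (Ideal.span {f}).map ρ = Ideal.span {ρ f} := by
      rw [Ideal.map_span, Set.image_singleton]
    rw [← hε, ← Ideal.map_map, ← h1, hid, key, Ideal.map_span, Set.image_singleton]
    rfl

/-- **ring ⇒ scheme** -/
theorem isEffCartierIdeal_of_pIdeal (𝓘 : X.IdealSheafData)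
    (h : ∀ x : X, ∃ U : X.affineOpens, x ∈ U.1 ∧ PIdeal (𝓘.ideal U)) :
    BlowUp.IsEffCartierIdeal 𝓘 := by
  intro x
  obtain ⟨U, hxU, hP⟩ := h x
  obtain ⟨t, ht, f₀, hf₀, hspan⟩ := hP (U.2.primeIdealOf ⟨x, hxU⟩)
  refine ⟨X.affineBasicOpen t, (mem_basicOpen_iff U.2 hxU t).2 ht, ?_⟩
  haveI := U.2.isLocalization_basicOpen t
  let ε := IsLocalization.algEquiv (Submonoid.powers t) (Localization.Away t) Γ(X, X.basicOpen t)
  have hε : (ε : Localization.Away t →+* Γ(X, X.basicOpen t)).comp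
      (algebraMap Γ(X, U.1) (Localization.Away t)) = algebraMap Γ(X, U.1) Γ(X, X.basicOpen t) := by
    ext r
    exact ε.commutes r
  refine ⟨ε f₀, ?_, ?_⟩
  · rw [mem_nonZeroDivisors_iff_isSMulRegular]
    exact isSMulRegular_map_of_flat (ε : Localization.Away t →+* Γ(X, X.basicOpen t))
      (RingHom.Flat.of_bijective ε.bijective) hf₀
  · have h5 : (𝓘.ideal U).map (algebraMap Γ(X, U.1) Γ(X, X.basicOpen t)) =
        𝓘.ideal (X.affineBasicOpen t) := 𝓘.map_ideal_basicOpen U t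
    have key : (Ideal.span {f₀}).map (ε : Localization.Away t →+* Γ(X, X.basicOpen t)) =
        Ideal.span {ε f₀} := by
      rw [Ideal.map_span, Set.image_singleton]
      rfl
    rw [← h5, ← hε, ← Ideal.map_map, hspan, key]
    rfl

section Fibre

open Groth.Agent.Lib.Seat40.FibreChart

variable {S : Scheme.{u}}

/-- **The fibre chart.** For affine opens `U ⊆ φ⁻¹ V` and `x ∈ U`, the affine open `U_s` of the
fibre over `s = φ x` has sections `Γ(X, U) ⊗[Γ(S, V)] κ(p)`, `p` the prime of `Γ(S, V)` below the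
prime of `x`. -/
theorem exists_fibre_ringEquiv (φ : X ⟶ S) (U : X.affineOpens) (V : S.Opens) (hV : IsAffineOpen V)
    (e : U.1 ≤ φ ⁻¹ᵁ V) (x : X) (hx : x ∈ U.1) :
    letI : Algebra Γ(S, V) Γ(X, U.1) := (φ.appLE V U.1 e).hom.toAlgebra
    ∃ (Us : (pullback φ (S.fromSpecResidueField (φ x))).affineOpens)
      (hle : Us.1 ≤ (pullback.fst φ (S.fromSpecResidueField (φ x))) ⁻¹ᵁ U.1)
      (ε : Γ(pullback φ (S.fromSpecResidueField (φ x)), Us.1) ≃+* Γ(X, U.1) ⊗[Γ(S, V)]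
        ((U.2.primeIdealOf ⟨x, hx⟩).asIdeal.comap (algebraMap Γ(S, V) Γ(X, U.1))).ResidueField),
      (ε : Γ(pullback φ (S.fromSpecResidueField (φ x)), Us.1) →+* Γ(X, U.1) ⊗[Γ(S, V)]
        ((U.2.primeIdealOf ⟨x, hx⟩).asIdeal.comap
          (algebraMap Γ(S, V) Γ(X, U.1))).ResidueField).comp
        ((pullback.fst φ (S.fromSpecResidueField (φ x))).appLE U.1 Us.1 hle).hom =
      algebraMap Γ(X, U.1) _ := by
  letI : Algebra Γ(S, V) Γ(X, U.1) := (φ.appLE V U.1 e).hom.toAlgebra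
  set s := φ x with hs
  set g := S.fromSpecResidueField s with hg
  have hsV : s ∈ V := e hx
  have hV' : (⊤ : (Spec (S.residueField s)).Opens) ≤ g ⁻¹ᵁ V := by
    intro y _
    show g y ∈ V
    rw [hg, Scheme.fromSpecResidueField_apply]
    exact hsV
  have hpb := RelRegGeom.isPullback_resLE_inf φ g U.1 V ⊤ e hV'
  haveI : IsAffine U.1 := U.2
  haveI : IsAffine V := hV
  haveI : IsAffine (⊤ : (Spec (S.residueField s)).Opens) := isAffineOpen_top _
  have hUs : IsAffineOpen (pullback.fst φ g ⁻¹ᵁ U.1 ⊓ pullback.snd φ g ⁻¹ᵁ ⊤) :=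
    IsAffine.of_isPullback hpb
  let Us : (pullback φ g).affineOpens := ⟨_, hUs⟩
  have hpush := RelRegGeom.isPushout_appLE φ g U.1 V ⊤ e hV' U.2 hV (isAffineOpen_top _)
  letI : Algebra Γ(S, V) (S.residueField s) := (S.evaluation V s hsV).hom.toAlgebra
  obtain ⟨eκ⟩ := FibreChart.nonempty_residueField_algEquiv φ U.1 U.2 V hV e x hx
  have hpush' : IsPushout (φ.appLE V U.1 e) (S.evaluation V s hsV)
      ((pullback.fst φ g).appLE U.1 Us.1 inf_le_left)
      ((Scheme.ΓSpecIso (S.residueField s)).inv ≫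
        (pullback.snd φ g).appLE ⊤ Us.1 inf_le_right) := by
    refine IsPushout.of_iso hpush (Iso.refl _) (Iso.refl _) (Scheme.ΓSpecIso (S.residueField s))
      (Iso.refl _) ?_ ?_ ?_ ?_
    · simp
    · simp only [Iso.refl_hom, Category.id_comp]
      exact fromSpecResidueField_appLE s V hsV hV'
    · simp only [Iso.refl_hom, Category.comp_id]
      rfl
    · simp only [Iso.refl_hom, Category.comp_id, Iso.hom_inv_id_assoc]
      rfl
  have H' : IsPushout (CommRingCat.ofHom (algebraMap Γ(S, V) Γ(X, U.1)))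
      (CommRingCat.ofHom (algebraMap Γ(S, V) (S.residueField s)))
      ((pullback.fst φ g).appLE U.1 Us.1 inf_le_left)
      ((Scheme.ΓSpecIso (S.residueField s)).inv ≫
        (pullback.snd φ g).appLE ⊤ Us.1 inf_le_right) := hpush'
  let ε₁ : Γ(X, U.1) ⊗[Γ(S, V)] (S.residueField s) ≃+* Γ(pullback φ g, Us.1) :=
    ((CommRingCat.isPushout_tensorProduct Γ(S, V) Γ(X, U.1)
      (S.residueField s)).isoIsPushout _ _ H').commRingCatIsoToRingEquiv
  have hε₁ : ∀ b : Γ(X, U.1), ε₁ (b ⊗ₜ[Γ(S, V)] (1 : S.residueField s)) =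
      ((pullback.fst φ g).appLE U.1 Us.1 inf_le_left).hom b := by
    intro b
    have := (CommRingCat.isPushout_tensorProduct Γ(S, V) Γ(X, U.1)
      (S.residueField s)).inl_isoIsPushout_hom _ _ H'
    exact congrArg (fun m => m.hom b) this
  let ε₂ : Γ(X, U.1) ⊗[Γ(S, V)] ((U.2.primeIdealOf ⟨x, hx⟩).asIdeal.comap
      (algebraMap Γ(S, V) Γ(X, U.1))).ResidueField ≃ₐ[Γ(X, U.1)]
      Γ(X, U.1) ⊗[Γ(S, V)] (S.residueField s) :=
    Algebra.TensorProduct.congr AlgEquiv.refl eκ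
  let ε : Γ(pullback φ g, Us.1) ≃+* Γ(X, U.1) ⊗[Γ(S, V)]
      ((U.2.primeIdealOf ⟨x, hx⟩).asIdeal.comap (algebraMap Γ(S, V) Γ(X, U.1))).ResidueField :=
    ε₁.symm.trans ε₂.symm.toRingEquiv
  refine ⟨Us, inf_le_left, ε, ?_⟩
  ext b
  show ε₂.symm (ε₁.symm (((pullback.fst φ g).appLE U.1 Us.1 inf_le_left).hom b)) = _
  rw [← hε₁, RingEquiv.symm_apply_apply]
  have h1 : ε₂ (b ⊗ₜ 1) = b ⊗ₜ[Γ(S, V)] (1 : S.residueField s) := by
    simp [ε₂]
  rw [← h1, AlgEquiv.symm_apply_apply]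
  rfl

/-- **Fibre chart for effective Cartier ideals.** -/
theorem pIdeal_fibre (φ : X ⟶ S) (𝓘 : X.IdealSheafData) (U : X.affineOpens) (V : S.Opens)
    (hV : IsAffineOpen V) (e : U.1 ≤ φ ⁻¹ᵁ V) (x : X) (hx : x ∈ U.1)
    (hfib : BlowUp.IsEffCartierIdeal (𝓘.comap (φ.fiberι (φ x)))) :
    letI : Algebra Γ(S, V) Γ(X, U.1) := (φ.appLE V U.1 e).hom.toAlgebra
    PIdeal ((𝓘.ideal U).map
      (algebraMap Γ(X, U.1) (Γ(X, U.1) ⊗[Γ(S, V)]
        ((U.2.primeIdealOf ⟨x, hx⟩).asIdeal.comap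
          (algebraMap Γ(S, V) Γ(X, U.1))).ResidueField))) := by
  letI : Algebra Γ(S, V) Γ(X, U.1) := (φ.appLE V U.1 e).hom.toAlgebra
  set g := S.fromSpecResidueField (φ x) with hg
  obtain ⟨Us, hle, ε, hε⟩ := exists_fibre_ringEquiv φ U V hV e x hx
  have h1 : PIdeal ((𝓘.comap (pullback.fst φ g)).ideal Us) :=
    pIdeal_of_isEffCartierIdeal _ hfib Us
  have hsq : IsPullback (pullback.snd (pullback.fst φ g) 𝓘.subschemeι)
      (pullback.fst (pullback.fst φ g) 𝓘.subschemeι) 𝓘.subschemeι (pullback.fst φ g) :=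
    (IsPullback.of_hasPullback (pullback.fst φ g) 𝓘.subschemeι).flip
  obtain ⟨-, hkey⟩ := RegImmBC.ker_app_of_isPullback 𝓘.subschemeι (pullback.fst φ g)
    (pullback.fst (pullback.fst φ g) 𝓘.subschemeι) (pullback.snd (pullback.fst φ g) 𝓘.subschemeι)
    hsq U Us hle inferInstance
  have h2 : (𝓘.comap (pullback.fst φ g)).ideal Us =
      (𝓘.ideal U).map ((pullback.fst φ g).appLE U.1 Us.1 hle).hom := by
    rw [Scheme.IdealSheafData.comap, Scheme.Hom.ker_apply, hkey,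
      Scheme.IdealSheafData.ker_subschemeι_app]
  rw [h2] at h1
  have hfin := pIdeal_map_equiv ε _ h1
  rwa [Ideal.map_map, hε] at hfin

end Fibre

end Groth.Agent.Lib.Seat40.CartierChart
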