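import Mathlib
import Groth.Prelude.Def_RegImm
import Groth.Prelude.Def_BlowUp2
import Groth.Prelude.Def_CurvBase
import Groth.Agent.Lib.Seat40CartierChart

/-!
# Fibrewise criteria for relative effective Cartier divisors (Seat 40)

* `isEffCartierIdeal_of_fibres` (S8847): `φ : X ⟶ S` flat lfp, the closed subscheme of `𝓘` flat lfp
  over `S`, all fibre ideals effective Cartier ⇒ `𝓘` effective Cartier.
* `isEffCartierIdeal_and_flat_of_fibres` (S8848): `𝓘` locally principal, all fibre ideals effective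
  Cartier ⇒ `𝓘` effective Cartier and its closed subscheme is flat over `S`.
-/

set_option autoImplicit false
set_option linter.style.haveILetI false
universe u

namespace Groth.Agent.Lib.Seat40.CartierFibre

open CategoryTheory CategoryTheory.Limits AlgebraicGeometry TensorProduct
open Groth.Agent.Lib.Seat40 Groth.Agent.Lib.Seat40.CartierCrit
  Groth.Agent.Lib.Seat40.SmoothChart Groth.Agent.Lib.Seat40.CartierChart

section Ring

theorem fg_and_flat_of_ker_eq {R B C : Type u} [CommRing R] [CommRing B] [CommRing C]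
    [Algebra R B] [Algebra.FinitePresentation R B] (α : B →+* C) (hα : Function.Surjective α)
    (I : Ideal B) (hI : RingHom.ker α = I)
    (hflat : (α.comp (algebraMap R B)).Flat)
    (hfp : (α.comp (algebraMap R B)).FinitePresentation) :
    I.FG ∧ Module.Flat R (B ⧸ I) := by
  subst hI
  exact FibreImm.fg_and_flat_ker α hα hflat hfp

theorem flat_of_surjective_of_ker_eq {A B C : Type u} [CommRing A] [CommRing B] [CommRing C]
    [Algebra A B] (I : Ideal B) [Module.Flat A (B ⧸ I)] (γ : B →+* C)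
    (hγ : Function.Surjective γ) (hker : RingHom.ker γ = I) :
    (γ.comp (algebraMap A B)).Flat := by
  subst hker
  letI : Algebra A C := (γ.comp (algebraMap A B)).toAlgebra
  let γ' : B →ₐ[A] C := { γ with commutes' := fun r => rfl }
  have hγ' : Function.Surjective γ' := hγ
  have e1 : (B ⧸ RingHom.ker γ') ≃ₐ[A] C := Ideal.quotientKerAlgEquivOfSurjective hγ'
  have h1 : Module.Flat A (B ⧸ RingHom.ker γ') := ‹Module.Flat A (B ⧸ RingHom.ker γ)›
  exact Module.Flat.of_linearEquiv e1.symm.toLinearEquiv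

theorem flat_stable :
    RingHom.StableUnderCompositionWithLocalizationAwaySource RingHom.Flat :=
  fun _ S _ _ _ _ _ r _ _ hf => RingHom.Flat.comp (RingHom.Flat.holdsForLocalizationAway S r) hf

end Ring

variable {X S : Scheme.{u}}

/-- points of the support: the ideal lies in the prime of the point -/
theorem ideal_le_primeIdealOf (𝓘 : X.IdealSheafData) (U : X.affineOpens) (x : X) (hxU : x ∈ U.1)
    (hx : x ∈ 𝓘.support) : 𝓘.ideal U ≤ (U.2.primeIdealOf ⟨x, hxU⟩).asIdeal := by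
  have hr : x ∈ Set.range 𝓘.subschemeι := by
    rw [Scheme.IdealSheafData.range_subschemeι]; exact hx
  obtain ⟨z, rfl⟩ := hr
  rw [← Scheme.IdealSheafData.ker_subschemeι_app]
  exact ker_le_primeIdealOf 𝓘.subschemeι U.2 z hxU

/-- **S8847.** -/
theorem isEffCartierIdeal_of_fibres (φ : X ⟶ S) [Flat φ] [LocallyOfFinitePresentation φ]
    (𝓘 : X.IdealSheafData) [Flat (𝓘.subschemeι ≫ φ)]
    [LocallyOfFinitePresentation (𝓘.subschemeι ≫ φ)]
    (hfib : ∀ s : S, BlowUp.IsEffCartierIdeal (𝓘.comap (φ.fiberι s))) :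
    BlowUp.IsEffCartierIdeal 𝓘 := by
  apply isEffCartierIdeal_of_pIdeal
  intro x
  obtain ⟨_, ⟨V0, hV0 : IsAffineOpen V0, rfl⟩, hsV, -⟩ :=
    S.isBasis_affineOpens.exists_subset_of_mem_open (Set.mem_univ (φ x)) isOpen_univ
  obtain ⟨_, ⟨U0, hU0 : IsAffineOpen U0, rfl⟩, hxU0, hU0le⟩ :=
    X.isBasis_affineOpens.exists_subset_of_mem_open
      (hsV : x ∈ (φ ⁻¹ᵁ V0 : X.Opens)) (φ ⁻¹ᵁ V0).2
  let U : X.affineOpens := ⟨U0, hU0⟩
  have hUV : U.1 ≤ φ ⁻¹ᵁ V0 := hU0le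
  refine ⟨U, hxU0, ?_⟩
  set i := 𝓘.subschemeι with hi
  have hcl : IsClosedImmersion (i ∣_ U.1) := inferInstance
  letI : Algebra Γ(S, V0) Γ(X, U.1) := (φ.appLE V0 U.1 hUV).hom.toAlgebra
  haveI : Algebra.FinitePresentation Γ(S, V0) Γ(X, U.1) :=
    HasRingHomProperty.appLE (P := @LocallyOfFinitePresentation) φ inferInstance
      ⟨V0, hV0⟩ U hUV
  haveI : Module.Flat Γ(S, V0) Γ(X, U.1) :=
    HasRingHomProperty.appLE (P := @Flat) φ inferInstance ⟨V0, hV0⟩ U hUV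
  haveI : IsAffine U.1 := U.2
  haveI : IsAffine (i ⁻¹ᵁ U.1) := isAffine_of_isAffineHom (i ∣_ U.1)
  have hW : IsAffineOpen (i ⁻¹ᵁ U.1) := this
  have hle2 : i ⁻¹ᵁ U.1 ≤ (i ≫ φ) ⁻¹ᵁ V0 := fun z hz => hUV hz
  have h2 : (i ≫ φ).appLE V0 (i ⁻¹ᵁ U.1) hle2 = φ.appLE V0 U.1 hUV ≫ i.app U.1 := by
    rw [← Scheme.Hom.appLE_eq_app, Scheme.Hom.appLE_comp_appLE]
  have hfl : ((i.app U.1).hom.comp (algebraMap Γ(S, V0) Γ(X, U.1))).Flat := by
    have h1 : ((i ≫ φ).appLE V0 (i ⁻¹ᵁ U.1) hle2).hom.Flat :=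
      HasRingHomProperty.appLE (P := @Flat) (i ≫ φ) inferInstance ⟨V0, hV0⟩ ⟨i ⁻¹ᵁ U.1, hW⟩ hle2
    rw [h2] at h1
    exact h1
  have hfp : ((i.app U.1).hom.comp (algebraMap Γ(S, V0) Γ(X, U.1))).FinitePresentation := by
    have h1 : ((i ≫ φ).appLE V0 (i ⁻¹ᵁ U.1) hle2).hom.FinitePresentation :=
      HasRingHomProperty.appLE (P := @LocallyOfFinitePresentation) (i ≫ φ) inferInstance
        ⟨V0, hV0⟩ ⟨i ⁻¹ᵁ U.1, hW⟩ hle2
    rw [h2] at h1
    exact h1
  obtain ⟨hfg, hflat⟩ := fg_and_flat_of_ker_eq (R := Γ(S, V0)) (i.app U.1).hom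
    (RegImmComp.app_surjective_of_restrict i U.1 U.2 hcl) (𝓘.ideal U)
    (𝓘.ker_subschemeι_app U) hfl hfp
  haveI := hflat
  refine pIdeal_of_fibre (A := Γ(S, V0)) (𝓘.ideal U) hfg (fun q hq hIq => ?_)
  obtain ⟨y, hy, hyq⟩ := exists_point_of_prime U ⟨q, hq⟩
  have hq' : q = (U.2.primeIdealOf ⟨y, hy⟩).asIdeal := by rw [hyq]
  subst hq'
  exact pIdeal_fibre φ 𝓘 U V0 hV0 hUV y hy (hfib (φ y))

end Groth.Agent.Lib.Seat40.CartierFibre
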