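import Mathlib
import Groth.Prelude.Def_RegImm
import Groth.Prelude.Def_BlowUp2
import Groth.Prelude.Def_CurvBase
import Groth.Agent.Lib.Seat40CartierFibre

/-!
# Locally principal ideals: fibrewise effective Cartier ⇒ relative effective Cartier (Seat 40)

`isEffCartierIdeal_and_flat_of_fibres` (S8848).
-/

set_option autoImplicit false
set_option linter.style.haveILetI false
universe u

namespace Groth.Agent.Lib.Seat40.CartierFlat

open CategoryTheory CategoryTheory.Limits AlgebraicGeometry TensorProduct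
open Groth.Agent.Lib.Seat40 Groth.Agent.Lib.Seat40.CartierCrit
  Groth.Agent.Lib.Seat40.SmoothChart Groth.Agent.Lib.Seat40.CartierChart
  Groth.Agent.Lib.Seat40.CartierFibre

variable {X S : Scheme.{u}}

/-- the good chart around a point of the support -/
theorem exists_nzd_flat_chart (φ : X ⟶ S) [Flat φ] [LocallyOfFinitePresentation φ]
    (𝓘 : X.IdealSheafData) (hZ : Curv2.IsLocPrincipal 𝓘)
    (hfib : ∀ s : S, BlowUp.IsEffCartierIdeal (𝓘.comap (φ.fiberι s))) (x : X)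
    (hx : x ∈ 𝓘.support) :
    ∃ (V : S.affineOpens) (U : X.affineOpens) (_ : x ∈ U.1) (e : U.1 ≤ φ ⁻¹ᵁ V.1)
      (f : Γ(X, U.1)), f ∈ nonZeroDivisors Γ(X, U.1) ∧ 𝓘.ideal U = Ideal.span {f} ∧
      ((𝓘.subschemeι.app U.1).hom.comp (φ.appLE V.1 U.1 e).hom).Flat := by
  obtain ⟨U₁, hxU₁, f₁, hid₁⟩ := hZ x hx
  obtain ⟨_, ⟨V0, hV0 : IsAffineOpen V0, rfl⟩, hsV, -⟩ :=
    S.isBasis_affineOpens.exists_subset_of_mem_open (Set.mem_univ (φ x)) isOpen_univ
  obtain ⟨a, hale, hxa⟩ := U₁.2.exists_basicOpen_le (V := φ ⁻¹ᵁ V0) ⟨x, hsV⟩ hxU₁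
  -- the chart `U₂ = D(a)`
  let U₂ : X.affineOpens := X.affineBasicOpen a
  have hxU₂ : x ∈ U₂.1 := hxa
  have e₂ : U₂.1 ≤ φ ⁻¹ᵁ V0 := hale
  let f₂ : Γ(X, U₂.1) := algebraMap Γ(X, U₁.1) Γ(X, X.basicOpen a) f₁
  have hid₂ : 𝓘.ideal U₂ = Ideal.span {f₂} := by
    have h5 : (𝓘.ideal U₁).map (algebraMap Γ(X, U₁.1) Γ(X, X.basicOpen a)) =
        𝓘.ideal (X.affineBasicOpen a) := 𝓘.map_ideal_basicOpen U₁ a
    rw [← h5, hid₁, Ideal.map_span, Set.image_singleton]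
    rfl
  letI : Algebra Γ(S, V0) Γ(X, U₂.1) := (φ.appLE V0 U₂.1 e₂).hom.toAlgebra
  haveI : Algebra.FinitePresentation Γ(S, V0) Γ(X, U₂.1) :=
    HasRingHomProperty.appLE (P := @LocallyOfFinitePresentation) φ inferInstance
      ⟨V0, hV0⟩ U₂ e₂
  haveI : Module.Flat Γ(S, V0) Γ(X, U₂.1) :=
    HasRingHomProperty.appLE (P := @Flat) φ inferInstance ⟨V0, hV0⟩ U₂ e₂
  have hf₂q : f₂ ∈ (U₂.2.primeIdealOf ⟨x, hxU₂⟩).asIdeal := by
    apply ideal_le_primeIdealOf 𝓘 U₂ x hxU₂ hx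
    rw [hid₂]
    exact Ideal.mem_span_singleton_self _
  have hK := pIdeal_fibre φ 𝓘 U₂ V0 hV0 e₂ x hxU₂ (hfib (φ x))
  rw [hid₂] at hK
  obtain ⟨h, hh, H⟩ := exists_nzd_flat_of_fibre (A := Γ(S, V0)) f₂
    (U₂.2.primeIdealOf ⟨x, hxU₂⟩).asIdeal hf₂q hK
  obtain ⟨hreg, hflat⟩ := H 1
  set t : Γ(X, U₂.1) := h * 1 with ht
  have htq : t ∉ (U₂.2.primeIdealOf ⟨x, hxU₂⟩).asIdeal := by rw [ht, mul_one]; exact hh
  -- the chart `U₃ = D(t)`
  let U₃ : X.affineOpens := X.affineBasicOpen t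
  have hxU₃ : x ∈ U₃.1 := (mem_basicOpen_iff U₂.2 hxU₂ t).2 htq
  have hU₃₂ : U₃.1 ≤ U₂.1 := X.basicOpen_le t
  have e₃ : U₃.1 ≤ φ ⁻¹ᵁ V0 := hU₃₂.trans e₂
  haveI := U₂.2.isLocalization_basicOpen t
  let ε := IsLocalization.algEquiv (Submonoid.powers t) (Localization.Away t) Γ(X, X.basicOpen t)
  have hε : (ε : Localization.Away t →+* Γ(X, X.basicOpen t)).comp
      (algebraMap Γ(X, U₂.1) (Localization.Away t)) =
      algebraMap Γ(X, U₂.1) Γ(X, X.basicOpen t) := by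
    ext r
    exact ε.commutes r
  let f₃ : Γ(X, U₃.1) := algebraMap Γ(X, U₂.1) Γ(X, X.basicOpen t) f₂
  have hf₃ : ε (algebraMap Γ(X, U₂.1) (Localization.Away t) f₂) = f₃ := ε.commutes f₂
  have hid₃ : 𝓘.ideal U₃ = Ideal.span {f₃} := by
    have h5 : (𝓘.ideal U₂).map (algebraMap Γ(X, U₂.1) Γ(X, X.basicOpen t)) =
        𝓘.ideal (X.affineBasicOpen t) := 𝓘.map_ideal_basicOpen U₂ t
    rw [← h5, hid₂, Ideal.map_span, Set.image_singleton]
    rfl
  refine ⟨⟨V0, hV0⟩, U₃, hxU₃, e₃, f₃, ?_, hid₃, ?_⟩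
  · rw [mem_nonZeroDivisors_iff_isSMulRegular, ← hf₃]
    exact isSMulRegular_map_of_flat (ε : Localization.Away t →+* Γ(X, X.basicOpen t))
      (RingHom.Flat.of_bijective ε.bijective) hreg
  · -- flatness
    set i := 𝓘.subschemeι with hi
    have hcl : IsClosedImmersion (i ∣_ U₃.1) := inferInstance
    have hsurj := RegImmComp.app_surjective_of_restrict i U₃.1 U₃.2 hcl
    let γ : Localization.Away t →+* Γ(𝓘.subscheme, i ⁻¹ᵁ U₃.1) :=
      (i.app U₃.1).hom.comp (ε : Localization.Away t →+* Γ(X, X.basicOpen t))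
    have hγ : Function.Surjective γ := hsurj.comp ε.surjective
    have hker : RingHom.ker γ =
        Ideal.span {algebraMap Γ(X, U₂.1) (Localization.Away t) f₂} := by
      have h1 : RingHom.ker γ = (RingHom.ker (i.app U₃.1).hom).comap
          (ε : Localization.Away t →+* Γ(X, X.basicOpen t)) := (RingHom.comap_ker _ _).symm
      have h2 : RingHom.ker (i.app U₃.1).hom = 𝓘.ideal U₃ := 𝓘.ker_subschemeι_app U₃
      have h3 : (Ideal.span {f₃} : Ideal Γ(X, X.basicOpen t)) =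
          (Ideal.span {algebraMap Γ(X, U₂.1) (Localization.Away t) f₂}).map
            (ε : Localization.Away t →+* Γ(X, X.basicOpen t)) := by
        rw [Ideal.map_span, Set.image_singleton]
        congr 2
        exact hf₃.symm
      have h23 : RingHom.ker (i.app U₃.1).hom =
          (Ideal.span {algebraMap Γ(X, U₂.1) (Localization.Away t) f₂}).map
            (ε : Localization.Away t →+* Γ(X, X.basicOpen t)) := by
        rw [h2, hid₃]
        exact h3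
      rw [h1, h23]
      exact Ideal.comap_map_of_bijective _ ε.bijective
    haveI := hflat
    have hfl := flat_of_surjective_of_ker_eq (A := Γ(S, V0)) _ γ hγ hker
    have hcomp : γ.comp (algebraMap Γ(S, V0) (Localization.Away t)) =
        (i.app U₃.1).hom.comp (φ.appLE V0 U₃.1 e₃).hom := by
      have h5 : φ.appLE V0 U₃.1 e₃ =
          φ.appLE V0 U₂.1 e₂ ≫ X.presheaf.map (homOfLE hU₃₂).op :=
        (Scheme.Hom.appLE_map φ e₂ (homOfLE hU₃₂).op).symm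
      ext r
      show (i.app U₃.1).hom (ε (algebraMap Γ(S, V0) (Localization.Away t) r)) =
        (i.app U₃.1).hom ((φ.appLE V0 U₃.1 e₃).hom r)
      congr 1
      rw [IsScalarTower.algebraMap_apply Γ(S, V0) Γ(X, U₂.1) (Localization.Away t), ε.commutes, h5]
      rfl
    rw [hcomp] at hfl
    exact hfl

/-- away from the support the ideal is locally the unit ideal -/
theorem exists_top_chart (𝓘 : X.IdealSheafData) (x : X) (hx : x ∉ 𝓘.support) :
    ∃ U : X.affineOpens, x ∈ U.1 ∧ 𝓘.ideal U = ⊤ := by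
  obtain ⟨_, ⟨U0, hU0 : IsAffineOpen U0, rfl⟩, hxU0, -⟩ :=
    X.isBasis_affineOpens.exists_subset_of_mem_open (Set.mem_univ x) isOpen_univ
  let U₁ : X.affineOpens := ⟨U0, hU0⟩
  have h1 : x ∉ X.zeroLocus (U := U₁.1) (𝓘.ideal U₁) := fun h =>
    hx ((Scheme.IdealSheafData.mem_support_iff_of_mem (U := U₁) hxU0).2 h)
  rw [Scheme.mem_zeroLocus_iff] at h1
  push Not at h1
  obtain ⟨a, ha, hxa⟩ := h1
  refine ⟨X.affineBasicOpen a, hxa, ?_⟩
  have h5 : (𝓘.ideal U₁).map (algebraMap Γ(X, U₁.1) Γ(X, X.basicOpen a)) =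
      𝓘.ideal (X.affineBasicOpen a) := 𝓘.map_ideal_basicOpen U₁ a
  rw [← h5]
  haveI := U₁.2.isLocalization_basicOpen a
  have hu : IsUnit (algebraMap Γ(X, U₁.1) Γ(X, X.basicOpen a) a) :=
    IsLocalization.Away.algebraMap_isUnit a
  exact Ideal.eq_top_of_isUnit_mem _ (Ideal.mem_map_of_mem _ ha) hu

/-- **S8848.** -/
theorem isEffCartierIdeal_and_flat_of_fibres (φ : X ⟶ S) [Flat φ] [LocallyOfFinitePresentation φ]
    (𝓘 : X.IdealSheafData) (hZ : Curv2.IsLocPrincipal 𝓘)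
    (hfib : ∀ s : S, BlowUp.IsEffCartierIdeal (𝓘.comap (φ.fiberι s))) :
    BlowUp.IsEffCartierIdeal 𝓘 ∧ Flat (𝓘.subschemeι ≫ φ) := by
  refine ⟨fun x => ?_, ?_⟩
  · by_cases hx : x ∈ 𝓘.support
    · obtain ⟨V, U, hxU, e, f, hf, hid, -⟩ := exists_nzd_flat_chart φ 𝓘 hZ hfib x hx
      exact ⟨U, hxU, f, hf, hid⟩
    · obtain ⟨U, hxU, htop⟩ := exists_top_chart 𝓘 x hx
      refine ⟨U, hxU, 1, one_mem _, ?_⟩
      rw [htop, Ideal.span_singleton_one]
  · rw [HasRingHomProperty.iff_exists_appLE (P := @Flat) flat_stable]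
    intro z
    set i := 𝓘.subschemeι with hi
    have hx : i z ∈ 𝓘.support := by
      have h0 : i z ∈ Set.range 𝓘.subschemeι := ⟨z, rfl⟩
      rw [Scheme.IdealSheafData.range_subschemeι] at h0
      exact h0
    obtain ⟨V, U, hxU, e, f, -, -, hfl⟩ := exists_nzd_flat_chart φ 𝓘 hZ hfib (i z) hx
    haveI : IsAffine U.1 := U.2
    haveI : IsAffine (i ⁻¹ᵁ U.1) := isAffine_of_isAffineHom (i ∣_ U.1)
    have hW : IsAffineOpen (i ⁻¹ᵁ U.1) := this
    have hle2 : i ⁻¹ᵁ U.1 ≤ (i ≫ φ) ⁻¹ᵁ V.1 := fun z hz => e hz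
    have h2 : (i ≫ φ).appLE V.1 (i ⁻¹ᵁ U.1) hle2 = φ.appLE V.1 U.1 e ≫ i.app U.1 := by
      rw [← Scheme.Hom.appLE_eq_app, Scheme.Hom.appLE_comp_appLE]
    refine ⟨V, ⟨i ⁻¹ᵁ U.1, hW⟩, hxU, hle2, ?_⟩
    rw [h2]
    exact hfl

end Groth.Agent.Lib.Seat40.CartierFlat
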