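import Mathlib
import Groth.Prelude.Def_CAlgX

set_option autoImplicit false
universe u

namespace Groth.Agent.Lib.Seat40.ConormalAlg

open scoped BigOperators

variable {C A : Type u} [CommRing C] [CommRing A]

theorem map_single (π : C →+* A) {r : ℕ} (i : Fin r) (c : C) (k : Fin r) :
    π ((Pi.single i c : Fin r → C) k) = (Pi.single i (π c) : Fin r → A) k := by
  rw [Pi.single_apply, Pi.single_apply]
  split_ifs <;> simp

theorem sum_koszul_eq_zero {r : ℕ} (f : Fin r → C) (i j : Fin r) :
    ∑ k, ((Pi.single i (f j) : Fin r → C) k - (Pi.single j (f i) : Fin r → C) k) * f k = 0 := by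
  simp only [sub_mul, Finset.sum_sub_distrib, Pi.single_apply, ite_mul, zero_mul,
    Finset.sum_ite_eq', Finset.mem_univ, if_true]
  ring

/-- the functional `b ↦ Σ b_k f_k` kills (lifts of) the Koszul relations modulo `L K` -/
theorem sum_mem_of_mem_span (π : C →+* A) (hπ : Function.Surjective π) (K L : Ideal C)
    (hK : RingHom.ker π = K) {r : ℕ} (f : Fin r → C) (hfL : ∀ k, f k ∈ L)
    (v : Fin r → A)
    (hv : v ∈ Submodule.span A {v : Fin r → A | ∃ i j : Fin r,
        v = Pi.single i (π (f j)) - Pi.single j (π (f i))}) :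
    ∀ b : Fin r → C, (∀ k, π (b k) = v k) → ∑ k, b k * f k ∈ L * K := by
  induction hv using Submodule.span_induction with
  | mem v hv =>
    obtain ⟨i, j, rfl⟩ := hv
    intro b hb
    have hbk : ∀ k, b k - ((Pi.single i (f j) : Fin r → C) k - (Pi.single j (f i) : Fin r → C) k)
        ∈ K := by
      intro k
      rw [← hK, RingHom.mem_ker, map_sub, map_sub, hb k, map_single, map_single,
        Pi.sub_apply, sub_self]
    have hsum : ∑ k, b k * f k =
        ∑ k, (b k - ((Pi.single i (f j) : Fin r → C) k - (Pi.single j (f i) : Fin r → C) k))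
          * f k +
        ∑ k, ((Pi.single i (f j) : Fin r → C) k - (Pi.single j (f i) : Fin r → C) k) * f k := by
      rw [← Finset.sum_add_distrib]
      exact Finset.sum_congr rfl fun k _ => by ring
    rw [hsum, sum_koszul_eq_zero, add_zero]
    exact Ideal.sum_mem _ fun k _ => Ideal.mul_mem_mul_rev (hfL k) (hbk k)
  | zero =>
    intro b hb
    refine Ideal.sum_mem _ fun k _ => Ideal.mul_mem_mul_rev (hfL k) ?_
    rw [← hK, RingHom.mem_ker, hb k]; rfl
  | add v w _ _ hv hw =>
    intro b hb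
    choose v' hv' using fun k => hπ (v k)
    have h1 := hv v' hv'
    have h2 := hw (fun k => b k - v' k) (fun k => by
      rw [map_sub, hb k, hv' k]; simp)
    have : ∑ k, b k * f k = ∑ k, v' k * f k + ∑ k, (b k - v' k) * f k := by
      rw [← Finset.sum_add_distrib]
      exact Finset.sum_congr rfl fun k _ => by ring
    rw [this]
    exact Ideal.add_mem _ h1 h2
  | smul c v _ hv =>
    intro b hb
    obtain ⟨c', rfl⟩ := hπ c
    choose v' hv' using fun k => hπ (v k)
    have h1 := hv v' hv'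
    have hbk : ∀ k, b k - c' * v' k ∈ K := by
      intro k
      rw [← hK, RingHom.mem_ker, map_sub, map_mul, hb k, hv' k]
      simp
    have : ∑ k, b k * f k = ∑ k, (b k - c' * v' k) * f k + c' * ∑ k, v' k * f k := by
      rw [Finset.mul_sum, ← Finset.sum_add_distrib]
      exact Finset.sum_congr rfl fun k _ => by ring
    rw [this]
    exact Ideal.add_mem _ (Ideal.sum_mem _ fun k _ => Ideal.mul_mem_mul_rev (hfL k) (hbk k))
      (Ideal.mul_mem_left _ _ h1)

/-- elements of `L²` for `L ≤ K ⊔ (f)` -/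
theorem exists_of_mem_sq (K L : Ideal C) {r : ℕ} (f : Fin r → C)
    (hLle : L ≤ K ⊔ Ideal.span (Set.range f)) (x : C) (hx : x ∈ L ^ 2) :
    ∃ y ∈ L * K, ∃ b : Fin r → C, x = y + ∑ k, b k * f k := by
  rw [pow_two] at hx
  refine Submodule.mul_induction_on hx ?_ ?_
  · intro m hm n hn
    obtain ⟨n1, hn1, n2, hn2, rfl⟩ := Submodule.mem_sup.1 (hLle hn)
    obtain ⟨cn, hcn⟩ := (Ideal.mem_span_range_iff_exists_fun).1 hn2
    refine ⟨m * n1, Ideal.mul_mem_mul hm hn1, fun k => m * cn k, ?_⟩
    have h : ∑ k, (m * cn k) * f k = m * n2 := by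
      rw [← hcn, Finset.mul_sum]
      exact Finset.sum_congr rfl fun k _ => by ring
    rw [h]
    ring
  · rintro x1 x2 ⟨y1, hy1, b1, rfl⟩ ⟨y2, hy2, b2, rfl⟩
    refine ⟨y1 + y2, Ideal.add_mem _ hy1 hy2, fun k => b1 k + b2 k, ?_⟩
    have : ∑ k, (b1 k + b2 k) * f k = ∑ k, b1 k * f k + ∑ k, b2 k * f k := by
      rw [← Finset.sum_add_distrib]
      exact Finset.sum_congr rfl fun k _ => by ring
    rw [this]; ring

/-- If `L / K` is generated by an `H₁`-regular sequence in `C / K`, then `K ∩ L² = L K`. -/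
theorem inf_sq_le_mul_of_h1' (π : C →+* A) (hπ : Function.Surjective π) (K L : Ideal C)
    (hK : RingHom.ker π = K) (hKL : K ≤ L) {r : ℕ} (f : Fin r → C)
    (hg : CAlgX.IsH1Regular (fun k => π (f k)))
    (hL : L.map π = Ideal.span (Set.range (fun k => π (f k)))) : K ⊓ L ^ 2 ≤ L * K := by
  classical
  have hfL : ∀ k, f k ∈ L := by
    intro k
    have h1 : π (f k) ∈ L.map π := by
      rw [hL]; exact Ideal.subset_span ⟨k, rfl⟩
    rw [Ideal.mem_map_iff_of_surjective π hπ] at h1
    obtain ⟨l, hl, hl'⟩ := h1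
    have h2 : f k - l ∈ K := by
      rw [← hK, RingHom.mem_ker, map_sub, hl', sub_self]
    have : f k = (f k - l) + l := by ring
    rw [this]
    exact L.add_mem (hKL h2) hl
  have hLle : L ≤ K ⊔ Ideal.span (Set.range f) := by
    intro l hl
    have h1 : π l ∈ Ideal.span (Set.range fun k => π (f k)) := by
      rw [← hL]; exact Ideal.mem_map_of_mem π hl
    obtain ⟨c, hc⟩ := (Ideal.mem_span_range_iff_exists_fun).1 h1
    choose c' hc' using fun k => hπ (c k)
    have h2 : l - ∑ k, c' k * f k ∈ K := by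
      rw [← hK, RingHom.mem_ker, map_sub, map_sum, ← hc, sub_eq_zero]
      refine (Finset.sum_congr rfl fun k _ => ?_).symm
      rw [map_mul, hc']
    have : l = (l - ∑ k, c' k * f k) + ∑ k, c' k * f k := by ring
    rw [this]
    refine Ideal.add_mem _ (Ideal.mem_sup_left h2) (Ideal.mem_sup_right ?_)
    exact Ideal.sum_mem _ fun k _ => Ideal.mul_mem_left _ _ (Ideal.subset_span ⟨k, rfl⟩)
  intro x hx
  obtain ⟨hxK, hxL2⟩ := Submodule.mem_inf.1 hx
  obtain ⟨y, hy, b, hxy⟩ := exists_of_mem_sq K L f hLle x hxL2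
  rw [hxy]
  refine Ideal.add_mem _ hy ?_
  have hyK : y ∈ K := Ideal.mul_le_right hy
  have h1 : ∑ k, b k * f k ∈ K := by
    have h0 := K.sub_mem hxK hyK
    rw [hxy] at h0
    rwa [add_sub_cancel_left] at h0
  rw [← hK, RingHom.mem_ker, map_sum] at h1
  have h2 : ∑ k, π (b k) * π (f k) = 0 := by
    rw [← h1]
    exact Finset.sum_congr rfl fun k _ => by rw [map_mul]
  have h3 := hg (fun k => π (b k)) h2
  exact sum_mem_of_mem_span π hπ K L hK f hfL _ h3 b (fun k => rfl)

theorem inf_sq_le_mul_of_h1 (π : C →+* A) (hπ : Function.Surjective π) (K L : Ideal C)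
    (hK : RingHom.ker π = K) (hKL : K ≤ L) {r : ℕ} (g : Fin r → A) (hg : CAlgX.IsH1Regular g)
    (hL : L.map π = Ideal.span (Set.range g)) : K ⊓ L ^ 2 ≤ L * K := by
  choose f hf using fun k => hπ (g k)
  have hfg : g = fun k => π (f k) := funext fun k => (hf k).symm
  rw [hfg] at hg hL
  exact inf_sq_le_mul_of_h1' π hπ K L hK hKL f hg hL

end Groth.Agent.Lib.Seat40.ConormalAlg
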