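import Mathlib
import Groth.Prelude.Def_Omega4
import Groth.Prelude.Def_RegImm
import Groth.Prelude.Def_FlatMod2
import Groth.Agent.Lib.Helper18OmLS16
import Groth.Agent.Lib.Helper20LocFree
import Groth.Agent.Lib.Seat40RegImmComp

set_option autoImplicit false
set_option linter.style.haveILetI false
set_option linter.unusedSectionVars false
set_option linter.unusedVariables false
universe u
open CategoryTheory CategoryTheory.Limits AlgebraicGeometry TopologicalSpace Opposite
open TensorProduct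
open Groth.Agent.Helper13PullbackUnit Groth.Agent.Helper18OmLS

namespace Groth.Agent.Lib.Seat40.ConormalFree

/-- degree one quasi-regularity of an `H₁`-regular sequence -/
theorem coeff_mem_of_sum_mem_sq {A : Type u} [CommRing A] {r : ℕ} (g : Fin r → A)
    (hg : CAlgX.IsH1Regular g) (a : Fin r → A)
    (ha : ∑ k, a k * g k ∈ Ideal.span (Set.range g) ^ 2) :
    ∀ k, a k ∈ Ideal.span (Set.range g) := by
  classical
  set I := Ideal.span (Set.range g) with hI
  have key : ∀ x ∈ I * I, ∃ b : Fin r → A, (∀ k, b k ∈ I) ∧ x = ∑ k, b k * g k := by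
    intro x hx
    refine Submodule.mul_induction_on hx ?_ ?_
    · intro m hm n hn
      obtain ⟨c, hc⟩ := (Ideal.mem_span_range_iff_exists_fun).1 hn
      refine ⟨fun k => m * c k, fun k => I.mul_mem_right _ hm, ?_⟩
      rw [← hc, Finset.mul_sum]
      exact Finset.sum_congr rfl fun k _ => by ring
    · rintro x y ⟨b, hb, rfl⟩ ⟨b', hb', rfl⟩
      refine ⟨fun k => b k + b' k, fun k => I.add_mem (hb k) (hb' k), ?_⟩
      rw [← Finset.sum_add_distrib]
      exact Finset.sum_congr rfl fun k _ => by ring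
  rw [pow_two] at ha
  obtain ⟨b, hb, hab⟩ := key _ ha
  have h0 : ∑ k, (a k - b k) * g k = 0 := by
    simp only [sub_mul, Finset.sum_sub_distrib]
    rw [hab, sub_self]
  have hspan := hg (fun k => a k - b k) h0
  have hcoord : ∀ v ∈ Submodule.span A {v : Fin r → A | ∃ i j : Fin r,
      v = Pi.single i (g j) - Pi.single j (g i)}, ∀ k, v k ∈ I := by
    intro v hv
    induction hv using Submodule.span_induction with
    | mem v hv =>
      obtain ⟨i, j, rfl⟩ := hv
      intro k
      simp only [Pi.sub_apply, Pi.single_apply]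
      refine I.sub_mem ?_ ?_
      · split_ifs
        · exact Ideal.subset_span ⟨j, rfl⟩
        · exact I.zero_mem
      · split_ifs
        · exact Ideal.subset_span ⟨i, rfl⟩
        · exact I.zero_mem
    | zero => intro k; exact I.zero_mem
    | add x y _ _ hx hy => intro k; exact I.add_mem (hx k) (hy k)
    | smul c x _ hx => intro k; exact I.mul_mem_left c (hx k)
  intro k
  have := hcoord _ hspan k
  have h2 : a k = (a k - b k) + b k := by ring
  rw [h2]
  exact I.add_mem this (hb k)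

section chart
variable {Z Y : Scheme.{u}} (i : Z ⟶ Y) [IsImmersion i] [QuasiCompact i]

theorem exists_basis_chart {U : Y.Opens} (hU : IsAffineOpen U) (hUi : U ≤ i.coborderRange) {r : ℕ}
    (g : Fin r → Γ(Y, U)) (hg : CAlgX.IsH1Regular g)
    (hker : RingHom.ker (i.app U).hom = Ideal.span (Set.range g)) :
    Nonempty (Module.Basis (Fin r) Γ(Z, i ⁻¹ᵁ U) Γ(Omega.conormal i, i ⁻¹ᵁ U)) := by
  classical
  have hT : IsAffineOpen (i ⁻¹ᵁ U) :=
    Groth.Agent.Lib.Helper20.ConormalStalk.isAffineOpen_preimage i hU hUi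
  have hle : i ⁻¹ᵁ U ≤ i ⁻¹ᵁ U := le_refl _
  letI alg : Algebra Γ(Y, U) Γ(Z, i ⁻¹ᵁ U) := (i.appLE U (i ⁻¹ᵁ U) hle).hom.toAlgebra
  have halg : algebraMap Γ(Y, U) Γ(Z, i ⁻¹ᵁ U) = (i.appLE U (i ⁻¹ᵁ U) hle).hom := rfl
  have hsurj : Function.Surjective (algebraMap Γ(Y, U) Γ(Z, i ⁻¹ᵁ U)) := by
    intro b
    obtain ⟨a, ha⟩ := Groth.Agent.Lib.Helper20.ConormalStalk.app_surjective i hU hUi b
    refine ⟨a, ?_⟩
    rw [← ha]
    change (i.appLE U (i ⁻¹ᵁ U) hle) a = _
    rw [← Scheme.Hom.app_eq_appLE]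
  have hkerI : ∀ b : Γ(Y, U), b ∈ RingHom.ker (algebraMap Γ(Y, U) Γ(Z, i ⁻¹ᵁ U)) ↔
      i.app U b = 0 := by
    intro b
    rw [RingHom.mem_ker]
    change (i.appLE U (i ⁻¹ᵁ U) hle) b = 0 ↔ _
    rw [← Scheme.Hom.app_eq_appLE]
  have hkerEq : RingHom.ker (algebraMap Γ(Y, U) Γ(Z, i ⁻¹ᵁ U)) = Ideal.span (Set.range g) := by
    rw [← hker]
    ext b
    rw [hkerI, RingHom.mem_ker]
  haveI : (ClSub.idealMod i.ker).IsQuasicoherent := inferInstance
  obtain ⟨e, he⟩ := exists_pullback_equiv i (ClSub.idealMod i.ker) hle hU hT halg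
  have hgk : ∀ k, i.app U (g k) = 0 := by
    intro k
    have : g k ∈ RingHom.ker (i.app U).hom := by
      rw [hker]; exact Ideal.subset_span ⟨k, rfl⟩
    exact RingHom.mem_ker.mp this
  choose s hs using fun k => exists_idealSect_eq i U (g k) (hgk k)
  let v : Fin r → Γ(Omega.conormal i, i ⁻¹ᵁ U) := fun k =>
    unitSec i (ClSub.idealMod i.ker) hle (s k)
  have hli : LinearIndependent Γ(Z, i ⁻¹ᵁ U) v := by
    rw [Fintype.linearIndependent_iff]
    intro b hb
    choose a ha using fun k => hsurj (b k)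
    set m : Γ(ClSub.idealMod i.ker, U) := ∑ k, a k • s k with hm
    have hum : unitSec i (ClSub.idealMod i.ker) hle m = 0 := by
      rw [hm, map_sum]
      refine Eq.trans ?_ hb
      refine Finset.sum_congr rfl fun k _ => ?_
      rw [unitSec_smul, ← ha k]
      rfl
    have h1 : (1 : Γ(Z, i ⁻¹ᵁ U)) ⊗ₜ[Γ(Y, U)] m = 0 := by
      apply e.injective
      rw [he, one_smul, hum, map_zero]
    have h6 := mem_smul_top_of_one_tmul_eq_zero' hsurj m h1
    have h7 : ∀ t ∈ (RingHom.ker (algebraMap Γ(Y, U) Γ(Z, i ⁻¹ᵁ U)) • ⊤ :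
        Submodule Γ(Y, U) Γ(ClSub.idealMod i.ker, U)),
        OmegaSh.idealSect i.ker U t ∈ RingHom.ker (algebraMap Γ(Y, U) Γ(Z, i ⁻¹ᵁ U)) ^ 2 := by
      intro t ht
      refine Submodule.smul_induction_on ht ?_ ?_
      · intro x hx t' _
        rw [idealSect_smul, pow_two]
        exact Ideal.mul_mem_mul hx ((hkerI _).mpr (app_idealSect_eq_zero i _ t'))
      · intro x y hx hy
        rw [map_add]
        exact Ideal.add_mem _ hx hy
    have h8 := h7 m h6
    have h9 : OmegaSh.idealSect i.ker U m = ∑ k, a k * g k := by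
      rw [hm, map_sum]
      refine Finset.sum_congr rfl fun k _ => ?_
      rw [idealSect_smul, hs k]
    rw [h9, hkerEq] at h8
    have h10 := coeff_mem_of_sum_mem_sq g hg a h8
    intro k
    rw [← ha k]
    have := h10 k
    rw [← hkerEq] at this
    exact RingHom.mem_ker.mp this
  have hsp : ⊤ ≤ Submodule.span Γ(Z, i ⁻¹ᵁ U) (Set.range v) := by
    intro n _
    obtain ⟨t, rfl⟩ := exists_unitSec_eq i (ClSub.idealMod i.ker) hle hU hT halg hsurj n
    have h1 : OmegaSh.idealSect i.ker U t ∈ Ideal.span (Set.range g) := by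
      rw [← hker, RingHom.mem_ker]
      exact app_idealSect_eq_zero i U t
    obtain ⟨c, hc⟩ := (Ideal.mem_span_range_iff_exists_fun).1 h1
    have h2 : t = ∑ k, c k • s k := by
      apply idealSect_injective
      rw [map_sum, ← hc]
      refine Finset.sum_congr rfl fun k _ => ?_
      rw [idealSect_smul, hs k]
    rw [h2, map_sum]
    refine Submodule.sum_mem _ fun k _ => ?_
    rw [unitSec_smul]
    exact Submodule.smul_mem _ _ (Submodule.subset_span ⟨k, rfl⟩)
  exact ⟨Module.Basis.mk hli hsp⟩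

/-- the conormal sheaf of a quasi-compact `H₁`-regular immersion is finite locally free -/
theorem isFinLocFree_conormal_of_h1 (hi : RegImm.IsRegularImmersion RegImm.Kind.h1 i) :
    FlatMod.IsFinLocFree (Omega.conormal i) := by
  intro z
  obtain ⟨U', hzU', hcl, rs, hrs, hker⟩ := hi.2 z
  have hx : i z ∈ U'.1 ⊓ i.coborderRange := ⟨hzU', subset_coborder ⟨z, rfl⟩⟩
  obtain ⟨U, hU, hzU, hUle⟩ := exists_isAffineOpen_mem_and_subset (x := i z) hx
  obtain ⟨-, rs₁, -, hrs₁, hker₁⟩ := RegImmComp.shrink i RegImm.Kind.h1 U' ⟨U, hU⟩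
    (hUle.trans inf_le_left) hcl rs hrs hker z hzU
  have hUi : U ≤ i.coborderRange := hUle.trans inf_le_right
  have hT : IsAffineOpen (i ⁻¹ᵁ U) :=
    Groth.Agent.Lib.Helper20.ConormalStalk.isAffineOpen_preimage i hU hUi
  obtain ⟨b⟩ := exists_basis_chart i hU hUi rs₁.get hrs₁
    (by rw [hker₁, Ideal.ofList, Set.range_list_get])
  haveI : (Omega.conormal i).IsQuasicoherent :=
    inferInstanceAs ((Scheme.Modules.pullback i).obj (ClSub.idealMod i.ker)).IsQuasicoherent
  exact ⟨i ⁻¹ᵁ U, rs₁.length, hzU,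
    ⟨Groth.Agent.Lib.Helper20.LocFree.restrictIsoFreeMod (Omega.conormal i) hT b⟩⟩

end chart

end Groth.Agent.Lib.Seat40.ConormalFree
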