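import Mathlib
import Groth.Prelude.Def_Omega4
import Groth.Prelude.Def_RegImm
import Groth.Agent.Lib.Helper18OmLS16
import Groth.Agent.Lib.Helper18Con3
import Groth.Agent.Lib.Seat40ConormalAlg
import Groth.Agent.Lib.Seat40RegImmComp
import Groth.Agent.S5974

set_option autoImplicit false
set_option linter.style.haveILetI false
set_option linter.unusedSectionVars false
set_option linter.unusedVariables false
universe u
open CategoryTheory CategoryTheory.Limits AlgebraicGeometry TopologicalSpace Opposite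
open TensorProduct
open Groth.Agent.Helper13PullbackUnit Groth.Agent.Helper18OmLS

namespace Groth.Agent.Lib.Seat40.ConormalSeq

section idealSect
variable {Z X : Scheme.{u}} (i : Z ⟶ X) [QuasiCompact i]

/-- sections of the ideal whose function lies in `L * I` lie in `L • ⊤`. -/
theorem mem_smul_top_of_idealSect_mem_mul (U : X.Opens) (L : Ideal Γ(X, U))
    (t : Γ(ClSub.idealMod i.ker, U))
    (ht : OmegaSh.idealSect i.ker U t ∈ L * RingHom.ker (i.app U).hom) :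
    t ∈ (L • ⊤ : Submodule Γ(X, U) Γ(ClSub.idealMod i.ker, U)) := by
  have key : ∀ (r : Γ(X, U)) (hr : r ∈ L * RingHom.ker (i.app U).hom)
      (t : Γ(ClSub.idealMod i.ker, U)), OmegaSh.idealSect i.ker U t = r →
      t ∈ (L • ⊤ : Submodule Γ(X, U) Γ(ClSub.idealMod i.ker, U)) := by
    intro r hr
    refine Submodule.mul_induction_on' (C := fun r _ => ∀ (t : Γ(ClSub.idealMod i.ker, U)),
      OmegaSh.idealSect i.ker U t = r →
      t ∈ (L • ⊤ : Submodule Γ(X, U) Γ(ClSub.idealMod i.ker, U))) ?_ ?_ hr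
    · intro m hm n hn t ht
      obtain ⟨tn, htn⟩ := exists_idealSect_eq i U n (RingHom.mem_ker.mp hn)
      have : t = m • tn := by
        apply idealSect_injective
        rw [ht, idealSect_smul, htn]
      rw [this]
      exact Submodule.smul_mem_smul hm Submodule.mem_top
    · intro x hx y hy ihx ihy t ht
      have hxI : x ∈ RingHom.ker (i.app U).hom := Ideal.mul_le_right hx
      have hyI : y ∈ RingHom.ker (i.app U).hom := Ideal.mul_le_right hy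
      obtain ⟨tx, htx⟩ := exists_idealSect_eq i U x (RingHom.mem_ker.mp hxI)
      obtain ⟨ty, hty⟩ := exists_idealSect_eq i U y (RingHom.mem_ker.mp hyI)
      have : t = tx + ty := by
        apply idealSect_injective
        rw [ht, map_add, htx, hty]
      rw [this]
      exact Submodule.add_mem _ (ihx tx htx) (ihy ty hty)
  exact key _ ht t rfl

end idealSect

section chart
variable {Y' Y X : Scheme.{u}} (f : Y ⟶ X) [IsImmersion f] [QuasiCompact f]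
    (j : Y' ⟶ Y) [IsImmersion j] [QuasiCompact j]
    (φ₁ : (Scheme.Modules.pullback j).obj (Omega.conormal f) ⟶ Omega.conormal (j ≫ f))
    (hφ₁ : OmegaSh.IsConormalMap (j ≫ f) f (𝟙 X) j φ₁)

include hφ₁ in
/-- on a chart where the ideal of `j` is generated by an `H₁`-regular sequence, the canonical map
`j^* C_{Y/X} ⟶ C_{Y'/X}` is injective on sections. -/
theorem chart_phi1_injective {W : X.Opens} (hW : IsAffineOpen W) (hWf : W ≤ f.coborderRange)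
    (hVj : f ⁻¹ᵁ W ≤ j.coborderRange) {r : ℕ} (g : Fin r → Γ(Y, f ⁻¹ᵁ W))
    (hg : CAlgX.IsH1Regular g)
    (hker : RingHom.ker (j.app (f ⁻¹ᵁ W)).hom = Ideal.span (Set.range g))
    (n : Γ((Scheme.Modules.pullback j).obj (Omega.conormal f), (j ≫ f) ⁻¹ᵁ W))
    (hn : φ₁.app ((j ≫ f) ⁻¹ᵁ W) n = 0) : n = 0 := by
  have hV : IsAffineOpen (f ⁻¹ᵁ W) :=
    Groth.Agent.Lib.Helper20.ConormalStalk.isAffineOpen_preimage f hW hWf
  have hT : IsAffineOpen ((j ≫ f) ⁻¹ᵁ W) :=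
    Groth.Agent.Lib.Helper20.ConormalStalk.isAffineOpen_preimage j hV hVj
  have hTV : (j ≫ f) ⁻¹ᵁ W ≤ j ⁻¹ᵁ (f ⁻¹ᵁ W) := le_refl _
  have hTW : (j ≫ f) ⁻¹ᵁ W ≤ (j ≫ f) ⁻¹ᵁ W := le_refl _
  have hVW : f ⁻¹ᵁ W ≤ f ⁻¹ᵁ W := le_refl _
  letI algCA : Algebra Γ(X, W) Γ(Y, f ⁻¹ᵁ W) := (f.appLE W (f ⁻¹ᵁ W) hVW).hom.toAlgebra
  letI algAR : Algebra Γ(Y, f ⁻¹ᵁ W) Γ(Y', (j ≫ f) ⁻¹ᵁ W) :=
    (j.appLE (f ⁻¹ᵁ W) ((j ≫ f) ⁻¹ᵁ W) hTV).hom.toAlgebra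
  letI algCR : Algebra Γ(X, W) Γ(Y', (j ≫ f) ⁻¹ᵁ W) :=
    ((j ≫ f).appLE W ((j ≫ f) ⁻¹ᵁ W) hTW).hom.toAlgebra
  haveI : IsScalarTower Γ(X, W) Γ(Y, f ⁻¹ᵁ W) Γ(Y', (j ≫ f) ⁻¹ᵁ W) := by
    refine IsScalarTower.of_algebraMap_eq fun r => ?_
    have h1 : f.appLE W (f ⁻¹ᵁ W) hVW ≫ j.appLE (f ⁻¹ᵁ W) ((j ≫ f) ⁻¹ᵁ W) hTV =
        (j ≫ f).appLE W ((j ≫ f) ⁻¹ᵁ W) hTW := Scheme.Hom.appLE_comp_appLE _ _ _ _ _ _ _
    exact congr($h1.symm r)
  have hCA : Function.Surjective (algebraMap Γ(X, W) Γ(Y, f ⁻¹ᵁ W)) := by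
    intro b
    obtain ⟨a, ha⟩ := Groth.Agent.Lib.Helper20.ConormalStalk.app_surjective f hW hWf b
    refine ⟨a, ?_⟩
    rw [← ha]
    change (f.appLE W (f ⁻¹ᵁ W) hVW) a = _
    rw [← Scheme.Hom.app_eq_appLE]
  have hAR : Function.Surjective (algebraMap Γ(Y, f ⁻¹ᵁ W) Γ(Y', (j ≫ f) ⁻¹ᵁ W)) := by
    intro b
    obtain ⟨a, ha⟩ := Groth.Agent.Lib.Helper20.ConormalStalk.app_surjective j hV hVj b
    refine ⟨a, ?_⟩
    refine Eq.trans ?_ ha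
    change (j.appLE (f ⁻¹ᵁ W) ((j ≫ f) ⁻¹ᵁ W) hTV) a = _
    rw [Scheme.Hom.app_eq_appLE]
    rfl
  have hCR : Function.Surjective (algebraMap Γ(X, W) Γ(Y', (j ≫ f) ⁻¹ᵁ W)) := by
    rw [IsScalarTower.algebraMap_eq Γ(X, W) Γ(Y, f ⁻¹ᵁ W) Γ(Y', (j ≫ f) ⁻¹ᵁ W)]
    exact hAR.comp hCA
  have hkerK : ∀ b : Γ(X, W), b ∈ RingHom.ker (algebraMap Γ(X, W) Γ(Y, f ⁻¹ᵁ W)) ↔
      f.app W b = 0 := by
    intro b
    rw [RingHom.mem_ker]
    change (f.appLE W (f ⁻¹ᵁ W) hVW) b = 0 ↔ _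
    rw [← Scheme.Hom.app_eq_appLE]
  have hkerKEq : RingHom.ker (algebraMap Γ(X, W) Γ(Y, f ⁻¹ᵁ W)) = RingHom.ker (f.app W).hom := by
    ext b
    rw [hkerK, RingHom.mem_ker]
  have hkerL : ∀ b : Γ(X, W), b ∈ RingHom.ker (algebraMap Γ(X, W) Γ(Y', (j ≫ f) ⁻¹ᵁ W)) ↔
      (j ≫ f).app W b = 0 := by
    intro b
    rw [RingHom.mem_ker]
    change ((j ≫ f).appLE W ((j ≫ f) ⁻¹ᵁ W) hTW) b = 0 ↔ _
    rw [← Scheme.Hom.app_eq_appLE]
  have hkerJ : ∀ b : Γ(Y, f ⁻¹ᵁ W), b ∈ RingHom.ker (algebraMap Γ(Y, f ⁻¹ᵁ W) Γ(Y', (j ≫ f) ⁻¹ᵁ W)) ↔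
      j.app (f ⁻¹ᵁ W) b = 0 := by
    intro b
    rw [RingHom.mem_ker]
    change (j.appLE (f ⁻¹ᵁ W) ((j ≫ f) ⁻¹ᵁ W) hTV) b = 0 ↔ _
    rw [Scheme.Hom.app_eq_appLE]
    exact Iff.rfl
  have hkerJEq : RingHom.ker (algebraMap Γ(Y, f ⁻¹ᵁ W) Γ(Y', (j ≫ f) ⁻¹ᵁ W)) =
      RingHom.ker (j.app (f ⁻¹ᵁ W)).hom := by
    ext b
    rw [hkerJ, RingHom.mem_ker]
  have hkerLEq : RingHom.ker (algebraMap Γ(X, W) Γ(Y', (j ≫ f) ⁻¹ᵁ W)) =
      RingHom.ker ((j ≫ f).app W).hom := by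
    ext b
    rw [hkerL, RingHom.mem_ker]
  have hKL : RingHom.ker (algebraMap Γ(X, W) Γ(Y, f ⁻¹ᵁ W)) ≤
      RingHom.ker (algebraMap Γ(X, W) Γ(Y', (j ≫ f) ⁻¹ᵁ W)) := by
    intro b hb
    rw [RingHom.mem_ker, IsScalarTower.algebraMap_apply Γ(X, W) Γ(Y, f ⁻¹ᵁ W),
      RingHom.mem_ker.mp hb, map_zero]
  have hLmap : (RingHom.ker (algebraMap Γ(X, W) Γ(Y', (j ≫ f) ⁻¹ᵁ W))).map
      (algebraMap Γ(X, W) Γ(Y, f ⁻¹ᵁ W)) = Ideal.span (Set.range g) := by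
    have hL : RingHom.ker (algebraMap Γ(X, W) Γ(Y', (j ≫ f) ⁻¹ᵁ W)) =
        (RingHom.ker (algebraMap Γ(Y, f ⁻¹ᵁ W) Γ(Y', (j ≫ f) ⁻¹ᵁ W))).comap
        (algebraMap Γ(X, W) Γ(Y, f ⁻¹ᵁ W)) := by
      ext x
      rw [Ideal.mem_comap, RingHom.mem_ker, RingHom.mem_ker,
        ← IsScalarTower.algebraMap_apply]
    rw [hL, Ideal.map_comap_of_surjective _ hCA, hkerJEq, hker]
  have halg := ConormalAlg.inf_sq_le_mul_of_h1 (algebraMap Γ(X, W) Γ(Y, f ⁻¹ᵁ W)) hCA _ _ rfl hKL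
    g hg hLmap
  obtain ⟨K, hKdef⟩ : ∃ K, K = RingHom.ker (algebraMap Γ(X, W) Γ(Y, f ⁻¹ᵁ W)) := ⟨_, rfl⟩
  obtain ⟨L, hLdef⟩ : ∃ L, L = RingHom.ker (algebraMap Γ(X, W) Γ(Y', (j ≫ f) ⁻¹ᵁ W)) := ⟨_, rfl⟩
  rw [← hKdef] at hkerK hkerKEq halg
  rw [← hLdef] at hkerL hkerLEq halg
  -- sections of the double pullback
  haveI : (ClSub.idealMod f.ker).IsQuasicoherent := inferInstance
  obtain ⟨e₂, he₂⟩ := exists_baseChangeEquiv (A := Γ(X, W)) (B := Γ(Y', (j ≫ f) ⁻¹ᵁ W))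
    ((unitSec j ((Scheme.Modules.pullback f).obj (ClSub.idealMod f.ker)) hTV).comp
      (unitSec f (ClSub.idealMod f.ker) hVW))
    (fun a m => by
      change unitSec j _ hTV (unitSec f _ hVW (a • m)) = _
      rw [unitSec_smul, unitSec_smul,
        IsScalarTower.algebraMap_apply Γ(X, W) Γ(Y, f ⁻¹ᵁ W) Γ(Y', (j ≫ f) ⁻¹ᵁ W)]
      rfl)
    (fun N _ _ l hl => by
      obtain ⟨l', hl', hu⟩ := Groth.Agent.Helper18Con.existsUnique_lift₂ f j (ClSub.idealMod f.ker)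
        hW hV hVW hT hTV N l (fun r x => by
          rw [hl, IsScalarTower.algebraMap_apply Γ(X, W) Γ(Y, f ⁻¹ᵁ W) Γ(Y', (j ≫ f) ⁻¹ᵁ W)]
          rfl)
      exact ⟨l', hl', hu⟩)
  have hP1 : ∀ n : Γ((Scheme.Modules.pullback j).obj (Omega.conormal f), (j ≫ f) ⁻¹ᵁ W),
      ∃ s' : Γ(ClSub.idealMod f.ker, W), unitSec j _ hTV (unitSec f _ hVW s') = n := by
    intro n
    obtain ⟨t, rfl⟩ := e₂.surjective n
    induction t using TensorProduct.induction_on with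
    | zero => exact ⟨0, by rw [map_zero, map_zero, map_zero]⟩
    | tmul b m =>
      obtain ⟨a, rfl⟩ := hCR b
      refine ⟨a • m, ?_⟩
      rw [he₂, unitSec_smul, unitSec_smul,
        IsScalarTower.algebraMap_apply Γ(X, W) Γ(Y, f ⁻¹ᵁ W) Γ(Y', (j ≫ f) ⁻¹ᵁ W)]
      rfl
    | add x y hx hy =>
      obtain ⟨s₁, h₁⟩ := hx
      obtain ⟨s₂, h₂⟩ := hy
      exact ⟨s₁ + s₂, by rw [map_add, map_add, map_add, h₁, h₂]⟩
  obtain ⟨s', rfl⟩ := hP1 n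
  -- the image under `φ₁`
  have h0 : (j ≫ f).app W (OmegaSh.idealSect f.ker W s') = 0 := by
    have hc := congr($(Scheme.Hom.comp_app j f W) (OmegaSh.idealSect f.ker W s'))
    refine hc.trans ?_
    change (j.app (f ⁻¹ᵁ W)) ((f.app W) (OmegaSh.idealSect f.ker W s')) = 0
    rw [app_idealSect_eq_zero, map_zero]
  obtain ⟨s, hs⟩ := exists_idealSect_eq (j ≫ f) W _ h0
  have hunit1 : unitSec j ((Scheme.Modules.pullback f).obj (ClSub.idealMod f.ker)) hTV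
      (unitSec f (ClSub.idealMod f.ker) hVW s') =
      OmegaSh.pullSect j (Omega.conormal f) (f ⁻¹ᵁ W) (OmegaSh.conormalSect f W s') := by
    rw [unitSec_apply, unitSec_apply]
    refine (presheaf_map_homOfLE_refl _ _ _).trans ?_
    congr 1
    exact presheaf_map_homOfLE_refl _ _ _
  have hunit2 : unitSec (j ≫ f) (ClSub.idealMod (j ≫ f).ker) hTW s =
      OmegaSh.conormalSect (j ≫ f) W s := by
    rw [unitSec_apply]
    exact presheaf_map_homOfLE_refl ((Scheme.Modules.pullback (j ≫ f)).obj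
      (ClSub.idealMod (j ≫ f).ker)) _ _
  have hφs := phi1_conormalSect f j φ₁ hφ₁ W s' s hs
  rw [hunit1] at hn
  have hn2 : unitSec (j ≫ f) (ClSub.idealMod (j ≫ f).ker) hTW s = 0 := by
    rw [hunit2]
    exact hφs.symm.trans hn
  -- `s ∈ L • ⊤`
  obtain ⟨e, he⟩ := exists_pullback_equiv (j ≫ f) (ClSub.idealMod (j ≫ f).ker) hTW hW hT rfl
  have h1 : (1 : Γ(Y', (j ≫ f) ⁻¹ᵁ W)) ⊗ₜ[Γ(X, W)] s = 0 := by
    apply e.injective
    rw [he, one_smul, hn2, map_zero]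
  have h6 := mem_smul_top_of_one_tmul_eq_zero' hCR s h1
  rw [← hLdef] at h6
  have h7 : ∀ t ∈ (L • ⊤ : Submodule Γ(X, W) Γ(ClSub.idealMod (j ≫ f).ker, W)),
      OmegaSh.idealSect (j ≫ f).ker W t ∈ L ^ 2 := by
    intro t ht
    refine Submodule.smul_induction_on ht ?_ ?_
    · intro x hx t' _
      rw [idealSect_smul, pow_two]
      exact Ideal.mul_mem_mul hx ((hkerL _).mpr (app_idealSect_eq_zero (j ≫ f) _ t'))
    · intro x y hx hy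
      rw [map_add]
      exact Ideal.add_mem _ hx hy
  have h8 := h7 s h6
  rw [hs] at h8
  have h9 : OmegaSh.idealSect f.ker W s' ∈ K := (hkerK _).mpr (app_idealSect_eq_zero f W s')
  have h10 : OmegaSh.idealSect f.ker W s' ∈ L * K := halg ⟨h9, h8⟩
  rw [hkerKEq] at h10
  have h11 := mem_smul_top_of_idealSect_mem_mul f W L s' h10
  -- hence the pulled back section vanishes
  change unitSec j ((Scheme.Modules.pullback f).obj (ClSub.idealMod f.ker)) hTV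
      (unitSec f (ClSub.idealMod f.ker) hVW s') = 0
  refine Submodule.smul_induction_on h11 ?_ ?_
  · intro x hx m _
    rw [unitSec_smul, unitSec_smul]
    have hx0 : (j.appLE (f ⁻¹ᵁ W) ((j ≫ f) ⁻¹ᵁ W) hTV) ((f.appLE W (f ⁻¹ᵁ W) hVW) x) = 0 := by
      have := RingHom.mem_ker.mp (hLdef ▸ hx)
      rw [IsScalarTower.algebraMap_apply Γ(X, W) Γ(Y, f ⁻¹ᵁ W)] at this
      exact this
    rw [hx0, zero_smul]
  · intro x y hx hy
    rw [map_add, map_add, hx, hy, add_zero]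

end chart

section global
variable {Y' Y X : Scheme.{u}} (f : Y ⟶ X) [IsImmersion f] [QuasiCompact f]
    (j : Y' ⟶ Y) [IsImmersion j] [QuasiCompact j]
    (φ₁ : (Scheme.Modules.pullback j).obj (Omega.conormal f) ⟶ Omega.conormal (j ≫ f))
    (hφ₁ : OmegaSh.IsConormalMap (j ≫ f) f (𝟙 X) j φ₁)
    (φ₂ : (Scheme.Modules.pullback (𝟙 Y')).obj (Omega.conormal (j ≫ f)) ⟶ Omega.conormal j)
    (hφ₂ : OmegaSh.IsConormalMap j (j ≫ f) f (𝟙 Y') φ₂)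

/-- good charts around a point of `Y'`, inside a given open -/
theorem exists_chart_h1 (hj : RegImm.IsRegularImmersion RegImm.Kind.h1 j) (O : Y'.Opens) (y' : Y')
    (hy' : y' ∈ O) :
    ∃ W : X.Opens, IsAffineOpen W ∧ W ≤ f.coborderRange ∧ f ⁻¹ᵁ W ≤ j.coborderRange ∧
      y' ∈ (j ≫ f) ⁻¹ᵁ W ∧ (j ≫ f) ⁻¹ᵁ W ≤ O ∧
      ∃ (r : ℕ) (g : Fin r → Γ(Y, f ⁻¹ᵁ W)), CAlgX.IsH1Regular g ∧
        RingHom.ker (j.app (f ⁻¹ᵁ W)).hom = Ideal.span (Set.range g) := by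
  obtain ⟨U', hyU', hcl, rs, hrs, hker⟩ := hj.2 y'
  -- opens of `X` inducing `O` and `U' ⊓ coborder`
  obtain ⟨O'set, hO'open, hO'eq⟩ :=
    (j ≫ f).isEmbedding.isInducing.isOpen_iff.mp O.isOpen
  let O' : X.Opens := ⟨O'set, hO'open⟩
  have hO' : ∀ z : Y', (j ≫ f) z ∈ O' ↔ z ∈ O := by
    intro z
    have : z ∈ ((j ≫ f) ⁻¹' O'set) ↔ z ∈ (O : Set Y') := by rw [hO'eq]
    exact this
  obtain ⟨O''set, hO''open, hO''eq⟩ :=
    f.isEmbedding.isInducing.isOpen_iff.mp (U'.1 ⊓ j.coborderRange).isOpen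
  let O'' : X.Opens := ⟨O''set, hO''open⟩
  have hO'' : ∀ y : Y, f y ∈ O'' ↔ y ∈ U'.1 ⊓ j.coborderRange := by
    intro y
    have : y ∈ (f ⁻¹' O''set) ↔ y ∈ ((U'.1 ⊓ j.coborderRange : Y.Opens) : Set Y) := by
      rw [hO''eq]
    exact this
  have hx : f (j y') ∈ (f.coborderRange ⊓ O') ⊓ O'' :=
    ⟨⟨subset_coborder ⟨j y', rfl⟩, (hO' y').mpr hy'⟩,
      (hO'' _).mpr ⟨hyU', subset_coborder ⟨y', rfl⟩⟩⟩
  obtain ⟨W, hW, hxW, hWle⟩ := exists_isAffineOpen_mem_and_subset (x := f (j y')) hx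
  have hWf : W ≤ f.coborderRange := hWle.trans (inf_le_left.trans inf_le_left)
  have hVle : f ⁻¹ᵁ W ≤ U'.1 ⊓ j.coborderRange := fun y hy =>
    (hO'' y).mp ((hWle.trans inf_le_right) hy)
  have hV : IsAffineOpen (f ⁻¹ᵁ W) :=
    Groth.Agent.Lib.Helper20.ConormalStalk.isAffineOpen_preimage f hW hWf
  obtain ⟨-, rs₁, -, hrs₁, hker₁⟩ := RegImmComp.shrink j RegImm.Kind.h1 U' ⟨f ⁻¹ᵁ W, hV⟩
    (hVle.trans inf_le_left) hcl rs hrs hker y' hxW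
  refine ⟨W, hW, hWf, hVle.trans inf_le_right, hxW, ?_, rs₁.length, rs₁.get, hrs₁, ?_⟩
  · intro z hz
    exact (hO' z).mp ((hWle.trans (inf_le_left.trans inf_le_right)) hz)
  · rw [hker₁, Ideal.ofList, Set.range_list_get]

include hφ₁ in
/-- **injectivity**: if `j` is an `H₁`-regular immersion then `j^* C_{Y/X} ⟶ C_{Y'/X}` is a
monomorphism. -/
theorem mono_phi1_of_h1 (hj : RegImm.IsRegularImmersion RegImm.Kind.h1 j) : Mono φ₁ := by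
  let B : Set Y'.Opens := {T | ∃ W : X.Opens, IsAffineOpen W ∧ W ≤ f.coborderRange ∧
    f ⁻¹ᵁ W ≤ j.coborderRange ∧ T = (j ≫ f) ⁻¹ᵁ W ∧
    ∃ (r : ℕ) (g : Fin r → Γ(Y, f ⁻¹ᵁ W)), CAlgX.IsH1Regular g ∧
        RingHom.ker (j.app (f ⁻¹ᵁ W)).hom = Ideal.span (Set.range g)}
  have hB : TopologicalSpace.Opens.IsBasis B := by
    rw [TopologicalSpace.Opens.isBasis_iff_nbhd]
    intro O z hzO
    obtain ⟨W, hW, hWf, hVj, hz, hle, r, g, hg, hker⟩ := exists_chart_h1 f j hj O z hzO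
    exact ⟨(j ≫ f) ⁻¹ᵁ W, ⟨W, hW, hWf, hVj, rfl, r, g, hg, hker⟩, hz, hle⟩
  refine mono_of_injective_app_basis φ₁ B hB ?_
  rintro T ⟨W, hW, hWf, hVj, rfl, r, g, hg, hker⟩
  intro n₁ n₂ h12
  have h0 : φ₁.app ((j ≫ f) ⁻¹ᵁ W) (n₁ - n₂) = 0 := by
    rw [map_sub, h12, sub_self]
  exact sub_eq_zero.mp (chart_phi1_injective f j φ₁ hφ₁ hW hWf hVj g hg hker _ h0)

include hφ₁ hφ₂ in
/-- **the conormal sequence of `Y' ⟶ Y ⟶ X` is short exact when `Y' ⟶ Y` is `H₁`-regular** -/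
theorem shortExact_of_h1 (hj : RegImm.IsRegularImmersion RegImm.Kind.h1 j) :
    ∃ w : φ₁ ≫ ((Scheme.Modules.pullbackId Y').inv.app (Omega.conormal (j ≫ f)) ≫ φ₂) = 0,
      (ShortComplex.mk φ₁ ((Scheme.Modules.pullbackId Y').inv.app (Omega.conormal (j ≫ f)) ≫ φ₂)
        w).ShortExact := by
  obtain ⟨hepi, himg⟩ := Groth.Agent.S5974.result f j φ₁ hφ₁ φ₂ hφ₂
  have hmono := mono_phi1_of_h1 f j φ₁ hφ₁ hj
  have w : φ₁ ≫ ((Scheme.Modules.pullbackId Y').inv.app (Omega.conormal (j ≫ f)) ≫ φ₂) = 0 := by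
    have h1 : imageSubobject φ₁ ≤
        kernelSubobject ((Scheme.Modules.pullbackId Y').inv.app (Omega.conormal (j ≫ f)) ≫ φ₂) :=
      himg.le
    rw [← imageSubobject_arrow_comp φ₁, Category.assoc]
    have h2 := Subobject.ofLE_arrow h1
    rw [← h2, Category.assoc, kernelSubobject_arrow_comp, comp_zero, comp_zero]
  refine ⟨w, ?_⟩
  have hex : (ShortComplex.mk φ₁
      ((Scheme.Modules.pullbackId Y').inv.app (Omega.conormal (j ≫ f)) ≫ φ₂) w).Exact :=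
    (ShortComplex.exact_iff_image_eq_kernel _).mpr himg
  haveI : Epi ((Scheme.Modules.pullbackId Y').inv.app (Omega.conormal (j ≫ f)) ≫ φ₂) :=
    epi_comp _ _
  exact { exact := hex, mono_f := hmono, epi_g := inferInstance }

end global

end Groth.Agent.Lib.Seat40.ConormalSeq
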