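import Mathlib.RingTheory.MvPolynomial.Homogeneous
import Mathlib.RingTheory.Ideal.Operations
import Mathlib.Algebra.BigOperators.Fin

/-!
# The graded map `⊕ I^{nc} → A[T_1, …, T_r]` attached to maps `φ_j : I^c → A` with `x = Σ f_j φ_j(x)`

Seat 40 helper library (used for S8819 and S8833).
-/

set_option autoImplicit false
universe u
open scoped BigOperators

namespace Groth.Agent.Lib.Seat40.GradedPoly

variable {A : Type u} [CommRing A] {r : ℕ} (I : Ideal A) (c : ℕ)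
  (φ : Fin r → (↥(I ^ c) →ₗ[A] A))

/-- total extension of `φ j` by zero -/
noncomputable def phi' (j : Fin r) (g : A) : A :=
  open Classical in if hg : g ∈ I ^ c then φ j ⟨g, hg⟩ else 0

lemma phi'_of_mem (j : Fin r) {g : A} (hg : g ∈ I ^ c) : phi' I c φ j g = φ j ⟨g, hg⟩ := by
  simp [phi', hg]

lemma phi'_add (j : Fin r) {g h : A} (hg : g ∈ I ^ c) (hh : h ∈ I ^ c) :
    phi' I c φ j (g + h) = phi' I c φ j g + phi' I c φ j h := by
  rw [phi'_of_mem I c φ j hg, phi'_of_mem I c φ j hh, phi'_of_mem I c φ j (add_mem hg hh)]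
  rw [← map_add]
  rfl

lemma phi'_mul (j : Fin r) (a : A) {g : A} (hg : g ∈ I ^ c) :
    phi' I c φ j (a * g) = a * phi' I c φ j g := by
  rw [phi'_of_mem I c φ j hg, phi'_of_mem I c φ j (Ideal.mul_mem_left _ a hg)]
  have : (⟨a * g, Ideal.mul_mem_left _ a hg⟩ : ↥(I ^ c)) = a • ⟨g, hg⟩ := rfl
  rw [this, map_smul, smul_eq_mul]

lemma phi'_mul' (j : Fin r) (a : A) {g : A} (hg : g ∈ I ^ c) :
    phi' I c φ j (g * a) = phi' I c φ j g * a := by
  rw [mul_comm, phi'_mul I c φ j a hg, mul_comm]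

/-- `φ_j` maps `I^(m+c)` into `I^m` -/
lemma phi'_mem (j : Fin r) (m : ℕ) {g : A} (hg : g ∈ I ^ (m + c)) :
    phi' I c φ j g ∈ I ^ m := by
  rw [pow_add] at hg
  refine Submodule.smul_induction_on' (p := fun x _ => phi' I c φ j x ∈ I ^ m) hg ?_ ?_
  · intro a ha b hb
    rw [smul_eq_mul, phi'_mul I c φ j a hb]
    exact Ideal.mul_mem_right _ _ ha
  · intro x hx y hy hx' hy'
    have hxc : x ∈ I ^ c := (Ideal.mul_le_right : I ^ m * I ^ c ≤ I ^ c) hx
    have hyc : y ∈ I ^ c := (Ideal.mul_le_right : I ^ m * I ^ c ≤ I ^ c) hy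
    rw [phi'_add I c φ j hxc hyc]
    exact add_mem hx' hy'

lemma mem_of_succ_mul {n : ℕ} {g : A} (hg : g ∈ I ^ ((n + 1) * c)) : g ∈ I ^ c :=
  Ideal.pow_le_pow_right (by nlinarith) hg

lemma phi'_mem_succ (j : Fin r) (n : ℕ) {g : A} (hg : g ∈ I ^ ((n + 1) * c)) :
    phi' I c φ j g ∈ I ^ (n * c) := by
  apply phi'_mem I c φ j
  rwa [Nat.succ_mul] at hg

/-- the graded map -/
noncomputable def Phi : ℕ → A → MvPolynomial (Fin r) A
  | 0 => fun g => MvPolynomial.C g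
  | n + 1 => fun g => ∑ j, MvPolynomial.X j * Phi n (phi' I c φ j g)

@[simp] lemma Phi_zero (g : A) : Phi I c φ 0 g = MvPolynomial.C g := rfl

lemma Phi_succ (n : ℕ) (g : A) :
    Phi I c φ (n + 1) g = ∑ j, MvPolynomial.X j * Phi I c φ n (phi' I c φ j g) := rfl

lemma Phi_add : ∀ (n : ℕ) {g h : A}, g ∈ I ^ (n * c) → h ∈ I ^ (n * c) →
    Phi I c φ n (g + h) = Phi I c φ n g + Phi I c φ n h
  | 0, g, h, _, _ => by simp
  | n + 1, g, h, hg, hh => by
    simp only [Phi_succ]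
    rw [← Finset.sum_add_distrib]
    refine Finset.sum_congr rfl fun j _ => ?_
    rw [phi'_add I c φ j (mem_of_succ_mul I c hg) (mem_of_succ_mul I c hh),
      Phi_add n (phi'_mem_succ I c φ j n hg) (phi'_mem_succ I c φ j n hh), mul_add]

lemma Phi_smul : ∀ (n : ℕ) (a : A) {g : A}, g ∈ I ^ (n * c) →
    Phi I c φ n (a * g) = a • Phi I c φ n g
  | 0, a, g, _ => by simp [MvPolynomial.smul_eq_C_mul]
  | n + 1, a, g, hg => by
    simp only [Phi_succ]
    rw [Finset.smul_sum]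
    refine Finset.sum_congr rfl fun j _ => ?_
    rw [phi'_mul I c φ j a (mem_of_succ_mul I c hg),
      Phi_smul n a (phi'_mem_succ I c φ j n hg), mul_smul_comm]

lemma Phi_homogeneous : ∀ (n : ℕ) {g : A}, g ∈ I ^ (n * c) →
    (Phi I c φ n g).IsHomogeneous n
  | 0, g, _ => by simpa using MvPolynomial.isHomogeneous_C (Fin r) g
  | n + 1, g, hg => by
    simp only [Phi_succ]
    refine MvPolynomial.IsHomogeneous.sum _ _ _ fun j _ => ?_
    rw [add_comm n 1]
    exact (MvPolynomial.isHomogeneous_X A j).mul (Phi_homogeneous n (phi'_mem_succ I c φ j n hg))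

lemma Phi_mul : ∀ (n m : ℕ) {g h : A}, g ∈ I ^ (n * c) → h ∈ I ^ (m * c) →
    Phi I c φ (n + m) (g * h) = Phi I c φ n g * Phi I c φ m h
  | 0, m, g, h, _, hh => by
    rw [Nat.zero_add, Phi_smul I c φ m g hh, Phi_zero, MvPolynomial.smul_eq_C_mul]
  | n + 1, m, g, h, hg, hh => by
    have e : n + 1 + m = (n + m) + 1 := by omega
    rw [e, Phi_succ, Phi_succ, Finset.sum_mul]
    refine Finset.sum_congr rfl fun j _ => ?_
    rw [phi'_mul' I c φ j h (mem_of_succ_mul I c hg),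
      Phi_mul n m (phi'_mem_succ I c φ j n hg) hh, mul_assoc]

lemma Phi_one {g : A} (hg : g ∈ I ^ c) :
    Phi I c φ 1 g = ∑ j, MvPolynomial.C (φ j ⟨g, hg⟩) * MvPolynomial.X j := by
  rw [Phi_succ]
  refine Finset.sum_congr rfl fun j _ => ?_
  rw [Phi_zero, phi'_of_mem I c φ j hg, mul_comm]

variable (f : Fin r → A)

lemma Phi_aeval (hφ : ∀ x : ↥(I ^ c), (x : A) = ∑ j, f j * φ j x) :
    ∀ (n : ℕ) {g : A}, g ∈ I ^ (n * c) → MvPolynomial.aeval f (Phi I c φ n g) = g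
  | 0, g, _ => by simp
  | n + 1, g, hg => by
    rw [Phi_succ, map_sum]
    have hgc := mem_of_succ_mul I c hg
    have := hφ ⟨g, hgc⟩
    simp only at this
    conv_rhs => rw [this]
    refine Finset.sum_congr rfl fun j _ => ?_
    rw [map_mul, MvPolynomial.aeval_X, Phi_aeval hφ n (phi'_mem_succ I c φ j n hg),
      phi'_of_mem I c φ j hgc]

/-- uniqueness of a graded multiplicative family with prescribed degree-one part -/
lemma Phi_unique (Ψ : ℕ → A → MvPolynomial (Fin r) A)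
    (hadd : ∀ n : ℕ, ∀ g ∈ I ^ (n * c), ∀ h ∈ I ^ (n * c), Ψ n (g + h) = Ψ n g + Ψ n h)
    (hmul : ∀ n m : ℕ, ∀ g ∈ I ^ (n * c), ∀ h ∈ I ^ (m * c), Ψ (n + m) (g * h) = Ψ n g * Ψ m h)
    (h0 : ∀ a : A, Ψ 0 a = MvPolynomial.C a)
    (h1 : ∀ (g : A) (hg : g ∈ I ^ c), Ψ 1 g = ∑ j, MvPolynomial.C (φ j ⟨g, hg⟩) * MvPolynomial.X j) :
    ∀ (n : ℕ) {g : A}, g ∈ I ^ (n * c) → Ψ n g = Phi I c φ n g
  | 0, g, _ => by rw [h0, Phi_zero]
  | n + 1, g, hg => by
    have hg' : g ∈ I ^ (n * c) * I ^ (1 * c) := by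
      rw [← pow_add, ← Nat.add_mul]; exact hg
    refine Submodule.smul_induction_on'
      (p := fun x _ => Ψ (n + 1) x = Phi I c φ (n + 1) x) hg' ?_ ?_
    · intro a ha b hb
      rw [smul_eq_mul, hmul n 1 a ha b hb, Phi_mul I c φ n 1 ha hb, Phi_unique Ψ hadd hmul h0 h1 n ha]
      congr 1
      rw [one_mul] at hb
      rw [h1 b hb, Phi_one I c φ hb]
    · intro x hx y hy hx' hy'
      have hx2 : x ∈ I ^ ((n + 1) * c) := by
        rw [Nat.add_mul, pow_add]; exact hx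
      have hy2 : y ∈ I ^ ((n + 1) * c) := by
        rw [Nat.add_mul, pow_add]; exact hy
      rw [hadd (n + 1) x hx2 y hy2, Phi_add I c φ (n + 1) hx2 hy2, hx', hy']

end Groth.Agent.Lib.Seat40.GradedPoly
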