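import Mathlib.RingTheory.Filtration
import Mathlib.RingTheory.Polynomial.Basic
import Mathlib.RingTheory.TensorProduct.Finite
import Mathlib.LinearAlgebra.Isomorphisms
import Groth.Agent.Lib.Seat40GradedPoly

/-!
# Module version of the graded map to a polynomial ring (Seat 40, for S8833)

* `exists_pow_smul_top_inf_torsion_eq_bot`: Artin–Rees consequence.
* `exists_Psi`: the unique `B`-linear map `J N → B[T] ⊗ N`, `g x ↦ Φ(g) ⊗ x`.
* `Phi_coeff_mem`: the coefficients of `Φ_n(g)` lie in a power of `I`.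
-/

set_option autoImplicit false
universe u v
open scoped BigOperators TensorProduct

namespace Groth.Agent.Lib.Seat40.GradedPolyMod


section AR
variable {R : Type u} [CommRing R] [IsNoetherianRing R] (𝔟 : Ideal R)
  (M : Type v) [AddCommGroup M] [Module R M] [Module.Finite R M]

/-- the `𝔟`-power torsion submodule -/
def powTorsion : Submodule R M where
  carrier := {Y | ∃ t : ℕ, ∀ b ∈ 𝔟 ^ t, b • Y = 0}
  zero_mem' := ⟨0, fun b _ => smul_zero b⟩
  add_mem' := by
    rintro x y ⟨s, hs⟩ ⟨t, ht⟩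
    refine ⟨max s t, fun b hb => ?_⟩
    rw [smul_add, hs b (Ideal.pow_le_pow_right (le_max_left s t) hb),
      ht b (Ideal.pow_le_pow_right (le_max_right s t) hb), add_zero]
  smul_mem' := by
    rintro a x ⟨s, hs⟩
    exact ⟨s, fun b hb => by rw [smul_comm, hs b hb, smul_zero]⟩

lemma exists_pow_kills_powTorsion :
    ∃ t₀ : ℕ, ∀ Y ∈ powTorsion 𝔟 M, ∀ b ∈ 𝔟 ^ t₀, b • Y = 0 := by
  have hfg : (powTorsion 𝔟 M).FG := IsNoetherian.noetherian _
  obtain ⟨S, hS⟩ := hfg
  have hmem : ∀ y ∈ S, ∃ t : ℕ, ∀ b ∈ 𝔟 ^ t, b • y = 0 := by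
    intro y hy
    have : y ∈ powTorsion 𝔟 M := hS ▸ Submodule.subset_span hy
    exact this
  choose! t ht using hmem
  refine ⟨S.sup t, fun Y hY b hb => ?_⟩
  rw [← hS] at hY
  refine Submodule.span_induction (p := fun Y _ => b • Y = 0) ?_ ?_ ?_ ?_ hY
  · intro y hy
    exact ht y hy b (Ideal.pow_le_pow_right (Finset.le_sup hy) hb)
  · exact smul_zero b
  · intro x y _ _ hx hy
    rw [smul_add, hx, hy, add_zero]
  · intro a x _ hx
    rw [smul_comm, hx, smul_zero]

/-- Artin–Rees consequence: high powers of `𝔟` times `M` meet the `𝔟`-power torsion trivially. -/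
theorem exists_pow_smul_top_inf_torsion_eq_bot :
    ∃ m₀ : ℕ, ∀ Y : M, Y ∈ 𝔟 ^ m₀ • (⊤ : Submodule R M) →
      (∃ t : ℕ, ∀ b ∈ 𝔟 ^ t, b • Y = 0) → Y = 0 := by
  obtain ⟨t₀, ht₀⟩ := exists_pow_kills_powTorsion 𝔟 M
  obtain ⟨k, hk⟩ := Ideal.exists_pow_inf_eq_pow_smul 𝔟 (powTorsion 𝔟 M)
  refine ⟨k + t₀, fun Y hY hYt => ?_⟩
  have h1 : Y ∈ 𝔟 ^ (k + t₀) • (⊤ : Submodule R M) ⊓ powTorsion 𝔟 M := ⟨hY, hYt⟩
  rw [hk (k + t₀) (Nat.le_add_right k t₀), Nat.add_sub_cancel_left] at h1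
  refine Submodule.smul_induction_on (p := fun Y => Y = 0) h1 ?_ ?_
  · intro b hb y hy
    exact ht₀ y hy.2 b hb
  · intro x y hx hy
    rw [hx, hy, add_zero]

end AR



section Psi

variable {A : Type u} [CommRing A] {r : ℕ} (f : Fin r → A) (J : Ideal A)
  (B : Type u) [CommRing B] [Algebra A B] (N : Type u) [AddCommGroup N] [Module B N]
  (Φn : A → MvPolynomial (Fin r) A)

/-- generators index -/
abbrev Gen := ↥J × N

/-- `θ : (G →₀ B) → N`, `(g, x) ↦ g • x` -/
noncomputable def theta : (Gen J N →₀ B) →ₗ[B] N :=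
  Finsupp.linearCombination B (fun p : Gen J N => algebraMap A B (p.1 : A) • p.2)

/-- `η : (G →₀ B) → B[T] ⊗ N`, `(g, x) ↦ Φn(g) ⊗ x` -/
noncomputable def eta : (Gen J N →₀ B) →ₗ[B] (MvPolynomial (Fin r) B ⊗[B] N) :=
  Finsupp.linearCombination B
    (fun p : Gen J N => MvPolynomial.map (algebraMap A B) (Φn (p.1 : A)) ⊗ₜ[B] p.2)

lemma smul_eta (hsymm : ∀ g ∈ J, ∀ h ∈ J, h • Φn g = g • Φn h) {h : A} (hh : h ∈ J)
    (ξ : Gen J N →₀ B) :
    (MvPolynomial.C (algebraMap A B h) : MvPolynomial (Fin r) B) • eta J B N Φn ξ =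
      MvPolynomial.map (algebraMap A B) (Φn h) •
        ((1 : MvPolynomial (Fin r) B) ⊗ₜ[B] theta J B N ξ) := by
  induction ξ using Finsupp.induction_linear with
  | zero => simp
  | add x y hx hy => rw [map_add, map_add, smul_add, hx, hy, TensorProduct.tmul_add, smul_add]
  | single p b =>
    obtain ⟨⟨g, hg⟩, x⟩ := p
    simp only [eta, theta, Finsupp.linearCombination_single]
    have key : (MvPolynomial.C (algebraMap A B h) : MvPolynomial (Fin r) B) *
        MvPolynomial.map (algebraMap A B) (Φn g) =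
        algebraMap A B g • MvPolynomial.map (algebraMap A B) (Φn h) := by
      rw [MvPolynomial.smul_eq_C_mul, ← MvPolynomial.map_C, ← MvPolynomial.map_C, ← map_mul,
        ← map_mul, ← MvPolynomial.smul_eq_C_mul, ← MvPolynomial.smul_eq_C_mul, hsymm g hg h hh]
    rw [smul_comm, TensorProduct.smul_tmul', smul_eq_mul, key, TensorProduct.smul_tmul,
      TensorProduct.smul_tmul']
    conv_rhs => rw [TensorProduct.smul_tmul', smul_eq_mul, mul_one]
    rw [TensorProduct.smul_tmul]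

/-- the span in the statement -/
abbrev Sspan : Submodule B N :=
  Submodule.span B {y : N | ∃ g ∈ J, ∃ x : N, y = algebraMap A B g • x}

lemma range_theta : LinearMap.range (theta J B N) = Sspan J B N := by
  rw [theta, Finsupp.range_linearCombination]
  congr 1
  ext y
  constructor
  · rintro ⟨⟨⟨g, hg⟩, x⟩, rfl⟩
    exact ⟨g, hg, x, rfl⟩
  · rintro ⟨g, hg, x, rfl⟩
    exact ⟨⟨⟨g, hg⟩, x⟩, rfl⟩

/-- the evaluation map `B[T] ⊗ N → N` of the statement -/
noncomputable abbrev lam : (MvPolynomial (Fin r) B ⊗[B] N) →ₗ[B] N :=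
  TensorProduct.lift ((LinearMap.lsmul B N).comp
    (MvPolynomial.aeval (fun j ↦ algebraMap A B (f j))).toLinearMap)

lemma lam_eta (haeval : ∀ g ∈ J, MvPolynomial.aeval f (Φn g) = g) (ξ : Gen J N →₀ B) :
    lam f B N (eta J B N Φn ξ) = theta J B N ξ := by
  induction ξ using Finsupp.induction_linear with
  | zero => simp
  | add x y hx hy => rw [map_add, map_add, map_add, hx, hy]
  | single p b =>
    simp only [eta, theta, Finsupp.linearCombination_single, map_smul, TensorProduct.lift.tmul,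
      LinearMap.coe_comp, Function.comp_apply, AlgHom.toLinearMap_apply, LinearMap.lsmul_apply]
    congr 2
    rw [MvPolynomial.aeval_def, MvPolynomial.eval₂_map]
    have : MvPolynomial.eval₂ ((algebraMap B B).comp (algebraMap A B))
        (fun j => algebraMap A B (f j)) (Φn p.1) = algebraMap A B (MvPolynomial.aeval f (Φn p.1)) := by
      rw [MvPolynomial.aeval_def, Algebra.algebraMap_self, RingHom.id_comp,
        MvPolynomial.eval₂_comp_left, Algebra.algebraMap_self]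
      simp [Function.comp_def]
    rw [this, haeval _ p.1.2]

/-- the span of the values of `η` -/
noncomputable abbrev Yspan : Submodule B (MvPolynomial (Fin r) B ⊗[B] N) :=
  Submodule.span B {Y | ∃ g ∈ J, ∃ x : N, Y = MvPolynomial.map (algebraMap A B) (Φn g) ⊗ₜ[B] x}

lemma eta_mem (ξ : Gen J N →₀ B) : eta J B N Φn ξ ∈ Yspan J B N Φn := by
  have : LinearMap.range (eta J B N Φn) ≤ Yspan J B N Φn := by
    rw [eta, Finsupp.range_linearCombination]
    apply Submodule.span_mono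
    rintro _ ⟨⟨⟨g, hg⟩, x⟩, rfl⟩
    exact ⟨g, hg, x, rfl⟩
  exact this ⟨ξ, rfl⟩

lemma ker_theta_le (hsymm : ∀ g ∈ J, ∀ h ∈ J, h • Φn g = g • Φn h)
    (hker : ∀ Y ∈ Yspan J B N Φn, (∀ h ∈ J,
      (MvPolynomial.C (algebraMap A B h) : MvPolynomial (Fin r) B) • Y = 0) → Y = 0) :
    LinearMap.ker (theta J B N) ≤ LinearMap.ker (eta J B N Φn) := by
  intro ξ hξ
  rw [LinearMap.mem_ker] at hξ ⊢
  apply hker _ (eta_mem J B N Φn ξ)
  intro h hh
  rw [smul_eta J B N Φn hsymm hh, hξ, TensorProduct.tmul_zero, smul_zero]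

theorem exists_Psi (hsymm : ∀ g ∈ J, ∀ h ∈ J, h • Φn g = g • Φn h)
    (haeval : ∀ g ∈ J, MvPolynomial.aeval f (Φn g) = g)
    (hker : ∀ Y ∈ Yspan J B N Φn, (∀ h ∈ J,
      (MvPolynomial.C (algebraMap A B h) : MvPolynomial (Fin r) B) • Y = 0) → Y = 0) :
    ∃ Ψ : ↥(Submodule.span B {y : N | ∃ g ∈ J, ∃ x : N, y = algebraMap A B g • x}) →ₗ[B]
        (MvPolynomial (Fin r) B ⊗[B] N),
      (∀ (g : A) (hg : g ∈ J) (x : N),
        Ψ ⟨algebraMap A B g • x, Submodule.subset_span ⟨g, hg, x, rfl⟩⟩ =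
          MvPolynomial.map (algebraMap A B) (Φn g) ⊗ₜ[B] x) ∧
      (∀ y : ↥(Submodule.span B {y : N | ∃ g ∈ J, ∃ x : N, y = algebraMap A B g • x}),
        TensorProduct.lift ((LinearMap.lsmul B N).comp
          (MvPolynomial.aeval (fun j ↦ algebraMap A B (f j))).toLinearMap) (Ψ y) = (y : N)) ∧
      (∀ Ψ' : ↥(Submodule.span B {y : N | ∃ g ∈ J, ∃ x : N, y = algebraMap A B g • x}) →ₗ[B]
          (MvPolynomial (Fin r) B ⊗[B] N),
        (∀ (g : A) (hg : g ∈ J) (x : N),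
          Ψ' ⟨algebraMap A B g • x, Submodule.subset_span ⟨g, hg, x, rfl⟩⟩ =
            MvPolynomial.map (algebraMap A B) (Φn g) ⊗ₜ[B] x) → Ψ' = Ψ) := by
  have hle := ker_theta_le J B N Φn hsymm hker
  have hrange := range_theta J B N
  let Ψ : ↥(Sspan J B N) →ₗ[B] (MvPolynomial (Fin r) B ⊗[B] N) :=
    ((LinearMap.ker (theta J B N)).liftQ (eta J B N Φn) hle) ∘ₗ
      ((theta J B N).quotKerEquivRange.symm.toLinearMap) ∘ₗ
      (LinearEquiv.ofEq _ _ hrange.symm).toLinearMap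
  have hΨ : ∀ (ξ : Gen J N →₀ B) (h : theta J B N ξ ∈ Sspan J B N),
      Ψ ⟨theta J B N ξ, h⟩ = eta J B N Φn ξ := by
    intro ξ h
    simp only [Ψ, LinearMap.coe_comp, LinearEquiv.coe_coe, Function.comp_apply]
    have : (LinearEquiv.ofEq _ _ hrange.symm) (⟨theta J B N ξ, h⟩ : ↥(Sspan J B N)) =
        (⟨theta J B N ξ, ⟨ξ, rfl⟩⟩ : ↥(LinearMap.range (theta J B N))) := rfl
    rw [this, LinearMap.quotKerEquivRange_symm_apply_image]
    rfl
  have hsurj : ∀ y : ↥(Sspan J B N), ∃ ξ, theta J B N ξ = (y : N) := by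
    intro y
    have : (y : N) ∈ LinearMap.range (theta J B N) := by rw [hrange]; exact y.2
    exact this
  have hgen : ∀ (g : A) (hg : g ∈ J) (x : N),
      theta J B N (Finsupp.single (⟨⟨g, hg⟩, x⟩ : Gen J N) 1) = algebraMap A B g • x := by
    intro g hg x
    simp [theta]
  have hgen' : ∀ (g : A) (hg : g ∈ J) (x : N),
      eta J B N Φn (Finsupp.single (⟨⟨g, hg⟩, x⟩ : Gen J N) 1) =
        MvPolynomial.map (algebraMap A B) (Φn g) ⊗ₜ[B] x := by
    intro g hg x
    simp [eta]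
  refine ⟨Ψ, ?_, ?_, ?_⟩
  · intro g hg x
    have h := hΨ (Finsupp.single (⟨⟨g, hg⟩, x⟩ : Gen J N) 1)
      (by rw [hgen]; exact Submodule.subset_span ⟨g, hg, x, rfl⟩)
    rw [hgen'] at h
    rw [← h]
    congr 1
    exact Subtype.ext (hgen g hg x).symm
  · intro y
    obtain ⟨ξ, hξ⟩ := hsurj y
    have : y = ⟨theta J B N ξ, hξ ▸ y.2⟩ := Subtype.ext hξ.symm
    rw [this, hΨ]
    exact lam_eta f J B N Φn haeval ξ
  · intro Ψ' hΨ'
    have hΨ'' : ∀ (ξ : Gen J N →₀ B) (h : theta J B N ξ ∈ Sspan J B N),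
        Ψ' ⟨theta J B N ξ, h⟩ = eta J B N Φn ξ := by
      intro ξ
      induction ξ using Finsupp.induction_linear with
      | zero =>
        intro h
        have : (⟨theta J B N 0, h⟩ : ↥(Sspan J B N)) = 0 := Subtype.ext (map_zero _)
        rw [this, map_zero, map_zero]
      | add x y hx hy =>
        intro h
        have hxm : theta J B N x ∈ Sspan J B N := by rw [← hrange]; exact ⟨x, rfl⟩
        have hym : theta J B N y ∈ Sspan J B N := by rw [← hrange]; exact ⟨y, rfl⟩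
        have : (⟨theta J B N (x + y), h⟩ : ↥(Sspan J B N)) =
            ⟨theta J B N x, hxm⟩ + ⟨theta J B N y, hym⟩ := Subtype.ext (map_add _ _ _)
        rw [this, map_add, map_add, hx hxm, hy hym]
      | single p b =>
        intro h
        obtain ⟨⟨g, hg⟩, x⟩ := p
        have hm : algebraMap A B g • x ∈ Sspan J B N := Submodule.subset_span ⟨g, hg, x, rfl⟩
        have : (⟨theta J B N (Finsupp.single (⟨⟨g, hg⟩, x⟩ : Gen J N) b), h⟩ : ↥(Sspan J B N)) =
            b • ⟨algebraMap A B g • x, hm⟩ := by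
          apply Subtype.ext
          simp [theta]
        rw [this, map_smul, hΨ' g hg x]
        simp [eta]
    apply LinearMap.ext
    intro y
    obtain ⟨ξ, hξ⟩ := hsurj y
    have : y = ⟨theta J B N ξ, hξ ▸ y.2⟩ := Subtype.ext hξ.symm
    rw [this, hΨ, hΨ'']

end Psi


section Coeff
open Groth.Agent.Lib.Seat40.GradedPoly

variable {A : Type u} [CommRing A] {r : ℕ} (I : Ideal A) (c' : ℕ)
  (φ' : Fin r → (↥(I ^ c') →ₗ[A] A))

/-- if each `φ_j` drops the `I`-adic order by at most `c' - m₀`, the coefficients of `Φ_n(g)`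
lie in `I^(n m₀ + e)` for `g ∈ I^(n c' + e)`. -/
lemma Phi_coeff_mem (m₀ : ℕ)
    (hdrop : ∀ (j : Fin r) (e : ℕ) (g : A), g ∈ I ^ (e + c') → phi' I c' φ' j g ∈ I ^ (e + m₀)) :
    ∀ (n e : ℕ) (g : A), g ∈ I ^ (n * c' + e) →
      Phi I c' φ' n g ∈ Ideal.map (MvPolynomial.C : A →+* MvPolynomial (Fin r) A) (I ^ (n * m₀ + e))
  | 0, e, g, hg => by
    rw [Nat.zero_mul, Nat.zero_add] at hg ⊢
    exact Ideal.mem_map_of_mem _ hg
  | n + 1, e, g, hg => by
    rw [Phi_succ]
    refine Ideal.sum_mem _ fun j _ => Ideal.mul_mem_left _ _ ?_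
    have h1 : g ∈ I ^ ((n * c' + e) + c') := by
      have : (n + 1) * c' + e = (n * c' + e) + c' := by ring
      rwa [this] at hg
    have h2 := hdrop j _ g h1
    have h3 := Phi_coeff_mem m₀ hdrop n (e + m₀) (phi' I c' φ' j g) (by rwa [← Nat.add_assoc])
    have : n * m₀ + (e + m₀) = (n + 1) * m₀ + e := by ring
    rwa [this] at h3

end Coeff

end Groth.Agent.Lib.Seat40.GradedPolyMod
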