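import Mathlib
import Groth.Prelude.Def_RegImm
import Groth.Prelude.Def_BlowUp2
import Groth.Agent.Lib.Seat40H1FlatSch

/-!
# Flat neighbourhood of a relative effective Cartier divisor (Seat 40; S1703)
-/

set_option autoImplicit false
universe u

namespace Groth.Agent.Lib.Seat40.H1FlatCartier

open CategoryTheory CategoryTheory.Limits AlgebraicGeometry

theorem isH1Regular_singleton {R : Type u} [CommRing R] (f : R) (hf : f ∈ nonZeroDivisors R) :
    CAlgX.IsH1Regular [f].get := by
  intro a ha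
  have h0 : a = 0 := by
    funext j
    have hj : j = (0 : Fin 1) := Subsingleton.elim (α := Fin 1) _ _
    subst hj
    have h1 : a (0 : Fin 1) * f = 0 := by
      have h2 := ha
      erw [Fin.sum_univ_one] at h2
      simpa using h2
    exact (mem_nonZeroDivisors_iff_right.1 hf) _ h1
  rw [h0]
  exact Submodule.zero_mem _

theorem exists_flat_open_of_effCartier {X S : Scheme.{u}} (f : X ⟶ S)
    [LocallyOfFinitePresentation f] (𝓘 : X.IdealSheafData)
    (hD : (BlowUp.IsEffCartierIdeal 𝓘 ∧ Flat (𝓘.subschemeι ≫ f))) :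
    ∃ U : X.Opens, (𝓘.support : Set ↥X) ⊆ U ∧ Flat (U.ι ≫ f) := by
  obtain ⟨hC, hfl⟩ := hD
  have hi : RegImm.IsRelRegularImmersion RegImm.Kind.h1 f 𝓘.subschemeι := by
    refine ⟨⟨inferInstance, fun z => ?_⟩, hfl⟩
    obtain ⟨U, hxU, g, hg, hI⟩ := hC (𝓘.subschemeι z)
    refine ⟨U, hxU, inferInstance, [g], isH1Regular_singleton g hg, ?_⟩
    rw [Scheme.IdealSheafData.ker_subschemeι_app, hI]
    simp [Ideal.ofList]
  obtain ⟨U, hU, hUfl⟩ := H1FlatSch.exists_flat_open f 𝓘.subschemeι hi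
  refine ⟨U, ?_, hUfl⟩
  rw [← Scheme.IdealSheafData.range_subschemeι]
  exact hU

end Groth.Agent.Lib.Seat40.H1FlatCartier
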