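import Mathlib
import Groth.Prelude.Def_HTop
import Groth.Agent.Lib.Seat33VSingle

/-!
# Refining a standard V covering by affine opens (helper40)

* `exists_isStandardV_refine`: given a standard V covering `F` and, around every point of every
  member, an affine open with a property `P`, there is a standard V covering (indexed in
  universe 0) all of whose members are such affine opens.
-/

set_option autoImplicit false
universe w u

open CategoryTheory CategoryTheory.Limits AlgebraicGeometry IsLocalRing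

namespace Groth.Agent.Lib.Seat40.HRefine

open Groth.Agent.Lib.Seat33

theorem exists_isStandardV_refine {U : Scheme.{u}} (F : PreZeroHypercover.{w} U)
    (hF : HTop.IsStandardV F) (P : ∀ j, (F.X j).Opens → Prop)
    (hP : ∀ j (x : F.X j), ∃ V : (F.X j).Opens, IsAffineOpen V ∧ x ∈ V ∧ P j V) :
    ∃ F' : PreZeroHypercover.{0} U, HTop.IsStandardV F' ∧
      ∀ k : F'.I₀, ∃ (j : F.I₀) (V : (F.X j).Opens) (h : F'.X k ⟶ (V : Scheme.{u})),
        P j V ∧ h ≫ V.ι ≫ F.f j = F'.f k := by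
  have := hF.finite_index
  have hc : ∀ j, CompactSpace (F.X j) := fun j => by
    have := hF.isAffine_obj j
    infer_instance
  choose V hVa hVx hVP using hP
  have hfin : ∀ j, ∃ t : Finset (F.X j), (⋃ x ∈ t, (V j x : Set (F.X j))) = Set.univ := by
    intro j
    obtain ⟨t, -, ht⟩ := (isCompact_univ (X := F.X j)).elim_nhds_subcover
      (fun x => (V j x : Set (F.X j))) (fun x _ => (V j x).2.mem_nhds (hVx j x))
    exact ⟨t, Set.eq_univ_of_univ_subset ht⟩
  choose t ht using hfin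
  have hfinι : Finite (Σ j : F.I₀, {x // x ∈ t j}) := inferInstance
  obtain ⟨n, ⟨e⟩⟩ := Finite.exists_equiv_fin (Σ j : F.I₀, {x // x ∈ t j})
  let F' : PreZeroHypercover.{0} U :=
    { I₀ := Fin n
      X := fun k => ((V (e.symm k).1 (e.symm k).2.1 : (F.X (e.symm k).1).Opens) : Scheme.{u})
      f := fun k => (V (e.symm k).1 (e.symm k).2.1).ι ≫ F.f (e.symm k).1 }
  refine ⟨F', ⟨hF.isAffine, inferInstanceAs (Finite (Fin n)), fun k => hVa _ _, ?_⟩, ?_⟩
  · intro R _ _ g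
    obtain ⟨W, hWd, hWv, φ, hφ, j, g', hg'⟩ := hF.lift R g
    have hmem : g' (closedPoint W) ∈ ⋃ x ∈ t j, (V j x : Set (F.X j)) := by
      rw [ht]; trivial
    simp only [Set.mem_iUnion] at hmem
    obtain ⟨x, hx, hmem⟩ := hmem
    obtain ⟨l, hl⟩ := VSingle.exists_lift_of_closedPoint_mem W g' (V j x) hmem
    refine ⟨W, hWd, hWv, φ, hφ, e ⟨j, ⟨x, hx⟩⟩, ?_⟩
    change ∃ g'' : Spec W ⟶ ((V (e.symm (e ⟨j, ⟨x, hx⟩⟩)).1 (e.symm (e ⟨j, ⟨x, hx⟩⟩)).2.1 :
      (F.X (e.symm (e ⟨j, ⟨x, hx⟩⟩)).1).Opens) : Scheme.{u}),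
      g'' ≫ (V (e.symm (e ⟨j, ⟨x, hx⟩⟩)).1 (e.symm (e ⟨j, ⟨x, hx⟩⟩)).2.1).ι ≫
        F.f (e.symm (e ⟨j, ⟨x, hx⟩⟩)).1 = Spec.map φ ≫ g
    rw [e.symm_apply_apply]
    exact ⟨l, by rw [← Category.assoc, hl, hg']⟩
  · intro k
    exact ⟨(e.symm k).1, V _ _, 𝟙 _, hVP _ _, Category.id_comp _⟩

end Groth.Agent.Lib.Seat40.HRefine
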