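import Mathlib
import Groth.Prelude.Def_RegImm
import Groth.Agent.Lib.Seat31KR
import Groth.Agent.Lib.Helper21KoszulDepth
import Groth.Agent.Lib.Seat40RegSeqFlat

/-!
# Koszul-regular sequences become regular after a polynomial extension (Seat 40)

For a Koszul-regular sequence `f₁, …, fₙ` of a ring `R` there is a polynomial ring
`S = R[t₁, …, tₘ]` and a weakly regular sequence `g₁, …, gₙ` of `S` generating `(f₁, …, fₙ) S`
(generic upper triangular combinations, here with powers of a single variable per row).
-/

set_option autoImplicit false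
set_option linter.style.haveILetI false
universe u

namespace Groth.Agent.Lib.Seat40.KoszulGeneric

open Polynomial CohIII
open scoped Pointwise
open Groth.Agent.Helper13Kz Groth.Agent.Helper13KzLift
open Groth.Agent.Lib.Seat31.KR

section PolyOf

variable {R : Type u} [CommRing R]

/-- the generic combination `a₀ + a₁ X + a₂ X² + …` of a list. -/
noncomputable def polyOf : List R → R[X]
  | [] => 0
  | a :: l => C a + X * polyOf l

@[simp] lemma polyOf_nil : polyOf ([] : List R) = 0 := rfl

@[simp] lemma polyOf_cons (a : R) (l : List R) : polyOf (a :: l) = C a + X * polyOf l := rfl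

lemma smul_polyOf_eq_zero : ∀ (l : List R) (a : R), a • polyOf l = 0 → ∀ x ∈ l, a * x = 0
  | [], _, _, x, hx => by simp at hx
  | b :: l, a, h, x, hx => by
    have h0 : a * b = 0 := by
      have := congrArg (fun p : R[X] => p.coeff 0) h
      simpa using this
    have h1 : a • polyOf l = 0 := by
      ext j
      have := congrArg (fun p : R[X] => p.coeff (j + 1)) h
      simpa using this
    rcases List.mem_cons.1 hx with rfl | hx'
    · exact h0
    · exact smul_polyOf_eq_zero l a h1 x hx'

lemma polyOf_mem : ∀ l : List R, polyOf l ∈ Ideal.ofList (l.map (C : R →+* R[X]))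
  | [] => by simp
  | a :: l => by
    rw [List.map_cons, Ideal.ofList_cons, polyOf_cons]
    refine Ideal.add_mem _ (Ideal.mem_sup_left (Ideal.mem_span_singleton_self _))
      (Ideal.mem_sup_right (Ideal.mul_mem_left _ _ (polyOf_mem l)))

/-- the generic combination of a list with zero annihilator is a nonzerodivisor. -/
lemma polyOf_mem_nonZeroDivisors (l : List R)
    (h : ∀ a : R, (∀ x ∈ l, a * x = 0) → a = 0) : polyOf l ∈ nonZeroDivisors R[X] :=
  Polynomial.mem_nonZeroDivisors_iff.2 fun a ha => h a (smul_polyOf_eq_zero l a ha)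

/-- a nonempty Koszul-regular sequence has zero annihilator. -/
lemma ann_eq_zero_of_koszul (l : List R) (hne : l ≠ []) (hl : LCI.IsKoszulRegularSeq R l)
    (a : R) (ha : ∀ x ∈ l, a * x = 0) : a = 0 := by
  rw [isKoszulRegularSeq_iff] at hl
  obtain ⟨e⟩ := Groth.Agent.Lib.Helper21.bottom_equiv R l (-(l.length : ℤ)) rfl
  have hlen : (-(l.length : ℤ)) ≠ 0 := by
    have : l.length ≠ 0 := fun h0 => hne (List.length_eq_zero_iff.1 h0)
    omega
  have hH : Subsingleton ((koszulCx (ModuleCat.of R R) l).homology (-(l.length : ℤ))) := hl _ hlen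
  have hsub : Subsingleton (Submodule.torsionBySet R R {x | x ∈ l}) := e.symm.toEquiv.subsingleton
  have hmem : a ∈ Submodule.torsionBySet R R {x | x ∈ l} := by
    rw [Submodule.mem_torsionBySet_iff]
    rintro ⟨x, hx⟩
    show x * a = 0
    rw [mul_comm]; exact ha x hx
  have := Subsingleton.elim (⟨a, hmem⟩ : Submodule.torsionBySet R R {x | x ∈ l}) 0
  exact congrArg Subtype.val this

end PolyOf

section Main

open RingTheory.Sequence

/-- transport of weakly regular sequences along ring isomorphisms -/
lemma isWeaklyRegular_map_ringEquiv {S S' : Type u} [CommRing S] [CommRing S'] (e : S ≃+* S')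
    (g : List S) (hg : IsWeaklyRegular S g) : IsWeaklyRegular S' (g.map e) := by
  refine (AddEquiv.isWeaklyRegular_congr (e := e.toAddEquiv) ?_).1 hg
  rw [List.forall₂_map_right_iff]
  exact List.forall₂_same.2 fun r _ x => by simp

/-- a nonzerodivisor `r` followed by lifts of a weakly regular sequence of `S / r` -/
lemma isWeaklyRegular_cons_of_surjective {S T : Type u} [CommRing S] [CommRing T] (ψ : S →+* T)
    (hψ : Function.Surjective ψ) (r : S) (hr : IsSMulRegular S r)
    (hker : RingHom.ker ψ = Ideal.span {r}) (gt : List S)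
    (h : IsWeaklyRegular T (gt.map ψ)) : IsWeaklyRegular S (r :: gt) := by
  rw [isWeaklyRegular_cons_iff]
  refine ⟨hr, ?_⟩
  letI : Algebra S T := ψ.toAlgebra
  have hsurj : Function.Surjective (Algebra.linearMap S T) := hψ
  have hker' : (r • (⊤ : Submodule S S)) = LinearMap.ker (Algebra.linearMap S T) := by
    ext x
    rw [LinearMap.mem_ker, Algebra.linearMap_apply, RingHom.algebraMap_toAlgebra,
      ← RingHom.mem_ker, hker, Ideal.mem_span_singleton',
      Submodule.mem_smul_pointwise_iff_exists]
    constructor
    · rintro ⟨y, -, rfl⟩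
      exact ⟨y, by rw [smul_eq_mul, mul_comm]⟩
    · rintro ⟨y, rfl⟩
      exact ⟨y, trivial, by rw [smul_eq_mul, mul_comm]⟩
  let e : QuotSMulTop r S ≃ₗ[S] T :=
    (Submodule.quotEquivOfEq _ _ hker').trans
      ((Algebra.linearMap S T).quotKerEquivOfSurjective hsurj)
  rw [e.isWeaklyRegular_congr, ← isWeaklyRegular_map_algebraMap_iff T T gt]
  exact h

lemma sup_ker_eq_of_map_eq {S T : Type u} [CommRing S] [CommRing T] (ψ : S →+* T)
    (hψ : Function.Surjective ψ) {r : S} (hker : RingHom.ker ψ = Ideal.span {r}) {I J : Ideal S}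
    (h : Ideal.map ψ I = Ideal.map ψ J) : I ⊔ Ideal.span {r} = J ⊔ Ideal.span {r} := by
  have := congrArg (Ideal.comap ψ) h
  rwa [Ideal.comap_map_of_surjective ψ hψ, Ideal.comap_map_of_surjective ψ hψ,
    ← RingHom.ker_eq_comap_bot, hker] at this

/-- the lifting step: a weakly regular sequence over `P / g₁` lifts to one over `P`. -/
lemma step {P P' : Type u} [CommRing P] [CommRing P'] (φ : P →+* P')
    (hφ : Function.Surjective φ) (g1 : P) (hnzd : g1 ∈ nonZeroDivisors P)
    (hker : RingHom.ker φ = Ideal.span {g1}) (I : Ideal P) (σ : Type)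
    (g' : List (MvPolynomial σ P')) (hreg : IsWeaklyRegular (MvPolynomial σ P') g')
    (hid : Ideal.ofList g' = (I.map φ).map (MvPolynomial.C : P' →+* MvPolynomial σ P')) :
    ∃ G : List (MvPolynomial σ P), IsWeaklyRegular (MvPolynomial σ P) G ∧
      Ideal.ofList G = (I ⊔ Ideal.span {g1}).map (MvPolynomial.C : P →+* MvPolynomial σ P) := by
  have hψ : Function.Surjective (MvPolynomial.map φ : MvPolynomial σ P →+* MvPolynomial σ P') :=
    MvPolynomial.map_surjective φ hφ
  have hkerψ : RingHom.ker (MvPolynomial.map φ : MvPolynomial σ P →+* MvPolynomial σ P') =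
      Ideal.span {MvPolynomial.C g1} := by
    rw [MvPolynomial.ker_map, hker, Ideal.map_span, Set.image_singleton]
  obtain ⟨gt, hgt⟩ := (List.map_surjective_iff.2 hψ) g'
  refine ⟨MvPolynomial.C g1 :: gt, ?_, ?_⟩
  · refine isWeaklyRegular_cons_of_surjective _ hψ (MvPolynomial.C g1) ?_ hkerψ gt ?_
    · intro p q hpq
      refine MvPolynomial.ext _ _ fun m => ?_
      have := congrArg (MvPolynomial.coeff m) hpq
      simp only [smul_eq_mul, MvPolynomial.coeff_C_mul] at this
      exact (mul_cancel_left_mem_nonZeroDivisors hnzd).1 this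
    · rw [hgt]; exact hreg
  · have h1 : Ideal.map (MvPolynomial.map φ : MvPolynomial σ P →+* MvPolynomial σ P')
        (I.map (MvPolynomial.C : P →+* MvPolynomial σ P)) =
        (I.map φ).map (MvPolynomial.C : P' →+* MvPolynomial σ P') := by
      rw [Ideal.map_map, Ideal.map_map]
      congr 1
      refine RingHom.ext fun x => ?_
      exact MvPolynomial.map_C φ x
    have h2 : Ideal.map (MvPolynomial.map φ : MvPolynomial σ P →+* MvPolynomial σ P')
        (Ideal.ofList gt) = Ideal.map (MvPolynomial.map φ)
          (I.map (MvPolynomial.C : P →+* MvPolynomial σ P)) := by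
      rw [Ideal.map_ofList, hgt, hid, h1]
    have h3 := sup_ker_eq_of_map_eq _ hψ hkerψ h2
    rw [Ideal.ofList_cons, sup_comm, h3, Ideal.map_sup, Ideal.map_span, Set.image_singleton]

theorem exists_regular_aux : ∀ (n : ℕ) (R : Type u) [CommRing R] (f : List R), f.length = n →
    LCI.IsKoszulRegularSeq R f →
    ∃ (σ : Type) (_ : Finite σ) (g : List (MvPolynomial σ R)),
      IsWeaklyRegular (MvPolynomial σ R) g ∧
      Ideal.ofList g = (Ideal.ofList f).map (MvPolynomial.C : R →+* MvPolynomial σ R)
  | 0, R, _, f, hlen, _ => by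
    obtain rfl := List.length_eq_zero_iff.1 hlen
    exact ⟨Empty, inferInstance, [], IsWeaklyRegular.nil _ _, by simp⟩
  | n + 1, R, _, f, hlen, hf => by
    obtain ⟨a, l, rfl⟩ := List.exists_cons_of_length_eq_add_one hlen
    have hl : l.length = n := by simpa using hlen
    have hflat : (C : R →+* R[X]).Flat := by
      rw [← Polynomial.algebraMap_eq]
      exact RingHom.flat_algebraMap_iff.2 inferInstance
    have hf1 : LCI.IsKoszulRegularSeq R[X] ((a :: l).map C) :=
      RegSeqFlat.koszul_of_flat _ hflat _ hf
    have hnzd : polyOf (a :: l) ∈ nonZeroDivisors R[X] :=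
      polyOf_mem_nonZeroDivisors _ (ann_eq_zero_of_koszul _ (by simp) hf)
    have hg1mem : polyOf (a :: l) ∈ Ideal.ofList ((a :: l).map C) := polyOf_mem _
    have hXmem : X * polyOf l ∈ Ideal.ofList (l.map (C : R →+* R[X])) :=
      Ideal.mul_mem_left _ _ (polyOf_mem l)
    have hCa : C a ∈ Ideal.ofList (l.map C ++ [polyOf (a :: l)]) := by
      rw [Ideal.ofList_append, Ideal.ofList_singleton]
      have : C a = polyOf (a :: l) - X * polyOf l := by rw [polyOf_cons]; ring
      rw [this]
      exact Ideal.sub_mem _ (Ideal.mem_sup_right (Ideal.mem_span_singleton_self _))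
        (Ideal.mem_sup_left hXmem)
    have hq : LCI.IsKoszulRegularSeq R[X] (l.map C ++ [polyOf (a :: l)]) := by
      refine kr_of_span_eq ((a :: l).map C) (l.map C ++ [polyOf (a :: l)]) hf1 (by simp) ?_ ?_
      · intro y hy
        rcases List.mem_append.1 hy with hy | hy
        · exact Ideal.subset_span (List.mem_cons_of_mem _ hy)
        · rw [List.mem_singleton] at hy; subst hy; exact hg1mem
      · intro x hx
        rw [List.map_cons, List.mem_cons] at hx
        rcases hx with rfl | hx
        · exact hCa
        · exact Ideal.subset_span (List.mem_append_left _ hx)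
    have hφ : Function.Surjective (Ideal.Quotient.mk (Ideal.span {polyOf (a :: l)})) :=
      Ideal.Quotient.mk_surjective
    have hker : RingHom.ker (Ideal.Quotient.mk (Ideal.span {polyOf (a :: l)})) =
        Ideal.ofList [polyOf (a :: l)] := by
      rw [Ideal.ofList_singleton]; exact Ideal.mk_ker
    have hl' : LCI.IsKoszulRegularSeq (R[X] ⧸ Ideal.span {polyOf (a :: l)})
        ((l.map C).map (Ideal.Quotient.mk (Ideal.span {polyOf (a :: l)}))) :=
      kr_map_of_append _ hφ [polyOf (a :: l)] (l.map C) hker (kr_singleton _ hnzd) hq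
    obtain ⟨σ, hσ, g', hg'reg, hg'id⟩ :=
      exists_regular_aux n (R[X] ⧸ Ideal.span {polyOf (a :: l)}) _ (by simp [hl]) hl'
    rw [← Ideal.map_ofList] at hg'id
    obtain ⟨G, hG, hGid⟩ := step _ hφ (polyOf (a :: l)) hnzd Ideal.mk_ker
      (Ideal.ofList (l.map (C : R →+* R[X]))) σ g' hg'reg hg'id
    have hideal : Ideal.ofList (l.map (C : R →+* R[X])) ⊔ Ideal.span {polyOf (a :: l)} =
        Ideal.ofList ((a :: l).map (C : R →+* R[X])) := by
      rw [List.map_cons, Ideal.ofList_cons, sup_comm]
      apply le_antisymm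
      · refine sup_le ?_ le_sup_right
        rw [Ideal.span_singleton_le_iff_mem, polyOf_cons]
        exact Ideal.add_mem _ (Ideal.mem_sup_left (Ideal.mem_span_singleton_self _))
          (Ideal.mem_sup_right hXmem)
      · refine sup_le ?_ le_sup_right
        rw [Ideal.span_singleton_le_iff_mem]
        have : C a = polyOf (a :: l) - X * polyOf l := by rw [polyOf_cons]; ring
        rw [this]
        exact Ideal.sub_mem _ (Ideal.mem_sup_left (Ideal.mem_span_singleton_self _))
          (Ideal.mem_sup_right hXmem)
    rw [hideal] at hGid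
    -- transfer to `MvPolynomial (Option σ) R`
    refine ⟨Option σ, inferInstance,
      G.map (MvPolynomial.optionEquivRight R σ).symm.toRingEquiv,
      isWeaklyRegular_map_ringEquiv (MvPolynomial.optionEquivRight R σ).symm.toRingEquiv _ hG, ?_⟩
    have := congrArg (Ideal.map ((MvPolynomial.optionEquivRight R σ).symm.toRingEquiv :
      MvPolynomial σ R[X] →+* MvPolynomial (Option σ) R)) hGid
    rw [Ideal.map_ofList, Ideal.map_ofList, Ideal.map_ofList] at this
    rw [Ideal.map_ofList]
    refine this.trans ?_
    congr 1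
    rw [List.map_map, List.map_map]
    refine List.map_congr_left fun x _ => ?_
    simp only [Function.comp_apply]
    show (MvPolynomial.optionEquivRight R σ).symm (MvPolynomial.C (C x)) = MvPolynomial.C x
    rw [← MvPolynomial.optionEquivRight_C, AlgEquiv.symm_apply_apply]

/-- **Koszul-regular sequences become regular after a polynomial extension.** -/
theorem exists_regular (R : Type u) [CommRing R] (f : List R)
    (hf : LCI.IsKoszulRegularSeq R f) :
    ∃ (σ : Type) (_ : Finite σ) (g : List (MvPolynomial σ R)),
      IsWeaklyRegular (MvPolynomial σ R) g ∧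
      Ideal.ofList g = (Ideal.ofList f).map (MvPolynomial.C : R →+* MvPolynomial σ R) :=
  exists_regular_aux f.length R f rfl hf

end Main

end Groth.Agent.Lib.Seat40.KoszulGeneric
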