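import Mathlib
import Groth.Prelude.Def_RegImm
import Groth.Agent.Lib.Seat40KoszulGeneric
import Groth.Agent.Lib.Seat40RegImmBC

/-!
# A Koszul-regular closed immersion becomes a regular immersion on a smooth cover (Seat 40)

`exists_smooth_cover`: for a Koszul-regular closed immersion `i : Z ⟶ X` there is a smooth
surjective `g : X' ⟶ X` (a disjoint union of polynomial charts over affine opens and of the open
complement of `Z`) such that the base change of `i` along `g` is a regular immersion.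
-/

set_option autoImplicit false
universe u

namespace Groth.Agent.Lib.Seat40.KoszulCover

open CategoryTheory Limits AlgebraicGeometry RingTheory.Sequence

theorem appLE_chart {X : Scheme.{u}} (U : X.Opens) (hU : IsAffineOpen U)
    {S : CommRingCat.{u}} (φ : Γ(X, U) ⟶ S) (q : Spec S ⟶ X)
    (hq : q = Spec.map φ ≫ hU.fromSpec) (e : (⊤ : (Spec S).Opens) ≤ q ⁻¹ᵁ U) :
    q.appLE U ⊤ e ≫ (Scheme.ΓSpecIso S).hom = φ := by
  subst hq
  rw [Scheme.Hom.comp_appLE, hU.fromSpec_app_self, Category.assoc, Category.assoc,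
    Scheme.Hom.map_appLE_assoc]
  have h1 : Scheme.Hom.appLE (Spec.map φ) ⊤ ⊤ le_top = (Spec.map φ).appTop := by
    simp [Scheme.Hom.appLE, Scheme.Hom.appTop]
  rw [h1, Scheme.ΓSpecIso_naturality, Iso.inv_hom_id_assoc]

/-- sections over the image of an affine chart -/
theorem exists_ringEquiv_chart {X' X : Scheme.{u}} (g : X' ⟶ X) (U : X.Opens) (hU : IsAffineOpen U)
    {S : CommRingCat.{u}} (φ : Γ(X, U) ⟶ S) (j : Spec S ⟶ X') [IsOpenImmersion j]
    (hj : j ≫ g = Spec.map φ ≫ hU.fromSpec) :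
    ∃ (hle : j ''ᵁ ⊤ ≤ g ⁻¹ᵁ U) (ε : Γ(X', j ''ᵁ ⊤) ≃+* S),
      (ε : Γ(X', j ''ᵁ ⊤) →+* S).comp (g.appLE U (j ''ᵁ ⊤) hle).hom = φ.hom := by
  have hle : j ''ᵁ ⊤ ≤ g ⁻¹ᵁ U := by
    rintro _ ⟨y, -, rfl⟩
    show g (j y) ∈ U
    rw [← Scheme.Hom.comp_apply, hj, Scheme.Hom.comp_apply]
    have : hU.fromSpec (Spec.map φ y) ∈ Set.range hU.fromSpec := Set.mem_range_self _
    rw [hU.range_fromSpec] at this
    exact this
  refine ⟨hle, ((j.appIso ⊤) ≪≫ Scheme.ΓSpecIso S).commRingCatIsoToRingEquiv, ?_⟩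
  have key : g.appLE U (j ''ᵁ ⊤) hle ≫ (j.appIso ⊤).hom ≫ (Scheme.ΓSpecIso S).hom = φ := by
    rw [Scheme.Hom.appIso_hom', ← Category.assoc, Scheme.Hom.appLE_comp_appLE]
    exact appLE_chart U hU φ (j ≫ g) hj _
  ext x
  have := congrArg (fun ψ : Γ(X, U) ⟶ S => ψ.hom x) key
  exact this

open Groth.Agent.Lib.Seat40

/-- the base change to a polynomial chart is regular -/
theorem regularAt_of_chart {Z X : Scheme.{u}} (i : Z ⟶ X) (U : X.affineOpens)
    (hcl : IsClosedImmersion (i ∣_ U.1)) (rs : List Γ(X, U.1))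
    (hker : RingHom.ker (i.app U.1).hom = Ideal.ofList rs)
    (σ : Type) (G : List (MvPolynomial σ Γ(X, U.1)))
    (hG : IsWeaklyRegular (MvPolynomial σ Γ(X, U.1)) G)
    (hGid : Ideal.ofList G =
      (Ideal.ofList rs).map (algebraMap Γ(X, U.1) (MvPolynomial σ Γ(X, U.1))))
    {X' Z' : Scheme.{u}} (g : X' ⟶ X)
    (j : Spec (CommRingCat.of (MvPolynomial σ Γ(X, U.1))) ⟶ X') [IsOpenImmersion j]
    (hj : j ≫ g = Spec.map (CommRingCat.ofHom
      (algebraMap Γ(X, U.1) (MvPolynomial σ Γ(X, U.1)))) ≫ U.2.fromSpec)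
    (i' : Z' ⟶ X') (g' : Z' ⟶ Z) (hsq : IsPullback g' i' i g) (z' : Z')
    (hz' : i' z' ∈ Set.range j) :
    RegImm.IsRegularImmersionAt .regular i' z' := by
  obtain ⟨hle, ε, hε⟩ := exists_ringEquiv_chart g U.1 U.2
    (CommRingCat.ofHom (algebraMap Γ(X, U.1) (MvPolynomial σ Γ(X, U.1)))) j hj
  let U' : X'.affineOpens := ⟨j ''ᵁ ⊤, (isAffineOpen_top _).image_of_isOpenImmersion j⟩
  obtain ⟨hcl', hker'⟩ := RegImmBC.ker_app_of_isPullback i g i' g' hsq U U' hle hcl
  have hmem : i' z' ∈ U'.1 := by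
    obtain ⟨y, hy⟩ := hz'
    exact ⟨y, trivial, hy⟩
  have hε' : (g.appLE U.1 (j ''ᵁ ⊤) hle).hom =
      (ε.symm : _ →+* Γ(X', j ''ᵁ ⊤)).comp
        (algebraMap Γ(X, U.1) (MvPolynomial σ Γ(X, U.1))) := by
    ext x
    have := congrArg (fun ψ : Γ(X, U.1) →+* _ => ε.symm (ψ x)) hε
    simpa using this
  have hkerG : RingHom.ker (i'.app U'.1).hom = Ideal.ofList (G.map ε.symm) := by
    rw [hker', hker, hε', ← Ideal.map_map, ← hGid, Ideal.map_ofList]
    rfl
  refine ⟨U', hmem, hcl', G.map ε.symm,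
    ⟨KoszulGeneric.isWeaklyRegular_map_ringEquiv ε.symm G hG, ?_⟩, hkerG⟩
  rw [← hkerG]
  intro htop
  have : Nonempty (i' ⁻¹ᵁ U'.1) := ⟨⟨z', hmem⟩⟩
  have h1 : (1 : Γ(X', U'.1)) ∈ RingHom.ker (i'.app U'.1).hom := by
    have : (1 : Γ(X', U'.1)) ∈
        (RingHom.ker (i'.app U'.1).hom • ⊤ : Submodule Γ(X', U'.1) Γ(X', U'.1)) := by
      rw [← htop]; trivial
    rwa [smul_eq_mul, Ideal.mul_top] at this
  rw [RingHom.mem_ker, map_one] at h1
  exact one_ne_zero h1

/-- local chart data at a point -/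
theorem exists_chart_data {Z X : Scheme.{u}} (i : Z ⟶ X)
    (hi : RegImm.IsRegularImmersion .koszul i) (z : Z) :
    ∃ (S : CommRingCat.{u}) (p : Spec S ⟶ X), Smooth p ∧ i z ∈ Set.range p ∧
      ∀ {X' Z' : Scheme.{u}} (g : X' ⟶ X) (j : Spec S ⟶ X') [IsOpenImmersion j], j ≫ g = p →
        ∀ (i' : Z' ⟶ X') (g' : Z' ⟶ Z), IsPullback g' i' i g → ∀ z' : Z', i' z' ∈ Set.range j →
          RegImm.IsRegularImmersionAt .regular i' z' := by
  obtain ⟨U, hzU, hcl, rs, hrs, hker⟩ := hi.2 z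
  obtain ⟨σ, hσ, G, hG, hGid⟩ := KoszulGeneric.exists_regular Γ(X, U.1) rs hrs
  rw [← MvPolynomial.algebraMap_eq] at hGid
  refine ⟨CommRingCat.of (MvPolynomial σ Γ(X, U.1)),
    Spec.map (CommRingCat.ofHom (algebraMap Γ(X, U.1) (MvPolynomial σ Γ(X, U.1)))) ≫
      U.2.fromSpec, ?_, ?_, ?_⟩
  · have h1 : Smooth (Spec.map (CommRingCat.ofHom
        (algebraMap Γ(X, U.1) (MvPolynomial σ Γ(X, U.1))))) := by
      rw [HasRingHomProperty.Spec_iff (P := @Smooth)]
      show (algebraMap Γ(X, U.1) (MvPolynomial σ Γ(X, U.1))).Smooth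
      rw [RingHom.smooth_algebraMap]
      exact ⟨inferInstance, inferInstance⟩
    infer_instance
  · have hz : i z ∈ Set.range U.2.fromSpec := by
      rw [U.2.range_fromSpec]; exact hzU
    obtain ⟨y, hy⟩ := hz
    let ρ : CommRingCat.of (MvPolynomial σ Γ(X, U.1)) ⟶ Γ(X, U.1) :=
      CommRingCat.ofHom (MvPolynomial.eval₂Hom (RingHom.id _) (fun _ => 0))
    have hρ : CommRingCat.ofHom (algebraMap Γ(X, U.1) (MvPolynomial σ Γ(X, U.1))) ≫ ρ =
        𝟙 (CommRingCat.of Γ(X, U.1)) := by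
      refine CommRingCat.hom_ext (RingHom.ext fun x => ?_)
      show MvPolynomial.eval₂Hom (RingHom.id _) (fun _ => 0)
        (algebraMap Γ(X, U.1) (MvPolynomial σ Γ(X, U.1)) x) = x
      simp
    have h2 : Spec.map ρ ≫ Spec.map (CommRingCat.ofHom
        (algebraMap Γ(X, U.1) (MvPolynomial σ Γ(X, U.1)))) =
        𝟙 (Spec (CommRingCat.of Γ(X, U.1))) := by
      rw [← Spec.map_comp, hρ, Spec.map_id]
    refine ⟨Spec.map ρ y, ?_⟩
    have h3 : (Spec.map (CommRingCat.ofHom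
        (algebraMap Γ(X, U.1) (MvPolynomial σ Γ(X, U.1))))) ((Spec.map ρ) y) = y := by
      rw [← Scheme.Hom.comp_apply, h2]; rfl
    rw [Scheme.Hom.comp_apply, h3]
    exact hy
  · intro X' Z' g j _ hj i' g' hsq z' hz'
    exact regularAt_of_chart i U hcl rs hker σ G hG hGid g j hj i' g' hsq z' hz'

/-- the pieces of the cover -/
noncomputable def coverObj {Z X : Scheme.{u}} (W : X.Opens) (S : Z → CommRingCat.{u}) :
    Option Z → Scheme.{u}
  | none => W.toScheme
  | some z => Spec (S z)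

/-- the maps of the cover -/
noncomputable def coverMap {Z X : Scheme.{u}} (W : X.Opens) (S : Z → CommRingCat.{u})
    (p : ∀ z, Spec (S z) ⟶ X) : ∀ k, coverObj W S k ⟶ X
  | none => W.ι
  | some z => p z

/-- **A Koszul-regular closed immersion becomes regular on a smooth cover.** -/
theorem exists_smooth_cover {Z X : Scheme.{u}} (i : Z ⟶ X) [IsClosedImmersion i]
    (hi : RegImm.IsRegularImmersion .koszul i) :
    ∃ (X' : Scheme.{u}) (g : X' ⟶ X), Smooth g ∧ Surjective g ∧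
      RegImm.IsRegularImmersion .regular (pullback.snd i g) := by
  choose S p hsm hmem hreg using exists_chart_data i hi
  let W : X.Opens := ⟨(Set.range i)ᶜ, i.isClosedEmbedding.isClosed_range.isOpen_compl⟩
  refine ⟨∐ coverObj W S, Sigma.desc (coverMap W S p), ?_, ⟨?_⟩, inferInstance, ?_⟩
  · rw [IsZariskiLocalAtSource.iff_of_openCover (P := @Smooth) (sigmaOpenCover (coverObj W S))]
    intro k
    show Smooth (Sigma.ι (coverObj W S) k ≫ Sigma.desc (coverMap W S p))
    rw [Sigma.ι_desc]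
    cases k with
    | none => show Smooth W.ι; infer_instance
    | some z => exact hsm z
  · intro x
    by_cases hx : x ∈ Set.range i
    · obtain ⟨z, rfl⟩ := hx
      obtain ⟨y, hy⟩ := hmem z
      refine ⟨Sigma.ι (coverObj W S) (some z) y, ?_⟩
      rw [← Scheme.Hom.comp_apply, Sigma.ι_desc]
      exact hy
    · refine ⟨Sigma.ι (coverObj W S) none (⟨x, hx⟩ : W), ?_⟩
      rw [← Scheme.Hom.comp_apply, Sigma.ι_desc]
      rfl
  · intro z'
    obtain ⟨k, y, hy⟩ := (sigmaOpenCover (coverObj W S)).exists_eq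
      (pullback.snd i (Sigma.desc (coverMap W S p)) z')
    change Sigma.ι (coverObj W S) k y = _ at hy
    cases k with
    | none =>
      exfalso
      have h1 : Sigma.desc (coverMap W S p)
          (pullback.snd i (Sigma.desc (coverMap W S p)) z') =
          i (pullback.fst i (Sigma.desc (coverMap W S p)) z') := by
        rw [← Scheme.Hom.comp_apply, ← Scheme.Hom.comp_apply, pullback.condition]
      rw [← hy, ← Scheme.Hom.comp_apply, Sigma.ι_desc] at h1
      have h2 : W.ι y ∈ W := y.2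
      exact h2 ⟨_, h1.symm⟩
    | some z =>
      have hopen : IsOpenImmersion (Sigma.ι (coverObj W S) (some z)) := inferInstance
      exact @hreg z _ _ (Sigma.desc (coverMap W S p)) (Sigma.ι (coverObj W S) (some z)) hopen
        (Sigma.ι_desc _ _) _ _ (IsPullback.of_hasPullback i _) z' ⟨y, hy⟩

end Groth.Agent.Lib.Seat40.KoszulCover
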