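import Mathlib
import Groth.Agent.Lib.Helper5NilProj

/-!
# Split exactness of adic completions (seat 41)

For a short exact sequence `0 → K → P → M → 0` with `M` flat and `M/IM` projective over `R/I`,
the sequence of `I`-adic completions is split exact.
-/

set_option autoImplicit false
set_option linter.style.haveILetI false
universe u
open scoped TensorProduct

namespace Groth.Agent.Lib.Seat41.AdicSplit

variable {R : Type u} [CommRing R]

section Level

variable (J : Ideal R) {K P M : Type u} [AddCommGroup K] [Module R K] [AddCommGroup P]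
  [Module R P] [AddCommGroup M] [Module R M] (f : K →ₗ[R] P) (g : P →ₗ[R] M)

/-- `reduceModIdeal` corresponds to `lTensor (R ⧸ J)` under `quotTensorEquivQuotSMul`. -/
lemma reduce_comm (x : (R ⧸ J) ⊗[R] K) :
    f.reduceModIdeal J (TensorProduct.quotTensorEquivQuotSMul K J x) =
      TensorProduct.quotTensorEquivQuotSMul P J (f.lTensor (R ⧸ J) x) := by
  induction x using TensorProduct.induction_on with
  | zero => simp
  | tmul a k =>
    obtain ⟨a, rfl⟩ := Ideal.Quotient.mk_surjective a
    simp
  | add x y hx hy => simp only [map_add, hx, hy]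

lemma reduce_comm' :
    (f.reduceModIdeal J).restrictScalars R ∘ₗ (TensorProduct.quotTensorEquivQuotSMul K J : _ →ₗ[R] _) =
      (TensorProduct.quotTensorEquivQuotSMul P J : _ →ₗ[R] _) ∘ₗ f.lTensor (R ⧸ J) :=
  LinearMap.ext fun x => reduce_comm J f x

include g in
lemma reduce_injective (hf : Function.Injective f) (hg : Function.Surjective g)
    (hfg : Function.Exact f g) [Module.Flat R M] :
    Function.Injective (f.reduceModIdeal J) := by
  have h := LinearMap.lTensor_injective_of_exact_of_flat g hg f hf hfg (R ⧸ J)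
  intro x y hxy
  obtain ⟨x, rfl⟩ := (TensorProduct.quotTensorEquivQuotSMul K J).surjective x
  obtain ⟨y, rfl⟩ := (TensorProduct.quotTensorEquivQuotSMul K J).surjective y
  rw [reduce_comm, reduce_comm] at hxy
  rw [h ((TensorProduct.quotTensorEquivQuotSMul P J).injective hxy)]

lemma reduce_exact (hg : Function.Surjective g) (hfg : Function.Exact f g) :
    Function.Exact (f.reduceModIdeal J) (g.reduceModIdeal J) := by
  have h := lTensor_exact (R ⧸ J) hfg hg
  have := (Function.Exact.iff_of_ladder_linearEquiv (reduce_comm' J f) (reduce_comm' J g)).mpr h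
  exact this

lemma reduce_surjective (hg : Function.Surjective g) :
    Function.Surjective (g.reduceModIdeal J) := by
  intro x
  obtain ⟨x, rfl⟩ := Submodule.Quotient.mk_surjective _ x
  obtain ⟨y, rfl⟩ := hg x
  exact ⟨Submodule.Quotient.mk y, rfl⟩

end Level

section Completion

variable (I : Ideal R) {K P M : Type u} [AddCommGroup K] [Module R K] [AddCommGroup P]
  [Module R P] [AddCommGroup M] [Module R M] (f : K →ₗ[R] P) (g : P →ₗ[R] M)

include g in
/-- The map on completions induced by the injection of a short exact sequence with flat cokernel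
is injective. -/
theorem map_injective (hf : Function.Injective f) (hg : Function.Surjective g)
    (hfg : Function.Exact f g) [Module.Flat R M] :
    Function.Injective (AdicCompletion.map I f) := by
  intro x y hxy
  apply AdicCompletion.ext
  intro n
  apply reduce_injective (I ^ n) f g hf hg hfg
  have := congrArg (fun z => z.val n) hxy
  simpa only [AdicCompletion.map_val_apply] using this

/-- Exactness in the middle of the completed sequence. -/
theorem map_exact (hf : Function.Injective f) (hg : Function.Surjective g)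
    (hfg : Function.Exact f g) [Module.Flat R M] :
    Function.Exact (AdicCompletion.map I f) (AdicCompletion.map I g) := by
  intro y
  constructor
  · intro hy
    have h1 : ∀ n, ∃ x, f.reduceModIdeal (I ^ n) x = y.val n := by
      intro n
      apply (reduce_exact (I ^ n) f g hg hfg (y.val n)).mp
      have := congrArg (fun z => z.val n) hy
      simpa only [AdicCompletion.map_val_apply, AdicCompletion.val_zero_apply] using this
    choose x hx using h1
    refine ⟨⟨x, ?_⟩, ?_⟩
    · intro m n hmn
      apply reduce_injective (I ^ m) f g hf hg hfg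
      have h2 := LinearMap.congr_fun (AdicCompletion.transitionMap_comp_reduceModIdeal I f hmn) (x n)
      simp only [LinearMap.comp_apply, LinearMap.coe_restrictScalars] at h2
      rw [← h2, hx, hx]
      exact y.property hmn
    · apply AdicCompletion.ext
      intro n
      exact hx n
  · rintro ⟨x, rfl⟩
    rw [AdicCompletion.map_comp_apply, hfg.linearMap_comp_eq_zero, AdicCompletion.map_zero]
    rfl

end Completion

section Proj

variable (I : Ideal R) (M : Type u) [AddCommGroup M] [Module R M]

/-- If `M/IM` is projective over `R/I` and `B` is an `R`-algebra killed by `I`, then `B ⊗ M` is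
projective over `B`. -/
theorem projective_baseChange_of_quotient
    [Module.Projective (R ⧸ I) (M ⧸ (I • ⊤ : Submodule R M))]
    (B : Type u) [CommRing B] [Algebra R B] (hB : ∀ x ∈ I, algebraMap R B x = 0) :
    Module.Projective B (B ⊗[R] M) := by
  letI : Algebra (R ⧸ I) B := (Ideal.Quotient.lift I (algebraMap R B) hB).toAlgebra
  haveI : IsScalarTower R (R ⧸ I) B := IsScalarTower.of_algebraMap_eq fun r => rfl
  have hs : Function.Surjective (algebraMap R (R ⧸ I)) := Ideal.Quotient.mk_surjective
  haveI : Module.Projective (R ⧸ I) ((R ⧸ I) ⊗[R] M) :=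
    Module.Projective.of_equiv
      ((TensorProduct.quotTensorEquivQuotSMul M I).extendScalarsOfSurjective hs).symm
  haveI : Module.Projective B (B ⊗[R ⧸ I] ((R ⧸ I) ⊗[R] M)) := Module.Projective.tensorProduct
  exact Module.Projective.of_equiv
    (TensorProduct.AlgebraTensorModule.cancelBaseChange R (R ⧸ I) B B M)

/-- `M/I^nM` is projective over `R/I^n` when `M` is flat and `M/IM` is projective over `R/I`. -/
theorem projective_quotient_pow [Module.Flat R M]
    [Module.Projective (R ⧸ I) (M ⧸ (I • ⊤ : Submodule R M))] (n : ℕ) :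
    Module.Projective (R ⧸ I ^ n) (M ⧸ (I ^ n • ⊤ : Submodule R M)) := by
  set J : Ideal (R ⧸ I ^ n) := I.map (Ideal.Quotient.mk (I ^ n)) with hJ
  have hnil : IsNilpotent J := by
    refine ⟨n, ?_⟩
    rw [hJ, ← Ideal.map_pow, Ideal.map_quotient_self]
    rfl
  have hB : ∀ x ∈ I, algebraMap R ((R ⧸ I ^ n) ⧸ J) x = 0 := by
    intro x hx
    rw [IsScalarTower.algebraMap_apply R (R ⧸ I ^ n) ((R ⧸ I ^ n) ⧸ J)]
    exact Ideal.Quotient.eq_zero_iff_mem.mpr (Ideal.mem_map_of_mem _ hx)
  haveI := projective_baseChange_of_quotient I M ((R ⧸ I ^ n) ⧸ J) hB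
  have h1 : Module.Projective ((R ⧸ I ^ n) ⧸ J)
      (((R ⧸ I ^ n) ⧸ J) ⊗[R ⧸ I ^ n] ((R ⧸ I ^ n) ⊗[R] M)) :=
    Module.Projective.of_equiv
      (TensorProduct.AlgebraTensorModule.cancelBaseChange R (R ⧸ I ^ n) ((R ⧸ I ^ n) ⧸ J)
        ((R ⧸ I ^ n) ⧸ J) M).symm
  have h2 : Module.Projective (R ⧸ I ^ n) ((R ⧸ I ^ n) ⊗[R] M) :=
    Groth.Agent.Lib.Helper5.projective_of_flat_of_projective_quotient_of_isNilpotent hnil _ h1
  have hs : Function.Surjective (algebraMap R (R ⧸ I ^ n)) := Ideal.Quotient.mk_surjective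
  exact Module.Projective.of_equiv
    ((TensorProduct.quotTensorEquivQuotSMul M (I ^ n)).extendScalarsOfSurjective hs)

end Proj

section Lift

variable (J : Ideal R) (M : Type u) [AddCommGroup M] [Module R M]

/-- `R`-linear lifting property of a module projective over `R ⧸ J` against surjections
of `J`-torsion modules. -/
theorem exists_lift_of_torsion [Module (R ⧸ J) M] [IsScalarTower R (R ⧸ J) M]
    [Module.Projective (R ⧸ J) M]
    {A B : Type u} [AddCommGroup A] [Module R A] [AddCommGroup B] [Module R B]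
    (hA : Module.IsTorsionBySet R A (J : Set R)) (hB : Module.IsTorsionBySet R B (J : Set R))
    (p : A →ₗ[R] B) (hp : Function.Surjective p) (φ : M →ₗ[R] B) :
    ∃ ψ : M →ₗ[R] A, p ∘ₗ ψ = φ := by
  letI := hA.module
  letI := hB.module
  haveI : IsScalarTower R (R ⧸ J) A := hA.isScalarTower
  haveI : IsScalarTower R (R ⧸ J) B := hB.isScalarTower
  have hs : Function.Surjective (algebraMap R (R ⧸ J)) := Ideal.Quotient.mk_surjective
  obtain ⟨ψ, hψ⟩ := Module.projective_lifting_property (p.extendScalarsOfSurjective hs)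
    (φ.extendScalarsOfSurjective hs) hp
  exact ⟨ψ.restrictScalars R, LinearMap.ext fun x => LinearMap.congr_fun hψ x⟩

/-- Variant: lifting through a not necessarily surjective map, given a range inclusion. -/
theorem exists_lift_of_range_le [Module (R ⧸ J) M] [IsScalarTower R (R ⧸ J) M]
    [Module.Projective (R ⧸ J) M]
    {A B : Type u} [AddCommGroup A] [Module R A] [AddCommGroup B] [Module R B]
    (hA : Module.IsTorsionBySet R A (J : Set R)) (hB : Module.IsTorsionBySet R B (J : Set R))
    (p : A →ₗ[R] B) (φ : M →ₗ[R] B) (h : LinearMap.range φ ≤ LinearMap.range p) :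
    ∃ ψ : M →ₗ[R] A, p ∘ₗ ψ = φ := by
  have hB' : Module.IsTorsionBySet R (LinearMap.range p) (J : Set R) :=
    fun x a => Subtype.ext (hB (x := x.1) (a := a))
  obtain ⟨ψ, hψ⟩ := exists_lift_of_torsion J M hA hB' p.rangeRestrict
    p.surjective_rangeRestrict (φ.codRestrict (LinearMap.range p) fun x => h ⟨x, rfl⟩)
  refine ⟨ψ, LinearMap.ext fun x => ?_⟩
  have := LinearMap.congr_fun hψ x
  exact congrArg Subtype.val this

end Lift

section Step

variable (I : Ideal R) {K P M : Type u} [AddCommGroup K] [Module R K] [AddCommGroup P]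
  [Module R P] [AddCommGroup M] [Module R M] (f : K →ₗ[R] P) (g : P →ₗ[R] M)

lemma torsion_quotient_of_le (X : Type u) [AddCommGroup X] [Module R X] {m n : ℕ} (h : m ≤ n) :
    Module.IsTorsionBySet R (X ⧸ (I ^ m • ⊤ : Submodule R X)) ((I ^ n : Ideal R) : Set R) := by
  intro x a
  exact Module.isTorsionBySet_quotient_ideal_smul X (I ^ m) (x := x)
    (a := ⟨a.1, Ideal.pow_le_pow_right h a.2⟩)

/-- Any splitting at level `n` extends to a compatible splitting at level `n + 1`. -/
theorem exists_succ_splitting (hg : Function.Surjective g)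
    (hfg : Function.Exact f g) [Module.Flat R M]
    [Module.Projective (R ⧸ I) (M ⧸ (I • ⊤ : Submodule R M))] (n : ℕ)
    (σ : M ⧸ (I ^ n • ⊤ : Submodule R M) →ₗ[R] P ⧸ (I ^ n • ⊤ : Submodule R P))
    (hσ : ∀ x, g.reduceModIdeal (I ^ n) (σ x) = x) :
    ∃ σ' : M ⧸ (I ^ (n + 1) • ⊤ : Submodule R M) →ₗ[R] P ⧸ (I ^ (n + 1) • ⊤ : Submodule R P),
      (∀ x, g.reduceModIdeal (I ^ (n + 1)) (σ' x) = x) ∧
      ∀ x, AdicCompletion.transitionMap I P (Nat.le_succ n) (σ' x) =
        σ (AdicCompletion.transitionMap I M (Nat.le_succ n) x) := by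
  haveI := projective_quotient_pow I M (n + 1)
  -- an arbitrary splitting at level `n + 1`
  obtain ⟨σ₀, hσ₀⟩ := exists_lift_of_torsion (I ^ (n + 1)) (M ⧸ (I ^ (n + 1) • ⊤ : Submodule R M))
    (torsion_quotient_of_le I P le_rfl) (torsion_quotient_of_le I M le_rfl)
    ((g.reduceModIdeal (I ^ (n + 1))).restrictScalars R)
    (reduce_surjective (I ^ (n + 1)) g hg) LinearMap.id
  have hσ₀' : ∀ x, g.reduceModIdeal (I ^ (n + 1)) (σ₀ x) = x := fun x => LinearMap.congr_fun hσ₀ x
  -- transition compatibility of the reductions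
  have hgτ : ∀ y, AdicCompletion.transitionMap I M (Nat.le_succ n)
      (g.reduceModIdeal (I ^ (n + 1)) y) =
      g.reduceModIdeal (I ^ n) (AdicCompletion.transitionMap I P (Nat.le_succ n) y) := fun y =>
    LinearMap.congr_fun (AdicCompletion.transitionMap_comp_reduceModIdeal I g (Nat.le_succ n)) y
  have hfτ : ∀ y, AdicCompletion.transitionMap I P (Nat.le_succ n)
      (f.reduceModIdeal (I ^ (n + 1)) y) =
      f.reduceModIdeal (I ^ n) (AdicCompletion.transitionMap I K (Nat.le_succ n) y) := fun y =>
    LinearMap.congr_fun (AdicCompletion.transitionMap_comp_reduceModIdeal I f (Nat.le_succ n)) y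
  -- the defect
  set δ : M ⧸ (I ^ (n + 1) • ⊤ : Submodule R M) →ₗ[R] P ⧸ (I ^ n • ⊤ : Submodule R P) :=
    AdicCompletion.transitionMap I P (Nat.le_succ n) ∘ₗ σ₀ -
      σ ∘ₗ AdicCompletion.transitionMap I M (Nat.le_succ n) with hδ
  have hδg : ∀ x, g.reduceModIdeal (I ^ n) (δ x) = 0 := by
    intro x
    rw [hδ, LinearMap.sub_apply, map_sub, LinearMap.comp_apply, LinearMap.comp_apply, ← hgτ,
      hσ₀', hσ, sub_self]
  obtain ⟨ε, hε⟩ := exists_lift_of_range_le (I ^ (n + 1)) (M ⧸ (I ^ (n + 1) • ⊤ : Submodule R M))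
    (torsion_quotient_of_le I K le_rfl) (torsion_quotient_of_le I P (Nat.le_succ n))
    ((f.reduceModIdeal (I ^ n)).restrictScalars R ∘ₗ
      AdicCompletion.transitionMap I K (Nat.le_succ n)) δ (by
      rintro _ ⟨x, rfl⟩
      obtain ⟨k, hk⟩ := (reduce_exact (I ^ n) f g hg hfg (δ x)).mp (hδg x)
      obtain ⟨k', rfl⟩ := Submodule.factor_surjective
        (Submodule.pow_smul_top_le I K (Nat.le_succ n)) k
      exact ⟨k', hk⟩)
  have hε' : ∀ x, f.reduceModIdeal (I ^ n)
      (AdicCompletion.transitionMap I K (Nat.le_succ n) (ε x)) = δ x :=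
    fun x => LinearMap.congr_fun hε x
  refine ⟨σ₀ - (f.reduceModIdeal (I ^ (n + 1))).restrictScalars R ∘ₗ ε, fun x => ?_, fun x => ?_⟩
  · rw [LinearMap.sub_apply, map_sub, hσ₀', LinearMap.comp_apply, LinearMap.coe_restrictScalars,
      (reduce_exact (I ^ (n + 1)) f g hg hfg _).mpr ⟨_, rfl⟩, sub_zero]
  · rw [LinearMap.sub_apply, map_sub, LinearMap.comp_apply, LinearMap.coe_restrictScalars, hfτ,
      hε', hδ, LinearMap.sub_apply, LinearMap.comp_apply, LinearMap.comp_apply]
    abel

include f in
/-- A compatible system of splittings of the reductions of `g`. -/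
theorem exists_compatible_splittings (hg : Function.Surjective g)
    (hfg : Function.Exact f g) [Module.Flat R M]
    [Module.Projective (R ⧸ I) (M ⧸ (I • ⊤ : Submodule R M))] :
    ∃ σ : ∀ n, M ⧸ (I ^ n • ⊤ : Submodule R M) →ₗ[R] P ⧸ (I ^ n • ⊤ : Submodule R P),
      (∀ n x, g.reduceModIdeal (I ^ n) (σ n x) = x) ∧
      ∀ {m n : ℕ} (hmn : m ≤ n),
        AdicCompletion.transitionMap I P hmn ∘ₗ σ n = σ m ∘ₗ AdicCompletion.transitionMap I M hmn := by
  haveI := projective_quotient_pow I M 0
  obtain ⟨σ₀, hσ₀⟩ := exists_lift_of_torsion (I ^ 0) (M ⧸ (I ^ 0 • ⊤ : Submodule R M))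
    (torsion_quotient_of_le I P le_rfl) (torsion_quotient_of_le I M le_rfl)
    ((g.reduceModIdeal (I ^ 0)).restrictScalars R)
    (reduce_surjective (I ^ 0) g hg) LinearMap.id
  have step : ∀ (n : ℕ)
      (s : {σ : M ⧸ (I ^ n • ⊤ : Submodule R M) →ₗ[R] P ⧸ (I ^ n • ⊤ : Submodule R P) //
        ∀ x, g.reduceModIdeal (I ^ n) (σ x) = x}),
      ∃ s' : {σ : M ⧸ (I ^ (n + 1) • ⊤ : Submodule R M) →ₗ[R]
          P ⧸ (I ^ (n + 1) • ⊤ : Submodule R P) //
        ∀ x, g.reduceModIdeal (I ^ (n + 1)) (σ x) = x},
        ∀ x, AdicCompletion.transitionMap I P (Nat.le_succ n) (s'.1 x) =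
          s.1 (AdicCompletion.transitionMap I M (Nat.le_succ n) x) := by
    intro n s
    obtain ⟨σ', h1, h2⟩ := exists_succ_splitting I f g hg hfg n s.1 s.2
    exact ⟨⟨σ', h1⟩, h2⟩
  choose next hnext using step
  let seq : ∀ n, {σ : M ⧸ (I ^ n • ⊤ : Submodule R M) →ₗ[R] P ⧸ (I ^ n • ⊤ : Submodule R P) //
      ∀ x, g.reduceModIdeal (I ^ n) (σ x) = x} :=
    fun n => Nat.rec ⟨σ₀, fun x => LinearMap.congr_fun hσ₀ x⟩ (fun n s => next n s) n
  have hseq : ∀ n x, AdicCompletion.transitionMap I P (Nat.le_succ n) ((seq (n + 1)).1 x) =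
      (seq n).1 (AdicCompletion.transitionMap I M (Nat.le_succ n) x) := fun n x => hnext n (seq n) x
  refine ⟨fun n => (seq n).1, fun n => (seq n).2, ?_⟩
  intro m n hmn
  induction n, hmn using Nat.le_induction with
  | base =>
    ext x
    simp
  | succ n hmn ih =>
    ext x
    have h1 : AdicCompletion.transitionMap I P (hmn.trans (Nat.le_succ n)) =
        AdicCompletion.transitionMap I P hmn ∘ₗ AdicCompletion.transitionMap I P (Nat.le_succ n) :=
      (Submodule.factor_comp _ _).symm
    have h2 : AdicCompletion.transitionMap I M (hmn.trans (Nat.le_succ n)) =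
        AdicCompletion.transitionMap I M hmn ∘ₗ AdicCompletion.transitionMap I M (Nat.le_succ n) :=
      (Submodule.factor_comp _ _).symm
    have ih' := fun y => LinearMap.congr_fun ih y
    simp only [LinearMap.comp_apply] at ih'
    show AdicCompletion.transitionMap I P (hmn.trans (Nat.le_succ n))
      ((seq (n + 1)).1 (Submodule.Quotient.mk x)) =
      (seq m).1 (AdicCompletion.transitionMap I M (hmn.trans (Nat.le_succ n))
        (Submodule.Quotient.mk x))
    rw [h1, h2, LinearMap.comp_apply, LinearMap.comp_apply, hseq, ih']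

/-- The surjection on completions has a section which is linear over the completed ring. -/
theorem exists_section (hg : Function.Surjective g)
    (hfg : Function.Exact f g) [Module.Flat R M]
    [Module.Projective (R ⧸ I) (M ⧸ (I • ⊤ : Submodule R M))] :
    ∃ s : AdicCompletion I M →ₗ[AdicCompletion I R] AdicCompletion I P,
      AdicCompletion.map I g ∘ₗ s = LinearMap.id := by
  obtain ⟨σ, hσ, hcompat⟩ := exists_compatible_splittings I f g hg hfg
  let s₀ : AdicCompletion I M →ₗ[R] AdicCompletion I P :=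
    AdicCompletion.lift I (fun n => σ n ∘ₗ AdicCompletion.eval I M n) (fun {m n} hmn => by
      rw [← LinearMap.comp_assoc, hcompat hmn, LinearMap.comp_assoc,
        AdicCompletion.transitionMap_comp_eval])
  have hs₀ : ∀ x n, (s₀ x).val n = σ n (x.val n) := fun x n => rfl
  refine ⟨{ toFun := s₀, map_add' := s₀.map_add, map_smul' := fun r x => ?_ }, ?_⟩
  · apply AdicCompletion.ext
    intro n
    simp only [RingHom.id_apply, AdicCompletion.smul_eval, hs₀]
    rw [AdicCompletion.val_smul_eq_evalₐ_smul, AdicCompletion.val_smul_eq_evalₐ_smul]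
    obtain ⟨r', hr'⟩ := Ideal.Quotient.mk_surjective (AdicCompletion.evalₐ I n r)
    rw [← hr']
    have e1 : ∀ (X : Type u) [AddCommGroup X] [Module R X] (y : X ⧸ (I ^ n • ⊤ : Submodule R X)),
        Ideal.Quotient.mk (I ^ n) r' • y = r' • y := fun X _ _ y =>
      algebraMap_smul (R ⧸ I ^ n) r' y
    rw [e1, e1, map_smul]
  · refine LinearMap.ext fun x => ?_
    apply AdicCompletion.ext
    intro n
    simp only [LinearMap.comp_apply, LinearMap.coe_mk, AddHom.coe_mk, LinearMap.id_apply,
      AdicCompletion.map_val_apply]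
    rw [hs₀, hσ]

end Step

end Groth.Agent.Lib.Seat41.AdicSplit
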