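import Mathlib
import Groth.Agent.Lib.Helper13HomologyColim

/-!
# Sequential colimits of complexes and quasi-isomorphisms (Seat41)

If `Kc : ℕ ⥤ CochainComplex A ℤ` and `s` is a cocone with point `G` whose legs are eventually
quasi-isomorphisms in each degree, then the induced map `colimit Kc ⟶ G` is a
quasi-isomorphism, provided `ℕ`-indexed colimits are exact in `A`.
-/

set_option autoImplicit false
set_option linter.style.haveILetI false
universe v u
open CategoryTheory CategoryTheory.Limits

namespace Groth.Agent.Lib.Seat41.SeqColim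

variable {A : Type u} [Category.{v} A] [Abelian A] [HasColimitsOfShape ℕ A]
  [HasExactColimitsOfShape ℕ A]

theorem quasiIso_colimit_desc (Kc : ℕ ⥤ CochainComplex A ℤ) (s : Cocone Kc)
    (h : ∀ i : ℤ, ∃ N : ℕ, ∀ n : ℕ, N ≤ n → QuasiIsoAt (s.ι.app n) i) :
    QuasiIso (colimit.desc Kc s) where
  quasiIsoAt i := by
    rw [quasiIsoAt_iff_isIso_homologyMap]
    obtain ⟨N, hN⟩ := h i
    let H := HomologicalComplex.homologyFunctor A (ComplexShape.up ℤ) i
    haveI : PreservesColimitsOfShape ℕ H :=
      Groth.Agent.Helper13HomologyColim.preservesColimitsOfShape_homologicalComplex_homologyFunctor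
        (ComplexShape.up ℤ) i
    have hc : IsColimit (H.mapCocone (colimit.cocone Kc)) :=
      isColimitOfPreserves H (colimit.isColimit Kc)
    have hiso : ∀ n, N ≤ n → IsIso (H.map (s.ι.app n)) := fun n hn =>
      (quasiIsoAt_iff_isIso_homologyMap _ _).1 (hN n hn)
    have hconst : (Kc ⋙ H).IsEventuallyConstantFrom N := by
      intro j f
      haveI := hiso N le_rfl
      haveI := hiso j (leOfHom f)
      have e : (Kc ⋙ H).map f ≫ H.map (s.ι.app j) = H.map (s.ι.app N) := by
        rw [Functor.comp_map, ← H.map_comp, s.w f]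
      haveI : IsIso ((Kc ⋙ H).map f ≫ H.map (s.ι.app j)) := by rw [e]; infer_instance
      exact IsIso.of_isIso_comp_right _ (H.map (s.ι.app j))
    haveI : IsIso (H.map (colimit.ι Kc N)) := hconst.isIso_ι_of_isColimit hc
    haveI := hiso N le_rfl
    have e : H.map (colimit.ι Kc N) ≫ H.map (colimit.desc Kc s) = H.map (s.ι.app N) := by
      rw [← H.map_comp, colimit.ι_desc]
    haveI : IsIso (H.map (colimit.ι Kc N) ≫ H.map (colimit.desc Kc s)) := by rw [e]; infer_instance
    exact IsIso.of_isIso_comp_left (H.map (colimit.ι Kc N)) (H.map (colimit.desc Kc s))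

end Groth.Agent.Lib.Seat41.SeqColim
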