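import Mathlib
import Groth.Prelude.Def_CohDer
import Groth.Prelude.Def_DerLim
import Groth.Agent.Lib.Helper1CompactHocolim
import Groth.Agent.Lib.Helper1Hocolim
import Groth.Agent.Lib.Helper21DCoprod
import Groth.Agent.Lib.Seat41SeqColim
import Groth.Agent.S0985

/-!
# Maps from compact objects of `D(A)` into sequential colimits of complexes (Seat41)

* `exists_factor`: if `s` is a cocone over `L : ℕ ⥤ CochainComplex A ℤ` whose legs are eventually
  quasi-isomorphisms in each degree, then a map from a compact object of `D(A)` to `Q.obj s.pt`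
  factors through some `Q.obj (L.obj n)`.
* `exists_retract`: a compact retract of `Q.obj s.pt` is a retract of some `Q.obj (L.obj n)`.
* `isLimitKernelForkF`: kernels of complexes are computed termwise.
* `exists_lift_kernel`: a map `φ : K ⟶ Q.obj L` killed by `Q.map π`, `π` termwise epi, lifts to
  `Q.obj (kernel π)`.
-/

set_option autoImplicit false
set_option linter.style.haveILetI false
universe v u
open CategoryTheory CategoryTheory.Limits

namespace Groth.Agent.Lib.Seat41.CompactSeq

open DerivedCategory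

section Seq

variable {A : Type u} [Category.{v} A] [Abelian A] [HasDerivedCategory.{v} A]
  [HasCoproducts.{v} (DerivedCategory A)]
  [HasColimitsOfShape ℕ A] [HasExactColimitsOfShape ℕ A]
  [HasColimitsOfShape (Discrete ℕ) A] [HasExactColimitsOfShape (Discrete ℕ) A]

theorem exists_factor (L : ℕ ⥤ CochainComplex A ℤ) (s : Cocone L)
    (h : ∀ i : ℤ, ∃ N : ℕ, ∀ n : ℕ, N ≤ n → QuasiIsoAt (s.ι.app n) i)
    {T : DerivedCategory A} (hT : CohDer.IsCompactObject T) (t : T ⟶ Q.obj s.pt) :
    ∃ (n : ℕ) (tn : T ⟶ Q.obj (L.obj n)), t = tn ≫ Q.map (s.ι.app n) := by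
  haveI : PreservesColimit (Discrete.functor L.obj) (DerivedCategory.Q (C := A)) := by
    apply preservesColimit_of_preserves_colimit_cocone (coproductIsCoproduct L.obj)
    exact (isColimitMapCoconeCofanMkEquiv _ _ _).symm
      (Groth.Agent.Lib.Helper21.DCoprod.isColimitQMapCofan (fun n => Sigma.ι L.obj n)
        (coproductIsCoproduct L.obj))
  haveI : HasCoproduct (fun n => DerivedCategory.Q.obj (L.obj n)) :=
    Groth.Agent.Lib.Helper1.hasCoproduct_of_preserves Q L.obj
  have hH := Groth.Agent.S0985.result L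
  haveI : QuasiIso (colimit.desc L s) :=
    Groth.Agent.Lib.Seat41.SeqColim.quasiIso_colimit_desc L s h
  haveI : IsIso (Q.map (colimit.desc L s)) := by
    rw [DerivedCategory.isIso_Q_map_iff_quasiIso]
    infer_instance
  obtain ⟨n, tn, htn⟩ := Groth.Agent.Lib.Helper1.Compact.IsHocolim.exists_lift hH hT
    (t ≫ inv (Q.map (colimit.desc L s)))
  refine ⟨n, tn, ?_⟩
  have h1 : Q.map (colimit.ι L n) ≫ Q.map (colimit.desc L s) = Q.map (s.ι.app n) := by
    rw [← Q.map_comp, colimit.ι_desc]
  rw [← h1, ← Category.assoc, ← htn, Category.assoc, IsIso.inv_hom_id, Category.comp_id]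

theorem exists_retract (L : ℕ ⥤ CochainComplex A ℤ) (s : Cocone L)
    (h : ∀ i : ℤ, ∃ N : ℕ, ∀ n : ℕ, N ≤ n → QuasiIsoAt (s.ι.app n) i)
    {T : DerivedCategory A} (hT : CohDer.IsCompactObject T) (r : Retract T (Q.obj s.pt)) :
    ∃ n : ℕ, Nonempty (Retract T (Q.obj (L.obj n))) := by
  obtain ⟨n, tn, htn⟩ := exists_factor L s h hT r.i
  refine ⟨n, ⟨⟨tn, Q.map (s.ι.app n) ≫ r.r, ?_⟩⟩⟩
  rw [← Category.assoc, ← htn, r.retract]

end Seq

section Ker

variable {A : Type u} [Category.{v} A] [Abelian A]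
variable {L M : CochainComplex A ℤ} (π : L ⟶ M)

lemma kernel_ι_f_comp (i : ℤ) : (kernel.ι π).f i ≫ π.f i = 0 := by
  rw [← HomologicalComplex.comp_f, kernel.condition, HomologicalComplex.zero_f]

/-- kernels of complexes are computed termwise -/
noncomputable def isLimitKernelForkF (i : ℤ) :
    IsLimit (KernelFork.ofι ((kernel.ι π).f i) (kernel_ι_f_comp π i)) :=
  KernelFork.mapIsLimit (KernelFork.ofι (kernel.ι π) (kernel.condition π)) (kernelIsKernel π)
    (HomologicalComplex.eval A (ComplexShape.up ℤ) i)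

lemma isIso_kernel_ι_f (i : ℤ) (h : IsZero (M.X i)) : IsIso ((kernel.ι π).f i) :=
  KernelFork.IsLimit.isIso_ι _ (isLimitKernelForkF π i) (h.eq_of_tgt _ _)

lemma isZero_kernel_X (i : ℤ) [Mono (π.f i)] : IsZero ((kernel π).X i) := by
  rw [IsZero.iff_id_eq_zero, ← cancel_mono ((kernel.ι π).f i), ← cancel_mono (π.f i)]
  rw [Category.assoc, kernel_ι_f_comp, comp_zero, zero_comp, zero_comp]

variable [HasDerivedCategory.{v} A]

theorem exists_lift_kernel (hπ : ∀ i, Epi (π.f i)) {K : DerivedCategory A} (φ : K ⟶ Q.obj L)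
    (hφ : φ ≫ Q.map π = 0) : ∃ φ' : K ⟶ Q.obj (kernel π), φ' ≫ Q.map (kernel.ι π) = φ := by
  haveI : Epi π := HomologicalComplex.epi_of_epi_f _ hπ
  have hS : (ShortComplex.mk (kernel.ι π) π (kernel.condition π)).ShortExact :=
    ShortComplex.ShortExact.mk' (ShortComplex.exact_of_f_is_kernel _ (kernelIsKernel π))
      inferInstance inferInstance
  have hT := DerivedCategory.triangleOfSES_distinguished hS
  obtain ⟨φ', hφ'⟩ := Pretriangulated.Triangle.coyoneda_exact₂ _ hT φ hφ
  exact ⟨φ', hφ'.symm⟩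

end Ker

end Groth.Agent.Lib.Seat41.CompactSeq
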