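import Mathlib
import Groth.Agent.Lib.Seat41CompactSeq

/-!
# Brutal truncations `σ_{>q}R ⟶ R` as kernels (Seat41)

For a cochain complex `R` and `q : ℤ`, `sigmaLE R q` is the brutal quotient complex (terms of
degree `≤ q`), `πLE R q : R ⟶ sigmaLE R q` the projection and `sigmaGT R q` its kernel, with
inclusion `ιGT R q`. The `sigmaGT R (b - m)` form a sequence with union `R`.
-/

set_option autoImplicit false
set_option linter.style.haveILetI false
universe v u
open CategoryTheory CategoryTheory.Limits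

namespace Groth.Agent.Lib.Seat41.Brutal

open Groth.Agent.Lib.Seat41.CompactSeq ComplexShape

variable {A : Type u} [Category.{v} A] [Abelian A] (R : CochainComplex A ℤ)

/-- the brutal quotient `σ_{≤q}R` -/
noncomputable def sigmaLE (q : ℤ) : CochainComplex A ℤ := R.stupidTrunc (embeddingUpIntLE q)

lemma hasLift (q : ℤ) :
    (embeddingUpIntLE q).HasLift (𝟙 (R.restriction (embeddingUpIntLE q))) :=
  fun _ hj => (hj.false_of_isTruncLE).elim

/-- the projection `R ⟶ σ_{≤q}R` -/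
noncomputable def πLE (q : ℤ) : R ⟶ sigmaLE R q :=
  (embeddingUpIntLE q).liftExtend (𝟙 (R.restriction (embeddingUpIntLE q))) (hasLift R q)

lemma isZero_sigmaLE_X (q i : ℤ) (hi : q < i) : IsZero ((sigmaLE R q).X i) :=
  R.isZero_stupidTrunc_X _ i ((notMem_range_embeddingUpIntLE_iff q i).2 hi)

lemma isIso_πLE_f (q i : ℤ) (hi : i ≤ q) : IsIso ((πLE R q).f i) := by
  have h : (embeddingUpIntLE q).f (q - i).toNat = i := by
    simp only [embeddingUpIntLE_f]
    omega
  have e := (embeddingUpIntLE q).liftExtend_f (𝟙 (R.restriction (embeddingUpIntLE q)))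
    (hasLift R q) h
  have : (πLE R q).f i = _ := e
  rw [this, HomologicalComplex.id_f, Category.id_comp]
  exact ((R.restrictionXIso (embeddingUpIntLE q) h).symm ≪≫
    ((R.restriction (embeddingUpIntLE q)).extendXIso (embeddingUpIntLE q) h).symm).isIso_hom

/-- the brutal truncation `σ_{>q}R` -/
noncomputable def sigmaGT (q : ℤ) : CochainComplex A ℤ := kernel (πLE R q)

/-- the inclusion `σ_{>q}R ⟶ R` -/
noncomputable def ιGT (q : ℤ) : sigmaGT R q ⟶ R := kernel.ι (πLE R q)

lemma isZero_sigmaGT_X (q i : ℤ) (hi : i ≤ q) : IsZero ((sigmaGT R q).X i) := by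
  haveI := isIso_πLE_f R q i hi
  exact isZero_kernel_X (πLE R q) i

lemma isIso_ιGT_f (q i : ℤ) (hi : q < i) : IsIso ((ιGT R q).f i) :=
  isIso_kernel_ι_f (πLE R q) i (isZero_sigmaLE_X R q i hi)

lemma ιGT_πLE (q q' : ℤ) (h : q' ≤ q) : ιGT R q ≫ πLE R q' = 0 := by
  ext i
  by_cases hi : i ≤ q
  · exact (isZero_sigmaGT_X R q i hi).eq_of_src _ _
  · exact (isZero_sigmaLE_X R q' i (by omega)).eq_of_tgt _ _

/-- the transition maps -/
noncomputable def tr (q q' : ℤ) (h : q' ≤ q) : sigmaGT R q ⟶ sigmaGT R q' :=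
  kernel.lift (πLE R q') (ιGT R q) (ιGT_πLE R q q' h)

@[reassoc]
lemma tr_ι (q q' : ℤ) (h : q' ≤ q) : tr R q q' h ≫ ιGT R q' = ιGT R q :=
  kernel.lift_ι _ _ _

lemma quasiIsoAt_of_isIso_f {K L : CochainComplex A ℤ} (f : K ⟶ L) (i : ℤ)
    (h₁ : IsIso (f.f (i - 1))) (h₂ : IsIso (f.f i)) (h₃ : IsIso (f.f (i + 1))) :
    QuasiIsoAt f i := by
  rw [quasiIsoAt_iff' f (i - 1) i (i + 1) (by simp) (by simp)]
  haveI : Epi ((HomologicalComplex.shortComplexFunctor' A (ComplexShape.up ℤ) (i - 1) i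
    (i + 1)).map f).τ₁ := inferInstanceAs (Epi (f.f (i - 1)))
  haveI : IsIso ((HomologicalComplex.shortComplexFunctor' A (ComplexShape.up ℤ) (i - 1) i
    (i + 1)).map f).τ₂ := inferInstanceAs (IsIso (f.f i))
  haveI : Mono ((HomologicalComplex.shortComplexFunctor' A (ComplexShape.up ℤ) (i - 1) i
    (i + 1)).map f).τ₃ := inferInstanceAs (Mono (f.f (i + 1)))
  exact ShortComplex.quasiIso_of_epi_of_isIso_of_mono _

lemma quasiIsoAt_ιGT (q i : ℤ) (hi : q + 1 < i) : QuasiIsoAt (ιGT R q) i :=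
  quasiIsoAt_of_isIso_f _ i (isIso_ιGT_f R q _ (by omega)) (isIso_ιGT_f R q _ (by omega))
    (isIso_ιGT_f R q _ (by omega))

/-- the sequence of brutal truncations `σ_{>b-m}R` -/
noncomputable def seq (b : ℤ) : ℕ ⥤ CochainComplex A ℤ :=
  Functor.ofSequence (fun m : ℕ => tr R (b - m) (b - (m + 1 : ℕ)) (by push_cast; omega))

/-- the cocone of brutal truncations -/
noncomputable def cocone (b : ℤ) : Cocone (seq R b) where
  pt := R
  ι := NatTrans.ofSequence (F := seq R b) (G := (Functor.const ℕ).obj R)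
    (fun m => ιGT R (b - m)) (fun m => by
      have h1 : (seq R b).map (homOfLE (Nat.le_add_right m 1)) =
          tr R (b - m) (b - (m + 1 : ℕ)) (by push_cast; omega) :=
        Functor.ofSequence_map_homOfLE_succ _ m
      exact (congrArg (· ≫ ιGT R (b - (m + 1 : ℕ))) h1).trans
        ((tr_ι R (b - m) (b - (m + 1 : ℕ)) (by push_cast; omega)).trans
          (Category.comp_id _).symm))

lemma cocone_ι_app (b : ℤ) (m : ℕ) : (cocone R b).ι.app m = ιGT R (b - m) := rfl

lemma cocone_quasiIsoAt (b : ℤ) (i : ℤ) :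
    ∃ N : ℕ, ∀ n : ℕ, N ≤ n → QuasiIsoAt ((cocone R b).ι.app n) i := by
  refine ⟨(b + 2 - i).toNat, fun n hn => ?_⟩
  rw [cocone_ι_app]
  exact quasiIsoAt_ιGT R _ i (by omega)

end Groth.Agent.Lib.Seat41.Brutal
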