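import Mathlib

/-!
# Trivial fibrations of cochain complexes, up to refinements (Seat41)

`IsTrivFib ρ` : the right lifting property of `ρ : R ⟶ C` against "spheres into disks", stated with
generalized elements up to refinements.  It implies that `ρ` is a quasi-isomorphism and a termwise
epimorphism, and it is stable under (termwise) pullbacks.
-/

set_option autoImplicit false
set_option linter.style.haveILetI false
universe v u
open CategoryTheory CategoryTheory.Limits

namespace Groth.Agent.Lib.Seat41.TrivFib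

variable {A : Type u} [Category.{v} A] [Abelian A]

/-- the trivial fibration property, up to refinements -/
def IsTrivFib {R C : CochainComplex A ℤ} (ρ : R ⟶ C) : Prop :=
  ∀ (i j : ℤ) (_ : i + 1 = j) ⦃T : A⦄ (c : T ⟶ C.X i) (z : T ⟶ R.X j),
    (∀ k, z ≫ R.d j k = 0) → c ≫ C.d i j = z ≫ ρ.f j →
    ∃ (T' : A) (π : T' ⟶ T) (_ : Epi π) (r : T' ⟶ R.X i),
      r ≫ ρ.f i = π ≫ c ∧ r ≫ R.d i j = π ≫ z

variable {R C : CochainComplex A ℤ} {ρ : R ⟶ C}

lemma IsTrivFib.epi_f (h : IsTrivFib ρ) (i : ℤ) : Epi (ρ.f i) := by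
  rw [epi_iff_surjective_up_to_refinements]
  intro T c
  obtain ⟨T₁, π₁, hπ₁, r₁, h₁, h₁'⟩ := h (i + 1) (i + 2) (by omega) (c ≫ C.d i (i + 1))
    (0 : T ⟶ R.X (i + 2)) (fun k => zero_comp) (by simp)
  have hcyc : ∀ k, r₁ ≫ R.d (i + 1) k = 0 := by
    intro k
    by_cases hk : i + 1 + 1 = k
    · obtain rfl : i + 2 = k := by omega
      rw [h₁', comp_zero]
    · rw [R.shape _ _ hk, comp_zero]
  obtain ⟨T₂, π₂, hπ₂, r₂, h₂, -⟩ := h i (i + 1) rfl (π₁ ≫ c) r₁ hcyc (by
    rw [Category.assoc, h₁])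
  exact ⟨T₂, π₂ ≫ π₁, epi_comp _ _, r₂, by rw [h₂, Category.assoc]⟩

lemma IsTrivFib.quasiIso (h : IsTrivFib ρ) : QuasiIso ρ where
  quasiIsoAt j := by
    rw [quasiIsoAt_iff_isIso_homologyMap]
    haveI : Mono (HomologicalComplex.homologyMap ρ j) := by
      rw [HomologicalComplex.mono_homologyMap_iff_up_to_refinements ρ (j - 1) j (j + 1)
        (by simp) (by simp)]
      intro T x₂ hx₂ y₁ hy₁
      have hcyc : ∀ k, x₂ ≫ R.d j k = 0 := by
        intro k
        by_cases hk : j + 1 = k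
        · subst hk; exact hx₂
        · rw [R.shape _ _ hk, comp_zero]
      obtain ⟨T', π, hπ, r, -, hr⟩ := h (j - 1) j (by omega) y₁ x₂ hcyc hy₁.symm
      exact ⟨T', π, hπ, r, hr.symm⟩
    haveI : Epi (HomologicalComplex.homologyMap ρ j) := by
      rw [HomologicalComplex.epi_homologyMap_iff_up_to_refinements ρ (j - 1) j (j + 1)
        (by simp) (by simp)]
      intro T y₂ hy₂
      obtain ⟨T', π, hπ, r, hr, hr'⟩ := h j (j + 1) rfl y₂ (0 : T ⟶ R.X (j + 1))
        (fun k => zero_comp) (by rw [hy₂, zero_comp])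
      refine ⟨T', π, hπ, r, by rw [hr', comp_zero], 0, ?_⟩
      rw [zero_comp, add_zero, hr]
    exact isIso_of_mono_of_epi _

/-- trivial fibrations are stable under termwise pullbacks -/
lemma IsTrivFib.of_isPullback {Q' M R C' : CochainComplex A ℤ} (p₁ : Q' ⟶ M) (p₂ : Q' ⟶ R)
    (c : M ⟶ C') (q : R ⟶ C') (hpb : ∀ i, IsPullback (p₁.f i) (p₂.f i) (c.f i) (q.f i))
    (hq : IsTrivFib q) : IsTrivFib p₁ := by
  intro i j hij T γ z hz hγ
  obtain ⟨T', π, hπ, r, hr, hr'⟩ := hq i j hij (γ ≫ c.f i) (z ≫ p₂.f j)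
    (fun k => by rw [Category.assoc, p₂.comm, reassoc_of% (hz k), zero_comp])
    (by
      rw [Category.assoc, c.comm, reassoc_of% hγ, Category.assoc, (hpb j).w])
  have hw : (π ≫ γ) ≫ c.f i = r ≫ q.f i := by rw [hr, Category.assoc]
  refine ⟨T', π, hπ, (hpb i).lift (π ≫ γ) r hw, (hpb i).lift_fst _ _ _, ?_⟩
  apply (hpb j).hom_ext
  · rw [Category.assoc, ← p₁.comm, (hpb i).lift_fst_assoc, Category.assoc, hγ, Category.assoc]
  · rw [Category.assoc, ← p₂.comm, (hpb i).lift_snd_assoc, hr', Category.assoc]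

/-- trivial fibrations are stable under postcomposition with isomorphisms -/
lemma IsTrivFib.comp_iso (h : IsTrivFib ρ) {C₂ : CochainComplex A ℤ} (e : C ≅ C₂) :
    IsTrivFib (ρ ≫ e.hom) := by
  intro i j hij T c z hz hc
  have h1 : e.hom.f j ≫ e.inv.f j = 𝟙 _ := by
    rw [← HomologicalComplex.comp_f, e.hom_inv_id, HomologicalComplex.id_f]
  have h2 : e.inv.f i ≫ e.hom.f i = 𝟙 _ := by
    rw [← HomologicalComplex.comp_f, e.inv_hom_id, HomologicalComplex.id_f]
  obtain ⟨T', π, hπ, r, hr, hr'⟩ := h i j hij (c ≫ e.inv.f i) z hz (by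
    rw [Category.assoc, e.inv.comm, reassoc_of% hc, HomologicalComplex.comp_f, Category.assoc, h1,
      Category.comp_id])
  refine ⟨T', π, hπ, r, ?_, hr'⟩
  rw [HomologicalComplex.comp_f, ← Category.assoc, hr]
  simp only [Category.assoc]
  rw [h2, Category.comp_id]

/-- trivial fibrations are stable under shifts -/
lemma IsTrivFib.shift (h : IsTrivFib ρ) (n : ℤ) : IsTrivFib (ρ⟦n⟧') := by
  intro i j hij T c z hz hc
  let c₀ : T ⟶ C.X (i + n) := c
  let z₀ : T ⟶ R.X (j + n) := z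
  have hz₀ : ∀ k, z₀ ≫ (n.negOnePow • R.d (j + n) (k + n)) = 0 := fun k => hz k
  have hc₀ : c₀ ≫ (n.negOnePow • C.d (i + n) (j + n)) = z₀ ≫ ρ.f (j + n) := hc
  have hz' : ∀ k, (n.negOnePow • z₀) ≫ R.d (j + n) k = 0 := by
    intro k
    have := hz₀ (k - n)
    rw [Linear.comp_units_smul] at this
    rw [Linear.units_smul_comp]
    have e : k - n + n = k := by omega
    rw [e] at this
    exact this
  have hc' : c₀ ≫ C.d (i + n) (j + n) = (n.negOnePow • z₀) ≫ ρ.f (j + n) := by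
    rw [Linear.comp_units_smul] at hc₀
    rw [Linear.units_smul_comp, ← hc₀, smul_smul, Int.units_mul_self, one_smul]
  obtain ⟨T', π, hπ, r, hr, hr'⟩ := h (i + n) (j + n) (by omega) c₀ (n.negOnePow • z₀) hz' hc'
  refine ⟨T', π, hπ, r, hr, ?_⟩
  change r ≫ (n.negOnePow • R.d (i + n) (j + n)) = π ≫ z₀
  rw [Linear.comp_units_smul, hr', Linear.comp_units_smul, smul_smul, Int.units_mul_self, one_smul]

end Groth.Agent.Lib.Seat41.TrivFib
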