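import Mathlib
import Groth.Agent.Lib.Helper17SerreEss3
import Groth.Agent.Lib.Seat41TrivFib

/-!
# Resolutions of bounded above complexes by objects of a class with enough covers (Seat41)

If every object of the abelian category `A` is a quotient of an object satisfying `P`, then every
cochain complex `C` which is strictly `≤ b` receives a trivial fibration (`TrivFib.IsTrivFib`, in
particular a termwise epimorphic quasi-isomorphism) from a complex strictly `≤ b` whose terms
satisfy `P` (or are zero objects).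
-/

set_option autoImplicit false
set_option linter.style.haveILetI false
set_option linter.unusedSectionVars false
universe v u
open CategoryTheory CategoryTheory.Limits ZeroObject

namespace Groth.Agent.Lib.Seat41.PRes

open Groth.Agent.Lib.Helper17.SerreEss Groth.Agent.Lib.Seat41.TrivFib

variable {A : Type u} [Category.{v} A] [Abelian A] (P : ObjectProperty A)
  (hP : ∀ X : A, ∃ (Y : A) (π : Y ⟶ X), P Y ∧ Epi π)
  (C : CochainComplex A ℤ)

/-- the chosen cover -/
noncomputable def cov (X : A) : A := (hP X).choose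
/-- the chosen covering map -/
noncomputable def covπ (X : A) : cov P hP X ⟶ X := (hP X).choose_spec.choose
lemma cov_prop (X : A) : P (cov P hP X) := (hP X).choose_spec.choose_spec.1
instance epi_covπ (X : A) : Epi (covπ P hP X) := (hP X).choose_spec.choose_spec.2

/-- the data remembered at the `k`-th step (degree `-(k+1)`) -/
structure Stage (k : ℕ) where
  /-- the term -/
  R : A
  hR : P R
  /-- the map to `C` -/
  ρ : R ⟶ C.X (Int.negSucc k)
  /-- the cycles -/
  Z : A
  /-- the inclusion of the cycles -/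
  ζ : Z ⟶ R
  mono : Mono ζ
  hζ : ∀ j, ζ ≫ ρ ≫ C.d (Int.negSucc k) j = 0

variable {P C}

/-- the object covered at the next step -/
noncomputable abbrev Stage.T {k : ℕ} (s : Stage P C k) : A :=
  pullback (C.d (Int.negSucc (k + 1)) (Int.negSucc k)) (s.ζ ≫ s.ρ)

/-- the differential into the cycles -/
noncomputable def Stage.δ {k : ℕ} (s : Stage P C k) : cov P hP s.T ⟶ s.Z :=
  covπ P hP s.T ≫ pullback.snd _ _

/-- the next stage -/
noncomputable def Stage.next {k : ℕ} (s : Stage P C k) : Stage P C (k + 1) where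
  R := cov P hP s.T
  hR := cov_prop P hP _
  ρ := covπ P hP s.T ≫ pullback.fst _ _
  Z := kernel (s.δ hP)
  ζ := kernel.ι (s.δ hP)
  mono := inferInstance
  hζ j := by
    by_cases hj : Int.negSucc (k + 1) + 1 = j
    · obtain rfl : Int.negSucc k = j := by rw [← hj]; rfl
      have h1 : (covπ P hP s.T ≫ pullback.fst _ _) ≫ C.d (Int.negSucc (k + 1)) (Int.negSucc k) =
          s.δ hP ≫ s.ζ ≫ s.ρ := by
        rw [Category.assoc, pullback.condition, ← Category.assoc]
        rfl
      rw [h1, kernel.condition_assoc, zero_comp]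
    · rw [C.shape _ _ hj, comp_zero, comp_zero]

/-- the differential -/
noncomputable def Stage.dnext {k : ℕ} (s : Stage P C k) : (s.next hP).R ⟶ s.R :=
  s.δ hP ≫ s.ζ

lemma Stage.next_ζ_dnext {k : ℕ} (s : Stage P C k) : (s.next hP).ζ ≫ s.dnext hP = 0 := by
  change kernel.ι (s.δ hP) ≫ s.δ hP ≫ s.ζ = 0
  rw [kernel.condition_assoc, zero_comp]

lemma Stage.dnext_ρ {k : ℕ} (s : Stage P C k) :
    s.dnext hP ≫ s.ρ = (s.next hP).ρ ≫ C.d (Int.negSucc (k + 1)) (Int.negSucc k) := by
  change ((covπ P hP s.T ≫ pullback.snd _ _) ≫ s.ζ) ≫ s.ρ =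
    (covπ P hP s.T ≫ pullback.fst _ _) ≫ C.d (Int.negSucc (k + 1)) (Int.negSucc k)
  rw [Category.assoc, Category.assoc, Category.assoc, pullback.condition]

lemma Stage.exists_lift {k : ℕ} (s : Stage P C k) ⦃T : A⦄ (c : T ⟶ C.X (Int.negSucc (k + 1)))
    (z' : T ⟶ s.Z) (h : c ≫ C.d (Int.negSucc (k + 1)) (Int.negSucc k) = z' ≫ s.ζ ≫ s.ρ) :
    ∃ (T' : A) (π : T' ⟶ T) (_ : Epi π) (r : T' ⟶ (s.next hP).R),
      r ≫ (s.next hP).ρ = π ≫ c ∧ r ≫ s.δ hP = π ≫ z' := by
  obtain ⟨T', π, hπ, r, hr⟩ := surjective_up_to_refinements_of_epi (covπ P hP s.T)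
    (pullback.lift c z' h)
  refine ⟨T', π, hπ, r, ?_, ?_⟩
  · change r ≫ covπ P hP s.T ≫ pullback.fst _ _ = π ≫ c
    rw [← Category.assoc, ← hr, Category.assoc, pullback.lift_fst]
  · change r ≫ covπ P hP s.T ≫ pullback.snd _ _ = π ≫ z'
    rw [← Category.assoc, ← hr, Category.assoc, pullback.lift_snd]

lemma Stage.exists_factor {k : ℕ} (s : Stage P C k) ⦃T : A⦄ (z : T ⟶ (s.next hP).R)
    (hz : z ≫ s.dnext hP = 0) : ∃ z' : T ⟶ (s.next hP).Z, z = z' ≫ (s.next hP).ζ := by
  haveI := s.mono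
  have h0 : z ≫ s.δ hP = 0 :=
    (cancel_mono s.ζ).1 (by rw [zero_comp]; exact (Category.assoc _ _ _).trans hz)
  exact ⟨kernel.lift (s.δ hP) z h0, (kernel.lift_ι _ _ _).symm⟩

section Assemble

variable (P C) [C.IsStrictlyLE (-1)]

/-- the first stage -/
noncomputable def stage0 : Stage P C 0 where
  R := cov P hP (C.X (Int.negSucc 0))
  hR := cov_prop P hP _
  ρ := covπ P hP _
  Z := cov P hP (C.X (Int.negSucc 0))
  ζ := 𝟙 _
  mono := inferInstance
  hζ j := by
    by_cases hj : Int.negSucc 0 + 1 = j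
    · exact (C.isZero_of_isStrictlyLE (-1) j (by rw [← hj]; decide)).eq_of_tgt _ _
    · rw [C.shape _ _ hj, comp_zero, comp_zero]

/-- all stages -/
noncomputable def stg : ∀ k : ℕ, Stage P C k
  | 0 => stage0 P hP C
  | k + 1 => (stg k).next hP

/-- the terms -/
noncomputable def Rk (k : ℕ) : A := (stg P hP C k).R

/-- the differentials -/
noncomputable def gn (k : ℕ) : Rk P hP C (k + 1) ⟶ Rk P hP C k := (stg P hP C k).dnext hP

lemma gn_comp (k : ℕ) : gn P hP C (k + 1) ≫ gn P hP C k = 0 := by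
  have h := (stg P hP C k).next_ζ_dnext hP
  exact (Category.assoc ((stg P hP C (k + 1)).δ hP) (stg P hP C (k + 1)).ζ
    ((stg P hP C k).dnext hP)).trans
      ((congrArg (fun m => (stg P hP C (k + 1)).δ hP ≫ m) h).trans comp_zero)

/-- the resolving complex -/
noncomputable def Rc : CochainComplex A ℤ :=
  glue (fun _ => (0 : A)) (fun _ => 0) (Rk P hP C) (gn P hP C) 0
    (fun _ => zero_comp) (gn_comp P hP C) comp_zero zero_comp

lemma Rc_d (k : ℕ) : (Rc P hP C).d (Int.negSucc (k + 1)) (Int.negSucc k) = gn P hP C k :=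
  glue_d _ _ _ _ _ _ _ _ _ (Int.negSucc (k + 1))

lemma isZero_Rc_ofNat (m : ℕ) : IsZero ((Rc P hP C).X (Int.ofNat m)) := isZero_zero A

instance : (Rc P hP C).IsStrictlyLE (-1) := by
  rw [CochainComplex.isStrictlyLE_iff]
  intro i hi
  match i with
  | Int.ofNat k => exact isZero_zero _
  | Int.negSucc k => exact absurd hi (by have := Int.negSucc_lt_zero k; omega)

lemma prop_Rc_negSucc (k : ℕ) : P ((Rc P hP C).X (Int.negSucc k)) := (stg P hP C k).hR

/-- the components of the resolution map -/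
noncomputable def ρf : ∀ n : ℤ, (Rc P hP C).X n ⟶ C.X n
  | Int.ofNat _ => 0
  | Int.negSucc k => (stg P hP C k).ρ

/-- the resolution map -/
noncomputable def ρc : Rc P hP C ⟶ C where
  f := ρf P hP C
  comm' i j hij := by
    obtain rfl : i + 1 = j := hij
    match i with
    | Int.ofNat k =>
      exact zero_comp.trans comp_zero.symm
    | Int.negSucc 0 =>
      exact (C.isZero_of_isStrictlyLE (-1) 0 (by omega)).eq_of_tgt _ _
    | Int.negSucc (k + 1) =>
      change (stg P hP C (k + 1)).ρ ≫ C.d (Int.negSucc (k + 1)) (Int.negSucc k) =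
        (Rc P hP C).d (Int.negSucc (k + 1)) (Int.negSucc k) ≫ (stg P hP C k).ρ
      rw [Rc_d]
      exact ((stg P hP C k).dnext_ρ hP).symm

lemma exists_factor_Rc (k : ℕ) ⦃T : A⦄ (z : T ⟶ (Rc P hP C).X (Int.negSucc k))
    (hz : ∀ j, z ≫ (Rc P hP C).d (Int.negSucc k) j = 0) :
    ∃ z' : T ⟶ (stg P hP C k).Z, z = z' ≫ (stg P hP C k).ζ := by
  cases k with
  | zero => exact ⟨z, (Category.comp_id z).symm⟩
  | succ k =>
    have h := hz (Int.negSucc k)
    rw [Rc_d] at h
    exact (stg P hP C k).exists_factor hP z h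

instance : Epi (stg P hP C 0).ρ := inferInstanceAs (Epi (covπ P hP _))

theorem isTrivFib_ρc : IsTrivFib (ρc P hP C) := by
  intro i j hij T c z hz hc
  subst hij
  match i with
  | Int.ofNat m =>
    refine ⟨T, 𝟙 T, inferInstance, 0, ?_, ?_⟩
    · exact (C.isZero_of_isStrictlyLE (-1) (Int.ofNat m)
        (by have : (0 : ℤ) ≤ Int.ofNat m := Int.natCast_nonneg m; omega)).eq_of_tgt _ _
    · exact (isZero_Rc_ofNat P hP C (m + 1)).eq_of_tgt _ _
  | Int.negSucc 0 =>
    obtain ⟨T', π, hπ, r, hr⟩ := surjective_up_to_refinements_of_epi ((stg P hP C 0).ρ) c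
    refine ⟨T', π, hπ, r, hr.symm, ?_⟩
    exact (isZero_Rc_ofNat P hP C 0).eq_of_tgt _ _
  | Int.negSucc (k + 1) =>
    obtain ⟨z', rfl⟩ := exists_factor_Rc P hP C k z hz
    have hc' : c ≫ C.d (Int.negSucc (k + 1)) (Int.negSucc k) =
        z' ≫ (stg P hP C k).ζ ≫ (stg P hP C k).ρ := by
      rw [← Category.assoc]; exact hc
    obtain ⟨T', π, hπ, r, hr, hr'⟩ := (stg P hP C k).exists_lift hP c z' hc'
    refine ⟨T', π, hπ, r, hr, ?_⟩
    have h1 : (Rc P hP C).d (Int.negSucc (k + 1)) (Int.negSucc (k + 1) + 1) = gn P hP C k :=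
      Rc_d P hP C k
    rw [h1]
    exact ((Category.assoc r ((stg P hP C k).δ hP) (stg P hP C k).ζ).symm.trans
      (congrArg (fun m => m ≫ (stg P hP C k).ζ) hr')).trans (Category.assoc _ _ _)

end Assemble

section Main

variable (P) [P.IsClosedUnderIsomorphisms] (hP0 : ∃ Z : A, IsZero Z ∧ P Z)

include hP0 in
lemma prop_of_isZero {X : A} (hX : IsZero X) : P X := by
  obtain ⟨Z, hZ, hPZ⟩ := hP0
  exact P.prop_of_iso (hZ.iso hX) hPZ

include hP0 in
lemma prop_Rc (C : CochainComplex A ℤ) [C.IsStrictlyLE (-1)] :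
    ∀ i : ℤ, P ((Rc P hP C).X i)
  | Int.ofNat m => prop_of_isZero P hP0 (isZero_Rc_ofNat P hP C m)
  | Int.negSucc k => prop_Rc_negSucc P hP C k

include hP hP0 in
/-- **Resolutions.** A complex which is strictly `≤ b` receives a trivial fibration from a complex
which is strictly `≤ b` with terms in `P`. -/
theorem exists_resolution (C : CochainComplex A ℤ) (b : ℤ) [C.IsStrictlyLE b] :
    ∃ (R : CochainComplex A ℤ) (ρ : R ⟶ C), R.IsStrictlyLE b ∧ (∀ i, P (R.X i)) ∧ IsTrivFib ρ := by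
  haveI : (C⟦b + 1⟧).IsStrictlyLE (-1) := C.isStrictlyLE_shift b (b + 1) (-1) (by omega)
  refine ⟨(Rc P hP (C⟦b + 1⟧))⟦-(b + 1)⟧,
    (ρc P hP (C⟦b + 1⟧))⟦-(b + 1)⟧' ≫
      (shiftFunctorCompIsoId (CochainComplex A ℤ) (b + 1) (-(b + 1)) (by omega)).hom.app C,
    (Rc P hP (C⟦b + 1⟧)).isStrictlyLE_shift (-1) (-(b + 1)) b (by omega),
    fun i => prop_Rc P hP hP0 (C⟦b + 1⟧) _, ?_⟩
  exact IsTrivFib.comp_iso (IsTrivFib.shift (isTrivFib_ρc P hP (C⟦b + 1⟧)) (-(b + 1)))
    ((shiftFunctorCompIsoId (CochainComplex A ℤ) (b + 1) (-(b + 1)) (by omega)).app C)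

end Main

end Groth.Agent.Lib.Seat41.PRes
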