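import Mathlib
import Groth.Agent.Lib.Seat41PRes

/-!
# The relative resolution step (Seat41)

Given a morphism `a : Q ⟶ L` of bounded above complexes, with the terms of `Q` in `P`, we factor
`a` as `ι ≫ π'` where `ι : Q ⟶ Q'` is a termwise split monomorphism with cokernels in `P` and
`π'` is a termwise epimorphic quasi-isomorphism.
-/

set_option autoImplicit false
set_option linter.style.haveILetI false
set_option linter.unusedSectionVars false
universe v u
open CategoryTheory CategoryTheory.Limits ZeroObject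

namespace Groth.Agent.Lib.Seat41.PStep

open Groth.Agent.Lib.Seat41.TrivFib Groth.Agent.Lib.Seat41.PRes CochainComplex

variable {A : Type u} [Category.{v} A] [Abelian A]

section Cyl

variable {Q L : CochainComplex A ℤ} (a : Q ⟶ L)

/-- the second projection `mappingCone (𝟙 Q) ⊞ L ⟶ L` -/
noncomputable abbrev p (Q L : CochainComplex A ℤ) : mappingCone (𝟙 Q) ⊞ L ⟶ L := biprod.snd

/-- the lift of `a` -/
noncomputable def j : Q ⟶ mappingCone (𝟙 Q) ⊞ L := biprod.lift (mappingCone.inr (𝟙 Q)) a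

@[reassoc (attr := simp)]
lemma j_p : j a ≫ p Q L = a := by simp [j, p]

/-- the termwise retraction of `j` -/
noncomputable def σ (Q L : CochainComplex A ℤ) (i : ℤ) : (mappingCone (𝟙 Q) ⊞ L).X i ⟶ Q.X i :=
  (biprod.fst : mappingCone (𝟙 Q) ⊞ L ⟶ _).f i ≫ (mappingCone.snd (𝟙 Q)).v i i (add_zero i)

lemma j_f_σ (i : ℤ) : (j a).f i ≫ σ Q L i = 𝟙 _ := by
  simp [j, σ, ← HomologicalComplex.comp_f_assoc]

instance (i : ℤ) : Mono ((j a).f i) := mono_of_mono_fac (j_f_σ a i)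

instance : Mono (j a) := HomologicalComplex.mono_of_mono_f _ inferInstance

/-- `p` is a homotopy equivalence -/
noncomputable def homotopyEquiv (Q L : CochainComplex A ℤ) :
    HomotopyEquiv (mappingCone (𝟙 Q) ⊞ L) L where
  hom := p Q L
  inv := biprod.inr
  homotopyHomInvId :=
    let h₀ : Homotopy (𝟙 (mappingCone (𝟙 Q))) 0 :=
      mappingCone.liftHomotopy _ _ _ (mappingCone.snd _) 0 (by simp) (by simp)
    let h₁ := (h₀.compRight
      (biprod.inl : _ ⟶ mappingCone (𝟙 Q) ⊞ L)).compLeft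
        (biprod.fst : mappingCone (𝟙 Q) ⊞ L ⟶ _)
    let h₂ := Homotopy.add h₁ (Homotopy.refl (biprod.snd ≫ biprod.inr))
    (Homotopy.ofEq (by simp [p])).trans (h₂.symm.trans (Homotopy.ofEq (by simp)))
  homotopyInvHomId := Homotopy.ofEq (by simp)

instance : QuasiIso (p Q L) := (homotopyEquiv Q L).quasiIso_hom

instance (i : ℤ) : Epi ((p Q L).f i) :=
  epi_of_epi_fac (f := (biprod.inr : L ⟶ mappingCone (𝟙 Q) ⊞ L).f i) (h := 𝟙 _) (by
    rw [← HomologicalComplex.comp_f, biprod.inr_snd, HomologicalComplex.id_f])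

lemma isZero_X (b : ℤ) [Q.IsStrictlyLE b] [L.IsStrictlyLE b] (i : ℤ) (hi : b < i) :
    IsZero ((mappingCone (𝟙 Q) ⊞ L).X i) := by
  refine IsZero.of_iso ?_ ((HomologicalComplex.eval A (ComplexShape.up ℤ) i).mapBiprod _ _)
  simp only [HomologicalComplex.eval_obj, biprod_isZero_iff, mappingCone.isZero_X_iff]
  exact ⟨⟨Q.isZero_of_isStrictlyLE b _ (by omega), Q.isZero_of_isStrictlyLE b _ hi⟩,
    L.isZero_of_isStrictlyLE b _ hi⟩

end Cyl

section Step

variable (P : ObjectProperty A) [P.IsClosedUnderIsomorphisms]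
  (hP : ∀ X : A, ∃ (Y : A) (π : Y ⟶ X), P Y ∧ Epi π)
  (hP0 : ∃ Z : A, IsZero Z ∧ P Z) (hPsum : ∀ X Y : A, P X → P Y → P (X ⊞ Y))

include hP hP0 hPsum in
/-- **The step.** -/
theorem exists_step {Q L : CochainComplex A ℤ} (a : Q ⟶ L) (b : ℤ) [Q.IsStrictlyLE b]
    [L.IsStrictlyLE b] (hQ : ∀ i, P (Q.X i)) :
    ∃ (Q' : CochainComplex A ℤ) (ι : Q ⟶ Q') (π' : Q' ⟶ L), Q'.IsStrictlyLE b ∧
      (∀ i, P (Q'.X i)) ∧ ι ≫ π' = a ∧ QuasiIso π' ∧ (∀ i, Epi (π'.f i)) ∧
      ∀ i, (∃ r : Q'.X i ⟶ Q.X i, ι.f i ≫ r = 𝟙 _) ∧ P (cokernel (ι.f i)) := by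
  -- the cokernel of `j`
  let M := mappingCone (𝟙 Q) ⊞ L
  let cπ : M ⟶ cokernel (j a) := cokernel.π (j a)
  have hM : ∀ i, b < i → IsZero (M.X i) := fun i hi => isZero_X (Q := Q) (L := L) b i hi
  haveI : ∀ i, Epi (cπ.f i) := fun i =>
    inferInstanceAs (Epi ((HomologicalComplex.eval A (ComplexShape.up ℤ) i).map cπ))
  haveI : (cokernel (j a)).IsStrictlyLE b := by
    rw [CochainComplex.isStrictlyLE_iff]
    intro i hi
    rw [IsZero.iff_id_eq_zero, ← cancel_epi (cπ.f i)]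
    exact (hM i hi).eq_of_src _ _
  obtain ⟨R, q, hRb, hR, hq⟩ := exists_resolution P hP hP0 (cokernel (j a)) b
  -- the pullback
  let Q' := pullback cπ q
  let pr₁ : Q' ⟶ M := pullback.fst cπ q
  let pr₂ : Q' ⟶ R := pullback.snd cπ q
  have hpb : ∀ i, IsPullback (pr₁.f i) (pr₂.f i) (cπ.f i) (q.f i) := fun i =>
    (IsPullback.of_hasPullback cπ q).map (HomologicalComplex.eval A (ComplexShape.up ℤ) i)
  have htf : IsTrivFib pr₁ := IsTrivFib.of_isPullback pr₁ pr₂ cπ q hpb hq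
  haveI : QuasiIso pr₁ := htf.quasiIso
  haveI : ∀ i, Epi (pr₁.f i) := htf.epi_f
  let ι : Q ⟶ Q' := pullback.lift (j a) 0 (by rw [zero_comp]; exact cokernel.condition (j a))
  have hι₁ : ι ≫ pr₁ = j a := pullback.lift_fst _ _ _
  have hι₂ : ι ≫ pr₂ = 0 := pullback.lift_snd _ _ _
  -- the short exact sequences
  have hS₂ : (ShortComplex.mk (j a) cπ (cokernel.condition (j a))).Exact :=
    ShortComplex.exact_of_g_is_cokernel _ (cokernelIsCokernel (j a))
  haveI : Mono ι := mono_of_mono_fac hι₁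
  haveI : Epi pr₂ := Abelian.epi_pullback_of_epi_f cπ q
  have hS₁ : (ShortComplex.mk ι pr₂ hι₂).ShortExact := by
    refine ShortComplex.ShortExact.mk' ?_ inferInstance inferInstance
    refine ShortComplex.exact_of_f_is_kernel _ (KernelFork.IsLimit.ofι ι hι₂
      (fun {T} x hx => hS₂.lift (x ≫ pr₁) (by
        change (x ≫ pr₁) ≫ cπ = 0
        rw [Category.assoc, pullback.condition, reassoc_of% hx, zero_comp]))
      (fun {T} x hx => ?_) (fun {T} x hx m hm => ?_))
    · apply pullback.hom_ext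
      · rw [Category.assoc]
        change _ ≫ ι ≫ pr₁ = x ≫ pr₁
        rw [hι₁]
        exact hS₂.lift_f _ _
      · rw [Category.assoc]
        change _ ≫ ι ≫ pr₂ = x ≫ pr₂
        rw [hι₂, comp_zero, hx]
    · rw [← cancel_mono ι, hm]
      apply pullback.hom_ext
      · rw [Category.assoc]
        change x ≫ pr₁ = _ ≫ ι ≫ pr₁
        rw [hι₁]
        exact (hS₂.lift_f _ _).symm
      · rw [Category.assoc]
        change x ≫ pr₂ = _ ≫ ι ≫ pr₂
        rw [hι₂, comp_zero, hx]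
  have hS₁i : ∀ i, ((ShortComplex.mk ι pr₂ hι₂).map
      (HomologicalComplex.eval A (ComplexShape.up ℤ) i)).ShortExact := fun i =>
    hS₁.map_of_exact _
  have hret : ∀ i, ι.f i ≫ (pr₁.f i ≫ σ Q L i) = 𝟙 _ := by
    intro i
    rw [← Category.assoc, ← HomologicalComplex.comp_f, hι₁]
    exact j_f_σ a i
  have hQ'P : ∀ i, P (Q'.X i) := by
    intro i
    haveI := (hS₁i i).epi_g
    let spl := ShortComplex.Splitting.ofExactOfRetraction _ (hS₁i i).exact
      (pr₁.f i ≫ σ Q L i) (hret i) (hS₁i i).epi_g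
    exact P.prop_of_iso spl.isoBinaryBiproduct.symm (hPsum _ _ (hQ i) (hR i))
  refine ⟨Q', ι, pr₁ ≫ p Q L, ?_, hQ'P, ?_, inferInstance, fun i => ?_, fun i => ⟨⟨_, hret i⟩, ?_⟩⟩
  · rw [CochainComplex.isStrictlyLE_iff]
    intro i hi
    rw [IsZero.iff_id_eq_zero]
    apply (hpb i).hom_ext
    · exact (hM i hi).eq_of_tgt _ _
    · exact (R.isZero_of_isStrictlyLE b i hi).eq_of_tgt _ _
  · rw [reassoc_of% hι₁, j_p]
  · rw [HomologicalComplex.comp_f]
    exact epi_comp _ _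
  · exact P.prop_of_iso ((cokernelIsCokernel (ι.f i)).coconePointUniqueUpToIso
      (hS₁i i).gIsCokernel).symm (hR i)

end Step

end Groth.Agent.Lib.Seat41.PStep
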