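import Mathlib
import Groth.Agent.Lib.Seat41PStep

/-!
# Towers of resolutions (Seat41)

Given a sequence of bounded above complexes `L 0 ⟶ L 1 ⟶ ⋯`, we construct bounded above complexes
`Q n` with terms in `P`, termwise epimorphic quasi-isomorphisms `π n : Q n ⟶ L n` and termwise
split monomorphisms `ι n : Q n ⟶ Q (n + 1)` with cokernels in `P`, compatible with the
transition maps.  Also the transition maps between canonical truncations.
-/

set_option autoImplicit false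
set_option linter.style.haveILetI false
set_option linter.unusedSectionVars false
universe v u
open CategoryTheory CategoryTheory.Limits ZeroObject

namespace Groth.Agent.Lib.Seat41.PTower

open Groth.Agent.Lib.Seat41.TrivFib Groth.Agent.Lib.Seat41.PRes Groth.Agent.Lib.Seat41.PStep

variable {A : Type u} [Category.{v} A] [Abelian A]

section Trunc

variable (K : CochainComplex A ℤ)

/-- the transition map between canonical truncations -/
noncomputable def truncLEtr (n m : ℤ) (h : n ≤ m) : K.truncLE n ⟶ K.truncLE m :=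
  haveI : (K.truncLE n).IsStrictlyLE m := (K.truncLE n).isStrictlyLE_of_le n m h
  inv ((K.truncLE n).ιTruncLE m) ≫ CochainComplex.truncLEMap (K.ιTruncLE n) m

@[reassoc (attr := simp)]
lemma truncLEtr_ι (n m : ℤ) (h : n ≤ m) : truncLEtr K n m h ≫ K.ιTruncLE m = K.ιTruncLE n := by
  haveI : (K.truncLE n).IsStrictlyLE m := (K.truncLE n).isStrictlyLE_of_le n m h
  rw [truncLEtr, Category.assoc, CochainComplex.ιTruncLE_naturality, IsIso.inv_hom_id_assoc]

end Trunc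

section Tower

variable (P : ObjectProperty A) [P.IsClosedUnderIsomorphisms]
  (hP : ∀ X : A, ∃ (Y : A) (π : Y ⟶ X), P Y ∧ Epi π)
  (hP0 : ∃ Z : A, IsZero Z ∧ P Z) (hPsum : ∀ X Y : A, P X → P Y → P (X ⊞ Y))

/-- a resolution of `L` -/
structure Stg (L : CochainComplex A ℤ) where
  /-- the resolving complex -/
  Q : CochainComplex A ℤ
  /-- the resolution -/
  π : Q ⟶ L
  qi : QuasiIso π
  epi : ∀ i, Epi (π.f i)
  /-- the bound -/
  b : ℤ
  le : Q.IsStrictlyLE b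
  hP : ∀ i, P (Q.X i)

include hP hP0 in
lemma nonempty_stg (L : CochainComplex A ℤ) (hL : ∃ b, L.IsStrictlyLE b) : Nonempty (Stg P L) := by
  obtain ⟨b, hb⟩ := hL
  obtain ⟨R, ρ, hRb, hR, hρ⟩ := exists_resolution P hP hP0 L b
  exact ⟨⟨R, ρ, hρ.quasiIso, hρ.epi_f, b, hRb, hR⟩⟩

include hP hP0 hPsum in
lemma exists_next {L L' : CochainComplex A ℤ} (s : Stg P L) (t : L ⟶ L')
    (hL' : ∃ b, L'.IsStrictlyLE b) :
    ∃ (s' : Stg P L') (ι : s.Q ⟶ s'.Q), ι ≫ s'.π = s.π ≫ t ∧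
      ∀ i, (∃ r : s'.Q.X i ⟶ s.Q.X i, ι.f i ≫ r = 𝟙 _) ∧ P (cokernel (ι.f i)) := by
  obtain ⟨b', hb'⟩ := hL'
  haveI := s.le
  haveI : s.Q.IsStrictlyLE (max s.b b') := s.Q.isStrictlyLE_of_le s.b _ (le_max_left _ _)
  haveI : L'.IsStrictlyLE (max s.b b') := L'.isStrictlyLE_of_le b' _ (le_max_right _ _)
  obtain ⟨Q', ι, π', hQ'b, hQ'P, hfac, hqi, hepi, hι⟩ :=
    exists_step P hP hP0 hPsum (s.π ≫ t) (max s.b b') s.hP
  exact ⟨⟨Q', π', hqi, hepi, _, hQ'b, hQ'P⟩, ι, hfac, hι⟩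

variable (L : ℕ → CochainComplex A ℤ) (t : ∀ n, L n ⟶ L (n + 1))
  (hL : ∀ n, ∃ b, (L n).IsStrictlyLE b)

/-- the stages of the tower -/
noncomputable def stg : ∀ n : ℕ, Stg P (L n)
  | 0 => (nonempty_stg P hP hP0 (L 0) (hL 0)).some
  | n + 1 => (exists_next P hP hP0 hPsum (stg n) (t n) (hL (n + 1))).choose

/-- the transition maps of the tower -/
noncomputable def ιstg (n : ℕ) :
    (stg P hP hP0 hPsum L t hL n).Q ⟶ (stg P hP hP0 hPsum L t hL (n + 1)).Q :=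
  (exists_next P hP hP0 hPsum (stg P hP hP0 hPsum L t hL n) (t n) (hL (n + 1))).choose_spec.choose

lemma ιstg_spec (n : ℕ) :
    ιstg P hP hP0 hPsum L t hL n ≫ (stg P hP hP0 hPsum L t hL (n + 1)).π =
        (stg P hP hP0 hPsum L t hL n).π ≫ t n ∧
      ∀ i, (∃ r : (stg P hP hP0 hPsum L t hL (n + 1)).Q.X i ⟶ (stg P hP hP0 hPsum L t hL n).Q.X i,
        (ιstg P hP hP0 hPsum L t hL n).f i ≫ r = 𝟙 _) ∧
        P (cokernel ((ιstg P hP hP0 hPsum L t hL n).f i)) :=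
  (exists_next P hP hP0 hPsum (stg P hP hP0 hPsum L t hL n) (t n)
    (hL (n + 1))).choose_spec.choose_spec

include hP hP0 hPsum hL in
/-- **The tower.** -/
theorem exists_tower :
    ∃ (Q : ℕ → CochainComplex A ℤ) (ι : ∀ n, Q n ⟶ Q (n + 1)) (π : ∀ n : ℕ, Q n ⟶ L n),
      (∀ n, QuasiIso (π n) ∧ ∀ i, Epi ((π n).f i)) ∧
      (∀ n, ∃ b : ℤ, (Q n).IsStrictlyLE b) ∧ (∀ n i, P ((Q n).X i)) ∧
      (∀ n i, (∃ r : (Q (n + 1)).X i ⟶ (Q n).X i, (ι n).f i ≫ r = 𝟙 _) ∧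
        P (cokernel ((ι n).f i))) ∧
      (∀ n : ℕ, ι n ≫ π (n + 1) = π n ≫ t n) :=
  ⟨fun n => (stg P hP hP0 hPsum L t hL n).Q, ιstg P hP hP0 hPsum L t hL,
    fun n => (stg P hP hP0 hPsum L t hL n).π,
    fun n => ⟨(stg P hP hP0 hPsum L t hL n).qi, (stg P hP hP0 hPsum L t hL n).epi⟩,
    fun n => ⟨_, (stg P hP hP0 hPsum L t hL n).le⟩,
    fun n => (stg P hP hP0 hPsum L t hL n).hP,
    fun n => (ιstg_spec P hP hP0 hPsum L t hL n).2,
    fun n => (ιstg_spec P hP hP0 hPsum L t hL n).1⟩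

end Tower

end Groth.Agent.Lib.Seat41.PTower
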