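import Mathlib
import Groth.Prelude.Def_ModSite
import Groth.Prelude.Def_CohCx
import Groth.Agent.Lib.Helper9CohS
import Groth.Agent.Lib.Helper6TF10
import Groth.Agent.Lib.Helper23FreeOn
import Groth.Agent.Lib.Helper4ModEpi

/-!
# Modules of the form `Coker(⊕ j_{V!}O → ⊕ j_{U!}O)` on a ringed site (seat 41)

* `exists_finite_refinement`: covering sieves of quasi-compact objects contain finite covering
  families by members of a generating set `B`.
* `frMap`, `homEquiv_frMap_comp`, `exists_local_lift`, `hom_ext_of_covering`: functoriality of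
  `j_{U!}O_U` in `U`, local lifting through epimorphisms, separation along covering families.
* `IsTypeA`, `isTypeA_of_finite`, `isTypeA_cokernel_of_free`, `isTypeA_cokernel`.
-/

set_option autoImplicit false
universe u
open CategoryTheory CategoryTheory.Limits Opposite

namespace Groth.Agent.Lib.Seat41.TypeA

variable {C : Type u} [SmallCategory C] {J : GrothendieckTopology C}

section Site

variable (B : Set C)
  (hB₁ : ∀ X : C, ∃ (κ : Type u) (Y : κ → C) (g : ∀ k, Y k ⟶ X),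
    Sieve.ofArrows Y g ∈ J X ∧ ∀ k, Y k ∈ B)

include hB₁ in
/-- A covering sieve of a quasi-compact object contains a finite covering family by members of
`B`. -/
theorem exists_finite_refinement (U : C)
    (hU : CohCx.IsQcObject ((presheafToSheaf J (Type u)).obj (yoneda.obj U)))
    (S : Sieve U) (hS : S ∈ J U) :
    ∃ (n : ℕ) (Y : Fin n → C) (g : ∀ k, Y k ⟶ U),
      (∀ k, Y k ∈ B) ∧ (∀ k, S (g k)) ∧ Sieve.ofArrows Y g ∈ J U := by
  have hqc : ToposFin.IsQCSite J U :=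
    (Groth.Agent.Lib.Helper6.TF.isQCSite_iff U).2
      (Groth.Agent.Lib.Helper9.CohS.isQC_of_isQcObject hU)
  let S' : Sieve U :=
    { arrows := fun Z f => ∃ (Y : C) (a : Z ⟶ Y) (b : Y ⟶ U), Y ∈ B ∧ S b ∧ a ≫ b = f
      downward_closed := by
        rintro Z Z' f ⟨Y, a, b, hY, hb, rfl⟩ l
        exact ⟨Y, l ≫ a, b, hY, hb, by rw [Category.assoc]⟩ }
  have hS' : S' ∈ J U := by
    refine J.transitive hS S' (fun W h hh => ?_)
    obtain ⟨κ, Yc, gc, hcov, hYB⟩ := hB₁ W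
    refine J.superset_covering ?_ hcov
    intro Z f hf
    obtain ⟨Z', a, g', hg', rfl⟩ := hf
    obtain ⟨k⟩ := hg'
    exact ⟨Yc k, a, gc k ≫ h, hYB k, S.downward_closed hh (gc k), by rw [Category.assoc]⟩
  obtain ⟨n, V, f, hf, hcov⟩ := hqc S' hS'
  choose Y₁ a b hY hb hab using hf
  refine ⟨n, Y₁, b, hY, hb, J.superset_covering ?_ hcov⟩
  intro Z l hl
  obtain ⟨Z', c, g', hg', rfl⟩ := hl
  obtain ⟨k⟩ := hg'
  rw [← hab k, ← Category.assoc]
  exact Sieve.downward_closed _ (Sieve.ofArrows_mk Y₁ b k) _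

end Site

section Free

variable (O : Sheaf J CommRingCat.{u})

open Groth.Agent.Lib.Helper23FreeOn

/-- The map `j_{Y!}O_Y ⟶ j_{U!}O_U` induced by `g : Y ⟶ U`. -/
noncomputable def frMap {Y U : C} (g : Y ⟶ U) : ModSite.freeOn O Y ⟶ ModSite.freeOn O U :=
  (homEquiv O _ Y).symm ((ModSite.freeOn O U).val.restrictₛₗ g.op (homEquiv O _ U (𝟙 _)))

/-- Precomposition with `frMap g` is restriction of sections along `g`. -/
lemma homEquiv_frMap_comp {Y U : C} (g : Y ⟶ U) {M : ModSite.Mod O}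
    (s : ModSite.freeOn O U ⟶ M) :
    homEquiv O M Y (frMap O g ≫ s) = M.val.restrictₛₗ g.op (homEquiv O M U s) := by
  unfold frMap
  rw [homEquiv_symm_comp, Equiv.apply_symm_apply]
  have h1 := PresheafOfModules.naturality_apply s.val g.op (homEquiv O _ U (𝟙 _))
  have h2 : homEquiv O M U s = s.val.app (op U) (homEquiv O _ U (𝟙 _)) := by
    rw [← homEquiv_comp, Category.id_comp]
  rw [h2]
  exact h1

/-- Local lifting of maps from `j_{U!}O_U` through an epimorphism. -/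
theorem exists_local_lift {G' G : ModSite.Mod O} (p : G' ⟶ G) [Epi p] (U : C)
    (s : ModSite.freeOn O U ⟶ G) :
    ∃ S ∈ J U, ∀ ⦃Y : C⦄ (g : Y ⟶ U), S g →
      ∃ s' : ModSite.freeOn O Y ⟶ G', s' ≫ p = frMap O g ≫ s := by
  have hloc := Groth.Agent.Lib.Helper4.ModEpi.isLocallySurjective_of_epi p
  refine ⟨_, hloc.imageSieve_mem (homEquiv O G U s), fun Y g hg => ?_⟩
  obtain ⟨t, ht⟩ := hg
  obtain ⟨t', ht'⟩ : ∃ t' : G'.val.obj (op Y), t' = t := ⟨t, rfl⟩
  refine ⟨(homEquiv O G' Y).symm t', ?_⟩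
  apply (homEquiv O G Y).injective
  rw [homEquiv_frMap_comp, homEquiv_symm_comp, Equiv.apply_symm_apply, ht']
  exact ht

/-- Maps out of `j_{U!}O_U` are determined by their restrictions to a covering family. -/
theorem hom_ext_of_covering {U : C} {ι : Type*} (Yc : ι → C) (g : ∀ k, Yc k ⟶ U)
    (hcov : Sieve.ofArrows Yc g ∈ J U) {M : ModSite.Mod O} (a b : ModSite.freeOn O U ⟶ M)
    (h : ∀ k, frMap O (g k) ≫ a = frMap O (g k) ≫ b) : a = b := by
  apply (homEquiv O M U).injective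
  have hsep : Presieve.IsSeparated J (M.val.presheaf ⋙ forget _) :=
    ((isSheaf_iff_isSheaf_of_type J _).1
      ((Presheaf.isSheaf_iff_isSheaf_forget J M.val.presheaf (forget _)).1 M.isSheaf)).isSeparated
  refine (hsep _ hcov).ext (fun Z f hf => ?_)
  obtain ⟨Z', c, g', hg', rfl⟩ := hf
  obtain ⟨k⟩ := hg'
  have hk := congrArg (homEquiv O M (Yc k)) (h k)
  rw [homEquiv_frMap_comp, homEquiv_frMap_comp] at hk
  have e1 : ∀ x : M.val.obj (op U), (M.val.presheaf ⋙ forget _).map (c ≫ g k).op x =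
      M.val.restrictₛₗ c.op (M.val.restrictₛₗ (g k).op x) := by
    intro x
    rw [← restr_comp]
    rfl
  rw [e1, e1, hk]

end Free

section Main

variable (O : Sheaf J CommRingCat.{u}) (B : Set C)

/-- Modules of the form `Coker(⊕ j_{V_j!}O → ⊕ j_{U_i!}O)` with finitely many `U_i, V_j ∈ B`. -/
def IsTypeA (F : ModSite.Mod O) : Prop :=
  ∃ (m' n' : ℕ) (V' : Fin m' → C) (U' : Fin n' → C)
    (ψ : (∐ fun j => ModSite.freeOn O (V' j)) ⟶ ∐ fun i => ModSite.freeOn O (U' i)),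
    (∀ j, V' j ∈ B) ∧ (∀ i, U' i ∈ B) ∧ Nonempty (F ≅ cokernel ψ)

variable {O B}

lemma IsTypeA.of_iso {F F' : ModSite.Mod O} (h : IsTypeA O B F) (e : F ≅ F') : IsTypeA O B F' := by
  obtain ⟨m, n, V, U, ψ, hV, hU, ⟨e'⟩⟩ := h
  exact ⟨m, n, V, U, ψ, hV, hU, ⟨e.symm ≪≫ e'⟩⟩

/-- Presentations indexed by arbitrary finite types. -/
theorem isTypeA_of_finite {ι κ : Type} [Finite ι] [Finite κ] (V : κ → C) (U : ι → C)
    (ψ : (∐ fun j => ModSite.freeOn O (V j)) ⟶ ∐ fun i => ModSite.freeOn O (U i))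
    (hV : ∀ j, V j ∈ B) (hU : ∀ i, U i ∈ B) : IsTypeA O B (cokernel ψ) := by
  let eι := Finite.equivFin ι
  let eκ := Finite.equivFin κ
  let rι := Sigma.reindex eι.symm (fun i => ModSite.freeOn O (U i))
  let rκ := Sigma.reindex eκ.symm (fun j => ModSite.freeOn O (V j))
  refine ⟨Nat.card κ, Nat.card ι, V ∘ eκ.symm, U ∘ eι.symm, rκ.hom ≫ ψ ≫ rι.inv,
    fun j => hV _, fun i => hU _, ⟨?_⟩⟩
  exact (cokernel.mapIso (rκ.hom ≫ ψ ≫ rι.inv) ψ rκ rι (by simp)).symm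

variable (hB₁ : ∀ X : C, ∃ (κ : Type u) (Y : κ → C) (g : ∀ k, Y k ⟶ X),
    Sieve.ofArrows Y g ∈ J X ∧ ∀ k, Y k ∈ B)
  (hB₂ : ∀ U ∈ B, CohCx.IsQcObject ((presheafToSheaf J (Type u)).obj (yoneda.obj U)))

include hB₁ hB₂ in
/-- The cokernel of a map from a finite free module (on members of `B`) to a module of type A is
of type A. -/
theorem isTypeA_cokernel_of_free {G : ModSite.Mod O} (hG : IsTypeA O B G) {n : ℕ} (U : Fin n → C)
    (hU : ∀ i, U i ∈ B) (γ : (∐ fun i => ModSite.freeOn O (U i)) ⟶ G) :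
    IsTypeA O B (cokernel γ) := by
  obtain ⟨mG, nG, VG, UG, ψG, hVG, hUG, ⟨eG⟩⟩ := hG
  obtain ⟨pG, hpG⟩ : ∃ pG : (∐ fun i => ModSite.freeOn O (UG i)) ⟶ G,
      pG = cokernel.π ψG ≫ eG.inv := ⟨_, rfl⟩
  have : Epi pG := by rw [hpG]; infer_instance
  have hψp : ψG ≫ pG = 0 := by rw [hpG, cokernel.condition_assoc, zero_comp]
  -- local lifts
  have h1 : ∀ i : Fin n, ∃ (ni : ℕ) (Y : Fin ni → C) (g : ∀ k, Y k ⟶ U i), (∀ k, Y k ∈ B) ∧
      Sieve.ofArrows Y g ∈ J (U i) ∧ ∀ k, ∃ s' : ModSite.freeOn O (Y k) ⟶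
        ∐ fun i => ModSite.freeOn O (UG i),
        s' ≫ pG = frMap O (g k) ≫ Sigma.ι (fun i => ModSite.freeOn O (U i)) i ≫ γ := by
    intro i
    obtain ⟨S, hS, hlift⟩ := exists_local_lift O pG (U i)
      (Sigma.ι (fun i => ModSite.freeOn O (U i)) i ≫ γ)
    obtain ⟨ni, Y, g, hYB, hgS, hcov⟩ :=
      exists_finite_refinement B hB₁ (U i) (hB₂ _ (hU i)) S hS
    exact ⟨ni, Y, g, hYB, hcov, fun k => hlift (g k) (hgS k)⟩
  choose ni Y g hYB hcov s' hs' using h1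
  -- the new presentation
  let W : (Σ i : Fin n, Fin (ni i)) ⊕ Fin mG → C := Sum.elim (fun t => Y t.1 t.2) VG
  have hW : ∀ x, W x ∈ B := by
    rintro (t | j)
    · exact hYB t.1 t.2
    · exact hVG j
  let comp : ∀ x, ModSite.freeOn O (W x) ⟶ ∐ fun i => ModSite.freeOn O (UG i) := fun x =>
    match x with
    | Sum.inl t => s' t.1 t.2
    | Sum.inr j => Sigma.ι (fun j => ModSite.freeOn O (VG j)) j ≫ ψG
  obtain ⟨ψ', hψ'⟩ : ∃ ψ' : (∐ fun x => ModSite.freeOn O (W x)) ⟶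
      ∐ fun i => ModSite.freeOn O (UG i),
      ∀ x, Sigma.ι (fun x => ModSite.freeOn O (W x)) x ≫ ψ' = comp x :=
    ⟨Sigma.desc comp, fun x => Sigma.ι_desc _ _⟩
  -- consequences of `ψ' ≫ φ = 0`
  have hcomp : ∀ {X : ModSite.Mod O} (φ : (∐ fun i => ModSite.freeOn O (UG i)) ⟶ X),
      ψ' ≫ φ = 0 → ∀ x, comp x ≫ φ = 0 := by
    intro X φ hφ x
    rw [← hψ' x, Category.assoc, hφ, comp_zero]
  have hcompl : ∀ {X : ModSite.Mod O} (φ : (∐ fun i => ModSite.freeOn O (UG i)) ⟶ X),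
      ψ' ≫ φ = 0 → ∀ (i : Fin n) (k : Fin (ni i)), s' i k ≫ φ = 0 :=
    fun φ hφ i k => hcomp φ hφ (Sum.inl ⟨i, k⟩)
  have hcompr : ∀ {X : ModSite.Mod O} (φ : (∐ fun i => ModSite.freeOn O (UG i)) ⟶ X),
      ψ' ≫ φ = 0 → ∀ j : Fin mG,
        (Sigma.ι (fun j => ModSite.freeOn O (VG j)) j ≫ ψG) ≫ φ = 0 :=
    fun φ hφ j => hcomp φ hφ (Sum.inr j)
  -- general factorisation property
  have key : ∀ {X : ModSite.Mod O} (φ : (∐ fun i => ModSite.freeOn O (UG i)) ⟶ X)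
      (hφ : ψ' ≫ φ = 0), ∃ φ₂ : cokernel γ ⟶ X, pG ≫ cokernel.π γ ≫ φ₂ = φ := by
    intro X φ hφ
    have hψφ : ψG ≫ φ = 0 := by
      apply Sigma.hom_ext
      intro j
      rw [← Category.assoc, hcompr φ hφ j, comp_zero]
    have hpφ : pG ≫ eG.hom ≫ cokernel.desc ψG φ hψφ = φ := by
      rw [hpG, Category.assoc, Iso.inv_hom_id_assoc, cokernel.π_desc]
    have hγ : γ ≫ eG.hom ≫ cokernel.desc ψG φ hψφ = 0 := by
      apply Sigma.hom_ext
      intro i
      rw [comp_zero]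
      refine hom_ext_of_covering O (Y i) (g i) (hcov i) _ _ (fun k => ?_)
      rw [comp_zero, ← Category.assoc, ← Category.assoc, Category.assoc (frMap O (g i k)),
        ← hs' i k, Category.assoc, hpφ, hcompl φ hφ i k]
    refine ⟨cokernel.desc γ (eG.hom ≫ cokernel.desc ψG φ hψφ) hγ, ?_⟩
    rw [cokernel.π_desc, hpφ]
  have w : ψ' ≫ pG ≫ cokernel.π γ = 0 := by
    apply Sigma.hom_ext
    intro x
    rw [← Category.assoc, hψ' x, comp_zero]
    rcases x with ⟨i, k⟩ | j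
    · show s' i k ≫ pG ≫ cokernel.π γ = 0
      rw [← Category.assoc, hs' i k, Category.assoc, Category.assoc, cokernel.condition,
        comp_zero, comp_zero]
    · show (Sigma.ι (fun j => ModSite.freeOn O (VG j)) j ≫ ψG) ≫ pG ≫ cokernel.π γ = 0
      rw [Category.assoc, ← Category.assoc ψG, hψp, zero_comp, comp_zero]
  obtain ⟨e⟩ : Nonempty (cokernel ψ' ≅ cokernel γ) := by
    obtain ⟨f₂, hf₂⟩ := key (cokernel.π ψ') (cokernel.condition ψ')
    refine ⟨⟨cokernel.desc ψ' (pG ≫ cokernel.π γ) w, f₂, ?_, ?_⟩⟩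
    · rw [← cancel_epi (cokernel.π ψ'), cokernel.π_desc_assoc, Category.assoc, hf₂,
        Category.comp_id]
    · rw [← cancel_epi (cokernel.π γ), ← cancel_epi pG]
      calc pG ≫ cokernel.π γ ≫ f₂ ≫ cokernel.desc ψ' (pG ≫ cokernel.π γ) w
          = (pG ≫ cokernel.π γ ≫ f₂) ≫ cokernel.desc ψ' (pG ≫ cokernel.π γ) w := by
            simp only [Category.assoc]
        _ = pG ≫ cokernel.π γ := by rw [hf₂, cokernel.π_desc]
        _ = pG ≫ cokernel.π γ ≫ 𝟙 _ := by rw [Category.comp_id]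
  exact (isTypeA_of_finite W UG ψ' hW hUG).of_iso e

include hB₁ hB₂ in
/-- Cokernels of maps between modules of type A are of type A. -/
theorem isTypeA_cokernel {F G : ModSite.Mod O} (α : F ⟶ G) (hF : IsTypeA O B F)
    (hG : IsTypeA O B G) : IsTypeA O B (cokernel α) := by
  obtain ⟨m, n, V, U, ψ, hV, hU, ⟨e⟩⟩ := hF
  have h := isTypeA_cokernel_of_free hB₁ hB₂ hG U hU ((cokernel.π ψ ≫ e.inv) ≫ α)
  exact h.of_iso (cokernelEpiComp (cokernel.π ψ ≫ e.inv) α)

end Main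

end Groth.Agent.Lib.Seat41.TypeA
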