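import Mathlib
import Groth.Prelude.Def_ModSite
import Groth.Prelude.Def_CohCx
import Groth.Agent.Lib.Seat41TypeA

/-!
# Sections over a quasi-compact object commute with coproducts (seat 41)
-/

set_option autoImplicit false
universe u
open CategoryTheory CategoryTheory.Limits Opposite

namespace Groth.Agent.Lib.Seat41.QcCoprod

section Ab

variable {ι : Type u}

/-- Every element of a coproduct of abelian groups is a finite sum of elements of the summands. -/
theorem exists_finset_sum_of_isColimit {Z : Discrete ι ⥤ AddCommGrpCat.{u}} {d : Cocone Z}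
    (hd : IsColimit d) (y : d.pt) :
    ∃ (I : Finset ι) (f : ∀ i, Z.obj ⟨i⟩), y = ∑ i ∈ I, (d.ι.app ⟨i⟩).hom (f i) := by
  classical
  let inj : ∀ i : ι, Z.obj ⟨i⟩ →+ d.pt := fun i => (d.ι.app ⟨i⟩).hom
  show ∃ (I : Finset ι) (f : ∀ i, Z.obj ⟨i⟩), y = ∑ i ∈ I, inj i (f i)
  let S : AddSubgroup d.pt := ⨆ i : ι, (inj i).range
  have hS : S = ⊤ := by
    let q : d.pt ⟶ AddCommGrpCat.of (d.pt ⧸ S) := AddCommGrpCat.ofHom (QuotientAddGroup.mk' S)
    have hq : q = 0 := by
      refine hd.hom_ext (fun j => ?_)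
      obtain ⟨i⟩ := j
      ext x
      have hx : inj i x ∈ S := AddSubgroup.mem_iSup_of_mem i ⟨x, rfl⟩
      have : (QuotientAddGroup.mk' S) (inj i x) = 0 := (QuotientAddGroup.eq_zero_iff _).2 hx
      simpa [q, inj] using this
    rw [eq_top_iff]
    intro x _
    have h1 := congrArg (fun f => f.hom x) hq
    have h2 : (QuotientAddGroup.mk' S) x = 0 := by simpa [q] using h1
    exact (QuotientAddGroup.eq_zero_iff _).1 h2
  have hy : y ∈ S := hS ▸ AddSubgroup.mem_top y
  refine AddSubgroup.iSup_induction (C := fun y => ∃ (I : Finset ι) (f : ∀ i, Z.obj ⟨i⟩),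
    y = ∑ i ∈ I, inj i (f i)) _ hy ?_ ?_ ?_
  · rintro i x ⟨z, rfl⟩
    refine ⟨{i}, fun j => if h : j = i then h ▸ z else 0, ?_⟩
    simp
  · exact ⟨∅, fun _ => 0, by simp⟩
  · rintro x x' ⟨I, f, rfl⟩ ⟨I', f', rfl⟩
    refine ⟨I ∪ I', fun i => (if i ∈ I then f i else 0) + (if i ∈ I' then f' i else 0), ?_⟩
    simp only [map_add, Finset.sum_add_distrib]
    congr 1
    · rw [← Finset.sum_subset Finset.subset_union_left]
      · exact Finset.sum_congr rfl (fun i hi => by simp [hi])
      · intro i _ hi; simp [hi]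
    · rw [← Finset.sum_subset Finset.subset_union_right]
      · exact Finset.sum_congr rfl (fun i hi => by simp [hi])
      · intro i _ hi; simp [hi]

end Ab

section Adj

variable {𝒞 𝒟 : Type*} [Category 𝒞] [Category 𝒟] {L : 𝒞 ⥤ 𝒟} {Rt : 𝒟 ⥤ 𝒞} (a : L ⊣ Rt)

lemma unit_app_eq (X : 𝒟) [IsIso (a.counit.app X)] :
    a.unit.app (Rt.obj X) = Rt.map (inv (a.counit.app X)) := by
  rw [← cancel_mono (Rt.map (a.counit.app X)), a.right_triangle_components, ← Rt.map_comp,
    IsIso.inv_hom_id, CategoryTheory.Functor.map_id]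
  rfl

lemma comp_unit_eq {P : 𝒞} {X : 𝒟} [IsIso (a.counit.app X)] (f : Rt.obj X ⟶ P) :
    f ≫ a.unit.app P = Rt.map (inv (a.counit.app X) ≫ L.map f) := by
  rw [Rt.map_comp, ← unit_app_eq]
  exact a.unit.naturality f

end Adj

section Sheafification

variable {C : Type u} [SmallCategory C] {J : GrothendieckTopology C} (R : Sheaf J RingCat.{u})

/-- Sheafification of presheaves of modules. -/
noncomputable abbrev shf : PresheafOfModules.{u} R.obj ⥤ SheafOfModules.{u} R :=
  PresheafOfModules.sheafification (𝟙 R.obj)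

/-- The forgetful functor, as a right adjoint. -/
noncomputable abbrev fgt : SheafOfModules.{u} R ⥤ PresheafOfModules.{u} R.obj :=
  SheafOfModules.forget R ⋙ PresheafOfModules.restrictScalars (𝟙 R.obj)

/-- The sheafification adjunction. -/
noncomputable abbrev adj : shf R ⊣ fgt R :=
  PresheafOfModules.sheafificationAdjunction (𝟙 R.obj)

variable {ι : Type u} (K : Discrete ι ⥤ SheafOfModules.{u} R)

/-- The presheaf coproduct. -/
noncomputable abbrev preCoprod : PresheafOfModules.{u} R.obj := colimit (K ⋙ fgt R)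

/-- The comparison of diagrams. -/
noncomputable def diagIso : (K ⋙ fgt R) ⋙ shf R ≅ K :=
  Functor.associator _ _ _ ≪≫ Functor.isoWhiskerLeft K (asIso (adj R).counit) ≪≫
    K.rightUnitor

/-- The sheaf coproduct cocone, obtained by sheafification of the presheaf coproduct. -/
noncomputable def shCocone : Cocone K :=
  (Cocone.precompose (diagIso R K).inv).obj ((shf R).mapCocone (colimit.cocone (K ⋙ fgt R)))

/-- It is a colimit cocone. -/
noncomputable def isColimitShCocone : IsColimit (shCocone R K) :=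
  (IsColimit.precomposeInvEquiv (diagIso R K) _).symm
    (isColimitOfPreserves (shf R) (colimit.isColimit (K ⋙ fgt R)))

/-- The injections of the sheaf coproduct. -/
noncomputable def inj (i : ι) : K.obj ⟨i⟩ ⟶ (shCocone R K).pt := (shCocone R K).ι.app ⟨i⟩

lemma shCocone_ι_app (i : Discrete ι) :
    (shCocone R K).ι.app i =
      inv ((adj R).counit.app (K.obj i)) ≫ (shf R).map (colimit.ι (K ⋙ fgt R) i) := by
  simp [shCocone, diagIso]

/-- The unit of the adjunction on the presheaf coproduct restricts to the injections of the sheaf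
coproduct. -/
lemma ι_unit (i : Discrete ι) :
    colimit.ι (K ⋙ fgt R) i ≫ (adj R).unit.app (preCoprod R K) =
      (fgt R).map ((shCocone R K).ι.app i) := by
  rw [shCocone_ι_app]
  exact comp_unit_eq (adj R) (colimit.ι (K ⋙ fgt R) i)

/-- Sections over `Y`, as an abelian group. -/
noncomputable abbrev Γ (N : SheafOfModules.{u} R) (Y : C) : AddCommGrpCat.{u} :=
  N.val.presheaf.obj (op Y)

/-- The map on sections over `Y`. -/
noncomputable abbrev Γmap {N N' : SheafOfModules.{u} R} (f : N ⟶ N') (Y : C) : Γ R N Y ⟶ Γ R N' Y :=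
  ((PresheafOfModules.toPresheaf R.obj).map f.val).app (op Y)

/-- Sections of the presheaf coproduct are finite sums of sections of the summands. -/
theorem exists_finset_sum_preCoprod (Y : C) (p : (preCoprod R K).presheaf.obj (op Y)) :
    ∃ (I : Finset ι) (f : ∀ i, ((fgt R).obj (K.obj ⟨i⟩)).presheaf.obj (op Y)),
      p = ∑ i ∈ I, (((PresheafOfModules.toPresheaf R.obj).map
        (colimit.ι (K ⋙ fgt R) ⟨i⟩)).app (op Y)).hom (f i) := by
  let E : PresheafOfModules.{u} R.obj ⥤ AddCommGrpCat.{u} :=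
    PresheafOfModules.toPresheaf R.obj ⋙ (evaluation Cᵒᵖ AddCommGrpCat.{u}).obj (op Y)
  have hE : IsColimit (E.mapCocone (colimit.cocone (K ⋙ fgt R))) :=
    isColimitOfPreserves E (colimit.isColimit (K ⋙ fgt R))
  exact exists_finset_sum_of_isColimit hE p

/-- The unit of the adjunction on sections: it sends sections of a summand of the presheaf
coproduct to sections of the sheaf coproduct through the injections. -/
lemma toSheafify_ι_apply (Y : C) (i : ι) (x : ((fgt R).obj (K.obj ⟨i⟩)).presheaf.obj (op Y)) :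
    ((toSheafify J (preCoprod R K).presheaf).app (op Y)).hom
      ((((PresheafOfModules.toPresheaf R.obj).map (colimit.ι (K ⋙ fgt R) ⟨i⟩)).app (op Y)).hom x) =
    (Γmap R (inj R K i) Y).hom x := by
  have h := ι_unit R K ⟨i⟩
  have h2 := congrArg (fun φ => (((PresheafOfModules.toPresheaf R.obj).map φ).app (op Y)).hom x) h
  exact h2

/-- Locally, sections of the sheaf coproduct are finite sums of sections of the summands. -/
theorem locally_finset_sum (W : C) (s : Γ R (shCocone R K).pt W) :
    ∃ S ∈ J W, ∀ ⦃Y : C⦄ (g : Y ⟶ W), S g →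
      ∃ (I : Finset ι) (f : ∀ i, Γ R (K.obj ⟨i⟩) Y),
        ((shCocone R K).pt.val.presheaf.map g.op).hom s =
          ∑ i ∈ I, (Γmap R (inj R K i) Y).hom (f i) := by
  refine ⟨Presheaf.imageSieve (toSheafify J (preCoprod R K).presheaf) s,
    Presheaf.imageSieve_mem J (toSheafify J (preCoprod R K).presheaf) s, ?_⟩
  rintro Y g ⟨p, hp⟩
  obtain ⟨I, f, rfl⟩ := exists_finset_sum_preCoprod R K Y p
  refine ⟨I, f, ?_⟩
  refine hp.symm.trans ?_
  refine (map_sum ((toSheafify J (preCoprod R K).presheaf).app (op Y)).hom _ I).trans ?_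
  exact Finset.sum_congr rfl (fun i _ => toSheafify_ι_apply R K Y i (f i))

section Proj

open Classical in
/-- The projections of the sheaf coproduct onto its summands. -/
noncomputable def proj (i : ι) : (shCocone R K).pt ⟶ K.obj ⟨i⟩ :=
  (isColimitShCocone R K).desc (Cocone.mk (K.obj ⟨i⟩) (Discrete.natTrans (fun j =>
    if h : j.as = i then K.map (Discrete.eqToHom h) else 0)))

lemma ι_proj_self (i : ι) : inj R K i ≫ proj R K i = 𝟙 _ := by
  rw [inj, proj, IsColimit.fac]
  simp

lemma ι_proj_ne (i j : ι) (h : j ≠ i) : inj R K j ≫ proj R K i = 0 := by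
  rw [inj, proj, IsColimit.fac]
  simp [h]

lemma Γmap_comp {N N' N'' : SheafOfModules.{u} R} (f : N ⟶ N') (g : N' ⟶ N'') (Y : C)
    (x : Γ R N Y) : (Γmap R (f ≫ g) Y).hom x = (Γmap R g Y).hom ((Γmap R f Y).hom x) := rfl

lemma Γmap_id (N : SheafOfModules.{u} R) (Y : C) (x : Γ R N Y) :
    (Γmap R (𝟙 N) Y).hom x = x := rfl

lemma Γmap_zero (N N' : SheafOfModules.{u} R) (Y : C) (x : Γ R N Y) :
    (Γmap R (0 : N ⟶ N') Y).hom x = 0 := rfl

lemma Γmap_naturality {N N' : SheafOfModules.{u} R} (f : N ⟶ N') {Y Y' : C} (g : Y' ⟶ Y)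
    (x : Γ R N Y) : (N'.val.presheaf.map g.op).hom ((Γmap R f Y).hom x) =
      (Γmap R f Y').hom ((N.val.presheaf.map g.op).hom x) := by
  have := ((PresheafOfModules.toPresheaf R.obj).map f.val).naturality g.op
  exact (congrArg (fun φ => φ.hom x) this).symm

lemma proj_ι_apply_self (i : ι) (Y : C) (x : Γ R (K.obj ⟨i⟩) Y) :
    (Γmap R (proj R K i) Y).hom ((Γmap R (inj R K i) Y).hom x) = x := by
  rw [← Γmap_comp, ι_proj_self, Γmap_id]

lemma proj_ι_apply_ne (i j : ι) (h : j ≠ i) (Y : C) (x : Γ R (K.obj ⟨j⟩) Y) :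
    (Γmap R (proj R K i) Y).hom ((Γmap R (inj R K j) Y).hom x) = 0 := by
  rw [← Γmap_comp, ι_proj_ne R K i j h, Γmap_zero]

end Proj

section Qc

lemma trivial_generating (X : C) : ∃ (κ : Type u) (Y : κ → C) (g : ∀ k, Y k ⟶ X),
    Sieve.ofArrows Y g ∈ J X ∧ ∀ k, Y k ∈ (Set.univ : Set C) := by
  refine ⟨PUnit, fun _ => X, fun _ => 𝟙 X, ?_, fun _ => trivial⟩
  have : Sieve.ofArrows (fun _ : PUnit.{u + 1} => X) (fun _ => 𝟙 X) = ⊤ := by
    rw [← Sieve.id_mem_iff_eq_top]
    exact Sieve.ofArrows_mk _ _ PUnit.unit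
  rw [this]
  exact J.top_mem X

open Classical in
/-- Over a quasi-compact object, sections of the sheaf coproduct are finite sums of sections of
the summands. -/
theorem exists_finset_sum (W : C)
    (hW : CohCx.IsQcObject ((presheafToSheaf J (Type u)).obj (yoneda.obj W)))
    (s : Γ R (shCocone R K).pt W) :
    ∃ (I : Finset ι), s = ∑ i ∈ I, (Γmap R (inj R K i) W).hom
      ((Γmap R (proj R K i) W).hom s) := by
  obtain ⟨S, hS, hloc⟩ := locally_finset_sum R K W s
  obtain ⟨n, Y, g, -, hgS, hcov⟩ :=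
    Groth.Agent.Lib.Seat41.TypeA.exists_finite_refinement (Set.univ : Set C)
      (fun X => trivial_generating X) W hW S hS
  choose I f hf using fun k => hloc (g k) (hgS k)
  let I₀ : Finset ι := Finset.univ.biUnion I
  have hI : ∀ k, I k ⊆ I₀ := fun k => Finset.subset_biUnion_of_mem I (Finset.mem_univ k)
  refine ⟨I₀, ?_⟩
  -- separatedness
  have hsep : Presieve.IsSeparated J ((shCocone R K).pt.val.presheaf ⋙ forget _) :=
    ((isSheaf_iff_isSheaf_of_type J _).1
      ((Presheaf.isSheaf_iff_isSheaf_forget J (shCocone R K).pt.val.presheaf (forget _)).1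
        (shCocone R K).pt.isSheaf)).isSeparated
  -- the key local identity
  have key : ∀ k, ((shCocone R K).pt.val.presheaf.map (g k).op).hom s =
      ((shCocone R K).pt.val.presheaf.map (g k).op).hom
        (∑ i ∈ I₀, (Γmap R (inj R K i) W).hom
          ((Γmap R (proj R K i) W).hom s)) := by
    intro k
    rw [map_sum]
    have h1 : ∀ i ∈ I₀, ((shCocone R K).pt.val.presheaf.map (g k).op).hom
        ((Γmap R (inj R K i) W).hom ((Γmap R (proj R K i) W).hom s)) =
        (Γmap R (inj R K i) (Y k)).hom (if i ∈ I k then f k i else 0) := by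
      intro i _
      rw [Γmap_naturality, Γmap_naturality, hf k, map_sum]
      congr 1
      by_cases hi : i ∈ I k
      · rw [if_pos hi, Finset.sum_eq_single_of_mem i hi, proj_ι_apply_self]
        intro j _ hj
        exact proj_ι_apply_ne R K i j hj (Y k) (f k j)
      · rw [if_neg hi]
        refine Finset.sum_eq_zero (fun j hj => ?_)
        have : j ≠ i := fun h => hi (h ▸ hj)
        exact proj_ι_apply_ne R K i j this (Y k) (f k j)
    rw [Finset.sum_congr rfl h1, hf k, ← Finset.sum_subset (hI k)]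
    · exact Finset.sum_congr rfl (fun i hi => by rw [if_pos hi])
    · intro i _ hi
      rw [if_neg hi, map_zero]
  refine (hsep _ hcov).ext (fun Z l hl => ?_)
  obtain ⟨Z', c, g', hg', rfl⟩ := hl
  obtain ⟨k⟩ := hg'
  have e1 : ∀ x : Γ R (shCocone R K).pt W,
      ((shCocone R K).pt.val.presheaf ⋙ forget _).map (c ≫ g k).op x =
        ((shCocone R K).pt.val.presheaf.map c.op).hom
          (((shCocone R K).pt.val.presheaf.map (g k).op).hom x) := by
    intro x
    rw [op_comp, Functor.map_comp]
    rfl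
  rw [e1, e1, key k]

end Qc

section Preserves

/-- The sections functor over `W`, with values in abelian groups. -/
noncomputable abbrev secFunctor (W : C) : SheafOfModules.{u} R ⥤ AddCommGrpCat.{u} :=
  SheafOfModules.toSheaf R ⋙ (sheafSections J AddCommGrpCat.{u}).obj (op W)

open Classical in
/-- Sections over a quasi-compact object commute with coproducts. -/
theorem preservesColimit_secFunctor (W : C)
    (hW : CohCx.IsQcObject ((presheafToSheaf J (Type u)).obj (yoneda.obj W))) :
    PreservesColimit K (secFunctor R W) := by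
  suffices key : Nonempty (IsColimit ((secFunctor R W).mapCocone (shCocone R K))) from
    preservesColimit_of_preserves_colimit_cocone (isColimitShCocone R K) key.some
  have hd : IsColimit (colimit.cocone (K ⋙ secFunctor R W)) := colimit.isColimit _
  obtain ⟨φ, hφ⟩ : ∃ φ : colimit (K ⋙ secFunctor R W) ⟶ Γ R (shCocone R K).pt W,
      φ = hd.desc ((secFunctor R W).mapCocone (shCocone R K)) := ⟨_, rfl⟩
  have hφι : ∀ (i : ι) (y : Γ R (K.obj ⟨i⟩) W),
      φ.hom ((colimit.ι (K ⋙ secFunctor R W) ⟨i⟩).hom y) = (Γmap R (inj R K i) W).hom y := by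
    intro i y
    have := hd.fac ((secFunctor R W).mapCocone (shCocone R K)) ⟨i⟩
    rw [← hφ] at this
    exact congrArg (fun ψ => ψ.hom y) this
  have hbij : Function.Bijective φ.hom := by
    constructor
    · rw [injective_iff_map_eq_zero]
      intro y hy
      obtain ⟨I, f, hyf⟩ : ∃ (I : Finset ι) (f : ∀ i, Γ R (K.obj ⟨i⟩) W),
          y = ∑ i ∈ I, (colimit.ι (K ⋙ secFunctor R W) ⟨i⟩).hom (f i) :=
        exists_finset_sum_of_isColimit hd y
      have hy' : ∑ i ∈ I, (Γmap R (inj R K i) W).hom (f i) = 0 := by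
        rw [hyf, map_sum] at hy
        exact (Finset.sum_congr rfl (fun i _ => (hφι i (f i)).symm)).trans hy
      have hf0 : ∀ j ∈ I, f j = 0 := by
        intro j hj
        have h1 := congrArg (fun z => (Γmap R (proj R K j) W).hom z) hy'
        simp only [map_sum, map_zero] at h1
        rw [Finset.sum_eq_single_of_mem j hj, proj_ι_apply_self] at h1
        · exact h1
        · intro i _ hij
          exact proj_ι_apply_ne R K j i hij W (f i)
      rw [hyf]
      refine Finset.sum_eq_zero (fun i hi => ?_)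
      rw [hf0 i hi]
      exact map_zero _
    · intro s
      obtain ⟨I, hs⟩ := exists_finset_sum R K W hW s
      refine ⟨∑ i ∈ I, (colimit.ι (K ⋙ secFunctor R W) ⟨i⟩).hom
        ((Γmap R (proj R K i) W).hom s), ?_⟩
      rw [map_sum, hs]
      refine Finset.sum_congr rfl (fun i _ => ?_)
      rw [hφι, ← hs]
  have hiso : IsIso φ := (ConcreteCategory.isIso_iff_bijective φ).2 hbij
  subst hφ
  exact ⟨@IsColimit.ofPointIso _ _ _ _ _ _ _ hd hiso⟩

end Preserves

end Sheafification

end Groth.Agent.Lib.Seat41.QcCoprod
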