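import Mathlib
import Groth.Prelude.Def_CohDer
import Groth.Agent.Lib.Seat41CompactSeq
import Groth.Agent.Lib.Seat41Brutal
import Groth.Agent.Lib.Seat41PRes
import Groth.Agent.Lib.Seat41PTower
import Groth.Agent.Lib.Helper17Compact
import Groth.Agent.Lib.Seat41QcCoprod

/-!
# Compact objects of `D(A)` are retracts of bounded complexes of finite sums of generators (Seat41)

`A` a Grothendieck abelian category, `S` a set of objects such that every object is a quotient of a
coproduct of members of `S` and `Hom(E, -)` commutes with coproducts for `E ∈ S`. Then every compact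
object of `D(A)` is a retract of a bounded complex whose terms are finite biproducts of members of
`S` (`main`).
-/

set_option autoImplicit false
set_option linter.style.haveILetI false
set_option linter.unusedSectionVars false
universe v u
open CategoryTheory CategoryTheory.Limits Opposite

namespace Groth.Agent.Lib.Seat41.CompactRetract

open DerivedCategory Groth.Agent.Lib.Helper17.Compact Groth.Agent.Lib.Seat41.CompactSeq

section Classes

variable {A : Type u} [Category.{v} A] [Abelian A] [HasCoproducts.{v} A] (S : Set A)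

/-- coproducts of members of `S` -/
def PS : ObjectProperty A := fun M =>
  ∃ (ι : Type v) (E : ι → A), (∀ i, E i ∈ S) ∧ Nonempty (M ≅ ∐ E)

/-- finite biproducts of members of `S` -/
def PFin [HasFiniteBiproducts A] : ObjectProperty A := fun M =>
  ∃ (n : ℕ) (E : Fin n → A), (∀ j, E j ∈ S) ∧ Nonempty (M ≅ ⨁ E)

instance : (PS S).IsClosedUnderIsomorphisms where
  of_iso := fun e ⟨ι, E, hE, ⟨f⟩⟩ => ⟨ι, E, hE, ⟨e.symm ≪≫ f⟩⟩

instance [HasFiniteBiproducts A] : (PFin S).IsClosedUnderIsomorphisms where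
  of_iso := fun e ⟨n, E, hE, ⟨f⟩⟩ => ⟨n, E, hE, ⟨e.symm ≪≫ f⟩⟩

lemma ps_zero : ∃ Z : A, IsZero Z ∧ PS S Z := by
  refine ⟨∐ fun j : PEmpty.{v + 1} => (PEmpty.elim j : A), ?_,
    ⟨PEmpty.{v + 1}, fun j => PEmpty.elim j, fun j => j.elim, ⟨Iso.refl _⟩⟩⟩
  rw [IsZero.iff_id_eq_zero]
  exact Sigma.hom_ext _ _ (fun j => j.elim)

lemma ps_of_isZero {M : A} (h : IsZero M) : PS S M := by
  obtain ⟨Z, hZ, hPZ⟩ := ps_zero S
  exact (PS S).prop_of_iso (hZ.iso h) hPZ

lemma pfin_of_isZero [HasFiniteBiproducts A] {M : A} (h : IsZero M) : PFin S M := by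
  refine ⟨0, fun j => j.elim0, fun j => j.elim0, ⟨h.iso ?_⟩⟩
  rw [IsZero.iff_id_eq_zero]
  exact biproduct.hom_ext' _ _ (fun j => j.elim0)

/-- reindexing along a finite type -/
lemma pfin_of_fintype [HasFiniteBiproducts A] {J : Type*} [Fintype J] (E : J → A)
    (hE : ∀ j, E j ∈ S) {M : A} (e : M ≅ ⨁ E) : PFin S M := by
  let eq := Fintype.equivFin J
  refine ⟨Fintype.card J, fun k => E (eq.symm k), fun k => hE _, ⟨e ≪≫ ?_⟩⟩
  exact biproduct.whiskerEquiv eq (fun j => eqToIso (by simp))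

end Classes

section Bounded

variable {A : Type u} [Category.{v} A] [Abelian A] [HasCoproducts.{v} A]
  [HasDerivedCategory.{v} A] [HasCoproducts.{v} (DerivedCategory A)]
  [HasColimitsOfShape ℕ A] [HasExactColimitsOfShape ℕ A]
  [HasColimitsOfShape (Discrete ℕ) A] [HasExactColimitsOfShape (Discrete ℕ) A]
  (S : Set A)

open Groth.Agent.Lib.Seat41.PTower Groth.Agent.Lib.Seat41.Brutal

/-- Steps 1–3: a compact object is a retract of a bounded complex with terms in `PS S`. -/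
theorem exists_bounded
    (h1 : ∀ X : A, ∃ (ι : Type v) (E : ι → A) (π : ∐ E ⟶ X), (∀ i, E i ∈ S) ∧ Epi π)
    (K : DerivedCategory A) (hK : CohDer.IsCompactObject K) :
    ∃ (L : CochainComplex A ℤ) (a b : ℤ), (∀ i : ℤ, i < a ∨ b < i → IsZero (L.X i)) ∧
      (∀ i, PS S (L.X i)) ∧ Nonempty (Retract K (Q.obj L)) := by
  -- a representative
  let K₀ : CochainComplex A ℤ := Q.objPreimage K
  let e₀ : Q.obj K₀ ≅ K := Q.objObjPreimageIso K
  let r₀ : Retract K (Q.obj K₀) := ⟨e₀.inv, e₀.hom, e₀.inv_hom_id⟩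
  -- Step 1: canonical truncations
  have hle : ∀ n : ℕ, (n : ℤ) ≤ ((n + 1 : ℕ) : ℤ) := fun n => by push_cast; omega
  let t₁ : ∀ n : ℕ, K₀.truncLE (n : ℤ) ⟶ K₀.truncLE ((n + 1 : ℕ) : ℤ) :=
    fun n => truncLEtr K₀ (n : ℤ) ((n + 1 : ℕ) : ℤ) (hle n)
  have hmap : ∀ n : ℕ, (Functor.ofSequence t₁).map (homOfLE (Nat.le_succ n)) = t₁ n :=
    fun n => Functor.ofSequence_map_homOfLE_succ t₁ n
  let s₁ : Cocone (Functor.ofSequence t₁) :=
    { pt := K₀
      ι := NatTrans.ofSequence (F := Functor.ofSequence t₁) (G := (Functor.const ℕ).obj K₀)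
        (fun n => K₀.ιTruncLE (n : ℤ)) (fun n =>
          (congrArg (· ≫ K₀.ιTruncLE (((n + 1 : ℕ) : ℤ))) (hmap n)).trans
            ((truncLEtr_ι K₀ _ _ (hle n)).trans (Category.comp_id _).symm)) }
  obtain ⟨n, ⟨r₁'⟩⟩ := exists_retract (Functor.ofSequence t₁) s₁ (fun i => by
    refine ⟨i.toNat, fun n hn => ?_⟩
    exact K₀.quasiIsoAt_ιTruncLE _ _ (by omega)) hK r₀
  have r₁ : Retract K (Q.obj (K₀.truncLE (n : ℤ))) := r₁'
  -- Step 2: resolution
  have hP : ∀ X : A, ∃ (Y : A) (π : Y ⟶ X), PS S Y ∧ Epi π := fun X => by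
    obtain ⟨ι, E, π, hE, hπ⟩ := h1 X
    exact ⟨_, π, ⟨ι, E, hE, ⟨Iso.refl _⟩⟩, hπ⟩
  obtain ⟨R, ρ, hRle, hRP, htf⟩ := Groth.Agent.Lib.Seat41.PRes.exists_resolution (PS S) hP
    (ps_zero S) (K₀.truncLE (n : ℤ)) (n : ℤ)
  haveI : QuasiIso ρ := htf.quasiIso
  haveI : IsIso (Q.map ρ) := by
    rw [DerivedCategory.isIso_Q_map_iff_quasiIso]
    infer_instance
  let r₂ : Retract K (Q.obj R) :=
    ⟨r₁.i ≫ inv (Q.map ρ), Q.map ρ ≫ r₁.r, by
      rw [Category.assoc, IsIso.inv_hom_id_assoc]; exact r₁.retract⟩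
  -- Step 3: brutal truncations
  obtain ⟨m, ⟨r₃⟩⟩ := exists_retract (Brutal.seq R (n : ℤ)) (Brutal.cocone R (n : ℤ))
    (Brutal.cocone_quasiIsoAt R (n : ℤ)) hK r₂
  refine ⟨sigmaGT R ((n : ℤ) - m), (n : ℤ) - m + 1, (n : ℤ), ?_, ?_, ⟨r₃⟩⟩
  · rintro i (hi | hi)
    · exact isZero_sigmaGT_X R _ i (by omega)
    · haveI := isIso_ιGT_f R ((n : ℤ) - m) i (by omega)
      exact (R.isZero_of_isStrictlyLE (n : ℤ) i hi).of_iso (asIso ((ιGT R ((n : ℤ) - m)).f i))
  · intro i
    by_cases hi : i ≤ (n : ℤ) - m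
    · exact ps_of_isZero S (isZero_sigmaGT_X R _ i hi)
    · haveI := isIso_ιGT_f R ((n : ℤ) - m) i (by omega)
      exact (PS S).prop_of_iso (asIso ((ιGT R ((n : ℤ) - m)).f i)).symm (hRP i)

end Bounded

section Cut

variable {A : Type u} [Category.{v} A] [Abelian A]
variable (L : CochainComplex A ℤ) (c : ℤ)

/-- the chain map to a single complex given by a map killing the incoming differentials -/
noncomputable def toSingle {Z : A} (u : L.X c ⟶ Z) (hu : ∀ i, L.d i c ≫ u = 0) :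
    L ⟶ (HomologicalComplex.single A (ComplexShape.up ℤ) c).obj Z :=
  HomologicalComplex.mkHomToSingle u (fun i _ => hu i)

lemma toSingle_f {Z : A} (u : L.X c ⟶ Z) (hu : ∀ i, L.d i c ≫ u = 0) :
    (toSingle L c u hu).f c =
      u ≫ (HomologicalComplex.singleObjXSelf (ComplexShape.up ℤ) c Z).inv :=
  HomologicalComplex.mkHomToSingle_f _ _

lemma toSingle_comp {Z Z' : A} (u : L.X c ⟶ Z) (hu : ∀ i, L.d i c ≫ u = 0) (g : Z ⟶ Z') :
    toSingle L c u hu ≫ (HomologicalComplex.single A (ComplexShape.up ℤ) c).map g =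
      toSingle L c (u ≫ g) (fun i => by rw [reassoc_of% (hu i), zero_comp]) := by
  apply HomologicalComplex.to_single_hom_ext
  rw [HomologicalComplex.comp_f, toSingle_f, toSingle_f, HomologicalComplex.single_map_f_self]
  simp

lemma toSingle_congr {Z : A} {u u' : L.X c ⟶ Z} (h : u = u') (hu : ∀ i, L.d i c ≫ u = 0) :
    toSingle L c u hu = toSingle L c u' (fun i => h ▸ hu i) := by
  subst h
  rfl

lemma epi_toSingle_f {Z : A} (u : L.X c ⟶ Z) (hu : ∀ i, L.d i c ≫ u = 0) [Epi u] (i : ℤ) :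
    Epi ((toSingle L c u hu).f i) := by
  by_cases hi : i = c
  · subst hi
    rw [toSingle_f]
    infer_instance
  · have hz : IsZero (((HomologicalComplex.single A (ComplexShape.up ℤ) c).obj Z).X i) :=
      HomologicalComplex.isZero_single_obj_X _ _ _ _ hi
    exact ⟨fun _ _ _ => hz.eq_of_src _ _⟩

variable (e : L.X c ⟶ L.X c) (he : e ≫ e = e) (hd : ∀ i, L.d i c ≫ e = L.d i c)

/-- the projection onto the kernel of the idempotent `e` -/
noncomputable def pr : L.X c ⟶ kernel e :=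
  kernel.lift e (𝟙 _ - e) (by rw [Preadditive.sub_comp, Category.id_comp, he, sub_self])

lemma pr_ι : pr L c e he ≫ kernel.ι e = 𝟙 _ - e := kernel.lift_ι _ _ _

lemma ι_pr : kernel.ι e ≫ pr L c e he = 𝟙 _ := by
  rw [← cancel_mono (kernel.ι e), Category.assoc, pr_ι, Preadditive.comp_sub, Category.comp_id,
    kernel.condition, sub_zero, Category.id_comp]

instance : Epi (pr L c e he) := epi_of_epi_fac (ι_pr L c e he)

include hd in
lemma d_pr (i : ℤ) : L.d i c ≫ pr L c e he = 0 := by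
  rw [← cancel_mono (kernel.ι e), Category.assoc, pr_ι, Preadditive.comp_sub, Category.comp_id,
    hd, sub_self, zero_comp]

/-- the projection of `L` onto the complementary summand in degree `c` -/
noncomputable def πc : L ⟶ (HomologicalComplex.single A (ComplexShape.up ℤ) c).obj (kernel e) :=
  toSingle L c (pr L c e he) (d_pr L c e he hd)

/-- the subcomplex with `L.X c` replaced by the image of `e` -/
noncomputable def cut : CochainComplex A ℤ := kernel (πc L c e he hd)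

/-- the inclusion of the subcomplex -/
noncomputable def cutι : cut L c e he hd ⟶ L := kernel.ι (πc L c e he hd)

lemma epi_πc_f (i : ℤ) : Epi ((πc L c e he hd).f i) := epi_toSingle_f L c _ _ i

lemma isIso_cutι_f (i : ℤ) (hi : i ≠ c) : IsIso ((cutι L c e he hd).f i) :=
  isIso_kernel_ι_f _ i (HomologicalComplex.isZero_single_obj_X _ _ _ _ hi)

lemma cutι_f_pr : (cutι L c e he hd).f c ≫ pr L c e he = 0 := by
  have h := kernel_ι_f_comp (πc L c e he hd) c
  rw [πc, toSingle_f, ← Category.assoc] at h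
  rw [← cancel_mono (HomologicalComplex.singleObjXSelf (ComplexShape.up ℤ) c (kernel e)).inv,
    zero_comp]
  exact h

lemma cutι_f_e : (cutι L c e he hd).f c ≫ e = (cutι L c e he hd).f c := by
  have h := cutι_f_pr L c e he hd
  have h2 := congrArg (· ≫ kernel.ι e) h
  simp only [Category.assoc, zero_comp, pr_ι, Preadditive.comp_sub, Category.comp_id] at h2
  exact (sub_eq_zero.1 h2).symm

lemma exists_lift_cut {T : A} (x : T ⟶ L.X c) (hx : x ≫ e = x) :
    ∃ y : T ⟶ (cut L c e he hd).X c, y ≫ (cutι L c e he hd).f c = x := by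
  have h0 : x ≫ pr L c e he = 0 := by
    rw [← cancel_mono (kernel.ι e), Category.assoc, pr_ι, Preadditive.comp_sub, Category.comp_id,
      hx, sub_self, zero_comp]
  have h1 : x ≫ (πc L c e he hd).f c = 0 := by
    rw [πc, toSingle_f, ← Category.assoc, h0, zero_comp]
  exact ⟨(isLimitKernelForkF (πc L c e he hd) c).lift (KernelFork.ofι x h1),
    (isLimitKernelForkF (πc L c e he hd) c).fac (KernelFork.ofι x h1) WalkingParallelPair.zero⟩

end Cut

section Peel

variable {A : Type u} [Category.{v} A] [Abelian A] [HasCoproducts.{v} A] [HasFiniteBiproducts A]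
  (S : Set A)

section FinSupp

/-- maps from members of `S` to coproducts are finitely supported -/
theorem finSupp_of_mem
    (h2 : ∀ E ∈ S, ∀ ι : Type v,
      PreservesColimitsOfShape (Discrete ι) (preadditiveCoyoneda.obj (op E)))
    {E : A} (hE : E ∈ S) : FinSupp E (𝟭 A) := by
  intro ι X P inj hc φ
  haveI := h2 E hE ι
  let H := preadditiveCoyoneda.obj (op E)
  have hH : IsColimit (H.mapCocone (Cofan.mk P inj)) := isColimitOfPreserves H hc
  obtain ⟨I, g, hg⟩ : ∃ (I : Finset ι) (g : ∀ i, E ⟶ X i), φ = ∑ i ∈ I, g i ≫ inj i :=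
    Groth.Agent.Lib.Seat41.QcCoprod.exists_finset_sum_of_isColimit hH φ
  refine ⟨I, ?_⟩
  show φ ≫ idem hc I = φ
  rw [hg, Preadditive.sum_comp]
  refine Finset.sum_congr rfl (fun i hi => ?_)
  rw [Category.assoc, inj_idem_of_mem hc I i hi]

/-- maps from finite sums of members of `S` to coproducts are finitely supported -/
theorem finSupp_of_pfin
    (h2 : ∀ E ∈ S, ∀ ι : Type v,
      PreservesColimitsOfShape (Discrete ι) (preadditiveCoyoneda.obj (op E)))
    {M : A} (hM : PFin S M) : FinSupp M (𝟭 A) := by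
  classical
  obtain ⟨n, E, hE, ⟨θ⟩⟩ := hM
  intro ι X P inj hc φ
  change M ⟶ P at φ
  have hj : ∀ j : Fin n, ∃ s : Finset ι,
      (biproduct.ι E j ≫ θ.inv ≫ φ) ≫ idem hc s = biproduct.ι E j ≫ θ.inv ≫ φ :=
    fun j => finSupp_of_mem S h2 (hE j) ι X P inj hc _
  choose sj hsj using hj
  refine ⟨Finset.univ.biUnion sj, ?_⟩
  show φ ≫ idem hc _ = φ
  rw [← cancel_epi θ.inv]
  refine biproduct.hom_ext' _ _ (fun j => ?_)
  have := supp_mono (𝟭 A) hc _ (hsj j)
    (Finset.subset_biUnion_of_mem sj (Finset.mem_univ j))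
  simpa only [Category.assoc, Functor.id_map] using this

end FinSupp

section Ident

variable (L : CochainComplex A ℤ) (c : ℤ) {Λ : Type v} {X : Λ → A} {inj : ∀ l, X l ⟶ L.X c}
  (hc : IsColimit (Cofan.mk (L.X c) inj)) (s : Finset Λ)
  (hd : ∀ i, L.d i c ≫ idem hc s = L.d i c)

lemma idem_idem : idem hc s ≫ idem hc s = idem hc s := idem_comp_idem hc (Finset.Subset.refl s)

open Classical in
/-- the term of degree `c` of the cut complex is a finite sum -/
lemma pfin_cut_X (hX : ∀ l, X l ∈ S) :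
    PFin S ((cut L c (idem hc s) (idem_idem L c hc s) hd).X c) := by
  let e := idem hc s
  have he : e ≫ e = e := idem_idem L c hc s
  let Y : ↥s → A := fun l => X l.1
  let a : ⨁ Y ⟶ L.X c := biproduct.desc (fun l => inj l.1)
  let b : L.X c ⟶ ⨁ Y := Cofan.IsColimit.desc hc
    (fun l => if h : l ∈ s then biproduct.ι Y ⟨l, h⟩ else 0)
  have hb : ∀ l, inj l ≫ b = if h : l ∈ s then biproduct.ι Y ⟨l, h⟩ else 0 :=
    fun l => Cofan.IsColimit.fac hc _ l
  have hab : a ≫ b = 𝟙 _ := by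
    refine biproduct.hom_ext' _ _ (fun l => ?_)
    rw [biproduct.ι_desc_assoc, hb, dif_pos l.2, Category.comp_id]
  have hba : b ≫ a = e := by
    refine Cofan.IsColimit.hom_ext hc _ _ (fun l => ?_)
    show inj l ≫ b ≫ a = inj l ≫ idem hc s
    rw [← Category.assoc, hb]
    by_cases h : l ∈ s
    · rw [dif_pos h, biproduct.ι_desc, inj_idem_of_mem hc s l h]
    · rw [dif_neg h, zero_comp, inj_idem_of_not_mem hc s l h]
  have hae : a ≫ e = a := by rw [← hba, ← Category.assoc, hab, Category.id_comp]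
  obtain ⟨y, hy⟩ := exists_lift_cut L c e he hd a hae
  let k := (cutι L c e he hd).f c
  have hke : k ≫ e = k := cutι_f_e L c e he hd
  haveI : Mono k := mono_of_isLimit_fork (isLimitKernelForkF (πc L c e he hd) c)
  refine pfin_of_fintype S Y (fun l => hX l.1) (M := (cut L c e he hd).X c) ⟨k ≫ b, y, ?_, ?_⟩
  · rw [← cancel_mono k, Category.assoc, Category.assoc, hy, hba, hke, Category.id_comp]
  · rw [← Category.assoc, hy, hab]

end Ident

section PeelMain

variable [HasDerivedCategory.{v} A] [HasCoproducts.{v} (DerivedCategory A)]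
  [∀ Λ : Type v, HasExactColimitsOfShape (Discrete Λ) A]

open Groth.Agent.Lib.Helper21.DCoprod

/-- **Peeling.** If `L.X c'` is a finite sum of members of `S` and `L.X c` is a coproduct of
members of `S` (`c' + 1 = c`), a compact retract `K` of `Q.obj L` is a retract of `Q.obj L'` for
a subcomplex `L'` of `L` which differs from `L` only in degree `c`, where it is a finite sum. -/
theorem peel
    (h2 : ∀ E ∈ S, ∀ ι : Type v,
      PreservesColimitsOfShape (Discrete ι) (preadditiveCoyoneda.obj (op E)))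
    (K : DerivedCategory A) (hK : CohDer.IsCompactObject K) (L : CochainComplex A ℤ)
    (c' c : ℤ) (hcc : c' + 1 = c) (hfin : PFin S (L.X c')) (hP : PS S (L.X c))
    (r : Retract K (Q.obj L)) :
    ∃ (L' : CochainComplex A ℤ) (j : L' ⟶ L), (∀ i, i ≠ c → IsIso (j.f i)) ∧ PFin S (L'.X c) ∧
      Nonempty (Retract K (Q.obj L')) := by
  classical
  obtain ⟨Λ, X, hX, ⟨θ⟩⟩ := hP
  let inj : ∀ l, X l ⟶ L.X c := fun l => Sigma.ι X l ≫ θ.inv
  have hc : IsColimit (Cofan.mk (L.X c) inj) :=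
    IsColimit.ofIsoColimit (coproductIsCoproduct X)
      (Cocone.ext θ.symm (fun j => by cases j; rfl))
  -- the differential is finitely supported
  obtain ⟨s₀, hs₀⟩ := finSupp_of_pfin S h2 hfin Λ X (L.X c) inj hc (L.d c' c)
  have hd₀ : ∀ s, s₀ ⊆ s → ∀ i, L.d i c ≫ idem hc s = L.d i c := by
    intro s hs i
    by_cases hi : i + 1 = c
    · obtain rfl : i = c' := by omega
      exact supp_mono (𝟭 A) hc _ hs₀ hs
    · rw [L.shape i c hi, zero_comp]
  have hu : ∀ s, s₀ ⊆ s → ∀ i, L.d i c ≫ (𝟙 _ - idem hc s) = 0 := fun s hs i => by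
    rw [Preadditive.comp_sub, Category.comp_id, hd₀ s hs i, sub_self]
  let sg := HomologicalComplex.single A (ComplexShape.up ℤ) c
  let ϖ : ∀ s, s₀ ⊆ s → (L ⟶ sg.obj (L.X c)) :=
    fun s hs => toSingle L c (𝟙 _ - idem hc s) (hu s hs)
  -- the cofan in the derived category
  have hP' : IsColimit (Cofan.mk (sg.obj (L.X c)) (fun l => sg.map (inj l))) :=
    (isColimitMapCoconeCofanMkEquiv sg _ inj) (isColimitOfPreserves sg hc)
  have hQ : IsColimit (Cofan.mk (Q.obj (sg.obj (L.X c))) (fun l => Q.map (sg.map (inj l)))) :=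
    isColimitQMapCofan _ hP'
  obtain ⟨t₁, ht₁⟩ := finSupp_of_compact K hK Λ _ _ _ hQ
    (r.i ≫ Q.map (ϖ s₀ (Finset.Subset.refl s₀)))
  have hst : s₀ ⊆ s₀ ∪ t₁ := Finset.subset_union_left
  have ht : (r.i ≫ Q.map (ϖ s₀ (Finset.Subset.refl s₀))) ≫ idem hQ (s₀ ∪ t₁) =
      r.i ≫ Q.map (ϖ s₀ (Finset.Subset.refl s₀)) :=
    supp_mono (𝟭 _) hQ _ ht₁ Finset.subset_union_right
  have hidem : Q.map (sg.map (idem hc (s₀ ∪ t₁))) = idem hQ (s₀ ∪ t₁) := by
    rw [map_idem hc sg hP' (s₀ ∪ t₁), map_idem hP' Q hQ (s₀ ∪ t₁)]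
  have hϖt : ϖ (s₀ ∪ t₁) hst =
      ϖ s₀ (Finset.Subset.refl s₀) ≫ sg.map (𝟙 _ - idem hc (s₀ ∪ t₁)) := by
    rw [toSingle_comp]
    refine toSingle_congr L c ?_ _
    rw [Preadditive.sub_comp, Preadditive.comp_sub, Preadditive.comp_sub, Category.id_comp,
      Category.comp_id, Category.id_comp, idem_comp_idem hc hst]
    abel
  have hzero : r.i ≫ Q.map (ϖ (s₀ ∪ t₁) hst) = 0 := by
    rw [hϖt, Q.map_comp, Functor.map_sub, Functor.map_sub, sg.map_id, Q.map_id,
      Preadditive.comp_sub, Preadditive.comp_sub, Category.comp_id, hidem, ← Category.assoc, ht,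
      sub_self]
  -- the cut
  have he : idem hc (s₀ ∪ t₁) ≫ idem hc (s₀ ∪ t₁) = idem hc (s₀ ∪ t₁) := idem_idem L c hc _
  have hd := hd₀ (s₀ ∪ t₁) hst
  have hπ : r.i ≫ Q.map (πc L c (idem hc (s₀ ∪ t₁)) he hd) = 0 := by
    have h3 : ϖ (s₀ ∪ t₁) hst =
        πc L c (idem hc (s₀ ∪ t₁)) he hd ≫ sg.map (kernel.ι (idem hc (s₀ ∪ t₁))) := by
      rw [πc, toSingle_comp]
      exact toSingle_congr L c (pr_ι L c _ he).symm _
    have h4 : sg.map (kernel.ι (idem hc (s₀ ∪ t₁))) ≫ sg.map (pr L c _ he) = 𝟙 _ := by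
      rw [← sg.map_comp, ι_pr, sg.map_id]
    calc r.i ≫ Q.map (πc L c (idem hc (s₀ ∪ t₁)) he hd)
        = r.i ≫ Q.map (πc L c (idem hc (s₀ ∪ t₁)) he hd ≫
            (sg.map (kernel.ι (idem hc (s₀ ∪ t₁))) ≫ sg.map (pr L c _ he))) := by
          rw [h4, Category.comp_id]
      _ = (r.i ≫ Q.map (ϖ (s₀ ∪ t₁) hst)) ≫ Q.map (sg.map (pr L c _ he)) := by
          rw [h3, ← Category.assoc, Q.map_comp, Category.assoc]
      _ = 0 := by rw [hzero, zero_comp]
  obtain ⟨φ', hφ'⟩ : ∃ φ' : K ⟶ Q.obj (cut L c (idem hc (s₀ ∪ t₁)) he hd),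
      φ' ≫ Q.map (cutι L c (idem hc (s₀ ∪ t₁)) he hd) = r.i :=
    exists_lift_kernel (πc L c (idem hc (s₀ ∪ t₁)) he hd) (epi_πc_f L c _ he hd) r.i hπ
  refine ⟨cut L c _ he hd, cutι L c _ he hd, fun i hi => isIso_cutι_f L c _ he hd i hi,
    pfin_cut_X S L c hc (s₀ ∪ t₁) hd hX, ⟨⟨φ', Q.map (cutι L c _ he hd) ≫ r.r, ?_⟩⟩⟩
  exact ((Category.assoc _ _ _).symm.trans (congrArg (· ≫ r.r) hφ')).trans r.retract

end PeelMain

end Peel

section Main

variable {A : Type u} [Category.{v} A] [Abelian A] [IsGrothendieckAbelian.{v} A]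
  [HasCoproducts.{v} A] [HasFiniteBiproducts A]
  [HasDerivedCategory.{v} A] [HasCoproducts.{v} (DerivedCategory A)] (S : Set A)

/-- **Main theorem.** Every compact object of `D(A)` is a retract of a bounded complex of finite
sums of members of `S`. -/
theorem main
    (h1 : ∀ X : A, ∃ (ι : Type v) (E : ι → A) (π : ∐ E ⟶ X), (∀ i, E i ∈ S) ∧ Epi π)
    (h2 : ∀ E ∈ S, ∀ ι : Type v,
      PreservesColimitsOfShape (Discrete ι) (preadditiveCoyoneda.obj (op E)))
    (K : DerivedCategory A) (hK : CohDer.IsCompactObject K) :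
    ∃ (L : CochainComplex A ℤ) (a b : ℤ), (∀ i : ℤ, i < a ∨ b < i → IsZero (L.X i)) ∧
      (∀ i, PFin S (L.X i)) ∧ Nonempty (Retract K (Q.obj L)) := by
  haveI : AB5OfSize.{v, v} A := IsGrothendieckAbelian.ab5OfSize
  haveI : AB4OfSize.{v} A := AB4.of_AB5 A
  haveI : ∀ Λ : Type v, HasExactColimitsOfShape (Discrete Λ) A := fun Λ => AB4OfSize.ofShape Λ
  haveI : HasExactColimitsOfShape (Discrete ℕ) A := inferInstance
  haveI : HasFilteredColimitsOfSize.{0, 0} A := hasFilteredColimitsOfSize_of_univLE.{0, 0, v, v}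
  haveI : AB5OfSize.{0, 0} A := AB5OfSize_of_univLE.{0, 0, v, v} A
  haveI : HasExactColimitsOfShape ℕ A := AB5OfSize.ofShape ℕ
  obtain ⟨L₀, a, b, hz₀, hP₀, ⟨r₀⟩⟩ := exists_bounded S h1 K hK
  have key : ∀ k : ℕ, ∃ L : CochainComplex A ℤ, (∀ i : ℤ, i < a ∨ b < i → IsZero (L.X i)) ∧
      (∀ i : ℤ, a + k ≤ i → PS S (L.X i)) ∧ (∀ i : ℤ, i < a + k → PFin S (L.X i)) ∧
      Nonempty (Retract K (Q.obj L)) := by
    intro k
    induction k with
    | zero =>
      exact ⟨L₀, hz₀, fun i _ => hP₀ i,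
        fun i hi => pfin_of_isZero S (hz₀ i (Or.inl (by simpa using hi))), ⟨r₀⟩⟩
    | succ k ih =>
      obtain ⟨L, hz, hP, hF, ⟨r⟩⟩ := ih
      by_cases hb : b < a + k
      · refine ⟨L, hz, fun i hi => hP i (by push_cast at hi; omega), fun i hi => ?_, ⟨r⟩⟩
        by_cases hi' : i < a + k
        · exact hF i hi'
        · exact pfin_of_isZero S (hz i (Or.inr (by omega)))
      · obtain ⟨L', j, hj, hL'c, ⟨r'⟩⟩ := peel S h2 K hK L (a + k - 1) (a + k) (by omega)
          (hF _ (by omega)) (hP _ le_rfl) r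
        have hiso : ∀ i, i ≠ a + k → (L'.X i ≅ L.X i) := fun i hi => by
          haveI := hj i hi
          exact asIso (j.f i)
        refine ⟨L', fun i hi => ?_, fun i hi => ?_, fun i hi => ?_, ⟨r'⟩⟩
        · exact (hz i hi).of_iso (hiso i (by omega))
        · push_cast at hi
          exact (PS S).prop_of_iso (hiso i (by omega)).symm (hP i (by omega))
        · push_cast at hi
          by_cases hi' : i = a + k
          · rw [hi']; exact hL'c
          · exact (PFin S).prop_of_iso (hiso i hi').symm (hF i (by omega))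
  obtain ⟨L, hz, -, hF, hr⟩ := key (b + 1 - a).toNat
  refine ⟨L, a, b, hz, fun i => ?_, hr⟩
  by_cases hi : i < a + (b + 1 - a).toNat
  · exact hF i hi
  · exact pfin_of_isZero S (hz i (Or.inr (by omega)))

end Main

end Groth.Agent.Lib.Seat41.CompactRetract
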