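import Mathlib

/-!
# Sections of constant sheaves of `Λ`-modules (Seat41)

`T J Λ U : ModuleCat Λ ⥤ ModuleCat Λ`, `N ↦ N̲(U)` is exact, additive and `Λ`-linear.
-/

set_option autoImplicit false
set_option linter.style.haveILetI false
set_option linter.unusedSectionVars false
universe u
open CategoryTheory Opposite CategoryTheory.Limits

namespace Groth.Agent.Lib.Seat41.ConstSec

variable {C : Type u} [SmallCategory C] (J : GrothendieckTopology C) (Λ : Type u) [CommRing Λ]

instance : PreservesFiniteLimits (constantSheaf J (ModuleCat.{u} Λ)) :=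
  inferInstanceAs (PreservesFiniteLimits (Functor.const Cᵒᵖ ⋙ presheafToSheaf J (ModuleCat.{u} Λ)))

/-- `N ↦ N̲(U)`. -/
noncomputable abbrev T (U : C) : ModuleCat.{u} Λ ⥤ ModuleCat.{u} Λ :=
  constantSheaf J (ModuleCat.{u} Λ) ⋙ (sheafSections J (ModuleCat.{u} Λ)).obj (op U)

instance (U : C) : PreservesFiniteLimits ((sheafSections J (ModuleCat.{u} Λ)).obj (op U)) :=
  inferInstanceAs (PreservesFiniteLimits (sheafToPresheaf J (ModuleCat.{u} Λ) ⋙ (evaluation _ _).obj (op U)))

instance (U : C) : PreservesFiniteLimits (T J Λ U) := comp_preservesFiniteLimits _ _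

/-- the map of sheaves of sets induced by a map of sets -/
noncomputable def setMap {B' C' : ModuleCat.{u} Λ} (σ : C' → B') :
    (sheafCompose J (forget (ModuleCat.{u} Λ))).obj ((constantSheaf J (ModuleCat.{u} Λ)).obj C') ⟶
      (sheafCompose J (forget (ModuleCat.{u} Λ))).obj ((constantSheaf J (ModuleCat.{u} Λ)).obj B') :=
  (constantCommuteCompose J (forget (ModuleCat.{u} Λ))).hom.app C' ≫
    (constantSheaf J (Type u)).map (TypeCat.ofHom σ) ≫
      (constantCommuteCompose J (forget (ModuleCat.{u} Λ))).inv.app B'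

lemma setMap_comp {B' C' : ModuleCat.{u} Λ} (g : B' ⟶ C') (σ : C' → B') (hσ : ∀ c, g.hom (σ c) = c) :
    setMap J Λ σ ≫ (sheafCompose J (forget (ModuleCat.{u} Λ))).map ((constantSheaf J (ModuleCat.{u} Λ)).map g) =
      𝟙 _ := by
  have hnat := (constantCommuteCompose J (forget (ModuleCat.{u} Λ))).inv.naturality g
  change (constantSheaf J (Type u)).map ((forget (ModuleCat.{u} Λ)).map g) ≫ _ =
    _ ≫ (sheafCompose J (forget (ModuleCat.{u} Λ))).map ((constantSheaf J (ModuleCat.{u} Λ)).map g) at hnat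
  rw [setMap, Category.assoc, Category.assoc, ← hnat, ← Category.assoc ((constantSheaf J (Type u)).map _),
    ← Functor.map_comp]
  have h1 : TypeCat.ofHom σ ≫ (forget (ModuleCat.{u} Λ)).map g = 𝟙 _ := by
    ext c
    exact hσ c
  rw [h1]
  have h2 : (constantSheaf J (Type u)).map (𝟙 ((forget (ModuleCat.{u} Λ)).obj C')) = 𝟙 _ :=
    CategoryTheory.Functor.map_id _ _
  erw [h2, Category.id_comp]
  exact (constantCommuteCompose J (forget (ModuleCat.{u} Λ))).hom_inv_id_app C'

/-- sections of constant sheaves are surjective along surjections -/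
lemma surjective_sections {B' C' : ModuleCat.{u} Λ} (g : B' ⟶ C') (hg : Function.Surjective g.hom) (U : C) :
    Function.Surjective ((T J Λ U).map g).hom := by
  intro t
  have hσ : ∀ c, g.hom (Function.surjInv hg c) = c := Function.surjInv_eq hg
  refine ⟨(setMap J Λ (Function.surjInv hg)).hom.app (op U) t, ?_⟩
  have := congrArg (fun m => m.hom.app (op U) t) (setMap_comp J Λ g _ hσ)
  exact this

instance (U : C) : (T J Λ U).Additive := Functor.additive_of_preserves_binary_products _

theorem T_shortExact (U : C) (S : ShortComplex (ModuleCat.{u} Λ)) (hS : S.ShortExact) :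
    (S.map (T J Λ U)).ShortExact := by
  haveI := hS.mono_f
  haveI := hS.epi_g
  refine ShortComplex.ShortExact.mk' ?_ ?_ ?_
  · exact hS.exact.map_of_mono_of_preservesKernel _ hS.mono_f inferInstance
  · exact inferInstanceAs (Mono ((T J Λ U).map S.f))
  · rw [ModuleCat.epi_iff_surjective]
    exact surjective_sections J Λ S.g ((ModuleCat.epi_iff_surjective _).1 hS.epi_g) U

instance (U : C) : PreservesFiniteColimits (T J Λ U) := by
  have h := ((T J Λ U).exact_tfae.out 0 3 rfl rfl).1 (T_shortExact J Λ U)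
  exact h.2

theorem T_exact (U : C) {N₁ N₂ N₃ : ModuleCat.{u} Λ} (f : N₁ ⟶ N₂) (g : N₂ ⟶ N₃)
    (h : Function.Exact f.hom g.hom) :
    Function.Exact ((T J Λ U).map f).hom ((T J Λ U).map g).hom := by
  have hfg : f ≫ g = 0 := by
    ext x
    exact h.apply_apply_eq_zero x
  have hS : (ShortComplex.mk f g hfg).Exact :=
    (ShortComplex.ShortExact.moduleCat_exact_iff_function_exact _).2 h
  have h1 := ((T J Λ U).exact_tfae.out 0 1 rfl rfl).1 (T_shortExact J Λ U)
  have := h1 _ hS
  exact (ShortComplex.ShortExact.moduleCat_exact_iff_function_exact _).1 this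

theorem T_injective (U : C) {N₁ N₂ : ModuleCat.{u} Λ} (f : N₁ ⟶ N₂) (h : Function.Injective f.hom) :
    Function.Injective ((T J Λ U).map f).hom := by
  haveI : Mono f := (ModuleCat.mono_iff_injective f).2 h
  exact (ModuleCat.mono_iff_injective _).1 (inferInstanceAs (Mono ((T J Λ U).map f)))

lemma smul_id_comp (r : Λ) {A B : ModuleCat.{u} Λ} (η : A ⟶ B) : (r • 𝟙 A) ≫ η = η ≫ (r • 𝟙 B) := by
  rw [Linear.comp_smul, Linear.smul_comp, Category.comp_id, Category.id_comp]

/-- scalar multiplication on a presheaf of modules, as an endomorphism -/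
noncomputable def smulEnd (r : Λ) (G : Cᵒᵖ ⥤ ModuleCat.{u} Λ) : G ⟶ G where
  app V := r • 𝟙 (G.obj V)
  naturality V W g := by
    rw [Linear.comp_smul, Linear.smul_comp, Category.comp_id, Category.id_comp]

lemma constantSheaf_map_smul_id (r : Λ) (N : ModuleCat.{u} Λ) :
    ((constantSheaf J (ModuleCat.{u} Λ)).map (r • 𝟙 N)).hom =
      smulEnd Λ r ((constantSheaf J (ModuleCat.{u} Λ)).obj N).obj := by
  change sheafifyMap J ((Functor.const Cᵒᵖ).map (r • 𝟙 N)) = _
  refine sheafify_hom_ext J _ _ ((constantSheaf J (ModuleCat.{u} Λ)).obj N).property ?_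
  rw [← toSheafify_naturality]
  ext V : 2
  exact smul_id_comp Λ r ((toSheafify J ((Functor.const Cᵒᵖ).obj N)).app V)

lemma T_map_smul (U : C) (r : Λ) {N N' : ModuleCat.{u} Λ} (f : N ⟶ N') :
    (T J Λ U).map (r • f) = r • (T J Λ U).map f := by
  have h1 : r • f = f ≫ (r • 𝟙 N') := by rw [Linear.comp_smul, Category.comp_id]
  rw [h1, Functor.map_comp]
  have h2 : (T J Λ U).map (r • 𝟙 N') = r • 𝟙 _ :=
    congrArg (fun m => m.app (op U)) (constantSheaf_map_smul_id J Λ r N')
  rw [h2, Linear.comp_smul, Category.comp_id]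

instance (U : C) : (T J Λ U).Linear Λ where
  map_smul f r := T_map_smul J Λ U r f

section Theta

open TensorProduct

variable {Λ : Type u} [CommRing Λ] (F : ModuleCat.{u} Λ ⥤ ModuleCat.{u} Λ) [F.Additive] [F.Linear Λ]
  (N : Type u) [AddCommGroup N] [Module Λ N]

/-- `q ↦ F(n ↦ n ⊗ q)` -/
noncomputable def thetaAux (Q : Type u) [AddCommGroup Q] [Module Λ Q] :
    Q →ₗ[Λ] (F.obj (ModuleCat.of Λ N) →ₗ[Λ] F.obj (ModuleCat.of Λ (N ⊗[Λ] Q))) where
  toFun q := (F.map (ModuleCat.ofHom ((TensorProduct.mk Λ N Q).flip q))).hom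
  map_add' q q' := by
    rw [map_add, ModuleCat.ofHom_add, F.map_add, ModuleCat.hom_add]
  map_smul' r q := by
    have : ModuleCat.ofHom ((TensorProduct.mk Λ N Q).flip (r • q)) =
        r • ModuleCat.ofHom ((TensorProduct.mk Λ N Q).flip q) := by
      rw [map_smul]; rfl
    rw [this, F.map_smul, ModuleCat.hom_smul]; rfl

/-- the comparison map `F(N) ⊗ Q → F(N ⊗ Q)` -/
noncomputable def theta (Q : Type u) [AddCommGroup Q] [Module Λ Q] :
    (F.obj (ModuleCat.of Λ N)) ⊗[Λ] Q →ₗ[Λ] F.obj (ModuleCat.of Λ (N ⊗[Λ] Q)) :=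
  TensorProduct.lift (thetaAux F N Q).flip

lemma theta_tmul (Q : Type u) [AddCommGroup Q] [Module Λ Q] (s : F.obj (ModuleCat.of Λ N)) (q : Q) :
    theta F N Q (s ⊗ₜ q) = (F.map (ModuleCat.ofHom ((TensorProduct.mk Λ N Q).flip q))).hom s := by
  rw [theta, TensorProduct.lift.tmul]; rfl

variable {Q Q' Q'' : Type u} [AddCommGroup Q] [Module Λ Q] [AddCommGroup Q'] [Module Λ Q']
  [AddCommGroup Q''] [Module Λ Q'']

/-- `g ↦ F(N ⊗ g)` -/
noncomputable def F2 (g : Q →ₗ[Λ] Q') :
    F.obj (ModuleCat.of Λ (N ⊗[Λ] Q)) →ₗ[Λ] F.obj (ModuleCat.of Λ (N ⊗[Λ] Q')) :=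
  (F.map (ModuleCat.ofHom (LinearMap.lTensor N g))).hom

lemma F2_id : F2 F N (LinearMap.id : Q →ₗ[Λ] Q) = LinearMap.id := by
  rw [F2, LinearMap.lTensor_id]
  exact congrArg ModuleCat.Hom.hom (F.map_id _)

lemma F2_comp (g : Q →ₗ[Λ] Q') (g' : Q' →ₗ[Λ] Q'') :
    F2 F N (g'.comp g) = (F2 F N g').comp (F2 F N g) := by
  rw [F2, LinearMap.lTensor_comp, ModuleCat.ofHom_comp, F.map_comp]
  rfl

lemma F2_add (g g' : Q →ₗ[Λ] Q') : F2 F N (g + g') = F2 F N g + F2 F N g' := by
  rw [F2, LinearMap.lTensor_add, ModuleCat.ofHom_add, F.map_add]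
  rfl

lemma F2_zero : F2 F N (0 : Q →ₗ[Λ] Q') = 0 := by
  rw [F2, LinearMap.lTensor_zero]
  have : ModuleCat.ofHom (0 : N ⊗[Λ] Q →ₗ[Λ] N ⊗[Λ] Q') = 0 := rfl
  rw [this, F.map_zero]
  rfl

lemma F2_sum {ι : Type*} (s : Finset ι) (g : ι → (Q →ₗ[Λ] Q')) :
    F2 F N (∑ k ∈ s, g k) = ∑ k ∈ s, F2 F N (g k) := by
  classical
  induction s using Finset.induction_on with
  | empty => simp [F2_zero]
  | insert a s ha ih => rw [Finset.sum_insert ha, Finset.sum_insert ha, F2_add, ih]

lemma theta_natural (g : Q →ₗ[Λ] Q') :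
    (theta F N Q').comp (LinearMap.lTensor _ g) = (F2 F N g).comp (theta F N Q) := by
  refine TensorProduct.ext' fun s q => ?_
  rw [LinearMap.comp_apply, LinearMap.comp_apply, LinearMap.lTensor_tmul, theta_tmul, theta_tmul]
  have : ModuleCat.ofHom ((TensorProduct.mk Λ N Q').flip (g q)) =
      ModuleCat.ofHom ((TensorProduct.mk Λ N Q).flip q) ≫ ModuleCat.ofHom (LinearMap.lTensor N g) := by
    ext n
    simp
  rw [this, F.map_comp]
  rfl

lemma theta_natural_apply (g : Q →ₗ[Λ] Q') (x : (F.obj (ModuleCat.of Λ N)) ⊗[Λ] Q) :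
    theta F N Q' (LinearMap.lTensor _ g x) = F2 F N g (theta F N Q x) :=
  LinearMap.congr_fun (theta_natural F N g) x

/-- `θ_Λ` is bijective -/
lemma theta_self_bijective : Function.Bijective (theta F N Λ) := by
  have key : (F.map (ModuleCat.ofHom (TensorProduct.rid Λ N).toLinearMap)).hom.comp (theta F N Λ) =
      (TensorProduct.rid Λ (F.obj (ModuleCat.of Λ N))).toLinearMap := by
    refine TensorProduct.ext' fun s r => ?_
    rw [LinearMap.comp_apply, theta_tmul]
    have h1 : ModuleCat.ofHom ((TensorProduct.mk Λ N Λ).flip r) ≫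
        ModuleCat.ofHom (TensorProduct.rid Λ N).toLinearMap = r • 𝟙 (ModuleCat.of Λ N) := by
      ext n
      simp
    have h2 := congrArg (fun m => (F.map m).hom s) h1
    simp only [F.map_comp, F.map_smul, F.map_id] at h2
    refine h2.trans ?_
    simp
  have hiso : Function.Bijective (F.map (ModuleCat.ofHom (TensorProduct.rid Λ N).toLinearMap)).hom := by
    have : IsIso (ModuleCat.ofHom (TensorProduct.rid Λ N).toLinearMap) :=
      (TensorProduct.rid Λ N).toModuleIso.isIso_hom
    exact ConcreteCategory.bijective_of_isIso (F.map (ModuleCat.ofHom (TensorProduct.rid Λ N).toLinearMap))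
  have h3 : Function.Bijective ((F.map (ModuleCat.ofHom (TensorProduct.rid Λ N).toLinearMap)).hom ∘
      (theta F N Λ)) := by
    have := congrArg (fun m : _ →ₗ[Λ] _ => (m : _ → _)) key
    simp only [LinearMap.coe_comp] at this
    rw [this]
    exact (TensorProduct.rid Λ (F.obj (ModuleCat.of Λ N))).bijective
  exact (Function.Bijective.of_comp_iff' hiso _).1 h3

/-- `θ` is bijective on a finite "sum" of objects where it is bijective -/
lemma theta_bijective_of_sum {ι : Type} [Fintype ι] (Qk : ι → Type u) [∀ k, AddCommGroup (Qk k)]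
    [∀ k, Module Λ (Qk k)] (i : ∀ k, Qk k →ₗ[Λ] Q) (p : ∀ k, Q →ₗ[Λ] Qk k)
    (h : ∑ k, (i k).comp (p k) = LinearMap.id)
    (hθ : ∀ k, Function.Bijective (theta F N (Qk k))) : Function.Bijective (theta F N Q) := by
  constructor
  · rw [injective_iff_map_eq_zero]
    intro x hx
    have h1 : x = ∑ k, LinearMap.lTensor _ (i k) (LinearMap.lTensor _ (p k) x) := by
      have := congrArg (fun m => LinearMap.lTensor (F.obj (ModuleCat.of Λ N)) m x) h
      simp only [LinearMap.lTensor_id, LinearMap.id_apply] at this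
      refine this.symm.trans ?_
      rw [← LinearMap.coe_lTensorHom, map_sum, LinearMap.sum_apply]
      refine Finset.sum_congr rfl fun k _ => ?_
      rw [LinearMap.coe_lTensorHom, LinearMap.lTensor_comp, LinearMap.comp_apply]
    have h2 : ∀ k, LinearMap.lTensor (F.obj (ModuleCat.of Λ N)) (p k) x = 0 := by
      intro k
      apply (hθ k).1
      rw [theta_natural_apply, hx, map_zero, map_zero]
    rw [h1]
    refine Finset.sum_eq_zero fun k _ => ?_
    rw [h2 k, map_zero]
  · intro y
    have h1 : y = ∑ k, F2 F N (i k) (F2 F N (p k) y) := by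
      have := congrArg (fun m => F2 F N m y) h
      simp only [F2_id, LinearMap.id_apply] at this
      refine this.symm.trans ?_
      rw [F2_sum, LinearMap.sum_apply]
      refine Finset.sum_congr rfl fun k _ => ?_
      rw [F2_comp, LinearMap.comp_apply]
    choose x hx using fun k => (hθ k).2 (F2 F N (p k) y)
    refine ⟨∑ k, LinearMap.lTensor _ (i k) (x k), ?_⟩
    rw [map_sum, h1]
    refine Finset.sum_congr rfl fun k _ => ?_
    rw [theta_natural_apply, hx k]

/-- `θ` is bijective on finite free modules -/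
lemma theta_pi_bijective (n : ℕ) : Function.Bijective (theta F N (Fin n → Λ)) := by
  refine theta_bijective_of_sum F N (fun _ : Fin n => Λ)
    (fun k => LinearMap.single Λ (fun _ : Fin n => Λ) k) (fun k => LinearMap.proj k) ?_
    (fun _ => theta_self_bijective F N)
  ext x j
  simp [Finset.sum_apply, Pi.single_apply]

/-- the five lemma step: `θ` is bijective on a cokernel -/
lemma theta_bijective_of_exact (a : Q →ₗ[Λ] Q') (b : Q' →ₗ[Λ] Q'') (hab : Function.Exact a b)
    (hb : Function.Surjective b)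
    (hF : ∀ {N₁ N₂ N₃ : ModuleCat.{u} Λ} (f : N₁ ⟶ N₂) (g : N₂ ⟶ N₃), Function.Exact f.hom g.hom →
      Function.Surjective g.hom →
      Function.Exact (F.map f).hom (F.map g).hom ∧ Function.Surjective (F.map g).hom)
    (h1 : Function.Surjective (theta F N Q)) (h2 : Function.Bijective (theta F N Q')) :
    Function.Bijective (theta F N Q'') := by
  have hN := hF (ModuleCat.ofHom (LinearMap.lTensor N a)) (ModuleCat.ofHom (LinearMap.lTensor N b))
    (lTensor_exact N hab hb) (LinearMap.lTensor_surjective N hb)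
  have hT : Function.Exact (LinearMap.lTensor (F.obj (ModuleCat.of Λ N)) a)
      (LinearMap.lTensor (F.obj (ModuleCat.of Λ N)) b) := lTensor_exact _ hab hb
  have hTs : Function.Surjective (LinearMap.lTensor (F.obj (ModuleCat.of Λ N)) b) :=
    LinearMap.lTensor_surjective _ hb
  constructor
  · rw [injective_iff_map_eq_zero]
    intro y hy
    obtain ⟨x, rfl⟩ := hTs y
    rw [theta_natural_apply] at hy
    obtain ⟨w, hw⟩ := (hN.1 (theta F N Q' x)).1 hy
    obtain ⟨z, rfl⟩ := h1 w
    have h3 : theta F N Q' (LinearMap.lTensor _ a z) = theta F N Q' x := by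
      rw [theta_natural_apply]; exact hw
    have h4 := h2.1 h3
    rw [← h4]
    exact hT.apply_apply_eq_zero z
  · intro y
    obtain ⟨w, rfl⟩ := hN.2 y
    obtain ⟨x, rfl⟩ := h2.2 w
    exact ⟨LinearMap.lTensor _ b x, theta_natural_apply F N b x⟩

/-- `θ` is bijective on finitely presented modules, for a right exact `F` -/
theorem theta_bijective_of_finitePresentation
    (hF : ∀ {N₁ N₂ N₃ : ModuleCat.{u} Λ} (f : N₁ ⟶ N₂) (g : N₂ ⟶ N₃), Function.Exact f.hom g.hom →
      Function.Surjective g.hom →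
      Function.Exact (F.map f).hom (F.map g).hom ∧ Function.Surjective (F.map g).hom)
    [Module.FinitePresentation Λ Q] : Function.Bijective (theta F N Q) := by
  obtain ⟨n, m, f, g, hf, hgf⟩ := Module.FinitePresentation.exists_fin' Λ Q
  exact theta_bijective_of_exact F N g f hgf hf hF (theta_pi_bijective F N m).2 (theta_pi_bijective F N n)

end Theta

section Apply

open TensorProduct

variable (U : C)

lemma T_rightExact {N₁ N₂ N₃ : ModuleCat.{u} Λ} (f : N₁ ⟶ N₂) (g : N₂ ⟶ N₃)
    (h : Function.Exact f.hom g.hom) (hg : Function.Surjective g.hom) :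
    Function.Exact ((T J Λ U).map f).hom ((T J Λ U).map g).hom ∧
      Function.Surjective ((T J Λ U).map g).hom :=
  ⟨T_exact J Λ U f g h, surjective_sections J Λ g hg U⟩

/-- `M̲(U) ⊗ Q → (M ⊗ Q)̲(U)` is bijective for finitely presented `Q`. -/
theorem theta_T_bijective (M Q : Type u) [AddCommGroup M] [Module Λ M] [AddCommGroup Q] [Module Λ Q]
    [Module.FinitePresentation Λ Q] : Function.Bijective (theta (T J Λ U) M Q) :=
  theta_bijective_of_finitePresentation (T J Λ U) M (fun f g h hg => T_rightExact J Λ U f g h hg)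

/-- sections of a constant sheaf on a flat module over a coherent ring are flat -/
theorem flat_T (hΛ : ∀ I : Ideal Λ, I.FG → Module.FinitePresentation Λ I)
    (M : Type u) [AddCommGroup M] [Module Λ M] [Module.Flat Λ M] :
    Module.Flat Λ ((T J Λ U).obj (ModuleCat.of Λ M)) := by
  rw [Module.Flat.iff_lTensor_injective]
  intro I hI
  haveI := hΛ I hI
  have h1 : Function.Injective ((F2 (T J Λ U) M I.subtype) ∘ (theta (T J Λ U) M I)) := by
    refine Function.Injective.comp ?_ (theta_T_bijective J Λ U M I).1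
    exact T_injective J Λ U _
      (Module.Flat.lTensor_preserves_injective_linearMap I.subtype I.subtype_injective)
  have h2 : (theta (T J Λ U) M Λ) ∘ (LinearMap.lTensor _ I.subtype) =
      (F2 (T J Λ U) M I.subtype) ∘ (theta (T J Λ U) M I) := by
    funext x
    exact theta_natural_apply (T J Λ U) M I.subtype x
  rw [← h2] at h1
  exact Function.Injective.of_comp h1

end Apply

end Groth.Agent.Lib.Seat41.ConstSec
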