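import Mathlib
import Groth.Prelude.Def_CohDer
import Groth.Agent.Lib.Helper17KInj12
import Groth.Agent.Lib.Helper17KInjD1
import Groth.Agent.Lib.Helper17Compact
import Groth.Agent.Lib.Helper21DCoprod
import Groth.Agent.Lib.Seat41QcCoprod

/-!
# Objects of finite `Ext`-dimension whose `Ext` commutes with coproducts are compact in `D(A)`
(Seat41)

`A` Grothendieck abelian, `Z : A` such that `Ext^p(Z, -) = 0` for `p > d` and every `Ext^p(Z, -)`
commutes with coproducts. Then `Z` in degree `0` is a compact object of `D(A)`.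
-/

set_option autoImplicit false
set_option linter.style.haveILetI false
set_option linter.unusedSectionVars false
universe w v u
open CategoryTheory CategoryTheory.Limits Opposite CategoryTheory.Abelian

namespace Groth.Agent.Lib.Seat41.ExtCompact

section Van

variable {A : Type u} [Category.{v} A] [Abelian A] [HasExt.{w} A] (Z : A)

/-- vanishing of `Ext^p(Z, M)` -/
def Van (M : A) (p : ℕ) : Prop := ∀ x : Ext Z M p, x = 0

/-- `M` is acyclic for `Hom(Z, -)` -/
def Acyc (M : A) : Prop := ∀ p : ℕ, Van Z M (p + 1)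

lemma acyc_of_injective (M : A) [Injective M] : Acyc Z M := fun _ x => Ext.eq_zero_of_injective x

lemma van_X₃ {S : ShortComplex A} (hS : S.ShortExact) (p : ℕ) (h₂ : Van Z S.X₂ p)
    (h₁ : Van Z S.X₁ (p + 1)) : Van Z S.X₃ p := by
  intro x₃
  obtain ⟨x₂, hx₂⟩ := Ext.covariant_sequence_exact₃ Z hS x₃ rfl (h₁ _)
  rw [← hx₂, h₂ x₂, Ext.zero_comp]

lemma acyc_X₃ {S : ShortComplex A} (hS : S.ShortExact) (h₂ : Acyc Z S.X₂) (h₁ : Acyc Z S.X₁) :
    Acyc Z S.X₃ := fun p => van_X₃ Z hS (p + 1) (h₂ p) (h₁ (p + 1))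

/-- lifting maps from `Z` along an epimorphism whose kernel has no `Ext^1` -/
lemma exists_lift_of_van {S : ShortComplex A} (hS : S.ShortExact) (h₁ : Van Z S.X₁ 1)
    (y : Z ⟶ S.X₃) : ∃ x : Z ⟶ S.X₂, x ≫ S.g = y := by
  obtain ⟨x₂, hx₂⟩ := Ext.covariant_sequence_exact₃ Z hS (Ext.mk₀ y) rfl (h₁ _)
  obtain ⟨x, rfl⟩ := (Ext.mk₀_bijective Z S.X₂).2 x₂
  rw [Ext.mk₀_comp_mk₀] at hx₂
  exact ⟨x, (Ext.mk₀_bijective Z S.X₃).1 hx₂⟩

end Van

section Cycles

variable {A : Type u} [Category.{v} A] [Abelian A] (N : CochainComplex A ℤ)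

/-- the short complex `0 → Z^i → N^i → Z^j → 0` -/
noncomputable abbrev cyc (i j k : ℤ) : ShortComplex A :=
  ShortComplex.mk (kernel.ι (N.d i j)) (kernel.lift (N.d j k) (N.d i j) (N.d_comp_d i j k)) (by
    rw [← cancel_mono (kernel.ι (N.d j k)), Category.assoc, kernel.lift_ι, kernel.condition,
      zero_comp])

lemma cyc_shortExact (i j k : ℤ) (hij : i + 1 = j) (hjk : j + 1 = k) (hN : N.ExactAt j) :
    (cyc N i j k).ShortExact := by
  have hex : (N.sc' i j k).Exact := (N.exactAt_iff' i j k (by simp; omega) (by simp; omega)).1 hN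
  haveI : Mono (cyc N i j k).f := inferInstanceAs (Mono (kernel.ι (N.d i j)))
  haveI : Epi (cyc N i j k).g := (N.sc' i j k).exact_iff_epi_kernel_lift.1 hex
  refine ShortComplex.ShortExact.mk' ?_ inferInstance inferInstance
  refine ShortComplex.exact_of_f_is_kernel _ (KernelFork.IsLimit.ofι _ _
    (fun {T} x hx => kernel.lift (N.d i j) x ?_) (fun {T} x hx => kernel.lift_ι _ _ _)
    (fun {T} x hx m hm => ?_))
  · have e : (x ≫ (cyc N i j k).g) ≫ kernel.ι (N.d j k) = x ≫ N.d i j := by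
      rw [Category.assoc]
      exact congrArg (x ≫ ·) (kernel.lift_ι _ _ _)
    rw [← e, hx, zero_comp]
  · rw [← cancel_mono (kernel.ι (N.d i j)), kernel.lift_ι]
    exact hm

end Cycles

section LemmaA

variable {A : Type u} [Category.{v} A] [Abelian A] [HasExt.{w} A] (Z : A)
  (N : CochainComplex A ℤ) (hN : ∀ i, N.ExactAt i) (hA : ∀ i, Acyc Z (N.X i))
  (d : ℕ) (hd : ∀ (F : A) (p : ℕ), d < p → Van Z F p)

include hN hA hd in
lemma van_cycles_aux (k : ℕ) : ∀ (i j : ℤ) (_ : i + 1 = j) (p : ℕ), 1 ≤ p → d < p + k →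
    Van Z (kernel (N.d i j)) p := by
  induction k with
  | zero => exact fun i j _ p _ hp => hd _ p (by omega)
  | succ k ih =>
    intro i j hij p hp hpk
    obtain ⟨p', rfl⟩ : ∃ p', p = p' + 1 := ⟨p - 1, by omega⟩
    exact van_X₃ Z (cyc_shortExact N (i - 1) i j (by omega) hij (hN i)) (p' + 1) (hA (i - 1) p')
      (ih (i - 1) i (by omega) (p' + 1 + 1) (by omega) (by omega))

include hN hA hd in
lemma acyc_cycles (i j : ℤ) (hij : i + 1 = j) : Acyc Z (kernel (N.d i j)) :=
  fun p => van_cycles_aux Z N hN hA d hd d i j hij (p + 1) (by omega) (by omega)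

include hN hA hd in
/-- **Lemma A.** In an exact complex of `Hom(Z, -)`-acyclic objects, cycles `Z ⟶ N^j` lift to
`N^i`. -/
theorem exists_lift_cycle (i j k : ℤ) (hij : i + 1 = j) (hjk : j + 1 = k) (g : Z ⟶ N.X j)
    (hg : g ≫ N.d j k = 0) : ∃ h : Z ⟶ N.X i, h ≫ N.d i j = g := by
  obtain ⟨h, hh⟩ := exists_lift_of_van Z (cyc_shortExact N i j k hij hjk (hN j))
    (acyc_cycles Z N hN hA d hd i j hij 0) (kernel.lift (N.d j k) g hg)
  refine ⟨h, ?_⟩
  have e : (h ≫ (cyc N i j k).g) ≫ kernel.ι (N.d j k) = h ≫ N.d i j := by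
    rw [Category.assoc]
    exact congrArg (h ≫ ·) (kernel.lift_ι _ _ _)
  rw [← e, hh, kernel.lift_ι]

end LemmaA

section LemmaB

open DerivedCategory CochainComplex.HomComplex Groth.Agent.Lib.Helper17.KInj

variable {A : Type u} [Category.{v} A] [Abelian A] [IsGrothendieckAbelian.{v} A] [HasExt.{w} A]
  [HasDerivedCategory.{v} A]
  (Z : A) (d : ℕ) (hd : ∀ (F : A) (p : ℕ), d < p → Van Z F p)

/-- the degree `0` term of `Z[0]` -/
noncomputable def isoZ : ((CochainComplex.singleFunctor A 0).obj Z).X 0 ≅ Z :=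
  HomologicalComplex.singleObjXSelf (ComplexShape.up ℤ) 0 Z

lemma ofHom_eq_fromSingleMk {I : CochainComplex A ℤ}
    (ψ : (CochainComplex.singleFunctor A 0).obj Z ⟶ I) :
    Cochain.ofHom ψ = Cochain.fromSingleMk (p := 0) (q := 0) (n := 0)
      ((isoZ Z).inv ≫ ψ.f 0) (add_zero 0) := by
  apply (Cochain.fromSingleEquiv (X := Z) (K := I) (p := 0) (q := 0) (n := 0) (add_zero 0)).injective
  rw [Cochain.fromSingleEquiv_fromSingleMk]
  simp [Cochain.fromSingleEquiv, isoZ]
  rfl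

include hd in
/-- **Lemma B.** Morphisms in `D(A)` from `Z[0]` to a complex of `Hom(Z, -)`-acyclic objects are
represented by chain maps. -/
theorem exists_Q_map_eq_of_acyc (M : CochainComplex A ℤ) (hM : ∀ i, Acyc Z (M.X i))
    (φ : Q.obj ((CochainComplex.singleFunctor A 0).obj Z) ⟶ Q.obj M) :
    ∃ f : (CochainComplex.singleFunctor A 0).obj Z ⟶ M, Q.map f = φ := by
  obtain ⟨I, s, hI, hs, hmono, hinj⟩ := exists_kInjective_resolution.{v} A M
  haveI := hI
  haveI := hs
  haveI := hmono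
  haveI := hinj
  obtain ⟨g, hg⟩ := exists_Q_map_eq (φ ≫ Q.map s)
  let iso := isoZ Z
  obtain ⟨g₀, hg₀def⟩ : ∃ g₀ : Z ⟶ I.X 0, g₀ = iso.inv ≫ g.f 0 := ⟨_, rfl⟩
  have hg₀ : g₀ ≫ I.d 0 1 = 0 := by
    have hd0 : ((CochainComplex.singleFunctor A 0).obj Z).d 0 1 = 0 :=
      HomologicalComplex.single_obj_d _ _ _ _ _
    have hc := g.comm 0 1
    rw [hd0, zero_comp] at hc
    rw [hg₀def, Category.assoc, hc, comp_zero]
  -- the cokernel
  haveI : Mono s := HomologicalComplex.mono_of_mono_f _ inferInstance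
  let S : ShortComplex (CochainComplex A ℤ) :=
    ShortComplex.mk s (cokernel.π s) (cokernel.condition s)
  have hS : S.ShortExact := ShortComplex.ShortExact.mk'
    (ShortComplex.exact_of_g_is_cokernel _ (cokernelIsCokernel s)) inferInstance
    (inferInstanceAs (Epi (cokernel.π s)))
  have hN : ∀ i, (cokernel s).ExactAt i := hS.acyclic_X₃ hs
  have hSi : ∀ i, (S.map (HomologicalComplex.eval A (ComplexShape.up ℤ) i)).ShortExact :=
    fun i => hS.map_of_exact _
  have hNA : ∀ i, Acyc Z ((cokernel s).X i) := fun i =>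
    acyc_X₃ Z (hSi i) (acyc_of_injective Z (I.X i)) (hM i)
  let π := cokernel.π s
  -- the chase
  obtain ⟨h', hh'⟩ := exists_lift_cycle Z (cokernel s) hN hNA d hd (-1) 0 1 (by omega) (by omega)
    (g₀ ≫ π.f 0) (by rw [Category.assoc, π.comm 0 1, reassoc_of% hg₀, zero_comp])
  obtain ⟨h, hh⟩ : ∃ h : Z ⟶ I.X (-1), h ≫ π.f (-1) = h' :=
    exists_lift_of_van Z (hSi (-1)) (hM (-1) 0) h'
  have hk : (g₀ - h ≫ I.d (-1) 0) ≫ π.f 0 = 0 := by
    rw [Preadditive.sub_comp, Category.assoc, ← π.comm (-1) 0, reassoc_of% hh, hh', sub_self]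
  haveI := (hSi 0).mono_f
  obtain ⟨g', hg'⟩ : ∃ g' : Z ⟶ M.X 0, g' ≫ s.f 0 = g₀ - h ≫ I.d (-1) 0 :=
    ⟨(hSi 0).exact.lift (g₀ - h ≫ I.d (-1) 0) hk, (hSi 0).exact.lift_f _ _⟩
  have hcyc : g' ≫ M.d 0 1 = 0 := by
    rw [← cancel_mono (s.f 1), Category.assoc, ← s.comm 0 1, reassoc_of% hg', zero_comp,
      Preadditive.sub_comp, hg₀, Category.assoc, I.d_comp_d, comp_zero, sub_zero]
  let f : (CochainComplex.singleFunctor A 0).obj Z ⟶ M :=
    HomologicalComplex.mkHomFromSingle g' (fun k hk => by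
      obtain rfl : k = 1 := by simpa using hk.symm
      exact hcyc)
  have hf0 : f.f 0 = iso.hom ≫ g' := HomologicalComplex.mkHomFromSingle_f _ _
  refine ⟨f, ?_⟩
  -- the homotopy
  have hH : Nonempty (Homotopy (f ≫ s) g) := by
    refine ⟨(Cochain.equivHomotopy (f ≫ s) g).symm
      ⟨Cochain.fromSingleMk (p := 0) (q := -1) (n := -1) (-h) (by omega), ?_⟩⟩
    rw [Cochain.δ_fromSingleMk (p := 0) (q := -1) (n := -1) (-h) (by omega) 0 0 (add_zero 0),
      ofHom_eq_fromSingleMk Z (f ≫ s), ofHom_eq_fromSingleMk Z g, ← Cochain.fromSingleMk_add]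
    congr 1
    have key : iso.inv ≫ (f ≫ s).f 0 = g' ≫ s.f 0 := by
      rw [HomologicalComplex.comp_f, hf0]
      simp only [Category.assoc, Iso.inv_hom_id_assoc]
    refine key.trans ?_
    rw [hg', Preadditive.neg_comp, ← hg₀def]
    abel
  obtain ⟨H⟩ := hH
  haveI : IsIso (Q.map s) := by
    rw [DerivedCategory.isIso_Q_map_iff_quasiIso]
    infer_instance
  rw [← cancel_mono (Q.map s), ← Q.map_comp, DerivedCategory.Q_map_eq_of_homotopy A H, hg]

end LemmaB

section Compact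

open DerivedCategory Groth.Agent.Lib.Helper17.Compact Groth.Agent.Lib.Helper21.DCoprod
  Groth.Agent.Lib.Seat41.QcCoprod

variable {A : Type u} [Category.{v} A] [Abelian A] [IsGrothendieckAbelian.{v} A] [HasExt.{v} A]
  (Z : A)
  (h2 : ∀ (p : ℕ) (ι : Type v),
    PreservesColimitsOfShape (Discrete ι) ((extFunctor p).obj (op Z)))

include h2 in
/-- coproducts of `Hom(Z, -)`-acyclic objects are acyclic -/
lemma acyc_of_isColimit {ι : Type v} {X : ι → A} {P : A} {inj : ∀ i, X i ⟶ P}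
    (hc : IsColimit (Cofan.mk P inj)) (hX : ∀ i, Acyc Z (X i)) : Acyc Z P := by
  intro p x
  haveI := h2 (p + 1) ι
  let H := (extFunctor (p + 1)).obj (op Z)
  have hH : IsColimit (H.mapCocone (Cofan.mk P inj)) := isColimitOfPreserves H hc
  obtain ⟨I, g, hg⟩ := exists_finset_sum_of_isColimit hH x
  rw [hg]
  refine Finset.sum_eq_zero (fun i _ => ?_)
  have : g i = 0 := hX i p (g i)
  rw [this]
  exact map_zero _

include h2 in
/-- maps from `Z` to coproducts are finitely supported -/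
lemma finSupp_obj : FinSupp Z (𝟭 A) := by
  intro ι X P inj hc φ
  change Z ⟶ P at φ
  haveI := h2 0 ι
  let H := (extFunctor 0).obj (op Z)
  have hH : IsColimit (H.mapCocone (Cofan.mk P inj)) := isColimitOfPreserves H hc
  obtain ⟨I, g, hg⟩ := exists_finset_sum_of_isColimit hH (Ext.mk₀ φ)
  let g' : ∀ i, Ext Z (X i) 0 := fun i => g i
  have hg' : Ext.mk₀ φ = ∑ i ∈ I, (g' i).comp (Ext.mk₀ (inj i)) (add_zero 0) := hg
  have hφ : φ = ∑ i ∈ I, Ext.addEquiv₀ (g' i) ≫ inj i := by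
    have h1 := congrArg Ext.addEquiv₀ hg'
    rw [map_sum] at h1
    have h0 : Ext.addEquiv₀ (Ext.mk₀ φ) = φ := Ext.addEquiv₀.apply_symm_apply φ
    rw [h0] at h1
    rw [h1]
    refine Finset.sum_congr rfl (fun i _ => ?_)
    apply Ext.addEquiv₀.symm.injective
    rw [AddEquiv.symm_apply_apply]
    show (g' i).comp (Ext.mk₀ (inj i)) (add_zero 0) = Ext.mk₀ (Ext.addEquiv₀ (g' i) ≫ inj i)
    rw [← Ext.mk₀_comp_mk₀, Ext.mk₀_addEquiv₀_apply]
  refine ⟨I, ?_⟩
  show φ ≫ idem hc I = φ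
  rw [hφ, Preadditive.sum_comp]
  refine Finset.sum_congr rfl (fun i hi => ?_)
  rw [Category.assoc, inj_idem_of_mem hc I i hi]

variable [HasDerivedCategory.{v} A]
  (d : ℕ) (hd : ∀ (F : A) (p : ℕ), d < p → Van Z F p)

include h2 hd in
/-- maps in `D(A)` from `Z[0]` to coproducts are finitely supported -/
theorem finSupp_single :
    FinSupp ((DerivedCategory.singleFunctor A 0).obj Z) (𝟭 (DerivedCategory A)) := by
  intro ι X P inj hc φ
  haveI : AB5OfSize.{v, v} A := IsGrothendieckAbelian.ab5OfSize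
  haveI : HasCoproducts.{v} A := inferInstance
  haveI : HasFiniteBiproducts A := Abelian.hasFiniteBiproducts
  haveI : AB4OfSize.{v} A := AB4.of_AB5 A
  haveI : HasExactColimitsOfShape (Discrete ι) A := AB4OfSize.ofShape ι
  -- representatives
  have hres : ∀ i, ∃ L : CochainComplex A ℤ, (∀ n, Injective (L.X n)) ∧
      Nonempty (DerivedCategory.Q.obj L ≅ X i) := fun i => by
    obtain ⟨I, f, -, hf, -, hinj⟩ := Groth.Agent.Lib.Helper17.KInj.exists_kInjective_resolution.{v} A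
      ((Q : _ ⥤ DerivedCategory A).objPreimage (X i))
    haveI := hf
    haveI : IsIso (Q.map f) := by
      rw [DerivedCategory.isIso_Q_map_iff_quasiIso]
      infer_instance
    exact ⟨I, hinj, ⟨(asIso (Q.map f)).symm ≪≫ Q.objObjPreimageIso (X i)⟩⟩
  choose L hLinj a₀ using hres
  let a : ∀ i, DerivedCategory.Q.obj (L i) ≅ X i := fun i => (a₀ i).some
  let Sg : CochainComplex A ℤ := sigmaK (ComplexShape.up ℤ) L
  let injK : ∀ i, L i ⟶ Sg := fun i => (cofanK (ComplexShape.up ℤ) L).inj i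
  have hK : IsColimit (Cofan.mk Sg injK) := isColimitCofanK (ComplexShape.up ℤ) L
  have hQ : IsColimit (Cofan.mk (DerivedCategory.Q.obj Sg)
      (fun i => DerivedCategory.Q.map (injK i))) := isColimitQMapCofan injK hK
  -- comparison of the two cofans
  let e : P ⟶ DerivedCategory.Q.obj Sg :=
    Cofan.IsColimit.desc hc (fun i => (a i).inv ≫ DerivedCategory.Q.map (injK i))
  have he : ∀ i, inj i ≫ e = (a i).inv ≫ DerivedCategory.Q.map (injK i) :=
    fun i => Cofan.IsColimit.fac hc _ i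
  let e' : DerivedCategory.Q.obj Sg ⟶ P :=
    Cofan.IsColimit.desc hQ (fun i => (a i).hom ≫ inj i)
  have he' : ∀ i, DerivedCategory.Q.map (injK i) ≫ e' = (a i).hom ≫ inj i :=
    fun i => Cofan.IsColimit.fac hQ _ i
  have hee' : e ≫ e' = 𝟙 P := by
    refine Cofan.IsColimit.hom_ext hc _ _ (fun i => ?_)
    show inj i ≫ e ≫ e' = inj i ≫ 𝟙 P
    rw [← Category.assoc, he, Category.assoc, he', Iso.inv_hom_id_assoc, Category.comp_id]
  have hmono : Mono e := mono_of_mono_fac hee'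
  -- the map as a chain map
  let isoK : (DerivedCategory.singleFunctor A 0).obj Z ≅
      DerivedCategory.Q.obj ((CochainComplex.singleFunctor A 0).obj Z) :=
    (DerivedCategory.singleFunctorIsoCompQ A 0).app Z
  have hSgA : ∀ n, Acyc Z (Sg.X n) := fun n =>
    acyc_of_isColimit Z h2 (isColimitX injK hK n) (fun i => acyc_of_injective Z ((L i).X n))
  obtain ⟨f, hf⟩ := exists_Q_map_eq_of_acyc Z d hd Sg hSgA (isoK.inv ≫ φ ≫ e)
  -- finite support in degree 0
  have hX0 : IsColimit (Cofan.mk (Sg.X 0) (fun i => (injK i).f 0)) := isColimitX injK hK 0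
  obtain ⟨s, hs⟩ := finSupp_obj Z h2 ι (fun i => (L i).X 0) (Sg.X 0)
    (fun i => (injK i).f 0) hX0 ((isoZ Z).inv ≫ f.f 0)
  have hs' : f.f 0 ≫ idem hX0 s = f.f 0 := by
    have : (isoZ Z).inv ≫ (f.f 0 ≫ idem hX0 s) = (isoZ Z).inv ≫ f.f 0 := by
      rw [← Category.assoc]; exact hs
    exact (cancel_epi (isoZ Z).inv).1 this
  have hidem0 : (idem hK s).f 0 = idem hX0 s :=
    map_idem hK (HomologicalComplex.eval A (ComplexShape.up ℤ) 0) hX0 s
  have hfs : f ≫ idem hK s = f := by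
    apply HomologicalComplex.from_single_hom_ext
    rw [HomologicalComplex.comp_f, hidem0, hs']
  have hQidem : DerivedCategory.Q.map (idem hK s) = idem hQ s :=
    map_idem hK DerivedCategory.Q hQ s
  have h1 : (isoK.inv ≫ φ ≫ e) ≫ idem hQ s = isoK.inv ≫ φ ≫ e := by
    rw [← hf, ← hQidem, ← Functor.map_comp, hfs]
  refine ⟨s, ?_⟩
  show φ ≫ idem hc s = φ
  have h2' : (φ ≫ e) ≫ idem hQ s = φ ≫ e := by
    have : isoK.inv ≫ ((φ ≫ e) ≫ idem hQ s) = isoK.inv ≫ (φ ≫ e) := by
      simpa only [Category.assoc] using h1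
    exact (cancel_epi isoK.inv).1 this
  have h3 : idem hc s ≫ e = e ≫ idem hQ s := by
    refine Cofan.IsColimit.hom_ext hc _ _ (fun i => ?_)
    show inj i ≫ idem hc s ≫ e = inj i ≫ e ≫ idem hQ s
    by_cases hi : i ∈ s
    · rw [← Category.assoc, inj_idem_of_mem hc s i hi, ← Category.assoc, he, Category.assoc,
        inj_idem_of_mem hQ s i hi]
    · rw [← Category.assoc, inj_idem_of_not_mem hc s i hi, zero_comp, ← Category.assoc, he,
        Category.assoc, inj_idem_of_not_mem hQ s i hi, comp_zero]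
  rw [← cancel_mono e, Category.assoc, h3, ← Category.assoc, h2']

include h2 hd in
/-- **Main theorem.** `Z[0]` is compact in `D(A)`. -/
theorem isCompactObject_single [HasCoproducts.{v} (DerivedCategory A)] :
    CohDer.IsCompactObject ((DerivedCategory.singleFunctor A 0).obj Z) :=
  compact_of_finSupp _ (finSupp_single Z h2 d hd)

end Compact

end Groth.Agent.Lib.Seat41.ExtCompact
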