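import Mathlib
import Groth.Agent.Lib.Seat41ExtCompact

/-!
# Maps from `Z[0]` to coproducts of uniformly bounded below objects of `D(A)` (Seat41)

Bounded below variant of `Seat41ExtCompact`: if every `Ext^p(Z, -)` commutes with coproducts
(no finiteness of the `Ext`-dimension), then `⊕ Hom(Z[0], M_i) ⟶ Hom(Z[0], ⊕ M_i)` is bijective
for every uniformly bounded below family `M_i` of objects of `D(A)`.
-/

set_option autoImplicit false
set_option linter.style.haveILetI false
set_option linter.unusedSectionVars false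
universe w v u
open CategoryTheory CategoryTheory.Limits Opposite CategoryTheory.Abelian

namespace Groth.Agent.Lib.Seat41.ExtCompactPlus

open Groth.Agent.Lib.Seat41.ExtCompact

section LemmaA

variable {A : Type u} [Category.{v} A] [Abelian A] [HasExt.{w} A] (Z : A)

lemma acyc_of_isZero {M : A} (h : IsZero M) : Acyc Z M := by
  intro p x
  rw [← Ext.comp_mk₀_id x, h.eq_of_src (𝟙 M) 0, Ext.mk₀_zero, Ext.comp_zero]

variable (N : CochainComplex A ℤ) (hN : ∀ i, N.ExactAt i) (hA : ∀ i, Acyc Z (N.X i))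

include hN in
/-- general form of Lemma A -/
theorem exists_lift_cycle' (hcyc : ∀ i j : ℤ, i + 1 = j → Van Z (kernel (N.d i j)) 1)
    (i j k : ℤ) (hij : i + 1 = j) (hjk : j + 1 = k) (g : Z ⟶ N.X j)
    (hg : g ≫ N.d j k = 0) : ∃ h : Z ⟶ N.X i, h ≫ N.d i j = g := by
  obtain ⟨h, hh⟩ := exists_lift_of_van Z (cyc_shortExact N i j k hij hjk (hN j))
    (hcyc i j hij) (kernel.lift (N.d j k) g hg)
  refine ⟨h, ?_⟩
  have e : (h ≫ (cyc N i j k).g) ≫ kernel.ι (N.d j k) = h ≫ N.d i j := by
    rw [Category.assoc]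
    exact congrArg (h ≫ ·) (kernel.lift_ι _ _ _)
  rw [← e, hh, kernel.lift_ι]

variable (b : ℤ) (hb : ∀ i, i < b → IsZero (N.X i))

include hb in
lemma isZero_kernel_of_lt (i j : ℤ) (hi : i < b) : IsZero (kernel (N.d i j)) := by
  rw [IsZero.iff_id_eq_zero, ← cancel_mono (kernel.ι (N.d i j))]
  exact (hb i hi).eq_of_tgt _ _

include hN hA hb in
lemma acyc_cycles_plus_aux (n : ℕ) : ∀ (i j : ℤ) (_ : i + 1 = j), i = b - 1 + n →
    Acyc Z (kernel (N.d i j)) := by
  induction n with
  | zero =>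
    intro i j _ hi
    exact acyc_of_isZero Z (isZero_kernel_of_lt N b hb i j (by omega))
  | succ n ih =>
    intro i j hij hi
    exact acyc_X₃ Z (cyc_shortExact N (i - 1) i j (by omega) hij (hN i)) (hA (i - 1))
      (ih (i - 1) i (by omega) (by push_cast at hi; omega))

include hN hA hb in
lemma acyc_cycles_plus (i j : ℤ) (hij : i + 1 = j) : Acyc Z (kernel (N.d i j)) := by
  by_cases hi : i < b
  · exact acyc_of_isZero Z (isZero_kernel_of_lt N b hb i j hi)
  · exact acyc_cycles_plus_aux Z N hN hA b hb (i - (b - 1)).toNat i j hij (by omega)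

end LemmaA

section LemmaB

open DerivedCategory CochainComplex.HomComplex Groth.Agent.Lib.Helper17.KInj

variable {A : Type u} [Category.{v} A] [Abelian A] [IsGrothendieckAbelian.{v} A] [HasExt.{w} A]
  [HasDerivedCategory.{v} A] (Z : A)

/-- general form of Lemma B -/
theorem exists_Q_map_eq_of_acyc' (M : CochainComplex A ℤ) (hM : ∀ i, Acyc Z (M.X i))
    (I : CochainComplex A ℤ) (s : M ⟶ I) [I.IsKInjective] [QuasiIso s]
    (hmono : ∀ n, Mono (s.f n)) (hinj : ∀ n, Injective (I.X n))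
    (hcyc' : (∀ i, (cokernel s).ExactAt i) → (∀ i, Acyc Z ((cokernel s).X i)) →
      ∀ i j : ℤ, i + 1 = j → Van Z (kernel ((cokernel s).d i j)) 1)
    (φ : Q.obj ((CochainComplex.singleFunctor A 0).obj Z) ⟶ Q.obj M) :
    ∃ f : (CochainComplex.singleFunctor A 0).obj Z ⟶ M, Q.map f = φ := by
  haveI := hmono
  haveI := hinj
  obtain ⟨g, hg⟩ := exists_Q_map_eq (φ ≫ Q.map s)
  let iso := isoZ Z
  obtain ⟨g₀, hg₀def⟩ : ∃ g₀ : Z ⟶ I.X 0, g₀ = iso.inv ≫ g.f 0 := ⟨_, rfl⟩
  have hg₀ : g₀ ≫ I.d 0 1 = 0 := by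
    have hd0 : ((CochainComplex.singleFunctor A 0).obj Z).d 0 1 = 0 :=
      HomologicalComplex.single_obj_d _ _ _ _ _
    have hc := g.comm 0 1
    rw [hd0, zero_comp] at hc
    rw [hg₀def, Category.assoc, hc, comp_zero]
  -- the cokernel
  haveI : Mono s := HomologicalComplex.mono_of_mono_f _ inferInstance
  let S : ShortComplex (CochainComplex A ℤ) :=
    ShortComplex.mk s (cokernel.π s) (cokernel.condition s)
  have hS : S.ShortExact := ShortComplex.ShortExact.mk'
    (ShortComplex.exact_of_g_is_cokernel _ (cokernelIsCokernel s)) inferInstance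
    (inferInstanceAs (Epi (cokernel.π s)))
  have hN : ∀ i, (cokernel s).ExactAt i := hS.acyclic_X₃ inferInstance
  have hSi : ∀ i, (S.map (HomologicalComplex.eval A (ComplexShape.up ℤ) i)).ShortExact :=
    fun i => hS.map_of_exact _
  have hNA : ∀ i, Acyc Z ((cokernel s).X i) := fun i =>
    acyc_X₃ Z (hSi i) (acyc_of_injective Z (I.X i)) (hM i)
  have hcyc := hcyc' hN hNA
  let π := cokernel.π s
  -- the chase
  obtain ⟨h', hh'⟩ := exists_lift_cycle' Z (cokernel s) hN hcyc (-1) 0 1 (by omega) (by omega)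
    (g₀ ≫ π.f 0) (by rw [Category.assoc, π.comm 0 1, reassoc_of% hg₀, zero_comp])
  obtain ⟨h, hh⟩ : ∃ h : Z ⟶ I.X (-1), h ≫ π.f (-1) = h' :=
    exists_lift_of_van Z (hSi (-1)) (hM (-1) 0) h'
  have hk : (g₀ - h ≫ I.d (-1) 0) ≫ π.f 0 = 0 := by
    rw [Preadditive.sub_comp, Category.assoc, ← π.comm (-1) 0, reassoc_of% hh, hh', sub_self]
  haveI := (hSi 0).mono_f
  obtain ⟨g', hg'⟩ : ∃ g' : Z ⟶ M.X 0, g' ≫ s.f 0 = g₀ - h ≫ I.d (-1) 0 :=
    ⟨(hSi 0).exact.lift (g₀ - h ≫ I.d (-1) 0) hk, (hSi 0).exact.lift_f _ _⟩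
  have hcyc' : g' ≫ M.d 0 1 = 0 := by
    rw [← cancel_mono (s.f 1), Category.assoc, ← s.comm 0 1, reassoc_of% hg', zero_comp,
      Preadditive.sub_comp, hg₀, Category.assoc, I.d_comp_d, comp_zero, sub_zero]
  let f : (CochainComplex.singleFunctor A 0).obj Z ⟶ M :=
    HomologicalComplex.mkHomFromSingle g' (fun k hk => by
      obtain rfl : k = 1 := by simpa using hk.symm
      exact hcyc')
  have hf0 : f.f 0 = iso.hom ≫ g' := HomologicalComplex.mkHomFromSingle_f _ _
  refine ⟨f, ?_⟩
  -- the homotopy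
  have hH : Nonempty (Homotopy (f ≫ s) g) := by
    refine ⟨(Cochain.equivHomotopy (f ≫ s) g).symm
      ⟨Cochain.fromSingleMk (p := 0) (q := -1) (n := -1) (-h) (by omega), ?_⟩⟩
    rw [Cochain.δ_fromSingleMk (p := 0) (q := -1) (n := -1) (-h) (by omega) 0 0 (add_zero 0),
      ofHom_eq_fromSingleMk Z (f ≫ s), ofHom_eq_fromSingleMk Z g, ← Cochain.fromSingleMk_add]
    congr 1
    have key : iso.inv ≫ (f ≫ s).f 0 = g' ≫ s.f 0 := by
      rw [HomologicalComplex.comp_f, hf0]
      simp only [Category.assoc, Iso.inv_hom_id_assoc]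
    refine key.trans ?_
    rw [hg', Preadditive.neg_comp, ← hg₀def]
    abel
  obtain ⟨H⟩ := hH
  haveI : IsIso (Q.map s) := by
    rw [DerivedCategory.isIso_Q_map_iff_quasiIso]
    infer_instance
  rw [← cancel_mono (Q.map s), ← Q.map_comp, DerivedCategory.Q_map_eq_of_homotopy A H, hg]

end LemmaB

section Plus

open DerivedCategory Groth.Agent.Lib.Helper17.Compact Groth.Agent.Lib.Helper21.DCoprod

variable {A : Type u} [Category.{v} A] [Abelian A] [IsGrothendieckAbelian.{v} A] [HasExt.{v} A]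
  [HasDerivedCategory.{v} A] (Z : A)
  (h2 : ∀ (p : ℕ) (ι : Type v),
    PreservesColimitsOfShape (Discrete ι) ((extFunctor p).obj (op Z)))

include h2 in
/-- maps in `D(A)` from `Z[0]` to a coproduct of uniformly bounded below objects are finitely
supported -/
theorem finSupp_family {ι : Type v} (X : ι → DerivedCategory A) (a : ℤ)
    (hX : ∀ i, (X i).IsGE a) {P : DerivedCategory A} {inj : ∀ i, X i ⟶ P}
    (hc : IsColimit (Cofan.mk P inj)) (φ : (DerivedCategory.singleFunctor A 0).obj Z ⟶ P) :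
    ∃ s : Finset ι, φ ≫ idem hc s = φ := by
  haveI : AB5OfSize.{v, v} A := IsGrothendieckAbelian.ab5OfSize
  haveI : HasCoproducts.{v} A := inferInstance
  haveI : HasFiniteBiproducts A := Abelian.hasFiniteBiproducts
  haveI : AB4OfSize.{v} A := AB4.of_AB5 A
  haveI : HasExactColimitsOfShape (Discrete ι) A := AB4OfSize.ofShape ι
  -- representatives
  have hres : ∀ i, ∃ L : CochainComplex A ℤ, L.IsStrictlyGE a ∧ (∀ n, Injective (L.X n)) ∧
      Nonempty (DerivedCategory.Q.obj L ≅ X i) := fun i => by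
    haveI := hX i
    obtain ⟨K, hK, ⟨e⟩⟩ := DerivedCategory.exists_iso_Q_obj_of_isGE (X i) a
    obtain ⟨L, f, hf, hL, hLa⟩ :=
      CochainComplex.Plus.modelCategoryQuillen.exists_quasiIso_injective K a
    haveI := hf
    haveI : IsIso (Q.map f) := by
      rw [DerivedCategory.isIso_Q_map_iff_quasiIso]
      infer_instance
    exact ⟨L, hLa, hL, ⟨(asIso (Q.map f)).symm ≪≫ e.symm⟩⟩
  choose L hLa hLinj a₀ using hres
  let a' : ∀ i, DerivedCategory.Q.obj (L i) ≅ X i := fun i => (a₀ i).some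
  let Sg : CochainComplex A ℤ := sigmaK (ComplexShape.up ℤ) L
  let injK : ∀ i, L i ⟶ Sg := fun i => (cofanK (ComplexShape.up ℤ) L).inj i
  have hK : IsColimit (Cofan.mk Sg injK) := isColimitCofanK (ComplexShape.up ℤ) L
  have hQ : IsColimit (Cofan.mk (DerivedCategory.Q.obj Sg)
      (fun i => DerivedCategory.Q.map (injK i))) := isColimitQMapCofan injK hK
  -- comparison of the two cofans
  let e : P ⟶ DerivedCategory.Q.obj Sg :=
    Cofan.IsColimit.desc hc (fun i => (a' i).inv ≫ DerivedCategory.Q.map (injK i))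
  have he : ∀ i, inj i ≫ e = (a' i).inv ≫ DerivedCategory.Q.map (injK i) :=
    fun i => Cofan.IsColimit.fac hc _ i
  let e' : DerivedCategory.Q.obj Sg ⟶ P :=
    Cofan.IsColimit.desc hQ (fun i => (a' i).hom ≫ inj i)
  have he' : ∀ i, DerivedCategory.Q.map (injK i) ≫ e' = (a' i).hom ≫ inj i :=
    fun i => Cofan.IsColimit.fac hQ _ i
  have hee' : e ≫ e' = 𝟙 P := by
    refine Cofan.IsColimit.hom_ext hc _ _ (fun i => ?_)
    show inj i ≫ e ≫ e' = inj i ≫ 𝟙 P
    rw [← Category.assoc, he, Category.assoc, he', Iso.inv_hom_id_assoc, Category.comp_id]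
  have hmono : Mono e := mono_of_mono_fac hee'
  let isoK : (DerivedCategory.singleFunctor A 0).obj Z ≅
      DerivedCategory.Q.obj ((CochainComplex.singleFunctor A 0).obj Z) :=
    (DerivedCategory.singleFunctorIsoCompQ A 0).app Z
  have hSgA : ∀ n, Acyc Z (Sg.X n) := fun n =>
    acyc_of_isColimit Z h2 (isColimitX injK hK n) (fun i => acyc_of_injective Z ((L i).X n))
  -- `Sg` is bounded below
  have hSgz : ∀ n, n < a → IsZero (Sg.X n) := fun n hn => by
    rw [IsZero.iff_id_eq_zero]
    refine Cofan.IsColimit.hom_ext (isColimitX injK hK n) _ _ (fun i => ?_)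
    haveI := hLa i
    exact ((L i).isZero_of_isStrictlyGE a n hn).eq_of_src _ _
  haveI : Sg.IsStrictlyGE a := by
    rw [CochainComplex.isStrictlyGE_iff]
    exact hSgz
  -- a bounded below injective resolution of `Sg`
  obtain ⟨I, s, hs1, hs2, hIinj, hIa⟩ :=
    CochainComplex.Plus.modelCategoryQuillen.exists_mono_quasiIso_injective Sg (a - 1) a
      (by omega)
  haveI := hs1
  haveI := hs2
  haveI := hIinj
  haveI := hIa
  haveI : I.IsKInjective := CochainComplex.isKInjective_of_injective I (a - 1)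
  have hsmono : ∀ n, Mono (s.f n) := fun n =>
    inferInstanceAs (Mono ((HomologicalComplex.eval A (ComplexShape.up ℤ) n).map s))
  have hb : ∀ i, i < a - 1 → IsZero ((cokernel s).X i) := fun i hi => by
    haveI : Epi ((cokernel.π s).f i) :=
      inferInstanceAs (Epi ((HomologicalComplex.eval A (ComplexShape.up ℤ) i).map (cokernel.π s)))
    rw [IsZero.iff_id_eq_zero, ← cancel_epi ((cokernel.π s).f i)]
    exact (I.isZero_of_isStrictlyGE (a - 1) i hi).eq_of_src _ _
  obtain ⟨f, hf⟩ := exists_Q_map_eq_of_acyc' Z Sg hSgA I s hsmono hIinj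
    (fun hN hNA i j hij => acyc_cycles_plus Z (cokernel s) hN hNA (a - 1) hb i j hij 0)
    (isoK.inv ≫ φ ≫ e)
  -- finite support in degree 0
  have hX0 : IsColimit (Cofan.mk (Sg.X 0) (fun i => (injK i).f 0)) := isColimitX injK hK 0
  obtain ⟨t, ht⟩ := finSupp_obj Z h2 ι (fun i => (L i).X 0) (Sg.X 0)
    (fun i => (injK i).f 0) hX0 ((isoZ Z).inv ≫ f.f 0)
  have ht' : f.f 0 ≫ idem hX0 t = f.f 0 := by
    have : (isoZ Z).inv ≫ (f.f 0 ≫ idem hX0 t) = (isoZ Z).inv ≫ f.f 0 := by
      rw [← Category.assoc]; exact ht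
    exact (cancel_epi (isoZ Z).inv).1 this
  have hidem0 : (idem hK t).f 0 = idem hX0 t :=
    map_idem hK (HomologicalComplex.eval A (ComplexShape.up ℤ) 0) hX0 t
  have hfs : f ≫ idem hK t = f := by
    apply HomologicalComplex.from_single_hom_ext
    rw [HomologicalComplex.comp_f, hidem0, ht']
  have hQidem : DerivedCategory.Q.map (idem hK t) = idem hQ t :=
    map_idem hK DerivedCategory.Q hQ t
  have h1 : (isoK.inv ≫ φ ≫ e) ≫ idem hQ t = isoK.inv ≫ φ ≫ e := by
    rw [← hf, ← hQidem, ← Functor.map_comp, hfs]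
  refine ⟨t, ?_⟩
  have h2' : (φ ≫ e) ≫ idem hQ t = φ ≫ e := by
    have : isoK.inv ≫ ((φ ≫ e) ≫ idem hQ t) = isoK.inv ≫ (φ ≫ e) := by
      simpa only [Category.assoc] using h1
    exact (cancel_epi isoK.inv).1 this
  have h3 : idem hc t ≫ e = e ≫ idem hQ t := by
    refine Cofan.IsColimit.hom_ext hc _ _ (fun i => ?_)
    show inj i ≫ idem hc t ≫ e = inj i ≫ e ≫ idem hQ t
    by_cases hi : i ∈ t
    · rw [← Category.assoc, inj_idem_of_mem hc t i hi, ← Category.assoc, he, Category.assoc,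
        inj_idem_of_mem hQ t i hi]
    · rw [← Category.assoc, inj_idem_of_not_mem hc t i hi, zero_comp, ← Category.assoc, he,
        Category.assoc, inj_idem_of_not_mem hQ t i hi, comp_zero]
  rw [← cancel_mono e, Category.assoc, h3, ← Category.assoc, h2']

end Plus

section Single

open Groth.Agent.Lib.Helper17.Compact

variable {D : Type u} [Category.{v} D] [Preadditive D]

theorem homSum_of' (K : D) {ι : Type v} [dec : DecidableEq ι] (X : ι → D) [HasCoproduct X]
    (i : ι) (y : K ⟶ X i) :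
    CohDer.homSumToHomCoprod K X (DirectSum.of (fun i => K ⟶ X i) i y) = y ≫ Sigma.ι X i := by
  classical
  obtain rfl : dec = fun a b => Classical.propDecidable (a = b) := Subsingleton.elim _ _
  unfold CohDer.homSumToHomCoprod
  rw [DirectSum.toAddMonoid_of]
  rfl

theorem homSum_comp_π' (K : D) {ι : Type v} [DecidableEq ι] (X : ι → D) [HasCoproduct X]
    (x : DirectSum ι (fun i => K ⟶ X i)) (i : ι) :
    CohDer.homSumToHomCoprod K X x ≫ Sigma.π X i = x i := by
  induction x using DirectSum.induction_on with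
  | zero => rw [(CohDer.homSumToHomCoprod K X).map_zero, zero_comp]; rfl
  | of j y =>
    rw [homSum_of', Category.assoc]
    by_cases hji : j = i
    · subst hji
      rw [Sigma.ι_π_eq_id, Category.comp_id, DirectSum.of_eq_same]
    · rw [Sigma.ι_π_of_ne X hji, comp_zero, DirectSum.of_eq_of_ne _ _ _ (Ne.symm hji)]
  | add x y hx hy =>
    rw [(CohDer.homSumToHomCoprod K X).map_add, Preadditive.add_comp, hx, hy]
    rfl

/-- single family version of `Helper17.Compact.compact_of_finSupp` -/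
theorem bijective_of_finSupp (K : D) {ι : Type v} (X : ι → D) [HasCoproduct X]
    (h : ∀ φ : K ⟶ ∐ X, ∃ s : Finset ι, φ ≫ idem (coproductIsCoproduct X) s = φ) :
    Function.Bijective (CohDer.homSumToHomCoprod K X) := by
  classical
  constructor
  · rw [injective_iff_map_eq_zero]
    intro x hx
    ext i
    have := homSum_comp_π' K X x i
    rw [hx, zero_comp] at this
    rw [← this]
    rfl
  · intro φ
    obtain ⟨s, hs'⟩ := h φ
    have hid : idem (coproductIsCoproduct X) s = ∑ i ∈ s, Sigma.π X i ≫ Sigma.ι X i := by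
      refine Cofan.IsColimit.hom_ext (coproductIsCoproduct X) _ _ (fun j => ?_)
      show Sigma.ι X j ≫ idem (coproductIsCoproduct X) s =
        Sigma.ι X j ≫ ∑ i ∈ s, Sigma.π X i ≫ Sigma.ι X i
      rw [Preadditive.comp_sum]
      by_cases hj : j ∈ s
      · rw [inj_idem_of_mem _ s j hj, Finset.sum_eq_single_of_mem j hj]
        · rw [← Category.assoc, Sigma.ι_π_eq_id, Category.id_comp]
        · intro i _ hij
          rw [← Category.assoc, Sigma.ι_π_of_ne X (Ne.symm hij), zero_comp]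
      · rw [inj_idem_of_not_mem _ s j hj, Finset.sum_eq_zero]
        intro i hi
        have hij : j ≠ i := fun e => hj (e ▸ hi)
        rw [← Category.assoc, Sigma.ι_π_of_ne X hij, zero_comp]
    refine ⟨∑ i ∈ s, DirectSum.of (fun i => K ⟶ X i) i (φ ≫ Sigma.π X i), ?_⟩
    rw [map_sum]
    simp only [homSum_of']
    rw [← hs']
    conv_rhs => rw [hid, Preadditive.comp_sum]
    refine Finset.sum_congr rfl (fun i _ => ?_)
    rw [hs', Category.assoc]

end Single

section Main

open DerivedCategory Groth.Agent.Lib.Helper17.Compact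

variable {A : Type u} [Category.{v} A] [Abelian A] [IsGrothendieckAbelian.{v} A] [HasExt.{v} A]
  [HasDerivedCategory.{v} A] (Z : A)
  (h2 : ∀ (p : ℕ) (ι : Type v),
    PreservesColimitsOfShape (Discrete ι) ((extFunctor p).obj (op Z)))

include h2 in
/-- `⊕ Hom(Z[0], M_i) ⟶ Hom(Z[0], ⊕ M_i)` is bijective for uniformly bounded below families. -/
theorem bijective_homSumToHomCoprod {ι : Type v} (X : ι → DerivedCategory A) [HasCoproduct X]
    (a : ℤ) (hX : ∀ i, (X i).IsGE a) :
    Function.Bijective (CohDer.homSumToHomCoprod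
      ((DerivedCategory.singleFunctor A 0).obj Z) X) :=
  bijective_of_finSupp _ X (fun φ => finSupp_family Z h2 X a hX (coproductIsCoproduct X) φ)

end Main

end Groth.Agent.Lib.Seat41.ExtCompactPlus
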