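import Mathlib
import Groth.Agent.Lib.Seat41ExtCompactPlus

/-!
# Variant of `Seat41ExtCompactPlus.finSupp_family` with weaker hypotheses (Seat41)

Instead of asking that all `Ext^p(Z, -)` commute with coproducts, we only ask that coproducts of
injectives are `Hom(Z, -)`-acyclic and that maps from `Z` to coproducts are finitely supported.
-/

set_option autoImplicit false
set_option linter.style.haveILetI false
set_option linter.unusedSectionVars false
universe w v u
open CategoryTheory CategoryTheory.Limits Opposite CategoryTheory.Abelian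

namespace Groth.Agent.Lib.Seat41.ExtCompactPlus2

open Groth.Agent.Lib.Seat41.ExtCompact Groth.Agent.Lib.Seat41.ExtCompactPlus

section Plus

open DerivedCategory Groth.Agent.Lib.Helper17.Compact Groth.Agent.Lib.Helper21.DCoprod

variable {A : Type u} [Category.{v} A] [Abelian A] [IsGrothendieckAbelian.{v} A] [HasExt.{v} A]
  [HasDerivedCategory.{v} A] (Z : A) {ι : Type v}
  (hac : ∀ (G : ι → A) (P : A) (inj : ∀ i, G i ⟶ P) (_ : IsColimit (Cofan.mk P inj)),
    (∀ i, Injective (G i)) → Acyc Z P)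
  (h0 : ∀ (G : ι → A) (P : A) (inj : ∀ i, G i ⟶ P) (hc : IsColimit (Cofan.mk P inj))
    (φ : Z ⟶ P), ∃ s : Finset ι, φ ≫ idem hc s = φ)

include hac h0 in
/-- maps in `D(A)` from `Z[0]` to a coproduct of uniformly bounded below objects are finitely
supported -/
theorem finSupp_family' (X : ι → DerivedCategory A) (a : ℤ)
    (hX : ∀ i, (X i).IsGE a) {P : DerivedCategory A} {inj : ∀ i, X i ⟶ P}
    (hc : IsColimit (Cofan.mk P inj)) (φ : (DerivedCategory.singleFunctor A 0).obj Z ⟶ P) :
    ∃ s : Finset ι, φ ≫ idem hc s = φ := by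
  haveI : AB5OfSize.{v, v} A := IsGrothendieckAbelian.ab5OfSize
  haveI : HasCoproducts.{v} A := inferInstance
  haveI : HasFiniteBiproducts A := Abelian.hasFiniteBiproducts
  haveI : AB4OfSize.{v} A := AB4.of_AB5 A
  haveI : HasExactColimitsOfShape (Discrete ι) A := AB4OfSize.ofShape ι
  -- representatives
  have hres : ∀ i, ∃ L : CochainComplex A ℤ, L.IsStrictlyGE a ∧ (∀ n, Injective (L.X n)) ∧
      Nonempty (DerivedCategory.Q.obj L ≅ X i) := fun i => by
    haveI := hX i
    obtain ⟨K, hK, ⟨e⟩⟩ := DerivedCategory.exists_iso_Q_obj_of_isGE (X i) a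
    obtain ⟨L, f, hf, hL, hLa⟩ :=
      CochainComplex.Plus.modelCategoryQuillen.exists_quasiIso_injective K a
    haveI := hf
    haveI : IsIso (Q.map f) := by
      rw [DerivedCategory.isIso_Q_map_iff_quasiIso]
      infer_instance
    exact ⟨L, hLa, hL, ⟨(asIso (Q.map f)).symm ≪≫ e.symm⟩⟩
  choose L hLa hLinj a₀ using hres
  let a' : ∀ i, DerivedCategory.Q.obj (L i) ≅ X i := fun i => (a₀ i).some
  let Sg : CochainComplex A ℤ := sigmaK (ComplexShape.up ℤ) L
  let injK : ∀ i, L i ⟶ Sg := fun i => (cofanK (ComplexShape.up ℤ) L).inj i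
  have hK : IsColimit (Cofan.mk Sg injK) := isColimitCofanK (ComplexShape.up ℤ) L
  have hQ : IsColimit (Cofan.mk (DerivedCategory.Q.obj Sg)
      (fun i => DerivedCategory.Q.map (injK i))) := isColimitQMapCofan injK hK
  -- comparison of the two cofans
  let e : P ⟶ DerivedCategory.Q.obj Sg :=
    Cofan.IsColimit.desc hc (fun i => (a' i).inv ≫ DerivedCategory.Q.map (injK i))
  have he : ∀ i, inj i ≫ e = (a' i).inv ≫ DerivedCategory.Q.map (injK i) :=
    fun i => Cofan.IsColimit.fac hc _ i
  let e' : DerivedCategory.Q.obj Sg ⟶ P :=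
    Cofan.IsColimit.desc hQ (fun i => (a' i).hom ≫ inj i)
  have he' : ∀ i, DerivedCategory.Q.map (injK i) ≫ e' = (a' i).hom ≫ inj i :=
    fun i => Cofan.IsColimit.fac hQ _ i
  have hee' : e ≫ e' = 𝟙 P := by
    refine Cofan.IsColimit.hom_ext hc _ _ (fun i => ?_)
    show inj i ≫ e ≫ e' = inj i ≫ 𝟙 P
    rw [← Category.assoc, he, Category.assoc, he', Iso.inv_hom_id_assoc, Category.comp_id]
  have hmono : Mono e := mono_of_mono_fac hee'
  let isoK : (DerivedCategory.singleFunctor A 0).obj Z ≅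
      DerivedCategory.Q.obj ((CochainComplex.singleFunctor A 0).obj Z) :=
    (DerivedCategory.singleFunctorIsoCompQ A 0).app Z
  have hSgA : ∀ n, Acyc Z (Sg.X n) := fun n =>
    hac (fun i => (L i).X n) (Sg.X n) (fun i => (injK i).f n) (isColimitX injK hK n)
      (fun i => hLinj i n)
  -- `Sg` is bounded below
  have hSgz : ∀ n, n < a → IsZero (Sg.X n) := fun n hn => by
    rw [IsZero.iff_id_eq_zero]
    refine Cofan.IsColimit.hom_ext (isColimitX injK hK n) _ _ (fun i => ?_)
    haveI := hLa i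
    exact ((L i).isZero_of_isStrictlyGE a n hn).eq_of_src _ _
  haveI : Sg.IsStrictlyGE a := by
    rw [CochainComplex.isStrictlyGE_iff]
    exact hSgz
  -- a bounded below injective resolution of `Sg`
  obtain ⟨I, s, hs1, hs2, hIinj, hIa⟩ :=
    CochainComplex.Plus.modelCategoryQuillen.exists_mono_quasiIso_injective Sg (a - 1) a
      (by omega)
  haveI := hs1
  haveI := hs2
  haveI := hIinj
  haveI := hIa
  haveI : I.IsKInjective := CochainComplex.isKInjective_of_injective I (a - 1)
  have hsmono : ∀ n, Mono (s.f n) := fun n =>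
    inferInstanceAs (Mono ((HomologicalComplex.eval A (ComplexShape.up ℤ) n).map s))
  have hb : ∀ i, i < a - 1 → IsZero ((cokernel s).X i) := fun i hi => by
    haveI : Epi ((cokernel.π s).f i) :=
      inferInstanceAs (Epi ((HomologicalComplex.eval A (ComplexShape.up ℤ) i).map (cokernel.π s)))
    rw [IsZero.iff_id_eq_zero, ← cancel_epi ((cokernel.π s).f i)]
    exact (I.isZero_of_isStrictlyGE (a - 1) i hi).eq_of_src _ _
  obtain ⟨f, hf⟩ := exists_Q_map_eq_of_acyc' Z Sg hSgA I s hsmono hIinj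
    (fun hN hNA i j hij => acyc_cycles_plus Z (cokernel s) hN hNA (a - 1) hb i j hij 0)
    (isoK.inv ≫ φ ≫ e)
  -- finite support in degree 0
  have hX0 : IsColimit (Cofan.mk (Sg.X 0) (fun i => (injK i).f 0)) := isColimitX injK hK 0
  obtain ⟨t, ht⟩ := h0 (fun i => (L i).X 0) (Sg.X 0)
    (fun i => (injK i).f 0) hX0 ((isoZ Z).inv ≫ f.f 0)
  have ht' : f.f 0 ≫ idem hX0 t = f.f 0 := by
    have : (isoZ Z).inv ≫ (f.f 0 ≫ idem hX0 t) = (isoZ Z).inv ≫ f.f 0 := by
      rw [← Category.assoc]; exact ht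
    exact (cancel_epi (isoZ Z).inv).1 this
  have hidem0 : (idem hK t).f 0 = idem hX0 t :=
    map_idem hK (HomologicalComplex.eval A (ComplexShape.up ℤ) 0) hX0 t
  have hfs : f ≫ idem hK t = f := by
    apply HomologicalComplex.from_single_hom_ext
    rw [HomologicalComplex.comp_f, hidem0, ht']
  have hQidem : DerivedCategory.Q.map (idem hK t) = idem hQ t :=
    map_idem hK DerivedCategory.Q hQ t
  have h1 : (isoK.inv ≫ φ ≫ e) ≫ idem hQ t = isoK.inv ≫ φ ≫ e := by
    rw [← hf, ← hQidem, ← Functor.map_comp, hfs]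
  refine ⟨t, ?_⟩
  have h2' : (φ ≫ e) ≫ idem hQ t = φ ≫ e := by
    have : isoK.inv ≫ ((φ ≫ e) ≫ idem hQ t) = isoK.inv ≫ (φ ≫ e) := by
      simpa only [Category.assoc] using h1
    exact (cancel_epi isoK.inv).1 this
  have h3 : idem hc t ≫ e = e ≫ idem hQ t := by
    refine Cofan.IsColimit.hom_ext hc _ _ (fun i => ?_)
    show inj i ≫ idem hc t ≫ e = inj i ≫ e ≫ idem hQ t
    by_cases hi : i ∈ t
    · rw [← Category.assoc, inj_idem_of_mem hc t i hi, ← Category.assoc, he, Category.assoc,
        inj_idem_of_mem hQ t i hi]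
    · rw [← Category.assoc, inj_idem_of_not_mem hc t i hi, zero_comp, ← Category.assoc, he,
        Category.assoc, inj_idem_of_not_mem hQ t i hi, comp_zero]
  rw [← cancel_mono e, Category.assoc, h3, ← Category.assoc, h2']

end Plus

section Main

open DerivedCategory Groth.Agent.Lib.Helper17.Compact

variable {A : Type u} [Category.{v} A] [Abelian A] [IsGrothendieckAbelian.{v} A] [HasExt.{v} A]
  [HasDerivedCategory.{v} A] (Z : A) {ι : Type v}
  (hac : ∀ (G : ι → A) (P : A) (inj : ∀ i, G i ⟶ P) (_ : IsColimit (Cofan.mk P inj)),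
    (∀ i, Injective (G i)) → Acyc Z P)
  (h0 : ∀ (G : ι → A) (P : A) (inj : ∀ i, G i ⟶ P) (hc : IsColimit (Cofan.mk P inj))
    (φ : Z ⟶ P), ∃ s : Finset ι, φ ≫ idem hc s = φ)

include hac h0 in
/-- `⊕ Hom(Z[0], M_i) ⟶ Hom(Z[0], ⊕ M_i)` is bijective for uniformly bounded below families. -/
theorem bijective_homSumToHomCoprod' (X : ι → DerivedCategory A) [HasCoproduct X]
    (a : ℤ) (hX : ∀ i, (X i).IsGE a) :
    Function.Bijective (CohDer.homSumToHomCoprod
      ((DerivedCategory.singleFunctor A 0).obj Z) X) :=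
  bijective_of_finSupp _ X (fun φ => finSupp_family' Z hac h0 X a hX (coproductIsCoproduct X) φ)

end Main

end Groth.Agent.Lib.Seat41.ExtCompactPlus2
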