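import Mathlib

/-!
# A finite type algebra is a filtered colimit of finitely presented algebras with surjective
transition maps (seat 41)
-/

set_option autoImplicit false
universe u
open CategoryTheory CategoryTheory.Limits

namespace Groth.Agent.Lib.Seat41.FPColim

variable {R : Type u} [CommRing R] {P A : Type u} [CommRing P] [Algebra R P] [CommRing A]
  [Algebra R A] (π : P →ₐ[R] A)

/-- The index: finitely generated ideals contained in the kernel. -/
abbrev Idx : Type u := {J : Ideal P // J.FG ∧ J ≤ RingHom.ker π.toRingHom}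

/-- The bottom index. -/
def botIdx : Idx π := ⟨⊥, ⟨∅, by simp⟩, bot_le⟩

lemma botIdx_le (J : Idx π) : botIdx π ≤ J := (bot_le : (⊥ : Ideal P) ≤ J.1)

instance : Nonempty (Idx π) := ⟨botIdx π⟩

instance : IsDirected (Idx π) (· ≤ ·) :=
  ⟨fun a b => ⟨⟨a.1 ⊔ b.1, Submodule.FG.sup a.2.1 b.2.1, sup_le a.2.2 b.2.2⟩,
    (le_sup_left : a.1 ≤ a.1 ⊔ b.1), (le_sup_right : b.1 ≤ a.1 ⊔ b.1)⟩⟩

instance : IsFiltered (Idx π) := isFiltered_of_directed_le_nonempty _

/-- The diagram of quotients. -/
noncomputable def D : Idx π ⥤ Under (CommRingCat.of R) where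
  obj J := Under.mk (CommRingCat.ofHom (algebraMap R (P ⧸ J.1)))
  map {J J'} h := Under.homMk (CommRingCat.ofHom (Ideal.Quotient.factor (leOfHom h))) (by
    ext r
    rfl)
  map_id J := by
    apply Under.UnderMorphism.ext
    ext x
    obtain ⟨x, rfl⟩ := Ideal.Quotient.mk_surjective x
    rfl
  map_comp {J J' J''} h h' := by
    apply Under.UnderMorphism.ext
    ext x
    obtain ⟨x, rfl⟩ := Ideal.Quotient.mk_surjective x
    rfl

/-- The cocone with point `A`. -/
noncomputable def cocone : Cocone (D π) where
  pt := Under.mk (CommRingCat.ofHom (algebraMap R A))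
  ι :=
    { app := fun J => Under.homMk (CommRingCat.ofHom
        (Ideal.Quotient.lift J.1 π.toRingHom (fun x hx => J.2.2 hx))) (by
          ext r
          exact π.commutes r)
      naturality := fun J J' h => by
        apply Under.UnderMorphism.ext
        ext x
        obtain ⟨x, rfl⟩ := Ideal.Quotient.mk_surjective x
        rfl }

lemma D_map_mk {J J' : Idx π} (h : J ⟶ J') (p : P) :
    ((D π).map h).right.hom (Ideal.Quotient.mk J.1 p) = Ideal.Quotient.mk J'.1 p := rfl

lemma cocone_ι_mk (J : Idx π) (p : P) :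
    ((cocone π).ι.app J).right.hom (Ideal.Quotient.mk J.1 p) = π p := rfl

/-- Every cocone leg is determined by the bottom one. -/
lemma ι_mk_eq (s : Cocone (D π)) (J : Idx π) (p : P) :
    (s.ι.app J).right.hom (Ideal.Quotient.mk J.1 p) =
      (s.ι.app (botIdx π)).right.hom (Ideal.Quotient.mk (botIdx π).1 p) := by
  have := s.w (homOfLE (botIdx_le π J))
  rw [← this]
  rfl

lemma ι_bot_eq_zero (s : Cocone (D π)) (x : P) (hx : x ∈ RingHom.ker π.toRingHom) :
    (s.ι.app (botIdx π)).right.hom (Ideal.Quotient.mk (botIdx π).1 x) = 0 := by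
  let Jx : Idx π := ⟨Ideal.span {x}, ⟨{x}, by simp⟩,
    (Ideal.span_singleton_le_iff_mem _).mpr hx⟩
  rw [← ι_mk_eq π s Jx x]
  have : Ideal.Quotient.mk Jx.1 x = 0 :=
    Ideal.Quotient.eq_zero_iff_mem.mpr (Ideal.mem_span_singleton_self x)
  rw [this]
  exact map_zero _

variable (hπ : Function.Surjective π)

/-- The descent ring map out of `A`. -/
noncomputable def descRing (s : Cocone (D π)) : A →+* s.pt.right :=
  (Ideal.Quotient.lift (RingHom.ker π.toRingHom)
    ((s.ι.app (botIdx π)).right.hom.comp (Ideal.Quotient.mk (botIdx π).1))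
    (fun x hx => ι_bot_eq_zero π s x hx)).comp
    (RingHom.quotientKerEquivOfSurjective (f := π.toRingHom) hπ).symm.toRingHom

lemma descRing_apply (s : Cocone (D π)) (p : P) :
    descRing π hπ s (π p) =
      (s.ι.app (botIdx π)).right.hom (Ideal.Quotient.mk (botIdx π).1 p) := by
  have h1 : (RingHom.quotientKerEquivOfSurjective (f := π.toRingHom) hπ).symm (π p) =
      Ideal.Quotient.mk (RingHom.ker π.toRingHom) p := by
    rw [RingEquiv.symm_apply_eq]
    rfl
  change (Ideal.Quotient.lift (RingHom.ker π.toRingHom)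
    ((s.ι.app (botIdx π)).right.hom.comp (Ideal.Quotient.mk (botIdx π).1))
    (fun x hx => ι_bot_eq_zero π s x hx))
    ((RingHom.quotientKerEquivOfSurjective (f := π.toRingHom) hπ).symm (π p)) = _
  rw [h1]
  rfl

/-- The cocone is a colimit. -/
noncomputable def isColimit : IsColimit (cocone π) where
  desc s := Under.homMk (CommRingCat.ofHom (descRing π hπ s)) (by
    ext r
    have h1 : algebraMap R A r = π (algebraMap R P r) := (π.commutes r).symm
    have h2 := congrArg (fun f => f.hom r) (Under.w (s.ι.app (botIdx π)))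
    change descRing π hπ s (algebraMap R A r) = s.pt.hom.hom r
    rw [h1, descRing_apply]
    exact h2)
  fac s J := by
    apply Under.UnderMorphism.ext
    ext x
    obtain ⟨p, rfl⟩ := Ideal.Quotient.mk_surjective x
    change descRing π hπ s (π p) = _
    rw [descRing_apply, ι_mk_eq π s J p]
  uniq s m hm := by
    apply Under.UnderMorphism.ext
    ext a
    obtain ⟨p, rfl⟩ := hπ a
    change m.right.hom (π p) = descRing π hπ s (π p)
    rw [descRing_apply, ← hm (botIdx π)]
    rfl

/-- An `R`-algebra of finite type is a filtered colimit of finitely presented `R`-algebras with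
surjective transition maps. -/
theorem exists_filtered_colimit_surjective (R A : Type u) [CommRing R] [CommRing A]
    [Algebra R A] [Algebra.FiniteType R A] :
    ∃ (I : Type u) (_ : SmallCategory I) (_ : IsFiltered I) (D : I ⥤ Under (CommRingCat.of R))
      (c : Cocone D) (_ : IsColimit c),
      (∀ i, (D.obj i).hom.hom.FinitePresentation) ∧
      (∀ (i j : I) (φ : i ⟶ j), Function.Surjective (D.map φ).right.hom) ∧
      c.pt = Under.mk (CommRingCat.ofHom (algebraMap R A)) := by
  obtain ⟨n, π, hπ⟩ := Algebra.FiniteType.iff_quotient_mvPolynomial''.mp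
    (inferInstance : Algebra.FiniteType R A)
  refine ⟨Idx π, inferInstance, inferInstance, D π, cocone π, isColimit π hπ, ?_, ?_, rfl⟩
  · intro J
    change (algebraMap R (MvPolynomial (Fin n) R ⧸ J.1)).FinitePresentation
    rw [RingHom.finitePresentation_algebraMap]
    exact Algebra.FinitePresentation.quotient J.2.1
  · intro J J' φ
    exact Ideal.Quotient.factor_surjective (leOfHom φ)

end Groth.Agent.Lib.Seat41.FPColim
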