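import Mathlib
import Groth.Agent.Lib.Seat41QcCoprod

/-!
# `Hom(j_{U!}O_U, -)` is the sections functor over `U` (seat 41)

* `homEquiv_eq`, `homAddEquiv`: the bijection `Hom(j_{U!}O_U, M) ≃ M(U)` is additive.
* `coyonedaIso`: `preadditiveCoyoneda.obj (op (freeOn O U)) ≅ secFunctor (ringSh O) U`.
* `preservesColimitsOfShape_coyoneda_freeOn`: for `U` quasi-compact, `Hom(j_{U!}O_U, -)` commutes
  with coproducts.
-/

set_option autoImplicit false
universe u
open CategoryTheory CategoryTheory.Limits Opposite

namespace Groth.Agent.Lib.Seat41.FreeOnSec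

open Groth.Agent.Lib.Helper23FreeOn Groth.Agent.Lib.Seat41.QcCoprod

variable {C : Type u} [SmallCategory C] {J : GrothendieckTopology C}
variable (O : Sheaf J CommRingCat.{u}) (U : C)

/-- Yoneda-type formula for `homEquiv`. -/
lemma homEquiv_eq {M : ModSite.Mod O} (h : ModSite.freeOn O U ⟶ M) :
    homEquiv O M U h = h.val.app (op U) (homEquiv O _ U (𝟙 _)) := by
  rw [← homEquiv_comp, Category.id_comp]

/-- The additive bijection `Hom(j_{U!}O_U, M) ≃+ M(U)`. -/
noncomputable def homAddEquiv (M : ModSite.Mod O) :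
    (ModSite.freeOn O U ⟶ M) ≃+ Γ (ModSite.ringSh O) M U :=
  { (homEquiv O M U : (ModSite.freeOn O U ⟶ M) ≃ Γ (ModSite.ringSh O) M U) with
    map_add' := by
      intro h h'
      show homEquiv O M U (h + h') = homEquiv O M U h + homEquiv O M U h'
      rw [homEquiv_eq, homEquiv_eq O U h, homEquiv_eq O U h']
      simp }

/-- `Hom(j_{U!}O_U, -)` is the sections functor over `U`. -/
noncomputable def coyonedaIso :
    preadditiveCoyoneda.obj (op (ModSite.freeOn O U)) ≅ secFunctor (ModSite.ringSh O) U :=
  NatIso.ofComponents (fun M => (homAddEquiv O U M).toAddCommGrpIso) (by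
    intro M N p
    ext h
    exact homEquiv_comp O h p)

/-- For `U` quasi-compact, `Hom(j_{U!}O_U, -)` commutes with coproducts. -/
theorem preservesColimitsOfShape_coyoneda_freeOn
    (hU : CohCx.IsQcObject ((presheafToSheaf J (Type u)).obj (yoneda.obj U))) (ι : Type u) :
    PreservesColimitsOfShape (Discrete ι) (preadditiveCoyoneda.obj (op (ModSite.freeOn O U))) := by
  have : PreservesColimitsOfShape (Discrete ι) (secFunctor (ModSite.ringSh O) U) :=
    ⟨fun {K} => preservesColimit_secFunctor (ModSite.ringSh O) K U hU⟩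
  exact preservesColimitsOfShape_of_natIso (coyonedaIso O U).symm

end Groth.Agent.Lib.Seat41.FreeOnSec
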