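import Mathlib
import Groth.Prelude.Def_CohDer
import Groth.Prelude.Def_CohSite
import Groth.Agent.Lib.Seat41FreeOnSec
import Groth.Agent.Lib.Helper17Compact
import Groth.Agent.Lib.Helper21DCoprod
import Groth.Agent.Lib.Helper21ModTensor5

/-!
# `j_{U!}O_U` is compact in `D(O)` for `U` quasi-compact and weakly contractible (seat 41)
-/

set_option autoImplicit false
universe v u
open CategoryTheory CategoryTheory.Limits Opposite

namespace Groth.Agent.Lib.Seat41.FreeCompact

open Groth.Agent.Lib.Helper17.Compact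

section Transport

variable {D : Type u} [Category.{v} D] [Preadditive D] {ι : Type v} {X X' : ι → D} {P P' : D}
  {inj : ∀ i, X i ⟶ P} {inj' : ∀ i, X' i ⟶ P'}
  (hc : IsColimit (Cofan.mk P inj)) (hc' : IsColimit (Cofan.mk P' inj'))

/-- The idempotents of coproduct cofans are compatible with morphisms of cofans. -/
lemma idem_comp_of_compat (a : ∀ i, X i ⟶ X' i) (e : P ⟶ P')
    (h : ∀ i, inj i ≫ e = a i ≫ inj' i) (s : Finset ι) :
    idem hc s ≫ e = e ≫ idem hc' s := by
  refine Cofan.IsColimit.hom_ext hc _ _ (fun i => ?_)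
  show inj i ≫ idem hc s ≫ e = inj i ≫ e ≫ idem hc' s
  by_cases hi : i ∈ s
  · rw [← Category.assoc, inj_idem_of_mem hc s i hi, ← Category.assoc, h, Category.assoc,
      inj_idem_of_mem hc' s i hi]
  · rw [← Category.assoc, inj_idem_of_not_mem hc s i hi, zero_comp, ← Category.assoc, h,
      Category.assoc, inj_idem_of_not_mem hc' s i hi, comp_zero]

end Transport

section KProj

variable {A : Type u} [Category.{v} A] [Abelian A]

/-- The single complex of a projective object is K-projective. -/
lemma isKProjective_single (P : A) [Projective P] :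
    ((CochainComplex.singleFunctor A 0).obj P).IsKProjective := by
  have : ∀ n : ℤ, Projective (((CochainComplex.singleFunctor A 0).obj P).X n) := by
    intro n
    by_cases hn : n = 0
    · subst hn
      exact Projective.of_iso (HomologicalComplex.singleObjXSelf (ComplexShape.up ℤ) 0 P).symm
        inferInstance
    · have hz : IsZero (((CochainComplex.singleFunctor A 0).obj P).X n) :=
        HomologicalComplex.isZero_single_obj_X (ComplexShape.up ℤ) 0 P n hn
      exact Projective.of_iso hz.isoZero.symm inferInstance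
  exact CochainComplex.isKProjective_of_projective _ 0

variable [HasDerivedCategory.{v} A]

/-- Maps in the derived category out of a K-projective complex are represented by chain maps. -/
lemma Q_map_surjective (K L : CochainComplex A ℤ) [K.IsKProjective]
    (m : DerivedCategory.Q.obj K ⟶ DerivedCategory.Q.obj L) :
    ∃ f : K ⟶ L, DerivedCategory.Q.map f = m := by
  let iso := DerivedCategory.quotientCompQhIso A
  obtain ⟨g, hg⟩ := (CochainComplex.IsKProjective.Qh_map_bijective K
    ((HomotopyCategory.quotient A (ComplexShape.up ℤ)).obj L)).surjective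
    (iso.hom.app K ≫ m ≫ iso.inv.app L)
  obtain ⟨f, rfl⟩ := (HomotopyCategory.quotient A (ComplexShape.up ℤ)).map_surjective g
  refine ⟨f, ?_⟩
  have nat := iso.hom.naturality f
  dsimp at nat hg
  rw [← cancel_epi (iso.hom.app K), ← nat, hg]
  simp

end KProj

section Site

open Groth.Agent.Lib.Helper23FreeOn Groth.Agent.Lib.Seat41.QcCoprod
  Groth.Agent.Lib.Seat41.FreeOnSec

variable {C : Type u} [SmallCategory C] {J : GrothendieckTopology C}
variable (O : Sheaf J CommRingCat.{u}) (U : C)

/-- For `U` weakly contractible, `j_{U!}O_U` is a projective `O`-module. -/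
theorem projective_freeOn (hwc : CohSite.IsWeaklyContractible J U) :
    Projective (ModSite.freeOn O U) := by
  refine ⟨fun {E X} f e he => ?_⟩
  have hloc : Presheaf.IsLocallySurjective J
      ((PresheafOfModules.toPresheaf (ModSite.ringSh O).obj).map e.val) :=
    Groth.Agent.Lib.Helper4.ModEpi.isLocallySurjective_of_epi e
  have hloc' : Sheaf.IsLocallySurjective ((SheafOfModules.toSheaf (ModSite.ringSh O)).map e) :=
    hloc
  have hepi : Epi ((sheafCompose J (forget AddCommGrpCat.{u})).map
      ((SheafOfModules.toSheaf (ModSite.ringSh O)).map e)) := inferInstance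
  have hsurj := hwc _ _ _ hepi
  obtain ⟨m, hm⟩ := hsurj (homEquiv O X U f)
  obtain ⟨m', hm'⟩ : ∃ m' : E.val.obj (op U), e.val.app (op U) m' = homEquiv O X U f :=
    ⟨m, hm⟩
  refine ⟨(homEquiv O E U).symm m', ?_⟩
  apply (homEquiv O X U).injective
  rw [homEquiv_comp, Equiv.apply_symm_apply, hm']

/-- For `U` quasi-compact, maps from `j_{U!}O_U` to a coproduct are finitely supported. -/
theorem finSupp_freeOn
    (hU : CohCx.IsQcObject ((presheafToSheaf J (Type u)).obj (yoneda.obj U))) :
    FinSupp (ModSite.freeOn O U) (𝟭 (ModSite.Mod O)) := by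
  intro ι X P inj hc φ
  have hpres := preservesColimitsOfShape_coyoneda_freeOn O U hU ι
  let H := preadditiveCoyoneda.obj (op (ModSite.freeOn O U))
  have hH : IsColimit (H.mapCocone (Cofan.mk P inj)) := isColimitOfPreserves H hc
  obtain ⟨I, g, hg⟩ : ∃ (I : Finset ι) (g : ∀ i, ModSite.freeOn O U ⟶ X i),
      φ = ∑ i ∈ I, g i ≫ inj i := exists_finset_sum_of_isColimit hH φ
  refine ⟨I, ?_⟩
  show φ ≫ idem hc I = φ
  rw [hg, Preadditive.sum_comp]
  refine Finset.sum_congr rfl (fun i hi => ?_)
  rw [Category.assoc, inj_idem_of_mem hc I i hi]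

end Site

section Main

open Groth.Agent.Lib.Helper21.DCoprod

variable {C : Type u} [SmallCategory C] {J : GrothendieckTopology C}
variable (O : Sheaf J CommRingCat.{u}) (U : C)
variable [HasDerivedCategory.{u} (ModSite.Mod O)]

/-- Maps in `D(O)` from `j_{U!}O_U` (in degree `0`) to a coproduct are finitely supported, for
`U` quasi-compact and weakly contractible. -/
theorem finSupp_single_freeOn
    (hqc : CohCx.IsQcObject ((presheafToSheaf J (Type u)).obj (yoneda.obj U)))
    (hwc : CohSite.IsWeaklyContractible J U) :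
    FinSupp ((DerivedCategory.singleFunctor (ModSite.Mod O) 0).obj (ModSite.freeOn O U))
      (𝟭 (DerivedCategory (ModSite.Mod O))) := by
  intro ι X P inj hc φ
  have hproj : Projective (ModSite.freeOn O U) := projective_freeOn O U hwc
  have hKP := isKProjective_single (ModSite.freeOn O U)
  have hex := Groth.Agent.Lib.Helper21.ModTensor5.hasExactColimitsOfShape_discrete O ι
  -- representatives
  let L : ι → CochainComplex (ModSite.Mod O) ℤ := fun i => DerivedCategory.Q.objPreimage (X i)
  let a : ∀ i, DerivedCategory.Q.obj (L i) ≅ X i := fun i =>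
    DerivedCategory.Q.objObjPreimageIso (X i)
  let Sg : CochainComplex (ModSite.Mod O) ℤ := sigmaK (ComplexShape.up ℤ) L
  let injK : ∀ i, L i ⟶ Sg := fun i => (cofanK (ComplexShape.up ℤ) L).inj i
  have hK : IsColimit (Cofan.mk Sg injK) := isColimitCofanK (ComplexShape.up ℤ) L
  have hQ : IsColimit (Cofan.mk (DerivedCategory.Q.obj Sg)
      (fun i => DerivedCategory.Q.map (injK i))) := isColimitQMapCofan injK hK
  -- comparison of the two cofans
  let e : P ⟶ DerivedCategory.Q.obj Sg :=
    Cofan.IsColimit.desc hc (fun i => (a i).inv ≫ DerivedCategory.Q.map (injK i))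
  have he : ∀ i, inj i ≫ e = (a i).inv ≫ DerivedCategory.Q.map (injK i) :=
    fun i => Cofan.IsColimit.fac hc _ i
  let e' : DerivedCategory.Q.obj Sg ⟶ P :=
    Cofan.IsColimit.desc hQ (fun i => (a i).hom ≫ inj i)
  have he' : ∀ i, DerivedCategory.Q.map (injK i) ≫ e' = (a i).hom ≫ inj i :=
    fun i => Cofan.IsColimit.fac hQ _ i
  have hee' : e ≫ e' = 𝟙 P := by
    refine Cofan.IsColimit.hom_ext hc _ _ (fun i => ?_)
    show inj i ≫ e ≫ e' = inj i ≫ 𝟙 P
    rw [← Category.assoc, he, Category.assoc, he', Iso.inv_hom_id_assoc, Category.comp_id]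
  have hmono : Mono e := mono_of_mono_fac hee'
  -- the map as a chain map
  let S : CochainComplex (ModSite.Mod O) ℤ :=
    (CochainComplex.singleFunctor (ModSite.Mod O) 0).obj (ModSite.freeOn O U)
  let isoK : (DerivedCategory.singleFunctor (ModSite.Mod O) 0).obj (ModSite.freeOn O U) ≅
      DerivedCategory.Q.obj S :=
    (DerivedCategory.singleFunctorIsoCompQ (ModSite.Mod O) 0).app (ModSite.freeOn O U)
  obtain ⟨f, hf⟩ := Q_map_surjective S Sg (isoK.inv ≫ φ ≫ e)
  -- finite support in degree 0
  have hX0 : IsColimit (Cofan.mk (Sg.X 0) (fun i => (injK i).f 0)) := isColimitX injK hK 0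
  let i0 : S.X 0 ≅ ModSite.freeOn O U :=
    HomologicalComplex.singleObjXSelf (ComplexShape.up ℤ) 0 (ModSite.freeOn O U)
  obtain ⟨s, hs⟩ := finSupp_freeOn O U hqc ι (fun i => (L i).X 0) (Sg.X 0)
    (fun i => (injK i).f 0) hX0 (i0.inv ≫ f.f 0)
  have hs' : f.f 0 ≫ idem hX0 s = f.f 0 := by
    have : i0.inv ≫ (f.f 0 ≫ idem hX0 s) = i0.inv ≫ f.f 0 := by
      rw [← Category.assoc]; exact hs
    exact (cancel_epi i0.inv).1 this
  have hidem0 : (idem hK s).f 0 = idem hX0 s :=
    map_idem hK (HomologicalComplex.eval (ModSite.Mod O) (ComplexShape.up ℤ) 0) hX0 s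
  have hfs : f ≫ idem hK s = f := by
    apply HomologicalComplex.from_single_hom_ext
    rw [HomologicalComplex.comp_f, hidem0, hs']
  have hQidem : DerivedCategory.Q.map (idem hK s) = idem hQ s :=
    map_idem hK DerivedCategory.Q hQ s
  have h1 : (isoK.inv ≫ φ ≫ e) ≫ idem hQ s = isoK.inv ≫ φ ≫ e := by
    rw [← hf, ← hQidem, ← Functor.map_comp, hfs]
  refine ⟨s, ?_⟩
  show φ ≫ idem hc s = φ
  have h2 : (φ ≫ e) ≫ idem hQ s = φ ≫ e := by
    have : isoK.inv ≫ ((φ ≫ e) ≫ idem hQ s) = isoK.inv ≫ (φ ≫ e) := by
      simpa only [Category.assoc] using h1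
    exact (cancel_epi isoK.inv).1 this
  have h3 : idem hc s ≫ e = e ≫ idem hQ s :=
    idem_comp_of_compat hc hQ (fun i => (a i).inv) e he s
  rw [← cancel_mono e, Category.assoc, h3, ← Category.assoc, h2]

/-- `j_{U!}O_U` is a compact object of `D(O)` for `U` quasi-compact and weakly contractible. -/
theorem isCompactObject_single_freeOn [HasCoproducts.{u} (DerivedCategory (ModSite.Mod O))]
    (hqc : CohCx.IsQcObject ((presheafToSheaf J (Type u)).obj (yoneda.obj U)))
    (hwc : CohSite.IsWeaklyContractible J U) :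
    CohDer.IsCompactObject
      ((DerivedCategory.singleFunctor (ModSite.Mod O) 0).obj (ModSite.freeOn O U)) :=
  compact_of_finSupp _ (finSupp_single_freeOn O U hqc hwc)

end Main

end Groth.Agent.Lib.Seat41.FreeCompact
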