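import Mathlib
import Groth.Prelude.Def_ModSite
import Groth.Prelude.Def_AlgSpPerf
import Groth.Agent.Lib.Helper21UnitHom
import Groth.Agent.Lib.Helper4ModEpi

/-!
# Local lifting of maps out of (summands of) finite free modules through epimorphisms (helper41)
-/

set_option autoImplicit false
universe u

open CategoryTheory CategoryTheory.Limits Opposite

namespace Groth.Agent.Lib.Seat41.LocalLift

variable {C : Type u} [SmallCategory C] {J : GrothendieckTopology C}

/-- finitely many covering sieves have a common covering refinement -/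
theorem exists_covering_le {V : C} {ι : Type*} [Finite ι] (S : ι → Sieve V) (hS : ∀ j, S j ∈ J V) :
    ∃ R ∈ J V, ∀ j, R ≤ S j := by
  classical
  have := Fintype.ofFinite ι
  suffices h : ∀ t : Finset ι, ∃ R ∈ J V, ∀ j ∈ t, R ≤ S j by
    obtain ⟨R, hR, h'⟩ := h Finset.univ
    exact ⟨R, hR, fun j => h' j (Finset.mem_univ j)⟩
  intro t
  induction t using Finset.induction_on with
  | empty => exact ⟨⊤, J.top_mem V, by simp⟩
  | insert a t _ ih =>
    obtain ⟨R, hR, h'⟩ := ih
    refine ⟨R ⊓ S a, J.intersection_covering hR (hS a), ?_⟩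
    intro j hj
    rcases Finset.mem_insert.1 hj with rfl | hj
    · exact inf_le_right
    · exact inf_le_left.trans (h' j hj)

variable (O : Sheaf J CommRingCat.{u}) (W : C)

instance restrAdditive : (ModSite.restr O W).Additive where

/-- the terminal object of `C/W` -/
noncomputable def hT : IsTerminal (Over.mk (𝟙 W)) := Over.mkIdTerminal

/-- Lifting a map from a finite free module through `p` over `W`, given lifts of the generating sections. -/
theorem exists_lift_free {F G : ModSite.Mod O} (p : G ⟶ F) (I : Type u) [Finite I]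
    (ψ : SheafOfModules.free (R := ModSite.ringSh O) I ⟶ F) (t : I → G.val.obj (op W))
    (ht : ∀ j, p.val.app (op W) (t j) = (F.freeHomEquiv ψ j).val (op W)) :
    ∃ l' : (ModSite.restr O W).obj (SheafOfModules.free (R := ModSite.ringSh O) I) ⟶
        (ModSite.restr O W).obj G,
      l' ≫ (ModSite.restr O W).map p = (ModSite.restr O W).map ψ := by
  let e : SheafOfModules.free (R := ModSite.ringSh (O.over W)) I ≅
      (ModSite.restr O W).obj (SheafOfModules.free (R := ModSite.ringSh O) I) :=
    SheafOfModules.mapFreeIso (ModSite.restr O W) I (Iso.refl _)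
  let t' : I → ((ModSite.restr O W).obj G).val.obj (op (Over.mk (𝟙 W))) := t
  let l'' : SheafOfModules.free (R := ModSite.ringSh (O.over W)) I ⟶ (ModSite.restr O W).obj G :=
    ((ModSite.restr O W).obj G).freeHomEquiv.symm
      (fun j => Groth.Agent.Lib.Helper21.UnitHom.secOf (hT W) _ (t' j))
  refine ⟨e.inv ≫ l'', ?_⟩
  rw [Category.assoc, Iso.inv_comp_eq]
  apply Cofan.IsColimit.hom_ext (SheafOfModules.isColimitFreeCofan I)
  intro j
  change SheafOfModules.ιFree j ≫ l'' ≫ (ModSite.restr O W).map p =
    SheafOfModules.ιFree j ≫ e.hom ≫ (ModSite.restr O W).map ψ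
  apply (Groth.Agent.Lib.Helper21.UnitHom.unitHomAddEquiv (hT W) _).injective
  have h1 : SheafOfModules.ιFree j ≫ l'' =
      (Groth.Agent.Lib.Helper21.UnitHom.unitHomAddEquiv (hT W) _).symm (t' j) := by
    have := SheafOfModules.unitHomEquiv_symm_freeHomEquiv_apply l'' j
    rw [← this]
    simp only [l'', Equiv.apply_symm_apply]
    rfl
  have h2 : SheafOfModules.ιFree j ≫ e.hom =
      (ModSite.restr O W).map (SheafOfModules.ιFree j) := by
    have := SheafOfModules.ιFree_mapFreeIso_hom (ModSite.restr O W) I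
      (Iso.refl (SheafOfModules.unit (ModSite.ringSh (O.over W)))) j
    exact this.trans (Category.id_comp _)
  rw [← Category.assoc, ← Category.assoc, h1, h2]
  have h3 : ∀ (x : ((ModSite.restr O W).obj G).val.obj (op (Over.mk (𝟙 W)))),
      Groth.Agent.Lib.Helper21.UnitHom.unitHomAddEquiv (hT W) ((ModSite.restr O W).obj F)
        ((Groth.Agent.Lib.Helper21.UnitHom.unitHomAddEquiv (hT W) _).symm x ≫
          (ModSite.restr O W).map p) =
      ((ModSite.restr O W).map p).val.app (op (Over.mk (𝟙 W))) x := by
    intro x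
    have := (Groth.Agent.Lib.Helper21.UnitHom.unitHomAddEquiv (hT W)
      ((ModSite.restr O W).obj G)).apply_symm_apply x
    conv_rhs => rw [← this]
    rfl
  rw [h3]
  refine (ht j).trans ?_
  rfl

/-- Local lifting through an epimorphism for a direct summand of a finite free module. -/
theorem exists_local_lift (E F G : ModSite.Mod O)
    (hE : DCoh.IsFinFreeSummandMod (ModSite.ringSh O) E)
    (p : G ⟶ F) [Epi p] (φ : E ⟶ F) (V : C) :
    ∃ R ∈ J V, ∀ ⦃W : C⦄ (g : W ⟶ V), R g →
      ∃ l : (ModSite.restr O W).obj E ⟶ (ModSite.restr O W).obj G,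
        l ≫ (ModSite.restr O W).map p = (ModSite.restr O W).map φ := by
  obtain ⟨n, i, q, hiq⟩ := hE
  have hloc := Groth.Agent.Lib.Helper4.ModEpi.isLocallySurjective_of_epi p
  let s : ULift.{u} (Fin n) → F.sections := fun j => F.freeHomEquiv (q ≫ φ) j
  obtain ⟨R, hR, hRle⟩ := exists_covering_le (J := J)
    (fun j : ULift.{u} (Fin n) =>
      Presheaf.imageSieve ((PresheafOfModules.toPresheaf _).map p.val) ((s j).val (op V)))
    (fun j => Presheaf.imageSieve_mem J _ _)
  refine ⟨R, hR, fun W g hg => ?_⟩
  have ht : ∀ j : ULift.{u} (Fin n), ∃ t : G.val.obj (op W),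
      p.val.app (op W) t = (F.freeHomEquiv (q ≫ φ) j).val (op W) := by
    intro j
    obtain ⟨t, ht⟩ := hRle j _ hg
    refine ⟨t, ht.trans ?_⟩
    exact (s j).property g.op
  choose t ht using ht
  obtain ⟨l', hl'⟩ := exists_lift_free O W p (ULift.{u} (Fin n)) (q ≫ φ) t ht
  refine ⟨(ModSite.restr O W).map i ≫ l', ?_⟩
  rw [Category.assoc, hl', ← Functor.map_comp, ← Category.assoc, hiq, Category.id_comp]

end Groth.Agent.Lib.Seat41.LocalLift
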