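import Mathlib
import Groth.Prelude.Def_ModSite
import Groth.Prelude.Def_AlgSpPerf
import Groth.Agent.Lib.Seat41LocalLift

/-!
# Restriction of local homomorphisms of sheaves of modules on a ringed site (helper41)

For `h : W' ⟶ W` and `l : A|_W ⟶ B|_W` we define `resHom O h l : A|_{W'} ⟶ B|_{W'}` and prove the
local lifting lemma for *local* maps out of a direct summand of a finite free module.
-/

set_option autoImplicit false
universe u

open CategoryTheory CategoryTheory.Limits Opposite

namespace Groth.Agent.Lib.Seat41.LocHom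

section Generic

variable {C : Type u} [SmallCategory C] {J : GrothendieckTopology C} (R : Sheaf J RingCat.{u})

instance overMapAdditive {W W' : C} (h : W' ⟶ W) :
    (SheafOfModules.overMap.{u} R h).Additive where

/-- restriction of a local homomorphism along `h : W' ⟶ W` -/
noncomputable def resHom' {W W' : C} (h : W' ⟶ W) {A B : SheafOfModules.{u} R}
    (l : (SheafOfModules.overFunctor R W).obj A ⟶ (SheafOfModules.overFunctor R W).obj B) :
    (SheafOfModules.overFunctor R W').obj A ⟶ (SheafOfModules.overFunctor R W').obj B :=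
  (SheafOfModules.overFunctorMap.{u} R h).inv.app A ≫
    (SheafOfModules.overMap.{u} R h).map l ≫
    (SheafOfModules.overFunctorMap.{u} R h).hom.app B

variable {R}

theorem resHom'_comp {W W' : C} (h : W' ⟶ W) {A B D : SheafOfModules.{u} R}
    (l : (SheafOfModules.overFunctor R W).obj A ⟶ (SheafOfModules.overFunctor R W).obj B)
    (m : (SheafOfModules.overFunctor R W).obj B ⟶ (SheafOfModules.overFunctor R W).obj D) :
    resHom' R h (l ≫ m) = resHom' R h l ≫ resHom' R h m := by
  simp [resHom']

theorem resHom'_map {W W' : C} (h : W' ⟶ W) {A B : SheafOfModules.{u} R} (φ : A ⟶ B) :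
    resHom' R h ((SheafOfModules.overFunctor R W).map φ) =
      (SheafOfModules.overFunctor R W').map φ := by
  have := (SheafOfModules.overFunctorMap.{u} R h).hom.naturality φ
  dsimp only [resHom']
  rw [Functor.comp_map] at this
  rw [this, ← Category.assoc, Iso.inv_hom_id_app]
  exact Category.id_comp _

theorem resHom'_add {W W' : C} (h : W' ⟶ W) {A B : SheafOfModules.{u} R}
    (l m : (SheafOfModules.overFunctor R W).obj A ⟶ (SheafOfModules.overFunctor R W).obj B) :
    resHom' R h (l + m) = resHom' R h l + resHom' R h m := by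
  simp [resHom', Functor.map_add]

theorem resHom'_sub {W W' : C} (h : W' ⟶ W) {A B : SheafOfModules.{u} R}
    (l m : (SheafOfModules.overFunctor R W).obj A ⟶ (SheafOfModules.overFunctor R W).obj B) :
    resHom' R h (l - m) = resHom' R h l - resHom' R h m := by
  simp [resHom', Functor.map_sub]

theorem resHom'_zero {W W' : C} (h : W' ⟶ W) {A B : SheafOfModules.{u} R} :
    resHom' R h (0 : (SheafOfModules.overFunctor R W).obj A ⟶
      (SheafOfModules.overFunctor R W).obj B) = 0 := by
  simp [resHom']

theorem resHom'_app {W W' : C} (h : W' ⟶ W) {A B : SheafOfModules.{u} R}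
    (l : (SheafOfModules.overFunctor R W).obj A ⟶ (SheafOfModules.overFunctor R W).obj B)
    (Y : Over W') (x : ((SheafOfModules.overFunctor R W').obj A).val.obj (op Y)) :
    (resHom' R h l).val.app (op Y) x = l.val.app (op ((Over.map h).obj Y)) x := rfl

end Generic

section ModSite

open Groth.Agent.Lib.Seat41.LocalLift

variable {C : Type u} [SmallCategory C] {J : GrothendieckTopology C} (O : Sheaf J CommRingCat.{u})

/-- restriction of a local homomorphism along `h : W' ⟶ W` -/
noncomputable def resHom {W W' : C} (h : W' ⟶ W) {A B : ModSite.Mod O}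
    (l : (ModSite.restr O W).obj A ⟶ (ModSite.restr O W).obj B) :
    (ModSite.restr O W').obj A ⟶ (ModSite.restr O W').obj B :=
  resHom' (ModSite.ringSh O) h l

variable {O}

theorem resHom_comp {W W' : C} (h : W' ⟶ W) {A B D : ModSite.Mod O}
    (l : (ModSite.restr O W).obj A ⟶ (ModSite.restr O W).obj B)
    (m : (ModSite.restr O W).obj B ⟶ (ModSite.restr O W).obj D) :
    resHom O h (l ≫ m) = resHom O h l ≫ resHom O h m :=
  resHom'_comp (R := ModSite.ringSh O) h l m

theorem resHom_map {W W' : C} (h : W' ⟶ W) {A B : ModSite.Mod O} (φ : A ⟶ B) :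
    resHom O h ((ModSite.restr O W).map φ) = (ModSite.restr O W').map φ :=
  resHom'_map (R := ModSite.ringSh O) h φ

theorem resHom_add {W W' : C} (h : W' ⟶ W) {A B : ModSite.Mod O}
    (l m : (ModSite.restr O W).obj A ⟶ (ModSite.restr O W).obj B) :
    resHom O h (l + m) = resHom O h l + resHom O h m :=
  resHom'_add (R := ModSite.ringSh O) h l m

theorem resHom_sub {W W' : C} (h : W' ⟶ W) {A B : ModSite.Mod O}
    (l m : (ModSite.restr O W).obj A ⟶ (ModSite.restr O W).obj B) :
    resHom O h (l - m) = resHom O h l - resHom O h m :=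
  resHom'_sub (R := ModSite.ringSh O) h l m

theorem resHom_zero {W W' : C} (h : W' ⟶ W) {A B : ModSite.Mod O} :
    resHom O h (0 : (ModSite.restr O W).obj A ⟶ (ModSite.restr O W).obj B) = 0 :=
  resHom'_zero (R := ModSite.ringSh O) h

variable (O)

/-- Lifting a *local* map from a finite free module through `p` over `W' → W`, given lifts of the
generating sections. -/
theorem exists_lift_free_local {F G : ModSite.Mod O} (p : G ⟶ F) (I : Type u) [Finite I]
    {W W' : C} (h : W' ⟶ W)
    (ψ : (ModSite.restr O W).obj (SheafOfModules.free (R := ModSite.ringSh O) I) ⟶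
      (ModSite.restr O W).obj F)
    (t : I → G.val.obj (op W'))
    (ht : ∀ j, p.val.app (op W') (t j) = F.val.map h.op
      (Groth.Agent.Lib.Helper21.UnitHom.unitHomAddEquiv (hT W) ((ModSite.restr O W).obj F)
        ((ModSite.restr O W).map (SheafOfModules.ιFree j) ≫ ψ))) :
    ∃ l' : (ModSite.restr O W').obj (SheafOfModules.free (R := ModSite.ringSh O) I) ⟶
        (ModSite.restr O W').obj G,
      l' ≫ (ModSite.restr O W').map p = resHom O h ψ := by
  let e : SheafOfModules.free (R := ModSite.ringSh (O.over W')) I ≅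
      (ModSite.restr O W').obj (SheafOfModules.free (R := ModSite.ringSh O) I) :=
    SheafOfModules.mapFreeIso (ModSite.restr O W') I (Iso.refl _)
  let t' : I → ((ModSite.restr O W').obj G).val.obj (op (Over.mk (𝟙 W'))) := t
  let l'' : SheafOfModules.free (R := ModSite.ringSh (O.over W')) I ⟶ (ModSite.restr O W').obj G :=
    ((ModSite.restr O W').obj G).freeHomEquiv.symm
      (fun j => Groth.Agent.Lib.Helper21.UnitHom.secOf (hT W') _ (t' j))
  refine ⟨e.inv ≫ l'', ?_⟩
  rw [Category.assoc, Iso.inv_comp_eq]
  apply Cofan.IsColimit.hom_ext (SheafOfModules.isColimitFreeCofan I)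
  intro j
  change SheafOfModules.ιFree j ≫ l'' ≫ (ModSite.restr O W').map p =
    SheafOfModules.ιFree j ≫ e.hom ≫ resHom O h ψ
  apply (Groth.Agent.Lib.Helper21.UnitHom.unitHomAddEquiv (hT W') _).injective
  have h1 : SheafOfModules.ιFree j ≫ l'' =
      (Groth.Agent.Lib.Helper21.UnitHom.unitHomAddEquiv (hT W') _).symm (t' j) := by
    have := SheafOfModules.unitHomEquiv_symm_freeHomEquiv_apply l'' j
    rw [← this]
    simp only [l'', Equiv.apply_symm_apply]
    rfl
  have h2 : SheafOfModules.ιFree j ≫ e.hom =
      (ModSite.restr O W').map (SheafOfModules.ιFree j) := by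
    have := SheafOfModules.ιFree_mapFreeIso_hom (ModSite.restr O W') I
      (Iso.refl (SheafOfModules.unit (ModSite.ringSh (O.over W')))) j
    exact this.trans (Category.id_comp _)
  rw [← Category.assoc, ← Category.assoc, h1, h2]
  have h3 : ∀ (x : ((ModSite.restr O W').obj G).val.obj (op (Over.mk (𝟙 W')))),
      Groth.Agent.Lib.Helper21.UnitHom.unitHomAddEquiv (hT W') ((ModSite.restr O W').obj F)
        ((Groth.Agent.Lib.Helper21.UnitHom.unitHomAddEquiv (hT W') _).symm x ≫
          (ModSite.restr O W').map p) =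
      ((ModSite.restr O W').map p).val.app (op (Over.mk (𝟙 W'))) x := by
    intro x
    have := (Groth.Agent.Lib.Helper21.UnitHom.unitHomAddEquiv (hT W')
      ((ModSite.restr O W').obj G)).apply_symm_apply x
    conv_rhs => rw [← this]
    rfl
  rw [h3]
  refine (ht j).trans ?_
  -- the right-hand side
  have h4 : (ModSite.restr O W').map (SheafOfModules.ιFree j) ≫ resHom O h ψ =
      resHom O h ((ModSite.restr O W).map (SheafOfModules.ιFree j) ≫ ψ) := by
    rw [resHom_comp, resHom_map]
  refine Eq.trans ?_ (congrArg (Groth.Agent.Lib.Helper21.UnitHom.unitHomAddEquiv (hT W')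
    ((ModSite.restr O W').obj F)) h4.symm)
  let χ : SheafOfModules.unit (ModSite.ringSh (O.over W)) ⟶ (ModSite.restr O W).obj F :=
    (ModSite.restr O W).map (SheafOfModules.ιFree (R := ModSite.ringSh O) j) ≫ ψ
  let u : (Over.map h).obj (Over.mk (𝟙 W')) ⟶ Over.mk (𝟙 W) := Over.homMk h (by simp)
  have hnat := PresheafOfModules.naturality_apply χ.val u.op
    (1 : (ModSite.ringSh (O.over W)).obj.obj (op (Over.mk (𝟙 W))))
  have hone := PresheafOfModules.unit_map_one (R := (ModSite.ringSh (O.over W)).obj) u.op
  change F.val.map h.op (χ.val.app (op (Over.mk (𝟙 W)))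
      (1 : (ModSite.ringSh (O.over W)).obj.obj (op (Over.mk (𝟙 W))))) =
    χ.val.app (op ((Over.map h).obj (Over.mk (𝟙 W'))))
      (1 : (ModSite.ringSh (O.over W)).obj.obj (op ((Over.map h).obj (Over.mk (𝟙 W')))))
  refine Eq.trans ?_ ((congrArg _ hone).symm.trans hnat).symm
  rfl

/-- Local lifting through an epimorphism of a *local* map out of a direct summand of a finite free
module. -/
theorem exists_local_lift' (E F G : ModSite.Mod O)
    (hE : DCoh.IsFinFreeSummandMod (ModSite.ringSh O) E)
    (p : G ⟶ F) [Epi p] {W : C} (φ : (ModSite.restr O W).obj E ⟶ (ModSite.restr O W).obj F) :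
    ∃ R ∈ J W, ∀ ⦃W' : C⦄ (h : W' ⟶ W), R h →
      ∃ l : (ModSite.restr O W').obj E ⟶ (ModSite.restr O W').obj G,
        l ≫ (ModSite.restr O W').map p = resHom O h φ := by
  obtain ⟨n, i, q, hiq⟩ := hE
  have hloc := Groth.Agent.Lib.Helper4.ModEpi.isLocallySurjective_of_epi p
  let ψ : (ModSite.restr O W).obj (SheafOfModules.free (R := ModSite.ringSh O) (ULift.{u} (Fin n))) ⟶
      (ModSite.restr O W).obj F := (ModSite.restr O W).map q ≫ φ
  let s : ULift.{u} (Fin n) → F.val.obj (op W) := fun j =>
    Groth.Agent.Lib.Helper21.UnitHom.unitHomAddEquiv (hT W) ((ModSite.restr O W).obj F)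
      ((ModSite.restr O W).map (SheafOfModules.ιFree j) ≫ ψ)
  obtain ⟨R, hR, hRle⟩ := exists_covering_le (J := J)
    (fun j : ULift.{u} (Fin n) =>
      Presheaf.imageSieve ((PresheafOfModules.toPresheaf _).map p.val) (s j))
    (fun j => Presheaf.imageSieve_mem J _ _)
  refine ⟨R, hR, fun W' h hh => ?_⟩
  have ht : ∀ j : ULift.{u} (Fin n), ∃ t : G.val.obj (op W'),
      p.val.app (op W') t = F.val.map h.op (s j) := by
    intro j
    obtain ⟨t, ht⟩ := hRle j _ hh
    exact ⟨t, ht⟩
  choose t ht using ht
  obtain ⟨l', hl'⟩ := exists_lift_free_local O p (ULift.{u} (Fin n)) h ψ t ht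
  refine ⟨(ModSite.restr O W').map i ≫ l', ?_⟩
  rw [Category.assoc, hl', resHom_comp, resHom_map, ← Category.assoc, ← Functor.map_comp, hiq,
    CategoryTheory.Functor.map_id, Category.id_comp]

end ModSite

end Groth.Agent.Lib.Seat41.LocHom
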