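import Mathlib
import Groth.Prelude.Def_ModSite
import Groth.Prelude.Def_AlgSpPerf
import Groth.Agent.Lib.Seat41LocHom

/-!
# Maps from strictly perfect complexes to complexes acyclic in high degrees are locally
null-homotopic (helper41)
-/

set_option autoImplicit false
set_option linter.style.haveILetI false
universe u

open CategoryTheory CategoryTheory.Limits Opposite

namespace Groth.Agent.Lib.Seat41.LocNull

open Groth.Agent.Lib.Seat41.LocalLift Groth.Agent.Lib.Seat41.LocHom

variable {C : Type u} [SmallCategory C] {J : GrothendieckTopology C} (O : Sheaf J CommRingCat.{u})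
variable {E F : CochainComplex (ModSite.Mod O) ℤ} (α : E ⟶ F)

/-- the homotopy equation in degree `k` for a two-index family of local maps over `W` -/
def HEq (W : C) (h : ∀ p q : ℤ, (ModSite.restr O W).obj (E.X p) ⟶ (ModSite.restr O W).obj (F.X q))
    (k : ℤ) : Prop :=
  ∀ k' k'' : ℤ, k + 1 = k' → k'' + 1 = k →
    (ModSite.restr O W).map (α.f k) =
      (ModSite.restr O W).map (E.d k k') ≫ h k' k + h k k'' ≫ (ModSite.restr O W).map (F.d k'' k)

variable {O α}

theorem heq_of_isZero (W : C)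
    (h : ∀ p q : ℤ, (ModSite.restr O W).obj (E.X p) ⟶ (ModSite.restr O W).obj (F.X q))
    (k : ℤ) (hk : IsZero (E.X k)) : HEq O α W h k := by
  intro k' k'' _ _
  have h0 : IsZero ((ModSite.restr O W).obj (E.X k)) := Functor.map_isZero _ hk
  exact h0.eq_of_src _ _

theorem heq_res {W W' : C} (u : W' ⟶ W)
    (h : ∀ p q : ℤ, (ModSite.restr O W).obj (E.X p) ⟶ (ModSite.restr O W).obj (F.X q))
    (k : ℤ) (hk : HEq O α W h k) : HEq O α W' (fun p q => resHom O u (h p q)) k := by
  intro k' k'' hk' hk''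
  have := congrArg (resHom O u) (hk k' k'' hk' hk'')
  rw [resHom_map, resHom_add, resHom_comp, resHom_comp, resHom_map, resHom_map] at this
  exact this

variable (O α)

/-- the local partial null-homotopy property down to degree `j` -/
def P (j : ℤ) : Prop :=
  ∀ V : C, ∃ R ∈ J V, ∀ ⦃W : C⦄ (g : W ⟶ V), R g →
    ∃ h : ∀ p q : ℤ, (ModSite.restr O W).obj (E.X p) ⟶ (ModSite.restr O W).obj (F.X q),
      ∀ k : ℤ, j ≤ k → HEq O α W h k

variable {O α}

theorem P_base (b : ℤ) (hb : ∀ i : ℤ, b < i → IsZero (E.X i)) : P O α (b + 1) := by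
  intro V
  refine ⟨⊤, J.top_mem V, fun W g _ => ⟨fun _ _ => 0, fun k hk => ?_⟩⟩
  exact heq_of_isZero W _ k (hb k (by omega))

theorem P_step (j jm jp : ℤ) (hjm : jm + 1 = j) (hjp : j + 1 = jp)
    (hEj : DCoh.IsFinFreeSummandMod (ModSite.ringSh O) (E.X j))
    (hF : (F.sc' jm j jp).Exact) (hP : P O α jp) : P O α j := by
  intro V
  obtain ⟨R₁, hR₁, hh⟩ := hP V
  choose h hh using hh
  -- the global kernel data
  let S := F.sc' jm j jp
  let p : F.X jm ⟶ kernel (F.d j jp) := kernel.lift S.g S.f S.zero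
  haveI : Epi p := S.exact_iff_epi_kernel_lift.1 hF
  have hpι : p ≫ kernel.ι (F.d j jp) = F.d jm j := kernel.lift_ι _ _ _
  -- for each member of the first sieve, the obstruction and its local lifts
  have key : ∀ ⦃W : C⦄ (g : W ⟶ V) (hg : R₁ g), ∃ R₂ ∈ J W, ∀ ⦃W' : C⦄ (u : W' ⟶ W), R₂ u →
      ∃ l : (ModSite.restr O W').obj (E.X j) ⟶ (ModSite.restr O W').obj (F.X jm),
        l ≫ (ModSite.restr O W').map (F.d jm j) =
          (ModSite.restr O W').map (α.f j) -
            (ModSite.restr O W').map (E.d j jp) ≫ resHom O u (h g hg jp j) := by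
    intro W g hg
    let γ : (ModSite.restr O W).obj (E.X j) ⟶ (ModSite.restr O W).obj (F.X j) :=
      (ModSite.restr O W).map (α.f j) - (ModSite.restr O W).map (E.d j jp) ≫ h g hg jp j
    have hγ : γ ≫ (ModSite.restr O W).map (F.d j jp) = 0 := by
      have e1 := hh g hg jp (by omega) (jp + 1) j rfl hjp
      have e2 : h g hg jp j ≫ (ModSite.restr O W).map (F.d j jp) =
          (ModSite.restr O W).map (α.f jp) -
            (ModSite.restr O W).map (E.d jp (jp + 1)) ≫ h g hg (jp + 1) jp := by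
        rw [e1]; abel
      dsimp only [γ]
      rw [Preadditive.sub_comp, Category.assoc, e2, Preadditive.comp_sub, ← Category.assoc,
        ← Functor.map_comp, ← Functor.map_comp, ← Functor.map_comp, E.d_comp_d, Functor.map_zero,
        zero_comp, sub_zero, α.comm, sub_self]
    have hlim := isLimitOfHasKernelOfPreservesLimit (ModSite.restr O W) (F.d j jp)
    obtain ⟨γ', hγ'⟩ := KernelFork.IsLimit.lift' hlim γ hγ
    obtain ⟨R₂, hR₂, hl⟩ := exists_local_lift' O (E.X j) (kernel (F.d j jp)) (F.X jm) hEj p γ'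
    refine ⟨R₂, hR₂, fun W' u hu => ?_⟩
    obtain ⟨l, hl⟩ := hl u hu
    refine ⟨l, ?_⟩
    have h1 : resHom O u γ = resHom O u γ' ≫ (ModSite.restr O W').map (kernel.ι (F.d j jp)) := by
      rw [← resHom_map u, ← resHom_comp]
      exact congrArg (resHom O u) hγ'.symm
    have h2 : resHom O u γ = (ModSite.restr O W').map (α.f j) -
        (ModSite.restr O W').map (E.d j jp) ≫ resHom O u (h g hg jp j) := by
      dsimp only [γ]
      rw [resHom_sub, resHom_comp, resHom_map, resHom_map]
    rw [← h2, h1, ← hl, Category.assoc, ← Functor.map_comp, hpι]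
  choose R₂ hR₂ hl using key
  refine ⟨Sieve.bind R₁ (fun W g hg => R₂ g hg), J.bind_covering hR₁ (fun W g hg => hR₂ g hg), ?_⟩
  rintro W'' g'' ⟨W, u, g, hg, hu, rfl⟩
  obtain ⟨l, hl⟩ := hl g hg u hu
  let h'' : ∀ p q : ℤ, (ModSite.restr O W'').obj (E.X p) ⟶ (ModSite.restr O W'').obj (F.X q) :=
    fun p q => if hpq : p = j ∧ q = jm then
      eqToHom (by rw [hpq.1]) ≫ l ≫ eqToHom (by rw [hpq.2])
      else resHom O u (h g hg p q)
  have h''1 : h'' j jm = l := by
    dsimp only [h'']
    rw [dif_pos ⟨rfl, rfl⟩]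
    simp
  have h''2 : ∀ p q : ℤ, ¬ (p = j ∧ q = jm) → h'' p q = resHom O u (h g hg p q) := by
    intro p q hpq
    dsimp only [h'']
    rw [dif_neg hpq]
  refine ⟨h'', fun k hk => ?_⟩
  rcases eq_or_lt_of_le hk with rfl | hk'
  · intro k' k'' hk1 hk2
    obtain rfl : jp = k' := by omega
    obtain rfl : jm = k'' := by omega
    rw [h''1, h''2 jp j (by omega), hl]
    abel
  · have := heq_res u (h g hg) k (hh g hg k (by omega))
    intro k' k'' hk1 hk2
    rw [h''2 k' k (by omega), h''2 k k'' (by omega)]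
    exact this k' k'' hk1 hk2

/-- the two-index family cut down to the pairs `(i, i - 1)` -/
noncomputable def homFam (W : C)
    (h : ∀ p q : ℤ, (ModSite.restr O W).obj (E.X p) ⟶ (ModSite.restr O W).obj (F.X q)) (i j : ℤ) :
    (((ModSite.restr O W).mapHomologicalComplex (ComplexShape.up ℤ)).obj E).X i ⟶
      (((ModSite.restr O W).mapHomologicalComplex (ComplexShape.up ℤ)).obj F).X j :=
  if j + 1 = i then h i j else 0

theorem homFam_pos (W : C)
    (h : ∀ p q : ℤ, (ModSite.restr O W).obj (E.X p) ⟶ (ModSite.restr O W).obj (F.X q)) (i j : ℤ)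
    (hij : j + 1 = i) : homFam W h i j = h i j := if_pos hij

/-- a family satisfying all homotopy equations gives a null-homotopy -/
noncomputable def homotopyOfHEq (W : C)
    (h : ∀ p q : ℤ, (ModSite.restr O W).obj (E.X p) ⟶ (ModSite.restr O W).obj (F.X q))
    (hh : ∀ k : ℤ, HEq O α W h k) :
    Homotopy (((ModSite.restr O W).mapHomologicalComplex (ComplexShape.up ℤ)).map α) 0 where
  hom := homFam W h
  zero i j hij := if_neg hij
  comm i := by
    rw [dNext_eq _ (show (ComplexShape.up ℤ).Rel i (i + 1) from rfl),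
      prevD_eq _ (show (ComplexShape.up ℤ).Rel (i - 1) i by simp)]
    have e1 : homFam W h (i + 1) i = h (i + 1) i := homFam_pos W h _ _ rfl
    have e2 : homFam W h i (i - 1) = h i (i - 1) := homFam_pos W h _ _ (by omega)
    have := hh i (i + 1) (i - 1) rfl (by omega)
    rw [e1, e2, HomologicalComplex.zero_f, add_zero]
    exact this

variable (O)

/-- **Local null-homotopy.** A map from a strictly perfect complex `E` vanishing below degree `a` to a
complex `F` acyclic in degrees `≥ a` is locally null-homotopic. -/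
theorem exists_local_nullHomotopy (hE : DCoh.IsStrictlyPerfectMod (ModSite.ringSh O) E) (a : ℤ)
    (hEa : ∀ j : ℤ, j < a → IsZero (E.X j)) (hF : ∀ j : ℤ, a ≤ j → F.ExactAt j) (α : E ⟶ F)
    (V : C) :
    ∃ R ∈ J V, ∀ ⦃W : C⦄ (g : W ⟶ V), R g →
      Nonempty (Homotopy (((ModSite.restr O W).mapHomologicalComplex (ComplexShape.up ℤ)).map α)
        0) := by
  obtain ⟨⟨a0, b, hab⟩, hfree⟩ := hE
  have hb : ∀ i : ℤ, b < i → IsZero (E.X i) := fun i hi => hab i (Or.inr hi)
  have hind : ∀ n : ℕ, a ≤ b + 1 - n → P O α (b + 1 - n) := by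
    intro n
    induction n with
    | zero =>
      intro _
      simpa using P_base (O := O) (α := α) b hb
    | succ n ih =>
      intro hn
      have hn' : a ≤ b + 1 - (n : ℤ) := by push_cast at hn; omega
      have hP := ih hn'
      refine P_step (b + 1 - ((n + 1 : ℕ) : ℤ)) (b + 1 - ((n + 1 : ℕ) : ℤ) - 1) (b + 1 - (n : ℤ))
        (by omega) (by push_cast; omega) (hfree _) ?_ hP
      refine (F.exactAt_iff' _ _ _ ?_ ?_).1 (hF _ hn)
      · rw [CochainComplex.prev]
      · rw [CochainComplex.next]; push_cast; omega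
  have hP : ∃ j0 : ℤ, j0 ≤ a ∧ P O α j0 := by
    by_cases hab' : a ≤ b + 1
    · have hcast : ((b + 1 - a).toNat : ℤ) = b + 1 - a := Int.toNat_of_nonneg (by omega)
      refine ⟨b + 1 - ((b + 1 - a).toNat : ℤ), by omega, hind _ (by omega)⟩
    · exact ⟨b + 1, by omega, P_base b hb⟩
  obtain ⟨j0, hj0, hP⟩ := hP
  obtain ⟨R, hR, hh⟩ := hP V
  refine ⟨R, hR, fun W g hg => ?_⟩
  obtain ⟨h, hh⟩ := hh g hg
  refine ⟨homotopyOfHEq W h (fun k => ?_)⟩
  by_cases hk : j0 ≤ k
  · exact hh k hk
  · exact heq_of_isZero W h k (hEa k (by omega))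

end Groth.Agent.Lib.Seat41.LocNull
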