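import Mathlib
import Groth.Prelude.Def_ModSite
import Groth.Prelude.Def_AlgSpPerf

/-!
# `f^* O_D ≅ O_C` for a morphism of ringed sites (helper41)

The pullback of sheaves of sets along the underlying functor of a morphism of ringed sites is exact,
so it preserves the terminal sheaf; hence global sections of `f_* M` are global sections of `M`,
naturally in `M`, and `f^*` sends the unit module to the unit module, and free modules to free modules.
-/

set_option autoImplicit false
universe u

open CategoryTheory CategoryTheory.Limits Opposite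

namespace Groth.Agent.Lib.Seat41.PullUnit

variable {C : Type u} [SmallCategory C] {J : GrothendieckTopology C}
  {D : Type u} [SmallCategory D] {K : GrothendieckTopology D}

/-- the terminal sheaf of types -/
noncomputable abbrev tSh (J : GrothendieckTopology C) : Sheaf J (Type u) :=
  Sheaf.terminal J Types.isTerminalPUnit

/-- sections of a sheaf of types are maps from the terminal sheaf -/
noncomputable def secEquiv (N : Sheaf J (Type u)) : N.obj.sections ≃ (tSh J ⟶ N) :=
  (N.obj.sectionsEquivHom PUnit).trans
    ((fullyFaithfulSheafToPresheaf J (Type u)).homEquiv (X := tSh J) (Y := N)).symm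

lemma secEquiv_naturality {N N' : Sheaf J (Type u)} (q : N ⟶ N') (s : N.obj.sections) :
    secEquiv N' ((Functor.sectionsFunctor _).map q.hom s) = secEquiv N s ≫ q := by
  rfl

variable (G : D ⥤ C) [G.IsContinuous K J] [PreservesFiniteLimits (G.sheafPullback (Type u) K J)]

/-- the pullback of the terminal sheaf is terminal -/
noncomputable def isTerminalPullback :
    IsTerminal ((G.sheafPullback (Type u) K J).obj (tSh K)) :=
  IsTerminal.isTerminalObj _ _ (Sheaf.isTerminalTerminal K Types.isTerminalPUnit)

/-- the comparison iso of terminal sheaves -/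
noncomputable def tIso : tSh J ≅ (G.sheafPullback (Type u) K J).obj (tSh K) :=
  (Sheaf.isTerminalTerminal J Types.isTerminalPUnit).uniqueUpToIso (isTerminalPullback G)

/-- Global sections of the direct image of a sheaf of sets along a morphism of sites are the global sections. -/
noncomputable def midEquiv (N : Sheaf J (Type u)) :
    (G.op ⋙ N.obj).sections ≃ N.obj.sections :=
  ((secEquiv ((G.sheafPushforwardContinuous (Type u) K J).obj N)).trans
    (((G.sheafAdjunctionContinuous (Type u) K J).homEquiv (tSh K) N).symm.trans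
      ((tIso (K := K) (J := J) G).symm.homCongr (Iso.refl N)))).trans (secEquiv N).symm

lemma secEquiv_symm_naturality {N N' : Sheaf J (Type u)} (q : N ⟶ N') (z : tSh J ⟶ N) :
    (secEquiv N').symm (z ≫ q) = (Functor.sectionsFunctor _).map q.hom ((secEquiv N).symm z) := by
  apply (secEquiv N').injective
  rw [Equiv.apply_symm_apply, secEquiv_naturality, Equiv.apply_symm_apply]

lemma midEquiv_naturality {N N' : Sheaf J (Type u)} (q : N ⟶ N') (s : (G.op ⋙ N.obj).sections) :
    midEquiv (K := K) G N' ((Functor.sectionsFunctor _).map (Functor.whiskerLeft G.op q.hom) s) =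
      (Functor.sectionsFunctor _).map q.hom (midEquiv (K := K) G N s) := by
  have h1 : secEquiv ((G.sheafPushforwardContinuous (Type u) K J).obj N')
      ((Functor.sectionsFunctor _).map (Functor.whiskerLeft G.op q.hom) s) =
      secEquiv ((G.sheafPushforwardContinuous (Type u) K J).obj N) s ≫
        (G.sheafPushforwardContinuous (Type u) K J).map q :=
    secEquiv_naturality ((G.sheafPushforwardContinuous (Type u) K J).map q) s
  change (secEquiv N').symm (((tIso (K := K) (J := J) G).symm.homCongr (Iso.refl N'))
    (((G.sheafAdjunctionContinuous (Type u) K J).homEquiv (tSh K) N').symm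
      (secEquiv ((G.sheafPushforwardContinuous (Type u) K J).obj N')
        ((Functor.sectionsFunctor _).map (Functor.whiskerLeft G.op q.hom) s)))) =
    (Functor.sectionsFunctor _).map q.hom ((secEquiv N).symm
      (((tIso (K := K) (J := J) G).symm.homCongr (Iso.refl N))
        (((G.sheafAdjunctionContinuous (Type u) K J).homEquiv (tSh K) N).symm
          (secEquiv ((G.sheafPushforwardContinuous (Type u) K J).obj N) s))))
  rw [h1, Adjunction.homEquiv_naturality_right_symm, ← secEquiv_symm_naturality]
  congr 1

variable {O_C : Sheaf J CommRingCat.{u}} {O_D : Sheaf K CommRingCat.{u}} (f : ModSite.RMor O_C O_D)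

/-- the underlying sheaf of types of a sheaf of modules -/
noncomputable def tySh {R : Sheaf J RingCat.{u}} : SheafOfModules.{u} R ⥤ Sheaf J (Type u) :=
  SheafOfModules.toSheaf R ⋙ sheafCompose J (forget AddCommGrpCat.{u})

/-- Global sections of `f_* M` are the global sections of `M`. -/
noncomputable def secPush (M : ModSite.Mod O_C) : (f.push.obj M).sections ≃ M.sections :=
  midEquiv (K := K) f.fn (tySh.obj M)

lemma secPush_naturality {M M' : ModSite.Mod O_C} (p : M ⟶ M') (s : (f.push.obj M).sections) :
    secPush f M' (SheafOfModules.sectionsMap (f.push.map p) s) =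
      SheafOfModules.sectionsMap p (secPush f M s) :=
  midEquiv_naturality (K := K) f.fn (tySh.map p) s

/-- `Hom(f^* O_D, M) ≃ Hom(O_C, M)`. -/
noncomputable def unitEquiv (M : ModSite.Mod O_C) :
    (f.pull.obj (ModSite.unit O_D) ⟶ M) ≃ (ModSite.unit O_C ⟶ M) :=
  ((f.adj.homEquiv _ M).trans (SheafOfModules.unitHomEquiv (f.push.obj M))).trans
    ((secPush f M).trans (SheafOfModules.unitHomEquiv M).symm)

lemma unitEquiv_comp {M M' : ModSite.Mod O_C} (h : f.pull.obj (ModSite.unit O_D) ⟶ M)
    (p : M ⟶ M') : unitEquiv f M' (h ≫ p) = unitEquiv f M h ≫ p := by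
  simp only [unitEquiv, Equiv.trans_apply]
  rw [Adjunction.homEquiv_naturality_right, SheafOfModules.unitHomEquiv_comp_apply,
    secPush_naturality, SheafOfModules.unitHomEquiv_symm_comp]

lemma iso_of_natural_equiv {𝒞 : Type*} [Category 𝒞] {A B : 𝒞} (e : ∀ M, (A ⟶ M) ≃ (B ⟶ M))
    (he : ∀ {M M' : 𝒞} (h : A ⟶ M) (p : M ⟶ M'), e M' (h ≫ p) = e M h ≫ p) :
    Nonempty (A ≅ B) := by
  refine ⟨{ hom := (e B).symm (𝟙 B), inv := e A (𝟙 A), hom_inv_id := ?_, inv_hom_id := ?_ }⟩
  · apply (e A).injective
    rw [he, Equiv.apply_symm_apply, Category.id_comp]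
  · rw [← he, Category.id_comp, Equiv.apply_symm_apply]

/-- `f^* O_D ≅ O_C`. -/
theorem nonempty_pull_unit_iso : Nonempty (f.pull.obj (ModSite.unit O_D) ≅ ModSite.unit O_C) :=
  iso_of_natural_equiv (unitEquiv f) (fun h p => unitEquiv_comp f h p)

/-- `f^*` of a free module is free. -/
theorem nonempty_pull_free_iso (I : Type u) :
    Nonempty (f.pull.obj (SheafOfModules.free (R := ModSite.ringSh O_D) I) ≅
      SheafOfModules.free (R := ModSite.ringSh O_C) I) := by
  obtain ⟨e⟩ := nonempty_pull_unit_iso f
  have : f.pull.IsLeftAdjoint := ⟨_, ⟨f.adj⟩⟩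
  exact ⟨(SheafOfModules.mapFreeIso f.pull I e.symm).symm⟩

/-- `f^*` preserves direct summands of finite free modules. -/
theorem isFinFreeSummandMod_pull (M : ModSite.Mod O_D)
    (hM : DCoh.IsFinFreeSummandMod (ModSite.ringSh O_D) M) :
    DCoh.IsFinFreeSummandMod (ModSite.ringSh O_C) (f.pull.obj M) := by
  obtain ⟨n, i, p, hip⟩ := hM
  obtain ⟨e⟩ := nonempty_pull_free_iso f (ULift.{u} (Fin n))
  refine ⟨n, f.pull.map i ≫ e.hom, e.inv ≫ f.pull.map p, ?_⟩
  rw [Category.assoc, e.hom_inv_id_assoc, ← Functor.map_comp, hip, CategoryTheory.Functor.map_id]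

end Groth.Agent.Lib.Seat41.PullUnit
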