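import Mathlib
import Groth.Agent.S0862
import Groth.Agent.Lib.Helper17Hyp26
import Groth.Agent.Lib.Helper21ModTensor3
import Groth.Agent.Lib.Seat41FreeCompact
import Groth.Agent.Lib.Seat41ExtCompactPlus2

/-!
# Ringed sites with a basis of quasi-compact objects: `j_{U!}O_U` and direct sums (Seat41)

* `isZero_obj_of_isColimit_cofan`: an additive functor to abelian groups commuting with filtered
  colimits and killing each `G i` kills the coproduct of the `G i`.
* `isQcObject_of_isQCSite`: site-level quasi-compactness implies topos-level quasi-compactness.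
* `acyc_freeOn_of_basis`, `bijective_homSumToHomCoprod_freeOn` (S9047).
-/

set_option autoImplicit false
set_option linter.style.haveILetI false
set_option linter.unusedSectionVars false
universe w v u
open CategoryTheory CategoryTheory.Limits Opposite CategoryTheory.Abelian

namespace Groth.Agent.Lib.Seat41.QcBasis

section General

variable {A : Type u} [Category.{v} A] [Preadditive A] [HasCoproducts.{v} A]
  [HasFilteredColimitsOfSize.{v, v} A]
  (T : A ⥤ AddCommGrpCat.{w}) [T.Additive]

lemma isZero_obj_sigma_of_finite {S : Type v} [Finite S] (f : S → A)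
    (hf : ∀ x, IsZero (T.obj (f x))) : IsZero (T.obj (∐ f)) := by
  haveI : PreservesColimitsOfShape (Discrete S) T := inferInstance
  have h := isColimitOfPreserves T (coproductIsCoproduct f)
  rw [IsZero.iff_id_eq_zero]
  refine h.hom_ext (fun ⟨x⟩ => ?_)
  exact (hf x).eq_of_src _ _

open CoproductsFromFiniteFiltered in
/-- an additive functor commuting with filtered colimits and vanishing on all `G i` vanishes on
their coproduct -/
theorem isZero_obj_of_isColimit_cofan
    (hT : ∀ (I : Type v) [SmallCategory I] [IsFiltered I] (F : I ⥤ A), PreservesColimit F T)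
    {ι : Type v} (G : ι → A) (hG : ∀ i, IsZero (T.obj (G i))) {P : A} {inj : ∀ i, G i ⟶ P}
    (hc : IsColimit (Cofan.mk P inj)) : IsZero (T.obj P) := by
  classical
  haveI : HasFiniteCoproducts A := ⟨fun n => inferInstance⟩
  have e : P ≅ ∐ G := hc.coconePointUniqueUpToIso (coproductIsCoproduct G)
  refine IsZero.of_iso ?_ (T.mapIso e)
  haveI := hT (Finset (Discrete ι)) (liftToFinsetObj (Discrete.functor G))
  have h := isColimitOfPreserves T (isColimitFiniteSubproductsCocone G)
  rw [IsZero.iff_id_eq_zero]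
  refine h.hom_ext (fun s => ?_)
  have hz : IsZero (T.obj (∐ fun x : s => G x.1.as)) :=
    isZero_obj_sigma_of_finite T (fun x : s => G x.1.as) (fun x => hG _)
  exact hz.eq_of_src _ _

end General

section Site

open ToposFin Groth.Agent.Lib.Helper6.TF

variable {C : Type u} [SmallCategory C] {J : GrothendieckTopology C}

/-- converse of `Helper9.CohS.isQC_of_isQcObject` -/
theorem isQcObject_of_isQC {K : Sh J} (hK : IsQC K) : CohCx.IsQcObject K := by
  rw [isQC_iff] at hK
  intro I L f hf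
  obtain ⟨t, ht⟩ := hK I L f (fun U x => by
    obtain ⟨S, hS, hS'⟩ := hf U x
    exact J.superset_covering (fun V g hg => hS' V g hg) hS)
  exact ⟨t, fun U x => ⟨_, ht U x, fun V g hg => hg⟩⟩

theorem isQcObject_of_isQCSite (U : C) (hU : IsQCSite J U) :
    CohCx.IsQcObject ((presheafToSheaf J (Type u)).obj (yoneda.obj U)) :=
  isQcObject_of_isQC ((isQCSite_iff U).1 hU)

end Site

section Basis

open Groth.Agent.Lib.Seat41.ExtCompact Groth.Agent.Lib.Helper17.Compact
  Groth.Agent.Lib.Helper17.Hyp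

variable {C : Type u} [SmallCategory C] [HasPullbacks C] {J : GrothendieckTopology C}
  (O : Sheaf J CommRingCat.{u})
  (B : Set C) (Cov : ∀ (U : C) (ι : Type u), (ι → Over U) → Prop)
  (h1 : ∀ (U : C) (ι : Type u) (Y : ι → Over U), Cov U ι Y → Finite ι ∧ U ∈ B ∧
    Sieve.ofArrows (fun i => (Y i).left) (fun i => (Y i).hom) ∈ J U ∧
    ∀ (p : ℕ) (a : Fin (p + 1) → ι), (∏ᶜ fun k => Y (a k)).left ∈ B)
  (h2 : ∀ U ∈ B, ∀ T ∈ J U, ∃ (ι : Type u) (Y : ι → Over U), Cov U ι Y ∧ ∀ i, T.arrows (Y i).hom)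

include h1 h2 in
theorem isQCSite_of_basis (U : C) (hU : U ∈ B) : ToposFin.IsQCSite J U := by
  intro S hS
  obtain ⟨ι, Y, hY, hYS⟩ := h2 U hU S hS
  obtain ⟨hfin, -, hcov, -⟩ := h1 U ι Y hY
  obtain ⟨n, ⟨e⟩⟩ := Finite.exists_equiv_fin ι
  refine ⟨n, fun k => (Y (e.symm k)).left, fun k => (Y (e.symm k)).hom, fun k => hYS _, ?_⟩
  refine J.superset_covering ?_ hcov
  have key : ∀ j i : ι, j = i →
      (Sieve.ofArrows (fun k => (Y (e.symm k)).left) (fun k => (Y (e.symm k)).hom)).arrows
        (Y j).hom →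
      (Sieve.ofArrows (fun k => (Y (e.symm k)).left) (fun k => (Y (e.symm k)).hom)).arrows
        (Y i).hom := by
    rintro j i rfl h
    exact h
  rw [Sieve.ofArrows, Sieve.generate_le_iff]
  rintro Z l hl
  obtain ⟨i⟩ := hl
  exact key _ i (e.symm_apply_apply i) (Sieve.ofArrows_mk _ _ (e i))

include h1 h2 in
/-- finite support of maps from `j_{U!}O_U` to a coproduct, `U` in the basis -/
theorem finSupp_freeOn_of_basis (U : C) (hU : U ∈ B) :
    FinSupp (ModSite.freeOn O U) (𝟭 (ModSite.Mod O)) :=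
  Groth.Agent.Lib.Seat41.FreeCompact.finSupp_freeOn O U
    (isQcObject_of_isQCSite U (isQCSite_of_basis B Cov h1 h2 U hU))

variable [HasExt.{u} (ModSite.Mod O)]

include h1 h2 in
/-- coproducts of injective modules are acyclic for `Hom(j_{U!}O_U, -)`, `U` in the basis -/
theorem acyc_freeOn_of_basis (U : C) (hU : U ∈ B) {ι : Type u} (G : ι → ModSite.Mod O)
    (P : ModSite.Mod O) (inj : ∀ i, G i ⟶ P) (hc : IsColimit (Cofan.mk P inj))
    (hG : ∀ i, Injective (G i)) : Acyc (ModSite.freeOn O U) P := by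
  intro p
  obtain ⟨e⟩ := nonempty_frModR_iso_freeOn O U
  let R := ModSite.ringSh O
  let n := p + 1
  let T : Sheaf J AddCommGrpCat.{u} ⥤ AddCommGrpCat.{u} :=
    extFunctorObj (CohCx.freeSheaf J U) n
  have hT : ∀ (I : Type u) [SmallCategory I] [IsFiltered I] (F : I ⥤ Sheaf J AddCommGrpCat.{u}),
      PreservesColimit F T := fun I _ _ F =>
    Groth.Agent.S0862.result J B Cov h1 h2 U hU n I F
  -- the comparison isomorphisms
  have hiso : ∀ M : ModSite.Mod O,
      Nonempty (AddCommGrpCat.of (Ext.{u} (ModSite.freeOn O U) M n) ≅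
        T.obj ((SheafOfModules.toSheaf R).obj M)) := fun M => by
    obtain ⟨e₁⟩ := nonempty_ext_freeShR_iso R (CohCx.freeSheaf J U) (TF_freeSheaf U) M n
    exact ⟨(((extFunctor n).mapIso e.op).app M) ≪≫ e₁⟩
  have hz : ∀ i, IsZero (T.obj ((SheafOfModules.toSheaf R).obj (G i))) := fun i => by
    obtain ⟨e₂⟩ := hiso (G i)
    refine IsZero.of_iso ?_ e₂.symm
    haveI := hG i
    rw [IsZero.iff_id_eq_zero]
    ext x
    exact Ext.eq_zero_of_injective _
  have hc' : IsColimit (Cofan.mk ((SheafOfModules.toSheaf R).obj P)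
      (fun i => (SheafOfModules.toSheaf R).map (inj i))) :=
    isColimitCofanMkObjOfIsColimit (SheafOfModules.toSheaf R) G inj hc
  have hzP : IsZero (T.obj ((SheafOfModules.toSheaf R).obj P)) :=
    isZero_obj_of_isColimit_cofan T hT (fun i => (SheafOfModules.toSheaf R).obj (G i)) hz hc'
  obtain ⟨e₃⟩ := hiso P
  have hzE : IsZero (AddCommGrpCat.of (Ext.{u} (ModSite.freeOn O U) P n)) :=
    IsZero.of_iso hzP e₃
  intro x
  have := AddCommGrpCat.subsingleton_of_isZero hzE
  exact Subsingleton.elim (α := Ext.{u} (ModSite.freeOn O U) P n) x 0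

end Basis

section Main

open Groth.Agent.Lib.Seat41.ExtCompact Groth.Agent.Lib.Helper17.Compact

variable {C : Type u} [SmallCategory C] [HasPullbacks C] {J : GrothendieckTopology C}
  (O : Sheaf J CommRingCat.{u})
  (B : Set C) (Cov : ∀ (U : C) (ι : Type u), (ι → Over U) → Prop)
  (h1 : ∀ (U : C) (ι : Type u) (Y : ι → Over U), Cov U ι Y → Finite ι ∧ U ∈ B ∧
    Sieve.ofArrows (fun i => (Y i).left) (fun i => (Y i).hom) ∈ J U ∧
    ∀ (p : ℕ) (a : Fin (p + 1) → ι), (∏ᶜ fun k => Y (a k)).left ∈ B)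
  (h2 : ∀ U ∈ B, ∀ T ∈ J U, ∃ (ι : Type u) (Y : ι → Over U), Cov U ι Y ∧ ∀ i, T.arrows (Y i).hom)
  [HasDerivedCategory.{u} (ModSite.Mod O)]

include h1 h2 in
/-- S9047 -/
theorem bijective_homSumToHomCoprod_freeOn (U : C) (hU : U ∈ B) {I : Type u}
    (M : I → DerivedCategory (ModSite.Mod O)) [HasCoproduct M] (a : ℤ)
    (hM : ∀ i, (M i).IsGE a) :
    Function.Bijective (CohDer.homSumToHomCoprod
      ((DerivedCategory.singleFunctor (ModSite.Mod O) 0).obj (ModSite.freeOn O U)) M) := by
  haveI := Groth.Agent.Lib.Helper21.ModTensor3.isGrothendieckAbelian O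
  haveI : HasExt.{u} (ModSite.Mod O) := hasExt_of_hasDerivedCategory _
  exact Groth.Agent.Lib.Seat41.ExtCompactPlus2.bijective_homSumToHomCoprod'
    (ModSite.freeOn O U)
    (fun G P inj hc hG => acyc_freeOn_of_basis O B Cov h1 h2 U hU G P inj hc hG)
    (fun G P inj hc φ => finSupp_freeOn_of_basis O B Cov h1 h2 U hU I G P inj hc φ)
    M a hM

end Main

end Groth.Agent.Lib.Seat41.QcBasis
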