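import Mathlib
import Groth.Prelude.Def_SGA4c
import Groth.Agent.Lib.Seat41QcCoprod

/-!
# Sections of coproducts of sheaves of modules over quasi-compact objects, II (seat 41)

* `exists_finset_sum_of_isQCSite`: version of `QcCoprod.exists_finset_sum` under the site-level
  finite-subcover hypothesis `ToposFin.IsQCSite`.
* `exists_finset_sum_of_isColimit_cofan`, `eq_zero_of_sum_eq_zero`: versions for arbitrary colimit cofans.
-/

set_option autoImplicit false
universe u
open CategoryTheory CategoryTheory.Limits Opposite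

namespace Groth.Agent.Lib.Seat41.QcCoprod

variable {C : Type u} [SmallCategory C] {J : GrothendieckTopology C} (R : Sheaf J RingCat.{u})
variable {ι : Type u} (K : Discrete ι ⥤ SheafOfModules.{u} R)

open Classical in
/-- Over an object quasi-compact in the site-level sense, sections of the sheaf coproduct are finite sums of sections of
the summands. -/
theorem exists_finset_sum_of_isQCSite (W : C)
    (hW : ToposFin.IsQCSite J W)
    (s : Γ R (shCocone R K).pt W) :
    ∃ (I : Finset ι), s = ∑ i ∈ I, (Γmap R (inj R K i) W).hom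
      ((Γmap R (proj R K i) W).hom s) := by
  obtain ⟨S, hS, hloc⟩ := locally_finset_sum R K W s
  obtain ⟨n, Y, g, hgS, hcov⟩ := hW S hS
  choose I f hf using fun k => hloc (g k) (hgS k)
  let I₀ : Finset ι := Finset.univ.biUnion I
  have hI : ∀ k, I k ⊆ I₀ := fun k => Finset.subset_biUnion_of_mem I (Finset.mem_univ k)
  refine ⟨I₀, ?_⟩
  -- separatedness
  have hsep : Presieve.IsSeparated J ((shCocone R K).pt.val.presheaf ⋙ forget _) :=
    ((isSheaf_iff_isSheaf_of_type J _).1
      ((Presheaf.isSheaf_iff_isSheaf_forget J (shCocone R K).pt.val.presheaf (forget _)).1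
        (shCocone R K).pt.isSheaf)).isSeparated
  -- the key local identity
  have key : ∀ k, ((shCocone R K).pt.val.presheaf.map (g k).op).hom s =
      ((shCocone R K).pt.val.presheaf.map (g k).op).hom
        (∑ i ∈ I₀, (Γmap R (inj R K i) W).hom
          ((Γmap R (proj R K i) W).hom s)) := by
    intro k
    rw [map_sum]
    have h1 : ∀ i ∈ I₀, ((shCocone R K).pt.val.presheaf.map (g k).op).hom
        ((Γmap R (inj R K i) W).hom ((Γmap R (proj R K i) W).hom s)) =
        (Γmap R (inj R K i) (Y k)).hom (if i ∈ I k then f k i else 0) := by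
      intro i _
      rw [Γmap_naturality, Γmap_naturality, hf k, map_sum]
      congr 1
      by_cases hi : i ∈ I k
      · rw [if_pos hi, Finset.sum_eq_single_of_mem i hi, proj_ι_apply_self]
        intro j _ hj
        exact proj_ι_apply_ne R K i j hj (Y k) (f k j)
      · rw [if_neg hi]
        refine Finset.sum_eq_zero (fun j hj => ?_)
        have : j ≠ i := fun h => hi (h ▸ hj)
        exact proj_ι_apply_ne R K i j this (Y k) (f k j)
    rw [Finset.sum_congr rfl h1, hf k, ← Finset.sum_subset (hI k)]
    · exact Finset.sum_congr rfl (fun i hi => by rw [if_pos hi])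
    · intro i _ hi
      rw [if_neg hi, map_zero]
  refine (hsep _ hcov).ext (fun Z l hl => ?_)
  obtain ⟨Z', c, g', hg', rfl⟩ := hl
  obtain ⟨k⟩ := hg'
  have e1 : ∀ x : Γ R (shCocone R K).pt W,
      ((shCocone R K).pt.val.presheaf ⋙ forget _).map (c ≫ g k).op x =
        ((shCocone R K).pt.val.presheaf.map c.op).hom
          (((shCocone R K).pt.val.presheaf.map (g k).op).hom x) := by
    intro x
    rw [op_comp, Functor.map_comp]
    rfl
  rw [e1, e1, key k]


section General

variable {R}
variable {F : ι → SheafOfModules.{u} R} {P : SheafOfModules.{u} R} {inj' : ∀ i, F i ⟶ P}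
  (hc : IsColimit (Cofan.mk P inj'))

include hc in
/-- Over a site-level quasi-compact object, sections of any coproduct of sheaves of modules are
finite sums of sections of the summands. -/
theorem exists_finset_sum_of_isColimit_cofan (W : C) (hW : ToposFin.IsQCSite J W) (s : Γ R P W) :
    ∃ (I : Finset ι) (t : ∀ i, Γ R (F i) W), s = ∑ i ∈ I, (Γmap R (inj' i) W).hom (t i) := by
  let K : Discrete ι ⥤ SheafOfModules.{u} R := Discrete.functor F
  let e : P ⟶ (shCocone R K).pt := Cofan.IsColimit.desc hc (fun i => inj R K i)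
  let e' : (shCocone R K).pt ⟶ P :=
    (isColimitShCocone R K).desc (Cofan.mk P inj')
  have he : ∀ i, inj' i ≫ e = inj R K i := fun i => Cofan.IsColimit.fac hc _ i
  have he' : ∀ i, inj R K i ≫ e' = inj' i := fun i =>
    (isColimitShCocone R K).fac (Cofan.mk P inj') ⟨i⟩
  have hee' : e ≫ e' = 𝟙 P := by
    refine Cofan.IsColimit.hom_ext hc _ _ (fun i => ?_)
    show inj' i ≫ e ≫ e' = inj' i ≫ 𝟙 P
    rw [← Category.assoc, he, he', Category.comp_id]
  obtain ⟨I, hI⟩ := exists_finset_sum_of_isQCSite R K W hW ((Γmap R e W).hom s)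
  refine ⟨I, fun i => (Γmap R (proj R K i) W).hom ((Γmap R e W).hom s), ?_⟩
  have h1 := congrArg (fun z => (Γmap R e' W).hom z) hI
  simp only [map_sum] at h1
  have h2 : (Γmap R e' W).hom ((Γmap R e W).hom s) = s := by
    rw [← Γmap_comp, hee', Γmap_id]
  rw [h2] at h1
  refine h1.trans (Finset.sum_congr rfl (fun i _ => ?_))
  rw [← Γmap_comp, he']

include hc in
/-- Sections of the summands are independent in the coproduct. -/
theorem eq_zero_of_sum_eq_zero (W : C) (I : Finset ι) (t : ∀ i, Γ R (F i) W)
    (h : ∑ i ∈ I, (Γmap R (inj' i) W).hom (t i) = 0) : ∀ i ∈ I, t i = 0 := by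
  classical
  intro j hj
  let π : P ⟶ F j := Cofan.IsColimit.desc hc (fun i =>
    if h : i = j then eqToHom (by rw [h]) else 0)
  have hπj : inj' j ≫ π = 𝟙 _ := by
    have := Cofan.IsColimit.fac hc (fun i =>
      if h : i = j then (eqToHom (by rw [h]) : F i ⟶ F j) else 0) j
    simpa [π] using this
  have hπi : ∀ i, i ≠ j → inj' i ≫ π = 0 := by
    intro i hi
    have := Cofan.IsColimit.fac hc (fun i =>
      if h : i = j then (eqToHom (by rw [h]) : F i ⟶ F j) else 0) i
    simpa [π, hi] using this
  have h1 := congrArg (fun z => (Γmap R π W).hom z) h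
  simp only [map_sum, map_zero] at h1
  rw [Finset.sum_eq_single_of_mem j hj] at h1
  · rw [← Γmap_comp, hπj, Γmap_id] at h1
    exact h1
  · intro i _ hij
    rw [← Γmap_comp, hπi i hij, Γmap_zero]

end General

end Groth.Agent.Lib.Seat41.QcCoprod
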