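import Mathlib
import Groth.Prelude.Def_ModSite
import Groth.Agent.Lib.Seat41QcCoprod2

/-!
# Sections of direct sums of modules over quasi-compact opens of a ringed space (seat 41)
-/

set_option autoImplicit false
universe u
open CategoryTheory CategoryTheory.Limits TopologicalSpace Opposite

namespace Groth.Agent.Lib.Seat41.QcTop

open Groth.Agent.Lib.Seat41.QcCoprod

/-- A quasi-compact open of a topological space is quasi-compact in the site of opens. -/
theorem isQCSite_of_isCompact {X : TopCat.{u}} (U : Opens X) (hU : IsCompact (U : Set X)) :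
    ToposFin.IsQCSite (Opens.grothendieckTopology X) U := by
  intro S hS
  -- index the sieve
  let T := {p : Σ V : Opens X, (V ⟶ U) // S p.2}
  have hcov : (U : Set X) ⊆ ⋃ p : T, ((p.1.1 : Opens X) : Set X) := by
    intro x hx
    obtain ⟨V, f, hf, hxV⟩ := hS x hx
    exact Set.mem_iUnion.2 ⟨⟨⟨V, f⟩, hf⟩, hxV⟩
  obtain ⟨t, ht⟩ := hU.elim_finite_subcover (fun p : T => ((p.1.1 : Opens X) : Set X))
    (fun p => p.1.1.isOpen) hcov
  let e := t.equivFin
  refine ⟨t.card, fun k => (e.symm k).1.1.1, fun k => (e.symm k).1.1.2,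
    fun k => (e.symm k).1.2, ?_⟩
  intro x hx
  obtain ⟨p, hp, hxp⟩ : ∃ p ∈ t, x ∈ ((p.1.1 : Opens X) : Set X) := by
    have := ht hx
    simpa using this
  refine ⟨p.1.1, p.1.2, ?_, hxp⟩
  have : (e.symm (e ⟨p, hp⟩)).1 = p := by rw [Equiv.symm_apply_apply]
  rw [← this]
  exact Sieve.ofArrows_mk _ _ (e ⟨p, hp⟩)

end Groth.Agent.Lib.Seat41.QcTop
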