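import Mathlib
import Groth.Prelude.Def_RegImm

set_option autoImplicit false
universe u
open scoped TensorProduct

/-!
# Syntomic ring maps: locality on the target (seat 41)
-/

namespace Groth.Agent.Lib.Seat41.SyntLocal

/-- Flatness is local on the target. -/
theorem flat_of_span (R S : Type u) [CommRing R] [CommRing S] [Algebra R S]
    (s : Set S) (hs : Ideal.span s = ⊤)
    (h : ∀ g ∈ s, Module.Flat R (Localization.Away g)) : Module.Flat R S := by
  rw [← RingHom.flat_algebraMap_iff]
  refine RingHom.Flat.ofLocalizationSpanTarget (algebraMap R S) s hs (fun r => ?_)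
  have := h r.1 r.2
  rw [← IsScalarTower.algebraMap_eq]
  exact RingHom.flat_algebraMap_iff.mpr this

/-- `IsGlobalCI` is invariant under algebra isomorphisms. -/
theorem isGlobalCI_of_algEquiv (k : Type u) [Field k] (S S' : Type u) [CommRing S] [CommRing S']
    [Algebra k S] [Algebra k S'] (e : S ≃ₐ[k] S') (h : Synt.IsGlobalCI k S) :
    Synt.IsGlobalCI k S' := by
  rcases h with h | ⟨n, c, hc, φ, r, hφ, hker, hdim⟩
  · exact Or.inl (e.symm.toEquiv.subsingleton)
  · refine Or.inr ⟨n, c, hc, e.toAlgHom.comp φ, r, e.surjective.comp hφ, ?_, ?_⟩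
    · rw [← hker]
      ext x
      simp [RingHom.mem_ker]
    · rw [← hdim]
      exact (ringKrullDim_eq_of_ringEquiv e.toRingEquiv).symm

/-- `IsLCIOver` is invariant under algebra isomorphisms. -/
theorem isLCIOver_of_algEquiv (k : Type u) [Field k] (S S' : Type u) [CommRing S] [CommRing S']
    [Algebra k S] [Algebra k S'] (e : S ≃ₐ[k] S') (h : Synt.IsLCIOver k S) :
    Synt.IsLCIOver k S' := by
  obtain ⟨hft, hloc⟩ := h
  refine ⟨Algebra.FiniteType.equiv hft e, fun p' => ?_⟩
  obtain ⟨g, hg, hG⟩ := hloc ⟨p'.asIdeal.comap e.toRingHom, inferInstance⟩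
  refine ⟨e g, fun hmem => hg (by simpa [Ideal.mem_comap] using hmem), ?_⟩
  refine isGlobalCI_of_algEquiv k _ _ (IsLocalization.algEquivOfAlgEquiv
    (M := Submonoid.powers g) (T := Submonoid.powers (e g))
    (Localization.Away g) (Localization.Away (e g)) e ?_) hG
  rw [Submonoid.map_powers]

/-- Being a local complete intersection over a field is local on the spectrum. -/
theorem isLCIOver_of_span (k T : Type u) [Field k] [CommRing T] [Algebra k T]
    [Algebra.FiniteType k T] (s : Set T) (hs : Ideal.span s = ⊤)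
    (h : ∀ t ∈ s, Synt.IsLCIOver k (Localization.Away t)) : Synt.IsLCIOver k T := by
  refine ⟨inferInstance, fun q => ?_⟩
  -- some member of `s` is outside `q`
  obtain ⟨t, hts, htq⟩ : ∃ t ∈ s, t ∉ q.asIdeal := by
    by_contra hcon
    simp only [not_exists, not_and, not_not] at hcon
    have : Ideal.span s ≤ q.asIdeal := Ideal.span_le.mpr hcon
    rw [hs] at this
    exact q.isPrime.ne_top (top_le_iff.mp this)
  have hdisj : Disjoint (Submonoid.powers t : Set T) (q.asIdeal : Set T) := by
    rw [Set.disjoint_left]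
    rintro x ⟨n, rfl⟩ hx
    exact htq (q.isPrime.mem_of_pow_mem n hx)
  have hq' : (q.asIdeal.map (algebraMap T (Localization.Away t))).IsPrime :=
    IsLocalization.isPrime_of_isPrime_disjoint (Submonoid.powers t) _ _ q.isPrime hdisj
  obtain ⟨h'', hh'', hG⟩ := (h t hts).2 ⟨_, hq'⟩
  obtain ⟨m, h₀, hm⟩ := IsLocalization.Away.surj t h''
  have hunit : IsUnit (algebraMap T (Localization.Away t) t ^ m) :=
    IsLocalization.Away.algebraMap_pow_isUnit t m
  have hh₀ : h₀ ∉ q.asIdeal := by
    intro hmem
    apply hh''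
    have h1 : algebraMap T (Localization.Away t) h₀ ∈
        q.asIdeal.map (algebraMap T (Localization.Away t)) := Ideal.mem_map_of_mem _ hmem
    rw [← hm] at h1
    exact (Ideal.unit_mul_mem_iff_mem _ hunit).mp (by rwa [mul_comm] at h1)
  refine ⟨t * h₀, fun hmem => (q.isPrime.mem_or_mem hmem).elim htq hh₀, ?_⟩
  have hassoc : Associated (algebraMap T (Localization.Away t) h₀) h'' := by
    rw [← hm]
    exact (associated_mul_unit_right h'' _ hunit).symm
  have : IsLocalization.Away (t * h₀) (Localization.Away h'') :=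
    IsLocalization.Away.mul_of_associated t h₀ h'' hassoc
  let e : Localization.Away (t * h₀) ≃ₐ[T] Localization.Away h'' :=
    IsLocalization.algEquiv (Submonoid.powers (t * h₀)) _ _
  exact isGlobalCI_of_algEquiv k _ _ (e.restrictScalars k).symm hG

/-- Being syntomic is local on the target ring. -/
theorem isSyntomic_of_span (R S : Type u) [CommRing R] [CommRing S] [Algebra R S]
    (s : Set S) (hs : Ideal.span s = ⊤)
    (h : ∀ g ∈ s, Synt.IsSyntomic R (Localization.Away g)) : Synt.IsSyntomic R S := by
  have hfp : Algebra.FinitePresentation R S :=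
    Algebra.FinitePresentation.of_span_eq_top_target s hs (fun g hg => (h g hg).2.1)
  refine ⟨flat_of_span R S s hs (fun g hg => (h g hg).1), hfp, fun p => ?_⟩
  have : Algebra.FiniteType p.asIdeal.ResidueField (p.asIdeal.Fiber S) := inferInstance
  refine isLCIOver_of_span p.asIdeal.ResidueField (p.asIdeal.Fiber S)
    ((fun g : S => (1 : p.asIdeal.ResidueField) ⊗ₜ[R] g) '' s) ?_ ?_
  · have h1 : Ideal.map (Algebra.TensorProduct.includeRight :
        S →ₐ[R] p.asIdeal.ResidueField ⊗[R] S) (Ideal.span s) = ⊤ := by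
      rw [hs, Ideal.map_top]
    rw [Ideal.map_span] at h1
    exact h1
  · rintro _ ⟨g, hg, rfl⟩
    exact isLCIOver_of_algEquiv p.asIdeal.ResidueField _ _
      (IsLocalization.Away.tensorProductEquivTMulRight R p.asIdeal.ResidueField g
        (Localization.Away g)) ((h g hg).2.2 p)

end Groth.Agent.Lib.Seat41.SyntLocal
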