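import Groth.Prelude.Def_HTop
import Groth.Prelude.Def_MoreMor
import Mathlib

/-!
# Thickenings are one-member ph / h coverings (helper41)
-/

set_option autoImplicit false
universe w v u

open CategoryTheory CategoryTheory.Limits AlgebraicGeometry Opposite

namespace Groth.Agent.Lib.Seat41.Thick

/-- A presheaf satisfying the sheaf condition for a one-member family consisting of a monomorphism
takes that monomorphism to a bijection. -/
theorem bijective_map_of_mono_of_isSheafFor {C : Type u} [Category.{v} C] {X Y : C} (f : X ⟶ Y)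
    [Mono f] (P : Cᵒᵖ ⥤ Type w) (h : Presieve.IsSheafFor P (Presieve.singleton f)) :
    Function.Bijective (P.map f.op) := by
  rw [← Presieve.ofArrows_pUnit.{0}, Presieve.isSheafFor_arrows_iff] at h
  rw [Function.bijective_iff_existsUnique]
  intro x
  obtain ⟨t, ht, htu⟩ := h (fun _ => x) (by
    intro i j Z gi gj hg
    have : gi = gj := (cancel_mono f).1 hg
    subst this
    rfl)
  exact ⟨t, ht PUnit.unit, fun y hy => htu y (fun _ => hy)⟩

variable {X X' : Scheme.{u}}

/-- Lifting a morphism from a reduced scheme through a surjective closed immersion. -/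
theorem exists_lift_of_isReduced (i : X ⟶ X') [IsClosedImmersion i] [Surjective i]
    {T : Scheme.{u}} [IsReduced T] (g : T ⟶ X') : ∃ g' : T ⟶ X, g' ≫ i = g := by
  have : IsIso (pullback.snd i g) := isIso_of_isClosedImmersion_of_surjective _
  exact ⟨inv (pullback.snd i g) ≫ pullback.fst i g, by
    rw [Category.assoc, pullback.condition, IsIso.inv_hom_id_assoc]⟩

/-- A thickening is a one-member ph covering. -/
theorem isPhCover_singleton (i : X ⟶ X') (hi : MoreMor.IsThickening i) :
    HTop.IsPhCover (PreZeroHypercover.singleton.{0} i) := by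
  obtain ⟨h1, h2⟩ := hi
  refine ⟨fun _ => inferInstanceAs (LocallyOfFiniteType i), fun U => ?_⟩
  refine ⟨PreZeroHypercover.singleton.{0} (i ∣_ (U : X'.Opens)), ?_, ?_⟩
  · have hU : IsAffine ((U : X'.Opens) : Scheme.{u}) := U.2
    refine ⟨hU, inferInstanceAs (Finite PUnit), fun _ => ?_, ?_⟩
    · exact (U.2.preimage i : IsAffineOpen (i ⁻¹ᵁ (U : X'.Opens)))
    · have hs : Surjective (i ∣_ (U : X'.Opens)) := IsZariskiLocalAtTarget.restrict h2 _
      refine ⟨_, i ∣_ (U : X'.Opens), fun _ => 𝟙 _, inferInstance, hs,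
        fun _ => ?_, fun _ => Category.id_comp _, fun x => ⟨PUnit.unit, x, rfl⟩⟩
      exact inferInstanceAs (IsOpenImmersion (𝟙 ((i ⁻¹ᵁ (U : X'.Opens) : X.Opens) : Scheme.{u})))
  · intro j
    exact ⟨PUnit.unit, (i ⁻¹ᵁ (U : X'.Opens)).ι, (morphismRestrict_ι i (U : X'.Opens)).symm⟩

/-- A thickening of finite presentation is a one-member h covering. -/
theorem isHCover_singleton (i : X ⟶ X') (hi : MoreMor.IsThickening i)
    [LocallyOfFinitePresentation i] :
    HTop.IsHCover (PreZeroHypercover.singleton.{0} i) := by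
  obtain ⟨h1, h2⟩ := hi
  refine ⟨fun _ => inferInstanceAs (LocallyOfFinitePresentation i), fun U => ?_⟩
  refine ⟨PreZeroHypercover.singleton.{0} (i ∣_ (U : X'.Opens)), ?_, ?_⟩
  · have hU : IsAffine ((U : X'.Opens) : Scheme.{u}) := U.2
    refine ⟨hU, inferInstanceAs (Finite PUnit), fun _ => ?_, ?_⟩
    · exact (U.2.preimage i : IsAffineOpen (i ⁻¹ᵁ (U : X'.Opens)))
    · intro V _ _ g
      have : IsReduced (Spec V) := inferInstance
      have hs : Surjective (i ∣_ (U : X'.Opens)) := IsZariskiLocalAtTarget.restrict h2 _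
      obtain ⟨g', hg'⟩ := exists_lift_of_isReduced (i ∣_ (U : X'.Opens)) g
      refine ⟨V, inferInstance, inferInstance, 𝟙 V, ⟨Function.injective_id, ?_⟩,
        PUnit.unit, g', ?_⟩
      · exact inferInstanceAs (IsLocalHom (RingHom.id V))
      · change g' ≫ (i ∣_ (U : X'.Opens)) = Spec.map (𝟙 V) ≫ g
        rw [hg', Spec.map_id, Category.id_comp]
  · intro j
    exact ⟨PUnit.unit, (i ⁻¹ᵁ (U : X'.Opens)).ι, (morphismRestrict_ι i (U : X'.Opens)).symm⟩

theorem singleton_mem_phPrecoverage (i : X ⟶ X') (hi : MoreMor.IsThickening i) :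
    Presieve.singleton i ∈ HTop.phPrecoverage X' := by
  have h0 : (PreZeroHypercover.singleton.{0} i).presieve₀ = Presieve.singleton i :=
    PreZeroHypercover.presieve₀_singleton i
  rw [← h0, HTop.presieve₀_mem_phPrecoverage_iff]
  exact isPhCover_singleton i hi

theorem singleton_mem_hPrecoverage (i : X ⟶ X') (hi : MoreMor.IsThickening i)
    [LocallyOfFinitePresentation i] :
    Presieve.singleton i ∈ HTop.hPrecoverage X' := by
  have h0 : (PreZeroHypercover.singleton.{0} i).presieve₀ = Presieve.singleton i :=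
    PreZeroHypercover.presieve₀_singleton i
  rw [← h0, HTop.presieve₀_mem_hPrecoverage_iff]
  exact isHCover_singleton i hi

/-- If the image in schemes of a one-member family over `S` is covering for a precoverage `K`, a sheaf
for the topology generated by `K` restricted to `Over S` satisfies the sheaf condition for it. -/
theorem isSheafFor_singleton_over {S : Scheme.{u}} (K : Precoverage Scheme.{u}) {X X' : Over S}
    (f : X ⟶ X') (hf : Presieve.singleton f.left ∈ K X'.left) (P : (Over S)ᵒᵖ ⥤ Type w)
    (hP : Presieve.IsSheaf (K.toGrothendieck.over S) P) :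
    Presieve.IsSheafFor P (Presieve.singleton f) := by
  rw [Presieve.isSheafFor_iff_generate]
  apply hP
  rw [GrothendieckTopology.mem_over_iff, ← Presieve.ofArrows_pUnit.{0}]
  change Sieve.overEquiv X' (Sieve.ofArrows _ _) ∈ _
  rw [Sieve.overEquiv_ofArrows]
  change Sieve.generate (Presieve.ofArrows _ _) ∈ _
  rw [Presieve.ofArrows_pUnit]
  exact Precoverage.generate_mem_toGrothendieck hf

end Groth.Agent.Lib.Seat41.Thick
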