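import Mathlib
import Groth.Agent.Lib.Seat41TypeA

/-!
# Kernels of maps between modules of type A (seat 41)

Abstract abelian-category lemmas:
* `nonempty_iso_cokernel`: in an exact short complex with `g` epi, `X₃ ≅ coker f`.
* `nonempty_kernel_iso_cokernel_of_epi`: `ker f ≅ coker (ker e ⟶ ker (e ≫ f))` for `e` epi.
* `nonempty_kernel_comp_cokernel_iso`: `ker (β ≫ coker.π ψ) ≅ coker (ker ψ ⟶ ker [β, ψ])`.

Ringed sites: `IsFinFree`, `kernel_isTypeA`, `isTypeA_kernel_of_free`, `isTypeA_kernel`.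
-/

set_option autoImplicit false
universe u
open CategoryTheory CategoryTheory.Limits Opposite

namespace Groth.Agent.Lib.Seat41.TypeAKer

section Abelian

variable {A : Type*} [Category A] [Abelian A]

/-- In an exact short complex with `g` epi, `X₃` is the cokernel of `f`. -/
theorem nonempty_iso_cokernel {S : ShortComplex A} (hS : S.Exact) [Epi S.g] :
    Nonempty (S.X₃ ≅ cokernel S.f) :=
  ⟨IsColimit.coconePointUniqueUpToIso hS.gIsCokernel (colimit.isColimit (parallelPair S.f 0))⟩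

/-- For `e` an epimorphism, `ker f ≅ coker (ker e ⟶ ker (e ≫ f))`. -/
theorem nonempty_kernel_iso_cokernel_of_epi {X Y Z : A} (e : X ⟶ Y) [Epi e] (f : Y ⟶ Z) :
    Nonempty (kernel f ≅ cokernel (kernel.lift (e ≫ f) (kernel.ι e) (by simp))) := by
  let k : kernel e ⟶ kernel (e ≫ f) := kernel.lift (e ≫ f) (kernel.ι e) (by simp)
  let c : kernel (e ≫ f) ⟶ kernel f := kernel.lift f (kernel.ι (e ≫ f) ≫ e) (by simp)
  let S : ShortComplex A := ShortComplex.mk k c (by ext; simp [k, c])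
  have : Epi S.g := by
    rw [epi_iff_surjective_up_to_refinements]
    intro T y
    obtain ⟨T', π, hπ, x, hx⟩ :=
      (epi_iff_surjective_up_to_refinements e).1 inferInstance (y ≫ kernel.ι f)
    refine ⟨T', π, hπ, kernel.lift (e ≫ f) x ?_, ?_⟩
    · rw [← Category.assoc, ← hx]; simp
    · rw [← cancel_mono (kernel.ι f)]; simp [S, c, hx]
  have hS : S.Exact := by
    rw [ShortComplex.exact_iff_exact_up_to_refinements]
    intro T x₂ hx₂
    refine ⟨T, 𝟙 _, inferInstance, kernel.lift e (x₂ ≫ kernel.ι (e ≫ f)) ?_, ?_⟩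
    · have := congrArg (· ≫ kernel.ι f) hx₂
      simpa [S, c] using this
    · rw [← cancel_mono (kernel.ι (e ≫ f))]; simp [S, k]
  exact nonempty_iso_cokernel hS

/-- `ker (β ≫ coker.π ψ) ≅ coker (ker ψ ⟶ ker [β, ψ])`. -/
theorem nonempty_kernel_comp_cokernel_iso {P R Q : A} (β : P ⟶ Q) (ψ : R ⟶ Q) :
    Nonempty (kernel (β ≫ cokernel.π ψ) ≅
      cokernel (kernel.lift (biprod.desc β ψ) (kernel.ι ψ ≫ biprod.inr) (by simp))) := by
  let φ : P ⊞ R ⟶ Q := biprod.desc β ψ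
  let k : kernel ψ ⟶ kernel φ := kernel.lift φ (kernel.ι ψ ≫ biprod.inr) (by simp [φ])
  have hφ : φ = biprod.fst ≫ β + biprod.snd ≫ ψ := by
    apply biprod.hom_ext' <;> simp [φ]
  have hc : (kernel.ι φ ≫ biprod.fst) ≫ β ≫ cokernel.π ψ = 0 := by
    have h1 : kernel.ι φ ≫ (biprod.fst ≫ β + biprod.snd ≫ ψ) = 0 := by
      rw [← hφ, kernel.condition]
    have h2 : kernel.ι φ ≫ biprod.fst ≫ β = - (kernel.ι φ ≫ biprod.snd ≫ ψ) := by
      rw [Preadditive.comp_add] at h1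
      exact eq_neg_of_add_eq_zero_left h1
    calc (kernel.ι φ ≫ biprod.fst) ≫ β ≫ cokernel.π ψ
        = (kernel.ι φ ≫ biprod.fst ≫ β) ≫ cokernel.π ψ := by simp only [Category.assoc]
      _ = 0 := by rw [h2]; simp
  let c : kernel φ ⟶ kernel (β ≫ cokernel.π ψ) :=
    kernel.lift _ (kernel.ι φ ≫ biprod.fst) hc
  let S : ShortComplex A := ShortComplex.mk k c (by ext; simp [k, c])
  have : Epi S.g := by
    rw [epi_iff_surjective_up_to_refinements]
    intro T y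
    have hex : (ShortComplex.mk ψ (cokernel.π ψ) (cokernel.condition ψ)).Exact :=
      ShortComplex.exact_cokernel ψ
    rw [ShortComplex.exact_iff_exact_up_to_refinements] at hex
    obtain ⟨T', π, hπ, x₁, hx₁⟩ := hex (y ≫ kernel.ι _ ≫ β) (by simp)
    dsimp at x₁ hx₁
    refine ⟨T', π, hπ, kernel.lift φ (biprod.lift (π ≫ y ≫ kernel.ι _) (-x₁)) ?_, ?_⟩
    · rw [hφ]; simp [hx₁]
    · rw [← cancel_mono (kernel.ι (β ≫ cokernel.π ψ))]; simp [S, c]
  have hS : S.Exact := by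
    rw [ShortComplex.exact_iff_exact_up_to_refinements]
    intro T x₂ hx₂
    have h0 : x₂ ≫ kernel.ι φ ≫ biprod.fst = 0 := by
      have := congrArg (· ≫ kernel.ι (β ≫ cokernel.π ψ)) hx₂
      simpa [S, c] using this
    have h1 : x₂ ≫ kernel.ι φ = (x₂ ≫ kernel.ι φ ≫ biprod.snd) ≫ biprod.inr := by
      apply biprod.hom_ext <;> simp [h0]
    refine ⟨T, 𝟙 _, inferInstance, kernel.lift ψ (x₂ ≫ kernel.ι φ ≫ biprod.snd) ?_, ?_⟩
    · have h2 : (x₂ ≫ kernel.ι φ) ≫ φ = 0 := by simp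
      rw [h1] at h2
      simpa [φ] using h2
    · rw [← cancel_mono (kernel.ι φ)]
      simp only [S, k, Category.id_comp, Category.assoc, kernel.lift_ι, kernel.lift_ι_assoc]
      rw [h1]; simp
  exact nonempty_iso_cokernel hS

/-- A coproduct indexed by a sum type is the biproduct of the two partial coproducts. -/
theorem nonempty_sigma_sum_iso_biprod {ι κ : Type*} (Z : ι ⊕ κ → A) [HasCoproduct Z]
    [HasCoproduct fun i => Z (Sum.inl i)] [HasCoproduct fun j => Z (Sum.inr j)] {P R : A}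
    (eP : P ≅ ∐ fun i => Z (Sum.inl i)) (eR : R ≅ ∐ fun j => Z (Sum.inr j)) :
    Nonempty ((∐ Z) ≅ P ⊞ R) := by
  let toB : ∀ x, Z x ⟶ P ⊞ R := fun x =>
    match x with
    | Sum.inl i => Sigma.ι (fun i => Z (Sum.inl i)) i ≫ eP.inv ≫ biprod.inl
    | Sum.inr j => Sigma.ι (fun j => Z (Sum.inr j)) j ≫ eR.inv ≫ biprod.inr
  have htB₁ : ∀ i, Sigma.ι Z (Sum.inl i) ≫ Sigma.desc toB =
      Sigma.ι (fun i => Z (Sum.inl i)) i ≫ eP.inv ≫ biprod.inl := fun i => Sigma.ι_desc _ _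
  have htB₂ : ∀ j, Sigma.ι Z (Sum.inr j) ≫ Sigma.desc toB =
      Sigma.ι (fun j => Z (Sum.inr j)) j ≫ eR.inv ≫ biprod.inr := fun j => Sigma.ι_desc _ _
  refine ⟨⟨Sigma.desc toB, biprod.desc (eP.hom ≫ Sigma.desc (fun i => Sigma.ι Z (Sum.inl i)))
    (eR.hom ≫ Sigma.desc (fun j => Sigma.ι Z (Sum.inr j))), ?_, ?_⟩⟩
  · apply Sigma.hom_ext
    rintro (i | j)
    · rw [← Category.assoc, htB₁ i]; simp
    · rw [← Category.assoc, htB₂ j]; simp
  · apply biprod.hom_ext'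
    · rw [← cancel_epi eP.inv]
      apply Sigma.hom_ext
      intro i
      simp [htB₁ i]
    · rw [← cancel_epi eR.inv]
      apply Sigma.hom_ext
      intro j
      simp [htB₂ j]

end Abelian

section Site

open Groth.Agent.Lib.Seat41.TypeA

variable {C : Type u} [SmallCategory C] {J : GrothendieckTopology C}
variable (O : Sheaf J CommRingCat.{u}) (B : Set C)

/-- Finite free modules on members of `B`, up to isomorphism. -/
def IsFinFree (P : ModSite.Mod O) : Prop :=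
  ∃ (n : ℕ) (U : Fin n → C), (∀ i, U i ∈ B) ∧
    Nonempty (P ≅ ∐ fun i => ModSite.freeOn O (U i))

variable {O B}

lemma isFinFree_fin {n : ℕ} (U : Fin n → C) (hU : ∀ i, U i ∈ B) :
    IsFinFree O B (∐ fun i => ModSite.freeOn O (U i)) :=
  ⟨n, U, hU, ⟨Iso.refl _⟩⟩

lemma IsFinFree.of_iso {P P' : ModSite.Mod O} (h : IsFinFree O B P) (e : P ≅ P') :
    IsFinFree O B P' := by
  obtain ⟨n, U, hU, ⟨e'⟩⟩ := h
  exact ⟨n, U, hU, ⟨e.symm ≪≫ e'⟩⟩

lemma isFinFree_of_finite {ι : Type} [Finite ι] (U : ι → C) (hU : ∀ i, U i ∈ B) :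
    IsFinFree O B (∐ fun i => ModSite.freeOn O (U i)) := by
  let eι := Finite.equivFin ι
  exact ⟨Nat.card ι, U ∘ eι.symm, fun i => hU _,
    ⟨(Sigma.reindex eι.symm (fun i => ModSite.freeOn O (U i))).symm⟩⟩

lemma IsFinFree.biprod {P R : ModSite.Mod O} (hP : IsFinFree O B P) (hR : IsFinFree O B R) :
    IsFinFree O B (P ⊞ R) := by
  obtain ⟨n, U, hU, ⟨eP⟩⟩ := hP
  obtain ⟨m, V, hV, ⟨eR⟩⟩ := hR
  let W : Fin n ⊕ Fin m → C := Sum.elim U V
  have hW : ∀ x, W x ∈ B := by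
    rintro (i | j)
    · exact hU i
    · exact hV j
  suffices h : Nonempty ((∐ fun x => ModSite.freeOn O (W x)) ≅ P ⊞ R) by
    obtain ⟨e⟩ := h
    exact (isFinFree_of_finite W hW).of_iso e
  exact nonempty_sigma_sum_iso_biprod (fun x => ModSite.freeOn O (W x)) eP eR

section Main

variable (hB₁ : ∀ X : C, ∃ (κ : Type u) (Y : κ → C) (g : ∀ k, Y k ⟶ X),
    Sieve.ofArrows Y g ∈ J X ∧ ∀ k, Y k ∈ B)
  (hB₂ : ∀ U ∈ B, CohCx.IsQcObject ((presheafToSheaf J (Type u)).obj (yoneda.obj U)))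
  (hker : ∀ (m n : ℕ) (V : Fin m → C) (U : Fin n → C)
      (φ : (∐ fun j => ModSite.freeOn O (V j)) ⟶ ∐ fun i => ModSite.freeOn O (U i)),
      (∀ j, V j ∈ B) → (∀ i, U i ∈ B) → IsTypeA O B (kernel φ))

include hker in
/-- Kernels of maps between finite free modules (up to isomorphism) are of type A. -/
theorem kernel_isTypeA {P Q : ModSite.Mod O} (hP : IsFinFree O B P) (hQ : IsFinFree O B Q)
    (φ : P ⟶ Q) : IsTypeA O B (kernel φ) := by
  obtain ⟨m, V, hV, ⟨eP⟩⟩ := hP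
  obtain ⟨n, U, hU, ⟨eQ⟩⟩ := hQ
  exact (hker m n V U (eP.inv ≫ φ ≫ eQ.hom) hV hU).of_iso
    (kernel.mapIso (eP.inv ≫ φ ≫ eQ.hom) φ eP.symm eQ.symm (by simp))

include hB₁ hB₂ hker in
/-- The kernel of a map from a finite free module to a module of type A is of type A. -/
theorem isTypeA_kernel_of_free {G : ModSite.Mod O} (hG : IsTypeA O B G) {n : ℕ} (U : Fin n → C)
    (hU : ∀ i, U i ∈ B) (γ : (∐ fun i => ModSite.freeOn O (U i)) ⟶ G) :
    IsTypeA O B (kernel γ) := by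
  obtain ⟨mG, nG, VG, UG, ψG, hVG, hUG, ⟨eG⟩⟩ := hG
  obtain ⟨pG, hpG⟩ : ∃ pG : (∐ fun i => ModSite.freeOn O (UG i)) ⟶ G,
      pG = cokernel.π ψG ≫ eG.inv := ⟨_, rfl⟩
  have : Epi pG := by rw [hpG]; infer_instance
  -- local lifts
  have h1 : ∀ i : Fin n, ∃ (ni : ℕ) (Y : Fin ni → C) (g : ∀ k, Y k ⟶ U i), (∀ k, Y k ∈ B) ∧
      Sieve.ofArrows Y g ∈ J (U i) ∧ ∀ k, ∃ s' : ModSite.freeOn O (Y k) ⟶
        ∐ fun i => ModSite.freeOn O (UG i),
        s' ≫ pG = frMap O (g k) ≫ Sigma.ι (fun i => ModSite.freeOn O (U i)) i ≫ γ := by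
    intro i
    obtain ⟨S, hS, hlift⟩ := exists_local_lift O pG (U i)
      (Sigma.ι (fun i => ModSite.freeOn O (U i)) i ≫ γ)
    obtain ⟨ni, Y, g, hYB, hgS, hcov⟩ :=
      exists_finite_refinement B hB₁ (U i) (hB₂ _ (hU i)) S hS
    exact ⟨ni, Y, g, hYB, hcov, fun k => hlift (g k) (hgS k)⟩
  choose ni Y g hYB hcov s' hs' using h1
  let W : (Σ i : Fin n, Fin (ni i)) → C := fun t => Y t.1 t.2
  have hW : ∀ t, W t ∈ B := fun t => hYB t.1 t.2
  obtain ⟨e, he'⟩ : ∃ e : (∐ fun t => ModSite.freeOn O (W t)) ⟶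
      ∐ fun i => ModSite.freeOn O (U i),
      ∀ t, Sigma.ι (fun t => ModSite.freeOn O (W t)) t ≫ e =
        frMap O (g t.1 t.2) ≫ Sigma.ι (fun i => ModSite.freeOn O (U i)) t.1 :=
    ⟨Sigma.desc _, fun t => Sigma.ι_desc _ _⟩
  obtain ⟨β, hβ'⟩ : ∃ β : (∐ fun t => ModSite.freeOn O (W t)) ⟶
      ∐ fun i => ModSite.freeOn O (UG i),
      ∀ t, Sigma.ι (fun t => ModSite.freeOn O (W t)) t ≫ β = s' t.1 t.2 :=
    ⟨Sigma.desc _, fun t => Sigma.ι_desc _ _⟩
  have he : Epi e := by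
    refine ⟨fun {M} a b hab => ?_⟩
    apply Sigma.hom_ext
    intro i
    refine hom_ext_of_covering O (Y i) (g i) (hcov i) _ _ (fun k => ?_)
    have := Sigma.ι (fun t => ModSite.freeOn O (W t)) ⟨i, k⟩ ≫= hab
    rw [← Category.assoc, ← Category.assoc, he' ⟨i, k⟩] at this
    simpa only [Category.assoc] using this
  have hβ : e ≫ γ = (β ≫ cokernel.π ψG) ≫ eG.inv := by
    apply Sigma.hom_ext
    intro t
    calc Sigma.ι (fun t => ModSite.freeOn O (W t)) t ≫ e ≫ γ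
        = (Sigma.ι (fun t => ModSite.freeOn O (W t)) t ≫ e) ≫ γ := by rw [Category.assoc]
      _ = s' t.1 t.2 ≫ pG := by rw [he' t, hs', Category.assoc]
      _ = (Sigma.ι (fun t => ModSite.freeOn O (W t)) t ≫ β) ≫ cokernel.π ψG ≫ eG.inv := by
          rw [hβ' t, hpG]
      _ = _ := by simp only [Category.assoc]
  have hP' : IsFinFree O B (∐ fun t => ModSite.freeOn O (W t)) := isFinFree_of_finite W hW
  have hPU : IsFinFree O B (∐ fun i => ModSite.freeOn O (U i)) := isFinFree_fin U hU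
  have hQ : IsFinFree O B (∐ fun i => ModSite.freeOn O (UG i)) := isFinFree_fin UG hUG
  have hR : IsFinFree O B (∐ fun j => ModSite.freeOn O (VG j)) := isFinFree_fin VG hVG
  have hK1 : IsTypeA O B (kernel (β ≫ cokernel.π ψG)) := by
    obtain ⟨i⟩ := nonempty_kernel_comp_cokernel_iso β ψG
    exact (isTypeA_cokernel hB₁ hB₂ _ (kernel_isTypeA hker hR hQ ψG)
      (kernel_isTypeA hker (hP'.biprod hR) hQ (biprod.desc β ψG))).of_iso i.symm
  have hK2 : IsTypeA O B (kernel (e ≫ γ)) :=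
    hK1.of_iso ((kernelCompMono _ eG.inv).symm ≪≫ kernelIsoOfEq hβ.symm)
  obtain ⟨i⟩ := nonempty_kernel_iso_cokernel_of_epi e γ
  exact (isTypeA_cokernel hB₁ hB₂ _ (kernel_isTypeA hker hP' hPU e) hK2).of_iso i.symm

include hB₁ hB₂ hker in
/-- Kernels of maps between modules of type A are of type A. -/
theorem isTypeA_kernel {F G : ModSite.Mod O} (α : F ⟶ G) (hF : IsTypeA O B F)
    (hG : IsTypeA O B G) : IsTypeA O B (kernel α) := by
  obtain ⟨m, n, V, U, ψ, hV, hU, ⟨eF⟩⟩ := hF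
  have hF' : IsTypeA O B F := ⟨m, n, V, U, ψ, hV, hU, ⟨eF⟩⟩
  have : Epi (cokernel.π ψ ≫ eF.inv) := inferInstance
  obtain ⟨i⟩ := nonempty_kernel_iso_cokernel_of_epi (cokernel.π ψ ≫ eF.inv) α
  exact (isTypeA_cokernel hB₁ hB₂ _
    (isTypeA_kernel_of_free hB₁ hB₂ hker hF' U hU (cokernel.π ψ ≫ eF.inv))
    (isTypeA_kernel_of_free hB₁ hB₂ hker hG U hU ((cokernel.π ψ ≫ eF.inv) ≫ α))).of_iso i.symm

end Main

end Site

end Groth.Agent.Lib.Seat41.TypeAKer
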