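import Mathlib
import Groth.Agent.Lib.Seat41TypeAKer
import Groth.Agent.Lib.Helper21ModTensor5
import Groth.Agent.S6152

/-!
# Every module is a filtered colimit of modules of type A (seat 41)

* `mono_desc_of_kernel_comp_eq_zero`: AB5 criterion for the comparison map from a filtered colimit
  to be a monomorphism.
* `PresObj`: the small filtered category of presentations over `F`.
-/

set_option autoImplicit false
universe u
open CategoryTheory CategoryTheory.Limits Opposite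

namespace Groth.Agent.Lib.Seat41.TypeAColim

section AB5

variable {A : Type*} [Category A] [Abelian A] {Λ : Type*} [Category Λ] [IsFiltered Λ]
  [HasColimitsOfShape Λ A] [HasExactColimitsOfShape Λ A]

attribute [local instance] IsFiltered.isConnected

/-- AB5 criterion: if the kernels of the components `D_λ ⟶ F` die in the colimit, then the
comparison map `colim D ⟶ F` is a monomorphism. -/
theorem mono_desc_of_kernel_comp_eq_zero {D : Λ ⥤ A} {F : A}
    (a : D ⟶ (Functor.const Λ).obj F) {c : Cocone D} (hc : IsColimit c)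
    (h : kernel.ι a ≫ c.ι = 0) : Mono (hc.desc (Cocone.mk F a)) := by
  let I : Λ ⥤ A := Abelian.coimage a
  let q : I ⟶ (Functor.const Λ).obj c.pt := cokernel.desc (kernel.ι a) c.ι h
  let i : I ⟶ (Functor.const Λ).obj F := Abelian.factorThruCoimage a
  have hπq : Abelian.coimage.π a ≫ q = c.ι := cokernel.π_desc _ _ _
  have hπi : Abelian.coimage.π a ≫ i = a := Abelian.coimage.fac a
  let ψ₁ : c.pt ⟶ colimit I :=
    hc.desc (Cocone.mk _ (Abelian.coimage.π a ≫ (colimit.cocone I).ι))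
  let ψ₂ : colimit I ⟶ c.pt := colimit.desc I (Cocone.mk _ q)
  let ψ₃ : colimit I ⟶ F := colimit.desc I (Cocone.mk _ i)
  have h12 : ψ₁ ≫ ψ₂ = 𝟙 _ := hc.hom_ext (fun j => by
    have := NatTrans.congr_app hπq j
    simp only [NatTrans.comp_app] at this
    simp [ψ₁, ψ₂, this])
  have hm1 : Mono ψ₁ := mono_of_mono_fac h12
  have hmi : Mono i := inferInstance
  have hm3 : Mono ψ₃ :=
    colim.map_mono' i (colimit.isColimit I) (isColimitConstCocone Λ F) ψ₃ (fun j => by
      have e : colimit.ι I j ≫ ψ₃ = i.app j := colimit.ι_desc (Cocone.mk F i) j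
      exact e.trans (Category.comp_id _).symm)
  have h13 : hc.desc (Cocone.mk F a) = ψ₁ ≫ ψ₃ := hc.hom_ext (fun j => by
    have := NatTrans.congr_app hπi j
    simp only [NatTrans.comp_app] at this
    simp [ψ₁, ψ₃, this])
  rw [h13]
  exact mono_comp _ _

end AB5

section Abelian

variable {A : Type*} [Category A] [Abelian A]

/-- `coker (ψ₁ ⊞ ψ₂) ≅ coker ψ₁ ⊞ coker ψ₂`. -/
theorem nonempty_cokernel_biprod_map_iso {R₁ R₂ P₁ P₂ : A} (ψ₁ : R₁ ⟶ P₁) (ψ₂ : R₂ ⟶ P₂) :
    Nonempty (cokernel (biprod.map ψ₁ ψ₂) ≅ cokernel ψ₁ ⊞ cokernel ψ₂) := by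
  let p : P₁ ⊞ P₂ ⟶ cokernel ψ₁ ⊞ cokernel ψ₂ := biprod.map (cokernel.π ψ₁) (cokernel.π ψ₂)
  have w : biprod.map ψ₁ ψ₂ ≫ p = 0 := by
    apply biprod.hom_ext' <;> simp [p]
  have hp : Epi p := inferInstance
  have hcolim : IsColimit (CokernelCofork.ofπ p w) := by
    refine CokernelCofork.IsColimit.ofπ' p w (fun {X} k hk => ?_)
    have h1 : ψ₁ ≫ biprod.inl ≫ k = 0 := by
      have := biprod.inl ≫= hk
      simpa using this
    have h2 : ψ₂ ≫ biprod.inr ≫ k = 0 := by
      have := biprod.inr ≫= hk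
      simpa using this
    refine ⟨biprod.desc (cokernel.desc ψ₁ (biprod.inl ≫ k) h1)
      (cokernel.desc ψ₂ (biprod.inr ≫ k) h2), ?_⟩
    apply biprod.hom_ext' <;> simp [p]
  exact ⟨IsColimit.coconePointUniqueUpToIso (colimit.isColimit _) hcolim⟩

end Abelian

section Site

open Groth.Agent.Lib.Seat41.TypeA Groth.Agent.Lib.Seat41.TypeAKer

variable {C : Type u} [SmallCategory C] {J : GrothendieckTopology C}
variable (O : Sheaf J CommRingCat.{u}) (B : Set C) (F : ModSite.Mod O)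

section TypeA

variable {O B}

/-- The cokernel of a map between finite free modules (up to isomorphism) is of type A. -/
theorem isTypeA_cokernel_of_isFinFree {R P : ModSite.Mod O} (hR : IsFinFree O B R)
    (hP : IsFinFree O B P) (ψ : R ⟶ P) : IsTypeA O B (cokernel ψ) := by
  obtain ⟨m, V, hV, ⟨eR⟩⟩ := hR
  obtain ⟨n, U, hU, ⟨eP⟩⟩ := hP
  exact ⟨m, n, V, U, eR.inv ≫ ψ ≫ eP.hom, hV, hU,
    ⟨cokernel.mapIso ψ (eR.inv ≫ ψ ≫ eP.hom) eR eP (by simp)⟩⟩

/-- Finite free modules are of type A. -/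
theorem isTypeA_of_isFinFree {P : ModSite.Mod O} (hP : IsFinFree O B P) : IsTypeA O B P := by
  have h0 : IsFinFree O B (∐ fun j : Fin 0 => ModSite.freeOn O (Fin.elim0 j : C)) :=
    isFinFree_fin _ (fun j => Fin.elim0 j)
  exact (isTypeA_cokernel_of_isFinFree h0 hP 0).of_iso cokernelZeroIsoTarget

/-- Modules of type A are closed under binary biproducts. -/
theorem isTypeA_biprod {T₁ T₂ : ModSite.Mod O} (h₁ : IsTypeA O B T₁) (h₂ : IsTypeA O B T₂) :
    IsTypeA O B (T₁ ⊞ T₂) := by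
  obtain ⟨m₁, n₁, V₁, U₁, ψ₁, hV₁, hU₁, ⟨e₁⟩⟩ := h₁
  obtain ⟨m₂, n₂, V₂, U₂, ψ₂, hV₂, hU₂, ⟨e₂⟩⟩ := h₂
  obtain ⟨i⟩ := nonempty_cokernel_biprod_map_iso ψ₁ ψ₂
  have h := isTypeA_cokernel_of_isFinFree ((isFinFree_fin V₁ hV₁).biprod (isFinFree_fin V₂ hV₂))
    ((isFinFree_fin U₁ hU₁).biprod (isFinFree_fin U₂ hU₂)) (biprod.map ψ₁ ψ₂)
  exact h.of_iso (i ≪≫ (biprod.mapIso e₁ e₂).symm)

end TypeA

/-- Presentations of type A over `F`. -/
structure PresObj : Type u where
  /-- number of relations -/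
  m : ℕ
  /-- number of generators -/
  n : ℕ
  /-- objects supporting the relations -/
  V : Fin m → C
  /-- objects supporting the generators -/
  U : Fin n → C
  /-- the presentation map -/
  ψ : (∐ fun j => ModSite.freeOn O (V j)) ⟶ ∐ fun i => ModSite.freeOn O (U i)
  hV : ∀ j, V j ∈ B
  hU : ∀ i, U i ∈ B
  /-- the structure map -/
  a : cokernel ψ ⟶ F

namespace PresObj

variable {O B F}

/-- The module presented. -/
noncomputable def obj (x : PresObj O B F) : ModSite.Mod O := cokernel x.ψ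

/-- The structure map. -/
noncomputable def hom (x : PresObj O B F) : x.obj ⟶ F := x.a

lemma isTypeA_obj (x : PresObj O B F) : IsTypeA O B x.obj :=
  ⟨x.m, x.n, x.V, x.U, x.ψ, x.hV, x.hU, ⟨Iso.refl _⟩⟩

noncomputable instance : Category (PresObj O B F) where
  Hom x y := {f : x.obj ⟶ y.obj // f ≫ y.hom = x.hom}
  id x := ⟨𝟙 _, Category.id_comp _⟩
  comp f g := ⟨f.1 ≫ g.1, by rw [Category.assoc, g.2, f.2]⟩
  id_comp f := Subtype.ext (Category.id_comp _)
  comp_id f := Subtype.ext (Category.comp_id _)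
  assoc f g h := Subtype.ext (Category.assoc _ _ _)

@[simp] lemma comp_val {x y z : PresObj O B F} (f : x ⟶ y) (g : y ⟶ z) :
    (f ≫ g).1 = f.1 ≫ g.1 := rfl

@[simp] lemma id_val (x : PresObj O B F) : (𝟙 x : x ⟶ x).1 = 𝟙 x.obj := rfl

/-- The diagram of presented modules. -/
noncomputable def diag : PresObj O B F ⥤ ModSite.Mod O where
  obj x := x.obj
  map f := f.1

/-- The canonical cocone. -/
noncomputable def toConst : (diag : PresObj O B F ⥤ ModSite.Mod O) ⟶ (Functor.const _).obj F where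
  app x := x.hom
  naturality x y f := by
    dsimp [diag]
    rw [Category.comp_id]
    exact f.2

/-- Any module of type A over `F` is isomorphic to one coming from `PresObj`. -/
theorem exists_obj {T : ModSite.Mod O} (hT : IsTypeA O B T) (t : T ⟶ F) :
    ∃ (x : PresObj O B F) (e : x.obj ≅ T), e.hom ≫ t = x.hom := by
  obtain ⟨m, n, V, U, ψ, hV, hU, ⟨e⟩⟩ := hT
  exact ⟨⟨m, n, V, U, ψ, hV, hU, e.inv ≫ t⟩, e.symm, rfl⟩

instance : Nonempty (PresObj O B F) :=
  ⟨⟨0, 0, fun j => Fin.elim0 j, fun i => Fin.elim0 i, 0, fun j => Fin.elim0 j,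
    fun i => Fin.elim0 i, 0⟩⟩

end PresObj

section Main

variable {O B F}
variable (hB₁ : ∀ X : C, ∃ (κ : Type u) (Y : κ → C) (g : ∀ k, Y k ⟶ X),
    Sieve.ofArrows Y g ∈ J X ∧ ∀ k, Y k ∈ B)
  (hB₂ : ∀ U ∈ B, CohCx.IsQcObject ((presheafToSheaf J (Type u)).obj (yoneda.obj U)))

include hB₁ hB₂ in
/-- The category of presentations over `F` is filtered. -/
theorem isFiltered_presObj : IsFiltered (PresObj O B F) := by
  have : IsFilteredOrEmpty (PresObj O B F) := by
    refine ⟨fun x y => ?_, fun x y f g => ?_⟩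
    · obtain ⟨z, e, he⟩ := PresObj.exists_obj (isTypeA_biprod x.isTypeA_obj y.isTypeA_obj)
        (biprod.desc x.hom y.hom)
      refine ⟨z, ⟨biprod.inl ≫ e.inv, ?_⟩, ⟨biprod.inr ≫ e.inv, ?_⟩, trivial⟩
      · rw [Category.assoc, ← he, e.inv_hom_id_assoc, biprod.inl_desc]
      · rw [Category.assoc, ← he, e.inv_hom_id_assoc, biprod.inr_desc]
    · have hT : IsTypeA O B (cokernel (f.1 - g.1)) :=
        isTypeA_cokernel hB₁ hB₂ (f.1 - g.1) x.isTypeA_obj y.isTypeA_obj
      have hfg : (f.1 - g.1) ≫ y.hom = 0 := by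
        rw [Preadditive.sub_comp, f.2, g.2, sub_self]
      obtain ⟨z, e, he⟩ := PresObj.exists_obj hT (cokernel.desc (f.1 - g.1) y.hom hfg)
      refine ⟨z, ⟨cokernel.π (f.1 - g.1) ≫ e.inv, ?_⟩, ?_⟩
      · rw [Category.assoc, ← he, e.inv_hom_id_assoc, cokernel.π_desc]
      · apply Subtype.ext
        have h0 : (f.1 - g.1) ≫ cokernel.π (f.1 - g.1) ≫ e.inv = 0 := by
          rw [cokernel.condition_assoc, zero_comp]
        rw [Preadditive.sub_comp, sub_eq_zero] at h0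
        exact h0
  exact ⟨⟩

include hB₁ hB₂ in
/-- The kernels of the structure maps die in any cocone. -/
theorem kernel_comp_eq_zero (c : Cocone (PresObj.diag : PresObj O B F ⥤ ModSite.Mod O)) :
    kernel.ι (PresObj.toConst : (PresObj.diag : PresObj O B F ⥤ _) ⟶ _) ≫ c.ι = 0 := by
  have hsep := (Groth.Agent.S6152.result O B hB₁).2
  apply NatTrans.ext
  funext x
  rw [NatTrans.comp_app]
  obtain ⟨k, hk⟩ : ∃ k : (kernel (PresObj.toConst :
      (PresObj.diag : PresObj O B F ⥤ _) ⟶ _)).obj x ⟶ x.obj,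
      k = (kernel.ι (PresObj.toConst : (PresObj.diag : PresObj O B F ⥤ _) ⟶ _)).app x :=
    ⟨_, rfl⟩
  obtain ⟨cx, hcx⟩ : ∃ cx : x.obj ⟶ c.pt, cx = c.ι.app x := ⟨_, rfl⟩
  have hcond : k ≫ x.hom = 0 := by
    have := NatTrans.congr_app (kernel.condition (PresObj.toConst :
      (PresObj.diag : PresObj O B F ⥤ _) ⟶ _)) x
    rw [NatTrans.comp_app] at this
    rw [hk]
    exact this
  suffices hkc : k ≫ cx = 0 by
    rw [hk, hcx] at hkc
    exact hkc
  refine hsep _ _ ?_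
  rintro G ⟨⟨U, hU⟩⟩ s
  obtain ⟨t, ht⟩ : ∃ t : ModSite.freeOn O U ⟶ x.obj, t = s ≫ k := ⟨_, rfl⟩
  have ht0 : t ≫ x.hom = 0 := by rw [ht, Category.assoc, hcond, comp_zero]
  obtain ⟨t', ht'⟩ : ∃ t' : (∐ fun _ : Fin 1 => ModSite.freeOn O U) ⟶ x.obj,
      Sigma.ι (fun _ : Fin 1 => ModSite.freeOn O U) 0 ≫ t' = t :=
    ⟨Sigma.desc (fun _ => t), Sigma.ι_desc _ _⟩
  have ht'0 : t' ≫ x.hom = 0 := by
    apply Sigma.hom_ext
    intro i
    obtain rfl : i = 0 := Subsingleton.elim _ _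
    rw [← Category.assoc, ht', ht0, comp_zero]
  have hT : IsTypeA O B (cokernel t') :=
    isTypeA_cokernel_of_free hB₁ hB₂ x.isTypeA_obj (fun _ : Fin 1 => U) (fun _ => hU) t'
  obtain ⟨z, e, he⟩ := PresObj.exists_obj hT (cokernel.desc t' x.hom ht'0)
  let w : x ⟶ z := ⟨cokernel.π t' ≫ e.inv, by
    rw [Category.assoc, ← he, e.inv_hom_id_assoc, cokernel.π_desc]⟩
  obtain ⟨cz, hcz⟩ : ∃ cz : z.obj ⟶ c.pt, cz = c.ι.app z := ⟨_, rfl⟩
  have hw : (cokernel.π t' ≫ e.inv) ≫ cz = cx := by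
    rw [hcz, hcx]
    exact c.w w
  show s ≫ k ≫ cx = s ≫ 0
  rw [comp_zero, ← Category.assoc, ← ht, ← hw, ← ht', Category.assoc, Category.assoc,
    cokernel.condition_assoc, zero_comp, comp_zero]

include hB₁ in
/-- The comparison map from a colimit of the diagram of presentations is an epimorphism. -/
theorem epi_desc {c : Cocone (PresObj.diag : PresObj O B F ⥤ ModSite.Mod O)} (hc : IsColimit c) :
    Epi (hc.desc (Cocone.mk F PresObj.toConst)) := by
  have hsep := (Groth.Agent.S6152.result O B hB₁).2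
  obtain ⟨φ, hφ⟩ : ∃ φ : c.pt ⟶ F, φ = hc.desc (Cocone.mk F PresObj.toConst) := ⟨_, rfl⟩
  rw [← hφ]
  apply Abelian.epi_of_cokernel_π_eq_zero
  refine hsep _ _ ?_
  rintro G ⟨⟨U, hU⟩⟩ s
  obtain ⟨t', ht'⟩ : ∃ t' : (∐ fun _ : Fin 1 => ModSite.freeOn O U) ⟶ F,
      Sigma.ι (fun _ : Fin 1 => ModSite.freeOn O U) 0 ≫ t' = s :=
    ⟨Sigma.desc (fun _ => s), Sigma.ι_desc _ _⟩
  have hT : IsTypeA O B (∐ fun _ : Fin 1 => ModSite.freeOn O U) :=
    isTypeA_of_isFinFree (isFinFree_fin (fun _ : Fin 1 => U) (fun _ => hU))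
  obtain ⟨z, e, he⟩ := PresObj.exists_obj hT t'
  obtain ⟨cz, hcz⟩ : ∃ cz : z.obj ⟶ c.pt, cz = c.ι.app z := ⟨_, rfl⟩
  have hz : cz ≫ φ = z.hom := by
    rw [hcz, hφ]
    exact hc.fac (Cocone.mk F PresObj.toConst) z
  have hs : s = (Sigma.ι (fun _ : Fin 1 => ModSite.freeOn O U) 0 ≫ e.inv ≫ cz) ≫ φ := by
    rw [Category.assoc, Category.assoc, hz, ← he, e.inv_hom_id_assoc, ht']
  show s ≫ cokernel.π φ = s ≫ 0
  rw [comp_zero, hs, Category.assoc, cokernel.condition, comp_zero]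

include hB₁ hB₂ in
/-- Every module is a filtered colimit of modules of type A. -/
theorem exists_filtered_colimit (F : ModSite.Mod O) :
    ∃ (Λ : Type u) (_ : SmallCategory Λ) (_ : IsFiltered Λ) (D : Λ ⥤ ModSite.Mod O)
      (ι : D ⟶ (Functor.const Λ).obj F),
      (∀ l, IsTypeA O B (D.obj l)) ∧ Nonempty (IsColimit (Cocone.mk F ι)) := by
  have hfil : IsFiltered (PresObj O B F) := isFiltered_presObj hB₁ hB₂
  refine ⟨PresObj O B F, inferInstance, hfil, PresObj.diag, PresObj.toConst,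
    fun l => l.isTypeA_obj, ?_⟩
  have := Groth.Agent.Lib.Helper21.ModTensor5.hasExactColimitsOfShape_filtered O (PresObj O B F)
  have hc : IsColimit (colimit.cocone (PresObj.diag : PresObj O B F ⥤ ModSite.Mod O)) :=
    colimit.isColimit _
  have hmono : Mono (hc.desc (Cocone.mk F PresObj.toConst)) :=
    mono_desc_of_kernel_comp_eq_zero PresObj.toConst hc (kernel_comp_eq_zero hB₁ hB₂ _)
  have hepi : Epi (hc.desc (Cocone.mk F PresObj.toConst)) := epi_desc hB₁ hc
  have hiso : IsIso (hc.desc (Cocone.mk F PresObj.toConst)) := isIso_of_mono_of_epi _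
  exact ⟨IsColimit.ofIsoColimit hc
    (Cocone.ext (asIso (hc.desc (Cocone.mk F PresObj.toConst)))
      (fun j => hc.fac (Cocone.mk F PresObj.toConst) j))⟩

end Main

end Site

end Groth.Agent.Lib.Seat41.TypeAColim
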