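import Mathlib
import Groth.Agent.Lib.Seat41TypeAKer

/-!
# Extensions of modules of type A (seat 41)

Abstract abelian-category lemmas:
* `epi_biprod_desc`: horseshoe-type epimorphism `P₁ ⊞ P₃ ⟶ X₂`.
* `exists_kernel_biprod_desc_seq`: its kernel is an extension of `ker (l ≫ g)` by `ker p₁`.
* `exists_kernel_comp_seq`: `ker e ⟶ ker (e ≫ f) ⟶ ker f` exact with epi for `e` epi.

Ringed sites: `frMap_comp`, `exists_glue` (maps out of `j_{U!}O_U` glue along covering families),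
`IsFinGen`, `isFinGen_of_exact`, `exists_refinement_lift`, `isTypeA_of_epi`, `isTypeA_of_shortExact`.
-/

set_option autoImplicit false
universe u
open CategoryTheory CategoryTheory.Limits Opposite

namespace Groth.Agent.Lib.Seat41.TypeAExt

section Abelian

variable {A : Type*} [Category A] [Abelian A]

/-- Horseshoe-type epimorphism. -/
theorem epi_biprod_desc {S : ShortComplex A} (hS : S.Exact) {P₁ P₃ : A} (p₁ : P₁ ⟶ S.X₁)
    [Epi p₁] (l : P₃ ⟶ S.X₂) [Epi (l ≫ S.g)] : Epi (biprod.desc (p₁ ≫ S.f) l) := by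
  rw [epi_iff_surjective_up_to_refinements]
  intro T y
  obtain ⟨T₁, π₁, hπ₁, x₃, hx₃⟩ :=
    (epi_iff_surjective_up_to_refinements (l ≫ S.g)).1 inferInstance (y ≫ S.g)
  have hz : (π₁ ≫ y - x₃ ≫ l) ≫ S.g = 0 := by
    rw [Preadditive.sub_comp, Category.assoc, Category.assoc, hx₃, sub_self]
  obtain ⟨T₂, π₂, hπ₂, x₁', hx₁'⟩ :=
    (ShortComplex.exact_iff_exact_up_to_refinements S).1 hS (π₁ ≫ y - x₃ ≫ l) hz
  obtain ⟨T₃, π₃, hπ₃, x₁, hx₁⟩ :=
    (epi_iff_surjective_up_to_refinements p₁).1 inferInstance x₁'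
  refine ⟨T₃, π₃ ≫ π₂ ≫ π₁, inferInstance, biprod.lift x₁ (π₃ ≫ π₂ ≫ x₃), ?_⟩
  have key : (π₃ ≫ x₁') ≫ S.f = π₃ ≫ π₂ ≫ π₁ ≫ y - π₃ ≫ π₂ ≫ x₃ ≫ l := by
    rw [Category.assoc, ← hx₁']; simp [Preadditive.comp_sub]
  rw [biprod.lift_desc, ← Category.assoc x₁, ← hx₁, key]
  simp

/-- The kernel of the horseshoe-type epimorphism is an extension. -/
theorem exists_kernel_biprod_desc_seq {S : ShortComplex A} (hS : S.Exact) [Mono S.f]
    {P₁ P₃ : A} (p₁ : P₁ ⟶ S.X₁) [Epi p₁] (l : P₃ ⟶ S.X₂) :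
    ∃ (k₁ : kernel p₁ ⟶ kernel (biprod.desc (p₁ ≫ S.f) l))
      (k₃ : kernel (biprod.desc (p₁ ≫ S.f) l) ⟶ kernel (l ≫ S.g)) (w : k₁ ≫ k₃ = 0),
      (ShortComplex.mk k₁ k₃ w).Exact ∧ Epi k₃ := by
  obtain ⟨φ, hφdef⟩ : ∃ φ : P₁ ⊞ P₃ ⟶ S.X₂, φ = biprod.desc (p₁ ≫ S.f) l := ⟨_, rfl⟩
  rw [← hφdef]
  have hφ : φ = biprod.fst ≫ p₁ ≫ S.f + biprod.snd ≫ l := by
    rw [hφdef]; apply biprod.hom_ext' <;> simp
  have hinl : biprod.inl ≫ φ = p₁ ≫ S.f := by rw [hφdef]; simp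
  have hc : (kernel.ι φ ≫ biprod.snd) ≫ l ≫ S.g = 0 := by
    have h1 : kernel.ι φ ≫ (biprod.fst ≫ p₁ ≫ S.f + biprod.snd ≫ l) = 0 := by
      rw [← hφ, kernel.condition]
    have h2 : kernel.ι φ ≫ biprod.snd ≫ l = - (kernel.ι φ ≫ biprod.fst ≫ p₁ ≫ S.f) := by
      rw [Preadditive.comp_add] at h1
      exact eq_neg_of_add_eq_zero_right h1
    calc (kernel.ι φ ≫ biprod.snd) ≫ l ≫ S.g
        = (kernel.ι φ ≫ biprod.snd ≫ l) ≫ S.g := by simp only [Category.assoc]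
      _ = 0 := by rw [h2]; simp
  let k₁ : kernel p₁ ⟶ kernel φ := kernel.lift φ (kernel.ι p₁ ≫ biprod.inl) (by
    rw [Category.assoc, hinl, ← Category.assoc, kernel.condition, zero_comp])
  let k₃ : kernel φ ⟶ kernel (l ≫ S.g) := kernel.lift _ (kernel.ι φ ≫ biprod.snd) hc
  have w : k₁ ≫ k₃ = 0 := by ext; simp [k₁, k₃]
  refine ⟨k₁, k₃, w, ?_, ?_⟩
  · rw [ShortComplex.exact_iff_exact_up_to_refinements]
    intro T x₂ hx₂
    dsimp at x₂ hx₂
    have h0 : x₂ ≫ kernel.ι φ ≫ biprod.snd = 0 := by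
      have := congrArg (· ≫ kernel.ι (l ≫ S.g)) hx₂
      simpa [k₃] using this
    have h1 : x₂ ≫ kernel.ι φ = (x₂ ≫ kernel.ι φ ≫ biprod.fst) ≫ biprod.inl := by
      apply biprod.hom_ext <;> simp [h0]
    have h2 : (x₂ ≫ kernel.ι φ ≫ biprod.fst) ≫ p₁ = 0 := by
      rw [← cancel_mono S.f, zero_comp, Category.assoc, ← hinl, ← Category.assoc, ← h1]
      simp
    refine ⟨T, 𝟙 _, inferInstance, kernel.lift p₁ (x₂ ≫ kernel.ι φ ≫ biprod.fst) h2, ?_⟩
    dsimp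
    rw [← cancel_mono (kernel.ι φ)]
    simp only [k₁, Category.id_comp, Category.assoc, kernel.lift_ι, kernel.lift_ι_assoc]
    rw [h1]; simp
  · rw [epi_iff_surjective_up_to_refinements]
    intro T y
    have hy : (y ≫ kernel.ι (l ≫ S.g) ≫ l) ≫ S.g = 0 := by simp
    obtain ⟨T₁, π₁, hπ₁, x₁', hx₁'⟩ :=
      (ShortComplex.exact_iff_exact_up_to_refinements S).1 hS _ hy
    obtain ⟨T₂, π₂, hπ₂, x₁, hx₁⟩ :=
      (epi_iff_surjective_up_to_refinements p₁).1 inferInstance x₁'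
    refine ⟨T₂, π₂ ≫ π₁, inferInstance,
      kernel.lift φ (biprod.lift (-x₁) (π₂ ≫ π₁ ≫ y ≫ kernel.ι (l ≫ S.g))) ?_, ?_⟩
    · rw [hφ]
      simp only [Preadditive.comp_add, biprod.lift_fst_assoc, biprod.lift_snd_assoc,
        Preadditive.neg_comp, Category.assoc]
      rw [← Category.assoc x₁, ← hx₁, Category.assoc, ← hx₁']
      simp
    · rw [← cancel_mono (kernel.ι (l ≫ S.g))]; simp [k₃]

/-- For `e` epi, `ker e ⟶ ker (e ≫ f) ⟶ ker f` is exact with the second map epi. -/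
theorem exists_kernel_comp_seq {X Y Z : A} (e : X ⟶ Y) [Epi e] (f : Y ⟶ Z) :
    ∃ (k : kernel e ⟶ kernel (e ≫ f)) (c : kernel (e ≫ f) ⟶ kernel f) (w : k ≫ c = 0),
      (ShortComplex.mk k c w).Exact ∧ Epi c := by
  let k : kernel e ⟶ kernel (e ≫ f) := kernel.lift (e ≫ f) (kernel.ι e) (by simp)
  let c : kernel (e ≫ f) ⟶ kernel f := kernel.lift f (kernel.ι (e ≫ f) ≫ e) (by simp)
  have w : k ≫ c = 0 := by ext; simp [k, c]
  refine ⟨k, c, w, ?_, ?_⟩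
  · rw [ShortComplex.exact_iff_exact_up_to_refinements]
    intro T x₂ hx₂
    dsimp at x₂ hx₂
    refine ⟨T, 𝟙 _, inferInstance, kernel.lift e (x₂ ≫ kernel.ι (e ≫ f)) ?_, ?_⟩
    · have := congrArg (· ≫ kernel.ι f) hx₂
      simpa [c] using this
    · dsimp; rw [← cancel_mono (kernel.ι (e ≫ f))]; simp [k]
  · rw [epi_iff_surjective_up_to_refinements]
    intro T y
    obtain ⟨T', π, hπ, x, hx⟩ :=
      (epi_iff_surjective_up_to_refinements e).1 inferInstance (y ≫ kernel.ι f)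
    refine ⟨T', π, hπ, kernel.lift (e ≫ f) x ?_, ?_⟩
    · rw [← Category.assoc, ← hx]; simp
    · rw [← cancel_mono (kernel.ι f)]; simp [c, hx]

end Abelian

section Site

open Groth.Agent.Lib.Seat41.TypeA Groth.Agent.Lib.Seat41.TypeAKer
open Groth.Agent.Lib.Helper23FreeOn

variable {C : Type u} [SmallCategory C] {J : GrothendieckTopology C}
variable (O : Sheaf J CommRingCat.{u})

/-- `frMap` is functorial. -/
lemma frMap_comp {X Y Z : C} (a : X ⟶ Y) (b : Y ⟶ Z) :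
    frMap O (a ≫ b) = frMap O a ≫ frMap O b := by
  apply (homEquiv O _ X).injective
  have h1 : homEquiv O _ X (frMap O (a ≫ b)) =
      (ModSite.freeOn O Z).val.restrictₛₗ (a ≫ b).op (homEquiv O _ Z (𝟙 _)) := by
    have := homEquiv_frMap_comp O (a ≫ b) (𝟙 (ModSite.freeOn O Z))
    rwa [Category.comp_id] at this
  have h2 : homEquiv O _ X (frMap O a ≫ frMap O b) =
      (ModSite.freeOn O Z).val.restrictₛₗ a.op (homEquiv O _ Y (frMap O b)) :=
    homEquiv_frMap_comp O a (frMap O b)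
  have h3 : homEquiv O _ Y (frMap O b) =
      (ModSite.freeOn O Z).val.restrictₛₗ b.op (homEquiv O _ Z (𝟙 _)) := by
    have := homEquiv_frMap_comp O b (𝟙 (ModSite.freeOn O Z))
    rwa [Category.comp_id] at this
  rw [h1, h2, h3, op_comp, restr_comp]

/-- Maps out of `j_{U!}O_U` glue along covering families. -/
theorem exists_glue [HasPullbacks C] {U : C} {ι : Type*} (Yc : ι → C) (g : ∀ k, Yc k ⟶ U)
    (hcov : Sieve.ofArrows Yc g ∈ J U) {M : ModSite.Mod O}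
    (φ : ∀ k, ModSite.freeOn O (Yc k) ⟶ M)
    (hφ : ∀ k l, frMap O (pullback.fst (g k) (g l)) ≫ φ k =
      frMap O (pullback.snd (g k) (g l)) ≫ φ l) :
    ∃ a : ModSite.freeOn O U ⟶ M, ∀ k, frMap O (g k) ≫ a = φ k := by
  have hsh : Presieve.IsSheaf J (M.val.presheaf ⋙ forget _) :=
    (isSheaf_iff_isSheaf_of_type J _).1
      ((Presheaf.isSheaf_iff_isSheaf_forget J M.val.presheaf (forget _)).1 M.isSheaf)
  have h1 : Presieve.IsSheafFor (M.val.presheaf ⋙ forget _) (Presieve.ofArrows Yc g) := by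
    rw [Presieve.isSheafFor_iff_generate]
    exact hsh _ hcov
  rw [Presieve.isSheafFor_arrows_iff_pullbacks] at h1
  have hcompat : Presieve.Arrows.PullbackCompatible (M.val.presheaf ⋙ forget _) g
      (fun k => homEquiv O M (Yc k) (φ k)) := by
    intro k l
    have := congrArg (homEquiv O M _) (hφ k l)
    rw [homEquiv_frMap_comp, homEquiv_frMap_comp] at this
    exact this
  obtain ⟨t, ht, -⟩ := h1 (fun k => homEquiv O M (Yc k) (φ k)) hcompat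
  obtain ⟨t', ht'⟩ : ∃ t' : M.val.obj (op U), ∀ k, M.val.restrictₛₗ (g k).op t' =
      homEquiv O M (Yc k) (φ k) := ⟨t, ht⟩
  refine ⟨(homEquiv O M U).symm t', fun k => ?_⟩
  apply (homEquiv O M (Yc k)).injective
  rw [homEquiv_frMap_comp, Equiv.apply_symm_apply]
  exact ht' k

section Covering

variable {ι : Type} (X : ι → C) (ni : ι → ℕ) (Y : ∀ i, Fin (ni i) → C)
  (g : ∀ i k, Y i k ⟶ X i) (hcov : ∀ i, Sieve.ofArrows (Y i) (g i) ∈ J (X i))
  (e : (∐ fun t : Σ i, Fin (ni i) => ModSite.freeOn O (Y t.1 t.2)) ⟶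
    ∐ fun i => ModSite.freeOn O (X i))
  (he : ∀ t, Sigma.ι (fun t : Σ i, Fin (ni i) => ModSite.freeOn O (Y t.1 t.2)) t ≫ e =
    frMap O (g t.1 t.2) ≫ Sigma.ι (fun i => ModSite.freeOn O (X i)) t.1)

include hcov he in
/-- The refinement map attached to covering families is an epimorphism. -/
theorem epi_of_covering : Epi e := by
  refine ⟨fun {M} a b hab => ?_⟩
  apply Sigma.hom_ext
  intro i
  refine hom_ext_of_covering O (Y i) (g i) (hcov i) _ _ (fun k => ?_)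
  have := Sigma.ι (fun t : Σ i, Fin (ni i) => ModSite.freeOn O (Y t.1 t.2)) ⟨i, k⟩ ≫= hab
  rw [← Category.assoc, ← Category.assoc, he ⟨i, k⟩] at this
  simpa only [Category.assoc] using this

include hcov he in
/-- Factorisation through the refinement map of maps compatible on the fibre products. -/
theorem exists_desc_of_covering [HasPullbacks C] {M : ModSite.Mod O}
    (k : (∐ fun t : Σ i, Fin (ni i) => ModSite.freeOn O (Y t.1 t.2)) ⟶ M)
    (hk : ∀ i (a b : Fin (ni i)),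
      frMap O (pullback.fst (g i a) (g i b)) ≫
        Sigma.ι (fun t : Σ i, Fin (ni i) => ModSite.freeOn O (Y t.1 t.2)) ⟨i, a⟩ ≫ k =
      frMap O (pullback.snd (g i a) (g i b)) ≫
        Sigma.ι (fun t : Σ i, Fin (ni i) => ModSite.freeOn O (Y t.1 t.2)) ⟨i, b⟩ ≫ k) :
    ∃ l : (∐ fun i => ModSite.freeOn O (X i)) ⟶ M, e ≫ l = k := by
  have h := fun i => exists_glue O (Y i) (g i) (hcov i)
    (fun a => Sigma.ι (fun t : Σ i, Fin (ni i) => ModSite.freeOn O (Y t.1 t.2)) ⟨i, a⟩ ≫ k)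
    (hk i)
  choose a ha using h
  refine ⟨Sigma.desc a, ?_⟩
  apply Sigma.hom_ext
  intro t
  rw [← Category.assoc, he t, Category.assoc, Sigma.ι_desc, ha t.1 t.2]

end Covering

section FinGen

variable (B : Set C)

/-- Quotients of finite free modules on members of `B`. -/
def IsFinGen (M : ModSite.Mod O) : Prop :=
  ∃ P : ModSite.Mod O, IsFinFree O B P ∧ ∃ p : P ⟶ M, Epi p

variable {O B}

lemma IsFinGen.of_epi {M M' : ModSite.Mod O} (h : IsFinGen O B M) (q : M ⟶ M') [Epi q] :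
    IsFinGen O B M' := by
  obtain ⟨P, hP, p, hp⟩ := h
  exact ⟨P, hP, p ≫ q, epi_comp p q⟩

lemma isFinGen_of_isFinFree {P : ModSite.Mod O} (h : IsFinFree O B P) : IsFinGen O B P :=
  ⟨P, h, 𝟙 P, inferInstance⟩

variable (hB₁ : ∀ X : C, ∃ (κ : Type u) (Y : κ → C) (g : ∀ k, Y k ⟶ X),
    Sieve.ofArrows Y g ∈ J X ∧ ∀ k, Y k ∈ B)

include hB₁ in
/-- Finite coproducts of `j_{Z!}O_Z` with `Z` quasi-compact are finitely generated. -/
theorem isFinGen_sigma_of_qc {ι : Type} [Finite ι] (Z : ι → C)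
    (hZ : ∀ t, CohCx.IsQcObject ((presheafToSheaf J (Type u)).obj (yoneda.obj (Z t)))) :
    IsFinGen O B (∐ fun t => ModSite.freeOn O (Z t)) := by
  have h := fun t => exists_finite_refinement B hB₁ (Z t) (hZ t) ⊤ (J.top_mem _)
  choose ni Y g hYB _ hcov using h
  obtain ⟨e, he⟩ : ∃ e : (∐ fun t : Σ i, Fin (ni i) => ModSite.freeOn O (Y t.1 t.2)) ⟶
      ∐ fun t => ModSite.freeOn O (Z t),
      ∀ t, Sigma.ι (fun t : Σ i, Fin (ni i) => ModSite.freeOn O (Y t.1 t.2)) t ≫ e =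
        frMap O (g t.1 t.2) ≫ Sigma.ι (fun t => ModSite.freeOn O (Z t)) t.1 :=
    ⟨Sigma.desc _, fun t => Sigma.ι_desc _ _⟩
  have := epi_of_covering O Z ni Y g hcov e he
  exact ⟨_, isFinFree_of_finite (fun t : Σ i, Fin (ni i) => Y t.1 t.2) (fun t => hYB t.1 t.2),
    e, this⟩

include hB₁ in
/-- The kernel of the refinement map attached to finite covering families with quasi-compact
fibre products is finitely generated. -/
theorem isFinGen_kernel_of_covering [HasPullbacks C] {ι : Type} [Finite ι] (X : ι → C)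
    (ni : ι → ℕ) (Y : ∀ i, Fin (ni i) → C)
    (g : ∀ i k, Y i k ⟶ X i) (hcov : ∀ i, Sieve.ofArrows (Y i) (g i) ∈ J (X i))
    (e : (∐ fun t : Σ i, Fin (ni i) => ModSite.freeOn O (Y t.1 t.2)) ⟶
      ∐ fun i => ModSite.freeOn O (X i))
    (he : ∀ t, Sigma.ι (fun t : Σ i, Fin (ni i) => ModSite.freeOn O (Y t.1 t.2)) t ≫ e =
      frMap O (g t.1 t.2) ≫ Sigma.ι (fun i => ModSite.freeOn O (X i)) t.1)
    (hZ : ∀ i (a b : Fin (ni i)), CohCx.IsQcObject
      ((presheafToSheaf J (Type u)).obj (yoneda.obj (pullback (g i a) (g i b))))) :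
    IsFinGen O B (kernel e) := by
  let Z : (Σ i : ι, Fin (ni i) × Fin (ni i)) → C := fun t => pullback (g t.1 t.2.1) (g t.1 t.2.2)
  have hZ' : ∀ t, CohCx.IsQcObject ((presheafToSheaf J (Type u)).obj (yoneda.obj (Z t))) :=
    fun t => hZ t.1 t.2.1 t.2.2
  obtain ⟨d, hd⟩ : ∃ d : (∐ fun t => ModSite.freeOn O (Z t)) ⟶
      ∐ fun t : Σ i, Fin (ni i) => ModSite.freeOn O (Y t.1 t.2),
      ∀ t, Sigma.ι (fun t => ModSite.freeOn O (Z t)) t ≫ d =
        frMap O (pullback.fst (g t.1 t.2.1) (g t.1 t.2.2)) ≫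
          Sigma.ι (fun t : Σ i, Fin (ni i) => ModSite.freeOn O (Y t.1 t.2)) ⟨t.1, t.2.1⟩ -
        frMap O (pullback.snd (g t.1 t.2.1) (g t.1 t.2.2)) ≫
          Sigma.ι (fun t : Σ i, Fin (ni i) => ModSite.freeOn O (Y t.1 t.2)) ⟨t.1, t.2.2⟩ :=
    ⟨Sigma.desc _, fun t => Sigma.ι_desc _ _⟩
  have hde : d ≫ e = 0 := by
    apply Sigma.hom_ext
    intro t
    rw [← Category.assoc, hd t, comp_zero, Preadditive.sub_comp, Category.assoc, Category.assoc,
      he ⟨t.1, t.2.1⟩, he ⟨t.1, t.2.2⟩, ← Category.assoc, ← Category.assoc, ← frMap_comp,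
      ← frMap_comp, pullback.condition, sub_self]
  have hepi : Epi e := epi_of_covering O X ni Y g hcov e he
  have hcolim : IsColimit (CokernelCofork.ofπ e hde) := by
    refine CokernelCofork.IsColimit.ofπ' e hde (fun {M} k hk => ?_)
    have hex : ∃ l : (∐ fun i => ModSite.freeOn O (X i)) ⟶ M, e ≫ l = k := by
      refine exists_desc_of_covering O X ni Y g hcov e he k (fun i a b => ?_)
      have := Sigma.ι (fun t => ModSite.freeOn O (Z t)) ⟨i, (a, b)⟩ ≫= hk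
      rw [← Category.assoc, hd ⟨i, (a, b)⟩, comp_zero, Preadditive.sub_comp, sub_eq_zero,
        Category.assoc, Category.assoc] at this
      exact this
    exact ⟨hex.choose, hex.choose_spec⟩
  have hexact : (ShortComplex.mk d e hde).Exact := ShortComplex.exact_of_g_is_cokernel _ hcolim
  have hepi' : Epi (kernel.lift e d hde) := hexact.epi_kernelLift
  exact (isFinGen_sigma_of_qc hB₁ Z hZ').of_epi (kernel.lift e d hde)

end FinGen

section Main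

variable {O} {B : Set C}
  (hB₁ : ∀ X : C, ∃ (κ : Type u) (Y : κ → C) (g : ∀ k, Y k ⟶ X),
    Sieve.ofArrows Y g ∈ J X ∧ ∀ k, Y k ∈ B)
  (hB₂ : ∀ U ∈ B, CohCx.IsQcObject ((presheafToSheaf J (Type u)).obj (yoneda.obj U)))
  [HasPullbacks C]
  (hB₃ : ∀ (U U₁ U₂ : C) (f₁ : U₁ ⟶ U) (f₂ : U₂ ⟶ U), U ∈ B → U₁ ∈ B → U₂ ∈ B →
    CohCx.IsQcObject ((presheafToSheaf J (Type u)).obj (yoneda.obj (pullback f₁ f₂))))

include hB₁ hB₂ hB₃ in
/-- Lifting a map from a finite free module through an epimorphism after refinement; the kernel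
of the refinement map is finitely generated. -/
theorem exists_refinement_lift {M₂ M₃ : ModSite.Mod O} (q : M₂ ⟶ M₃) [Epi q] {n : ℕ}
    (U : Fin n → C) (hU : ∀ i, U i ∈ B) (γ : (∐ fun i => ModSite.freeOn O (U i)) ⟶ M₃) :
    ∃ (P' : ModSite.Mod O) (e : P' ⟶ ∐ fun i => ModSite.freeOn O (U i)) (l : P' ⟶ M₂),
      IsFinFree O B P' ∧ Epi e ∧ l ≫ q = e ≫ γ ∧ IsFinGen O B (kernel e) := by
  have h1 : ∀ i : Fin n, ∃ (ni : ℕ) (Y : Fin ni → C) (g : ∀ k, Y k ⟶ U i), (∀ k, Y k ∈ B) ∧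
      Sieve.ofArrows Y g ∈ J (U i) ∧ ∀ k, ∃ s' : ModSite.freeOn O (Y k) ⟶ M₂,
        s' ≫ q = frMap O (g k) ≫ Sigma.ι (fun i => ModSite.freeOn O (U i)) i ≫ γ := by
    intro i
    obtain ⟨S, hS, hlift⟩ := exists_local_lift O q (U i)
      (Sigma.ι (fun i => ModSite.freeOn O (U i)) i ≫ γ)
    obtain ⟨ni, Y, g, hYB, hgS, hcov⟩ :=
      exists_finite_refinement B hB₁ (U i) (hB₂ _ (hU i)) S hS
    exact ⟨ni, Y, g, hYB, hcov, fun k => hlift (g k) (hgS k)⟩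
  choose ni Y g hYB hcov s' hs' using h1
  obtain ⟨e, he⟩ : ∃ e : (∐ fun t : Σ i, Fin (ni i) => ModSite.freeOn O (Y t.1 t.2)) ⟶
      ∐ fun i => ModSite.freeOn O (U i),
      ∀ t, Sigma.ι (fun t : Σ i, Fin (ni i) => ModSite.freeOn O (Y t.1 t.2)) t ≫ e =
        frMap O (g t.1 t.2) ≫ Sigma.ι (fun i => ModSite.freeOn O (U i)) t.1 :=
    ⟨Sigma.desc _, fun t => Sigma.ι_desc _ _⟩
  obtain ⟨l, hl⟩ : ∃ l : (∐ fun t : Σ i, Fin (ni i) => ModSite.freeOn O (Y t.1 t.2)) ⟶ M₂,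
      ∀ t, Sigma.ι (fun t : Σ i, Fin (ni i) => ModSite.freeOn O (Y t.1 t.2)) t ≫ l =
        s' t.1 t.2 :=
    ⟨Sigma.desc _, fun t => Sigma.ι_desc _ _⟩
  refine ⟨_, e, l,
    isFinFree_of_finite (fun t : Σ i, Fin (ni i) => Y t.1 t.2) (fun t => hYB t.1 t.2),
    epi_of_covering O U ni Y g hcov e he, ?_,
    isFinGen_kernel_of_covering hB₁ U ni Y g hcov e he
      (fun i a b => hB₃ _ _ _ _ _ (hU i) (hYB i a) (hYB i b))⟩
  apply Sigma.hom_ext
  intro t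
  rw [← Category.assoc, hl t, hs' t.1 t.2, ← Category.assoc, ← he t, Category.assoc]

include hB₁ hB₂ hB₃ in
/-- Finitely generated modules are closed under extensions. -/
theorem isFinGen_of_exact {S : ShortComplex (ModSite.Mod O)} (hS : S.Exact) [Epi S.g]
    (h₁ : IsFinGen O B S.X₁) (h₃ : IsFinGen O B S.X₃) : IsFinGen O B S.X₂ := by
  obtain ⟨P₁, hP₁, p₁, hp₁⟩ := h₁
  obtain ⟨P₃, ⟨n, U, hU, ⟨eP₃⟩⟩, p₃, hp₃⟩ := h₃
  obtain ⟨P', e, l, hP', he, hl, -⟩ :=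
    exists_refinement_lift hB₁ hB₂ hB₃ S.g U hU (eP₃.inv ≫ p₃)
  have : Epi (l ≫ S.g) := by rw [hl]; infer_instance
  exact ⟨P₁ ⊞ P', hP₁.biprod hP', biprod.desc (p₁ ≫ S.f) l, epi_biprod_desc hS p₁ l⟩

omit [HasPullbacks C] in
/-- A quotient of a finite free module by a finitely generated submodule is of type A. -/
theorem isTypeA_of_epi {P F : ModSite.Mod O} (p : P ⟶ F) [Epi p] (hP : IsFinFree O B P)
    (hK : IsFinGen O B (kernel p)) : IsTypeA O B F := by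
  obtain ⟨R, ⟨m, V, hV, ⟨eR⟩⟩, r, hr⟩ := hK
  obtain ⟨n, U, hU, ⟨eP⟩⟩ := hP
  refine ⟨m, n, V, U, eR.inv ≫ (r ≫ kernel.ι p) ≫ eP.hom, hV, hU, ⟨?_⟩⟩
  have i1 : cokernel (eR.inv ≫ (r ≫ kernel.ι p) ≫ eP.hom) ≅ cokernel (r ≫ kernel.ι p) :=
    cokernel.mapIso _ _ eR.symm eP.symm (by simp)
  have i2 : cokernel (r ≫ kernel.ι p) ≅ cokernel (kernel.ι p) := cokernelEpiComp r (kernel.ι p)
  have i3 : cokernel (kernel.ι p) ≅ F :=
    IsColimit.coconePointUniqueUpToIso (colimit.isColimit _)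
      (Abelian.epiIsCokernelOfKernel (limit.cone _) (limit.isLimit (parallelPair p 0)))
  exact (i1 ≪≫ i2 ≪≫ i3).symm

omit [HasPullbacks C] in
/-- The kernel of the presentation of a module of type A is finitely generated. -/
theorem isFinGen_kernel_presentation {m n : ℕ} (V : Fin m → C) (U : Fin n → C)
    (ψ : (∐ fun j => ModSite.freeOn O (V j)) ⟶ ∐ fun i => ModSite.freeOn O (U i))
    (hV : ∀ j, V j ∈ B) {F : ModSite.Mod O} (eF : F ≅ cokernel ψ) :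
    IsFinGen O B (kernel (cokernel.π ψ ≫ eF.inv)) := by
  have h1 : IsFinGen O B (kernel (cokernel.π ψ)) :=
    (isFinGen_of_isFinFree (isFinFree_fin V hV)).of_epi (Abelian.factorThruImage ψ)
  exact h1.of_epi (kernelCompMono (cokernel.π ψ) eF.inv).inv

include hB₁ hB₂ hB₃ in
/-- Modules of type A are closed under extensions. -/
theorem isTypeA_of_shortExact {S : ShortComplex (ModSite.Mod O)} (hS : S.ShortExact)
    (h₁ : IsTypeA O B S.X₁) (h₃ : IsTypeA O B S.X₃) : IsTypeA O B S.X₂ := by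
  obtain ⟨m₁, n₁, V₁, U₁, ψ₁, hV₁, hU₁, ⟨e₁⟩⟩ := h₁
  obtain ⟨m₃, n₃, V₃, U₃, ψ₃, hV₃, hU₃, ⟨e₃⟩⟩ := h₃
  have := hS.mono_f
  have := hS.epi_g
  obtain ⟨P', e, l, hP', he, hl, hKe⟩ :=
    exists_refinement_lift hB₁ hB₂ hB₃ S.g U₃ hU₃ (cokernel.π ψ₃ ≫ e₃.inv)
  have : Epi (l ≫ S.g) := by rw [hl]; infer_instance
  have hπ : Epi (biprod.desc ((cokernel.π ψ₁ ≫ e₁.inv) ≫ S.f) l) :=
    epi_biprod_desc hS.exact (cokernel.π ψ₁ ≫ e₁.inv) l
  refine isTypeA_of_epi (biprod.desc ((cokernel.π ψ₁ ≫ e₁.inv) ≫ S.f) l)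
    ((isFinFree_fin U₁ hU₁).biprod hP') ?_
  obtain ⟨k₁, k₃, w, hex, hk₃⟩ :=
    exists_kernel_biprod_desc_seq hS.exact (cokernel.π ψ₁ ≫ e₁.inv) l
  have hK₁ : IsFinGen O B (kernel (cokernel.π ψ₁ ≫ e₁.inv)) :=
    isFinGen_kernel_presentation V₁ U₁ ψ₁ hV₁ e₁
  have hK₃ : IsFinGen O B (kernel (l ≫ S.g)) := by
    obtain ⟨k, c, w', hex', hc⟩ := exists_kernel_comp_seq e (cokernel.π ψ₃ ≫ e₃.inv)
    have h : IsFinGen O B (kernel (e ≫ cokernel.π ψ₃ ≫ e₃.inv)) :=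
      isFinGen_of_exact hB₁ hB₂ hB₃ (S := ShortComplex.mk k c w') hex' hKe
        (isFinGen_kernel_presentation V₃ U₃ ψ₃ hV₃ e₃)
    exact h.of_epi (kernelIsoOfEq hl.symm).hom
  exact isFinGen_of_exact hB₁ hB₂ hB₃ (S := ShortComplex.mk k₁ k₃ w) hex hK₁ hK₃

end Main

end Site

end Groth.Agent.Lib.Seat41.TypeAExt
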