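import Mathlib

set_option autoImplicit false
universe u

open CategoryTheory TopologicalSpace Opposite AlgebraicGeometry

namespace Groth.Agent.Lib.Seat42.AffBasisSheaf

variable {X : Scheme.{u}} (F : (X.affineOpens)ᵒᵖ ⥤ Type u)

/-- Restriction map of a presheaf on the poset of affine opens. -/
def res {U V : X.affineOpens} (h : V ≤ U) (s : F.obj (op U)) : F.obj (op V) :=
  F.map (homOfLE h).op s

theorem res_res {U V W : X.affineOpens} (h₁ : V ≤ U) (h₂ : W ≤ V) (s : F.obj (op U)) :
    res F h₂ (res F h₁ s) = res F (h₂.trans h₁) s := by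
  unfold res
  rw [← Functor.map_comp_apply]
  rfl

theorem res_self {U : X.affineOpens} (h : U ≤ U) (s : F.obj (op U)) : res F h s = s := by
  unfold res
  have : (homOfLE h).op = 𝟙 (op U) := rfl
  rw [this, Functor.map_id_apply]

theorem res_congr_of_le {U V W Z : X.affineOpens} (hV : V ≤ U) (hW : W ≤ U) (hZV : Z ≤ V)
    (hZW : Z ≤ W) {s t : F.obj (op U)} (h : res F hV s = res F hV t) :
    res F hZW (res F hW s) = res F hZW (res F hW t) := by
  rw [res_res, res_res, ← res_res F hV hZV, ← res_res F hV hZV, h]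

/-- Condition (b) of the statement. -/
def PairGlue : Prop :=
  ∀ (U V W VW : X.affineOpens) (f g : Γ(X, (U : X.Opens))),
    (V : X.Opens) = X.basicOpen f → (W : X.Opens) = X.basicOpen g →
    (VW : X.Opens) = X.basicOpen (f * g) → (U : X.Opens) = (V : X.Opens) ⊔ (W : X.Opens) →
    ∀ (hV : V ≤ U) (hW : W ≤ U) (h1 : VW ≤ V) (h2 : VW ≤ W),
    Function.Injective
      (fun s : F.obj (op U) => (F.map (homOfLE hV).op s, F.map (homOfLE hW).op s)) ∧
    Set.range (fun s : F.obj (op U) => (F.map (homOfLE hV).op s, F.map (homOfLE hW).op s)) =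
      {p | F.map (homOfLE h1).op p.1 = F.map (homOfLE h2).op p.2}

variable {F}

theorem sep2 (hb : PairGlue F) {U V W : X.affineOpens} (f g : Γ(X, (U : X.Opens)))
    (hVf : (V : X.Opens) = X.basicOpen f) (hWg : (W : X.Opens) = X.basicOpen g)
    (hcov : (U : X.Opens) ≤ (V : X.Opens) ⊔ (W : X.Opens)) (hV : V ≤ U) (hW : W ≤ U)
    (s t : F.obj (op U)) (h1 : res F hV s = res F hV t) (h2 : res F hW s = res F hW t) :
    s = t := by
  have hVW1 : X.affineBasicOpen (f * g) ≤ V := by
    show X.basicOpen (f * g) ≤ (V : X.Opens)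
    rw [X.basicOpen_mul, hVf]; exact inf_le_left
  have hVW2 : X.affineBasicOpen (f * g) ≤ W := by
    show X.basicOpen (f * g) ≤ (W : X.Opens)
    rw [X.basicOpen_mul, hWg]; exact inf_le_right
  exact (hb U V W (X.affineBasicOpen (f * g)) f g hVf hWg rfl
    (le_antisymm hcov (sup_le hV hW)) hV hW hVW1 hVW2).1 (Prod.ext h1 h2)

theorem glue2 (hb : PairGlue F) {U V W VW : X.affineOpens} (f g : Γ(X, (U : X.Opens)))
    (hVf : (V : X.Opens) = X.basicOpen f) (hWg : (W : X.Opens) = X.basicOpen g)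
    (hVW : (VW : X.Opens) = X.basicOpen (f * g))
    (hcov : (U : X.Opens) ≤ (V : X.Opens) ⊔ (W : X.Opens)) (hV : V ≤ U) (hW : W ≤ U)
    (h1 : VW ≤ V) (h2 : VW ≤ W)
    (a : F.obj (op V)) (b : F.obj (op W)) (hab : res F h1 a = res F h2 b) :
    ∃ s : F.obj (op U), res F hV s = a ∧ res F hW s = b := by
  have := (hb U V W VW f g hVf hWg hVW (le_antisymm hcov (sup_le hV hW)) hV hW h1 h2).2
  have hmem : (a, b) ∈ {p : F.obj (op V) × F.obj (op W) |
      F.map (homOfLE h1).op p.1 = F.map (homOfLE h2).op p.2} := hab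
  rw [← this] at hmem
  obtain ⟨s, hs⟩ := hmem
  exact ⟨s, congrArg Prod.fst hs, congrArg Prod.snd hs⟩

/-- Basic open of the restriction to a smaller affine open. -/
noncomputable def rbo {U W : X.affineOpens} (h : W ≤ U) (f : Γ(X, (U : X.Opens))) :
    X.affineOpens :=
  X.affineBasicOpen (U := W) (X.presheaf.map (homOfLE h).op f)

theorem rbo_coe {U W : X.affineOpens} (h : W ≤ U) (f : Γ(X, (U : X.Opens))) :
    (rbo h f : X.Opens) = (W : X.Opens) ⊓ X.basicOpen f :=
  X.basicOpen_res _ _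

theorem rbo_le_left {U W : X.affineOpens} (h : W ≤ U) (f : Γ(X, (U : X.Opens))) :
    rbo h f ≤ W :=
  X.affineBasicOpen_le _

theorem rbo_le_right {U W V : X.affineOpens} (h : W ≤ U) (f : Γ(X, (U : X.Opens)))
    (hV : (V : X.Opens) = X.basicOpen f) : rbo h f ≤ V := by
  show (rbo h f : X.Opens) ≤ (V : X.Opens)
  rw [rbo_coe, hV]; exact inf_le_right

theorem rbo_le_of_le {U W V : X.affineOpens} (h : W ≤ U) (f : Γ(X, (U : X.Opens)))
    (hV : (W : X.Opens) ⊓ X.basicOpen f ≤ (V : X.Opens)) : rbo h f ≤ V := by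
  show (rbo h f : X.Opens) ≤ (V : X.Opens)
  rw [rbo_coe]; exact hV

theorem basicOpen_sum_le {U : X.Opens} {n : ℕ} (c f : Fin n → Γ(X, U)) :
    X.basicOpen (∑ k, c k * f k) ≤ ⨆ k, X.basicOpen (f k) := by
  induction n with
  | zero =>
    simp
  | succ n ih =>
    rw [Fin.sum_univ_succ]
    refine (X.basicOpen_add_le _ _).trans (sup_le ?_ ?_)
    · rw [X.basicOpen_mul]
      exact inf_le_right.trans (le_iSup (fun k => X.basicOpen (f k)) 0)
    · refine (ih (fun k => c k.succ) (fun k => f k.succ)).trans (iSup_le fun k => ?_)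
      exact le_iSup (fun k => X.basicOpen (f k)) k.succ

variable (F) in
/-- Finite standard cover property. -/
def FinProp (n : ℕ) : Prop :=
  ∀ (U : X.affineOpens) (V : Fin n → X.affineOpens) (hV : ∀ k, V k ≤ U)
    (_ : ∀ k, ∃ f : Γ(X, (U : X.Opens)), (V k : X.Opens) = X.basicOpen f)
    (_ : (U : X.Opens) ≤ ⨆ k, (V k : X.Opens)),
    (∀ s t : F.obj (op U), (∀ k, res F (hV k) s = res F (hV k) t) → s = t) ∧
    (∀ a : ∀ k, F.obj (op (V k)),
      (∀ k l (W : X.affineOpens) (h1 : W ≤ V k) (h2 : W ≤ V l),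
        res F h1 (a k) = res F h2 (a l)) →
      ∃ s : F.obj (op U), ∀ k, res F (hV k) s = a k)

theorem finProp_zero (E : X.affineOpens) (hE : (E : X.Opens) = ⊥)
    (hne : Nonempty (F.obj (op E))) (hss : Subsingleton (F.obj (op E))) : FinProp F 0 := by
  intro U V hV _ hcov
  have hU : U = E := by
    apply Subtype.ext
    rw [hE]
    refine le_antisymm (hcov.trans ?_) bot_le
    exact iSup_le fun k => k.elim0
  subst hU
  exact ⟨fun s t _ => Subsingleton.elim s t, fun a _ => ⟨Classical.choice hne, fun k => k.elim0⟩⟩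

theorem FinProp.restrict {n : ℕ} (ih : FinProp F n) {U W : X.affineOpens} (hWU : W ≤ U)
    (f : Fin n → Γ(X, (U : X.Opens))) (hcov : (W : X.Opens) ≤ ⨆ k, X.basicOpen (f k)) :
    (∀ s t : F.obj (op W), (∀ k, res F (rbo_le_left hWU (f k)) s =
      res F (rbo_le_left hWU (f k)) t) → s = t) ∧
    (∀ a : ∀ k, F.obj (op (rbo hWU (f k))),
      (∀ k l (Z : X.affineOpens) (h1 : Z ≤ rbo hWU (f k)) (h2 : Z ≤ rbo hWU (f l)),
        res F h1 (a k) = res F h2 (a l)) →
      ∃ s : F.obj (op W), ∀ k, res F (rbo_le_left hWU (f k)) s = a k) := by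
  refine ih W (fun k => rbo hWU (f k)) (fun k => rbo_le_left hWU (f k))
    (fun k => ⟨_, rfl⟩) ?_
  simp only [rbo_coe]
  rw [← inf_iSup_eq]
  exact le_inf le_rfl hcov

theorem finProp_succ (hb : PairGlue F) (n : ℕ) (ih : FinProp F n) : FinProp F (n + 1) := by
  intro U V hV hf hcov
  choose f hf using hf
  have hspan : Ideal.span (Set.range f) = ⊤ := by
    rw [← U.2.self_le_iSup_basicOpen_iff, iSup_range']
    simpa only [hf] using hcov
  obtain ⟨c, hc⟩ := (Ideal.mem_span_range_iff_exists_fun).mp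
    (show (1 : Γ(X, (U : X.Opens))) ∈ Ideal.span (Set.range f) by rw [hspan]; trivial)
  rw [Fin.sum_univ_succ] at hc
  set g : Γ(X, (U : X.Opens)) := ∑ k : Fin n, c k.succ * f k.succ with hg
  -- the two opens `D(f 0)` and `D(g)` cover `U`
  have hcovU : (U : X.Opens) ≤ (V 0 : X.Opens) ⊔ X.basicOpen g := by
    have h1 : X.basicOpen (1 : Γ(X, (U : X.Opens))) = U := X.basicOpen_one
    rw [← hc] at h1
    refine (le_of_eq h1.symm).trans ?_
    refine (X.basicOpen_add_le _ _).trans (sup_le_sup_right ?_ _)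
    rw [X.basicOpen_mul, hf 0]
    exact inf_le_right
  have hgle : X.basicOpen g ≤ ⨆ k : Fin n, X.basicOpen (f k.succ) :=
    basicOpen_sum_le (fun k => c k.succ) (fun k => f k.succ)
  -- the affine opens `D(g)` and `D(f 0 * g)`
  let Wg : X.affineOpens := X.affineBasicOpen g
  have hWgU : Wg ≤ U := X.affineBasicOpen_le g
  have hWgc : (Wg : X.Opens) = X.basicOpen g := rfl
  let W0 : X.affineOpens := X.affineBasicOpen (f 0 * g)
  have hW0c : (W0 : X.Opens) = X.basicOpen (f 0 * g) := rfl
  have hW0V : W0 ≤ V 0 := by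
    show (W0 : X.Opens) ≤ (V 0 : X.Opens)
    rw [hW0c, X.basicOpen_mul, hf 0]; exact inf_le_left
  have hW0W : W0 ≤ Wg := by
    show (W0 : X.Opens) ≤ (Wg : X.Opens)
    rw [hW0c, X.basicOpen_mul, hWgc]; exact inf_le_right
  have hW0U : W0 ≤ U := hW0W.trans hWgU
  obtain ⟨sepg, glueg⟩ := ih.restrict hWgU (fun k => f k.succ) hgle
  obtain ⟨sep0, -⟩ := ih.restrict hW0U (fun k => f k.succ)
    ((show (W0 : X.Opens) ≤ X.basicOpen g from hW0W).trans hgle)
  have hrV : ∀ k : Fin n, rbo hWgU (f k.succ) ≤ V k.succ := fun k =>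
    rbo_le_right hWgU (f k.succ) (hf k.succ)
  refine ⟨?_, ?_⟩
  · -- separatedness
    intro s t hst
    refine sep2 hb (f 0) g (hf 0) hWgc hcovU (hV 0) hWgU s t (hst 0) ?_
    refine sepg _ _ fun k => ?_
    exact res_congr_of_le F (hV k.succ) hWgU (hrV k) _ (hst k.succ)
  · -- gluing
    intro a ha
    obtain ⟨b, hb'⟩ := glueg (fun k => res F (hrV k) (a k.succ)) (by
      intro k l Z h1 h2
      rw [res_res, res_res]
      exact ha k.succ l.succ Z _ _)
    have hab : res F hW0V (a 0) = res F hW0W b := by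
      refine sep0 _ _ fun k => ?_
      have hR1 : rbo hW0U (f k.succ) ≤ rbo hWgU (f k.succ) := by
        refine rbo_le_of_le _ _ ?_
        rw [rbo_coe]
        exact inf_le_inf_right _ hW0W
      rw [res_res, res_res, ← res_res F (rbo_le_left hWgU (f k.succ)) hR1, hb' k, res_res]
      exact ha 0 k.succ _ _ _
    obtain ⟨s, hs0, hsg⟩ := glue2 hb (f 0) g (hf 0) hWgc hW0c hcovU (hV 0) hWgU hW0V hW0W
      (a 0) b hab
    refine ⟨s, ?_⟩
    refine Fin.cases hs0 fun j => ?_
    -- check on `V j.succ` using the cover by `D(f 0)` and `D(g)`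
    have hc1 : (V j.succ : X.Opens) ≤
        (rbo (hV j.succ) (f 0) : X.Opens) ⊔ (rbo (hV j.succ) g : X.Opens) := by
      rw [rbo_coe, rbo_coe, ← inf_sup_left, ← hf 0]
      exact le_inf le_rfl ((show (V j.succ : X.Opens) ≤ U from hV j.succ).trans hcovU)
    refine sep2 hb (X.presheaf.map (homOfLE (hV j.succ)).op (f 0))
      (X.presheaf.map (homOfLE (hV j.succ)).op g) (V := rbo (hV j.succ) (f 0))
      (W := rbo (hV j.succ) g) rfl rfl hc1 (rbo_le_left _ _) (rbo_le_left _ _) _ _ ?_ ?_
    · have h10 : rbo (hV j.succ) (f 0) ≤ V 0 := rbo_le_right _ _ (hf 0)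
      rw [res_res, ← res_res F (hV 0) h10, hs0]
      exact ha 0 j.succ _ _ _
    · have h1g : rbo (hV j.succ) g ≤ Wg := rbo_le_right _ _ hWgc
      have h1r : rbo (hV j.succ) g ≤ rbo hWgU (f j.succ) := by
        refine rbo_le_of_le _ _ ?_
        rw [rbo_coe, hf j.succ, hWgc]
        exact le_of_eq (inf_comm _ _)
      rw [res_res, ← res_res F hWgU h1g, hsg,
        ← res_res F (rbo_le_left hWgU (f j.succ)) h1r, hb' j, res_res]

theorem finProp (hb : PairGlue F) (E : X.affineOpens) (hE : (E : X.Opens) = ⊥)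
    (hne : Nonempty (F.obj (op E))) (hss : Subsingleton (F.obj (op E))) (n : ℕ) :
    FinProp F n := by
  induction n with
  | zero => exact finProp_zero E hE hne hss
  | succ n ih => exact finProp_succ hb n ih

theorem isSheafFor_of_finProp (hP : ∀ n, FinProp F n) (U : X.affineOpens) (S : Sieve U)
    (hS : ∀ x ∈ (U : X.Opens), ∃ (Z : X.affineOpens) (g : Z ⟶ U),
      S.arrows g ∧ x ∈ (Z : X.Opens)) :
    Presieve.IsSheafFor F (S : Presieve U) := by
  intro x hx
  -- the set of sections whose basic open lies in the sieve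
  let T : Set Γ(X, (U : X.Opens)) := {f | S.arrows (homOfLE (X.affineBasicOpen_le f))}
  have hT : Ideal.span T = ⊤ := by
    rw [← U.2.self_le_iSup_basicOpen_iff]
    intro p hp
    obtain ⟨Z, g, hg, hpZ⟩ := hS p hp
    obtain ⟨f, hfZ, hpf⟩ := U.2.exists_basicOpen_le (V := (Z : X.Opens)) ⟨p, hpZ⟩ hp
    have hfT : f ∈ T := by
      have hle : X.affineBasicOpen f ≤ Z := hfZ
      have := S.downward_closed hg (homOfLE hle)
      have heq : homOfLE hle ≫ g = homOfLE (X.affineBasicOpen_le f) := Subsingleton.elim _ _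
      rwa [heq] at this
    exact Opens.mem_iSup.mpr ⟨⟨f, hfT⟩, hpf⟩
  obtain ⟨T', hT'T, hT'⟩ := (Ideal.span_eq_top_iff_finite T).mp hT
  let n := T'.card
  let e := T'.equivFin
  let f : Fin n → Γ(X, (U : X.Opens)) := fun k => ((e.symm k : T') : Γ(X, (U : X.Opens)))
  have hrange : Set.range f = (T' : Set Γ(X, (U : X.Opens))) := by
    ext y
    constructor
    · rintro ⟨k, rfl⟩
      exact (e.symm k).2
    · intro hy
      exact ⟨e ⟨y, hy⟩, by simp [f]⟩
  have hcov : (U : X.Opens) ≤ ⨆ k, X.basicOpen (f k) := by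
    have := (U.2.self_le_iSup_basicOpen_iff (s := Set.range f)).mpr (by rw [hrange]; exact hT')
    rwa [iSup_range'] at this
  let V : Fin n → X.affineOpens := fun k => X.affineBasicOpen (f k)
  have hV : ∀ k, V k ≤ U := fun k => X.affineBasicOpen_le (f k)
  have hSk : ∀ k, S.arrows (homOfLE (hV k)) := fun k => hT'T (e.symm k).2
  obtain ⟨sep, glue⟩ := hP n U V hV (fun k => ⟨f k, rfl⟩) hcov
  obtain ⟨s, hs⟩ := glue (fun k => x (homOfLE (hV k)) (hSk k)) (by
    intro k l W h1 h2
    exact hx (homOfLE h1) (homOfLE h2) (hSk k) (hSk l) (Subsingleton.elim _ _))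
  have hsA : x.IsAmalgamation s := by
    intro Y g hg
    have hYU : Y ≤ U := leOfHom g
    obtain rfl : g = homOfLE hYU := Subsingleton.elim _ _
    refine ((hP n).restrict hYU f ((show (Y : X.Opens) ≤ U from hYU).trans hcov)).1 _ _
      fun k => ?_
    have hrV : rbo hYU (f k) ≤ V k := rbo_le_right hYU (f k) rfl
    have h1 : res F (rbo_le_left hYU (f k)) (F.map (homOfLE hYU).op s) =
        res F hrV (res F (hV k) s) := by
      rw [res_res]
      exact res_res F hYU (rbo_le_left hYU (f k)) s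
    rw [h1, hs k]
    exact hx (homOfLE hrV) (homOfLE (rbo_le_left hYU (f k))) (hSk k) hg (Subsingleton.elim _ _)
  refine ⟨s, hsA, fun t ht => ?_⟩
  refine sep t s fun k => ?_
  rw [hs k]
  exact ht (homOfLE (hV k)) (hSk k)

variable (X) in
/-- The inclusion of the poset of affine opens into the poset of opens. -/
abbrev iota : X.affineOpens ⥤ X.Opens :=
  Monotone.functor (f := fun U : X.affineOpens => (U : X.Opens)) (fun _ _ h => h)

instance : (iota X).Full := ⟨fun f => ⟨homOfLE (leOfHom f), rfl⟩⟩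

instance : (iota X).Faithful := ⟨fun _ => Subsingleton.elim _ _⟩

instance : (iota X).IsCoverDense (Opens.grothendieckTopology X) := by
  refine (TopCat.Opens.coverDense_iff_isBasis (iota X)).2 ?_
  have : Set.range (iota X).obj = X.affineOpens := Subtype.range_coe
  rw [this]
  exact X.isBasis_affineOpens

theorem isSheaf_of_pairGlue (hb : PairGlue F) (E : X.affineOpens) (hE : (E : X.Opens) = ⊥)
    (hne : Nonempty (F.obj (op E))) (hss : Subsingleton (F.obj (op E))) :
    Presheaf.IsSheaf ((iota X).inducedTopology (Opens.grothendieckTopology X)) F := by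
  rw [isSheaf_iff_isSheaf_of_type]
  intro U S hS
  rw [Functor.mem_inducedTopology_iff_of_isCoverDense] at hS
  apply isSheafFor_of_finProp (finProp hb E hE hne hss)
  intro x hx
  obtain ⟨V', f, ⟨Z, g, h, hg, rfl⟩, hxV'⟩ := hS x hx
  exact ⟨Z, g, hg, h.le hxV'⟩

theorem exists_sheaf_of_pairGlue (hb : PairGlue F) (E : X.affineOpens)
    (hE : (E : X.Opens) = ⊥)
    (hne : Nonempty (F.obj (op E))) (hss : Subsingleton (F.obj (op E))) :
    ∃ G : TopCat.Sheaf (Type u) X.carrier, Nonempty ((iota X).op ⋙ G.1 ≅ F) := by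
  let J := (iota X).inducedTopology (Opens.grothendieckTopology X)
  let e := (iota X).sheafInducedTopologyEquivOfIsCoverDense (Opens.grothendieckTopology X)
    (Type u)
  let Fs : Sheaf J (Type u) := ⟨F, isSheaf_of_pairGlue hb E hE hne hss⟩
  refine ⟨e.functor.obj Fs, ⟨?_⟩⟩
  exact ((sheafToPresheaf J (Type u)).mapIso (e.unitIso.app Fs)).symm

section forward

theorem glue_pair {T : TopCat.{u}} (G : TopCat.Sheaf (Type u) T) {U V W VW : Opens T}
    (hV : V ≤ U) (hW : W ≤ U) (h1 : VW ≤ V) (h2 : VW ≤ W) (hcov : U ≤ V ⊔ W)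
    (hVW : V ⊓ W ≤ VW)
    (a : G.1.obj (op V)) (b : G.1.obj (op W))
    (hab : G.1.map (homOfLE h1).op a = G.1.map (homOfLE h2).op b) :
    ∃ s : G.1.obj (op U), G.1.map (homOfLE hV).op s = a ∧ G.1.map (homOfLE hW).op s = b := by
  let Uf : Bool → Opens T := fun i => cond i V W
  let sf : ∀ i, G.1.obj (op (Uf i)) := fun i =>
    match i with
    | true => a
    | false => b
  have hcomp : TopCat.Presheaf.IsCompatible G.1 Uf sf := by
    intro i j
    cases i <;> cases j
    · exact congrArg (fun h => G.1.map (Quiver.Hom.op h) b) (Subsingleton.elim _ _)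
    · have e1 : Opens.infLELeft W V = homOfLE (by rw [inf_comm]; exact hVW) ≫ homOfLE h2 :=
        Subsingleton.elim _ _
      have e2 : Opens.infLERight W V = homOfLE (by rw [inf_comm]; exact hVW) ≫ homOfLE h1 :=
        Subsingleton.elim _ _
      show G.1.map (Opens.infLELeft W V).op b = G.1.map (Opens.infLERight W V).op a
      rw [e1, e2, op_comp, op_comp, Functor.map_comp_apply, Functor.map_comp_apply, hab]
    · have e1 : Opens.infLELeft V W = homOfLE hVW ≫ homOfLE h1 := Subsingleton.elim _ _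
      have e2 : Opens.infLERight V W = homOfLE hVW ≫ homOfLE h2 := Subsingleton.elim _ _
      show G.1.map (Opens.infLELeft V W).op a = G.1.map (Opens.infLERight V W).op b
      rw [e1, e2, op_comp, op_comp, Functor.map_comp_apply, Functor.map_comp_apply, hab]
    · exact congrArg (fun h => G.1.map (Quiver.Hom.op h) a) (Subsingleton.elim _ _)
  obtain ⟨s, hs, -⟩ := G.existsUnique_gluing' Uf U
    (fun i => match i with
      | true => homOfLE hV
      | false => homOfLE hW)
    (hcov.trans (sup_le (le_iSup Uf true) (le_iSup Uf false))) sf hcomp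
  exact ⟨s, hs true, hs false⟩

theorem singleton_of_iso (G : TopCat.Sheaf (Type u) X.carrier) (φ : (iota X).op ⋙ G.1 ≅ F)
    (E : X.affineOpens) (hE : (E : X.Opens) = ⊥) :
    Nonempty (F.obj (op E)) ∧ Subsingleton (F.obj (op E)) := by
  have hT : Limits.IsTerminal (G.1.obj (op (E : X.Opens))) := G.isTerminalOfEqEmpty hE
  have hU : Unique (G.1.obj (op (E : X.Opens))) := (Limits.Types.isTerminalEquivUnique _) hT
  let e : G.1.obj (op (E : X.Opens)) ≃ F.obj (op E) := (φ.app (op E)).toEquiv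
  exact ⟨⟨e default⟩, e.symm.subsingleton⟩

theorem pairGlue_of_iso (G : TopCat.Sheaf (Type u) X.carrier) (φ : (iota X).op ⋙ G.1 ≅ F) :
    PairGlue F := by
  intro U V W VW f g hVf hWg hVW hU hV hW h1 h2
  -- naturality of `φ.inv`
  have nat : ∀ {A B : X.affineOpens} (h : B ≤ A) (s : F.obj (op A)),
      φ.inv.app (op B) (F.map (homOfLE h).op s) =
        G.1.map (homOfLE (show (B : X.Opens) ≤ (A : X.Opens) from h)).op
          (φ.inv.app (op A) s) := by
    intro A B h s
    exact NatTrans.naturality_apply φ.inv (homOfLE h).op s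
  have nat' : ∀ {A B : X.affineOpens} (h : B ≤ A) (s : G.1.obj (op (A : X.Opens))),
      φ.hom.app (op B) (G.1.map (homOfLE (show (B : X.Opens) ≤ (A : X.Opens) from h)).op s) =
        F.map (homOfLE h).op (φ.hom.app (op A) s) := by
    intro A B h s
    exact NatTrans.naturality_apply φ.hom (homOfLE h).op s
  have inj : ∀ (A : X.affineOpens), Function.Injective (φ.inv.app (op A)) := fun A =>
    ((φ.symm.app (op A)).toEquiv).injective
  refine ⟨?_, ?_⟩
  · intro s t hst
    have hs1 : F.map (homOfLE hV).op s = F.map (homOfLE hV).op t := congrArg Prod.fst hst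
    have hs2 : F.map (homOfLE hW).op s = F.map (homOfLE hW).op t := congrArg Prod.snd hst
    apply inj U
    refine G.eq_of_locally_eq₂ (homOfLE (show (V : X.Opens) ≤ (U : X.Opens) from hV))
      (homOfLE (show (W : X.Opens) ≤ (U : X.Opens) from hW)) (le_of_eq hU) _ _ ?_ ?_
    · rw [← nat hV, ← nat hV, hs1]
    · rw [← nat hW, ← nat hW, hs2]
  · ext ⟨a, b⟩
    constructor
    · rintro ⟨s, hs⟩
      have ha : F.map (homOfLE hV).op s = a := congrArg Prod.fst hs
      have hb : F.map (homOfLE hW).op s = b := congrArg Prod.snd hs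
      show F.map (homOfLE h1).op a = F.map (homOfLE h2).op b
      rw [← ha, ← hb]
      exact (res_res F hV h1 s).trans (res_res F hW h2 s).symm
    · intro hab
      have hab' : F.map (homOfLE h1).op a = F.map (homOfLE h2).op b := hab
      have hVWle : (V : X.Opens) ⊓ (W : X.Opens) ≤ (VW : X.Opens) := by
        rw [hVW, X.basicOpen_mul, hVf, hWg]
      obtain ⟨s, hsa, hsb⟩ := glue_pair G (show (V : X.Opens) ≤ (U : X.Opens) from hV)
        (show (W : X.Opens) ≤ (U : X.Opens) from hW)
        (show (VW : X.Opens) ≤ (V : X.Opens) from h1)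
        (show (VW : X.Opens) ≤ (W : X.Opens) from h2) (le_of_eq hU) hVWle
        (φ.inv.app (op V) a) (φ.inv.app (op W) b) (by rw [← nat h1, ← nat h2, hab'])
      refine ⟨φ.hom.app (op U) s, ?_⟩
      have e1 : F.map (homOfLE hV).op (φ.hom.app (op U) s) = a := by
        rw [← nat' hV, hsa]
        exact Iso.inv_hom_id_app_apply φ (op V) a
      have e2 : F.map (homOfLE hW).op (φ.hom.app (op U) s) = b := by
        rw [← nat' hW, hsb]
        exact Iso.inv_hom_id_app_apply φ (op W) b
      exact Prod.ext e1 e2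

end forward

end Groth.Agent.Lib.Seat42.AffBasisSheaf
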