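import Mathlib
import Groth.Agent.S2167
import Groth.Agent.Lib.Helper5RLR

/-!
# Ideals generated by a regular sequence in regular local rings (seat 42)

* `IsCI R I`: `I` is generated by a regular sequence.
* `isCI_iff`: numeric criterion `μ(I) + dim R/I ≤ dim R` in a regular local ring.
* `isCI_comap_iff`: invariance along a surjection of regular local rings `ρ : P → R`:
  `I` is generated by a regular sequence iff `ρ⁻¹(I)` is.
-/

set_option autoImplicit false
universe u

open IsLocalRing RingTheory.Sequence

namespace Groth.Agent.Lib.Seat42.CIIdeal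

/-- The ideal `I` is generated by a regular sequence. -/
def IsCI (R : Type u) [CommRing R] (I : Ideal R) : Prop :=
  ∃ rs : List R, Ideal.ofList rs = I ∧ IsRegular R rs

section Numeric

variable {R : Type u} [CommRing R]

theorem cotangent_spanFinrank_eq (I : Ideal R) (hfg : I.FG) (hJ : I ≤ Ring.jacobson R) :
    (⊤ : Submodule (R ⧸ I) I.Cotangent).spanFinrank = I.spanFinrank := by
  apply le_antisymm
  · obtain ⟨s, hs1, hs2⟩ := Submodule.FG.exists_span_finset_card_eq_spanFinrank (p := I) hfg
    have := Groth.Agent.S2167.cotangent_spanFinrank_le I (s : Set R) s.finite_toSet hs2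
    rwa [Set.ncard_coe_finset, hs1] at this
  · exact Groth.Agent.S2167.spanFinrank_le_cotangent I hfg hJ

/-- Numeric criterion: in a regular local ring a proper ideal is generated by a regular sequence iff
`μ(I) + dim R/I ≤ dim R`. -/
theorem isCI_iff [IsRegularLocalRing R] (I : Ideal R) (hI : I ≠ ⊤) :
    IsCI R I ↔ ((I.spanFinrank : ℕ) : WithBot ℕ∞) + ringKrullDim (R ⧸ I) ≤ ringKrullDim R := by
  have hN : IsNoetherianRing R := inferInstance
  have hJ : I ≤ Ring.jacobson R := by
    rw [IsLocalRing.ringJacobson_eq_maximalIdeal]; exact IsLocalRing.le_maximalIdeal hI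
  rw [← cotangent_spanFinrank_eq I (IsNoetherian.noetherian I) hJ]
  exact Groth.Agent.S2167.result I hI

theorem isCI_iff_nat [IsRegularLocalRing R] (I : Ideal R) (hI : I ≠ ⊤) (d e : ℕ)
    (hd : ringKrullDim R = d) (he : ringKrullDim (R ⧸ I) = e) :
    IsCI R I ↔ I.spanFinrank + e ≤ d := by
  rw [isCI_iff I hI, hd, he]
  constructor
  · intro h; exact_mod_cast h
  · intro h; exact_mod_cast h

end Numeric

section Exchange

open TensorProduct

variable {P : Type u} [CommRing P] [IsLocalRing P] [IsNoetherianRing P]

/-- Exchange lemma: if an ideal `I'` contains elements `x₁,…,x_r` of the maximal ideal which are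
linearly independent modulo `m²`, then `I'` is generated by them together with `μ(I') - r` further
elements. -/
theorem exists_generators_extending {r : ℕ} (x : Fin r → maximalIdeal P)
    (hli : LinearIndependent (ResidueField P) (fun i => (maximalIdeal P).toCotangent (x i)))
    (I' : Ideal P) (hI'm : I' ≤ maximalIdeal P) (hx : ∀ i, (x i : P) ∈ I') :
    ∃ (s : ℕ) (u : Fin s → P), r + s = I'.spanFinrank ∧ (∀ j, u j ∈ I') ∧
      I' = Ideal.span (Set.range fun i => (x i : P)) ⊔ Ideal.span (Set.range u) := by
  classical
  have hfg : I'.FG := IsNoetherian.noetherian I'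
  have hfin : Module.Finite P ↥I' := Module.Finite.iff_fg.mpr hfg
  -- the vector space `(ResidueField P ⊗[P] ↥I') = k ⊗ I'`
  let τ : ↥I' →ₗ[P] (ResidueField P ⊗[P] ↥I') := TensorProduct.mk P (ResidueField P) ↥I' 1
  have hτsurj : Function.Surjective τ :=
    TensorProduct.mk_surjective P ↥I' (ResidueField P) residue_surjective
  have hn : Module.finrank (ResidueField P) (ResidueField P ⊗[P] ↥I') = I'.spanFinrank := by
    rw [Module.finrank_eq_spanFinrank_of_free]
    exact TensorProduct.spanFinrank_top_eq_of_residueField I' hfg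
  let xs : Fin r → ↥I' := fun i => ⟨(x i : P), hx i⟩
  let v : Fin r → (ResidueField P ⊗[P] ↥I') := fun i => τ (xs i)
  -- comparison with the cotangent space
  let f : ↥I' →ₗ[P] CotangentSpace P :=
    ((maximalIdeal P).toCotangent).comp (Submodule.inclusion hI'm)
  let θ : (ResidueField P ⊗[P] ↥I') →ₗ[ResidueField P] CotangentSpace P := LinearMap.liftBaseChange (ResidueField P) f
  have hθv : ∀ i, θ (v i) = (maximalIdeal P).toCotangent (x i) := by
    intro i
    show LinearMap.liftBaseChange (ResidueField P) f ((1 : ResidueField P) ⊗ₜ[P] xs i) = _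
    rw [LinearMap.liftBaseChange_tmul, one_smul]
    rfl
  have hvli : LinearIndependent (ResidueField P) v := by
    apply LinearIndependent.of_comp θ
    have : (θ ∘ v) = fun i => (maximalIdeal P).toCotangent (x i) := funext hθv
    rw [this]
    exact hli
  -- a complement of the span of the `v i`
  obtain ⟨U, hU⟩ := Submodule.exists_isCompl (Submodule.span (ResidueField P) (Set.range v))
  have hdim := Submodule.finrank_add_eq_of_isCompl hU
  rw [finrank_span_eq_card hvli, Fintype.card_fin, hn] at hdim
  have hUfree : Module.Free (ResidueField P) ↥U :=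
    Module.Free.of_divisionRing (ResidueField P) ↥U
  have hVfin : Module.Finite (ResidueField P) (ResidueField P ⊗[P] ↥I') := inferInstance
  have hUfin : Module.Finite (ResidueField P) ↥U := inferInstance
  let b := Module.finBasis (ResidueField P) U
  let us : Fin (Module.finrank (ResidueField P) U) → ↥I' :=
    fun j => Function.surjInv hτsurj (b j : (ResidueField P ⊗[P] ↥I'))
  have hus : ∀ j, τ (us j) = (b j : (ResidueField P ⊗[P] ↥I')) := fun j => Function.surjInv_eq hτsurj _
  refine ⟨_, fun j => (us j : P), hdim, fun j => (us j).2, ?_⟩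
  -- Nakayama
  have hNak : Submodule.span P (Set.range xs ∪ Set.range us) = ⊤ := by
    rw [← IsLocalRing.map_tensorProduct_mk_eq_top, Submodule.map_span,
      ← Submodule.restrictScalars_span P (ResidueField P) residue_surjective,
      Submodule.restrictScalars_eq_top_iff, Set.image_union, ← Set.range_comp, ← Set.range_comp,
      Submodule.span_union, eq_top_iff, ← hU.sup_eq_top]
    refine sup_le_sup le_rfl ?_
    intro t ht
    have h1 : (⟨t, ht⟩ : U) ∈ Submodule.span (ResidueField P) (Set.range b) := by
      rw [b.span_eq]; trivial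
    have h2 : t ∈ Submodule.map U.subtype (Submodule.span (ResidueField P) (Set.range b)) :=
      ⟨⟨t, ht⟩, h1, rfl⟩
    rw [Submodule.map_span] at h2
    refine Submodule.span_mono ?_ h2
    rintro _ ⟨_, ⟨j, rfl⟩, rfl⟩
    exact ⟨j, hus j⟩
  -- push to ideals of `P`
  have h1 := congrArg (Submodule.map I'.subtype) hNak
  rw [Submodule.map_span, Submodule.map_top, Submodule.range_subtype, Set.image_union,
    ← Set.range_comp, ← Set.range_comp, Submodule.span_union] at h1
  exact h1.symm

end Exchange

section Transfer

variable {P R : Type u} [CommRing P] [CommRing R] [IsRegularLocalRing P] [IsRegularLocalRing R]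

/-- Invariance of "generated by a regular sequence" along a surjection of regular local rings. -/
theorem isCI_comap_iff (ρ : P →+* R) (hρ : Function.Surjective ρ) (I : Ideal R) (hI : I ≠ ⊤) :
    IsCI R I ↔ IsCI P (I.comap ρ) := by
  classical
  have hNP : IsNoetherianRing P := inferInstance
  have hNR : IsNoetherianRing R := inferInstance
  have hI' : I.comap ρ ≠ ⊤ := by
    intro h
    apply hI
    rw [Ideal.eq_top_iff_one] at h ⊢
    rw [Ideal.mem_comap, map_one] at h
    exact h
  obtain ⟨dP, hdP⟩ := Groth.Agent.Lib.Helper5.exists_nat_ringKrullDim_eq P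
  obtain ⟨dR, hdR⟩ := Groth.Agent.Lib.Helper5.exists_nat_ringKrullDim_eq R
  -- dimension of the quotients
  have hlocal : IsLocalRing (R ⧸ I) := Groth.Agent.Lib.Helper5.isLocalRing_quotient hI
  obtain ⟨e, he⟩ := Groth.Agent.Lib.Helper5.exists_nat_ringKrullDim_eq (R ⧸ I)
  have he' : ringKrullDim (P ⧸ I.comap ρ) = e := by
    rw [← he]
    let f : P →+* R ⧸ I := (Ideal.Quotient.mk I).comp ρ
    have hf : Function.Surjective f := Ideal.Quotient.mk_surjective.comp hρ
    have hker : RingHom.ker f = I.comap ρ := by
      rw [← RingHom.comap_ker, Ideal.mk_ker]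
    exact ringKrullDim_eq_of_ringEquiv
      ((Ideal.quotEquivOfEq hker.symm).trans (RingHom.quotientKerEquivOfSurjective hf))
  -- the kernel is generated by part of a regular system of parameters
  have : IsRegularLocalRing (P ⧸ RingHom.ker ρ) :=
    IsRegularLocalRing.of_ringEquiv (RingHom.quotientKerEquivOfSurjective hρ).symm
  obtain ⟨r, x, hli, hK⟩ :=
    Groth.Agent.Lib.Helper5.exists_linearIndependent_span_range_eq (RingHom.ker ρ)
  have hdim := (Groth.Agent.Lib.Helper5.isRegularLocalRing_quotient_of_linearIndependent' x hli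
    (RingHom.ker ρ) hK).2
  rw [ringKrullDim_eq_of_ringEquiv (RingHom.quotientKerEquivOfSurjective hρ), hdP, hdR] at hdim
  have hdim' : dR + r = dP := by exact_mod_cast hdim
  rw [isCI_iff_nat I hI dR e hdR he, isCI_iff_nat (I.comap ρ) hI' dP e hdP he']
  have hKle : RingHom.ker ρ ≤ I.comap ρ := by
    intro z hz
    rw [Ideal.mem_comap, (RingHom.mem_ker).mp hz]
    exact I.zero_mem
  have hmapI : (I.comap ρ).map ρ = I := Ideal.map_comap_of_surjective ρ hρ I
  constructor
  · -- `μ(ρ⁻¹ I) ≤ μ(I) + r`
    intro h
    obtain ⟨s, hs1, hs2⟩ := Submodule.FG.exists_span_finset_card_eq_spanFinrank (p := I)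
      (IsNoetherian.noetherian I)
    let lift : R → P := Function.surjInv hρ
    have hlift : ∀ y, ρ (lift y) = y := Function.surjInv_eq hρ
    have hcomap : I.comap ρ = Ideal.span (lift '' (s : Set R)) ⊔
        Ideal.span (Set.range fun i => (x i : P)) := by
      have h1 : (Ideal.span (lift '' (s : Set R))).map ρ = I := by
        rw [Ideal.map_span, ← Set.image_comp]
        have : (ρ ∘ lift) '' (s : Set R) = (s : Set R) := by
          ext y
          simp only [Set.mem_image, Function.comp_apply, hlift]
          exact ⟨fun ⟨z, hz, hzy⟩ => hzy ▸ hz, fun hy => ⟨y, hy, rfl⟩⟩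
        rw [this]
        exact hs2
      rw [← h1, Ideal.comap_map_of_surjective ρ hρ, ← RingHom.ker_eq_comap_bot, hK]
    have hbound : (I.comap ρ).spanFinrank ≤ s.card + r := by
      rw [hcomap, ← Ideal.span_union]
      have hfin : (lift '' (s : Set R) ∪ Set.range fun i => (x i : P)).Finite :=
        (s.finite_toSet.image _).union (Set.finite_range _)
      refine (Submodule.spanFinrank_span_le_ncard_of_finite hfin).trans ?_
      refine (Set.ncard_union_le _ _).trans ?_
      refine add_le_add ((Set.ncard_image_le s.finite_toSet).trans ?_) ?_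
      · rw [Set.ncard_coe_finset]
      · have : (Set.range fun i => (x i : P)) =
            ((Finset.univ.image fun i => (x i : P) : Finset P) : Set P) := by
          ext y; simp
        rw [this, Set.ncard_coe_finset]
        exact (Finset.card_image_le).trans (by simp)
    omega
  · -- `μ(I) + r ≤ μ(ρ⁻¹ I)`
    intro h
    have hIm : I.comap ρ ≤ maximalIdeal P := IsLocalRing.le_maximalIdeal hI'
    have hxI : ∀ i, (x i : P) ∈ I.comap ρ := fun i =>
      hKle (hK ▸ Ideal.subset_span ⟨i, rfl⟩)
    obtain ⟨s, u, hrs, huI, hgen⟩ := exists_generators_extending x hli (I.comap ρ) hIm hxI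
    have hIgen : I = Ideal.span (Set.range fun j => ρ (u j)) := by
      rw [← hmapI, hgen, Ideal.map_sup, Ideal.map_span, Ideal.map_span, ← Set.range_comp,
        ← Set.range_comp]
      have h0 : Ideal.span (Set.range (ρ ∘ fun i => (x i : P))) = ⊥ := by
        rw [Ideal.span_eq_bot]
        rintro _ ⟨i, rfl⟩
        have : (x i : P) ∈ RingHom.ker ρ := hK ▸ Ideal.subset_span ⟨i, rfl⟩
        exact (RingHom.mem_ker).mp this
      rw [h0, bot_sup_eq]
      rfl
    have hbound : I.spanFinrank ≤ s := by
      rw [hIgen]
      have hfin : (Set.range fun j => ρ (u j)).Finite := Set.finite_range _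
      refine (Submodule.spanFinrank_span_le_ncard_of_finite hfin).trans ?_
      have : (Set.range fun j => ρ (u j)) =
          ((Finset.univ.image fun j => ρ (u j) : Finset R) : Set R) := by
        ext y; simp
      rw [this, Set.ncard_coe_finset]
      exact (Finset.card_image_le).trans (by simp)
    omega

end Transfer

end Groth.Agent.Lib.Seat42.CIIdeal
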