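import Mathlib
import Groth.Prelude.Def_RegImm
import Groth.Agent.Lib.Seat42CIIdeal

/-!
# Polynomial covers of essentially finite type local algebras (seat 42)

* `locLift a`: for `a : T →ₐ[k] R` with `R` local, the induced map from the localization of `T` at
  the preimage of the maximal ideal.
* `locLift_surjective`, `ker_locLift`.
* `exists_common_cover`: two essentially-finite-type local covers of a local `k`-algebra are
  dominated by a common regular local one.
* `isCI_ker_of_isCIOver`: independence of the presentation for `Synt.IsCIOver`.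
-/

set_option autoImplicit false
universe u

open IsLocalRing RingTheory.Sequence

namespace Groth.Agent.Lib.Seat42.CICover

open Groth.Agent.Lib.Seat42.CIIdeal

section LocLift

variable {k T R : Type u} [CommRing k] [CommRing T] [CommRing R] [Algebra k T] [Algebra k R]
  [IsLocalRing R] (a : T →ₐ[k] R)

/-- The preimage of the maximal ideal. -/
abbrev primeOf : Ideal T := (maximalIdeal R).comap a.toRingHom

theorem isUnit_of_mem_primeCompl (y : (primeOf a).primeCompl) : IsUnit (a y) := by
  have h : (y : T) ∉ primeOf a := y.2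
  rw [Ideal.mem_comap] at h
  by_contra hu
  exact h ((IsLocalRing.mem_maximalIdeal _).mpr hu)

/-- The induced map from the localization at the preimage of the maximal ideal. -/
noncomputable def locLift : Localization.AtPrime (primeOf a) →ₐ[k] R :=
  IsLocalization.liftAlgHom (M := (primeOf a).primeCompl) (f := a) (isUnit_of_mem_primeCompl a)

theorem locLift_algebraMap (t : T) :
    locLift a (algebraMap T (Localization.AtPrime (primeOf a)) t) = a t :=
  IsLocalization.lift_eq _ _

theorem locLift_mk' (q : T) (p : (primeOf a).primeCompl) (v : R) :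
    locLift a (IsLocalization.mk' (Localization.AtPrime (primeOf a)) q p) = v ↔ a q = a p * v :=
  IsLocalization.lift_mk'_spec _ _ _ _

theorem locLift_surjective (ha : ∀ x : R, ∃ p q : T, IsUnit (a p) ∧ x * a p = a q) :
    Function.Surjective (locLift a) := by
  intro x
  obtain ⟨p, q, hp, hq⟩ := ha x
  have hpQ : p ∈ (primeOf a).primeCompl := by
    intro hmem
    exact ((IsLocalRing.mem_maximalIdeal _).mp (Ideal.mem_comap.mp hmem)) hp
  refine ⟨IsLocalization.mk' (Localization.AtPrime (primeOf a)) q ⟨p, hpQ⟩, ?_⟩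
  rw [locLift_mk']
  rw [← hq, mul_comm]

theorem ker_locLift :
    RingHom.ker (locLift a).toRingHom =
      (RingHom.ker a.toRingHom).map (algebraMap T (Localization.AtPrime (primeOf a))) := by
  apply le_antisymm
  · intro z hz
    obtain ⟨q, p, rfl⟩ := IsLocalization.exists_mk'_eq (primeOf a).primeCompl z
    have h0 : locLift a (IsLocalization.mk' (Localization.AtPrime (primeOf a)) q p) = 0 := hz
    rw [locLift_mk', mul_zero] at h0
    rw [IsLocalization.mk'_eq_mul_mk'_one]
    exact Ideal.mul_mem_right _ _ (Ideal.mem_map_of_mem _ h0)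
  · rw [Ideal.map_le_iff_le_comap]
    intro t ht
    rw [Ideal.mem_comap]
    show locLift a (algebraMap T _ t) = 0
    rw [locLift_algebraMap]
    exact ht

/-- Version of `locLift` for a prime given up to equality. -/
theorem exists_locLift_of_eq (ha : ∀ x : R, ∃ p q : T, IsUnit (a p) ∧ x * a p = a q)
    (Q : Ideal T) [Q.IsPrime] (hQ : Q = primeOf a) :
    ∃ ρ : Localization.AtPrime Q →ₐ[k] R, Function.Surjective ρ ∧
      (∀ t, ρ (algebraMap T (Localization.AtPrime Q) t) = a t) ∧
      RingHom.ker ρ.toRingHom =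
        (RingHom.ker a.toRingHom).map (algebraMap T (Localization.AtPrime Q)) := by
  subst hQ
  exact ⟨locLift a, locLift_surjective a ha, locLift_algebraMap a, ker_locLift a⟩

end LocLift

section Cond

variable (k : Type u) {R : Type u} [CommRing k] [CommRing R] [Algebra k R]

/-- The surjectivity condition from a finite set witnessing essential finiteness. -/
theorem cond_of_essFiniteType {σ : Type u} (f : σ → R) (s : Finset R)
    (hs : ∀ x : R, ∃ t ∈ Algebra.adjoin k (s : Set R), IsUnit t ∧ x * t ∈ Algebra.adjoin k (s : Set R))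
    (hf : (s : Set R) ⊆ Set.range f) :
    ∀ x : R, ∃ p q : MvPolynomial σ k,
      IsUnit (MvPolynomial.aeval f p) ∧ x * MvPolynomial.aeval f p = MvPolynomial.aeval f q := by
  intro x
  obtain ⟨t, ht, htu, hxt⟩ := hs x
  have hle : Algebra.adjoin k (s : Set R) ≤ (MvPolynomial.aeval f : MvPolynomial σ k →ₐ[k] R).range := by
    rw [← Algebra.adjoin_range_eq_range_aeval]
    exact Algebra.adjoin_mono hf
  obtain ⟨p, rfl⟩ := hle ht
  obtain ⟨q, hq⟩ := hle hxt
  exact ⟨p, q, htu, hq.symm⟩

end Cond

section Cover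

variable (k : Type u) [Field k]

/-- A local essentially-finite-type `k`-algebra is a quotient of a regular local one (a localization
of a polynomial ring). -/
theorem exists_regular_cover (S : Type u) [CommRing S] [IsLocalRing S] [Algebra k S]
    [Algebra.EssFiniteType k S] :
    ∃ (P : Type u) (_ : CommRing P) (_ : IsRegularLocalRing P) (_ : Algebra k P),
      Algebra.EssFiniteType k P ∧ ∃ ρ : P →ₐ[k] S, Function.Surjective ρ := by
  obtain ⟨s, hs⟩ := (Algebra.essFiniteType_iff (R := k) (S := S)).mp inferInstance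
  let a : MvPolynomial (↥s) k →ₐ[k] S := MvPolynomial.aeval (fun i : ↥s => (i : S))
  have hcond := cond_of_essFiniteType k (fun i : ↥s => (i : S)) s hs
    (by intro y hy; exact ⟨⟨y, hy⟩, rfl⟩)
  have hess : Algebra.EssFiniteType k (Localization.AtPrime (primeOf a)) := by
    have : Algebra.EssFiniteType (MvPolynomial (↥s) k) (Localization.AtPrime (primeOf a)) :=
      Algebra.EssFiniteType.of_isLocalization _ (primeOf a).primeCompl
    exact Algebra.EssFiniteType.comp k (MvPolynomial (↥s) k) _
  exact ⟨Localization.AtPrime (primeOf a), inferInstance, inferInstance, inferInstance, hess,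
    locLift a, locLift_surjective a hcond⟩

/-- Two local essentially-finite-type covers of a local `k`-algebra are dominated by a common
regular local one. -/
theorem exists_common_cover {R₁ R₂ S : Type u} [CommRing R₁] [CommRing R₂] [CommRing S]
    [IsLocalRing R₁] [IsLocalRing R₂] [IsLocalRing S] [Algebra k R₁] [Algebra k R₂] [Algebra k S]
    [Algebra.EssFiniteType k R₁] [Algebra.EssFiniteType k R₂]
    (π₁ : R₁ →ₐ[k] S) (π₂ : R₂ →ₐ[k] S) (h₁ : Function.Surjective π₁)
    (h₂ : Function.Surjective π₂) :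
    ∃ (P : Type u) (_ : CommRing P) (_ : IsRegularLocalRing P) (_ : Algebra k P),
      Algebra.EssFiniteType k P ∧ ∃ (ρ₁ : P →ₐ[k] R₁) (ρ₂ : P →ₐ[k] R₂),
        Function.Surjective ρ₁ ∧ Function.Surjective ρ₂ ∧ π₁.comp ρ₁ = π₂.comp ρ₂ := by
  classical
  obtain ⟨s₁, hs₁⟩ := (Algebra.essFiniteType_iff (R := k) (S := R₁)).mp inferInstance
  obtain ⟨s₂, hs₂⟩ := (Algebra.essFiniteType_iff (R := k) (S := R₂)).mp inferInstance
  let l₁ : S → R₁ := Function.surjInv h₁
  let l₂ : S → R₂ := Function.surjInv h₂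
  have hl₁ : ∀ y, π₁ (l₁ y) = y := Function.surjInv_eq h₁
  have hl₂ : ∀ y, π₂ (l₂ y) = y := Function.surjInv_eq h₂
  let f₁ : (↥s₁ ⊕ ↥s₂) → R₁ := Sum.elim (fun i => (i : R₁)) (fun j => l₁ (π₂ (j : R₂)))
  let f₂ : (↥s₁ ⊕ ↥s₂) → R₂ := Sum.elim (fun i => l₂ (π₁ (i : R₁))) (fun j => (j : R₂))
  let a : MvPolynomial (↥s₁ ⊕ ↥s₂) k →ₐ[k] R₁ := MvPolynomial.aeval f₁
  let b : MvPolynomial (↥s₁ ⊕ ↥s₂) k →ₐ[k] R₂ := MvPolynomial.aeval f₂
  have hab : π₁.comp a = π₂.comp b := by
    apply MvPolynomial.algHom_ext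
    rintro (i | j)
    · simp [a, b, f₁, f₂, hl₂]
    · simp [a, b, f₁, f₂, hl₁]
  have hloc₁ : IsLocalHom π₁.toRingHom := IsLocalHom.of_surjective _ h₁
  have hloc₂ : IsLocalHom π₂.toRingHom := IsLocalHom.of_surjective _ h₂
  have hQ : primeOf a = primeOf b := by
    have e1 : primeOf a = primeOf (π₁.comp a) := by
      show (maximalIdeal R₁).comap a.toRingHom = (maximalIdeal S).comap (π₁.comp a).toRingHom
      rw [← IsLocalRing.maximalIdeal_comap π₁.toRingHom, Ideal.comap_comap]
      rfl
    have e2 : primeOf b = primeOf (π₂.comp b) := by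
      show (maximalIdeal R₂).comap b.toRingHom = (maximalIdeal S).comap (π₂.comp b).toRingHom
      rw [← IsLocalRing.maximalIdeal_comap π₂.toRingHom, Ideal.comap_comap]
      rfl
    rw [e1, e2, hab]
  have hcond₁ := cond_of_essFiniteType k f₁ s₁ hs₁
    (by intro y hy; exact ⟨Sum.inl ⟨y, hy⟩, rfl⟩)
  have hcond₂ := cond_of_essFiniteType k f₂ s₂ hs₂
    (by intro y hy; exact ⟨Sum.inr ⟨y, hy⟩, rfl⟩)
  have hess : Algebra.EssFiniteType k (Localization.AtPrime (primeOf a)) := by
    have : Algebra.EssFiniteType (MvPolynomial (↥s₁ ⊕ ↥s₂) k) (Localization.AtPrime (primeOf a)) :=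
      Algebra.EssFiniteType.of_isLocalization _ (primeOf a).primeCompl
    exact Algebra.EssFiniteType.comp k (MvPolynomial (↥s₁ ⊕ ↥s₂) k) _
  -- transport `locLift b` along `hQ`
  obtain ⟨ρ₂, hρ₂, hρ₂b, -⟩ := exists_locLift_of_eq b hcond₂ (primeOf a) hQ
  refine ⟨Localization.AtPrime (primeOf a), inferInstance, inferInstance, inferInstance, hess,
    locLift a, ρ₂, locLift_surjective a hcond₁, hρ₂, ?_⟩
  apply IsLocalization.algHom_ext (primeOf a).primeCompl
  apply AlgHom.ext
  intro t
  show π₁ (locLift a (algebraMap _ _ t)) = π₂ (ρ₂ (algebraMap _ _ t))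
  rw [locLift_algebraMap, hρ₂b]
  exact DFunLike.congr_fun hab t

end Cover

section Indep

variable (k : Type u) [Field k] (S : Type u) [CommRing S] [IsLocalRing S] [Algebra k S]

/-- Independence of the presentation: if `S` is a complete intersection over `k`, the kernel of any
surjection from an essentially-finite-type regular local `k`-algebra is generated by a regular
sequence. -/
theorem isCI_ker_of_isCIOver (h : Synt.IsCIOver k S) (R : Type u) [CommRing R]
    [IsRegularLocalRing R] [Algebra k R] [Algebra.EssFiniteType k R] (π : R →ₐ[k] S)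
    (hπ : Function.Surjective π) : IsCI R (RingHom.ker π.toRingHom) := by
  obtain ⟨R₁, _, _, _, hess, rs, -, hreg, ⟨e⟩⟩ := h
  let π₁ : R₁ →ₐ[k] S := (e.symm : (R₁ ⧸ Ideal.ofList rs) →ₐ[k] S).comp
    (Ideal.Quotient.mkₐ k (Ideal.ofList rs))
  have hπ₁ : Function.Surjective π₁ :=
    e.symm.surjective.comp (Ideal.Quotient.mkₐ_surjective k _)
  have hker₁ : RingHom.ker π₁.toRingHom = Ideal.ofList rs := by
    ext z
    rw [RingHom.mem_ker]
    show e.symm (Ideal.Quotient.mk _ z) = 0 ↔ _
    rw [map_eq_zero_iff _ e.symm.injective, Ideal.Quotient.eq_zero_iff_mem]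
  obtain ⟨P, _, _, _, -, ρ₁, ρ₂, hρ₁, hρ₂, hcomm⟩ := exists_common_cover k π₁ π hπ₁ hπ
  have hne₁ : RingHom.ker π₁.toRingHom ≠ ⊤ := RingHom.ker_ne_top _
  have hne₂ : RingHom.ker π.toRingHom ≠ ⊤ := RingHom.ker_ne_top _
  have hci₁ : IsCI R₁ (RingHom.ker π₁.toRingHom) := ⟨rs, hker₁.symm, hreg⟩
  rw [isCI_comap_iff ρ₁.toRingHom hρ₁ _ hne₁] at hci₁
  rw [isCI_comap_iff ρ₂.toRingHom hρ₂ _ hne₂]
  have hk : (RingHom.ker π₁.toRingHom).comap ρ₁.toRingHom =
      (RingHom.ker π.toRingHom).comap ρ₂.toRingHom := by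
    rw [RingHom.comap_ker, RingHom.comap_ker]
    show RingHom.ker (π₁.comp ρ₁).toRingHom = RingHom.ker (π.comp ρ₂).toRingHom
    rw [hcomm]
  rwa [hk] at hci₁

/-- Conversely a surjection from a regular local essentially-finite-type algebra with kernel
generated by a regular sequence exhibits `S` as a complete intersection. -/
theorem isCIOver_of_isCI (R : Type u) [CommRing R]
    [IsRegularLocalRing R] [Algebra k R] [Algebra.EssFiniteType k R] (π : R →ₐ[k] S)
    (hπ : Function.Surjective π) (h : IsCI R (RingHom.ker π.toRingHom)) : Synt.IsCIOver k S := by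
  obtain ⟨rs, hrs, hreg⟩ := h
  refine ⟨R, inferInstance, inferInstance, inferInstance, inferInstance, rs, ?_, hreg, ⟨?_⟩⟩
  · intro r hr
    have hne : Ideal.ofList rs ≠ ⊤ := by
      rw [hrs]; exact RingHom.ker_ne_top _
    exact IsLocalRing.le_maximalIdeal hne (Ideal.subset_span hr)
  · exact ((Ideal.quotientEquivAlgOfEq k hrs).trans
      (Ideal.quotientKerAlgEquivOfSurjective hπ)).symm

end Indep

end Groth.Agent.Lib.Seat42.CICover
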