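import Mathlib
import Groth.Agent.Lib.Helper28FGDim
import Groth.Agent.Lib.Seat41SyntLocal
import Groth.Prelude.Def_RegImm

/-!
# Localizing global / local complete intersections over a field (seat 42)

* `height_eq_of_isMaximal_of_gci`: in `S = k[x_1..x_n]/(f_1..f_c)` with `dim S = n - c` every
  maximal ideal has height `n - c`.
* `isGlobalCI_away`: `S` global complete intersection over `k` ⟹ so is `S_g`.
* `isLCIOver_away`: `S` local complete intersection over `k` ⟹ so is `S_g`.
-/

set_option autoImplicit false
universe u

open MvPolynomial

namespace Groth.Agent.Lib.Seat42.GCILoc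

open Groth.Agent.Lib.Helper28

variable (k : Type u) [Field k] {S : Type u} [CommRing S] [Algebra k S]

/-- The presentation attached to the data of a global complete intersection. -/
noncomputable def presOf {n c : ℕ} (φ : MvPolynomial (Fin n) k →ₐ[k] S)
    (r : Fin c → MvPolynomial (Fin n) k) (hφ : Function.Surjective φ)
    (hker : RingHom.ker φ.toRingHom = Ideal.span (Set.range r)) :
    Algebra.Presentation k S (Fin n) (Fin c) where
  __ := Algebra.Generators.ofSurjective (fun i => φ (X i)) (by
    have : (aeval (R := k) fun i => φ (X i)) = φ := by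
      apply MvPolynomial.algHom_ext
      intro i
      simp
    rw [this]
    exact hφ)
  relation := r
  span_range_relation_eq_ker := by
    rw [Algebra.Generators.ker_eq_ker_aeval_val, ← hker]
    have : (aeval (R := k) fun i => φ (X i)) = φ := by
      apply MvPolynomial.algHom_ext
      intro i
      simp
    show RingHom.ker φ.toRingHom = RingHom.ker (aeval (R := k) fun i => φ (X i))
    rw [this]
    rfl

/-- In `S = k[x_1..x_n]/(f_1..f_c)` with `dim S = n - c`, all maximal ideals have height
`n - c`. -/
theorem height_eq_of_isMaximal_of_gci {n c : ℕ} (hcn : c ≤ n)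
    (φ : MvPolynomial (Fin n) k →ₐ[k] S)
    (r : Fin c → MvPolynomial (Fin n) k) (hφ : Function.Surjective φ)
    (hker : RingHom.ker φ.toRingHom = Ideal.span (Set.range r))
    (hdim : ringKrullDim S = ((n - c : ℕ) : WithBot ℕ∞))
    (m : Ideal S) (hm : m.IsMaximal) : m.height = ((n - c : ℕ) : ℕ∞) := by
  classical
  have hk : LocCoh.IsCohenMacaulayRing k := isCohenMacaulayRing_of_field k
  have hP : LocCoh.IsCohenMacaulayRing (MvPolynomial (Fin n) k) :=
    isCohenMacaulayRing_mvPolynomial_fin n
  have hmp : m.IsPrime := hm.isPrime
  set I : Ideal (MvPolynomial (Fin n) k) := RingHom.ker φ.toRingHom with hI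
  let e : (MvPolynomial (Fin n) k ⧸ I) ≃+* S :=
    RingHom.quotientKerEquivOfSurjective (f := φ.toRingHom) hφ
  set m' : Ideal (MvPolynomial (Fin n) k ⧸ I) := m.comap e with hm'
  have hm'max : m'.IsMaximal := Ideal.comap_isMaximal_of_surjective e e.surjective
  have hm'p : m'.IsPrime := hm'max.isPrime
  have hht : m'.height = m.height := e.height_comap m
  have hMmax : (m'.comap (Ideal.Quotient.mk I)).IsMaximal :=
    Ideal.comap_isMaximal_of_surjective _ Ideal.Quotient.mk_surjective
  have hMp : (m'.comap (Ideal.Quotient.mk I)).IsPrime := hMmax.isPrime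
  have hIM : I ≤ m'.comap (Ideal.Quotient.mk I) := by
    intro x hx
    rw [Ideal.mem_comap, Ideal.Quotient.eq_zero_iff_mem.mpr hx]
    exact m'.zero_mem
  have h1 := height_comap_eq_height_add_height_map I m'
  rw [height_eq_of_isMaximal_mvPolynomial_fin k n _ hMmax] at h1
  -- the extension of `I` to the local ring is generated by `c` elements
  have hne : I.map (algebraMap _ (Localization.AtPrime (m'.comap (Ideal.Quotient.mk I)))) ≠ ⊤ := by
    intro htop
    have hle : I.map (algebraMap _ (Localization.AtPrime (m'.comap (Ideal.Quotient.mk I)))) ≤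
        IsLocalRing.maximalIdeal (Localization.AtPrime (m'.comap (Ideal.Quotient.mk I))) := by
      rw [← Localization.AtPrime.map_eq_maximalIdeal]
      exact Ideal.map_mono hIM
    rw [htop] at hle
    exact (IsLocalRing.maximalIdeal.isMaximal _).ne_top (top_le_iff.mp hle)
  have h2 : (I.map (algebraMap _
      (Localization.AtPrime (m'.comap (Ideal.Quotient.mk I))))).height ≤ (c : ℕ∞) := by
    refine (Ideal.height_le_spanFinrank _ hne).trans ?_
    have hmapI : ∀ (J : Ideal (MvPolynomial (Fin n) k))
        (f : MvPolynomial (Fin n) k →+*
          Localization.AtPrime (m'.comap (Ideal.Quotient.mk I))),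
        J = Ideal.span (Set.range r) → J.map f = Ideal.span (f '' Set.range r) :=
      fun J f h => by rw [h, Ideal.map_span]
    rw [hmapI I _ hker]
    have hfin : ((algebraMap (MvPolynomial (Fin n) k)
        (Localization.AtPrime (m'.comap (Ideal.Quotient.mk I)))) ''
        Set.range r).Finite := (Set.finite_range r).image _
    have h3 := Submodule.spanFinrank_span_le_ncard_of_finite
      (R := Localization.AtPrime (m'.comap (Ideal.Quotient.mk I))) hfin
    have h4 : ((algebraMap (MvPolynomial (Fin n) k)
        (Localization.AtPrime (m'.comap (Ideal.Quotient.mk I)))) ''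
        Set.range r).ncard ≤ c := by
      refine (Set.ncard_image_le (Set.finite_range r)).trans ?_
      have : Set.range r = ((Finset.univ.image r : Finset _) : Set _) := by
        ext x; simp
      rw [this, Set.ncard_coe_finset]
      exact (Finset.card_image_le).trans (by simp)
    exact_mod_cast h3.trans h4
  -- `ht m' ≤ dim S = n - c`
  have h5 : m'.height ≤ ((n - c : ℕ) : ℕ∞) := by
    have := Ideal.height_le_ringKrullDim_of_ne_top hm'max.ne_top
    rw [ringKrullDim_eq_of_ringEquiv e, hdim] at this
    exact WithBot.coe_le_coe.mp this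
  rw [← hht]
  -- arithmetic in `ℕ∞`
  obtain ⟨a, ha⟩ := ENat.ne_top_iff_exists.mp (ne_top_of_le_ne_top (ENat.natCast_ne_top _) h5)
  obtain ⟨b, hb⟩ := ENat.ne_top_iff_exists.mp (ne_top_of_le_ne_top (ENat.natCast_ne_top _) h2)
  rw [← ha] at h5 h1 ⊢
  rw [← hb] at h2 h1
  have h5' : a ≤ n - c := by exact_mod_cast h5
  have h2' : b ≤ c := by exact_mod_cast h2
  have h1' : n = a + b := by exact_mod_cast h1
  have : a = n - c := by omega
  rw [this]

/-- A localization `S_g` of a global complete intersection over a field is a global complete
intersection. -/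
theorem isGlobalCI_away (g : S) (h : Synt.IsGlobalCI k S) :
    Synt.IsGlobalCI k (Localization.Away g) := by
  classical
  rcases h with hs | ⟨n, c, hcn, φ, r, hφ, hker, hdim⟩
  · left
    refine subsingleton_of_zero_eq_one ?_
    have := map_one (algebraMap S (Localization.Away g))
    rw [Subsingleton.elim (1 : S) 0, map_zero] at this
    exact this
  by_cases htriv : Subsingleton (Localization.Away g)
  · exact Or.inl htriv
  rw [not_subsingleton_iff_nontrivial] at htriv
  right
  let P := presOf k φ r hφ hker
  let Q := (Algebra.Presentation.localizationAway (Localization.Away g) g).comp P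
  let eι : Fin (n + 1) ≃ Unit ⊕ Fin n := (Fintype.equivFinOfCardEq (by simp [add_comm])).symm
  let eσ : Fin (c + 1) ≃ Unit ⊕ Fin c := (Fintype.equivFinOfCardEq (by simp [add_comm])).symm
  let Q' : Algebra.Presentation k (Localization.Away g) (Fin (n + 1)) (Fin (c + 1)) :=
    Q.reindex eι eσ
  refine ⟨n + 1, c + 1, by omega, MvPolynomial.aeval Q'.val, Q'.relation,
    Q'.aeval_val_surjective, ?_, ?_⟩
  · rw [Q'.span_range_relation_eq_ker, Algebra.Generators.ker_eq_ker_aeval_val]
    rfl
  · -- dimension
    have hJ : IsJacobsonRing S := by
      have : Algebra.FiniteType k S :=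
        Algebra.FiniteType.of_surjective φ hφ
      exact isJacobsonRing_of_finiteType (A := k)
    have hmax : ∀ m' : Ideal (Localization.Away g), m'.IsMaximal →
        m'.height = ((n - c : ℕ) : ℕ∞) := by
      intro m' hm'
      have hm'p : m'.IsPrime := hm'.isPrime
      have h1 := (IsLocalization.isMaximal_iff_isMaximal_disjoint (Localization.Away g) g m').1 hm'
      rw [← IsLocalization.height_under (Submonoid.powers g) m']
      exact height_eq_of_isMaximal_of_gci k hcn φ r hφ hker hdim _ h1.1
    have := ringKrullDim_eq_of_forall_isMaximal_height_eq (A := Localization.Away g) (n - c) hmax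
    rw [this, Nat.add_sub_add_right]

/-- A localization `S_g` of a local complete intersection over a field is a local complete
intersection. -/
theorem isLCIOver_away (g : S) (h : Synt.IsLCIOver k S) :
    Synt.IsLCIOver k (Localization.Away g) := by
  obtain ⟨hft, hloc⟩ := h
  have hft' : Algebra.FiniteType k (Localization.Away g) := by
    have : Algebra.FiniteType S (Localization.Away g) :=
      IsLocalization.finiteType_of_monoid_fg (Submonoid.powers g) _
    exact Algebra.FiniteType.trans hft this
  refine ⟨hft', fun p => ?_⟩
  obtain ⟨t, ht, hG⟩ := hloc ⟨p.asIdeal.comap (algebraMap S (Localization.Away g)), inferInstance⟩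
  refine ⟨algebraMap S (Localization.Away g) t, ht, ?_⟩
  -- `(S_t)_{g/1}` is a global complete intersection; identify it with `(S_g)_{t/1}`
  have hG' := isGlobalCI_away k (algebraMap S (Localization.Away t) g) hG
  have i1 : IsLocalization.Away (g * t)
      (Localization.Away (algebraMap S (Localization.Away g) t)) :=
    IsLocalization.Away.mul' (Localization.Away g) _ g t
  have i2 : IsLocalization.Away (g * t)
      (Localization.Away (algebraMap S (Localization.Away t) g)) :=
    IsLocalization.Away.mul (Localization.Away t) _ t g
  let e : Localization.Away (algebraMap S (Localization.Away t) g) ≃ₐ[S]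
      Localization.Away (algebraMap S (Localization.Away g) t) :=
    IsLocalization.algEquiv (Submonoid.powers (g * t)) _ _
  exact Groth.Agent.Lib.Seat41.SyntLocal.isGlobalCI_of_algEquiv k _ _ (e.restrictScalars k) hG'

end Groth.Agent.Lib.Seat42.GCILoc
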