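import Mathlib
import Groth.Prelude.Def_RegImm
import Groth.Agent.Lib.Seat42CIIdeal
import Groth.Agent.Lib.Seat42CICover
import Groth.Agent.Lib.Seat42GCILoc
import Groth.Agent.Lib.Helper28FGDim
import Groth.Agent.Lib.Helper5RLR3

/-!
# Complete intersections over a field: local rings versus basic opens (seat 42)

* `isCIOver_of_algEquiv`: transport of `Synt.IsCIOver` along algebra isomorphisms.
* `isLCIOver_of_isGlobalCI`.
* `exists_atPrime_cover`: for a surjection `φ : B → A` and a prime `𝔞` of `A`, the induced surjection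
  `B_Q → A_𝔞` (`Q = φ⁻¹ 𝔞`) with kernel `(ker φ) B_Q`.
* `isCIOver_atPrime_of_isGlobalCI`: local rings of a global complete intersection are complete
  intersections.
* `atPrimeAwayEquiv`: `(A_g)_{q A_g} ≃ A_q`.
* `exists_isGlobalCI_away_of_isCIOver_atPrime`: spreading out.
-/

set_option autoImplicit false
universe u

open IsLocalRing RingTheory.Sequence

namespace Groth.Agent.Lib.Seat42.CISpread

open Groth.Agent.Lib.Seat42.CIIdeal Groth.Agent.Lib.Seat42.CICover Groth.Agent.Lib.Helper28

section Transport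

variable (k : Type u) [Field k]

/-- `Synt.IsCIOver` is invariant under algebra isomorphisms. -/
theorem isCIOver_of_algEquiv (S S' : Type u) [CommRing S] [CommRing S'] [IsLocalRing S]
    [IsLocalRing S'] [Algebra k S] [Algebra k S'] (e : S ≃ₐ[k] S') (h : Synt.IsCIOver k S) :
    Synt.IsCIOver k S' := by
  obtain ⟨R, i1, i2, i3, hess, rs, hmem, hreg, ⟨e'⟩⟩ := h
  exact ⟨R, i1, i2, i3, hess, rs, hmem, hreg, ⟨e.symm.trans e'⟩⟩

/-- A finite type global complete intersection is a local complete intersection. -/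
theorem isLCIOver_of_isGlobalCI (S : Type u) [CommRing S] [Algebra k S]
    [Algebra.FiniteType k S] (h : Synt.IsGlobalCI k S) : Synt.IsLCIOver k S := by
  refine ⟨inferInstance, fun p => ⟨1, ?_, ?_⟩⟩
  · intro h1
    exact p.2.ne_top ((Ideal.eq_top_iff_one _).mpr h1)
  · exact Groth.Agent.Lib.Seat42.GCILoc.isGlobalCI_away k 1 h

end Transport

section AtPrimeCover

variable {k : Type u} [CommRing k] {B A : Type u} [CommRing B] [CommRing A] [Algebra k B]
  [Algebra k A]

/-- For a surjection `φ : B → A` and a prime `𝔞` of `A` with preimage `Q`, the induced map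
`B_Q → A_𝔞` is surjective with kernel `(ker φ) B_Q`. -/
theorem exists_atPrime_cover (φ : B →ₐ[k] A) (hφ : Function.Surjective φ) (𝔞 : Ideal A)
    [𝔞.IsPrime] (Q : Ideal B) [Q.IsPrime] (hQ : Q = 𝔞.comap φ.toRingHom) :
    ∃ ρ : Localization.AtPrime Q →ₐ[k] Localization.AtPrime 𝔞, Function.Surjective ρ ∧
      (∀ b, ρ (algebraMap B (Localization.AtPrime Q) b) =
        algebraMap A (Localization.AtPrime 𝔞) (φ b)) ∧
      RingHom.ker ρ.toRingHom =
        (RingHom.ker φ.toRingHom).map (algebraMap B (Localization.AtPrime Q)) := by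
  let a : B →ₐ[k] Localization.AtPrime 𝔞 :=
    (IsScalarTower.toAlgHom k A (Localization.AtPrime 𝔞)).comp φ
  have ha_apply : ∀ b, a b = algebraMap A (Localization.AtPrime 𝔞) (φ b) := fun b => rfl
  have hQ' : Q = primeOf a := by
    rw [hQ]
    show 𝔞.comap φ.toRingHom = (maximalIdeal (Localization.AtPrime 𝔞)).comap a.toRingHom
    have h1 : (maximalIdeal (Localization.AtPrime 𝔞)).comap a.toRingHom =
        ((maximalIdeal (Localization.AtPrime 𝔞)).comap
          (algebraMap A (Localization.AtPrime 𝔞))).comap φ.toRingHom := by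
      rw [Ideal.comap_comap]; rfl
    have h0 : (maximalIdeal (Localization.AtPrime 𝔞)).comap
        (algebraMap A (Localization.AtPrime 𝔞)) = 𝔞 :=
      IsLocalization.AtPrime.under_maximalIdeal (Localization.AtPrime 𝔞) 𝔞
    rw [h1, h0]
  have hcond : ∀ x : Localization.AtPrime 𝔞, ∃ p q : B, IsUnit (a p) ∧ x * a p = a q := by
    intro x
    obtain ⟨y, s, rfl⟩ := IsLocalization.exists_mk'_eq 𝔞.primeCompl x
    obtain ⟨q, rfl⟩ := hφ y
    obtain ⟨p, hp⟩ := hφ (s : A)
    refine ⟨p, q, ?_, ?_⟩
    · rw [ha_apply, hp]; exact IsLocalization.map_units _ s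
    · rw [ha_apply, ha_apply, hp]; exact IsLocalization.mk'_spec _ _ _
  obtain ⟨ρ, hρ, hρa, hker⟩ := exists_locLift_of_eq a hcond Q hQ'
  refine ⟨ρ, hρ, hρa, ?_⟩
  rw [hker]
  apply le_antisymm
  · rw [Ideal.map_le_iff_le_comap]
    intro b hb
    rw [Ideal.mem_comap]
    have hb' : algebraMap A (Localization.AtPrime 𝔞) (φ b) = 0 := hb
    rw [IsLocalization.map_eq_zero_iff 𝔞.primeCompl] at hb'
    obtain ⟨s, hs⟩ := hb'
    obtain ⟨p, hp⟩ := hφ (s : A)
    have hpQ : p ∈ Q.primeCompl := by
      intro hmem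
      have hmem' : p ∈ Q := hmem
      rw [hQ, Ideal.mem_comap] at hmem'
      have : φ p ∈ 𝔞 := hmem'
      rw [hp] at this
      exact s.2 this
    have hpb : p * b ∈ RingHom.ker φ.toRingHom := by
      rw [RingHom.mem_ker]
      show φ (p * b) = 0
      rw [map_mul, hp]; exact hs
    have h2 := Ideal.mem_map_of_mem (algebraMap B (Localization.AtPrime Q)) hpb
    rw [map_mul] at h2
    exact (Ideal.unit_mul_mem_iff_mem _ (IsLocalization.map_units _ ⟨p, hpQ⟩)).mp h2
  · apply Ideal.map_mono
    intro b hb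
    rw [RingHom.mem_ker] at hb ⊢
    show a b = 0
    rw [ha_apply]
    have : φ b = 0 := hb
    rw [this, map_zero]

end AtPrimeCover

section LocLoc

variable (k : Type u) [CommRing k] {A : Type u} [CommRing A] [Algebra k A]

/-- The prime of `A_g` attached to a prime of `A` not containing `g`. -/
theorem isPrime_map_away (g : A) (q : Ideal A) [hq : q.IsPrime] (hg : g ∉ q) :
    (q.map (algebraMap A (Localization.Away g))).IsPrime := by
  apply IsLocalization.isPrime_of_isPrime_disjoint (Submonoid.powers g) _ q hq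
  rw [Set.disjoint_left]
  rintro x ⟨m, rfl⟩ hx
  exact hg (hq.mem_of_pow_mem m hx)

theorem comap_map_away (g : A) (q : Ideal A) [hq : q.IsPrime] (hg : g ∉ q) :
    (q.map (algebraMap A (Localization.Away g))).comap (algebraMap A (Localization.Away g)) = q := by
  apply IsLocalization.under_map_of_isPrime_disjoint (Submonoid.powers g) _ hq
  rw [Set.disjoint_left]
  rintro x ⟨m, rfl⟩ hx
  exact hg (hq.mem_of_pow_mem m hx)

/-- `(A_g)_{q A_g} ≃ A_q`. -/
theorem nonempty_atPrime_away_equiv (g : A) (q : Ideal A) [hq : q.IsPrime] (hg : g ∉ q)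
    (q' : Ideal (Localization.Away g)) [hq' : q'.IsPrime]
    (hqq' : q' = q.map (algebraMap A (Localization.Away g))) :
    Nonempty (Localization.AtPrime q' ≃ₐ[k] Localization.AtPrime q) := by
  have hc : q'.comap (algebraMap A (Localization.Away g)) = q := by
    rw [hqq']; exact comap_map_away g q hg
  have h2 := IsLocalization.isLocalization_isLocalization_atPrime_isLocalization
    (M := Submonoid.powers g) (Localization.AtPrime q') q'
  have key : ∀ (p' : Ideal A) [p'.IsPrime], p' = q →
      IsLocalization.AtPrime (Localization.AtPrime q') p' →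
      Nonempty (Localization.AtPrime q' ≃ₐ[k] Localization.AtPrime q) := by
    intro p' hp' he h3
    subst he
    exact ⟨(IsLocalization.algEquiv p'.primeCompl
      (Localization.AtPrime q') (Localization.AtPrime p')).restrictScalars k⟩
  exact key _ hc h2

end LocLoc


section Aux

/-- If `I B_M ⊆ J B_M` with `I` finitely generated, a single element of `M` multiplies `I` into
`J`. -/
theorem exists_forall_mul_mem_of_map_le {B : Type u} [CommRing B] (M : Submonoid B) (P : Type u)
    [CommRing P] [Algebra B P] [IsLocalization M P] (I J : Ideal B) (hI : I.FG)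
    (h : I.map (algebraMap B P) ≤ J.map (algebraMap B P)) : ∃ s ∈ M, ∀ b ∈ I, s * b ∈ J := by
  classical
  obtain ⟨T, hT⟩ := hI
  have key : ∀ b ∈ T, ∃ s ∈ M, s * b ∈ J := by
    intro b hb
    have hbI : b ∈ I := hT ▸ Ideal.subset_span hb
    have h1 := h (Ideal.mem_map_of_mem (algebraMap B P) hbI)
    rw [IsLocalization.mem_map_algebraMap_iff M P] at h1
    obtain ⟨⟨x, m⟩, hx⟩ := h1
    rw [← map_mul, IsLocalization.eq_iff_exists M P] at hx
    obtain ⟨c, hc⟩ := hx
    refine ⟨c * m, M.mul_mem c.2 m.2, ?_⟩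
    have : (c : B) * m * b = c * (b * m) := by ring
    rw [this, hc]
    exact J.mul_mem_left _ x.2
  choose! sfun hsM hsJ using key
  refine ⟨∏ b ∈ T, sfun b, Submonoid.prod_mem M (fun b hb => hsM b hb), ?_⟩
  intro b hb
  rw [← hT] at hb
  refine Submodule.span_induction (p := fun b _ => (∏ b ∈ T, sfun b) * b ∈ J)
    ?_ ?_ ?_ ?_ hb
  · intro x hx
    obtain ⟨d, hd⟩ := Finset.dvd_prod_of_mem sfun hx
    rw [hd]
    have : sfun x * d * x = d * (sfun x * x) := by ring
    rw [this]
    exact J.mul_mem_left _ (hsJ x hx)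
  · rw [mul_zero]; exact J.zero_mem
  · intro x y _ _ hx hy
    rw [mul_add]; exact J.add_mem hx hy
  · intro t x _ hx
    rw [smul_eq_mul, mul_left_comm]
    exact J.mul_mem_left _ hx

/-- An element outside the prime `Q` lying in all the minimal primes of `I` not contained in
`Q`. -/
theorem exists_not_mem_minimalPrimes {B : Type u} [CommRing B] [IsNoetherianRing B]
    (I Q : Ideal B) [hQ : Q.IsPrime] :
    ∃ h ∉ Q, ∀ 𝔭 ∈ I.minimalPrimes, h ∉ 𝔭 → 𝔭 ≤ Q := by
  classical
  by_contra hcon
  push Not at hcon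
  let F : Finset (Ideal B) :=
    (I.finite_minimalPrimes_of_isNoetherianRing B).toFinset.filter (fun 𝔭 => ¬ 𝔭 ≤ Q)
  have hle : F.inf id ≤ Q := by
    intro h hh
    by_contra hhQ
    obtain ⟨𝔭, h𝔭, hn, hnQ⟩ := hcon h hhQ
    have hmem : 𝔭 ∈ F := by
      rw [Finset.mem_filter, Set.Finite.mem_toFinset]
      exact ⟨h𝔭, hnQ⟩
    exact hn ((Finset.inf_le hmem : F.inf id ≤ id 𝔭) hh)
  obtain ⟨𝔭, h𝔭F, h𝔭Q⟩ := (Ideal.IsPrime.inf_le' hQ).mp hle
  rw [Finset.mem_filter] at h𝔭F
  exact h𝔭F.2 h𝔭Q

/-- Generators of `I B_Q` coming from `I`, when `I B_Q` is generated by a regular sequence. -/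
theorem exists_generators_of_isCI {B : Type u} [CommRing B] (Q : Ideal B) [Q.IsPrime]
    [IsRegularLocalRing (Localization.AtPrime Q)] (I : Ideal B)
    (h : IsCI (Localization.AtPrime Q) (I.map (algebraMap B (Localization.AtPrime Q)))) :
    ∃ (c : ℕ) (a : Fin c → B), (∀ j, a j ∈ I) ∧
      (Ideal.span (Set.range a)).map (algebraMap B (Localization.AtPrime Q)) =
        I.map (algebraMap B (Localization.AtPrime Q)) ∧
      (c : ℕ∞) ≤ (I.map (algebraMap B (Localization.AtPrime Q))).height := by
  classical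
  obtain ⟨rs, hrs, hreg⟩ := h
  have hN : IsNoetherianRing (Localization.AtPrime Q) := inferInstance
  have hCM : LocCoh.IsCohenMacaulayLocalRing (Localization.AtPrime Q) :=
    Groth.Agent.Lib.Helper5.isCohenMacaulayLocalRing_of_isRegularLocalRing _
  have hmemrs : ∀ j : Fin rs.length, rs[j] ∈ Ideal.ofList rs :=
    fun j => Ideal.subset_span (List.getElem_mem j.2)
  have hex : ∀ j : Fin rs.length, ∃ x : I × Q.primeCompl,
      rs[j] * algebraMap B (Localization.AtPrime Q) x.2 =
        algebraMap B (Localization.AtPrime Q) x.1 := by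
    intro j
    have := hmemrs j
    rw [hrs, IsLocalization.mem_map_algebraMap_iff Q.primeCompl] at this
    exact this
  choose x hx using hex
  refine ⟨rs.length, fun j => ((x j).1 : B), fun j => (x j).1.2, ?_, ?_⟩
  · rw [Ideal.map_span, ← hrs]
    apply le_antisymm
    · rw [Ideal.span_le]
      rintro _ ⟨_, ⟨j, rfl⟩, rfl⟩
      show algebraMap B (Localization.AtPrime Q) ((x j).1 : B) ∈ Ideal.ofList rs
      rw [← hx j]
      exact Ideal.mul_mem_right _ _ (hmemrs j)
    · unfold Ideal.ofList
      rw [Ideal.span_le]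
      intro y hy
      obtain ⟨j, hj, rfl⟩ := List.getElem_of_mem hy
      have hu : IsUnit (algebraMap B (Localization.AtPrime Q) ((x ⟨j, hj⟩).2 : B)) :=
        IsLocalization.map_units _ (x ⟨j, hj⟩).2
      rw [SetLike.mem_coe, ← Ideal.mul_unit_mem_iff_mem _ hu]
      have := hx ⟨j, hj⟩
      rw [show rs[(⟨j, hj⟩ : Fin rs.length)] = rs[j] from rfl] at this
      rw [this]
      exact Ideal.subset_span ⟨_, ⟨⟨j, hj⟩, rfl⟩, rfl⟩
  · rw [← hrs]
    have hne : Ideal.ofList rs ≠ ⊤ := by
      intro htop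
      apply hreg.2
      rw [htop]
      simp
    have h1 := height_add_ringKrullDim_quotient_eq_of_isCohenMacaulayLocalRing
      (Ideal.ofList rs) hne
    have h2 := ringKrullDim_add_length_eq_ringKrullDim_of_isRegular rs hreg
    have hloc : IsLocalRing (Localization.AtPrime Q ⧸ Ideal.ofList rs) :=
      Groth.Agent.Lib.Helper5.isLocalRing_quotient hne
    obtain ⟨d, hd⟩ := Groth.Agent.Lib.Helper5.exists_nat_ringKrullDim_eq (Localization.AtPrime Q)
    obtain ⟨e, he⟩ := Groth.Agent.Lib.Helper5.exists_nat_ringKrullDim_eq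
      (Localization.AtPrime Q ⧸ Ideal.ofList rs)
    obtain ⟨t, ht⟩ := ENat.ne_top_iff_exists.mp (Ideal.height_ne_top hne)
    rw [hd, he, ← ht] at h1
    rw [hd, he] at h2
    have h1' : t + e = d := by exact_mod_cast h1
    have h2' : e + rs.length = d := by exact_mod_cast h2
    rw [← ht]
    have : rs.length ≤ t := by omega
    exact_mod_cast this

end Aux

section Height

variable (k : Type u) [Field k] {S : Type u} [CommRing S] [Algebra k S]

/-- A maximal ideal of `k[x_1..x_n]/(f_1..f_c)` around which the ideal of relations has height at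
least `c` has height `n - c`. -/
theorem height_add_eq_of_isMaximal {n c : ℕ} (φ : MvPolynomial (Fin n) k →ₐ[k] S)
    (r : Fin c → MvPolynomial (Fin n) k) (hφ : Function.Surjective φ)
    (hker : RingHom.ker φ.toRingHom = Ideal.span (Set.range r))
    (m : Ideal S) (hm : m.IsMaximal)
    (hc : ∀ 𝔭 : Ideal (MvPolynomial (Fin n) k), 𝔭.IsPrime → RingHom.ker φ.toRingHom ≤ 𝔭 →
      𝔭 ≤ m.comap φ.toRingHom → (c : ℕ∞) ≤ 𝔭.height) :
    m.height + (c : ℕ∞) = (n : ℕ∞) := by
  classical
  have hk : LocCoh.IsCohenMacaulayRing k := isCohenMacaulayRing_of_field k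
  have hP : LocCoh.IsCohenMacaulayRing (MvPolynomial (Fin n) k) :=
    isCohenMacaulayRing_mvPolynomial_fin n
  have hmp : m.IsPrime := hm.isPrime
  set I : Ideal (MvPolynomial (Fin n) k) := RingHom.ker φ.toRingHom with hI
  let e : (MvPolynomial (Fin n) k ⧸ I) ≃+* S :=
    RingHom.quotientKerEquivOfSurjective (f := φ.toRingHom) hφ
  set m' : Ideal (MvPolynomial (Fin n) k ⧸ I) := m.comap e with hm'
  have hm'max : m'.IsMaximal := Ideal.comap_isMaximal_of_surjective e e.surjective
  have hm'p : m'.IsPrime := hm'max.isPrime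
  have hht : m'.height = m.height := e.height_comap m
  have hMmax : (m'.comap (Ideal.Quotient.mk I)).IsMaximal :=
    Ideal.comap_isMaximal_of_surjective _ Ideal.Quotient.mk_surjective
  have hMp : (m'.comap (Ideal.Quotient.mk I)).IsPrime := hMmax.isPrime
  have hMeq : m'.comap (Ideal.Quotient.mk I) = m.comap φ.toRingHom := by
    ext x
    rw [Ideal.mem_comap, hm', Ideal.mem_comap, Ideal.mem_comap]
    rfl
  have hIM : I ≤ m'.comap (Ideal.Quotient.mk I) := by
    intro x hx
    rw [Ideal.mem_comap, Ideal.Quotient.eq_zero_iff_mem.mpr hx]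
    exact m'.zero_mem
  have h1 := height_comap_eq_height_add_height_map I m'
  rw [height_eq_of_isMaximal_mvPolynomial_fin k n _ hMmax] at h1
  have hne : I.map (algebraMap _ (Localization.AtPrime (m'.comap (Ideal.Quotient.mk I)))) ≠ ⊤ := by
    intro htop
    have hle : I.map (algebraMap _ (Localization.AtPrime (m'.comap (Ideal.Quotient.mk I)))) ≤
        IsLocalRing.maximalIdeal (Localization.AtPrime (m'.comap (Ideal.Quotient.mk I))) := by
      rw [← Localization.AtPrime.map_eq_maximalIdeal]
      exact Ideal.map_mono hIM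
    rw [htop] at hle
    exact (IsLocalRing.maximalIdeal.isMaximal _).ne_top (top_le_iff.mp hle)
  have h2 : (I.map (algebraMap _
      (Localization.AtPrime (m'.comap (Ideal.Quotient.mk I))))).height ≤ (c : ℕ∞) := by
    refine (Ideal.height_le_spanFinrank _ hne).trans ?_
    have hmapI : ∀ (J : Ideal (MvPolynomial (Fin n) k))
        (f : MvPolynomial (Fin n) k →+*
          Localization.AtPrime (m'.comap (Ideal.Quotient.mk I))),
        J = Ideal.span (Set.range r) → J.map f = Ideal.span (f '' Set.range r) :=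
      fun J f h => by rw [h, Ideal.map_span]
    rw [hmapI I _ hker]
    have hfin : ((algebraMap (MvPolynomial (Fin n) k)
        (Localization.AtPrime (m'.comap (Ideal.Quotient.mk I)))) ''
        Set.range r).Finite := (Set.finite_range r).image _
    have h3 := Submodule.spanFinrank_span_le_ncard_of_finite
      (R := Localization.AtPrime (m'.comap (Ideal.Quotient.mk I))) hfin
    have h4 : ((algebraMap (MvPolynomial (Fin n) k)
        (Localization.AtPrime (m'.comap (Ideal.Quotient.mk I)))) ''
        Set.range r).ncard ≤ c := by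
      refine (Set.ncard_image_le (Set.finite_range r)).trans ?_
      have : Set.range r = ((Finset.univ.image r : Finset _) : Set _) := by
        ext x; simp
      rw [this, Set.ncard_coe_finset]
      exact (Finset.card_image_le).trans (by simp)
    exact_mod_cast h3.trans h4
  have h6 : (c : ℕ∞) ≤ (I.map (algebraMap _
      (Localization.AtPrime (m'.comap (Ideal.Quotient.mk I))))).height := by
    rw [Ideal.height_eq_inf_minimalPrimes]
    refine le_iInf₂ (fun J hJ => ?_)
    have hJp : J.IsPrime := hJ.1.1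
    rw [← IsLocalization.height_under (m'.comap (Ideal.Quotient.mk I)).primeCompl J]
    have hJup : (J.under (MvPolynomial (Fin n) k)).IsPrime := Ideal.comap_isPrime _ _
    refine hc _ hJup ?_ ?_
    · exact (Ideal.le_comap_map).trans (Ideal.comap_mono hJ.1.2)
    · rw [← hMeq]
      have hJle : J ≤ IsLocalRing.maximalIdeal
          (Localization.AtPrime (m'.comap (Ideal.Quotient.mk I))) :=
        IsLocalRing.le_maximalIdeal hJp.ne_top
      have h0 : (IsLocalRing.maximalIdeal
          (Localization.AtPrime (m'.comap (Ideal.Quotient.mk I)))).comap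
          (algebraMap _ (Localization.AtPrime (m'.comap (Ideal.Quotient.mk I)))) =
          m'.comap (Ideal.Quotient.mk I) :=
        IsLocalization.AtPrime.under_maximalIdeal _ _
      exact (Ideal.comap_mono hJle).trans h0.le
  have h7 : (I.map (algebraMap _
      (Localization.AtPrime (m'.comap (Ideal.Quotient.mk I))))).height = (c : ℕ∞) :=
    le_antisymm h2 h6
  rw [h7, hht] at h1
  exact h1.symm

/-- Variant of `isGlobalCI_away` where only the maximal ideals not containing `g` are controlled. -/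
theorem isGlobalCI_away_of_height {n c : ℕ} (hcn : c ≤ n)
    (φ : MvPolynomial (Fin n) k →ₐ[k] S)
    (r : Fin c → MvPolynomial (Fin n) k) (hφ : Function.Surjective φ)
    (hker : RingHom.ker φ.toRingHom = Ideal.span (Set.range r)) (g : S)
    [Nontrivial (Localization.Away g)]
    (hmax : ∀ m : Ideal S, m.IsMaximal → g ∉ m → m.height = ((n - c : ℕ) : ℕ∞)) :
    Synt.IsGlobalCI k (Localization.Away g) := by
  classical
  right
  let P := Groth.Agent.Lib.Seat42.GCILoc.presOf k φ r hφ hker
  let Q := (Algebra.Presentation.localizationAway (Localization.Away g) g).comp P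
  let eι : Fin (n + 1) ≃ Unit ⊕ Fin n := (Fintype.equivFinOfCardEq (by simp [add_comm])).symm
  let eσ : Fin (c + 1) ≃ Unit ⊕ Fin c := (Fintype.equivFinOfCardEq (by simp [add_comm])).symm
  let Q' : Algebra.Presentation k (Localization.Away g) (Fin (n + 1)) (Fin (c + 1)) :=
    Q.reindex eι eσ
  refine ⟨n + 1, c + 1, by omega, MvPolynomial.aeval Q'.val, Q'.relation,
    Q'.aeval_val_surjective, ?_, ?_⟩
  · rw [Q'.span_range_relation_eq_ker, Algebra.Generators.ker_eq_ker_aeval_val]
    rfl
  · have hJ : IsJacobsonRing S := by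
      have : Algebra.FiniteType k S :=
        Algebra.FiniteType.of_surjective φ hφ
      exact isJacobsonRing_of_finiteType (A := k)
    have hmax' : ∀ m' : Ideal (Localization.Away g), m'.IsMaximal →
        m'.height = ((n - c : ℕ) : ℕ∞) := by
      intro m' hm'
      have hm'p : m'.IsPrime := hm'.isPrime
      have h1 := (IsLocalization.isMaximal_iff_isMaximal_disjoint (Localization.Away g) g m').1 hm'
      rw [← IsLocalization.height_under (Submonoid.powers g) m']
      exact hmax _ h1.1 h1.2
    have := ringKrullDim_eq_of_forall_isMaximal_height_eq (A := Localization.Away g) (n - c) hmax'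
    rw [this, Nat.add_sub_add_right]

end Height

section L41

variable (k : Type u) [Field k]

/-- The local rings of a global complete intersection are complete intersections. -/
theorem isCIOver_atPrime_of_isGlobalCI (A : Type u) [CommRing A] [Algebra k A]
    (h : Synt.IsGlobalCI k A) (𝔞 : Ideal A) [h𝔞 : 𝔞.IsPrime] :
    Synt.IsCIOver k (Localization.AtPrime 𝔞) := by
  classical
  rcases h with hs | ⟨n, c, hcn, φ, r, hφ, hker, hdim⟩
  · exact absurd h𝔞.ne_top (by rw [Ne, not_not]; exact Subsingleton.elim _ _)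
  have hk : LocCoh.IsCohenMacaulayRing k := isCohenMacaulayRing_of_field k
  have hS : LocCoh.IsCohenMacaulayRing (MvPolynomial (Fin n) k) :=
    isCohenMacaulayRing_mvPolynomial_fin n
  set xs : List (MvPolynomial (Fin n) k) := List.ofFn r with hxs
  have hof : RingHom.ker φ.toRingHom = Ideal.ofList xs := by
    rw [hker]
    unfold Ideal.ofList
    congr 1
    ext x
    simp [hxs, List.mem_ofFn]
  have hlen : xs.length = c := by simp [hxs]
  have hKtop : RingHom.ker φ.toRingHom ≠ ⊤ := by
    intro htop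
    have : (1 : MvPolynomial (Fin n) k) ∈ RingHom.ker φ.toRingHom := by rw [htop]; trivial
    rw [RingHom.mem_ker, map_one] at this
    have hsub : Subsingleton A := subsingleton_of_zero_eq_one this.symm
    exact h𝔞.ne_top (Subsingleton.elim _ _)
  let e : (MvPolynomial (Fin n) k ⧸ RingHom.ker φ.toRingHom) ≃+* A :=
    RingHom.quotientKerEquivOfSurjective (f := φ.toRingHom) hφ
  have h1 := height_add_ringKrullDim_quotient_eq_of_forall_isMaximal_height_eq' n
    (height_eq_of_isMaximal_mvPolynomial_fin k n) _ hKtop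
  rw [ringKrullDim_eq_of_ringEquiv e, hdim] at h1
  have h2 : (RingHom.ker φ.toRingHom).height + ((n - c : ℕ) : ℕ∞) = (n : ℕ∞) := by
    have : (((RingHom.ker φ.toRingHom).height + ((n - c : ℕ) : ℕ∞) : ℕ∞) : WithBot ℕ∞) =
        ((n : ℕ∞) : WithBot ℕ∞) := by
      rw [WithBot.coe_add]; exact h1
    exact WithBot.coe_injective this
  have h3 : (xs.length : ℕ∞) ≤ (Ideal.ofList xs).height := by
    rw [hlen, ← hof]
    have h4 : ((c : ℕ∞) + ((n - c : ℕ) : ℕ∞)) = (n : ℕ∞) := by
      have : c + (n - c) = n := by omega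
      exact_mod_cast this
    rw [← h4] at h2
    exact le_of_eq ((ENat.add_left_injective_of_ne_top (ENat.natCast_ne_top (n - c))) h2).symm
  have hQp : (𝔞.comap φ.toRingHom).IsPrime := inferInstance
  have hle : Ideal.ofList xs ≤ 𝔞.comap φ.toRingHom := by
    rw [← hof]
    intro x hx
    rw [Ideal.mem_comap, (RingHom.mem_ker).mp hx]
    exact 𝔞.zero_mem
  have hreg := isRegular_map_localization_of_length_le_height xs h3 (𝔞.comap φ.toRingHom) hle
  obtain ⟨ρ, hρ, -, hkerρ⟩ := exists_atPrime_cover φ hφ 𝔞 (𝔞.comap φ.toRingHom) rfl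
  have hess : Algebra.EssFiniteType k (Localization.AtPrime (𝔞.comap φ.toRingHom)) := by
    have : Algebra.EssFiniteType (MvPolynomial (Fin n) k)
        (Localization.AtPrime (𝔞.comap φ.toRingHom)) :=
      Algebra.EssFiniteType.of_isLocalization _ (𝔞.comap φ.toRingHom).primeCompl
    exact Algebra.EssFiniteType.comp k (MvPolynomial (Fin n) k) _
  refine isCIOver_of_isCI k _ (Localization.AtPrime (𝔞.comap φ.toRingHom)) ρ hρ
    ⟨xs.map (algebraMap _ _), ?_, hreg⟩
  rw [hkerρ, hof, Ideal.map_ofList]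

end L41

section AwayIso

variable {k : Type u} [CommRing k] {B S : Type u} [CommRing B] [CommRing S] [Algebra k B]
  [Algebra k S]

/-- If `J ⊆ I = ker φ` and `g₀ I ⊆ J`, then `(B/J)_{g₀} ≃ S_{φ g₀}`. -/
theorem nonempty_away_quotient_equiv (φ : B →ₐ[k] S) (hφ : Function.Surjective φ) (J : Ideal B)
    (hJ : J ≤ RingHom.ker φ.toRingHom) (g₀ : B)
    (hg₀ : ∀ b ∈ RingHom.ker φ.toRingHom, g₀ * b ∈ J) :
    Nonempty (Localization.Away (Ideal.Quotient.mk J g₀) ≃ₐ[k] Localization.Away (φ g₀)) := by
  let ψ : (B ⧸ J) →ₐ[k] S := Ideal.Quotient.liftₐ J φ (fun a ha => hJ ha)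
  have hψ : ∀ b : B, ψ (Ideal.Quotient.mk J b) = φ b := fun b => rfl
  let f : (B ⧸ J) →ₐ[k] Localization.Away (φ g₀) :=
    (IsScalarTower.toAlgHom k S (Localization.Away (φ g₀))).comp ψ
  have hf : ∀ b : B, f (Ideal.Quotient.mk J b) = algebraMap S (Localization.Away (φ g₀)) (φ b) :=
    fun b => rfl
  have hunit : ∀ y : Submonoid.powers (Ideal.Quotient.mk J g₀), IsUnit (f y) := by
    rintro ⟨_, m, rfl⟩
    show IsUnit (f ((Ideal.Quotient.mk J g₀) ^ m))
    rw [← map_pow, hf, map_pow, map_pow]
    exact (IsLocalization.Away.algebraMap_isUnit (φ g₀)).pow m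
  let F : Localization.Away (Ideal.Quotient.mk J g₀) →ₐ[k] Localization.Away (φ g₀) :=
    IsLocalization.liftAlgHom (M := Submonoid.powers (Ideal.Quotient.mk J g₀)) (f := f) hunit
  have hF : ∀ (x : B ⧸ J) (y : Submonoid.powers (Ideal.Quotient.mk J g₀)) (v),
      F (IsLocalization.mk' _ x y) = v ↔ f x = f y * v :=
    fun x y v => IsLocalization.lift_mk'_spec _ _ _ _
  refine ⟨AlgEquiv.ofBijective F ⟨?_, ?_⟩⟩
  · rw [injective_iff_map_eq_zero]
    intro z hz
    obtain ⟨x, y, rfl⟩ := IsLocalization.exists_mk'_eq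
      (Submonoid.powers (Ideal.Quotient.mk J g₀)) z
    obtain ⟨b, rfl⟩ := Ideal.Quotient.mk_surjective x
    rw [hF, mul_zero, hf, IsLocalization.map_eq_zero_iff (Submonoid.powers (φ g₀))] at hz
    obtain ⟨⟨_, m, rfl⟩, hm⟩ := hz
    rw [IsLocalization.mk'_eq_zero_iff]
    refine ⟨⟨(Ideal.Quotient.mk J g₀) ^ (m + 1), m + 1, rfl⟩, ?_⟩
    show (Ideal.Quotient.mk J g₀) ^ (m + 1) * Ideal.Quotient.mk J b = 0
    rw [← map_pow, ← map_mul, Ideal.Quotient.eq_zero_iff_mem, pow_succ', mul_assoc]
    apply hg₀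
    rw [RingHom.mem_ker]
    show φ (g₀ ^ m * b) = 0
    rw [map_mul, map_pow]
    exact hm
  · intro t
    obtain ⟨x, ⟨_, m, rfl⟩, rfl⟩ := IsLocalization.exists_mk'_eq (Submonoid.powers (φ g₀)) t
    obtain ⟨b, rfl⟩ := hφ x
    refine ⟨IsLocalization.mk' _ (Ideal.Quotient.mk J b)
      (⟨(Ideal.Quotient.mk J g₀) ^ m, m, rfl⟩ : Submonoid.powers (Ideal.Quotient.mk J g₀)), ?_⟩
    show F _ = _
    rw [hF]
    show f (Ideal.Quotient.mk J b) = f ((Ideal.Quotient.mk J g₀) ^ m) * _
    rw [← map_pow, hf, hf, map_pow, mul_comm]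
    exact (IsLocalization.mk'_spec _ _ _).symm

end AwayIso

section Spread

variable (k : Type u) [Field k]

/-- Spreading out: if the local ring `S_q` of a finite type `k`-algebra is a complete intersection,
some basic open neighbourhood `S_g` is a global complete intersection. -/
theorem exists_isGlobalCI_away_of_isCIOver_atPrime (S : Type u) [CommRing S] [Algebra k S]
    [Algebra.FiniteType k S] (q : Ideal S) [hq : q.IsPrime]
    (h : Synt.IsCIOver k (Localization.AtPrime q)) :
    ∃ g : S, g ∉ q ∧ Synt.IsGlobalCI k (Localization.Away g) := by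
  classical
  obtain ⟨n, φ, hφ⟩ := Algebra.FiniteType.iff_quotient_mvPolynomial''.mp
    (inferInstance : Algebra.FiniteType k S)
  have hk : LocCoh.IsCohenMacaulayRing k := isCohenMacaulayRing_of_field k
  have hB : LocCoh.IsCohenMacaulayRing (MvPolynomial (Fin n) k) :=
    isCohenMacaulayRing_mvPolynomial_fin n
  have hQp : (q.comap φ.toRingHom).IsPrime := inferInstance
  obtain ⟨ρ, hρ, -, hkerρ⟩ := exists_atPrime_cover φ hφ q (q.comap φ.toRingHom) rfl
  have hess : Algebra.EssFiniteType k (Localization.AtPrime (q.comap φ.toRingHom)) := by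
    have : Algebra.EssFiniteType (MvPolynomial (Fin n) k)
        (Localization.AtPrime (q.comap φ.toRingHom)) :=
      Algebra.EssFiniteType.of_isLocalization _ (q.comap φ.toRingHom).primeCompl
    exact Algebra.EssFiniteType.comp k (MvPolynomial (Fin n) k) _
  have hci := isCI_ker_of_isCIOver k _ h (Localization.AtPrime (q.comap φ.toRingHom)) ρ hρ
  rw [hkerρ] at hci
  obtain ⟨c, a, haI, hspan, hht⟩ :=
    exists_generators_of_isCI (q.comap φ.toRingHom) (RingHom.ker φ.toRingHom) hci
  have hJI : Ideal.span (Set.range a) ≤ RingHom.ker φ.toRingHom := by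
    rw [Ideal.span_le]
    rintro _ ⟨j, rfl⟩
    exact haI j
  obtain ⟨s, hsQ, hs⟩ := exists_forall_mul_mem_of_map_le (q.comap φ.toRingHom).primeCompl
    (Localization.AtPrime (q.comap φ.toRingHom)) (RingHom.ker φ.toRingHom)
    (Ideal.span (Set.range a)) (IsNoetherian.noetherian _) hspan.ge
  obtain ⟨h', hh'Q, hh'⟩ :=
    exists_not_mem_minimalPrimes (RingHom.ker φ.toRingHom) (q.comap φ.toRingHom)
  have hg₀Q : s * h' ∉ q.comap φ.toRingHom :=
    fun hmem => (hQp.mem_or_mem hmem).elim hsQ hh'Q
  have hg₀ : ∀ b ∈ RingHom.ker φ.toRingHom, s * h' * b ∈ Ideal.span (Set.range a) := by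
    intro b hb
    have : s * h' * b = h' * (s * b) := by ring
    rw [this]
    exact Ideal.mul_mem_left _ _ (hs b hb)
  refine ⟨φ (s * h'), fun hmem => hg₀Q (Ideal.mem_comap.mpr hmem), ?_⟩
  obtain ⟨eiso⟩ := nonempty_away_quotient_equiv φ hφ (Ideal.span (Set.range a)) hJI (s * h') hg₀
  refine Groth.Agent.Lib.Seat41.SyntLocal.isGlobalCI_of_algEquiv k _ _ eiso ?_
  have hnt : Nontrivial (Localization.Away (φ (s * h'))) := by
    have hp := isPrime_map_away (φ (s * h')) q (fun hmem => hg₀Q (Ideal.mem_comap.mpr hmem))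
    exact ⟨⟨0, 1, fun h01 => hp.ne_top ((Ideal.eq_top_iff_one _).mpr (h01 ▸ Ideal.zero_mem _))⟩⟩
  have hnt' : Nontrivial (Localization.Away
      (Ideal.Quotient.mk (Ideal.span (Set.range a)) (s * h'))) := eiso.toEquiv.nontrivial
  have hsurj : Function.Surjective (Ideal.Quotient.mkₐ k (Ideal.span (Set.range a))) :=
    Ideal.Quotient.mkₐ_surjective k _
  have hker' : RingHom.ker (Ideal.Quotient.mkₐ k (Ideal.span (Set.range a))).toRingHom =
      Ideal.span (Set.range a) := Ideal.Quotient.mkₐ_ker k _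
  have hH : ∀ m : Ideal (MvPolynomial (Fin n) k ⧸ Ideal.span (Set.range a)), m.IsMaximal →
      Ideal.Quotient.mk (Ideal.span (Set.range a)) (s * h') ∉ m →
      m.height + (c : ℕ∞) = (n : ℕ∞) := by
    intro m hm hgm
    refine height_add_eq_of_isMaximal k (Ideal.Quotient.mkₐ k (Ideal.span (Set.range a))) a
      hsurj hker' m hm ?_
    intro 𝔭 h𝔭 hJ𝔭 h𝔭m
    rw [hker'] at hJ𝔭
    have hg𝔭 : s * h' ∉ 𝔭 := fun hmem => hgm (h𝔭m hmem)
    have hs𝔭 : s ∉ 𝔭 := fun hmem => hg𝔭 (𝔭.mul_mem_right _ hmem)
    have hh𝔭 : h' ∉ 𝔭 := fun hmem => hg𝔭 (𝔭.mul_mem_left _ hmem)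
    have hI𝔭 : RingHom.ker φ.toRingHom ≤ 𝔭 :=
      fun b hb => (h𝔭.mem_or_mem (hJ𝔭 (hs b hb))).resolve_left hs𝔭
    obtain ⟨𝔭', h𝔭'min, h𝔭'le⟩ := Ideal.exists_minimalPrimes_le hI𝔭
    have h𝔭'p : 𝔭'.IsPrime := h𝔭'min.1.1
    have h𝔭'Q : 𝔭' ≤ q.comap φ.toRingHom :=
      hh' 𝔭' h𝔭'min (fun hmem => hh𝔭 (h𝔭'le hmem))
    have hdisj : Disjoint ((q.comap φ.toRingHom).primeCompl : Set (MvPolynomial (Fin n) k))
        (𝔭' : Set (MvPolynomial (Fin n) k)) :=
      Set.disjoint_left.mpr (fun x hx hx' => hx (h𝔭'Q hx'))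
    have hhm := IsLocalization.height_map_of_disjoint
      (S := Localization.AtPrime (q.comap φ.toRingHom)) (q.comap φ.toRingHom).primeCompl 𝔭' hdisj
    calc (c : ℕ∞) ≤ ((RingHom.ker φ.toRingHom).map (algebraMap _
          (Localization.AtPrime (q.comap φ.toRingHom)))).height := hht
      _ ≤ (𝔭'.map (algebraMap _ (Localization.AtPrime (q.comap φ.toRingHom)))).height :=
          Ideal.height_mono (Ideal.map_mono h𝔭'min.1.2)
      _ = 𝔭'.height := hhm
      _ ≤ 𝔭.height := Ideal.height_mono h𝔭'le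
  have hJac : IsJacobsonRing (MvPolynomial (Fin n) k ⧸ Ideal.span (Set.range a)) :=
    isJacobsonRing_of_finiteType (A := k)
  obtain ⟨M, hM⟩ := Ideal.exists_maximal (Localization.Away
      (Ideal.Quotient.mk (Ideal.span (Set.range a)) (s * h')))
  have h1 := (IsLocalization.isMaximal_iff_isMaximal_disjoint (Localization.Away
      (Ideal.Quotient.mk (Ideal.span (Set.range a)) (s * h')))
      (Ideal.Quotient.mk (Ideal.span (Set.range a)) (s * h')) M).1 hM
  have h2 := hH _ h1.1 h1.2
  have hcn : c ≤ n := by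
    have : (c : ℕ∞) ≤ (n : ℕ∞) := h2 ▸ le_add_self
    exact_mod_cast this
  refine isGlobalCI_away_of_height k hcn (Ideal.Quotient.mkₐ k (Ideal.span (Set.range a))) a
    hsurj hker' _ ?_
  intro m hm hgm
  have h3 := hH m hm hgm
  have hfin : m.height ≠ ⊤ := by
    intro htop
    rw [htop, top_add] at h3
    exact ENat.top_ne_natCast n h3
  obtain ⟨t, ht⟩ := ENat.ne_top_iff_exists.mp hfin
  rw [← ht] at h3 ⊢
  have h3' : t + c = n := by exact_mod_cast h3
  have : t = n - c := by omega
  rw [this]

end Spread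

section Converse

variable (k : Type u) [Field k] (S : Type u) [CommRing S] [Algebra k S]

/-- If `S_g` (`g ∉ q`) is a global complete intersection, `S_q` is a complete intersection. -/
theorem isCIOver_atPrime_of_isGlobalCI_away (q : Ideal S) [hq : q.IsPrime] (g : S) (hg : g ∉ q)
    (h : Synt.IsGlobalCI k (Localization.Away g)) : Synt.IsCIOver k (Localization.AtPrime q) := by
  have := isPrime_map_away g q hg
  have h1 := isCIOver_atPrime_of_isGlobalCI k (Localization.Away g) h
    (q.map (algebraMap S (Localization.Away g)))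
  obtain ⟨e⟩ := nonempty_atPrime_away_equiv k g q hg
    (q.map (algebraMap S (Localization.Away g))) rfl
  exact isCIOver_of_algEquiv k _ _ e h1

/-- If `S_g` (`g ∉ q`) is a local complete intersection, `S_q` is a complete intersection. -/
theorem isCIOver_atPrime_of_isLCIOver_away (q : Ideal S) [hq : q.IsPrime] (g : S) (hg : g ∉ q)
    (h : Synt.IsLCIOver k (Localization.Away g)) : Synt.IsCIOver k (Localization.AtPrime q) := by
  have := isPrime_map_away g q hg
  obtain ⟨t, ht, hG⟩ := h.2 ⟨q.map (algebraMap S (Localization.Away g)), inferInstance⟩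
  have h1 := isCIOver_atPrime_of_isGlobalCI_away k (Localization.Away g)
    (q.map (algebraMap S (Localization.Away g))) t ht hG
  obtain ⟨e⟩ := nonempty_atPrime_away_equiv k g q hg
    (q.map (algebraMap S (Localization.Away g))) rfl
  exact isCIOver_of_algEquiv k _ _ e h1

/-- A local essentially-finite-type algebra is the localization of a finite type algebra at a
prime. -/
theorem exists_finiteType_atPrime_equiv [IsLocalRing S] [Algebra.EssFiniteType k S] :
    ∃ (A : Type u) (_ : CommRing A) (_ : Algebra k A) (a : Ideal A) (_ : a.IsPrime),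
      Algebra.FiniteType k A ∧ Nonempty (S ≃ₐ[k] Localization.AtPrime a) := by
  have hprime : ((maximalIdeal S).comap
      (algebraMap (Algebra.EssFiniteType.subalgebra k S) S)).IsPrime := inferInstance
  have heq : Algebra.EssFiniteType.submonoid k S =
      ((maximalIdeal S).comap (algebraMap (Algebra.EssFiniteType.subalgebra k S) S)).primeCompl := by
    ext t
    show IsUnit (algebraMap (Algebra.EssFiniteType.subalgebra k S) S t) ↔
      t ∉ (maximalIdeal S).comap (algebraMap (Algebra.EssFiniteType.subalgebra k S) S)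
    rw [Ideal.mem_comap, IsLocalRing.mem_maximalIdeal, mem_nonunits_iff, not_not]
  have hloc : IsLocalization (Algebra.EssFiniteType.submonoid k S) S := inferInstance
  rw [heq] at hloc
  refine ⟨Algebra.EssFiniteType.subalgebra k S, inferInstance, inferInstance,
    (maximalIdeal S).comap (algebraMap (Algebra.EssFiniteType.subalgebra k S) S), hprime,
    inferInstance, ⟨?_⟩⟩
  exact (IsLocalization.algEquiv ((maximalIdeal S).comap
    (algebraMap (Algebra.EssFiniteType.subalgebra k S) S)).primeCompl S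
    (Localization.AtPrime ((maximalIdeal S).comap
      (algebraMap (Algebra.EssFiniteType.subalgebra k S) S)))).restrictScalars k

end Converse

end Groth.Agent.Lib.Seat42.CISpread
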