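import Mathlib
import Groth.Prelude.Def_RegImm
import Groth.Agent.Lib.Seat41SyntLocal

/-!
# Semilinear transport of global / local complete intersections (seat 42)

* `isGlobalCI_of_ringEquiv`, `isLCIOver_of_ringEquiv`: transport along a ring isomorphism
  `A₁ ≃+* A₂` compatible with an isomorphism of base fields `k₁ ≃+* k₂`.
* `isLCIOver_fiber_iff`: for an algebra `A` over a ring `R` isomorphic to a field `k`, the fibre ring
  `κ(𝔭) ⊗[R] A` is a local complete intersection over `κ(𝔭)` iff `A` is one over `k`.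
-/

set_option autoImplicit false
universe u

open TensorProduct

namespace Groth.Agent.Lib.Seat42.CITransport

section Semilinear

variable {k₁ k₂ : Type u} [Field k₁] [Field k₂] {A₁ A₂ : Type u} [CommRing A₁] [CommRing A₂]
  [Algebra k₁ A₁] [Algebra k₂ A₂]

/-- Semilinear transport of a polynomial presentation. -/
theorem exists_semilinear_lift (σ : k₁ ≃+* k₂) (e : A₁ ≃+* A₂)
    (h : ∀ x, e (algebraMap k₁ A₁ x) = algebraMap k₂ A₂ (σ x)) {n : ℕ}
    (φ : MvPolynomial (Fin n) k₁ →ₐ[k₁] A₁) :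
    ∃ φ₂ : MvPolynomial (Fin n) k₂ →ₐ[k₂] A₂,
      ∀ P, φ₂ (MvPolynomial.map (σ : k₁ →+* k₂) P) = e (φ P) := by
  refine ⟨MvPolynomial.aeval (fun i => e (φ (MvPolynomial.X i))), fun P => ?_⟩
  have : ((MvPolynomial.aeval (fun i => e (φ (MvPolynomial.X i))) :
      MvPolynomial (Fin n) k₂ →ₐ[k₂] A₂) : MvPolynomial (Fin n) k₂ →+* A₂).comp
      (MvPolynomial.map (σ : k₁ →+* k₂)) = (e : A₁ →+* A₂).comp (φ : _ →+* A₁) := by
    apply MvPolynomial.ringHom_ext
    · intro a
      simp only [RingHom.comp_apply, MvPolynomial.map_C, RingHom.coe_coe, MvPolynomial.aeval_C]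
      rw [← MvPolynomial.algebraMap_eq, AlgHom.commutes]
      exact (h a).symm
    · intro i
      simp
  exact DFunLike.congr_fun this P

theorem map_surjective_of_ringEquiv (σ : k₁ ≃+* k₂) {n : ℕ} :
    Function.Surjective (MvPolynomial.map (σ : k₁ →+* k₂) :
      MvPolynomial (Fin n) k₁ →+* MvPolynomial (Fin n) k₂) :=
  MvPolynomial.map_surjective _ σ.surjective

/-- `Synt.IsGlobalCI` transports along compatible isomorphisms of the base field and the algebra. -/
theorem isGlobalCI_of_ringEquiv (σ : k₁ ≃+* k₂) (e : A₁ ≃+* A₂)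
    (h : ∀ x, e (algebraMap k₁ A₁ x) = algebraMap k₂ A₂ (σ x)) (hG : Synt.IsGlobalCI k₁ A₁) :
    Synt.IsGlobalCI k₂ A₂ := by
  rcases hG with hs | ⟨n, c, hcn, φ, r, hφ, hker, hdim⟩
  · exact Or.inl e.symm.toEquiv.subsingleton
  obtain ⟨φ₂, hφ₂⟩ := exists_semilinear_lift σ e h φ
  refine Or.inr ⟨n, c, hcn, φ₂, fun j => MvPolynomial.map (σ : k₁ →+* k₂) (r j), ?_, ?_, ?_⟩
  · intro y
    obtain ⟨P, hP⟩ := hφ (e.symm y)
    exact ⟨MvPolynomial.map (σ : k₁ →+* k₂) P, by rw [hφ₂, hP, e.apply_symm_apply]⟩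
  · apply le_antisymm
    · intro Q hQ
      obtain ⟨P, rfl⟩ := map_surjective_of_ringEquiv σ Q
      rw [RingHom.mem_ker] at hQ
      have hQ' : φ₂ (MvPolynomial.map (σ : k₁ →+* k₂) P) = 0 := hQ
      rw [hφ₂, map_eq_zero_iff _ e.injective] at hQ'
      have hP : P ∈ Ideal.span (Set.range r) := by
        rw [← hker, RingHom.mem_ker]; exact hQ'
      have := Ideal.mem_map_of_mem (MvPolynomial.map (σ : k₁ →+* k₂)) hP
      rw [Ideal.map_span] at this
      refine Ideal.span_mono ?_ this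
      rintro _ ⟨_, ⟨j, rfl⟩, rfl⟩
      exact ⟨j, rfl⟩
    · rw [Ideal.span_le]
      rintro _ ⟨j, rfl⟩
      rw [SetLike.mem_coe, RingHom.mem_ker]
      show φ₂ (MvPolynomial.map (σ : k₁ →+* k₂) (r j)) = 0
      rw [hφ₂]
      have : r j ∈ RingHom.ker φ.toRingHom := by
        rw [hker]; exact Ideal.subset_span ⟨j, rfl⟩
      rw [RingHom.mem_ker] at this
      have h0 : φ (r j) = 0 := this
      rw [h0, map_zero]
  · rw [← hdim]
    exact ringKrullDim_eq_of_ringEquiv e.symm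

theorem finiteType_of_ringEquiv (σ : k₁ ≃+* k₂) (e : A₁ ≃+* A₂)
    (h : ∀ x, e (algebraMap k₁ A₁ x) = algebraMap k₂ A₂ (σ x)) (hft : Algebra.FiniteType k₁ A₁) :
    Algebra.FiniteType k₂ A₂ := by
  obtain ⟨n, φ, hφ⟩ := Algebra.FiniteType.iff_quotient_mvPolynomial''.mp hft
  obtain ⟨φ₂, hφ₂⟩ := exists_semilinear_lift σ e h φ
  refine Algebra.FiniteType.of_surjective φ₂ ?_
  intro y
  obtain ⟨P, hP⟩ := hφ (e.symm y)
  exact ⟨MvPolynomial.map (σ : k₁ →+* k₂) P, by rw [hφ₂, hP, e.apply_symm_apply]⟩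

/-- `Synt.IsLCIOver` transports along compatible isomorphisms of the base field and the algebra. -/
theorem isLCIOver_of_ringEquiv (σ : k₁ ≃+* k₂) (e : A₁ ≃+* A₂)
    (h : ∀ x, e (algebraMap k₁ A₁ x) = algebraMap k₂ A₂ (σ x)) (hL : Synt.IsLCIOver k₁ A₁) :
    Synt.IsLCIOver k₂ A₂ := by
  obtain ⟨hft, hloc⟩ := hL
  refine ⟨finiteType_of_ringEquiv σ e h hft, fun p₂ => ?_⟩
  obtain ⟨g, hg, hG⟩ := hloc ⟨p₂.asIdeal.comap (e : A₁ →+* A₂), inferInstance⟩
  refine ⟨e g, fun hmem => hg (by simpa [Ideal.mem_comap] using hmem), ?_⟩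
  have H : Submonoid.map (e : A₁ ≃+* A₂).toMonoidHom (Submonoid.powers g) =
      Submonoid.powers (e g) := by
    rw [Submonoid.map_powers]; rfl
  let e' : Localization.Away g ≃+* Localization.Away (e g) :=
    IsLocalization.ringEquivOfRingEquiv (Localization.Away g) (Localization.Away (e g)) e H
  refine isGlobalCI_of_ringEquiv σ e' (fun x => ?_) hG
  rw [IsScalarTower.algebraMap_apply k₁ A₁ (Localization.Away g),
    IsScalarTower.algebraMap_apply k₂ A₂ (Localization.Away (e g)), ← h]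
  exact IsLocalization.ringEquivOfRingEquiv_eq _ _

end Semilinear

section Fiber

variable (k : Type u) [Field k] {R A : Type u} [CommRing R] [CommRing A] [Algebra R A]
  [Algebra k A]

theorem bijective_algebraMap_residueField_of_isField (hR : IsField R) (𝔭 : Ideal R)
    [h𝔭 : 𝔭.IsPrime] : Function.Bijective (algebraMap R 𝔭.ResidueField) := by
  have hbot : 𝔭 = ⊥ := by
    rw [eq_bot_iff]
    intro x hx
    by_contra hx0
    obtain ⟨y, hy⟩ := hR.mul_inv_cancel (a := x) hx0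
    exact h𝔭.ne_top ((Ideal.eq_top_iff_one 𝔭).mpr (hy ▸ 𝔭.mul_mem_right y hx))
  have hmax : 𝔭.IsMaximal := by
    refine ⟨⟨h𝔭.ne_top, fun J hJ => ?_⟩⟩
    obtain ⟨x, hxJ, hx𝔭⟩ := Set.exists_of_ssubset hJ
    have hx0 : x ≠ 0 := fun h0 => hx𝔭 (h0 ▸ 𝔭.zero_mem)
    obtain ⟨y, hy⟩ := hR.mul_inv_cancel (a := x) hx0
    exact (Ideal.eq_top_iff_one J).mpr (hy ▸ J.mul_mem_right y hxJ)
  constructor
  · rw [injective_iff_map_eq_zero]
    intro x hx
    rw [Ideal.algebraMap_residueField_eq_zero, hbot] at hx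
    exact hx
  · have h1 := (Ideal.bijective_algebraMap_quotient_residueField 𝔭).2
    intro z
    obtain ⟨y, rfl⟩ := h1 z
    obtain ⟨x, rfl⟩ := Ideal.Quotient.mk_surjective y
    exact ⟨x, rfl⟩

/-- For an algebra `A` over a ring `R` isomorphic to a field `k` (compatibly with a `k`-algebra
structure on `A`), the fibre ring at the unique prime is a local complete intersection over the residue
field iff `A` is one over `k`. -/
theorem isLCIOver_fiber_iff (σ : k ≃+* R) (hσ : ∀ x, algebraMap R A (σ x) = algebraMap k A x)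
    (𝔭 : PrimeSpectrum R) :
    Synt.IsLCIOver 𝔭.asIdeal.ResidueField (𝔭.asIdeal.Fiber A) ↔ Synt.IsLCIOver k A := by
  have hR : IsField R := σ.symm.toMulEquiv.isField (Field.toIsField k)
  have hbij := bijective_algebraMap_residueField_of_isField hR 𝔭.asIdeal
  let σ' : k ≃+* 𝔭.asIdeal.ResidueField :=
    σ.trans (RingEquiv.ofBijective (algebraMap R 𝔭.asIdeal.ResidueField) hbij)
  let τ : R ≃ₐ[R] 𝔭.asIdeal.ResidueField :=
    AlgEquiv.ofBijective (Algebra.ofId R 𝔭.asIdeal.ResidueField) hbij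
  let e : A ≃ₐ[R] 𝔭.asIdeal.ResidueField ⊗[R] A :=
    (Algebra.TensorProduct.lid R A).symm.trans (Algebra.TensorProduct.congr τ AlgEquiv.refl)
  have he : ∀ a, e a = (1 : 𝔭.asIdeal.ResidueField) ⊗ₜ[R] a := by
    intro a
    simp [e, τ]
  have hcompat : ∀ x, (e : A ≃+* 𝔭.asIdeal.ResidueField ⊗[R] A) (algebraMap k A x) =
      algebraMap 𝔭.asIdeal.ResidueField (𝔭.asIdeal.ResidueField ⊗[R] A) (σ' x) := by
    intro x
    show e (algebraMap k A x) = _
    rw [he, ← hσ, Algebra.TensorProduct.algebraMap_apply, Algebra.algebraMap_eq_smul_one (σ x),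
      TensorProduct.tmul_smul, TensorProduct.smul_tmul', ← Algebra.algebraMap_eq_smul_one]
    rfl
  constructor
  · intro h
    refine isLCIOver_of_ringEquiv σ'.symm (e : A ≃+* 𝔭.asIdeal.ResidueField ⊗[R] A).symm ?_ h
    intro y
    obtain ⟨x, rfl⟩ := σ'.surjective y
    rw [← hcompat, RingEquiv.symm_apply_apply, RingEquiv.symm_apply_apply]
  · intro h
    exact isLCIOver_of_ringEquiv σ' (e : A ≃+* 𝔭.asIdeal.ResidueField ⊗[R] A) hcompat h

end Fiber

end Groth.Agent.Lib.Seat42.CITransport
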