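import Mathlib
import Groth.Prelude.Def_RegImm
import Groth.Agent.Lib.Seat42CISpread
import Groth.Agent.Lib.Seat42CITransport

/-!
# Complete intersections over a field: schemes locally of finite type over `Spec k` (seat 42)

For `p : X ⟶ Spec k`: `k`-algebra structures on sections and stalks (`algΓ`, `algStalk`), comparison
isomorphisms with localizations, and the implications between "syntomic", "locally a global complete
intersection" and "stalks are complete intersections".
-/

set_option autoImplicit false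
set_option linter.style.haveILetI false
universe u
open AlgebraicGeometry CategoryTheory Opposite

namespace Groth.Agent.Lib.Seat42.CIScheme

open Groth.Agent.Lib.Seat42.CISpread Groth.Agent.Lib.Seat42.CITransport

variable (k : Type u) [Field k] {X : Scheme.{u}} (p : X ⟶ Spec (CommRingCat.of k))

/-- The `k`-algebra structure on sections. -/
noncomputable abbrev algΓ (U : X.Opens) : Algebra k Γ(X, U) :=
  ((Scheme.ΓSpecIso (CommRingCat.of k)).inv ≫ p.appLE ⊤ U le_top).hom.toAlgebra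

/-- The `k`-algebra structure on stalks. -/
noncomputable abbrev algStalk (x : X) : Algebra k (X.presheaf.stalk x) :=
  ((Scheme.ΓSpecIso (CommRingCat.of k)).inv ≫ p.appLE ⊤ ⊤ le_top ≫
    X.presheaf.germ ⊤ x trivial).hom.toAlgebra

/-- The stalk is the localization of the sections over an affine open, as `k`-algebras. -/
theorem nonempty_stalk_equiv {U : X.Opens} (hU : IsAffineOpen U) (x : X) (hx : x ∈ U) :
    letI := algΓ k p U
    letI := algStalk k p x
    Nonempty (Localization.AtPrime (hU.primeIdealOf ⟨x, hx⟩).asIdeal ≃ₐ[k] X.presheaf.stalk x) := by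
  letI := algΓ k p U
  letI := algStalk k p x
  letI : Algebra Γ(X, U) (X.presheaf.stalk x) := X.presheaf.algebra_section_stalk ⟨x, hx⟩
  have hloc : IsLocalization.AtPrime (X.presheaf.stalk x) (hU.primeIdealOf ⟨x, hx⟩).asIdeal :=
    hU.isLocalization_stalk ⟨x, hx⟩
  haveI : IsScalarTower k Γ(X, U) (X.presheaf.stalk x) := by
    refine IsScalarTower.of_algebraMap_eq (fun a => ?_)
    show ((Scheme.ΓSpecIso (CommRingCat.of k)).inv ≫ p.appLE ⊤ ⊤ le_top ≫
      X.presheaf.germ ⊤ x trivial).hom a =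
      (X.presheaf.germ U x hx).hom (((Scheme.ΓSpecIso (CommRingCat.of k)).inv ≫
        p.appLE ⊤ U le_top).hom a)
    have h1 : p.appLE ⊤ U le_top = p.appLE ⊤ ⊤ le_top ≫ X.presheaf.map (homOfLE le_top).op :=
      (Scheme.Hom.appLE_map p (U := ⊤) (V := ⊤) le_top (homOfLE (le_top : U ≤ ⊤)).op).symm
    rw [h1]
    simp only [CommRingCat.hom_comp, RingHom.comp_apply]
    rw [← CommRingCat.comp_apply (X.presheaf.map (homOfLE le_top).op) (X.presheaf.germ U x hx),
      TopCat.Presheaf.germ_res]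
  exact ⟨(IsLocalization.algEquiv (hU.primeIdealOf ⟨x, hx⟩).asIdeal.primeCompl
    (Localization.AtPrime (hU.primeIdealOf ⟨x, hx⟩).asIdeal)
    (X.presheaf.stalk x)).restrictScalars k⟩

/-- Sections over a basic open are the localization, as `k`-algebras. -/
theorem nonempty_basicOpen_equiv {U : X.Opens} (hU : IsAffineOpen U) (g : Γ(X, U)) :
    letI := algΓ k p U
    letI := algΓ k p (X.basicOpen g)
    Nonempty (Localization.Away g ≃ₐ[k] Γ(X, X.basicOpen g)) := by
  letI := algΓ k p U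
  letI := algΓ k p (X.basicOpen g)
  have hloc : IsLocalization.Away g Γ(X, X.basicOpen g) := hU.isLocalization_basicOpen g
  haveI : IsScalarTower k Γ(X, U) Γ(X, X.basicOpen g) := by
    refine IsScalarTower.of_algebraMap_eq (fun a => ?_)
    show ((Scheme.ΓSpecIso (CommRingCat.of k)).inv ≫ p.appLE ⊤ (X.basicOpen g) le_top).hom a =
      (X.presheaf.map (homOfLE (X.basicOpen_le g)).op).hom
        (((Scheme.ΓSpecIso (CommRingCat.of k)).inv ≫ p.appLE ⊤ U le_top).hom a)
    have h1 : p.appLE ⊤ (X.basicOpen g) le_top =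
        p.appLE ⊤ U le_top ≫ X.presheaf.map (homOfLE (X.basicOpen_le g)).op :=
      (Scheme.Hom.appLE_map p (U := ⊤) (V := U) le_top (homOfLE (X.basicOpen_le g)).op).symm
    rw [h1]
    simp only [CommRingCat.hom_comp, RingHom.comp_apply]
  exact ⟨(IsLocalization.algEquiv (Submonoid.powers g) (Localization.Away g)
    Γ(X, X.basicOpen g)).restrictScalars k⟩

/-- A basic open neighbourhood with global complete intersection coordinate ring. -/
theorem exists_affine_isGlobalCI {U : X.Opens} (hU : IsAffineOpen U) (x : X) (hx : x ∈ U)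
    (g : Γ(X, U)) (hg : g ∉ (hU.primeIdealOf ⟨x, hx⟩).asIdeal)
    (hG : letI := algΓ k p U; Synt.IsGlobalCI k (Localization.Away g)) :
    ∃ U' : X.affineOpens, x ∈ U'.1 ∧
      letI := ((Scheme.ΓSpecIso (CommRingCat.of k)).inv ≫ p.appLE ⊤ U'.1 le_top).hom.toAlgebra
      Synt.IsGlobalCI k Γ(X, U'.1) := by
  refine ⟨⟨X.basicOpen g, hU.basicOpen g⟩, ?_, ?_⟩
  · rw [Scheme.mem_basicOpen _ _ x hx]
    letI : Algebra Γ(X, U) (X.presheaf.stalk x) := X.presheaf.algebra_section_stalk ⟨x, hx⟩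
    have hloc : IsLocalization.AtPrime (X.presheaf.stalk x) (hU.primeIdealOf ⟨x, hx⟩).asIdeal :=
      hU.isLocalization_stalk ⟨x, hx⟩
    exact (IsLocalization.AtPrime.isUnit_to_map_iff (X.presheaf.stalk x)
      (hU.primeIdealOf ⟨x, hx⟩).asIdeal g).mpr hg
  · letI := algΓ k p U
    letI := algΓ k p (X.basicOpen g)
    obtain ⟨e⟩ := nonempty_basicOpen_equiv k p hU g
    exact Groth.Agent.Lib.Seat41.SyntLocal.isGlobalCI_of_algEquiv k _ _ e hG

theorem finiteType_sections [LocallyOfFiniteType p] {U : X.Opens} (hU : IsAffineOpen U) :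
    letI := algΓ k p U
    Algebra.FiniteType k Γ(X, U) := by
  have h1 : (p.appLE ⊤ U le_top).hom.FiniteType :=
    p.finiteType_appLE (isAffineOpen_top _) hU le_top
  have h2 : ((Scheme.ΓSpecIso (CommRingCat.of k)).inv).hom.FiniteType :=
    RingHom.FiniteType.of_surjective _
      (Scheme.ΓSpecIso (CommRingCat.of k)).symm.commRingCatIsoToRingEquiv.surjective
  exact h1.comp h2

/-- (2) ⟹ (3). -/
theorem isCIOver_stalk_of_isGlobalCI {U : X.Opens} (hU : IsAffineOpen U) (x : X) (hx : x ∈ U)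
    (hG : letI := algΓ k p U; Synt.IsGlobalCI k Γ(X, U)) :
    letI := algStalk k p x
    Synt.IsCIOver k (X.presheaf.stalk x) := by
  letI := algΓ k p U
  letI := algStalk k p x
  obtain ⟨e⟩ := nonempty_stalk_equiv k p hU x hx
  exact isCIOver_of_algEquiv k _ _ e
    (isCIOver_atPrime_of_isGlobalCI k Γ(X, U) hG (hU.primeIdealOf ⟨x, hx⟩).asIdeal)

/-- (3) ⟹ (2). -/
theorem exists_affine_isGlobalCI_of_isCIOver_stalk [LocallyOfFiniteType p] (x : X)
    (h : letI := algStalk k p x; Synt.IsCIOver k (X.presheaf.stalk x)) :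
    ∃ U' : X.affineOpens, x ∈ U'.1 ∧
      letI := ((Scheme.ΓSpecIso (CommRingCat.of k)).inv ≫ p.appLE ⊤ U'.1 le_top).hom.toAlgebra
      Synt.IsGlobalCI k Γ(X, U'.1) := by
  obtain ⟨U, hU, hxU, -⟩ := exists_isAffineOpen_mem_and_subset (X := X) (x := x) (U := ⊤) trivial
  letI := algΓ k p U
  letI := algStalk k p x
  haveI hft : Algebra.FiniteType k Γ(X, U) := finiteType_sections k p hU
  obtain ⟨e⟩ := nonempty_stalk_equiv k p hU x hxU
  have h1 := isCIOver_of_algEquiv k _ _ e.symm h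
  obtain ⟨g, hg, hG⟩ := exists_isGlobalCI_away_of_isCIOver_atPrime k Γ(X, U) _ h1
  exact exists_affine_isGlobalCI k p hU x hxU g hg hG

/-- The ring isomorphism `k ≃ Γ(Spec k, ⊤)`. -/
noncomputable def sigma : k ≃+* Γ(Spec (CommRingCat.of k), ⊤) :=
  (Scheme.ΓSpecIso (CommRingCat.of k)).symm.commRingCatIsoToRingEquiv

/-- (2) ⟹ (1) on an affine open. -/
theorem isSyntomic_of_isGlobalCI [LocallyOfFiniteType p] {U : X.Opens} (hU : IsAffineOpen U)
    (e : U ≤ p ⁻¹ᵁ ⊤)
    (hG : letI := algΓ k p U; Synt.IsGlobalCI k Γ(X, U)) :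
    letI := (p.appLE ⊤ U e).hom.toAlgebra
    Synt.IsSyntomic Γ(Spec (CommRingCat.of k), ⊤) Γ(X, U) := by
  letI := algΓ k p U
  letI := (p.appLE ⊤ U e).hom.toAlgebra
  haveI hft : Algebra.FiniteType k Γ(X, U) := finiteType_sections k p hU
  have hR : IsField Γ(Spec (CommRingCat.of k), ⊤) :=
    (sigma k).symm.toMulEquiv.isField (Field.toIsField k)
  have hN : IsNoetherianRing Γ(Spec (CommRingCat.of k), ⊤) :=
    isNoetherianRing_of_ringEquiv k (sigma k)
  have hσ : ∀ a, algebraMap Γ(Spec (CommRingCat.of k), ⊤) Γ(X, U) (sigma k a) =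
      algebraMap k Γ(X, U) a := fun a => rfl
  refine ⟨?_, ?_, fun 𝔭 => ?_⟩
  · exact RingHom.Flat.of_isField hR (p.appLE ⊤ U e).hom
  · have h1 : (p.appLE ⊤ U e).hom.FiniteType :=
      p.finiteType_appLE (isAffineOpen_top _) hU e
    exact RingHom.FinitePresentation.of_finiteType.mp h1
  · exact (isLCIOver_fiber_iff k (sigma k) hσ 𝔭).mpr (isLCIOver_of_isGlobalCI k _ hG)

/-- (1) ⟹ (2). -/
theorem exists_affine_isGlobalCI_of_isSyntomicAt (x : X) (h : Synt.IsSyntomicAt p x) :
    ∃ U' : X.affineOpens, x ∈ U'.1 ∧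
      letI := ((Scheme.ΓSpecIso (CommRingCat.of k)).inv ≫ p.appLE ⊤ U'.1 le_top).hom.toAlgebra
      Synt.IsGlobalCI k Γ(X, U'.1) := by
  obtain ⟨⟨U, hU⟩, ⟨V, hV⟩, e, hxU, hsyn⟩ := h
  have hVtop : V = ⊤ := by
    have hsub : Subsingleton (Spec (CommRingCat.of k)) :=
      (inferInstance : Subsingleton (PrimeSpectrum k))
    ext y
    simp only [TopologicalSpace.Opens.coe_top, Set.mem_univ, iff_true, SetLike.mem_coe]
    have : y = p x := Subsingleton.elim _ _
    rw [this]
    exact e hxU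
  subst hVtop
  letI := algΓ k p U
  have hσ : ∀ a, @algebraMap Γ(Spec (CommRingCat.of k), ⊤) Γ(X, U) _ _
      (p.appLE ⊤ U e).hom.toAlgebra (sigma k a) = algebraMap k Γ(X, U) a := fun a => rfl
  have hnt : Nontrivial Γ(Spec (CommRingCat.of k), ⊤) := (sigma k).symm.toEquiv.nontrivial
  obtain ⟨m, hm⟩ := Ideal.exists_maximal Γ(Spec (CommRingCat.of k), ⊤)
  have hL : Synt.IsLCIOver k Γ(X, U) :=
    (@isLCIOver_fiber_iff k _ _ _ _ _ (p.appLE ⊤ U e).hom.toAlgebra _ (sigma k) hσ
      ⟨m, hm.isPrime⟩).mp (hsyn.2.2 ⟨m, hm.isPrime⟩)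
  obtain ⟨g, hg, hG⟩ := hL.2 (hU.primeIdealOf ⟨x, hxU⟩)
  exact exists_affine_isGlobalCI k p hU x hxU g hg hG

end Groth.Agent.Lib.Seat42.CIScheme
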