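import Mathlib
import Groth.Agent.Lib.Helper7Cartier2
import Groth.Agent.Lib.Helper7H1Fields

set_option autoImplicit false
set_option linter.dupNamespace false
set_option linter.style.haveILetI false
universe u

open TensorProduct

namespace Groth.Agent.Lib.Seat42.CartierH1

section linalg

variable {F : Type*} [Field F]

/-- Euler characteristic of a six term exact sequence of vector spaces. -/
theorem six_term {V₁ V₂ V₃ V₄ V₅ V₆ : Type*}
    [AddCommGroup V₁] [Module F V₁] [AddCommGroup V₂] [Module F V₂]
    [AddCommGroup V₃] [Module F V₃] [AddCommGroup V₄] [Module F V₄]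
    [AddCommGroup V₅] [Module F V₅] [AddCommGroup V₆] [Module F V₆]
    (f₁ : V₁ →ₗ[F] V₂) (f₂ : V₂ →ₗ[F] V₃) (f₃ : V₃ →ₗ[F] V₄) (f₄ : V₄ →ₗ[F] V₅)
    (f₅ : V₅ →ₗ[F] V₆)
    (h₁ : Function.Injective f₁) (e₂ : Function.Exact f₁ f₂) (e₃ : Function.Exact f₂ f₃)
    (e₄ : Function.Exact f₃ f₄) (e₅ : Function.Exact f₄ f₅) (h₆ : Function.Surjective f₅)
    [Module.Finite F V₁] [Module.Finite F V₃] [Module.Finite F V₄] [Module.Finite F V₆] :
    Module.Finite F V₂ ∧ Module.Finite F V₅ ∧
      Module.finrank F V₁ + Module.finrank F V₃ + Module.finrank F V₅ =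
        Module.finrank F V₂ + Module.finrank F V₄ + Module.finrank F V₆ := by
  have k₂ : LinearMap.ker f₂ = LinearMap.range f₁ := LinearMap.exact_iff.mp e₂
  have k₃ : LinearMap.ker f₃ = LinearMap.range f₂ := LinearMap.exact_iff.mp e₃
  have k₄ : LinearMap.ker f₄ = LinearMap.range f₃ := LinearMap.exact_iff.mp e₄
  have k₅ : LinearMap.ker f₅ = LinearMap.range f₄ := LinearMap.exact_iff.mp e₅
  have fin2 : Module.Finite F V₂ := by
    have : Module.Finite F (LinearMap.ker f₂) := by rw [k₂]; infer_instance
    have : Module.Finite F (V₂ ⧸ LinearMap.ker f₂) :=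
      Module.Finite.equiv (f₂.quotKerEquivRange).symm
    exact Module.Finite.of_submodule_quotient (LinearMap.ker f₂)
  have fin5 : Module.Finite F V₅ := by
    have : Module.Finite F (LinearMap.ker f₅) := by rw [k₅]; infer_instance
    have : Module.Finite F (V₅ ⧸ LinearMap.ker f₅) :=
      Module.Finite.equiv (f₅.quotKerEquivRange).symm
    exact Module.Finite.of_submodule_quotient (LinearMap.ker f₅)
  refine ⟨fin2, fin5, ?_⟩
  have r₁ := LinearMap.finrank_range_of_inj h₁
  have r₂ := LinearMap.finrank_range_add_finrank_ker f₂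
  have r₃ := LinearMap.finrank_range_add_finrank_ker f₃
  have r₄ := LinearMap.finrank_range_add_finrank_ker f₄
  have r₅ := LinearMap.finrank_range_add_finrank_ker f₅
  rw [k₂] at r₂
  rw [k₃] at r₃
  rw [k₄] at r₄
  rw [k₅, LinearMap.range_eq_top.mpr h₆, finrank_top] at r₅
  omega

/-- Additivity of the index of linear maps with finite dimensional kernel and cokernel. -/
theorem index_comp {U V W : Type*} [AddCommGroup U] [Module F U] [AddCommGroup V] [Module F V]
    [AddCommGroup W] [Module F W] (f : U →ₗ[F] V) (g : V →ₗ[F] W)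
    [Module.Finite F (LinearMap.ker f)] [Module.Finite F (V ⧸ LinearMap.range f)]
    [Module.Finite F (LinearMap.ker g)] [Module.Finite F (W ⧸ LinearMap.range g)] :
    Module.Finite F (LinearMap.ker (g ∘ₗ f)) ∧ Module.Finite F (W ⧸ LinearMap.range (g ∘ₗ f)) ∧
      (Module.finrank F (LinearMap.ker (g ∘ₗ f)) : ℤ) -
          Module.finrank F (W ⧸ LinearMap.range (g ∘ₗ f)) =
        ((Module.finrank F (LinearMap.ker f) : ℤ) - Module.finrank F (V ⧸ LinearMap.range f)) +
          ((Module.finrank F (LinearMap.ker g) : ℤ) -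
            Module.finrank F (W ⧸ LinearMap.range g)) := by
  have hle1 : LinearMap.ker f ≤ LinearMap.ker (g ∘ₗ f) := by
    intro x hx
    rw [LinearMap.mem_ker] at hx ⊢
    rw [LinearMap.comp_apply, hx, map_zero]
  have hle2 : LinearMap.range (g ∘ₗ f) ≤ LinearMap.range g := by
    rintro _ ⟨x, rfl⟩
    exact ⟨f x, rfl⟩
  have hle3 : LinearMap.range f ≤ (LinearMap.range (g ∘ₗ f)).comap g := by
    rintro _ ⟨x, rfl⟩
    exact ⟨x, rfl⟩
  let i₁ : LinearMap.ker f →ₗ[F] LinearMap.ker (g ∘ₗ f) := Submodule.inclusion hle1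
  let i₂ : LinearMap.ker (g ∘ₗ f) →ₗ[F] LinearMap.ker g :=
    (f.domRestrict (LinearMap.ker (g ∘ₗ f))).codRestrict (LinearMap.ker g) (fun x => x.2)
  let i₃ : LinearMap.ker g →ₗ[F] V ⧸ LinearMap.range f :=
    (LinearMap.range f).mkQ ∘ₗ (LinearMap.ker g).subtype
  let i₄ : (V ⧸ LinearMap.range f) →ₗ[F] W ⧸ LinearMap.range (g ∘ₗ f) :=
    Submodule.mapQ _ _ g hle3
  let i₅ : (W ⧸ LinearMap.range (g ∘ₗ f)) →ₗ[F] W ⧸ LinearMap.range g :=
    Submodule.factor hle2
  have h₁ : Function.Injective i₁ := Submodule.inclusion_injective hle1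
  have e₂ : Function.Exact i₁ i₂ := by
    intro x
    constructor
    · intro hx
      have hx' : f x.1 = 0 := congrArg Subtype.val hx
      exact ⟨⟨x.1, hx'⟩, Subtype.ext rfl⟩
    · rintro ⟨y, rfl⟩
      exact Subtype.ext y.2
  have e₃ : Function.Exact i₂ i₃ := by
    intro y
    constructor
    · intro hy
      have hy' : (y : V) ∈ LinearMap.range f := by
        simpa [i₃] using hy
      obtain ⟨x, hx⟩ := hy'
      have hxk : x ∈ LinearMap.ker (g ∘ₗ f) := by
        rw [LinearMap.mem_ker, LinearMap.comp_apply, hx]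
        exact y.2
      exact ⟨⟨x, hxk⟩, Subtype.ext hx⟩
    · rintro ⟨x, rfl⟩
      simp [i₃, i₂]
  have e₄ : Function.Exact i₃ i₄ := by
    intro v
    obtain ⟨v, rfl⟩ := Submodule.mkQ_surjective _ v
    constructor
    · intro hv
      have hv' : g v ∈ LinearMap.range (g ∘ₗ f) := by
        simpa [i₄] using hv
      obtain ⟨u, hu⟩ := hv'
      have hk : v - f u ∈ LinearMap.ker g := by
        rw [LinearMap.mem_ker, map_sub, ← hu, LinearMap.comp_apply, sub_self]
      refine ⟨⟨v - f u, hk⟩, ?_⟩
      simp only [i₃, LinearMap.comp_apply, Submodule.subtype_apply, Submodule.mkQ_apply]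
      rw [Submodule.Quotient.eq]
      simp
    · rintro ⟨y, hy⟩
      rw [← hy]
      simp only [i₃, i₄, LinearMap.comp_apply, Submodule.subtype_apply, Submodule.mkQ_apply,
        Submodule.mapQ_apply]
      rw [LinearMap.mem_ker.mp y.2]
      simp
  have e₅ : Function.Exact i₄ i₅ := by
    intro w
    obtain ⟨w, rfl⟩ := Submodule.mkQ_surjective _ w
    constructor
    · intro hw
      have hw' : w ∈ LinearMap.range g := by
        simpa [i₅] using hw
      obtain ⟨v, rfl⟩ := hw'
      exact ⟨Submodule.Quotient.mk v, by simp [i₄]⟩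
    · rintro ⟨v, hv⟩
      obtain ⟨v, rfl⟩ := Submodule.mkQ_surjective _ v
      rw [← hv]
      simp [i₄, i₅]
  have h₆ : Function.Surjective i₅ := Submodule.factor_surjective hle2
  obtain ⟨fin2, fin5, hh⟩ := six_term i₁ i₂ i₃ i₄ i₅ h₁ e₂ e₃ e₄ e₅ h₆
  refine ⟨fin2, fin5, ?_⟩
  omega

end linalg

section package

open KaehlerDifferential

/-- Cartier equality with `H¹` of the naive cotangent complex. -/
def CartierH1 (K L : Type u) [Field K] [Field L] [Algebra K L] : Prop :=
  Module.Finite L (Ω[L⁄K]) ∧ Module.Finite L (Algebra.H1Cotangent K L) ∧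
    Algebra.trdeg K L < Cardinal.aleph0 ∧
    Module.finrank L (Algebra.H1Cotangent K L) + Cardinal.toNat (Algebra.trdeg K L) =
      Module.finrank L (Ω[L⁄K])

variable {K L M : Type u} [Field K] [Field L] [Field M] [Algebra K L] [Algebra L M]
  [Algebra K M] [IsScalarTower K L M]

/-- The Jacobi–Zariski sequence for a tower of fields, as rank identities. -/
theorem tower_six_term [Module.Finite L (Ω[L⁄K])] [Module.Finite L (Algebra.H1Cotangent K L)]
    [Module.Finite M (Ω[M⁄L])] [Module.Finite M (Algebra.H1Cotangent L M)] :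
    Module.Finite M (Algebra.H1Cotangent K M) ∧ Module.Finite M (Ω[M⁄K]) ∧
      Module.finrank L (Algebra.H1Cotangent K L) + Module.finrank M (Algebra.H1Cotangent L M) +
          Module.finrank M (Ω[M⁄K]) =
        Module.finrank M (Algebra.H1Cotangent K M) + Module.finrank L (Ω[L⁄K]) +
          Module.finrank M (Ω[M⁄L]) := by
  have key := six_term (F := M)
    ((Algebra.H1Cotangent.map K K L M).liftBaseChange M)
    (Algebra.H1Cotangent.map K L M M)
    (Algebra.H1Cotangent.δ K L M)
    (KaehlerDifferential.mapBaseChange K L M)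
    (KaehlerDifferential.map K L M M)
    Groth.Agent.Lib.Helper7.H1Nat.injective_liftBaseChange_map_fields
    (Algebra.H1Cotangent.exact_liftBaseChange_map_of_flat K L M)
    (Algebra.H1Cotangent.exact_map_δ K L M)
    (Algebra.H1Cotangent.exact_δ_mapBaseChange K L M)
    (KaehlerDifferential.exact_mapBaseChange_map K L M)
    (KaehlerDifferential.map_surjective K L M)
  obtain ⟨h1, h2, h3⟩ := key
  refine ⟨h1, h2, ?_⟩
  rw [Module.finrank_baseChange, Module.finrank_baseChange] at h3
  exact h3

theorem CartierH1.trans (h1 : CartierH1 K L) (h2 : CartierH1 L M) : CartierH1 K M := by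
  obtain ⟨f1, f2, t1, i1⟩ := h1
  obtain ⟨g1, g2, t2, i2⟩ := h2
  obtain ⟨hH, hΩ, hid⟩ := tower_six_term (K := K) (L := L) (M := M)
  obtain ⟨t3, ht⟩ := Groth.Agent.Lib.Helper7.ExalLib.toNat_trdeg_tower (K := K) (L := L)
    (M := M) t1 t2
  refine ⟨hΩ, hH, t3, ?_⟩
  omega

end package

section simple

open KaehlerDifferential

variable {K L : Type u} [Field K] [Field L] [Algebra K L]

theorem cartierH1_transcendental {z : L} (hz : Transcendental K z)
    (htop : IntermediateField.adjoin K {z} = ⊤) : CartierH1 K L := by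
  obtain ⟨h1, -, h3, h4⟩ :=
    Groth.Agent.Lib.Helper7.ExalLib.cartier_transcendental (k := K) hz htop
  have hb : AlgebraicIndependent K (fun _ : PUnit.{u+1} => z) :=
    algebraicIndependent_unique_type_iff.2 hz
  have hrange : Set.range (fun _ : PUnit.{u+1} => z) = {z} := Set.range_const
  have : Algebra.FormallySmooth K L :=
    Algebra.FormallySmooth.of_algebraicIndependent hb (by rw [hrange]; exact htop)
  have : Subsingleton (Algebra.H1Cotangent K L) :=
    Algebra.FormallySmooth.subsingleton_h1Cotangent
  refine ⟨h1, inferInstance, by rw [h4]; exact Cardinal.one_lt_aleph0, ?_⟩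
  rw [h3, h4, Module.finrank_zero_of_subsingleton]
  simp

/-- For a monogenic algebraic field extension `L = K[z]`: `rank H¹(L_{L/K}) = rank Ω_{L/K}`. -/
theorem simple_eq (z : L) (hzalg : IsAlgebraic K z)
    (hz : Function.Surjective (MvPolynomial.aeval (R := K) (fun _ : Unit => z))) :
    Module.Finite L (Ω[L⁄K]) ∧ Module.Finite L (Algebra.H1Cotangent K L) ∧
      Module.finrank L (Algebra.H1Cotangent K L) = Module.finrank L (Ω[L⁄K]) := by
  classical
  let P := Algebra.Generators.ofSurjective (fun _ : Unit => z) hz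
  let E := P.toExtension
  let bCS := P.cotangentSpaceBasis
  haveI : Module.Finite L E.CotangentSpace := Module.Finite.of_basis bCS
  have hCS : Module.finrank L E.CotangentSpace = 1 := by
    rw [Module.finrank_eq_card_basis bCS]; simp
  have hPIR : IsPrincipalIdealRing (MvPolynomial Unit K) :=
    IsPrincipalIdealRing.of_surjective
      (MvPolynomial.uniqueAlgEquiv K Unit).symm.toRingEquiv.toRingHom
      (MvPolynomial.uniqueAlgEquiv K Unit).symm.surjective
  haveI : IsPrincipalIdealRing E.Ring := hPIR
  obtain ⟨g, hg⟩ := (IsPrincipalIdealRing.principal E.ker).principal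
  have hg' : Ideal.span (Set.range fun _ : Unit => g) = E.ker := by
    rw [hg]
    congr 1
    ext x
    simp
  have hgmem : g ∈ E.ker := hg'.le (Ideal.subset_span ⟨(), rfl⟩)
  have hspan := Algebra.Extension.Cotangent.span_eq_top_of_span_eq_ker (P := E)
    (fun _ : Unit => g) hg'
  haveI : Module.Finite L E.Cotangent := by
    rw [Module.finite_def, ← hspan]
    exact Submodule.fg_span (Set.finite_range _)
  have hC : Module.finrank L E.Cotangent ≤ 1 := by
    have h1 := finrank_range_le_card (R := L)
      (fun i : Unit => Algebra.Extension.Cotangent.mk (P := E)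
        ⟨g, hg'.le (Ideal.subset_span ⟨i, rfl⟩)⟩)
    rw [Set.finrank, hspan, finrank_top] at h1
    simpa using h1
  -- the cotangent module is nonzero
  have hC1 : 1 ≤ Module.finrank L E.Cotangent := by
    rw [Nat.succ_le_iff, Module.finrank_pos_iff_exists_ne_zero]
    refine ⟨Algebra.Extension.Cotangent.mk (P := E) ⟨g, hgmem⟩, ?_⟩
    intro h0
    rw [Algebra.Extension.Cotangent.mk_eq_zero_iff] at h0
    have h0' : g ∈ E.ker ^ 2 := h0
    have hg2 : E.ker = Ideal.span {g} := hg
    rw [hg2, Ideal.span_singleton_pow, Ideal.mem_span_singleton'] at h0'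
    obtain ⟨a, ha⟩ := h0'
    have hker : ∀ x : E.Ring,
        x ∈ E.ker ↔ MvPolynomial.aeval (R := K) (fun _ : Unit => z) x = 0 := fun x => by
      have h := P.ker_eq_ker_aeval_val
      show x ∈ P.ker ↔ _
      rw [h]
      exact RingHom.mem_ker
    have : IsDomain E.Ring := inferInstanceAs (IsDomain (MvPolynomial Unit K))
    have hprod : g * (a * g - 1) = 0 := by
      have : g * (a * g - 1) = a * g ^ 2 - g := by ring
      rw [this, ha, sub_self]
    rcases mul_eq_zero.mp hprod with hg0 | hag
    · -- `g = 0`: then `z` is transcendental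
      have hinj : Function.Injective (MvPolynomial.aeval (R := K) (fun _ : Unit => z)) := by
        rw [injective_iff_map_eq_zero]
        intro x hx
        have hx' : ∃ b : E.Ring, b * g = x := by
          have h3 : (x : E.Ring) ∈ E.ker := (hker x).mpr hx
          rw [hg2] at h3
          exact Ideal.mem_span_singleton'.mp h3
        obtain ⟨b, hb⟩ := hx'
        rw [← hb, hg0]
        exact mul_zero b
      have hai : AlgebraicIndependent K (fun _ : Unit => z) := hinj
      exact (algebraicIndependent_unique_type_iff.mp hai) hzalg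
    · -- `a * g = 1`: then `1 ∈ ker`
      have h1 : (1 : E.Ring) ∈ E.ker := by
        have : a * g = 1 := sub_eq_zero.mp hag
        rw [← this]
        exact Ideal.mul_mem_left _ _ hgmem
      have h2 := (hker 1).mp h1
      have h3 : MvPolynomial.aeval (R := K) (fun _ : Unit => z) (1 : MvPolynomial Unit K) = 1 :=
        map_one _
      exact one_ne_zero (h3.symm.trans h2)
  have hsurj := E.toKaehler_surjective
  have hex := E.exact_cotangentComplex_toKaehler
  haveI : Module.Finite L (Ω[L⁄K]) := Module.Finite.of_surjective E.toKaehler hsurj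
  have e1 := LinearMap.finrank_range_add_finrank_ker E.toKaehler
  rw [LinearMap.range_eq_top.2 hsurj, finrank_top, hCS] at e1
  rw [LinearMap.exact_iff] at hex
  rw [hex] at e1
  have e2 := LinearMap.finrank_range_add_finrank_ker E.cotangentComplex
  have hH1 : Module.finrank L E.H1Cotangent =
      Module.finrank L ↥(LinearMap.ker E.cotangentComplex) := rfl
  haveI : Module.Finite L E.H1Cotangent :=
    inferInstanceAs (Module.Finite L ↥(LinearMap.ker E.cotangentComplex))
  have heq := P.equivH1Cotangent
  refine ⟨inferInstance, Module.Finite.equiv heq, ?_⟩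
  rw [← heq.finrank_eq, hH1]
  omega

theorem cartierH1_algebraic {z : L} (hz : IsIntegral K z)
    (htop : IntermediateField.adjoin K {z} = ⊤) : CartierH1 K L := by
  have hsurj := Groth.Agent.Lib.Helper7.ExalLib.aeval_surjective_of_isIntegral hz htop
  obtain ⟨h1, h2, h3⟩ := simple_eq z hz.isAlgebraic hsurj
  have := Groth.Agent.Lib.Helper7.ExalLib.isAlgebraic_of_adjoin_simple_eq_top hz htop
  have htr : Algebra.trdeg K L = 0 := trdeg_eq_zero
  refine ⟨h1, h2, by rw [htr]; exact Cardinal.aleph0_pos, ?_⟩
  rw [htr, h3]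
  simp

theorem cartierH1_simple {z : L} (htop : IntermediateField.adjoin K {z} = ⊤) :
    CartierH1 K L := by
  by_cases hz : IsIntegral K z
  · exact cartierH1_algebraic hz htop
  · exact cartierH1_transcendental (fun h => hz h.isIntegral) htop

end simple

section induction

theorem cartierH1_of_card {L : Type u} [Field L] : ∀ (n : ℕ) (K : Type u) [Field K]
    [Algebra K L] (s : Finset L), s.card = n →
    IntermediateField.adjoin K (s : Set L) = ⊤ → CartierH1 K L := by
  intro n
  induction n with
  | zero =>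
    intro K _ _ s hs htop
    have : s = ∅ := Finset.card_eq_zero.1 hs
    subst this
    have h1 : IntermediateField.adjoin K {(1 : L)} = ⊤ := by
      rw [eq_top_iff, ← htop]
      exact IntermediateField.adjoin.mono K _ _ (by simp)
    exact cartierH1_simple h1
  | succ n ih =>
    intro K _ _ s hs htop
    classical
    obtain ⟨x, s', hx, rfl, hs'⟩ := Finset.card_eq_succ.1 hs
    rw [Finset.coe_insert] at htop
    have htop' := Groth.Agent.Lib.Helper7.ExalLib.adjoin_adjoin_simple_eq_top x (s' : Set L) htop
    have h2 : CartierH1 (IntermediateField.adjoin K {x}) L :=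
      ih (IntermediateField.adjoin K {x}) s' hs' htop'
    have h1 : CartierH1 K (IntermediateField.adjoin K {x}) :=
      cartierH1_simple (Groth.Agent.Lib.Helper7.ExalLib.adjoin_gen_eq_top x)
    exact h1.trans h2

/-- Cartier's equality for finitely generated field extensions, in terms of `H¹` of the naive
cotangent complex. -/
theorem cartierH1_of_essFiniteType {K L : Type u} [Field K] [Field L] [Algebra K L]
    [Algebra.EssFiniteType K L] : CartierH1 K L := by
  obtain ⟨s, hs⟩ := IntermediateField.fg_top K L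
  exact cartierH1_of_card s.card K s rfl hs

end induction

section indexlemmas

variable {F : Type*} [Field F]
  {V₁ V₂ V₃ V₄ V₅ V₆ : Type*}
  [AddCommGroup V₁] [Module F V₁] [AddCommGroup V₂] [Module F V₂]
  [AddCommGroup V₃] [Module F V₃] [AddCommGroup V₄] [Module F V₄]
  [AddCommGroup V₅] [Module F V₅] [AddCommGroup V₆] [Module F V₆]
  (f₁ : V₁ →ₗ[F] V₂) (f₂ : V₂ →ₗ[F] V₃) (f₃ : V₃ →ₗ[F] V₄) (f₄ : V₄ →ₗ[F] V₅)
  (f₅ : V₅ →ₗ[F] V₆)

/-- In a six term exact sequence with finite dimensional third and sixth terms, the first and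
fourth maps have finite dimensional kernels and cokernels, and the difference of their
indices is computed by the third and sixth terms. -/
theorem index_one_four
    (h₁ : Function.Injective f₁) (e₂ : Function.Exact f₁ f₂) (e₃ : Function.Exact f₂ f₃)
    (e₄ : Function.Exact f₃ f₄) (e₅ : Function.Exact f₄ f₅) (h₆ : Function.Surjective f₅)
    [Module.Finite F V₃] [Module.Finite F V₆] :
    Module.Finite F (LinearMap.ker f₁) ∧ Module.Finite F (V₂ ⧸ LinearMap.range f₁) ∧
    Module.Finite F (LinearMap.ker f₄) ∧ Module.Finite F (V₅ ⧸ LinearMap.range f₄) ∧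
      ((Module.finrank F (LinearMap.ker f₄) : ℤ) - Module.finrank F (V₅ ⧸ LinearMap.range f₄)) -
        ((Module.finrank F (LinearMap.ker f₁) : ℤ) -
          Module.finrank F (V₂ ⧸ LinearMap.range f₁)) =
        (Module.finrank F V₃ : ℤ) - Module.finrank F V₆ := by
  have k₂ : LinearMap.ker f₂ = LinearMap.range f₁ := LinearMap.exact_iff.mp e₂
  have k₃ : LinearMap.ker f₃ = LinearMap.range f₂ := LinearMap.exact_iff.mp e₃
  have k₄ : LinearMap.ker f₄ = LinearMap.range f₃ := LinearMap.exact_iff.mp e₄
  have k₅ : LinearMap.ker f₅ = LinearMap.range f₄ := LinearMap.exact_iff.mp e₅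
  have hk1 : LinearMap.ker f₁ = ⊥ := LinearMap.ker_eq_bot.mpr h₁
  -- cokernel of `f₁`
  let c1 : (V₂ ⧸ LinearMap.range f₁) ≃ₗ[F] LinearMap.ker f₃ :=
    (Submodule.quotEquivOfEq _ _ k₂.symm).trans
      (f₂.quotKerEquivRange.trans (LinearEquiv.ofEq _ _ k₃.symm))
  -- cokernel of `f₄`
  let c4 : (V₅ ⧸ LinearMap.range f₄) ≃ₗ[F] V₆ :=
    (Submodule.quotEquivOfEq _ _ k₅.symm).trans
      (f₅.quotKerEquivOfSurjective h₆)
  have fin1 : Module.Finite F (LinearMap.ker f₁) := by rw [hk1]; infer_instance
  have fin2 : Module.Finite F (V₂ ⧸ LinearMap.range f₁) := Module.Finite.equiv c1.symm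
  have fin3 : Module.Finite F (LinearMap.ker f₄) := by rw [k₄]; infer_instance
  have fin4 : Module.Finite F (V₅ ⧸ LinearMap.range f₄) := Module.Finite.equiv c4.symm
  refine ⟨fin1, fin2, fin3, fin4, ?_⟩
  have r₃ := LinearMap.finrank_range_add_finrank_ker f₃
  have d1 : Module.finrank F (LinearMap.ker f₁) = 0 := by rw [hk1]; exact finrank_bot F V₁
  have d2 : Module.finrank F (V₂ ⧸ LinearMap.range f₁) = Module.finrank F (LinearMap.ker f₃) :=
    c1.finrank_eq
  have d3 : Module.finrank F (LinearMap.ker f₄) = Module.finrank F (LinearMap.range f₃) := by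
    rw [k₄]
  have d4 : Module.finrank F (V₅ ⧸ LinearMap.range f₄) = Module.finrank F V₆ := c4.finrank_eq
  omega

/-- In a six term exact sequence with finite dimensional first and fourth terms, the second and
fifth maps have finite dimensional kernels and cokernels, and the difference of their
indices is computed by the first and fourth terms. -/
theorem index_two_five
    (h₁ : Function.Injective f₁) (e₂ : Function.Exact f₁ f₂) (e₃ : Function.Exact f₂ f₃)
    (e₄ : Function.Exact f₃ f₄) (e₅ : Function.Exact f₄ f₅) (h₆ : Function.Surjective f₅)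
    [Module.Finite F V₁] [Module.Finite F V₄] :
    Module.Finite F (LinearMap.ker f₂) ∧ Module.Finite F (V₃ ⧸ LinearMap.range f₂) ∧
    Module.Finite F (LinearMap.ker f₅) ∧ Module.Finite F (V₆ ⧸ LinearMap.range f₅) ∧
      ((Module.finrank F (LinearMap.ker f₅) : ℤ) - Module.finrank F (V₆ ⧸ LinearMap.range f₅)) -
        ((Module.finrank F (LinearMap.ker f₂) : ℤ) -
          Module.finrank F (V₃ ⧸ LinearMap.range f₂)) =
        (Module.finrank F V₄ : ℤ) - Module.finrank F V₁ := by
  have k₂ : LinearMap.ker f₂ = LinearMap.range f₁ := LinearMap.exact_iff.mp e₂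
  have k₃ : LinearMap.ker f₃ = LinearMap.range f₂ := LinearMap.exact_iff.mp e₃
  have k₄ : LinearMap.ker f₄ = LinearMap.range f₃ := LinearMap.exact_iff.mp e₄
  have k₅ : LinearMap.ker f₅ = LinearMap.range f₄ := LinearMap.exact_iff.mp e₅
  have hr5 : LinearMap.range f₅ = ⊤ := LinearMap.range_eq_top.mpr h₆
  let c2 : (V₃ ⧸ LinearMap.range f₂) ≃ₗ[F] LinearMap.ker f₄ :=
    (Submodule.quotEquivOfEq _ _ k₃.symm).trans
      (f₃.quotKerEquivRange.trans (LinearEquiv.ofEq _ _ k₄.symm))
  have fin1 : Module.Finite F (LinearMap.ker f₂) := by rw [k₂]; infer_instance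
  have fin2 : Module.Finite F (V₃ ⧸ LinearMap.range f₂) := Module.Finite.equiv c2.symm
  have fin3 : Module.Finite F (LinearMap.ker f₅) := by rw [k₅]; infer_instance
  have hsub : Subsingleton (V₆ ⧸ LinearMap.range f₅) := by
    rw [hr5]; infer_instance
  have fin4 : Module.Finite F (V₆ ⧸ LinearMap.range f₅) := inferInstance
  refine ⟨fin1, fin2, fin3, fin4, ?_⟩
  have r₄ := LinearMap.finrank_range_add_finrank_ker f₄
  have d1 : Module.finrank F (LinearMap.ker f₂) = Module.finrank F V₁ := by
    rw [k₂]; exact LinearMap.finrank_range_of_inj h₁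
  have d2 : Module.finrank F (V₃ ⧸ LinearMap.range f₂) = Module.finrank F (LinearMap.ker f₄) :=
    c2.finrank_eq
  have d3 : Module.finrank F (LinearMap.ker f₅) = Module.finrank F (LinearMap.range f₄) := by
    rw [k₅]
  have d4 : Module.finrank F (V₆ ⧸ LinearMap.range f₅) = 0 :=
    Module.finrank_zero_of_subsingleton
  omega

end indexlemmas

section main

open KaehlerDifferential

variable {k k' K K' : Type u} [Field k] [Field k'] [Field K] [Field K']
  [Algebra k k'] [Algebra k K] [Algebra k K'] [Algebra k' K'] [Algebra K K']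
  [IsScalarTower k k' K'] [IsScalarTower k K K']

theorem kaehler_factor :
    (KaehlerDifferential.map k k' K K').liftBaseChange K' =
      (KaehlerDifferential.map k k' K' K') ∘ₗ (KaehlerDifferential.mapBaseChange k K K') := by
  have h : KaehlerDifferential.map k k' K K' =
      (KaehlerDifferential.map k k' K' K').restrictScalars K ∘ₗ
        KaehlerDifferential.map k k K K' := by
    apply Derivation.liftKaehlerDifferential_unique
    ext x
    simp
  apply TensorProduct.AlgebraTensorModule.curry_injective
  ext x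
  simp [h]

theorem h1_factor :
    (Algebra.H1Cotangent.map k k' K K').liftBaseChange K' =
      (Algebra.H1Cotangent.map k k' K' K') ∘ₗ
        ((Algebra.H1Cotangent.map k k K K').liftBaseChange K') := by
  rw [LinearMap.liftBaseChange_comp]
  congr 1
  unfold Algebra.H1Cotangent.map
  rw [← Algebra.Extension.H1Cotangent.map_comp]
  exact Algebra.Extension.H1Cotangent.map_eq _ _

theorem main_result [Algebra.EssFiniteType k k'] [Algebra.EssFiniteType K K'] :
    Module.Finite K' (LinearMap.ker ((KaehlerDifferential.map k k' K K').liftBaseChange K')) ∧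
      Module.Finite K' (Ω[K'⁄k'] ⧸
        LinearMap.range ((KaehlerDifferential.map k k' K K').liftBaseChange K')) ∧
      Module.Finite K' (LinearMap.ker ((Algebra.H1Cotangent.map k k' K K').liftBaseChange K')) ∧
      Module.Finite K' (Algebra.H1Cotangent k' K' ⧸
        LinearMap.range ((Algebra.H1Cotangent.map k k' K K').liftBaseChange K')) ∧
      ((Module.finrank K'
            (LinearMap.ker ((KaehlerDifferential.map k k' K K').liftBaseChange K')) : ℤ)
          - Module.finrank K' (Ω[K'⁄k'] ⧸
              LinearMap.range ((KaehlerDifferential.map k k' K K').liftBaseChange K'))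
          - Module.finrank K'
              (LinearMap.ker ((Algebra.H1Cotangent.map k k' K K').liftBaseChange K'))
          + Module.finrank K' (Algebra.H1Cotangent k' K' ⧸
              LinearMap.range ((Algebra.H1Cotangent.map k k' K K').liftBaseChange K'))
        = (Cardinal.toNat (Algebra.trdeg k k') : ℤ) - Cardinal.toNat (Algebra.trdeg K K')) := by
  obtain ⟨a1, a2, a3, a4⟩ := cartierH1_of_essFiniteType (K := K) (L := K')
  obtain ⟨b1, b2, b3, b4⟩ := cartierH1_of_essFiniteType (K := k) (L := k')
  -- sequence A : k → K → K'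
  obtain ⟨pA1, pA2, pA3, pA4, pA5⟩ := index_one_four (F := K')
    ((Algebra.H1Cotangent.map k k K K').liftBaseChange K')
    (Algebra.H1Cotangent.map k K K' K')
    (Algebra.H1Cotangent.δ k K K')
    (KaehlerDifferential.mapBaseChange k K K')
    (KaehlerDifferential.map k K K' K')
    Groth.Agent.Lib.Helper7.H1Nat.injective_liftBaseChange_map_fields
    (Algebra.H1Cotangent.exact_liftBaseChange_map_of_flat k K K')
    (Algebra.H1Cotangent.exact_map_δ k K K')
    (Algebra.H1Cotangent.exact_δ_mapBaseChange k K K')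
    (KaehlerDifferential.exact_mapBaseChange_map k K K')
    (KaehlerDifferential.map_surjective k K K')
  -- sequence B : k → k' → K'
  obtain ⟨pB1, pB2, pB3, pB4, pB5⟩ := index_two_five (F := K')
    ((Algebra.H1Cotangent.map k k k' K').liftBaseChange K')
    (Algebra.H1Cotangent.map k k' K' K')
    (Algebra.H1Cotangent.δ k k' K')
    (KaehlerDifferential.mapBaseChange k k' K')
    (KaehlerDifferential.map k k' K' K')
    Groth.Agent.Lib.Helper7.H1Nat.injective_liftBaseChange_map_fields
    (Algebra.H1Cotangent.exact_liftBaseChange_map_of_flat k k' K')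
    (Algebra.H1Cotangent.exact_map_δ k k' K')
    (Algebra.H1Cotangent.exact_δ_mapBaseChange k k' K')
    (KaehlerDifferential.exact_mapBaseChange_map k k' K')
    (KaehlerDifferential.map_surjective k k' K')
  rw [kaehler_factor, h1_factor]
  obtain ⟨q1, q2, q3⟩ := index_comp (F := K') (KaehlerDifferential.mapBaseChange k K K')
    (KaehlerDifferential.map k k' K' K')
  obtain ⟨r1, r2, r3⟩ := index_comp (F := K')
    ((Algebra.H1Cotangent.map k k K K').liftBaseChange K')
    (Algebra.H1Cotangent.map k k' K' K')
  refine ⟨q1, q2, r1, r2, ?_⟩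
  rw [Module.finrank_baseChange, Module.finrank_baseChange] at pB5
  omega

end main

end Groth.Agent.Lib.Seat42.CartierH1
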