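import Mathlib

/-!
# Seat42: local structure of étale / unramified local homomorphisms

Glue between Mathlib's `Algebra.IsEtaleAt.exists_isStandardEtale` and local homomorphisms that are
essentially of finite type.
-/

set_option autoImplicit false
universe u

namespace Groth.Agent.Lib.Seat42.EtLocal

open IsLocalRing

/-- A local ring which is a localization of `D` is the localization of `D` at the preimage of the
maximal ideal. -/
lemma isLocalization_atPrime_comap {D B : Type*} [CommRing D] [CommRing B] [Algebra D B]
    [IsLocalRing B] (M : Submonoid D) [IsLocalization M B] :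
    IsLocalization.AtPrime B ((maximalIdeal B).comap (algebraMap D B)) := by
  refine IsLocalization.of_le M _ ?_ ?_
  · intro x hx
    change x ∉ (maximalIdeal B).comap (algebraMap D B)
    rw [Ideal.mem_comap, mem_maximalIdeal, mem_nonunits_iff, not_not]
    exact IsLocalization.map_units B ⟨x, hx⟩
  · intro r hr
    have : r ∉ (maximalIdeal B).comap (algebraMap D B) := hr
    rw [Ideal.mem_comap, mem_maximalIdeal, mem_nonunits_iff, not_not] at this
    exact this

/-- If a local `A`-algebra `B` is, through an `A`-algebra map `φ : D → B`, a localization of `D`, then `B`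
is `A`-isomorphic to the localization of `D` at a prime. -/
lemma exists_equiv_atPrime {A D B : Type u} [CommRing A] [CommRing D] [CommRing B] [Algebra A D]
    [Algebra A B] [IsLocalRing B] (φ : D →ₐ[A] B) (M : Submonoid D)
    (h : @IsLocalization D _ M B _ φ.toRingHom.toAlgebra) :
    ∃ (𝔮 : Ideal D) (_ : 𝔮.IsPrime), Nonempty (B ≃ₐ[A] Localization.AtPrime 𝔮) := by
  letI : Algebra D B := φ.toRingHom.toAlgebra
  have : IsScalarTower A D B := IsScalarTower.of_algebraMap_eq (fun a => (φ.commutes a).symm)
  have hloc : IsLocalization.AtPrime B ((maximalIdeal B).comap (algebraMap D B)) :=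
    isLocalization_atPrime_comap M
  exact ⟨(maximalIdeal B).comap (algebraMap D B), inferInstance,
    ⟨(IsLocalization.algEquiv ((maximalIdeal B).comap (algebraMap D B)).primeCompl B
      (Localization.AtPrime ((maximalIdeal B).comap (algebraMap D B)))).restrictScalars A⟩⟩

/-- Local structure: a local homomorphism of local rings, essentially of finite type over a Noetherian
local ring and formally étale, is the localization of a standard étale algebra at a prime. -/
theorem exists_standardEtale_atPrime (A B : Type u) [CommRing A] [CommRing B]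
    [IsLocalRing B] [IsNoetherianRing A]
    [Algebra A B] [Algebra.EssFiniteType A B] [Algebra.FormallyEtale A B] :
    ∃ (P : StandardEtalePair A) (𝔮 : Ideal P.Ring) (_ : 𝔮.IsPrime),
      Nonempty (B ≃ₐ[A] Localization.AtPrime 𝔮) := by
  let C := Algebra.EssFiniteType.subalgebra A B
  let M := Algebra.EssFiniteType.submonoid A B
  have hM : IsLocalization M B := Algebra.EssFiniteType.isLocalization A B
  have hfp : Algebra.FinitePresentation A C :=
    Algebra.FinitePresentation.of_finiteType.mp inferInstance
  let 𝔮 : Ideal C := (maximalIdeal B).comap (algebraMap C B)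
  have hloc : IsLocalization.AtPrime B 𝔮 := isLocalization_atPrime_comap M
  have het : Algebra.IsEtaleAt A 𝔮 :=
    Algebra.FormallyEtale.of_equiv
      ((IsLocalization.algEquiv 𝔮.primeCompl B (Localization.AtPrime 𝔮)).restrictScalars A)
  obtain ⟨f, hf, hstd⟩ := Algebra.IsEtaleAt.exists_isStandardEtale (R := A) 𝔮
  have hfu : IsUnit (algebraMap C B f) := by
    have : f ∉ (maximalIdeal B).comap (algebraMap C B) := hf
    rw [Ideal.mem_comap, mem_maximalIdeal, mem_nonunits_iff, not_not] at this
    exact this
  have hle : Submonoid.powers f ≤ M := by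
    rw [Submonoid.powers_le]
    exact hfu
  letI : Algebra (Localization.Away f) B := (IsLocalization.Away.lift f hfu).toAlgebra
  have : IsScalarTower C (Localization.Away f) B :=
    IsScalarTower.of_algebraMap_eq (fun c => (IsLocalization.Away.lift_eq f hfu c).symm)
  have : IsScalarTower A (Localization.Away f) B := IsScalarTower.to₁₃₄ A C (Localization.Away f) B
  have hM' : IsLocalization (M.map (algebraMap C (Localization.Away f))) B :=
    IsLocalization.isLocalization_of_submonoid_le (Localization.Away f) B (Submonoid.powers f) M hle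
  obtain ⟨Pres⟩ := hstd.nonempty_standardEtalePresentation
  let e : Localization.Away f ≃ₐ[A] Pres.P.Ring := Pres.equivRing
  let φ : Pres.P.Ring →ₐ[A] B :=
    { toRingHom := (algebraMap (Localization.Away f) B).comp e.toRingEquiv.symm.toRingHom
      commutes' := fun a => by
        simp only [RingHom.toMonoidHom_eq_coe, OneHom.toFun_eq_coe, MonoidHom.toOneHom_coe,
          MonoidHom.coe_coe, RingHom.coe_comp, Function.comp_apply]
        change algebraMap (Localization.Away f) B (e.symm (algebraMap A Pres.P.Ring a)) = _
        rw [e.symm.commutes, ← IsScalarTower.algebraMap_apply] }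
  have hloc' := IsLocalization.isLocalization_of_base_ringEquiv
    (M.map (algebraMap C (Localization.Away f))) B e.toRingEquiv
  obtain ⟨𝔯, h𝔯, he⟩ := exists_equiv_atPrime φ _ hloc'
  exact ⟨Pres.P, 𝔯, h𝔯, he⟩

/-- If every element of the local `A`-algebra `B` is a fraction `ψ x / ψ s` of images under an `A`-algebra map
`ψ : D → B`, then `B` is a quotient of the localization of `D` at a prime. -/
lemma exists_equiv_atPrime_quotient {A D B : Type u} [CommRing A] [CommRing D] [CommRing B]
    [Algebra A D] [Algebra A B] [IsLocalRing B] (ψ : D →ₐ[A] B)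
    (h : ∀ b : B, ∃ x s : D, IsUnit (ψ s) ∧ b * ψ s = ψ x) :
    ∃ (𝔯 : Ideal D) (_ : 𝔯.IsPrime) (I : Ideal (Localization.AtPrime 𝔯)),
      Nonempty (B ≃ₐ[A] (Localization.AtPrime 𝔯 ⧸ I)) := by
  let 𝔯 : Ideal D := (maximalIdeal B).comap ψ.toRingHom
  have hunit : ∀ y : 𝔯.primeCompl, IsUnit (ψ y) := by
    rintro ⟨y, hy⟩
    have : y ∉ (maximalIdeal B).comap ψ.toRingHom := hy
    rw [Ideal.mem_comap, mem_maximalIdeal, mem_nonunits_iff, not_not] at this
    exact this
  let ψ' : Localization.AtPrime 𝔯 →ₐ[A] B :=
    IsLocalization.liftAlgHom (M := 𝔯.primeCompl) (f := ψ) hunit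
  have hsurj : Function.Surjective ψ' := by
    intro b
    obtain ⟨x, s, hs, hb⟩ := h b
    have hs' : s ∈ 𝔯.primeCompl := by
      change s ∉ (maximalIdeal B).comap ψ.toRingHom
      rw [Ideal.mem_comap, mem_maximalIdeal, mem_nonunits_iff, not_not]
      exact hs
    refine ⟨IsLocalization.mk' (Localization.AtPrime 𝔯) x ⟨s, hs'⟩, ?_⟩
    have h1 : ψ' (IsLocalization.mk' (Localization.AtPrime 𝔯) x ⟨s, hs'⟩) * ψ s = ψ x := by
      have h2 : ψ s = ψ' (algebraMap D (Localization.AtPrime 𝔯) s) := by
        simp [ψ']
      have h3 : ψ x = ψ' (algebraMap D (Localization.AtPrime 𝔯) x) := by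
        simp [ψ']
      rw [h2, h3, ← map_mul]
      congr 1
      exact IsLocalization.mk'_spec (Localization.AtPrime 𝔯) x ⟨s, hs'⟩
    exact hs.mul_left_injective (h1.trans hb.symm)
  exact ⟨𝔯, inferInstance, RingHom.ker ψ'.toRingHom,
    ⟨(Ideal.quotientKerAlgEquivOfSurjective hsurj).symm⟩⟩

/-- Local structure: a local ring `B` essentially of finite type and formally unramified over a ring `A`
is a quotient of the localization of a standard étale algebra at a prime. -/
theorem exists_standardEtale_atPrime_quotient (A B : Type u) [CommRing A] [CommRing B]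
    [IsLocalRing B] [Algebra A B] [Algebra.EssFiniteType A B] [Algebra.FormallyUnramified A B] :
    ∃ (P : StandardEtalePair A) (𝔮 : Ideal P.Ring) (_ : 𝔮.IsPrime)
      (I : Ideal (Localization.AtPrime 𝔮)), Nonempty (B ≃ₐ[A] (Localization.AtPrime 𝔮 ⧸ I)) := by
  let C := Algebra.EssFiniteType.subalgebra A B
  let M := Algebra.EssFiniteType.submonoid A B
  have hM : IsLocalization M B := Algebra.EssFiniteType.isLocalization A B
  let 𝔮 : Ideal C := (maximalIdeal B).comap (algebraMap C B)
  have hloc : IsLocalization.AtPrime B 𝔮 := isLocalization_atPrime_comap M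
  have het : Algebra.IsUnramifiedAt A 𝔮 :=
    Algebra.FormallyUnramified.of_equiv
      ((IsLocalization.algEquiv 𝔮.primeCompl B (Localization.AtPrime 𝔮)).restrictScalars A)
  obtain ⟨f, hf, P, φ, hφ⟩ := Algebra.IsUnramifiedAt.exists_hasStandardEtaleSurjectionOn (R := A) 𝔮
  have hfu : IsUnit (algebraMap C B f) := by
    have : f ∉ (maximalIdeal B).comap (algebraMap C B) := hf
    rw [Ideal.mem_comap, mem_maximalIdeal, mem_nonunits_iff, not_not] at this
    exact this
  letI : Algebra (Localization.Away f) B := (IsLocalization.Away.lift f hfu).toAlgebra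
  have : IsScalarTower C (Localization.Away f) B :=
    IsScalarTower.of_algebraMap_eq (fun c => (IsLocalization.Away.lift_eq f hfu c).symm)
  have : IsScalarTower A (Localization.Away f) B := IsScalarTower.to₁₃₄ A C (Localization.Away f) B
  let ψ : P.Ring →ₐ[A] B := (IsScalarTower.toAlgHom A (Localization.Away f) B).comp φ
  obtain ⟨𝔯, h𝔯, I, he⟩ := exists_equiv_atPrime_quotient ψ (by
    intro b
    obtain ⟨⟨c, s⟩, hcs⟩ := IsLocalization.surj M b
    obtain ⟨x, hx⟩ := hφ (algebraMap C (Localization.Away f) c)
    obtain ⟨t, ht⟩ := hφ (algebraMap C (Localization.Away f) s.1)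
    have hψt : ψ t = algebraMap C B s.1 := by
      simp only [ψ, AlgHom.comp_apply, ht, IsScalarTower.coe_toAlgHom']
      rw [← IsScalarTower.algebraMap_apply]
    have hψx : ψ x = algebraMap C B c := by
      simp only [ψ, AlgHom.comp_apply, hx, IsScalarTower.coe_toAlgHom']
      rw [← IsScalarTower.algebraMap_apply]
    refine ⟨x, t, ?_, ?_⟩
    · rw [hψt]; exact IsLocalization.map_units B s
    · rw [hψt, hψx]; exact hcs)
  exact ⟨P, 𝔯, h𝔯, I, he⟩

end Groth.Agent.Lib.Seat42.EtLocal
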