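import Mathlib

/-!
# Seat42: étale morphisms are locally open in a monogenic standard étale scheme `Spec (R[t]/p)[1/p']`

* `exists_openImmersion_of_etale`: for an étale `R`-algebra `S` and a prime `𝔮`, there are `f ∉ 𝔮`, a monic `p` and an
  `R`-algebra map `(R[t]/p)[1/p'] → S_f` inducing an open immersion on spectra.
* `etale_appLE_of_etale_nhd`, `main`: the scheme version (statement S9567).
-/

set_option autoImplicit false
universe u

namespace Groth.Agent.Lib.Seat42.EtMonogenic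

open AlgebraicGeometry CategoryTheory Polynomial TopologicalSpace


variable {R : Type u} [CommRing R] (P : StandardEtalePair R)

/-- the canonical map `R[t]/f → P.Ring`. -/
noncomputable def iota : AdjoinRoot P.f →ₐ[R] P.Ring :=
  AdjoinRoot.liftAlgHom _ _ P.X P.hasMap_X.1

lemma iota_root : iota P (AdjoinRoot.root P.f) = P.X := by
  simp [iota]

lemma iota_mk (q : R[X]) : iota P (AdjoinRoot.mk P.f q) = aeval P.X q := by
  simp only [iota, AdjoinRoot.liftAlgHom_mk, Polynomial.aeval_def]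
  rfl

lemma isUnit_iota_derivative : IsUnit (iota P (AdjoinRoot.mk P.f (derivative P.f))) := by
  rw [iota_mk]; exact P.hasMap_X.isUnit_derivative_f

lemma isUnit_iota_g : IsUnit (iota P (AdjoinRoot.mk P.f P.g)) := by
  rw [iota_mk]; exact P.hasMap_X.2

lemma equiv_X : P.equivAwayAdjoinRoot P.X =
    algebraMap (AdjoinRoot P.f) (Localization.Away (AdjoinRoot.mk P.f P.g)) (AdjoinRoot.root P.f) := by
  simp [StandardEtalePair.equivAwayAdjoinRoot]

lemma iota_eq : iota P = (P.equivAwayAdjoinRoot.symm.toAlgHom).comp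
    (IsScalarTower.toAlgHom R (AdjoinRoot P.f) (Localization.Away (AdjoinRoot.mk P.f P.g))) := by
  apply AdjoinRoot.algHom_ext
  rw [iota_root, AlgHom.comp_apply, IsScalarTower.coe_toAlgHom', ← equiv_X]
  simp

/-- the induced map `(R[t]/f)[1/f'] → P.Ring`. -/
noncomputable def theta0 : Localization.Away (AdjoinRoot.mk P.f (derivative P.f)) →ₐ[R] P.Ring :=
  IsLocalization.Away.liftAlgHom (AdjoinRoot.mk P.f (derivative P.f)) (f := iota P)
    (isUnit_iota_derivative P)

lemma theta0_comp : (theta0 P).toRingHom.comp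
    (algebraMap (AdjoinRoot P.f) (Localization.Away (AdjoinRoot.mk P.f (derivative P.f)))) =
    (iota P).toRingHom := by
  rw [theta0, IsLocalization.Away.liftAlgHom_toRingHom]
  exact IsLocalization.Away.lift_comp _ _

theorem isOpenImmersion_iota : IsOpenImmersion (Spec.map (CommRingCat.ofHom (iota P).toRingHom)) := by
  have h : (iota P).toRingHom = (P.equivAwayAdjoinRoot.symm.toRingEquiv.toRingHom).comp
      (algebraMap (AdjoinRoot P.f) (Localization.Away (AdjoinRoot.mk P.f P.g))) := by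
    conv_lhs => rw [iota_eq]
    rfl
  rw [h, CommRingCat.ofHom_comp, Spec.map_comp]
  have : IsIso (Spec.map (CommRingCat.ofHom P.equivAwayAdjoinRoot.symm.toRingEquiv.toRingHom)) := by
    have : IsIso (CommRingCat.ofHom P.equivAwayAdjoinRoot.symm.toRingEquiv.toRingHom) :=
      (ConcreteCategory.isIso_iff_bijective _).mpr P.equivAwayAdjoinRoot.symm.bijective
    infer_instance
  have : IsOpenImmersion (Spec.map (CommRingCat.ofHom
      (algebraMap (AdjoinRoot P.f) (Localization.Away (AdjoinRoot.mk P.f P.g))))) :=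
    IsOpenImmersion.of_isLocalization (AdjoinRoot.mk P.f P.g)
  infer_instance

theorem isOpenImmersion_theta0 :
    IsOpenImmersion (Spec.map (CommRingCat.ofHom (theta0 P).toRingHom)) := by
  have h2 : IsOpenImmersion (Spec.map (CommRingCat.ofHom
      (algebraMap (AdjoinRoot P.f) (Localization.Away (AdjoinRoot.mk P.f (derivative P.f)))))) :=
    IsOpenImmersion.of_isLocalization (AdjoinRoot.mk P.f (derivative P.f))
  have h3 : Spec.map (CommRingCat.ofHom (theta0 P).toRingHom) ≫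
      Spec.map (CommRingCat.ofHom
        (algebraMap (AdjoinRoot P.f) (Localization.Away (AdjoinRoot.mk P.f (derivative P.f))))) =
      Spec.map (CommRingCat.ofHom (iota P).toRingHom) := by
    rw [← Spec.map_comp, ← CommRingCat.ofHom_comp, theta0_comp]
  have h1 := isOpenImmersion_iota P
  rw [← h3] at h1
  exact IsOpenImmersion.of_comp _ (Spec.map (CommRingCat.ofHom
    (algebraMap (AdjoinRoot P.f) (Localization.Away (AdjoinRoot.mk P.f (derivative P.f))))))

theorem exists_openImmersion_of_etale (R S : Type u) [CommRing R] [CommRing S] [Algebra R S]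
    [Algebra.Etale R S] (𝔮 : Ideal S) [𝔮.IsPrime] :
    ∃ f ∉ 𝔮, ∃ (p : R[X]) (_ : p.Monic)
      (θ : Localization.Away (AdjoinRoot.mk p (derivative p)) →ₐ[R] Localization.Away f),
      IsOpenImmersion (Spec.map (CommRingCat.ofHom θ.toRingHom)) := by
  have : Algebra.FinitePresentation R S := Algebra.Etale.finitePresentation
  have : Algebra.IsEtaleAt R 𝔮 := by
    have : Algebra.FormallyEtale S (Localization.AtPrime 𝔮) :=
      Algebra.FormallyEtale.of_isLocalization 𝔮.primeCompl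
    exact Algebra.FormallyEtale.comp R S (Localization.AtPrime 𝔮)
  obtain ⟨f, hf, hstd⟩ := Algebra.IsEtaleAt.exists_isStandardEtale (R := R) 𝔮
  obtain ⟨Pres⟩ := hstd.nonempty_standardEtalePresentation
  refine ⟨f, hf, Pres.P.f, Pres.P.monic_f, Pres.equivRing.symm.toAlgHom.comp (theta0 Pres.P), ?_⟩
  have h : (Pres.equivRing.symm.toAlgHom.comp (theta0 Pres.P)).toRingHom =
      (Pres.equivRing.symm.toRingEquiv.toRingHom).comp (theta0 Pres.P).toRingHom := rfl
  rw [h, CommRingCat.ofHom_comp, Spec.map_comp]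
  have : IsIso (Spec.map (CommRingCat.ofHom Pres.equivRing.symm.toRingEquiv.toRingHom)) := by
    have : IsIso (CommRingCat.ofHom Pres.equivRing.symm.toRingEquiv.toRingHom) :=
      (ConcreteCategory.isIso_iff_bijective _).mpr Pres.equivRing.symm.bijective
    infer_instance
  have := isOpenImmersion_theta0 Pres.P
  infer_instance


theorem etale_appLE_of_etale_nhd {X Y : Scheme.{u}} (φ : X ⟶ Y) (x : X)
    (V : Y.Opens) (hV : IsAffineOpen V) (hxV : φ.base x ∈ V)
    (hφ : ∃ W : X.Opens, x ∈ W ∧ Etale (W.ι ≫ φ)) :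
    ∃ (U₀ : X.Opens) (_ : IsAffineOpen U₀) (_ : x ∈ U₀) (e₀ : U₀ ≤ φ ⁻¹ᵁ V),
      (φ.appLE V U₀ e₀).hom.Etale := by
  obtain ⟨W, hxW, hW⟩ := hφ
  obtain ⟨(U₀ : X.Opens), hU₀, hxU₀, hle⟩ := Opens.isBasis_iff_nbhd.mp X.isBasis_affineOpens
    (show x ∈ W ⊓ φ ⁻¹ᵁ V from ⟨hxW, hxV⟩)
  have hU₀W : U₀ ≤ W := hle.trans inf_le_left
  have e₀ : U₀ ≤ φ ⁻¹ᵁ V := hle.trans inf_le_right
  refine ⟨U₀, hU₀, hxU₀, e₀, ?_⟩
  have h1 : Etale (U₀.ι ≫ φ) := by
    rw [← X.homOfLE_ι hU₀W, Category.assoc]; infer_instance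
  have h2 : Etale (φ.resLE V U₀ e₀) := by
    have : Etale (φ.resLE V U₀ e₀ ≫ V.ι) := by rw [Scheme.Hom.resLE_comp_ι]; exact h1
    exact MorphismProperty.of_postcomp (W := @Etale) (W' := @Etale) _ V.ι inferInstance this
  have : IsAffine U₀ := hU₀
  have : IsAffine V := hV
  have h3 := HasRingHomProperty.appTop (P := @Etale) _ h2
  exact (RingHom.Etale.respectsIso.arrow_mk_iso_iff (arrowResLEAppIso φ V U₀ e₀)).mp h3

theorem main {X Y : Scheme.{u}} (φ : X ⟶ Y) (x : X) (V : Y.Opens)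
    (U₀ : X.Opens) (hU₀ : IsAffineOpen U₀) (hx : x ∈ U₀) (e₀ : U₀ ≤ φ ⁻¹ᵁ V)
    (het : (φ.appLE V U₀ e₀).hom.Etale) :
    ∃ (U : X.Opens) (hU : IsAffineOpen U) (_ : x ∈ U) (e : U ≤ φ ⁻¹ᵁ V)
      (p : Polynomial Γ(Y, V)) (_ : p.Monic)
      (j : U.toScheme ⟶ Spec (CommRingCat.of (Localization.Away (AdjoinRoot.mk p (Polynomial.derivative p))))),
      IsOpenImmersion j ∧
        j ≫ Spec.map (CommRingCat.ofHom
            (algebraMap Γ(Y, V) (Localization.Away (AdjoinRoot.mk p (Polynomial.derivative p))))) =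
          hU.isoSpec.hom ≫ Spec.map (φ.appLE V U e) := by
  let _ : Algebra Γ(Y, V) Γ(X, U₀) := (φ.appLE V U₀ e₀).hom.toAlgebra
  have : Algebra.Etale Γ(Y, V) Γ(X, U₀) := het
  obtain ⟨f, hf, p, hp, θ, hθ⟩ := exists_openImmersion_of_etale Γ(Y, V) Γ(X, U₀)
    (hU₀.primeIdealOf ⟨x, hx⟩).asIdeal
  have hxf : x ∈ X.basicOpen f := by
    have h1 : hU₀.primeIdealOf ⟨x, hx⟩ ∈ PrimeSpectrum.basicOpen f := hf
    rw [← hU₀.fromSpec_preimage_basicOpen] at h1
    have h2 : hU₀.fromSpec (hU₀.primeIdealOf ⟨x, hx⟩) ∈ X.basicOpen f := h1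
    rwa [hU₀.fromSpec_primeIdealOf] at h2
  have hU := hU₀.basicOpen f
  have e : X.basicOpen f ≤ φ ⁻¹ᵁ V := (X.basicOpen_le f).trans e₀
  have hloc : IsLocalization.Away f Γ(X, X.basicOpen f) := hU₀.isLocalization_basicOpen f
  let κ : Localization.Away f ≃ₐ[Γ(X, U₀)] Γ(X, X.basicOpen f) :=
    IsLocalization.algEquiv (.powers f) _ _
  refine ⟨X.basicOpen f, hU, hxf, e, p, hp,
    hU.isoSpec.hom ≫ Spec.map (CommRingCat.ofHom (κ.toRingEquiv.toRingHom.comp θ.toRingHom)), ?_, ?_⟩
  · rw [CommRingCat.ofHom_comp, Spec.map_comp]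
    have : IsIso (Spec.map (CommRingCat.ofHom κ.toRingEquiv.toRingHom)) := by
      have : IsIso (CommRingCat.ofHom κ.toRingEquiv.toRingHom) :=
        (ConcreteCategory.isIso_iff_bijective _).mpr κ.bijective
      infer_instance
    infer_instance
  · rw [Category.assoc, ← Spec.map_comp]
    congr 2
    ext r
    change κ (θ (algebraMap _ _ r)) = φ.appLE V (X.basicOpen f) e r
    rw [θ.commutes, IsScalarTower.algebraMap_apply Γ(Y, V) Γ(X, U₀) (Localization.Away f),
      κ.commutes]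
    change (X.presheaf.map (homOfLE (X.basicOpen_le f)).op) (φ.appLE V U₀ e₀ r) = _
    rw [← CommRingCat.comp_apply, Scheme.Hom.appLE_map]

end Groth.Agent.Lib.Seat42.EtMonogenic
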