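import Mathlib

/-!
# Two transcendence degree lemmas for a subalgebra of a domain (seat 91)

Namespace `Groth.Agent.Lib.Seat91.TrdegAux`.
-/

set_option autoImplicit false
set_option linter.unusedSectionVars false
set_option linter.style.haveILetI false

universe u

open Cardinal

namespace Groth.Agent.Lib.Seat91.TrdegAux

variable {k D : Type u} [Field k] [CommRing D] [IsDomain D] [Algebra k D]

theorem trdeg_fractionRing : Algebra.trdeg k (FractionRing D) = Algebra.trdeg k D := by
  haveI : Algebra.IsAlgebraic D (FractionRing D) :=
    IsLocalization.isAlgebraic (FractionRing D) (nonZeroDivisors D)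
  have h := trdeg_add_eq k D (A := FractionRing D)
  rw [trdeg_eq_zero (R := D) (A := FractionRing D), add_zero] at h
  exact h.symm

/-- a transcendental element over a subalgebra raises the transcendence degree -/
theorem trdeg_add_one_le (E : Subalgebra k D) (h : D) (hh : Transcendental E h) :
    Algebra.trdeg k E + 1 ≤ Algebra.trdeg k D := by
  haveI : Algebra.Transcendental E D := ⟨⟨h, hh⟩⟩
  have h1 := trdeg_add_eq k E (A := D)
  rw [← h1]
  gcongr
  exact Cardinal.one_le_iff_pos.2 (trdeg_pos E D)

/-- if `D` is algebraic over `E[h]` then the transcendence degree goes up by at most one -/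
theorem trdeg_le_add_one (E : Subalgebra k D) (h : D)
    (halg : ∀ d : D, IsAlgebraic (Algebra.adjoin E ({h} : Set D)) d) :
    Algebra.trdeg k D ≤ Algebra.trdeg k E + 1 := by
  haveI : Algebra.IsAlgebraic (Algebra.adjoin E ({h} : Set D)) D := ⟨halg⟩
  have h1 := trdeg_add_eq k E (A := D)
  rw [← h1]
  gcongr
  have h2 := Algebra.IsAlgebraic.trdeg_le_cardinalMk E ({h} : Set D)
  simpa using h2

end Groth.Agent.Lib.Seat91.TrdegAux
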