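import Mathlib
import Groth.Agent.Lib.Helper14FTDim
import Groth.Agent.Lib.Seat91TrdegAux
import Groth.Prelude.Def_RegImm

set_option autoImplicit false
universe u

open Polynomial

namespace Groth.Agent.Lib.Seat42.FieldGCI

section core

variable {A K : Type u} [CommRing A] [IsDomain A] [Field K] [Algebra A K]

omit [IsDomain A] in
/-- A nonzero polynomial of minimal degree vanishing at an algebraic element. -/
theorem exists_minimal_poly (e : K)
    (he : IsAlgebraic A e) :
    ∃ p : A[X], p ≠ 0 ∧ aeval e p = 0 ∧
      ∀ q : A[X], q ≠ 0 → aeval e q = 0 → p.natDegree ≤ q.natDegree := by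
  classical
  have hex : ∃ d : ℕ, ∃ p : A[X], p ≠ 0 ∧ aeval e p = 0 ∧ p.natDegree = d := by
    obtain ⟨p, hp0, hp⟩ := he
    exact ⟨p.natDegree, p, hp0, hp, rfl⟩
  obtain ⟨p, hp0, hp, hpd⟩ := Nat.find_spec hex
  refine ⟨p, hp0, hp, fun q hq0 hq => ?_⟩
  rw [hpd]
  exact Nat.find_min' hex ⟨q, hq0, hq, rfl⟩

variable {B : Type u} [CommRing B] [Algebra A B] [Algebra B K] [IsScalarTower A B K]

/-- The key divisibility: if `p` has minimal degree among nonzero polynomials over `A` vanishing
at `e`, `B = A[1/a]` with `a` the leading coefficient of `p`, and `P = a⁻¹ p` is the monic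
normalisation, then every polynomial over `B` vanishing at `e` is a multiple of `P`. -/
theorem dvd_of_aeval_eq_zero (a : A) [IsLocalization.Away a B] (ha : a ≠ 0)
    (e : K) (p : A[X])
    (hmin : ∀ q : A[X], q ≠ 0 → aeval e q = 0 → p.natDegree ≤ q.natDegree)
    (P : B[X]) (hP : P.Monic) (hPdeg : P.natDegree = p.natDegree) (hpos : 0 < p.natDegree)
    (f : B[X]) (hf : aeval e f = 0) (hPe : aeval e P = 0) : P ∣ f := by
  classical
  have : Nontrivial B := by
    have : Function.Injective (algebraMap A B) :=
      IsLocalization.injective B (M := Submonoid.powers a)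
        (powers_le_nonZeroDivisors_of_noZeroDivisors ha)
    exact this.nontrivial
  rw [← Polynomial.modByMonic_eq_zero_iff_dvd hP]
  by_contra hr
  set r := f %ₘ P with hrdef
  have hre : aeval e r = 0 := by
    have h1 : r + P * (f /ₘ P) = f := Polynomial.modByMonic_add_div f P
    have h2 := congrArg (aeval e) h1
    rw [map_add, map_mul, hf, hPe, zero_mul, add_zero] at h2
    exact h2
  have hrdeg : r.natDegree < P.natDegree := by
    apply Polynomial.natDegree_modByMonic_lt f hP
    intro h1
    rw [h1, natDegree_one] at hPdeg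
    omega
  set r' := IsLocalization.integerNormalization (Submonoid.powers a) r with hr'def
  have hM : Submonoid.powers a ≤ nonZeroDivisors A :=
    powers_le_nonZeroDivisors_of_noZeroDivisors ha
  have hr'0 : r' ≠ 0 := by
    rw [Ne, IsLocalization.integerNormalization_eq_zero_iff hM]
    exact hr
  obtain ⟨b, hbM, hb⟩ := IsLocalization.integerNormalization_spec (Submonoid.powers a) r
  have hr'e : aeval e r' = 0 := by
    have h1 : aeval e (r'.map (algebraMap A B)) = aeval e r' :=
      Polynomial.aeval_map_algebraMap B e r'
    rw [← h1, hb]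
    rw [Algebra.smul_def, map_mul, hre, mul_zero]
  have hr'deg : r'.natDegree ≤ r.natDegree := by
    apply Polynomial.natDegree_le_natDegree
    exact Finset.max_mono (IsLocalization.integerNormalization_support (Submonoid.powers a) r)
  have := hmin r' hr'0 hr'e
  omega

end core

section good

variable (k : Type u) [Field k] (K : Type u) [Field K] [Algebra k K]

/-- `E ⊆ K` is contained in (the image of) a finitely presented `k`-algebra embedded in `K`
whose presentation has as many relations as the codimension. -/
def Good (E : Set K) : Prop :=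
  ∃ (A : Type u) (_ : CommRing A) (_ : Algebra k A) (j : A →ₐ[k] K) (ι σ : Type)
    (_ : Finite ι) (_ : Finite σ) (_ : Algebra.Presentation k A ι σ),
    Function.Injective j ∧ E ⊆ Set.range j ∧
      Algebra.trdeg k A + (Nat.card σ : Cardinal.{u}) = (Nat.card ι : Cardinal.{u})

theorem good_empty : Good k K (∅ : Set K) := by
  refine ⟨k, inferInstance, inferInstance, Algebra.ofId k K, PEmpty, PEmpty, inferInstance,
    inferInstance, Algebra.Presentation.id k, (algebraMap k K).injective, Set.empty_subset _, ?_⟩
  have : Algebra.trdeg k k = 0 := trdeg_eq_zero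
  rw [this]
  simp

/-- The presentation of a polynomial ring in one variable without relations. -/
noncomputable def polyPres (A : Type u) [CommRing A] :
    Algebra.Presentation A (MvPolynomial Unit A) Unit PEmpty.{1} where
  __ := Algebra.Generators.mvPolynomial A Unit
  relation := PEmpty.elim
  span_range_relation_eq_ker := by
    rw [Algebra.Generators.ker_mvPolynomial]
    have : Set.range (PEmpty.elim : PEmpty.{1} → MvPolynomial Unit A) = ∅ := Set.range_eq_empty _
    rw [this, Ideal.span_empty]

variable {k K}

theorem good_insert_transc {A : Type u} [CommRing A] [Algebra k A] [Algebra A K]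
    [IsScalarTower k A K] (hinj : Function.Injective (algebraMap A K))
    {ι σ : Type} [Finite ι] [Finite σ] (P : Algebra.Presentation k A ι σ) (E : Set K)
    (hE : E ⊆ Set.range (algebraMap A K))
    (htr : Algebra.trdeg k A + (Nat.card σ : Cardinal.{u}) = (Nat.card ι : Cardinal.{u}))
    (e : K) (he : Transcendental A e) : Good k K (insert e E) := by
  have : IsDomain A := hinj.isDomain (algebraMap A K)
  let j' : MvPolynomial Unit A →ₐ[k] K :=
    (MvPolynomial.aeval (R := A) (fun _ : Unit => e)).restrictScalars k
  have hj' : Function.Injective j' := by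
    have : AlgebraicIndependent A (fun _ : Unit => e) :=
      algebraicIndependent_unique_type_iff.mpr he
    exact this
  refine ⟨MvPolynomial Unit A, inferInstance, inferInstance, j', Unit ⊕ ι, PEmpty.{1} ⊕ σ,
    inferInstance, inferInstance, (polyPres A).comp P, hj', ?_, ?_⟩
  · intro x hx
    rcases hx with rfl | hx
    · exact ⟨MvPolynomial.X (), by simp [j']⟩
    · obtain ⟨a, rfl⟩ := hE hx
      exact ⟨MvPolynomial.C a, by simp [j']⟩
  · have : FaithfulSMul k A :=
      (faithfulSMul_iff_algebraMap_injective k A).mpr (algebraMap k A).injective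
    have h1 := trdeg_add_eq k A (A := MvPolynomial Unit A)
    rw [MvPolynomial.trdeg_of_isDomain] at h1
    rw [← h1, Nat.card_sum, Nat.card_sum]
    simp only [Nat.card_eq_fintype_card, Fintype.card_unit, Fintype.card_pempty, zero_add,
      Nat.cast_add, Nat.cast_one, Cardinal.mk_fintype, Cardinal.lift_one]
    rw [← htr]
    ring

theorem good_insert_alg {A : Type u} [CommRing A] [Algebra k A] [Algebra A K]
    [IsScalarTower k A K] (hinj : Function.Injective (algebraMap A K))
    {ι σ : Type} [Finite ι] [Finite σ] (P₀ : Algebra.Presentation k A ι σ) (E : Set K)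
    (hE : E ⊆ Set.range (algebraMap A K))
    (htr : Algebra.trdeg k A + (Nat.card σ : Cardinal.{u}) = (Nat.card ι : Cardinal.{u}))
    (e : K) (he : IsAlgebraic A e) : Good k K (insert e E) := by
  classical
  have : IsDomain A := hinj.isDomain (algebraMap A K)
  obtain ⟨p, hp0, hpe, hmin⟩ := exists_minimal_poly e he
  have hpos : 0 < p.natDegree := by
    by_contra h
    have h0 : p.natDegree = 0 := by omega
    obtain ⟨c, rfl⟩ := Polynomial.natDegree_eq_zero.mp h0
    rw [aeval_C] at hpe
    have hc : c = 0 := hinj (by rw [hpe, map_zero])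
    exact hp0 (by rw [hc, map_zero])
  set a := p.leadingCoeff with ha_def
  have ha : a ≠ 0 := Polynomial.leadingCoeff_ne_zero.mpr hp0
  have hM : Submonoid.powers a ≤ nonZeroDivisors A :=
    powers_le_nonZeroDivisors_of_noZeroDivisors ha
  let B := Localization.Away a
  have hAB : Function.Injective (algebraMap A B) :=
    IsLocalization.injective B (M := Submonoid.powers a) hM
  have : IsDomain B := IsLocalization.isDomain_of_le_nonZeroDivisors (R := A) B hM
  have haK : IsUnit (algebraMap A K a) := by
    apply IsUnit.mk0
    intro h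
    exact ha (hinj (by rw [h, map_zero]))
  let φ : B →+* K := IsLocalization.Away.lift a haK
  let algBK : Algebra B K := φ.toAlgebra
  have hφ : ∀ x : A, algebraMap B K (algebraMap A B x) = algebraMap A K x := fun x =>
    IsLocalization.Away.lift_eq a haK x
  have : IsScalarTower A B K := IsScalarTower.of_algebraMap_eq fun x => (hφ x).symm
  have : IsScalarTower k B K := IsScalarTower.of_algebraMap_eq fun x => by
    rw [IsScalarTower.algebraMap_apply k A B, hφ, ← IsScalarTower.algebraMap_apply k A K]
  have hBK : Function.Injective (algebraMap B K) := by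
    refine (IsLocalization.lift_injective_iff (M := Submonoid.powers a) _).mpr fun x y => ?_
    constructor
    · intro h; rw [hAB h]
    · intro h; rw [hinj h]
  -- the monic polynomial
  let binv : B := IsLocalization.Away.invSelf a
  have hbinv : algebraMap A B a * binv = 1 := IsLocalization.Away.mul_invSelf a
  let P : B[X] := C binv * p.map (algebraMap A B)
  have hlc : (p.map (algebraMap A B)).leadingCoeff = algebraMap A B a :=
    Polynomial.leadingCoeff_map_of_injective hAB p
  have hPmonic : P.Monic := by
    apply Polynomial.monic_C_mul_of_mul_leadingCoeff_eq_one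
    rw [hlc, mul_comm]; exact hbinv
  have hbinv0 : binv ≠ 0 := by
    intro h; rw [h, mul_zero] at hbinv; exact zero_ne_one hbinv
  have hPdeg : P.natDegree = p.natDegree := by
    rw [Polynomial.natDegree_C_mul hbinv0, Polynomial.natDegree_map_eq_of_injective hAB]
  have hPe : aeval e P = 0 := by
    rw [map_mul, Polynomial.aeval_map_algebraMap, hpe, mul_zero]
  have hdvd : ∀ f : B[X], aeval e f = 0 → P ∣ f := fun f hf =>
    dvd_of_aeval_eq_zero a ha e p hmin P hPmonic hPdeg hpos f hf hPe
  -- the quotient algebra
  let θ : MvPolynomial Unit B ≃ₐ[B] B[X] := MvPolynomial.uniqueAlgEquiv B Unit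
  let P' : MvPolynomial Unit B := θ.symm P
  let I : Ideal (MvPolynomial Unit B) := Ideal.span (Set.range (fun _ : Unit => P'))
  let A' := MvPolynomial Unit B ⧸ I
  let Q : Algebra.Presentation B A' Unit Unit :=
    Algebra.Presentation.naive (v := fun _ : Unit => P')
  let ψ : MvPolynomial Unit B →ₐ[B] K := MvPolynomial.aeval (fun _ : Unit => e)
  have hψ : ψ = (Polynomial.aeval e).comp θ.toAlgHom := by
    apply MvPolynomial.algHom_ext
    intro i
    simp [ψ, θ]
  have hψ' : ∀ f, ψ f = aeval e (θ f) := fun f => by rw [hψ]; rfl
  have hI : ∀ f ∈ I, ψ f = 0 := by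
    intro f hf
    have : I ≤ RingHom.ker ψ.toRingHom := by
      refine Ideal.span_le.mpr ?_
      rintro _ ⟨_, rfl⟩
      show ψ P' = 0
      rw [hψ']
      simp only [P', AlgEquiv.apply_symm_apply]
      exact hPe
    exact this hf
  have hker : ∀ f, ψ f = 0 → f ∈ I := by
    intro f hf
    rw [hψ'] at hf
    obtain ⟨q, hq⟩ := hdvd _ hf
    have : f = P' * θ.symm q := by
      apply θ.injective
      rw [map_mul, hq]
      simp [P']
    rw [this]
    exact Ideal.mul_mem_right _ _ (Ideal.subset_span ⟨(), rfl⟩)
  let jB : A' →ₐ[B] K := Ideal.Quotient.liftₐ I ψ hI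
  let j' : A' →ₐ[k] K := jB.restrictScalars k
  have hjmk : ∀ f, j' (Ideal.Quotient.mk I f) = ψ f := fun f => rfl
  have hj' : Function.Injective j' := by
    rw [injective_iff_map_eq_zero]
    intro x hx
    obtain ⟨f, rfl⟩ := Ideal.Quotient.mk_surjective x
    rw [hjmk] at hx
    exact Ideal.Quotient.eq_zero_iff_mem.mpr (hker f hx)
  refine ⟨A', inferInstance, inferInstance, j', Unit ⊕ (Unit ⊕ ι), Unit ⊕ (Unit ⊕ σ),
    inferInstance, inferInstance,
    Q.comp ((Algebra.Presentation.localizationAway B a).comp P₀), hj', ?_, ?_⟩
  · intro x hx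
    rcases hx with rfl | hx
    · exact ⟨Ideal.Quotient.mk I (MvPolynomial.X ()), by rw [hjmk]; simp [ψ]⟩
    · obtain ⟨a0, rfl⟩ := hE hx
      refine ⟨Ideal.Quotient.mk I (MvPolynomial.C (algebraMap A B a0)), ?_⟩
      rw [hjmk]
      simp only [ψ, MvPolynomial.aeval_C]
      exact hφ a0
  · have : IsScalarTower A B A' := inferInstance
    have : IsScalarTower k A A' := inferInstance
    have hAA' : Function.Injective (algebraMap A A') := by
      have hcomp : (j' : A' → K) ∘ (algebraMap A A') = algebraMap A K := by
        funext x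
        have hx : algebraMap A A' x =
            Ideal.Quotient.mk I (MvPolynomial.C (algebraMap A B x)) := by
          rw [IsScalarTower.algebraMap_apply A B A']
          rfl
        show j' (algebraMap A A' x) = _
        rw [hx, hjmk]
        simp only [ψ, MvPolynomial.aeval_C]
        exact hφ x
      exact Function.Injective.of_comp (hcomp ▸ hinj)
    have : IsDomain A' := hj'.isDomain j'.toRingHom
    have : FaithfulSMul A A' := (faithfulSMul_iff_algebraMap_injective A A').mpr hAA'
    have : FaithfulSMul k A :=
      (faithfulSMul_iff_algebraMap_injective k A).mpr (algebraMap k A).injective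
    have : Algebra.IsAlgebraic A B := IsLocalization.isAlgebraic B (Submonoid.powers a)
    have hX : IsIntegral B (Ideal.Quotient.mk I (MvPolynomial.X ()) : A') := by
      refine ⟨P, hPmonic, ?_⟩
      have h1 : (Polynomial.aeval (Ideal.Quotient.mk I (MvPolynomial.X ()) : A')) P =
          Ideal.Quotient.mk I (Polynomial.aeval (MvPolynomial.X () : MvPolynomial Unit B) P) :=
        (Polynomial.aeval_algHom_apply (Ideal.Quotient.mkₐ B I) (MvPolynomial.X ()) P)
      have h2 : Polynomial.aeval (MvPolynomial.X () : MvPolynomial Unit B) P = P' := by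
        simp only [P', θ, MvPolynomial.uniqueAlgEquiv_symm_apply]
        rfl
      rw [← Polynomial.aeval_def, h1, h2]
      exact Ideal.Quotient.eq_zero_iff_mem.mpr (Ideal.subset_span ⟨(), rfl⟩)
    have : Algebra.IsIntegral B A' := ⟨fun x => by
      obtain ⟨f, rfl⟩ := Ideal.Quotient.mk_surjective x
      induction f using MvPolynomial.induction_on with
      | C b => exact isIntegral_algebraMap (x := b)
      | add f g hf hg => rw [map_add]; exact IsIntegral.add (R := B) (A := A') hf hg
      | mul_X f i hf => rw [map_mul]; exact IsIntegral.mul (R := B) (A := A') hf hX⟩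
    have : Algebra.IsAlgebraic B A' := Algebra.IsIntegral.isAlgebraic
    have : Algebra.IsAlgebraic A A' := Algebra.IsAlgebraic.trans A B A'
    have h1 := trdeg_add_eq k A (A := A')
    rw [trdeg_eq_zero (R := A) (A := A'), add_zero] at h1
    rw [← h1]
    simp only [Nat.card_sum, Nat.card_eq_fintype_card, Fintype.card_unit, Nat.cast_add,
      Nat.cast_one]
    rw [← htr]
    ring

theorem good_finset (E : Finset K) : Good k K (E : Set K) := by
  classical
  induction E using Finset.induction_on with
  | empty => simpa using good_empty k K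
  | insert e s hes ih =>
    obtain ⟨A, instA, algA, j, ι, σ, hι, hσ, P, hj, hE, htr⟩ := ih
    let _ : Algebra A K := j.toRingHom.toAlgebra
    have : IsScalarTower k A K := IsScalarTower.of_algebraMap_eq fun x => (j.commutes x).symm
    rw [Finset.coe_insert]
    by_cases he : IsAlgebraic A e
    · exact good_insert_alg hj P _ hE htr e he
    · exact good_insert_transc hj P _ hE htr e he

theorem exists_subalgebra_isGlobalCI (E : Finset K) :
    ∃ A : Subalgebra k K, (↑E : Set K) ⊆ (A : Set K) ∧ Synt.IsGlobalCI k A := by
  classical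
  obtain ⟨A, instA, algA, j, ι, σ, hι, hσ, P, hj, hE, htr⟩ := good_finset (k := k) E
  have : IsDomain A := hj.isDomain j.toRingHom
  have : Algebra.FinitePresentation k A := P.finitePresentation_of_isFinite
  have : Algebra.FiniteType k A := inferInstance
  obtain ⟨d, h1, h2, -⟩ := Groth.Agent.Lib.Helper14.FTDim.exists_dim k A
  rw [Groth.Agent.Lib.Seat91.TrdegAux.trdeg_fractionRing] at h1
  set n := Nat.card ι with hn
  set c := Nat.card σ with hc
  have hdc : d + c = n := by
    rw [h1] at htr
    exact_mod_cast htr
  let P' : Algebra.Presentation k A (Fin n) (Fin c) :=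
    P.reindex (Finite.equivFin ι).symm (Finite.equivFin σ).symm
  let eq : A ≃ₐ[k] j.range := AlgEquiv.ofInjective j hj
  refine ⟨j.range, ?_, Or.inr ⟨n, c, by omega,
    eq.toAlgHom.comp (MvPolynomial.aeval P'.val), P'.relation, ?_, ?_, ?_⟩⟩
  · intro x hx
    obtain ⟨a, rfl⟩ := hE hx
    exact ⟨a, rfl⟩
  · exact eq.surjective.comp P'.aeval_val_surjective
  · rw [P'.span_range_relation_eq_ker, Algebra.Generators.ker_eq_ker_aeval_val]
    ext x
    simp only [RingHom.mem_ker]
    show eq (MvPolynomial.aeval P'.val x) = 0 ↔ _
    rw [map_eq_zero_iff eq eq.injective]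
  · rw [← ringKrullDim_eq_of_ringEquiv eq.toRingEquiv, h2]
    congr 1
    have : d = n - c := by omega
    rw [this]

end good

end Groth.Agent.Lib.Seat42.FieldGCI
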