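import Mathlib
import Groth.Prelude.Def_CAlgX

set_option autoImplicit false
universe u

namespace Groth.Agent.Lib.Seat42.H1Conormal

open CAlgX

section abs

variable {A C : Type*} [CommRing A] [CommRing C] (φ : A →+* C) (hφ : Function.Surjective φ)
variable {c : ℕ}

/-- trivial relations -/
def triv {R : Type*} [CommRing R] (f : Fin c → R) : Set (Fin c → R) :=
  {v | ∃ i j : Fin c, v = Pi.single i (f j) - Pi.single j (f i)}

lemma sum_eq_zero_of_mem_span_triv {R : Type*} [CommRing R] (f : Fin c → R) (t : Fin c → R)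
    (ht : t ∈ Submodule.span R (triv f)) : ∑ i, t i * f i = 0 := by
  classical
  let L : (Fin c → R) →ₗ[R] R := Fintype.linearCombination R f
  have hL : ∀ t, L t = ∑ i, t i * f i := fun t => by
    simp [L, Fintype.linearCombination_apply]
  rw [← hL]
  have : Submodule.span R (triv f) ≤ LinearMap.ker L := by
    rw [Submodule.span_le]
    rintro _ ⟨i, j, rfl⟩
    rw [SetLike.mem_coe, LinearMap.mem_ker, map_sub, hL, hL]
    simp [Pi.single_apply, mul_comm]
  exact this ht

include hφ in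
/-- `I ∩ (f̃) ≤ I (f̃)` when `f = φ f̃` is H1-regular and `I = ker φ`. -/
lemma inf_span_le (ft : Fin c → A) (hreg : IsH1Regular (fun i => φ (ft i))) :
    RingHom.ker φ ⊓ Ideal.span (Set.range ft) ≤ RingHom.ker φ * Ideal.span (Set.range ft) := by
  classical
  rintro x ⟨hxI, hxG⟩
  obtain ⟨a, rfl⟩ := (Ideal.mem_span_range_iff_exists_fun).mp hxG
  have h0 : ∑ i, φ (a i) * φ (ft i) = 0 := by
    have : φ (∑ i, a i * ft i) = 0 := hxI
    simpa [map_sum, map_mul] using this
  have h1 := hreg (fun i => φ (a i)) h0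
  -- lift
  have h2 : ∃ t ∈ Submodule.span A (triv ft), ∀ i, φ (t i) = φ (a i) := by
    have hgen : ∀ v ∈ Submodule.span C {v : Fin c → C | ∃ i j : Fin c,
        v = Pi.single i (φ (ft j)) - Pi.single j (φ (ft i))},
        ∃ t ∈ Submodule.span A (triv ft), ∀ i, φ (t i) = v i := by
      intro v hv
      induction hv using Submodule.span_induction with
      | mem v hv =>
        obtain ⟨i, j, rfl⟩ := hv
        refine ⟨Pi.single i (ft j) - Pi.single j (ft i), Submodule.subset_span ⟨i, j, rfl⟩, ?_⟩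
        intro k
        simp only [Pi.sub_apply, map_sub, Pi.single_apply]
        split_ifs <;> simp
      | zero => exact ⟨0, Submodule.zero_mem _, fun i => by simp⟩
      | add v w _ _ hv hw =>
        obtain ⟨t, ht, htv⟩ := hv
        obtain ⟨s, hs, hsw⟩ := hw
        exact ⟨t + s, Submodule.add_mem _ ht hs, fun i => by simp [htv, hsw]⟩
      | smul b v _ hv =>
        obtain ⟨t, ht, htv⟩ := hv
        obtain ⟨b', rfl⟩ := hφ b
        exact ⟨b' • t, Submodule.smul_mem _ _ ht, fun i => by simp [htv]⟩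
    exact hgen _ h1
  obtain ⟨t, ht, hta⟩ := h2
  have h3 : ∑ i, a i * ft i = ∑ i, (a i - t i) * ft i := by
    have := sum_eq_zero_of_mem_span_triv ft t ht
    simp only [sub_mul, Finset.sum_sub_distrib, this, sub_zero]
  rw [h3]
  refine Ideal.sum_mem _ fun i _ => Ideal.mul_mem_mul ?_ (Ideal.subset_span ⟨i, rfl⟩)
  rw [RingHom.mem_ker, map_sub, hta, sub_self]


lemma sq_le_aux (I G : Ideal A) : (I ⊔ G) ^ 2 ≤ I * (I ⊔ G) ⊔ G ^ 2 := by
  rw [pow_two, Ideal.sup_mul]
  refine sup_le le_sup_left ?_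
  rw [Ideal.mul_sup]
  refine sup_le ?_ (by rw [pow_two]; exact le_sup_right)
  rw [mul_comm]
  exact le_trans (Ideal.mul_mono_right le_sup_right) le_sup_left

include hφ in
theorem inf_sq_le' (ft : Fin c → A) (hreg : IsH1Regular (fun i => φ (ft i))) :
    RingHom.ker φ ⊓ (RingHom.ker φ ⊔ Ideal.span (Set.range ft)) ^ 2 ≤
      RingHom.ker φ * (RingHom.ker φ ⊔ Ideal.span (Set.range ft)) := by
  rintro x ⟨hxI, hxJ⟩
  obtain ⟨y, hy, z, hz, rfl⟩ := Submodule.mem_sup.mp (sq_le_aux _ _ hxJ)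
  have hyI : y ∈ RingHom.ker φ := Ideal.mul_le_left hy
  have hzI : z ∈ RingHom.ker φ := by
    have := (RingHom.ker φ).sub_mem hxI hyI
    simpa using this
  have hzG : z ∈ Ideal.span (Set.range ft) := Ideal.pow_le_self (by norm_num) hz
  have := inf_span_le φ hφ ft hreg ⟨hzI, hzG⟩
  exact Ideal.add_mem _ hy (Ideal.mul_mono_right le_sup_right this)

include hφ in
lemma eq_sup_of_map_eq (J : Ideal A) (hIJ : RingHom.ker φ ≤ J) (ft : Fin c → A)
    (hJ : J.map φ = Ideal.span (Set.range fun i => φ (ft i))) :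
    J = RingHom.ker φ ⊔ Ideal.span (Set.range ft) := by
  have h1 : Ideal.comap φ (Ideal.map φ J) = J ⊔ Ideal.comap φ ⊥ :=
    Ideal.comap_map_of_surjective φ hφ J
  have h2 : Ideal.map φ (Ideal.span (Set.range ft)) =
      Ideal.span (Set.range fun i => φ (ft i)) := by
    rw [Ideal.map_span]
    congr 1
    ext y
    constructor
    · rintro ⟨_, ⟨i, rfl⟩, rfl⟩; exact ⟨i, rfl⟩
    · rintro ⟨i, rfl⟩; exact ⟨_, ⟨i, rfl⟩, rfl⟩
  have h3 : Ideal.comap φ (Ideal.map φ (Ideal.span (Set.range ft))) =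
      Ideal.span (Set.range ft) ⊔ Ideal.comap φ ⊥ :=
    Ideal.comap_map_of_surjective φ hφ _
  have h4 : Ideal.comap φ ⊥ = RingHom.ker φ := rfl
  rw [h4] at h1 h3
  have h5 : J ⊔ RingHom.ker φ = J := sup_eq_left.mpr hIJ
  rw [h5] at h1
  rw [← h1, hJ, ← h2, h3, sup_comm]

include hφ in
theorem inf_sq_le (J : Ideal A) (hIJ : RingHom.ker φ ≤ J) (f : Fin c → C) (hreg : IsH1Regular f)
    (hJ : J.map φ = Ideal.span (Set.range f)) :
    RingHom.ker φ ⊓ J ^ 2 ≤ RingHom.ker φ * J := by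
  choose ft hft using fun i => hφ (f i)
  have hf : f = fun i => φ (ft i) := funext fun i => (hft i).symm
  rw [hf] at hreg hJ
  have := eq_sup_of_map_eq φ hφ J hIJ ft hJ
  rw [this]
  exact inf_sq_le' φ hφ ft hreg

end abs

end Groth.Agent.Lib.Seat42.H1Conormal
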