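import Mathlib
import Groth.Prelude.Def_W4stkremschemesLRS

set_option autoImplicit false
universe u

open CategoryTheory TopologicalSpace Opposite AlgebraicGeometry

namespace Groth.Agent.Lib.Seat42.LRSFac

section pre

variable {T : TopCat.{u}} (F : TopCat.Presheaf CommRingCat.{u} T)

theorem res_res {U V W : Opens T} (h₁ : U ≤ V) (h₂ : V ≤ W) (x : F.obj (op W)) :
    F.map (homOfLE h₁).op (F.map (homOfLE h₂).op x) = F.map (homOfLE (h₁.trans h₂)).op x := by
  rw [← CommRingCat.comp_apply, ← F.map_comp]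
  rfl

theorem res_self {U : Opens T} (h : U ≤ U) (x : F.obj (op U)) :
    F.map (homOfLE h).op x = x := by
  have : (homOfLE h).op = 𝟙 (op U) := rfl
  rw [this, F.map_id]
  rfl

end pre

variable {Z X Y : LocallyRingedSpace.{u}} (i : Z ⟶ X) (f : Y ⟶ X)

/-- naturality of `c` with respect to restrictions. -/
theorem c_res {A B : LocallyRingedSpace.{u}} (φ : A ⟶ B) {U V : Opens B.toTopCat} (h : U ≤ V)
    (s : B.presheaf.obj (op V)) :
    φ.c.app (op U) (B.presheaf.map (homOfLE h).op s) =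
      A.presheaf.map (homOfLE (show (Opens.map φ.base).obj U ≤ (Opens.map φ.base).obj V from
        fun _ hx => h hx)).op (φ.c.app (op V) s) := by
  have := congr($(φ.c.naturality (homOfLE h).op) s)
  exact this

theorem map_mono {A B : LocallyRingedSpace.{u}} (φ : A ⟶ B) {U V : Opens B.toTopCat} (h : U ≤ V) :
    (Opens.map φ.base).obj U ≤ (Opens.map φ.base).obj V := fun _ hx => h hx

variable (g₀ : Y.toTopCat ⟶ Z.toTopCat) (hg₀ : ∀ y, i.base (g₀ y) = f.base y)

include hg₀ in
theorem le_g {U : Opens X.toTopCat} {V : Opens Z.toTopCat} (hUV : (Opens.map i.base).obj U ≤ V) :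
    (Opens.map f.base).obj U ≤ (Opens.map g₀).obj V := by
  intro y hy
  apply hUV
  change i.base (g₀ y) ∈ U
  rw [hg₀]
  exact hy

/-- the relation defining the sheaf map of the factorization -/
def Rel (V : Opens Z.toTopCat) (t : Z.presheaf.obj (op V))
    (r : Y.presheaf.obj (op ((Opens.map g₀).obj V))) : Prop :=
  ∀ y (_ : y ∈ (Opens.map g₀).obj V), ∃ (U : Opens X.toTopCat) (_ : f.base y ∈ U)
    (hUV : (Opens.map i.base).obj U ≤ V) (s : X.presheaf.obj (op U)),
    i.c.app (op U) s = Z.presheaf.map (homOfLE hUV).op t ∧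
    f.c.app (op U) s = Y.presheaf.map (homOfLE (le_g i f g₀ hg₀ hUV)).op r

variable (hker : ∀ (U : Opens X.toTopCat) (s : X.presheaf.obj (op U)),
      i.c.app (op U) s = 0 → f.c.app (op U) s = 0)

include hker in
theorem fc_eq_of_ic_eq {U : Opens X.toTopCat} (s s' : X.presheaf.obj (op U))
    (h : i.c.app (op U) s = i.c.app (op U) s') : f.c.app (op U) s = f.c.app (op U) s' := by
  have h1 : i.c.app (op U) (s - s') = 0 := by rw [map_sub, h, sub_self]
  have h2 := hker U _ h1
  rw [map_sub, sub_eq_zero] at h2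
  exact h2

include hker in
theorem Rel.unique {V : Opens Z.toTopCat} {t : Z.presheaf.obj (op V)}
    {r r' : Y.presheaf.obj (op ((Opens.map g₀).obj V))}
    (h : Rel i f g₀ hg₀ V t r) (h' : Rel i f g₀ hg₀ V t r') : r = r' := by
  choose U hyU hUV s hs1 hs2 using h
  choose U' hyU' hUV' s' hs1' hs2' using h'
  refine TopCat.Sheaf.eq_of_locally_eq' Y.sheaf
    (fun y : ((Opens.map g₀).obj V : Opens Y.toTopCat) =>
      (Opens.map f.base).obj (U y.1 y.2 ⊓ U' y.1 y.2)) ((Opens.map g₀).obj V)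
    (fun y => homOfLE (le_g i f g₀ hg₀ (le_trans (map_mono i inf_le_left) (hUV y.1 y.2)))) ?_ r r' ?_
  · intro y hy
    rw [Opens.mem_iSup]
    exact ⟨⟨y, hy⟩, hyU y hy, hyU' y hy⟩
  · rintro ⟨y, hy⟩
    -- both restrictions equal `f.c` of the restricted lifts
    have e1 : f.c.app (op (U y hy ⊓ U' y hy)) (X.presheaf.map (homOfLE inf_le_left).op (s y hy)) =
        Y.presheaf.map (homOfLE (le_g i f g₀ hg₀ (le_trans (map_mono i inf_le_left) (hUV y hy)))).op r := by
      rw [c_res, hs2 y hy, res_res]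
    have e2 : f.c.app (op (U y hy ⊓ U' y hy)) (X.presheaf.map (homOfLE inf_le_right).op (s' y hy)) =
        Y.presheaf.map (homOfLE (le_g i f g₀ hg₀ (le_trans (map_mono i inf_le_left) (hUV y hy)))).op r' := by
      rw [c_res, hs2' y hy, res_res]
    have e3 : i.c.app (op (U y hy ⊓ U' y hy)) (X.presheaf.map (homOfLE inf_le_left).op (s y hy)) =
        i.c.app (op (U y hy ⊓ U' y hy)) (X.presheaf.map (homOfLE inf_le_right).op (s' y hy)) := by
      rw [c_res, c_res, hs1 y hy, hs1' y hy, res_res, res_res]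
    exact e1.symm.trans ((fc_eq_of_ic_eq i f hker _ _ e3).trans e2)

include hker in
theorem Rel.exists_aux
    (hsurj : TopCat.Presheaf.IsLocallySurjective i.c)
    (U₀ : Opens X.toTopCat) (t : Z.presheaf.obj (op ((Opens.map i.base).obj U₀))) :
    ∃ r, Rel i f g₀ hg₀ ((Opens.map i.base).obj U₀) t r := by
  have hloc := (TopCat.Presheaf.isLocallySurjective_iff i.c).mp hsurj U₀ t
  have hmem : ∀ y (hy : y ∈ (Opens.map g₀).obj ((Opens.map i.base).obj U₀)), f.base y ∈ U₀ := by
    intro y hy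
    rw [← hg₀]; exact hy
  choose W hWU hs hyW using fun (y : ((Opens.map g₀).obj ((Opens.map i.base).obj U₀) : Opens _)) =>
    hloc (f.base y.1) (hmem y.1 y.2)
  choose s hs using hs
  have hs' : ∀ y, i.c.app (op (W y)) (s y) =
      Z.presheaf.map (homOfLE (map_mono i (hWU y))).op t := fun y => hs y
  have hcompat : TopCat.Presheaf.IsCompatible Y.presheaf
      (fun y => (Opens.map f.base).obj (W y)) (fun y => f.c.app (op (W y)) (s y)) := by
    intro y y'
    have e1 : f.c.app (op (W y ⊓ W y')) (X.presheaf.map (homOfLE inf_le_left).op (s y)) =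
        Y.presheaf.map (homOfLE (map_mono f inf_le_left)).op (f.c.app (op (W y)) (s y)) := c_res f _ _
    have e2 : f.c.app (op (W y ⊓ W y')) (X.presheaf.map (homOfLE inf_le_right).op (s y')) =
        Y.presheaf.map (homOfLE (map_mono f inf_le_right)).op (f.c.app (op (W y')) (s y')) :=
      c_res f _ _
    have e3 : i.c.app (op (W y ⊓ W y')) (X.presheaf.map (homOfLE inf_le_left).op (s y)) =
        i.c.app (op (W y ⊓ W y')) (X.presheaf.map (homOfLE inf_le_right).op (s y')) := by
      rw [c_res, c_res, hs', hs', res_res, res_res]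
    exact e1.symm.trans ((fc_eq_of_ic_eq i f hker _ _ e3).trans e2)
  obtain ⟨r, hr, -⟩ := TopCat.Sheaf.existsUnique_gluing' Y.sheaf
    (fun y => (Opens.map f.base).obj (W y)) ((Opens.map g₀).obj ((Opens.map i.base).obj U₀))
    (fun y => homOfLE (le_g i f g₀ hg₀ (map_mono i (hWU y)))) (by
      intro y hy
      rw [Opens.mem_iSup]
      exact ⟨⟨y, hy⟩, hyW ⟨y, hy⟩⟩) (fun y => f.c.app (op (W y)) (s y)) hcompat
  refine ⟨r, fun y hy => ⟨W ⟨y, hy⟩, hyW ⟨y, hy⟩, map_mono i (hWU ⟨y, hy⟩), s ⟨y, hy⟩, hs' _, ?_⟩⟩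
  exact (hr ⟨y, hy⟩).symm

include hker in
theorem Rel.exists (hind : Topology.IsInducing i.base)
    (hsurj : TopCat.Presheaf.IsLocallySurjective i.c)
    (V : Opens Z.toTopCat) (t : Z.presheaf.obj (op V)) :
    ∃ r, Rel i f g₀ hg₀ V t r := by
  obtain ⟨S, hS, hSV⟩ := hind.isOpen_iff.mp V.2
  have h : (Opens.map i.base).obj ⟨S, hS⟩ = V := Opens.ext hSV
  subst h
  exact Rel.exists_aux i f g₀ hg₀ hker hsurj ⟨S, hS⟩ t

theorem Rel.one (hind : Topology.IsInducing i.base) (V : Opens Z.toTopCat) :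
    Rel i f g₀ hg₀ V 1 1 := by
  obtain ⟨S, hS, hSV⟩ := hind.isOpen_iff.mp V.2
  have h : (Opens.map i.base).obj ⟨S, hS⟩ = V := Opens.ext hSV
  subst h
  intro y hy
  refine ⟨⟨S, hS⟩, ?_, le_rfl, 1, ?_, ?_⟩
  · rw [← hg₀]; exact hy
  · rw [map_one, map_one]
  · rw [map_one, map_one]

theorem Rel.add {V : Opens Z.toTopCat} {t t' : Z.presheaf.obj (op V)}
    {r r' : Y.presheaf.obj (op ((Opens.map g₀).obj V))}
    (h : Rel i f g₀ hg₀ V t r) (h' : Rel i f g₀ hg₀ V t' r') :
    Rel i f g₀ hg₀ V (t + t') (r + r') := by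
  intro y hy
  obtain ⟨U, hyU, hUV, s, hs1, hs2⟩ := h y hy
  obtain ⟨U', hyU', hUV', s', hs1', hs2'⟩ := h' y hy
  refine ⟨U ⊓ U', ⟨hyU, hyU'⟩, le_trans (map_mono i inf_le_left) hUV,
    X.presheaf.map (homOfLE inf_le_left).op s + X.presheaf.map (homOfLE inf_le_right).op s', ?_, ?_⟩
  · rw [map_add, map_add, c_res, c_res, hs1, hs1', res_res, res_res]
  · rw [map_add, map_add, c_res, c_res, hs2, hs2', res_res, res_res]

theorem Rel.mul {V : Opens Z.toTopCat} {t t' : Z.presheaf.obj (op V)}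
    {r r' : Y.presheaf.obj (op ((Opens.map g₀).obj V))}
    (h : Rel i f g₀ hg₀ V t r) (h' : Rel i f g₀ hg₀ V t' r') :
    Rel i f g₀ hg₀ V (t * t') (r * r') := by
  intro y hy
  obtain ⟨U, hyU, hUV, s, hs1, hs2⟩ := h y hy
  obtain ⟨U', hyU', hUV', s', hs1', hs2'⟩ := h' y hy
  refine ⟨U ⊓ U', ⟨hyU, hyU'⟩, le_trans (map_mono i inf_le_left) hUV,
    X.presheaf.map (homOfLE inf_le_left).op s * X.presheaf.map (homOfLE inf_le_right).op s', ?_, ?_⟩
  · rw [map_mul, map_mul, c_res, c_res, hs1, hs1', res_res, res_res]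
  · rw [map_mul, map_mul, c_res, c_res, hs2, hs2', res_res, res_res]

theorem Rel.res (hind : Topology.IsInducing i.base) {V V' : Opens Z.toTopCat} (hV : V' ≤ V)
    {t : Z.presheaf.obj (op V)} {r : Y.presheaf.obj (op ((Opens.map g₀).obj V))}
    (h : Rel i f g₀ hg₀ V t r) :
    Rel i f g₀ hg₀ V' (Z.presheaf.map (homOfLE hV).op t)
      (Y.presheaf.map (homOfLE (show (Opens.map g₀).obj V' ≤ (Opens.map g₀).obj V from
        fun _ hx => hV hx)).op r) := by
  obtain ⟨S, hS, hSV⟩ := hind.isOpen_iff.mp V'.2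
  have h' : (Opens.map i.base).obj ⟨S, hS⟩ = V' := Opens.ext hSV
  subst h'
  intro y hy
  obtain ⟨U, hyU, hUV, s, hs1, hs2⟩ := h y (hV hy)
  refine ⟨U ⊓ ⟨S, hS⟩, ⟨hyU, ?_⟩, map_mono i inf_le_right,
    X.presheaf.map (homOfLE inf_le_left).op s, ?_, ?_⟩
  · rw [← hg₀]; exact hy
  · rw [c_res, hs1, res_res, res_res]
  · rw [c_res, hs2, res_res, res_res]

theorem Rel.zero (hind : Topology.IsInducing i.base) (V : Opens Z.toTopCat) :
    Rel i f g₀ hg₀ V 0 0 := by
  obtain ⟨S, hS, hSV⟩ := hind.isOpen_iff.mp V.2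
  have h : (Opens.map i.base).obj ⟨S, hS⟩ = V := Opens.ext hSV
  subst h
  intro y hy
  refine ⟨⟨S, hS⟩, ?_, le_rfl, 0, ?_, ?_⟩
  · rw [← hg₀]; exact hy
  · rw [map_zero, map_zero]
  · rw [map_zero, map_zero]

section construct

variable (hind : Topology.IsInducing i.base) (hsurj : TopCat.Presheaf.IsLocallySurjective i.c)

/-- the ring map `O_Z(V) → O_Y(g⁻¹V)`. -/
noncomputable def psi (V : Opens Z.toTopCat) :
    Z.presheaf.obj (op V) →+* Y.presheaf.obj (op ((Opens.map g₀).obj V)) where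
  toFun t := Classical.choose (Rel.exists i f g₀ hg₀ hker hind hsurj V t)
  map_one' := Rel.unique i f g₀ hg₀ hker
    (Classical.choose_spec (Rel.exists i f g₀ hg₀ hker hind hsurj V 1)) (Rel.one i f g₀ hg₀ hind V)
  map_mul' t t' := Rel.unique i f g₀ hg₀ hker
    (Classical.choose_spec (Rel.exists i f g₀ hg₀ hker hind hsurj V (t * t')))
    (Rel.mul i f g₀ hg₀ (Classical.choose_spec (Rel.exists i f g₀ hg₀ hker hind hsurj V t))
      (Classical.choose_spec (Rel.exists i f g₀ hg₀ hker hind hsurj V t')))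
  map_zero' := Rel.unique i f g₀ hg₀ hker
    (Classical.choose_spec (Rel.exists i f g₀ hg₀ hker hind hsurj V 0)) (Rel.zero i f g₀ hg₀ hind V)
  map_add' t t' := Rel.unique i f g₀ hg₀ hker
    (Classical.choose_spec (Rel.exists i f g₀ hg₀ hker hind hsurj V (t + t')))
    (Rel.add i f g₀ hg₀ (Classical.choose_spec (Rel.exists i f g₀ hg₀ hker hind hsurj V t))
      (Classical.choose_spec (Rel.exists i f g₀ hg₀ hker hind hsurj V t')))

theorem psi_spec (V : Opens Z.toTopCat) (t : Z.presheaf.obj (op V)) :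
    Rel i f g₀ hg₀ V t (psi i f g₀ hg₀ hker hind hsurj V t) :=
  Classical.choose_spec (Rel.exists i f g₀ hg₀ hker hind hsurj V t)

theorem psi_eq (V : Opens Z.toTopCat) (t : Z.presheaf.obj (op V))
    (r : Y.presheaf.obj (op ((Opens.map g₀).obj V))) (h : Rel i f g₀ hg₀ V t r) :
    psi i f g₀ hg₀ hker hind hsurj V t = r :=
  Rel.unique i f g₀ hg₀ hker (psi_spec i f g₀ hg₀ hker hind hsurj V t) h

/-- the morphism of presheaves -/
noncomputable def cNat : Z.presheaf ⟶ g₀ _* Y.presheaf where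
  app V := CommRingCat.ofHom (psi i f g₀ hg₀ hker hind hsurj V.unop)
  naturality V V' φ := by
    ext t
    have hφ : φ = (homOfLE φ.unop.le).op := rfl
    rw [hφ]
    refine (psi_eq i f g₀ hg₀ hker hind hsurj _ _ _
      (Rel.res i f g₀ hg₀ hind φ.unop.le (psi_spec i f g₀ hg₀ hker hind hsurj V.unop t)))

/-- the factorization, as a morphism of presheafed spaces -/
noncomputable def gpre : Y.toPresheafedSpace ⟶ Z.toPresheafedSpace where
  base := g₀
  c := cNat i f g₀ hg₀ hker hind hsurj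

include hg₀ in
theorem ge_g (U : Opens X.toTopCat) :
    (Opens.map g₀).obj ((Opens.map i.base).obj U) ≤ (Opens.map f.base).obj U := by
  intro y hy
  change f.base y ∈ U
  rw [← hg₀]; exact hy

theorem psi_ic (U : Opens X.toTopCat) (s : X.presheaf.obj (op U)) :
    psi i f g₀ hg₀ hker hind hsurj ((Opens.map i.base).obj U) (i.c.app (op U) s) =
      Y.presheaf.map (homOfLE (ge_g i f g₀ hg₀ U)).op (f.c.app (op U) s) := by
  apply psi_eq
  intro y hy
  refine ⟨U, ge_g i f g₀ hg₀ U hy, le_rfl, s, ?_, ?_⟩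
  · rw [res_self]
  · rw [res_res, res_self]

end construct

section fac

variable (hind : Topology.IsInducing i.base) (hsurj : TopCat.Presheaf.IsLocallySurjective i.c)

theorem gpre_comp :
    gpre i f g₀ hg₀ hker hind hsurj ≫ i.toHom = f.toHom := by
  have w : g₀ ≫ i.base = f.base := by
    ext y; exact hg₀ y
  refine PresheafedSpace.ext _ _ w ?_
  ext U s
  rw [NatTrans.comp_app, Functor.whiskerRight_app, PresheafedSpace.comp_c_app]
  change Y.presheaf.map _ (psi i f g₀ hg₀ hker hind hsurj ((Opens.map i.base).obj U)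
    (i.c.app (op U) s)) = _
  rw [psi_ic, ← CommRingCat.comp_apply, ← Functor.map_comp]
  have : ∀ (φ : op ((Opens.map f.base).obj U) ⟶ op ((Opens.map f.base).obj U)),
      Y.presheaf.map φ (f.c.app (op U) s) = f.c.app (op U) s := by
    intro φ
    have : φ = 𝟙 _ := Subsingleton.elim _ _
    rw [this, Y.presheaf.map_id]
    rfl
  exact this _

include hind hsurj in
theorem stalkMap_surjective (z : Z) : Function.Surjective (i.toHom.stalkMap z) := by
  have h1 := (TopCat.Presheaf.locally_surjective_iff_surjective_on_stalks i.c).mp hsurj (i.base z)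
  have h2 : IsIso (Z.presheaf.stalkPushforward CommRingCat i.base z) :=
    TopCat.Presheaf.stalkPushforward.stalkPushforward_iso_of_isInducing _ hind _ _
  have h3 : Function.Bijective (Z.presheaf.stalkPushforward CommRingCat i.base z) :=
    ConcreteCategory.bijective_of_isIso _
  have h4 : i.toHom.stalkMap z = (TopCat.Presheaf.stalkFunctor CommRingCat (i.base z)).map i.c ≫
      Z.presheaf.stalkPushforward CommRingCat i.base z := rfl
  rw [h4]
  intro w
  obtain ⟨w', rfl⟩ := h3.2 w
  obtain ⟨v, rfl⟩ := h1 w'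
  exact ⟨v, rfl⟩

theorem gpre_isLocalHom (y : Y) :
    IsLocalHom ((gpre i f g₀ hg₀ hker hind hsurj).stalkMap y).hom := by
  have hcomp := gpre_comp i f g₀ hg₀ hker hind hsurj
  have h1 := PresheafedSpace.stalkMap.comp (gpre i f g₀ hg₀ hker hind hsurj) i.toHom y
  have h2 := PresheafedSpace.stalkMap.congr_hom _ _ hcomp y
  rw [h1] at h2
  constructor
  intro w hw
  obtain ⟨v, rfl⟩ := stalkMap_surjective i hind hsurj (g₀ y) w
  have h3 := congr($h2 v)
  rw [CommRingCat.comp_apply, CommRingCat.comp_apply] at h3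
  have hw' : IsUnit ((gpre i f g₀ hg₀ hker hind hsurj).stalkMap y
      (i.toHom.stalkMap ((gpre i f g₀ hg₀ hker hind hsurj).base y) v)) := hw
  rw [h3] at hw'
  have h4 := (LocallyRingedSpace.isLocalHomStalkMap f y).map_nonunit _ hw'
  -- transport along the `eqToHom` isomorphism
  have h5 : IsUnit v := by
    have := h4.map (inv (eqToHom (show X.presheaf.stalk
      ((gpre i f g₀ hg₀ hker hind hsurj ≫ i.toHom).base y) = X.presheaf.stalk (f.toHom.base y) by
        rw [hcomp]))).hom
    rw [← CommRingCat.comp_apply, IsIso.hom_inv_id] at this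
    exact this
  exact h5.map _

include hg₀ hker hind hsurj in
theorem exists_fac : ∃ g : Y ⟶ Z, g ≫ i = f :=
  ⟨⟨gpre i f g₀ hg₀ hker hind hsurj, gpre_isLocalHom i f g₀ hg₀ hker hind hsurj⟩,
    LocallyRingedSpace.Hom.ext' (gpre_comp i f g₀ hg₀ hker hind hsurj)⟩

end fac

section top

variable {Z X Y : LocallyRingedSpace.{u}} (i : Z ⟶ X) (f : Y ⟶ X)

/-- the image of `f` lies in the image of the closed immersion `i` if `f^♯` kills the kernel of
`i^♯`. -/
theorem range_subset (hemb : Topology.IsClosedEmbedding i.base)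
    (hker : ∀ (U : Opens X.toTopCat) (s : X.presheaf.obj (op U)),
      i.c.app (op U) s = 0 → f.c.app (op U) s = 0) (y : Y) :
    ∃ z : Z, i.base z = f.base y := by
  by_contra hne
  let W : Opens X.toTopCat := ⟨(Set.range i.base)ᶜ, hemb.isClosed_range.isOpen_compl⟩
  have hyW : f.base y ∈ W := fun ⟨z, hz⟩ => hne ⟨z, hz⟩
  have hbot : (Opens.map i.base).obj W = ⊥ := by
    ext z
    simp only [Opens.map_coe, Set.mem_preimage, SetLike.mem_coe, Opens.coe_bot, Set.mem_empty_iff_false,
      iff_false]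
    intro hz
    exact hz ⟨z, rfl⟩
  have hsub : Subsingleton (Z.presheaf.obj (op ((Opens.map i.base).obj W))) := by
    rw [hbot]
    exact CommRingCat.subsingleton_of_isTerminal (TopCat.Sheaf.isTerminalOfEmpty Z.sheaf)
  have h1 : i.c.app (op W) (1 : X.presheaf.obj (op W)) = 0 := hsub.elim _ _
  have h2 := hker W 1 h1
  rw [map_one] at h2
  -- 1 = 0 in O_Y(f⁻¹W), hence in the stalk at y
  have h3 := congrArg (Y.presheaf.germ ((Opens.map f.base).obj W) y hyW) h2
  rw [map_one, map_zero] at h3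
  exact one_ne_zero h3


theorem exists_fac_of_ker (hemb : Topology.IsClosedEmbedding i.base)
    (hsurj : TopCat.Presheaf.IsLocallySurjective i.c)
    (hker : ∀ (U : Opens X.toTopCat) (s : X.presheaf.obj (op U)),
      i.c.app (op U) s = 0 → f.c.app (op U) s = 0) :
    ∃ g : Y ⟶ Z, g ≫ i = f := by
  choose z hz using range_subset i f hemb hker
  have hcont : Continuous z := by
    rw [hemb.isInducing.continuous_iff]
    have : (i.base : Z.toTopCat → X.toTopCat) ∘ z = f.base := funext hz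
    rw [this]
    exact f.base.hom.continuous
  exact exists_fac i f (TopCat.ofHom ⟨z, hcont⟩) hz hker hemb.isInducing hsurj

theorem mono_of_closedImmersion (hemb : Topology.IsClosedEmbedding i.base)
    (hsurj : TopCat.Presheaf.IsLocallySurjective i.c) (g g' : Y ⟶ Z) (h : g ≫ i = g' ≫ i) :
    g = g' := by
  have hmono : Mono (LocallyRingedSpace.forgetToSheafedSpace.map i) := by
    apply SheafedSpace.mono_of_base_injective_of_stalk_epi
    · exact hemb.injective
    · intro x
      exact ConcreteCategory.epi_of_surjective _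
        (stalkMap_surjective i hemb.isInducing hsurj x)
  apply LocallyRingedSpace.forgetToSheafedSpace.map_injective
  rw [← cancel_mono (LocallyRingedSpace.forgetToSheafedSpace.map i), ← Functor.map_comp,
    ← Functor.map_comp, h]

end top

end Groth.Agent.Lib.Seat42.LRSFac
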