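import Mathlib

set_option autoImplicit false
universe u

namespace Groth.Agent.Lib.Seat42.QRegAbs

open TensorProduct

section abs

variable {A N M : Type*} [CommRing A] [AddCommGroup N] [Module A N] [AddCommGroup M] [Module A M]

/-- abstract form -/
theorem lTensor_subtype_injective_of_flat
    (p : Submodule A N) [Module.Flat A (N ⧸ p)] (A' : Type*) [AddCommGroup A'] [Module A A'] :
    Function.Injective (p.subtype.lTensor A') :=
  LinearMap.lTensor_injective_of_exact_of_flat p.mkQ (Submodule.mkQ_surjective _) p.subtype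
    (Submodule.subtype_injective _) (LinearMap.exact_subtype_mkQ p) A'

theorem flat_pi {R M ι : Type*} [CommRing R] [AddCommGroup M] [Module R M] [Module.Flat R M]
    [Fintype ι] [DecidableEq ι] : Module.Flat R (ι → M) :=
  Module.Flat.of_linearEquiv (DirectSum.linearEquivFunOnFintype R ι (fun _ => M)).symm

/-- If `p ≤ q`, `q/p` is flat and `A' ⊗ q → A' ⊗ N` is injective then so is `A' ⊗ p → A' ⊗ N`. -/
theorem lTensor_subtype_injective_step (p q : Submodule A N) (hpq : p ≤ q)
    [Module.Flat A (↥q ⧸ Submodule.comap q.subtype p)]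
    (A' : Type*) [AddCommGroup A'] [Module A A']
    (hq : Function.Injective (q.subtype.lTensor A')) :
    Function.Injective (p.subtype.lTensor A') := by
  have h1 := lTensor_subtype_injective_of_flat (Submodule.comap q.subtype p) A'
  let e : ↥p ≃ₗ[A] ↥(Submodule.comap q.subtype p) := (Submodule.comapSubtypeEquivOfLe hpq).symm
  have hcomp : p.subtype = q.subtype ∘ₗ (Submodule.comap q.subtype p).subtype ∘ₗ e.toLinearMap := by
    ext x
    rfl
  rw [hcomp, LinearMap.lTensor_comp, LinearMap.lTensor_comp]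
  exact hq.comp (h1.comp (LinearEquiv.lTensor A' e).injective)

/-- flatness of `q/p` from a parametrization by a finite free module modulo a flat quotient. -/
theorem flat_quot_of_param {ι : Type*} [Fintype ι] [DecidableEq ι]
    (J' : Submodule A M) [Module.Flat A (M ⧸ J')] (p q : Submodule A N)
    (g : (ι → M) →ₗ[A] N) (h1 : ∀ c, g c ∈ q) (h2 : ∀ y ∈ q, ∃ c, g c = y)
    (h3 : ∀ c, g c ∈ p ↔ ∀ i, c i ∈ J') :
    Module.Flat A (↥q ⧸ Submodule.comap q.subtype p) := by
  let gq : (ι → M) →ₗ[A] ↥q := g.codRestrict q h1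
  let ψ : (ι → M) →ₗ[A] (↥q ⧸ Submodule.comap q.subtype p) :=
    (Submodule.comap q.subtype p).mkQ.comp gq
  have hψ : Function.Surjective ψ := by
    refine (Submodule.mkQ_surjective _).comp ?_
    rintro ⟨y, hy⟩
    obtain ⟨c, hc⟩ := h2 y hy
    exact ⟨c, Subtype.ext hc⟩
  have hker : LinearMap.ker ψ = Submodule.pi Set.univ (fun _ : ι => J') := by
    ext c
    simp only [ψ, gq, LinearMap.mem_ker, LinearMap.comp_apply, Submodule.mkQ_apply,
      Submodule.Quotient.mk_eq_zero, Submodule.mem_comap, Submodule.coe_subtype,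
      LinearMap.codRestrict_apply, Submodule.mem_pi, Set.mem_univ, forall_true_left]
    exact h3 c
  have e1 : ((ι → M) ⧸ LinearMap.ker ψ) ≃ₗ[A] (↥q ⧸ Submodule.comap q.subtype p) :=
    ψ.quotKerEquivOfSurjective hψ
  have e2 : ((ι → M) ⧸ LinearMap.ker ψ) ≃ₗ[A]
      ((ι → M) ⧸ Submodule.pi Set.univ (fun _ : ι => J')) :=
    Submodule.quotEquivOfEq _ _ hker
  have e3 : ((ι → M) ⧸ Submodule.pi Set.univ (fun _ : ι => J')) ≃ₗ[A] (ι → M ⧸ J') :=
    Submodule.quotientPi _
  have : Module.Flat A (ι → M ⧸ J') := flat_pi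
  exact Module.Flat.of_linearEquiv (e1.symm.trans (e2.trans e3))

end abs

end Groth.Agent.Lib.Seat42.QRegAbs
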