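import Groth.Agent.Lib.Seat42QRegAbs

set_option autoImplicit false
universe u

namespace Groth.Agent.Lib.Seat42.QRegAbs

open TensorProduct

section abs2

variable {A N M : Type*} [CommRing A] [AddCommGroup N] [Module A N] [AddCommGroup M] [Module A M]

/-- the main diagram chase, abstractly. -/
theorem mem_range_lTensor_pi {ι : Type*} [Fintype ι] [DecidableEq ι]
    (J' : Submodule A M) (p q : Submodule A N) (hpq : p ≤ q)
    (g : (ι → M) →ₗ[A] N) (h1 : ∀ c, g c ∈ q) (h2 : ∀ y ∈ q, ∃ c, g c = y)
    (h3 : ∀ c, g c ∈ p ↔ ∀ i, c i ∈ J')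
    (A' : Type*) [AddCommGroup A'] [Module A A']
    (hq : Function.Injective (q.subtype.lTensor A'))
    (w : A' ⊗[A] (ι → M)) (z : A' ⊗[A] ↥p) (hzw : p.subtype.lTensor A' z = g.lTensor A' w) :
    w ∈ LinearMap.range ((Submodule.pi Set.univ (fun _ : ι => J')).subtype.lTensor A') := by
  let gq : (ι → M) →ₗ[A] ↥q := g.codRestrict q h1
  let ψ : (ι → M) →ₗ[A] (↥q ⧸ Submodule.comap q.subtype p) :=
    (Submodule.comap q.subtype p).mkQ.comp gq
  have hψ : Function.Surjective ψ := by
    refine (Submodule.mkQ_surjective _).comp ?_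
    rintro ⟨y, hy⟩
    obtain ⟨c, hc⟩ := h2 y hy
    exact ⟨c, Subtype.ext hc⟩
  have hker : LinearMap.ker ψ = Submodule.pi Set.univ (fun _ : ι => J') := by
    ext c
    simp only [ψ, gq, LinearMap.mem_ker, LinearMap.comp_apply, Submodule.mkQ_apply,
      Submodule.Quotient.mk_eq_zero, Submodule.mem_comap, Submodule.coe_subtype,
      LinearMap.codRestrict_apply, Submodule.mem_pi, Set.mem_univ, forall_true_left]
    exact h3 c
  -- `g = q.subtype ∘ gq`, `p.subtype = q.subtype ∘ inclusion`
  have hg : g = q.subtype ∘ₗ gq := by ext c; rfl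
  have hp : p.subtype = q.subtype ∘ₗ Submodule.inclusion hpq := by ext x; rfl
  have h4 : (Submodule.inclusion hpq).lTensor A' z = gq.lTensor A' w := by
    apply hq
    rw [← LinearMap.comp_apply, ← LinearMap.lTensor_comp, ← hp, hzw, hg, LinearMap.lTensor_comp,
      LinearMap.comp_apply]
  have h5 : ψ.lTensor A' w = 0 := by
    have h6 : (Submodule.comap q.subtype p).mkQ ∘ₗ Submodule.inclusion hpq = 0 := by
      ext x
      simp only [LinearMap.comp_apply, Submodule.mkQ_apply, LinearMap.zero_apply,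
        Submodule.Quotient.mk_eq_zero, Submodule.mem_comap, Submodule.coe_subtype,
        Submodule.coe_inclusion]
      exact x.2
    change ((Submodule.comap q.subtype p).mkQ.comp gq).lTensor A' w = 0
    rw [LinearMap.lTensor_comp, LinearMap.comp_apply, ← h4, ← LinearMap.comp_apply,
      ← LinearMap.lTensor_comp, h6, LinearMap.lTensor_zero, LinearMap.zero_apply]
  have hex : Function.Exact ((LinearMap.ker ψ).subtype.lTensor A') (ψ.lTensor A') :=
    lTensor_exact A' (LinearMap.exact_subtype_ker_map ψ) hψ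
  obtain ⟨u, hu⟩ := (hex w).mp h5
  rw [← hker]
  exact ⟨u, hu⟩

end abs2

end Groth.Agent.Lib.Seat42.QRegAbs
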