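import Mathlib
import Groth.Prelude.Def_CAlgX

set_option autoImplicit false
universe u

namespace Groth.Agent.Lib.Seat42.QRegBC

open MvPolynomial

section basic

variable {B : Type*} [CommRing B] {r : ℕ} (f : Fin r → B)

/-- the monomial `f^α`. -/
noncomputable def mon (α : Fin r →₀ ℕ) : B := α.prod fun i k => f i ^ k

/-- exponents of degree `n`. -/
noncomputable def Mn (r n : ℕ) : Finset (Fin r →₀ ℕ) := (Finset.univ : Finset (Fin r)).finsuppAntidiag n

lemma mem_Mn {n : ℕ} {α : Fin r →₀ ℕ} : α ∈ Mn r n ↔ α.degree = n := by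
  simp [Mn, Finsupp.degree_eq_sum]

lemma mon_zero : mon f 0 = 1 := by simp [mon]

lemma mon_add (α β : Fin r →₀ ℕ) : mon f (α + β) = mon f α * mon f β := by
  unfold mon
  rw [Finsupp.prod_add_index']
  · intro i; simp
  · intro i k l; exact pow_add _ _ _

lemma mon_single (i : Fin r) : mon f (Finsupp.single i 1) = f i := by
  simp [mon]

lemma eval_monomial' (α : Fin r →₀ ℕ) (c : B) : eval f (monomial α c) = c * mon f α := by
  rw [eval_monomial]; rfl

/-- the ideal generated by `f`. -/
abbrev JJ : Ideal B := Ideal.span (Set.range f)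

lemma mon_mem_pow {n : ℕ} {α : Fin r →₀ ℕ} (hα : α.degree = n) : mon f α ∈ JJ f ^ n := by
  induction n generalizing α with
  | zero => simp
  | succ n ih =>
    have hne : α ≠ 0 := by
      rintro rfl
      simp at hα
    obtain ⟨i, hi⟩ : ∃ i, α i ≠ 0 := by
      by_contra h
      push Not at h
      exact hne (Finsupp.ext h)
    have hdecomp : α = (α - Finsupp.single i 1) + Finsupp.single i 1 := by
      ext j
      by_cases hj : j = i
      · subst hj
        simp only [Finsupp.coe_add, Finsupp.coe_tsub, Pi.add_apply, Pi.sub_apply, Finsupp.single_eq_same]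
        omega
      · simp [Finsupp.single_eq_of_ne hj]
    have hdeg : (α - Finsupp.single i 1).degree = n := by
      have h1 := congrArg Finsupp.degree hdecomp
      rw [map_add, Finsupp.degree_single, hα] at h1
      omega
    rw [hdecomp, mon_add, mon_single, pow_succ]
    exact Ideal.mul_mem_mul (ih hdeg) (Ideal.subset_span ⟨i, rfl⟩)

/-- evaluation of a family of coefficients in degree `n`. -/
noncomputable def ev (n : ℕ) : (Mn r n → B) →ₗ[B] B :=
  Fintype.linearCombination B (fun α : Mn r n => mon f α.1)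

lemma ev_apply (n : ℕ) (c : Mn r n → B) : ev f n c = ∑ α, c α * mon f α.1 := by
  simp [ev, Fintype.linearCombination_apply]

lemma ev_mem (n : ℕ) (c : Mn r n → B) : ev f n c ∈ JJ f ^ n := by
  rw [ev_apply]
  exact Ideal.sum_mem _ fun α _ => Ideal.mul_mem_left _ _ (mon_mem_pow f (mem_Mn.mp α.2))

lemma ev_mem_succ (n : ℕ) (c : Mn r n → B) (hc : ∀ α, c α ∈ JJ f) : ev f n c ∈ JJ f ^ (n + 1) := by
  rw [ev_apply, pow_succ']
  exact Ideal.sum_mem _ fun α _ => Ideal.mul_mem_mul (hc α) (mon_mem_pow f (mem_Mn.mp α.2))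

lemma mul_mon_mem_range {n : ℕ} {α : Fin r →₀ ℕ} (hα : α.degree = n) (b : B) :
    b * mon f α ∈ LinearMap.range (ev f n) := by
  classical
  refine ⟨Pi.single ⟨α, mem_Mn.mpr hα⟩ b, ?_⟩
  rw [ev_apply, Finset.sum_eq_single ⟨α, mem_Mn.mpr hα⟩]
  · simp
  · intro β _ hβ
    rw [Pi.single_eq_of_ne hβ, zero_mul]
  · intro h; exact absurd (Finset.mem_univ _) h

lemma pow_le_range (n : ℕ) : JJ f ^ n ≤ LinearMap.range (ev f n) := by
  induction n with
  | zero =>
    intro b _
    have := mul_mon_mem_range f (n := 0) (α := 0) (by simp) b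
    rwa [mon_zero, mul_one] at this
  | succ n ih =>
    rw [pow_succ]
    refine Ideal.mul_le.mpr fun x hx y hy => ?_
    obtain ⟨c, rfl⟩ := ih hx
    have key : ∀ i : Fin r, ev f n c * f i ∈ LinearMap.range (ev f (n + 1)) := by
      intro i
      rw [ev_apply, Finset.sum_mul]
      refine Submodule.sum_mem _ fun α _ => ?_
      have : c α * mon f α.1 * f i = c α * mon f (α.1 + Finsupp.single i 1) := by
        rw [mon_add, mon_single, mul_assoc]
      rw [this]
      refine mul_mon_mem_range f ?_ _
      rw [map_add, Finsupp.degree_single, mem_Mn.mp α.2]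
    induction hy using Submodule.span_induction with
    | mem y hy =>
      obtain ⟨i, rfl⟩ := hy
      exact key i
    | zero => rw [mul_zero]; exact Submodule.zero_mem _
    | add y z _ _ hy hz => rw [mul_add]; exact Submodule.add_mem _ hy hz
    | smul a y _ hy =>
      rw [smul_eq_mul, mul_left_comm]
      exact Submodule.smul_mem _ a hy

lemma range_ev (n : ℕ) : LinearMap.range (ev f n) = JJ f ^ n :=
  le_antisymm (by rintro _ ⟨c, rfl⟩; exact ev_mem f n c) (pow_le_range f n)

lemma eval_eq_sum_mon (P : MvPolynomial (Fin r) B) :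
    eval f P = ∑ d ∈ P.support, coeff d P * mon f d := by
  rw [eval_eq]
  rfl

theorem qr_imp (hq : CAlgX.IsQuasiRegular f) (n : ℕ) (c : Mn r n → B)
    (h : ev f n c ∈ JJ f ^ (n + 1)) (α : Mn r n) : c α ∈ JJ f := by
  classical
  let P : MvPolynomial (Fin r) B := ∑ β : Mn r n, monomial β.1 (c β)
  have hP : P.IsHomogeneous n :=
    IsHomogeneous.sum _ _ _ fun β _ => isHomogeneous_monomial _ (mem_Mn.mp β.2)
  have hev : eval f P = ev f n c := by
    simp only [P, map_sum, eval_monomial', ev_apply]
  have hco : coeff α.1 P = c α := by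
    simp only [P, coeff_sum, coeff_monomial]
    rw [Finset.sum_eq_single α]
    · simp
    · intro β _ hβ
      rw [if_neg]
      intro h'
      exact hβ (Subtype.ext h')
    · intro h'; exact absurd (Finset.mem_univ _) h'
  have := hq n P hP (by rw [hev]; exact h) α.1
  rwa [hco] at this

theorem qr_of (h : ∀ (n : ℕ) (c : Mn r n → B), ev f n c ∈ JJ f ^ (n + 1) → ∀ α, c α ∈ JJ f) :
    CAlgX.IsQuasiRegular f := by
  classical
  intro n P hP hmem d
  by_cases hd : d.degree = n
  · have hev : eval f P = ev f n (fun α => coeff α.1 P) := by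
      rw [eval_eq_sum_mon, ev_apply]
      have hsub : P.support ⊆ Mn r n := by
        intro e he
        rw [mem_Mn]
        by_contra hne
        exact (mem_support_iff.mp he) (hP.coeff_eq_zero hne)
      rw [Finset.sum_subset hsub (fun e _ he => by
        rw [notMem_support_iff.mp he, zero_mul])]
      exact (Finset.sum_coe_sort (Mn r n) (fun e => coeff e P * mon f e)).symm
    exact h n (fun α => coeff α.1 P) (by rw [← hev]; exact hmem) ⟨d, mem_Mn.mpr hd⟩
  · rw [hP.coeff_eq_zero hd]
    exact Ideal.zero_mem _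

end basic

end Groth.Agent.Lib.Seat42.QRegBC
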