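import Groth.Agent.Lib.Seat42QRegBC
import Groth.Agent.Lib.Seat42QRegAbs

set_option autoImplicit false
universe u

namespace Groth.Agent.Lib.Seat42.QRegBC

open TensorProduct MvPolynomial Groth.Agent.Lib.Seat42.QRegAbs

section flat

variable {A B : Type*} [CommRing A] [CommRing B] [Algebra A B] {r : ℕ} (f : Fin r → B)

variable (A) in
/-- `J^n` as an `A`-submodule. -/
abbrev KA (n : ℕ) : Submodule A B := (JJ f ^ n).restrictScalars A

theorem flat_quot_restrict [Module.Flat A (B ⧸ JJ f)] :
    Module.Flat A (B ⧸ (JJ f).restrictScalars A) :=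
  Module.Flat.of_linearEquiv (Submodule.Quotient.restrictScalarsEquiv A (JJ f))

theorem flat_grA (hq : CAlgX.IsQuasiRegular f) [Module.Flat A (B ⧸ JJ f)] (n : ℕ) :
    Module.Flat A (↥(KA A f n) ⧸ Submodule.comap (KA A f n).subtype (KA A f (n + 1))) := by
  classical
  have := flat_quot_restrict (A := A) f
  exact flat_quot_of_param ((JJ f).restrictScalars A) (KA A f (n + 1)) (KA A f n)
    ((ev f n).restrictScalars A) (ev_mem f n) (fun y hy => pow_le_range f n hy)
    (fun c => ⟨fun h α => qr_imp f hq n c h α, fun h => ev_mem_succ f n c h⟩)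

theorem lTensor_subtype_injective_KA (hq : CAlgX.IsQuasiRegular f) [Module.Flat A (B ⧸ JJ f)]
    (A' : Type*) [AddCommGroup A'] [Module A A'] (n : ℕ) :
    Function.Injective ((KA A f n).subtype.lTensor A') := by
  induction n with
  | zero =>
    have hbij : Function.Bijective (KA A f 0).subtype := by
      refine ⟨Submodule.subtype_injective _, fun b => ⟨⟨b, ?_⟩, rfl⟩⟩
      change b ∈ JJ f ^ 0
      rw [pow_zero, Ideal.one_eq_top]; trivial
    exact (LinearEquiv.lTensor A' (LinearEquiv.ofBijective _ hbij)).injective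
  | succ n ih =>
    have := flat_grA (A := A) f hq n
    exact lTensor_subtype_injective_step (KA A f (n + 1)) (KA A f n)
      (fun x hx => Ideal.pow_le_pow_right (Nat.le_succ n) hx) A' ih

end flat

end Groth.Agent.Lib.Seat42.QRegBC
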