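import Groth.Agent.Lib.Seat42QRegFlat
import Groth.Agent.Lib.Seat42QRegAbs2

set_option autoImplicit false
universe u

namespace Groth.Agent.Lib.Seat42.QRegBC

open TensorProduct MvPolynomial Groth.Agent.Lib.Seat42.QRegAbs

section main

variable {A B : Type*} [CommRing A] [CommRing B] [Algebra A B] {r : ℕ} (f : Fin r → B)
variable (A' : Type*) [CommRing A'] [Algebra A A']

/-- base-changed sequence -/
noncomputable abbrev fBC : Fin r → A' ⊗[A] B := fun i => (1 : A') ⊗ₜ[A] f i

lemma mon_map {C : Type*} [CommRing C] (g : B →+* C) (α : Fin r →₀ ℕ) :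
    mon (fun i => g (f i)) α = g (mon f α) := by
  unfold mon
  rw [map_finsuppProd]
  simp only [map_pow]

lemma mon_fBC (α : Fin r →₀ ℕ) : mon (fBC f A') α = (1 : A') ⊗ₜ[A] mon f α := by
  have := mon_map f (Algebra.TensorProduct.includeRight (R := A) (A := A') (B := B)).toRingHom α
  exact this

lemma tmul_mem_JJ (a : A') {j : B} (hj : j ∈ JJ f) : a ⊗ₜ[A] j ∈ JJ (fBC f A') := by
  have h1 : (1 : A') ⊗ₜ[A] j ∈ JJ (fBC f A') := by
    have h2 : (Algebra.TensorProduct.includeRight (R := A) (A := A') (B := B)).toRingHom j ∈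
        Ideal.map (Algebra.TensorProduct.includeRight (R := A) (A := A') (B := B)).toRingHom
          (JJ f) := Ideal.mem_map_of_mem _ hj
    rw [Ideal.map_span] at h2
    have h3 : (Algebra.TensorProduct.includeRight (R := A) (A := A') (B := B)).toRingHom ''
        Set.range f = Set.range (fBC f A') := by
      ext x
      constructor
      · rintro ⟨_, ⟨i, rfl⟩, rfl⟩; exact ⟨i, rfl⟩
      · rintro ⟨i, rfl⟩; exact ⟨_, ⟨i, rfl⟩, rfl⟩
    rw [h3] at h2
    exact h2
  have h4 : a ⊗ₜ[A] j = (a ⊗ₜ[A] (1 : B)) * ((1 : A') ⊗ₜ[A] j) := by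
    rw [Algebra.TensorProduct.tmul_mul_tmul, mul_one, one_mul]
  rw [h4]
  exact Ideal.mul_mem_left _ _ h1

variable [DecidableEq (Fin r →₀ ℕ)]

/-- the comparison iso -/
noncomputable abbrev Φ (n : ℕ) : A' ⊗[A] (Mn r n → B) ≃ₗ[A'] (Mn r n → A' ⊗[A] B) :=
  TensorProduct.piRight A A' A' (fun _ : Mn r n => B)

lemma ev_Φ (n : ℕ) (w : A' ⊗[A] (Mn r n → B)) :
    ev (fBC f A') n (Φ (A := A) (B := B) A' n w) = ((ev f n).restrictScalars A).lTensor A' w := by
  induction w using TensorProduct.induction_on with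
  | zero => simp
  | tmul a c =>
    rw [ev_apply, LinearMap.lTensor_tmul, LinearMap.restrictScalars_apply, ev_apply,
      TensorProduct.tmul_sum]
    refine Finset.sum_congr rfl fun α _ => ?_
    rw [mon_fBC]
    simp [TensorProduct.piRight_apply, TensorProduct.piRightHom_tmul,
      Algebra.TensorProduct.tmul_mul_tmul]
  | add x y hx hy => rw [map_add, map_add, map_add, hx, hy]

/-- elements of `J'^m` lift to `A' ⊗ J^m`. -/
lemma exists_lift_of_mem_pow (m : ℕ) (x : A' ⊗[A] B) (hx : x ∈ JJ (fBC f A') ^ m) :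
    ∃ z : A' ⊗[A] ↥(KA A f m), (KA A f m).subtype.lTensor A' z = x := by
  rw [← range_ev] at hx
  obtain ⟨c', rfl⟩ := hx
  obtain ⟨w, rfl⟩ := (Φ (A := A) (B := B) A' m).surjective c'
  rw [ev_Φ]
  let gq : (Mn r m → B) →ₗ[A] ↥(KA A f m) :=
    ((ev f m).restrictScalars A).codRestrict (KA A f m) (ev_mem f m)
  have hg : (ev f m).restrictScalars A = (KA A f m).subtype ∘ₗ gq := by ext c; rfl
  refine ⟨gq.lTensor A' w, ?_⟩
  rw [hg, LinearMap.lTensor_comp, LinearMap.comp_apply]

theorem isQuasiRegular_baseChange (hq : CAlgX.IsQuasiRegular f) [Module.Flat A (B ⧸ JJ f)] :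
    CAlgX.IsQuasiRegular (fBC (A := A) f A') := by
  apply qr_of
  intro n c' hc' α
  obtain ⟨w, rfl⟩ := (Φ (A := A) (B := B) A' n).surjective c'
  obtain ⟨z, hz⟩ := exists_lift_of_mem_pow f A' (n + 1) _ hc'
  rw [ev_Φ] at hz
  have hw := mem_range_lTensor_pi ((JJ f).restrictScalars A) (KA A f (n + 1)) (KA A f n)
    (fun x hx => Ideal.pow_le_pow_right (Nat.le_succ n) hx)
    ((ev f n).restrictScalars A) (ev_mem f n) (fun y hy => pow_le_range f n hy)
    (fun c => ⟨fun h α => qr_imp f hq n c h α, fun h => ev_mem_succ f n c h⟩)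
    A' (lTensor_subtype_injective_KA f hq A' n) w z hz
  obtain ⟨u, rfl⟩ := hw
  clear hz hc'
  induction u using TensorProduct.induction_on with
  | zero => simp
  | tmul a c =>
    rw [LinearMap.lTensor_tmul]
    have : Φ (A := A) (B := B) A' n (a ⊗ₜ[A] (c : Mn r n → B)) α = a ⊗ₜ[A] (c : Mn r n → B) α := by
      simp [TensorProduct.piRight_apply, TensorProduct.piRightHom_tmul]
    rw [Submodule.coe_subtype, this]
    exact tmul_mem_JJ f A' a (c.2 α (Set.mem_univ _))
  | add x y hx hy =>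
    rw [map_add, map_add, Pi.add_apply]
    exact Ideal.add_mem _ hx hy

end main

end Groth.Agent.Lib.Seat42.QRegBC
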