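import Mathlib

/-!
# Regularity along a flat local homomorphism with `𝔪_A B = 𝔪_B`

`isRegularLocalRing_iff_of_flat_of_map_maximalIdeal`: for a flat homomorphism `A → B` of Noetherian
local rings with `𝔪_A B = 𝔪_B`, `A` is regular iff `B` is regular.
-/

set_option autoImplicit false

open IsLocalRing

namespace Groth.Agent.Lib.Seat42.RegBaseChange

variable {A B : Type*} [CommRing A] [CommRing B] [IsLocalRing A] [IsLocalRing B] [Algebra A B]

theorem liesOver_of_map_eq (h : (maximalIdeal A).map (algebraMap A B) = maximalIdeal B) :
    (maximalIdeal B).LiesOver (maximalIdeal A) := by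
  refine ⟨le_antisymm ?_ ?_⟩
  · rw [Ideal.under_def, ← Ideal.map_le_iff_le_comap, h]
  · exact IsLocalRing.le_maximalIdeal (Ideal.comap_ne_top _ (Ideal.IsPrime.ne_top'))

theorem isLocalHom_of_map_eq (h : (maximalIdeal A).map (algebraMap A B) = maximalIdeal B) :
    IsLocalHom (algebraMap A B) := by
  have := liesOver_of_map_eq h
  refine ⟨fun a ha => ?_⟩
  by_contra hna
  have hm : a ∈ maximalIdeal A := (IsLocalRing.mem_maximalIdeal a).2 hna
  have : algebraMap A B a ∈ maximalIdeal B := h ▸ Ideal.mem_map_of_mem _ hm
  exact (IsLocalRing.mem_maximalIdeal _).1 this ha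

theorem ringKrullDim_eq [IsNoetherianRing A] [IsNoetherianRing B] [Module.Flat A B]
    (h : (maximalIdeal A).map (algebraMap A B) = maximalIdeal B) :
    ringKrullDim B = ringKrullDim A := by
  have := liesOver_of_map_eq h
  have key := Ideal.height_eq_height_add_of_liesOver_of_hasGoingDown
    (maximalIdeal A) (maximalIdeal B)
  rw [h, Ideal.map_quotient_self] at key
  rw [← IsLocalRing.maximalIdeal_height_eq_ringKrullDim,
    ← IsLocalRing.maximalIdeal_height_eq_ringKrullDim, key]
  simp

theorem spanFinrank_le [IsNoetherianRing A]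
    (h : (maximalIdeal A).map (algebraMap A B) = maximalIdeal B) :
    (maximalIdeal B).spanFinrank ≤ (maximalIdeal A).spanFinrank := by
  rw [← h]
  exact Ideal.spanFinrank_map_le_of_fg _ (maximalIdeal A).fg_of_isNoetherianRing

theorem spanFinrank_ge [IsNoetherianRing A] [IsNoetherianRing B] [Module.Flat A B]
    (h : (maximalIdeal A).map (algebraMap A B) = maximalIdeal B) :
    (maximalIdeal A).spanFinrank ≤ (maximalIdeal B).spanFinrank := by
  classical
  have hloc := isLocalHom_of_map_eq h
  have : Module.FaithfullyFlat A B := Module.FaithfullyFlat.of_flat_of_isLocalHom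
  -- generators of `𝔪_A`
  obtain ⟨G, hGfin, hG⟩ : ∃ G : Set A, G.Finite ∧ Ideal.span G = maximalIdeal A := by
    obtain ⟨s, hs⟩ := (maximalIdeal A).fg_of_isNoetherianRing
    exact ⟨s, s.finite_toSet, hs⟩
  have hGm : ∀ g : G, algebraMap A B g ∈ maximalIdeal B := fun g =>
    h ▸ Ideal.mem_map_of_mem _ (hG ▸ Ideal.subset_span g.2)
  let w : G → maximalIdeal B := fun g => ⟨algebraMap A B g, hGm g⟩
  let v : G → CotangentSpace B := fun g => (maximalIdeal B).toCotangent (w g)
  have hw : Submodule.span B (Set.range w) = ⊤ := by
    apply (Submodule.map_injective_of_injective (maximalIdeal B).subtype_injective)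
    rw [Submodule.map_span, Submodule.map_top, Submodule.range_subtype, ← Set.range_comp]
    have e1 : Set.range ((maximalIdeal B).subtype ∘ w) = algebraMap A B '' G := by
      ext b
      simp [w]
    rw [e1]
    conv_rhs => rw [← h, ← hG, Ideal.map_span]
  have hv : Submodule.span (ResidueField B) (Set.range v) = ⊤ := by
    have : Set.range v = (maximalIdeal B).toCotangent '' (Set.range w) := by
      rw [← Set.range_comp]; rfl
    rw [this, CotangentSpace.span_image_eq_top_iff, hw]
  obtain ⟨κ, a, ha, hspan, hli⟩ := exists_linearIndependent' (ResidueField B) v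
  have : Finite κ := hli.finite
  let : Fintype κ := Fintype.ofFinite κ
  have hcard : Fintype.card κ ≤ (maximalIdeal B).spanFinrank := by
    rw [spanFinrank_maximalIdeal_eq_finrank_cotangentSpace]
    exact hli.fintype_card_le_finrank
  -- the chosen generators
  let t : Set A := Set.range (fun k : κ => ((a k : G) : A))
  have htfin : t.Finite := Set.finite_range _
  have hspan' : Submodule.span B (Set.range (w ∘ a)) = ⊤ := by
    rw [← CotangentSpace.span_image_eq_top_iff, ← Set.range_comp]
    rw [← hv, ← hspan]
    rfl
  have hmap : (Ideal.span t).map (algebraMap A B) = maximalIdeal B := by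
    have := congrArg (Submodule.map (maximalIdeal B).subtype) hspan'
    rw [Submodule.map_span, Submodule.map_top, Submodule.range_subtype, ← Set.range_comp] at this
    have e1 : Set.range ((maximalIdeal B).subtype ∘ w ∘ a) = algebraMap A B '' t := by
      ext b
      simp [t, w]
    rw [Ideal.map_span, ← this, e1]
  have ht : Ideal.span t = maximalIdeal A := by
    rw [← Ideal.comap_map_eq_self_of_faithfullyFlat (B := B) (Ideal.span t), hmap, ← h,
      Ideal.comap_map_eq_self_of_faithfullyFlat]
  calc (maximalIdeal A).spanFinrank = (Ideal.span t).spanFinrank := by rw [ht]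
    _ ≤ t.ncard := Submodule.spanFinrank_span_le_ncard_of_finite htfin
    _ ≤ Fintype.card κ := by
        rw [← Nat.card_eq_fintype_card]
        have := Set.ncard_image_le (f := fun k : κ => ((a k : G) : A)) (Set.finite_univ (α := κ))
        rwa [Set.image_univ, Set.ncard_univ] at this
    _ ≤ _ := hcard

theorem isRegularLocalRing_iff [IsNoetherianRing A] [IsNoetherianRing B] [Module.Flat A B]
    (h : (maximalIdeal A).map (algebraMap A B) = maximalIdeal B) :
    IsRegularLocalRing A ↔ IsRegularLocalRing B := by
  have hdim := ringKrullDim_eq h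
  have hspan : (maximalIdeal B).spanFinrank = (maximalIdeal A).spanFinrank :=
    le_antisymm (spanFinrank_le h) (spanFinrank_ge h)
  rw [_root_.isRegularLocalRing_iff, _root_.isRegularLocalRing_iff, hdim, hspan]

end Groth.Agent.Lib.Seat42.RegBaseChange
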