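import Mathlib

set_option autoImplicit false
universe u

namespace Groth.Agent.Lib.Seat42.SplitTower

open Polynomial

/-- For monic `f` of positive degree, `A → A[x]/(f)` is injective. -/
theorem adjoinRoot_of_injective {A : Type*} [CommRing A] {f : A[X]} (hf : f.Monic)
    (hd : f.natDegree ≠ 0) : Function.Injective (AdjoinRoot.of f) := by
  rw [injective_iff_map_eq_zero]
  intro a ha
  rw [← AdjoinRoot.mk_C, AdjoinRoot.mk_eq_zero] at ha
  by_contra hne
  have hC : (C a : A[X]) ≠ 0 := by simpa using hne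
  refine hf.not_dvd_of_natDegree_lt hC ?_ ha
  rw [natDegree_C]
  exact Nat.pos_of_ne_zero hd

/-- A monic polynomial splits in a finite free extension with injective structure map. -/
theorem exists_splitting_free (n : ℕ) : ∀ (A : Type u) [CommRing A] (f : A[X]), f.Monic →
    f.natDegree = n →
    ∃ (B : Type u) (_ : CommRing B) (_ : Algebra A B), Module.Free A B ∧ Module.Finite A B ∧
      Function.Injective (algebraMap A B) ∧
      ∃ r : Fin n → B, f.map (algebraMap A B) = ∏ i, (X - C (r i)) := by
  induction n with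
  | zero =>
    intro A _ f hf hn
    refine ⟨A, inferInstance, inferInstance, inferInstance, inferInstance,
      Function.injective_id, Fin.elim0, ?_⟩
    have : f = 1 := hf.natDegree_eq_zero.mp hn
    simp [this]
  | succ n ih =>
    intro A _ f hf hn
    have hinj : Function.Injective (AdjoinRoot.of f) :=
      adjoinRoot_of_injective hf (by omega)
    have hnt : Nontrivial A := by
      by_contra h
      rw [not_nontrivial_iff_subsingleton] at h
      have : f = 0 := Subsingleton.elim _ _
      rw [this, natDegree_zero] at hn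
      omega
    have hnt' : Nontrivial (AdjoinRoot f) := hinj.nontrivial
    have hroot : (f.map (AdjoinRoot.of f)).IsRoot (AdjoinRoot.root f) := AdjoinRoot.isRoot_root f
    set g := (f.map (AdjoinRoot.of f)) /ₘ (X - C (AdjoinRoot.root f)) with hgdef
    have hg : (X - C (AdjoinRoot.root f)) * g = f.map (AdjoinRoot.of f) :=
      mul_divByMonic_eq_iff_isRoot.mpr hroot
    have hfm : (f.map (AdjoinRoot.of f)).Monic := hf.map _
    have hgm : g.Monic := (monic_X_sub_C _).of_mul_monic_left (hg ▸ hfm)
    have hgd : g.natDegree = n := by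
      have h1 := congrArg natDegree hg
      rw [(monic_X_sub_C _).natDegree_mul hgm, natDegree_X_sub_C, hf.natDegree_map, hn] at h1
      omega
    obtain ⟨B, _, _, hfree, hfin, hψ, r, hr⟩ := ih (AdjoinRoot f) g hgm hgd
    let _ : Algebra A B := ((algebraMap (AdjoinRoot f) B).comp (AdjoinRoot.of f)).toAlgebra
    have : IsScalarTower A (AdjoinRoot f) B := IsScalarTower.of_algebraMap_eq (fun _ => rfl)
    have : Module.Free A (AdjoinRoot f) := Module.Free.of_basis (AdjoinRoot.powerBasis' hf).basis
    have : Module.Finite A (AdjoinRoot f) := (AdjoinRoot.powerBasis' hf).finite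
    refine ⟨B, inferInstance, inferInstance, Module.Free.trans (S := AdjoinRoot f),
      Module.Finite.trans (AdjoinRoot f) B, hψ.comp hinj,
      Fin.cons (algebraMap (AdjoinRoot f) B (AdjoinRoot.root f)) r, ?_⟩
    have hmap : f.map (algebraMap A B) =
        (f.map (AdjoinRoot.of f)).map (algebraMap (AdjoinRoot f) B) := by
      rw [Polynomial.map_map]; rfl
    rw [hmap, ← hg, Polynomial.map_mul, hr, Fin.prod_univ_succ]
    simp

/-- A finite family of monic polynomials splits in a finite free extension. -/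
theorem exists_splitting_family (n : ℕ) : ∀ (A : Type u) [CommRing A] (P : Fin n → A[X]),
    (∀ j, (P j).Monic) →
    ∃ (B : Type u) (_ : CommRing B) (_ : Algebra A B), Module.Free A B ∧ Module.Finite A B ∧
      Function.Injective (algebraMap A B) ∧
      ∀ j, ∃ (d : ℕ) (r : Fin d → B), (P j).map (algebraMap A B) = ∏ i, (X - C (r i)) := by
  induction n with
  | zero =>
    intro A _ P _
    exact ⟨A, inferInstance, inferInstance, inferInstance, inferInstance,
      Function.injective_id, fun j => j.elim0⟩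
  | succ n ih =>
    intro A _ P hP
    obtain ⟨A₁, _, _, hfree₁, hfin₁, hinj₁, r₀, hr₀⟩ :=
      exists_splitting_free (P 0).natDegree A (P 0) (hP 0) rfl
    obtain ⟨B, _, _, hfree, hfin, hinj, hr⟩ := ih A₁
      (fun j => (P j.succ).map (algebraMap A A₁)) (fun j => (hP j.succ).map _)
    let _ : Algebra A B := ((algebraMap A₁ B).comp (algebraMap A A₁)).toAlgebra
    have : IsScalarTower A A₁ B := IsScalarTower.of_algebraMap_eq (fun _ => rfl)
    refine ⟨B, inferInstance, inferInstance, Module.Free.trans (S := A₁),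
      Module.Finite.trans A₁ B, hinj.comp hinj₁, ?_⟩
    have hmap : ∀ j, (P j).map (algebraMap A B) =
        ((P j).map (algebraMap A A₁)).map (algebraMap A₁ B) := by
      intro j; rw [Polynomial.map_map]; rfl
    intro j
    refine Fin.cases ?_ (fun j => ?_) j
    · refine ⟨_, fun i => algebraMap A₁ B (r₀ i), ?_⟩
      rw [hmap, hr₀, Polynomial.map_prod]
      simp
    · obtain ⟨d, r, hr'⟩ := hr j
      exact ⟨d, r, by rw [hmap]; exact hr'⟩

/-- kernel of a lifted retraction of `AdjoinRoot` lies in a prime containing the kernel of the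
original retraction and `root - t`. -/
theorem ker_liftAlgHom_le {R C₀ : Type*} [CommRing R] [CommRing C₀] [Algebra R C₀]
    (p : C₀[X]) (σ₀ : C₀ →ₐ[R] R) (t : R) (h : p.eval₂ (σ₀ : C₀ →+* R) t = 0)
    (q : Ideal (AdjoinRoot p))
    (h1 : RingHom.ker (σ₀ : C₀ →+* R) ≤ q.comap (AdjoinRoot.of p))
    (h2 : AdjoinRoot.root p - AdjoinRoot.of p (algebraMap R C₀ t) ∈ q) :
    RingHom.ker (AdjoinRoot.liftAlgHom p σ₀ t h : AdjoinRoot p →+* R) ≤ q := by
  intro c hc
  obtain ⟨g, rfl⟩ := AdjoinRoot.mk_surjective c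
  rw [RingHom.mem_ker] at hc
  have hc' : eval₂ (σ₀ : C₀ →+* R) t g = 0 := hc
  set τ : C₀ := algebraMap R C₀ t with hτ
  have hdiv : g = (X - C τ) * (g /ₘ (X - C τ)) + C (g.eval τ) := by
    have := modByMonic_add_div g (X - C τ)
    rw [modByMonic_X_sub_C_eq_C_eval] at this
    rw [add_comm]; exact this.symm
  have hστ : σ₀ τ = t := by rw [hτ, AlgHom.commutes]; rfl
  have hev : σ₀ (g.eval τ) = 0 := by
    have h3 : (σ₀ : C₀ →+* R) (g.eval τ) = eval₂ (σ₀ : C₀ →+* R) ((σ₀ : C₀ →+* R) τ) g := by
      rw [← eval₂_id, hom_eval₂, RingHom.comp_id]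
    have h4 : (σ₀ : C₀ →+* R) τ = t := hστ
    rw [h4, hc'] at h3
    exact h3
  rw [hdiv, map_add, map_mul, map_sub, AdjoinRoot.mk_X, AdjoinRoot.mk_C, AdjoinRoot.mk_C]
  refine Ideal.add_mem _ (Ideal.mul_mem_right _ _ h2) ?_
  exact h1 (by rw [RingHom.mem_ker]; exact hev)

theorem exists_tower (R : Type u) [CommRing R] (B : Type u) [CommRing B] [Algebra R B] (n : ℕ) :
    ∀ (b : Fin n → B) (P : Fin n → R[X]), (∀ j, (P j).Monic) → (∀ j, aeval (b j) (P j) = 0) →
    (∀ j, ∃ (d : ℕ) (t : Fin d → R), P j = ∏ i, (X - C (t i))) →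
    ∃ (C : Type u) (_ : CommRing C) (_ : Algebra R C), Module.Free R C ∧ Module.Finite R C ∧
      ∃ π : C →ₐ[R] B, (∀ j, b j ∈ π.range) ∧
      ∃ (ι : Type) (_ : Fintype ι) (σ : ι → (C →ₐ[R] R)),
        ∀ q : Ideal C, q.IsPrime → ∃ k, RingHom.ker (σ k : C →+* R) ≤ q := by
  induction n with
  | zero =>
    intro b P _ _ _
    refine ⟨R, inferInstance, inferInstance, inferInstance, inferInstance, Algebra.ofId R B,
      fun j => j.elim0, Unit, inferInstance, fun _ => AlgHom.id R R, fun q _ => ⟨(), ?_⟩⟩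
    intro x hx
    have : x = 0 := hx
    rw [this]; exact q.zero_mem
  | succ n ih =>
    intro b P hP hPb hsplit
    obtain ⟨C₀, _, _, hfree₀, hfin₀, π₀, hπ₀, ι₀, _, σ₀, hσ₀⟩ :=
      ih (fun j => b j.succ) (fun j => P j.succ) (fun j => hP j.succ) (fun j => hPb j.succ)
        (fun j => hsplit j.succ)
    obtain ⟨d, t, ht⟩ := hsplit 0
    set p : C₀[X] := (P 0).map (algebraMap R C₀) with hp
    have hpm : p.Monic := (hP 0).map _
    have : Module.Free C₀ (AdjoinRoot p) := Module.Free.of_basis (AdjoinRoot.powerBasis' hpm).basis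
    have : Module.Finite C₀ (AdjoinRoot p) := (AdjoinRoot.powerBasis' hpm).finite
    have hπ : p.eval₂ (π₀ : C₀ →+* B) (b 0) = 0 := by
      rw [hp, eval₂_map]
      have : (π₀ : C₀ →+* B).comp (algebraMap R C₀) = algebraMap R B := by
        ext r; exact π₀.commutes r
      rw [this]
      exact hPb 0
    have hσ : ∀ (k : ι₀) (i : Fin d), p.eval₂ (σ₀ k : C₀ →+* R) (t i) = 0 := by
      intro k i
      rw [hp, eval₂_map]
      have : (σ₀ k : C₀ →+* R).comp (algebraMap R C₀) = RingHom.id R := by
        ext r; exact (σ₀ k).commutes r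
      rw [this, eval₂_id, ht, eval_prod]
      exact Finset.prod_eq_zero (Finset.mem_univ i) (by simp)
    refine ⟨AdjoinRoot p, inferInstance, inferInstance, Module.Free.trans (S := C₀),
      Module.Finite.trans C₀ _, AdjoinRoot.liftAlgHom p π₀ (b 0) hπ, ?_,
      ι₀ × Fin d, inferInstance, fun ki => AdjoinRoot.liftAlgHom p (σ₀ ki.1) (t ki.2) (hσ ki.1 ki.2),
      ?_⟩
    · intro j
      refine Fin.cases ?_ (fun j => ?_) j
      · exact ⟨AdjoinRoot.root p, AdjoinRoot.liftAlgHom_root ..⟩
      · obtain ⟨c, hc⟩ := hπ₀ j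
        exact ⟨AdjoinRoot.of p c, (AdjoinRoot.liftAlgHom_of ..).trans hc⟩
    · intro q hq
      obtain ⟨k, hk⟩ := hσ₀ (q.comap (AdjoinRoot.of p)) inferInstance
      have hprod : ∏ i, (AdjoinRoot.root p - AdjoinRoot.of p (algebraMap R C₀ (t i))) ∈ q := by
        have h1 : p = ∏ i, (X - C (algebraMap R C₀ (t i))) := by
          rw [hp, ht, Polynomial.map_prod]
          simp
        have h0 : AdjoinRoot.mk p (∏ i, (X - C (algebraMap R C₀ (t i)))) = 0 := by
          rw [← h1]; exact AdjoinRoot.mk_self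
        rw [map_prod] at h0
        simp only [map_sub, AdjoinRoot.mk_X, AdjoinRoot.mk_C] at h0
        rw [h0]; exact q.zero_mem
      obtain ⟨i, -, hi⟩ := Ideal.IsPrime.prod_mem_iff.mp hprod
      exact ⟨(k, i), ker_liftAlgHom_le p (σ₀ k) (t i) (hσ k i) q hk hi⟩


open TensorProduct in
/-- The algebraic heart of Stacks-type lemma: a finite algebra `B` over `A` becomes, after a finite
free injective base change `A → A'`, a quotient of a finite free `A'`-algebra `C` whose spectrum is
covered by finitely many sections. -/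
theorem exists_cover_data (A B : Type u) [CommRing A] [CommRing B] [Algebra A B]
    [Module.Finite A B] :
    ∃ (A' : Type u) (_ : CommRing A') (_ : Algebra A A'), Module.Free A A' ∧ Module.Finite A A' ∧
      Function.Injective (algebraMap A A') ∧
      ∃ (C : Type u) (_ : CommRing C) (_ : Algebra A' C), Module.Free A' C ∧ Module.Finite A' C ∧
        ∃ π : C →ₐ[A'] (A' ⊗[A] B), Function.Surjective π ∧
        ∃ (m : ℕ) (σ : Fin m → (C →ₐ[A'] A')),
          ∀ q : Ideal C, q.IsPrime → ∃ k, RingHom.ker (σ k : C →+* A') ≤ q := by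
  obtain ⟨n, b, hb⟩ := Module.Finite.exists_fin (R := A) (M := B)
  have hadj : Algebra.adjoin A (Set.range b) = ⊤ := by
    rw [eq_top_iff]
    intro x _
    have hx : x ∈ Submodule.span A (Set.range b) := hb ▸ Submodule.mem_top
    exact Algebra.span_le_adjoin A _ hx
  have hint : ∀ j, IsIntegral A (b j) := fun j => Algebra.IsIntegral.isIntegral (b j)
  choose P hPm hPb using hint
  obtain ⟨A', _, _, hfree, hfin, hinj, hsplit⟩ := exists_splitting_family n A P hPm
  have hPb' : ∀ j, aeval ((1 : A') ⊗ₜ[A] b j) ((P j).map (algebraMap A A')) = 0 := by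
    intro j
    rw [aeval_def, eval₂_map]
    have h1 : (algebraMap A' (A' ⊗[A] B)).comp (algebraMap A A') =
        (Algebra.TensorProduct.includeRight (R := A) (A := A') (B := B) : B →+* A' ⊗[A] B).comp
          (algebraMap A B) := by
      ext a
      simp only [RingHom.comp_apply]
      rw [← IsScalarTower.algebraMap_apply A A' (A' ⊗[A] B) a]
      exact ((Algebra.TensorProduct.includeRight (R := A) (A := A') (B := B)).commutes a).symm
    rw [h1]
    have h2 : (1 : A') ⊗ₜ[A] b j =
        (Algebra.TensorProduct.includeRight (R := A) (A := A') (B := B) : B →+* A' ⊗[A] B) (b j) :=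
      rfl
    rw [h2, ← hom_eval₂, hPb j, map_zero]
  obtain ⟨C, _, _, hCfree, hCfin, π, hπ, ι, _, σ, hσ⟩ :=
    exists_tower A' (A' ⊗[A] B) n (fun j => (1 : A') ⊗ₜ[A] b j)
      (fun j => (P j).map (algebraMap A A')) (fun j => (hPm j).map _) hPb' hsplit
  refine ⟨A', inferInstance, inferInstance, hfree, hfin, hinj, C, inferInstance, inferInstance,
    hCfree, hCfin, π, ?_, Fintype.card ι, fun k => σ ((Fintype.equivFin ι).symm k), ?_⟩
  · -- surjectivity
    have h1 : ∀ y : B, (1 : A') ⊗ₜ[A] y ∈ π.range := by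
      let T : Subalgebra A B := (π.range.restrictScalars A).comap
        (Algebra.TensorProduct.includeRight (R := A) (A := A') (B := B))
      have hT : Algebra.adjoin A (Set.range b) ≤ T := by
        rw [Algebra.adjoin_le_iff]
        rintro _ ⟨j, rfl⟩
        exact hπ j
      intro y
      have : y ∈ T := hT (hadj ▸ Algebra.mem_top)
      exact this
    intro x
    induction x using TensorProduct.induction_on with
    | zero => exact ⟨0, map_zero _⟩
    | tmul a y =>
      obtain ⟨c, hc⟩ := (AlgHom.mem_range π).mp (h1 y)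
      refine ⟨a • c, ?_⟩
      rw [map_smul, hc, TensorProduct.smul_tmul', smul_eq_mul, mul_one]
    | add x y hx hy =>
      obtain ⟨c, rfl⟩ := hx
      obtain ⟨c', rfl⟩ := hy
      exact ⟨c + c', map_add _ _ _⟩
  · intro q hq
    obtain ⟨k, hk⟩ := hσ q hq
    refine ⟨Fintype.equivFin ι k, ?_⟩
    dsimp only
    rw [Equiv.symm_apply_apply]
    exact hk

end Groth.Agent.Lib.Seat42.SplitTower
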