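import Mathlib
import Groth.Agent.S9758
import Groth.Agent.S9142
import Groth.Agent.S9437
import Groth.Agent.Lib.Helper12NoethDescent
import Groth.Agent.Lib.Helper28Normal
import Groth.Agent.Lib.Helper5FiberRing
import Groth.Agent.Lib.Helper5TensorSk
import Groth.Agent.Lib.Helper28PolyCM

/-!
# Cohen–Macaulay and `(S_k)` along syntomic ring maps and syntomic covers (seat 42)

Ring level: for a syntomic ring map `A → B` with `A` Noetherian, `B` is Noetherian, `(S_k)` ascends
and so does "Cohen–Macaulay ring".  Scheme level: syntomic morphisms are flat and locally of finite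
presentation; the properties "locally Noetherian with `(S_k)` stalks" / "with Cohen–Macaulay stalks"
ascend along syntomic morphisms and descend along jointly surjective syntomic families.
-/

set_option autoImplicit false
set_option linter.style.haveILetI false
universe u
open AlgebraicGeometry CategoryTheory Opposite Limits

namespace Groth.Agent.Lib.Seat42.SyntCM

open Groth.Agent.Lib.Helper28 Groth.Agent.Lib.Helper5

section Ring

/-- A Cohen–Macaulay ring satisfies `(S_k)` for every `k`. -/
theorem hasSk_of_isCohenMacaulayRing (T : Type u) [CommRing T] [hT : LocCoh.IsCohenMacaulayRing T]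
    (k : ℕ) : LocCoh.HasSk k T T := by
  haveI : IsNoetherianRing T := hT.toIsNoetherian
  rw [hasSk_self_iff_enat]
  intro Q hQ
  have h1 := hT.isCohenMacaulayLocalRing_localization Q
  have h2 := (isCohenMacaulayLocalRing_iff (Localization.AtPrime Q)).mp h1
  have h3 : (IsLocalRing.maximalIdeal (Localization.AtPrime Q)).height = Q.height := by
    have := IsLocalization.AtPrime.ringKrullDim_eq_height Q (Localization.AtPrime Q)
    rw [← IsLocalRing.maximalIdeal_height_eq_ringKrullDim] at this
    exact WithBot.coe_injective this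
  rw [← h2, h3]
  exact min_le_right _ _

variable {A B : Type u} [CommRing A] [CommRing B] [Algebra A B]

theorem isNoetherianRing_of_isSyntomic [IsNoetherianRing A] (h : Synt.IsSyntomic A B) :
    IsNoetherianRing B := by
  haveI := h.2.1
  exact Algebra.FiniteType.isNoetherianRing A B

theorem isCohenMacaulayRing_fiber (h : Synt.IsSyntomic A B) (p : Ideal A) [hp : p.IsPrime] :
    LocCoh.IsCohenMacaulayRing (p.Fiber B) :=
  Groth.Agent.S9142.result _ _ (h.2.2 ⟨p, hp⟩)

/-- `(S_k)` ascends along syntomic ring maps. -/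
theorem hasSk_of_isSyntomic [IsNoetherianRing A] (h : Synt.IsSyntomic A B) (k : ℕ)
    (hA : LocCoh.HasSk k A A) : LocCoh.HasSk k B B := by
  haveI := isNoetherianRing_of_isSyntomic h
  haveI := h.1
  refine TensorSk.hasSk_of_flat_of_fibres k hA ?_
  intro p hp
  haveI := isCohenMacaulayRing_fiber h p
  exact hasSk_of_isCohenMacaulayRing _ k

/-- "Cohen–Macaulay ring" ascends along syntomic ring maps. -/
theorem isCohenMacaulayRing_of_isSyntomic [hA : LocCoh.IsCohenMacaulayRing A]
    (h : Synt.IsSyntomic A B) : LocCoh.IsCohenMacaulayRing B := by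
  haveI : IsNoetherianRing A := hA.toIsNoetherian
  haveI := isNoetherianRing_of_isSyntomic h
  haveI := h.1
  have hfib : ∀ (q : Ideal B) [q.IsPrime],
      LocCoh.IsCohenMacaulayLocalRing (EGA4.FibLocRing A B q) :=
    forall_isCohenMacaulayRing_fiber_iff.mp (fun p _ => isCohenMacaulayRing_fiber h p)
  refine { isCohenMacaulayLocalRing_localization := ?_ }
  intro Q hQ
  have hF := hfib Q
  haveI : IsLocalRing (EGA4.FibLocRing A B Q) := hF.toIsLocalRing
  refine isCohenMacaulayLocalRing_localization_of_fibLocRing (A := A) Q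
    (hA.isCohenMacaulayLocalRing_localization _) ?_
  have := hF.supportDim_eq_depth
  rwa [Module.supportDim_self_eq_ringKrullDim] at this

end Ring

section Scheme

variable {X S : Scheme.{u}} (f : X ⟶ S)

theorem flat_of_isSyntomicMor (h : Synt.IsSyntomicMor f) : Flat f :=
  ((Groth.Agent.S9758.result f).2 h).1

theorem lfp_of_isSyntomicMor (h : Synt.IsSyntomicMor f) : LocallyOfFinitePresentation f := by
  have hsrc : RingHom.StableUnderCompositionWithLocalizationAwaySource
      @RingHom.FinitePresentation :=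
    (RingHom.finitePresentation_stableUnderComposition.stableUnderCompositionWithLocalizationAway
      RingHom.finitePresentation_holdsForLocalizationAway).left
  rw [HasRingHomProperty.iff_exists_appLE (P := @LocallyOfFinitePresentation) hsrc]
  intro x
  obtain ⟨U, V, e, hx, hsyn⟩ := h x
  refine ⟨V, U, hx, e, ?_⟩
  letI := (f.appLE V.1 U.1 e).hom.toAlgebra
  exact hsyn.2.1

/-- The stalk at a point of an affine open is the localization of the sections. -/
theorem nonempty_stalk_ringEquiv {U : X.Opens} (hU : IsAffineOpen U) (x : X) (hx : x ∈ U) :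
    Nonempty (Localization.AtPrime (hU.primeIdealOf ⟨x, hx⟩).asIdeal ≃+* X.presheaf.stalk x) := by
  letI : Algebra Γ(X, U) (X.presheaf.stalk x) := X.presheaf.algebra_section_stalk ⟨x, hx⟩
  have hloc : IsLocalization.AtPrime (X.presheaf.stalk x) (hU.primeIdealOf ⟨x, hx⟩).asIdeal :=
    hU.isLocalization_stalk ⟨x, hx⟩
  exact ⟨(IsLocalization.algEquiv (hU.primeIdealOf ⟨x, hx⟩).asIdeal.primeCompl
    (Localization.AtPrime (hU.primeIdealOf ⟨x, hx⟩).asIdeal)
    (X.presheaf.stalk x)).toRingEquiv⟩

theorem fromSpec_mem {U : X.Opens} (hU : IsAffineOpen U) (y : PrimeSpectrum Γ(X, U)) :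
    hU.fromSpec y ∈ U := by
  rw [← SetLike.mem_coe, ← hU.range_fromSpec]
  exact ⟨y, rfl⟩

/-- Every localization of the sections over an affine open at a prime is a stalk. -/
theorem nonempty_stalk_ringEquiv' {U : X.Opens} (hU : IsAffineOpen U)
    (y : PrimeSpectrum Γ(X, U)) :
    Nonempty (Localization.AtPrime y.asIdeal ≃+* X.presheaf.stalk (hU.fromSpec y)) := by
  have hy := fromSpec_mem hU y
  letI : Algebra Γ(X, U) (X.presheaf.stalk (hU.fromSpec y)) :=
    X.presheaf.algebra_section_stalk ⟨hU.fromSpec y, hy⟩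
  have hloc : IsLocalization.AtPrime (X.presheaf.stalk (hU.fromSpec y)) y.asIdeal :=
    hU.isLocalization_stalk' y hy
  exact ⟨(IsLocalization.algEquiv y.asIdeal.primeCompl (Localization.AtPrime y.asIdeal)
    (X.presheaf.stalk (hU.fromSpec y))).toRingEquiv⟩

section Sk

variable (k : ℕ)

/-- Affine sections of a locally Noetherian scheme with `(S_k)` stalks satisfy `(S_k)`. -/
theorem hasSk_sections [IsLocallyNoetherian S]
    (hS : ∀ s : S, LocCoh.HasSk k (S.presheaf.stalk s) (S.presheaf.stalk s))
    {V : S.Opens} (hV : IsAffineOpen V) : LocCoh.HasSk k Γ(S, V) Γ(S, V) := by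
  haveI : IsNoetherianRing Γ(S, V) := IsLocallyNoetherian.component_noetherian ⟨V, hV⟩
  rw [hasSk_self_iff]
  intro p hp
  obtain ⟨e⟩ := nonempty_stalk_ringEquiv' hV ⟨p, hp⟩
  haveI : IsNoetherianRing (S.presheaf.stalk (hV.fromSpec ⟨p, hp⟩)) :=
    isNoetherianRing_of_ringEquiv _ e
  have h1 : LocCoh.HasSk k (Localization.AtPrime p) (Localization.AtPrime p) :=
    TensorSk.hasSk_self_of_ringEquiv e.symm k (hS _)
  exact (hasSk_localization_atPrime_iff k p).mp h1 p le_rfl

/-- Stalks of a scheme at points of an affine open whose sections are Noetherian and `(S_k)`. -/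
theorem hasSk_stalk_of_sections {U : X.Opens} (hU : IsAffineOpen U) [IsNoetherianRing Γ(X, U)]
    (hB : LocCoh.HasSk k Γ(X, U) Γ(X, U)) (x : X) (hx : x ∈ U) :
    LocCoh.HasSk k (X.presheaf.stalk x) (X.presheaf.stalk x) := by
  obtain ⟨e⟩ := nonempty_stalk_ringEquiv hU x hx
  haveI : IsNoetherianRing (X.presheaf.stalk x) := isNoetherianRing_of_ringEquiv _ e
  exact TensorSk.hasSk_self_of_ringEquiv e k (hasSk_localization_atPrime _ hB)

/-- `(S_k)` stalks ascend along syntomic morphisms to a locally Noetherian base. -/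
theorem hasSk_stalk_of_isSyntomicMor (h : Synt.IsSyntomicMor f) [IsLocallyNoetherian S]
    (hS : ∀ s : S, LocCoh.HasSk k (S.presheaf.stalk s) (S.presheaf.stalk s)) (x : X) :
    LocCoh.HasSk k (X.presheaf.stalk x) (X.presheaf.stalk x) := by
  obtain ⟨U, V, e, hx, hsyn⟩ := h x
  letI := (f.appLE V.1 U.1 e).hom.toAlgebra
  haveI : IsNoetherianRing Γ(S, V.1) := IsLocallyNoetherian.component_noetherian V
  have hA := hasSk_sections k hS V.2
  haveI : IsNoetherianRing Γ(X, U.1) := isNoetherianRing_of_isSyntomic hsyn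
  exact hasSk_stalk_of_sections k U.2 (hasSk_of_isSyntomic hsyn k hA) x hx

/-- `(S_k)` (and Noetherianity) of stalks descends along flat morphisms. -/
theorem hasSk_stalk_of_flat [Flat f] (x : X) [IsNoetherianRing (X.presheaf.stalk x)]
    (hX : LocCoh.HasSk k (X.presheaf.stalk x) (X.presheaf.stalk x)) :
    LocCoh.HasSk k (S.presheaf.stalk (f x)) (S.presheaf.stalk (f x)) := by
  have hfl : (f.stalkMap x).hom.Flat := Flat.stalkMap f x
  have hloc : IsLocalHom (f.stalkMap x).hom := inferInstance
  algebraize [(f.stalkMap x).hom]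
  haveI : IsLocalHom (algebraMap (S.presheaf.stalk (f x)) (X.presheaf.stalk x)) := hloc
  haveI : Module.FaithfullyFlat (S.presheaf.stalk (f x)) (X.presheaf.stalk x) :=
    Module.FaithfullyFlat.of_flat_of_isLocalHom
  exact (Groth.Agent.S9437.result k (S.presheaf.stalk (f x)) (X.presheaf.stalk x) hX).2

end Sk

section CM

/-- Affine sections of a locally Noetherian scheme with Cohen–Macaulay stalks form a
Cohen–Macaulay ring. -/
theorem isCohenMacaulayRing_sections [IsLocallyNoetherian S]
    (hS : ∀ s : S, LocCoh.IsCohenMacaulayLocalRing (S.presheaf.stalk s))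
    {V : S.Opens} (hV : IsAffineOpen V) : LocCoh.IsCohenMacaulayRing Γ(S, V) := by
  haveI : IsNoetherianRing Γ(S, V) := IsLocallyNoetherian.component_noetherian ⟨V, hV⟩
  refine { isCohenMacaulayLocalRing_localization := ?_ }
  intro p hp
  obtain ⟨e⟩ := nonempty_stalk_ringEquiv' hV ⟨p, hp⟩
  haveI := hS (hV.fromSpec ⟨p, hp⟩)
  exact isCohenMacaulayLocalRing_of_ringEquiv e.symm

theorem isCohenMacaulayLocalRing_stalk_of_sections {U : X.Opens} (hU : IsAffineOpen U)
    [hB : LocCoh.IsCohenMacaulayRing Γ(X, U)] (x : X) (hx : x ∈ U) :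
    LocCoh.IsCohenMacaulayLocalRing (X.presheaf.stalk x) := by
  obtain ⟨e⟩ := nonempty_stalk_ringEquiv hU x hx
  haveI := hB.isCohenMacaulayLocalRing_localization (hU.primeIdealOf ⟨x, hx⟩).asIdeal
  exact isCohenMacaulayLocalRing_of_ringEquiv e

/-- Cohen–Macaulay stalks ascend along syntomic morphisms to a locally Noetherian base. -/
theorem isCohenMacaulayLocalRing_stalk_of_isSyntomicMor (h : Synt.IsSyntomicMor f)
    [IsLocallyNoetherian S]
    (hS : ∀ s : S, LocCoh.IsCohenMacaulayLocalRing (S.presheaf.stalk s)) (x : X) :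
    LocCoh.IsCohenMacaulayLocalRing (X.presheaf.stalk x) := by
  obtain ⟨U, V, e, hx, hsyn⟩ := h x
  letI := (f.appLE V.1 U.1 e).hom.toAlgebra
  haveI := isCohenMacaulayRing_sections hS V.2
  haveI : LocCoh.IsCohenMacaulayRing Γ(X, U.1) := isCohenMacaulayRing_of_isSyntomic hsyn
  exact isCohenMacaulayLocalRing_stalk_of_sections U.2 x hx

/-- Cohen–Macaulayness of stalks descends along flat morphisms of locally Noetherian schemes. -/
theorem isCohenMacaulayLocalRing_stalk_of_flat [Flat f] (x : X)
    [IsNoetherianRing (S.presheaf.stalk (f x))]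
    [hX : LocCoh.IsCohenMacaulayLocalRing (X.presheaf.stalk x)] :
    LocCoh.IsCohenMacaulayLocalRing (S.presheaf.stalk (f x)) := by
  have hfl : (f.stalkMap x).hom.Flat := Flat.stalkMap f x
  have hloc : IsLocalHom (f.stalkMap x).hom := inferInstance
  algebraize [(f.stalkMap x).hom]
  haveI : IsLocalHom (algebraMap (S.presheaf.stalk (f x)) (X.presheaf.stalk x)) := hloc
  haveI : IsNoetherianRing (X.presheaf.stalk x) := hX.toIsNoetherian
  set I : Ideal (X.presheaf.stalk x) := (IsLocalRing.maximalIdeal (S.presheaf.stalk (f x))).map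
    (algebraMap (S.presheaf.stalk (f x)) (X.presheaf.stalk x)) with hI
  have hIne : I ≠ ⊤ := by
    intro htop
    have hle : I ≤ IsLocalRing.maximalIdeal (X.presheaf.stalk x) :=
      ((IsLocalRing.local_hom_TFAE (algebraMap (S.presheaf.stalk (f x))
        (X.presheaf.stalk x))).out 0 2).mp hloc
    rw [htop] at hle
    exact (IsLocalRing.maximalIdeal.isMaximal (X.presheaf.stalk x)).ne_top (top_le_iff.mp hle)
  haveI : Nontrivial (X.presheaf.stalk x ⧸ I) := Ideal.Quotient.nontrivial_iff.mpr hIne
  haveI : IsLocalRing (X.presheaf.stalk x ⧸ I) :=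
    IsLocalRing.of_surjective' (Ideal.Quotient.mk I) Ideal.Quotient.mk_surjective
  exact ((FiberRing.cm_main (S.presheaf.stalk (f x)) (X.presheaf.stalk x)
    (X.presheaf.stalk x ⧸ I) (Ideal.Quotient.mk I) Ideal.Quotient.mk_surjective
    Ideal.mk_ker).mp hX).1

end CM

section Family

variable {ι : Type u} {S : Scheme.{u}} {X : ι → Scheme.{u}} (f : ∀ i, X i ⟶ S)

/-- Local Noetherianity descends along jointly surjective families of syntomic morphisms. -/
theorem isLocallyNoetherian_of_family (hsurj : ∀ s : S, ∃ i, s ∈ Set.range (f i).base)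
    (hsyn : ∀ i, Synt.IsSyntomicMor (f i)) (hX : ∀ i, IsLocallyNoetherian (X i)) :
    IsLocallyNoetherian S := by
  haveI : ∀ i, Flat (f i) := fun i => flat_of_isSyntomicMor _ (hsyn i)
  haveI : ∀ i, LocallyOfFinitePresentation (f i) := fun i => lfp_of_isSyntomicMor _ (hsyn i)
  haveI : Flat (Sigma.desc f) := IsZariskiLocalAtSource.sigmaDesc (fun i => inferInstance)
  haveI : LocallyOfFinitePresentation (Sigma.desc f) :=
    IsZariskiLocalAtSource.sigmaDesc (fun i => inferInstance)
  haveI : Surjective (Sigma.desc f) := by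
    refine Surjective.sigmaDesc_of_union_range_eq_univ ?_
    rw [Set.eq_univ_iff_forall]
    intro s
    obtain ⟨i, hi⟩ := hsurj s
    exact Set.mem_iUnion.mpr ⟨i, hi⟩
  haveI : IsLocallyNoetherian (∐ X) := by
    rw [isLocallyNoetherian_iff_openCover (sigmaOpenCover _)]
    intro i
    simp only [sigmaOpenCover_X]
    exact hX i
  exact Groth.Agent.Lib.Helper12.NoethDescent.isLocallyNoetherian_of_flat_lfp_surjective
    (Sigma.desc f)

theorem isLocallyNoetherian_of_isSyntomicMor {X S : Scheme.{u}} (f : X ⟶ S)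
    (h : Synt.IsSyntomicMor f) [IsLocallyNoetherian S] : IsLocallyNoetherian X := by
  haveI := lfp_of_isSyntomicMor f h
  exact LocallyOfFiniteType.isLocallyNoetherian f

/-- "Locally Noetherian with `(S_k)` local rings" is local in the syntomic topology. -/
theorem hasSk_iff_of_family (hsurj : ∀ s : S, ∃ i, s ∈ Set.range (f i).base)
    (hsyn : ∀ i, Synt.IsSyntomicMor (f i)) (k : ℕ) :
    (IsLocallyNoetherian S ∧
        ∀ s : S, LocCoh.HasSk k (S.presheaf.stalk s) (S.presheaf.stalk s)) ↔
      ∀ i, IsLocallyNoetherian (X i) ∧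
        ∀ x : X i, LocCoh.HasSk k ((X i).presheaf.stalk x) ((X i).presheaf.stalk x) := by
  constructor
  · rintro ⟨hN, hS⟩ i
    exact ⟨isLocallyNoetherian_of_isSyntomicMor _ (hsyn i),
      fun x => hasSk_stalk_of_isSyntomicMor (f i) k (hsyn i) hS x⟩
  · intro h
    refine ⟨isLocallyNoetherian_of_family f hsurj hsyn (fun i => (h i).1), fun s => ?_⟩
    obtain ⟨i, x, rfl⟩ := hsurj s
    haveI := (h i).1
    haveI : Flat (f i) := flat_of_isSyntomicMor _ (hsyn i)
    exact hasSk_stalk_of_flat (f i) k x ((h i).2 x)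

/-- "Locally Noetherian with Cohen–Macaulay local rings" is local in the syntomic topology. -/
theorem isCohenMacaulay_iff_of_family (hsurj : ∀ s : S, ∃ i, s ∈ Set.range (f i).base)
    (hsyn : ∀ i, Synt.IsSyntomicMor (f i)) :
    (IsLocallyNoetherian S ∧
        ∀ s : S, LocCoh.IsCohenMacaulayLocalRing (S.presheaf.stalk s)) ↔
      ∀ i, IsLocallyNoetherian (X i) ∧
        ∀ x : X i, LocCoh.IsCohenMacaulayLocalRing ((X i).presheaf.stalk x) := by
  constructor
  · rintro ⟨hN, hS⟩ i
    exact ⟨isLocallyNoetherian_of_isSyntomicMor _ (hsyn i),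
      fun x => isCohenMacaulayLocalRing_stalk_of_isSyntomicMor (f i) (hsyn i) hS x⟩
  · intro h
    haveI hN := isLocallyNoetherian_of_family f hsurj hsyn (fun i => (h i).1)
    refine ⟨hN, fun s => ?_⟩
    obtain ⟨i, x, rfl⟩ := hsurj s
    haveI := (h i).1
    haveI : Flat (f i) := flat_of_isSyntomicMor _ (hsyn i)
    haveI := (h i).2 x
    exact isCohenMacaulayLocalRing_stalk_of_flat (f i) x

end Family

end Scheme

end Groth.Agent.Lib.Seat42.SyntCM
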