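import Mathlib
import Groth.Prelude.Def_RegImm
import Groth.Agent.Lib.Seat42CIScheme
import Groth.Agent.Lib.Seat40CartierChart

/-!
# Syntomic morphisms via fibres (seat 42)

* `isLCIOver_sections_of_isSyntomicMor`: for a syntomic `p : Y ⟶ Spec k` locally of finite type, the
  coordinate ring of every affine open is a local complete intersection over `k`.
* `exists_fibre_chart`: affine chart of a fibre, as a semilinear isomorphism with the fibre ring.
* `isSyntomic_appLE_of_fibres`: flat + locally of finite presentation + syntomic fibres gives syntomic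
  ring maps on affine charts.
-/

set_option autoImplicit false
set_option linter.style.haveILetI false
universe u
open AlgebraicGeometry CategoryTheory CategoryTheory.Limits Opposite TensorProduct

namespace Groth.Agent.Lib.Seat42.SyntFibre

open Groth.Agent.Lib.Seat42.CISpread Groth.Agent.Lib.Seat42.CITransport
  Groth.Agent.Lib.Seat42.CIScheme Groth.Agent.Lib.Seat40

section Field

variable (k : Type u) [Field k] {Y : Scheme.{u}} (p : Y ⟶ Spec (CommRingCat.of k))

/-- For a syntomic `p : Y ⟶ Spec k` locally of finite type, the coordinate ring of every affine open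
is a local complete intersection over `k`. -/
theorem isLCIOver_sections_of_isSyntomicMor [LocallyOfFiniteType p] (h : Synt.IsSyntomicMor p)
    {W : Y.Opens} (hW : IsAffineOpen W) :
    letI := algΓ k p W
    Synt.IsLCIOver k Γ(Y, W) := by
  letI := algΓ k p W
  haveI hft : Algebra.FiniteType k Γ(Y, W) := finiteType_sections k p hW
  refine ⟨hft, fun 𝔮 => ?_⟩
  obtain ⟨y, hy, rfl⟩ := CartierChart.exists_point_of_prime ⟨W, hW⟩ 𝔮
  obtain ⟨U', hyU', hG⟩ := exists_affine_isGlobalCI_of_isSyntomicAt k p y (h y)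
  have h1 := isCIOver_stalk_of_isGlobalCI k p U'.2 y hyU' hG
  letI := algStalk k p y
  obtain ⟨e⟩ := nonempty_stalk_equiv k p hW y hy
  have h2 := isCIOver_of_algEquiv k _ _ e.symm h1
  exact exists_isGlobalCI_away_of_isCIOver_atPrime k Γ(Y, W) _ h2

end Field

section Chart

variable {X S : Scheme.{u}}

/-- **Fibre chart, semilinear form.** For affine opens `U ⊆ φ⁻¹ V` and `x ∈ U`, with `𝔭` the prime of
`Γ(S, V)` below the prime of `x`: an affine open `U_s` of the fibre over `s = φ x` whose sections are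
isomorphic to the fibre ring `κ(𝔭) ⊗ Γ(X, U)`, compatibly with an isomorphism `κ(s) ≃ κ(𝔭)`. -/
theorem exists_fibre_chart (φ : X ⟶ S) (U : X.affineOpens) (V : S.Opens) (hV : IsAffineOpen V)
    (e : U.1 ≤ φ ⁻¹ᵁ V) (x : X) (hx : x ∈ U.1) :
    letI : Algebra Γ(S, V) Γ(X, U.1) := (φ.appLE V U.1 e).hom.toAlgebra
    ∃ (Us : (pullback φ (S.fromSpecResidueField (φ x))).Opens) (_ : IsAffineOpen Us)
      (σ : S.residueField (φ x) ≃+* ((U.2.primeIdealOf ⟨x, hx⟩).asIdeal.comap
        (algebraMap Γ(S, V) Γ(X, U.1))).ResidueField)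
      (ε : Γ(pullback φ (S.fromSpecResidueField (φ x)), Us) ≃+*
        ((U.2.primeIdealOf ⟨x, hx⟩).asIdeal.comap
          (algebraMap Γ(S, V) Γ(X, U.1))).ResidueField ⊗[Γ(S, V)] Γ(X, U.1)),
      ∀ c : S.residueField (φ x),
        ε (((Scheme.ΓSpecIso (S.residueField (φ x))).inv ≫
          (pullback.snd φ (S.fromSpecResidueField (φ x))).appLE ⊤ Us le_top).hom c) =
        algebraMap _ _ (σ c) := by
  letI : Algebra Γ(S, V) Γ(X, U.1) := (φ.appLE V U.1 e).hom.toAlgebra
  set s := φ x with hs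
  set g := S.fromSpecResidueField s with hg
  have hsV : s ∈ V := e hx
  have hV' : (⊤ : (Spec (S.residueField s)).Opens) ≤ g ⁻¹ᵁ V := by
    intro y _
    show g y ∈ V
    rw [hg, Scheme.fromSpecResidueField_apply]
    exact hsV
  have hpb := RelRegGeom.isPullback_resLE_inf φ g U.1 V ⊤ e hV'
  haveI : IsAffine U.1 := U.2
  haveI : IsAffine V := hV
  haveI : IsAffine (⊤ : (Spec (S.residueField s)).Opens) := isAffineOpen_top _
  have hUs : IsAffineOpen (pullback.fst φ g ⁻¹ᵁ U.1 ⊓ pullback.snd φ g ⁻¹ᵁ ⊤) :=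
    IsAffine.of_isPullback hpb
  have hpush := RelRegGeom.isPushout_appLE φ g U.1 V ⊤ e hV' U.2 hV (isAffineOpen_top _)
  letI : Algebra Γ(S, V) (S.residueField s) := (S.evaluation V s hsV).hom.toAlgebra
  obtain ⟨eκ⟩ := FibreChart.nonempty_residueField_algEquiv φ U.1 U.2 V hV e x hx
  have hpush' : IsPushout (φ.appLE V U.1 e) (S.evaluation V s hsV)
      ((pullback.fst φ g).appLE U.1 (pullback.fst φ g ⁻¹ᵁ U.1 ⊓ pullback.snd φ g ⁻¹ᵁ ⊤) inf_le_left)
      ((Scheme.ΓSpecIso (S.residueField s)).inv ≫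
        (pullback.snd φ g).appLE ⊤ (pullback.fst φ g ⁻¹ᵁ U.1 ⊓ pullback.snd φ g ⁻¹ᵁ ⊤)
          inf_le_right) := by
    refine IsPushout.of_iso hpush (Iso.refl _) (Iso.refl _) (Scheme.ΓSpecIso (S.residueField s))
      (Iso.refl _) ?_ ?_ ?_ ?_
    · simp
    · simp only [Iso.refl_hom, Category.id_comp]
      exact FibreChart.fromSpecResidueField_appLE s V hsV hV'
    · simp only [Iso.refl_hom, Category.comp_id]
      rfl
    · simp only [Iso.refl_hom, Category.comp_id, Iso.hom_inv_id_assoc]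
  have H' : IsPushout (CommRingCat.ofHom (algebraMap Γ(S, V) Γ(X, U.1)))
      (CommRingCat.ofHom (algebraMap Γ(S, V) (S.residueField s)))
      ((pullback.fst φ g).appLE U.1 (pullback.fst φ g ⁻¹ᵁ U.1 ⊓ pullback.snd φ g ⁻¹ᵁ ⊤) inf_le_left)
      ((Scheme.ΓSpecIso (S.residueField s)).inv ≫
        (pullback.snd φ g).appLE ⊤ (pullback.fst φ g ⁻¹ᵁ U.1 ⊓ pullback.snd φ g ⁻¹ᵁ ⊤)
          inf_le_right) := hpush'
  let ε₁ : Γ(X, U.1) ⊗[Γ(S, V)] (S.residueField s) ≃+*
      Γ(pullback φ g, pullback.fst φ g ⁻¹ᵁ U.1 ⊓ pullback.snd φ g ⁻¹ᵁ ⊤) :=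
    ((CommRingCat.isPushout_tensorProduct Γ(S, V) Γ(X, U.1)
      (S.residueField s)).isoIsPushout _ _ H').commRingCatIsoToRingEquiv
  have hε₁ : ∀ c : S.residueField s, ε₁ ((1 : Γ(X, U.1)) ⊗ₜ[Γ(S, V)] c) =
      ((Scheme.ΓSpecIso (S.residueField s)).inv ≫
        (pullback.snd φ g).appLE ⊤ (pullback.fst φ g ⁻¹ᵁ U.1 ⊓ pullback.snd φ g ⁻¹ᵁ ⊤)
          inf_le_right).hom c := by
    intro c
    have := (CommRingCat.isPushout_tensorProduct Γ(S, V) Γ(X, U.1)
      (S.residueField s)).inr_isoIsPushout_hom _ _ H'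
    exact congrArg (fun m => m.hom c) this
  let ε₂ : Γ(X, U.1) ⊗[Γ(S, V)] (S.residueField s) ≃ₐ[Γ(S, V)]
      ((U.2.primeIdealOf ⟨x, hx⟩).asIdeal.comap
        (algebraMap Γ(S, V) Γ(X, U.1))).ResidueField ⊗[Γ(S, V)] Γ(X, U.1) :=
    (Algebra.TensorProduct.congr (AlgEquiv.refl (R := Γ(S, V)) (A₁ := Γ(X, U.1))) eκ.symm).trans
      (Algebra.TensorProduct.comm Γ(S, V) Γ(X, U.1) _)
  refine ⟨_, hUs, eκ.symm.toRingEquiv, ε₁.symm.trans ε₂.toRingEquiv, fun c => ?_⟩
  show ε₂ (ε₁.symm _) = _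
  rw [← hε₁ c, RingEquiv.symm_apply_apply]
  simp [ε₂, Algebra.TensorProduct.algebraMap_apply]

end Chart

section Main

theorem isLCIOver_of_subsingleton (k S : Type u) [Field k] [CommRing S] [Algebra k S]
    [Subsingleton S] : Synt.IsLCIOver k S := by
  refine ⟨Algebra.FiniteType.of_surjective (Algebra.ofId k S)
    (fun y => ⟨0, Subsingleton.elim _ _⟩), fun p => ?_⟩
  exact absurd (Subsingleton.elim _ _ : p.asIdeal = ⊤) p.2.ne_top

variable {X S : Scheme.{u}}

/-- Flat + locally of finite presentation + syntomic fibres gives syntomic ring maps on all affine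
charts. -/
theorem isSyntomic_appLE_of_fibres (f : X ⟶ S) [Flat f] [LocallyOfFinitePresentation f]
    (hfib : ∀ s : S, Synt.IsSyntomicMor (f.fiberToSpecResidueField s))
    (U : X.affineOpens) (V : S.Opens) (hV : IsAffineOpen V) (e : U.1 ≤ f ⁻¹ᵁ V) :
    letI := (f.appLE V U.1 e).hom.toAlgebra
    Synt.IsSyntomic Γ(S, V) Γ(X, U.1) := by
  letI := (f.appLE V U.1 e).hom.toAlgebra
  refine ⟨?_, ?_, fun 𝔭 => ?_⟩
  · exact HasRingHomProperty.appLE @Flat f inferInstance ⟨V, hV⟩ U e
  · exact f.finitePresentation_appLE hV U.2 e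
  · by_cases hnt : Nontrivial (𝔭.asIdeal.Fiber Γ(X, U.1))
    · obtain ⟨𝔮, rfl⟩ := (PrimeSpectrum.nontrivial_iff_mem_rangeComap 𝔭).mp hnt
      obtain ⟨x, hx, rfl⟩ := CartierChart.exists_point_of_prime U 𝔮
      obtain ⟨Us, hUs, σ, ε, hε⟩ := exists_fibre_chart f U V hV e x hx
      have h1 : LocallyOfFinitePresentation (pullback.snd f (S.fromSpecResidueField (f x))) :=
        inferInstance
      have h2 : LocallyOfFiniteType (pullback.snd f (S.fromSpecResidueField (f x))) :=
        inferInstance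
      haveI : LocallyOfFiniteType (f.fiberToSpecResidueField (f x)) := h2
      have hL := isLCIOver_sections_of_isSyntomicMor (S.residueField (f x))
        (f.fiberToSpecResidueField (f x)) (hfib (f x)) hUs
      letI : Algebra (S.residueField (f x)) Γ(pullback f (S.fromSpecResidueField (f x)), Us) :=
        algΓ (S.residueField (f x)) (f.fiberToSpecResidueField (f x)) Us
      exact isLCIOver_of_ringEquiv σ ε hε hL
    · rw [not_nontrivial_iff_subsingleton] at hnt
      exact isLCIOver_of_subsingleton _ _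

end Main

end Groth.Agent.Lib.Seat42.SyntFibre
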