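import Mathlib

/-!
# The algebra behind the separating lemma (seat 43, Mathlib only)

Let `B`, `C` be `R`-algebras, `I` an ideal of `B ⊗[R] C` and `𝔭` a prime of `C` such that no prime
of `B ⊗[R] C` containing `I` lies over `𝔭`.  Then there are a polynomial ring
`C' = R[x₀, …, x_m]`, an `R`-algebra map `φ : C' → C` and an element `a ∈ B ⊗[R] C'` mapping into
`I` such that no prime of `B ⊗[R] C'` containing `a` lies over `φ⁻¹ 𝔭`.
-/

set_option autoImplicit false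
universe u
open TensorProduct Algebra.TensorProduct

namespace Groth.Agent.Lib.Seat43.SepAlg

variable {R B C : Type u} [CommRing R] [CommRing B] [CommRing C] [Algebra R B] [Algebra R C]

/-- elements of the extended ideal `𝔭 (B ⊗ C)` are sums of pure tensors `b ⊗ p`, `p ∈ 𝔭`. -/
theorem exists_sum_of_mem_map_includeRight (𝔭 : Ideal C) (d : B ⊗[R] C)
    (hd : d ∈ 𝔭.map (includeRight : C →ₐ[R] B ⊗[R] C)) :
    ∃ (m : ℕ) (b : Fin m → B) (p : Fin m → C), (∀ i, p i ∈ 𝔭) ∧ d = ∑ i, b i ⊗ₜ[R] p i := by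
  have h1 : d ∈ (𝔭.map (includeRight : C →ₐ[R] B ⊗[R] C)).restrictScalars R := hd
  rw [Ideal.map_includeRight_eq] at h1
  obtain ⟨y, rfl⟩ := h1
  clear hd
  induction y with
  | zero => exact ⟨0, Fin.elim0, Fin.elim0, fun i => i.elim0, by simp⟩
  | tmul b p =>
    refine ⟨1, fun _ => b, fun _ => p.1, fun _ => p.2, ?_⟩
    simp
  | add x y hx hy =>
    obtain ⟨m₁, b₁, p₁, hp₁, h₁⟩ := hx
    obtain ⟨m₂, b₂, p₂, hp₂, h₂⟩ := hy
    refine ⟨m₁ + m₂, Fin.append b₁ b₂, Fin.append p₁ p₂, ?_, ?_⟩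
    · intro i
      refine Fin.addCases (fun j => ?_) (fun j => ?_) i
      · rw [Fin.append_left]; exact hp₁ j
      · rw [Fin.append_right]; exact hp₂ j
    · rw [map_add, h₁, h₂, Fin.sum_univ_add]
      simp only [Fin.append_left, Fin.append_right]

theorem exists_poly_separation (I : Ideal (B ⊗[R] C)) (𝔭 : Ideal C) [𝔭.IsPrime]
    (h : ∀ 𝔮 : Ideal (B ⊗[R] C), 𝔮.IsPrime → I ≤ 𝔮 →
      𝔮.comap (includeRight : C →ₐ[R] B ⊗[R] C) ≠ 𝔭) :
    ∃ (k : ℕ) (φ : MvPolynomial (ULift.{u} (Fin k)) R →ₐ[R] C)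
      (a : B ⊗[R] MvPolynomial (ULift.{u} (Fin k)) R),
      Algebra.TensorProduct.map (AlgHom.id R B) φ a ∈ I ∧
      ∀ 𝔮' : Ideal (B ⊗[R] MvPolynomial (ULift.{u} (Fin k)) R), 𝔮'.IsPrime → a ∈ 𝔮' →
        𝔮'.comap (includeRight : MvPolynomial (ULift.{u} (Fin k)) R →ₐ[R] _) ≠ 𝔭.comap φ := by
  classical
  -- step 1: some `1 ⊗ s`, `s ∉ 𝔭`, lies in `I + 𝔭 (B ⊗ C)`
  obtain ⟨s, hs, hsI⟩ : ∃ s : C, s ∉ 𝔭 ∧
      (1 : B) ⊗ₜ[R] s ∈ I ⊔ 𝔭.map (includeRight : C →ₐ[R] B ⊗[R] C) := by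
    by_contra hcon
    replace hcon : ∀ s : C, s ∉ 𝔭 →
        (1 : B) ⊗ₜ[R] s ∉ I ⊔ 𝔭.map (includeRight : C →ₐ[R] B ⊗[R] C) :=
      fun s hs hmem => hcon ⟨s, hs, hmem⟩
    set M : Submonoid (B ⊗[R] C) :=
      Submonoid.map (includeRight : C →ₐ[R] B ⊗[R] C) 𝔭.primeCompl with hM
    have hdisj : Disjoint ((I ⊔ 𝔭.map (includeRight : C →ₐ[R] B ⊗[R] C) : Ideal _) : Set (B ⊗[R] C))
        (M : Set (B ⊗[R] C)) := by
      rw [Set.disjoint_left]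
      rintro x hx ⟨s, hs, rfl⟩
      exact hcon s hs hx
    obtain ⟨𝔮, h𝔮, hle, hd𝔮⟩ := Ideal.exists_le_prime_disjoint _ M hdisj
    refine h 𝔮 h𝔮 (le_sup_left.trans hle) (le_antisymm ?_ ?_)
    · intro c hc
      by_contra hcp
      exact Set.disjoint_left.mp hd𝔮 hc ⟨c, hcp, rfl⟩
    · intro c hc
      exact hle (Ideal.mem_sup_right (Ideal.mem_map_of_mem _ hc))
  obtain ⟨a₀, ha₀, d, hd, hsum⟩ := Submodule.mem_sup.mp hsI
  obtain ⟨m, b, p, hp, rfl⟩ := exists_sum_of_mem_map_includeRight 𝔭 d hd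
  -- step 2: the polynomial ring
  let val : ULift.{u} (Fin (m + 1)) → C := fun i => Fin.cons (α := fun _ => C) s p i.down
  let φ : MvPolynomial (ULift.{u} (Fin (m + 1))) R →ₐ[R] C := MvPolynomial.aeval val
  let a : B ⊗[R] MvPolynomial (ULift.{u} (Fin (m + 1))) R :=
    (1 : B) ⊗ₜ[R] MvPolynomial.X ⟨0⟩ - ∑ i : Fin m, b i ⊗ₜ[R] MvPolynomial.X ⟨i.succ⟩
  have hφ0 : φ (MvPolynomial.X ⟨0⟩) = s := by
    simp [φ, val]
  have hφs : ∀ i : Fin m, φ (MvPolynomial.X ⟨i.succ⟩) = p i := by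
    intro i
    simp [φ, val]
  refine ⟨m + 1, φ, a, ?_, ?_⟩
  · have : Algebra.TensorProduct.map (AlgHom.id R B) φ a = a₀ := by
      simp only [a, map_sub, map_sum, Algebra.TensorProduct.map_tmul, AlgHom.coe_id, id_eq, hφ0,
        hφs]
      rw [← hsum]
      ring
    rw [this]
    exact ha₀
  · intro 𝔮' h𝔮' ha' hcomap
    have hX : ∀ i : Fin m, (b i ⊗ₜ[R] MvPolynomial.X ⟨i.succ⟩ :
        B ⊗[R] MvPolynomial (ULift.{u} (Fin (m + 1))) R) ∈ 𝔮' := by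
      intro i
      have h1 : (MvPolynomial.X ⟨i.succ⟩ : MvPolynomial (ULift.{u} (Fin (m + 1))) R) ∈
          𝔮'.comap (includeRight : MvPolynomial (ULift.{u} (Fin (m + 1))) R →ₐ[R] _) := by
        rw [hcomap, Ideal.mem_comap, hφs]
        exact hp i
      have h2 : (b i ⊗ₜ[R] MvPolynomial.X ⟨i.succ⟩ :
          B ⊗[R] MvPolynomial (ULift.{u} (Fin (m + 1))) R) =
          (b i ⊗ₜ[R] 1) * ((1 : B) ⊗ₜ[R] MvPolynomial.X ⟨i.succ⟩) := by
        simp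
      rw [h2]
      exact Ideal.mul_mem_left _ _ h1
    have h0 : ((1 : B) ⊗ₜ[R] MvPolynomial.X ⟨0⟩ :
        B ⊗[R] MvPolynomial (ULift.{u} (Fin (m + 1))) R) ∈ 𝔮' := by
      have : ((1 : B) ⊗ₜ[R] MvPolynomial.X ⟨0⟩ :
          B ⊗[R] MvPolynomial (ULift.{u} (Fin (m + 1))) R) =
          a + ∑ i : Fin m, b i ⊗ₜ[R] MvPolynomial.X ⟨i.succ⟩ := by
        simp only [a]; ring
      rw [this]
      exact 𝔮'.add_mem ha' (𝔮'.sum_mem fun i _ => hX i)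
    have h3 : (MvPolynomial.X ⟨0⟩ : MvPolynomial (ULift.{u} (Fin (m + 1))) R) ∈ 𝔭.comap φ := by
      rw [← hcomap]
      exact h0
    rw [Ideal.mem_comap, hφ0] at h3
    exact hs h3

end Groth.Agent.Lib.Seat43.SepAlg
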