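import Mathlib
import Groth.Prelude.Def_AlgSp
import Groth.Prelude.Def_AlgSpCov
import Groth.Agent.Lib.Seat43SepAlg
import Groth.Agent.S10175
import Groth.Agent.S10176
import Groth.Agent.S10177

/-!
# The separating lemma over an affine base, in ring form (seat 43)

Let `Y₀ = Spec R` (over `S`), `f₀ : X₀ ⟶ h_{Y₀}` a morphism of sheaves with an étale surjective
chart `π : h_{Spec B} ⟶ X₀` (`B` an `R`-algebra, compatibly), `V = Spec C ⟶ Y₀`, `PV = X₀ ×_{Y₀} V`,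
`T_V ⊂ |PV|` closed and `v ∈ V` not in the image of `T_V`.  Then (`core`) there are a polynomial
ring `C' = R[x₁, …, x_k]`, `φ : C' → C` and, for every fibre product `P' = X₀ ×_{Y₀} Spec C'`, a
closed `T' ⊂ |P'|` missing the fibre over the image of `v` and containing the image of `T_V`.
-/

set_option autoImplicit false
universe u
open CategoryTheory CategoryTheory.Limits AlgebraicGeometry Opposite TensorProduct

namespace Groth.Agent.Lib.Seat43.SepCore

variable {S : Scheme.{u}}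

section
variable {R : Type u} [CommRing R] (sR : Spec (CommRingCat.of R) ⟶ S)

/-- `Spec A` over `S` for an `R`-algebra `A`. -/
noncomputable abbrev ov (A : Type u) [CommRing A] [Algebra R A] : Over S :=
  Over.mk (Spec.map (CommRingCat.ofHom (algebraMap R A)) ≫ sR)

/-- the structure morphism `Spec A ⟶ Spec R` over `S`. -/
noncomputable abbrev toBase (A : Type u) [CommRing A] [Algebra R A] : ov sR A ⟶ Over.mk sR :=
  Over.homMk (Spec.map (CommRingCat.ofHom (algebraMap R A))) rfl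

/-- the morphism `Spec A' ⟶ Spec A` over `S` of an `R`-algebra map `A → A'`. -/
noncomputable def ovMap {A A' : Type u} [CommRing A] [Algebra R A] [CommRing A'] [Algebra R A']
    (ψ : A →ₐ[R] A') : ov sR A' ⟶ ov sR A :=
  Over.homMk (Spec.map (CommRingCat.ofHom ψ.toRingHom)) (by
    show Spec.map _ ≫ Spec.map _ ≫ sR = Spec.map _ ≫ sR
    rw [← Category.assoc, ← Spec.map_comp, ← CommRingCat.ofHom_comp]
    congr 3
    exact ψ.comp_algebraMap)

theorem ovMap_left {A A' : Type u} [CommRing A] [Algebra R A] [CommRing A'] [Algebra R A']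
    (ψ : A →ₐ[R] A') : (ovMap sR ψ).left = Spec.map (CommRingCat.ofHom ψ.toRingHom) := rfl

theorem ovMap_toBase {A A' : Type u} [CommRing A] [Algebra R A] [CommRing A'] [Algebra R A']
    (ψ : A →ₐ[R] A') : ovMap sR ψ ≫ toBase sR A = toBase sR A' := by
  apply Over.OverMorphism.ext
  show Spec.map _ ≫ Spec.map _ = Spec.map _
  rw [← Spec.map_comp, ← CommRingCat.ofHom_comp]
  congr 2
  exact ψ.comp_algebraMap

theorem ovMap_comp {A A' A'' : Type u} [CommRing A] [Algebra R A] [CommRing A'] [Algebra R A']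
    [CommRing A''] [Algebra R A''] (ψ : A →ₐ[R] A') (ψ' : A' →ₐ[R] A'') :
    ovMap sR (ψ'.comp ψ) = ovMap sR ψ' ≫ ovMap sR ψ := by
  apply Over.OverMorphism.ext
  show Spec.map _ = Spec.map _ ≫ Spec.map _
  rw [← Spec.map_comp, ← CommRingCat.ofHom_comp]
  rfl

theorem ovMap_left_asIdeal {A A' : Type u} [CommRing A] [Algebra R A] [CommRing A'] [Algebra R A']
    (ψ : A →ₐ[R] A') (x : ↥(Spec (CommRingCat.of A'))) :
    ((ovMap sR ψ).left x).asIdeal = x.asIdeal.comap ψ := rfl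

theorem isPullback_tensor (A₁ A₂ : Type u) [CommRing A₁] [Algebra R A₁] [CommRing A₂]
    [Algebra R A₂] :
    IsPullback ((AlgSp.yon S).map (ovMap sR (Algebra.TensorProduct.includeLeft :
        A₁ →ₐ[R] A₁ ⊗[R] A₂)))
      ((AlgSp.yon S).map (ovMap sR (Algebra.TensorProduct.includeRight : A₂ →ₐ[R] A₁ ⊗[R] A₂)))
      ((AlgSp.yon S).map (toBase sR A₁)) ((AlgSp.yon S).map (toBase sR A₂)) := by
  have h1 : IsPullback (ovMap sR (Algebra.TensorProduct.includeLeft : A₁ →ₐ[R] A₁ ⊗[R] A₂))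
      (ovMap sR (Algebra.TensorProduct.includeRight : A₂ →ₐ[R] A₁ ⊗[R] A₂))
      (toBase sR A₁) (toBase sR A₂) := by
    refine IsPullback.of_map (Over.forget S) ?_ ?_
    · rw [ovMap_toBase, ovMap_toBase]
    · exact isPullback_SpecMap_of_isPushout _ _ _ _ (CommRingCat.isPushout_tensorProduct R A₁ A₂)
  exact h1.map (AlgSp.yon S)

variable {X₀ : AlgSp.Sp S} (f₀ : X₀ ⟶ (AlgSp.yon S).obj (Over.mk sR))
  {B : Type u} [CommRing B] [Algebra R B] (π : (AlgSp.yon S).obj (ov sR B) ⟶ X₀)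
  (hπ : π ≫ f₀ = (AlgSp.yon S).map (toBase sR B))

include hπ in
/-- the base change of the chart `π` to a fibre product `X₀ ×_{Y₀} Spec C`. -/
theorem exists_chart (C : Type u) [CommRing C] [Algebra R C] {PV : AlgSp.Sp S} (r₁ : PV ⟶ X₀)
    (r₂ : PV ⟶ (AlgSp.yon S).obj (ov sR C))
    (h : IsPullback r₁ r₂ f₀ ((AlgSp.yon S).map (toBase sR C))) :
    ∃ πV : (AlgSp.yon S).obj (ov sR (B ⊗[R] C)) ⟶ PV,
      πV ≫ r₁ = (AlgSp.yon S).map (ovMap sR (Algebra.TensorProduct.includeLeft :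
        B →ₐ[R] B ⊗[R] C)) ≫ π ∧
      πV ≫ r₂ = (AlgSp.yon S).map (ovMap sR (Algebra.TensorProduct.includeRight :
        C →ₐ[R] B ⊗[R] C)) ∧
      IsPullback πV ((AlgSp.yon S).map (ovMap sR (Algebra.TensorProduct.includeLeft :
        B →ₐ[R] B ⊗[R] C))) r₁ π := by
  have ht := isPullback_tensor sR B C
  have hw : ((AlgSp.yon S).map (ovMap sR (Algebra.TensorProduct.includeLeft :
      B →ₐ[R] B ⊗[R] C)) ≫ π) ≫ f₀ =
      (AlgSp.yon S).map (ovMap sR (Algebra.TensorProduct.includeRight : C →ₐ[R] B ⊗[R] C)) ≫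
        (AlgSp.yon S).map (toBase sR C) := by
    rw [Category.assoc, hπ, ht.w]
  refine ⟨h.lift _ _ hw, h.lift_fst _ _ hw, h.lift_snd _ _ hw, ?_⟩
  refine IsPullback.of_right ?_ (h.lift_fst _ _ hw) h.flip
  rw [h.lift_snd _ _ hw, hπ]
  exact ht.flip

include hπ in
/-- the charts of two fibre products related by an `R`-algebra map `ψ : C' → C` form a pullback
square. -/
theorem isPullback_charts {C C' : Type u} [CommRing C] [Algebra R C] [CommRing C'] [Algebra R C']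
    (ψ : C' →ₐ[R] C) {PV P' : AlgSp.Sp S} {r₁ : PV ⟶ X₀}
    {r₂ : PV ⟶ (AlgSp.yon S).obj (ov sR C)}
    (hPV : IsPullback r₁ r₂ f₀ ((AlgSp.yon S).map (toBase sR C)))
    {q₁ : P' ⟶ X₀} {q₂ : P' ⟶ (AlgSp.yon S).obj (ov sR C')}
    (hP' : IsPullback q₁ q₂ f₀ ((AlgSp.yon S).map (toBase sR C')))
    (κ : PV ⟶ P') (hκ1 : κ ≫ q₁ = r₁) (hκ2 : κ ≫ q₂ = r₂ ≫ (AlgSp.yon S).map (ovMap sR ψ))
    (πV : (AlgSp.yon S).obj (ov sR (B ⊗[R] C)) ⟶ PV)
    (hπV1 : πV ≫ r₁ = (AlgSp.yon S).map (ovMap sR (Algebra.TensorProduct.includeLeft :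
        B →ₐ[R] B ⊗[R] C)) ≫ π)
    (hπV2 : πV ≫ r₂ = (AlgSp.yon S).map (ovMap sR (Algebra.TensorProduct.includeRight :
        C →ₐ[R] B ⊗[R] C)))
    (hπVsq : IsPullback πV ((AlgSp.yon S).map (ovMap sR (Algebra.TensorProduct.includeLeft :
        B →ₐ[R] B ⊗[R] C))) r₁ π)
    (π' : (AlgSp.yon S).obj (ov sR (B ⊗[R] C')) ⟶ P')
    (hπ'1 : π' ≫ q₁ = (AlgSp.yon S).map (ovMap sR (Algebra.TensorProduct.includeLeft :
        B →ₐ[R] B ⊗[R] C')) ≫ π)
    (hπ'2 : π' ≫ q₂ = (AlgSp.yon S).map (ovMap sR (Algebra.TensorProduct.includeRight :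
        C' →ₐ[R] B ⊗[R] C')))
    (hπ'sq : IsPullback π' ((AlgSp.yon S).map (ovMap sR (Algebra.TensorProduct.includeLeft :
        B →ₐ[R] B ⊗[R] C'))) q₁ π) :
    IsPullback ((AlgSp.yon S).map (ovMap sR (Algebra.TensorProduct.map (AlgHom.id R B) ψ))) πV π'
      κ := by
  have e1 : (Algebra.TensorProduct.map (AlgHom.id R B) ψ).comp
      (Algebra.TensorProduct.includeLeft : B →ₐ[R] B ⊗[R] C') =
      (Algebra.TensorProduct.includeLeft : B →ₐ[R] B ⊗[R] C) := by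
    ext b
    simp
  have e2 : (Algebra.TensorProduct.map (AlgHom.id R B) ψ).comp
      (Algebra.TensorProduct.includeRight : C' →ₐ[R] B ⊗[R] C') =
      (Algebra.TensorProduct.includeRight : C →ₐ[R] B ⊗[R] C).comp ψ := by
    ext c
    simp
  have h1 : (AlgSp.yon S).map (ovMap sR (Algebra.TensorProduct.map (AlgHom.id R B) ψ)) ≫
      (AlgSp.yon S).map (ovMap sR (Algebra.TensorProduct.includeLeft : B →ₐ[R] B ⊗[R] C')) =
      (AlgSp.yon S).map (ovMap sR (Algebra.TensorProduct.includeLeft : B →ₐ[R] B ⊗[R] C)) := by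
    rw [← Functor.map_comp, ← ovMap_comp, e1]
  have h2 : (AlgSp.yon S).map (ovMap sR (Algebra.TensorProduct.map (AlgHom.id R B) ψ)) ≫
      (AlgSp.yon S).map (ovMap sR (Algebra.TensorProduct.includeRight : C' →ₐ[R] B ⊗[R] C')) =
      (AlgSp.yon S).map (ovMap sR (Algebra.TensorProduct.includeRight : C →ₐ[R] B ⊗[R] C)) ≫
        (AlgSp.yon S).map (ovMap sR ψ) := by
    rw [← Functor.map_comp, ← ovMap_comp, e2, ovMap_comp, Functor.map_comp]
  have hcomm : (AlgSp.yon S).map (ovMap sR (Algebra.TensorProduct.map (AlgHom.id R B) ψ)) ≫ π' =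
      πV ≫ κ := by
    apply hP'.hom_ext
    · rw [Category.assoc, hπ'1, ← Category.assoc, h1, Category.assoc, hκ1, hπV1]
    · rw [Category.assoc, hπ'2, h2, Category.assoc, hκ2, ← Category.assoc, hπV2]
  refine IsPullback.of_right ?_ hcomm hπ'sq.flip
  rw [h1, hκ1]
  exact hπVsq.flip

include hπ in
/-- **The separating lemma over an affine base, ring form.** -/
theorem core (hπe : AlgSp.RepWith @Etale π) (hπs : AlgSp.RepWith @Surjective π)
    (C : Type u) [CommRing C] [Algebra R C] {PV : AlgSp.Sp S} (r₁ : PV ⟶ X₀)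
    (r₂ : PV ⟶ (AlgSp.yon S).obj (ov sR C))
    (hPV : IsPullback r₁ r₂ f₀ ((AlgSp.yon S).map (toBase sR C)))
    (TV : Set (AlgSp.Points PV)) (hTV : IsClosed TV) (v : ↥(Spec (CommRingCat.of C)))
    (hv : AlgSp.Points.schemeEquiv (ov sR C) v ∉ AlgSp.Points.map r₂ '' TV) :
    ∃ (k : ℕ) (φ : MvPolynomial (ULift.{u} (Fin k)) R →ₐ[R] C),
      ∀ (P' : AlgSp.Sp S) (q₁ : P' ⟶ X₀)
        (q₂ : P' ⟶ (AlgSp.yon S).obj (ov sR (MvPolynomial (ULift.{u} (Fin k)) R))),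
        IsPullback q₁ q₂ f₀ ((AlgSp.yon S).map (toBase sR (MvPolynomial (ULift.{u} (Fin k)) R))) →
        ∃ T' : Set (AlgSp.Points P'), IsClosed T' ∧
          AlgSp.Points.schemeEquiv (ov sR (MvPolynomial (ULift.{u} (Fin k)) R))
            ((ovMap sR φ).left v) ∉ AlgSp.Points.map q₂ '' T' ∧
          ∀ κ : PV ⟶ P', κ ≫ q₁ = r₁ → κ ≫ q₂ = r₂ ≫ (AlgSp.yon S).map (ovMap sR φ) →
            ∀ w ∈ TV, AlgSp.Points.map κ w ∈ T' := by
  obtain ⟨πV, hπV1, hπV2, hπVsq⟩ := exists_chart sR f₀ π hπ C r₁ r₂ hPV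
  -- the closed subset of `Spec (B ⊗ C)` and its ideal
  obtain ⟨TW, hTW⟩ : ∃ TW : Set (PrimeSpectrum (B ⊗[R] C)),
      TW = AlgSp.Points.ofPt πV ⁻¹' TV := ⟨_, rfl⟩
  have hTWc : IsClosed TW := by
    rw [hTW]
    exact hTV.preimage (AlgSp.Points.continuous_ofPt πV)
  obtain ⟨I, hI⟩ : ∃ I : Ideal (B ⊗[R] C), I = PrimeSpectrum.vanishingIdeal TW := ⟨_, rfl⟩
  have hzl : PrimeSpectrum.zeroLocus (I : Set (B ⊗[R] C)) = TW := by
    rw [hI, PrimeSpectrum.zeroLocus_vanishingIdeal_eq_closure]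
    exact hTWc.closure_eq
  have hmemTW : ∀ x : PrimeSpectrum (B ⊗[R] C), x ∈ TW ↔ AlgSp.Points.ofPt πV x ∈ TV := by
    intro x
    rw [hTW]
    rfl
  have hmapr₂ : ∀ x : ↥(Spec (CommRingCat.of (B ⊗[R] C))),
      AlgSp.Points.map r₂ (AlgSp.Points.ofPt πV x) = AlgSp.Points.schemeEquiv (ov sR C)
        ((ovMap sR (Algebra.TensorProduct.includeRight : C →ₐ[R] B ⊗[R] C)).left x) := by
    intro x
    rw [AlgSp.Points.map_ofPt, hπV2]
    have := Groth.Agent.S10176.ofPt_map_comp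
      (ovMap sR (Algebra.TensorProduct.includeRight : C →ₐ[R] B ⊗[R] C)) (𝟙 _) x
    rw [Category.comp_id] at this
    rw [this]
    rfl
  have halg : ∀ 𝔮 : Ideal (B ⊗[R] C), 𝔮.IsPrime → I ≤ 𝔮 →
      𝔮.comap (Algebra.TensorProduct.includeRight : C →ₐ[R] B ⊗[R] C) ≠ v.asIdeal := by
    intro 𝔮 h𝔮 hle hcomap
    have hx : (⟨𝔮, h𝔮⟩ : PrimeSpectrum (B ⊗[R] C)) ∈ TW := by
      rw [← hzl]
      exact (PrimeSpectrum.mem_zeroLocus _ _).2 hle
    apply hv
    refine ⟨AlgSp.Points.ofPt πV (⟨𝔮, h𝔮⟩ : PrimeSpectrum (B ⊗[R] C)),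
      (hmemTW _).1 hx, ?_⟩
    rw [hmapr₂]
    congr 1
    apply PrimeSpectrum.ext
    rw [ovMap_left_asIdeal]
    exact hcomap
  obtain ⟨k, φ, a, haI, hprimes⟩ := Groth.Agent.Lib.Seat43.SepAlg.exists_poly_separation I v.asIdeal halg
  refine ⟨k, φ, fun P' q₁ q₂ hP' => ?_⟩
  obtain ⟨π', hπ'1, hπ'2, hπ'sq⟩ := exists_chart sR f₀ π hπ (MvPolynomial (ULift.{u} (Fin k)) R) q₁ q₂ hP'
  have hπ'e : AlgSp.RepWith @Etale π' :=
    (AlgSp.repWith_isStableUnderBaseChange (S := S) @Etale).of_isPullback hπ'sq.flip hπe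
  have hπ's : AlgSp.RepWith @Surjective π' :=
    (AlgSp.repWith_isStableUnderBaseChange (S := S) @Surjective).of_isPullback hπ'sq.flip hπs
  have hmapq₂ : ∀ x : ↥(Spec (CommRingCat.of (B ⊗[R] MvPolynomial (ULift.{u} (Fin k)) R))),
      AlgSp.Points.map q₂ (AlgSp.Points.ofPt π' x) =
        AlgSp.Points.schemeEquiv (ov sR (MvPolynomial (ULift.{u} (Fin k)) R))
        ((ovMap sR (Algebra.TensorProduct.includeRight :
          MvPolynomial (ULift.{u} (Fin k)) R →ₐ[R] B ⊗[R] _)).left x) := by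
    intro x
    rw [AlgSp.Points.map_ofPt, hπ'2]
    have := Groth.Agent.S10176.ofPt_map_comp
      (ovMap sR (Algebra.TensorProduct.includeRight :
          MvPolynomial (ULift.{u} (Fin k)) R →ₐ[R] B ⊗[R] _)) (𝟙 _) x
    rw [Category.comp_id] at this
    rw [this]
    rfl
  obtain ⟨Za, hZa⟩ : ∃ Za : Set ↥(ov sR (B ⊗[R] MvPolynomial (ULift.{u} (Fin k)) R)).left,
      Za = PrimeSpectrum.zeroLocus
        ({a} : Set (B ⊗[R] MvPolynomial (ULift.{u} (Fin k)) R)) := ⟨_, rfl⟩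
  have hZac : IsClosed Za := by
    rw [hZa]
    exact PrimeSpectrum.isClosed_zeroLocus _
  have hmemZa : ∀ x : ↥(ov sR (B ⊗[R] MvPolynomial (ULift.{u} (Fin k)) R)).left,
      x ∈ Za ↔ a ∈ x.asIdeal := by
    intro x
    rw [hZa]
    exact (PrimeSpectrum.mem_zeroLocus _ _).trans Set.singleton_subset_iff
  have hopen : IsOpen (AlgSp.Points.ofPt π' '' Zaᶜ) :=
    Groth.Agent.S10176.isOpenMap_ofPt π' hπ'e _ hZac.isOpen_compl
  refine ⟨(AlgSp.Points.ofPt π' '' Zaᶜ)ᶜ, hopen.isClosed_compl, ?_, ?_⟩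
  · rintro ⟨x', hx'T, hx'⟩
    obtain ⟨w', rfl⟩ := Groth.Agent.S10177.surjective_ofPt π' hπ's x'
    have hw' : w' ∈ Za := by
      by_contra hcon
      exact hx'T ⟨w', hcon, rfl⟩
    rw [hmapq₂] at hx'
    have heq := (AlgSp.Points.schemeEquiv _).injective hx'
    refine hprimes w'.asIdeal w'.isPrime ?_ ?_
    · exact (hmemZa w').1 hw'
    · have := congrArg PrimeSpectrum.asIdeal heq
      rw [ovMap_left_asIdeal, ovMap_left_asIdeal] at this
      exact this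
  · intro κ hκ1 hκ2 w hw
    rintro ⟨w', hw', heq⟩
    have sqθ := isPullback_charts sR f₀ π hπ φ hPV hP' κ hκ1 hκ2 πV hπV1 hπV2 hπVsq π' hπ'1 hπ'2
      hπ'sq
    obtain ⟨p, hp1, hp2⟩ := Groth.Agent.S10175.exists_point_of_isPullback sqθ
      (AlgSp.Points.schemeEquiv _ w') w (by
        rw [← heq, AlgSp.Points.ofPt_eq_map_ofScheme]; rfl)
    obtain ⟨w'', rfl⟩ := (AlgSp.Points.schemeEquiv _).surjective p
    obtain ⟨w3, hw3⟩ : ∃ w3 : PrimeSpectrum (B ⊗[R] C), w3 = w'' := ⟨_, rfl⟩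
    have hw''T : w3 ∈ TW := by
      rw [hmemTW, hw3, AlgSp.Points.ofPt_eq_map_ofScheme]
      have : AlgSp.Points.map πV (AlgSp.Points.ofScheme _ w'') = w := hp2
      rw [this]
      exact hw
    rw [← hzl] at hw''T
    have h3 : (Algebra.TensorProduct.map (AlgHom.id R B) φ) a ∈ w''.asIdeal := by
      have := (PrimeSpectrum.mem_zeroLocus _ _).1 hw''T haI
      rw [hw3] at this
      exact this
    have h4 : (ovMap sR (Algebra.TensorProduct.map (AlgHom.id R B) φ)).left w'' = w' := by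
      apply (AlgSp.Points.schemeEquiv _).injective
      rw [← hp1]
      exact (AlgSp.Points.map_yon_map_apply _ w'').symm
    apply hw'
    rw [hmemZa, ← h4, ovMap_left_asIdeal]
    exact h3

end

end Groth.Agent.Lib.Seat43.SepCore
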