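import Mathlib
import Groth.Prelude.Def_AlgSp
import Groth.Prelude.Def_AlgSpCov
import Groth.Agent.Lib.Seat43SepCore
import Groth.Agent.Lib.Helper12Proper
import Groth.Agent.S9874
import Groth.Agent.S10180
import Groth.Agent.S9913

/-!
# The separating lemma for a quasi-compact morphism over an affine étale chart (seat 43)

* `exists_ringForm`: an affine scheme over `Spec R` (over `S`) is isomorphic over `S` to
  `Spec B` for an `R`-algebra `B`, in the normal form `SepCore.ov`.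
* `exists_ring_chart_surj`, `exists_ring_chart_point`: ring-form étale charts.
* `sep_general`: the separating lemma for a quasi-compact `f : X ⟶ Y` over an étale chart
  `Spec R ⟶ Y`.
-/

set_option autoImplicit false
universe u
open CategoryTheory CategoryTheory.Limits AlgebraicGeometry Opposite TensorProduct

namespace Groth.Agent.Lib.Seat43.SepLemma

open Groth.Agent.Lib.Seat43.SepCore

variable {S : Scheme.{u}}

section
variable {R : Type u} [CommRing R] (sR : Spec (CommRingCat.of R) ⟶ S)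

/-- ring form of an affine scheme over `Spec R`. -/
theorem exists_ringForm (W : Over S) [IsAffine W.left] (h : W ⟶ Over.mk sR) :
    ∃ (B : Type u) (_ : CommRing B) (_ : Algebra R B) (i : ov sR B ≅ W),
      i.hom ≫ h = toBase sR B := by
  obtain ⟨γ, hγ⟩ : ∃ γ : CommRingCat.of R ⟶ Γ(W.left, ⊤),
      Spec.map γ = W.left.isoSpec.inv ≫ h.left :=
    ⟨Spec.preimage (W.left.isoSpec.inv ≫ h.left), Spec.map_preimage _⟩
  letI : Algebra R Γ(W.left, ⊤) := γ.hom.toAlgebra
  have hγ' : Spec.map (CommRingCat.ofHom (algebraMap R Γ(W.left, ⊤))) =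
      W.left.isoSpec.inv ≫ h.left := hγ
  have hstr : (ov sR Γ(W.left, ⊤)).hom = W.left.isoSpec.inv ≫ W.hom := by
    show Spec.map (CommRingCat.ofHom (algebraMap R Γ(W.left, ⊤))) ≫ sR = _
    rw [hγ', Category.assoc]
    congr 1
    exact Over.w h
  refine ⟨Γ(W.left, ⊤), inferInstance, inferInstance,
    Over.isoMk W.left.isoSpec.symm (by rw [hstr]; rfl), ?_⟩
  apply Over.OverMorphism.ext
  show W.left.isoSpec.inv ≫ h.left = _
  rw [← hγ']
  rfl

variable {X₀ : AlgSp.Sp S} (f₀ : X₀ ⟶ (AlgSp.yon S).obj (Over.mk sR))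

/-- a ring-form étale surjective chart of a quasi-compact algebraic space over `Spec R`. -/
theorem exists_ring_chart_surj (hX₀ : AlgSp.IsAlgSpace X₀) (hqc : AlgSp.IsQuasiCompactSp X₀) :
    ∃ (B : Type u) (_ : CommRing B) (_ : Algebra R B) (π : (AlgSp.yon S).obj (ov sR B) ⟶ X₀),
      AlgSp.RepWith @Etale π ∧ AlgSp.RepWith @Surjective π ∧
      π ≫ f₀ = (AlgSp.yon S).map (toBase sR B) := by
  obtain ⟨W, p, hW, hpe, hps⟩ := (Groth.Agent.S10180.result ⟨X₀, hX₀⟩).1 hqc
  obtain ⟨h, hh⟩ := (AlgSp.yon S).map_surjective (p ≫ f₀)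
  obtain ⟨B, _, _, i, hi⟩ := exists_ringForm sR W h
  have hiso : IsIso i.hom.left := inferInstanceAs (IsIso ((Over.forget S).map i.hom))
  refine ⟨B, inferInstance, inferInstance, (AlgSp.yon S).map i.hom ≫ p, ?_, ?_, ?_⟩
  · exact (AlgSp.repWith_isMultiplicative (S := S) @Etale).comp_mem _ _
      ((AlgSp.repWith_yon_map_iff @Etale i.hom).2 inferInstance) hpe
  · exact (AlgSp.repWith_isMultiplicative (S := S) @Surjective).comp_mem _ _
      ((AlgSp.repWith_yon_map_iff @Surjective i.hom).2 inferInstance) hps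
  · rw [Category.assoc, ← hh, ← Functor.map_comp, hi]

/-- a ring-form étale chart through a point of an algebraic space over `Spec R`. -/
theorem exists_ring_chart_point (hX₀ : AlgSp.IsAlgSpace X₀) (x : AlgSp.Points X₀) :
    ∃ (C : Type u) (_ : CommRing C) (_ : Algebra R C) (c : (AlgSp.yon S).obj (ov sR C) ⟶ X₀)
      (v : ↥(Spec (CommRingCat.of C))),
      AlgSp.RepWith @Etale c ∧ AlgSp.Points.ofPt c v = x ∧
      c ≫ f₀ = (AlgSp.yon S).map (toBase sR C) := by
  obtain ⟨W, c', hce, hcs⟩ := hX₀.atlas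
  obtain ⟨w₀, hw₀⟩ := Groth.Agent.S10177.surjective_ofPt c' hcs x
  obtain ⟨V, hV, hwV, -⟩ :=
    exists_isAffineOpen_mem_and_subset (X := W.left) (U := ⊤) (x := w₀) (by simp)
  let W₁ : Over S := Over.mk (V.ι ≫ W.hom)
  let ι₁ : W₁ ⟶ W := Over.homMk V.ι rfl
  haveI : IsAffine W₁.left := hV
  obtain ⟨h, hh⟩ := (AlgSp.yon S).map_surjective ((AlgSp.yon S).map ι₁ ≫ c' ≫ f₀)
  obtain ⟨C, _, _, i, hi⟩ := exists_ringForm sR W₁ h
  have hiso : IsIso i.hom.left := inferInstanceAs (IsIso ((Over.forget S).map i.hom))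
  have hiso' : IsIso i.inv.left := inferInstanceAs (IsIso ((Over.forget S).map i.inv))
  refine ⟨C, inferInstance, inferInstance, (AlgSp.yon S).map i.hom ≫ (AlgSp.yon S).map ι₁ ≫ c',
    i.inv.left (⟨w₀, hwV⟩ : ↥V), ?_, ?_, ?_⟩
  · refine (AlgSp.repWith_isMultiplicative (S := S) @Etale).comp_mem _ _
      ((AlgSp.repWith_yon_map_iff @Etale i.hom).2 inferInstance) ?_
    exact (AlgSp.repWith_isMultiplicative (S := S) @Etale).comp_mem _ _
      ((AlgSp.repWith_yon_map_iff @Etale ι₁).2 (show Etale V.ι from inferInstance)) hce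
  · rw [Groth.Agent.S10176.ofPt_map_comp, Groth.Agent.S10176.ofPt_map_comp]
    have h1 : i.hom.left (i.inv.left (⟨w₀, hwV⟩ : ↥V)) = (⟨w₀, hwV⟩ : ↥V) := by
      rw [← Scheme.Hom.comp_apply, ← Over.comp_left, i.inv_hom_id]
      rfl
    rw [h1]
    exact hw₀
  · rw [Category.assoc, Category.assoc, ← hh, ← Functor.map_comp, hi]

/-- **The separating lemma over an étale chart `Spec R ⟶ Y` of the base.** -/
theorem sep_general {X Y : AlgSp.Space S} (f : X ⟶ Y) (hf : AlgSp.IsQuasiCompactMor f.hom)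
    (cY : (AlgSp.yon S).obj (Over.mk sR) ⟶ Y.obj)
    (C : Type u) [CommRing C] [Algebra R C] {PV : AlgSp.Sp S} (r₁ : PV ⟶ X.obj)
    (r₂ : PV ⟶ (AlgSp.yon S).obj (ov sR C))
    (hPV : IsPullback r₁ r₂ f.hom ((AlgSp.yon S).map (toBase sR C) ≫ cY))
    (TV : Set (AlgSp.Points PV)) (hTV : IsClosed TV) (v : ↥(Spec (CommRingCat.of C)))
    (hv : AlgSp.Points.schemeEquiv (ov sR C) v ∉ AlgSp.Points.map r₂ '' TV) :
    ∃ (k : ℕ) (φ : MvPolynomial (ULift.{u} (Fin k)) R →ₐ[R] C),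
      ∀ (P' : AlgSp.Sp S) (q₁ : P' ⟶ X.obj)
        (q₂ : P' ⟶ (AlgSp.yon S).obj (ov sR (MvPolynomial (ULift.{u} (Fin k)) R))),
        IsPullback q₁ q₂ f.hom
          ((AlgSp.yon S).map (toBase sR (MvPolynomial (ULift.{u} (Fin k)) R)) ≫ cY) →
        ∃ T' : Set (AlgSp.Points P'), IsClosed T' ∧
          AlgSp.Points.schemeEquiv (ov sR (MvPolynomial (ULift.{u} (Fin k)) R))
            ((ovMap sR φ).left v) ∉ AlgSp.Points.map q₂ '' T' ∧
          ∀ κ : PV ⟶ P', κ ≫ q₁ = r₁ → κ ≫ q₂ = r₂ ≫ (AlgSp.yon S).map (ovMap sR φ) →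
            ∀ w ∈ TV, AlgSp.Points.map κ w ∈ T' := by
  -- the base change of `f` to the chart
  have sqX := IsPullback.of_hasPullback f.hom cY
  have hX₀ : AlgSp.IsAlgSpace (pullback f.hom cY) :=
    Groth.Agent.S9874.isAlgSpace_of_isPullback Y.property.diag X.property
      (AlgSp.IsAlgSpace.yon_obj _) sqX
  have hf₀ : AlgSp.IsQuasiCompactMor (pullback.snd f.hom cY) :=
    Groth.Agent.Lib.Helper12.Proper.isQuasiCompactMor_baseChange sqX hf
  haveI : IsAffine (Over.mk sR).left := inferInstanceAs (IsAffine (Spec (CommRingCat.of R)))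
  have hqc : AlgSp.IsQuasiCompactSp (pullback f.hom cY) :=
    hf₀ (AlgSp.IsAlgSpace.yon_obj _) (Groth.Agent.S9913.isQuasiCompactSp_yon_of_compact _) (𝟙 _)
      (𝟙 _) (pullback.snd f.hom cY) (IsPullback.of_id_fst)
  obtain ⟨B, _, _, π, hπe, hπs, hπ⟩ :=
    exists_ring_chart_surj sR (pullback.snd f.hom cY) hX₀ hqc
  -- the fibre product over the chart
  have hw : r₁ ≫ f.hom = (r₂ ≫ (AlgSp.yon S).map (toBase sR C)) ≫ cY := by
    rw [Category.assoc]; exact hPV.w
  have hPV' : IsPullback (pullback.lift r₁ (r₂ ≫ (AlgSp.yon S).map (toBase sR C)) hw) r₂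
      (pullback.snd f.hom cY) ((AlgSp.yon S).map (toBase sR C)) := by
    refine IsPullback.of_right ?_ (pullback.lift_snd _ _ _) sqX
    rw [pullback.lift_fst]
    exact hPV
  obtain ⟨k, φ, hcore⟩ := core sR (pullback.snd f.hom cY) π hπ hπe hπs C _ r₂ hPV' TV hTV v hv
  refine ⟨k, φ, fun P' q₁ q₂ hP' => ?_⟩
  have hw' : q₁ ≫ f.hom = (q₂ ≫ (AlgSp.yon S).map
      (toBase sR (MvPolynomial (ULift.{u} (Fin k)) R))) ≫ cY := by
    rw [Category.assoc]; exact hP'.w
  have hP'' : IsPullback (pullback.lift q₁ (q₂ ≫ (AlgSp.yon S).map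
      (toBase sR (MvPolynomial (ULift.{u} (Fin k)) R))) hw') q₂
      (pullback.snd f.hom cY)
      ((AlgSp.yon S).map (toBase sR (MvPolynomial (ULift.{u} (Fin k)) R))) := by
    refine IsPullback.of_right ?_ (pullback.lift_snd _ _ _) sqX
    rw [pullback.lift_fst]
    exact hP'
  obtain ⟨T', hT'c, hT'v, hT'⟩ := hcore P' _ q₂ hP''
  refine ⟨T', hT'c, hT'v, fun κ hκ1 hκ2 w hw => hT' κ ?_ hκ2 w hw⟩
  apply pullback.hom_ext
  · rw [Category.assoc, pullback.lift_fst, pullback.lift_fst, hκ1]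
  · rw [Category.assoc, pullback.lift_snd, pullback.lift_snd, ← Category.assoc, hκ2,
      Category.assoc, ← Functor.map_comp, ovMap_toBase]

end

end Groth.Agent.Lib.Seat43.SepLemma
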