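import Mathlib
import Groth.Prelude.Def_AlgSp
import Groth.Prelude.Def_AlgSpCov
import Groth.Agent.Lib.Seat43SepLemma
import Groth.Agent.S9908
import Groth.Agent.S10211
import Groth.Agent.S10301
import Groth.Agent.S9923
import Groth.Agent.S9906

/-!
# Universal closedness from closedness over affine spaces (seat 43)

* `isClosedMap_of_isPullback_openImmersion`: a morphism closed on points stays closed on points
  after base change along an open immersion of schemes.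
* `isClosedMap_of_poly`: for a quasi-compact `f : X ⟶ Y` and an étale chart `Spec R ⟶ Y`, if the
  base changes of `f` to all `Spec R[x₁, …, x_k]` are closed on points then so are the base changes
  to all `Spec C`, `C` an `R`-algebra.
* `isUnivClosedMor_of_affineSpace`: a quasi-compact morphism whose base changes to `𝔸^n_V` are
  closed on points, `V ⟶ Y` a fixed étale surjective chart, is universally closed.
-/

set_option autoImplicit false
universe u
open CategoryTheory CategoryTheory.Limits AlgebraicGeometry Opposite TensorProduct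

namespace Groth.Agent.Lib.Seat43.ClosedAn

open Groth.Agent.Lib.Seat43.SepCore Groth.Agent.Lib.Seat43.SepLemma

variable {S : Scheme.{u}}

/-- closedness on points is inherited by the base change along an open immersion. -/
theorem isClosedMap_of_isPullback_openImmersion {Pk P' : AlgSp.Sp S} {A A' : Over S}
    (φ : Pk ⟶ (AlgSp.yon S).obj A) (j : A' ⟶ A) [IsOpenImmersion j.left] (ψ : P' ⟶ Pk)
    (q₂ : P' ⟶ (AlgSp.yon S).obj A') (sq : IsPullback ψ q₂ φ ((AlgSp.yon S).map j))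
    (h : IsClosedMap (AlgSp.Points.map φ)) : IsClosedMap (AlgSp.Points.map q₂) := by
  have hj : AlgSp.RepWith @IsOpenImmersion ((AlgSp.yon S).map j) :=
    (AlgSp.repWith_yon_map_iff @IsOpenImmersion j).2 inferInstance
  have hψ : AlgSp.RepWith @IsOpenImmersion ψ :=
    (AlgSp.repWith_isStableUnderBaseChange (S := S) @IsOpenImmersion).of_isPullback sq.flip hj
  have hψe : AlgSp.RepWith @Etale ψ := by
    refine ⟨hψ.1, fun T W g pr w s => ?_⟩
    haveI : IsOpenImmersion w.left := hψ.2 g pr w s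
    change Etale w.left
    infer_instance
  have hopen : IsOpenMap (AlgSp.Points.map ψ) :=
    Groth.Agent.S9908.isOpenMap_map_of_repWith _
      (Groth.Agent.S10211.repWith_universallyOpen_of_etale hψe)
  have hinj : Function.Injective (AlgSp.Points.map ψ) :=
    Groth.Agent.S10301.injective_map_of_repWith (P := @IsOpenImmersion)
      (fun _ _ g hg => by haveI : IsOpenImmersion g := hg; exact g.isOpenEmbedding.injective) ψ hψ
  intro T' hT'
  have hC : IsClosed (AlgSp.Points.map ψ '' T'ᶜ)ᶜ := (hopen _ hT'.isOpen_compl).isClosed_compl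
  have himg := h _ hC
  have key : AlgSp.Points.map q₂ '' T' = AlgSp.Points.map ((AlgSp.yon S).map j) ⁻¹'
      (AlgSp.Points.map φ '' (AlgSp.Points.map ψ '' T'ᶜ)ᶜ) := by
    ext a'
    constructor
    · rintro ⟨t, ht, rfl⟩
      refine ⟨AlgSp.Points.map ψ t, ?_, ?_⟩
      · rintro ⟨u, hu, hut⟩
        exact hu (hinj hut ▸ ht)
      · rw [← AlgSp.Points.map_comp, sq.w, AlgSp.Points.map_comp]
    · rintro ⟨c, hc, hca⟩
      obtain ⟨p', hp'1, hp'2⟩ := Groth.Agent.S10175.exists_point_of_isPullback sq c a' hca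
      refine ⟨p', ?_, hp'2⟩
      by_contra hcon
      exact hc ⟨p', hcon, hp'1⟩
  rw [key]
  exact himg.preimage (AlgSp.Points.continuous_map _)

/-- closedness over polynomial rings implies closedness over all algebras (over an étale chart
`Spec R ⟶ Y` of the base of a quasi-compact morphism). -/
theorem isClosedMap_of_poly {R : Type u} [CommRing R] (sR : Spec (CommRingCat.of R) ⟶ S)
    {X Y : AlgSp.Space S} (f : X ⟶ Y) (hf : AlgSp.IsQuasiCompactMor f.hom)
    (cY : (AlgSp.yon S).obj (Over.mk sR) ⟶ Y.obj)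
    (H : ∀ (k : ℕ) (P' : AlgSp.Sp S) (q₁ : P' ⟶ X.obj)
      (q₂ : P' ⟶ (AlgSp.yon S).obj (ov sR (MvPolynomial (ULift.{u} (Fin k)) R))),
      IsPullback q₁ q₂ f.hom
        ((AlgSp.yon S).map (toBase sR (MvPolynomial (ULift.{u} (Fin k)) R)) ≫ cY) →
      IsClosedMap (AlgSp.Points.map q₂))
    (C : Type u) [CommRing C] [Algebra R C] {PV : AlgSp.Sp S} (r₁ : PV ⟶ X.obj)
    (r₂ : PV ⟶ (AlgSp.yon S).obj (ov sR C))
    (hPV : IsPullback r₁ r₂ f.hom ((AlgSp.yon S).map (toBase sR C) ≫ cY)) :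
    IsClosedMap (AlgSp.Points.map r₂) := by
  intro T hT
  rw [← isOpen_compl_iff, isOpen_iff_forall_mem_open]
  intro x hx
  obtain ⟨v, rfl⟩ := (AlgSp.Points.schemeEquiv (ov sR C)).surjective x
  obtain ⟨k, φ, Hs⟩ := sep_general sR f hf cY C r₁ r₂ hPV T hT v hx
  have sqP' := IsPullback.of_hasPullback f.hom
    ((AlgSp.yon S).map (toBase sR (MvPolynomial (ULift.{u} (Fin k)) R)) ≫ cY)
  obtain ⟨T', hT'c, hT'v, hT'κ⟩ := Hs _ _ _ sqP'
  have hcl := H k _ _ _ sqP' T' hT'c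
  have hw : r₁ ≫ f.hom = (r₂ ≫ (AlgSp.yon S).map (ovMap sR φ)) ≫
      (AlgSp.yon S).map (toBase sR (MvPolynomial (ULift.{u} (Fin k)) R)) ≫ cY := by
    rw [Category.assoc, ← Category.assoc ((AlgSp.yon S).map (ovMap sR φ)), ← Functor.map_comp,
      ovMap_toBase]
    exact hPV.w
  refine ⟨AlgSp.Points.map ((AlgSp.yon S).map (ovMap sR φ)) ⁻¹'
    (AlgSp.Points.map (pullback.snd f.hom
      ((AlgSp.yon S).map (toBase sR (MvPolynomial (ULift.{u} (Fin k)) R)) ≫ cY)) '' T')ᶜ,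
    ?_, hcl.isOpen_compl.preimage (AlgSp.Points.continuous_map _), ?_⟩
  · rintro y hy ⟨t, ht, rfl⟩
    apply hy
    refine ⟨AlgSp.Points.map (pullback.lift r₁ (r₂ ≫ (AlgSp.yon S).map (ovMap sR φ)) hw) t,
      hT'κ _ (pullback.lift_fst _ _ _) (pullback.lift_snd _ _ _) t ht, ?_⟩
    rw [← AlgSp.Points.map_comp, pullback.lift_snd, AlgSp.Points.map_comp]
  · show AlgSp.Points.map ((AlgSp.yon S).map (ovMap sR φ)) (AlgSp.Points.schemeEquiv (ov sR C) v) ∉ _
    have := AlgSp.Points.map_yon_map_apply (ovMap sR φ) v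
    rw [show AlgSp.Points.schemeEquiv (ov sR C) v = AlgSp.Points.schemeHomeo (ov sR C) v from rfl,
      this]
    exact hT'v

/-- the open immersion `𝔸^n_{Spec R} ⟶ 𝔸^n_{V₀}` in ring form. -/
theorem exists_affineSpace_openImmersion (V₀ : Over S) {R : Type u} [CommRing R]
    (ι : Spec (CommRingCat.of R) ⟶ V₀.left) [IsOpenImmersion ι] (n : Type u) :
    ∃ j : ov (ι ≫ V₀.hom) (MvPolynomial n R) ⟶
        Over.mk ((𝔸(n; V₀.left) ↘ V₀.left) ≫ V₀.hom),
      IsOpenImmersion j.left ∧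
      j ≫ (Over.homMk (𝔸(n; V₀.left) ↘ V₀.left) :
        Over.mk ((𝔸(n; V₀.left) ↘ V₀.left) ≫ V₀.hom) ⟶ V₀) =
        toBase (ι ≫ V₀.hom) (MvPolynomial n R) ≫
          (Over.homMk ι rfl : Over.mk (ι ≫ V₀.hom) ⟶ V₀) := by
  have hover : ((AffineSpace.SpecIso n (CommRingCat.of R)).inv ≫ AffineSpace.map n ι) ≫
      (𝔸(n; V₀.left) ↘ V₀.left) =
      Spec.map (CommRingCat.ofHom (algebraMap R (MvPolynomial n R))) ≫ ι := by
    rw [Category.assoc, AffineSpace.map_over, ← Category.assoc, AffineSpace.SpecIso_inv_over]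
    rfl
  have hopen : IsOpenImmersion (AffineSpace.map n ι) :=
    MorphismProperty.of_isPullback (P := @IsOpenImmersion) (AffineSpace.isPullback_map ι).flip
      inferInstance
  refine ⟨Over.homMk ((AffineSpace.SpecIso n (CommRingCat.of R)).inv ≫ AffineSpace.map n ι) ?_,
    ?_, ?_⟩
  · show ((AffineSpace.SpecIso n (CommRingCat.of R)).inv ≫ AffineSpace.map n ι) ≫
      (𝔸(n; V₀.left) ↘ V₀.left) ≫ V₀.hom = _
    rw [← Category.assoc, hover, Category.assoc]
    rfl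
  · show IsOpenImmersion ((AffineSpace.SpecIso n (CommRingCat.of R)).inv ≫ AffineSpace.map n ι)
    infer_instance
  · apply Over.OverMorphism.ext
    exact hover

/-- closedness over the affine spaces of a chart `V₀` implies closedness over all algebras over an
affine open of `V₀`. -/
theorem isClosedMap_of_affineSpace {X Y : AlgSp.Space S} (f : X ⟶ Y)
    (hqc : AlgSp.IsQuasiCompactMor f.hom) (V₀ : Over S) (p₀ : (AlgSp.yon S).obj V₀ ⟶ Y.obj)
    (H : ∀ (n : ℕ) (P : AlgSp.Sp S) (fst : P ⟶ X.obj)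
      (snd : P ⟶ (AlgSp.yon S).obj
        (Over.mk ((𝔸(ULift.{u} (Fin n); V₀.left) ↘ V₀.left) ≫ V₀.hom))),
      IsPullback fst snd f.hom
        ((AlgSp.yon S).map (Over.homMk (𝔸(ULift.{u} (Fin n); V₀.left) ↘ V₀.left)) ≫ p₀) →
      IsClosedMap (AlgSp.Points.map snd))
    {R : Type u} [CommRing R] (ι : Spec (CommRingCat.of R) ⟶ V₀.left) [IsOpenImmersion ι]
    (C : Type u) [CommRing C] [Algebra R C] {PV : AlgSp.Sp S} (r₁ : PV ⟶ X.obj)
    (r₂ : PV ⟶ (AlgSp.yon S).obj (ov (ι ≫ V₀.hom) C))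
    (hPV : IsPullback r₁ r₂ f.hom ((AlgSp.yon S).map (toBase (ι ≫ V₀.hom) C) ≫
      (AlgSp.yon S).map (Over.homMk ι rfl : Over.mk (ι ≫ V₀.hom) ⟶ V₀) ≫ p₀)) :
    IsClosedMap (AlgSp.Points.map r₂) := by
  refine isClosedMap_of_poly (ι ≫ V₀.hom) f hqc _ (fun k P' q₁ q₂ hP' => ?_) C r₁ r₂ hPV
  obtain ⟨j, hjo, hj⟩ := exists_affineSpace_openImmersion V₀ ι (ULift.{u} (Fin k))
  have sqk := IsPullback.of_hasPullback f.hom
    ((AlgSp.yon S).map (Over.homMk (𝔸(ULift.{u} (Fin k); V₀.left) ↘ V₀.left) rfl :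
      Over.mk ((𝔸(ULift.{u} (Fin k); V₀.left) ↘ V₀.left) ≫ V₀.hom) ⟶ V₀) ≫ p₀)
  have hcl := H k _ _ _ sqk
  have hw : q₁ ≫ f.hom = (q₂ ≫ (AlgSp.yon S).map j) ≫
      (AlgSp.yon S).map (Over.homMk (𝔸(ULift.{u} (Fin k); V₀.left) ↘ V₀.left) rfl :
        Over.mk ((𝔸(ULift.{u} (Fin k); V₀.left) ↘ V₀.left) ≫ V₀.hom) ⟶ V₀) ≫ p₀ := by
    rw [Category.assoc, ← Category.assoc ((AlgSp.yon S).map j), ← Functor.map_comp, hj,
      Functor.map_comp, Category.assoc]
    exact hP'.w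
  refine isClosedMap_of_isPullback_openImmersion _ j (pullback.lift q₁ _ hw) q₂ ?_ hcl
  refine IsPullback.of_right ?_ (pullback.lift_snd _ _ _) sqk
  rw [pullback.lift_fst, ← Category.assoc ((AlgSp.yon S).map j), ← Functor.map_comp, hj,
    Functor.map_comp, Category.assoc]
  exact hP'

/-- **Universal closedness from closedness over affine spaces.** -/
theorem isUnivClosedMor_of_affineSpace {X Y : AlgSp.Space S} (f : X ⟶ Y)
    (hqc : AlgSp.IsQuasiCompactMor f.hom) (V₀ : Over S) (p₀ : (AlgSp.yon S).obj V₀ ⟶ Y.obj)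
    (hp₀e : AlgSp.RepWith @Etale p₀) (hp₀s : AlgSp.RepWith @Surjective p₀)
    (H : ∀ (n : ℕ) (P : AlgSp.Sp S) (fst : P ⟶ X.obj)
      (snd : P ⟶ (AlgSp.yon S).obj
        (Over.mk ((𝔸(ULift.{u} (Fin n); V₀.left) ↘ V₀.left) ≫ V₀.hom))),
      IsPullback fst snd f.hom
        ((AlgSp.yon S).map (Over.homMk (𝔸(ULift.{u} (Fin n); V₀.left) ↘ V₀.left)) ≫ p₀) →
      IsClosedMap (AlgSp.Points.map snd)) :
    AlgSp.IsUnivClosedMor f.hom := by
  rw [Groth.Agent.S9923.result f]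
  intro Z hZ g P fst snd sq T hT
  rw [← isOpen_compl_iff, isOpen_iff_forall_mem_open]
  intro z hz
  -- an affine open of the chart through a point over `g z`
  obtain ⟨v₀, hv₀⟩ := Groth.Agent.S10177.surjective_ofPt p₀ hp₀s (AlgSp.Points.map g z)
  obtain ⟨Y₀o, hY₀o, hvY₀, -⟩ :=
    exists_isAffineOpen_mem_and_subset (X := V₀.left) (U := ⊤) (x := v₀) (by simp)
  obtain ⟨R, _, ι, hιo, y₀, hy₀⟩ : ∃ (R : Type u) (_ : CommRing R)
      (ι : Spec (CommRingCat.of R) ⟶ V₀.left) (_ : IsOpenImmersion ι)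
      (y₀ : ↥(Spec (CommRingCat.of R))), ι y₀ = v₀ :=
    ⟨Γ(V₀.left, Y₀o), inferInstance, hY₀o.fromSpec, inferInstance,
      hY₀o.primeIdealOf ⟨v₀, hvY₀⟩, hY₀o.fromSpec_primeIdealOf ⟨v₀, hvY₀⟩⟩
  obtain ⟨cY, hcY⟩ : ∃ cY : (AlgSp.yon S).obj (Over.mk (ι ≫ V₀.hom)) ⟶ Y.obj,
      cY = (AlgSp.yon S).map (Over.homMk ι rfl : Over.mk (ι ≫ V₀.hom) ⟶ V₀) ≫ p₀ := ⟨_, rfl⟩
  have hcYe : AlgSp.RepWith @Etale cY := by
    rw [hcY]
    exact (AlgSp.repWith_isMultiplicative (S := S) @Etale).comp_mem _ _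
      ((AlgSp.repWith_yon_map_iff @Etale _).2 (show Etale ι from inferInstance)) hp₀e
  have hy₀' : AlgSp.Points.ofPt cY y₀ = AlgSp.Points.map g z := by
    rw [hcY, Groth.Agent.S10176.ofPt_map_comp]
    show AlgSp.Points.ofPt p₀ (ι y₀) = _
    rw [hy₀, hv₀]
  -- the fibre product `h_Z ×_Y Spec R` and a point over `z`
  have sqZ := IsPullback.of_hasPullback g cY
  have hZ₂ : AlgSp.IsAlgSpace (pullback g cY) :=
    Groth.Agent.S9874.isAlgSpace_of_isPullback Y.property.diag (AlgSp.IsAlgSpace.yon_obj Z)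
      (AlgSp.IsAlgSpace.yon_obj _) sqZ
  obtain ⟨z₂, hz₂a, -⟩ := Groth.Agent.S10175.exists_point_of_isPullback sqZ z
    (AlgSp.Points.schemeEquiv _ y₀) (by
      rw [← hy₀', AlgSp.Points.ofPt_eq_map_ofScheme]; rfl)
  obtain ⟨C, _, _, cV, v, hcVe, hcVv, hcVf⟩ :=
    exists_ring_chart_point (ι ≫ V₀.hom) (pullback.snd g cY) hZ₂ z₂
  have hfste : AlgSp.RepWith @Etale (pullback.fst g cY) :=
    (AlgSp.repWith_isStableUnderBaseChange (S := S) @Etale).of_isPullback sqZ.flip hcYe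
  obtain ⟨e, he⟩ : ∃ e : (AlgSp.yon S).obj (ov (ι ≫ V₀.hom) C) ⟶ (AlgSp.yon S).obj Z,
      e = cV ≫ pullback.fst g cY := ⟨_, rfl⟩
  have hee : AlgSp.RepWith @Etale e := by
    rw [he]
    exact (AlgSp.repWith_isMultiplicative (S := S) @Etale).comp_mem _ _ hcVe hfste
  have heg : e ≫ g = (AlgSp.yon S).map (toBase (ι ≫ V₀.hom) C) ≫ cY := by
    rw [he, Category.assoc, pullback.condition, ← Category.assoc, hcVf]
  have hev : AlgSp.Points.map e (AlgSp.Points.schemeEquiv (ov (ι ≫ V₀.hom) C) v) = z := by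
    rw [he, AlgSp.Points.map_comp]
    have : AlgSp.Points.map cV (AlgSp.Points.schemeEquiv (ov (ι ≫ V₀.hom) C) v) =
        AlgSp.Points.ofPt cV v := by
      rw [AlgSp.Points.ofPt_eq_map_ofScheme]; rfl
    rw [this, hcVv, hz₂a]
  have heopen : IsOpenMap (AlgSp.Points.map e) :=
    Groth.Agent.S9908.isOpenMap_map_of_repWith _
      (Groth.Agent.S10211.repWith_universallyOpen_of_etale hee)
  -- the fibre product over the chart
  have sqV := IsPullback.of_hasPullback f.hom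
    ((AlgSp.yon S).map (toBase (ι ≫ V₀.hom) C) ≫ cY)
  obtain ⟨κ₀, hκ₀a, hκ₀b⟩ : ∃ κ₀ : pullback f.hom
      ((AlgSp.yon S).map (toBase (ι ≫ V₀.hom) C) ≫ cY) ⟶ P,
      κ₀ ≫ fst = pullback.fst _ _ ∧ κ₀ ≫ snd = pullback.snd _ _ ≫ e := by
    have hw : pullback.fst f.hom ((AlgSp.yon S).map (toBase (ι ≫ V₀.hom) C) ≫ cY) ≫ f.hom =
        (pullback.snd f.hom ((AlgSp.yon S).map (toBase (ι ≫ V₀.hom) C) ≫ cY) ≫ e) ≫ g := by
      rw [Category.assoc, heg]
      exact pullback.condition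
    exact ⟨sq.lift _ _ hw, sq.lift_fst _ _ hw, sq.lift_snd _ _ hw⟩
  have sqκ : IsPullback κ₀ (pullback.snd f.hom
      ((AlgSp.yon S).map (toBase (ι ≫ V₀.hom) C) ≫ cY)) snd e := by
    refine IsPullback.of_right ?_ hκ₀b sq
    rw [hκ₀a, heg]
    exact sqV
  have hclV : IsClosedMap (AlgSp.Points.map (pullback.snd f.hom
      ((AlgSp.yon S).map (toBase (ι ≫ V₀.hom) C) ≫ cY))) := by
    refine isClosedMap_of_affineSpace f hqc V₀ p₀ H ι C (pullback.fst f.hom
      ((AlgSp.yon S).map (toBase (ι ≫ V₀.hom) C) ≫ cY)) _ ?_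
    rw [← hcY]
    exact sqV
  have hTV : IsClosed (AlgSp.Points.map κ₀ ⁻¹' T) := hT.preimage (AlgSp.Points.continuous_map κ₀)
  have himg := hclV _ hTV
  refine ⟨AlgSp.Points.map e '' (AlgSp.Points.map (pullback.snd f.hom
      ((AlgSp.yon S).map (toBase (ι ≫ V₀.hom) C) ≫ cY)) '' (AlgSp.Points.map κ₀ ⁻¹' T))ᶜ,
    ?_, heopen _ himg.isOpen_compl, ?_⟩
  · rintro y ⟨v', hv', rfl⟩ ⟨t, ht, hty⟩
    obtain ⟨w, hw1, hw2⟩ := Groth.Agent.S10175.exists_point_of_isPullback sqκ t v' hty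
    exact hv' ⟨w, by show AlgSp.Points.map κ₀ w ∈ T; rw [hw1]; exact ht, hw2⟩
  · refine ⟨AlgSp.Points.schemeEquiv (ov (ι ≫ V₀.hom) C) v, ?_, hev⟩
    rintro ⟨w, hw, hwv⟩
    apply hz
    refine ⟨AlgSp.Points.map κ₀ w, hw, ?_⟩
    rw [← AlgSp.Points.map_comp, hκ₀b, AlgSp.Points.map_comp, hwv, hev]

end Groth.Agent.Lib.Seat43.ClosedAn
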