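import Mathlib.RingTheory.Ideal.KrullsHeightTheorem
import Mathlib.RingTheory.Ideal.MinimalPrime.Noetherian

/-!
# Seat43: Noetherian domains in which some nonzero element lies in every nonzero prime

If `C` is a Noetherian domain and `b ≠ 0` lies in every nonzero prime of `C` (a "G-domain"), then
every nonzero prime of `C` is maximal among primes: there is no chain `0 < q < m` of primes.
-/

set_option autoImplicit false
universe u

namespace Groth.Agent.Lib.Seat43.GDomain

open Ideal

theorem not_lt_of_mem_all_primes {C : Type u} [CommRing C] [IsDomain C] [IsNoetherianRing C]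
    (b : C) (hb : b ≠ 0) (hall : ∀ q : Ideal C, q.IsPrime → q ≠ ⊥ → b ∈ q)
    (q m : Ideal C) [hq : q.IsPrime] [hm : m.IsPrime] (hq0 : q ≠ ⊥) (hqm : q < m) : False := by
  classical
  -- the finite set of minimal primes over (b)
  have hfin : (Ideal.span {b}).minimalPrimes.Finite :=
    Ideal.finite_minimalPrimes_of_isNoetherianRing C _
  set s : Finset (Ideal C) := hfin.toFinset with hs
  have hbq : Ideal.span {b} ≤ q := by
    rw [Ideal.span_le, Set.singleton_subset_iff]; exact hall q hq hq0
  -- m is not contained in the union of the minimal primes over (b)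
  have hnot : ¬ ((m : Set C) ⊆ ⋃ P ∈ (↑s : Set (Ideal C)), (P : Set C)) := by
    intro hsub
    rw [Ideal.subset_union_prime (f := fun P : Ideal C => P) ⊥ ⊥ (fun P hP _ _ => by
      have : P ∈ (Ideal.span {b}).minimalPrimes := by simpa [hs] using hP
      exact this.isPrime)] at hsub
    obtain ⟨P, hP, hmP⟩ := hsub
    have hPmin : P ∈ (Ideal.span {b}).minimalPrimes := by simpa [hs] using hP
    -- q contains (b), q < m ≤ P contradicts minimality of P
    have hqP : q ≤ P := hqm.le.trans hmP
    have := hPmin.2 ⟨hq, hbq⟩ hqP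
    exact absurd (hmP.trans this) (not_le_of_gt hqm)
  rw [Set.not_subset] at hnot
  obtain ⟨y, hym, hyU⟩ := hnot
  -- a minimal prime over (y) inside m
  have hym' : Ideal.span {y} ≤ m := by
    rw [Ideal.span_le, Set.singleton_subset_iff]; exact hym
  obtain ⟨Q, hQmin, hQm⟩ := Ideal.exists_minimalPrimes_le hym'
  haveI := hQmin.isPrime
  have hyQ : y ∈ Q := hQmin.1.2 (Ideal.subset_span (Set.mem_singleton y))
  -- there is a minimal prime over (b) in q, so the set is nonempty and y ≠ 0
  obtain ⟨P₀, hP₀min, hP₀q⟩ := Ideal.exists_minimalPrimes_le hbq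
  have hy0 : y ≠ 0 := by
    rintro rfl
    apply hyU
    simp only [Set.mem_iUnion]
    exact ⟨P₀, by simpa [hs] using hP₀min, P₀.zero_mem⟩
  have hQ0 : Q ≠ ⊥ := by
    intro h
    rw [h, Ideal.mem_bot] at hyQ
    exact hy0 hyQ
  have hbQ : Ideal.span {b} ≤ Q := by
    rw [Ideal.span_le, Set.singleton_subset_iff]; exact hall Q inferInstance hQ0
  obtain ⟨P, hPmin, hPQ⟩ := Ideal.exists_minimalPrimes_le hbQ
  haveI := hPmin.isPrime
  have hP0 : P ≠ ⊥ := by
    intro h
    have : b ∈ P := hPmin.1.2 (Ideal.subset_span (Set.mem_singleton b))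
    rw [h, Ideal.mem_bot] at this
    exact hb this
  have hQht : Q.height ≤ 1 :=
    Ideal.height_le_one_of_isPrincipal_of_mem_minimalPrimes (Ideal.span {y}) Q hQmin
  have hPQeq : P = Q := by
    by_contra hne
    have hlt : P < Q := lt_of_le_of_ne hPQ hne
    have h1 : P.height < Q.height := Ideal.height_strict_mono_of_isPrime_of_isPrime hlt
    have h2 : P.height ≠ 0 := by
      rw [Ne, Ideal.height_eq_zero_iff_eq_bot]; exact hP0
    have h3 : 1 ≤ P.height := Order.one_le_iff_pos.mpr (pos_iff_ne_zero.mpr h2)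
    exact absurd (lt_of_le_of_lt h3 h1) (not_lt_of_ge hQht)
  apply hyU
  simp only [Set.mem_iUnion]
  exact ⟨P, by simpa [hs] using hPmin, by rw [hPQeq]; exact hyQ⟩

end Groth.Agent.Lib.Seat43.GDomain
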