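import Mathlib.AlgebraicGeometry.Noetherian
import Groth.Agent.Lib.Seat43GDomain

/-!
# Seat43: closed points of locally Noetherian schemes

* `exists_isClosed_specializes`: every point of a locally Noetherian scheme specializes to a
  closed point.
-/

set_option autoImplicit false
universe u
open CategoryTheory AlgebraicGeometry TopologicalSpace

namespace Groth.Agent.Lib.Seat43.ClosedPt

/-- Ring-level statement: no chain `p₁ < p₂ < p₃` of primes if some `b ∉ p₁` lies in all primes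
strictly containing `p₁`. -/
theorem not_chain_of_mem {B : Type u} [CommRing B] [IsNoetherianRing B]
    (p₁ p₂ p₃ : Ideal B) [h₁ : p₁.IsPrime] [h₂ : p₂.IsPrime] [h₃ : p₃.IsPrime]
    (b : B) (hb : b ∉ p₁) (hall : ∀ q : Ideal B, q.IsPrime → p₁ < q → b ∈ q)
    (h12 : p₁ < p₂) (h23 : p₂ < p₃) : False := by
  let mk := Ideal.Quotient.mk p₁
  have hsurj : Function.Surjective mk := Ideal.Quotient.mk_surjective
  have hker : RingHom.ker mk = p₁ := Ideal.mk_ker
  have hcm : ∀ p : Ideal B, p₁ ≤ p → (p.map mk).comap mk = p := by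
    intro p hp
    rw [Ideal.comap_map_of_surjective mk hsurj, ← RingHom.ker_eq_comap_bot, hker, sup_eq_left.mpr hp]
  have hP2 : (p₂.map mk).IsPrime :=
    Ideal.map_isPrime_of_surjective hsurj (by rw [hker]; exact h12.le)
  have hP3 : (p₃.map mk).IsPrime :=
    Ideal.map_isPrime_of_surjective hsurj (by rw [hker]; exact (h12.trans h23).le)
  have hne2 : p₂.map mk ≠ ⊥ := by
    intro h
    have := hcm p₂ h12.le
    rw [h, ← RingHom.ker_eq_comap_bot, hker] at this
    exact absurd this h12.ne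
  have hlt : p₂.map mk < p₃.map mk := by
    refine lt_of_le_of_ne (Ideal.map_mono h23.le) ?_
    intro h
    have := congrArg (Ideal.comap mk) h
    rw [hcm p₂ h12.le, hcm p₃ (h12.trans h23).le] at this
    exact absurd this h23.ne
  refine Groth.Agent.Lib.Seat43.GDomain.not_lt_of_mem_all_primes (C := B ⧸ p₁) (mk b) ?_ ?_
    (p₂.map mk) (p₃.map mk) hne2 hlt
  · intro h
    exact hb (Ideal.Quotient.eq_zero_iff_mem.mp h)
  · intro q' hq' hq'0
    have hqprime : (q'.comap mk).IsPrime := Ideal.comap_isPrime mk q'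
    have hle : p₁ ≤ q'.comap mk := by
      have h1 : RingHom.ker mk ≤ q'.comap mk := by
        rw [RingHom.ker_eq_comap_bot]; exact Ideal.comap_mono bot_le
      exact hker.symm.le.trans h1
    have hne : p₁ ≠ q'.comap mk := by
      intro h
      apply hq'0
      have h1 : (q'.comap mk).map mk = ⊥ :=
        (Ideal.map_eq_bot_iff_le_ker (f := mk)).mpr (h.symm.le.trans hker.symm.le)
      rw [← Ideal.map_comap_of_surjective mk hsurj q']
      exact h1
    exact hall _ hqprime (lt_of_le_of_ne hle hne)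

variable {X : Scheme.{u}} [IsLocallyNoetherian X]

/-- If `x₁` is closed in an open subset `U` and `x₂ ≠ x₁` is a specialization of `x₁`, then `x₂`
has no proper specializations. -/
theorem eq_of_specializes_of_closedIn (U : X.Opens) (x₁ x₂ x₃ : X) (hx₁U : x₁ ∈ U)
    (hcl : ∀ y ∈ U, x₁ ⤳ y → y = x₁) (h12 : x₁ ⤳ x₂) (hne : x₂ ≠ x₁) (h23 : x₂ ⤳ x₃) :
    x₃ = x₂ := by
  by_contra hne3
  obtain ⟨W, hW, hx₃W, -⟩ := exists_isAffineOpen_mem_and_subset (x := x₃) (U := ⊤) trivial
  have hx₂W : x₂ ∈ W := h23.mem_open W.2 hx₃W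
  have hx₁W : x₁ ∈ W := h12.mem_open W.2 hx₂W
  haveI : IsNoetherianRing Γ(X, W) := IsLocallyNoetherian.component_noetherian ⟨W, hW⟩
  let φ := hW.fromSpec
  have hemb : Topology.IsOpenEmbedding φ := φ.isOpenEmbedding
  let P₁ := hW.primeIdealOf ⟨x₁, hx₁W⟩
  let P₂ := hW.primeIdealOf ⟨x₂, hx₂W⟩
  let P₃ := hW.primeIdealOf ⟨x₃, hx₃W⟩
  have e₁ : φ P₁ = x₁ := hW.fromSpec_primeIdealOf ⟨x₁, hx₁W⟩
  have e₂ : φ P₂ = x₂ := hW.fromSpec_primeIdealOf ⟨x₂, hx₂W⟩
  have e₃ : φ P₃ = x₃ := hW.fromSpec_primeIdealOf ⟨x₃, hx₃W⟩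
  have hsp : ∀ P Q : PrimeSpectrum Γ(X, W), φ P ⤳ φ Q ↔ P ≤ Q := fun P Q => by
    rw [PrimeSpectrum.le_iff_specializes]
    exact hemb.isInducing.specializes_iff
  have l12 : P₁ < P₂ := by
    refine lt_of_le_of_ne ((hsp _ _).1 (by rw [e₁, e₂]; exact h12)) ?_
    intro h
    apply hne
    rw [← e₁, ← e₂, h]
  have l23 : P₂ < P₃ := by
    refine lt_of_le_of_ne ((hsp _ _).1 (by rw [e₂, e₃]; exact h23)) ?_
    intro h
    apply hne3
    rw [← e₂, ← e₃, h]
  -- a basic open around P₁ inside the preimage of U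
  have hO : IsOpen (φ ⁻¹' (U : Set X)) := U.2.preimage φ.continuous
  have hP₁O : P₁ ∈ φ ⁻¹' (U : Set X) := by
    change φ P₁ ∈ U
    rw [e₁]; exact hx₁U
  obtain ⟨_, ⟨b, rfl⟩, hP₁b, hbO⟩ :=
    (PrimeSpectrum.isTopologicalBasis_basic_opens (R := Γ(X, W))).exists_subset_of_mem_open hP₁O hO
  have hb : b ∉ P₁.asIdeal := hP₁b
  refine not_chain_of_mem P₁.asIdeal P₂.asIdeal P₃.asIdeal b hb ?_ l12 l23
  intro q hq hlt
  by_contra hbq
  let Q : PrimeSpectrum Γ(X, W) := ⟨q, hq⟩
  have hQb : Q ∈ (PrimeSpectrum.basicOpen b : Set (PrimeSpectrum Γ(X, W))) := hbq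
  have hQU : φ Q ∈ U := hbO hQb
  have hsp1 : x₁ ⤳ φ Q := by
    rw [← e₁, hsp]
    exact hlt.le
  have := hcl _ hQU hsp1
  rw [← e₁] at this
  have hQP : Q = P₁ := hemb.injective this
  exact absurd (congrArg PrimeSpectrum.asIdeal hQP) hlt.ne'

/-- Every point of a locally Noetherian scheme specializes to a closed point. -/
theorem exists_isClosed_specializes (x : X) : ∃ y : X, x ⤳ y ∧ IsClosed ({y} : Set X) := by
  -- an affine open neighbourhood of x
  obtain ⟨U, hU, hxU, -⟩ := exists_isAffineOpen_mem_and_subset (x := x) (U := ⊤) trivial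
  haveI : IsNoetherianRing Γ(X, U) := IsLocallyNoetherian.component_noetherian ⟨U, hU⟩
  -- a maximal ideal containing the prime of x
  let P := hU.primeIdealOf ⟨x, hxU⟩
  obtain ⟨m, hm, hPm⟩ := Ideal.exists_le_maximal P.asIdeal P.2.ne_top
  let M : PrimeSpectrum Γ(X, U) := ⟨m, hm.isPrime⟩
  let φ := hU.fromSpec
  have hemb : Topology.IsOpenEmbedding φ := φ.isOpenEmbedding
  have hsp : ∀ P Q : PrimeSpectrum Γ(X, U), φ P ⤳ φ Q ↔ P ≤ Q := fun P Q => by
    rw [PrimeSpectrum.le_iff_specializes]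
    exact hemb.isInducing.specializes_iff
  have ex : φ P = x := hU.fromSpec_primeIdealOf ⟨x, hxU⟩
  set x₁ := φ M with hx₁
  have hxx₁ : x ⤳ x₁ := by rw [← ex, hsp]; exact hPm
  have hx₁U : x₁ ∈ U := by
    have : x₁ ∈ Set.range φ := ⟨M, rfl⟩
    rw [hU.range_fromSpec] at this
    exact this
  -- x₁ is closed in U
  have hcl : ∀ y ∈ U, x₁ ⤳ y → y = x₁ := by
    intro y hyU hy
    have hy' : y ∈ Set.range φ := by rw [hU.range_fromSpec]; exact hyU
    obtain ⟨Q, rfl⟩ := hy'
    have hy2 : M ≤ Q := (hsp M Q).1 hy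
    have : M.asIdeal = Q.asIdeal := hm.eq_of_le Q.2.ne_top hy2
    rw [hx₁]
    congr 1
    exact (PrimeSpectrum.ext this).symm
  by_cases hcl₁ : IsClosed ({x₁} : Set X)
  · exact ⟨x₁, hxx₁, hcl₁⟩
  · -- x₁ has a proper specialization x₂, which is then closed
    have : ∃ x₂, x₁ ⤳ x₂ ∧ x₂ ≠ x₁ := by
      by_contra hno
      push Not at hno
      apply hcl₁
      rw [← closure_eq_iff_isClosed]
      ext z
      simp only [Set.mem_singleton_iff]
      constructor
      · intro hz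
        exact hno z (specializes_iff_mem_closure.mpr hz)
      · rintro rfl
        exact subset_closure rfl
    obtain ⟨x₂, h12, hne⟩ := this
    refine ⟨x₂, hxx₁.trans h12, ?_⟩
    rw [← closure_eq_iff_isClosed]
    ext z
    simp only [Set.mem_singleton_iff]
    constructor
    · intro hz
      exact eq_of_specializes_of_closedIn U x₁ x₂ z hx₁U hcl h12 hne
        (specializes_iff_mem_closure.mpr hz)
    · rintro rfl
      exact subset_closure rfl

end Groth.Agent.Lib.Seat43.ClosedPt
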