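import Mathlib

/-!
# Composite valuation rings (seat 43)

Pure algebra for the refined valuative criterion:

* `comp V D`: the composite of a valuation subring `V` of a field `L` with a valuation subring `D` of the residue
  field of `V`.
* `exists_valSubring_residue`: for a ring `B` with ring maps `β : B → F`, `κ : B → K₂` to fields with
  `ker β ≤ ker κ`, a valuation ring of an extension of `F` containing the image of `B` whose residue field receives
  `K₂` compatibly, together with a valuation subring of that residue field cutting out a given valuation ring of `K₂`.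
* `exists_coarsening`: for a dominating extension `C'` of `comp V D`, the localisation `V'` of `C'` dominating `V`,
  the induced map of residue fields and the image of `C'` in the residue field of `V'`.
-/

set_option autoImplicit false
universe u

open IsLocalRing

namespace Groth.Agent.Lib.Seat43.CompVal

section Comp

variable {L : Type u} [Field L]

lemma residue_eq_zero_of_valuation_lt (V : ValuationSubring L) (x : L) (hx : V.valuation x < 1) :
    ∃ h : x ∈ V, residue V ⟨x, h⟩ = 0 := by
  have h : x ∈ V := (V.valuation_le_one_iff x).1 hx.le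
  refine ⟨h, ?_⟩
  rw [residue_eq_zero_iff]
  exact (V.valuation_lt_one_iff ⟨x, h⟩).2 hx

lemma inv_mem_of_valuation_eq_one (V : ValuationSubring L) (x : L) (hx : V.valuation x = 1) :
    x⁻¹ ∈ V := by
  rw [← V.valuation_le_one_iff, map_inv₀, hx, inv_one]

lemma residue_inv (V : ValuationSubring L) (x : L) (hx : x ∈ V) (hx' : x⁻¹ ∈ V) (h0 : x ≠ 0) :
    residue V ⟨x⁻¹, hx'⟩ = (residue V ⟨x, hx⟩)⁻¹ := by
  apply eq_inv_of_mul_eq_one_left
  rw [← map_mul]
  have : (⟨x⁻¹, hx'⟩ : V) * ⟨x, hx⟩ = 1 := by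
    apply Subtype.ext
    show x⁻¹ * x = 1
    exact inv_mul_cancel₀ h0
  rw [this, map_one]

/-- the composite of a valuation subring `V` with a valuation subring `D` of its residue field. -/
def comp (V : ValuationSubring L) (D : ValuationSubring (ResidueField V)) : ValuationSubring L where
  carrier := {x | ∃ h : x ∈ V, residue V ⟨x, h⟩ ∈ D}
  mul_mem' := by
    rintro a b ⟨ha, ha'⟩ ⟨hb, hb'⟩
    refine ⟨V.mul_mem _ _ ha hb, ?_⟩
    have : (⟨a * b, V.mul_mem _ _ ha hb⟩ : V) = ⟨a, ha⟩ * ⟨b, hb⟩ := rfl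
    rw [this, map_mul]
    exact D.mul_mem _ _ ha' hb'
  one_mem' := by
    refine ⟨V.one_mem, ?_⟩
    have : (⟨1, V.one_mem⟩ : V) = 1 := rfl
    rw [this, map_one]
    exact D.one_mem
  add_mem' := by
    rintro a b ⟨ha, ha'⟩ ⟨hb, hb'⟩
    refine ⟨V.add_mem _ _ ha hb, ?_⟩
    have : (⟨a + b, V.add_mem _ _ ha hb⟩ : V) = ⟨a, ha⟩ + ⟨b, hb⟩ := rfl
    rw [this, map_add]
    exact D.add_mem _ _ ha' hb'
  zero_mem' := by
    refine ⟨V.zero_mem, ?_⟩
    have : (⟨0, V.zero_mem⟩ : V) = 0 := rfl
    rw [this, map_zero]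
    exact D.zero_mem
  neg_mem' := by
    rintro a ⟨ha, ha'⟩
    refine ⟨V.neg_mem _ ha, ?_⟩
    have : (⟨-a, V.neg_mem _ ha⟩ : V) = -⟨a, ha⟩ := rfl
    rw [this, map_neg]
    exact D.neg_mem _ ha'
  mem_or_inv_mem' := by
    intro x
    rcases lt_trichotomy (V.valuation x) 1 with h | h | h
    · left
      obtain ⟨hx, h0⟩ := residue_eq_zero_of_valuation_lt V x h
      exact ⟨hx, by rw [h0]; exact D.zero_mem⟩
    · have hx : x ∈ V := (V.valuation_le_one_iff x).1 h.le
      have hx' : x⁻¹ ∈ V := inv_mem_of_valuation_eq_one V x h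
      have h0 : x ≠ 0 := by
        rintro rfl
        rw [map_zero] at h
        exact zero_ne_one h
      rcases D.mem_or_inv_mem (residue V ⟨x, hx⟩) with hD | hD
      · exact Or.inl ⟨hx, hD⟩
      · right
        refine ⟨hx', ?_⟩
        rw [residue_inv V x hx hx' h0]
        exact hD
    · right
      have h' : V.valuation x⁻¹ < 1 := by
        rw [map_inv₀]
        exact inv_lt_one_of_one_lt₀ h
      obtain ⟨hx, h0⟩ := residue_eq_zero_of_valuation_lt V x⁻¹ h'
      exact ⟨hx, by rw [h0]; exact D.zero_mem⟩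

lemma mem_comp {V : ValuationSubring L} {D : ValuationSubring (ResidueField V)} {x : L} :
    x ∈ comp V D ↔ ∃ h : x ∈ V, residue V ⟨x, h⟩ ∈ D := Iff.rfl

lemma comp_le (V : ValuationSubring L) (D : ValuationSubring (ResidueField V)) : comp V D ≤ V :=
  fun _ hx => hx.1

/-- elements of `V` outside the composite are inverses of elements of the composite that are units of `V`. -/
lemma inv_mem_comp_of_not_mem {V : ValuationSubring L} {D : ValuationSubring (ResidueField V)} {x : L}
    (hx : x ∈ V) (hx' : x ∉ comp V D) :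
    x⁻¹ ∈ comp V D ∧ V.valuation x = 1 := by
  have h1 : V.valuation x = 1 := by
    rcases V.valuation_lt_one_or_eq_one ⟨x, hx⟩ with h | h
    · exfalso
      obtain ⟨hx2, h0⟩ := residue_eq_zero_of_valuation_lt V x h
      exact hx' ⟨hx2, by rw [h0]; exact D.zero_mem⟩
    · exact h
  refine ⟨?_, h1⟩
  have hxi : x⁻¹ ∈ V := inv_mem_of_valuation_eq_one V x h1
  have h0 : x ≠ 0 := by
    rintro rfl
    rw [map_zero] at h1
    exact zero_ne_one h1
  refine ⟨hxi, ?_⟩
  rw [residue_inv V x hx hxi h0]
  rcases D.mem_or_inv_mem (residue V ⟨x, hx⟩) with hD | hD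
  · exact absurd ⟨hx, hD⟩ hx'
  · exact hD

end Comp

section Residue

variable {B F K₂ A₂ : Type u} [CommRing B] [Field F] [Field K₂] [CommRing A₂] [IsDomain A₂]
  [ValuationRing A₂] [Algebra A₂ K₂] [IsFractionRing A₂ K₂]

/-- a valuation ring of an extension of `F` containing the image of `B` whose residue field receives `K₂`. -/
theorem exists_valSubring_residue (β : B →+* F) (κ : B →+* K₂) (hker : RingHom.ker β ≤ RingHom.ker κ) :
    ∃ (L₁ : Type u) (_ : Field L₁) (ιF : F →+* L₁) (V : ValuationSubring L₁)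
      (hV : ∀ x, ιF (β x) ∈ V) (ιK : K₂ →+* ResidueField V),
      ∀ x : B, residue V ⟨ιF (β x), hV x⟩ = ιK (κ x) := by
  classical
  let T := MvPolynomial K₂ B
  let ev : T →+* K₂ := MvPolynomial.eval₂Hom κ id
  let L₁ := FractionRing (MvPolynomial K₂ F)
  let γ : T →+* L₁ := (algebraMap (MvPolynomial K₂ F) L₁).comp (MvPolynomial.map β)
  have hγ : ∀ p : T, γ p = 0 → ev p = 0 := by
    intro p hp
    have h1 : MvPolynomial.map β p = 0 :=
      (IsFractionRing.injective (MvPolynomial K₂ F) L₁) (hp.trans (map_zero _).symm)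
    have h2 : MvPolynomial.map κ p = 0 := by
      ext m
      rw [MvPolynomial.coeff_map, MvPolynomial.coeff_zero]
      have h3 : β (MvPolynomial.coeff m p) = 0 := by
        rw [← MvPolynomial.coeff_map, h1, MvPolynomial.coeff_zero]
      exact hker h3
    show MvPolynomial.eval₂ κ id p = 0
    rw [MvPolynomial.eval₂_eq_eval_map, h2, map_zero]
  let 𝔫 : Ideal T := RingHom.ker ev
  have h𝔫 : 𝔫.IsPrime := RingHom.ker_isPrime ev
  have hunit : ∀ y : 𝔫.primeCompl, IsUnit (γ y) := by
    intro y
    apply IsUnit.mk0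
    intro h0
    exact y.2 (hγ _ h0)
  let γ' : Localization.AtPrime 𝔫 →+* L₁ := IsLocalization.lift (M := 𝔫.primeCompl) hunit
  have hγ' : ∀ p : T, γ' (algebraMap T (Localization.AtPrime 𝔫) p) = γ p :=
    fun p => IsLocalization.lift_eq hunit p
  obtain ⟨V, hVmem, hloc⟩ := IsLocalRing.exists_factor_valuationRing γ'
  let ιF : F →+* L₁ := (algebraMap (MvPolynomial K₂ F) L₁).comp MvPolynomial.C
  have hιF : ∀ x : B, ιF (β x) = γ' (algebraMap T (Localization.AtPrime 𝔫) (MvPolynomial.C x)) := by
    intro x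
    rw [hγ']
    show algebraMap (MvPolynomial K₂ F) L₁ (MvPolynomial.C (β x)) =
      algebraMap (MvPolynomial K₂ F) L₁ (MvPolynomial.map β (MvPolynomial.C x))
    rw [MvPolynomial.map_C]
  have hV : ∀ x, ιF (β x) ∈ V := by
    intro x
    rw [hιF]
    exact hVmem _
  let g : T →+* ResidueField V :=
    (residue V).comp ((γ'.codRestrict V.toSubring hVmem).comp
      (algebraMap T (Localization.AtPrime 𝔫)))
  have hle : RingHom.ker ev ≤ RingHom.ker g := by
    intro p hp
    rw [RingHom.mem_ker]
    show residue V ((γ'.codRestrict V.toSubring hVmem) (algebraMap T (Localization.AtPrime 𝔫) p)) = 0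
    rw [residue_eq_zero_iff]
    have h1 : algebraMap T (Localization.AtPrime 𝔫) p ∈ maximalIdeal (Localization.AtPrime 𝔫) := by
      rw [← Localization.AtPrime.map_eq_maximalIdeal]
      exact Ideal.mem_map_of_mem _ hp
    by_contra hc
    have h2 : IsUnit ((γ'.codRestrict V.toSubring hVmem)
        (algebraMap T (Localization.AtPrime 𝔫) p)) := by
      by_contra hn
      exact hc ((IsLocalRing.mem_maximalIdeal _).2 hn)
    have h3 := hloc.map_nonunit _ h2
    exact ((IsLocalRing.mem_maximalIdeal _).1 h1) h3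
  have hright : Function.RightInverse (fun t : K₂ => (MvPolynomial.X t : T)) ev := by
    intro t
    show MvPolynomial.eval₂ κ id (MvPolynomial.X t) = t
    rw [MvPolynomial.eval₂_X]
    rfl
  let ιK : K₂ →+* ResidueField V := ev.liftOfRightInverse _ hright ⟨g, hle⟩
  refine ⟨L₁, inferInstance, ιF, V, hV, ιK, fun x => ?_⟩
  have h1 : κ x = ev (MvPolynomial.C x) := by
    show κ x = MvPolynomial.eval₂ κ id (MvPolynomial.C x)
    rw [MvPolynomial.eval₂_C]
  rw [h1]
  have h2 : ιK (ev (MvPolynomial.C x)) = g (MvPolynomial.C x) :=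
    ev.liftOfRightInverse_comp_apply _ hright ⟨g, hle⟩ (MvPolynomial.C x)
  rw [h2]
  show residue V ⟨ιF (β x), hV x⟩ =
    residue V ((γ'.codRestrict V.toSubring hVmem) (algebraMap T (Localization.AtPrime 𝔫) (MvPolynomial.C x)))
  congr 1
  apply Subtype.ext
  exact hιF x

/-- a valuation subring of an extension of `K₂` cutting out the valuation ring `A₂`. -/
theorem exists_valSubring_dominating {E : Type u} [Field E] (ι : K₂ →+* E) :
    ∃ D : ValuationSubring E, ∀ y : K₂, ι y ∈ D ↔ y ∈ (algebraMap A₂ K₂).range := by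
  obtain ⟨D, hD, hloc⟩ := IsLocalRing.exists_factor_valuationRing (ι.comp (algebraMap A₂ K₂))
  refine ⟨D, fun y => ⟨fun hy => ?_, ?_⟩⟩
  · by_contra hn
    -- `y⁻¹` is a nonunit of `A₂`
    obtain ⟨a, ha⟩ : ∃ a : A₂, algebraMap A₂ K₂ a = y⁻¹ := by
      rcases ValuationRing.isInteger_or_isInteger A₂ y with ⟨a, ha⟩ | ⟨a, ha⟩
      · exact absurd ⟨a, ha⟩ hn
      · exact ⟨a, ha⟩
    have hy0 : y ≠ 0 := by
      rintro rfl
      exact hn ⟨0, map_zero _⟩
    have hau : ¬ IsUnit a := by
      intro hu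
      obtain ⟨b, hb⟩ := hu.exists_right_inv
      apply hn
      refine ⟨b, ?_⟩
      have h1 : algebraMap A₂ K₂ a * algebraMap A₂ K₂ b = 1 := by rw [← map_mul, hb, map_one]
      rw [ha] at h1
      have h2 : y * (y⁻¹ * algebraMap A₂ K₂ b) = y * 1 := by rw [h1]
      rw [← mul_assoc, mul_inv_cancel₀ hy0, one_mul, mul_one] at h2
      exact h2
    have hunit : IsUnit (((ι.comp (algebraMap A₂ K₂)).codRestrict D.toSubring hD) a) := by
      refine IsUnit.of_mul_eq_one (⟨ι y, hy⟩ : D) ?_
      apply Subtype.ext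
      show ι (algebraMap A₂ K₂ a) * ι y = 1
      rw [ha, ← map_mul, inv_mul_cancel₀ hy0, map_one]
    exact hau (hloc.map_nonunit a hunit)
  · rintro ⟨a, rfl⟩
    exact hD a

end Residue

section Coarsening

variable {L₁ : Type u} [Field L₁]

/-- a prime of a dominating extension of valuation rings lying over a given prime. -/
lemma exists_prime_over {C C' : Type u} [CommRing C] [IsDomain C] [ValuationRing C] [CommRing C']
    [IsDomain C'] [IsLocalRing C'] (φ : C →+* C') (hinj : Function.Injective φ) (hloc : IsLocalHom φ)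
    (𝔭 : Ideal C) [𝔭.IsPrime] :
    ∃ P : Ideal C', P.IsPrime ∧ P.comap φ = 𝔭 := by
  letI := φ.toAlgebra
  have htf : Module.IsTorsionFree C C' := by
    refine Module.IsTorsionFree.of_smul_eq_zero fun r m hm => ?_
    have hm' : φ r * m = 0 := hm
    rcases mul_eq_zero.1 hm' with h | h
    · left
      exact hinj (h.trans (map_zero _).symm)
    · exact Or.inr h
  have hflat : Module.Flat C C' := by
    rw [Module.Flat.flat_iff_torsion_eq_bot_of_isBezout,
      ← Submodule.isTorsionFree_iff_torsion_eq_bot]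
    exact htf
  have hmax : (maximalIdeal C').comap φ = maximalIdeal C :=
    ((IsLocalRing.local_hom_TFAE φ).out 0 4).1 hloc
  have hover : (maximalIdeal C').LiesOver (maximalIdeal C) := ⟨hmax.symm⟩
  have hle : 𝔭 ≤ maximalIdeal C := IsLocalRing.le_maximalIdeal (Ideal.IsPrime.ne_top inferInstance)
  obtain ⟨P, -, hP, hPo⟩ :=
    Ideal.exists_ideal_le_liesOver_of_le (p := 𝔭) (q := maximalIdeal C) (maximalIdeal C') hle
  exact ⟨P, hP, hPo.over.symm⟩

set_option maxHeartbeats 1000000 in
/-- for a dominating extension `C'` of the composite of `V` and `D`: the localisation `V'` of `C'` dominating `V`,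
the induced map of residue fields, and the image `A'` of `C'` in the residue field of `V'`. -/
theorem exists_coarsening (V : ValuationSubring L₁) (D : ValuationSubring (ResidueField V))
    {C' L' : Type u} [CommRing C'] [IsDomain C'] [ValuationRing C'] [Field L'] [Algebra C' L']
    [IsFractionRing C' L'] (φ : ↥(comp V D) →+* C') (ψ : L₁ →+* L')
    (hcomm : (algebraMap C' L').comp φ = ψ.comp (algebraMap ↥(comp V D) L₁)) (hloc : IsLocalHom φ) :
    ∃ (V' : ValuationSubring L') (h1 : ∀ c', algebraMap C' L' c' ∈ V') (h2 : ∀ x, x ∈ V → ψ x ∈ V')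
      (ψV : ResidueField V →+* ResidueField V') (A' : ValuationSubring (ResidueField V')),
      (∀ x (hx : x ∈ V), ψV (residue V ⟨x, hx⟩) = residue V' ⟨ψ x, h2 x hx⟩) ∧
      (∀ c', residue V' ⟨algebraMap C' L' c', h1 c'⟩ ∈ A') ∧
      (∀ z : ResidueField V, ψV z ∈ A' → z ∈ D) ∧
      (∀ z : ResidueField V, z ∈ D → ψV z ∈ A') := by
  classical
  have hφψ : ∀ c : ↥(comp V D), algebraMap C' L' (φ c) = ψ (c : L₁) :=
    fun c => congrArg (fun m => m c) hcomm
  have hinj : Function.Injective φ := by
    have h1 : Function.Injective ((algebraMap C' L').comp φ) := by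
      rw [hcomm]
      exact ψ.injective.comp Subtype.val_injective
    exact Function.Injective.of_comp h1
  let 𝔭 : Ideal ↥(comp V D) := ValuationSubring.idealOfLE (comp V D) V (comp_le V D)
  have h𝔭 : ∀ c : ↥(comp V D), c ∈ 𝔭 ↔ V.valuation (c : L₁) < 1 := by
    intro c
    show (⟨(c : L₁), comp_le V D c.2⟩ : V) ∈ maximalIdeal V ↔ _
    rw [V.valuation_lt_one_iff]
  obtain ⟨P, hP, hPcomap⟩ := exists_prime_over φ hinj hloc 𝔭
  have hPmem : ∀ c : ↥(comp V D), φ c ∈ P ↔ V.valuation (c : L₁) < 1 := by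
    intro c
    rw [← h𝔭, ← hPcomap]
    rfl
  -- `C'` as a valuation subring of `L'`
  let C's : ValuationSubring L' := (ValuationRing.valuation C' L').valuationSubring
  let eC : C' ≃+* ↥C's := ValuationRing.equivInteger C' L'
  have heC : ∀ c' : C', ((eC c' : ↥C's) : L') = algebraMap C' L' c' :=
    fun c' => ValuationRing.coe_equivInteger_apply C' L' c'
  let P's : Ideal ↥C's := P.comap eC.symm.toRingHom
  have hP's : P's.IsPrime := Ideal.comap_isPrime _ _
  let V' : ValuationSubring L' := C's.ofPrime P's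
  have h1 : ∀ c', algebraMap C' L' c' ∈ V' := by
    intro c'
    apply C's.le_ofPrime P's
    rw [← heC c']
    exact (eC c').2
  -- the key fact: the maximal ideal of `V'` restricts to `P`
  have hK1 : ∀ c' : C', (⟨algebraMap C' L' c', h1 c'⟩ : V') ∈ maximalIdeal V' ↔ c' ∈ P := by
    intro c'
    have h := ValuationSubring.idealOfLE_ofPrime C's P's
    have h' : eC c' ∈ ValuationSubring.idealOfLE C's (C's.ofPrime P's) (C's.le_ofPrime P's) ↔
        eC c' ∈ P's := by rw [h]
    have h3 : eC c' ∈ P's ↔ c' ∈ P := by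
      show eC.symm (eC c') ∈ P ↔ _
      rw [RingEquiv.symm_apply_apply]
    rw [← h3, ← h']
    show _ ↔ (C's.inclusion V' (C's.le_ofPrime P's) (eC c')) ∈ maximalIdeal V'
    have : (C's.inclusion V' (C's.le_ofPrime P's) (eC c')) = ⟨algebraMap C' L' c', h1 c'⟩ := by
      apply Subtype.ext
      exact heC c'
    rw [this]
  have h2 : ∀ x, x ∈ V → ψ x ∈ V' := by
    intro x hx
    by_cases hxC : x ∈ comp V D
    · rw [← hφψ ⟨x, hxC⟩]
      exact h1 _
    · obtain ⟨hinv, hval⟩ := inv_mem_comp_of_not_mem hx hxC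
      have hs : φ ⟨x⁻¹, hinv⟩ ∉ P := by
        rw [hPmem]
        show ¬ V.valuation x⁻¹ < 1
        rw [map_inv₀, hval, inv_one]
        exact lt_irrefl _
      have hs' : (⟨algebraMap C' L' (φ ⟨x⁻¹, hinv⟩), h1 _⟩ : V') ∉ maximalIdeal V' := by
        rw [hK1]
        exact hs
      have hu : V'.valuation (algebraMap C' L' (φ ⟨x⁻¹, hinv⟩)) = 1 := by
        rcases V'.valuation_lt_one_or_eq_one ⟨_, h1 (φ ⟨x⁻¹, hinv⟩)⟩ with h | h
        · exact absurd ((V'.valuation_lt_one_iff _).2 h) hs'
        · exact h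
      have := inv_mem_of_valuation_eq_one V' _ hu
      rw [hφψ ⟨x⁻¹, hinv⟩] at this
      have h3 : (ψ x⁻¹)⁻¹ = ψ x := by rw [map_inv₀, inv_inv]
      rw [← h3]
      exact this
  -- the local homomorphism `V → V'`
  let ψVr : ↥V →+* ↥V' := (ψ.comp V.subtype).codRestrict V'.toSubring (fun x => h2 x x.2)
  have hψVr : IsLocalHom ψVr := by
    refine ⟨fun x hx => ?_⟩
    by_contra hnu
    have hlt : V.valuation (x : L₁) < 1 := (V.valuation_lt_one_iff x).1 ((mem_maximalIdeal x).2 hnu)
    obtain ⟨hxV, h0⟩ := residue_eq_zero_of_valuation_lt V x hlt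
    have hxC : (x : L₁) ∈ comp V D := ⟨hxV, by rw [h0]; exact D.zero_mem⟩
    have hφP : φ ⟨x, hxC⟩ ∈ P := (hPmem ⟨x, hxC⟩).2 hlt
    have hmem : (⟨algebraMap C' L' (φ ⟨x, hxC⟩), h1 _⟩ : V') ∈ maximalIdeal V' := (hK1 _).2 hφP
    have heq : (⟨algebraMap C' L' (φ ⟨x, hxC⟩), h1 _⟩ : V') = ψVr x := by
      apply Subtype.ext
      exact hφψ ⟨x, hxC⟩
    rw [heq] at hmem
    exact ((mem_maximalIdeal _).1 hmem) hx
  let ψV : ResidueField V →+* ResidueField V' := ResidueField.map ψVr
  -- the image of `C'` in the residue field of `V'`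
  let ρ' : C' →+* ResidueField V' :=
    (residue V').comp ((algebraMap C' L').codRestrict V'.toSubring h1)
  have hρ' : ∀ c', ρ' c' = residue V' ⟨algebraMap C' L' c', h1 c'⟩ := fun _ => rfl
  have hcoe : ∀ a : ↥C's, (a : L') = algebraMap C' L' (eC.symm a) := by
    intro a
    have h4 := heC (eC.symm a)
    rw [RingEquiv.apply_symm_apply] at h4
    exact h4
  have htotal : ∀ z : ResidueField V', z ∈ ρ'.range ∨ z⁻¹ ∈ ρ'.range := by
    intro z
    obtain ⟨y, rfl⟩ := residue_surjective z
    obtain ⟨a, s, hs, hy⟩ : ∃ (a s : ↥C's) (_ : s ∈ P's.primeCompl),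
        (y : L') = (a : L') * (s : L')⁻¹ := y.2
    have hs0 : (s : L') ≠ 0 := by
      intro h0
      apply hs
      have : s = 0 := Subtype.ext h0
      rw [this]
      exact Ideal.zero_mem _
    rcases ValuationRing.dvd_total (eC.symm a) (eC.symm s) with ⟨t, ht⟩ | ⟨t, ht⟩
    · -- `s = a * t`
      have ht' : (s : L') = (a : L') * algebraMap C' L' t := by
        rw [hcoe s, ht, map_mul, ← hcoe a]
      have ha0 : (a : L') ≠ 0 := by
        intro h0
        rw [h0, zero_mul] at ht'
        exact hs0 ht'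
      have ht0 : algebraMap C' L' t ≠ 0 := by
        intro h0
        rw [h0, mul_zero] at ht'
        exact hs0 ht'
      have hyt : (y : L') * algebraMap C' L' t = 1 := by
        rw [hy, ht']
        field_simp
      right
      refine ⟨t, ?_⟩
      rw [hρ']
      symm
      apply inv_eq_of_mul_eq_one_right
      rw [← map_mul]
      have : y * (⟨algebraMap C' L' t, h1 t⟩ : V') = 1 := Subtype.ext hyt
      rw [this, map_one]
    · -- `a = s * t`
      left
      refine ⟨t, ?_⟩
      rw [hρ']
      congr 1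
      apply Subtype.ext
      show algebraMap C' L' t = (y : L')
      have ht' : (a : L') = (s : L') * algebraMap C' L' t := by
        rw [hcoe a, ht, map_mul, ← hcoe s]
      rw [hy, ht', mul_comm (s : L'), mul_assoc, mul_inv_cancel₀ hs0, mul_one]
  let A' : ValuationSubring (ResidueField V') := ValuationSubring.ofSubring ρ'.range htotal
  refine ⟨V', h1, h2, ψV, A', ?_, ?_, ?_, ?_⟩
  · intro x hx
    exact ResidueField.map_residue ψVr ⟨x, hx⟩
  · intro c'
    exact ⟨c', rfl⟩
  · intro z hz
    by_contra hzD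
    have hz0 : z ≠ 0 := by
      rintro rfl
      exact hzD D.zero_mem
    have hzi : z⁻¹ ∈ D := by
      rcases D.mem_or_inv_mem z with h | h
      · exact absurd h hzD
      · exact h
    obtain ⟨y, hy⟩ := residue_surjective (z⁻¹)
    have hyC : (y : L₁) ∈ comp V D := ⟨y.2, by rw [hy]; exact hzi⟩
    let c : ↥(comp V D) := ⟨y, hyC⟩
    have hcu : ¬ IsUnit c := by
      intro hu
      obtain ⟨d, hd⟩ := hu.exists_right_inv
      have hdV : (d : L₁) ∈ V := comp_le V D d.2
      have hdD : residue V ⟨d, hdV⟩ ∈ D := d.2.2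
      have hmul : residue V y * residue V ⟨d, hdV⟩ = 1 := by
        rw [← map_mul]
        have : y * (⟨d, hdV⟩ : V) = 1 := by
          apply Subtype.ext
          exact congrArg (fun m : ↥(comp V D) => (m : L₁)) hd
        rw [this, map_one]
      rw [hy] at hmul
      have : residue V ⟨d, hdV⟩ = z := by
        have h5 := eq_inv_of_mul_eq_one_right hmul
        rw [inv_inv] at h5
        exact h5
      rw [this] at hdD
      exact hzD hdD
    have hφc : φ c ∈ maximalIdeal C' := by
      rw [mem_maximalIdeal]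
      intro hu
      exact hcu (hloc.map_nonunit c hu)
    obtain ⟨c'', hc''⟩ : ∃ c'', ρ' c'' = ψV z := hz
    have hψVzi : ψV z⁻¹ = ρ' (φ c) := by
      rw [← hy]
      have h6 : ψV (residue V y) = residue V' (ψVr y) := ResidueField.map_residue ψVr y
      rw [h6, hρ']
      congr 1
      apply Subtype.ext
      exact (hφψ c).symm
    have hone : ρ' (c'' * φ c - 1) = 0 := by
      rw [map_sub, map_mul, hc'', ← hψVzi, ← map_mul, mul_inv_cancel₀ hz0, map_one, map_one, sub_self]
    have hmemP : c'' * φ c - 1 ∈ P := by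
      rw [← hK1]
      rw [hρ', residue_eq_zero_iff] at hone
      exact hone
    have hPle : P ≤ maximalIdeal C' := IsLocalRing.le_maximalIdeal hP.ne_top
    have h7 : c'' * φ c ∈ maximalIdeal C' := Ideal.mul_mem_left _ _ hφc
    have h8 : (1 : C') ∈ maximalIdeal C' := by
      have := Ideal.sub_mem _ h7 (hPle hmemP)
      rw [sub_sub_cancel] at this
      exact this
    exact (Ideal.ne_top_iff_one _).1 (IsLocalRing.maximalIdeal.isMaximal C').ne_top h8
  · intro z hz
    obtain ⟨y, hy⟩ := residue_surjective z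
    have hyC : (y : L₁) ∈ comp V D := ⟨y.2, by rw [hy]; exact hz⟩
    refine ⟨φ ⟨y, hyC⟩, ?_⟩
    rw [← hy]
    have h6 : ψV (residue V y) = residue V' (ψVr y) := ResidueField.map_residue ψVr y
    rw [h6, hρ']
    congr 1
    apply Subtype.ext
    exact hφψ ⟨y, hyC⟩

end Coarsening

end Groth.Agent.Lib.Seat43.CompVal
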