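import Mathlib
import Groth.Agent.S13210
import Groth.Agent.Lib.Seat47FamSheaf

/-!
# Factoring through monomorphisms of fppf sheaves (seat 43)
-/

set_option autoImplicit false
universe u
open CategoryTheory CategoryTheory.Limits AlgebraicGeometry Opposite
open AlgSp Groth.Agent.S13210

namespace Groth.Agent.Lib.Seat43.MonoFactor

variable {S : Scheme.{u}}

lemma yEquiv_symm_map {X : AlgSp.Sp S} {T T' : Over S} (g : T' ⟶ T) (ξ : X.obj.obj (op T)) :
    (yEquiv T' X).symm (X.obj.map g.op ξ) = (AlgSp.yon S).map g ≫ (yEquiv T X).symm ξ :=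
  ((AlgSp.J S).uliftYonedaEquiv_symm_naturality_left g X ξ).symm

lemma map_yEquiv {G : AlgSp.Sp S} {T T' : Over S} (g : T' ⟶ T) (a : (AlgSp.yon S).obj T ⟶ G) :
    G.obj.map g.op (yEquiv T G a) = yEquiv T' G ((AlgSp.yon S).map g ≫ a) := by
  apply (yEquiv T' G).symm.injective
  rw [yEquiv_symm_map, Equiv.symm_apply_apply, Equiv.symm_apply_apply]

/-- a point of `G` which factors through the monomorphism `i` locally for the fppf topology
factors through `i`. -/
lemma factors_of_sieve {F G : AlgSp.Sp S} (i : F ⟶ G) [Mono i] {T : Over S}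
    (a : (AlgSp.yon S).obj T ⟶ G) (Sv : Sieve T) (hSv : Sv ∈ AlgSp.J S T)
    (H : ∀ ⦃T' : Over S⦄ (h : T' ⟶ T), Sv h →
      ∃ w : (AlgSp.yon S).obj T' ⟶ F, w ≫ i = (AlgSp.yon S).map h ≫ a) :
    ∃ w : (AlgSp.yon S).obj T ⟶ F, w ≫ i = a := by
  have hF : Presieve.IsSheaf (AlgSp.J S) F.obj := (isSheaf_iff_isSheaf_of_type _ _).1 F.property
  have hG : Presieve.IsSheaf (AlgSp.J S) G.obj := (isSheaf_iff_isSheaf_of_type _ _).1 G.property
  let x : Presieve.FamilyOfElements F.obj Sv.arrows :=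
    fun T' h hh => yEquiv T' F (H h hh).choose
  have hx : x.Compatible := by
    intro Y₁ Y₂ W g₁ g₂ f₁ f₂ h₁ h₂ e
    show F.obj.map g₁.op (yEquiv Y₁ F (H f₁ h₁).choose) =
      F.obj.map g₂.op (yEquiv Y₂ F (H f₂ h₂).choose)
    rw [map_yEquiv, map_yEquiv]
    congr 1
    rw [← cancel_mono i, Category.assoc, Category.assoc, (H f₁ h₁).choose_spec,
      (H f₂ h₂).choose_spec, ← Category.assoc, ← Category.assoc, ← Functor.map_comp,
      ← Functor.map_comp, e]
  obtain ⟨ξ, hξ, -⟩ := hF Sv hSv x hx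
  refine ⟨(yEquiv T F).symm ξ, ?_⟩
  apply (yEquiv T G).injective
  refine (hG Sv hSv).isSeparatedFor.ext ?_
  intro T' h hh
  rw [map_yEquiv, map_yEquiv]
  congr 1
  have h1 : F.obj.map h.op ξ = yEquiv T' F (H h hh).choose := hξ h hh
  have h2 : (AlgSp.yon S).map h ≫ (yEquiv T F).symm ξ = (H h hh).choose := by
    rw [← yEquiv_symm_map, h1, Equiv.symm_apply_apply]
  rw [← Category.assoc, h2, (H h hh).choose_spec]

/-- a point of `G` which factors through the monomorphism `i` after restriction along a flat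
surjective morphism locally of finite presentation factors through `i`. -/
lemma factors_of_cover {F G : AlgSp.Sp S} (i : F ⟶ G) [Mono i] {T T' : Over S}
    (a : (AlgSp.yon S).obj T ⟶ G) (g : T' ⟶ T) [Flat g.left]
    [LocallyOfFinitePresentation g.left] [Surjective g.left]
    (w' : (AlgSp.yon S).obj T' ⟶ F) (hw' : w' ≫ i = (AlgSp.yon S).map g ≫ a) :
    ∃ w : (AlgSp.yon S).obj T ⟶ F, w ≫ i = a := by
  have hcov : Sieve.generate (Presieve.ofArrows (fun _ : PUnit.{1} => T') (fun _ => g)) ∈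
      AlgSp.J S T :=
    Groth.Agent.Lib.Seat47.FamSheaf.generate_ofArrows_mem_J (fun _ : PUnit.{1} => T')
      (fun _ => g) (fun _ => ⟨inferInstance, inferInstance⟩)
      (fun t => ⟨PUnit.unit, g.left.surjective t⟩)
  refine factors_of_sieve i a _ hcov ?_
  rintro T'' h ⟨T₁, b, c, ⟨_⟩, rfl⟩
  refine ⟨(AlgSp.yon S).map b ≫ w', ?_⟩
  rw [Category.assoc, hw', Functor.map_comp, Category.assoc]

/-- a morphism of sheaves all of whose points factor through the monomorphism `i` factors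
through `i`. -/
lemma factors_of_points {F G H : AlgSp.Sp S} (i : F ⟶ G) [Mono i] (m : H ⟶ G)
    (hyp : ∀ (T : Over S) (x : (AlgSp.yon S).obj T ⟶ H),
      ∃ w : (AlgSp.yon S).obj T ⟶ F, w ≫ i = x ≫ m) :
    ∃ m' : H ⟶ F, m' ≫ i = m := by
  let app : ∀ T : (Over S)ᵒᵖ, H.obj.obj T ⟶ F.obj.obj T := fun T => TypeCat.ofHom (fun ξ =>
    yEquiv T.unop F (hyp T.unop ((yEquiv T.unop H).symm ξ)).choose)
  have happ : ∀ (T : Over S) (x : (AlgSp.yon S).obj T ⟶ H),
      (yEquiv T F).symm (app (op T) (yEquiv T H x)) ≫ i = x ≫ m := by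
    intro T x
    show (yEquiv T F).symm (yEquiv T F (hyp T ((yEquiv T H).symm (yEquiv T H x))).choose) ≫ i = _
    rw [Equiv.symm_apply_apply, (hyp T ((yEquiv T H).symm (yEquiv T H x))).choose_spec,
      Equiv.symm_apply_apply]
  have hnat : ∀ ⦃T T' : (Over S)ᵒᵖ⦄ (g : T ⟶ T'), H.obj.map g ≫ app T' = app T ≫ F.obj.map g := by
    intro T T' g
    ext ξ
    show app T' (H.obj.map g ξ) = F.obj.map g (app T ξ)
    apply (yEquiv T'.unop F).symm.injective
    rw [← cancel_mono i]
    have e1 : H.obj.map g ξ = H.obj.map g.unop.op ξ := rfl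
    have e2 : F.obj.map g (app T ξ) = F.obj.map g.unop.op (app T ξ) := rfl
    have e3 : ξ = yEquiv T.unop H ((yEquiv T.unop H).symm ξ) := (Equiv.apply_symm_apply _ _).symm
    rw [e2, yEquiv_symm_map, Category.assoc]
    have h3 := happ T.unop ((yEquiv T.unop H).symm ξ)
    rw [← e3] at h3
    rw [h3]
    have e4 : H.obj.map g.unop.op ξ =
        yEquiv T'.unop H ((AlgSp.yon S).map g.unop ≫ (yEquiv T.unop H).symm ξ) := by
      rw [← map_yEquiv, ← e3]
    rw [e1, e4, happ, Category.assoc]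
  let m' : H ⟶ F := ObjectProperty.homMk ({ app := app, naturality := hnat } : H.obj ⟶ F.obj)
  refine ⟨m', ?_⟩
  apply ObjectProperty.hom_ext
  apply NatTrans.ext
  funext T
  ext ξ
  show i.hom.app T (app T ξ) = m.hom.app T ξ
  obtain ⟨T⟩ := T
  have e3 : ξ = yEquiv T H ((yEquiv T H).symm ξ) := (Equiv.apply_symm_apply _ _).symm
  have h3 := happ T ((yEquiv T H).symm ξ)
  rw [← e3] at h3
  have h4 := congrArg (yEquiv T G) h3
  rw [yEquiv_comp, yEquiv_comp, Equiv.apply_symm_apply, Equiv.apply_symm_apply] at h4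
  exact h4

end Groth.Agent.Lib.Seat43.MonoFactor
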