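import Mathlib

/-!
# Flat base change of an equalizer of rings (seat 46)

Pure Mathlib.  `flat_eq_tensor`: if `f : C → E` is injective with image the equalizer of
`g h : E → E₂` (as `A`-algebras) and `B` is flat over `A`, the same holds after `- ⊗[A] B`.
`flat_eq_pushout`: the same statement in `CommRingCat`, with arbitrary pushout squares.
-/

set_option autoImplicit false
universe u

namespace Groth.Agent.Lib.Seat46.FlatEq

open TensorProduct CategoryTheory CategoryTheory.Limits

section Algebra

variable {A B C E E₂ : Type u} [CommRing A] [CommRing B] [CommRing C] [CommRing E] [CommRing E₂]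
  [Algebra A B] [Algebra A C] [Algebra A E] [Algebra A E₂] [Module.Flat A B]

lemma flat_eq_tensor (f : C →ₐ[A] E) (g h : E →ₐ[A] E₂)
    (hfg : ∀ c, g (f c) = h (f c)) (hinj : Function.Injective f)
    (hex : ∀ x, g x = h x → x ∈ Set.range f) :
    Function.Injective (Algebra.TensorProduct.map f (AlgHom.id A B)) ∧
      ∀ y, Algebra.TensorProduct.map g (AlgHom.id A B) y =
        Algebra.TensorProduct.map h (AlgHom.id A B) y →
        y ∈ Set.range (Algebra.TensorProduct.map f (AlgHom.id A B)) := by
  have hexact : Function.Exact f.toLinearMap (g.toLinearMap - h.toLinearMap) := by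
    intro x
    constructor
    · intro hx
      have : g x = h x := by
        have := hx
        simp only [LinearMap.sub_apply, AlgHom.toLinearMap_apply, sub_eq_zero] at this
        exact this
      exact hex x this
    · rintro ⟨c, rfl⟩
      simp only [LinearMap.sub_apply, AlgHom.toLinearMap_apply, sub_eq_zero]
      exact hfg c
  have hexact' := Module.Flat.rTensor_exact B hexact
  have hinj' : Function.Injective (f.toLinearMap.rTensor B) :=
    Module.Flat.rTensor_preserves_injective_linearMap f.toLinearMap hinj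
  have hmap : ∀ (k : C →ₐ[A] E) (y : C ⊗[A] B),
      Algebra.TensorProduct.map k (AlgHom.id A B) y = k.toLinearMap.rTensor B y := by
    intro k y
    induction y using TensorProduct.induction_on with
    | zero => simp
    | tmul c b => simp
    | add y z hy hz => rw [map_add, map_add, hy, hz]
  have hmap' : ∀ (k : E →ₐ[A] E₂) (y : E ⊗[A] B),
      Algebra.TensorProduct.map k (AlgHom.id A B) y = k.toLinearMap.rTensor B y := by
    intro k y
    induction y using TensorProduct.induction_on with
    | zero => simp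
    | tmul c b => simp
    | add y z hy hz => rw [map_add, map_add, hy, hz]
  constructor
  · intro y z hyz
    rw [hmap, hmap] at hyz
    exact hinj' hyz
  · intro y hy
    rw [hmap', hmap'] at hy
    have : (g.toLinearMap - h.toLinearMap).rTensor B y = 0 := by
      rw [LinearMap.rTensor_sub, LinearMap.sub_apply, hy, sub_self]
    obtain ⟨x, hx⟩ := (hexact' y).1 this
    exact ⟨x, by rw [hmap]; exact hx⟩

end Algebra

section Cat

open CommRingCat

/-- flat base change of an equalizer, for arbitrary pushout squares of commutative rings. -/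
lemma flat_eq_pushout {A B C E E₂ C' E' E₂' : CommRingCat.{u}}
    (αC : A ⟶ C) (αE : A ⟶ E) (α₂ : A ⟶ E₂) (b : A ⟶ B) (hb : b.hom.Flat)
    (f : C ⟶ E) (g h : E ⟶ E₂) (hf : αC ≫ f = αE) (hg : αE ≫ g = α₂) (hh : αE ≫ h = α₂)
    (hfg : f ≫ g = f ≫ h)
    {γC : C ⟶ C'} {βC : B ⟶ C'} (PC : IsPushout αC b γC βC)
    {γE : E ⟶ E'} {βE : B ⟶ E'} (PE : IsPushout αE b γE βE)
    {γ₂ : E₂ ⟶ E₂'} {β₂ : B ⟶ E₂'} (P2 : IsPushout α₂ b γ₂ β₂)
    (f' : C' ⟶ E') (g' h' : E' ⟶ E₂')
    (hf1 : γC ≫ f' = f ≫ γE) (hf2 : βC ≫ f' = βE)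
    (hg1 : γE ≫ g' = g ≫ γ₂) (hg2 : βE ≫ g' = β₂)
    (hh1 : γE ≫ h' = h ≫ γ₂) (hh2 : βE ≫ h' = β₂)
    (hinj : Function.Injective f.hom) (hex : ∀ x, g.hom x = h.hom x → x ∈ Set.range f.hom) :
    Function.Injective f'.hom ∧ ∀ y, g'.hom y = h'.hom y → y ∈ Set.range f'.hom := by
  algebraize [αC.hom, αE.hom, α₂.hom, b.hom]
  let fa : C →ₐ[A] E := ⟨f.hom, fun r => by
    have := congr($(hf).hom r); exact this⟩
  let ga : E →ₐ[A] E₂ := ⟨g.hom, fun r => by
    have := congr($(hg).hom r); exact this⟩
  let ha : E →ₐ[A] E₂ := ⟨h.hom, fun r => by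
    have := congr($(hh).hom r); exact this⟩
  obtain ⟨R1, R2⟩ := flat_eq_tensor (B := B) fa ga ha
    (fun c => by have := congr($(hfg).hom c); exact this) hinj hex
  have PC' : IsPushout (ofHom (algebraMap A C)) (ofHom (algebraMap A B)) γC βC := PC
  have PE' : IsPushout (ofHom (algebraMap A E)) (ofHom (algebraMap A B)) γE βE := PE
  have P2' : IsPushout (ofHom (algebraMap A E₂)) (ofHom (algebraMap A B)) γ₂ β₂ := P2
  let eC := (CommRingCat.isPushout_tensorProduct A C B).isoIsPushout _ _ PC'
  let eE := (CommRingCat.isPushout_tensorProduct A E B).isoIsPushout _ _ PE'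
  let e2 := (CommRingCat.isPushout_tensorProduct A E₂ B).isoIsPushout _ _ P2'
  have hCl : ofHom (S := C ⊗[A] B) Algebra.TensorProduct.includeLeftRingHom ≫ eC.hom = γC :=
    IsPushout.inl_isoIsPushout_hom _ _ _ _
  have hCr : ofHom (S := C ⊗[A] B) Algebra.TensorProduct.includeRight.toRingHom ≫ eC.hom = βC :=
    IsPushout.inr_isoIsPushout_hom _ _ _ _
  have hEl : ofHom (S := E ⊗[A] B) Algebra.TensorProduct.includeLeftRingHom ≫ eE.hom = γE :=
    IsPushout.inl_isoIsPushout_hom _ _ _ _
  have hEr : ofHom (S := E ⊗[A] B) Algebra.TensorProduct.includeRight.toRingHom ≫ eE.hom = βE :=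
    IsPushout.inr_isoIsPushout_hom _ _ _ _
  have h2l : ofHom (S := E₂ ⊗[A] B) Algebra.TensorProduct.includeLeftRingHom ≫ e2.hom = γ₂ :=
    IsPushout.inl_isoIsPushout_hom _ _ _ _
  have h2r : ofHom (S := E₂ ⊗[A] B) Algebra.TensorProduct.includeRight.toRingHom ≫ e2.hom = β₂ :=
    IsPushout.inr_isoIsPushout_hom _ _ _ _
  clear_value eC eE e2
  have hcf : eC.hom ≫ f' =
      ofHom (Algebra.TensorProduct.map fa (AlgHom.id A B)).toRingHom ≫ eE.hom := by
    apply (CommRingCat.isPushout_tensorProduct A C B).hom_ext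
    · rw [reassoc_of% hCl, hf1]
      have : ofHom (S := C ⊗[A] B) Algebra.TensorProduct.includeLeftRingHom ≫
          ofHom (Algebra.TensorProduct.map fa (AlgHom.id A B)).toRingHom =
          f ≫ ofHom (S := E ⊗[A] B) Algebra.TensorProduct.includeLeftRingHom := by
        ext x; simp [fa]
      rw [reassoc_of% this, hEl]
    · rw [reassoc_of% hCr, hf2]
      have : ofHom (S := C ⊗[A] B) Algebra.TensorProduct.includeRight.toRingHom ≫
          ofHom (Algebra.TensorProduct.map fa (AlgHom.id A B)).toRingHom =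
          ofHom (S := E ⊗[A] B) Algebra.TensorProduct.includeRight.toRingHom := by
        ext x; simp
      rw [reassoc_of% this, hEr]
  have hcg : eE.hom ≫ g' =
      ofHom (Algebra.TensorProduct.map ga (AlgHom.id A B)).toRingHom ≫ e2.hom := by
    apply (CommRingCat.isPushout_tensorProduct A E B).hom_ext
    · rw [reassoc_of% hEl, hg1]
      have : ofHom (S := E ⊗[A] B) Algebra.TensorProduct.includeLeftRingHom ≫
          ofHom (Algebra.TensorProduct.map ga (AlgHom.id A B)).toRingHom =
          g ≫ ofHom (S := E₂ ⊗[A] B) Algebra.TensorProduct.includeLeftRingHom := by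
        ext x; simp [ga]
      rw [reassoc_of% this, h2l]
    · rw [reassoc_of% hEr, hg2]
      have : ofHom (S := E ⊗[A] B) Algebra.TensorProduct.includeRight.toRingHom ≫
          ofHom (Algebra.TensorProduct.map ga (AlgHom.id A B)).toRingHom =
          ofHom (S := E₂ ⊗[A] B) Algebra.TensorProduct.includeRight.toRingHom := by
        ext x; simp
      rw [reassoc_of% this, h2r]
  have hch : eE.hom ≫ h' =
      ofHom (Algebra.TensorProduct.map ha (AlgHom.id A B)).toRingHom ≫ e2.hom := by
    apply (CommRingCat.isPushout_tensorProduct A E B).hom_ext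
    · rw [reassoc_of% hEl, hh1]
      have : ofHom (S := E ⊗[A] B) Algebra.TensorProduct.includeLeftRingHom ≫
          ofHom (Algebra.TensorProduct.map ha (AlgHom.id A B)).toRingHom =
          h ≫ ofHom (S := E₂ ⊗[A] B) Algebra.TensorProduct.includeLeftRingHom := by
        ext x; simp [ha]
      rw [reassoc_of% this, h2l]
    · rw [reassoc_of% hEr, hh2]
      have : ofHom (S := E ⊗[A] B) Algebra.TensorProduct.includeRight.toRingHom ≫
          ofHom (Algebra.TensorProduct.map ha (AlgHom.id A B)).toRingHom =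
          ofHom (S := E₂ ⊗[A] B) Algebra.TensorProduct.includeRight.toRingHom := by
        ext x; simp
      rw [reassoc_of% this, h2r]
  -- elementwise forms
  have ecf : ∀ x : C ⊗[A] B, f'.hom (eC.hom.hom x) =
      eE.hom.hom (Algebra.TensorProduct.map fa (AlgHom.id A B) x) := fun x => by
    have := congr($(hcf).hom x); exact this
  have ecg : ∀ x : E ⊗[A] B, g'.hom (eE.hom.hom x) =
      e2.hom.hom (Algebra.TensorProduct.map ga (AlgHom.id A B) x) := fun x => by
    have := congr($(hcg).hom x); exact this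
  have ech : ∀ x : E ⊗[A] B, h'.hom (eE.hom.hom x) =
      e2.hom.hom (Algebra.TensorProduct.map ha (AlgHom.id A B) x) := fun x => by
    have := congr($(hch).hom x); exact this
  have bij : ∀ {X Y : CommRingCat.{u}} (e : X ≅ Y), Function.Bijective e.hom.hom := fun e =>
    ConcreteCategory.bijective_of_isIso e.hom
  constructor
  · intro y z hyz
    obtain ⟨y0, rfl⟩ := (bij eC).2 y
    obtain ⟨z0, rfl⟩ := (bij eC).2 z
    rw [ecf, ecf] at hyz
    rw [R1 ((bij eE).1 hyz)]
  · intro y hy
    obtain ⟨y0, rfl⟩ := (bij eE).2 y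
    rw [ecg, ech] at hy
    obtain ⟨x0, hx0⟩ := R2 y0 ((bij e2).1 hy)
    exact ⟨eC.hom.hom x0, by rw [ecf, hx0]⟩

end Cat

end Groth.Agent.Lib.Seat46.FlatEq
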