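import Mathlib
import Groth.Agent.Lib.Seat46FlatEq
import Groth.Agent.Lib.Helper12AffineDescent

/-!
# Flat base change of the ring of invariants of an affine groupoid, scheme form (seat 46)

Pure Mathlib (plus helper12's `isPushout_appTop`).
-/

set_option autoImplicit false
universe u

namespace Groth.Agent.Lib.Seat46.FlatEqSch

open CategoryTheory CategoryTheory.Limits AlgebraicGeometry

/-- flat base change of "`Γ(T) = eq(Γ(U) ⇉ Γ(R))`". -/
lemma flat_eq_scheme {Z W T U R TW UW RW : Scheme.{u}} [IsAffine Z] [IsAffine W] (c : W ⟶ Z)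
    [Flat c] [CompactSpace T] [QuasiSeparatedSpace T] [CompactSpace U] [QuasiSeparatedSpace U]
    [CompactSpace R] [QuasiSeparatedSpace R]
    (iT : T ⟶ Z) (iU : U ⟶ Z) (iR : R ⟶ Z) (q : U ⟶ T) (s t : R ⟶ U)
    (hq : q ≫ iT = iU) (hs : s ≫ iU = iR) (ht : t ≫ iU = iR) (hst : s ≫ q = t ≫ q)
    {gT : TW ⟶ T} {jT : TW ⟶ W} (HT : IsPullback gT jT iT c)
    {gU : UW ⟶ U} {jU : UW ⟶ W} (HU : IsPullback gU jU iU c)
    {gR : RW ⟶ R} {jR : RW ⟶ W} (HR : IsPullback gR jR iR c)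
    (q' : UW ⟶ TW) (s' t' : RW ⟶ UW)
    (hq1 : q' ≫ gT = gU ≫ q) (hq2 : q' ≫ jT = jU)
    (hs1 : s' ≫ gU = gR ≫ s) (hs2 : s' ≫ jU = jR)
    (ht1 : t' ≫ gU = gR ≫ t) (ht2 : t' ≫ jU = jR)
    (hinj : Function.Injective q.appTop.hom)
    (hex : ∀ x, s.appTop.hom x = t.appTop.hom x → x ∈ Set.range q.appTop.hom) :
    Function.Injective q'.appTop.hom ∧
      ∀ y, s'.appTop.hom y = t'.appTop.hom y → y ∈ Set.range q'.appTop.hom := by
  have PT := Groth.Agent.Lib.Helper12.isPushout_appTop HT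
  have PU := Groth.Agent.Lib.Helper12.isPushout_appTop HU
  have PR := Groth.Agent.Lib.Helper12.isPushout_appTop HR
  refine Groth.Agent.Lib.Seat46.FlatEq.flat_eq_pushout iT.appTop iU.appTop iR.appTop c.appTop
    (Scheme.Hom.flat_appTop c) q.appTop s.appTop t.appTop ?_ ?_ ?_ ?_ PT PU PR
    q'.appTop s'.appTop t'.appTop ?_ ?_ ?_ ?_ ?_ ?_ hinj hex
  · rw [← Scheme.Hom.comp_appTop, hq]
  · rw [← Scheme.Hom.comp_appTop, hs]
  · rw [← Scheme.Hom.comp_appTop, ht]
  · rw [← Scheme.Hom.comp_appTop, ← Scheme.Hom.comp_appTop, hst]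
  · rw [← Scheme.Hom.comp_appTop, ← Scheme.Hom.comp_appTop, hq1]
  · rw [← Scheme.Hom.comp_appTop, hq2]
  · rw [← Scheme.Hom.comp_appTop, ← Scheme.Hom.comp_appTop, hs1]
  · rw [← Scheme.Hom.comp_appTop, hs2]
  · rw [← Scheme.Hom.comp_appTop, ← Scheme.Hom.comp_appTop, ht1]
  · rw [← Scheme.Hom.comp_appTop, ht2]

/-- a morphism of affine schemes which is bijective on global sections is an isomorphism. -/
lemma isIso_of_bijective_appTop {X Y : Scheme.{u}} [IsAffine X] [IsAffine Y] (f : X ⟶ Y)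
    (h : Function.Bijective f.appTop.hom) : IsIso f := by
  have : IsIso f.appTop := (ConcreteCategory.isIso_iff_bijective _).2 h
  exact (MorphismProperty.arrow_mk_iso_iff (MorphismProperty.isomorphisms _)
    (arrowIsoSpecΓOfIsAffine f)).mpr (inferInstanceAs (IsIso (Spec.map (f.appTop))))

/-- the comparison map from an affine flat cover of the quotient to the base change of the
affine candidate quotient is an isomorphism. -/
lemma isIso_of_flat_eq {V TW UW RW : Scheme.{u}} [IsAffine V] [IsAffine TW] [IsAffine UW]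
    (u : UW ⟶ V) [Flat u] [Surjective u] (ψ : V ⟶ TW) (q' : UW ⟶ TW) (s' t' : RW ⟶ UW)
    (hψ : u ≫ ψ = q') (hst : s' ≫ u = t' ≫ u)
    (hinj : Function.Injective q'.appTop.hom)
    (hex : ∀ y, s'.appTop.hom y = t'.appTop.hom y → y ∈ Set.range q'.appTop.hom) : IsIso ψ := by
  have hu : Function.Injective u.appTop.hom :=
    ((Flat.flat_and_surjective_iff_faithfullyFlat_of_isAffine (f := u)).1
      ⟨inferInstance, inferInstance⟩).injective
  have hcomp : ∀ x, u.appTop.hom (ψ.appTop.hom x) = q'.appTop.hom x := by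
    intro x
    rw [← hψ, Scheme.Hom.comp_appTop]
    rfl
  refine isIso_of_bijective_appTop ψ ⟨?_, ?_⟩
  · intro x y hxy
    apply hinj
    rw [← hcomp, ← hcomp, hxy]
  · intro v
    have h1 : s'.appTop.hom (u.appTop.hom v) = t'.appTop.hom (u.appTop.hom v) := by
      have := congr($(congrArg Scheme.Hom.appTop hst).hom v)
      rw [Scheme.Hom.comp_appTop, Scheme.Hom.comp_appTop] at this
      exact this
    obtain ⟨x, hx⟩ := hex _ h1
    refine ⟨x, hu ?_⟩
    rw [hcomp, hx]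

/-- the affine quotient candidate of a pair of arrows into an affine scheme: the spectrum of the
ring of invariants. -/
lemma exists_affine_coeq {U R Z : Scheme.{u}} [IsAffine Z] (s t : R ⟶ U) (a : U ⟶ Z)
    (hst : s ≫ a = t ≫ a) :
    ∃ (T : Scheme.{u}) (q : U ⟶ T) (i : T ⟶ Z), IsAffine T ∧ q ≫ i = a ∧ s ≫ q = t ≫ q ∧
      Function.Injective q.appTop.hom ∧
      ∀ x, s.appTop.hom x = t.appTop.hom x → x ∈ Set.range q.appTop.hom := by
  let C₀ : Subring Γ(U, ⊤) := RingHom.eqLocus s.appTop.hom t.appTop.hom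
  let ι : CommRingCat.of C₀ ⟶ Γ(U, ⊤) := CommRingCat.ofHom C₀.subtype
  have ha : ∀ z, a.appTop.hom z ∈ C₀ := by
    intro z
    have := congr($(congrArg Scheme.Hom.appTop hst).hom z)
    rw [Scheme.Hom.comp_appTop, Scheme.Hom.comp_appTop] at this
    exact this
  let a' : Γ(Z, ⊤) ⟶ CommRingCat.of C₀ := CommRingCat.ofHom (a.appTop.hom.codRestrict C₀ ha)
  have ha' : a' ≫ ι = a.appTop := by
    ext z; rfl
  have hι : ι ≫ s.appTop = ι ≫ t.appTop := by
    ext x
    exact x.2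
  have hqapp : (U.toSpecΓ ≫ Spec.map ι).appTop = (Scheme.ΓSpecIso (CommRingCat.of C₀)).hom ≫ ι := by
    rw [Scheme.Hom.comp_appTop, Scheme.toSpecΓ_appTop, Scheme.ΓSpecIso_naturality]
  have hbij : Function.Bijective (Scheme.ΓSpecIso (CommRingCat.of C₀)).hom.hom :=
    ConcreteCategory.bijective_of_isIso _
  refine ⟨Spec (CommRingCat.of C₀), U.toSpecΓ ≫ Spec.map ι, Spec.map a' ≫ Z.isoSpec.inv,
    inferInstance, ?_, ?_, ?_, ?_⟩
  · rw [Category.assoc, ← Category.assoc (Spec.map ι), ← Spec.map_comp, ha',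
      ← Scheme.toSpecΓ_naturality_assoc, ← Scheme.isoSpec_hom, Iso.hom_inv_id, Category.comp_id]
  · rw [Scheme.toSpecΓ_naturality_assoc, Scheme.toSpecΓ_naturality_assoc, ← Spec.map_comp,
      ← Spec.map_comp, hι]
  · rw [hqapp]
    intro x y hxy
    exact hbij.1 (Subtype.ext hxy)
  · intro x hx
    obtain ⟨y, hy⟩ := hbij.2 ⟨x, hx⟩
    refine ⟨y, ?_⟩
    rw [hqapp]
    show (ι.hom ((Scheme.ΓSpecIso (CommRingCat.of C₀)).hom.hom y)) = x
    rw [hy]
    rfl

end Groth.Agent.Lib.Seat46.FlatEqSch
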