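import Mathlib
import Groth.Agent.S10177
import Groth.Prelude.Def_AlgSpDec

/-!
# Chart chasing for étale-local properties of algebraic spaces at points (seat 45)

* `exists_common_chart`: two étale charts through the same point have a common étale refinement.
* `exists_chart_over`: given `f : F ⟶ G`, a chart of `F` at a point and an étale chart of `G` at the image,
  there is a refinement of the first chart mapping to the second.
* `hasAt_iff_forall`: for an étale local property `Q` of pointed schemes, "some chart" = "all charts".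
-/

set_option autoImplicit false
universe u

open CategoryTheory CategoryTheory.Limits AlgebraicGeometry

namespace Groth.Agent.Lib.Seat45.Charts

variable {S : Scheme.{u}}

/-- Given `g : h_T ⟶ F` and a representable étale `b : h_V ⟶ F` and points `t`, `v` with the same image,
there is a scheme `W` with an étale map to `T` and a map to `V`, and a point over both. -/
lemma exists_chart_over {F : AlgSp.Sp S} {T V : Over S} (g : (AlgSp.yon S).obj T ⟶ F)
    (b : (AlgSp.yon S).obj V ⟶ F) (hb : AlgSp.RepWith @Etale b) (t : ↥T.left) (v : ↥V.left)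
    (e : AlgSp.Points.ofPt g t = AlgSp.Points.ofPt b v) :
    ∃ (W : Over S) (p : W ⟶ T) (q : W ⟶ V) (w : ↥W.left), Etale p.left ∧ p.left w = t ∧ q.left w = v ∧
      (AlgSp.yon S).map p ≫ g = (AlgSp.yon S).map q ≫ b ∧
      IsPullback ((AlgSp.yon S).map q) ((AlgSp.yon S).map p) b g := by
  obtain ⟨W, p, q', sq⟩ := hb.1 g
  obtain ⟨q, rfl⟩ := (AlgSp.yon S).map_surjective q'
  have hp : Etale p.left := hb.2 _ _ _ sq
  obtain ⟨w, hw1, hw2⟩ := Groth.Agent.S10176.exists_point_of_isPullback_yon sq v t e.symm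
  exact ⟨W, p, q, w, hp, hw2, hw1, sq.w.symm, sq⟩

/-- Two étale charts through the same point have a common étale refinement. -/
lemma exists_common_chart {F : AlgSp.Sp S} {U V : Over S} (a : (AlgSp.yon S).obj U ⟶ F)
    (b : (AlgSp.yon S).obj V ⟶ F) (ha : AlgSp.RepWith @Etale a) (hb : AlgSp.RepWith @Etale b)
    (u : ↥U.left) (v : ↥V.left) (e : AlgSp.Points.ofPt a u = AlgSp.Points.ofPt b v) :
    ∃ (W : Over S) (p : W ⟶ U) (q : W ⟶ V) (w : ↥W.left), Etale p.left ∧ Etale q.left ∧
      p.left w = u ∧ q.left w = v ∧ (AlgSp.yon S).map p ≫ a = (AlgSp.yon S).map q ≫ b := by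
  obtain ⟨W, p, q, w, hp, hw1, hw2, hc, sq⟩ := exists_chart_over a b hb u v e
  exact ⟨W, p, q, w, hp, ha.2 _ _ _ sq.flip, hw1, hw2, hc⟩

/-- Every point of an algebraic space lies on some étale chart. -/
lemma exists_chart {F : AlgSp.Sp S} (hF : AlgSp.IsAlgSpace F) (x : AlgSp.Points F) :
    ∃ (U : Over S) (a : (AlgSp.yon S).obj U ⟶ F) (u : ↥U.left), AlgSp.RepWith @Etale a ∧
      AlgSp.Points.ofPt a u = x := by
  obtain ⟨U, p, hpe, hps⟩ := hF.atlas
  obtain ⟨u, hu⟩ := Groth.Agent.S10177.surjective_ofPt p hps x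
  exact ⟨U, p, u, hpe, hu⟩

/-- A composite of an étale morphism of schemes with an étale chart is an étale chart. -/
lemma repWith_etale_comp {F : AlgSp.Sp S} {U W : Over S} (p : W ⟶ U) [Etale p.left]
    (a : (AlgSp.yon S).obj U ⟶ F) (ha : AlgSp.RepWith @Etale a) :
    AlgSp.RepWith @Etale ((AlgSp.yon S).map p ≫ a) :=
  (AlgSp.RepWith @Etale).comp_mem _ _ ((AlgSp.repWith_yon_map_iff _ _).2 inferInstance) ha

/-- For a property `Q` of pointed schemes that is invariant under étale morphisms, having `Q` at `x` on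
some étale chart is the same as having it on all étale charts through `x`. -/
theorem hasAt_iff_forall (Q : ∀ U : Scheme.{u}, ↥U → Prop)
    (hQ : ∀ {W V : Scheme.{u}} (g : W ⟶ V) [Etale g] (w : ↥W), Q W w ↔ Q V (g w))
    {F : AlgSp.Sp S} (hF : AlgSp.IsAlgSpace F) (x : AlgSp.Points F) :
    AlgSp.HasAt Q F x ↔
      ∀ (U : Over S) (a : (AlgSp.yon S).obj U ⟶ F) (u : ↥U.left),
        AlgSp.RepWith @Etale a → AlgSp.Points.ofPt a u = x → Q U.left u := by
  constructor
  · rintro ⟨U0, a0, u0, ha0, hu0, hQ0⟩ U a u ha hu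
    obtain ⟨W, p, q, w, hp, hq, hw1, hw2, -⟩ :=
      exists_common_chart a0 a ha0 ha u0 u (hu0.trans hu.symm)
    have h1 : Q W.left w := by
      rw [hQ p.left w, hw1]; exact hQ0
    rw [← hw2, ← hQ q.left w]
    exact h1
  · intro h
    obtain ⟨U, a, u, ha, hu⟩ := exists_chart hF x
    exact ⟨U, a, u, ha, hu, h U a u ha hu⟩

/-- For an étale-invariant `Q`, an étale morphism of algebraic spaces preserves and reflects `HasAt Q`. -/
theorem hasAt_iff_of_isEtaleMor (Q : ∀ U : Scheme.{u}, ↥U → Prop)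
    (hQ : ∀ {W V : Scheme.{u}} (g : W ⟶ V) [Etale g] (w : ↥W), Q W w ↔ Q V (g w))
    {F G : AlgSp.Sp S} (hF : AlgSp.IsAlgSpace F) (hG : AlgSp.IsAlgSpace G) (f : F ⟶ G)
    (hf : AlgSp.IsEtaleMor f) (x : AlgSp.Points F) :
    AlgSp.HasAt Q F x ↔ AlgSp.HasAt Q G (AlgSp.Points.map f x) := by
  constructor
  · rintro ⟨U, a, u, ha, hu, hQu⟩
    exact ⟨U, a ≫ f, u, hf a ha, by rw [← AlgSp.Points.map_ofPt, hu], hQu⟩
  · intro h
    obtain ⟨U, a, u, ha, hu⟩ := exists_chart hF x
    refine ⟨U, a, u, ha, hu, ?_⟩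
    exact (hasAt_iff_forall Q hQ hG _).1 h U (a ≫ f) u (hf a ha)
      (by rw [← AlgSp.Points.map_ofPt, hu])

/-- The Krull dimension of an étale chart is at most the dimension of the space. -/
lemma le_dim {F : AlgSp.Sp S} {U : Over S} (a : (AlgSp.yon S).obj U ⟶ F) (ha : AlgSp.RepWith @Etale a) :
    topologicalKrullDim ↥U.left ≤ AlgSp.dim F :=
  le_iSup_of_le U (le_iSup_of_le a (le_iSup_of_le ha le_rfl))

/-- A bound on all étale charts bounds the dimension of the space. -/
lemma dim_le {F : AlgSp.Sp S} {c : WithBot ℕ∞}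
    (h : ∀ (U : Over S) (a : (AlgSp.yon S).obj U ⟶ F), AlgSp.RepWith @Etale a →
      topologicalKrullDim ↥U.left ≤ c) : AlgSp.dim F ≤ c :=
  iSup_le fun U => iSup_le fun a => iSup_le fun ha => h U a ha

/-- Given `f : F ⟶ G`, an étale chart of `F` at `x` and an étale chart of `G` at `f x`, there is an étale
refinement of the first chart that maps to the second one compatibly with `f`. -/
lemma exists_chart_square {F G : AlgSp.Sp S} (f : F ⟶ G) {U V : Over S} (a : (AlgSp.yon S).obj U ⟶ F)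
    (ha : AlgSp.RepWith @Etale a) (b : (AlgSp.yon S).obj V ⟶ G) (hb : AlgSp.RepWith @Etale b)
    (u : ↥U.left) (v : ↥V.left)
    (e : AlgSp.Points.map f (AlgSp.Points.ofPt a u) = AlgSp.Points.ofPt b v) :
    ∃ (W : Over S) (p : W ⟶ U) (q : W ⟶ V) (w : ↥W.left), Etale p.left ∧ p.left w = u ∧ q.left w = v ∧
      AlgSp.RepWith @Etale ((AlgSp.yon S).map p ≫ a) ∧
      ((AlgSp.yon S).map p ≫ a) ≫ f = (AlgSp.yon S).map q ≫ b := by
  obtain ⟨W, p, q, w, hp, hw1, hw2, hc, -⟩ :=
    exists_chart_over (a ≫ f) b hb u v (by rw [← AlgSp.Points.map_ofPt]; exact e)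
  exact ⟨W, p, q, w, hp, hw1, hw2, repWith_etale_comp p a ha, by rw [Category.assoc]; exact hc⟩

/-- `RepWith` is monotone in the property. -/
lemma repWith_mono {P P' : MorphismProperty Scheme.{u}} (hPP' : ∀ {A B : Scheme.{u}} (g : A ⟶ B), P g → P' g)
    {F G : AlgSp.Sp S} {f : F ⟶ G} (hf : AlgSp.RepWith P f) : AlgSp.RepWith P' f :=
  ⟨hf.1, fun _ _ g fst snd sq => hPP' _ (hf.2 g fst snd sq)⟩

/-- An open immersion of sheaves is étale. -/
lemma repWith_etale_of_isOpenImmersion {F G : AlgSp.Sp S} {f : F ⟶ G}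
    (hf : AlgSp.RepWith @IsOpenImmersion f) : AlgSp.RepWith @Etale f :=
  repWith_mono (fun g hg => by haveI : IsOpenImmersion g := hg; exact (inferInstance : Etale g)) hf

end Groth.Agent.Lib.Seat45.Charts
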