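import Mathlib
import Groth.Prelude.Def_Flat

/-!
# Dimension of local rings along flat / locally quasi-finite morphisms of schemes (seat 45)

* `coheight_le_of_flat`: for flat `f`, `coheight (f x) ≤ coheight x`.
* `coheight_le_of_lqf`: for locally quasi-finite `f`, `coheight x ≤ coheight (f x)`.
* `ringKrullDim_stalk_eq_of_flat_of_lqf`, `ringKrullDim_stalk_eq_of_etale`.
* `topologicalKrullDim_eq_iSup_ringKrullDim_stalk`.
-/

set_option autoImplicit false
universe u

open CategoryTheory AlgebraicGeometry Order

namespace Groth.Agent.Lib.Seat45.EtDim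

variable {X Y : Scheme.{u}}

/-- A locally quasi-finite morphism is strictly monotone for the specialization order:
there are no nontrivial specializations inside a fibre. -/
lemma strictMono_of_lqf (f : X ⟶ Y) [LocallyQuasiFinite f] : StrictMono (f : X → Y) := by
  intro x x' hlt
  have h1 : x' ⤳ x := hlt.le
  have h2 : f x ≤ f x' := h1.map f.continuous
  refine lt_of_le_not_ge h2 ?_
  intro h3
  have heq : f x' = f x := (Specializes.antisymm (show f x' ⤳ f x from h2) h3).eq
  have hd := f.isDiscrete_preimage_singleton (f x)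
  have : x' = x := hd.eq_of_specializes h1 (by simp [heq]) (by simp)
  exact hlt.ne this.symm

lemma coheight_le_of_lqf (f : X ⟶ Y) [LocallyQuasiFinite f] (x : X) :
    coheight x ≤ coheight (f x) :=
  Order.coheight_le_coheight_apply_of_strictMono _ (strictMono_of_lqf f) x

lemma coheight_le_of_flat (f : X ⟶ Y) [Flat f] (x : X) :
    coheight (f x) ≤ coheight x := by
  refine coheight_le_iff'.mpr fun p hp ↦ ?_
  induction p using RelSeries.inductionOn generalizing x with
  | singleton y => simp
  | cons p y hy ih =>
    simp only [RelSeries.head_cons] at hp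
    subst hp
    have hlt : f x < p.head := hy
    obtain ⟨x', hx', hfx'⟩ := Flat.generalizingMap f (show p.head ⤳ f x from hlt.le)
    have hxx' : x < x' := by
      refine lt_of_le_not_ge (show x ≤ x' from hx') ?_
      intro h
      have h4 : f x' ≤ f x := (show x ⤳ x' from h).map f.continuous
      rw [hfx'] at h4
      exact (lt_irrefl _ (lt_of_lt_of_le hlt h4))
    grw [RelSeries.cons_length, Nat.cast_add, Nat.cast_one, ih x' hfx'.symm]
    exact coheight_add_one_le hxx'

lemma coheight_eq_of_flat_of_lqf (f : X ⟶ Y) [Flat f] [LocallyQuasiFinite f] (x : X) :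
    coheight (f x) = coheight x :=
  le_antisymm (coheight_le_of_flat f x) (coheight_le_of_lqf f x)

lemma ringKrullDim_stalk_le_of_lqf (f : X ⟶ Y) [LocallyQuasiFinite f] (x : X) :
    ringKrullDim (X.presheaf.stalk x) ≤ ringKrullDim (Y.presheaf.stalk (f x)) := by
  rw [ringKrullDim_stalk_eq_coheight, ringKrullDim_stalk_eq_coheight]
  exact_mod_cast coheight_le_of_lqf f x

lemma ringKrullDim_stalk_le_of_flat (f : X ⟶ Y) [Flat f] (x : X) :
    ringKrullDim (Y.presheaf.stalk (f x)) ≤ ringKrullDim (X.presheaf.stalk x) := by
  rw [ringKrullDim_stalk_eq_coheight, ringKrullDim_stalk_eq_coheight]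
  exact_mod_cast coheight_le_of_flat f x

lemma ringKrullDim_stalk_eq_of_flat_of_lqf (f : X ⟶ Y) [Flat f] [LocallyQuasiFinite f] (x : X) :
    ringKrullDim (X.presheaf.stalk x) = ringKrullDim (Y.presheaf.stalk (f x)) :=
  le_antisymm (ringKrullDim_stalk_le_of_lqf f x) (ringKrullDim_stalk_le_of_flat f x)

/-- An unramified morphism locally of finite type is locally quasi-finite. -/
lemma locallyQuasiFinite_of_unramified (f : X ⟶ Y) [LocallyOfFiniteType f]
    [FormallyUnramified f] : LocallyQuasiFinite f := by
  constructor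
  intro U hU V hV e
  have h1 : (f.appLE U V e).hom.FiniteType :=
    HasRingHomProperty.appLE (P := @LocallyOfFiniteType) f inferInstance ⟨U, hU⟩ ⟨V, hV⟩ e
  have h2 : (f.appLE U V e).hom.FormallyUnramified :=
    HasRingHomProperty.appLE (P := @FormallyUnramified) f inferInstance ⟨U, hU⟩ ⟨V, hV⟩ e
  algebraize [(f.appLE U V e).hom]
  rw [← RingHom.algebraMap_toAlgebra (f.appLE U V e).hom, RingHom.quasiFinite_algebraMap]
  infer_instance

lemma locallyQuasiFinite_of_etale (f : X ⟶ Y) [Etale f] : LocallyQuasiFinite f :=
  locallyQuasiFinite_of_unramified f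

lemma ringKrullDim_stalk_eq_of_etale (f : X ⟶ Y) [Etale f] (x : X) :
    ringKrullDim (X.presheaf.stalk x) = ringKrullDim (Y.presheaf.stalk (f x)) :=
  haveI := locallyQuasiFinite_of_etale f
  ringKrullDim_stalk_eq_of_flat_of_lqf f x

/-- The Krull dimension of (the underlying space of) a scheme is the supremum of the dimensions of
its local rings. -/
lemma topologicalKrullDim_eq_iSup_ringKrullDim_stalk (X : Scheme.{u}) :
    topologicalKrullDim X = ⨆ x : X, ringKrullDim (X.presheaf.stalk x) := by
  have h1 : topologicalKrullDim X = Order.krullDim X :=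
    Order.krullDim_eq_of_orderIso (irreducibleSetEquivPoints (α := X))
  rw [h1, Order.krullDim_eq_iSup_coheight]
  exact iSup_congr fun x => (ringKrullDim_stalk_eq_coheight x).symm

/-- Krull dimension of an open subset of a scheme as a supremum of dimensions of local rings. -/
lemma topologicalKrullDim_opens (U : X.Opens) :
    topologicalKrullDim ↥(U : Set X) = ⨆ x : (U : Set X), ringKrullDim (X.presheaf.stalk x.1) := by
  have h1 := topologicalKrullDim_eq_iSup_ringKrullDim_stalk U.toScheme
  change topologicalKrullDim ↥(U : Set X) = _ at h1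
  rw [h1]
  refine iSup_congr fun x => ?_
  exact ringKrullDim_stalk_eq_of_etale U.ι x

/-- The local dimension of a scheme at a point is invariant under étale morphisms. -/
lemma localDim_eq_of_etale (g : X ⟶ Y) [Etale g] (w : X) :
    FlatMor.localDim ↥X w = FlatMor.localDim ↥Y (g w) := by
  unfold FlatMor.localDim
  apply le_antisymm
  · refine le_iInf fun V' => ?_
    refine iInf_le_of_le ⟨g ⁻¹ᵁ V'.1, V'.2⟩ ?_
    rw [topologicalKrullDim_opens, topologicalKrullDim_opens]
    refine iSup_le fun x => ?_
    exact le_iSup_of_le (⟨g x.1, x.2⟩ : (V'.1 : Set Y))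
      (ringKrullDim_stalk_eq_of_etale g x.1).le
  · refine le_iInf fun W' => ?_
    let V' : Y.Opens := ⟨g '' (W'.1 : Set X), g.isOpenMap _ W'.1.2⟩
    refine iInf_le_of_le ⟨V', ⟨w, W'.2, rfl⟩⟩ ?_
    rw [topologicalKrullDim_opens, topologicalKrullDim_opens]
    refine iSup_le fun y => ?_
    obtain ⟨x, hx, hxy⟩ := y.2
    refine le_iSup_of_le (⟨x, hx⟩ : (W'.1 : Set X)) ?_
    rw [← hxy]
    exact (ringKrullDim_stalk_eq_of_etale g x).ge

/-- Every point of a scheme has a generization whose local ring has dimension zero. -/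
lemma exists_specializes_ringKrullDim_stalk_eq_zero (X : Scheme.{u}) (x : X) :
    ∃ ξ : X, ξ ⤳ x ∧ ringKrullDim (X.presheaf.stalk ξ) = 0 := by
  have hirr : IsIrreducible (irreducibleComponent x) := isIrreducible_irreducibleComponent
  have hcl : IsClosed (irreducibleComponent x) := isClosed_irreducibleComponent
  obtain ⟨ξ, hξ⟩ := QuasiSober.sober hirr hcl
  have hξ' : closure {ξ} = irreducibleComponent x := hξ
  refine ⟨ξ, ?_, ?_⟩
  · rw [specializes_iff_mem_closure, hξ']
    exact mem_irreducibleComponent
  · rw [ringKrullDim_stalk_eq_coheight]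
    have : coheight ξ = 0 := by
      rw [Order.coheight_eq_zero]
      intro η (hη : η ⤳ ξ)
      show ξ ⤳ η
      rw [specializes_iff_mem_closure, hξ']
      have h1 : irreducibleComponent x ⊆ closure {η} := by
        rw [← hξ']
        exact (specializes_iff_closure_subset.1 hη)
      have h2 := eq_irreducibleComponent (isIrreducible_singleton.closure).isPreirreducible h1
      rw [← h2]
      exact subset_closure rfl
    rw [this]; rfl

/-- The points with zero-dimensional local ring are dense in a scheme. -/
lemma dense_ringKrullDim_stalk_eq_zero (X : Scheme.{u}) :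
    Dense {x : X | ringKrullDim (X.presheaf.stalk x) = 0} := by
  rw [dense_iff_inter_open]
  rintro U hU ⟨x, hx⟩
  obtain ⟨ξ, hξx, hξ⟩ := exists_specializes_ringKrullDim_stalk_eq_zero X x
  exact ⟨ξ, hξx.mem_open hU hx, hξ⟩

end Groth.Agent.Lib.Seat45.EtDim
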