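import Mathlib
import Groth.Agent.Lib.Seat46FlatEqSch
import Groth.Agent.Lib.Helper15LocEss
import Groth.Agent.S10174
import Groth.Agent.S10448
import Groth.Agent.S10532
import Groth.Agent.S10535
import Groth.Agent.S9904
import Groth.Agent.S9927

/-!
# fpqc descent of affineness for algebraic spaces (seat 46)

`exists_affine_rep`: an algebraic space `F` over an affine scheme `Z` which becomes an affine
scheme after base change along a standard fpqc covering of `Z` is (represented by) an affine
scheme.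
-/

set_option autoImplicit false
universe u
open CategoryTheory CategoryTheory.Limits AlgebraicGeometry
open AlgSp

namespace Groth.Agent.Lib.Seat46.AffDescent

variable {S : Scheme.{u}}

/-- the vertex of a pullback square of schemes with affine corners is affine. -/
lemma isAffine_of_isPullback_affine {P X Y Z : Scheme.{u}} {fst : P ⟶ X} {snd : P ⟶ Y}
    {f : X ⟶ Z} {g : Y ⟶ Z} (sq : IsPullback fst snd f g) [IsAffine X] [IsAffine Y] [IsAffine Z] :
    IsAffine P :=
  .of_isIso sq.isoPullback.hom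

/-- a standard fpqc covering of an affine scheme is an fpqc covering of sheaves. -/
lemma isFpqcCover_standard {Z : Over S} (hZ : IsAffine Z.left) {m : ℕ} (W : Fin m → Over S)
    (c : ∀ j, W j ⟶ Z) (hW : ∀ j, IsAffine (W j).left) (hfl : ∀ j, Flat (c j).left)
    (hsurj : ∀ z : ↥Z.left, ∃ j, z ∈ Set.range (c j).left) :
    AlgSp.IsFpqcCover (fun j : ULift.{u} (Fin m) => (AlgSp.yon S).obj (W j.down))
      (fun j => (AlgSp.yon S).map (c j.down)) := by
  refine ⟨fun j => Groth.Agent.Lib.Helper15LocEss.locP_yon_map_of_flat _ (hfl j.down), ?_⟩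
  intro Z' hZ' h
  obtain ⟨h', rfl⟩ := (AlgSp.yon S).map_surjective h
  have sqS : ∀ j, IsPullback (pullback.fst h' (c j)).left (pullback.snd h' (c j)).left h'.left
      (c j).left := fun j => (IsPullback.of_hasPullback h' (c j)).map (Over.forget S)
  refine ⟨m, fun j => pullback h' (c j), fun j => pullback.fst h' (c j), ?_, ?_, ?_, ?_⟩
  · intro j
    have := hZ; have := hZ'; have := hW j
    exact isAffine_of_isPullback_affine (sqS j)
  · intro j
    exact MorphismProperty.of_isPullback (P := @Flat) (sqS j).flip (hfl j)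
  · intro z'
    obtain ⟨j, w, hw⟩ := hsurj (h'.left z')
    obtain ⟨x, hx, -⟩ := Scheme.exists_preimage_of_isPullback (sqS j) z' w hw.symm
    exact ⟨j, x, hx⟩
  · intro j
    refine ⟨⟨j⟩, (AlgSp.yon S).map (pullback.snd h' (c j)), ?_⟩
    rw [← Functor.map_comp, ← Functor.map_comp, pullback.condition]

/-- the space of points of a sheaf covered by the base changes to a standard fpqc covering, with
quasi-compact representing schemes, is quasi-compact. -/
lemma compactSpace_points {Z : Over S} {F : AlgSp.Sp S} (π : F ⟶ (AlgSp.yon S).obj Z) {m : ℕ}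
    (W : Fin m → Over S) (c : ∀ j, W j ⟶ Z)
    (hsurj : ∀ z : ↥Z.left, ∃ j, z ∈ Set.range (c j).left)
    (V : Fin m → Over S) (v : ∀ j, V j ⟶ W j) (fstV : ∀ j, (AlgSp.yon S).obj (V j) ⟶ F)
    (hV : ∀ j, CompactSpace ↥(V j).left)
    (sq : ∀ j, IsPullback (fstV j) ((AlgSp.yon S).map (v j)) π ((AlgSp.yon S).map (c j))) :
    CompactSpace (AlgSp.Points F) := by
  have hcov : (Set.univ : Set (AlgSp.Points F)) = ⋃ j, Set.range (AlgSp.Points.ofPt (fstV j)) := by
    symm
    rw [Set.eq_univ_iff_forall]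
    intro x
    obtain ⟨j, w, hw⟩ := hsurj (AlgSp.Points.toScheme Z (AlgSp.Points.map π x))
    have e : AlgSp.Points.map π x = AlgSp.Points.ofPt ((AlgSp.yon S).map (c j)) w := by
      rw [← AlgSp.Points.ofScheme_toScheme Z (AlgSp.Points.ofPt ((AlgSp.yon S).map (c j)) w),
        AlgSp.Points.toScheme_ofPt, hw, AlgSp.Points.ofScheme_toScheme]
    obtain ⟨y, hy, -⟩ := Groth.Agent.S10448.exists_point_of_isPullback_right (sq j) x w e
    exact Set.mem_iUnion.2 ⟨j, y, hy⟩
  refine isCompact_univ_iff.1 ?_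
  rw [hcov]
  refine isCompact_iUnion fun j => ?_
  haveI := hV j
  exact isCompact_range (AlgSp.Points.continuous_ofPt (fstV j))

/-- an algebraic space with quasi-compact space of points has an affine étale atlas. -/
lemma exists_affine_atlas {F : AlgSp.Sp S} (hF : AlgSp.IsAlgSpace F)
    [CompactSpace (AlgSp.Points F)] :
    ∃ (U : Over S) (p : (AlgSp.yon S).obj U ⟶ F), AlgSp.RepWith @Etale p ∧
      AlgSp.RepWith @Surjective p ∧ IsAffine U.left := by
  obtain ⟨U₀, p₀, hpe, hps, hU₀⟩ := (Groth.Agent.S10174.isQuasiCompactSp_iff hF).2 inferInstance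
  haveI : CompactSpace ↥U₀.left := hU₀
  let 𝒰 := U₀.left.affineCover.finiteSubcover
  let g : (∐ 𝒰.X) ⟶ U₀.left := Sigma.desc 𝒰.f
  haveI : IsZariskiLocalAtSource @Etale.{u} :=
    HasRingHomProperty.instIsZariskiLocalAtSource (Q := RingHom.Etale)
  haveI : Etale g := IsZariskiLocalAtSource.sigmaDesc (P := @Etale) (fun i => inferInstance)
  haveI : Surjective g := by
    refine ⟨fun z => ?_⟩
    obtain ⟨i, w, hw⟩ := 𝒰.exists_eq z
    refine ⟨(Sigma.ι 𝒰.X i) w, ?_⟩
    rw [← Scheme.Hom.comp_apply, Sigma.ι_desc]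
    exact hw
  haveI : ∀ i, IsAffine (𝒰.X i) := fun i => by
    dsimp [𝒰]; infer_instance
  let U : Over S := Over.mk (g ≫ U₀.hom)
  let j : U ⟶ U₀ := Over.homMk g rfl
  refine ⟨U, (AlgSp.yon S).map j ≫ p₀, ?_, ?_, ?_⟩
  · exact (AlgSp.repWith_isMultiplicative (S := S) @Etale).comp_mem _ _
      ((AlgSp.repWith_yon_map_iff _ _).2 (show Etale g from inferInstance)) hpe
  · exact (AlgSp.repWith_isMultiplicative (S := S) @Surjective).comp_mem _ _
      ((AlgSp.repWith_yon_map_iff _ _).2 (show Surjective g from inferInstance)) hps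
  · show IsAffine (∐ 𝒰.X)
    infer_instance

/-- a sheaf over an affine scheme which is an affine scheme after base change along a standard
fpqc covering is separated over the base. -/
lemma isSeparatedMor_of_standard {Z : Over S} (hZ : IsAffine Z.left) {F : AlgSp.Sp S}
    (hF : AlgSp.IsAlgSpace F) (π : F ⟶ (AlgSp.yon S).obj Z) {m : ℕ}
    (W : Fin m → Over S) (c : ∀ j, W j ⟶ Z) (hW : ∀ j, IsAffine (W j).left)
    (hfl : ∀ j, Flat (c j).left) (hsurj : ∀ z : ↥Z.left, ∃ j, z ∈ Set.range (c j).left)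
    (V : Fin m → Over S) (v : ∀ j, V j ⟶ W j) (fstV : ∀ j, (AlgSp.yon S).obj (V j) ⟶ F)
    (hV : ∀ j, IsAffine (V j).left)
    (sq : ∀ j, IsPullback (fstV j) ((AlgSp.yon S).map (v j)) π ((AlgSp.yon S).map (c j))) :
    AlgSp.IsSeparatedMor π := by
  refine ((Groth.Agent.S10535.result S)
    (fun j : ULift.{u} (Fin m) => (AlgSp.yon S).obj (W j.down))
    (fun j => (AlgSp.yon S).map (c j.down)) (AlgSp.IsAlgSpace.yon_obj Z)
    (fun j => AlgSp.IsAlgSpace.yon_obj _) (isFpqcCover_standard hZ W c hW hfl hsurj) π hF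
    (fun j => (AlgSp.yon S).obj (V j.down)) (fun j => (AlgSp.yon S).map (v j.down))
    (fun j => fstV j.down) (fun j => AlgSp.IsAlgSpace.yon_obj _) (fun j => sq j.down)).2 ?_
  intro j
  rw [AlgSp.isSeparatedMor_yon_map_iff]
  haveI := hV j.down
  haveI := hW j.down
  infer_instance

/-- for `π : F ⟶ h_Z` separated with `Z` affine and `p : h_U ⟶ F` with `U` affine, the scheme
representing `h_U ×_F h_U` is affine. -/
lemma isAffine_of_isPullback_self {Z : Over S} (hZ : IsAffine Z.left) {F : AlgSp.Sp S}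
    (π : F ⟶ (AlgSp.yon S).obj Z) (hsep : AlgSp.IsSeparatedMor π) {U R : Over S}
    (hU : IsAffine U.left) (p : (AlgSp.yon S).obj U ⟶ F) (s t : R ⟶ U)
    (sqR : IsPullback ((AlgSp.yon S).map s) ((AlgSp.yon S).map t) p p) : IsAffine R.left := by
  obtain ⟨a, ha⟩ := (AlgSp.yon S).map_surjective (p ≫ π)
  have hsa : s ≫ a = t ≫ a := by
    apply (AlgSp.yon S).map_injective
    rw [Functor.map_comp, Functor.map_comp, ha, ← Category.assoc, sqR.w, Category.assoc]
  let e : R ⟶ pullback a a := pullback.lift s t hsa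
  have he1 : e ≫ pullback.fst a a = s := pullback.lift_fst _ _ _
  have he2 : e ≫ pullback.snd a a = t := pullback.lift_snd _ _ _
  have hE : Groth.Agent.S9900.IsEqLocus ((AlgSp.yon S).map (pullback.fst a a) ≫ p)
      ((AlgSp.yon S).map (pullback.snd a a) ≫ p) e := by
    refine ⟨⟨fun {T'} x y hxy => ?_⟩, fun T' τ => ⟨fun h => ?_, ?_⟩⟩
    · apply (AlgSp.yon S).map_injective
      apply sqR.hom_ext
      · rw [← Functor.map_comp, ← Functor.map_comp, ← he1, ← Category.assoc, hxy, Category.assoc]
      · rw [← Functor.map_comp, ← Functor.map_comp, ← he2, ← Category.assoc, hxy, Category.assoc]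
    · rw [← Category.assoc, ← Category.assoc, ← Functor.map_comp, ← Functor.map_comp] at h
      obtain ⟨t', ht'⟩ := (AlgSp.yon S).map_surjective (sqR.lift _ _ h)
      refine ⟨t', ?_⟩
      apply pullback.hom_ext
      · rw [Category.assoc, he1]
        apply (AlgSp.yon S).map_injective
        rw [Functor.map_comp, ht', sqR.lift_fst]
      · rw [Category.assoc, he2]
        apply (AlgSp.yon S).map_injective
        rw [Functor.map_comp, ht', sqR.lift_snd]
    · rintro ⟨t', rfl⟩
      rw [← Category.assoc, ← Category.assoc, ← Functor.map_comp, ← Functor.map_comp,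
        Category.assoc, Category.assoc, he1, he2, Functor.map_comp, Functor.map_comp,
        Category.assoc, Category.assoc, sqR.w]
  have hab : ((AlgSp.yon S).map (pullback.fst a a) ≫ p) ≫ π =
      ((AlgSp.yon S).map (pullback.snd a a) ≫ p) ≫ π := by
    rw [Category.assoc, Category.assoc, ← ha, ← Functor.map_comp, ← Functor.map_comp,
      pullback.condition]
  have hcl : IsClosedImmersion e.left :=
    Groth.Agent.S9904.IsEqLocus.property_of_repWith π hsep hab hE
  haveI := hZ
  haveI := hU
  haveI : IsAffine (pullback a a).left :=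
    isAffine_of_isPullback_affine (X := U.left) (Y := U.left) (Z := Z.left)
      (f := a.left) (g := a.left) (fst := (pullback.fst a a).left) (snd := (pullback.snd a a).left)
      ((IsPullback.of_hasPullback a a).map (Over.forget S))
  exact isAffine_of_isAffineHom e.left

/-- descent of a morphism from an affine chart along the chart, given that it coequalizes the
two projections. -/
lemma exists_desc {F : AlgSp.Sp S} {U R T : Over S} (p : (AlgSp.yon S).obj U ⟶ F) [Epi p]
    (s t : R ⟶ U) (sqR : IsPullback ((AlgSp.yon S).map s) ((AlgSp.yon S).map t) p p)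
    (q : U ⟶ T) (hq : s ≫ q = t ≫ q) :
    ∃ φ : F ⟶ (AlgSp.yon S).obj T, p ≫ φ = (AlgSp.yon S).map q := by
  have hreg : IsRegularEpi p := IsRegularEpiCategory.regularEpiOfEpi p
  have heff : EffectiveEpi p := (isRegularEpi_iff_effectiveEpi p).1 hreg
  have hco : ∀ {Z₀ : AlgSp.Sp S} (g₁ g₂ : Z₀ ⟶ (AlgSp.yon S).obj U), g₁ ≫ p = g₂ ≫ p →
      g₁ ≫ (AlgSp.yon S).map q = g₂ ≫ (AlgSp.yon S).map q := by
    intro Z₀ g₁ g₂ h
    have h1 : g₁ = sqR.lift g₁ g₂ h ≫ (AlgSp.yon S).map s := (sqR.lift_fst _ _ _).symm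
    have h2 : g₂ = sqR.lift g₁ g₂ h ≫ (AlgSp.yon S).map t := (sqR.lift_snd _ _ _).symm
    rw [h1, Category.assoc, ← Functor.map_comp, hq, Functor.map_comp, ← Category.assoc, ← h2]
  exact ⟨EffectiveEpi.desc p ((AlgSp.yon S).map q) hco, EffectiveEpi.fac _ _ _⟩

/-- the comparison map for one member of the covering is an isomorphism. -/
lemma exists_isIso_comparison {Z W : Over S} (hZ : IsAffine Z.left) (hW : IsAffine W.left)
    (c : W ⟶ Z) (hfl : Flat c.left) {F : AlgSp.Sp S} (π : F ⟶ (AlgSp.yon S).obj Z)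
    {V : Over S} (hV : IsAffine V.left) (v : V ⟶ W) (fstV : (AlgSp.yon S).obj V ⟶ F)
    (sq : IsPullback fstV ((AlgSp.yon S).map v) π ((AlgSp.yon S).map c))
    {U R T : Over S} (hU : IsAffine U.left) (hR : IsAffine R.left) (hT : IsAffine T.left)
    (p : (AlgSp.yon S).obj U ⟶ F) (hpe : AlgSp.RepWith @Etale p)
    (hps : AlgSp.RepWith @Surjective p) (s t : R ⟶ U)
    (sqR : IsPullback ((AlgSp.yon S).map s) ((AlgSp.yon S).map t) p p)
    (i : T ⟶ Z) (q : U ⟶ T) (φ : F ⟶ (AlgSp.yon S).obj T)
    (hφ : p ≫ φ = (AlgSp.yon S).map q) (hφi : φ ≫ (AlgSp.yon S).map i = π)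
    (hinj : Function.Injective q.left.appTop.hom)
    (hex : ∀ x, s.left.appTop.hom x = t.left.appTop.hom x → x ∈ Set.range q.left.appTop.hom) :
    ∃ ψ : V ⟶ pullback i c, IsIso ψ ∧
      IsPullback fstV ((AlgSp.yon S).map ψ) φ ((AlgSp.yon S).map (pullback.fst i c)) := by
  haveI := hZ; haveI := hW; haveI := hV; haveI := hU; haveI := hR; haveI := hT; haveI := hfl
  obtain ⟨a, ha0⟩ : ∃ a : U ⟶ Z, q ≫ i = a := ⟨_, rfl⟩
  have ha : (AlgSp.yon S).map a = p ≫ π := by
    rw [← ha0, Functor.map_comp, ← hφ, Category.assoc, hφi]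
  have hst : s ≫ q = t ≫ q := by
    apply (AlgSp.yon S).map_injective
    rw [Functor.map_comp, Functor.map_comp, ← hφ, ← Category.assoc, sqR.w, Category.assoc]
  obtain ⟨r, hr⟩ : ∃ r : R ⟶ Z, s ≫ a = r := ⟨_, rfl⟩
  have hr' : t ≫ a = r := by rw [← hr, ← ha0, ← Category.assoc, ← hst, Category.assoc]
  -- the induced maps between the base changes
  let q' : pullback a c ⟶ pullback i c :=
    pullback.lift (pullback.fst a c ≫ q) (pullback.snd a c)
      (by rw [Category.assoc, ha0, pullback.condition])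
  have hq'1 : q' ≫ pullback.fst i c = pullback.fst a c ≫ q := pullback.lift_fst _ _ _
  have hq'2 : q' ≫ pullback.snd i c = pullback.snd a c := pullback.lift_snd _ _ _
  let s' : pullback r c ⟶ pullback a c :=
    pullback.lift (pullback.fst r c ≫ s) (pullback.snd r c)
      (by rw [Category.assoc, hr, pullback.condition])
  have hs'1 : s' ≫ pullback.fst a c = pullback.fst r c ≫ s := pullback.lift_fst _ _ _
  have hs'2 : s' ≫ pullback.snd a c = pullback.snd r c := pullback.lift_snd _ _ _
  let t' : pullback r c ⟶ pullback a c :=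
    pullback.lift (pullback.fst r c ≫ t) (pullback.snd r c)
      (by rw [Category.assoc, hr', pullback.condition])
  have ht'1 : t' ≫ pullback.fst a c = pullback.fst r c ≫ t := pullback.lift_fst _ _ _
  have ht'2 : t' ≫ pullback.snd a c = pullback.snd r c := pullback.lift_snd _ _ _
  clear_value q' s' t'
  -- the chart of `V`
  have huw : ((AlgSp.yon S).map (pullback.fst a c) ≫ p) ≫ π =
      (AlgSp.yon S).map (pullback.snd a c) ≫ (AlgSp.yon S).map c := by
    rw [Category.assoc, ← ha, ← Functor.map_comp, ← Functor.map_comp, pullback.condition]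
  obtain ⟨u, hu⟩ := (AlgSp.yon S).map_surjective (sq.lift _ _ huw)
  have hu1 : (AlgSp.yon S).map u ≫ fstV = (AlgSp.yon S).map (pullback.fst a c) ≫ p := by
    rw [hu, sq.lift_fst]
  have hu2 : u ≫ v = pullback.snd a c := by
    apply (AlgSp.yon S).map_injective
    rw [Functor.map_comp, hu, sq.lift_snd]
  have sqUV : IsPullback ((AlgSp.yon S).map (pullback.fst a c)) ((AlgSp.yon S).map u) p
      fstV := by
    have outer := (IsPullback.of_hasPullback a c).map (AlgSp.yon S)
    rw [ha, ← hu2, Functor.map_comp] at outer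
    exact IsPullback.of_bot outer hu1.symm sq
  have hue : Etale u.left := hpe.2 fstV _ u sqUV
  have hus : Surjective u.left := hps.2 fstV _ u sqUV
  have hstu : s' ≫ u = t' ≫ u := by
    apply (AlgSp.yon S).map_injective
    apply sq.hom_ext
    · rw [Functor.map_comp, Functor.map_comp, Category.assoc, Category.assoc, hu1,
        ← Functor.map_comp_assoc, ← Functor.map_comp_assoc, hs'1, ht'1,
        Functor.map_comp_assoc, Functor.map_comp_assoc, sqR.w]
    · rw [← Functor.map_comp, ← Functor.map_comp, Category.assoc, Category.assoc, hu2, hs'2, ht'2]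
  -- the comparison map
  obtain ⟨g₀, hg₀⟩ := (AlgSp.yon S).map_surjective (fstV ≫ φ)
  have hg₀i : g₀ ≫ i = v ≫ c := by
    apply (AlgSp.yon S).map_injective
    rw [Functor.map_comp, hg₀, Category.assoc, hφi, sq.w, Functor.map_comp]
  let ψ : V ⟶ pullback i c := pullback.lift g₀ v hg₀i
  have hψ1 : ψ ≫ pullback.fst i c = g₀ := pullback.lift_fst _ _ _
  have hψ2 : ψ ≫ pullback.snd i c = v := pullback.lift_snd _ _ _
  clear_value ψ
  have huψ : u ≫ ψ = q' := by
    apply pullback.hom_ext
    · rw [Category.assoc, hψ1, hq'1]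
      apply (AlgSp.yon S).map_injective
      rw [Functor.map_comp, hg₀, ← Category.assoc, hu1, Category.assoc, hφ, Functor.map_comp]
    · rw [Category.assoc, hψ2, hq'2, hu2]
  -- scheme-level squares
  have HT : IsPullback (pullback.fst i c).left (pullback.snd i c).left i.left c.left :=
    (IsPullback.of_hasPullback i c).map (Over.forget S)
  have HU : IsPullback (pullback.fst a c).left (pullback.snd a c).left
      a.left c.left := (IsPullback.of_hasPullback a c).map (Over.forget S)
  have HR : IsPullback (pullback.fst r c).left (pullback.snd r c).left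
      r.left c.left := (IsPullback.of_hasPullback r c).map (Over.forget S)
  haveI : IsAffine (pullback i c).left := isAffine_of_isPullback_affine HT
  haveI : IsAffine (pullback a c).left := isAffine_of_isPullback_affine HU
  haveI : IsAffine (pullback r c).left := isAffine_of_isPullback_affine HR
  obtain ⟨hinj', hex'⟩ := Groth.Agent.Lib.Seat46.FlatEqSch.flat_eq_scheme c.left i.left
    a.left r.left q.left s.left t.left
    (by rw [← Over.comp_left, ha0]) (by rw [← Over.comp_left, hr])
    (by rw [← Over.comp_left, hr']) (by rw [← Over.comp_left, ← Over.comp_left, hst])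
    HT HU HR q'.left s'.left t'.left
    (by rw [← Over.comp_left, ← Over.comp_left, hq'1])
    (by rw [← Over.comp_left, hq'2])
    (by rw [← Over.comp_left, ← Over.comp_left, hs'1])
    (by rw [← Over.comp_left, hs'2])
    (by rw [← Over.comp_left, ← Over.comp_left, ht'1])
    (by rw [← Over.comp_left, ht'2]) hinj hex
  haveI : Flat u.left := inferInstance
  have hiso : IsIso ψ.left :=
    Groth.Agent.Lib.Seat46.FlatEqSch.isIso_of_flat_eq u.left ψ.left q'.left s'.left t'.left
      (by rw [← Over.comp_left, huψ]) (by rw [← Over.comp_left, ← Over.comp_left, hstu])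
      hinj' hex'
  have hisoO : IsIso ψ := by
    haveI : IsIso ((Over.forget S).map ψ) := hiso
    exact isIso_of_reflects_iso ψ (Over.forget S)
  refine ⟨ψ, hisoO, ?_⟩
  have bot := (IsPullback.of_hasPullback i c).map (AlgSp.yon S)
  have outer : IsPullback fstV ((AlgSp.yon S).map ψ ≫ (AlgSp.yon S).map (pullback.snd i c))
      (φ ≫ (AlgSp.yon S).map i) ((AlgSp.yon S).map c) := by
    rw [← Functor.map_comp, hψ2, hφi]
    exact sq
  refine IsPullback.of_bot outer ?_ bot
  rw [← Functor.map_comp, hψ1, hg₀]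

/-- **fpqc descent of affineness**: an algebraic space over an affine scheme `Z` whose base
changes along a standard fpqc covering of `Z` are affine schemes is an affine scheme. -/
theorem exists_affine_rep {Z : Over S} (hZ : IsAffine Z.left) {F : AlgSp.Sp S}
    (hF : AlgSp.IsAlgSpace F) (π : F ⟶ (AlgSp.yon S).obj Z) {m : ℕ}
    (W : Fin m → Over S) (c : ∀ j, W j ⟶ Z) (hW : ∀ j, IsAffine (W j).left)
    (hfl : ∀ j, Flat (c j).left) (hsurj : ∀ z : ↥Z.left, ∃ j, z ∈ Set.range (c j).left)
    (V : Fin m → Over S) (v : ∀ j, V j ⟶ W j) (fstV : ∀ j, (AlgSp.yon S).obj (V j) ⟶ F)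
    (hV : ∀ j, IsAffine (V j).left)
    (sq : ∀ j, IsPullback (fstV j) ((AlgSp.yon S).map (v j)) π ((AlgSp.yon S).map (c j))) :
    ∃ (T : Over S) (i : T ⟶ Z) (φ : F ⟶ (AlgSp.yon S).obj T), IsAffine T.left ∧ IsIso φ ∧
      φ ≫ (AlgSp.yon S).map i = π := by
  haveI : CompactSpace (AlgSp.Points F) :=
    compactSpace_points π W c hsurj V v fstV (fun j => by haveI := hV j; infer_instance) sq
  obtain ⟨U, p, hpe, hps, hU⟩ := exists_affine_atlas hF
  have hsep := isSeparatedMor_of_standard hZ hF π W c hW hfl hsurj V v fstV hV sq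
  obtain ⟨R, t, fstR, sqR0⟩ := hpe.1 p
  obtain ⟨s, rfl⟩ := (AlgSp.yon S).map_surjective fstR
  have hR : IsAffine R.left := isAffine_of_isPullback_self hZ π hsep hU p s t sqR0
  obtain ⟨a, ha⟩ := (AlgSp.yon S).map_surjective (p ≫ π)
  have hsa : s ≫ a = t ≫ a := by
    apply (AlgSp.yon S).map_injective
    rw [Functor.map_comp, Functor.map_comp, ha, ← Category.assoc, sqR0.w, Category.assoc]
  haveI := hZ
  obtain ⟨T₀, q₀, i₀, hT₀, hqi, hsq, hinj, hex⟩ :=
    Groth.Agent.Lib.Seat46.FlatEqSch.exists_affine_coeq s.left t.left a.left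
      (by rw [← Over.comp_left, ← Over.comp_left, hsa])
  let T : Over S := Over.mk (i₀ ≫ Z.hom)
  let i : T ⟶ Z := Over.homMk i₀ rfl
  let q : U ⟶ T := Over.homMk q₀ (by
    show q₀ ≫ i₀ ≫ Z.hom = U.hom
    rw [← Category.assoc, hqi, Over.w a])
  have hq : s ≫ q = t ≫ q := Over.OverMorphism.ext hsq
  have hqi' : q ≫ i = a := Over.OverMorphism.ext hqi
  have hT : IsAffine T.left := hT₀
  haveI : Epi p := Groth.Agent.S9927.epi_of_repWith p hpe hps
  obtain ⟨φ, hφ⟩ := exists_desc p s t sqR0 q hq
  have hφi : φ ≫ (AlgSp.yon S).map i = π := by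
    rw [← cancel_epi p, ← Category.assoc, hφ, ← Functor.map_comp, hqi', ha]
  refine ⟨T, i, φ, hT, ?_, hφi⟩
  choose ψ hψiso hψsq using fun j => exists_isIso_comparison hZ (hW j) (c j) (hfl j) π (hV j) (v j)
    (fstV j) (sq j) hU hR hT p hpe hps s t sqR0 i q φ hφ hφi hinj hex
  have sqS : ∀ j, IsPullback (pullback.fst i (c j)).left (pullback.snd i (c j)).left i.left
      (c j).left := fun j => (IsPullback.of_hasPullback i (c j)).map (Over.forget S)
  have hcov : AlgSp.IsFpqcCover
      (fun j : ULift.{u} (Fin m) => (AlgSp.yon S).obj (pullback i (c j.down)))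
      (fun j => (AlgSp.yon S).map (pullback.fst i (c j.down))) := by
    refine isFpqcCover_standard hT (fun j => pullback i (c j)) (fun j => pullback.fst i (c j))
      ?_ ?_ ?_
    · intro j
      haveI := hW j
      exact isAffine_of_isPullback_affine (sqS j)
    · intro j
      exact MorphismProperty.of_isPullback (P := @Flat) (sqS j).flip (hfl j)
    · intro z
      obtain ⟨j, w, hw⟩ := hsurj (i.left z)
      obtain ⟨x, hx, -⟩ := Scheme.exists_preimage_of_isPullback (sqS j) z w hw.symm
      exact ⟨j, x, hx⟩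
  refine (MorphismProperty.isomorphisms.iff φ).1 (((Groth.Agent.S10532.result S) _ _
    (AlgSp.IsAlgSpace.yon_obj T) (fun j => AlgSp.IsAlgSpace.yon_obj _) hcov φ hF
    (fun j => (AlgSp.yon S).obj (V j.down)) (fun j => (AlgSp.yon S).map (ψ j.down))
    (fun j => fstV j.down) (fun j => AlgSp.IsAlgSpace.yon_obj _) (fun j => hψsq j.down)).2 ?_)
  intro j
  haveI := hψiso j.down
  exact (MorphismProperty.isomorphisms.iff _).2 inferInstance

end Groth.Agent.Lib.Seat46.AffDescent
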