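import Mathlib
import Groth.Agent.Lib.Seat46AffDescent
import Groth.Agent.Lib.Helper12BaseLocal
import Groth.Agent.Lib.Helper12ZarGlue
import Groth.Agent.S9874

/-!
# fpqc descent for `RepWith P`, `P` a class of affine morphisms (seat 46)

`isLocalOnBase_fpqc_repWith_of_affine`: for `P` a property of morphisms of schemes which is
Zariski local on the target, stable under base change, descends along fpqc coverings and implies
affineness, `AlgSp.RepWith P` is fpqc local on the base (for algebraic spaces).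
-/

set_option autoImplicit false
universe u
open CategoryTheory CategoryTheory.Limits AlgebraicGeometry
open AlgSp

namespace Groth.Agent.Lib.Seat46.RepDescent

variable {S : Scheme.{u}}

/-- the base change of `f` to an affine scheme is an affine scheme as soon as the base changes of
`f` to an fpqc covering are affine morphisms; moreover the representing affine scheme restricts, on
the members of a standard fpqc covering of the affine scheme, to any representing object of the
corresponding base change of the given affine morphisms. -/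
theorem exists_rep_of_fpqc {ι : Type u} {Y : AlgSp.Sp S} (Yi : ι → AlgSp.Sp S)
    (g : ∀ i, Yi i ⟶ Y) (hY : AlgSp.IsAlgSpace Y) (hcov : AlgSp.IsFpqcCover Yi g)
    {X : AlgSp.Sp S} (f : X ⟶ Y) (hX : AlgSp.IsAlgSpace X) (Xi : ι → AlgSp.Sp S)
    (p : ∀ i, Xi i ⟶ Yi i) (q : ∀ i, Xi i ⟶ X) (sq : ∀ i, IsPullback (q i) (p i) f (g i))
    (H : ∀ i, AlgSp.IsAffineMor (p i)) {Z : Over S} (hZ : IsAffine Z.left)
    (h : (AlgSp.yon S).obj Z ⟶ Y) :
    ∃ (T : Over S) (i₀ : T ⟶ Z) (fst : (AlgSp.yon S).obj T ⟶ X),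
      IsPullback fst ((AlgSp.yon S).map i₀) f h ∧ IsAffine T.left ∧
      ∃ (m : ℕ) (W : Fin m → Over S) (c : ∀ j, W j ⟶ Z), (∀ j, IsAffine (W j).left) ∧
        (∀ j, Flat (c j).left) ∧ (∀ z : ↥Z.left, ∃ j, z ∈ Set.range (c j).left) ∧
        ∀ j, ∃ (i : ι) (l : (AlgSp.yon S).obj (W j) ⟶ Yi i),
          ∀ (V : Over S) (v : V ⟶ W j) (fstV : (AlgSp.yon S).obj V ⟶ Xi i),
            IsPullback fstV ((AlgSp.yon S).map v) (p i) l →
            ∃ g₀ : V ⟶ T, IsPullback g₀.left v.left i₀.left (c j).left := by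
  have hF : AlgSp.IsAlgSpace (pullback f h) :=
    Groth.Agent.S9874.isAlgSpace_of_isPullback hY.diag hX (AlgSp.IsAlgSpace.yon_obj Z)
      (IsPullback.of_hasPullback f h)
  obtain ⟨m, W, c, hW, hfl, hsurj, hl⟩ := hcov.2 Z hZ h
  choose i l hl using hl
  choose V v fstV sqV hV using fun j => H (i j) (hW j) (l j)
  -- the squares over `Z`
  have hw : ∀ j, (fstV j ≫ q (i j)) ≫ f =
      ((AlgSp.yon S).map (v j) ≫ (AlgSp.yon S).map (c j)) ≫ h := by
    intro j
    rw [Category.assoc, (sq (i j)).w, ← Category.assoc, (sqV j).w, Category.assoc, hl,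
      Category.assoc]
  have sqF : ∀ j, IsPullback (pullback.lift _ _ (hw j)) ((AlgSp.yon S).map (v j))
      (pullback.snd f h) ((AlgSp.yon S).map (c j)) := by
    intro j
    have big : IsPullback (fstV j ≫ q (i j)) ((AlgSp.yon S).map (v j)) f
        ((AlgSp.yon S).map (c j) ≫ h) := by
      rw [← hl]
      exact (sqV j).paste_horiz (sq (i j))
    refine IsPullback.of_right ?_ (pullback.lift_snd _ _ _) (IsPullback.of_hasPullback f h)
    rw [pullback.lift_fst]
    exact big
  obtain ⟨T, i₀, φ, hT, hφ, hφi⟩ := Groth.Agent.Lib.Seat46.AffDescent.exists_affine_rep hZ hF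
    (pullback.snd f h) W c hW hfl hsurj V v _ hV sqF
  have sqT : IsPullback (inv φ ≫ pullback.fst f h) ((AlgSp.yon S).map i₀) f h :=
    IsPullback.of_iso (IsPullback.of_hasPullback f h) (asIso φ) (Iso.refl _) (Iso.refl _)
      (Iso.refl _) (by simp) (by simp [hφi]) (by simp) (by simp)
  refine ⟨T, i₀, inv φ ≫ pullback.fst f h, sqT, hT, m, W, c, hW, hfl, hsurj, fun j => ?_⟩
  refine ⟨i j, l j, fun V' v' fstV' sqV' => ?_⟩
  have big : IsPullback (fstV' ≫ q (i j)) ((AlgSp.yon S).map v') f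
      ((AlgSp.yon S).map (c j) ≫ h) := by
    rw [← hl]
    exact sqV'.paste_horiz (sq (i j))
  obtain ⟨g₀, hg₀⟩ := (AlgSp.yon S).map_surjective
    (sqT.lift (fstV' ≫ q (i j)) ((AlgSp.yon S).map v' ≫ (AlgSp.yon S).map (c j))
      (by rw [Category.assoc]; exact big.w))
  have hg₀2 : g₀ ≫ i₀ = v' ≫ c j := by
    apply (AlgSp.yon S).map_injective
    rw [Functor.map_comp, hg₀, sqT.lift_snd, Functor.map_comp]
  have sqY : IsPullback ((AlgSp.yon S).map g₀) ((AlgSp.yon S).map v') ((AlgSp.yon S).map i₀)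
      ((AlgSp.yon S).map (c j)) := by
    refine IsPullback.of_right ?_ (by rw [← Functor.map_comp, ← Functor.map_comp, hg₀2]) sqT
    rw [hg₀, sqT.lift_fst]
    exact big
  exact ⟨g₀, (IsPullback.of_map (AlgSp.yon S) hg₀2 sqY).map (Over.forget S)⟩

/-- **fpqc descent for `RepWith P`**, `P` a class of affine morphisms. -/
theorem isLocalOnBase_fpqc_repWith_of_affine (P : MorphismProperty Scheme.{u})
    [IsZariskiLocalAtTarget P] [P.IsStableUnderBaseChange]
    [P.DescendsAlong (@Surjective ⊓ @Flat ⊓ @QuasiCompact)]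
    (hPaff : ∀ {A B : Scheme.{u}} (k : A ⟶ B), P k → IsAffineHom k) :
    AlgSp.IsLocalOnBase (AlgSp.IsFpqcCover (S := S)) (AlgSp.RepWith P) := by
  intro ι Y Yi g hY hYi hcov X f hX Xi p q hXi sq
  constructor
  · intro hf i
    exact (AlgSp.repWith_isStableUnderBaseChange P).of_isPullback (sq i) hf
  · intro H
    have Haff : ∀ i, AlgSp.IsAffineMor (p i) := by
      intro i Z hZ l
      obtain ⟨V, v, fstV, sqV⟩ := (H i).1 l
      have hv : P v.left := (H i).2 l fstV v sqV
      haveI := hPaff _ hv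
      haveI := hZ
      exact ⟨V, v, fstV, sqV, isAffine_of_isAffineHom v.left⟩
    refine Groth.Agent.Lib.Helper12.ZarGlue.repWith_of_affine P f (fun Z hZ h => ?_)
    obtain ⟨T, i₀, fst, sqT, hT, m, W, c, hW, hfl, hsurj, hj⟩ :=
      exists_rep_of_fpqc Yi g hY hcov f hX Xi p q sq Haff hZ h
    refine ⟨T, i₀, fst, sqT, ?_⟩
    haveI := hZ
    refine Groth.Agent.Lib.Helper12.BaseLocal.of_standard_fpqc P i₀.left (fun j => (W j).left)
      (fun j => (c j).left) hW hfl hsurj (fun j => ?_)
    obtain ⟨i, l, hl⟩ := hj j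
    obtain ⟨V, v, fstV, sqV⟩ := (H i).1 l
    have hv : P v.left := (H i).2 l fstV v sqV
    obtain ⟨g₀, hg₀⟩ := hl V v fstV sqV
    exact ⟨V.left, g₀.left, v.left, hg₀, hv⟩

end Groth.Agent.Lib.Seat46.RepDescent
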