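import Mathlib
import Groth.Prelude.Def_AlgSp
import Groth.Prelude.Def_AlgSpCov
import Groth.Agent.Lib.Helper12LocPCases
import Groth.Agent.S10505
import Groth.Agent.S10534
import Groth.Agent.S10531
import Groth.Agent.S9947
import Groth.Agent.S9906
import Groth.Agent.S9874
import Groth.Agent.S9928
import Groth.Agent.S10175
import Groth.Agent.S10176
import Groth.Agent.S10177
import Groth.Agent.S10288
import Groth.Agent.S10194
import Groth.Agent.S10195
import Groth.Agent.S10196

/-!
# Descent of immersions along an étale chart (seat 43)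

* `of_chart`: a property of morphisms of algebraic spaces which is fpqc local on the base descends
  along the base change to a single étale surjective chart from a scheme.
* `repWith_immersion_of_chart`: a morphism of algebraic spaces whose base change to an étale
  surjective chart is an immersion of schemes is representable by immersions.
-/

set_option autoImplicit false
universe u
open CategoryTheory CategoryTheory.Limits AlgebraicGeometry Opposite

namespace Groth.Agent.Lib.Seat43.ImmDescent

variable {S : Scheme.{u}}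

/-- an étale surjective chart, as a one-member family, is an fpqc covering. -/
theorem isFpqcCover_chart {Y : AlgSp.Sp S} (hY : AlgSp.IsAlgSpace Y) (V : Over S)
    (p : (AlgSp.yon S).obj V ⟶ Y) (hp : AlgSp.RepWith @Etale p)
    (hps : AlgSp.RepWith @Surjective p) :
    AlgSp.IsFpqcCover (fun _ : PUnit.{u + 1} => (AlgSp.yon S).obj V) (fun _ => p) := by
  have hgood := Groth.Agent.Lib.Helper12.LocPCases.good_flat.{u}
  have hgood' := Groth.Agent.Lib.Helper12.LocPCases.good_lfp.{u}
  let UU : AlgSp.Space S := ⟨(AlgSp.yon S).obj V, AlgSp.IsAlgSpace.yon_obj V⟩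
  let YY : AlgSp.Space S := ⟨Y, hY⟩
  let pp : UU ⟶ YY := ObjectProperty.homMk p
  refine Groth.Agent.S10505.result YY (fun _ : PUnit.{u + 1} => UU) (fun _ => pp)
    ⟨fun _ => ⟨?_, ?_⟩, ?_⟩
  · exact Groth.Agent.S9947.locP_of_repWith_etale _ hgood.hEt p hp
  · exact Groth.Agent.S9947.locP_of_repWith_etale _ hgood'.hEt p hp
  · intro x
    exact ⟨PUnit.unit, Groth.Agent.S9906.surjective_map_of_repWith p hps x⟩

/-- a property which is fpqc local on the base descends along the base change to an étale
surjective chart. -/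
theorem of_chart (Q : MorphismProperty (AlgSp.Sp S))
    (hQ : AlgSp.IsLocalOnBase (AlgSp.IsFpqcCover (S := S)) Q)
    {X Y : AlgSp.Sp S} (hX : AlgSp.IsAlgSpace X) (hY : AlgSp.IsAlgSpace Y) (f : X ⟶ Y)
    (V : Over S) (p : (AlgSp.yon S).obj V ⟶ Y) (hp : AlgSp.RepWith @Etale p)
    (hps : AlgSp.RepWith @Surjective p) {P : AlgSp.Sp S} (fst : P ⟶ X)
    (snd : P ⟶ (AlgSp.yon S).obj V) (sq : IsPullback fst snd f p) (h : Q snd) : Q f := by
  have hP : AlgSp.IsAlgSpace P :=
    Groth.Agent.S9874.isAlgSpace_of_isPullback hY.diag hX (AlgSp.IsAlgSpace.yon_obj V) sq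
  exact (hQ (fun _ : PUnit.{u + 1} => (AlgSp.yon S).obj V) (fun _ => p) hY
    (fun _ => AlgSp.IsAlgSpace.yon_obj V) (isFpqcCover_chart hY V p hp hps) f hX (fun _ => P)
    (fun _ => snd) (fun _ => fst) (fun _ => hP) (fun _ => sq)).2 (fun _ => h)

/-- **Descent of immersions along an étale chart.** -/
theorem repWith_immersion_of_chart {X Y : AlgSp.Space S} (f : X ⟶ Y) (V : Over S)
    (p : (AlgSp.yon S).obj V ⟶ Y.obj) (hp : AlgSp.RepWith @Etale p)
    (hps : AlgSp.RepWith @Surjective p) (W : Over S) (w : W ⟶ V)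
    (fst : (AlgSp.yon S).obj W ⟶ X.obj) (sq : IsPullback fst ((AlgSp.yon S).map w) f.hom p)
    [IsImmersion w.left] : AlgSp.RepWith @IsImmersion f.hom := by
  -- the image of `f` on points and its preimage in the chart
  have hpre : AlgSp.Points.ofPt p ⁻¹' Set.range (AlgSp.Points.map f.hom) = Set.range w.left := by
    ext v
    constructor
    · rintro ⟨x, hx⟩
      obtain ⟨q, -, hq2⟩ := Groth.Agent.S10175.exists_point_of_isPullback sq x
        (AlgSp.Points.schemeHomeo V v) (by rw [hx, AlgSp.Points.ofPt_eq_map_ofScheme]; rfl)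
      obtain ⟨w0, rfl⟩ := (AlgSp.Points.schemeHomeo W).surjective q
      refine ⟨w0, ?_⟩
      apply (AlgSp.Points.schemeHomeo V).injective
      rw [← hq2]
      exact (AlgSp.Points.map_yon_map_apply w w0).symm
    · rintro ⟨w0, rfl⟩
      refine ⟨AlgSp.Points.ofPt fst w0, ?_⟩
      rw [AlgSp.Points.map_ofPt, sq.w, Groth.Agent.S10176.ofPt_map_comp]
  have hcob : AlgSp.Points.ofPt p ⁻¹' coborder (Set.range (AlgSp.Points.map f.hom)) =
      coborder (Set.range w.left) := by
    rw [← coborder_preimage (Groth.Agent.S10176.isOpenMap_ofPt p hp)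
      (AlgSp.Points.continuous_ofPt p), hpre]
  have hlc : IsOpen (coborder (Set.range (AlgSp.Points.map f.hom))) := by
    rw [← (Groth.Agent.S10177.isQuotientMap_ofPt p hp hps).isOpen_preimage, hcob]
    exact w.left.isLocallyClosed_range.isOpen_coborder
  -- the open subspace
  obtain ⟨Y0, j, hj, hjr⟩ := Groth.Agent.S10195.result Y _ hlc
  have : Mono j.hom := Groth.Agent.S9928.mono_of_repWith @IsOpenImmersion
    (fun _ _ g hg => by have : IsOpenImmersion g := hg; infer_instance) j.hom hj
  obtain ⟨f0, hf0⟩ := (Groth.Agent.S10194.exists_factor_iff j.hom hj f.hom).2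
    (by rw [hjr]; exact subset_coborder)
  -- the chart of the open subspace
  let V0 : Over S := Over.mk (w.left.coborderRange.ι ≫ V.hom)
  let ι0 : V0 ⟶ V := Over.homMk w.left.coborderRange.ι rfl
  let w0 : W ⟶ V0 := Over.homMk w.left.liftCoborder (by
    show w.left.liftCoborder ≫ w.left.coborderRange.ι ≫ V.hom = W.hom
    rw [← Category.assoc, Scheme.Hom.liftCoborder_ι, Over.w])
  have hw0 : w0 ≫ ι0 = w := by
    ext
    exact Scheme.Hom.liftCoborder_ι w.left
  have hae : AlgSp.RepWith @Etale ((AlgSp.yon S).map ι0 ≫ p) :=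
    (AlgSp.repWith_isMultiplicative (S := S) @Etale).comp_mem _ _
      ((AlgSp.repWith_yon_map_iff @Etale ι0).2
        (show Etale w.left.coborderRange.ι from inferInstance)) hp
  have himage : Set.range (AlgSp.Points.map j.hom) =
      Set.range (AlgSp.Points.ofPt ((AlgSp.yon S).map ι0 ≫ p)) := by
    rw [hjr]
    ext y
    constructor
    · intro hy
      obtain ⟨v, rfl⟩ := Groth.Agent.S10177.surjective_ofPt p hps y
      have hv : v ∈ coborder (Set.range w.left) := by
        rw [← hcob]; exact hy
      refine ⟨⟨v, hv⟩, ?_⟩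
      exact Groth.Agent.S10176.ofPt_map_comp ι0 p ⟨v, hv⟩
    · rintro ⟨v, rfl⟩
      rw [Groth.Agent.S10176.ofPt_map_comp]
      have hv : (ι0.left v) ∈ coborder (Set.range w.left) := v.2
      rw [← hcob] at hv
      exact hv
  obtain ⟨a', ha', ha'e, ha's, -⟩ := Groth.Agent.S10196.result ((AlgSp.yon S).map ι0 ≫ p) hae j hj himage
  -- the base change of `f0` to the chart
  have : Mono ((AlgSp.yon S).map ι0) := by
    have : Mono ι0.left := show Mono w.left.coborderRange.ι from inferInstance
    have : Mono ι0 := (Over.forget S).mono_of_mono_map ‹_›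
    infer_instance
  have hcomm : fst ≫ f0 = (AlgSp.yon S).map w0 ≫ a' := by
    rw [← cancel_mono j.hom, Category.assoc, hf0, Category.assoc, ha', ← Category.assoc,
      ← Functor.map_comp, hw0]
    exact sq.w
  have sq0 : IsPullback fst ((AlgSp.yon S).map w0) f0 a' := by
    refine ⟨⟨hcomm⟩, ⟨PullbackCone.IsLimit.mk _
      (fun s => sq.lift s.fst (s.snd ≫ (AlgSp.yon S).map ι0) (by
        rw [← hf0, ← Category.assoc, s.condition, Category.assoc, ha', Category.assoc]))
      (fun s => sq.lift_fst _ _ _) (fun s => ?_) (fun s m h1 h2 => ?_)⟩⟩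
    · rw [← cancel_mono ((AlgSp.yon S).map ι0), Category.assoc, ← Functor.map_comp, hw0]
      exact sq.lift_snd _ _ _
    · apply sq.hom_ext
      · rw [sq.lift_fst]; exact h1
      · rw [sq.lift_snd, ← h2, Category.assoc, ← Functor.map_comp, hw0]
  have hcl : AlgSp.RepWith @IsClosedImmersion ((AlgSp.yon S).map w0) :=
    (AlgSp.repWith_yon_map_iff @IsClosedImmersion w0).2
      (show IsClosedImmersion w.left.liftCoborder from inferInstance)
  have hf0cl : AlgSp.RepWith @IsClosedImmersion f0 :=
    of_chart _ (Groth.Agent.S10534.result S) X.property Y0.property f0 V0 a' ha'e ha's fst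
      ((AlgSp.yon S).map w0) sq0 hcl
  -- compose
  rw [← hf0]
  refine (AlgSp.repWith_isMultiplicative (S := S) @IsImmersion).comp_mem _ _ ?_ ?_
  · exact ⟨hf0cl.1, fun _ _ g a b sq' => by
      have : IsClosedImmersion b.left := hf0cl.2 g a b sq'
      exact (inferInstance : IsImmersion b.left)⟩
  · exact ⟨hj.1, fun _ _ g a b sq' => by
      have : IsOpenImmersion b.left := hj.2 g a b sq'
      exact (inferInstance : IsImmersion b.left)⟩

end Groth.Agent.Lib.Seat43.ImmDescent
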