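import Mathlib
import Groth.Agent.S13210
import Groth.Agent.S9874
import Groth.Agent.S9932

/-!
# Descending a subscheme of a chart to a subspace (seat 43)

`X` an fppf sheaf over `S`, `p : h_U ⟶ X` a chart, `ι : Zo ⟶ U` a monomorphism of schemes over `S`.
We define the subsheaf `obj X p ι ⊆ X` of those sections `ξ ∈ X(T)` such that every lift
`u : T' ⟶ U` of a restriction of `ξ` factors through `ι`, and show that when `ι` is invariant
under the relation `h_U ×_X h_U = h_R`, then `h_Zo = obj ×_X h_U`.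
-/

set_option autoImplicit false
universe u
open CategoryTheory CategoryTheory.Limits AlgebraicGeometry Opposite
open AlgSp Groth.Agent.S13210

namespace Groth.Agent.Lib.Seat43.SubSp

variable {S : Scheme.{u}}

lemma yEquiv_symm_map {X : AlgSp.Sp S} {T T' : Over S} (g : T' ⟶ T) (ξ : X.obj.obj (op T)) :
    (yEquiv T' X).symm (X.obj.map g.op ξ) = (AlgSp.yon S).map g ≫ (yEquiv T X).symm ξ :=
  ((AlgSp.J S).uliftYonedaEquiv_symm_naturality_left g X ξ).symm

/-- a morphism to `U` which factors through the monomorphism `ι` locally for the fppf topology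
factors through `ι`. -/
lemma factors_of_locally {U Zo : Over S} (ι : Zo ⟶ U) [Mono ι] {T : Over S} (u : T ⟶ U)
    (Sv : Sieve T) (hSv : Sv ∈ AlgSp.J S T)
    (H : ∀ ⦃T' : Over S⦄ (h : T' ⟶ T), Sv h → ∃ z : T' ⟶ Zo, z ≫ ι = h ≫ u) :
    ∃ z : T ⟶ Zo, z ≫ ι = u := by
  have hZ : Presieve.IsSheaf (AlgSp.J S) ((AlgSp.yon S).obj Zo).obj :=
    (isSheaf_iff_isSheaf_of_type _ _).1 ((AlgSp.yon S).obj Zo).property
  have hU : Presieve.IsSheaf (AlgSp.J S) ((AlgSp.yon S).obj U).obj :=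
    (isSheaf_iff_isSheaf_of_type _ _).1 ((AlgSp.yon S).obj U).property
  let x : Presieve.FamilyOfElements ((AlgSp.yon S).obj Zo).obj Sv.arrows :=
    fun T' h hh => ULift.up (H h hh).choose
  have hx : x.Compatible := by
    intro Y₁ Y₂ W g₁ g₂ f₁ f₂ h₁ h₂ e
    show ULift.up (g₁ ≫ (H f₁ h₁).choose) = ULift.up (g₂ ≫ (H f₂ h₂).choose)
    congr 1
    rw [← cancel_mono ι, Category.assoc, Category.assoc, (H f₁ h₁).choose_spec,
      (H f₂ h₂).choose_spec, ← Category.assoc, ← Category.assoc, e]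
  obtain ⟨z, hz, -⟩ := hZ Sv hSv x hx
  refine ⟨z.down, ?_⟩
  have hsep := (hU Sv hSv).isSeparatedFor
  have : (ULift.up (z.down ≫ ι) : ((AlgSp.yon S).obj U).obj.obj (op T)) = ULift.up u := by
    refine hsep.ext ?_
    intro T' h hh
    have h1 : ((AlgSp.yon S).obj Zo).obj.map h.op z = x h hh := hz h hh
    have h2 : h ≫ z.down = (H h hh).choose := congrArg ULift.down h1
    show ULift.up (h ≫ z.down ≫ ι) = ULift.up (h ≫ u)
    congr 1
    rw [← Category.assoc, h2, (H h hh).choose_spec]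
  exact congrArg ULift.down this

section Sub

variable (X : AlgSp.Sp S) {U Zo : Over S} (p : (AlgSp.yon S).obj U ⟶ X) (ι : Zo ⟶ U)

/-- the subfunctor of sections of `X` all of whose local lifts to the chart `U` factor through
`ι`. -/
def sub : Subfunctor X.obj where
  obj T := {ξ | ∀ (T' : Over S) (g : T' ⟶ T.unop) (u : T' ⟶ U),
    (AlgSp.yon S).map u ≫ p = (AlgSp.yon S).map g ≫ (yEquiv T.unop X).symm ξ →
      ∃ z : T' ⟶ Zo, z ≫ ι = u}
  map := by
    intro T T₁ h ξ hξ T' g u hu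
    have h0 : X.obj.map h ξ = X.obj.map h.unop.op ξ := rfl
    rw [h0, yEquiv_symm_map, ← Category.assoc, ← Functor.map_comp] at hu
    exact hξ T' (g ≫ h.unop) u hu

variable {X}

lemma mem_sub_iff {T : Over S} (a : (AlgSp.yon S).obj T ⟶ X) :
    yEquiv T X a ∈ (sub X p ι).obj (op T) ↔
      ∀ (T' : Over S) (g : T' ⟶ T) (u : T' ⟶ U),
        (AlgSp.yon S).map u ≫ p = (AlgSp.yon S).map g ≫ a → ∃ z : T' ⟶ Zo, z ≫ ι = u := by
  show (∀ (T' : Over S) (g : T' ⟶ T) (u : T' ⟶ U),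
    (AlgSp.yon S).map u ≫ p = (AlgSp.yon S).map g ≫ (yEquiv T X).symm (yEquiv T X a) → _) ↔ _
  rw [Equiv.symm_apply_apply]

variable (X)

lemma sub_isSheaf [Mono ι] : Presheaf.IsSheaf (AlgSp.J S) (sub X p ι).toFunctor := by
  have hsh : Presieve.IsSheaf (AlgSp.J S) X.obj := (isSheaf_iff_isSheaf_of_type _ _).1 X.property
  rw [isSheaf_iff_isSheaf_of_type, Subfunctor.isSheaf_iff _ hsh]
  rintro ⟨T⟩ ξ hmem T' g u hu
  have h1 : ((sub X p ι).sieveOfSection ξ).pullback g ∈ AlgSp.J S T' :=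
    (AlgSp.J S).pullback_stable g hmem
  refine factors_of_locally ι u _ h1 ?_
  intro T'' h hh
  have hh' : X.obj.map (h ≫ g).op ξ ∈ (sub X p ι).obj (op T'') := hh
  refine hh' T'' (𝟙 _) (h ≫ u) ?_
  rw [yEquiv_symm_map, Functor.map_comp, Category.assoc, hu, Functor.map_comp, Category.assoc]
  erw [(AlgSp.yon S).map_id, Category.id_comp]

/-- the subsheaf. -/
noncomputable def obj [Mono ι] : AlgSp.Sp S :=
  ⟨(sub X p ι).toFunctor, sub_isSheaf X p ι⟩

/-- the inclusion. -/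
noncomputable def incl [Mono ι] : obj X p ι ⟶ X :=
  ObjectProperty.homMk (sub X p ι).ι

instance [Mono ι] : Mono (incl X p ι) := by
  have : Mono (incl X p ι).hom := inferInstanceAs (Mono (sub X p ι).ι)
  exact Sheaf.Hom.mono_of_presheaf_mono _ _ _

variable {X}

lemma factor_iff [Mono ι] {T : Over S} (a : (AlgSp.yon S).obj T ⟶ X) :
    (∃ a' : (AlgSp.yon S).obj T ⟶ obj X p ι, a' ≫ incl X p ι = a) ↔
      ∀ (T' : Over S) (g : T' ⟶ T) (u : T' ⟶ U),
        (AlgSp.yon S).map u ≫ p = (AlgSp.yon S).map g ≫ a → ∃ z : T' ⟶ Zo, z ≫ ι = u := by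
  rw [← mem_sub_iff]
  constructor
  · rintro ⟨a', rfl⟩
    rw [yEquiv_comp]
    exact (yEquiv T (obj X p ι) a').2
  · intro h
    refine ⟨(yEquiv T (obj X p ι)).symm ⟨yEquiv T X a, h⟩, ?_⟩
    rw [yEquiv_symm_comp]
    apply (yEquiv T X).injective
    rw [Equiv.apply_symm_apply]
    rfl

end Sub

section Invariant

variable {X : AlgSp.Sp S} {R U Zo : Over S} (s t : R ⟶ U) (p : (AlgSp.yon S).obj U ⟶ X)
  (ι : Zo ⟶ U) [Mono ι]

/-- `ι` is invariant under the relation `(s, t)`: a point of `R` whose source lies in `Zo` has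
its target in `Zo`. -/
def Invariant : Prop :=
  ∀ (T : Over S) (r : T ⟶ R), (∃ z : T ⟶ Zo, z ≫ ι = r ≫ s) → ∃ z : T ⟶ Zo, z ≫ ι = r ≫ t

variable {s t p ι}

/-- for an invariant `ι`, the composite `h_Zo ⟶ h_U ⟶ X` factors through the subsheaf. -/
lemma exists_q (hpb : IsPullback ((AlgSp.yon S).map t) ((AlgSp.yon S).map s) p p)
    (hinv : Invariant s t ι) :
    ∃ q : (AlgSp.yon S).obj Zo ⟶ obj X p ι, q ≫ incl X p ι = (AlgSp.yon S).map ι ≫ p := by
  rw [factor_iff]
  intro T' g u hu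
  have hw : (AlgSp.yon S).map u ≫ p = (AlgSp.yon S).map (g ≫ ι) ≫ p := by
    rw [hu, Functor.map_comp, Category.assoc]
  obtain ⟨r, hr⟩ := (AlgSp.yon S).map_surjective (hpb.lift _ _ hw)
  have h1 : r ≫ t = u := by
    apply (AlgSp.yon S).map_injective
    rw [Functor.map_comp, hr, hpb.lift_fst]
  have h2 : r ≫ s = g ≫ ι := by
    apply (AlgSp.yon S).map_injective
    rw [Functor.map_comp, hr, hpb.lift_snd]
  obtain ⟨z, hz⟩ := hinv T' r ⟨g, h2.symm⟩
  exact ⟨z, hz.trans h1⟩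

/-- `h_Zo` is the fibre product of the subsheaf with the chart. -/
lemma isPullback_q {q : (AlgSp.yon S).obj Zo ⟶ obj X p ι}
    (hq : q ≫ incl X p ι = (AlgSp.yon S).map ι ≫ p) :
    IsPullback q ((AlgSp.yon S).map ι) (incl X p ι) p := by
  refine isPullback_of_yon hq ?_
  intro T b c hbc
  obtain ⟨c₀, rfl⟩ := (AlgSp.yon S).map_surjective c
  obtain ⟨z, hz⟩ := (factor_iff p ι (b ≫ incl X p ι)).1 ⟨b, rfl⟩ T (𝟙 _) c₀ (by
    rw [← hbc]; erw [(AlgSp.yon S).map_id, Category.id_comp])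
  refine ⟨(AlgSp.yon S).map z, ⟨?_, ?_⟩, ?_⟩
  · rw [← cancel_mono (incl X p ι), Category.assoc, hq, ← Category.assoc, ← Functor.map_comp,
      hz, hbc]
  · rw [← Functor.map_comp, hz]
  · rintro a ⟨-, ha2⟩
    obtain ⟨a₀, rfl⟩ := (AlgSp.yon S).map_surjective a
    rw [← Functor.map_comp] at ha2
    have h := (AlgSp.yon S).map_injective ha2
    congr 1
    rw [← cancel_mono ι, h, hz]

/-- the subsheaf of an algebraic space cut out by an invariant subscheme of a chart is an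
algebraic space. -/
theorem isAlgSpace_obj (hX : AlgSp.IsAlgSpace X) (hpe : AlgSp.RepWith @Etale p)
    (hps : AlgSp.RepWith @Surjective p) {q : (AlgSp.yon S).obj Zo ⟶ obj X p ι}
    (hq : q ≫ incl X p ι = (AlgSp.yon S).map ι ≫ p) : AlgSp.IsAlgSpace (obj X p ι) := by
  constructor
  · refine Groth.Agent.S9874.representable_diag_of_isEqLocus (fun {T} a b => ?_)
    obtain ⟨E, e, he⟩ := Groth.Agent.S9900.exists_isEqLocus hX.diag (a ≫ incl X p ι)
      (b ≫ incl X p ι)
    refine ⟨E, e, he.1, fun T' t' => ?_⟩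
    rw [← he.2 T' t', ← Category.assoc, ← Category.assoc, cancel_mono]
  · have sq := isPullback_q hq
    exact ⟨Zo, q,
      (AlgSp.repWith_isStableUnderBaseChange (S := S) @Etale).of_isPullback sq.flip hpe,
      (AlgSp.repWith_isStableUnderBaseChange (S := S) @Surjective).of_isPullback sq.flip hps⟩

end Invariant

end Groth.Agent.Lib.Seat43.SubSp
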