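import Mathlib
import Groth.Agent.Lib.Seat43SubSp
import Groth.Agent.Lib.Seat43MonoFactor
import Groth.Agent.S9928
import Groth.Prelude.Def_AlgSpSub

/-!
# Existence of the scheme theoretic image for algebraic spaces (seat 43)

The scheme theoretic image of `f : X ⟶ Y` is constructed as the intersection of all closed
subspaces through which `f` factors: on an etale chart `V` of `Y` this is the closed subscheme of
the supremum of the corresponding ideal sheaves, which is invariant and so descends.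
-/

set_option autoImplicit false
universe u
open CategoryTheory CategoryTheory.Limits AlgebraicGeometry Opposite
open AlgSp Groth.Agent.S13210

namespace Groth.Agent.Lib.Seat43.SchImage

open Groth.Agent.Lib.Seat43.SubSp Groth.Agent.Lib.Seat43.MonoFactor

variable {S : Scheme.{u}}

/-- the kernel of a composite contains the kernel of the second map. -/
lemma ker_le_ker_comp {X Y Z : Scheme.{u}} (g : X ⟶ Y) (h : Y ⟶ Z) : h.ker ≤ (g ≫ h).ker := by
  rw [Scheme.Hom.ker_comp, ← Scheme.IdealSheafData.map_bot]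
  exact Scheme.IdealSheafData.map_mono _ bot_le

/-- the closed subscheme of an ideal sheaf on a scheme over `S`, as a scheme over `S`. -/
noncomputable def idZo (V : Over S) (I : V.left.IdealSheafData) : Over S :=
  Over.mk (I.subschemeι ≫ V.hom)

/-- its inclusion. -/
noncomputable def idι (V : Over S) (I : V.left.IdealSheafData) : idZo V I ⟶ V :=
  Over.homMk I.subschemeι rfl

instance (V : Over S) (I : V.left.IdealSheafData) : IsClosedImmersion (idι V I).left :=
  inferInstanceAs (IsClosedImmersion I.subschemeι)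

instance (V : Over S) (I : V.left.IdealSheafData) : Mono (idι V I) := by
  refine ⟨fun {T} a b h => ?_⟩
  apply Over.OverMorphism.ext
  rw [← cancel_mono (idι V I).left]
  exact congrArg (fun m => m.left) h

/-- factoring through a closed immersion over `S` in terms of kernels. -/
lemma factors_closedImm_iff {V V' T : Over S} (v' : V' ⟶ V) [IsClosedImmersion v'.left]
    (u : T ⟶ V) : (∃ z : T ⟶ V', z ≫ v' = u) ↔ v'.left.ker ≤ u.left.ker := by
  constructor
  · rintro ⟨z, rfl⟩
    exact ker_le_ker_comp z.left v'.left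
  · intro h
    have hl : IsClosedImmersion.lift v'.left u.left h ≫ v'.left = u.left :=
      IsClosedImmersion.lift_fac _ _ _
    refine ⟨Over.homMk (IsClosedImmersion.lift v'.left u.left h) ?_, ?_⟩
    · rw [← Over.w v', ← Category.assoc, hl, Over.w u]
    · apply Over.OverMorphism.ext
      exact hl

lemma factors_idι_iff {V T : Over S} (I : V.left.IdealSheafData) (u : T ⟶ V) :
    (∃ z : T ⟶ idZo V I, z ≫ idι V I = u) ↔ I ≤ u.left.ker := by
  rw [factors_closedImm_iff]
  show I.subschemeι.ker ≤ _ ↔ _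
  rw [Scheme.IdealSheafData.ker_subschemeι]

/-- every morphism of algebraic spaces has a scheme theoretic image. -/
theorem exists_isSchImage {X Y : AlgSp.Space S} (f : X ⟶ Y) :
    ∃ (Z : AlgSp.Space S) (i : Z ⟶ Y), AlgSp.IsSchImage f.hom i.hom := by
  obtain ⟨V, p, hpe, hps⟩ := Y.property.atlas
  obtain ⟨R, t, s', sq⟩ := hpe.1 p
  obtain ⟨s, rfl⟩ := (AlgSp.yon S).map_surjective s'
  have hpb : IsPullback ((AlgSp.yon S).map t) ((AlgSp.yon S).map s) p p := sq.flip
  have hst : (AlgSp.yon S).map s ≫ p = (AlgSp.yon S).map t ≫ p := sq.w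
  -- the closed subspaces through which `f` factors
  let C : ∀ (Z' : AlgSp.Sp S), (Z' ⟶ Y.obj) → Prop := fun Z' i' =>
    AlgSp.IsAlgSpace Z' ∧ AlgSp.RepWith @IsClosedImmersion i' ∧ ∃ f'' : X.obj ⟶ Z', f'' ≫ i' = f.hom
  let A : Set (V.left.IdealSheafData) := {I | ∃ (Z' : AlgSp.Sp S) (i' : Z' ⟶ Y.obj) (V' : Over S)
    (v' : V' ⟶ V) (pr : (AlgSp.yon S).obj V' ⟶ Z'), C Z' i' ∧
      IsPullback pr ((AlgSp.yon S).map v') i' p ∧ I = v'.left.ker}
  let I₀ : V.left.IdealSheafData := sSup A
  have KP : ∀ {T : Over S} (u : T ⟶ V), (∃ z : T ⟶ idZo V I₀, z ≫ idι V I₀ = u) ↔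
      ∀ (Z' : AlgSp.Sp S) (i' : Z' ⟶ Y.obj), C Z' i' →
        ∃ w : (AlgSp.yon S).obj T ⟶ Z', w ≫ i' = (AlgSp.yon S).map u ≫ p := by
    intro T u
    rw [factors_idι_iff, sSup_le_iff]
    constructor
    · intro h Z' i' hC
      obtain ⟨V', v', pr, sq'⟩ := hC.2.1.1 p
      have : IsClosedImmersion v'.left := hC.2.1.2 _ _ v' sq'
      have hI : v'.left.ker ∈ A := ⟨Z', i', V', v', pr, hC, sq', rfl⟩
      obtain ⟨z, hz⟩ := (factors_closedImm_iff v' u).2 (h _ hI)
      exact ⟨(AlgSp.yon S).map z ≫ pr, by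
        rw [Category.assoc, sq'.w, ← Category.assoc, ← Functor.map_comp, hz]⟩
    · rintro h I ⟨Z', i', V', v', pr, hC, sq', rfl⟩
      have : IsClosedImmersion v'.left := hC.2.1.2 _ _ v' sq'
      obtain ⟨w, hw⟩ := h Z' i' hC
      obtain ⟨z, hz⟩ := (AlgSp.yon S).map_surjective (sq'.lift w ((AlgSp.yon S).map u) hw)
      refine (factors_closedImm_iff v' u).1 ⟨z, ?_⟩
      apply (AlgSp.yon S).map_injective
      rw [Functor.map_comp, hz, sq'.lift_snd]
  have hinv : Invariant s t (idι V I₀) := by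
    rintro T r ⟨z, hz⟩
    refine (KP (r ≫ t)).2 fun Z' i' hC => ?_
    obtain ⟨w, hw⟩ := (KP (r ≫ s)).1 ⟨z, hz⟩ Z' i' hC
    exact ⟨w, by rw [hw, Functor.map_comp, Functor.map_comp, Category.assoc, Category.assoc, hst]⟩
  obtain ⟨q, hq⟩ := exists_q hpb hinv
  have sqq := isPullback_q hq
  have hZ : AlgSp.IsAlgSpace (obj Y.obj p (idι V I₀)) := isAlgSpace_obj Y.property hpe hps hq
  let Z : AlgSp.Space S := ⟨_, hZ⟩
  let i : Z ⟶ Y := ObjectProperty.homMk (incl Y.obj p (idι V I₀))
  have hcl : AlgSp.RepWith @IsClosedImmersion i.hom :=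
    Groth.Agent.S9932.result @IsClosedImmersion (Or.inl rfl) i V p hpe hps q _ sqq
      ((AlgSp.repWith_yon_map_iff @IsClosedImmersion (idι V I₀)).2 inferInstance)
  refine ⟨Z, i, hcl, ?_, ?_⟩
  · refine factors_of_points (incl Y.obj p (idι V I₀)) f.hom fun T x => ?_
    refine (factor_iff p (idι V I₀) (x ≫ f.hom)).2 fun T' g u hu => ?_
    refine (KP u).2 fun Z' i' hC => ?_
    obtain ⟨f'', hf''⟩ := hC.2.2
    exact ⟨(AlgSp.yon S).map g ≫ x ≫ f'', by rw [Category.assoc, Category.assoc, hf'', hu]⟩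
  · intro Z' i' hZ' hi' hf'
    have hC : C Z' i' := ⟨hZ', hi', hf'⟩
    have : Mono i' := Groth.Agent.S9928.mono_of_repWith @IsClosedImmersion
      (fun _ _ g hg => by have := hg; infer_instance) i' hi'
    refine factors_of_points i' (incl Y.obj p (idι V I₀)) fun T a => ?_
    obtain ⟨T', g, u', sq''⟩ := hpe.1 (a ≫ incl Y.obj p (idι V I₀))
    obtain ⟨u, rfl⟩ := (AlgSp.yon S).map_surjective u'
    have : Etale g.left := hpe.2 _ _ g sq''
    have : Surjective g.left := hps.2 _ _ g sq''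
    have h1 := (factor_iff p (idι V I₀) (a ≫ incl Y.obj p (idι V I₀))).1 ⟨a, rfl⟩ T' g u sq''.w
    obtain ⟨w', hw'⟩ := (KP u).1 h1 Z' i' hC
    exact factors_of_cover i' (a ≫ incl Y.obj p (idι V I₀)) g w' (hw'.trans sq''.w)

end Groth.Agent.Lib.Seat43.SchImage
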