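import Mathlib
import Groth.Agent.Lib.Seat43SchImage
import Groth.Agent.Lib.Helper12IdealDescent
import Groth.Agent.Lib.Helper12ImmersionDescent

/-!
# The scheme theoretic image of a representable quasi-compact morphism (seat 43)

For `f : X ⟶ Y` representable and quasi-compact, and an etale chart `p : h_V ⟶ Y` with
`h_U = X ×_Y h_V`, `φ : U ⟶ V`, the closed subscheme `Img φ ⊆ V` is invariant and descends to a
closed subspace of `Y`, which is the scheme theoretic image of `f`.
-/

set_option autoImplicit false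
universe u
open CategoryTheory CategoryTheory.Limits AlgebraicGeometry Opposite
open AlgSp Groth.Agent.S13210

namespace Groth.Agent.Lib.Seat43.QcImage

open Groth.Agent.Lib.Seat43.SubSp Groth.Agent.Lib.Seat43.MonoFactor
  Groth.Agent.Lib.Seat43.SchImage

variable {S : Scheme.{u}}

/-- flat base change of the kernel of a quasi-compact morphism of schemes. -/
lemma ker_of_isPullback_flat {U V U' V' : Scheme.{u}} (φ : U ⟶ V) [QuasiCompact φ] (g : V' ⟶ V)
    [Flat g] (gU : U' ⟶ U) (φ' : U' ⟶ V') (H : IsPullback gU φ' φ g) :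
    φ'.ker = φ.ker.comap g := by
  have : IsSchemeTheoreticallyDominant φ.toImage :=
    Groth.Agent.Lib.Helper12.isSchemeTheoreticallyDominant_toImage φ
  let τ' : U' ⟶ pullback g φ.imageι :=
    pullback.lift φ' (gU ≫ φ.toImage) (by rw [Category.assoc, φ.toImage_imageι, H.w])
  have hτ1 : τ' ≫ pullback.fst g φ.imageι = φ' := pullback.lift_fst _ _ _
  have hτ2 : τ' ≫ pullback.snd g φ.imageι = gU ≫ φ.toImage := pullback.lift_snd _ _ _
  have sq : IsPullback gU τ' φ.toImage (pullback.snd g φ.imageι) := by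
    refine (IsPullback.of_right ?_ hτ2 (IsPullback.of_hasPullback g φ.imageι)).flip
    rw [hτ1, φ.toImage_imageι]
    exact H.flip
  have : IsSchemeTheoreticallyDominant τ' := IsSchemeTheoreticallyDominant.of_isPullback sq
  rw [← hτ1, Groth.Agent.Lib.Helper12.ker_comp_of_dominant,
    Scheme.IdealSheafData.ker_fst_of_isClosedImmersion, Scheme.IdealSheafData.ker_subschemeι]

/-- two represented base changes of `f`, one over the other, give a pullback square of
schemes. -/
lemma exists_scheme_pullback {X Y : AlgSp.Sp S} {f : X ⟶ Y} {U V U' V' : Over S}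
    {p : (AlgSp.yon S).obj V ⟶ Y} {φ : U ⟶ V} {pr : (AlgSp.yon S).obj U ⟶ X}
    (sq : IsPullback pr ((AlgSp.yon S).map φ) f p) (g : V' ⟶ V) {φ' : U' ⟶ V'}
    {pr' : (AlgSp.yon S).obj U' ⟶ X}
    (sq' : IsPullback pr' ((AlgSp.yon S).map φ') f ((AlgSp.yon S).map g ≫ p)) :
    ∃ gU : U' ⟶ U, (AlgSp.yon S).map gU ≫ pr = pr' ∧
      IsPullback gU.left φ'.left φ.left g.left := by
  obtain ⟨gU, hgU⟩ := (AlgSp.yon S).map_surjective
    (sq.lift pr' ((AlgSp.yon S).map φ' ≫ (AlgSp.yon S).map g)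
      (by rw [Category.assoc]; exact sq'.w))
  have h1 : (AlgSp.yon S).map gU ≫ pr = pr' := by rw [hgU, sq.lift_fst]
  have h2 : gU ≫ φ = φ' ≫ g := by
    apply (AlgSp.yon S).map_injective
    rw [Functor.map_comp, hgU, sq.lift_snd, Functor.map_comp]
  have sqY : IsPullback ((AlgSp.yon S).map gU) ((AlgSp.yon S).map φ') ((AlgSp.yon S).map φ)
      ((AlgSp.yon S).map g) := by
    refine IsPullback.of_right ?_ (by rw [← Functor.map_comp, ← Functor.map_comp, h2]) sq
    rw [h1]
    exact sq'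
  exact ⟨gU, h1, (IsPullback.of_map (AlgSp.yon S) h2 sqY).map (Over.forget S)⟩

/-- the kernel of the represented base change is compatible with flat change of chart. -/
lemma ker_comap_eq {X Y : AlgSp.Sp S} {f : X ⟶ Y} {U V U' V' : Over S}
    {p : (AlgSp.yon S).obj V ⟶ Y} {φ : U ⟶ V} {pr : (AlgSp.yon S).obj U ⟶ X}
    (sq : IsPullback pr ((AlgSp.yon S).map φ) f p) [QuasiCompact φ.left] (g : V' ⟶ V)
    [Flat g.left] {φ' : U' ⟶ V'} {pr' : (AlgSp.yon S).obj U' ⟶ X}
    (sq' : IsPullback pr' ((AlgSp.yon S).map φ') f ((AlgSp.yon S).map g ≫ p)) :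
    φ'.left.ker = φ.left.ker.comap g.left := by
  obtain ⟨gU, -, H⟩ := exists_scheme_pullback sq g sq'
  exact ker_of_isPullback_flat φ.left g.left gU.left φ'.left H

/-- the closed subscheme `Img φ` of the chart is invariant. -/
lemma invariant_ker {X Y : AlgSp.Sp S} {f : X ⟶ Y} (hrep : AlgSp.Representable f)
    {R U V : Over S} {p : (AlgSp.yon S).obj V ⟶ Y} {φ : U ⟶ V}
    {pr : (AlgSp.yon S).obj U ⟶ X} (sq : IsPullback pr ((AlgSp.yon S).map φ) f p)
    [QuasiCompact φ.left] (s t : R ⟶ V) [Flat s.left] [Flat t.left]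
    (hst : (AlgSp.yon S).map s ≫ p = (AlgSp.yon S).map t ≫ p) :
    Invariant s t (idι V φ.left.ker) := by
  obtain ⟨U', φ', pr', sq'⟩ := hrep ((AlgSp.yon S).map s ≫ p)
  have hs : φ'.left.ker = φ.left.ker.comap s.left := ker_comap_eq sq s sq'
  have ht : φ'.left.ker = φ.left.ker.comap t.left := ker_comap_eq sq t (hst ▸ sq')
  have hcomap : φ.left.ker.comap s.left = φ.left.ker.comap t.left := hs.symm.trans ht
  rintro T r ⟨z, hz⟩
  rw [factors_idι_iff]
  have h1 : φ.left.ker ≤ (r ≫ s).left.ker := (factors_idι_iff _ _).1 ⟨z, hz⟩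
  have e1 : (r ≫ s).left.ker = r.left.ker.map s.left := by
    rw [Scheme.IdealSheafData.map_ker]; rfl
  have e2 : (r ≫ t).left.ker = r.left.ker.map t.left := by
    rw [Scheme.IdealSheafData.map_ker]; rfl
  rw [e1, Scheme.IdealSheafData.le_map_iff_comap_le, hcomap,
    ← Scheme.IdealSheafData.le_map_iff_comap_le, ← e2] at h1
  exact h1

/-- the scheme theoretic image of a representable quasi-compact morphism, with its description
on a chart. -/
theorem exists_isSchImage_chart {X Y : AlgSp.Space S} (f : X ⟶ Y)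
    (hrep : AlgSp.Representable f.hom) {V : Over S} (p : (AlgSp.yon S).obj V ⟶ Y.obj)
    (hpe : AlgSp.RepWith @Etale p) (hps : AlgSp.RepWith @Surjective p) {U : Over S} (φ : U ⟶ V)
    (pr : (AlgSp.yon S).obj U ⟶ X.obj) (sq : IsPullback pr ((AlgSp.yon S).map φ) f.hom p)
    [QuasiCompact φ.left] :
    ∃ (Z : AlgSp.Space S) (i : Z ⟶ Y) (q : (AlgSp.yon S).obj (idZo V φ.left.ker) ⟶ Z.obj),
      AlgSp.IsSchImage f.hom i.hom ∧
        IsPullback q ((AlgSp.yon S).map (idι V φ.left.ker)) i.hom p := by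
  obtain ⟨R, t, s', sqR⟩ := hpe.1 p
  obtain ⟨s, rfl⟩ := (AlgSp.yon S).map_surjective s'
  have : Etale s.left := hpe.2 _ _ s sqR.flip
  have : Etale t.left := hpe.2 _ _ t sqR
  have hpb : IsPullback ((AlgSp.yon S).map t) ((AlgSp.yon S).map s) p p := sqR.flip
  have hinv : Invariant s t (idι V φ.left.ker) := invariant_ker hrep sq s t sqR.w
  obtain ⟨q, hq⟩ := exists_q hpb hinv
  have sqq := isPullback_q hq
  have hZ : AlgSp.IsAlgSpace (obj Y.obj p (idι V φ.left.ker)) :=
    isAlgSpace_obj Y.property hpe hps hq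
  let Z : AlgSp.Space S := ⟨_, hZ⟩
  let i : Z ⟶ Y := ObjectProperty.homMk (incl Y.obj p (idι V φ.left.ker))
  have hcl : AlgSp.RepWith @IsClosedImmersion i.hom :=
    Groth.Agent.S9932.result @IsClosedImmersion (Or.inl rfl) i V p hpe hps q _ sqq
      ((AlgSp.repWith_yon_map_iff @IsClosedImmersion (idι V φ.left.ker)).2 inferInstance)
  refine ⟨Z, i, q, ⟨hcl, ?_, ?_⟩, sqq⟩
  · refine factors_of_points (incl Y.obj p (idι V φ.left.ker)) f.hom fun T x => ?_
    refine (factor_iff p (idι V φ.left.ker) (x ≫ f.hom)).2 fun T' g u hu => ?_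
    obtain ⟨w, hw⟩ := (AlgSp.yon S).map_surjective
      (sq.lift ((AlgSp.yon S).map g ≫ x) ((AlgSp.yon S).map u) (by rw [Category.assoc, hu]))
    have hwφ : w ≫ φ = u := by
      apply (AlgSp.yon S).map_injective
      rw [Functor.map_comp, hw, sq.lift_snd]
    rw [factors_idι_iff, ← hwφ]
    exact ker_le_ker_comp w.left φ.left
  · intro Z' i' hZ' hi' hf'
    obtain ⟨f'', hf''⟩ := hf'
    have : Mono i' := Groth.Agent.S9928.mono_of_repWith @IsClosedImmersion
      (fun _ _ g hg => by have := hg; infer_instance) i' hi'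
    obtain ⟨V', v', prV', sqV'⟩ := hi'.1 p
    have : IsClosedImmersion v'.left := hi'.2 _ _ v' sqV'
    -- `φ` factors through the trace `v'` of `Z'` on the chart
    obtain ⟨w', hw'⟩ := (AlgSp.yon S).map_surjective
      (sqV'.lift (pr ≫ f'') ((AlgSp.yon S).map φ) (by rw [Category.assoc, hf'', sq.w]))
    have hw'φ : w' ≫ v' = φ := by
      apply (AlgSp.yon S).map_injective
      rw [Functor.map_comp, hw', sqV'.lift_snd]
    have hker : v'.left.ker ≤ φ.left.ker := by
      rw [← hw'φ]; exact ker_le_ker_comp w'.left v'.left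
    obtain ⟨l, hl⟩ := (factors_closedImm_iff v' (idι V φ.left.ker)).2 (by
      show v'.left.ker ≤ (φ.left.ker).subschemeι.ker
      rw [Scheme.IdealSheafData.ker_subschemeι]; exact hker)
    refine factors_of_points i' (incl Y.obj p (idι V φ.left.ker)) fun T a => ?_
    obtain ⟨T', g, u', sq''⟩ := hpe.1 (a ≫ incl Y.obj p (idι V φ.left.ker))
    obtain ⟨u, rfl⟩ := (AlgSp.yon S).map_surjective u'
    have : Etale g.left := hpe.2 _ _ g sq''
    have : Surjective g.left := hps.2 _ _ g sq''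
    obtain ⟨z, hz⟩ := (factor_iff p (idι V φ.left.ker)
      (a ≫ incl Y.obj p (idι V φ.left.ker))).1 ⟨a, rfl⟩ T' g u sq''.w
    refine factors_of_cover i' (a ≫ incl Y.obj p (idι V φ.left.ker)) g
      ((AlgSp.yon S).map (z ≫ l) ≫ prV') ?_
    rw [Category.assoc, sqV'.w, ← Category.assoc, ← Functor.map_comp, Category.assoc, hl, hz]
    exact sq''.w

/-- scheme theoretic images are unique up to unique isomorphism. -/
lemma isSchImage_unique {F G Z Z' : AlgSp.Sp S} {f : F ⟶ G} {i : Z ⟶ G} {i' : Z' ⟶ G}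
    (hZ : AlgSp.IsAlgSpace Z) (hZ' : AlgSp.IsAlgSpace Z') (h : AlgSp.IsSchImage f i)
    (h' : AlgSp.IsSchImage f i') : ∃ e : Z ≅ Z', e.hom ≫ i' = i := by
  have hmono : ∀ {A : AlgSp.Sp S} (j : A ⟶ G), AlgSp.RepWith @IsClosedImmersion j → Mono j :=
    fun j hj => Groth.Agent.S9928.mono_of_repWith @IsClosedImmersion
      (fun _ _ g hg => by have := hg; infer_instance) j hj
  have : Mono i := hmono _ h.1
  have : Mono i' := hmono _ h'.1
  obtain ⟨k, hk⟩ := h.2.2 i' hZ' h'.1 h'.2.1
  obtain ⟨k', hk'⟩ := h'.2.2 i hZ h.1 h.2.1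
  refine ⟨⟨k, k', ?_, ?_⟩, hk⟩
  · rw [← cancel_mono i, Category.assoc, hk', hk, Category.id_comp]
  · rw [← cancel_mono i', Category.assoc, hk, hk', Category.id_comp]

end Groth.Agent.Lib.Seat43.QcImage
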