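import Mathlib
import Groth.Prelude.Def_CInt

/-!
# Seat44: schematically dense open subschemes (`CInt.IsSchematicallyDense`)

* `dense_iff_app_injective`: reformulation through `U.ι.app V`;
* `dominant_of_dense`, `dense_of_dominant`: comparison with Mathlib's `IsSchemeTheoreticallyDominant` (quasi-compact case);
* `dense_preimage_of_flat`: flat pullback of a quasi-compact schematically dense open;
* `dense_of_dense_preimage`: descent of density along flat surjective morphisms;
* `isIso_of_dense_factors`: a closed subscheme through which a dense open factors is everything.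
-/

set_option autoImplicit false
universe u

open CategoryTheory CategoryTheory.Limits AlgebraicGeometry TopologicalSpace

namespace Groth.Agent.Lib.Seat44.SchDense

variable {X Y : Scheme.{u}}

lemma injective_map_iff_of_eq {V W W' : X.Opens} (e : W = W') (h : W ≤ V) :
    Function.Injective (X.presheaf.map (homOfLE h).op) ↔
      Function.Injective (X.presheaf.map (homOfLE (e ▸ h : W' ≤ V)).op) := by
  subst e; rfl

lemma image_preimage_eq (U V : X.Opens) : U.ι ''ᵁ U.ι ⁻¹ᵁ V = V ⊓ U := by
  ext x
  constructor
  · rintro ⟨y, hy, rfl⟩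
    exact ⟨hy, y.2⟩
  · rintro ⟨hxV, hxU⟩
    exact ⟨⟨x, hxU⟩, hxV, rfl⟩

/-- Schematic density in terms of the open immersion `U.ι`. -/
theorem dense_iff_app_injective (U : X.Opens) :
    CInt.IsSchematicallyDense U ↔ ∀ V : X.Opens, Function.Injective (U.ι.app V) := by
  unfold CInt.IsSchematicallyDense
  refine forall_congr' fun V => ?_
  rw [Scheme.Opens.ι_app]
  exact (injective_map_iff_of_eq (image_preimage_eq U V) _).symm

/-- A schematically dense open has scheme theoretically dominant inclusion. -/
theorem dominant_of_dense (U : X.Opens) (h : CInt.IsSchematicallyDense U) :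
    IsSchemeTheoreticallyDominant U.ι := by
  rw [dense_iff_app_injective] at h
  refine ⟨le_bot_iff.1 ?_⟩
  rw [Scheme.IdealSheafData.le_def]
  intro V
  refine (U.ι.ideal_ker_le V).trans ?_
  rw [(RingHom.injective_iff_ker_eq_bot _).1 (h V.1)]
  exact bot_le

/-- A quasi-compact open with scheme theoretically dominant inclusion is schematically dense. -/
theorem dense_of_dominant (U : X.Opens) [QuasiCompact U.ι] [IsSchemeTheoreticallyDominant U.ι] :
    CInt.IsSchematicallyDense U := by
  rw [dense_iff_app_injective]
  exact fun V => U.ι.app_injective V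

/-- Flat pullback of a quasi-compact schematically dense open is schematically dense. -/
theorem dense_preimage_of_flat (f : Y ⟶ X) [Flat f] (U : X.Opens) [QuasiCompact U.ι]
    (h : CInt.IsSchematicallyDense U) : CInt.IsSchematicallyDense (f ⁻¹ᵁ U) := by
  haveI := dominant_of_dense U h
  have H : IsPullback (f ∣_ U) (f ⁻¹ᵁ U).ι U.ι f := isPullback_morphismRestrict f U
  haveI : IsSchemeTheoreticallyDominant (f ⁻¹ᵁ U).ι := IsSchemeTheoreticallyDominant.of_isPullback H
  haveI : QuasiCompact (f ⁻¹ᵁ U).ι := MorphismProperty.of_isPullback (P := @QuasiCompact) H inferInstance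
  exact dense_of_dominant _

/-- A flat surjective morphism is injective on sections. -/
theorem app_injective_of_flat_surjective (g : Y ⟶ X) [Flat g] [Surjective g] (V : X.Opens) :
    Function.Injective (g.app V) := by
  rw [injective_iff_map_eq_zero]
  intro s hs
  refine TopCat.Presheaf.section_ext X.sheaf V s 0 (fun x hx => ?_)
  obtain ⟨y, rfl⟩ := g.surjective x
  have hinj : Function.Injective (g.stalkMap y) := by
    algebraize [(g.stalkMap y).hom]
    have : Module.FaithfullyFlat (X.presheaf.stalk (g y)) (Y.presheaf.stalk y) :=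
      @Module.FaithfullyFlat.of_flat_of_isLocalHom _ _ _ _ _ _ _
        (Flat.stalkMap g y) (g.toLRSHom.prop y)
    exact ‹RingHom.FaithfullyFlat _›.injective
  apply hinj
  have h1 := Scheme.Hom.germ_stalkMap_apply g V y hx s
  rw [hs, map_zero] at h1
  refine h1.trans ?_
  simp only [map_zero]
  exact (map_zero (g.stalkMap y).hom).symm

/-- Density descends along flat surjective morphisms. -/
theorem dense_of_dense_preimage (g : Y ⟶ X) [Flat g] [Surjective g] (U : X.Opens)
    (h : CInt.IsSchematicallyDense (g ⁻¹ᵁ U)) : CInt.IsSchematicallyDense U := by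
  intro V
  rw [injective_iff_map_eq_zero]
  intro s hs
  apply app_injective_of_flat_surjective g V
  rw [map_zero]
  apply h (g ⁻¹ᵁ V)
  rw [map_zero]
  have hnat := g.naturality (homOfLE (inf_le_left : V ⊓ U ≤ V)).op
  have h3 : (Y.presheaf.map (homOfLE (inf_le_left : g ⁻¹ᵁ V ⊓ g ⁻¹ᵁ U ≤ g ⁻¹ᵁ V)).op) (g.app V s) =
      g.app (V ⊓ U) (X.presheaf.map (homOfLE (inf_le_left : V ⊓ U ≤ V)).op s) :=
    (ConcreteCategory.congr_hom hnat s).symm
  rw [h3, hs, map_zero]
  rfl

/-- A closed subscheme through which a schematically dense open factors is everything. -/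
theorem isIso_of_dense_factors {Z : Scheme.{u}} (i : Z ⟶ X) [IsClosedImmersion i] (U : X.Opens)
    (h : CInt.IsSchematicallyDense U) (w : U.toScheme ⟶ Z) (hw : w ≫ i = U.ι) : IsIso i := by
  rw [IsClosedImmersion.isIso_iff_ker_eq_bot]
  have h1 := (dominant_of_dense U h).ker_eq_bot
  have h2 := w.le_ker_comp i
  rw [hw, h1] at h2
  exact le_bot_iff.1 h2

end Groth.Agent.Lib.Seat44.SchDense
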