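import Mathlib
import Groth.Agent.Lib.Seat43QcImage
import Groth.Agent.Lib.Seat44SchDense
import Groth.Agent.S9874

/-!
# The scheme theoretic image of a quasi-compact morphism of algebraic spaces (seat 43)

General (non representable) case.  For `f : X ⟶ Y`, an etale chart `p : h_V ⟶ Y`, the base change
`P = X ×_Y h_V` and an etale surjective chart `c : h_U ⟶ P` whose composite `φ : U ⟶ V` is
quasi-compact, the closed subscheme `Img φ ⊆ V` is invariant and descends to the scheme theoretic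
image of `f`.

* `ker_eq_bot_of_flat_surjective`, `ker_comp_of_flat_surjective`: no quasi-compactness needed;
* `ker_eq_of_two_charts`: the kernel does not depend on the chart of `P`;
* `ker_eq_comap_of_flat`: flat base change of the kernel (the first chart quasi-compact);
* `exists_isSchImage_of_chart`: the scheme theoretic image with its trace on the chart.
-/

set_option autoImplicit false
universe u
open CategoryTheory CategoryTheory.Limits AlgebraicGeometry Opposite
open AlgSp Groth.Agent.S13210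

namespace Groth.Agent.Lib.Seat43.QcImage2

open Groth.Agent.Lib.Seat43.SubSp Groth.Agent.Lib.Seat43.MonoFactor
  Groth.Agent.Lib.Seat43.SchImage Groth.Agent.Lib.Seat43.QcImage

variable {S : Scheme.{u}}

/-- a flat surjective morphism has trivial kernel (no quasi-compactness needed). -/
lemma ker_eq_bot_of_flat_surjective {X Y : Scheme.{u}} (f : X ⟶ Y) [Flat f] [Surjective f] :
    f.ker = ⊥ := by
  rw [eq_bot_iff]
  intro U
  refine (f.ideal_ker_le U).trans ?_
  intro x hx
  have hinj := Groth.Agent.Lib.Seat44.SchDense.app_injective_of_flat_surjective f U.1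
  have : x = 0 := hinj (by rw [RingHom.mem_ker] at hx; rw [map_zero]; exact hx)
  rw [this]
  exact Submodule.zero_mem _

lemma ker_comp_of_flat_surjective {W U R : Scheme.{u}} (π : W ⟶ U) (ψ : U ⟶ R) [Flat π]
    [Surjective π] : (π ≫ ψ).ker = ψ.ker := by
  have : IsSchemeTheoreticallyDominant π := ⟨ker_eq_bot_of_flat_surjective π⟩
  exact Groth.Agent.Lib.Helper12.ker_comp_of_dominant π ψ

/-- for a flat surjective morphism, `map ∘ comap = id` on ideal sheaves. -/
lemma map_comap_eq_of_flat_surjective {X Y : Scheme.{u}} (g : X ⟶ Y) [Flat g] [Surjective g]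
    (J : Y.IdealSheafData) : (J.comap g).map g = J := by
  rw [Scheme.IdealSheafData.comap, Scheme.IdealSheafData.map_ker, pullback.condition,
    ker_comp_of_flat_surjective, Scheme.IdealSheafData.ker_subschemeι]

/-- two etale surjective charts of the same sheaf over a scheme have the same kernel. -/
lemma ker_eq_of_two_charts {P : AlgSp.Sp S} {V U₁ U₂ : Over S} (snd : P ⟶ (AlgSp.yon S).obj V)
    (c₁ : (AlgSp.yon S).obj U₁ ⟶ P) (c₂ : (AlgSp.yon S).obj U₂ ⟶ P)
    (h₁e : AlgSp.RepWith @Etale c₁) (h₁s : AlgSp.RepWith @Surjective c₁)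
    (h₂e : AlgSp.RepWith @Etale c₂) (h₂s : AlgSp.RepWith @Surjective c₂)
    (φ₁ : U₁ ⟶ V) (φ₂ : U₂ ⟶ V) (e₁ : c₁ ≫ snd = (AlgSp.yon S).map φ₁)
    (e₂ : c₂ ≫ snd = (AlgSp.yon S).map φ₂) : φ₁.left.ker = φ₂.left.ker := by
  obtain ⟨W, w₂, pr, sq⟩ := h₁e.1 c₂
  obtain ⟨w₁, rfl⟩ := (AlgSp.yon S).map_surjective pr
  have : Etale w₂.left := h₁e.2 _ _ w₂ sq
  have : Surjective w₂.left := h₁s.2 _ _ w₂ sq
  have : Etale w₁.left := h₂e.2 _ _ w₁ sq.flip
  have : Surjective w₁.left := h₂s.2 _ _ w₁ sq.flip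
  have hw : w₁ ≫ φ₁ = w₂ ≫ φ₂ := by
    apply (AlgSp.yon S).map_injective
    rw [Functor.map_comp, Functor.map_comp, ← e₁, ← e₂, ← Category.assoc, ← Category.assoc, sq.w]
  have h1 : (w₁.left ≫ φ₁.left).ker = φ₁.left.ker := ker_comp_of_flat_surjective _ _
  have h2 : (w₂.left ≫ φ₂.left).ker = φ₂.left.ker := ker_comp_of_flat_surjective _ _
  have h3 : w₁.left ≫ φ₁.left = w₂.left ≫ φ₂.left := congrArg (fun m => m.left) hw
  rw [← h1, ← h2, h3]

/-- flat base change of the kernel of a chart of the base change of `f`, the chart upstairs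
being quasi-compact over the base chart. -/
theorem ker_eq_comap_of_flat {X Y P P' : AlgSp.Sp S} {f : X ⟶ Y} {V U V' U' : Over S}
    {p : (AlgSp.yon S).obj V ⟶ Y} {fst : P ⟶ X} {snd : P ⟶ (AlgSp.yon S).obj V}
    (sq : IsPullback fst snd f p) (c : (AlgSp.yon S).obj U ⟶ P)
    (hce : AlgSp.RepWith @Etale c) (hcs : AlgSp.RepWith @Surjective c) (φ : U ⟶ V)
    (hφ : c ≫ snd = (AlgSp.yon S).map φ) [QuasiCompact φ.left] (g : V' ⟶ V) [Flat g.left]
    {fst' : P' ⟶ X} {snd' : P' ⟶ (AlgSp.yon S).obj V'}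
    (sq' : IsPullback fst' snd' f ((AlgSp.yon S).map g ≫ p))
    (c' : (AlgSp.yon S).obj U' ⟶ P') (hce' : AlgSp.RepWith @Etale c')
    (hcs' : AlgSp.RepWith @Surjective c') (φ' : U' ⟶ V')
    (hφ' : c' ≫ snd' = (AlgSp.yon S).map φ') :
    φ'.left.ker = φ.left.ker.comap g.left := by
  let m : P' ⟶ P := sq.lift fst' (snd' ≫ (AlgSp.yon S).map g) (by rw [Category.assoc]; exact sq'.w)
  have hm1 : m ≫ fst = fst' := sq.lift_fst _ _ _
  have hm2 : m ≫ snd = snd' ≫ (AlgSp.yon S).map g := sq.lift_snd _ _ _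
  have sqm : IsPullback m snd' snd ((AlgSp.yon S).map g) := by
    refine IsPullback.of_right ?_ hm2 sq
    rw [hm1]; exact sq'
  obtain ⟨U'', φ'', pr, sqU⟩ :=
    ((AlgSp.repWith_yon_map_iff @QuasiCompact φ).2 ‹_›).1 ((AlgSp.yon S).map g)
  obtain ⟨gU, rfl⟩ := (AlgSp.yon S).map_surjective pr
  have hcomm : gU ≫ φ = φ'' ≫ g := by
    apply (AlgSp.yon S).map_injective
    rw [Functor.map_comp, Functor.map_comp]; exact sqU.w
  have H : IsPullback gU.left φ''.left φ.left g.left :=
    (IsPullback.of_map (AlgSp.yon S) hcomm sqU).map (Over.forget S)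
  have hk'' : φ''.left.ker = φ.left.ker.comap g.left :=
    ker_of_isPullback_flat φ.left g.left gU.left φ''.left H
  let c'' : (AlgSp.yon S).obj U'' ⟶ P' := sqm.lift ((AlgSp.yon S).map gU ≫ c) ((AlgSp.yon S).map φ'')
    (by rw [Category.assoc, hφ]; exact sqU.w)
  have hc1 : c'' ≫ m = (AlgSp.yon S).map gU ≫ c := sqm.lift_fst _ _ _
  have hc2 : c'' ≫ snd' = (AlgSp.yon S).map φ'' := sqm.lift_snd _ _ _
  have sqc : IsPullback ((AlgSp.yon S).map gU) c'' c m := by
    refine IsPullback.of_bot ?_ hc1.symm sqm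
    rw [hc2, hφ]; exact sqU
  have hce'' : AlgSp.RepWith @Etale c'' :=
    (AlgSp.repWith_isStableUnderBaseChange (S := S) @Etale).of_isPullback sqc hce
  have hcs'' : AlgSp.RepWith @Surjective c'' :=
    (AlgSp.repWith_isStableUnderBaseChange (S := S) @Surjective).of_isPullback sqc hcs
  rw [← hk'']
  exact ker_eq_of_two_charts snd' c' c'' hce' hcs' hce'' hcs'' φ' φ'' hφ' hc2

/-- the closed subscheme `Img φ` of the chart is invariant. -/
lemma invariant_ker {X Y P : AlgSp.Sp S} (hX : AlgSp.IsAlgSpace X) (hY : AlgSp.IsAlgSpace Y)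
    {f : X ⟶ Y} {R V U : Over S} {p : (AlgSp.yon S).obj V ⟶ Y} {fst : P ⟶ X}
    {snd : P ⟶ (AlgSp.yon S).obj V} (sq : IsPullback fst snd f p)
    (c : (AlgSp.yon S).obj U ⟶ P) (hce : AlgSp.RepWith @Etale c)
    (hcs : AlgSp.RepWith @Surjective c) (φ : U ⟶ V) (hφ : c ≫ snd = (AlgSp.yon S).map φ)
    [QuasiCompact φ.left] (s t : R ⟶ V) [Flat s.left] [Flat t.left]
    (hst : (AlgSp.yon S).map s ≫ p = (AlgSp.yon S).map t ≫ p) :
    Invariant s t (idι V φ.left.ker) := by
  have hpb := IsPullback.of_hasPullback f ((AlgSp.yon S).map s ≫ p)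
  have hpb' : IsPullback (pullback.fst f ((AlgSp.yon S).map s ≫ p))
      (pullback.snd f ((AlgSp.yon S).map s ≫ p)) f ((AlgSp.yon S).map t ≫ p) := by
    rw [← hst]; exact hpb
  have hPR : AlgSp.IsAlgSpace (pullback f ((AlgSp.yon S).map s ≫ p)) :=
    Groth.Agent.S9874.isAlgSpace_of_isPullback hY.diag hX (AlgSp.IsAlgSpace.yon_obj R) hpb
  obtain ⟨U', c', hce', hcs'⟩ := hPR.atlas
  obtain ⟨φ', hφ'⟩ := (AlgSp.yon S).map_surjective (c' ≫ pullback.snd _ _)
  have hs : φ'.left.ker = φ.left.ker.comap s.left :=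
    ker_eq_comap_of_flat sq c hce hcs φ hφ s hpb c' hce' hcs' φ' hφ'.symm
  have ht : φ'.left.ker = φ.left.ker.comap t.left :=
    ker_eq_comap_of_flat sq c hce hcs φ hφ t hpb' c' hce' hcs' φ' hφ'.symm
  have hcomap : φ.left.ker.comap s.left = φ.left.ker.comap t.left := hs.symm.trans ht
  rintro T r ⟨z, hz⟩
  rw [factors_idι_iff]
  have h1 : φ.left.ker ≤ (r ≫ s).left.ker := (factors_idι_iff _ _).1 ⟨z, hz⟩
  have e1 : (r ≫ s).left.ker = r.left.ker.map s.left := by
    rw [Scheme.IdealSheafData.map_ker]; rfl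
  have e2 : (r ≫ t).left.ker = r.left.ker.map t.left := by
    rw [Scheme.IdealSheafData.map_ker]; rfl
  rw [e1, Scheme.IdealSheafData.le_map_iff_comap_le, hcomap,
    ← Scheme.IdealSheafData.le_map_iff_comap_le, ← e2] at h1
  exact h1

/-- a morphism from a scheme to the chart `V` lying under a point of `X` kills `ker φ`. -/
lemma ker_le_of_lift {X Y P : AlgSp.Sp S} {f : X ⟶ Y} {V U T : Over S}
    {p : (AlgSp.yon S).obj V ⟶ Y} {fst : P ⟶ X} {snd : P ⟶ (AlgSp.yon S).obj V}
    (sq : IsPullback fst snd f p) (c : (AlgSp.yon S).obj U ⟶ P)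
    (hce : AlgSp.RepWith @Etale c) (hcs : AlgSp.RepWith @Surjective c) (φ : U ⟶ V)
    (hφ : c ≫ snd = (AlgSp.yon S).map φ) (x : (AlgSp.yon S).obj T ⟶ X) (u : T ⟶ V)
    (hu : x ≫ f = (AlgSp.yon S).map u ≫ p) : φ.left.ker ≤ u.left.ker := by
  obtain ⟨T', e, pr, sqT⟩ := hce.1 (sq.lift x ((AlgSp.yon S).map u) hu)
  obtain ⟨w, rfl⟩ := (AlgSp.yon S).map_surjective pr
  have : Etale e.left := hce.2 _ _ e sqT
  have : Surjective e.left := hcs.2 _ _ e sqT
  have hw : w ≫ φ = e ≫ u := by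
    apply (AlgSp.yon S).map_injective
    rw [Functor.map_comp, Functor.map_comp, ← hφ, ← Category.assoc, sqT.w, Category.assoc,
      sq.lift_snd]
  have h1 : (e.left ≫ u.left).ker = u.left.ker := ker_comp_of_flat_surjective _ _
  have h3 : w.left ≫ φ.left = e.left ≫ u.left := congrArg (fun m => m.left) hw
  rw [← h1, ← h3]
  exact ker_le_ker_comp w.left φ.left

/-- the scheme theoretic image of a morphism of algebraic spaces, from a chart of the base
change which is quasi-compact over the chart of the target; with its trace on the chart. -/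
theorem exists_isSchImage_of_chart {X Y : AlgSp.Space S} (f : X ⟶ Y) {V : Over S}
    (p : (AlgSp.yon S).obj V ⟶ Y.obj) (hpe : AlgSp.RepWith @Etale p)
    (hps : AlgSp.RepWith @Surjective p) {P : AlgSp.Sp S} {fst : P ⟶ X.obj}
    {snd : P ⟶ (AlgSp.yon S).obj V} (sq : IsPullback fst snd f.hom p) {U : Over S}
    (c : (AlgSp.yon S).obj U ⟶ P) (hce : AlgSp.RepWith @Etale c)
    (hcs : AlgSp.RepWith @Surjective c) (φ : U ⟶ V) (hφ : c ≫ snd = (AlgSp.yon S).map φ)
    [QuasiCompact φ.left] :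
    ∃ (Z : AlgSp.Space S) (i : Z ⟶ Y) (q : (AlgSp.yon S).obj (idZo V φ.left.ker) ⟶ Z.obj),
      AlgSp.IsSchImage f.hom i.hom ∧
        IsPullback q ((AlgSp.yon S).map (idι V φ.left.ker)) i.hom p := by
  obtain ⟨R, t, s', sqR⟩ := hpe.1 p
  obtain ⟨s, rfl⟩ := (AlgSp.yon S).map_surjective s'
  have : Etale s.left := hpe.2 _ _ s sqR.flip
  have : Etale t.left := hpe.2 _ _ t sqR
  have hpb : IsPullback ((AlgSp.yon S).map t) ((AlgSp.yon S).map s) p p := sqR.flip
  have hinv : Invariant s t (idι V φ.left.ker) :=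
    invariant_ker X.property Y.property sq c hce hcs φ hφ s t sqR.w
  obtain ⟨q, hq⟩ := exists_q hpb hinv
  have sqq := isPullback_q hq
  have hZ : AlgSp.IsAlgSpace (obj Y.obj p (idι V φ.left.ker)) :=
    isAlgSpace_obj Y.property hpe hps hq
  let Z : AlgSp.Space S := ⟨_, hZ⟩
  let i : Z ⟶ Y := ObjectProperty.homMk (incl Y.obj p (idι V φ.left.ker))
  have hcl : AlgSp.RepWith @IsClosedImmersion i.hom :=
    Groth.Agent.S9932.result @IsClosedImmersion (Or.inl rfl) i V p hpe hps q _ sqq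
      ((AlgSp.repWith_yon_map_iff @IsClosedImmersion (idι V φ.left.ker)).2 inferInstance)
  refine ⟨Z, i, q, ⟨hcl, ?_, ?_⟩, sqq⟩
  · refine factors_of_points (incl Y.obj p (idι V φ.left.ker)) f.hom fun T x => ?_
    refine (factor_iff p (idι V φ.left.ker) (x ≫ f.hom)).2 fun T' g u hu => ?_
    rw [factors_idι_iff]
    exact ker_le_of_lift sq c hce hcs φ hφ ((AlgSp.yon S).map g ≫ x) u
      (by rw [Category.assoc, hu])
  · intro Z' i' hZ' hi' hf'
    obtain ⟨f'', hf''⟩ := hf'
    have : Mono i' := Groth.Agent.S9928.mono_of_repWith @IsClosedImmersion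
      (fun _ _ g hg => by have := hg; infer_instance) i' hi'
    obtain ⟨V', v', prV', sqV'⟩ := hi'.1 p
    have : IsClosedImmersion v'.left := hi'.2 _ _ v' sqV'
    -- `φ` factors through the trace `v'` of `Z'` on the chart
    obtain ⟨w', hw'⟩ := (AlgSp.yon S).map_surjective
      (sqV'.lift (c ≫ fst ≫ f'') ((AlgSp.yon S).map φ)
        (by rw [Category.assoc, Category.assoc, hf'', sq.w, ← Category.assoc, hφ]))
    have hw'φ : w' ≫ v' = φ := by
      apply (AlgSp.yon S).map_injective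
      rw [Functor.map_comp, hw', sqV'.lift_snd]
    have hker : v'.left.ker ≤ φ.left.ker := by
      rw [← hw'φ]; exact ker_le_ker_comp w'.left v'.left
    obtain ⟨l, hl⟩ := (factors_closedImm_iff v' (idι V φ.left.ker)).2 (by
      show v'.left.ker ≤ (φ.left.ker).subschemeι.ker
      rw [Scheme.IdealSheafData.ker_subschemeι]; exact hker)
    refine factors_of_points i' (incl Y.obj p (idι V φ.left.ker)) fun T a => ?_
    obtain ⟨T', g, u', sq''⟩ := hpe.1 (a ≫ incl Y.obj p (idι V φ.left.ker))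
    obtain ⟨u, rfl⟩ := (AlgSp.yon S).map_surjective u'
    have : Etale g.left := hpe.2 _ _ g sq''
    have : Surjective g.left := hps.2 _ _ g sq''
    obtain ⟨z, hz⟩ := (factor_iff p (idι V φ.left.ker)
      (a ≫ incl Y.obj p (idι V φ.left.ker))).1 ⟨a, rfl⟩ T' g u sq''.w
    refine factors_of_cover i' (a ≫ incl Y.obj p (idι V φ.left.ker)) g
      ((AlgSp.yon S).map (z ≫ l) ≫ prV') ?_
    rw [Category.assoc, sqV'.w, ← Category.assoc, ← Functor.map_comp, Category.assoc, hl, hz]
    exact sq''.w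

end Groth.Agent.Lib.Seat43.QcImage2
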