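import Mathlib
import Groth.Agent.Lib.Seat43QcImage2
import Groth.Agent.S10174
import Groth.Agent.S10175
import Groth.Agent.S9906
import Groth.Agent.S10176
import Groth.Agent.S10177

/-!
# Quasi-compact charts of a quasi-compact morphism of algebraic spaces (seat 43)

For a quasi-compact morphism `f : X ⟶ Y` of algebraic spaces there are an etale surjective chart
`p : h_V ⟶ Y` (with `V` a disjoint union of affine schemes) and an etale surjective chart
`c : h_U ⟶ X ×_Y h_V` such that the composite `φ : U ⟶ V` is a quasi-compact morphism of schemes.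
-/

set_option autoImplicit false
universe u
open CategoryTheory CategoryTheory.Limits AlgebraicGeometry Opposite
open AlgSp Groth.Agent.S13210

namespace Groth.Agent.Lib.Seat43.QcChart

variable {S : Scheme.{u}}

/-- an etale surjective chart of an algebraic space by a disjoint union of affine opens. -/
lemma exists_disjoint_affine_chart (Y : AlgSp.Space S) :
    ∃ (V : Over S) (p : (AlgSp.yon S).obj V ⟶ Y.obj) (K : Type u) (O : K → V.left.Opens),
      AlgSp.RepWith @Etale p ∧ AlgSp.RepWith @Surjective p ∧ (∀ k, IsAffineOpen (O k)) ∧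
      (⨆ k, O k = ⊤) ∧ (∀ k l, k ≠ l → Disjoint (O k) (O l)) := by
  obtain ⟨V₀, p₀, hp₀e, hp₀s⟩ := Y.property.atlas
  let 𝒰 := V₀.left.affineCover
  let g₀ : (∐ 𝒰.X) ⟶ V₀.left := Sigma.desc 𝒰.f
  let V : Over S := Over.mk (g₀ ≫ V₀.hom)
  let gV : V ⟶ V₀ := Over.homMk g₀ rfl
  have hge : Etale g₀ := IsZariskiLocalAtSource.sigmaDesc (P := @Etale) (fun k => inferInstance)
  have hgs : Surjective g₀ := by
    refine ⟨fun z => ?_⟩
    obtain ⟨k, w, hw⟩ := 𝒰.exists_eq z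
    refine ⟨(Sigma.ι 𝒰.X k) w, ?_⟩
    rw [← Scheme.Hom.comp_apply, Sigma.ι_desc]
    exact hw
  refine ⟨V, (AlgSp.yon S).map gV ≫ p₀, 𝒰.I₀, fun k => (Sigma.ι 𝒰.X k).opensRange, ?_, ?_, ?_, ?_, ?_⟩
  · exact (AlgSp.repWith_isMultiplicative (S := S) @Etale).comp_mem _ _
      ((AlgSp.repWith_yon_map_iff @Etale gV).2 hge) hp₀e
  · exact (AlgSp.repWith_isMultiplicative (S := S) @Surjective).comp_mem _ _
      ((AlgSp.repWith_yon_map_iff @Surjective gV).2 hgs) hp₀s
  · intro k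
    exact isAffineOpen_opensRange (Sigma.ι 𝒰.X k)
  · exact (sigmaOpenCover 𝒰.X).iSup_opensRange
  · intro k l h
    exact disjoint_opensRange_sigmaι 𝒰.X k l h

/-- two points of a representable sheaf with the same underlying point of the scheme agree. -/
lemma points_yon_ext (V : Over S) {x y : AlgSp.Points ((AlgSp.yon S).obj V)}
    (h : AlgSp.Points.toScheme V x = AlgSp.Points.toScheme V y) : x = y := by
  rw [← AlgSp.Points.ofScheme_toScheme V x, ← AlgSp.Points.ofScheme_toScheme V y, h]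

/-- the point of the chart `V` under the image of a point of a chart of the base change. -/
lemma toScheme_map_snd_ofPt {P : AlgSp.Sp S} {V U₀ : Over S} (snd : P ⟶ (AlgSp.yon S).obj V)
    (c₀ : (AlgSp.yon S).obj U₀ ⟶ P) (φ₀ : U₀ ⟶ V) (hφ₀ : c₀ ≫ snd = (AlgSp.yon S).map φ₀)
    (u : ↥U₀.left) :
    AlgSp.Points.toScheme V (AlgSp.Points.map snd (AlgSp.Points.ofPt c₀ u)) = φ₀.left u := by
  rw [AlgSp.Points.map_ofPt, hφ₀, AlgSp.Points.toScheme_ofPt]

/-- over an affine open of the chart of the target, a compact open part of a chart of the base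
change suffices. -/
lemma exists_compact_open_of_affine {X Y : AlgSp.Space S} (f : X ⟶ Y)
    (hq : AlgSp.IsQuasiCompactMor f.hom) {V : Over S} (p : (AlgSp.yon S).obj V ⟶ Y.obj)
    {P : AlgSp.Sp S} {fst : P ⟶ X.obj} {snd : P ⟶ (AlgSp.yon S).obj V}
    (sq : IsPullback fst snd f.hom p) {U₀ : Over S} (c₀ : (AlgSp.yon S).obj U₀ ⟶ P)
    (hc₀e : AlgSp.RepWith @Etale c₀) (hc₀s : AlgSp.RepWith @Surjective c₀) (φ₀ : U₀ ⟶ V)
    (hφ₀ : c₀ ≫ snd = (AlgSp.yon S).map φ₀) (O : V.left.Opens) (hO : IsAffineOpen O) :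
    ∃ U' : U₀.left.Opens, IsCompact (U' : Set ↥U₀.left) ∧ U' ≤ φ₀.left ⁻¹ᵁ O ∧
      ∀ x : AlgSp.Points P, AlgSp.Points.toScheme V (AlgSp.Points.map snd x) ∈ O →
        ∃ u ∈ U', AlgSp.Points.ofPt c₀ u = x := by
  let Vk : Over S := Over.mk (O.ι ≫ V.hom)
  let ιk : Vk ⟶ V := Over.homMk O.ι rfl
  have sqk := IsPullback.of_hasPullback snd ((AlgSp.yon S).map ιk)
  set prk := pullback.fst snd ((AlgSp.yon S).map ιk) with hprk
  set sndk := pullback.snd snd ((AlgSp.yon S).map ιk) with hsndk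
  have big : IsPullback (prk ≫ fst) sndk f.hom ((AlgSp.yon S).map ιk ≫ p) := sqk.paste_horiz sq
  have hcVk : CompactSpace ↥Vk.left := isCompact_iff_compactSpace.1 hO.isCompact
  have hqc : AlgSp.IsQuasiCompactSp (pullback snd ((AlgSp.yon S).map ιk)) :=
    hq (AlgSp.IsAlgSpace.yon_obj Vk)
      ⟨Vk, 𝟙 _, AlgSp.repWith_id _ _, AlgSp.repWith_id _ _, hcVk⟩ _ _ _ big
  have hPk : AlgSp.IsAlgSpace (pullback snd ((AlgSp.yon S).map ιk)) :=
    Groth.Agent.S9874.isAlgSpace_of_isPullback Y.property.diag X.property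
      (AlgSp.IsAlgSpace.yon_obj Vk) big
  have hcP : CompactSpace (AlgSp.Points (pullback snd ((AlgSp.yon S).map ιk))) :=
    (Groth.Agent.S10174.isQuasiCompactSp_iff hPk).1 hqc
  -- points of `P_k` lie over `O`
  have L1 : ∀ x' : AlgSp.Points (pullback snd ((AlgSp.yon S).map ιk)),
      AlgSp.Points.toScheme V (AlgSp.Points.map snd (AlgSp.Points.map prk x')) ∈ O := by
    intro x'
    rw [← AlgSp.Points.map_comp, sqk.w, AlgSp.Points.map_comp,
      ← AlgSp.Points.ofScheme_toScheme Vk (AlgSp.Points.map sndk x'), AlgSp.Points.map_ofPt,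
      Category.id_comp, AlgSp.Points.toScheme_ofPt]
    exact (AlgSp.Points.toScheme Vk (AlgSp.Points.map sndk x')).2
  -- points of `P` over `O` come from `P_k`
  have L2 : ∀ x : AlgSp.Points P, AlgSp.Points.toScheme V (AlgSp.Points.map snd x) ∈ O →
      ∃ x', AlgSp.Points.map prk x' = x := by
    intro x hx
    obtain ⟨x', hx', -⟩ := Groth.Agent.S10175.exists_point_of_isPullback sqk x
      (AlgSp.Points.ofScheme Vk ⟨_, hx⟩) (by
        apply points_yon_ext
        rw [AlgSp.Points.map_ofPt, Category.id_comp, AlgSp.Points.toScheme_ofPt]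
        rfl)
    exact ⟨x', hx'⟩
  let I := {A : U₀.left.affineOpens // A.1 ≤ φ₀.left ⁻¹ᵁ O}
  have hC : IsCompact (Set.range (AlgSp.Points.map prk)) :=
    isCompact_range (AlgSp.Points.continuous_map prk)
  have hcover : Set.range (AlgSp.Points.map prk) ⊆
      ⋃ A : I, AlgSp.Points.ofPt c₀ '' (A.1.1 : Set ↥U₀.left) := by
    rintro _ ⟨x', rfl⟩
    obtain ⟨u, hu⟩ := Groth.Agent.S10177.surjective_ofPt c₀ hc₀s (AlgSp.Points.map prk x')
    have huO : φ₀.left u ∈ O := by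
      rw [← toScheme_map_snd_ofPt snd c₀ φ₀ hφ₀ u, hu]
      exact L1 x'
    obtain ⟨A, hA, huA, hAW⟩ := (U₀.left.isBasis_affineOpens).exists_subset_of_mem_open
      (show u ∈ ((φ₀.left ⁻¹ᵁ O : U₀.left.Opens) : Set ↥U₀.left) from huO) (φ₀.left ⁻¹ᵁ O).2
    obtain ⟨A', hA', rfl⟩ := hA
    exact Set.mem_iUnion.2 ⟨⟨⟨A', hA'⟩, hAW⟩, u, huA, hu⟩
  obtain ⟨t, ht⟩ := hC.elim_finite_subcover
    (fun A : I => AlgSp.Points.ofPt c₀ '' (A.1.1 : Set ↥U₀.left))
    (fun A => Groth.Agent.S10176.isOpenMap_ofPt c₀ hc₀e _ A.1.1.2) hcover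
  refine ⟨⨆ A ∈ t, A.1.1, ?_, ?_, ?_⟩
  · have : ((⨆ A ∈ t, A.1.1 : U₀.left.Opens) : Set ↥U₀.left) =
        ⋃ A ∈ t, (A.1.1 : Set ↥U₀.left) := by simp
    rw [this]
    exact t.isCompact_biUnion (fun A _ => A.1.2.isCompact)
  · exact iSup₂_le fun A _ => A.2
  · intro x hx
    obtain ⟨x', rfl⟩ := L2 x hx
    obtain ⟨A, hAt, u, hu, hux⟩ : ∃ A ∈ t, AlgSp.Points.map prk x' ∈
        AlgSp.Points.ofPt c₀ '' (A.1.1 : Set ↥U₀.left) := by
      simpa using ht (Set.mem_range_self x')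
    exact ⟨u, (le_iSup₂ (f := fun (A : I) (_ : A ∈ t) => A.1.1) A hAt) hu, hux⟩

/-- a quasi-compact morphism of algebraic spaces has a chart diagram whose morphism of schemes is
quasi-compact. -/
theorem exists_qc_chart {X Y : AlgSp.Space S} (f : X ⟶ Y) (hq : AlgSp.IsQuasiCompactMor f.hom) :
    ∃ (V : Over S) (p : (AlgSp.yon S).obj V ⟶ Y.obj) (P : AlgSp.Sp S) (fst : P ⟶ X.obj)
      (snd : P ⟶ (AlgSp.yon S).obj V) (U : Over S) (c : (AlgSp.yon S).obj U ⟶ P) (φ : U ⟶ V),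
      AlgSp.RepWith @Etale p ∧ AlgSp.RepWith @Surjective p ∧ IsPullback fst snd f.hom p ∧
      AlgSp.RepWith @Etale c ∧ AlgSp.RepWith @Surjective c ∧ c ≫ snd = (AlgSp.yon S).map φ ∧
      QuasiCompact φ.left := by
  obtain ⟨V, p, K, O, hpe, hps, hOa, hOcov, hOdis⟩ := exists_disjoint_affine_chart Y
  have sq := IsPullback.of_hasPullback f.hom p
  have hP : AlgSp.IsAlgSpace (pullback f.hom p) :=
    Groth.Agent.S9874.isAlgSpace_of_isPullback Y.property.diag X.property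
      (AlgSp.IsAlgSpace.yon_obj V) sq
  obtain ⟨U₀, c₀, hc₀e, hc₀s⟩ := hP.atlas
  obtain ⟨φ₀, hφ₀⟩ := (AlgSp.yon S).map_surjective (c₀ ≫ pullback.snd f.hom p)
  choose U' hU'c hU'le hU'cov using fun k =>
    exists_compact_open_of_affine f hq p sq c₀ hc₀e hc₀s φ₀ hφ₀.symm (O k) (hOa k)
  let Uz : U₀.left.Opens := ⨆ k, U' k
  let U : Over S := Over.mk (Uz.ι ≫ U₀.hom)
  let j : U ⟶ U₀ := Over.homMk Uz.ι rfl
  have hje : AlgSp.RepWith @Etale ((AlgSp.yon S).map j ≫ c₀) :=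
    MorphismProperty.comp_mem _ _ _
      ((AlgSp.repWith_yon_map_iff _ _).2 (show Etale Uz.ι from inferInstance)) hc₀e
  refine ⟨V, p, _, _, _, U, (AlgSp.yon S).map j ≫ c₀, j ≫ φ₀, hpe, hps, sq, hje, ?_, ?_, ?_⟩
  · refine Groth.Agent.S9906.repWith_surjective_of_surjective_map _ hje.1 (fun x => ?_)
    have hv : AlgSp.Points.toScheme V (AlgSp.Points.map (pullback.snd f.hom p) x) ∈ (⨆ k, O k) := by
      rw [hOcov]; trivial
    obtain ⟨k, hk⟩ := TopologicalSpace.Opens.mem_iSup.1 hv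
    obtain ⟨u, hu, hux⟩ := hU'cov k x hk
    have hu0 : u ∈ Uz := (le_iSup U' k) hu
    refine ⟨AlgSp.Points.ofScheme U (⟨u, hu0⟩ : Uz), ?_⟩
    rw [← AlgSp.Points.ofPt_eq_map_ofScheme, Groth.Agent.S10176.ofPt_map_comp]
    exact hux
  · rw [Category.assoc, ← hφ₀, Functor.map_comp]
  · show QuasiCompact (Uz.ι ≫ φ₀.left)
    rw [IsZariskiLocalAtTarget.iff_of_iSup_eq_top (P := @QuasiCompact) O hOcov]
    intro k
    have : IsAffine (O k).toScheme := hOa k
    rw [HasAffineProperty.iff_of_isAffine (P := @QuasiCompact)]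
    have hset : (((Uz.ι ≫ φ₀.left) ⁻¹ᵁ O k : Uz.toScheme.Opens) : Set ↥Uz.toScheme) =
        Uz.ι ⁻¹' (U' k : Set ↥U₀.left) := by
      ext x
      constructor
      · intro hx
        have hx' : φ₀.left (Uz.ι x) ∈ O k := hx
        have hxU : Uz.ι x ∈ Uz := x.2
        obtain ⟨l, hl⟩ := TopologicalSpace.Opens.mem_iSup.1 hxU
        have hl' : φ₀.left (Uz.ι x) ∈ O l := hU'le l hl
        by_cases hkl : k = l
        · subst hkl; exact hl
        · exact absurd (show φ₀.left (Uz.ι x) ∈ (O k ⊓ O l) from ⟨hx', hl'⟩)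
            (by rw [(hOdis k l hkl).eq_bot]; exact fun h => h)
      · intro hx
        exact hU'le k hx
    have hcomp : IsCompact (((Uz.ι ≫ φ₀.left) ⁻¹ᵁ O k : Uz.toScheme.Opens) : Set ↥Uz.toScheme) := by
      rw [hset]
      exact (Uz.ι.isOpenEmbedding.isInducing.isCompact_preimage_iff
        (by rw [Scheme.Opens.range_ι]; exact le_iSup U' k)).2 (hU'c k)
    exact isCompact_iff_compactSpace.1 hcomp

end Groth.Agent.Lib.Seat43.QcChart
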