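import Mathlib
import Groth.Agent.Lib.Seat43QcChart

/-!
# The trace of the scheme theoretic image of a quasi-compact morphism on a flat chart (seat 43)

* `ker_trace_eq`: for `f : X ⟶ Y` quasi-compact with scheme theoretic image `i : Z ⟶ Y`, a flat
  morphism `b : h_V' ⟶ Y` from a scheme, and a chart `c' : h_U' ⟶ X ×_Y h_V'` quasi-compact over
  `V'`, the trace of `Z` on `V'` is the scheme theoretic image of `φ' : U' ⟶ V'`.
* `factors_of_trace`: closed subspaces are compared on an atlas.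
-/

set_option autoImplicit false
universe u
open CategoryTheory CategoryTheory.Limits AlgebraicGeometry Opposite
open AlgSp Groth.Agent.S13210

namespace Groth.Agent.Lib.Seat43.QcTrace

open Groth.Agent.Lib.Seat43.SubSp Groth.Agent.Lib.Seat43.MonoFactor
  Groth.Agent.Lib.Seat43.SchImage Groth.Agent.Lib.Seat43.QcImage Groth.Agent.Lib.Seat43.QcImage2
  Groth.Agent.Lib.Seat43.QcChart

variable {S : Scheme.{u}}

/-- the kernel of the base change of a closed immersion, for an arbitrary pullback square. -/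
lemma ker_fst_of_isPullback {W Zo V'' V : Scheme.{u}} (fstW : W ⟶ V'') (sndW : W ⟶ Zo)
    (g : V'' ⟶ V) (ι : Zo ⟶ V) [IsClosedImmersion ι] (H : IsPullback fstW sndW g ι) :
    fstW.ker = ι.ker.comap g := by
  have h1 : H.isoPullback.hom ≫ pullback.fst g ι = fstW := H.isoPullback_hom_fst
  rw [← h1, Scheme.Hom.ker_comp_of_isIso, Scheme.IdealSheafData.ker_fst_of_isClosedImmersion]

/-- the trace on `V''` of a closed immersion of schemes over `S`, with its kernel. -/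
lemma exists_trace_of_closedImm {V V'' Zo : Over S} (ι : Zo ⟶ V) [IsClosedImmersion ι.left]
    (g : V'' ⟶ V) :
    ∃ (W : Over S) (w : W ⟶ V'') (pr : W ⟶ Zo),
      IsPullback ((AlgSp.yon S).map pr) ((AlgSp.yon S).map w) ((AlgSp.yon S).map ι)
        ((AlgSp.yon S).map g) ∧ w.left.ker = ι.left.ker.comap g.left := by
  obtain ⟨W, w, pr', sqW⟩ :=
    ((AlgSp.repWith_yon_map_iff @IsClosedImmersion ι).2 ‹_›).1 ((AlgSp.yon S).map g)
  obtain ⟨pr, rfl⟩ := (AlgSp.yon S).map_surjective pr'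
  have hcomm : pr ≫ ι = w ≫ g := by
    apply (AlgSp.yon S).map_injective
    rw [Functor.map_comp, Functor.map_comp]; exact sqW.w
  have H : IsPullback pr.left w.left ι.left g.left :=
    (IsPullback.of_map (AlgSp.yon S) hcomm sqW).map (Over.forget S)
  exact ⟨W, w, pr, sqW, ker_fst_of_isPullback w.left pr.left g.left ι.left H.flip⟩

/-- two traces of the same monomorphism along the same map have the same kernel. -/
lemma ker_eq_of_two_traces {Z Y : AlgSp.Sp S} (i : Z ⟶ Y) {V'' W₁ W₂ : Over S}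
    (m : (AlgSp.yon S).obj V'' ⟶ Y) (w₁ : W₁ ⟶ V'') (w₂ : W₂ ⟶ V'')
    (q₁ : (AlgSp.yon S).obj W₁ ⟶ Z) (q₂ : (AlgSp.yon S).obj W₂ ⟶ Z)
    (sq₁ : IsPullback q₁ ((AlgSp.yon S).map w₁) i m)
    (sq₂ : IsPullback q₂ ((AlgSp.yon S).map w₂) i m) : w₁.left.ker = w₂.left.ker := by
  obtain ⟨a, ha⟩ := (AlgSp.yon S).map_surjective (sq₂.lift q₁ ((AlgSp.yon S).map w₁) sq₁.w)
  obtain ⟨b, hb⟩ := (AlgSp.yon S).map_surjective (sq₁.lift q₂ ((AlgSp.yon S).map w₂) sq₂.w)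
  have h1 : a ≫ w₂ = w₁ := by
    apply (AlgSp.yon S).map_injective
    rw [Functor.map_comp, ha, sq₂.lift_snd]
  have h2 : b ≫ w₁ = w₂ := by
    apply (AlgSp.yon S).map_injective
    rw [Functor.map_comp, hb, sq₁.lift_snd]
  refine le_antisymm ?_ ?_
  · rw [← h2]; exact ker_le_ker_comp b.left w₁.left
  · rw [← h1]; exact ker_le_ker_comp a.left w₂.left

/-- the trace of the scheme theoretic image of a quasi-compact morphism on a flat chart. -/
theorem ker_trace_eq {X Y Z : AlgSp.Space S} (f : X ⟶ Y) (hq : AlgSp.IsQuasiCompactMor f.hom)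
    (i : Z ⟶ Y) (hZ : AlgSp.IsSchImage f.hom i.hom) {V' : Over S}
    (b : (AlgSp.yon S).obj V' ⟶ Y.obj) (hb : AlgSp.LocP @Flat b) {P' : AlgSp.Sp S}
    {fst' : P' ⟶ X.obj} {snd' : P' ⟶ (AlgSp.yon S).obj V'} (sq' : IsPullback fst' snd' f.hom b)
    {U' : Over S} (c' : (AlgSp.yon S).obj U' ⟶ P') (hce' : AlgSp.RepWith @Etale c')
    (hcs' : AlgSp.RepWith @Surjective c') (φ' : U' ⟶ V')
    (hφ' : c' ≫ snd' = (AlgSp.yon S).map φ') [QuasiCompact φ'.left] {Zo' : Over S}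
    (ι' : Zo' ⟶ V') (prZ : (AlgSp.yon S).obj Zo' ⟶ Z.obj)
    (sqZ : IsPullback prZ ((AlgSp.yon S).map ι') i.hom b) :
    ι'.left.ker = φ'.left.ker := by
  have : IsClosedImmersion ι'.left := hZ.1.2 _ _ ι' sqZ
  obtain ⟨V, p, P, fst, snd, U, c, φ, hpe, hps, sq, hce, hcs, hφ, hqcφ⟩ := exists_qc_chart f hq
  obtain ⟨Z₀, i₀, q₀, hZ₀, sqq₀⟩ := exists_isSchImage_of_chart f p hpe hps sq c hce hcs φ hφ
  obtain ⟨e, he⟩ := isSchImage_unique Z.property Z₀.property hZ hZ₀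
  -- the fibre product of the two charts of `Y`
  obtain ⟨V'', pr₁, pr₂', sqV⟩ := hpe.1 b
  obtain ⟨pr₂, rfl⟩ := (AlgSp.yon S).map_surjective pr₂'
  have : Etale pr₁.left := hpe.2 _ _ pr₁ sqV
  have : Surjective pr₁.left := hps.2 _ _ pr₁ sqV
  have : Flat pr₂.left := hb ((AlgSp.yon S).map pr₁) p pr₂
    ((AlgSp.repWith_yon_map_iff @Etale pr₁).2 inferInstance) hpe sqV.w.symm
  -- a chart of the base change of `f` to `V''`
  have hpb := IsPullback.of_hasPullback f.hom ((AlgSp.yon S).map pr₁ ≫ b)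
  have hpb' : IsPullback (pullback.fst f.hom ((AlgSp.yon S).map pr₁ ≫ b))
      (pullback.snd f.hom ((AlgSp.yon S).map pr₁ ≫ b)) f.hom ((AlgSp.yon S).map pr₂ ≫ p) := by
    rw [sqV.w]; exact hpb
  have hP'' : AlgSp.IsAlgSpace (pullback f.hom ((AlgSp.yon S).map pr₁ ≫ b)) :=
    Groth.Agent.S9874.isAlgSpace_of_isPullback Y.property.diag X.property
      (AlgSp.IsAlgSpace.yon_obj V'') hpb
  obtain ⟨U'', c'', hce'', hcs''⟩ := hP''.atlas
  obtain ⟨φ'', hφ''⟩ := (AlgSp.yon S).map_surjective (c'' ≫ pullback.snd _ _)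
  have k1 : φ''.left.ker = φ'.left.ker.comap pr₁.left :=
    ker_eq_comap_of_flat sq' c' hce' hcs' φ' hφ' pr₁ hpb c'' hce'' hcs'' φ'' hφ''.symm
  have k2 : φ''.left.ker = φ.left.ker.comap pr₂.left :=
    ker_eq_comap_of_flat sq c hce hcs φ hφ pr₂ hpb' c'' hce'' hcs'' φ'' hφ''.symm
  -- the two traces of `Z₀` on `V''`
  obtain ⟨W₁, w₁, r₁, sqW₁, hw₁⟩ := exists_trace_of_closedImm (idι V φ.left.ker) pr₂
  obtain ⟨W₂, w₂, r₂, sqW₂, hw₂⟩ := exists_trace_of_closedImm ι' pr₁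
  have sqZ₀ : IsPullback (prZ ≫ e.hom) ((AlgSp.yon S).map ι') i₀.hom b := by
    refine IsPullback.of_iso sqZ (Iso.refl _) e (Iso.refl _) (Iso.refl _) ?_ ?_ ?_ ?_
    · simp
    · simp
    · simp [he]
    · simp
  have t₁ : IsPullback ((AlgSp.yon S).map r₁ ≫ q₀) ((AlgSp.yon S).map w₁) i₀.hom
      ((AlgSp.yon S).map pr₂ ≫ p) := sqW₁.paste_horiz sqq₀
  have t₂ : IsPullback ((AlgSp.yon S).map r₂ ≫ prZ ≫ e.hom) ((AlgSp.yon S).map w₂) i₀.hom
      ((AlgSp.yon S).map pr₂ ≫ p) := by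
    rw [sqV.w]; exact sqW₂.paste_horiz sqZ₀
  have hww : w₁.left.ker = w₂.left.ker := ker_eq_of_two_traces i₀.hom _ w₁ w₂ _ _ t₁ t₂
  have hK : (idι V φ.left.ker).left.ker = φ.left.ker := by
    show (φ.left.ker).subschemeι.ker = _
    rw [Scheme.IdealSheafData.ker_subschemeι]
  have key : ι'.left.ker.comap pr₁.left = φ'.left.ker.comap pr₁.left := by
    rw [← hw₂, ← hww, hw₁, hK, ← k2, k1]
  have := congrArg (fun I => I.map pr₁.left) key
  simp only [map_comap_eq_of_flat_surjective] at this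
  exact this

/-- closed subspaces are compared on an atlas: if the trace of `Z₁` is contained in the trace
of `Z₂` then `Z₁` is contained in `Z₂`. -/
lemma factors_of_trace {Y Z₁ Z₂ : AlgSp.Sp S} (i₁ : Z₁ ⟶ Y) (i₂ : Z₂ ⟶ Y) [Mono i₂] {A : Over S}
    (p : (AlgSp.yon S).obj A ⟶ Y) (hpe : AlgSp.RepWith @Etale p)
    (hps : AlgSp.RepWith @Surjective p) {A₁ A₂ : Over S} (ι₁ : A₁ ⟶ A) (ι₂ : A₂ ⟶ A)
    (q₁ : (AlgSp.yon S).obj A₁ ⟶ Z₁) (q₂ : (AlgSp.yon S).obj A₂ ⟶ Z₂)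
    (sq₁ : IsPullback q₁ ((AlgSp.yon S).map ι₁) i₁ p)
    (w₂ : q₂ ≫ i₂ = (AlgSp.yon S).map ι₂ ≫ p) (l : A₁ ⟶ A₂) (hl : l ≫ ι₂ = ι₁) :
    ∃ k : Z₁ ⟶ Z₂, k ≫ i₂ = i₁ := by
  refine factors_of_points i₂ i₁ fun T a => ?_
  obtain ⟨T', g, u', sq''⟩ := hpe.1 (a ≫ i₁)
  obtain ⟨u, rfl⟩ := (AlgSp.yon S).map_surjective u'
  have : Etale g.left := hpe.2 _ _ g sq''
  have : Surjective g.left := hps.2 _ _ g sq''
  obtain ⟨z, hz⟩ := (AlgSp.yon S).map_surjective
    (sq₁.lift ((AlgSp.yon S).map g ≫ a) ((AlgSp.yon S).map u)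
      (by rw [Category.assoc]; exact sq''.w.symm))
  have hzu : z ≫ ι₁ = u := by
    apply (AlgSp.yon S).map_injective
    rw [Functor.map_comp, hz, sq₁.lift_snd]
  refine factors_of_cover i₂ (a ≫ i₁) g ((AlgSp.yon S).map (z ≫ l) ≫ q₂) ?_
  rw [Category.assoc, w₂, ← Category.assoc, ← Functor.map_comp, Category.assoc, hl, hzu]
  exact sq''.w

end Groth.Agent.Lib.Seat43.QcTrace
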