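import Mathlib
import Groth.Agent.Lib.Seat43QcTrace
import Groth.Agent.Lib.Seat47FamSheaf
import Groth.Prelude.Def_AlgSpModX
import Groth.Agent.S9912
import Groth.Agent.Lib.Helper12SrcLocal

/-!
# Closed subspaces cut out by the kernel ideal of a representable quasi-compact morphism (seat 43)
-/

set_option autoImplicit false
universe u
open CategoryTheory CategoryTheory.Limits AlgebraicGeometry Opposite
open AlgSp Groth.Agent.S13210

namespace Groth.Agent.Lib.Seat43.CutOut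

open Groth.Agent.Lib.Seat43.SubSp Groth.Agent.Lib.Seat43.MonoFactor
  Groth.Agent.Lib.Seat43.SchImage Groth.Agent.Lib.Seat43.QcImage Groth.Agent.Lib.Seat43.QcImage2
  Groth.Agent.Lib.Seat43.QcChart Groth.Agent.Lib.Seat43.QcTrace

variable {S : Scheme.{u}}

lemma ofIdealTop_le_iff {E : Scheme.{u}} [IsAffine E] {a b : Ideal Γ(E, ⊤)} :
    Scheme.IdealSheafData.ofIdealTop a ≤ Scheme.IdealSheafData.ofIdealTop b ↔ a ≤ b := by
  rw [← Scheme.IdealSheafData.equivOfIsAffine_symm_apply,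
    ← Scheme.IdealSheafData.equivOfIsAffine_symm_apply]
  exact map_le_map_iff (Scheme.IdealSheafData.equivOfIsAffine (X := E)).symm

/-- flat base change of the kernel on global sections of affine schemes (the inclusion that is
not formal). -/
lemma ker_appTop_le_map {E E' W W' : Scheme.{u}} [IsAffine E] [IsAffine E'] (φ : W ⟶ E)
    (φ' : W' ⟶ E') (g : E' ⟶ E) (h : φ'.ker = φ.ker.comap g) :
    RingHom.ker φ'.appTop.hom ≤ (RingHom.ker φ.appTop.hom).map g.appTop.hom := by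
  let J : E'.IdealSheafData :=
    Scheme.IdealSheafData.ofIdealTop ((RingHom.ker φ.appTop.hom).map g.appTop.hom)
  have hJ : RingHom.ker J.subschemeι.appTop.hom =
      (RingHom.ker φ.appTop.hom).map g.appTop.hom := by
    have h0 : J.subschemeι.ker = J := J.ker_subschemeι
    rw [Scheme.ker_of_isAffine] at h0
    exact le_antisymm (ofIdealTop_le_iff.1 h0.le) (ofIdealTop_le_iff.1 h0.ge)
  have h1 : φ.ker.comap g ≤ J := by
    rw [← Scheme.IdealSheafData.le_map_iff_comap_le, Scheme.IdealSheafData.map,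
      Scheme.ker_of_isAffine, Scheme.ker_of_isAffine, ofIdealTop_le_iff]
    intro a ha
    rw [RingHom.mem_ker, Scheme.Hom.comp_appTop, CommRingCat.hom_comp, RingHom.comp_apply,
      ← RingHom.mem_ker, hJ]
    exact Ideal.mem_map_of_mem _ ha
  have h2 : φ'.ker ≤ J := h ▸ h1
  rw [Scheme.ker_of_isAffine] at h2
  exact ofIdealTop_le_iff.1 h2

/-- a representable etale morphism from a scheme is flat on all chart diagrams. -/
lemma locP_flat_of_repWith_etale {Y : AlgSp.Sp S} {V : Over S} (b : (AlgSp.yon S).obj V ⟶ Y)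
    (hb : AlgSp.RepWith @Etale b) : AlgSp.LocP @Flat b := by
  intro U' W a c' h ha hc hcomm
  have : Etale h.left := Groth.Agent.Lib.Helper12.SrcLocal.etale_of_chart_comp c' (a ≫ b) h hc
    ((AlgSp.repWith_isMultiplicative (S := S) @Etale).comp_mem _ _ ha hb) hcomm.symm
  infer_instance

/-- on an affine etale chart, the scheme theoretic image of a representable quasi-compact
morphism is cut out by the kernel of the base change. -/
lemma ker_appTop_eq_of_isSchImage {X Y Z : AlgSp.Space S} (f : X ⟶ Y)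
    (hf : AlgSp.Representable f.hom) (hqc : AlgSp.IsQuasiCompactMor f.hom) (i : Z ⟶ Y)
    (hZ : AlgSp.IsSchImage f.hom i.hom) (E : AlgSp.EtOver Y.obj) (hE : IsAffine E.obj.left.left) :
    RingHom.ker (AlgSp.EtOver.bcπ hZ.1.1 E).left.appTop.hom =
      RingHom.ker (AlgSp.EtOver.bcπ hf E).left.appTop.hom := by
  have hrq : AlgSp.RepWith @QuasiCompact f.hom :=
    Groth.Agent.S9912.repWith_quasiCompact_of_isQuasiCompactMor f.hom hf hqc
  have : QuasiCompact (AlgSp.EtOver.bcπ hf E).left :=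
    hrq.2 _ _ _ (AlgSp.EtOver.isPullback_bcObj hf E)
  have hk := ker_trace_eq f hqc i hZ E.obj.hom (locP_flat_of_repWith_etale _ E.property)
    (AlgSp.EtOver.isPullback_bcObj hf E) (𝟙 _) (AlgSp.repWith_id _ _) (AlgSp.repWith_id _ _)
    (AlgSp.EtOver.bcπ hf E) (Category.id_comp _) (AlgSp.EtOver.bcπ hZ.1.1 E)
    (AlgSp.EtOver.bcObj hZ.1.1 E).obj.hom (AlgSp.EtOver.isPullback_bcObj hZ.1.1 E)
  rw [Scheme.ker_of_isAffine, Scheme.ker_of_isAffine] at hk
  exact le_antisymm (ofIdealTop_le_iff.1 hk.le) (ofIdealTop_le_iff.1 hk.ge)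

/-- closed subspaces of an algebraic space are compared through their kernel ideals on affine
etale charts. -/
lemma factors_of_affine_ideals {Y Z₁ Z₂ : AlgSp.Sp S} (hY : AlgSp.IsAlgSpace Y) (i₁ : Z₁ ⟶ Y)
    (i₂ : Z₂ ⟶ Y) (h₁ : AlgSp.RepWith @IsClosedImmersion i₁)
    (h₂ : AlgSp.RepWith @IsClosedImmersion i₂)
    (H : ∀ E : AlgSp.EtOver Y, IsAffine E.obj.left.left →
      RingHom.ker (AlgSp.EtOver.bcπ h₂.1 E).left.appTop.hom ≤
        RingHom.ker (AlgSp.EtOver.bcπ h₁.1 E).left.appTop.hom) :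
    ∃ k : Z₁ ⟶ Z₂, k ≫ i₂ = i₁ := by
  have : Mono i₂ := Groth.Agent.S9928.mono_of_repWith @IsClosedImmersion
    (fun _ _ g hg => by have := hg; infer_instance) i₂ h₂
  obtain ⟨A, p, hpe, hps⟩ := hY.atlas
  refine factors_of_points i₂ i₁ fun T a => ?_
  obtain ⟨T₁, g, u', sq''⟩ := hpe.1 (a ≫ i₁)
  obtain ⟨u, rfl⟩ := (AlgSp.yon S).map_surjective u'
  have hge : Etale g.left := hpe.2 _ _ g sq''
  have hgs : Surjective g.left := hps.2 _ _ g sq''
  let 𝒰 := A.left.affineCover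
  let Ak : 𝒰.I₀ → Over S := fun k => Over.mk (𝒰.f k ≫ A.hom)
  let ιk : ∀ k, Ak k ⟶ A := fun k => Over.homMk (𝒰.f k) rfl
  let Tk : 𝒰.I₀ → Over S := fun k => Over.mk (pullback.fst u.left (𝒰.f k) ≫ T₁.hom)
  let gk : ∀ k, Tk k ⟶ T₁ := fun k => Over.homMk (pullback.fst u.left (𝒰.f k)) rfl
  let vk : ∀ k, Tk k ⟶ Ak k := fun k => Over.homMk (pullback.snd u.left (𝒰.f k)) (by
    show pullback.snd _ _ ≫ 𝒰.f k ≫ A.hom = pullback.fst _ _ ≫ T₁.hom
    rw [← Category.assoc, ← pullback.condition, Category.assoc, Over.w u])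
  have hvk : ∀ k, gk k ≫ u = vk k ≫ ιk k := fun k => Over.OverMorphism.ext pullback.condition
  have hcov : Sieve.generate (Presieve.ofArrows Tk (fun k => gk k ≫ g)) ∈ AlgSp.J S T := by
    refine Groth.Agent.Lib.Seat47.FamSheaf.generate_ofArrows_mem_J Tk (fun k => gk k ≫ g)
      (fun k => ?_) (fun t => ?_)
    · have e : (gk k ≫ g).left = pullback.fst u.left (𝒰.f k) ≫ g.left := rfl
      rw [e]
      exact ⟨inferInstance, inferInstance⟩
    · obtain ⟨t₁, rfl⟩ := g.left.surjective t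
      obtain ⟨k, y, hy⟩ := 𝒰.exists_eq (u.left t₁)
      obtain ⟨w, hw, -⟩ := Scheme.Pullback.exists_preimage_pullback t₁ y hy.symm
      refine ⟨k, w, ?_⟩
      have e : (gk k ≫ g).left = pullback.fst u.left (𝒰.f k) ≫ g.left := rfl
      rw [e, Scheme.Hom.comp_apply, hw]
  refine factors_of_sieve i₂ (a ≫ i₁) _ hcov ?_
  let Ek : 𝒰.I₀ → AlgSp.EtOver Y := fun k => AlgSp.EtOver.mk ((AlgSp.yon S).map (ιk k) ≫ p)
    (MorphismProperty.comp_mem _ _ _
      ((AlgSp.repWith_yon_map_iff _ _).2 (show Etale (𝒰.f k) from inferInstance)) hpe)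
  rintro T'' h ⟨T₃, b, c, hc, rfl⟩
  obtain ⟨k⟩ := hc
  let E := Ek k
  have hE : IsAffine E.obj.left.left := (inferInstance : IsAffine (𝒰.X k))
  have sqE₁ := AlgSp.EtOver.isPullback_bcObj h₁.1 E
  have sqE₂ := AlgSp.EtOver.isPullback_bcObj h₂.1 E
  have : IsClosedImmersion (AlgSp.EtOver.bcπ h₁.1 E).left := h₁.2 _ _ _ sqE₁
  have : IsClosedImmersion (AlgSp.EtOver.bcπ h₂.1 E).left := h₂.2 _ _ _ sqE₂
  have hcomm : ((AlgSp.yon S).map (gk k ≫ g) ≫ a) ≫ i₁ =
      (AlgSp.yon S).map (vk k) ≫ E.obj.hom := by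
    show _ = (AlgSp.yon S).map (vk k) ≫ (AlgSp.yon S).map (ιk k) ≫ p
    rw [← Category.assoc, ← Functor.map_comp, ← hvk k, Functor.map_comp, Functor.map_comp,
      Category.assoc, Category.assoc, Category.assoc, sq''.w]
  obtain ⟨z₁, hz₁⟩ := (AlgSp.yon S).map_surjective (sqE₁.lift _ _ hcomm)
  have hz₁π : z₁ ≫ AlgSp.EtOver.bcπ h₁.1 E = vk k := by
    apply (AlgSp.yon S).map_injective
    rw [Functor.map_comp, hz₁, sqE₁.lift_snd]
  have hker : (AlgSp.EtOver.bcπ h₂.1 E).left.ker ≤ (AlgSp.EtOver.bcπ h₁.1 E).left.ker := by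
    rw [Scheme.ker_of_isAffine, Scheme.ker_of_isAffine, ofIdealTop_le_iff]
    exact H E hE
  obtain ⟨l, hl⟩ := (factors_closedImm_iff (AlgSp.EtOver.bcπ h₂.1 E)
    (AlgSp.EtOver.bcπ h₁.1 E)).2 hker
  refine ⟨(AlgSp.yon S).map (b ≫ z₁ ≫ l) ≫ (AlgSp.EtOver.bcObj h₂.1 E).obj.hom, ?_⟩
  rw [Category.assoc, sqE₂.w, ← Category.assoc, ← Functor.map_comp, Category.assoc,
    Category.assoc, hl, hz₁π, Functor.map_comp, Category.assoc, ← hcomm, Functor.map_comp,
    Functor.map_comp, Functor.map_comp]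
  simp only [Category.assoc]

/-- the kernel family of a representable quasi-compact morphism is quasi-coherent. -/
lemma isQCoh_idealOfRep {X Y : AlgSp.Sp S} (f : X ⟶ Y) (hf : AlgSp.Representable f)
    (hqc : AlgSp.IsQuasiCompactMor f) : (AlgSp.idealOfRep hf).IsQCoh := by
  intro E E' g hE hE'
  have hrq : AlgSp.RepWith @QuasiCompact f :=
    Groth.Agent.S9912.repWith_quasiCompact_of_isQuasiCompactMor f hf hqc
  have : QuasiCompact (AlgSp.EtOver.bcπ hf E).left :=
    hrq.2 _ _ _ (AlgSp.EtOver.isPullback_bcObj hf E)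
  have : Etale g.hom.left.left := Groth.Agent.Lib.Helper12.SrcLocal.etale_of_chart_comp
    E.obj.hom E'.obj.hom g.hom.left E.property E'.property (AlgSp.EtOver.w g)
  have h := ker_of_isPullback_flat (AlgSp.EtOver.bcπ hf E).left g.hom.left.left
    (AlgSp.EtOver.bcMap hf g).hom.left.left (AlgSp.EtOver.bcπ hf E').left
    (AlgSp.EtOver.isPullback_bcMap_left hf g)
  exact ker_appTop_le_map _ _ _ h

/-- the comparison theorem: scheme theoretic images are exactly the closed subspaces cut out by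
the kernel ideal. -/
theorem isSchImage_iff_isCutOutBy {X Y : AlgSp.Space S} (f : X ⟶ Y)
    (hf : AlgSp.Representable f.hom) (hqc : AlgSp.IsQuasiCompactMor f.hom)
    (Z : AlgSp.Space S) (i : Z ⟶ Y) :
    AlgSp.IsSchImage f.hom i.hom ↔ AlgSp.IsCutOutBy (AlgSp.idealOfRep hf) i.hom := by
  constructor
  · intro hZ
    refine ⟨hZ.1, AlgSp.IdealEt.ext (funext fun E => funext fun hE => ?_)⟩
    exact ker_appTop_eq_of_isSchImage f hf hqc i hZ E hE
  · rintro ⟨hi, hI⟩
    obtain ⟨Z₀, i₀, hZ₀⟩ := exists_isSchImage f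
    have hI₀ : ∀ (E : AlgSp.EtOver Y.obj) (hE : IsAffine E.obj.left.left),
        RingHom.ker (AlgSp.EtOver.bcπ hZ₀.1.1 E).left.appTop.hom =
          RingHom.ker (AlgSp.EtOver.bcπ hi.1 E).left.appTop.hom := by
      intro E hE
      rw [ker_appTop_eq_of_isSchImage f hf hqc i₀ hZ₀ E hE]
      exact (congrFun (congrFun (congrArg AlgSp.IdealEt.ideal hI) E) hE).symm
    obtain ⟨k, hk⟩ := factors_of_affine_ideals Y.property i₀.hom i.hom hZ₀.1 hi
      (fun E hE => (hI₀ E hE).ge)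
    obtain ⟨k', hk'⟩ := factors_of_affine_ideals Y.property i.hom i₀.hom hi hZ₀.1
      (fun E hE => (hI₀ E hE).le)
    obtain ⟨hc₀, ⟨f₀, hf₀⟩, hmin₀⟩ := hZ₀
    refine ⟨hi, ⟨f₀ ≫ k, by rw [Category.assoc, hk, hf₀]⟩, ?_⟩
    intro Z' i' hZ' hi' hfac
    obtain ⟨m, hm⟩ := hmin₀ i' hZ' hi' hfac
    exact ⟨k' ≫ m, by rw [Category.assoc, hm, hk']⟩

end Groth.Agent.Lib.Seat43.CutOut
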