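import Mathlib
import Groth.Agent.Lib.Seat43CutOut
import Groth.Agent.S9932

/-!
# Every quasi-coherent ideal family on the small etale site cuts out a closed subspace (seat 43)
-/

set_option autoImplicit false
universe u
open CategoryTheory CategoryTheory.Limits AlgebraicGeometry Opposite
open AlgSp Groth.Agent.S13210

namespace Groth.Agent.Lib.Seat43.CutOutEx

open Groth.Agent.Lib.Seat43.SubSp Groth.Agent.Lib.Seat43.MonoFactor
  Groth.Agent.Lib.Seat43.SchImage Groth.Agent.Lib.Seat43.QcImage Groth.Agent.Lib.Seat43.QcImage2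
  Groth.Agent.Lib.Seat43.CutOut

variable {S : Scheme.{u}}

section SchemeLevel

/-- transport of the condition "vanishes on the closed subscheme of an ideal" along a morphism
of affine schemes, when the ideal upstairs is generated by the ideal downstairs. -/
lemma le_ker_comp_iff {E E' T : Scheme.{u}} [IsAffine E] [IsAffine E'] (g : E' ⟶ E) (v : T ⟶ E')
    (a : Ideal Γ(E, ⊤)) (a' : Ideal Γ(E', ⊤)) (h : a' = a.map g.appTop.hom) :
    Scheme.IdealSheafData.ofIdealTop a' ≤ v.ker ↔
      Scheme.IdealSheafData.ofIdealTop a ≤ (v ≫ g).ker := by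
  rw [Scheme.ker_of_isAffine, Scheme.ker_of_isAffine, ofIdealTop_le_iff, ofIdealTop_le_iff, h,
    Ideal.map_le_iff_le_comap, Scheme.Hom.comp_appTop, CommRingCat.hom_comp, RingHom.comap_ker]

/-- the condition `K ≤ u.ker` is Zariski local on the source. -/
lemma le_ker_of_openCover {V T : Scheme.{u}} (K : V.IdealSheafData) (u : T ⟶ V)
    (𝒰 : T.OpenCover) (H : ∀ k, K ≤ (𝒰.f k ≫ u).ker) : K ≤ u.ker := by
  have hl : ∀ k, IsClosedImmersion.lift K.subschemeι (𝒰.f k ≫ u)
      (by rw [Scheme.IdealSheafData.ker_subschemeι]; exact H k) ≫ K.subschemeι = 𝒰.f k ≫ u :=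
    fun k => IsClosedImmersion.lift_fac _ _ _
  let Z : T ⟶ K.subscheme := 𝒰.glueMorphisms (fun k => IsClosedImmersion.lift K.subschemeι
    (𝒰.f k ≫ u) (by rw [Scheme.IdealSheafData.ker_subschemeι]; exact H k)) (by
      intro x y
      rw [← cancel_mono K.subschemeι, Category.assoc, Category.assoc, hl, hl,
        ← Category.assoc, ← Category.assoc, pullback.condition])
  have hZ : Z ≫ K.subschemeι = u := by
    refine 𝒰.hom_ext _ _ fun k => ?_
    rw [← Category.assoc, Scheme.Cover.ι_glueMorphisms, hl]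
  have := ker_le_ker_comp Z K.subschemeι
  rwa [hZ, Scheme.IdealSheafData.ker_subschemeι] at this

/-- the trace of the closed subscheme of an ideal sheaf on an affine open. -/
lemma le_ker_ι_iff {A T : Scheme.{u}} (J : A.IdealSheafData) (W : A.affineOpens)
    (w : T ⟶ W.1.toScheme) :
    haveI : IsAffine W.1.toScheme := W.2
    Scheme.IdealSheafData.ofIdealTop ((J.ideal W).comap W.1.topIso.hom.hom) ≤ w.ker ↔
      J ≤ (w ≫ W.1.ι).ker := by
  have : IsAffine W.1.toScheme := W.2
  have hcl : IsClosedImmersion (J.glueDataObjι W) := by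
    unfold Scheme.IdealSheafData.glueDataObjι
    have : IsClosedImmersion (Spec.map (CommRingCat.ofHom (Ideal.Quotient.mk (J.ideal W)))) :=
      IsClosedImmersion.spec_of_surjective _ Ideal.Quotient.mk_surjective
    exact MorphismProperty.comp_mem @IsClosedImmersion _ _ this inferInstance
  have hk : (J.glueDataObjι W).ker =
      Scheme.IdealSheafData.ofIdealTop ((J.ideal W).comap W.1.topIso.hom.hom) := by
    rw [Scheme.ker_of_isAffine, J.ker_glueDataObjι_appTop]
  have hop : IsOpenImmersion (J.subschemeCover.f W) := J.subschemeCover.map_prop W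
  have sq : IsPullback (J.glueDataObjι W) (J.subschemeCover.f W) W.1.ι J.subschemeι :=
    @IsOpenImmersion.isPullback _ _ _ _ (J.glueDataObjι W) (J.subschemeCover.f W) W.1.ι
      J.subschemeι hop inferInstance (J.subschemeCover_map_subschemeι W)
      (by rw [Scheme.Opens.opensRange_ι]; exact (J.opensRange_subschemeCover_map W).symm)
  rw [← hk]
  constructor
  · intro h
    have hl := IsClosedImmersion.lift_fac (J.glueDataObjι W) w h
    rw [← hl, Category.assoc, ← J.subschemeCover_map_subschemeι W]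
    have h1 := ker_le_ker_comp (J.subschemeCover.f W) J.subschemeι
    rw [Scheme.IdealSheafData.ker_subschemeι] at h1
    exact h1.trans (ker_le_ker_comp _ _)
  · intro h
    have h' : J.subschemeι.ker ≤ (w ≫ W.1.ι).ker := by
      rwa [Scheme.IdealSheafData.ker_subschemeι]
    have hz : IsClosedImmersion.lift J.subschemeι (w ≫ W.1.ι) h' ≫ J.subschemeι = w ≫ W.1.ι :=
      IsClosedImmersion.lift_fac _ _ _
    have hfst : sq.lift w (IsClosedImmersion.lift J.subschemeι (w ≫ W.1.ι) h') hz.symm ≫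
        J.glueDataObjι W = w := sq.lift_fst _ _ _
    rw [← hfst]
    exact ker_le_ker_comp _ _

end SchemeLevel

section Atlas

variable {X : AlgSp.Sp S} (I : AlgSp.IdealEt X)

/-- the affine etale object of `X` given by an affine open of a chart. -/
noncomputable def EU {A : Over S} (p : (AlgSp.yon S).obj A ⟶ X) (hpe : AlgSp.RepWith @Etale p)
    (U : A.left.affineOpens) : AlgSp.EtOver X :=
  AlgSp.EtOver.mk
    ((AlgSp.yon S).map (Over.homMk U.1.ι rfl : Over.mk (U.1.ι ≫ A.hom) ⟶ A) ≫ p)
    (MorphismProperty.comp_mem _ _ _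
      ((AlgSp.repWith_yon_map_iff _ _).2 (show Etale U.1.ι from inferInstance)) hpe)

lemma isAffine_EU {A : Over S} (p : (AlgSp.yon S).obj A ⟶ X) (hpe : AlgSp.RepWith @Etale p)
    (U : A.left.affineOpens) : IsAffine (EU p hpe U).obj.left.left := U.2

set_option backward.isDefEq.respectTransparency false in
/-- the ideal sheaf on a chart defined by a quasi-coherent family. -/
noncomputable def mkJ (hI : I.IsQCoh) {A : Over S} (p : (AlgSp.yon S).obj A ⟶ X)
    (hpe : AlgSp.RepWith @Etale p) : A.left.IdealSheafData where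
  ideal U := (I.ideal (EU p hpe U) (isAffine_EU p hpe U)).map U.1.topIso.hom.hom
  map_ideal_basicOpen U f := by
    have hle : (A.left.affineBasicOpen f).1 ≤ U.1 := A.left.basicOpen_le f
    let g : EU p hpe (A.left.affineBasicOpen f) ⟶ EU p hpe U :=
      AlgSp.EtOver.homMk (Over.homMk (A.left.homOfLE hle) (by
        show A.left.homOfLE hle ≫ U.1.ι ≫ A.hom = (A.left.affineBasicOpen f).1.ι ≫ A.hom
        rw [← Category.assoc, Scheme.homOfLE_ι])) (by
        show (AlgSp.yon S).map _ ≫ (AlgSp.yon S).map _ ≫ p = (AlgSp.yon S).map _ ≫ p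
        rw [← Category.assoc, ← Functor.map_comp]
        congr 2
        apply Over.OverMorphism.ext
        exact Scheme.homOfLE_ι _ hle)
    have e : I.ideal (EU p hpe (A.left.affineBasicOpen f)) (isAffine_EU p hpe _) =
        (I.ideal (EU p hpe U) (isAffine_EU p hpe U)).map (A.left.homOfLE hle).appTop.hom :=
      le_antisymm (hI g _ _) (I.map_le g _ _)
    rw [e, Ideal.map_map, Ideal.map_map]
    congr 1
    rw [← CommRingCat.hom_comp, ← CommRingCat.hom_comp]
    congr 1
    rw [Scheme.homOfLE_appTop, Scheme.Opens.topIso_hom, Scheme.Opens.topIso_hom,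
      ← Functor.map_comp, ← Functor.map_comp]
    rfl

lemma comap_mkJ_ideal (hI : I.IsQCoh) {A : Over S} (p : (AlgSp.yon S).obj A ⟶ X)
    (hpe : AlgSp.RepWith @Etale p) (U : A.left.affineOpens) :
    ((mkJ I hI p hpe).ideal U).comap U.1.topIso.hom.hom =
      I.ideal (EU p hpe U) (isAffine_EU p hpe U) :=
  Ideal.comap_map_of_bijective _
    (ConcreteCategory.bijective_of_isIso U.1.topIso.hom)

end Atlas

section Pred

variable {X : AlgSp.Sp S} (I : AlgSp.IdealEt X)

/-- a `T`-point of `X` lies in the closed subspace defined by `I`: on every affine etale chart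
it lands in the closed subscheme of the ideal. -/
def InZ {T : Over S} (x : (AlgSp.yon S).obj T ⟶ X) : Prop :=
  ∀ (E : AlgSp.EtOver X) (hE : IsAffine E.obj.left.left) (T' : Over S) (g : T' ⟶ T)
    (u : T' ⟶ E.obj.left), (AlgSp.yon S).map u ≫ E.obj.hom = (AlgSp.yon S).map g ≫ x →
      Scheme.IdealSheafData.ofIdealTop (I.ideal E hE) ≤ u.left.ker

lemma InZ.comp {T T₁ : Over S} {x : (AlgSp.yon S).obj T ⟶ X} (h : InZ I x) (g : T₁ ⟶ T) :
    InZ I ((AlgSp.yon S).map g ≫ x) := by
  intro E hE T' g' u hu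
  exact h E hE T' (g' ≫ g) u (by rw [hu, Functor.map_comp, Category.assoc])

set_option backward.isDefEq.respectTransparency false in
/-- comparison of two affine etale charts. -/
lemma two_charts (hI : I.IsQCoh) (E₁ E₂ : AlgSp.EtOver X) (h₁ : IsAffine E₁.obj.left.left)
    (h₂ : IsAffine E₂.obj.left.left) {T : Over S} (v₁ : T ⟶ E₁.obj.left) (v₂ : T ⟶ E₂.obj.left)
    (hv : (AlgSp.yon S).map v₁ ≫ E₁.obj.hom = (AlgSp.yon S).map v₂ ≫ E₂.obj.hom)
    (H : Scheme.IdealSheafData.ofIdealTop (I.ideal E₁ h₁) ≤ v₁.left.ker) :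
    Scheme.IdealSheafData.ofIdealTop (I.ideal E₂ h₂) ≤ v₂.left.ker := by
  obtain ⟨P, w, pr', sq⟩ := E₂.property.1 E₁.obj.hom
  obtain ⟨g₂, rfl⟩ := (AlgSp.yon S).map_surjective pr'
  have hwe : Etale w.left := E₂.property.2 _ _ w sq
  obtain ⟨l, hl⟩ := (AlgSp.yon S).map_surjective
    (sq.lift ((AlgSp.yon S).map v₂) ((AlgSp.yon S).map v₁) hv.symm)
  have hl₁ : l ≫ w = v₁ := by
    apply (AlgSp.yon S).map_injective
    rw [Functor.map_comp, hl, sq.lift_snd]
  have hl₂ : l ≫ g₂ = v₂ := by
    apply (AlgSp.yon S).map_injective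
    rw [Functor.map_comp, hl, sq.lift_fst]
  refine le_ker_of_openCover _ v₂.left (P.left.affineCover.pullback₁ l.left) fun k => ?_
  let Pk : Over S := Over.mk (P.left.affineCover.f k ≫ P.hom)
  let ιk : Pk ⟶ P := Over.homMk (P.left.affineCover.f k) rfl
  let Ek : AlgSp.EtOver X := AlgSp.EtOver.mk ((AlgSp.yon S).map (ιk ≫ w) ≫ E₁.obj.hom)
    (MorphismProperty.comp_mem _ _ _
      ((AlgSp.repWith_yon_map_iff _ _).2
        (show Etale (P.left.affineCover.f k ≫ w.left) from inferInstance)) E₁.property)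
  have hEk : IsAffine Ek.obj.left.left := (inferInstance : IsAffine (P.left.affineCover.X k))
  let γ₁ : Ek ⟶ E₁ := AlgSp.EtOver.homMk (ιk ≫ w) rfl
  let γ₂ : Ek ⟶ E₂ := AlgSp.EtOver.homMk (ιk ≫ g₂) (by
    show (AlgSp.yon S).map (ιk ≫ g₂) ≫ E₂.obj.hom = (AlgSp.yon S).map (ιk ≫ w) ≫ E₁.obj.hom
    rw [Functor.map_comp, Functor.map_comp, Category.assoc, Category.assoc, sq.w])
  have e₁ : I.ideal Ek hEk = (I.ideal E₁ h₁).map (P.left.affineCover.f k ≫ w.left).appTop.hom :=
    le_antisymm (hI γ₁ _ _) (I.map_le γ₁ _ _)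
  have e₂ : I.ideal Ek hEk = (I.ideal E₂ h₂).map (P.left.affineCover.f k ≫ g₂.left).appTop.hom :=
    le_antisymm (hI γ₂ _ _) (I.map_le γ₂ _ _)
  have c₁ : pullback.fst l.left (P.left.affineCover.f k) ≫ v₁.left =
      pullback.snd l.left (P.left.affineCover.f k) ≫ P.left.affineCover.f k ≫ w.left := by
    rw [← hl₁, Over.comp_left, ← Category.assoc, pullback.condition, Category.assoc]
  have c₂ : pullback.fst l.left (P.left.affineCover.f k) ≫ v₂.left =
      pullback.snd l.left (P.left.affineCover.f k) ≫ P.left.affineCover.f k ≫ g₂.left := by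
    rw [← hl₂, Over.comp_left, ← Category.assoc, pullback.condition, Category.assoc]
  show _ ≤ (pullback.fst l.left (P.left.affineCover.f k) ≫ v₂.left).ker
  rw [c₂, ← le_ker_comp_iff _ _ _ _ e₂, le_ker_comp_iff _ _ _ _ e₁, ← c₁]
  exact H.trans (ker_le_ker_comp _ _)

set_option backward.isDefEq.respectTransparency false in
/-- membership for a point given on an affine etale chart. -/
lemma inZ_iff_of_affine (hI : I.IsQCoh) (E : AlgSp.EtOver X) (hE : IsAffine E.obj.left.left)
    {T : Over S} (v : T ⟶ E.obj.left) :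
    InZ I ((AlgSp.yon S).map v ≫ E.obj.hom) ↔
      Scheme.IdealSheafData.ofIdealTop (I.ideal E hE) ≤ v.left.ker := by
  constructor
  · intro h
    exact h E hE T (𝟙 T) v (by rw [CategoryTheory.Functor.map_id, Category.id_comp])
  · intro h E' hE' T' g u hu
    refine two_charts I hI E E' hE hE' (g ≫ v) u ?_ (h.trans (ker_le_ker_comp g.left v.left))
    rw [hu, Functor.map_comp, Category.assoc]

set_option backward.isDefEq.respectTransparency false in
/-- membership for a point given on a chart, in terms of the ideal sheaf `mkJ`. -/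
lemma inZ_iff_of_atlas (hI : I.IsQCoh) {A : Over S} (p : (AlgSp.yon S).obj A ⟶ X)
    (hpe : AlgSp.RepWith @Etale p) {T : Over S} (v : T ⟶ A) :
    InZ I ((AlgSp.yon S).map v ≫ p) ↔ mkJ I hI p hpe ≤ v.left.ker := by
  let 𝒜 : A.left.OpenCover := A.left.openCoverOfIsOpenCover
    (fun U : A.left.affineOpens => U.1) (iSup_affineOpens_eq_top A.left)
  constructor
  · intro h
    refine le_ker_of_openCover _ v.left (𝒜.pullback₁ v.left) fun U => ?_
    show _ ≤ (pullback.fst v.left U.1.ι ≫ v.left).ker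
    rw [pullback.condition, ← le_ker_ι_iff, comap_mkJ_ideal]
    let T' : Over S := Over.mk (pullback.fst v.left U.1.ι ≫ T.hom)
    let g : T' ⟶ T := Over.homMk (pullback.fst v.left U.1.ι) rfl
    let u : T' ⟶ (EU p hpe U).obj.left := Over.homMk (pullback.snd v.left U.1.ι) (by
      show pullback.snd v.left U.1.ι ≫ U.1.ι ≫ A.hom = pullback.fst v.left U.1.ι ≫ T.hom
      rw [← Category.assoc, ← pullback.condition, Category.assoc, Over.w v])
    refine h (EU p hpe U) (isAffine_EU p hpe U) T' g u ?_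
    show (AlgSp.yon S).map u ≫ (AlgSp.yon S).map _ ≫ p =
      (AlgSp.yon S).map g ≫ (AlgSp.yon S).map v ≫ p
    rw [← Category.assoc, ← Functor.map_comp, ← Category.assoc, ← Functor.map_comp]
    congr 2
    apply Over.OverMorphism.ext
    exact pullback.condition.symm
  · intro h E' hE' T' g u hu
    refine le_ker_of_openCover _ u.left (𝒜.pullback₁ (g ≫ v).left) fun U => ?_
    have hc : pullback.fst (g ≫ v).left U.1.ι ≫ (g ≫ v).left =
        pullback.snd (g ≫ v).left U.1.ι ≫ U.1.ι := pullback.condition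
    have h1 : mkJ I hI p hpe ≤ (pullback.snd (g ≫ v).left U.1.ι ≫ U.1.ι).ker := by
      rw [← hc]
      exact h.trans ((ker_le_ker_comp g.left v.left).trans (ker_le_ker_comp _ _))
    rw [← le_ker_ι_iff, comap_mkJ_ideal] at h1
    let T'' : Over S := Over.mk (pullback.fst (g ≫ v).left U.1.ι ≫ T'.hom)
    let g'' : T'' ⟶ T' := Over.homMk (pullback.fst (g ≫ v).left U.1.ι) rfl
    let v₁ : T'' ⟶ (EU p hpe U).obj.left := Over.homMk (pullback.snd (g ≫ v).left U.1.ι) (by
      show pullback.snd (g ≫ v).left U.1.ι ≫ U.1.ι ≫ A.hom =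
        pullback.fst (g ≫ v).left U.1.ι ≫ T'.hom
      rw [← Category.assoc, ← hc, Category.assoc, Over.w (g ≫ v)])
    refine two_charts I hI (EU p hpe U) E' (isAffine_EU p hpe U) hE' v₁ (g'' ≫ u) ?_ h1
    show (AlgSp.yon S).map v₁ ≫ (AlgSp.yon S).map _ ≫ p = (AlgSp.yon S).map (g'' ≫ u) ≫ E'.obj.hom
    rw [Functor.map_comp, Category.assoc, hu, ← Category.assoc, ← Functor.map_comp,
      ← Category.assoc, ← Functor.map_comp, ← Category.assoc, ← Functor.map_comp]
    congr 2
    apply Over.OverMorphism.ext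
    exact hc.symm

set_option backward.isDefEq.respectTransparency false in
/-- every quasi-coherent family of ideals on the affine etale site of an algebraic space is the
ideal of a closed subspace. -/
theorem exists_isCutOutBy (X : AlgSp.Space S) (I : AlgSp.IdealEt X.obj) (hI : I.IsQCoh) :
    ∃ (Z : AlgSp.Space S) (i : Z ⟶ X), AlgSp.IsCutOutBy I i.hom := by
  obtain ⟨A, p, hpe, hps⟩ := X.property.atlas
  obtain ⟨R, t, s', sqR⟩ := hpe.1 p
  obtain ⟨s, rfl⟩ := (AlgSp.yon S).map_surjective s'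
  have hpb : IsPullback ((AlgSp.yon S).map t) ((AlgSp.yon S).map s) p p := sqR.flip
  have hinv : Invariant s t (idι A (mkJ I hI p hpe)) := by
    intro T r hz
    rw [factors_idι_iff, ← inZ_iff_of_atlas] at hz ⊢
    have e : (AlgSp.yon S).map (r ≫ t) ≫ p = (AlgSp.yon S).map (r ≫ s) ≫ p := by
      rw [Functor.map_comp, Functor.map_comp, Category.assoc, Category.assoc, hpb.w]
    rw [e]
    exact hz
  obtain ⟨q, hq⟩ := exists_q hpb hinv
  have sqq := isPullback_q hq
  have hZ : AlgSp.IsAlgSpace (obj X.obj p (idι A (mkJ I hI p hpe))) :=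
    isAlgSpace_obj X.property hpe hps hq
  let Z : AlgSp.Space S := ⟨_, hZ⟩
  let i : Z ⟶ X := ObjectProperty.homMk (incl X.obj p (idι A (mkJ I hI p hpe)))
  have hcl : AlgSp.RepWith @IsClosedImmersion i.hom :=
    Groth.Agent.S9932.result @IsClosedImmersion (Or.inl rfl) i A p hpe hps q _ sqq
      ((AlgSp.repWith_yon_map_iff @IsClosedImmersion (idι A (mkJ I hI p hpe))).2 inferInstance)
  refine ⟨Z, i, hcl, AlgSp.IdealEt.ext (funext fun E => funext fun hE => ?_)⟩
  have sqE := AlgSp.EtOver.isPullback_bcObj hcl.1 E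
  have hπ : IsClosedImmersion (AlgSp.EtOver.bcπ hcl.1 E).left := hcl.2 _ _ _ sqE
  -- the functor of points of the trace of `Z` on `E`
  have key : ∀ (T : Over S) (v : T ⟶ E.obj.left),
      (AlgSp.EtOver.bcπ hcl.1 E).left.ker ≤ v.left.ker ↔
        Scheme.IdealSheafData.ofIdealTop (I.ideal E hE) ≤ v.left.ker := by
    intro T v
    rw [← factors_closedImm_iff, ← inZ_iff_of_affine I hI E hE v]
    constructor
    · rintro ⟨z, rfl⟩
      -- the point factors through `Z`
      have hfac : ∃ a' : (AlgSp.yon S).obj T ⟶ obj X.obj p (idι A (mkJ I hI p hpe)),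
          a' ≫ incl X.obj p (idι A (mkJ I hI p hpe)) =
            (AlgSp.yon S).map (z ≫ AlgSp.EtOver.bcπ hcl.1 E) ≫ E.obj.hom :=
        ⟨(AlgSp.yon S).map z ≫ (AlgSp.EtOver.bcObj hcl.1 E).obj.hom, by
          rw [Category.assoc, Functor.map_comp, Category.assoc]
          exact congrArg (fun m => (AlgSp.yon S).map z ≫ m) sqE.w⟩
      rw [factor_iff] at hfac
      intro E'' hE'' T'' g'' u'' hu''
      obtain ⟨T₁, γ, u₁', sq₁⟩ := hpe.1 ((AlgSp.yon S).map g'' ≫
        (AlgSp.yon S).map (z ≫ AlgSp.EtOver.bcπ hcl.1 E) ≫ E.obj.hom)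
      obtain ⟨u₁, rfl⟩ := (AlgSp.yon S).map_surjective u₁'
      have hγe : Etale γ.left := hpe.2 _ _ γ sq₁
      have hγs : Surjective γ.left := hps.2 _ _ γ sq₁
      have h1 : InZ I ((AlgSp.yon S).map u₁ ≫ p) := by
        rw [inZ_iff_of_atlas I hI p hpe, ← factors_idι_iff]
        exact hfac T₁ (γ ≫ g'') u₁ (by rw [sq₁.w]; simp only [Functor.map_comp, Category.assoc])
      have h2 := h1 E'' hE'' T₁ (𝟙 _) (γ ≫ u'') (by
        rw [CategoryTheory.Functor.map_id, Category.id_comp, Functor.map_comp, Category.assoc,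
          hu'', sq₁.w])
      rw [Over.comp_left, ker_comp_of_flat_surjective] at h2
      exact h2
    · intro h
      have hfac : ∃ a' : (AlgSp.yon S).obj T ⟶ obj X.obj p (idι A (mkJ I hI p hpe)),
          a' ≫ incl X.obj p (idι A (mkJ I hI p hpe)) = (AlgSp.yon S).map v ≫ E.obj.hom := by
        rw [factor_iff]
        intro T' g u hu
        rw [factors_idι_iff, ← inZ_iff_of_atlas I hI p hpe, hu]
        exact h.comp I g
      obtain ⟨a', ha'⟩ := hfac
      obtain ⟨z, hz⟩ := (AlgSp.yon S).map_surjective (sqE.lift a' ((AlgSp.yon S).map v) ha')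
      refine ⟨z, ?_⟩
      apply (AlgSp.yon S).map_injective
      rw [Functor.map_comp, hz, sqE.lift_snd]
  have h1 : Scheme.IdealSheafData.ofIdealTop (I.ideal E hE) ≤
      (AlgSp.EtOver.bcπ hcl.1 E).left.ker := (key _ (AlgSp.EtOver.bcπ hcl.1 E)).1 le_rfl
  have h2 : (AlgSp.EtOver.bcπ hcl.1 E).left.ker ≤
      Scheme.IdealSheafData.ofIdealTop (I.ideal E hE) := by
    have h3 := (key _ (idι E.obj.left (Scheme.IdealSheafData.ofIdealTop (I.ideal E hE)))).2 (by
      show _ ≤ (Scheme.IdealSheafData.ofIdealTop (I.ideal E hE)).subschemeι.ker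
      rw [Scheme.IdealSheafData.ker_subschemeι])
    have h4 : (idι E.obj.left (Scheme.IdealSheafData.ofIdealTop (I.ideal E hE))).left.ker =
        Scheme.IdealSheafData.ofIdealTop (I.ideal E hE) :=
      Scheme.IdealSheafData.ker_subschemeι _
    rwa [h4] at h3
  rw [Scheme.ker_of_isAffine] at h1 h2
  exact le_antisymm (ofIdealTop_le_iff.1 h2) (ofIdealTop_le_iff.1 h1)

end Pred

end Groth.Agent.Lib.Seat43.CutOutEx
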