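import Groth.Agent.Lib.Seat43DescYoneda

/-!
# Seat43: pullback of descent data along self-maps of families over the identity of the base

* `pullIsoId`: for a morphism of families `(α, p')` from `f` to itself over `𝟙 S`, the pullback
  functor `Desc.pullDDFam` is isomorphic to the identity.
* `pullPullIsoId`: for morphisms of families `f' → f` and `f → f'` over `𝟙 S`, the composite of
  the two pullback functors is isomorphic to the identity.
-/

set_option autoImplicit false
set_option backward.isDefEq.respectTransparency false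
set_option backward.isDefEq.respectTransparency.types false
universe w' w u
open CategoryTheory CategoryTheory.Limits AlgebraicGeometry Desc

namespace Groth.Agent.Lib.Seat43.DescPull

open Groth.Agent.Lib.Seat43.DescYoneda

section single

variable {S : Scheme.{u}} {ι : Type w} {X : ι → Scheme.{u}} {f : ∀ i, X i ⟶ S}
  {α : ι → ι} {p' : ∀ j, X j ⟶ X (α j)} (w : ∀ j, p' j ≫ f (α j) = f j ≫ 𝟙 S)

include w in
lemma compat_single {T : Scheme.{u}} {j : ι} (x : T ⟶ X j) :
    (x ≫ p' j) ≫ f (α j) = x ≫ f j := by
  rw [Category.assoc, w, Category.comp_id]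

/-- pointwise bijections between the pulled back datum and the original one -/
noncomputable def singlePtEquiv (D : SchDDFam f) : PtEquiv ((pullDDFam w).obj D) D where
  e T j x := (liftsPullbackEquiv (D.obj (α j)) (p' j) x).trans
    (D.φ (x ≫ p' j) x (compat_single w x))
  nat T T' r j x y hy v v' hv := by
    simp only [Equiv.trans_apply]
    refine D.φ_natural r (x ≫ p' j) x (compat_single w x) (y ≫ p' j) y
      (by rw [← hy, Category.assoc]) hy (compat_single w y) _ _ ?_
    simp [liftsPullbackEquiv, hv]
  compat T i j x₀ x₁ h v := by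
    change (D.φ (x₁ ≫ p' j) x₁ _) (liftsPullbackEquiv (D.obj (α j)) (p' j) x₁
      ((liftsPullbackEquiv (D.obj (α j)) (p' j) x₁).symm
        (D.φ (x₀ ≫ p' i) (x₁ ≫ p' j) _ (liftsPullbackEquiv (D.obj (α i)) (p' i) x₀ v)))) =
      D.φ x₀ x₁ h (D.φ (x₀ ≫ p' i) x₀ _ (liftsPullbackEquiv (D.obj (α i)) (p' i) x₀ v))
    rw [Equiv.apply_symm_apply, D.φ_comp, D.φ_comp]

/-- The pullback functor along a self-map of a family over the identity of the base is isomorphic
to the identity functor. -/
noncomputable def pullIsoId : pullDDFam w ≅ 𝟭 (SchDDFam f) :=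
  NatIso.ofComponents (fun D => (singlePtEquiv w D).toIso) (by
    intro D D' a
    apply hom_ext_points
    intro T j x v
    simp only [Functor.id_obj, Functor.id_map, SchDDFam.comp_hom, Over.comp_left]
    -- left side
    let v' : Lifts (((pullDDFam w).obj D').obj j) x :=
      ⟨v.1 ≫ (((pullDDFam w).map a).hom j).left, by
        rw [Category.assoc, Over.w (((pullDDFam w).map a).hom j)]; exact v.2⟩
    have hL : v.1 ≫ (((pullDDFam w).map a).hom j).left ≫ ((singlePtEquiv w D').toIso.hom.hom j).left =
        ((singlePtEquiv w D').e x v').1 := by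
      rw [← Category.assoc]
      exact (singlePtEquiv w D').comp_toIso_hom x v'
    have hR : v.1 ≫ ((singlePtEquiv w D).toIso.hom.hom j).left ≫ (a.hom j).left =
        ((singlePtEquiv w D).e x v).1 ≫ (a.hom j).left := by
      rw [← Category.assoc, (singlePtEquiv w D).comp_toIso_hom x v]
    rw [hL, hR]
    simp only [singlePtEquiv, Equiv.trans_apply]
    refine a.comm (x ≫ p' j) x (compat_single w x) _ _ ?_
    simp [liftsPullbackEquiv, v', pullDDFam])

end single

section double

variable {S : Scheme.{u}} {ι : Type w} {ι' : Type w'} {X : ι → Scheme.{u}} {X' : ι' → Scheme.{u}}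
  {f : ∀ i, X i ⟶ S} {f' : ∀ j, X' j ⟶ S}
  {α : ι' → ι} {p' : ∀ j, X' j ⟶ X (α j)} (w : ∀ j, p' j ≫ f (α j) = f' j ≫ 𝟙 S)
  {β : ι → ι'} {q' : ∀ i, X i ⟶ X' (β i)} (w' : ∀ i, q' i ≫ f' (β i) = f i ≫ 𝟙 S)

include w w' in
lemma compat_double {T : Scheme.{u}} {i : ι} (x : T ⟶ X i) :
    ((x ≫ q' i) ≫ p' (β i)) ≫ f (α (β i)) = x ≫ f i := by
  rw [Category.assoc, w, Category.comp_id, Category.assoc, w', Category.comp_id]

/-- pointwise bijections between the doubly pulled back datum and the original one -/
noncomputable def doublePtEquiv (D : SchDDFam f) :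
    PtEquiv ((pullDDFam w').obj ((pullDDFam w).obj D)) D where
  e T i x := (liftsPullbackEquiv (((pullDDFam w).obj D).obj (β i)) (q' i) x).trans
    ((liftsPullbackEquiv (D.obj (α (β i))) (p' (β i)) (x ≫ q' i)).trans
      (D.φ ((x ≫ q' i) ≫ p' (β i)) x (compat_double w w' x)))
  nat T T' r i x y hy v v' hv := by
    simp only [Equiv.trans_apply]
    refine D.φ_natural r ((x ≫ q' i) ≫ p' (β i)) x (compat_double w w' x)
      ((y ≫ q' i) ≫ p' (β i)) y (by rw [← hy]; simp only [Category.assoc]) hy
      (compat_double w w' y) _ _ ?_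
    simp [liftsPullbackEquiv, hv]
  compat T i j x₀ x₁ h v := by
    change (D.φ ((x₁ ≫ q' j) ≫ p' (β j)) x₁ _)
      (liftsPullbackEquiv (D.obj (α (β j))) (p' (β j)) (x₁ ≫ q' j)
        (liftsPullbackEquiv (((pullDDFam w).obj D).obj (β j)) (q' j) x₁
          ((liftsPullbackEquiv (((pullDDFam w).obj D).obj (β j)) (q' j) x₁).symm
            ((liftsPullbackEquiv (D.obj (α (β j))) (p' (β j)) (x₁ ≫ q' j)).symm
              (D.φ ((x₀ ≫ q' i) ≫ p' (β i)) ((x₁ ≫ q' j) ≫ p' (β j)) _
                (liftsPullbackEquiv (D.obj (α (β i))) (p' (β i)) (x₀ ≫ q' i)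
                  (liftsPullbackEquiv (((pullDDFam w).obj D).obj (β i)) (q' i) x₀ v))))))) =
      D.φ x₀ x₁ h (D.φ ((x₀ ≫ q' i) ≫ p' (β i)) x₀ _
        (liftsPullbackEquiv (D.obj (α (β i))) (p' (β i)) (x₀ ≫ q' i)
          (liftsPullbackEquiv (((pullDDFam w).obj D).obj (β i)) (q' i) x₀ v)))
    rw [Equiv.apply_symm_apply, Equiv.apply_symm_apply, D.φ_comp, D.φ_comp]

/-- The composite of the pullback functors along morphisms of families `f' → f` and `f → f'` over
the identity of the base is isomorphic to the identity functor. -/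
noncomputable def pullPullIsoId : pullDDFam w ⋙ pullDDFam w' ≅ 𝟭 (SchDDFam f) :=
  NatIso.ofComponents (fun D => (doublePtEquiv w w' D).toIso) (by
    intro D D' a
    apply hom_ext_points
    intro T i x v
    simp only [Functor.id_obj, Functor.id_map, SchDDFam.comp_hom, Over.comp_left, Functor.comp_obj,
      Functor.comp_map]
    let v' : Lifts (((pullDDFam w').obj ((pullDDFam w).obj D')).obj i) x :=
      ⟨v.1 ≫ (((pullDDFam w').map ((pullDDFam w).map a)).hom i).left, by
        rw [Category.assoc, Over.w (((pullDDFam w').map ((pullDDFam w).map a)).hom i)]; exact v.2⟩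
    have hL : v.1 ≫ (((pullDDFam w').map ((pullDDFam w).map a)).hom i).left ≫
        ((doublePtEquiv w w' D').toIso.hom.hom i).left = ((doublePtEquiv w w' D').e x v').1 := by
      rw [← Category.assoc]
      exact (doublePtEquiv w w' D').comp_toIso_hom x v'
    have hR : v.1 ≫ ((doublePtEquiv w w' D).toIso.hom.hom i).left ≫ (a.hom i).left =
        ((doublePtEquiv w w' D).e x v).1 ≫ (a.hom i).left := by
      rw [← Category.assoc, (doublePtEquiv w w' D).comp_toIso_hom x v]
    rw [hL, hR]
    simp only [doublePtEquiv, Equiv.trans_apply]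
    refine a.comm ((x ≫ q' i) ≫ p' (β i)) x (compat_double w w' x) _ _ ?_
    simp [liftsPullbackEquiv, v', pullDDFam])

end double

end Groth.Agent.Lib.Seat43.DescPull
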