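import Mathlib
import Groth.Agent.Lib.Helper11SchImageT
import Groth.Agent.Lib.Helper12IdealDescent

/-!
# Valuation rings reaching the scheme theoretic image of a quasi-compact morphism (seat 43)
-/

set_option autoImplicit false
universe u
open CategoryTheory CategoryTheory.Limits AlgebraicGeometry Opposite

namespace Groth.Agent.Lib.Seat43.ValImage

open Groth.Agent.Lib.Helper11SchImage

/-- a point of the scheme theoretic image of a quasi-compact morphism is a specialization of a
point of the image. -/
lemma exists_specializes_of_mem_support {U V : Scheme.{u}} (φ : U ⟶ V) [QuasiCompact φ] (v : V)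
    (hv : v ∈ φ.ker.support) : ∃ u : U, φ u ⤳ v := by
  have hv' : v ∈ Set.range φ.imageι := by
    show v ∈ Set.range φ.ker.subschemeι
    rw [Scheme.IdealSheafData.range_subschemeι]; exact hv
  obtain ⟨zo, rfl⟩ := hv'
  obtain ⟨ξ, hξ, hξz⟩ := exists_isMaxPt_specializes φ.image zo
  have : IsSchemeTheoreticallyDominant φ.toImage :=
    Groth.Agent.Lib.Helper12.isSchemeTheoreticallyDominant_toImage φ
  obtain ⟨u, rfl⟩ := mem_range_of_isMaxPt φ.toImage ξ hξ
  refine ⟨u, ?_⟩
  have h1 : φ u = φ.imageι (φ.toImage u) := by
    rw [← Scheme.Hom.comp_apply, φ.toImage_imageι]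
  rw [h1]
  exact hξz.map φ.imageι.continuous

open IsLocalRing in
/-- every point of the scheme theoretic image of a quasi-compact morphism of schemes is reached by
a valuation ring whose generic point lifts to the source. -/
theorem exists_valuationRing_of_mem_support {U V : Scheme.{u}} (φ : U ⟶ V) [QuasiCompact φ] (v : V)
    (hv : v ∈ φ.ker.support) :
    ∃ (A : Type u) (_ : CommRing A) (_ : IsDomain A) (_ : ValuationRing A)
      (α : Spec (CommRingCat.of A) ⟶ V) (β : Spec (CommRingCat.of (FractionRing A)) ⟶ U),
      α (IsLocalRing.closedPoint A) = v ∧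
      β ≫ φ = Spec.map (CommRingCat.ofHom (algebraMap A (FractionRing A))) ≫ α := by
  obtain ⟨u, h⟩ := exists_specializes_of_mem_support φ v hv
  let s : V.presheaf.stalk v ⟶ U.residueField u :=
    V.presheaf.stalkSpecializes h ≫ φ.stalkMap u ≫ U.residue u
  obtain ⟨A, hA, hA_local⟩ := exists_factor_valuationRing s.hom
  let sA : V.presheaf.stalk v ⟶ .of A := CommRingCat.ofHom (s.hom.codRestrict _ hA)
  have w : U.fromSpecResidueField u ≫ φ =
      Spec.map (CommRingCat.ofHom (algebraMap A (U.residueField u))) ≫
        Spec.map sA ≫ V.fromSpecStalk v := by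
    rw [Scheme.fromSpecResidueField, Category.assoc, ← Scheme.SpecMap_stalkMap_fromSpecStalk,
      ← Scheme.SpecMap_stalkSpecializes_fromSpecStalk h]
    simp_rw [← Spec.map_comp_assoc]
    rfl
  let e : FractionRing A ≃ₐ[A] U.residueField u := FractionRing.algEquiv A (U.residueField u)
  refine ⟨A, inferInstance, inferInstance, inferInstance, Spec.map sA ≫ V.fromSpecStalk v,
    Spec.map (CommRingCat.ofHom (e.symm : U.residueField u →+* FractionRing A)) ≫
      U.fromSpecResidueField u, ?_, ?_⟩
  · rw [Scheme.Hom.comp_apply]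
    have : Spec.map sA (closedPoint A) = closedPoint (V.presheaf.stalk v) :=
      comap_closedPoint (S := A) (s.hom.codRestrict A.toSubring hA)
    rw [this, V.fromSpecStalk_closedPoint]
  · rw [Category.assoc, w, ← Spec.map_comp_assoc, ← CommRingCat.ofHom_comp]
    congr 3
    ext a
    exact e.symm.commutes a

/-- the morphism of spectra of an injective ring map is scheme theoretically dominant. -/
lemma ker_Spec_map_eq_bot {R T : CommRingCat.{u}} (g : R ⟶ T)
    (hg : Function.Injective g.hom) : (Spec.map g).ker = ⊥ := by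
  rw [Scheme.ker_of_isAffine]
  have h0 : RingHom.ker (Spec.map g).appTop.hom = ⊥ := by
    rw [← RingHom.injective_iff_ker_eq_bot]
    have h' : (Spec.map g).appTop = (Scheme.ΓSpecIso R).hom ≫ g ≫ (Scheme.ΓSpecIso T).inv := by
      rw [← Category.assoc, ← Scheme.ΓSpecIso_naturality, Category.assoc, Iso.hom_inv_id,
        Category.comp_id]
    rw [h']
    simp only [CommRingCat.hom_comp, RingHom.coe_comp]
    exact ((ConcreteCategory.bijective_of_isIso (Scheme.ΓSpecIso T).inv).1.comp hg).comp
      (ConcreteCategory.bijective_of_isIso (Scheme.ΓSpecIso R).hom).1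
  rw [h0, ← Scheme.IdealSheafData.equivOfIsAffine_symm_apply, map_bot]

end Groth.Agent.Lib.Seat43.ValImage
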