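import Mathlib

/-!
# Lifting standard étale algebras along a square zero ideal (seat 47)
-/

set_option autoImplicit false
universe u

namespace Groth.Agent.Lib.Seat47.StdEt

open Polynomial

/-- A standard étale algebra `C` over `A ⧸ I` with `I ^ 2 = 0` is the reduction of a standard étale
algebra `B` over `A`, in the weak sense that there are compatible ring maps `C ⟶ B ⧸ I B` and
`B ⟶ C`. -/
theorem exists_lift_standardEtale {A : Type u} [CommRing A] (I : Ideal A) (hI : I ^ 2 = ⊥)
    (C : Type u) [CommRing C] [Algebra (A ⧸ I) C] [Algebra.IsStandardEtale (A ⧸ I) C] :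
    ∃ (B : Type u) (_ : CommRing B) (φ : A →+* B), φ.Etale ∧
      (∃ χ : C →+* B ⧸ I.map φ, χ.comp (algebraMap (A ⧸ I) C) =
        Ideal.quotientMap (I.map φ) φ Ideal.le_comap_map) ∧
      (∃ ζ : B →+* C, ζ.comp φ = (algebraMap (A ⧸ I) C).comp (Ideal.Quotient.mk I)) := by
  classical
  obtain ⟨Pb⟩ := (Algebra.IsStandardEtale.nonempty_standardEtalePresentation :
    Nonempty (StandardEtalePresentation (A ⧸ I) C))
  have hπ : Function.Surjective (Ideal.Quotient.mk I) := Ideal.Quotient.mk_surjective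
  obtain ⟨f, hf_map, -, hf_monic⟩ := Polynomial.lifts_and_natDegree_eq_and_monic
    (Polynomial.mem_lifts_of_surjective hπ Pb.f) Pb.monic_f
  obtain ⟨g₀, hg₀⟩ := Polynomial.map_surjective (Ideal.Quotient.mk I) hπ Pb.g
  obtain ⟨q₁, q₂, n, hcond⟩ := Pb.cond
  obtain ⟨p₁, hp₁⟩ := Polynomial.map_surjective (Ideal.Quotient.mk I) hπ q₁
  obtain ⟨p₂, hp₂⟩ := Polynomial.map_surjective (Ideal.Quotient.mk I) hπ q₂
  set δ := derivative f * p₁ + f * p₂ - g₀ ^ n with hδ
  have hδmap : δ.map (Ideal.Quotient.mk I) = 0 := by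
    rw [hδ, Polynomial.map_sub, Polynomial.map_add, Polynomial.map_mul, Polynomial.map_mul,
      Polynomial.map_pow, ← Polynomial.derivative_map, hf_map, hp₁, hp₂, hg₀, hcond, sub_self]
  have hδδ : δ * δ = 0 := by
    have hmem : δ ∈ Ideal.map (Polynomial.C : A →+* A[X]) I := by
      rw [Ideal.mem_map_C_iff]
      intro k
      have := congrArg (fun q => q.coeff k) hδmap
      simp only [Polynomial.coeff_map, Polynomial.coeff_zero] at this
      exact Ideal.Quotient.eq_zero_iff_mem.1 this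
    have h2 : δ * δ ∈ (Ideal.map (Polynomial.C : A →+* A[X]) I) ^ 2 := by
      rw [pow_two]; exact Ideal.mul_mem_mul hmem hmem
    rw [← Ideal.map_pow, hI, Ideal.map_bot] at h2
    exact h2
  let P : StandardEtalePair A := ⟨f, hf_monic, g₀, ⟨p₁ * (g₀ ^ n - δ), p₂ * (g₀ ^ n - δ), 2 * n, by
    have h3 : derivative f * p₁ + f * p₂ = g₀ ^ n + δ := by rw [hδ]; ring
    calc derivative f * (p₁ * (g₀ ^ n - δ)) + f * (p₂ * (g₀ ^ n - δ))
        = (derivative f * p₁ + f * p₂) * (g₀ ^ n - δ) := by ring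
      _ = (g₀ ^ n + δ) * (g₀ ^ n - δ) := by rw [h3]
      _ = g₀ ^ (2 * n) - δ * δ := by ring
      _ = g₀ ^ (2 * n) := by rw [hδδ, sub_zero]⟩⟩
  have hPf : P.f = f := rfl
  have hPg : P.g = g₀ := rfl
  refine ⟨P.Ring, inferInstance, algebraMap A P.Ring, ?_, ?_, ?_⟩
  · exact RingHom.etale_algebraMap.2 inferInstance
  · -- the map `C ⟶ B ⧸ I B`
    let Q := P.Ring ⧸ I.map (algebraMap A P.Ring)
    let qm : A ⧸ I →+* Q := Ideal.quotientMap (I.map (algebraMap A P.Ring)) (algebraMap A P.Ring)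
      Ideal.le_comap_map
    letI : Algebra (A ⧸ I) Q := qm.toAlgebra
    haveI : IsScalarTower A (A ⧸ I) Q := IsScalarTower.of_algebraMap_eq' (by
      ext a
      show (Ideal.Quotient.mk _) (algebraMap A P.Ring a) = qm (Ideal.Quotient.mk I a)
      rw [Ideal.quotientMap_mk])
    let xb : Q := Ideal.Quotient.mkₐ A (I.map (algebraMap A P.Ring)) P.X
    have hmap : Pb.P.HasMap xb := by
      constructor
      · have h1 : aeval xb Pb.f = aeval xb f := by
          rw [← hf_map, ← Ideal.Quotient.algebraMap_eq, Polynomial.aeval_map_algebraMap]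
        rw [h1, Polynomial.aeval_algHom_apply, ← hPf, P.hasMap_X.1, map_zero]
      · have h1 : aeval xb Pb.g = aeval xb g₀ := by
          rw [← hg₀, ← Ideal.Quotient.algebraMap_eq, Polynomial.aeval_map_algebraMap]
        rw [h1, Polynomial.aeval_algHom_apply, ← hPg]
        exact P.hasMap_X.2.map _
    let χ₀ : C →ₐ[A ⧸ I] Q := (Pb.P.lift xb hmap).comp Pb.equivRing.toAlgHom
    refine ⟨χ₀.toRingHom, ?_⟩
    exact χ₀.comp_algebraMap
  · -- the map `B ⟶ C`
    letI : Algebra A C := ((algebraMap (A ⧸ I) C).comp (Ideal.Quotient.mk I)).toAlgebra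
    haveI : IsScalarTower A (A ⧸ I) C := IsScalarTower.of_algebraMap_eq' rfl
    have hmap' : P.HasMap Pb.x := by
      constructor
      · have h1 : aeval Pb.x P.f = aeval Pb.x Pb.f := by
          rw [hPf, ← hf_map, ← Ideal.Quotient.algebraMap_eq, Polynomial.aeval_map_algebraMap]
        rw [h1]
        exact Pb.hasMap.1
      · have h1 : aeval Pb.x P.g = aeval Pb.x Pb.g := by
          rw [hPg, ← hg₀, ← Ideal.Quotient.algebraMap_eq, Polynomial.aeval_map_algebraMap]
        rw [h1]
        exact Pb.hasMap.2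
    refine ⟨(P.lift Pb.x hmap').toRingHom, ?_⟩
    exact (P.lift Pb.x hmap').comp_algebraMap

end Groth.Agent.Lib.Seat47.StdEt
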