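import Mathlib
import Groth.Agent.Lib.Seat47StdEt

/-!
# Lifting étale neighbourhoods along a square zero thickening of affine schemes (seat 47)
-/

set_option autoImplicit false
universe u
open CategoryTheory CategoryTheory.Limits AlgebraicGeometry Opposite TopologicalSpace

namespace Groth.Agent.Lib.Seat47.LiftCover

open Groth.Agent.Lib.Seat47.StdEt

/-- Let `e : E ⟶ Spec (A ⧸ I)` be étale with `I ^ 2 = 0` and `x` a point of `E`.  There is an
étale `A`-algebra `B` such that `Spec (B ⧸ I B)` maps to `E` over `Spec (A ⧸ I)` and the image of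
`Spec B` in `Spec A` contains the image of `x`. -/
theorem exists_etale_lift_nhd {A : Type u} [CommRing A] (I : Ideal A) (hI : I ^ 2 = ⊥)
    {E : Scheme.{u}} (e : E ⟶ Spec (.of (A ⧸ I))) [Etale e] (x : E) :
    ∃ (B : Type u) (_ : CommRing B) (φ : A →+* B), Etale (Spec.map (CommRingCat.ofHom φ)) ∧
      (∃ σ : Spec (.of (B ⧸ I.map φ)) ⟶ E,
        σ ≫ e = Spec.map (CommRingCat.ofHom
          (Ideal.quotientMap (I.map φ) φ Ideal.le_comap_map))) ∧
      (Spec.map (CommRingCat.ofHom (Ideal.Quotient.mk I)) (e x) ∈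
        Set.range (Spec.map (CommRingCat.ofHom φ))) := by
  obtain ⟨_, ⟨U, hU, rfl⟩, hxU, -⟩ :=
    E.isBasis_affineOpens.exists_subset_of_mem_open (Set.mem_univ x) isOpen_univ
  let ψ₀ : CommRingCat.of (A ⧸ I) ⟶ Γ(E, U) := Spec.preimage (hU.fromSpec ≫ e)
  have hψ₀ : Spec.map ψ₀ = hU.fromSpec ≫ e := Spec.map_preimage _
  haveI : Etale (Spec.map ψ₀) := by rw [hψ₀]; infer_instance
  have hψ₀et : ψ₀.hom.Etale := (HasRingHomProperty.Spec_iff (P := @Etale)).1 inferInstance
  algebraize [ψ₀.hom]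
  let q : PrimeSpectrum Γ(E, U) := hU.primeIdealOf ⟨x, hxU⟩
  have hq : hU.fromSpec q = x := hU.fromSpec_primeIdealOf ⟨x, hxU⟩
  haveI : Algebra.IsEtaleAt (A ⧸ I) q.asIdeal :=
    Algebra.FormallyEtale.comp (A ⧸ I) Γ(E, U) (Localization.AtPrime q.asIdeal)
  obtain ⟨fe, hfe, hstd⟩ := Algebra.IsEtaleAt.exists_isStandardEtale (R := A ⧸ I) q.asIdeal
  obtain ⟨B, hB, φ, hφ, ⟨χ, hχ⟩, ⟨ζ, hζ⟩⟩ :=
    exists_lift_standardEtale I hI (Localization.Away fe)
  have htower : algebraMap (A ⧸ I) (Localization.Away fe) =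
      (algebraMap Γ(E, U) (Localization.Away fe)).comp ψ₀.hom :=
    IsScalarTower.algebraMap_eq (A ⧸ I) Γ(E, U) (Localization.Away fe)
  refine ⟨B, hB, φ, (HasRingHomProperty.Spec_iff (P := @Etale)).2 hφ, ⟨?_, ?_⟩, ?_⟩
  · exact Spec.map (CommRingCat.ofHom χ) ≫
      Spec.map (CommRingCat.ofHom (algebraMap Γ(E, U) (Localization.Away fe))) ≫ hU.fromSpec
  · rw [Category.assoc, Category.assoc, ← hψ₀, ← Spec.map_comp, ← Spec.map_comp]
    congr 1
    rw [← hχ, htower]
    rfl
  · obtain ⟨q', hq'⟩ : q ∈ Set.range (PrimeSpectrum.comap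
        (algebraMap Γ(E, U) (Localization.Away fe))) := by
      rw [PrimeSpectrum.localization_away_comap_range (Localization.Away fe) fe]
      exact hfe
    refine ⟨Spec.map (CommRingCat.ofHom ζ) q', ?_⟩
    have h1 : Spec.map (CommRingCat.ofHom ζ) ≫ Spec.map (CommRingCat.ofHom φ) =
        (Spec.map (CommRingCat.ofHom (algebraMap Γ(E, U) (Localization.Away fe))) ≫
          Spec.map ψ₀) ≫ Spec.map (CommRingCat.ofHom (Ideal.Quotient.mk I)) := by
      rw [← Spec.map_comp, ← Spec.map_comp, ← Spec.map_comp]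
      congr 1
      rw [← CommRingCat.ofHom_comp, hζ, htower]
      rfl
    have h2 := congr($h1 q')
    rw [Scheme.Hom.comp_apply, Scheme.Hom.comp_apply, Scheme.Hom.comp_apply] at h2
    rw [h2]
    congr 1
    have h3 : (Spec.map (CommRingCat.ofHom (algebraMap Γ(E, U) (Localization.Away fe)))) q' = q :=
      hq'
    rw [h3, hψ₀, Scheme.Hom.comp_apply, hq]

/-- the pushout square of a quotient along a ring map -/
lemma isPushout_quotient {A B : Type u} [CommRing A] [CommRing B] (φ : A →+* B) (I : Ideal A) :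
    IsPushout (CommRingCat.ofHom φ) (CommRingCat.ofHom (Ideal.Quotient.mk I))
      (CommRingCat.ofHom (Ideal.Quotient.mk (I.map φ)))
      (CommRingCat.ofHom (Ideal.quotientMap (I.map φ) φ Ideal.le_comap_map)) := by
  have hw : CommRingCat.ofHom φ ≫ CommRingCat.ofHom (Ideal.Quotient.mk (I.map φ)) =
      CommRingCat.ofHom (Ideal.Quotient.mk I) ≫
        CommRingCat.ofHom (Ideal.quotientMap (I.map φ) φ Ideal.le_comap_map) := by
    rw [← CommRingCat.ofHom_comp, ← CommRingCat.ofHom_comp, Ideal.quotientMap_comp_mk]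
  refine ⟨⟨hw⟩, ⟨PushoutCocone.IsColimit.mk _ (fun s => CommRingCat.ofHom
    (Ideal.Quotient.lift (I.map φ) s.inl.hom (by
      intro b hb
      have hle : I.map φ ≤ RingHom.ker s.inl.hom := by
        rw [Ideal.map_le_iff_le_comap]
        intro a ha
        rw [Ideal.mem_comap, RingHom.mem_ker]
        have := congr($(s.condition).hom a)
        simp only [CommRingCat.hom_comp, CommRingCat.hom_ofHom, RingHom.comp_apply] at this
        rw [this, Ideal.Quotient.eq_zero_iff_mem.2 ha, map_zero]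
      exact hle hb))) ?_ ?_ ?_⟩⟩
  · intro s
    ext b
    simp
  · intro s
    ext a
    have := congr($(s.condition).hom a)
    simp only [CommRingCat.hom_comp, CommRingCat.hom_ofHom, RingHom.comp_apply] at this
    simp [this]
  · intro s m h1 _
    ext b
    have := congr($(h1).hom b)
    simpa using this

/-- `Spec (B ⧸ I B)` is the fibre product of `Spec B` and `Spec (A ⧸ I)` over `Spec A` -/
lemma isPullback_quotient {A B : Type u} [CommRing A] [CommRing B] (φ : A →+* B) (I : Ideal A) :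
    IsPullback (Spec.map (CommRingCat.ofHom (Ideal.Quotient.mk (I.map φ))))
      (Spec.map (CommRingCat.ofHom (Ideal.quotientMap (I.map φ) φ Ideal.le_comap_map)))
      (Spec.map (CommRingCat.ofHom φ)) (Spec.map (CommRingCat.ofHom (Ideal.Quotient.mk I))) :=
  isPullback_SpecMap_of_isPushout _ _ _ _ (isPushout_quotient φ I)

/-- the same with the neighbourhood of `x` spelled out on `Spec (A ⧸ I)`, in bundled form -/
theorem exists_etale_lift_nhd' {A : Type u} [CommRing A] (I : Ideal A) (hI : I ^ 2 = ⊥)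
    {E : Scheme.{u}} (e : E ⟶ Spec (.of (A ⧸ I))) [Etale e] (x : E) :
    ∃ (B : CommRingCat.{u}) (φ : CommRingCat.of A ⟶ B), Etale (Spec.map φ) ∧
      (∃ σ : Spec (.of (B ⧸ I.map φ.hom)) ⟶ E,
        σ ≫ e = Spec.map (CommRingCat.ofHom
          (Ideal.quotientMap (I.map φ.hom) φ.hom Ideal.le_comap_map))) ∧
      (e x ∈ Set.range (Spec.map (CommRingCat.ofHom
          (Ideal.quotientMap (I.map φ.hom) φ.hom Ideal.le_comap_map)))) := by
  obtain ⟨_, ⟨U, hU, rfl⟩, hxU, -⟩ :=
    E.isBasis_affineOpens.exists_subset_of_mem_open (Set.mem_univ x) isOpen_univ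
  let ψ₀ : CommRingCat.of (A ⧸ I) ⟶ Γ(E, U) := Spec.preimage (hU.fromSpec ≫ e)
  have hψ₀ : Spec.map ψ₀ = hU.fromSpec ≫ e := Spec.map_preimage _
  haveI : Etale (Spec.map ψ₀) := by rw [hψ₀]; infer_instance
  have hψ₀et : ψ₀.hom.Etale := (HasRingHomProperty.Spec_iff (P := @Etale)).1 inferInstance
  algebraize [ψ₀.hom]
  let q : PrimeSpectrum Γ(E, U) := hU.primeIdealOf ⟨x, hxU⟩
  have hq : hU.fromSpec q = x := hU.fromSpec_primeIdealOf ⟨x, hxU⟩
  haveI : Algebra.IsEtaleAt (A ⧸ I) q.asIdeal :=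
    Algebra.FormallyEtale.comp (A ⧸ I) Γ(E, U) (Localization.AtPrime q.asIdeal)
  obtain ⟨fe, hfe, hstd⟩ := Algebra.IsEtaleAt.exists_isStandardEtale (R := A ⧸ I) q.asIdeal
  obtain ⟨B, hB, φ, hφ, ⟨χ, hχ⟩, ⟨ζ, hζ⟩⟩ :=
    exists_lift_standardEtale I hI (Localization.Away fe)
  have htower : algebraMap (A ⧸ I) (Localization.Away fe) =
      (algebraMap Γ(E, U) (Localization.Away fe)).comp ψ₀.hom :=
    IsScalarTower.algebraMap_eq (A ⧸ I) Γ(E, U) (Localization.Away fe)
  refine ⟨CommRingCat.of B, CommRingCat.ofHom φ,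
    (HasRingHomProperty.Spec_iff (P := @Etale)).2 hφ, ⟨?_, ?_⟩, ?_⟩
  · exact Spec.map (CommRingCat.ofHom χ) ≫
      Spec.map (CommRingCat.ofHom (algebraMap Γ(E, U) (Localization.Away fe))) ≫ hU.fromSpec
  · rw [Category.assoc, Category.assoc, ← hψ₀, ← Spec.map_comp, ← Spec.map_comp]
    congr 1
    show _ = CommRingCat.ofHom (Ideal.quotientMap (I.map φ) φ Ideal.le_comap_map)
    rw [← hχ, htower]
    rfl
  · obtain ⟨q', hq'⟩ : q ∈ Set.range (PrimeSpectrum.comap
        (algebraMap Γ(E, U) (Localization.Away fe))) := by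
      rw [PrimeSpectrum.localization_away_comap_range (Localization.Away fe) fe]
      exact hfe
    -- the induced map `B ⧸ I B ⟶ C`
    let ζb : B ⧸ I.map φ →+* Localization.Away fe := Ideal.Quotient.lift (I.map φ) ζ (by
      intro b hb
      have hle : I.map φ ≤ RingHom.ker ζ := by
        rw [Ideal.map_le_iff_le_comap]
        intro a ha
        rw [Ideal.mem_comap, RingHom.mem_ker]
        have := congr($hζ a)
        simp only [RingHom.comp_apply] at this
        rw [this, Ideal.Quotient.eq_zero_iff_mem.2 ha, map_zero]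
      exact hle hb)
    have hζb : ζb.comp (Ideal.quotientMap (I.map φ) φ Ideal.le_comap_map) =
        algebraMap (A ⧸ I) (Localization.Away fe) := by
      ext a
      have := congr($hζ a)
      simpa [ζb] using this
    refine ⟨Spec.map (CommRingCat.ofHom ζb) q', ?_⟩
    have h1 : Spec.map (CommRingCat.ofHom ζb) ≫ Spec.map (CommRingCat.ofHom
          (Ideal.quotientMap (I.map φ) φ Ideal.le_comap_map)) =
        Spec.map (CommRingCat.ofHom (algebraMap Γ(E, U) (Localization.Away fe))) ≫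
          Spec.map ψ₀ := by
      rw [← Spec.map_comp, ← Spec.map_comp]
      congr 1
      rw [← CommRingCat.ofHom_comp, hζb, htower]
      rfl
    have h2 := congr($h1 q')
    rw [Scheme.Hom.comp_apply, Scheme.Hom.comp_apply] at h2
    refine h2.trans ?_
    have h3 : (Spec.map (CommRingCat.ofHom (algebraMap Γ(E, U) (Localization.Away fe)))) q' = q :=
      hq'
    rw [h3, hψ₀, Scheme.Hom.comp_apply, hq]

end Groth.Agent.Lib.Seat47.LiftCover
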