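import Mathlib

/-!
# Lifting standard étale algebras along an arbitrary ideal (seat 47)
-/

set_option autoImplicit false
universe u

namespace Groth.Agent.Lib.Seat47.StdEt

open Polynomial

/-- A standard étale algebra `C` over `A ⧸ I` (`I` any ideal) is the reduction of a standard étale
algebra `B` over `A`, in the weak sense that there are compatible ring maps `C ⟶ B ⧸ I B` and
`B ⟶ C`. -/
theorem exists_lift_standardEtale' {A : Type u} [CommRing A] (I : Ideal A)
    (C : Type u) [CommRing C] [Algebra (A ⧸ I) C] [Algebra.IsStandardEtale (A ⧸ I) C] :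
    ∃ (B : Type u) (_ : CommRing B) (φ : A →+* B), φ.Etale ∧
      (∃ χ : C →+* B ⧸ I.map φ, χ.comp (algebraMap (A ⧸ I) C) =
        Ideal.quotientMap (I.map φ) φ Ideal.le_comap_map) ∧
      (∃ ζ : B →+* C, ζ.comp φ = (algebraMap (A ⧸ I) C).comp (Ideal.Quotient.mk I)) := by
  classical
  obtain ⟨Pb⟩ := (Algebra.IsStandardEtale.nonempty_standardEtalePresentation :
    Nonempty (StandardEtalePresentation (A ⧸ I) C))
  have hπ : Function.Surjective (Ideal.Quotient.mk I) := Ideal.Quotient.mk_surjective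
  obtain ⟨f, hf_map, -, hf_monic⟩ := Polynomial.lifts_and_natDegree_eq_and_monic
    (Polynomial.mem_lifts_of_surjective hπ Pb.f) Pb.monic_f
  obtain ⟨g₀, hg₀⟩ := Polynomial.map_surjective (Ideal.Quotient.mk I) hπ Pb.g
  obtain ⟨q₁, q₂, n, hcond⟩ := Pb.cond
  obtain ⟨p₁, hp₁⟩ := Polynomial.map_surjective (Ideal.Quotient.mk I) hπ q₁
  obtain ⟨p₂, hp₂⟩ := Polynomial.map_surjective (Ideal.Quotient.mk I) hπ q₂
  set u := derivative f * p₁ + f * p₂ with hu
  have humap : u.map (Ideal.Quotient.mk I) = Pb.g ^ n := by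
    rw [hu, Polynomial.map_add, Polynomial.map_mul, Polynomial.map_mul,
      ← Polynomial.derivative_map, hf_map, hp₁, hp₂, hcond]
  let P : StandardEtalePair A := ⟨f, hf_monic, g₀ * u, ⟨p₁ * g₀, p₂ * g₀, 1, by
    rw [hu]; ring⟩⟩
  have hPf : P.f = f := rfl
  have hPg : P.g = g₀ * u := rfl
  refine ⟨P.Ring, inferInstance, algebraMap A P.Ring, ?_, ?_, ?_⟩
  · exact RingHom.etale_algebraMap.2 inferInstance
  · -- the map `C ⟶ B ⧸ I B`
    let Q := P.Ring ⧸ I.map (algebraMap A P.Ring)
    let qm : A ⧸ I →+* Q := Ideal.quotientMap (I.map (algebraMap A P.Ring)) (algebraMap A P.Ring)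
      Ideal.le_comap_map
    letI : Algebra (A ⧸ I) Q := qm.toAlgebra
    haveI : IsScalarTower A (A ⧸ I) Q := IsScalarTower.of_algebraMap_eq' (by
      ext a
      show (Ideal.Quotient.mk _) (algebraMap A P.Ring a) = qm (Ideal.Quotient.mk I a)
      rw [Ideal.quotientMap_mk])
    let xb : Q := Ideal.Quotient.mkₐ A (I.map (algebraMap A P.Ring)) P.X
    have hmap : Pb.P.HasMap xb := by
      constructor
      · have h1 : aeval xb Pb.f = aeval xb f := by
          rw [← hf_map, ← Ideal.Quotient.algebraMap_eq, Polynomial.aeval_map_algebraMap]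
        rw [h1, Polynomial.aeval_algHom_apply, ← hPf, P.hasMap_X.1, map_zero]
      · have h1 : aeval xb Pb.g = aeval xb g₀ := by
          rw [← hg₀, ← Ideal.Quotient.algebraMap_eq, Polynomial.aeval_map_algebraMap]
        rw [h1]
        have h2 : IsUnit (aeval xb (g₀ * u)) := by
          rw [Polynomial.aeval_algHom_apply, ← hPg]
          exact P.hasMap_X.2.map _
        rw [map_mul] at h2
        exact isUnit_of_mul_isUnit_left h2
    let χ₀ : C →ₐ[A ⧸ I] Q := (Pb.P.lift xb hmap).comp Pb.equivRing.toAlgHom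
    refine ⟨χ₀.toRingHom, ?_⟩
    exact χ₀.comp_algebraMap
  · -- the map `B ⟶ C`
    letI : Algebra A C := ((algebraMap (A ⧸ I) C).comp (Ideal.Quotient.mk I)).toAlgebra
    haveI : IsScalarTower A (A ⧸ I) C := IsScalarTower.of_algebraMap_eq' rfl
    have hmap' : P.HasMap Pb.x := by
      constructor
      · have h1 : aeval Pb.x P.f = aeval Pb.x Pb.f := by
          rw [hPf, ← hf_map, ← Ideal.Quotient.algebraMap_eq, Polynomial.aeval_map_algebraMap]
        rw [h1]
        exact Pb.hasMap.1
      · have h1 : aeval Pb.x g₀ = aeval Pb.x Pb.g := by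
          rw [← hg₀, ← Ideal.Quotient.algebraMap_eq, Polynomial.aeval_map_algebraMap]
        have h2 : aeval Pb.x u = aeval Pb.x (Pb.g ^ n) := by
          rw [← humap, ← Ideal.Quotient.algebraMap_eq, Polynomial.aeval_map_algebraMap]
        rw [hPg, map_mul, h1, h2, map_pow]
        exact Pb.hasMap.2.mul (Pb.hasMap.2.pow n)
    refine ⟨(P.lift Pb.x hmap').toRingHom, ?_⟩
    exact (P.lift Pb.x hmap').comp_algebraMap

end Groth.Agent.Lib.Seat47.StdEt
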