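import Mathlib
import Groth.Agent.Lib.Seat47StdEt2
import Groth.Agent.Lib.Seat47LiftCover

/-!
# Lifting étale neighbourhoods along an arbitrary closed immersion of affine schemes (seat 47)
-/

set_option autoImplicit false
universe u
open CategoryTheory CategoryTheory.Limits AlgebraicGeometry Opposite TopologicalSpace

namespace Groth.Agent.Lib.Seat47.LiftCover

open Groth.Agent.Lib.Seat47.StdEt

/-- lifting étale neighbourhoods along an arbitrary closed immersion of affine schemes -/
theorem exists_etale_lift_nhd_gen {A : Type u} [CommRing A] (I : Ideal A)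
    {E : Scheme.{u}} (e : E ⟶ Spec (.of (A ⧸ I))) [Etale e] (x : E) :
    ∃ (B : CommRingCat.{u}) (φ : CommRingCat.of A ⟶ B), Etale (Spec.map φ) ∧
      (∃ σ : Spec (.of (B ⧸ I.map φ.hom)) ⟶ E,
        σ ≫ e = Spec.map (CommRingCat.ofHom
          (Ideal.quotientMap (I.map φ.hom) φ.hom Ideal.le_comap_map))) ∧
      (e x ∈ Set.range (Spec.map (CommRingCat.ofHom
          (Ideal.quotientMap (I.map φ.hom) φ.hom Ideal.le_comap_map)))) := by
  obtain ⟨_, ⟨U, hU, rfl⟩, hxU, -⟩ :=
    E.isBasis_affineOpens.exists_subset_of_mem_open (Set.mem_univ x) isOpen_univ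
  let ψ₀ : CommRingCat.of (A ⧸ I) ⟶ Γ(E, U) := Spec.preimage (hU.fromSpec ≫ e)
  have hψ₀ : Spec.map ψ₀ = hU.fromSpec ≫ e := Spec.map_preimage _
  haveI : Etale (Spec.map ψ₀) := by rw [hψ₀]; infer_instance
  have hψ₀et : ψ₀.hom.Etale := (HasRingHomProperty.Spec_iff (P := @Etale)).1 inferInstance
  algebraize [ψ₀.hom]
  let q : PrimeSpectrum Γ(E, U) := hU.primeIdealOf ⟨x, hxU⟩
  have hq : hU.fromSpec q = x := hU.fromSpec_primeIdealOf ⟨x, hxU⟩
  haveI : Algebra.IsEtaleAt (A ⧸ I) q.asIdeal :=
    Algebra.FormallyEtale.comp (A ⧸ I) Γ(E, U) (Localization.AtPrime q.asIdeal)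
  obtain ⟨fe, hfe, hstd⟩ := Algebra.IsEtaleAt.exists_isStandardEtale (R := A ⧸ I) q.asIdeal
  obtain ⟨B, hB, φ, hφ, ⟨χ, hχ⟩, ⟨ζ, hζ⟩⟩ :=
    exists_lift_standardEtale' I (Localization.Away fe)
  have htower : algebraMap (A ⧸ I) (Localization.Away fe) =
      (algebraMap Γ(E, U) (Localization.Away fe)).comp ψ₀.hom :=
    IsScalarTower.algebraMap_eq (A ⧸ I) Γ(E, U) (Localization.Away fe)
  refine ⟨CommRingCat.of B, CommRingCat.ofHom φ,
    (HasRingHomProperty.Spec_iff (P := @Etale)).2 hφ, ⟨?_, ?_⟩, ?_⟩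
  · exact Spec.map (CommRingCat.ofHom χ) ≫
      Spec.map (CommRingCat.ofHom (algebraMap Γ(E, U) (Localization.Away fe))) ≫ hU.fromSpec
  · rw [Category.assoc, Category.assoc, ← hψ₀, ← Spec.map_comp, ← Spec.map_comp]
    congr 1
    show _ = CommRingCat.ofHom (Ideal.quotientMap (I.map φ) φ Ideal.le_comap_map)
    rw [← hχ, htower]
    rfl
  · obtain ⟨q', hq'⟩ : q ∈ Set.range (PrimeSpectrum.comap
        (algebraMap Γ(E, U) (Localization.Away fe))) := by
      rw [PrimeSpectrum.localization_away_comap_range (Localization.Away fe) fe]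
      exact hfe
    -- the induced map `B ⧸ I B ⟶ C`
    let ζb : B ⧸ I.map φ →+* Localization.Away fe := Ideal.Quotient.lift (I.map φ) ζ (by
      intro b hb
      have hle : I.map φ ≤ RingHom.ker ζ := by
        rw [Ideal.map_le_iff_le_comap]
        intro a ha
        rw [Ideal.mem_comap, RingHom.mem_ker]
        have := congr($hζ a)
        simp only [RingHom.comp_apply] at this
        rw [this, Ideal.Quotient.eq_zero_iff_mem.2 ha, map_zero]
      exact hle hb)
    have hζb : ζb.comp (Ideal.quotientMap (I.map φ) φ Ideal.le_comap_map) =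
        algebraMap (A ⧸ I) (Localization.Away fe) := by
      ext a
      have := congr($hζ a)
      simpa [ζb] using this
    refine ⟨Spec.map (CommRingCat.ofHom ζb) q', ?_⟩
    have h1 : Spec.map (CommRingCat.ofHom ζb) ≫ Spec.map (CommRingCat.ofHom
          (Ideal.quotientMap (I.map φ) φ Ideal.le_comap_map)) =
        Spec.map (CommRingCat.ofHom (algebraMap Γ(E, U) (Localization.Away fe))) ≫
          Spec.map ψ₀ := by
      rw [← Spec.map_comp, ← Spec.map_comp]
      congr 1
      rw [← CommRingCat.ofHom_comp, hζb, htower]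
      rfl
    have h2 := congr($h1 q')
    rw [Scheme.Hom.comp_apply, Scheme.Hom.comp_apply] at h2
    refine h2.trans ?_
    have h3 : (Spec.map (CommRingCat.ofHom (algebraMap Γ(E, U) (Localization.Away fe)))) q' = q :=
      hq'
    rw [h3, hψ₀, Scheme.Hom.comp_apply, hq]

end Groth.Agent.Lib.Seat47.LiftCover
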