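import Mathlib

/-!
# Seat47: lifting along nil ideals for smooth algebras

A formally smooth algebra of finite presentation lifts along surjections whose kernel is a nil
ideal (not necessarily nilpotent).
-/

set_option autoImplicit false
universe u

namespace Groth.Agent.Lib.Seat47.NilLift

theorem exists_lift_of_nil {A R B : Type u} [CommRing A] [CommRing R] [CommRing B] [Algebra A R]
    [Algebra A B] [Algebra.FormallySmooth A R] [Algebra.FinitePresentation A R] (J : Ideal B)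
    (hJ : J ≤ nilradical B) (g : R →ₐ[A] B ⧸ J) :
    ∃ ℓ : R →ₐ[A] B, (Ideal.Quotient.mkₐ A J).comp ℓ = g := by
  obtain ⟨n, π, hπ, hK⟩ := Algebra.FinitePresentation.out (R := A) (A := R)
  have hb : ∀ i : Fin n, ∃ b : B, Ideal.Quotient.mk J b = g (π (MvPolynomial.X i)) :=
    fun i => Ideal.Quotient.mk_surjective _
  choose b hb using hb
  let ψ : MvPolynomial (Fin n) A →ₐ[A] B := MvPolynomial.aeval b
  have hψ : (Ideal.Quotient.mkₐ A J).comp ψ = g.comp π := by
    apply MvPolynomial.algHom_ext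
    intro i
    simp [ψ, hb]
  let J₀ : Ideal B := (RingHom.ker π.toRingHom).map ψ.toRingHom
  have hJ₀fg : J₀.FG := hK.map _
  have hJ₀J : J₀ ≤ J := by
    rw [Ideal.map_le_iff_le_comap]
    intro k hk
    rw [Ideal.mem_comap]
    have h1 := congr($hψ k)
    simp only [AlgHom.comp_apply, Ideal.Quotient.mkₐ_eq_mk] at h1
    have h2 : π k = 0 := hk
    rw [h2, map_zero] at h1
    exact Ideal.Quotient.eq_zero_iff_mem.1 h1
  have hJ₀nil : IsNilpotent J₀ := hJ₀fg.isNilpotent_iff_le_nilradical.2 (hJ₀J.trans hJ)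
  let g₀' : (MvPolynomial (Fin n) A ⧸ RingHom.ker π.toRingHom) →ₐ[A] B ⧸ J₀ :=
    Ideal.quotientMapₐ J₀ ψ Ideal.le_comap_map
  let eR : (MvPolynomial (Fin n) A ⧸ RingHom.ker π.toRingHom) ≃ₐ[A] R :=
    Ideal.quotientKerAlgEquivOfSurjective hπ
  let g₀ : R →ₐ[A] B ⧸ J₀ := g₀'.comp eR.symm.toAlgHom
  have hg₀ : ∀ p, g₀ (π p) = Ideal.Quotient.mk J₀ (ψ p) := by
    intro p
    have h1 : eR.symm (π p) = Ideal.Quotient.mk _ p := by
      rw [AlgEquiv.symm_apply_eq]
      rfl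
    show g₀' (eR.symm (π p)) = _
    rw [h1]
    rfl
  obtain ⟨ℓ, hℓ⟩ := Algebra.FormallySmooth.exists_lift J₀ hJ₀nil g₀
  refine ⟨ℓ, ?_⟩
  ext r
  obtain ⟨p, rfl⟩ := hπ r
  have h1 := congr($hℓ (π p))
  simp only [AlgHom.comp_apply, Ideal.Quotient.mkₐ_eq_mk] at h1
  rw [hg₀, Ideal.Quotient.eq] at h1
  have h2 := congr($hψ p)
  simp only [AlgHom.comp_apply, Ideal.Quotient.mkₐ_eq_mk] at h2
  simp only [AlgHom.comp_apply, Ideal.Quotient.mkₐ_eq_mk]
  rw [← h2, Ideal.Quotient.eq]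
  exact hJ₀J h1

end Groth.Agent.Lib.Seat47.NilLift
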