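import Groth.Agent.Lib.Seat47UFO2
import Groth.Agent.Lib.Seat47NilLift
import Groth.Agent.Lib.Seat47LiftCover2
import Groth.Agent.Lib.Helper12SmoothST
import Groth.Agent.S9874
import Groth.Agent.S10177

/-!
# Seat47: étale local lifting for smooth morphisms along thickenings

* `exists_affine_chart`: an affine étale chart in normal form through a point.
* `exists_closed_pullback`: the pullback of a thickening to such a chart, in normal form.
* `exists_local_lift`: the étale local lift (ring level formal smoothness along nil ideals).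
-/

set_option autoImplicit false
universe u
open CategoryTheory CategoryTheory.Limits AlgebraicGeometry Opposite TopologicalSpace
open AlgSp

namespace Groth.Agent.Lib.Seat47.SmLift

open Groth.Agent.Lib.Seat47.FEt Groth.Agent.Lib.Seat47.Thk Groth.Agent.Lib.Seat47.LiftCover

variable {S : Scheme.{u}}

/-- an affine étale chart in normal form through a given point of an algebraic space -/
theorem exists_affine_chart {T' : AlgSp.Sp S} (hT' : AlgSp.IsAlgSpace T') (t' : AlgSp.Points T') :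
    ∃ (A : Type u) (_ : CommRing A) (str : Spec (.of A) ⟶ S)
      (c : (AlgSp.yon S).obj (pT' A str) ⟶ T') (w : ↥(Spec (CommRingCat.of A))),
      AlgSp.RepWith @Etale c ∧ AlgSp.Points.ofPt c w = t' := by
  obtain ⟨W, c', hce, hcs⟩ := hT'.atlas
  obtain ⟨w₀, hw₀⟩ := Groth.Agent.S10177.surjective_ofPt c' hcs t'
  obtain ⟨_, ⟨V, hV, rfl⟩, hwV, -⟩ :=
    W.left.isBasis_affineOpens.exists_subset_of_mem_open (Set.mem_univ w₀) isOpen_univ
  let g : pT' Γ(W.left, V) (hV.fromSpec ≫ W.hom) ⟶ W := Over.homMk hV.fromSpec rfl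
  refine ⟨Γ(W.left, V), inferInstance, hV.fromSpec ≫ W.hom, (AlgSp.yon S).map g ≫ c',
    hV.primeIdealOf ⟨w₀, hwV⟩, ?_, ?_⟩
  · exact MorphismProperty.comp_mem _ _ _
      ((AlgSp.repWith_yon_map_iff _ _).2 (show Etale hV.fromSpec from inferInstance)) hce
  · rw [Groth.Agent.S10176.ofPt_map_comp]
    have : g.left (hV.primeIdealOf ⟨w₀, hwV⟩) = w₀ := hV.fromSpec_primeIdealOf ⟨w₀, hwV⟩
    rw [this, hw₀]

/-- the pullback of a thickening to an affine chart in normal form -/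
theorem exists_closed_pullback {T T' : AlgSp.Sp S} (i : T ⟶ T') (hi : AlgSp.IsThickMor i)
    {A : Type u} [CommRing A] (str : Spec (.of A) ⟶ S)
    (c : (AlgSp.yon S).obj (pT' A str) ⟶ T') :
    ∃ (I : Ideal A) (p : (AlgSp.yon S).obj (pT I str) ⟶ T),
      IsPullback p ((AlgSp.yon S).map (pj I str)) i c ∧ I ≤ nilradical A ∧
      Function.Surjective (Spec.map (CommRingCat.ofHom (Ideal.Quotient.mk I))) := by
  obtain ⟨W₀, t₀, p₀, hpb⟩ := hi.1 c
  have hthick : AlgSp.thick t₀.left := hi.2 c p₀ t₀ hpb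
  let t₀l : W₀.left ⟶ Spec (.of A) := t₀.left
  haveI : IsClosedImmersion t₀l := hthick.1
  haveI : Surjective t₀l := hthick.2
  obtain ⟨I, e, he⟩ := IsClosedImmersion.Spec_iff.1 (inferInstance : IsClosedImmersion t₀l)
  have hε : e.inv ≫ W₀.hom = (pT I str).hom := by
    show e.inv ≫ W₀.hom = Spec.map (CommRingCat.ofHom (Ideal.Quotient.mk I)) ≫ str
    have h3 : t₀l ≫ str = W₀.hom := Over.w t₀
    rw [← h3, he, Category.assoc, Iso.inv_hom_id_assoc]
  let ε : pT I str ≅ W₀ := Over.isoMk e.symm hε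
  have hεt : ε.hom ≫ t₀ = pj I str := by
    apply Over.OverMorphism.ext
    show e.inv ≫ t₀l = Spec.map (CommRingCat.ofHom (Ideal.Quotient.mk I))
    rw [he, Iso.inv_hom_id_assoc]
  have hsurj : Function.Surjective (Spec.map (CommRingCat.ofHom (Ideal.Quotient.mk I))) := by
    intro y
    obtain ⟨x, hx⟩ := t₀l.surjective y
    refine ⟨e.hom x, ?_⟩
    rw [← Scheme.Hom.comp_apply, ← he]
    exact hx
  refine ⟨I, (AlgSp.yon S).map ε.hom ≫ p₀, ?_, ?_, hsurj⟩
  · have h1 : IsPullback ((AlgSp.yon S).map ε.hom) ((AlgSp.yon S).map (pj I str))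
        ((AlgSp.yon S).map t₀) (𝟙 _) :=
      IsPullback.of_horiz_isIso ⟨by rw [Category.comp_id, ← Functor.map_comp, hεt]⟩
    have h2 := h1.paste_horiz hpb
    rwa [Category.id_comp] at h2
  · intro x hx
    rw [mem_nilradical, nilpotent_iff_mem_prime]
    intro J hJ
    obtain ⟨q, hq⟩ := hsurj ⟨J, hJ⟩
    have h1 : J = Ideal.comap (Ideal.Quotient.mk I) q.asIdeal := by
      have := congrArg PrimeSpectrum.asIdeal hq
      exact this.symm
    rw [h1, Ideal.mem_comap, Ideal.Quotient.eq_zero_iff_mem.2 hx]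
    exact Ideal.zero_mem _

/-- the étale local lift: ring level formal smoothness along a nil ideal -/
theorem exists_local_lift {G : AlgSp.Sp S} (hG : AlgSp.IsAlgSpace G)
    {A : Type u} [CommRing A] (I : Ideal A) (hI : I ≤ nilradical A) (str : Spec (.of A) ⟶ S)
    (pr₂ : G ⟶ (AlgSp.yon S).obj (pT' A str)) (hpr : AlgSp.LocP @Smooth pr₂)
    (s : (AlgSp.yon S).obj (pT I str) ⟶ G) (hs : s ≫ pr₂ = (AlgSp.yon S).map (pj I str))
    (w₀ : ↥(Spec (CommRingCat.of (A ⧸ I)))) :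
    ∃ (B : CommRingCat.{u}) (φ : CommRingCat.of A ⟶ B), Etale (Spec.map φ) ∧
      (w₀ ∈ Set.range (Spec.map (CommRingCat.ofHom
        (Ideal.quotientMap (I.map φ.hom) φ.hom Ideal.le_comap_map)))) ∧
      ∃ ℓ : (AlgSp.yon S).obj (rW str φ.hom) ⟶ G,
        ℓ ≫ pr₂ = (AlgSp.yon S).map (rg str φ.hom) ∧
        (AlgSp.yon S).map (pj (I.map φ.hom) (Spec.map (CommRingCat.ofHom φ.hom) ≫ str)) ≫ ℓ =
          (AlgSp.yon S).map (rρ I str φ.hom) ≫ s := by
  obtain ⟨U, u, hue, hus⟩ := hG.atlas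
  obtain ⟨h', hh'⟩ := (AlgSp.yon S).map_surjective (u ≫ pr₂)
  have hsm : Smooth h'.left := hpr u (𝟙 _) h' hue (AlgSp.repWith_id _ _) (by
    rw [Category.comp_id, hh'])
  obtain ⟨E, e, σ₀', hpbE⟩ := hue.1 s
  obtain ⟨σ₀, rfl⟩ := (AlgSp.yon S).map_surjective σ₀'
  haveI : Etale e.left := hue.2 s _ e hpbE
  haveI : Surjective e.left := hus.2 s _ e hpbE
  have hσh : σ₀ ≫ h' = e ≫ pj I str := by
    apply (AlgSp.yon S).map_injective
    rw [Functor.map_comp, Functor.map_comp, hh', ← Category.assoc, hpbE.w, Category.assoc, hs]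
  let el : E.left ⟶ Spec (.of (A ⧸ I)) := e.left
  obtain ⟨x, hx⟩ := el.surjective w₀
  obtain ⟨_, ⟨U₀, hU₀, rfl⟩, hxU₀, -⟩ :=
    U.left.isBasis_affineOpens.exists_subset_of_mem_open (Set.mem_univ (σ₀.left x)) isOpen_univ
  let E₀ : E.left.Opens := σ₀.left ⁻¹ᵁ U₀
  have hxE₀ : x ∈ E₀ := hxU₀
  let e₀ : (E₀ : Scheme.{u}) ⟶ Spec (.of (A ⧸ I)) := E₀.ι ≫ el
  haveI : Etale e₀ := inferInstance
  obtain ⟨B, φ, hφ, ⟨σ, hσ⟩, hrange⟩ := exists_etale_lift_nhd_gen I e₀ ⟨x, hxE₀⟩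
  have he₀x : e₀ ⟨x, hxE₀⟩ = w₀ := by
    show (E₀.ι ≫ el) ⟨x, hxE₀⟩ = w₀
    rw [Scheme.Hom.comp_apply]
    exact hx
  refine ⟨B, φ, hφ, by rw [← he₀x]; exact hrange, ?_⟩
  -- ring level
  let κ : Spec (.of (B ⧸ I.map φ.hom)) ⟶ U.left := σ ≫ E₀.ι ≫ σ₀.left
  have hκrange : Set.range κ ⊆ Set.range hU₀.fromSpec := by
    rw [hU₀.range_fromSpec]
    rintro _ ⟨z, rfl⟩
    show (σ ≫ E₀.ι ≫ σ₀.left) z ∈ U₀
    rw [Scheme.Hom.comp_apply, Scheme.Hom.comp_apply]
    exact (σ z).2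
  let τ : Spec (.of (B ⧸ I.map φ.hom)) ⟶ Spec Γ(U.left, U₀) :=
    IsOpenImmersion.lift hU₀.fromSpec κ hκrange
  have hτ : τ ≫ hU₀.fromSpec = κ := IsOpenImmersion.lift_fac _ _ _
  let ρ : CommRingCat.of A ⟶ Γ(U.left, U₀) := Spec.preimage (hU₀.fromSpec ≫ h'.left)
  have hρ : Spec.map ρ = hU₀.fromSpec ≫ h'.left := Spec.map_preimage _
  haveI : Smooth (Spec.map ρ) := by rw [hρ]; infer_instance
  have hρsm : ρ.hom.Smooth := (HasRingHomProperty.Spec_iff (P := @Smooth)).1 inferInstance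
  let τr : Γ(U.left, U₀) ⟶ CommRingCat.of (B ⧸ I.map φ.hom) := Spec.preimage τ
  have hτr : Spec.map τr = τ := Spec.map_preimage _
  have h1 : σ₀.left ≫ h'.left = el ≫ Spec.map (CommRingCat.ofHom (Ideal.Quotient.mk I)) :=
    congrArg CommaMorphism.left hσh
  have hcompat : ρ ≫ τr = φ ≫ CommRingCat.ofHom (Ideal.Quotient.mk (I.map φ.hom)) := by
    apply Spec.map_injective
    rw [Spec.map_comp, Spec.map_comp, hτr, hρ, ← Category.assoc, hτ]
    show (σ ≫ E₀.ι ≫ σ₀.left) ≫ h'.left = _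
    rw [Category.assoc, Category.assoc, h1, ← Category.assoc E₀.ι, ← Category.assoc σ]
    show (σ ≫ e₀) ≫ _ = _
    rw [hσ]
    exact spec_quot_comm I φ.hom
  algebraize [ρ.hom, φ.hom]
  let g : Γ(U.left, U₀) →ₐ[A] (B ⧸ I.map φ.hom) :=
    { τr.hom with
      commutes' := fun a => by
        have := congr($(hcompat).hom a)
        exact this }
  have hJ : I.map φ.hom ≤ nilradical B := by
    rw [Ideal.map_le_iff_le_comap]
    intro a ha
    rw [Ideal.mem_comap, mem_nilradical]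
    exact (mem_nilradical.1 (hI ha)).map φ.hom
  obtain ⟨ℓr, hℓr⟩ := Groth.Agent.Lib.Seat47.NilLift.exists_lift_of_nil (I.map φ.hom) hJ g
  let ℓs : Spec B ⟶ U.left := Spec.map (CommRingCat.ofHom ℓr.toRingHom) ≫ hU₀.fromSpec
  have hℓs1 : ℓs ≫ h'.left = Spec.map (CommRingCat.ofHom φ.hom) := by
    show (Spec.map _ ≫ hU₀.fromSpec) ≫ h'.left = _
    rw [Category.assoc, ← hρ, ← Spec.map_comp]
    congr 1
    ext a
    exact ℓr.commutes a
  let ℓU : rW str φ.hom ⟶ U := Over.homMk ℓs (by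
    show ℓs ≫ U.hom = Spec.map (CommRingCat.ofHom φ.hom) ≫ str
    rw [← Over.w h', ← Category.assoc, hℓs1]
    rfl)
  have hℓU : ℓU ≫ h' = rg str φ.hom := Over.OverMorphism.ext hℓs1
  refine ⟨(AlgSp.yon S).map ℓU ≫ u, ?_, ?_⟩
  · rw [Category.assoc, ← hh', ← Functor.map_comp, hℓU]
  · have hσe : (σ ≫ E₀.ι) ≫ e.left = Spec.map (CommRingCat.ofHom
        (Ideal.quotientMap (I.map φ.hom) φ.hom Ideal.le_comap_map)) := by
      rw [Category.assoc]; exact hσ
    let σE : rT I str φ.hom ⟶ E := Over.homMk (σ ≫ E₀.ι) (by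
      show (σ ≫ E₀.ι) ≫ E.hom = (rT I str φ.hom).hom
      rw [← Over.w e, ← Category.assoc, hσe]
      exact Over.w (rρ I str φ.hom))
    have hσE : σE ≫ e = rρ I str φ.hom := Over.OverMorphism.ext hσe
    have hpjℓ : pj (I.map φ.hom) (Spec.map (CommRingCat.ofHom φ.hom) ≫ str) ≫ ℓU = σE ≫ σ₀ := by
      apply Over.OverMorphism.ext
      show Spec.map (CommRingCat.ofHom (Ideal.Quotient.mk (I.map φ.hom))) ≫
        (Spec.map (CommRingCat.ofHom ℓr.toRingHom) ≫ hU₀.fromSpec) = (σ ≫ E₀.ι) ≫ σ₀.left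
      rw [← Category.assoc, ← Spec.map_comp]
      have h2 : CommRingCat.ofHom ℓr.toRingHom ≫
          CommRingCat.ofHom (Ideal.Quotient.mk (I.map φ.hom)) = τr := by
        ext r
        exact congr($hℓr r)
      rw [h2, hτr, hτ, Category.assoc]
    rw [← Category.assoc, ← Functor.map_comp, hpjℓ, Functor.map_comp, Category.assoc, hpbE.w,
      ← Category.assoc, ← Functor.map_comp, hσE]

end Groth.Agent.Lib.Seat47.SmLift
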