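import Mathlib
import Groth.Prelude.Def_AlgSpDec
import Groth.Agent.Lib.Helper12NoethDescent

/-!
# Descent of "locally Noetherian" along quasi-compact flat surjective base changes (seat 48)

* `isLocallyNoetherian_of_flat_surjective_quasiCompact`: schemes, `g : A ⟶ B` flat, surjective and
  quasi-compact with `A` locally Noetherian: `B` is locally Noetherian (no finite presentation).
* `exists_chart_baseChange`: chart plumbing for a pullback square of sheaves over `h_c : h_{T'} ⟶ h_T`.
* `isLocallyNoetherian_of_etale_chart`: every scheme etale over a locally Noetherian sheaf is locally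
  Noetherian.
* `isLocNoethSp_of_baseChange_lft`: `P' = P ×_{h_T} h_{T'}` with `T' ⟶ T` locally of finite type,
  `P` locally Noetherian: `P'` is locally Noetherian.
* `isLocNoethSp_of_baseChange_fpqc`: `P' = Q ×_{h_T} h_{T'}` with `T' ⟶ T` flat, surjective,
  quasi-compact, `Q` an algebraic space and `P'` locally Noetherian: `Q` is locally Noetherian.
-/

set_option autoImplicit false
universe u
open CategoryTheory CategoryTheory.Limits AlgebraicGeometry

namespace Groth.Agent.Lib.Seat48.FibreNoeth

/-- affine case: a flat morphism to an affine scheme from a locally Noetherian scheme, finitely many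
affine opens of the source jointly surjecting onto the target: the target is Noetherian. -/
lemma isNoetherianRing_of_flat_of_finite_affine_cover {A B : Scheme.{u}} (g : A ⟶ B) [IsAffine B]
    [Flat g] [IsLocallyNoetherian A] {ι : Type u} [Finite ι] (V : ι → A.Opens)
    (hV : ∀ i, IsAffineOpen (V i)) (hcov : ∀ b : B, ∃ i, ∃ a ∈ V i, g a = b) :
    IsNoetherianRing Γ(B, ⊤) := by
  classical
  let W : Scheme.{u} := ∐ (fun i : ι => (V i).toScheme)
  have : ∀ i : ι, IsAffine ((V i).toScheme) := fun i => hV i
  have : IsAffine W := inferInstance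
  let d : W ⟶ B := Sigma.desc (fun i : ι => (V i).ι ≫ g)
  have : Flat d := by
    rw [IsZariskiLocalAtSource.iff_of_openCover (P := @Flat) (sigmaOpenCover _)]
    intro i
    show Flat (Sigma.ι _ i ≫ Limits.Sigma.desc _)
    rw [Limits.Sigma.ι_desc]
    infer_instance
  have : Surjective d := by
    refine ⟨fun b => ?_⟩
    obtain ⟨i, a, ha, rfl⟩ := hcov b
    refine ⟨Sigma.ι (fun i : ι => (V i).toScheme) i ⟨a, ha⟩, ?_⟩
    have e : Sigma.ι (fun i : ι => (V i).toScheme) i ≫ d = (V i).ι ≫ g :=
      Limits.Sigma.ι_desc _ _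
    rw [← Scheme.Hom.comp_apply, e]
    rfl
  have : IsLocallyNoetherian W := by
    rw [isLocallyNoetherian_iff_openCover (sigmaOpenCover _)]
    intro i
    simp only [sigmaOpenCover_X]
    infer_instance
  have : IsNoetherianRing Γ(W, ⊤) :=
    IsLocallyNoetherian.component_noetherian ⟨⊤, isAffineOpen_top W⟩
  have hff : d.appTop.hom.FaithfullyFlat :=
    (Flat.flat_and_surjective_iff_faithfullyFlat_of_isAffine d).1 ⟨inferInstance, inferInstance⟩
  algebraize [d.appTop.hom]
  have : Module.FaithfullyFlat Γ(B, ⊤) Γ(W, ⊤) := hff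
  exact Groth.Agent.Lib.Helper28.isNoetherianRing_of_faithfullyFlat (R := Γ(B, ⊤)) (S := Γ(W, ⊤))

/-- affine target: flat, surjective, quasi-compact from a locally Noetherian scheme. -/
lemma isNoetherianRing_of_flat_surjective_quasiCompact_of_isAffine {A B : Scheme.{u}} (g : A ⟶ B)
    [IsAffine B] [Flat g] [Surjective g] [QuasiCompact g] [IsLocallyNoetherian A] :
    IsNoetherianRing Γ(B, ⊤) := by
  classical
  have : CompactSpace A := QuasiCompact.compactSpace_of_compactSpace g
  have hV : ∀ a : A, ∃ V : A.Opens, IsAffineOpen V ∧ a ∈ V := by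
    intro a
    obtain ⟨V, hV, haV, -⟩ := TopologicalSpace.Opens.isBasis_iff_nbhd.mp A.isBasis_affineOpens
      (TopologicalSpace.Opens.mem_top a)
    exact ⟨V, hV, haV⟩
  choose V hVa haV using hV
  obtain ⟨t, ht⟩ := isCompact_univ.elim_finite_subcover (fun a : A => ((V a : A.Opens) : Set A))
    (fun a => (V a).isOpen) (by
      intro a _
      exact Set.mem_iUnion.2 ⟨a, haV a⟩)
  refine isNoetherianRing_of_flat_of_finite_affine_cover g (ι := t) (fun a => V a.1)
    (fun a => hVa a.1) (fun b => ?_)
  obtain ⟨a, rfl⟩ := g.surjective b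
  have := ht (Set.mem_univ a)
  simp only [Set.mem_iUnion] at this
  obtain ⟨a', ha't, ha⟩ := this
  exact ⟨⟨a', ha't⟩, a, ha, rfl⟩

/-- local Noetherianity descends along flat, surjective, quasi-compact morphisms. -/
lemma isLocallyNoetherian_of_flat_surjective_quasiCompact {A B : Scheme.{u}} (g : A ⟶ B)
    [Flat g] [Surjective g] [QuasiCompact g] [IsLocallyNoetherian A] :
    IsLocallyNoetherian B := by
  rw [isLocallyNoetherian_iff_openCover B.affineCover]
  intro i
  have : IsLocallyNoetherian (pullback g (B.affineCover.f i)) :=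
    isLocallyNoetherian_of_isOpenImmersion (pullback.fst g (B.affineCover.f i))
  have : IsAffine (B.affineCover.X i) := by
    dsimp [Scheme.affineCover]; infer_instance
  have := isNoetherianRing_of_flat_surjective_quasiCompact_of_isAffine
    (pullback.snd g (B.affineCover.f i))
  exact isLocallyNoetherian_of_isOpenImmersion (B.affineCover.X i).isoSpec.hom


open AlgSp

variable {S : Scheme.{u}}

/-- chart plumbing: the base change of a chart `w : h_W ⟶ P` along a pullback square of sheaves
over `h_c : h_{T'} ⟶ h_T` is the chart `h_{W ×_T T'} ⟶ P'`. -/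
lemma exists_chart_baseChange {P P' : AlgSp.Sp S} {T T' : Over S} (c : T' ⟶ T)
    {snd : P ⟶ (AlgSp.yon S).obj T} {fst' : P' ⟶ P} {snd' : P' ⟶ (AlgSp.yon S).obj T'}
    (h : IsPullback fst' snd' snd ((AlgSp.yon S).map c))
    {W : Over S} (w : (AlgSp.yon S).obj W ⟶ P) :
    ∃ (W' : Over S) (π₁ : W' ⟶ W) (π₂ : W' ⟶ T') (t : W ⟶ T) (w' : (AlgSp.yon S).obj W' ⟶ P'),
      (AlgSp.yon S).map t = w ≫ snd ∧
      IsPullback w' ((AlgSp.yon S).map π₁) fst' w ∧ w' ≫ snd' = (AlgSp.yon S).map π₂ ∧
      IsPullback π₁.left π₂.left t.left c.left := by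
  obtain ⟨t, ht⟩ := (AlgSp.yon S).map_surjective (w ≫ snd)
  have hW : IsPullback ((AlgSp.yon S).map (pullback.fst t c)) ((AlgSp.yon S).map (pullback.snd t c))
      ((AlgSp.yon S).map t) ((AlgSp.yon S).map c) :=
    (IsPullback.of_hasPullback t c).map (AlgSp.yon S)
  have hcomm : ((AlgSp.yon S).map (pullback.fst t c) ≫ w) ≫ snd =
      (AlgSp.yon S).map (pullback.snd t c) ≫ (AlgSp.yon S).map c := by
    rw [Category.assoc, ← ht, hW.w]
  refine ⟨pullback t c, pullback.fst t c, pullback.snd t c, t, h.lift _ _ hcomm, ht, ?_,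
    h.lift_snd _ _ hcomm, (IsPullback.of_hasPullback t c).map (Over.forget S)⟩
  refine IsPullback.of_right ?_ (h.lift_fst _ _ hcomm) h.flip
  rw [h.lift_snd _ _ hcomm, ← ht]
  exact hW.flip

/-- every scheme etale over a locally Noetherian sheaf is locally Noetherian. -/
lemma isLocallyNoetherian_of_etale_chart {F : AlgSp.Sp S} (hF : AlgSp.IsLocNoethSp F) {U : Over S}
    (a : (AlgSp.yon S).obj U ⟶ F) (ha : AlgSp.RepWith @Etale a) : IsLocallyNoetherian U.left := by
  obtain ⟨V, p, hpe, hps, hV⟩ := hF
  have sq := hpe.rep.isPullback' a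
  have : Etale (hpe.rep.snd a).left := hpe.property_snd a
  have : Surjective (hpe.rep.snd a).left := hps.2 a _ _ (hpe.rep.isPullback a)
  have : Etale (hpe.rep.fst' a).left := ha.2 p _ _ sq.flip
  have : IsLocallyNoetherian V.left := hV
  have : IsLocallyNoetherian (hpe.rep.pullback a).left :=
    LocallyOfFiniteType.isLocallyNoetherian (hpe.rep.fst' a).left
  exact Groth.Agent.Lib.Helper12.NoethDescent.isLocallyNoetherian_of_flat_lfp_surjective
    (hpe.rep.snd a).left

/-- `P' = P ×_{h_T} h_{T'}` with `T' ⟶ T` locally of finite type and `P` locally Noetherian: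
`P'` is locally Noetherian. -/
lemma isLocNoethSp_of_baseChange_lft {P P' : AlgSp.Sp S} {T T' : Over S} (c : T' ⟶ T)
    [LocallyOfFiniteType c.left]
    {snd : P ⟶ (AlgSp.yon S).obj T} {fst' : P' ⟶ P} {snd' : P' ⟶ (AlgSp.yon S).obj T'}
    (h : IsPullback fst' snd' snd ((AlgSp.yon S).map c)) (hP : AlgSp.IsLocNoethSp P) :
    AlgSp.IsLocNoethSp P' := by
  obtain ⟨W, w, hwe, hws, hW⟩ := hP
  obtain ⟨W', π₁, π₂, t, w', -, hsq, -, hsch⟩ := exists_chart_baseChange c h w
  have : LocallyOfFiniteType π₁.left :=
    MorphismProperty.of_isPullback (P := @LocallyOfFiniteType) hsch.flip inferInstance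
  have : IsLocallyNoetherian W.left := hW
  exact ⟨W', w', MorphismProperty.of_isPullback hsq.flip hwe,
    MorphismProperty.of_isPullback hsq.flip hws, LocallyOfFiniteType.isLocallyNoetherian π₁.left⟩

/-- `P' = Q ×_{h_T} h_{T'}` with `T' ⟶ T` flat, surjective and quasi-compact, `Q` an algebraic
space and `P'` locally Noetherian: `Q` is locally Noetherian. -/
lemma isLocNoethSp_of_baseChange_fpqc {Q P' : AlgSp.Sp S} (hQ : AlgSp.IsAlgSpace Q)
    {T T' : Over S} (c : T' ⟶ T) [Flat c.left] [Surjective c.left] [QuasiCompact c.left]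
    {snd : Q ⟶ (AlgSp.yon S).obj T} {fst' : P' ⟶ Q} {snd' : P' ⟶ (AlgSp.yon S).obj T'}
    (h : IsPullback fst' snd' snd ((AlgSp.yon S).map c)) (hP' : AlgSp.IsLocNoethSp P') :
    AlgSp.IsLocNoethSp Q := by
  obtain ⟨V, q, hqe, hqs⟩ := hQ.atlas
  obtain ⟨V', π₁, π₂, t, q', -, hsq, -, hsch⟩ := exists_chart_baseChange c h q
  have hq'e : AlgSp.RepWith @Etale q' := MorphismProperty.of_isPullback hsq.flip hqe
  have : IsLocallyNoetherian V'.left := isLocallyNoetherian_of_etale_chart hP' q' hq'e
  have : Flat π₁.left := MorphismProperty.of_isPullback (P := @Flat) hsch.flip inferInstance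
  have : Surjective π₁.left :=
    MorphismProperty.of_isPullback (P := @Surjective) hsch.flip inferInstance
  have : QuasiCompact π₁.left :=
    MorphismProperty.of_isPullback (P := @QuasiCompact) hsch.flip inferInstance
  exact ⟨V, q, hqe, hqs, isLocallyNoetherian_of_flat_surjective_quasiCompact π₁.left⟩


/-- an etale morphism is locally quasi-finite. -/
lemma locallyQuasiFinite_of_etale {X Y : Scheme.{u}} (f : X ⟶ Y) [Etale f] :
    LocallyQuasiFinite f := by
  constructor
  intro U hU V hV e
  have h1 : (f.appLE U V e).hom.FiniteType :=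
    HasRingHomProperty.appLE (P := @LocallyOfFiniteType) f inferInstance ⟨U, hU⟩ ⟨V, hV⟩ e
  have h2 : (f.appLE U V e).hom.FormallyUnramified :=
    HasRingHomProperty.appLE (P := @FormallyUnramified) f inferInstance ⟨U, hU⟩ ⟨V, hV⟩ e
  algebraize [(f.appLE U V e).hom]
  rw [← RingHom.algebraMap_toAlgebra (f.appLE U V e).hom, RingHom.quasiFinite_algebraMap]
  infer_instance

/-- a scheme etale over a one-point scheme is discrete, so the inclusion of each of its points
`Spec κ(w) ⟶ W` is a closed immersion. -/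
lemma isClosedImmersion_fromSpecResidueField_of_etale {W T : Scheme.{u}} (g : W ⟶ T) [Etale g]
    [Subsingleton ↥T] (w : ↥W) : IsClosedImmersion (W.fromSpecResidueField w) := by
  have := locallyQuasiFinite_of_etale g
  have h1 : _root_.IsDiscrete ((g : ↥W → ↥T) ⁻¹' {g w}) := g.isDiscrete_preimage_singleton (g w)
  have h2 : (g : ↥W → ↥T) ⁻¹' {g w} = Set.univ := by
    ext x
    simp only [Set.mem_preimage, Set.mem_singleton_iff, Set.mem_univ, iff_true]
    exact Subsingleton.elim _ _
  rw [h2, isDiscrete_univ_iff] at h1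
  exact IsClosedImmersion.of_isPreimmersion _ (isClosed_discrete _)

/-- a morphism of spectra of fields is flat, surjective and affine. -/
lemma flat_surjective_affine_of_field {K L : Type u} [Field K] [Field L]
    (c : Spec (CommRingCat.of L) ⟶ Spec (CommRingCat.of K)) :
    Flat c ∧ Surjective c ∧ IsAffineHom c := by
  refine ⟨?_, ?_, inferInstance⟩
  · have e : c = Spec.map (Spec.preimage c) := (Spec.map_preimage c).symm
    rw [e, HasRingHomProperty.Spec_iff (P := @Flat)]
    algebraize [(Spec.preimage c).hom]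
    show Module.Flat K L
    infer_instance
  · have hsub : Subsingleton ↥(Spec (CommRingCat.of K)) :=
      (inferInstance : Subsingleton (PrimeSpectrum K))
    have hne : Nonempty ↥(Spec (CommRingCat.of L)) := (inferInstance : Nonempty (PrimeSpectrum L))
    exact ⟨fun y => ⟨hne.some, Subsingleton.elim _ _⟩⟩

end Groth.Agent.Lib.Seat48.FibreNoeth
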