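import Mathlib
import Groth.Agent.Lib.Helper4DVREx
import Groth.Agent.Lib.Seat43ValImage
import Groth.Agent.Lib.Seat43QcChart
import Groth.Agent.Lib.Seat47SmLift
import Groth.Agent.Lib.Seat48FibreNoeth
import Groth.Agent.S9874
import Groth.Agent.S9908
import Groth.Agent.S9913
import Groth.Agent.S10175
import Groth.Agent.S10176
import Groth.Agent.S10177
import Groth.Agent.S10180
import Groth.Agent.S10211

/-!
# Discrete valuation rings reaching the closure of the image (seat 43)

* `exists_dvr_of_mem_closure_range` (schemes): for a quasi-compact morphism locally of finite type to a locally Noetherian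
  scheme, every point of the closure of the image is the closed point of a discrete valuation ring whose generic point
  lifts to the source.
* `exists_dvr_diagram`: the same for a morphism of finite type of algebraic spaces with locally Noetherian target.
-/

set_option autoImplicit false
universe u
open CategoryTheory CategoryTheory.Limits AlgebraicGeometry Opposite
open AlgSp

namespace Groth.Agent.Lib.Seat43.DvrClosure

open Groth.Agent.Lib.Helper4.DVRSch Groth.Agent.Lib.Helper4.DVREx

open IsLocalRing in
/-- for a quasi-compact morphism locally of finite type to a locally Noetherian scheme, every point of the closure of the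
image is the closed point of a discrete valuation ring whose generic point lifts to the source. -/
theorem exists_dvr_of_mem_closure_range {W T : Scheme.{u}} [IsLocallyNoetherian T] (φ : W ⟶ T)
    [QuasiCompact φ] [LocallyOfFiniteType φ] (v : T) (hv : v ∈ closure (Set.range φ)) :
    ∃ (A : Type u) (_ : CommRing A) (_ : IsDomain A) (_ : IsDiscreteValuationRing A)
      (α : Spec (CommRingCat.of A) ⟶ T) (β : Spec (CommRingCat.of (FractionRing A)) ⟶ W),
      α (closedPoint A) = v ∧
      β ≫ φ = Spec.map (CommRingCat.ofHom (algebraMap A (FractionRing A))) ≫ α := by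
  have hv' : v ∈ φ.ker.support := by
    show v ∈ (φ.ker.support : Set T)
    rw [Scheme.Hom.support_ker]
    exact hv
  obtain ⟨w, hw⟩ := Groth.Agent.Lib.Seat43.ValImage.exists_specializes_of_mem_support φ v hv'
  by_cases hne : φ w = v
  · -- the image point itself: a power series ring over the residue field
    refine ⟨PowerSeries (W.residueField w), inferInstance, inferInstance, inferInstance,
      Spec.map (CommRingCat.ofHom (PowerSeries.C : W.residueField w →+* PowerSeries (W.residueField w))) ≫
        W.fromSpecResidueField w ≫ φ,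
      Spec.map (CommRingCat.ofHom (algebraMap (PowerSeries (W.residueField w))
        (FractionRing (PowerSeries (W.residueField w))))) ≫
        Spec.map (CommRingCat.ofHom (PowerSeries.C : W.residueField w →+* PowerSeries (W.residueField w))) ≫
        W.fromSpecResidueField w, ?_, ?_⟩
    · rw [Scheme.Hom.comp_apply, Scheme.Hom.comp_apply, Scheme.fromSpecResidueField_apply]
      exact hne
    · simp only [Category.assoc]
  · obtain ⟨V, hV, g, hg1, hg2⟩ := exists_dvr_hom hw hne (L := W.residueField w)
      (φ.residueFieldMap w)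
      (RingHom.EssFiniteType.residueFieldMap (LocallyOfFiniteType.stalkMap φ w))
    obtain ⟨a, b, -, -, hab, -⟩ := dvr_bridge V
    refine ⟨↥V, inferInstance, inferInstance, hV, g, Spec.map a ≫ W.fromSpecResidueField w, hg2, ?_⟩
    rw [Category.assoc, ← Scheme.Hom.SpecMap_residueFieldMap_fromSpecResidueField, ← hg1,
      ← Spec.map_comp_assoc, hab]

variable {S : Scheme.{u}}

/-- the map from the points of an étale chart is open. -/
lemma isOpenMap_ofPt {X : AlgSp.Sp S} {Bc : Over S} (cX : (AlgSp.yon S).obj Bc ⟶ X)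
    (hcX : AlgSp.RepWith @Etale cX) : IsOpenMap (AlgSp.Points.ofPt cX) := by
  have h1 : AlgSp.Points.ofPt cX = AlgSp.Points.map cX ∘ AlgSp.Points.schemeHomeo Bc := by
    funext t
    exact AlgSp.Points.ofPt_eq_map_ofScheme cX t
  rw [h1]
  exact (Groth.Agent.S9908.isOpenMap_map_of_repWith _
    (Groth.Agent.S10211.repWith_universallyOpen_of_etale hcX)).comp
    (AlgSp.Points.schemeHomeo Bc).isOpenMap

/-- the points of a chart lying over the image of `h` come from a chart of the base change. -/
lemma preimage_range_subset {U X PU : AlgSp.Sp S} (h : U ⟶ X) {Bc : Over S}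
    (cX : (AlgSp.yon S).obj Bc ⟶ X) (fst : PU ⟶ U) (snd : PU ⟶ (AlgSp.yon S).obj Bc)
    (sqPU : IsPullback fst snd h cX) {W : Over S} (qW : (AlgSp.yon S).obj W ⟶ PU)
    (hqWs : AlgSp.RepWith @Surjective qW) (φWo : W ⟶ Bc) (hφWo : qW ≫ snd = (AlgSp.yon S).map φWo) :
    AlgSp.Points.ofPt cX ⁻¹' Set.range (AlgSp.Points.map h) ⊆ Set.range φWo.left := by
  rintro b ⟨u, hu⟩
  have e : AlgSp.Points.map h u = AlgSp.Points.map cX (AlgSp.Points.ofScheme Bc b) := by
    rw [hu]
    exact AlgSp.Points.ofPt_eq_map_ofScheme cX b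
  obtain ⟨p, -, hp2⟩ := Groth.Agent.S10175.exists_point_of_isPullback sqPU u _ e
  obtain ⟨w, rfl⟩ := Groth.Agent.S10177.surjective_ofPt qW hqWs p
  refine ⟨w, ?_⟩
  have h1 := Groth.Agent.Lib.Seat43.QcChart.toScheme_map_snd_ofPt snd qW φWo hφWo w
  rw [hp2, AlgSp.Points.toScheme_ofScheme] at h1
  exact h1.symm

set_option backward.isDefEq.respectTransparency false in
/-- for a morphism of finite type of algebraic spaces with locally Noetherian target, every point of the closure of the
image is the closed point of a discrete valuation ring whose generic point lifts to the source. -/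
theorem exists_dvr_diagram {X Y : AlgSp.Space S} (f : X ⟶ Y)
    (hft : AlgSp.IsFiniteTypeMor f.hom) (hY : AlgSp.IsLocNoethSp Y.obj) (y : AlgSp.Points Y.obj)
    (hy : y ∈ closure (Set.range (AlgSp.Points.map f.hom))) :
    ∃ (A : Type u) (_ : CommRing A) (_ : IsDomain A) (_ : IsDiscreteValuationRing A)
      (a : Spec (CommRingCat.of A) ⟶ S)
      (α : (AlgSp.yon S).obj (Over.mk a) ⟶ Y.obj)
      (κ : (AlgSp.yon S).obj (Over.mk (Spec.map (CommRingCat.ofHom (algebraMap A (FractionRing A))) ≫ a)) ⟶ X.obj),
      κ ≫ f.hom = (AlgSp.yon S).map (Over.homMk (Spec.map (CommRingCat.ofHom (algebraMap A (FractionRing A))))) ≫ α ∧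
      AlgSp.Points.map α (AlgSp.Points.schemeEquiv (Over.mk a) (IsLocalRing.closedPoint A)) = y := by
  obtain ⟨R, _, strR, r, y', hre, hy'⟩ :=
    Groth.Agent.Lib.Seat47.SmLift.exists_affine_chart Y.property y
  have hRN : IsLocallyNoetherian (Spec (CommRingCat.of R)) :=
    Groth.Agent.Lib.Seat48.FibreNoeth.isLocallyNoetherian_of_etale_chart hY r hre
  have sqP := IsPullback.of_hasPullback f.hom r
  have hP : AlgSp.IsAlgSpace (pullback f.hom r) :=
    Groth.Agent.S9874.isAlgSpace_of_isPullback Y.property.diag X.property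
      (AlgSp.IsAlgSpace.yon_obj (Over.mk strR)) sqP
  have hRcompact : CompactSpace ↥(Over.mk strR).left :=
    inferInstanceAs (CompactSpace ↥(Spec (CommRingCat.of R)))
  have hPc : AlgSp.IsQuasiCompactSp (pullback f.hom r) :=
    hft.2 (AlgSp.IsAlgSpace.yon_obj (Over.mk strR))
      (Groth.Agent.S9913.isQuasiCompactSp_yon_of_compact (Over.mk strR)) r _ _ sqP
  obtain ⟨W, qW, hWa, hqWe, hqWs⟩ :=
    (Groth.Agent.S10180.result (⟨pullback f.hom r, hP⟩ : AlgSp.Space S)).1 hPc
  have : IsAffine W.left := hWa
  obtain ⟨φWo, hφWo⟩ := (AlgSp.yon S).map_surjective (qW ≫ pullback.snd f.hom r)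
  obtain ⟨φW, hφW⟩ : ∃ φW : W.left ⟶ Spec (CommRingCat.of R), φW = φWo.left := ⟨_, rfl⟩
  -- `φW` is locally of finite type
  have hfst : AlgSp.RepWith @Etale (pullback.fst f.hom r) :=
    (AlgSp.repWith_isStableUnderBaseChange (S := S) @Etale).of_isPullback sqP.flip hre
  have hae : AlgSp.RepWith @Etale (qW ≫ pullback.fst f.hom r) :=
    (AlgSp.repWith_isMultiplicative (S := S) @Etale).comp_mem _ _ hqWe hfst
  have hlft : LocallyOfFiniteType φW := by
    rw [hφW]
    refine hft.1 (qW ≫ pullback.fst f.hom r) r φWo hae hre ?_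
    rw [Category.assoc, pullback.condition, ← Category.assoc, hφWo]
  -- `y'` lies in the closure of the image of `φW`
  have hsub := preimage_range_subset f.hom r _ _ sqP qW hqWs φWo hφWo.symm
  have hy'cl : y' ∈ closure (Set.range φW) := by
    rw [hφW]
    refine closure_mono hsub ?_
    apply (isOpenMap_ofPt r hre).preimage_closure_subset_closure_preimage
    show AlgSp.Points.ofPt r y' ∈ closure (Set.range (AlgSp.Points.map f.hom))
    rw [hy']
    exact hy
  obtain ⟨A, _, _, hA, αs, β, hαs, hβ⟩ := exists_dvr_of_mem_closure_range φW y' hy'cl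
  have hWhom : W.hom = φW ≫ strR := by
    rw [hφW]
    exact (Over.w φWo).symm
  obtain ⟨αo, hαo⟩ : ∃ αo : Over.mk (αs ≫ strR) ⟶ Over.mk strR, αo.left = αs :=
    ⟨Over.homMk αs rfl, rfl⟩
  obtain ⟨βo, hβo⟩ : ∃ βo : Over.mk (Spec.map (CommRingCat.ofHom (algebraMap A (FractionRing A))) ≫
      αs ≫ strR) ⟶ W, βo.left = β :=
    ⟨Over.homMk β (by
      show β ≫ W.hom = Spec.map _ ≫ αs ≫ strR
      rw [hWhom, ← Category.assoc, hβ, Category.assoc]), rfl⟩
  refine ⟨A, inferInstance, inferInstance, hA, αs ≫ strR, (AlgSp.yon S).map αo ≫ r,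
    (AlgSp.yon S).map βo ≫ qW ≫ pullback.fst f.hom r, ?_, ?_⟩
  · obtain ⟨jo, hjo⟩ : ∃ jo : Over.mk (Spec.map (CommRingCat.ofHom (algebraMap A (FractionRing A))) ≫
        αs ≫ strR) ⟶ Over.mk (αs ≫ strR),
        jo = Over.homMk (Spec.map (CommRingCat.ofHom (algebraMap A (FractionRing A)))) rfl := ⟨_, rfl⟩
    have hjol : jo.left = Spec.map (CommRingCat.ofHom (algebraMap A (FractionRing A))) := by
      rw [hjo]; rfl
    have hβφ : βo ≫ φWo = jo ≫ αo := by
      apply Over.OverMorphism.ext
      show βo.left ≫ φWo.left = jo.left ≫ αo.left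
      rw [hβo, hαo, hjol, ← hφW, hβ]
    rw [← hjo]
    calc ((AlgSp.yon S).map βo ≫ qW ≫ pullback.fst f.hom r) ≫ f.hom
        = (AlgSp.yon S).map βo ≫ (qW ≫ pullback.snd f.hom r) ≫ r := by
          rw [Category.assoc, Category.assoc, pullback.condition, Category.assoc]
      _ = (AlgSp.yon S).map (βo ≫ φWo) ≫ r := by rw [← hφWo, Functor.map_comp, Category.assoc]
      _ = (AlgSp.yon S).map (jo ≫ αo) ≫ r := by rw [hβφ]
      _ = _ := by rw [Functor.map_comp, Category.assoc]
  · show AlgSp.Points.map ((AlgSp.yon S).map αo ≫ r)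
      (AlgSp.Points.ofScheme (Over.mk (αs ≫ strR)) (IsLocalRing.closedPoint A)) = y
    rw [← AlgSp.Points.ofPt_eq_map_ofScheme, Groth.Agent.S10176.ofPt_map_comp, hαo]
    exact (congrArg (AlgSp.Points.ofPt r) hαs).trans hy'

end Groth.Agent.Lib.Seat43.DvrClosure
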