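import Mathlib
import Groth.Agent.Lib.Seat43SubSp
import Groth.Agent.Lib.Helper11RedCl
import Groth.Agent.Lib.Helper12Reduced
import Groth.Agent.S10509
import Groth.Agent.S10177
import Groth.Agent.S9906
import Groth.Prelude.Def_AlgSpSub

/-!
# The reduced induced closed subspace on a closed subset of `|X|` (seat 43)
-/

set_option autoImplicit false
universe u
open CategoryTheory CategoryTheory.Limits AlgebraicGeometry Opposite TopologicalSpace
open AlgSp Groth.Agent.S13210

namespace Groth.Agent.Lib.Seat43.RedSub

open Groth.Agent.Lib.Seat43.SubSp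

variable {S : Scheme.{u}}

/-- the reduced induced closed subscheme on a closed subset of a scheme over `S`, as a scheme
over `S`. -/
noncomputable def redZo (U : Over S) (C : Closeds U.left) : Over S :=
  Over.mk ((Scheme.IdealSheafData.vanishingIdeal C).subschemeι ≫ U.hom)

/-- its inclusion. -/
noncomputable def redι (U : Over S) (C : Closeds U.left) : redZo U C ⟶ U :=
  Over.homMk (Scheme.IdealSheafData.vanishingIdeal C).subschemeι rfl

instance (U : Over S) (C : Closeds U.left) : IsClosedImmersion (redι U C).left :=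
  inferInstanceAs (IsClosedImmersion (Scheme.IdealSheafData.vanishingIdeal C).subschemeι)

instance (U : Over S) (C : Closeds U.left) : IsReduced (redZo U C).left :=
  inferInstanceAs (IsReduced (Scheme.IdealSheafData.vanishingIdeal C).subscheme)

instance (U : Over S) (C : Closeds U.left) : Mono (redι U C) := by
  refine ⟨fun {T} a b h => ?_⟩
  apply Over.OverMorphism.ext
  rw [← cancel_mono (redι U C).left]
  exact congrArg (fun m => m.left) h

lemma range_redι (U : Over S) (C : Closeds U.left) :
    Set.range (redι U C).left = (C : Set U.left) :=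
  Groth.Agent.Lib.Helper11RedCl.range_subschemeι_vanishingIdeal C

/-- a morphism from a reduced scheme landing in `C` factors through the reduced induced
subscheme. -/
lemma exists_lift_redι (U : Over S) (C : Closeds U.left) {W : Scheme.{u}} [IsReduced W]
    (x : W ⟶ U.left) (h : Set.range x ⊆ (C : Set U.left)) :
    ∃ l : W ⟶ (redZo U C).left, l ≫ (redι U C).left = x :=
  Groth.Agent.Lib.Helper11RedCl.exists_lift_of_range_subset x C h

/-- the reduced induced subscheme on the preimage of a subset of `|X|` is invariant under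
`h_U ×_X h_U`. -/
lemma invariant_redι {X : AlgSp.Sp S} {R U : Over S} (s t : R ⟶ U)
    (p : (AlgSp.yon S).obj U ⟶ X) (hst : (AlgSp.yon S).map s ≫ p = (AlgSp.yon S).map t ≫ p)
    [Etale s.left] (C : Closeds U.left) (T : Set (AlgSp.Points X))
    (hC : (C : Set U.left) = AlgSp.Points.ofPt p ⁻¹' T) :
    Invariant s t (redι U C) := by
  rintro T₁ r ⟨z, hz⟩
  have hz' : z.left ≫ (redι U C).left = r.left ≫ s.left := congrArg (fun m => m.left) hz
  let P := pullback s.left (redι U C).left
  have : IsReduced P :=
    Groth.Agent.Lib.Helper12.Reduced.isReduced_of_smooth (pullback.snd s.left (redι U C).left)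
  have hrange : Set.range (pullback.fst s.left (redι U C).left ≫ t.left) ⊆ (C : Set U.left) := by
    rintro _ ⟨x, rfl⟩
    rw [hC]
    show AlgSp.Points.ofPt p (t.left (pullback.fst s.left (redι U C).left x)) ∈ T
    rw [← Groth.Agent.S10509.ofPt_yon_map_comp, ← hst, Groth.Agent.S10509.ofPt_yon_map_comp]
    have h1 : s.left (pullback.fst s.left (redι U C).left x) =
        (redι U C).left (pullback.snd s.left (redι U C).left x) := by
      rw [← Scheme.Hom.comp_apply, ← Scheme.Hom.comp_apply, pullback.condition]
    rw [h1]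
    have h2 : (redι U C).left (pullback.snd s.left (redι U C).left x) ∈ (C : Set U.left) := by
      rw [← range_redι]; exact ⟨_, rfl⟩
    rw [hC] at h2
    exact h2
  obtain ⟨l', hl'⟩ := exists_lift_redι U C _ hrange
  let l : T₁.left ⟶ P := pullback.lift r.left z.left hz'.symm
  have hl : (l ≫ l') ≫ (redι U C).left = r.left ≫ t.left := by
    rw [Category.assoc, hl', ← Category.assoc, pullback.lift_fst]
  refine ⟨Over.homMk (l ≫ l') ?_, ?_⟩
  · have h3 : (redZo U C).hom = (redι U C).left ≫ U.hom := rfl
    rw [h3, ← Category.assoc, hl, Category.assoc, Over.w t, Over.w r]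
  · apply Over.OverMorphism.ext
    exact hl

/-- for an algebraic space `X` and a closed subset `T` of `|X|` there is a reduced closed subspace
with underlying set `T`. -/
theorem exists_isRedInduced (X : AlgSp.Space S) (T : Set (AlgSp.Points X.obj)) (hT : IsClosed T) :
    ∃ (Z : AlgSp.Space S) (i : Z ⟶ X), AlgSp.IsRedInduced T i.hom := by
  obtain ⟨U, p, hpe, hps⟩ := X.property.atlas
  obtain ⟨R, t, s', sq⟩ := hpe.1 p
  obtain ⟨s, rfl⟩ := (AlgSp.yon S).map_surjective s'
  have : Etale s.left := hpe.2 _ _ s sq.flip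
  have : Etale t.left := hpe.2 _ _ t sq
  let C : Closeds U.left := ⟨AlgSp.Points.ofPt p ⁻¹' T, hT.preimage (AlgSp.Points.continuous_ofPt p)⟩
  have hinv : Invariant s t (redι U C) := invariant_redι s t p sq.w C T rfl
  have hpb : IsPullback ((AlgSp.yon S).map t) ((AlgSp.yon S).map s) p p := sq.flip
  obtain ⟨q, hq⟩ := exists_q hpb hinv
  have sqq := isPullback_q hq
  have hZ : AlgSp.IsAlgSpace (obj X.obj p (redι U C)) := isAlgSpace_obj X.property hpe hps hq
  let Z : AlgSp.Space S := ⟨_, hZ⟩
  let i : Z ⟶ X := ObjectProperty.homMk (incl X.obj p (redι U C))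
  have hqe : AlgSp.RepWith @Etale q :=
    (AlgSp.repWith_isStableUnderBaseChange (S := S) @Etale).of_isPullback sqq.flip hpe
  have hqs : AlgSp.RepWith @Surjective q :=
    (AlgSp.repWith_isStableUnderBaseChange (S := S) @Surjective).of_isPullback sqq.flip hps
  refine ⟨Z, i, ?_, ?_, ⟨redZo U C, q, hqe, hqs, inferInstance⟩⟩
  · exact Groth.Agent.S9932.result @IsClosedImmersion (Or.inl rfl) i U p hpe hps q _ sqq
      ((AlgSp.repWith_yon_map_iff @IsClosedImmersion (redι U C)).2 inferInstance)
  · ext x
    constructor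
    · rintro ⟨z, rfl⟩
      obtain ⟨z₀, rfl⟩ := Groth.Agent.S10177.surjective_ofPt q hqs z
      show AlgSp.Points.map (incl X.obj p (redι U C)) (AlgSp.Points.ofPt q z₀) ∈ T
      rw [AlgSp.Points.map_ofPt, hq, Groth.Agent.S10509.ofPt_yon_map_comp]
      have h2 : (redι U C).left z₀ ∈ (C : Set U.left) := by
        rw [← range_redι]; exact ⟨_, rfl⟩
      exact h2
    · intro hx
      obtain ⟨u, rfl⟩ := Groth.Agent.S10177.surjective_ofPt p hps x
      have hu : u ∈ (C : Set U.left) := hx
      rw [← range_redι] at hu
      obtain ⟨z₀, rfl⟩ := hu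
      refine ⟨AlgSp.Points.ofPt q z₀, ?_⟩
      show AlgSp.Points.map (incl X.obj p (redι U C)) (AlgSp.Points.ofPt q z₀) = _
      rw [AlgSp.Points.map_ofPt, hq, Groth.Agent.S10509.ofPt_yon_map_comp]

end Groth.Agent.Lib.Seat43.RedSub
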