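import Mathlib
import Groth.Prelude.Def_AlgSp
import Groth.Prelude.Def_AlgSpCov
import Groth.Agent.Lib.Seat43ClosedAn
import Groth.Agent.Lib.Seat43DvrClosure
import Groth.Agent.Lib.Helper12Proper
import Groth.Agent.S10192

/-!
# Universal closedness from liftings over discrete valuation rings (seat 43)

* `isClosedMap_of_dvr_liftExt`: for `f : X ⟶ Y` of finite type whose valuative squares over
  discrete valuation rings have a lift after extension, every base change of `f` to a locally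
  Noetherian scheme is closed on points.
* `isUnivClosedMor_of_dvr_liftExt`: if moreover `Y` is locally Noetherian, `f` is universally
  closed.
-/

set_option autoImplicit false
universe u
open CategoryTheory CategoryTheory.Limits AlgebraicGeometry Opposite

namespace Groth.Agent.Lib.Seat43.DvrClosed

open Groth.Agent.Lib.Helper12.Proper

variable {S : Scheme.{u}}

set_option backward.isDefEq.respectTransparency false in
theorem isClosedMap_of_dvr_liftExt {X Y : AlgSp.Space S} (f : X ⟶ Y)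
    (hft : AlgSp.IsFiniteTypeMor f.hom)
    (hval : ∀ sq : AlgSp.ValSq f.hom, IsDiscreteValuationRing sq.A → sq.HasLiftExt)
    (An : Over S) [IsLocallyNoetherian An.left] (b : (AlgSp.yon S).obj An ⟶ Y.obj)
    {P : AlgSp.Sp S} (fst : P ⟶ X.obj) (snd : P ⟶ (AlgSp.yon S).obj An)
    (sq : IsPullback fst snd f.hom b) : IsClosedMap (AlgSp.Points.map snd) := by
  have hP : AlgSp.IsAlgSpace P :=
    Groth.Agent.S9874.isAlgSpace_of_isPullback Y.property.diag X.property
      (AlgSp.IsAlgSpace.yon_obj An) sq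
  have hAn := AlgSp.IsAlgSpace.yon_obj (S := S) An
  intro T hT
  obtain ⟨ZT, i, hi, hrange, -⟩ := Groth.Agent.S10192.result (⟨P, hP⟩ : AlgSp.Space S) T hT
  have hsnd_ft : AlgSp.IsFiniteTypeMor snd :=
    ⟨locP_lft_baseChange X.property Y.property hAn sq hft.1,
      isQuasiCompactMor_baseChange sq hft.2⟩
  have hg_ft : AlgSp.IsFiniteTypeMor (i.hom ≫ snd) :=
    ⟨locP_lft_comp hP hAn _ _ (locP_lft_of_isClosedImmersion hP i.hom hi) hsnd_ft.1,
      isQuasiCompactMor_comp hP hAn _ _ (isQuasiCompactMor_of_isClosedImmersion i.hom hi)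
        hsnd_ft.2⟩
  have hAnN : AlgSp.IsLocNoethSp ((AlgSp.yon S).obj An) :=
    ⟨An, 𝟙 _, AlgSp.repWith_id _ An, AlgSp.repWith_id _ An, inferInstance⟩
  let AnSp : AlgSp.Space S := ⟨(AlgSp.yon S).obj An, hAn⟩
  let g : ZT ⟶ AnSp := ObjectProperty.homMk (i.hom ≫ snd)
  rw [← closure_subset_iff_isClosed]
  intro y hy
  have hy' : y ∈ closure (Set.range (AlgSp.Points.map g.hom)) := by
    have : Set.range (AlgSp.Points.map g.hom) = AlgSp.Points.map snd '' T := by
      rw [← hrange]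
      ext q
      constructor
      · rintro ⟨x, rfl⟩
        exact ⟨AlgSp.Points.map i.hom x, ⟨x, rfl⟩, (AlgSp.Points.map_comp _ _ _).symm⟩
      · rintro ⟨_, ⟨x, rfl⟩, rfl⟩
        exact ⟨x, AlgSp.Points.map_comp _ _ _⟩
    rw [this]
    exact hy
  obtain ⟨A, _, _, hA, a, α, κ, hκ, hαy⟩ :=
    Groth.Agent.Lib.Seat43.DvrClosure.exists_dvr_diagram g hg_ft hAnN y hy'
  have hκ' : κ ≫ i.hom ≫ snd = (AlgSp.yon S).map (Over.homMk
      (Spec.map (CommRingCat.ofHom (algebraMap A (FractionRing A)))) rfl :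
      Over.mk (Spec.map (CommRingCat.ofHom (algebraMap A (FractionRing A))) ≫ a) ⟶ Over.mk a) ≫
        α := hκ
  have hcomm : (κ ≫ i.hom ≫ fst) ≫ f.hom = (AlgSp.yon S).map (Over.homMk
      (Spec.map (CommRingCat.ofHom (algebraMap A (FractionRing A)))) rfl :
      Over.mk (Spec.map (CommRingCat.ofHom (algebraMap A (FractionRing A))) ≫ a) ⟶ Over.mk a) ≫
        α ≫ b := by
    rw [Category.assoc, Category.assoc, sq.w, ← Category.assoc i.hom, ← Category.assoc κ, hκ',
      Category.assoc]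
  let vsq : AlgSp.ValSq f.hom :=
    { A := A, K := FractionRing A, str := a, top := κ ≫ i.hom ≫ fst, bot := α ≫ b,
      comm := hcomm }
  obtain ⟨e, l, hl1, hl2⟩ := hval vsq hA
  -- the lift to the fibre product
  have hlw : l ≫ f.hom = ((AlgSp.yon S).map (Over.homMk (Spec.map (CommRingCat.ofHom e.φ)) rfl :
      e.ptA' ⟶ vsq.ptA) ≫ α) ≫ b := by
    rw [hl2, Category.assoc]
  obtain ⟨m, hm1, hm2⟩ : ∃ m : (AlgSp.yon S).obj e.ptA' ⟶ P, m ≫ fst = l ∧
      m ≫ snd = (AlgSp.yon S).map (Over.homMk (Spec.map (CommRingCat.ofHom e.φ)) rfl :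
        e.ptA' ⟶ vsq.ptA) ≫ α := ⟨sq.lift _ _ hlw, sq.lift_fst _ _ hlw, sq.lift_snd _ _ hlw⟩
  obtain ⟨jK, hjK⟩ : ∃ jK : e.ptK' ⟶ e.ptA',
      jK = Over.homMk (Spec.map (CommRingCat.ofHom (algebraMap e.A' e.K'))) rfl := ⟨_, rfl⟩
  obtain ⟨ψK, hψK', hψK⟩ : ∃ ψK : e.ptK' ⟶ vsq.ptK,
      ψK = Over.homMk (Spec.map (CommRingCat.ofHom e.ψ)) (by
          change Spec.map _ ≫ Spec.map _ ≫ _ = Spec.map _ ≫ Spec.map _ ≫ _
          rw [← Spec.map_comp_assoc, ← Spec.map_comp_assoc, ← CommRingCat.ofHom_comp,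
            ← CommRingCat.ofHom_comp, e.comm]) ∧
      ψK.left = Spec.map (CommRingCat.ofHom e.ψ) := ⟨_, rfl, rfl⟩
  have hl1' : (AlgSp.yon S).map jK ≫ l = (AlgSp.yon S).map ψK ≫ vsq.top := by
    rw [hjK, hψK']
    exact hl1
  have hgen : (AlgSp.yon S).map jK ≫ m = (AlgSp.yon S).map ψK ≫ κ ≫ i.hom := by
    apply sq.hom_ext
    · rw [Category.assoc, hm1, hl1']
      simp only [Category.assoc]
      rfl
    · rw [Category.assoc, hm2, Category.assoc, Category.assoc, hκ', ← Category.assoc,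
        ← Category.assoc, ← Functor.map_comp, ← Functor.map_comp]
      congr 2
      apply Over.OverMorphism.ext
      rw [hjK]
      show Spec.map _ ≫ Spec.map _ = ψK.left ≫ Spec.map _
      rw [hψK, ← Spec.map_comp, ← Spec.map_comp, ← CommRingCat.ofHom_comp,
        ← CommRingCat.ofHom_comp, e.comm]
  -- the generic point goes into `T`
  have hgenT : ∀ ξ : ↥e.ptK'.left, AlgSp.Points.ofPt m (jK.left ξ) ∈ T := by
    intro ξ
    rw [← Groth.Agent.S10176.ofPt_map_comp, hgen, ← hrange, ← Category.assoc,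
      ← AlgSp.Points.map_ofPt]
    exact ⟨_, rfl⟩
  -- the closed point
  have hcl : AlgSp.Points.ofPt m (IsLocalRing.closedPoint e.A') ∈ T := by
    obtain ⟨ξ⟩ : Nonempty ↥e.ptK'.left :=
      inferInstanceAs (Nonempty (PrimeSpectrum e.K'))
    have hs : jK.left ξ ⤳ IsLocalRing.closedPoint e.A' :=
      IsLocalRing.specializes_closedPoint (R := e.A') _
    exact (hs.map (AlgSp.Points.continuous_ofPt m)).mem_closed hT (hgenT ξ)
  refine ⟨_, hcl, ?_⟩
  rw [AlgSp.Points.map_ofPt, hm2, Groth.Agent.S10176.ofPt_map_comp, ← hαy,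
    AlgSp.Points.ofPt_eq_map_ofScheme]
  congr 1
  have hloc : IsLocalHom e.φ := e.isLocalHom
  have : (Spec.map (CommRingCat.ofHom e.φ)) (IsLocalRing.closedPoint e.A') =
      IsLocalRing.closedPoint A := IsLocalRing.comap_closedPoint e.φ
  exact congrArg (AlgSp.Points.ofScheme (Over.mk a)) this

/-- **DVR criterion for universal closedness** (Noetherian base, finite type). -/
theorem isUnivClosedMor_of_dvr_liftExt {X Y : AlgSp.Space S} (f : X ⟶ Y)
    (hft : AlgSp.IsFiniteTypeMor f.hom) (hY : AlgSp.IsLocNoethSp Y.obj)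
    (hval : ∀ sq : AlgSp.ValSq f.hom, IsDiscreteValuationRing sq.A → sq.HasLiftExt) :
    AlgSp.IsUnivClosedMor f.hom := by
  obtain ⟨V₀, p₀, hp₀e, hp₀s, hV₀⟩ := hY
  refine Groth.Agent.Lib.Seat43.ClosedAn.isUnivClosedMor_of_affineSpace f hft.2 V₀ p₀ hp₀e hp₀s
    (fun n P fst snd sq => ?_)
  haveI : IsLocallyNoetherian V₀.left := hV₀
  haveI : IsLocallyNoetherian
      (Over.mk ((𝔸(ULift.{u} (Fin n); V₀.left) ↘ V₀.left) ≫ V₀.hom)).left :=
    LocallyOfFiniteType.isLocallyNoetherian (𝔸(ULift.{u} (Fin n); V₀.left) ↘ V₀.left)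
  exact isClosedMap_of_dvr_liftExt f hft hval _ _ fst snd sq

end Groth.Agent.Lib.Seat43.DvrClosed
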