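import Mathlib
import Groth.Agent.Lib.Helper4KrullAkizuki

/-!
# Valuation rings dominating a DVR in a finite separable extension are DVRs (seat 43)

`isDiscreteValuationRing_of_finite_separable`: let `A` be a discrete valuation ring with fraction
field `K`, `A'` a valuation ring with fraction field `K'`, `φ : A → A'` a local homomorphism
compatible with a field map `ψ : K → K'` making `K'` finite separable over `K`.  Then `A'` is a
discrete valuation ring.
-/

set_option autoImplicit false
universe u

namespace Groth.Agent.Lib.Seat43.DvrExt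

open Groth.Agent.Lib.Helper4

theorem isDiscreteValuationRing_of_finite_separable {A K A' K' : Type u} [CommRing A] [IsDomain A]
    [IsDiscreteValuationRing A] [Field K] [Algebra A K] [IsFractionRing A K]
    [CommRing A'] [IsDomain A'] [ValuationRing A'] [Field K'] [Algebra A' K'] [IsFractionRing A' K']
    (φ : A →+* A') (ψ : K →+* K') (hcomm : (algebraMap A' K').comp φ = ψ.comp (algebraMap A K))
    (hloc : IsLocalHom φ)
    (hfin : letI := ψ.toAlgebra; Module.Finite K K' ∧ Algebra.IsSeparable K K') :
    IsDiscreteValuationRing A' := by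
  letI : Algebra K K' := ψ.toAlgebra
  letI : Algebra A K' := (ψ.comp (algebraMap A K)).toAlgebra
  haveI : IsScalarTower A K K' := IsScalarTower.of_algebraMap_eq (fun _ => rfl)
  haveI : Module.Finite K K' := hfin.1
  haveI : Algebra.IsSeparable K K' := hfin.2
  letI : Algebra A A' := φ.toAlgebra
  haveI : IsScalarTower A A' K' := IsScalarTower.of_algebraMap_eq (fun a => by
    exact (congrArg (fun m => m a) hcomm).symm)
  -- the integral closure of `A` in `K'`
  let C := integralClosure A K'
  haveI : IsNoetherianRing C := IsIntegralClosure.isNoetherianRing A K K' C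
  haveI : IsDedekindDomain C := IsIntegralClosure.isDedekindDomain A K K' C
  haveI : IsFractionRing C K' := IsIntegralClosure.isFractionRing_of_finite_extension A K K' C
  have hdim : ringKrullDim C ≤ 1 := by
    have : Ring.KrullDimLE 1 C := inferInstance
    exact Ring.krullDimLE_iff.1 this
  -- `C` lies in the image of `A'`
  have hCle : ∀ c : C, (c : K') ∈ (algebraMap A' K').range := by
    intro c
    have h1 : IsIntegral A (c : K') := c.2
    have h2 : IsIntegral A' (c : K') := h1.tower_top
    exact (IsIntegrallyClosed.isIntegral_iff (R := A') (K := K')).1 h2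
  let Sb : Subalgebra C K' :=
    { (algebraMap A' K').range.toSubsemiring with
      algebraMap_mem' := fun c => hCle c }
  have hSb : IsNoetherianRing Sb :=
    KrullAkizuki.isNoetherianRing_subalgebra
      (fun a ha => KrullAkizuki.isArtinian_quotient_of_ringKrullDim_le_one hdim ha) Sb
  -- transport to `A'`
  have hinj : Function.Injective (algebraMap A' K') := IsFractionRing.injective A' K'
  let eqv : A' ≃+* Sb :=
    RingEquiv.ofBijective
      ((algebraMap A' K').codRestrict Sb.toSubring (fun a => ⟨a, rfl⟩))
      ⟨fun a b h => hinj (congrArg Subtype.val h), fun ⟨x, a, ha⟩ => ⟨a, Subtype.ext ha⟩⟩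
  haveI : IsNoetherianRing A' := isNoetherianRing_of_ringEquiv Sb eqv.symm
  haveI : IsPrincipalIdealRing A' := inferInstance
  refine { not_a_field' := ?_ }
  obtain ⟨ϖ, hϖ⟩ := IsDiscreteValuationRing.exists_irreducible A
  have h0 : φ ϖ ≠ 0 := by
    intro h
    have h1 : ψ (algebraMap A K ϖ) = 0 := by
      have := congrArg (fun m => m ϖ) hcomm
      simp only [RingHom.comp_apply] at this
      rw [← this, h, map_zero]
    have h2 : algebraMap A K ϖ = 0 := (map_eq_zero ψ).1 h1
    exact hϖ.ne_zero ((IsFractionRing.injective A K) (by rw [h2, map_zero]))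
  have h1 : φ ϖ ∈ IsLocalRing.maximalIdeal A' := by
    rw [IsLocalRing.mem_maximalIdeal, mem_nonunits_iff]
    intro hu
    exact hϖ.not_isUnit (hloc.map_nonunit ϖ hu)
  intro hbot
  rw [hbot] at h1
  exact h0 ((Submodule.mem_bot _).1 h1)

end Groth.Agent.Lib.Seat43.DvrExt
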