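import Groth.Agent.S0025
import Groth.Agent.S9705
import Groth.Agent.Lib.Seat43DvrClosure

/-!
# Properness near a point from lifting over discrete valuation rings (EGA IV 15.7 style)

`DvrLift f y`: every discrete valuation ring mapping to `Y` with closed point over `y`, together with
a lift of its generic point to `X`, lifts entirely to `X`.

`exists_nhd_noeth`: over a Noetherian base, a separated morphism of finite type with `DvrLift f y` is
proper over an open neighbourhood of `y` (via Chow's lemma).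
-/

set_option autoImplicit false

open CategoryTheory AlgebraicGeometry Limits

universe u

namespace Groth.Agent.Lib.Seat43.DvrNhd

/-- the lifting form of the discrete valuation ring hypothesis at `y`. -/
def DvrLift {X Y : Scheme.{u}} (f : X ⟶ Y) (y : Y) : Prop :=
  ∀ (A : Type u) [CommRing A] [IsDomain A] [IsDiscreteValuationRing A]
    (g : Spec (CommRingCat.of A) ⟶ Y), g.base (IsLocalRing.closedPoint A) = y →
    ∀ xK : Spec (CommRingCat.of (FractionRing A)) ⟶ X,
      xK ≫ f = Spec.map (CommRingCat.ofHom (algebraMap A (FractionRing A))) ≫ g →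
      ∃ l : Spec (CommRingCat.of A) ⟶ X, l ≫ f = g ∧
        Spec.map (CommRingCat.ofHom (algebraMap A (FractionRing A))) ≫ l = xK

/-- the section form of the hypothesis implies the lifting form. -/
theorem dvrLift_of_sections {X Y : Scheme.{u}} (f : X ⟶ Y) (y : Y)
    (h : ∀ (A : Type u) [CommRing A] [IsDomain A] [IsDiscreteValuationRing A]
      (g : Spec (CommRingCat.of A) ⟶ Y), g.base (IsLocalRing.closedPoint A) = y →
      ∀ σ : Spec (CommRingCat.of (FractionRing A)) ⟶ pullback f g,
        σ ≫ pullback.snd f g = Spec.map (CommRingCat.ofHom (algebraMap A (FractionRing A))) →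
        ∃ s : Spec (CommRingCat.of A) ⟶ pullback f g, s ≫ pullback.snd f g = 𝟙 _ ∧
          Spec.map (CommRingCat.ofHom (algebraMap A (FractionRing A))) ≫ s = σ) :
    DvrLift f y := by
  intro A _ _ _ g hg xK hxK
  obtain ⟨s, hs1, hs2⟩ := h A g hg (pullback.lift xK _ hxK) (pullback.lift_snd _ _ _)
  refine ⟨s ≫ pullback.fst f g, ?_, ?_⟩
  · rw [Category.assoc, pullback.condition, ← Category.assoc, hs1, Category.id_comp]
  · rw [← Category.assoc, hs2, pullback.lift_fst]

/-- Core: over a Noetherian base. -/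
theorem exists_nhd_noeth {X Y : Scheme.{u}} [IsNoetherian Y] (f : X ⟶ Y) [IsSeparated f]
    [LocallyOfFiniteType f] [QuasiCompact f] (y : Y) (H : DvrLift f y) :
    ∃ U : Y.Opens, y ∈ U ∧ IsProper (f ∣_ U) := by
  obtain ⟨n, X', π, j, hj, hjπ, hπ, hsurj, -⟩ := Groth.Agent.S0025.result f
  have hp : IsProper (CohB1.ProjSpaceOver.toBase n Y) := Groth.Agent.S9705.isProper_toBase n Y
  obtain ⟨P, p, hp, j, hj, hjπ⟩ : ∃ (P : Scheme.{u}) (p : P ⟶ Y) (_ : IsProper p) (j : X' ⟶ P)
      (_ : IsImmersion j), j ≫ p = π ≫ f := ⟨_, _, hp, j, hj, hjπ⟩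
  have : IsLocallyNoetherian P := LocallyOfFiniteType.isLocallyNoetherian p
  have : CompactSpace X := QuasiCompact.compactSpace_of_compactSpace f
  have : IsLocallyNoetherian X := LocallyOfFiniteType.isLocallyNoetherian f
  have : IsNoetherian X := {}
  have : CompactSpace X' := QuasiCompact.compactSpace_of_compactSpace π
  have : IsLocallyNoetherian X' := LocallyOfFiniteType.isLocallyNoetherian π
  have : IsNoetherian X' := {}
  have hT : IsClosed (coborder (Set.range j))ᶜ :=
    j.isLocallyClosed_range.isOpen_coborder.isClosed_compl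
  have hB : IsClosed (p '' (coborder (Set.range j))ᶜ) := p.isClosedMap _ hT
  refine ⟨⟨(p '' (coborder (Set.range j))ᶜ)ᶜ, hB.isOpen_compl⟩, ?_, ?_⟩
  · rintro ⟨t, ht, hty⟩
    rw [coborder, compl_compl] at ht
    obtain ⟨A, _, _, _, α, β, hα, hβ⟩ :=
      Groth.Agent.Lib.Seat43.DvrClosure.exists_dvr_of_mem_closure_range j t ht.1
    obtain ⟨l, hl1, hl2⟩ := H A (α ≫ p) (by rw [Scheme.Hom.comp_base]; simpa [hα] using hty)
      (β ≫ π) (by rw [Category.assoc, ← hjπ, ← Category.assoc, hβ, Category.assoc])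
    -- existence for π
    have hEx : ValuativeCriterion.Existence π := by
      have h1 : UniversallyClosed π := inferInstance
      rw [UniversallyClosed.eq_valuativeCriterion] at h1
      exact h1.1
    have hsq0 : CommSq β (Spec.map (CommRingCat.ofHom (algebraMap A (FractionRing A)))) π l :=
      ⟨hl2.symm⟩
    obtain ⟨l', hl'1, hl'2⟩ :=
      (hEx { R := A, K := FractionRing A, commSq := hsq0, .. }).exists_lift
    dsimp only at hl'1 hl'2
    -- uniqueness for p
    have hUn : ValuativeCriterion.Uniqueness p := IsSeparated.valuativeCriterion p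
    have hsq : CommSq (β ≫ j) (Spec.map (CommRingCat.ofHom (algebraMap A (FractionRing A)))) p
        (α ≫ p) := ⟨by rw [hβ, Category.assoc]⟩
    have hss := hUn { R := A, K := FractionRing A, commSq := hsq, .. }
    have e : (⟨α, hβ.symm, rfl⟩ : hsq.LiftStruct) = ⟨l' ≫ j, by rw [← Category.assoc, hl'1],
        by rw [Category.assoc, hjπ, ← Category.assoc, hl'2, hl1]⟩ := Subsingleton.elim _ _
    have e' : α = l' ≫ j := congrArg CommSq.LiftStruct.l e
    apply ht.2
    refine ⟨l' (IsLocalRing.closedPoint A), ?_⟩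
    rw [← hα, e', Scheme.Hom.comp_apply]
  · set U : Y.Opens := ⟨(p '' (coborder (Set.range j))ᶜ)ᶜ, hB.isOpen_compl⟩ with hU
    have key : ∀ (q : X' ⟶ Y), j ≫ p = q → UniversallyClosed (q ∣_ U) := by
      rintro _ rfl
      rw [morphismRestrict_comp]
      have hcl : IsClosedImmersion (j ∣_ p ⁻¹ᵁ U) := by
        refine IsClosedImmersion.of_isPreimmersion _ ?_
        have : Set.range (j ∣_ p ⁻¹ᵁ U) = Subtype.val ⁻¹' closure (Set.range j) := by
          ext ⟨z, hz⟩
          constructor
          · rintro ⟨w, hw⟩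
            refine subset_closure ⟨w.1, ?_⟩
            have := morphismRestrict_base_coe j (p ⁻¹ᵁ U) w
            rw [hw] at this
            exact this.symm
          · intro h
            have hz' : z ∈ Set.range j := by
              by_contra hn
              exact hz ⟨z, by rw [coborder, compl_compl]; exact ⟨h, hn⟩, rfl⟩
            obtain ⟨w, rfl⟩ := hz'
            exact ⟨⟨w, hz⟩, Subtype.ext (morphismRestrict_base_coe j (p ⁻¹ᵁ U) ⟨w, hz⟩)⟩
        rw [this]
        exact isClosed_closure.preimage continuous_subtype_val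
      have h3 : UniversallyClosed (j ∣_ p ⁻¹ᵁ U) := inferInstance
      have h4 : UniversallyClosed (p ∣_ U) := inferInstance
      exact MorphismProperty.comp_mem _ _ _ h3 h4
    have h2 := key _ hjπ
    rw [morphismRestrict_comp] at h2
    have h5 : Surjective (π ∣_ f ⁻¹ᵁ U) :=
      IsZariskiLocalAtTarget.restrict hsurj _
    have : UniversallyClosed (f ∣_ U) :=
      @UniversallyClosed.of_comp_surjective _ _ _ (π ∣_ f ⁻¹ᵁ U) (f ∣_ U) h2 h5
    exact {}

/-- the lifting hypothesis restricts to open neighbourhoods of `y`. -/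
theorem dvrLift_restrict {X Y : Scheme.{u}} (f : X ⟶ Y) (y : Y) (H : DvrLift f y) (V : Y.Opens)
    (hy : y ∈ V) : DvrLift (f ∣_ V) ⟨y, hy⟩ := by
  intro A _ _ _ g hg xK hxK
  obtain ⟨l, hl1, hl2⟩ := H A (g ≫ V.ι) (by rw [Scheme.Hom.comp_apply, hg]; rfl)
    (xK ≫ (f ⁻¹ᵁ V).ι)
    (by rw [Category.assoc, ← morphismRestrict_ι, ← Category.assoc, hxK, Category.assoc])
  have hpb := isPullback_morphismRestrict f V
  refine ⟨hpb.lift g l hl1.symm, hpb.lift_fst _ _ _, ?_⟩
  rw [← cancel_mono (f ⁻¹ᵁ V).ι, Category.assoc, hpb.lift_snd, hl2]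

/-- over a locally Noetherian base. -/
theorem exists_nhd {X Y : Scheme.{u}} [IsLocallyNoetherian Y] (f : X ⟶ Y) [IsSeparated f]
    [LocallyOfFiniteType f] [QuasiCompact f] (y : Y) (H : DvrLift f y) :
    ∃ U : Y.Opens, y ∈ U ∧ IsProper (f ∣_ U) := by
  obtain ⟨V, hV, hyV, -⟩ := exists_isAffineOpen_mem_and_subset (x := y) (U := ⊤) trivial
  have : IsAffine V.toScheme := hV
  have : IsLocallyNoetherian V.toScheme := inferInstance
  have : IsNoetherian V.toScheme := {}
  obtain ⟨U', hyU', hU'⟩ := exists_nhd_noeth (f ∣_ V) ⟨y, hyV⟩ (dvrLift_restrict f y H V hyV)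
  refine ⟨V.ι ''ᵁ U', ⟨⟨y, hyV⟩, hyU', rfl⟩, ?_⟩
  exact (MorphismProperty.arrow_mk_iso_iff @IsProper (morphismRestrictRestrict f V U')).mp hU'

end Groth.Agent.Lib.Seat43.DvrNhd
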