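import Mathlib.AlgebraicGeometry.Pullbacks
import Mathlib.AlgebraicGeometry.AffineScheme
import Mathlib.AlgebraicGeometry.Cover.Directed
import Mathlib.CategoryTheory.Sites.EffectiveEpimorphic

/-!
# Seat43: a sieve of schemes which is effective epimorphic after every affine base change is
universally effective epimorphic.
-/

set_option autoImplicit false
open CategoryTheory CategoryTheory.Limits AlgebraicGeometry Opposite
universe u

namespace Groth.Agent.Lib.Seat43.EffEpiAffine

lemma fam_congr {Y W : Scheme.{u}} {S : Sieve Y}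
    (x : Presieve.FamilyOfElements (yoneda.obj W) S.arrows) {T : Scheme.{u}} {k k' : T ⟶ Y} (e : k = k')
    (hk : S k) (hk' : S k') : x k hk = x k' hk' := by
  subst e; rfl

theorem isSheafFor_yoneda_of_affine {X : Scheme.{u}} (R : Sieve X)
    (h : ∀ (Y : Scheme.{u}) (g : Y ⟶ X), IsAffine Y → ∀ W : Scheme.{u},
      Presieve.IsSheafFor (yoneda.obj W) (R.pullback g).arrows)
    {Y : Scheme.{u}} (g : Y ⟶ X) (W : Scheme.{u}) :
    Presieve.IsSheafFor (yoneda.obj W) (R.pullback g).arrows := by
  intro x hx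
  have hx' : x.SieveCompatible := (Presieve.compatible_iff_sieveCompatible x).1 hx
  -- local amalgamations
  have key : ∀ U : Y.affineOpens, ∃! t : (U.1 : Scheme.{u}) ⟶ W,
      ∀ ⦃T : Scheme.{u}⦄ (k : T ⟶ U.1) (hk : (R.pullback g) (k ≫ U.1.ι)), k ≫ t = x (k ≫ U.1.ι) hk := by
    intro U
    have : IsAffine (U.1 : Scheme.{u}) := U.2
    have hU := h U.1 (U.1.ι ≫ g) inferInstance W
    rw [Sieve.pullback_comp] at hU
    obtain ⟨t, ht, htu⟩ := hU (x.pullback U.1.ι) (hx.pullback U.1.ι)
    refine ⟨t, fun T k hk => ht k hk, fun t' ht' => htu t' fun T k hk => ht' k hk⟩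
  choose tU htU htU' using key
  -- transition compatibility
  have htrans : ∀ {U V : Y.affineOpens} (hUV : U ≤ V), Y.homOfLE hUV ≫ tU V = tU U := by
    intro U V hUV
    apply htU' U
    intro T k hk
    rw [← Category.assoc]
    have hk' : (R.pullback g) ((k ≫ Y.homOfLE hUV) ≫ V.1.ι) := by
      rw [Category.assoc, Scheme.homOfLE_ι]; exact hk
    rw [htU V (k ≫ Y.homOfLE hUV) hk']
    exact fam_congr x (by rw [Category.assoc, Scheme.homOfLE_ι]) _ _
  let t : Y ⟶ W := Y.directedAffineCover.glueMorphismsOfLocallyDirected (fun U => tU U)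
    (fun {U V} hUV => by
      have e : hUV = homOfLE (leOfHom hUV) := Subsingleton.elim _ _
      rw [e]
      exact htrans (U := U) (V := V) (leOfHom hUV))
  have ht : ∀ U : Y.affineOpens, U.1.ι ≫ t = tU U := fun U =>
    Y.directedAffineCover.map_glueMorphismsOfLocallyDirected _ _ U
  refine ⟨t, ?_, ?_⟩
  · -- amalgamation
    intro T k hk
    change k ≫ t = x k hk
    refine Scheme.Cover.hom_ext (Y.directedAffineCover.pullback₁ k) _ _ fun (U : Y.affineOpens) => ?_
    change pullback.fst k U.1.ι ≫ k ≫ t = pullback.fst k U.1.ι ≫ x k hk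
    have h1 : pullback.fst k U.1.ι ≫ k ≫ t = pullback.snd k U.1.ι ≫ tU U := by
      rw [← Category.assoc, pullback.condition, Category.assoc, ht]
    have hmem : (R.pullback g) (pullback.snd k U.1.ι ≫ U.1.ι) := by
      rw [← pullback.condition]
      exact (R.pullback g).downward_closed hk _
    rw [h1, htU U _ hmem]
    have h2 := hx' k (pullback.fst k U.1.ι) hk
    change x (pullback.fst k U.1.ι ≫ k) _ = pullback.fst k U.1.ι ≫ x k hk at h2
    rw [← h2]
    exact fam_congr x pullback.condition.symm _ _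
  · -- uniqueness
    intro t' ht'
    refine Scheme.Cover.hom_ext Y.directedAffineCover _ _ fun (U : Y.affineOpens) => ?_
    change U.1.ι ≫ t' = U.1.ι ≫ t
    rw [ht]
    apply htU' U
    intro T k hk
    rw [← Category.assoc]
    exact ht' (k ≫ U.1.ι) hk

theorem effectiveEpimorphic_of_affine {X : Scheme.{u}} (R : Sieve X)
    (h : ∀ (Y : Scheme.{u}) (g : Y ⟶ X), IsAffine Y → (R.pullback g).EffectiveEpimorphic)
    {Y : Scheme.{u}} (g : Y ⟶ X) : (R.pullback g).EffectiveEpimorphic := by
  rw [Sieve.EffectiveEpimorphic.iff_forall_isSheafFor_yoneda]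
  intro W
  exact isSheafFor_yoneda_of_affine R
    (fun Y g hY W => (Sieve.EffectiveEpimorphic.iff_forall_isSheafFor_yoneda _).1 (h Y g hY) W) g W

end Groth.Agent.Lib.Seat43.EffEpiAffine
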