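import Mathlib
import Groth.Agent.Lib.Seat46FlatEqSch

/-!
# Scheme-level lemmas for fpqc descent of quasi-affineness (seat 46)

Pure Mathlib.
-/

set_option autoImplicit false
universe u

namespace Groth.Agent.Lib.Seat46.QAffSch

open CategoryTheory CategoryTheory.Limits AlgebraicGeometry

/-- a flat surjective morphism of schemes is injective on global sections. -/
lemma injective_appTop_of_flat_of_surjective {X Y : Scheme.{u}} (u : X ⟶ Y) [Flat u]
    [Surjective u] : Function.Injective u.appTop.hom := by
  haveI : Epi u := Flat.epi_of_flat_of_surjective u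
  haveI : Scheme.Γ.rightOp.PreservesEpimorphisms :=
    Functor.preservesEpimorphisms_of_adjunction ΓSpec.adjunction
  have h1 : Epi (Scheme.Γ.rightOp.map u) := inferInstance
  have h2 : Mono u.appTop := by
    have : Scheme.Γ.rightOp.map u = u.appTop.op := rfl
    rw [this] at h1
    exact (op_epi_iff u.appTop).1 h1
  exact (ConcreteCategory.mono_iff_injective_of_preservesPullback u.appTop).1 h2

/-- the comparison map from a quasi-affine flat cover of the quotient to the base change of the
affine candidate quotient is an open immersion. -/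
lemma isOpenImmersion_of_flat_eq {V TW UW RW : Scheme.{u}} [V.IsQuasiAffine] [IsAffine TW]
    (u : UW ⟶ V) [Flat u] [Surjective u] (ψ : V ⟶ TW) (q' : UW ⟶ TW) (s' t' : RW ⟶ UW)
    (hψ : u ≫ ψ = q') (hst : s' ≫ u = t' ≫ u)
    (hinj : Function.Injective q'.appTop.hom)
    (hex : ∀ y, s'.appTop.hom y = t'.appTop.hom y → y ∈ Set.range q'.appTop.hom) :
    IsOpenImmersion ψ := by
  have hu : Function.Injective u.appTop.hom := injective_appTop_of_flat_of_surjective u
  have hcomp : ∀ x, u.appTop.hom (ψ.appTop.hom x) = q'.appTop.hom x := by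
    intro x
    rw [← hψ, Scheme.Hom.comp_appTop]
    rfl
  have hbij : Function.Bijective ψ.appTop.hom := by
    refine ⟨?_, ?_⟩
    · intro x y hxy
      apply hinj
      rw [← hcomp, ← hcomp, hxy]
    · intro v
      have h1 : s'.appTop.hom (u.appTop.hom v) = t'.appTop.hom (u.appTop.hom v) := by
        have := congr($(congrArg Scheme.Hom.appTop hst).hom v)
        rw [Scheme.Hom.comp_appTop, Scheme.Hom.comp_appTop] at this
        exact this
      obtain ⟨x, hx⟩ := hex _ h1
      refine ⟨x, hu ?_⟩
      rw [hcomp, hx]
  have : IsIso ψ.appTop := (ConcreteCategory.isIso_iff_bijective _).2 hbij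
  have hfac : ψ = V.toSpecΓ ≫ Spec.map ψ.appTop ≫ TW.isoSpec.inv := by
    rw [← Scheme.toSpecΓ_naturality_assoc, ← Scheme.isoSpec_hom, Iso.hom_inv_id, Category.comp_id]
  rw [hfac]
  infer_instance

end Groth.Agent.Lib.Seat46.QAffSch
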