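import Mathlib
import Groth.Agent.Lib.Seat46QAffSch

/-!
# Schemes finite over a field, in terms of global sections (seat 46)
-/

set_option autoImplicit false
universe u
open CategoryTheory CategoryTheory.Limits AlgebraicGeometry

namespace Groth.Agent.Lib.Seat46.UBFField

variable {T : Scheme.{u}} {K : Type u} [Field K]

/-- the ring map `K ⟶ Γ(T, ⊤)` of a morphism `T ⟶ Spec K`. -/
noncomputable def ringMap (c : T ⟶ Spec (CommRingCat.of K)) : CommRingCat.of K ⟶ Γ(T, ⊤) :=
  (Scheme.ΓSpecIso (CommRingCat.of K)).inv ≫ c.appTop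

lemma ringMap_comp {T' : Scheme.{u}} (π : T' ⟶ T) (c : T ⟶ Spec (CommRingCat.of K)) :
    ringMap (π ≫ c) = ringMap c ≫ π.appTop := by
  simp [ringMap]

lemma eq_toSpecΓ_comp (c : T ⟶ Spec (CommRingCat.of K)) :
    c = T.toSpecΓ ≫ Spec.map (ringMap c) := by
  rw [ringMap, Spec.map_comp, ← Scheme.toSpecΓ_naturality_assoc, toSpecΓ_SpecMap_ΓSpecIso_inv,
    Category.comp_id]

/-- `T ⟶ Spec K` is finite of rank at most `n` iff `T` is affine and `Γ(T, ⊤)` is a `K`-vector space
of dimension at most `n`. -/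
theorem isFinite_and_finrank_le_iff (c : T ⟶ Spec (CommRingCat.of K)) (n : ℕ) :
    (IsFinite c ∧ ∀ s, c.finrank s ≤ n) ↔
      IsAffine T ∧ (letI := (ringMap c).hom.toAlgebra
        Module.Finite K Γ(T, ⊤) ∧ Module.finrank K Γ(T, ⊤) ≤ n) := by
  letI : Algebra K Γ(T, ⊤) := (ringMap c).hom.toAlgebra
  have hψ : ringMap c = CommRingCat.ofHom (algebraMap K Γ(T, ⊤)) := rfl
  constructor
  · rintro ⟨hfin, hrk⟩
    have hT : IsAffine T := isAffine_of_isAffineHom c
    have hc : c = T.isoSpec.hom ≫ Spec.map (ringMap c) := eq_toSpecΓ_comp c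
    have h1 : IsFinite (Spec.map (ringMap c)) := by
      have : Spec.map (ringMap c) = T.isoSpec.inv ≫ c := by
        rw [Iso.eq_inv_comp]; exact hc.symm
      rw [this]; infer_instance
    have h2 : Module.Finite K Γ(T, ⊤) := by
      have := (IsFinite.SpecMap_iff (f := ringMap c)).1 h1
      rw [hψ] at this
      exact RingHom.finite_algebraMap.1 this
    refine ⟨hT, h2, ?_⟩
    have h3 := hrk (IsLocalRing.closedPoint K)
    rw [hc, Scheme.Hom.finrank_comp_left_of_isIso, hψ,
      Scheme.Hom.finrank_SpecMap_algebraMap, Module.rankAtStalk_eq_finrank_of_free] at h3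
    exact h3
  · rintro ⟨hT, h2, h3⟩
    have hc : c = T.isoSpec.hom ≫ Spec.map (ringMap c) := eq_toSpecΓ_comp c
    have h1 : IsFinite (Spec.map (ringMap c)) := by
      rw [IsFinite.SpecMap_iff, hψ]
      exact RingHom.finite_algebraMap.2 h2
    have hfin : IsFinite c := by
      rw [hc]; infer_instance
    refine ⟨hfin, fun s => ?_⟩
    have h4 := Scheme.Hom.finrank_SpecMap_algebraMap K Γ(T, ⊤) (show PrimeSpectrum K from s)
    rw [Module.rankAtStalk_eq_finrank_of_free] at h4
    rw [hc, Scheme.Hom.finrank_comp_left_of_isIso, hψ]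
    exact h4.trans_le h3

/-- a scheme finite over a field is a finite discrete space. -/
lemma finite_discrete_of_isFinite (c : T ⟶ Spec (CommRingCat.of K)) [IsFinite c] :
    Finite T ∧ DiscreteTopology T := by
  have h := (isFinite_and_finrank_le_iff c (c.finrank (IsLocalRing.closedPoint K))).1
    ⟨inferInstance, fun s => by
      have : s = IsLocalRing.closedPoint K := Subsingleton.elim _ _
      rw [this]⟩
  obtain ⟨hT, hfin, -⟩ := h
  letI : Algebra K Γ(T, ⊤) := (ringMap c).hom.toAlgebra
  haveI : IsArtinianRing Γ(T, ⊤) := IsArtinianRing.of_finite K _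
  have e : T ≃ₜ PrimeSpectrum Γ(T, ⊤) := T.isoSpec.hom.homeomorph
  exact ⟨Finite.of_equiv _ e.symm.toEquiv, e.isEmbedding.discreteTopology⟩

/-- finiteness over a field and the bound on the rank descend along flat surjective morphisms. -/
theorem isFinite_and_finrank_le_of_flat_surjective {T' : Scheme.{u}} (π : T' ⟶ T) [Flat π]
    [Surjective π] (c : T ⟶ Spec (CommRingCat.of K)) (n : ℕ)
    (h : IsFinite (π ≫ c) ∧ ∀ s, (π ≫ c).finrank s ≤ n) :
    IsFinite c ∧ ∀ s, c.finrank s ≤ n := by
  haveI := h.1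
  obtain ⟨hF', hD'⟩ := finite_discrete_of_isFinite (π ≫ c)
  rw [isFinite_and_finrank_le_iff] at h ⊢
  obtain ⟨hT', hfin', hrk'⟩ := h
  -- `T` is finite and discrete
  haveI : Finite T := Finite.of_surjective π π.surjective
  haveI : T1Space T := by
    rw [t1Space_iff_specializes_imp_eq]
    intro t t' htt'
    obtain ⟨u', rfl⟩ := π.surjective t'
    obtain ⟨u, hu, rfl⟩ := (Flat.generalizingMap π) htt'
    have : u = u' := (specializes_iff_eq (X := ↥T')).1 hu
    rw [this]
  haveI : DiscreteTopology T := inferInstance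
  have hT : IsAffine T := inferInstance
  refine ⟨hT, ?_⟩
  letI : Algebra K Γ(T, ⊤) := (ringMap c).hom.toAlgebra
  letI : Algebra K Γ(T', ⊤) := (ringMap (π ≫ c)).hom.toAlgebra
  have hinj := Groth.Agent.Lib.Seat46.QAffSch.injective_appTop_of_flat_of_surjective π
  let φ : Γ(T, ⊤) →ₗ[K] Γ(T', ⊤) :=
    { toFun := π.appTop.hom
      map_add' := map_add _
      map_smul' := fun k x => by
        simp only [Algebra.smul_def, map_mul, RingHom.id_apply]
        congr 1 }
  haveI : Module.Finite K Γ(T', ⊤) := hfin'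
  have hφ : Function.Injective φ := hinj
  haveI : Module.Finite K Γ(T, ⊤) := Module.Finite.of_injective φ hφ
  exact ⟨inferInstance, (LinearMap.finrank_le_finrank_of_injective hφ).trans hrk'⟩

end Groth.Agent.Lib.Seat46.UBFField
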