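import Mathlib
import Groth.Prelude.Def_AlgSp
import Groth.Agent.S10555
import Groth.Agent.S9885
import Groth.Agent.Lib.Seat46UBFField
import Groth.Agent.Lib.Seat33SubGrpd
import Groth.Agent.Lib.Seat33PairGrpd
import Groth.Agent.Lib.Seat19FFQ
import Groth.Agent.Lib.Seat19Quot1
import Groth.Agent.Lib.Helper9ShfQuot
import Groth.Agent.Lib.Helper12LocPCases

/-!
# The quotient of the spectrum of a field by a quasi-compact etale equivalence relation (seat 46)

If `p : h_{Spec K} ⟶ X` is a map of fppf sheaves whose kernel pair is represented by a quasi-compact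
scheme `R` etale over `Spec K`, then `p` factors as `h_{Spec K} ⟶ h_{Spec k'} ⟶ X` with the first map
finite etale surjective and the second a monomorphism.
-/

set_option autoImplicit false
universe u
open CategoryTheory CategoryTheory.Limits AlgebraicGeometry

namespace Groth.Agent.Lib.Seat46.FieldQuot

open Groth.Agent.Lib.Seat46.UBFField
open Groth.Agent.Lib.Seat33.PairGrpd Groth.Agent.Lib.Seat33.SubGrpd

variable {K : Type u} [Field K]

instance : Finite ↥(Spec (CommRingCat.of K)) := inferInstanceAs (Finite (PrimeSpectrum K))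

/-- every morphism from the spectrum of a field is quasi-compact. -/
lemma quasiCompact_of_field {S : Scheme.{u}} (str : Spec (CommRingCat.of K) ⟶ S) :
    QuasiCompact str :=
  ⟨fun _ _ _ => (Set.toFinite _).isCompact⟩

/-- the self fibre product of the spectrum of a field over any base is quasi-compact. -/
lemma compactSpace_pullback_field {S : Scheme.{u}} (str : Spec (CommRingCat.of K) ⟶ S) :
    CompactSpace ↥(pullback str str) := by
  haveI := quasiCompact_of_field str
  exact QuasiCompact.compactSpace_of_compactSpace (pullback.fst str str)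

/-- a quasi-compact scheme etale over a field is affine and finite over the field. -/
lemma isAffine_isFinite_of_etale_compact {T : Scheme.{u}} (c : T ⟶ Spec (CommRingCat.of K))
    [Etale c] [CompactSpace T] : IsAffine T ∧ IsFinite c := by
  haveI := Groth.Agent.S10555.lqf_of_etale c
  haveI : QuasiCompact c := inferInstance
  obtain ⟨y⟩ : Nonempty ↥(Spec (CommRingCat.of K)) := ⟨IsLocalRing.closedPoint K⟩
  have huniv : c ⁻¹' {y} = Set.univ := by
    ext x
    simp only [Set.mem_preimage, Set.mem_univ, iff_true]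
    exact Subsingleton.elim _ _
  have hfin : Finite T := by
    have := c.finite_preimage_singleton y
    rw [huniv] at this
    exact Set.finite_univ_iff.1 this
  have hdisc : DiscreteTopology T := by
    have := c.isDiscrete_preimage_singleton y
    rw [huniv] at this
    exact isDiscrete_univ_iff.1 this
  have hT : IsAffine T := inferInstance
  refine ⟨hT, ?_⟩
  letI : Algebra K Γ(T, ⊤) := (ringMap c).hom.toAlgebra
  have hψ : ringMap c = CommRingCat.ofHom (algebraMap K Γ(T, ⊤)) := rfl
  have hc : c = T.isoSpec.hom ≫ Spec.map (ringMap c) := eq_toSpecΓ_comp c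
  have h1 : Etale (Spec.map (ringMap c)) := by
    have : Spec.map (ringMap c) = T.isoSpec.inv ≫ c := by
      rw [Iso.eq_inv_comp]; exact hc.symm
    rw [this]; infer_instance
  have h2 : (ringMap c).hom.Etale := (HasRingHomProperty.Spec_iff (P := @Etale)).1 h1
  rw [hψ] at h2
  have h3 : Algebra.Etale K Γ(T, ⊤) := RingHom.etale_algebraMap.1 h2
  have h4 : Module.Finite K Γ(T, ⊤) := Algebra.FormallyUnramified.finite_of_free K Γ(T, ⊤)
  have h5 : IsFinite (Spec.map (ringMap c)) := by
    rw [IsFinite.SpecMap_iff, hψ]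
    exact RingHom.finite_algebraMap.2 h4
  rw [hc]; infer_instance

section Grpd

variable {S : Scheme.{u}} {X : AlgSp.Sp S} {U R : Over S} {p : (AlgSp.yon S).obj U ⟶ X} {s t : R ⟶ U}
  (sq : IsPullback ((AlgSp.yon S).map t) ((AlgSp.yon S).map s) p p)

/-- `(t, s) : R ⟶ U ×_S U`. -/
noncomputable def ι (s t : R ⟶ U) : R.left ⟶ pullback U.hom U.hom :=
  pullback.lift t.left s.left (by rw [Over.w t, Over.w s])

@[reassoc (attr := simp)]
lemma ι_fst : ι s t ≫ pullback.fst U.hom U.hom = t.left := pullback.lift_fst _ _ _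

@[reassoc (attr := simp)]
lemma ι_snd : ι s t ≫ pullback.snd U.hom U.hom = s.left := pullback.lift_snd _ _ _

include sq in
lemma hom_ext_of_sq {T : Over S} (a b : T ⟶ R) (h1 : a ≫ t = b ≫ t) (h2 : a ≫ s = b ≫ s) : a = b := by
  apply (AlgSp.yon S).map_injective
  apply sq.hom_ext
  · rw [← Functor.map_comp, ← Functor.map_comp, h1]
  · rw [← Functor.map_comp, ← Functor.map_comp, h2]

include sq in
lemma mono_ι : Mono (ι s t) := by
  constructor
  intro T a b hab
  have h1 : a ≫ t.left = b ≫ t.left := by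
    have := congrArg (· ≫ pullback.fst U.hom U.hom) hab
    simpa using this
  have h2 : a ≫ s.left = b ≫ s.left := by
    have := congrArg (· ≫ pullback.snd U.hom U.hom) hab
    simpa using this
  have hb : b ≫ R.hom = a ≫ R.hom := by
    rw [← Over.w t, ← Category.assoc, ← h1, Category.assoc]
  let a' : Over.mk (a ≫ R.hom) ⟶ R := Over.homMk a rfl
  let b' : Over.mk (a ≫ R.hom) ⟶ R := Over.homMk b hb
  have : a' = b' := hom_ext_of_sq sq a' b' (by ext; exact h1) (by ext; exact h2)
  exact congrArg (fun f => f.left) this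

include sq in
/-- lifting a pair of maps with the same image in `X` to `R`. -/
lemma exists_lift {T : Over S} (a b : T ⟶ U) (h : (AlgSp.yon S).map a ≫ p = (AlgSp.yon S).map b ≫ p) :
    ∃ r : T ⟶ R, r ≫ t = a ∧ r ≫ s = b := by
  obtain ⟨r, hr⟩ := (AlgSp.yon S).map_surjective (sq.lift _ _ h)
  refine ⟨r, ?_, ?_⟩
  · apply (AlgSp.yon S).map_injective
    rw [Functor.map_comp, hr, sq.lift_fst]
  · apply (AlgSp.yon S).map_injective
    rw [Functor.map_comp, hr, sq.lift_snd]

include sq in
lemma exists_e : ∃ e₀ : U ⟶ R, e₀ ≫ t = 𝟙 U ∧ e₀ ≫ s = 𝟙 U := exists_lift sq (𝟙 U) (𝟙 U) rfl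

include sq in
lemma exists_i : ∃ i₀ : R ⟶ R, i₀ ≫ t = s ∧ i₀ ≫ s = t := exists_lift sq s t sq.w.symm

include sq in
lemma exists_c :
    ∃ c' : pullback (ι s t ≫ pullback.snd U.hom U.hom) (ι s t ≫ pullback.fst U.hom U.hom) ⟶ R.left,
      c' ≫ t.left = pullback.fst _ _ ≫ t.left ∧ c' ≫ s.left = pullback.snd _ _ ≫ s.left := by
  let π₁ : pullback (ι s t ≫ pullback.snd U.hom U.hom) (ι s t ≫ pullback.fst U.hom U.hom) ⟶ R.left :=
    pullback.fst _ _
  let π₂ : pullback (ι s t ≫ pullback.snd U.hom U.hom) (ι s t ≫ pullback.fst U.hom U.hom) ⟶ R.left :=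
    pullback.snd _ _
  have hcond : π₁ ≫ s.left = π₂ ≫ t.left := by
    have := pullback.condition (f := ι s t ≫ pullback.snd U.hom U.hom)
      (g := ι s t ≫ pullback.fst U.hom U.hom)
    simpa using this
  have h2 : π₂ ≫ R.hom = π₁ ≫ R.hom := by
    calc π₂ ≫ R.hom = π₂ ≫ t.left ≫ U.hom := by rw [Over.w t]
      _ = π₁ ≫ s.left ≫ U.hom := by rw [← Category.assoc, ← hcond, Category.assoc]
      _ = π₁ ≫ R.hom := by rw [Over.w s]
  let π₁' : Over.mk (π₁ ≫ R.hom) ⟶ R := Over.homMk π₁ rfl
  let π₂' : Over.mk (π₁ ≫ R.hom) ⟶ R := Over.homMk π₂ h2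
  have hcond' : π₁' ≫ s = π₂' ≫ t := by ext; exact hcond
  have h : (AlgSp.yon S).map (π₁' ≫ t) ≫ p = (AlgSp.yon S).map (π₂' ≫ s) ≫ p := by
    rw [Functor.map_comp, Category.assoc, sq.w, ← Category.assoc, ← Functor.map_comp, hcond',
      Functor.map_comp, Category.assoc, sq.w, Functor.map_comp, Category.assoc]
  obtain ⟨c₀, h1, h2⟩ := exists_lift sq (π₁' ≫ t) (π₂' ≫ s) h
  exact ⟨c₀.left, congrArg (fun f => f.left) h1, congrArg (fun f => f.left) h2⟩

lemma he_aux (e₀ : U ⟶ R) (h1 : e₀ ≫ t = 𝟙 U) (h2 : e₀ ≫ s = 𝟙 U) :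
    e₀.left ≫ ι s t = pullback.lift (𝟙 U.left) (𝟙 U.left) rfl := by
  apply pullback.hom_ext
  · rw [Category.assoc, ι_fst, ← Over.comp_left, h1, pullback.lift_fst]; rfl
  · rw [Category.assoc, ι_snd, ← Over.comp_left, h2, pullback.lift_snd]; rfl

lemma hi_aux (i₀ : R ⟶ R) (h1 : i₀ ≫ t = s) (h2 : i₀ ≫ s = t) :
    i₀.left ≫ ι s t = ι s t ≫
      pullback.lift (pullback.snd U.hom U.hom) (pullback.fst U.hom U.hom) pullback.condition.symm := by
  apply pullback.hom_ext
  · rw [Category.assoc, ι_fst, ← Over.comp_left, h1, Category.assoc, pullback.lift_fst, ι_snd]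
  · rw [Category.assoc, ι_snd, ← Over.comp_left, h2, Category.assoc, pullback.lift_snd, ι_fst]

lemma hc_aux
    (c' : pullback (ι s t ≫ pullback.snd U.hom U.hom) (ι s t ≫ pullback.fst U.hom U.hom) ⟶ R.left)
    (h1 : c' ≫ t.left = pullback.fst _ _ ≫ t.left) (h2 : c' ≫ s.left = pullback.snd _ _ ≫ s.left) :
    c' ≫ ι s t = pullback.map (ι s t ≫ pullback.snd U.hom U.hom) (ι s t ≫ pullback.fst U.hom U.hom)
      (pullback.snd U.hom U.hom) (pullback.fst U.hom U.hom) (ι s t) (ι s t) (𝟙 _) (by simp) (by simp) ≫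
        pairC U.hom := by
  apply pullback.hom_ext
  · have e1 : (c' ≫ ι s t) ≫ pullback.fst U.hom U.hom = c' ≫ t.left := by
      rw [Category.assoc]; exact congrArg (c' ≫ ·) ι_fst
    rw [e1, h1, Category.assoc, pairC_fst, ← Category.assoc, pullback.lift_fst, Category.assoc]
    exact (congrArg (pullback.fst _ _ ≫ ·) ι_fst).symm
  · have e1 : (c' ≫ ι s t) ≫ pullback.snd U.hom U.hom = c' ≫ s.left := by
      rw [Category.assoc]; exact congrArg (c' ≫ ·) ι_snd
    rw [e1, h2, Category.assoc, pairC_snd, ← Category.assoc, pullback.lift_snd, Category.assoc]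
    exact (congrArg (pullback.snd _ _ ≫ ·) ι_snd).symm

/-- the groupoid scheme of the equivalence relation `R = U ×_X U`. -/
noncomputable def grpd : Grpd.GroupoidScheme S :=
  @sub S (pairGrpd U.hom) R.left (ι s t) (mono_ι sq) (exists_e sq).choose.left
    (he_aux _ (exists_e sq).choose_spec.1 (exists_e sq).choose_spec.2)
    (exists_i sq).choose.left
    (hi_aux _ (exists_i sq).choose_spec.1 (exists_i sq).choose_spec.2)
    (exists_c sq).choose
    (hc_aux _ (exists_c sq).choose_spec.1 (exists_c sq).choose_spec.2)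

lemma grpd_s : (grpd sq).s = s.left := ι_snd
lemma grpd_t : (grpd sq).t = t.left := ι_fst

lemma grpd_j : (grpd sq).j = ι s t := by
  apply pullback.hom_ext
  · exact (pullback.lift_fst _ _ _).trans ((grpd_t sq).trans ι_fst.symm)
  · exact (pullback.lift_snd _ _ _).trans ((grpd_s sq).trans ι_snd.symm)

instance : Mono (grpd sq).j := by
  rw [grpd_j]
  exact mono_ι sq

end Grpd


section Inv

variable {S : Scheme.{u}} (G : Grpd.GroupoidScheme S)

/-- the invariants of a groupoid on the spectrum of a field form a field. -/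
lemma isField_invariants (h : IsField Γ(G.U, ⊤)) : IsField ↥G.invariants where
  exists_pair_ne := by
    obtain ⟨a, b, hab⟩ := h.exists_pair_ne
    haveI : Nontrivial Γ(G.U, ⊤) := ⟨⟨a, b, hab⟩⟩
    exact ⟨0, 1, fun h01 => zero_ne_one (congrArg Subtype.val h01)⟩
  mul_comm := mul_comm
  mul_inv_cancel := by
    intro a ha
    have ha' : (a : Γ(G.U, ⊤)) ≠ 0 := fun h0 => ha (Subtype.ext h0)
    obtain ⟨b, hb⟩ := h.mul_inv_cancel ha'
    have hmem : b ∈ G.invariants := by
      change G.s.appTop.hom b = G.t.appTop.hom b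
      have ha2 : G.s.appTop.hom a = G.t.appTop.hom a := a.2
      refine left_inv_eq_right_inv (a := G.s.appTop.hom a) ?_ ?_
      · rw [← map_mul, mul_comm, hb, map_one]
      · rw [ha2, ← map_mul, hb, map_one]
    exact ⟨⟨b, hmem⟩, Subtype.ext hb⟩

end Inv

section Main

variable {S : Scheme.{u}} {X : AlgSp.Sp S} {K : Type u} [Field K]

lemma isField_Γ_Spec : IsField Γ(Spec (CommRingCat.of K), ⊤) :=
  MulEquiv.isField (Field.toIsField K)
    (Scheme.ΓSpecIso (CommRingCat.of K)).commRingCatIsoToRingEquiv.toMulEquiv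

open Groth.Agent.Lib.Helper9 in
/-- **Quotient of a field spectrum by a quasi-compact etale equivalence relation.** -/
theorem exists_mono_factor (str : Spec (CommRingCat.of K) ⟶ S)
    (p : (AlgSp.yon S).obj (Over.mk str) ⟶ X) {R : Over S} (s t : R ⟶ Over.mk str)
    (sq : IsPullback ((AlgSp.yon S).map t) ((AlgSp.yon S).map s) p p)
    [Etale s.left] [CompactSpace ↥R.left] :
    ∃ (k' : Type u) (_ : Field k') (str' : Spec (CommRingCat.of k') ⟶ S)
      (c : Over.mk str ⟶ Over.mk str') (m : (AlgSp.yon S).obj (Over.mk str') ⟶ X),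
      (AlgSp.yon S).map c ≫ m = p ∧ Mono m ∧ IsFinite c.left ∧ Etale c.left ∧
        Surjective c.left := by
  obtain ⟨hRaff, hsfin⟩ := isAffine_isFinite_of_etale_compact (K := K) s.left
  let G := grpd sq
  haveI : IsAffine G.U := inferInstanceAs (IsAffine (Spec (CommRingCat.of K)))
  haveI : IsAffine G.R := hRaff
  have hGs : G.s = s.left := grpd_s sq
  have hGt : G.t = t.left := grpd_t sq
  haveI : IsFinite G.s := by rw [hGs]; exact hsfin
  haveI : Etale G.s := by
    have h : Etale s.left := inferInstance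
    rw [hGs]; exact h
  haveI : Flat G.s := inferInstance
  haveI : LocallyOfFinitePresentation G.s := inferInstance
  have hpb : IsPullback G.t G.s G.toQuot G.toQuot := Groth.Agent.Lib.Seat19.FFQ.isPullback_toQuot G
  obtain ⟨hqfin, hqflat, hqfp⟩ := Groth.Agent.Lib.Seat19.FFQ.toQuot_props G
  haveI : Surjective G.toQuot := ⟨Groth.Agent.Lib.Seat19.Quot1.toQuot_surjective G⟩
  haveI := hqfin
  haveI := hqflat
  haveI := hqfp
  have hqet : Etale G.toQuot :=
    (Groth.Agent.Lib.Helper12.LocPCases.good_etale.desc).of_isPullback hpb.flip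
      ⟨⟨inferInstance, inferInstance⟩, inferInstance⟩ (inferInstance : Etale G.s)
  -- the structure morphism of the quotient
  have hdesc : ∀ {Z : Scheme.{u}} (g₁ g₂ : Z ⟶ G.U), g₁ ≫ G.toQuot = g₂ ≫ G.toQuot →
      g₁ ≫ G.pU = g₂ ≫ G.pU := by
    intro Z g₁ g₂ h
    have h1 : hpb.lift g₁ g₂ h ≫ G.t = g₁ := hpb.lift_fst _ _ _
    have h2 : hpb.lift g₁ g₂ h ≫ G.s = g₂ := hpb.lift_snd _ _ _
    calc g₁ ≫ G.pU = (hpb.lift g₁ g₂ h ≫ G.t) ≫ G.pU := by rw [h1]
      _ = (hpb.lift g₁ g₂ h ≫ G.s) ≫ G.pU := by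
          rw [Category.assoc, Category.assoc, G.t_over, G.s_over]
      _ = g₂ ≫ G.pU := by rw [h2]
  let str' : Spec (CommRingCat.of ↥G.invariants) ⟶ S := EffectiveEpi.desc G.toQuot G.pU hdesc
  have hfac : G.toQuot ≫ str' = str := EffectiveEpi.fac G.toQuot G.pU hdesc
  let fld : Field ↥G.invariants := (isField_invariants G isField_Γ_Spec).toField
  refine ⟨↥G.invariants, fld, str', Over.homMk G.toQuot hfac, ?_⟩
  let c : Over.mk str ⟶ Over.mk str' := Over.homMk G.toQuot hfac
  change ∃ m, (AlgSp.yon S).map c ≫ m = p ∧ Mono m ∧ IsFinite c.left ∧ Etale c.left ∧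
    Surjective c.left
  -- the kernel pair of `h_c`
  have hpb' : IsPullback t.left s.left c.left c.left := by
    have := hpb
    rw [hGt, hGs] at this
    exact this
  have hw : t ≫ c = s ≫ c := by ext; exact hpb'.w
  have hpbO : IsPullback t s c c := IsPullback.of_map (Over.forget S) hw hpb'
  have hq : IsPullback ((AlgSp.yon S).map t) ((AlgSp.yon S).map s) ((AlgSp.yon S).map c)
      ((AlgSp.yon S).map c) := hpbO.map (AlgSp.yon S)
  -- `h_c` is an epimorphism
  have h1 : AlgSp.RepWith @Flat ((AlgSp.yon S).map c) := (AlgSp.repWith_yon_map_iff @Flat c).2 hqflat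
  have h2 : AlgSp.RepWith @LocallyOfFinitePresentation ((AlgSp.yon S).map c) :=
    (AlgSp.repWith_yon_map_iff @LocallyOfFinitePresentation c).2 hqfp
  have h3 : AlgSp.RepWith @Surjective ((AlgSp.yon S).map c) :=
    (AlgSp.repWith_yon_map_iff @Surjective c).2 (inferInstance : Surjective G.toQuot)
  haveI := Groth.Agent.S9885.isLocallySurjective_of_repWith _ h1 h2 h3
  haveI hepi : Epi ((AlgSp.yon S).map c) := (Sheaf.isLocallySurjective_iff_epi _).1 inferInstance
  haveI : IsRegularEpi ((AlgSp.yon S).map c) := IsRegularEpiCategory.regularEpiOfEpi _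
  obtain ⟨m, hm⟩ := IsRegularEpi.exists_of_isKernelPair ((AlgSp.yon S).map c) hq p sq.w
  refine ⟨m, hm, ?_, hqfin, hqet, (inferInstance : Surjective G.toQuot)⟩
  constructor
  intro W a b hab
  obtain ⟨W', e', he', a', b', ha', hb'⟩ :=
    ToposLike.exists_local_lift₂ ((AlgSp.yon S).map c) hepi a b
  have h4 : a' ≫ p = b' ≫ p := by
    rw [← hm, ← Category.assoc, ← Category.assoc, ← ha', ← hb', Category.assoc, Category.assoc, hab]
  have h5 : a' ≫ (AlgSp.yon S).map c = b' ≫ (AlgSp.yon S).map c := by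
    have e1 : sq.lift a' b' h4 ≫ (AlgSp.yon S).map t = a' := sq.lift_fst _ _ _
    have e2 : sq.lift a' b' h4 ≫ (AlgSp.yon S).map s = b' := sq.lift_snd _ _ _
    calc a' ≫ (AlgSp.yon S).map c = (sq.lift a' b' h4 ≫ (AlgSp.yon S).map t) ≫ (AlgSp.yon S).map c := by
          rw [e1]
      _ = (sq.lift a' b' h4 ≫ (AlgSp.yon S).map s) ≫ (AlgSp.yon S).map c := by
          rw [Category.assoc, Category.assoc, hq.w]
      _ = b' ≫ (AlgSp.yon S).map c := by rw [e2]
  rw [← cancel_epi e', ha', hb', h5]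

end Main

end Groth.Agent.Lib.Seat46.FieldQuot
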