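import Mathlib
import Groth.Prelude.Def_AlgSp
import Groth.Prelude.Def_AlgSp2

/-!
# Seat 83: kernel pair of a residue-field point of an étale chart

* `isOpenImmersion_fst_of_discrete`: if `Y` is a discrete reduced scheme, `τ : Y ⟶ U` and `u : U`,
  then `Y ×_U Spec κ(u) ⟶ Y` is an open immersion.
-/

set_option autoImplicit false
set_option linter.style.haveILetI false

universe u

open CategoryTheory CategoryTheory.Limits AlgebraicGeometry

namespace Groth.Agent.Lib.Seat83.ResidueKP

/-- one-point reduced case. -/
lemma isOpenImmersion_fst_of_subsingleton {T U : Scheme.{u}} [Subsingleton T] [IsReduced T]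
    (τ : T ⟶ U) (u : U) : IsOpenImmersion (pullback.fst τ (U.fromSpecResidueField u)) := by
  cases isEmpty_or_nonempty T
  · haveI : IsEmpty ↑(pullback τ (U.fromSpecResidueField u)) :=
      Function.isEmpty (pullback.fst τ (U.fromSpecResidueField u))
    infer_instance
  have : IsIntegral T := (isIntegral_iff_irreducibleSpace_and_isReduced _).mpr
    ⟨⟨inferInstance⟩, inferInstance⟩
  letI := (isField_of_isIntegral_of_subsingleton T).toField
  obtain ⟨y⟩ := ‹Nonempty T›
  by_cases h : τ y = u
  · subst h
    let f : Spec (.of Γ(T, ⊤)) ⟶ U := T.isoSpec.inv ≫ τ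
    have hf : f (IsLocalRing.closedPoint Γ(T, ⊤)) = τ y := by
      change τ (T.isoSpec.inv (IsLocalRing.closedPoint Γ(T, ⊤))) = τ y
      rw [Subsingleton.elim (T.isoSpec.inv (IsLocalRing.closedPoint Γ(T, ⊤))) y]
    have h1 := Scheme.descResidueField_stalkClosedPointTo_fromSpecResidueField Γ(T, ⊤) U f
    have h2 : τ = (T.isoSpec.hom ≫ Spec.map (Scheme.descResidueField (Scheme.stalkClosedPointTo f)) ≫
        Spec.map (U.residueFieldCongr hf.symm).hom) ≫ U.fromSpecResidueField (τ y) := by
      rw [Category.assoc, Category.assoc, Scheme.residueFieldCongr_fromSpecResidueField]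
      rw [h1]
      simp [f]
    have h3 : IsIso (pullback.fst τ (U.fromSpecResidueField (τ y))) := by
      have := pullback_snd_iso_of_left_factors_mono
        (T.isoSpec.hom ≫ Spec.map (Scheme.descResidueField (Scheme.stalkClosedPointTo f)) ≫
        Spec.map (U.residueFieldCongr hf.symm).hom) (U.fromSpecResidueField (τ y))
      convert this using 2
    infer_instance
  · haveI : IsEmpty ↑(pullback τ (U.fromSpecResidueField u)) := by
      refine ⟨fun z => h ?_⟩
      have h1 : τ (pullback.fst τ (U.fromSpecResidueField u) z) =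
          U.fromSpecResidueField u (pullback.snd τ (U.fromSpecResidueField u) z) := by
        rw [← Scheme.Hom.comp_apply, ← Scheme.Hom.comp_apply, pullback.condition]
      rw [Scheme.fromSpecResidueField_apply] at h1
      rw [← h1, Subsingleton.elim (pullback.fst τ (U.fromSpecResidueField u) z) y]
    infer_instance

/-- **Lemma (L)**: for a discrete reduced scheme `Y`, a morphism `τ : Y ⟶ U` and a point `u` of `U`,
the projection `Y ×_U Spec κ(u) ⟶ Y` is an open immersion. -/
lemma isOpenImmersion_fst_of_discrete {Y U : Scheme.{u}} [DiscreteTopology Y] [IsReduced Y]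
    (τ : Y ⟶ U) (u : U) : IsOpenImmersion (pullback.fst τ (U.fromSpecResidueField u)) := by
  let 𝒰 : Y.OpenCover := Y.openCoverOfIsOpenCover
      (fun x : Y ↦ ⟨{x}, isOpen_discrete _⟩) (.mk (by ext; simp))
  rw [IsZariskiLocalAtTarget.iff_of_openCover (P := @IsOpenImmersion) 𝒰]
  intro i
  haveI : Subsingleton ↥(𝒰.X i) := inferInstanceAs (Subsingleton ({i} : Set Y))
  haveI : IsReduced (𝒰.X i) := isReduced_of_isOpenImmersion (𝒰.f i)
  have h0 := isOpenImmersion_fst_of_subsingleton (𝒰.f i ≫ τ) u
  have sq1 : IsPullback (pullback.snd (pullback.fst τ (U.fromSpecResidueField u)) (𝒰.f i))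
      (pullback.fst (pullback.fst τ (U.fromSpecResidueField u)) (𝒰.f i)) (𝒰.f i)
      (pullback.fst τ (U.fromSpecResidueField u)) := (IsPullback.of_hasPullback _ _).flip
  have sq2 : IsPullback (pullback.fst τ (U.fromSpecResidueField u))
      (pullback.snd τ (U.fromSpecResidueField u)) τ (U.fromSpecResidueField u) :=
    IsPullback.of_hasPullback _ _
  have sq3 := sq1.paste_vert sq2
  have h1 : pullback.snd (pullback.fst τ (U.fromSpecResidueField u)) (𝒰.f i) =
      sq3.isoPullback.hom ≫ pullback.fst (𝒰.f i ≫ τ) (U.fromSpecResidueField u) :=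
    (sq3.isoPullback_hom_fst).symm
  change IsOpenImmersion (pullback.snd (pullback.fst τ (U.fromSpecResidueField u)) (𝒰.f i))
  rw [h1]
  infer_instance

end Groth.Agent.Lib.Seat83.ResidueKP
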