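import Mathlib
import Groth.Prelude.Def_AlgSp
import Groth.Prelude.Def_AlgSp2
import Groth.Prelude.Def_AlgSpDec
import Groth.Agent.Lib.Seat46FieldQuot
import Groth.Agent.Lib.Seat83ResidueKP
import Groth.Agent.Lib.Helper12Reduced
import Groth.Agent.S10555
import Groth.Agent.S10176
import Groth.Agent.S9920
import Groth.Agent.Lib.Seat45Charts

/-!
# Seat 83: monomorphic representatives of points with quasi-compact kernel pair

* `discrete_reduced_of_etale_field`: a scheme étale over a field is discrete and reduced.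
* `exists_mono_point`: for an étale chart `a : h_U ⟶ F` and a point `u` of `U` such that the kernel pair
  of `Spec κ(u) ⟶ U ⟶ F` is quasi-compact, the point `a(u)` is the class of a monomorphism
  `Spec k' ⟶ F`, with `Spec κ(u) ⟶ Spec k'` finite étale surjective.
* `quasiCompact_of_qs`, `compactSpace_kernelPair_of_qs`: consequences of a quasi-compact diagonal.
-/

set_option autoImplicit false
set_option linter.style.haveILetI false

universe u

open CategoryTheory CategoryTheory.Limits AlgebraicGeometry Opposite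

namespace Groth.Agent.Lib.Seat83.MonoPoint

open AlgSp

variable {S : Scheme.{u}}

/-- a scheme étale over the spectrum of a field is discrete and reduced. -/
lemma discrete_reduced_of_etale_field {K : Type u} [Field K] {V : Scheme.{u}}
    (e : V ⟶ Spec (CommRingCat.of K)) [Etale e] : DiscreteTopology ↥V ∧ IsReduced V := by
  haveI := Groth.Agent.S10555.lqf_of_etale e
  obtain ⟨y⟩ : Nonempty ↥(Spec (CommRingCat.of K)) := ⟨IsLocalRing.closedPoint K⟩
  have huniv : e ⁻¹' {y} = Set.univ := by
    ext x
    simp only [Set.mem_preimage, Set.mem_univ, iff_true]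
    exact Subsingleton.elim _ _
  have hdisc : DiscreteTopology ↥V := by
    have := e.isDiscrete_preimage_singleton y
    rw [huniv] at this
    exact isDiscrete_univ_iff.1 this
  refine ⟨hdisc, ?_⟩
  haveI : IsReduced (Spec (CommRingCat.of K)) := inferInstance
  exact Groth.Agent.Lib.Helper12.Reduced.isReduced_of_smooth e

/-- **Monomorphic representative.**  Let `a : h_U ⟶ F` be representable étale, `u` a point of `U`, and
assume that every scheme representing the kernel pair of `Spec κ(u) ⟶ U ⟶ F` is quasi-compact.  Then the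
point `a(u)` of `F` is the class of a monomorphism `Spec k' ⟶ F` through which `Spec κ(u) ⟶ F`
factors, via a finite étale surjective `Spec κ(u) ⟶ Spec k'`. -/
theorem exists_mono_point {F : Sp S} {U : Over S} (a : (yon S).obj U ⟶ F) (ha : RepWith @Etale a)
    (u : ↥U.left)
    (hc : ∀ (R : Over S) (s t : R ⟶ (FieldPt.ofPt a u).pt),
      IsPullback ((yon S).map t) ((yon S).map s) (FieldPt.ofPt a u).toHom (FieldPt.ofPt a u).toHom →
      CompactSpace ↥R.left) :
    ∃ (p : FieldPt F) (c : (FieldPt.ofPt a u).pt ⟶ p.pt),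
      (yon S).map c ≫ p.toHom = (FieldPt.ofPt a u).toHom ∧ Points.mk p = Points.ofPt a u ∧
      Mono p.toHom ∧ IsFinite c.left ∧ Etale c.left ∧ Surjective c.left := by
  let p₀ := FieldPt.ofPt a u
  let ι : p₀.pt ⟶ U := Over.homMk (U.left.fromSpecResidueField u) rfl
  have hP : p₀.toHom = (yon S).map ι ≫ a := FieldPt.toHom_ofPt a u
  obtain ⟨V, e, g', sqV⟩ := ha.1 p₀.toHom
  obtain ⟨g, rfl⟩ := (yon S).map_surjective g'
  haveI he : Etale e.left := ha.2 _ _ _ sqV
  obtain ⟨hdisc, hred⟩ := discrete_reduced_of_etale_field (K := p₀.K) e.left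
  haveI := hdisc
  haveI := hred
  let φ := U.left.fromSpecResidueField u
  haveI hj : IsOpenImmersion (pullback.fst g.left φ) :=
    Groth.Agent.Lib.Seat83.ResidueKP.isOpenImmersion_fst_of_discrete g.left u
  let R : Over S := Over.mk (pullback.fst g.left φ ≫ V.hom)
  let j : R ⟶ V := Over.homMk (pullback.fst g.left φ) rfl
  have hw : pullback.snd g.left φ ≫ p₀.str = pullback.fst g.left φ ≫ V.hom := by
    change pullback.snd g.left φ ≫ φ ≫ U.hom = _
    rw [← pullback.condition_assoc, Over.w g]
  let w₁ : R ⟶ p₀.pt := Over.homMk (pullback.snd g.left φ) hw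
  have hjw : j ≫ g = w₁ ≫ ι := by
    ext
    exact pullback.condition
  have sqR : IsPullback j w₁ g ι :=
    IsPullback.of_map (Over.forget S) hjw (IsPullback.of_hasPullback g.left φ)
  have sqR' := sqR.map (yon S)
  have sq : IsPullback ((yon S).map w₁) ((yon S).map (j ≫ e)) p₀.toHom p₀.toHom := by
    have h1 := (sqR'.paste_horiz sqV.flip).flip
    rw [← hP, ← Functor.map_comp] at h1
    exact h1
  haveI : Etale (j ≫ e).left := by
    change Etale (pullback.fst g.left φ ≫ e.left)
    infer_instance
  haveI : CompactSpace ↥R.left := hc R (j ≫ e) w₁ sq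
  obtain ⟨k', fld, str', c, m, hcm, hmono, hfin, het, hsurj⟩ :=
    Groth.Agent.Lib.Seat46.FieldQuot.exists_mono_factor p₀.str p₀.toHom (j ≫ e) w₁ sq
  letI := fld
  let p : FieldPt F := ⟨k', str', (J S).uliftYonedaEquiv m⟩
  have hp : p.toHom = m := Equiv.symm_apply_apply _ _
  refine ⟨p, c, by rw [hp]; exact hcm, ?_, by rw [hp]; exact hmono, hfin, het, hsurj⟩
  obtain ⟨s₀⟩ : Nonempty ↥(Spec (CommRingCat.of p₀.K)) := ⟨IsLocalRing.closedPoint p₀.K⟩
  calc Points.mk p = Points.ofPt p.toHom (c.left s₀) := (Points.ofPt_toHom p _).symm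
    _ = Points.ofPt ((yon S).map c ≫ p.toHom) s₀ := (Groth.Agent.S10176.ofPt_map_comp c p.toHom s₀).symm
    _ = Points.ofPt p₀.toHom s₀ := by rw [hp, hcm]
    _ = Points.mk p₀ := Points.ofPt_toHom p₀ s₀
    _ = Points.ofPt a u := rfl

/-- **Engine.**  An algebraic space all of whose field points have quasi-compact kernel pair and are
quasi-compact is decent. -/
theorem isDecent_of_compact {F : Sp S} (hF : IsAlgSpace F)
    (h1 : ∀ (p : FieldPt F) (R : Over S) (s t : R ⟶ p.pt),
      IsPullback ((yon S).map t) ((yon S).map s) p.toHom p.toHom → CompactSpace ↥R.left)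
    (h2 : ∀ p : FieldPt F, RepWith @QuasiCompact p.toHom) : IsDecent F := by
  intro x
  obtain ⟨U, a, u, ha, rfl⟩ := Groth.Agent.Lib.Seat45.Charts.exists_chart hF x
  obtain ⟨p, c, -, hx, hmono, -⟩ := exists_mono_point a ha u (h1 (FieldPt.ofPt a u))
  exact ⟨p, hx, hmono, h2 p⟩

/-- quasi-compact diagonal: kernel pairs of field points are quasi-compact. -/
lemma compactSpace_kernelPair_of_qs {F : Sp S} (hX : IsQuasiSeparatedSp F) (p : FieldPt F)
    (R : Over S) (s t : R ⟶ p.pt)
    (sq : IsPullback ((yon S).map t) ((yon S).map s) p.toHom p.toHom) : CompactSpace ↥R.left := by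
  have hqc : QuasiCompact (prod.lift t s).left := Groth.Agent.S9920.property_of_repWith_diag hX sq
  haveI : CompactSpace ↥(pullback p.pt.hom p.pt.hom) :=
    Groth.Agent.Lib.Seat46.FieldQuot.compactSpace_pullback_field (K := p.K) p.str
  haveI : CompactSpace ↥(p.pt ⨯ p.pt).left :=
    QuasiCompact.compactSpace_of_compactSpace (Over.prodLeftIsoPullback p.pt p.pt).hom
  exact QuasiCompact.compactSpace_of_compactSpace (prod.lift t s).left

/-- quasi-compact diagonal: every field point is quasi-compact. -/
lemma quasiCompact_of_qs {F : Sp S} (hF : IsAlgSpace F) (hX : IsQuasiSeparatedSp F) (p : FieldPt F) :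
    RepWith @QuasiCompact p.toHom := by
  refine ⟨hF.representable_from_yon p.toHom, ?_⟩
  intro T W g fst' snd sqW
  obtain ⟨fst, rfl⟩ := (yon S).map_surjective fst'
  change QuasiCompact snd.left
  have hqc : QuasiCompact (prod.lift fst snd).left :=
    Groth.Agent.S9920.property_of_repWith_diag hX sqW
  haveI : QuasiCompact p.pt.hom :=
    Groth.Agent.Lib.Seat46.FieldQuot.quasiCompact_of_field (K := p.K) p.str
  have h1 : snd.left = (prod.lift fst snd).left ≫ (Over.prodLeftIsoPullback p.pt T).hom ≫
      pullback.snd p.pt.hom T.hom := by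
    rw [Over.prodLeftIsoPullback_hom_snd, ← Over.comp_left, prod.lift_snd]
  rw [h1]
  infer_instance

/-- an algebraic space with quasi-compact diagonal is decent. -/
theorem isDecent_of_qs {F : Sp S} (hF : IsAlgSpace F) (hX : IsQuasiSeparatedSp F) : IsDecent F :=
  isDecent_of_compact hF (compactSpace_kernelPair_of_qs hX) (quasiCompact_of_qs hF hX)

end Groth.Agent.Lib.Seat83.MonoPoint
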