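import Mathlib
import Groth.Prelude.Def_AlgSp
import Groth.Prelude.Def_AlgSp2
import Groth.Prelude.Def_AlgSpDec
import Groth.Agent.Lib.Seat83MonoPoint

/-!
# Seat 83: finite fibres of the chart relation and monomorphic points

* `exists_common_ext`: two field points in the same class agree over a common field extension (in terms of `toHom`).
* `finite_of_fibre_finite`: `Spec κ(u') ×_F Spec κ(u)` injects into the fibre of `R = U ×_F U` over `(u, u')`.
* `compactSpace_kernelPair_of_pair`: if `p`, `p'` define the same point and `p' ×_F p` is quasi-compact, then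
  the kernel pair of `p` is quasi-compact.
* `exists_mono_of_finite_fibre`: finite fibre of `|R| → |U| × |U|` over one pair `(u, u')` above `x` gives a
  monomorphism `Spec k ⟶ F` representing `x`.
-/

set_option autoImplicit false
set_option linter.style.haveILetI false

universe u

open CategoryTheory CategoryTheory.Limits AlgebraicGeometry Opposite

namespace Groth.Agent.Lib.Seat83.FinFibre

open AlgSp

variable {S : Scheme.{u}}

/-- two field points in the same class agree over a common field extension. -/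
lemma exists_common_ext {F : Sp S} (p q : FieldPt F) (h : Points.mk p = Points.mk q) :
    ∃ (Ω : Type u) (_ : Field Ω) (w : Spec (CommRingCat.of Ω) ⟶ S) (a : Over.mk w ⟶ p.pt)
      (b : Over.mk w ⟶ q.pt), (yon S).map a ≫ p.toHom = (yon S).map b ≫ q.toHom := by
  obtain ⟨Ω, _, w0, a, b, hab⟩ := Points.mk_eq_mk_iff.1 h
  refine ⟨Ω, inferInstance, w0, a, b, ?_⟩
  apply (J S).uliftYonedaEquiv.injective
  rw [GrothendieckTopology.uliftYonedaEquiv_comp, GrothendieckTopology.uliftYonedaEquiv_comp,
    GrothendieckTopology.uliftYonedaEquiv_uliftYoneda_map,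
    GrothendieckTopology.uliftYonedaEquiv_uliftYoneda_map]
  erw [FieldPt.toHom_app, FieldPt.toHom_app]
  exact hab

/-- a scheme representing `Spec κ(u') ×_F Spec κ(u)` injects into the fibre of the chart relation over
`(u, u')`. -/
lemma finite_of_fibre_finite {F : Sp S} {U : Over S} (a : (yon S).obj U ⟶ F) (u u' : ↥U.left)
    {RU : Over S} (sU tU : RU ⟶ U) (sqU : IsPullback ((yon S).map tU) ((yon S).map sU) a a)
    (hfin : {r : ↥RU.left | sU.left r = u ∧ tU.left r = u'}.Finite)
    (E : Over S) (e₁ : E ⟶ (FieldPt.ofPt a u').pt) (e₂ : E ⟶ (FieldPt.ofPt a u).pt)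
    (sq : IsPullback ((yon S).map e₁) ((yon S).map e₂) (FieldPt.ofPt a u').toHom
      (FieldPt.ofPt a u).toHom) : Finite ↥E.left := by
  let ι : (FieldPt.ofPt a u).pt ⟶ U := Over.homMk (U.left.fromSpecResidueField u) rfl
  let ι' : (FieldPt.ofPt a u').pt ⟶ U := Over.homMk (U.left.fromSpecResidueField u') rfl
  have hP : (FieldPt.ofPt a u).toHom = (yon S).map ι ≫ a := FieldPt.toHom_ofPt a u
  have hP' : (FieldPt.ofPt a u').toHom = (yon S).map ι' ≫ a := FieldPt.toHom_ofPt a u'
  have hw : (yon S).map (e₁ ≫ ι') ≫ a = (yon S).map (e₂ ≫ ι) ≫ a := by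
    rw [Functor.map_comp, Functor.map_comp, Category.assoc, Category.assoc, ← hP, ← hP', sq.w]
  obtain ⟨m, hm⟩ := (yon S).map_surjective (sqU.lift _ _ hw)
  have hm1 : m ≫ tU = e₁ ≫ ι' := by
    apply (yon S).map_injective
    rw [Functor.map_comp, hm, sqU.lift_fst]
  have hm2 : m ≫ sU = e₂ ≫ ι := by
    apply (yon S).map_injective
    rw [Functor.map_comp, hm, sqU.lift_snd]
  haveI : Mono m.left := by
    constructor
    intro Z x x' hxx
    have hx' : x' ≫ E.hom = x ≫ E.hom := by
      rw [← Over.w m, ← Category.assoc, ← hxx, Category.assoc]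
    let X₁ : Over.mk (x ≫ E.hom) ⟶ E := Over.homMk x rfl
    let X₂ : Over.mk (x ≫ E.hom) ⟶ E := Over.homMk x' hx'
    have hXm : X₁ ≫ m = X₂ ≫ m := by
      ext
      exact hxx
    have h1 : X₁ ≫ e₁ = X₂ ≫ e₁ := by
      have h0 : (X₁ ≫ e₁) ≫ ι' = (X₂ ≫ e₁) ≫ ι' := by
        rw [Category.assoc, Category.assoc, ← hm1, ← Category.assoc, ← Category.assoc, hXm]
      ext
      have h' : (X₁ ≫ e₁).left ≫ U.left.fromSpecResidueField u' =
          (X₂ ≫ e₁).left ≫ U.left.fromSpecResidueField u' := congrArg (fun f => f.left) h0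
      exact (cancel_mono (U.left.fromSpecResidueField u')).1 h'
    have h2 : X₁ ≫ e₂ = X₂ ≫ e₂ := by
      have h0 : (X₁ ≫ e₂) ≫ ι = (X₂ ≫ e₂) ≫ ι := by
        rw [Category.assoc, Category.assoc, ← hm2, ← Category.assoc, ← Category.assoc, hXm]
      ext
      have h' : (X₁ ≫ e₂).left ≫ U.left.fromSpecResidueField u =
          (X₂ ≫ e₂).left ≫ U.left.fromSpecResidueField u := congrArg (fun f => f.left) h0
      exact (cancel_mono (U.left.fromSpecResidueField u)).1 h'
    have h3 : X₁ = X₂ := by
      apply (yon S).map_injective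
      apply sq.hom_ext
      · rw [← Functor.map_comp, ← Functor.map_comp, h1]
      · rw [← Functor.map_comp, ← Functor.map_comp, h2]
    exact congrArg (fun f => f.left) h3
  have hinj : Function.Injective m.left := m.left.injective
  have hmem : ∀ e : ↥E.left, m.left e ∈ {r : ↥RU.left | sU.left r = u ∧ tU.left r = u'} := by
    intro e
    constructor
    · have h1 : sU.left (m.left e) = (m ≫ sU).left e := by
        rw [Over.comp_left, Scheme.Hom.comp_apply]
      rw [h1, hm2, Over.comp_left, Scheme.Hom.comp_apply]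
      exact Scheme.fromSpecResidueField_apply _ _
    · have h1 : tU.left (m.left e) = (m ≫ tU).left e := by
        rw [Over.comp_left, Scheme.Hom.comp_apply]
      rw [h1, hm1, Over.comp_left, Scheme.Hom.comp_apply]
      exact Scheme.fromSpecResidueField_apply _ _
  haveI := hfin.to_subtype
  exact Finite.of_injective
    (fun e => (⟨m.left e, hmem e⟩ : {r : ↥RU.left | sU.left r = u ∧ tU.left r = u'}))
    (fun e e' h => hinj (congrArg Subtype.val h))

/-- if `p` and `p'` define the same point and every scheme representing `p' ×_F p` is quasi-compact, then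
every scheme representing the kernel pair of `p` is quasi-compact. -/
lemma compactSpace_kernelPair_of_pair {F : Sp S} (hF : IsAlgSpace F) (p p' : FieldPt F)
    (h : Points.mk p = Points.mk p')
    (hE : ∀ (E : Over S) (e₁ : E ⟶ p'.pt) (e₂ : E ⟶ p.pt),
      IsPullback ((yon S).map e₁) ((yon S).map e₂) p'.toHom p.toHom → CompactSpace ↥E.left)
    (R : Over S) (s t : R ⟶ p.pt)
    (sq : IsPullback ((yon S).map t) ((yon S).map s) p.toHom p.toHom) : CompactSpace ↥R.left := by
  obtain ⟨Ω, _, w, α, β, hαβ⟩ := exists_common_ext p p' h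
  obtain ⟨E, e₁, e₂', sqE'⟩ := hF.representable_from_yon p.toHom p'.toHom
  obtain ⟨e₂, rfl⟩ := (yon S).map_surjective e₂'
  have sqE := sqE'.flip
  haveI : CompactSpace ↥E.left := hE E e₁ e₂ sqE
  obtain ⟨T, a₁, a₂', sqT⟩ := hF.representable_from_yon p.toHom ((yon S).map α ≫ p.toHom)
  obtain ⟨a₂, rfl⟩ := (yon S).map_surjective a₂'
  -- the map to the kernel pair
  have hw1 : (yon S).map (a₁ ≫ α) ≫ p.toHom = (yon S).map a₂ ≫ p.toHom := by
    rw [Functor.map_comp, Category.assoc, sqT.w]
  obtain ⟨m₁, hm₁⟩ := (yon S).map_surjective (sq.lift _ _ hw1)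
  have hm₁t : (yon S).map m₁ ≫ (yon S).map t = (yon S).map a₁ ≫ (yon S).map α := by
    rw [hm₁, sq.lift_fst, Functor.map_comp]
  have hm₁s : (yon S).map m₁ ≫ (yon S).map s = (yon S).map a₂ := by
    rw [hm₁, sq.lift_snd]
  have sq1 : IsPullback ((yon S).map m₁) ((yon S).map a₁) ((yon S).map t) ((yon S).map α) := by
    refine IsPullback.of_right ?_ hm₁t sq.flip
    rw [hm₁s]
    exact sqT
  have sq1' : IsPullback m₁ a₁ t α := IsPullback.of_map (yon S) (by
    apply (yon S).map_injective
    rw [Functor.map_comp, Functor.map_comp, hm₁t]) sq1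
  have sq1'' : IsPullback m₁.left a₁.left t.left α.left := sq1'.map (Over.forget S)
  -- the map to `E`
  have hw2 : (yon S).map (a₁ ≫ β) ≫ p'.toHom = (yon S).map a₂ ≫ p.toHom := by
    rw [Functor.map_comp, Category.assoc, ← hαβ, sqT.w]
  obtain ⟨m₂, hm₂⟩ := (yon S).map_surjective (sqE.lift _ _ hw2)
  have hm₂1 : (yon S).map m₂ ≫ (yon S).map e₁ = (yon S).map a₁ ≫ (yon S).map β := by
    rw [hm₂, sqE.lift_fst, Functor.map_comp]
  have hm₂2 : (yon S).map m₂ ≫ (yon S).map e₂ = (yon S).map a₂ := by
    rw [hm₂, sqE.lift_snd]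
  have sq2 : IsPullback ((yon S).map m₂) ((yon S).map a₁) ((yon S).map e₁) ((yon S).map β) := by
    refine IsPullback.of_right ?_ hm₂1 sqE.flip
    rw [hm₂2, ← hαβ]
    exact sqT
  have sq2' : IsPullback m₂ a₁ e₁ β := IsPullback.of_map (yon S) (by
    apply (yon S).map_injective
    rw [Functor.map_comp, Functor.map_comp, hm₂1]) sq2
  have sq2'' : IsPullback m₂.left a₁.left e₁.left β.left := sq2'.map (Over.forget S)
  -- `T` is quasi-compact
  haveI : IsAffine p'.pt.left := (inferInstance : IsAffine (Spec (CommRingCat.of p'.K)))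
  haveI : IsAffine (Over.mk w).left := (inferInstance : IsAffine (Spec (CommRingCat.of Ω)))
  have hqc1 : QuasiCompact e₁.left := (HasAffineProperty.iff_of_isAffine (P := @QuasiCompact) (f := e₁.left)).2 inferInstance
  have hqc2 : QuasiCompact a₁.left := MorphismProperty.of_isPullback sq2'' hqc1
  haveI : CompactSpace ↥T.left := (HasAffineProperty.iff_of_isAffine (P := @QuasiCompact) (f := a₁.left)).1 hqc2
  -- `T ⟶ R` is surjective
  haveI : Surjective α.left := by
    constructor
    intro y
    haveI : Subsingleton ↥p.pt.left := (inferInstance : Subsingleton (PrimeSpectrum p.K))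
    exact ⟨(⊥ : PrimeSpectrum Ω), Subsingleton.elim _ _⟩
  have hsurj : Surjective m₁.left := MorphismProperty.of_isPullback sq1''.flip inferInstance
  exact Function.Surjective.compactSpace m₁.left.continuous hsurj.surj

/-- **(1) ⇒ (4).**  If the fibre of `|U ×_F U| → |U| × |U|` over one pair `(u, u')` of points above
`x` is finite, then `x` is the class of a monomorphism `Spec k ⟶ F`. -/
theorem exists_mono_of_finite_fibre {F : Sp S} (hF : IsAlgSpace F) {U : Over S}
    (φ : (yon S).obj U ⟶ F) (hφ : RepWith @Etale φ) (u u' : ↥U.left)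
    (he : Points.ofPt φ u = Points.ofPt φ u')
    (hfin : ∀ (R : Over S) (s t : R ⟶ U),
      IsPullback ((yon S).map t) ((yon S).map s) φ φ →
        {r : ↥R.left | s.left r = u ∧ t.left r = u'}.Finite) :
    ∃ (p : FieldPt F) (c : (FieldPt.ofPt φ u).pt ⟶ p.pt),
      (yon S).map c ≫ p.toHom = (FieldPt.ofPt φ u).toHom ∧ Points.mk p = Points.ofPt φ u ∧
      Mono p.toHom ∧ IsFinite c.left ∧ Etale c.left ∧ Surjective c.left := by
  obtain ⟨RU, sU, tU', sqU'⟩ := hφ.1 φ
  obtain ⟨tU, rfl⟩ := (yon S).map_surjective tU'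
  have hcomp := compactSpace_kernelPair_of_pair hF (FieldPt.ofPt φ u) (FieldPt.ofPt φ u') he
    (fun E e₁ e₂ sqE => by
      haveI := finite_of_fibre_finite φ u u' sU tU sqU' (hfin _ _ _ sqU') E e₁ e₂ sqE
      infer_instance)
  exact Groth.Agent.Lib.Seat83.MonoPoint.exists_mono_point φ hφ u hcomp

end Groth.Agent.Lib.Seat83.FinFibre
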