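import Mathlib
import Groth.Agent.Lib.Helper22FTIdeal

/-!
# Quasi-compact opens and supports of finite type ideal sheaves (seat 43)
-/

set_option autoImplicit false
universe u
open CategoryTheory AlgebraicGeometry TopologicalSpace

namespace Groth.Agent.Lib.Seat43.FTSupport

open Groth.Agent.Lib.Helper22.FTIdeal Scheme.IdealSheafData

variable {X : Scheme.{u}}

/-- the complement of the support of a finite type ideal sheaf meets every affine open in a
quasi-compact set -/
theorem isCompact_compl_support_inter (I : X.IdealSheafData) (W : X.affineOpens)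
    (h : (I.ideal W).FG) : IsCompact ((I.support : Set X)ᶜ ∩ W) := by
  obtain ⟨t, ht⟩ := h
  have e : (I.support : Set X)ᶜ ∩ W = ⋃ f ∈ t, (X.basicOpen f : Set X) := by
    have h1 := I.coe_support_inter W
    rw [← ht, Scheme.zeroLocus_span, Scheme.zeroLocus_def] at h1
    ext x
    constructor
    · rintro ⟨hx1, hx2⟩
      have : x ∉ (⋂ f ∈ (t : Set Γ(X, W.1)), (X.basicOpen f).carrierᶜ) ∩ (W : Set X) := by
        rw [← h1]
        exact fun h => hx1 h.1
      simp only [Set.mem_inter_iff, Set.mem_iInter, not_and] at this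
      by_contra hcon
      apply this _ hx2
      intro f hf hxf
      exact hcon (Set.mem_biUnion hf hxf)
    · intro hx
      simp only [Set.mem_iUnion] at hx
      obtain ⟨f, hf, hxf⟩ := hx
      have hxW : x ∈ (W : Set X) := X.basicOpen_le f hxf
      refine ⟨fun hxs => ?_, hxW⟩
      have : x ∈ (⋂ f ∈ (t : Set Γ(X, W.1)), (X.basicOpen f).carrierᶜ) ∩ (W : Set X) := by
        rw [← h1]
        exact ⟨hxs, hxW⟩
      simp only [Set.mem_inter_iff, Set.mem_iInter] at this
      exact this.1 f hf hxf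
  rw [e]
  exact t.isCompact_biUnion fun f _ => (W.2.basicOpen f).isCompact

theorem isCompact_of_ft [CompactSpace X] (U : X.Opens) (I : X.IdealSheafData)
    (hI : ∀ V : X.affineOpens, (I.ideal V).FG) (hU : (I.support : Set X) = (U : Set X)ᶜ) :
    IsCompact (U : Set X) := by
  obtain ⟨s, hs, hsX⟩ := isCompact_iff_finite_and_eq_biUnion_affineOpens.mp
    (show IsCompact ((⊤ : X.Opens) : Set X) from isCompact_univ)
  have e : (U : Set X) = ⋃ W ∈ s, ((I.support : Set X)ᶜ ∩ (W : X.affineOpens)) := by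
    rw [hU, compl_compl, ← Set.inter_iUnion₂]
    have : (⋃ W ∈ s, ((W : X.affineOpens) : Set X)) = Set.univ := by
      have := congrArg (fun O : X.Opens => (O : Set X)) hsX
      simpa using this.symm
    rw [this, Set.inter_univ]
  rw [e]
  exact hs.isCompact_biUnion fun W _ => isCompact_compl_support_inter I W (hI W)

theorem exists_ft_of_isCompact [CompactSpace X] [QuasiSeparatedSpace X] (U : X.Opens)
    (hU : IsCompact (U : Set X)) :
    ∃ I : X.IdealSheafData, (∀ V : X.affineOpens, (I.ideal V).FG) ∧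
      (I.support : Set X) = (U : Set X)ᶜ := by
  let Zc : Closeds X := ⟨(U : Set X)ᶜ, U.2.isClosed_compl⟩
  let J := vanishingIdeal Zc
  have hJ : (J.support : Set X) = (U : Set X)ᶜ := coe_support_vanishingIdeal Zc
  have : Nonempty (ftSub J) := ⟨⟨⊥, bot_mem_ftSub J⟩⟩
  have hcov : (U : Set X) ⊆ ⋃ K : ftSub J, ((K.1.support : Set X)ᶜ) := by
    have h1 : (sSup (ftSub J)).support = J.support := by rw [sSup_ftSub]
    rw [support_sSup] at h1
    have h2 := congrArg (fun C : Closeds X => (C : Set X)) h1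
    simp only [Closeds.coe_iInf] at h2
    intro x hx
    have hx' : x ∉ (J.support : Set X) := by rw [hJ]; exact fun h => h hx
    rw [← h2] at hx'
    simp only [Set.mem_iInter, not_forall] at hx'
    obtain ⟨K, hK, hxK⟩ := hx'
    exact Set.mem_iUnion.mpr ⟨⟨K, hK⟩, hxK⟩
  have hdir : Directed (· ⊆ ·) fun K : ftSub J => ((K.1.support : Set X)ᶜ) := by
    intro K₁ K₂
    refine ⟨⟨K₁.1 ⊔ K₂.1, sup_mem_ftSub K₁.2 K₂.2⟩, ?_, ?_⟩
    · exact Set.compl_subset_compl.mpr (support_antitone (le_sup_left : K₁.1 ≤ K₁.1 ⊔ K₂.1))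
    · exact Set.compl_subset_compl.mpr (support_antitone (le_sup_right : K₂.1 ≤ K₁.1 ⊔ K₂.1))
  obtain ⟨K, hK⟩ := hU.elim_directed_cover _ (fun K => K.1.support.isClosed.isOpen_compl) hcov hdir
  refine ⟨K.1, K.2.2, ?_⟩
  apply Set.Subset.antisymm
  · exact Set.subset_compl_comm.mp hK
  · rw [← hJ]
    exact support_antitone K.2.1

end Groth.Agent.Lib.Seat43.FTSupport
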