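import Mathlib

/-!
# Descending a morphism from the spectrum of a local ring to a subring of a subfield (seat 43)

`exists_lift_of_subring`: let `R''` be a local ring inside a field `K''`, `L` a subfield of `K''` and
`R₀ ⊂ L` the preimage of `R''`.  A morphism `Spec R'' ⟶ T` to a scheme whose restriction to `Spec K''` factors
through a given `Spec L ⟶ T` descends to `Spec R₀ ⟶ T`.
-/

set_option autoImplicit false
universe u
open CategoryTheory CategoryTheory.Limits AlgebraicGeometry Opposite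

namespace Groth.Agent.Lib.Seat43.ValLift

theorem exists_lift_of_subring {T : Scheme.{u}} {R₀ L R'' K'' : Type u} [CommRing R₀] [Field L]
    [CommRing R''] [IsLocalRing R''] [Field K'']
    (ι₀ : R₀ →+* L) (φ₀ : R₀ →+* R'') (ρ : L →+* K'') (ι'' : R'' →+* K'')
    (hι₀ : Function.Injective ι₀) (hι'' : Function.Injective ι'')
    (hcomm : ρ.comp ι₀ = ι''.comp φ₀)
    (hpre : ∀ x : L, (∃ r, ι'' r = ρ x) → ∃ r₀, ι₀ r₀ = x)
    (g'' : Spec (CommRingCat.of R'') ⟶ T) (gL : Spec (CommRingCat.of L) ⟶ T)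
    (hg : Spec.map (CommRingCat.ofHom ρ) ≫ gL = Spec.map (CommRingCat.ofHom ι'') ≫ g'') :
    ∃ g : Spec (CommRingCat.of R₀) ⟶ T, Spec.map (CommRingCat.ofHom ι₀) ≫ g = gL ∧
      Spec.map (CommRingCat.ofHom φ₀) ≫ g = g'' := by
  let a : ↥T := g'' (IsLocalRing.closedPoint R'')
  let b : ↥T := gL (IsLocalRing.closedPoint L)
  have hspec : b ⤳ a := by
    have h1 : IsLocalRing.closedPoint L =
        (Spec.map (CommRingCat.ofHom ρ)) (IsLocalRing.closedPoint K'') := Subsingleton.elim _ _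
    have h2 : b = g'' ((Spec.map (CommRingCat.ofHom ι'')) (IsLocalRing.closedPoint K'')) := by
      show gL (IsLocalRing.closedPoint L) = _
      rw [h1, ← Scheme.Hom.comp_apply, hg, Scheme.Hom.comp_apply]
    rw [h2]
    exact (IsLocalRing.specializes_closedPoint _).map g''.continuous
  let ρ'' : T.presheaf.stalk a ⟶ CommRingCat.of R'' := Scheme.stalkClosedPointTo g''
  let ρb : T.presheaf.stalk b ⟶ CommRingCat.of L := Scheme.stalkClosedPointTo gL
  have hg''e : Spec.map ρ'' ≫ T.fromSpecStalk a = g'' :=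
    Scheme.Spec_stalkClosedPointTo_fromSpecStalk g''
  have hgLe : Spec.map ρb ≫ T.fromSpecStalk b = gL :=
    Scheme.Spec_stalkClosedPointTo_fromSpecStalk gL
  obtain ⟨ρL, hρL⟩ : ∃ ρL : T.presheaf.stalk a ⟶ CommRingCat.of L,
      ρL = T.presheaf.stalkSpecializes hspec ≫ ρb := ⟨_, rfl⟩
  have hgLe' : Spec.map ρL ≫ T.fromSpecStalk a = gL := by
    rw [hρL, Spec.map_comp, Category.assoc, Scheme.SpecMap_stalkSpecializes_fromSpecStalk, hgLe]
  have hcompat : ρL ≫ CommRingCat.ofHom ρ = ρ'' ≫ CommRingCat.ofHom ι'' := by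
    apply Spec.map_injective
    rw [← cancel_mono (T.fromSpecStalk a)]
    calc Spec.map (ρL ≫ CommRingCat.ofHom ρ) ≫ T.fromSpecStalk a
        = Spec.map (CommRingCat.ofHom ρ) ≫ (Spec.map ρL ≫ T.fromSpecStalk a) := by
          rw [Spec.map_comp, Category.assoc]
      _ = Spec.map (CommRingCat.ofHom ι'') ≫ (Spec.map ρ'' ≫ T.fromSpecStalk a) := by
          rw [hgLe', hg''e, hg]
      _ = Spec.map (ρ'' ≫ CommRingCat.ofHom ι'') ≫ T.fromSpecStalk a := by
          rw [Spec.map_comp, Category.assoc]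
  have hcompat' : ∀ s, ρ (ρL.hom s) = ι'' (ρ''.hom s) := fun s =>
    congrArg (fun m => m.hom s) hcompat
  have hmem : ∀ s, ρL.hom s ∈ ι₀.range := fun s => by
    obtain ⟨r₀, hr₀⟩ := hpre (ρL.hom s) ⟨ρ''.hom s, (hcompat' s).symm⟩
    exact ⟨r₀, hr₀⟩
  let eq : R₀ ≃+* ι₀.range := RingEquiv.ofLeftInverse (g := Function.invFun ι₀)
    (Function.leftInverse_invFun hι₀)
  let ρ₀ : T.presheaf.stalk a →+* R₀ :=
    eq.symm.toRingHom.comp (ρL.hom.codRestrict ι₀.range hmem)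
  have hρ₀ : ∀ s, ι₀ (ρ₀ s) = ρL.hom s := by
    intro s
    have h1 : (eq (ρ₀ s) : L) = ι₀ (ρ₀ s) := rfl
    rw [← h1]
    show ((eq (eq.symm (ρL.hom.codRestrict ι₀.range hmem s))) : L) = _
    rw [RingEquiv.apply_symm_apply]
    rfl
  have hρ₀'' : ∀ s, φ₀ (ρ₀ s) = ρ''.hom s := by
    intro s
    apply hι''
    have h1 : ι'' (φ₀ (ρ₀ s)) = ρ (ι₀ (ρ₀ s)) := (congrArg (fun m => m (ρ₀ s)) hcomm).symm
    rw [h1, hρ₀, hcompat']
  refine ⟨Spec.map (CommRingCat.ofHom ρ₀) ≫ T.fromSpecStalk a, ?_, ?_⟩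
  · rw [← Category.assoc, ← Spec.map_comp, ← hgLe']
    congr 2
    ext s
    exact hρ₀ s
  · rw [← Category.assoc, ← Spec.map_comp, ← hg''e]
    congr 2
    ext s
    exact hρ₀'' s

end Groth.Agent.Lib.Seat43.ValLift
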