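import Mathlib
import Groth.Agent.Lib.Helper6ReducedSmooth

/-!
# Reducedness of local rings along étale morphisms (seat 45)
-/

set_option autoImplicit false
set_option linter.style.haveILetI false
set_option linter.deprecated false
universe u

open TensorProduct CategoryTheory AlgebraicGeometry

namespace Groth.Agent.Lib.Seat45.EtRed

attribute [local instance] Algebra.TensorProduct.rightAlgebra in
/-- Localizations of an étale algebra at primes over a prime with reduced local ring are reduced. -/
theorem isReduced_atPrime_of_etale {A B : Type u} [CommRing A] [CommRing B] [Algebra A B]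
    [Algebra.Etale A B] (q : Ideal B) [q.IsPrime] (p : Ideal A) [p.IsPrime]
    (hpq : q.comap (algebraMap A B) = p)
    (Ap : Type u) [CommRing Ap] [Algebra A Ap] [IsLocalization.AtPrime Ap p] [IsReduced Ap]
    (Bq : Type u) [CommRing Bq] [Algebra B Bq] [IsLocalization.AtPrime Bq q] : IsReduced Bq := by
  let Bp := Ap ⊗[A] B
  haveI : Algebra.Etale Ap Bp := inferInstance
  haveI : IsReduced Bp := Groth.Agent.Lib.Helper6.isReduced_of_smooth Ap Bp
  let M := Algebra.algebraMapSubmonoid B p.primeCompl
  haveI hloc : IsLocalization M Bp := IsLocalization.tensorRight Ap p.primeCompl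
  have hdisj : Disjoint (M : Set B) (q : Set B) := by
    rw [Set.disjoint_left]
    rintro _ ⟨a, ha, rfl⟩ hq
    apply ha
    rw [← hpq]
    exact hq
  let q' : Ideal Bp := q.map (algebraMap B Bp)
  haveI hq' : q'.IsPrime := IsLocalization.isPrime_of_isPrime_disjoint M Bp q inferInstance hdisj
  have hcomap : q'.comap (algebraMap B Bp) = q :=
    IsLocalization.comap_map_of_isPrime_disjoint M Bp inferInstance hdisj
  let T := Localization.AtPrime q'
  haveI : IsReduced T := isReduced_localizationPreserves q'.primeCompl T inferInstance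
  haveI h1 : IsLocalization.AtPrime T (q'.comap (algebraMap B Bp)) :=
    IsLocalization.isLocalization_isLocalization_atPrime_isLocalization M T q'
  have h3 : (q'.comap (algebraMap B Bp)).primeCompl = q.primeCompl := by
    ext x
    simp only [Ideal.mem_primeCompl_iff]
    rw [hcomap]
  haveI h2 : IsLocalization q.primeCompl T := by
    rw [← h3]; exact h1
  let e : Bq ≃ₐ[B] T := IsLocalization.algEquiv q.primeCompl Bq T
  exact isReduced_of_injective e.toRingEquiv.toRingHom e.injective

variable {X Y : Scheme.{u}}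

/-- Reducedness of the local ring descends along flat morphisms. -/
lemma isReduced_stalk_of_flat (g : X ⟶ Y) [Flat g] (x : X)
    (h : _root_.IsReduced (X.presheaf.stalk x)) : _root_.IsReduced (Y.presheaf.stalk (g x)) := by
  have hfl : (g.stalkMap x).hom.Flat := Flat.stalkMap g x
  have hloc : IsLocalHom (g.stalkMap x).hom := inferInstance
  algebraize [(g.stalkMap x).hom]
  have : IsLocalHom (algebraMap (Y.presheaf.stalk (g x)) (X.presheaf.stalk x)) := hloc
  haveI : Module.FaithfullyFlat (Y.presheaf.stalk (g x)) (X.presheaf.stalk x) :=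
    Module.FaithfullyFlat.of_flat_of_isLocalHom
  exact isReduced_of_injective (algebraMap (Y.presheaf.stalk (g x)) (X.presheaf.stalk x))
    (FaithfulSMul.algebraMap_injective _ _)

/-- Reducedness of the local ring ascends along étale morphisms. -/
lemma isReduced_stalk_of_etale (g : X ⟶ Y) [Etale g] (x : X)
    (h : _root_.IsReduced (Y.presheaf.stalk (g x))) : _root_.IsReduced (X.presheaf.stalk x) := by
  obtain ⟨U, hU, hgx, -⟩ := TopologicalSpace.Opens.isBasis_iff_nbhd.mp Y.isBasis_affineOpens
    (TopologicalSpace.Opens.mem_top (g x))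
  obtain ⟨V, hV, hxV, eV⟩ := TopologicalSpace.Opens.isBasis_iff_nbhd.mp X.isBasis_affineOpens
    (show x ∈ g ⁻¹ᵁ U from hgx)
  have het : (g.appLE U V eV).hom.Etale :=
    HasRingHomProperty.appLE (P := @Etale) g inferInstance ⟨U, hU⟩ ⟨V, hV⟩ eV
  algebraize [(g.appLE U V eV).hom]
  haveI : Algebra.Etale Γ(Y, U) Γ(X, V) := het
  letI := X.presheaf.algebra_section_stalk (⟨x, hxV⟩ : V)
  haveI := hV.isLocalization_stalk ⟨x, hxV⟩
  letI := Y.presheaf.algebra_section_stalk (⟨g x, hgx⟩ : U)
  haveI := hU.isLocalization_stalk ⟨g x, hgx⟩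
  exact isReduced_atPrime_of_etale (A := Γ(Y, U)) (B := Γ(X, V))
    (hV.primeIdealOf ⟨x, hxV⟩).asIdeal (hU.primeIdealOf ⟨g x, hgx⟩).asIdeal
    (congrArg PrimeSpectrum.asIdeal (IsAffineOpen.comap_primeIdealOf_appLE U hU V hV eV hxV))
    (Y.presheaf.stalk (g x)) (X.presheaf.stalk x)

lemma isReduced_stalk_iff_of_etale (g : X ⟶ Y) [Etale g] (x : X) :
    _root_.IsReduced (X.presheaf.stalk x) ↔ _root_.IsReduced (Y.presheaf.stalk (g x)) :=
  ⟨isReduced_stalk_of_flat g x, isReduced_stalk_of_etale g x⟩

end Groth.Agent.Lib.Seat45.EtRed
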