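import Mathlib
import Groth.Prelude.Def_AlgSp
import Groth.Agent.S10212
import Groth.Agent.S10261
import Groth.Agent.S10176
import Groth.Agent.S10177
import Groth.Agent.S10555
import Groth.Agent.Lib.Seat46FieldQuot
import Groth.Agent.Lib.Helper12ZarGlue
import Groth.Agent.Lib.Helper12ZarGlue2
import Groth.Agent.Lib.Seat45EtRed

/-!
# Algebraic spaces etale over the spectrum of a field are schemes (seat 45)
-/

set_option autoImplicit false
set_option linter.style.haveILetI false
universe u
open CategoryTheory CategoryTheory.Limits AlgebraicGeometry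

namespace Groth.Agent.Lib.Seat45.EtField

open Groth.Agent.Lib.Seat46.FieldQuot

section Sch

variable {K : Type u} [Field K]

/-- a scheme etale over a field is discrete. -/
lemma discreteTopology_of_etale {T : Scheme.{u}} (c : T ⟶ Spec (CommRingCat.of K)) [Etale c] :
    DiscreteTopology T := by
  haveI := Groth.Agent.S10555.lqf_of_etale c
  obtain ⟨y⟩ : Nonempty ↥(Spec (CommRingCat.of K)) := ⟨IsLocalRing.closedPoint K⟩
  have huniv : c ⁻¹' {y} = Set.univ := by
    ext x
    simp only [Set.mem_preimage, Set.mem_univ, iff_true]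
    exact Subsingleton.elim _ _
  have := c.isDiscrete_preimage_singleton y
  rw [huniv] at this
  exact isDiscrete_univ_iff.1 this

/-- a quasi-compact scheme etale over a field is finite (as a set). -/
lemma finite_of_etale_compact {T : Scheme.{u}} (c : T ⟶ Spec (CommRingCat.of K)) [Etale c]
    [CompactSpace T] : Finite T := by
  haveI := discreteTopology_of_etale c
  exact finite_of_compact_of_discrete

/-- a scheme etale over a field is reduced. -/
lemma isReduced_of_etale {T : Scheme.{u}} (c : T ⟶ Spec (CommRingCat.of K)) [Etale c] :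
    IsReduced T := by
  haveI : ∀ x : T, _root_.IsReduced (T.presheaf.stalk x) := fun x =>
    Groth.Agent.Lib.Seat45.EtRed.isReduced_stalk_of_etale c x inferInstance
  exact isReduced_of_isReduced_stalk T

/-- a point of a scheme etale over a field is the image of an open immersion from the spectrum of
a field. -/
lemma exists_point_openImmersion {S : Scheme.{u}} (W : Over S)
    (b : W.left ⟶ Spec (CommRingCat.of K)) [Etale b] (z : ↥W.left) :
    ∃ (K' : Type u) (_ : Field K') (strK : Spec (CommRingCat.of K') ⟶ S) (ι : Over.mk strK ⟶ W)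
      (pt : ↥(Spec (CommRingCat.of K'))), IsOpenImmersion ι.left ∧ ι.left pt = z := by
  haveI : DiscreteTopology ↥W.left := discreteTopology_of_etale b
  haveI : IsReduced W.left := isReduced_of_etale b
  let Vu : W.left.Opens := ⟨{z}, isOpen_discrete _⟩
  haveI : Subsingleton ↥Vu.toScheme :=
    inferInstanceAs (Subsingleton ↥({z} : Set ↥W.left))
  haveI : Nonempty ↥Vu.toScheme := ⟨⟨z, rfl⟩⟩
  haveI : IsReduced Vu.toScheme := inferInstance
  haveI : IsIntegral Vu.toScheme :=
    (isIntegral_iff_irreducibleSpace_and_isReduced _).mpr ⟨⟨inferInstance⟩, inferInstance⟩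
  have hfield : IsField Γ(Vu.toScheme, ⊤) := isField_of_isIntegral_of_subsingleton _
  letI : Field Γ(Vu.toScheme, ⊤) := hfield.toField
  let e : Spec (CommRingCat.of Γ(Vu.toScheme, ⊤)) ≅ Vu.toScheme := Vu.toScheme.isoSpec.symm
  let strK : Spec (CommRingCat.of Γ(Vu.toScheme, ⊤)) ⟶ S := e.hom ≫ Vu.ι ≫ W.hom
  let ιu : Over.mk strK ⟶ W := Over.homMk (e.hom ≫ Vu.ι) (by simp [strK])
  have h1 : IsOpenImmersion ιu.left := by
    show IsOpenImmersion (e.hom ≫ Vu.ι)
    infer_instance
  let pt : ↥(Spec (CommRingCat.of Γ(Vu.toScheme, ⊤))) := e.inv ⟨z, rfl⟩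
  have hpt : ιu.left pt = z := by
    show (e.hom ≫ Vu.ι) (e.inv ⟨z, rfl⟩) = z
    rw [← Scheme.Hom.comp_apply, Iso.inv_hom_id_assoc]
    rfl
  exact ⟨Γ(Vu.toScheme, ⊤), hfield.toField, strK, ιu, pt, h1, hpt⟩

end Sch

section Sp

variable {S : Scheme.{u}} {X : AlgSp.Sp S} {k : Type u} [Field k]
  {str : Spec (CommRingCat.of k) ⟶ S}

/-- the kernel pair of an etale point of a space etale over a field is quasi-compact. -/
lemma compactSpace_kernelPair {K : Type u} [Field K] {strK : Spec (CommRingCat.of K) ⟶ S}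
    (f : X ⟶ (AlgSp.yon S).obj (Over.mk str))
    (q : (AlgSp.yon S).obj (Over.mk strK) ⟶ X) (c : Over.mk strK ⟶ Over.mk str) [Etale c.left]
    (hc : (AlgSp.yon S).map c = q ≫ f)
    {R : Over S} (s t : R ⟶ Over.mk strK)
    (sq : IsPullback ((AlgSp.yon S).map t) ((AlgSp.yon S).map s) q q) :
    CompactSpace ↥R.left := by
  have w : t ≫ c = s ≫ c := by
    apply (AlgSp.yon S).map_injective
    rw [Functor.map_comp, Functor.map_comp, hc, ← Category.assoc, sq.w, Category.assoc]
  have wl : t.left ≫ c.left = s.left ≫ c.left := by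
    rw [← Over.comp_left, ← Over.comp_left, w]
  let lam : R.left ⟶ pullback c.left c.left := pullback.lift t.left s.left wl
  have hcw : c.left ≫ str = strK := Over.w c
  let μ : pullback c.left c.left ⟶ pullback strK strK :=
    pullback.lift (pullback.fst _ _) (pullback.snd _ _) (by
      have h := pullback.condition (f := c.left) (g := c.left)
      calc pullback.fst c.left c.left ≫ strK
          = (pullback.fst c.left c.left ≫ c.left) ≫ str := by rw [Category.assoc, hcw]
        _ = (pullback.snd c.left c.left ≫ c.left) ≫ str := by rw [h]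
        _ = pullback.snd c.left c.left ≫ strK := by rw [Category.assoc, hcw])
  have hμ1 : μ ≫ pullback.fst strK strK = pullback.fst _ _ := pullback.lift_fst _ _ _
  have hμ2 : μ ≫ pullback.snd strK strK = pullback.snd _ _ := pullback.lift_snd _ _ _
  have hl1 : lam ≫ pullback.fst _ _ = t.left := pullback.lift_fst _ _ _
  have hl2 : lam ≫ pullback.snd _ _ = s.left := pullback.lift_snd _ _ _
  have hfac : lam ≫ μ = ι s t := by
    apply pullback.hom_ext
    · rw [Category.assoc, hμ1, hl1]; exact (ι_fst (s := s) (t := t)).symm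
    · rw [Category.assoc, hμ2, hl2]; exact (ι_snd (s := s) (t := t)).symm
  haveI : Mono (ι s t) := mono_ι sq
  haveI : Mono lam := mono_of_mono_fac hfac
  haveI : Etale (pullback.fst c.left c.left) := inferInstance
  haveI : IsAffine (Over.mk strK).left := inferInstanceAs (IsAffine (Spec (CommRingCat.of K)))
  haveI : IsAffine (Over.mk str).left := inferInstanceAs (IsAffine (Spec (CommRingCat.of k)))
  haveI : CompactSpace ↥(pullback c.left c.left) := inferInstance
  haveI : Finite ↥(pullback c.left c.left) :=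
    finite_of_etale_compact (K := K) (pullback.fst c.left c.left)
  haveI : Finite ↥R.left := Finite.of_injective lam lam.injective
  infer_instance

/-- an etale point of a space etale over a field factors through an open immersion from the
spectrum of a field. -/
theorem exists_open_point (hX : AlgSp.IsAlgSpace X) {K : Type u} [Field K]
    {strK : Spec (CommRingCat.of K) ⟶ S}
    (f : X ⟶ (AlgSp.yon S).obj (Over.mk str)) (hf : AlgSp.IsEtaleMor f)
    (q : (AlgSp.yon S).obj (Over.mk strK) ⟶ X) (hq : AlgSp.RepWith @Etale q) :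
    ∃ (V : Over S) (c : Over.mk strK ⟶ V) (m : (AlgSp.yon S).obj V ⟶ X),
      (AlgSp.yon S).map c ≫ m = q ∧ AlgSp.RepWith @IsOpenImmersion m := by
  obtain ⟨R, s, fst, sq0⟩ := hq.1 q
  obtain ⟨t, rfl⟩ := (AlgSp.yon S).map_surjective fst
  haveI : Etale s.left := hq.2 _ _ _ sq0
  have hqf : AlgSp.RepWith @Etale (q ≫ f) := hf q hq
  obtain ⟨c0, hc0⟩ := (AlgSp.yon S).map_surjective (q ≫ f)
  haveI : Etale c0.left := (AlgSp.repWith_yon_map_iff _ _).1 (hc0 ▸ hqf)
  haveI : CompactSpace ↥R.left := compactSpace_kernelPair f q c0 hc0 s t sq0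
  obtain ⟨k', fld, str', c, m, hm, hmono, hfin, het, hsurj⟩ := exists_mono_factor strK q s t sq0
  refine ⟨Over.mk str', c, m, hm, ?_⟩
  haveI := hmono
  haveI := het
  haveI := hsurj
  have hmet : AlgSp.RepWith @Etale m :=
    Groth.Agent.S10212.repWith_etale_of_comp_surjective_etale c m
      (hX.representable_from_yon _) (hm ▸ hq)
  refine Groth.Agent.S10261.repWith_isOpenImmersion_of_mono (AlgSp.IsAlgSpace.yon_obj _) m ?_
  intro W φ hφ
  exact (AlgSp.RepWith @Etale).comp_mem _ _ hφ hmet

open Groth.Agent.Lib.Helper12 in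
/-- **An algebraic space etale over the spectrum of a field is a scheme.** -/
theorem isRepresentable_of_isEtaleMor (hX : AlgSp.IsAlgSpace X)
    (f : X ⟶ (AlgSp.yon S).obj (Over.mk str)) (hf : AlgSp.IsEtaleMor f) :
    X.obj.IsRepresentable := by
  obtain ⟨U, p, hpe, hps⟩ := hX.atlas
  obtain ⟨a, ha⟩ := (AlgSp.yon S).map_surjective (p ≫ f)
  haveI : Etale a.left := (AlgSp.repWith_yon_map_iff _ _).1 (ha ▸ hf p hpe)
  have ha' : Etale (a.left : U.left ⟶ Spec (CommRingCat.of k)) := ‹Etale a.left›
  haveI : DiscreteTopology ↥U.left := discreteTopology_of_etale (K := k) a.left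
  haveI : IsReduced U.left := isReduced_of_etale (K := k) a.left
  have key : ∀ u : ↥U.left, ∃ (V : Over S) (m : (AlgSp.yon S).obj V ⟶ X),
      AlgSp.RepWith @IsOpenImmersion m ∧
        AlgSp.Points.ofPt p u ∈ Set.range (AlgSp.Points.map m) := by
    intro u
    let Vu : U.left.Opens := ⟨{u}, isOpen_discrete _⟩
    haveI : Subsingleton ↥Vu.toScheme :=
      inferInstanceAs (Subsingleton ↥({u} : Set ↥U.left))
    haveI : Nonempty ↥Vu.toScheme := ⟨⟨u, rfl⟩⟩
    haveI : IsReduced Vu.toScheme := inferInstance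
    haveI : IsIntegral Vu.toScheme :=
      (isIntegral_iff_irreducibleSpace_and_isReduced _).mpr ⟨⟨inferInstance⟩, inferInstance⟩
    have hfield : IsField Γ(Vu.toScheme, ⊤) := isField_of_isIntegral_of_subsingleton _
    letI : Field Γ(Vu.toScheme, ⊤) := hfield.toField
    let e : Spec (CommRingCat.of Γ(Vu.toScheme, ⊤)) ≅ Vu.toScheme := Vu.toScheme.isoSpec.symm
    let strK : Spec (CommRingCat.of Γ(Vu.toScheme, ⊤)) ⟶ S := e.hom ≫ Vu.ι ≫ U.hom
    let ιu : Over.mk strK ⟶ U := Over.homMk (e.hom ≫ Vu.ι) (by simp [strK])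
    haveI : IsOpenImmersion ιu.left := by
      show IsOpenImmersion (e.hom ≫ Vu.ι)
      infer_instance
    have hq : AlgSp.RepWith @Etale ((AlgSp.yon S).map ιu ≫ p) :=
      (AlgSp.RepWith @Etale).comp_mem _ _ ((AlgSp.repWith_yon_map_iff _ _).2 inferInstance) hpe
    obtain ⟨V, c, m, hm, hmo⟩ := exists_open_point hX f hf _ hq
    refine ⟨V, m, hmo, ?_⟩
    let pt : ↥(Spec (CommRingCat.of Γ(Vu.toScheme, ⊤))) := e.inv ⟨u, rfl⟩
    have hpt : ιu.left pt = u := by
      show (e.hom ≫ Vu.ι) (e.inv ⟨u, rfl⟩) = u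
      rw [← Scheme.Hom.comp_apply, Iso.inv_hom_id_assoc]
      rfl
    refine ⟨AlgSp.Points.ofPt ((AlgSp.yon S).map c) pt, ?_⟩
    rw [AlgSp.Points.map_ofPt, hm, Groth.Agent.S10176.ofPt_map_comp, hpt]
  choose V m hmo hmem using key
  have hs : ZarGlue.JointlySurjective hmo := by
    intro T g t
    obtain ⟨u, hu⟩ := Groth.Agent.S10177.surjective_ofPt p hps (AlgSp.Points.ofPt g t)
    refine ⟨u, ZarGlue.mem_range_of_mem_range_map (m u) g _ _ ((hmo u).rep.isPullback g) t ?_⟩
    rw [← hu]
    exact hmem u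
  obtain ⟨W₀, e₀, -, -, -⟩ := ZarGlue.exists_iso hmo hs
  exact ⟨W₀, ⟨AlgSp.representableByOfIso e₀⟩⟩

end Sp

end Groth.Agent.Lib.Seat45.EtField
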