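import Mathlib
import Groth.Agent.Lib.Seat43ValLift
import Groth.Agent.Lib.Seat43CutOut
import Groth.Agent.Lib.Seat45EtField
import Groth.Agent.S10292
import Groth.Agent.S9906

/-!
# In the existence part of the valuative criterion finite separable extensions suffice (seat 43)

`exists_finSep_lift`: a valuative square for a morphism of algebraic spaces that has a lift after some
dominating extension has one after a dominating extension whose fraction field is finite separable.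
-/

set_option autoImplicit false
universe u
open CategoryTheory CategoryTheory.Limits AlgebraicGeometry Opposite
open AlgSp

namespace Groth.Agent.Lib.Seat43.FinSepVC

open Groth.Agent.Lib.Seat43.CutOut

/-- the valuation subring of `L` cut out by a valuation ring `A''` of a field `K''` along `ρ : L → K''`. -/
noncomputable def AL {A'' K'' L : Type u} [CommRing A''] [IsDomain A''] [ValuationRing A''] [Field K'']
    [Algebra A'' K''] [IsFractionRing A'' K''] [Field L] (ρ : L →+* K'') : ValuationSubring L :=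
  ((ValuationRing.valuation A'' K'').valuationSubring).comap ρ

lemma mem_AL {A'' K'' L : Type u} [CommRing A''] [IsDomain A''] [ValuationRing A''] [Field K'']
    [Algebra A'' K''] [IsFractionRing A'' K''] [Field L] (ρ : L →+* K'') (x : L) :
    x ∈ AL (A'' := A'') ρ ↔ ∃ a : A'', algebraMap A'' K'' a = ρ x := by
  rw [AL, ValuationSubring.mem_comap]
  exact ValuationRing.mem_integer_iff A'' K'' (ρ x)

lemma exists_toA {A'' K'' L : Type u} [CommRing A''] [IsDomain A''] [ValuationRing A''] [Field K'']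
    [Algebra A'' K''] [IsFractionRing A'' K''] [Field L] (ρ : L →+* K'') :
    ∃ φ₀ : ↥(AL (A'' := A'') ρ) →+* A'', ∀ r, algebraMap A'' K'' (φ₀ r) = ρ (r : L) := by
  have hmem : ∀ r : ↥(AL (A'' := A'') ρ),
      ρ (r : L) ∈ (ValuationRing.valuation A'' K'').integer := by
    intro r
    rw [ValuationRing.mem_integer_iff]
    exact (mem_AL ρ r).1 r.2
  let c : ↥(AL (A'' := A'') ρ) →+* (ValuationRing.valuation A'' K'').integer :=
    (ρ.comp (AL (A'' := A'') ρ).subtype).codRestrict _ hmem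
  refine ⟨(ValuationRing.equivInteger A'' K'').symm.toRingHom.comp c, fun r => ?_⟩
  have h1 := ValuationRing.coe_equivInteger_apply A'' K''
    ((ValuationRing.equivInteger A'' K'').symm (c r))
  rw [RingEquiv.apply_symm_apply] at h1
  exact h1.symm

lemma finite_separable_of_etale {k L : Type u} [Field k] [Field L] (ψ : k →+* L)
    (h : Etale (Spec.map (CommRingCat.ofHom ψ))) :
    letI := ψ.toAlgebra
    Module.Finite k L ∧ Algebra.IsSeparable k L := by
  have h1 : (CommRingCat.ofHom ψ).hom.Etale := (HasRingHomProperty.Spec_iff (P := @Etale)).1 h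
  algebraize [ψ]
  have : Algebra.Etale k L := h1
  have : Module.Free k L := Module.Free.of_divisionRing k L
  exact ⟨Algebra.FormallyUnramified.finite_of_free k L, Algebra.FormallyUnramified.isSeparable k L⟩

/-- ring-level data of the valuation ring cut out in an intermediate field. -/
lemma exists_valExt {A K A'' K'' L : Type u} [CommRing A] [IsDomain A] [ValuationRing A] [Field K]
    [Algebra A K] [IsFractionRing A K] [CommRing A''] [IsDomain A''] [ValuationRing A''] [Field K'']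
    [Algebra A'' K''] [IsFractionRing A'' K''] [Field L]
    (φ : A →+* A'') (ψ : K →+* K'') (hcomm : (algebraMap A'' K'').comp φ = ψ.comp (algebraMap A K))
    (hloc : IsLocalHom φ) (ψL : K →+* L) (ρ : L →+* K'') (hρ : ρ.comp ψL = ψ) :
    ∃ (φ₀ : ↥(AL (A'' := A'') ρ) →+* A'') (φA : A →+* ↥(AL (A'' := A'') ρ)),
      (∀ r, algebraMap A'' K'' (φ₀ r) = ρ (r : L)) ∧ Function.Injective φ₀ ∧
      (algebraMap ↥(AL (A'' := A'') ρ) L).comp φA = ψL.comp (algebraMap A K) ∧
      φ₀.comp φA = φ ∧ IsLocalHom φA := by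
  obtain ⟨φ₀, hφ₀⟩ := exists_toA (A'' := A'') ρ
  have hφ₀inj : Function.Injective φ₀ := by
    have h1 : Function.Injective ((algebraMap A'' K'').comp φ₀) := by
      have : ((algebraMap A'' K'').comp φ₀ : _ → _) = ρ ∘ (AL (A'' := A'') ρ).subtype := by
        funext r
        exact hφ₀ r
      rw [this]
      exact ρ.injective.comp Subtype.val_injective
    exact Function.Injective.of_comp h1
  have hkey : ∀ a : A, ρ (ψL (algebraMap A K a)) = algebraMap A'' K'' (φ a) := by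
    intro a
    have h1 : ρ (ψL (algebraMap A K a)) = ψ (algebraMap A K a) :=
      congrArg (fun m => m (algebraMap A K a)) hρ
    rw [h1]
    exact (congrArg (fun m => m a) hcomm).symm
  have hmemA : ∀ a : A, (ψL.comp (algebraMap A K)) a ∈ AL (A'' := A'') ρ := by
    intro a
    rw [mem_AL]
    exact ⟨φ a, (hkey a).symm⟩
  let φA : A →+* ↥(AL (A'' := A'') ρ) :=
    (ψL.comp (algebraMap A K)).codRestrict (AL (A'' := A'') ρ) hmemA
  have hφ₀A : φ₀.comp φA = φ := by
    ext a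
    apply IsFractionRing.injective A'' K''
    show algebraMap A'' K'' (φ₀ (φA a)) = algebraMap A'' K'' (φ a)
    rw [hφ₀]
    exact hkey a
  refine ⟨φ₀, φA, hφ₀, hφ₀inj, rfl, hφ₀A, ⟨fun a ha => ?_⟩⟩
  have h1 : IsUnit (φ₀ (φA a)) := ha.map φ₀
  have h2 : φ₀ (φA a) = φ a := congrArg (fun m => m a) hφ₀A
  rw [h2] at h1
  exact isUnit_of_map_unit φ a h1

lemma exists_fracLift {A' K' A'' K'' : Type u} [CommRing A'] [IsDomain A'] [Field K'] [Algebra A' K']
    [IsFractionRing A' K'] [CommRing A''] [IsDomain A''] [Field K''] [Algebra A'' K'']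
    [IsFractionRing A'' K''] (φ₂ : A' →+* A'') (h : Function.Injective φ₂) :
    ∃ (ψ₂ : K' →+* K''), ψ₂.comp (algebraMap A' K') = (algebraMap A'' K'').comp φ₂ := by
  have hginj : Function.Injective ((algebraMap A'' K'').comp φ₂) :=
    (IsFractionRing.injective A'' K'').comp h
  refine ⟨IsFractionRing.lift hginj, ?_⟩
  ext a
  exact IsFractionRing.lift_algebraMap hginj a

/-- a fraction field of an extension of domains, receiving the given fraction field. -/
lemma exists_fracExt {A' K' A'' : Type u} [CommRing A'] [IsDomain A'] [Field K'] [Algebra A' K']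
    [IsFractionRing A' K'] [CommRing A''] [IsDomain A''] (φ₂ : A' →+* A'')
    (h : Function.Injective φ₂) :
    ∃ (K'' : Type u) (_ : Field K'') (_ : Algebra A'' K'') (_ : IsFractionRing A'' K'')
      (ψ₂ : K' →+* K''), ψ₂.comp (algebraMap A' K') = (algebraMap A'' K'').comp φ₂ := by
  obtain ⟨ψ₂, hψ₂⟩ := exists_fracLift (K' := K') (K'' := FractionRing A'') φ₂ h
  exact ⟨FractionRing A'', inferInstance, inferInstance, inferInstance, ψ₂, hψ₂⟩

variable {S : Scheme.{u}}

set_option backward.isDefEq.respectTransparency false in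
/-- the geometric core: a dominating extension whose valuation ring lifts to an etale atlas of the
base change can be replaced by a finite separable one. -/
theorem finSep_of_atlas_lift {X Y : AlgSp.Space S} (f : X ⟶ Y) (sq : AlgSp.ValSq f.hom)
    (e : sq.DomExt) (Ap : Over S) (p : (AlgSp.yon S).obj Ap ⟶ pullback f.hom sq.bot)
    (hpe : AlgSp.RepWith @Etale p) (l₂ : e.ptA' ⟶ Ap)
    (φ' : e.ptA' ⟶ sq.ptA) (hφ' : φ'.left = Spec.map (CommRingCat.ofHom e.φ))
    (ιK' : e.ptK' ⟶ e.ptA') (hιK' : ιK'.left = Spec.map (CommRingCat.ofHom (algebraMap e.A' e.K')))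
    (ψ' : e.ptK' ⟶ sq.ptK) (hψ' : ψ'.left = Spec.map (CommRingCat.ofHom e.ψ))
    (h1 : (AlgSp.yon S).map l₂ ≫ p ≫ pullback.snd f.hom sq.bot = (AlgSp.yon S).map φ')
    (h2 : (AlgSp.yon S).map ιK' ≫ (AlgSp.yon S).map l₂ ≫ p ≫ pullback.fst f.hom sq.bot =
      (AlgSp.yon S).map ψ' ≫ sq.top) :
    ∃ e₂ : sq.DomExt, (letI := e₂.ψ.toAlgebra;
      Module.Finite sq.K e₂.K' ∧ Algebra.IsSeparable sq.K e₂.K') ∧ e₂.HasLift := by
  obtain ⟨x, hx1, hx2⟩ : ∃ x : (AlgSp.yon S).obj sq.ptK ⟶ pullback f.hom sq.bot,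
      x ≫ pullback.fst f.hom sq.bot = sq.top ∧
      x ≫ pullback.snd f.hom sq.bot = (AlgSp.yon S).map sq.j :=
    ⟨pullback.lift sq.top ((AlgSp.yon S).map sq.j) sq.comm, pullback.lift_fst _ _ _,
      pullback.lift_snd _ _ _⟩
  have hιφ : ιK' ≫ φ' = ψ' ≫ sq.j := by
    apply Over.OverMorphism.ext
    show ιK'.left ≫ φ'.left = ψ'.left ≫ Spec.map _
    rw [hιK', hφ', hψ', ← Spec.map_comp, ← Spec.map_comp, ← CommRingCat.ofHom_comp,
      ← CommRingCat.ofHom_comp, e.comm]
  have hcompat : (AlgSp.yon S).map ιK' ≫ (AlgSp.yon S).map l₂ ≫ p = (AlgSp.yon S).map ψ' ≫ x := by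
    apply pullback.hom_ext
    · rw [Category.assoc, Category.assoc, h2, Category.assoc, hx1]
    · rw [Category.assoc, Category.assoc, h1, Category.assoc, hx2, ← Functor.map_comp,
        ← Functor.map_comp, hιφ]
  -- the generic fibre of the atlas
  obtain ⟨W, w, prW', sqW⟩ := hpe.1 x
  obtain ⟨prW, rfl⟩ := (AlgSp.yon S).map_surjective prW'
  have hwet : Etale w.left := hpe.2 _ _ w sqW
  obtain ⟨t, ht⟩ := (AlgSp.yon S).map_surjective
    (sqW.lift ((AlgSp.yon S).map (ιK' ≫ l₂)) ((AlgSp.yon S).map ψ') (by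
      rw [Functor.map_comp, Category.assoc, hcompat]))
  have ht1 : t ≫ prW = ιK' ≫ l₂ := by
    apply (AlgSp.yon S).map_injective
    rw [Functor.map_comp, ht, sqW.lift_fst]
  have ht2 : t ≫ w = ψ' := by
    apply (AlgSp.yon S).map_injective
    rw [Functor.map_comp, ht, sqW.lift_snd]
  -- the image point and its residue field
  have hwet' : Etale (w.left : W.left ⟶ Spec (CommRingCat.of sq.K)) := hwet
  obtain ⟨L, iL, strL, ιL, ptL, hopen, hptL⟩ :=
    Groth.Agent.Lib.Seat45.EtField.exists_point_openImmersion W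
      (w.left : W.left ⟶ Spec (CommRingCat.of sq.K))
      (t.left (IsLocalRing.closedPoint e.K'))
  have hrange : Set.range t.left ⊆ Set.range ιL.left := by
    rintro _ ⟨y, rfl⟩
    have hy : y = (IsLocalRing.closedPoint e.K' : ↥(Spec (CommRingCat.of e.K'))) :=
      @Subsingleton.elim ↥(Spec (CommRingCat.of e.K')) inferInstance _ _
    rw [hy]
    exact ⟨ptL, hptL⟩
  obtain ⟨τ, hτ⟩ : ∃ τ : Spec (CommRingCat.of e.K') ⟶ Spec (CommRingCat.of L),
      τ ≫ ιL.left = t.left :=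
    ⟨IsOpenImmersion.lift ιL.left t.left hrange, IsOpenImmersion.lift_fac _ _ _⟩
  obtain ⟨ρc, hρc⟩ : ∃ ρc : CommRingCat.of L ⟶ CommRingCat.of e.K', Spec.map ρc = τ :=
    ⟨Spec.preimage _, Spec.map_preimage _⟩
  obtain ⟨ψLc, hψLc⟩ : ∃ ψLc : CommRingCat.of sq.K ⟶ CommRingCat.of L,
      Spec.map ψLc = ιL.left ≫ w.left := ⟨Spec.preimage _, Spec.map_preimage _⟩
  have hρψ : ρc.hom.comp ψLc.hom = e.ψ := by
    have h1 : Spec.map ρc ≫ Spec.map ψLc = Spec.map (CommRingCat.ofHom e.ψ) := by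
      rw [hρc, hψLc, ← Category.assoc, hτ, ← hψ']
      exact congrArg (fun m => m.left) ht2
    rw [← Spec.map_comp] at h1
    exact congrArg (fun m => m.hom) (Spec.map_injective h1)
  -- the valuation ring of `L`
  obtain ⟨φ₀, φA, hφ₀, hφ₀inj, hcommA, hφ₀A, hlocA⟩ :=
    exists_valExt e.φ e.ψ e.comm e.isLocalHom ψLc.hom ρc.hom hρψ
  let e₂ : sq.DomExt :=
    { A' := ↥(AL (A'' := e.A') ρc.hom), K' := L, φ := φA, ψ := ψLc.hom, comm := hcommA,
      isLocalHom := hlocA }
  refine ⟨e₂, ?_, ?_⟩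
  · have hopen' : IsOpenImmersion ιL.left := hopen
    have het : Etale (Spec.map (CommRingCat.ofHom ψLc.hom)) := by
      have h0 : Spec.map (CommRingCat.ofHom ψLc.hom) = ιL.left ≫ w.left := hψLc
      rw [h0]
      infer_instance
    exact finite_separable_of_etale ψLc.hom het
  · -- the lift
    obtain ⟨g, hg1, hg2⟩ := Groth.Agent.Lib.Seat43.ValLift.exists_lift_of_subring
      (T := Ap.left) (algebraMap ↥(AL (A'' := e.A') ρc.hom) L) φ₀ ρc.hom
      (algebraMap e.A' e.K') Subtype.val_injective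
      (IsFractionRing.injective e.A' e.K')
      (by ext r; exact (hφ₀ r).symm)
      (fun y hy => ⟨⟨y, (mem_AL ρc.hom y).2 hy⟩, rfl⟩)
      l₂.left (ιL.left ≫ prW.left)
      (by
        change Spec.map ρc ≫ ιL.left ≫ prW.left = _
        rw [hρc, ← Category.assoc, hτ, ← hιK']
        exact congrArg (fun m => m.left) ht1)
    obtain ⟨qA, hqA⟩ := (AlgSp.yon S).map_surjective (p ≫ pullback.snd f.hom sq.bot)
    have hl₂q : l₂ ≫ qA = φ' := by
      apply (AlgSp.yon S).map_injective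
      rw [Functor.map_comp, hqA, h1]
    have hgq : g ≫ qA.left = Spec.map (CommRingCat.ofHom φA) := by
      have h1' : Spec.map (CommRingCat.ofHom φ₀) ≫ (g ≫ qA.left) =
          Spec.map (CommRingCat.ofHom φ₀) ≫ Spec.map (CommRingCat.ofHom φA) := by
        rw [← Category.assoc, hg2, ← Spec.map_comp, ← CommRingCat.ofHom_comp, hφ₀A, ← hφ']
        exact congrArg (fun m => m.left) hl₂q
      obtain ⟨α, hα⟩ : ∃ α : CommRingCat.of sq.A ⟶ CommRingCat.of ↥(AL (A'' := e.A') ρc.hom),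
          Spec.map α = g ≫ qA.left := ⟨Spec.preimage (g ≫ qA.left), Spec.map_preimage _⟩
      rw [← hα, ← Spec.map_comp, ← Spec.map_comp] at h1'
      have h2' := Spec.map_injective h1'
      rw [← hα]
      congr 1
      apply CommRingCat.hom_ext
      apply RingHom.ext
      intro a
      apply hφ₀inj
      exact congrArg (fun m => m.hom a) h2'
    let gO : e₂.ptA' ⟶ Ap := Over.homMk g (by
      rw [← Over.w qA, ← Category.assoc, hgq]
      rfl)
    have hgOq : gO ≫ qA =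
        (Over.homMk (Spec.map (CommRingCat.ofHom e₂.φ)) rfl : e₂.ptA' ⟶ sq.ptA) := by
      apply Over.OverMorphism.ext
      exact hgq
    refine ⟨(AlgSp.yon S).map gO ≫ p ≫ pullback.fst f.hom sq.bot, ?_, ?_⟩
    · -- compatibility on the generic point
      have hstr : 𝟙 (Spec (CommRingCat.of L)) ≫ strL = e₂.ptK'.hom := by
        rw [Category.id_comp]
        have h1 : strL = ιL.left ≫ W.hom := (Over.w ιL).symm
        have h2 : W.hom = w.left ≫ sq.ptK.hom := (Over.w w).symm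
        rw [h1, h2, ← Category.assoc, ← hψLc]
        show Spec.map ψLc ≫ Spec.map _ ≫ sq.str = Spec.map _ ≫ Spec.map _ ≫ sq.str
        rw [← Spec.map_comp_assoc, ← Spec.map_comp_assoc]
        congr 2
        apply CommRingCat.hom_ext
        exact hcommA.symm
      let c : e₂.ptK' ⟶ Over.mk strL := Over.homMk (𝟙 _) hstr
      have hc1 : (Over.homMk (Spec.map (CommRingCat.ofHom (algebraMap e₂.A' e₂.K'))) rfl :
          e₂.ptK' ⟶ e₂.ptA') ≫ gO = c ≫ ιL ≫ prW := by
        apply Over.OverMorphism.ext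
        show Spec.map _ ≫ g = 𝟙 _ ≫ ιL.left ≫ prW.left
        rw [Category.id_comp]
        exact hg1
      have hc2 : c ≫ ιL ≫ w = (Over.homMk (Spec.map (CommRingCat.ofHom e₂.ψ)) (by
          change Spec.map _ ≫ Spec.map _ ≫ _ = Spec.map _ ≫ Spec.map _ ≫ _
          rw [← Spec.map_comp_assoc, ← Spec.map_comp_assoc, ← CommRingCat.ofHom_comp,
            ← CommRingCat.ofHom_comp, e₂.comm]) : e₂.ptK' ⟶ sq.ptK) := by
        apply Over.OverMorphism.ext
        show 𝟙 _ ≫ ιL.left ≫ w.left = Spec.map _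
        rw [Category.id_comp]
        exact hψLc.symm
      rw [← Category.assoc, ← Functor.map_comp, hc1, Functor.map_comp, Functor.map_comp,
        Category.assoc, Category.assoc, ← Category.assoc ((AlgSp.yon S).map prW), sqW.w,
        Category.assoc, hx1, ← Category.assoc, ← Category.assoc, ← Functor.map_comp,
        ← Functor.map_comp, Category.assoc, hc2]
    · rw [Category.assoc, Category.assoc, pullback.condition, ← Category.assoc p, ← hqA,
        ← Category.assoc, ← Functor.map_comp, hgOq]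

set_option backward.isDefEq.respectTransparency false in
theorem exists_finSep_lift {X Y : AlgSp.Space S} (f : X ⟶ Y) (sq : AlgSp.ValSq f.hom)
    (e : sq.DomExt) (he : e.HasLift) :
    ∃ e₂ : sq.DomExt, (letI := e₂.ψ.toAlgebra;
      Module.Finite sq.K e₂.K' ∧ Algebra.IsSeparable sq.K e₂.K') ∧ e₂.HasLift := by
  obtain ⟨l', hl1, hl2⟩ := he
  have sqP := IsPullback.of_hasPullback f.hom sq.bot
  have hP : AlgSp.IsAlgSpace (pullback f.hom sq.bot) :=
    Groth.Agent.S9874.isAlgSpace_of_isPullback Y.property.diag X.property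
      (AlgSp.IsAlgSpace.yon_obj sq.ptA) sqP
  obtain ⟨φ', hφ'⟩ : ∃ φ' : e.ptA' ⟶ sq.ptA,
      φ' = Over.homMk (Spec.map (CommRingCat.ofHom e.φ)) rfl := ⟨_, rfl⟩
  obtain ⟨ιK', hιK'⟩ : ∃ ιK' : e.ptK' ⟶ e.ptA',
      ιK' = Over.homMk (Spec.map (CommRingCat.ofHom (algebraMap e.A' e.K'))) rfl := ⟨_, rfl⟩
  obtain ⟨ψ', hψ'⟩ : ∃ ψ' : e.ptK' ⟶ sq.ptK,
      ψ' = Over.homMk (Spec.map (CommRingCat.ofHom e.ψ)) (by
        change Spec.map _ ≫ Spec.map _ ≫ _ = Spec.map _ ≫ Spec.map _ ≫ _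
        rw [← Spec.map_comp_assoc, ← Spec.map_comp_assoc, ← CommRingCat.ofHom_comp,
          ← CommRingCat.ofHom_comp, e.comm]) := ⟨_, rfl⟩
  rw [← hιK', ← hψ'] at hl1
  rw [← hφ'] at hl2
  have hφ'l : φ'.left = Spec.map (CommRingCat.ofHom e.φ) := by rw [hφ']; rfl
  have hιK'l : ιK'.left = Spec.map (CommRingCat.ofHom (algebraMap e.A' e.K')) := by
    rw [hιK']; rfl
  have hψ'l : ψ'.left = Spec.map (CommRingCat.ofHom e.ψ) := by rw [hψ']; rfl
  obtain ⟨lam, hlam1, hlam2⟩ : ∃ lam : (AlgSp.yon S).obj e.ptA' ⟶ pullback f.hom sq.bot,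
      lam ≫ pullback.fst f.hom sq.bot = l' ∧
      lam ≫ pullback.snd f.hom sq.bot = (AlgSp.yon S).map φ' :=
    ⟨pullback.lift l' ((AlgSp.yon S).map φ') hl2, pullback.lift_fst _ _ _,
      pullback.lift_snd _ _ _⟩
  -- lift to an atlas after an extension
  obtain ⟨Ap, p, hpe, hps⟩ := hP.atlas
  let PS : AlgSp.Space S := ⟨pullback f.hom sq.bot, hP⟩
  let AS : AlgSp.Space S := ⟨(AlgSp.yon S).obj Ap, AlgSp.IsAlgSpace.yon_obj Ap⟩
  let pS : AS ⟶ PS := ObjectProperty.homMk p
  have hpflat : AlgSp.LocP @Flat pS.hom := locP_flat_of_repWith_etale p hpe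
  obtain ⟨A'', i1, i2, i3, φ₂, hφ₂inj, hφ₂loc, l₂', hl₂⟩ :=
    Groth.Agent.S10292.result pS hpflat e.A' (Spec.map (CommRingCat.ofHom e.φ) ≫ sq.str) lam
      (Groth.Agent.S9906.surjective_map_of_repWith p hps _)
  obtain ⟨l₂o, hl₂o⟩ := (AlgSp.yon S).map_surjective l₂'
  obtain ⟨φ₂o, hφ₂o⟩ : ∃ φ₂o : Over.mk (Spec.map (CommRingCat.ofHom φ₂) ≫
      Spec.map (CommRingCat.ofHom e.φ) ≫ sq.str) ⟶ e.ptA',
      φ₂o = Over.homMk (Spec.map (CommRingCat.ofHom φ₂)) rfl := ⟨_, rfl⟩
  have hl₂p : (AlgSp.yon S).map l₂o ≫ p = (AlgSp.yon S).map φ₂o ≫ lam := by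
    rw [hl₂o, hφ₂o]
    exact hl₂
  have hφ₂ol : φ₂o.left = Spec.map (CommRingCat.ofHom φ₂) := by rw [hφ₂o]; rfl
  -- the new dominating extension
  obtain ⟨K'', iK1, iK2, iK3, ψ₂, hψ₂⟩ := exists_fracExt (K' := e.K') φ₂ hφ₂inj
  have hcomm'' : (algebraMap A'' K'').comp (φ₂.comp e.φ) =
      (ψ₂.comp e.ψ).comp (algebraMap sq.A sq.K) := by
    rw [← RingHom.comp_assoc, ← hψ₂, RingHom.comp_assoc, e.comm, RingHom.comp_assoc]
  have hloc'' : IsLocalHom (φ₂.comp e.φ) := by
    have := e.isLocalHom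
    infer_instance
  let e'' : sq.DomExt :=
    { A' := A'', K' := K'', φ := φ₂.comp e.φ, ψ := ψ₂.comp e.ψ, comm := hcomm'',
      isLocalHom := hloc'' }
  obtain ⟨ident, hident⟩ : ∃ ident : e''.ptA' ⟶ Over.mk (Spec.map (CommRingCat.ofHom φ₂) ≫
      Spec.map (CommRingCat.ofHom e.φ) ≫ sq.str), ident.left = 𝟙 _ :=
    ⟨Over.homMk (𝟙 _) (by
      rw [Category.id_comp]
      show Spec.map _ ≫ Spec.map _ ≫ sq.str = Spec.map _ ≫ sq.str
      rw [← Spec.map_comp_assoc]
      rfl), rfl⟩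
  obtain ⟨φ'', hφ''⟩ : ∃ φ'' : e''.ptA' ⟶ sq.ptA,
      φ''.left = Spec.map (CommRingCat.ofHom e''.φ) := ⟨Over.homMk _ rfl, rfl⟩
  obtain ⟨ιK'', hιK''⟩ : ∃ ιK'' : e''.ptK' ⟶ e''.ptA',
      ιK''.left = Spec.map (CommRingCat.ofHom (algebraMap e''.A' e''.K')) :=
    ⟨Over.homMk _ rfl, rfl⟩
  obtain ⟨ψ'', hψ''⟩ : ∃ ψ'' : e''.ptK' ⟶ sq.ptK,
      ψ''.left = Spec.map (CommRingCat.ofHom e''.ψ) :=
    ⟨Over.homMk (Spec.map (CommRingCat.ofHom e''.ψ)) (by
        change Spec.map _ ≫ Spec.map _ ≫ _ = Spec.map _ ≫ Spec.map _ ≫ _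
        rw [← Spec.map_comp_assoc, ← Spec.map_comp_assoc, ← CommRingCat.ofHom_comp,
          ← CommRingCat.ofHom_comp, e''.comm]), rfl⟩
  obtain ⟨ψ₂o, hψ₂o⟩ : ∃ ψ₂o : e''.ptK' ⟶ e.ptK', ψ₂o.left = Spec.map (CommRingCat.ofHom ψ₂) :=
    ⟨Over.homMk (Spec.map (CommRingCat.ofHom ψ₂)) (by
        change Spec.map _ ≫ Spec.map _ ≫ Spec.map _ ≫ _ = Spec.map _ ≫ Spec.map _ ≫ _
        rw [← Spec.map_comp_assoc, ← Spec.map_comp_assoc, ← Spec.map_comp_assoc,
          ← CommRingCat.ofHom_comp, ← CommRingCat.ofHom_comp, ← CommRingCat.ofHom_comp, hψ₂]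
        rfl), rfl⟩
  have hA : ident ≫ φ₂o ≫ φ' = φ'' := by
    apply Over.OverMorphism.ext
    show ident.left ≫ φ₂o.left ≫ φ'.left = φ''.left
    rw [hident, hφ₂ol, hφ'l, hφ'', Category.id_comp, ← Spec.map_comp]
    rfl
  have hB : ιK'' ≫ ident ≫ φ₂o = ψ₂o ≫ ιK' := by
    apply Over.OverMorphism.ext
    show ιK''.left ≫ ident.left ≫ φ₂o.left = ψ₂o.left ≫ ιK'.left
    rw [hident, hφ₂ol, hιK'', hψ₂o, hιK'l, Category.id_comp, ← Spec.map_comp, ← Spec.map_comp,
      ← CommRingCat.ofHom_comp, ← CommRingCat.ofHom_comp, hψ₂]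
  have hC : ψ₂o ≫ ψ' = ψ'' := by
    apply Over.OverMorphism.ext
    show ψ₂o.left ≫ ψ'.left = ψ''.left
    rw [hψ₂o, hψ'l, hψ'', ← Spec.map_comp]
    rfl
  have h1 : (AlgSp.yon S).map (ident ≫ l₂o) ≫ p ≫ pullback.snd f.hom sq.bot =
      (AlgSp.yon S).map φ'' := by
    rw [Functor.map_comp, Category.assoc, ← Category.assoc ((AlgSp.yon S).map l₂o), hl₂p,
      Category.assoc, hlam2, ← Functor.map_comp, ← Functor.map_comp, hA]
  have h2 : (AlgSp.yon S).map ιK'' ≫ (AlgSp.yon S).map (ident ≫ l₂o) ≫ p ≫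
      pullback.fst f.hom sq.bot = (AlgSp.yon S).map ψ'' ≫ sq.top := by
    rw [Functor.map_comp, Category.assoc, ← Category.assoc ((AlgSp.yon S).map l₂o), hl₂p,
      Category.assoc, hlam1, ← Category.assoc, ← Category.assoc, ← Functor.map_comp,
      ← Functor.map_comp, Category.assoc, hB, Functor.map_comp, Category.assoc, hl1,
      ← Category.assoc, ← Functor.map_comp, hC]
  exact finSep_of_atlas_lift f sq e'' Ap p hpe (ident ≫ l₂o) φ'' hφ'' ιK'' hιK'' ψ'' hψ'' h1 h2

end Groth.Agent.Lib.Seat43.FinSepVC
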