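import Mathlib
import Groth.Agent.Lib.Helper12Proper
import Groth.Agent.S9874
import Groth.Agent.S10174
import Groth.Agent.S10175
import Groth.Agent.S10280

/-!
# Properness along a finite jointly surjective family of closed subspaces (seat 43)
-/

set_option autoImplicit false
universe u
open CategoryTheory CategoryTheory.Limits AlgebraicGeometry
open AlgSp

namespace Groth.Agent.Lib.Seat43.FinUnion

open Groth.Agent.Lib.Helper12.Proper

variable {S : Scheme.{u}}

section

variable {ι : Type*} {W P : AlgSp.Sp S} (h : W ⟶ P) {Q : ι → AlgSp.Sp S} (c : ∀ k, Q k ⟶ W)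

/-- points of a base change of `W` lift to the base change of some member of a jointly surjective
family. -/
lemma exists_point_lift (hsurj : ∀ w : AlgSp.Points W, ∃ k, w ∈ Set.range (AlgSp.Points.map (c k)))
    {W' : AlgSp.Sp S} (fst : W' ⟶ W) (w' : AlgSp.Points W') :
    ∃ (k : ι) (q' : AlgSp.Points (pullback (c k) fst)),
      AlgSp.Points.map (pullback.snd (c k) fst) q' = w' := by
  obtain ⟨k, q, hq⟩ := hsurj (AlgSp.Points.map fst w')
  obtain ⟨q', -, hq'⟩ := Groth.Agent.S10175.exists_point_of_isPullback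
    (IsPullback.of_hasPullback (c k) fst) q w' hq
  exact ⟨k, q', hq'⟩

variable [Finite ι]

/-- universal closedness can be checked on a finite jointly surjective family. -/
theorem isUnivClosedMor_of_family
    (hsurj : ∀ w : AlgSp.Points W, ∃ k, w ∈ Set.range (AlgSp.Points.map (c k)))
    (huc : ∀ k, AlgSp.IsUnivClosedMor (c k ≫ h)) : AlgSp.IsUnivClosedMor h := by
  intro T W' hT t fst snd sq
  have hk : ∀ k, IsClosedMap (AlgSp.Points.map (pullback.snd (c k) fst ≫ snd)) := fun k =>
    huc k hT t (pullback.fst (c k) fst) (pullback.snd (c k) fst ≫ snd)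
      ((IsPullback.of_hasPullback (c k) fst).paste_vert sq)
  intro C hC
  have heq : AlgSp.Points.map snd '' C =
      ⋃ k, AlgSp.Points.map (pullback.snd (c k) fst ≫ snd) ''
        (AlgSp.Points.map (pullback.snd (c k) fst) ⁻¹' C) := by
    ext x
    simp only [Set.mem_image, Set.mem_iUnion, Set.mem_preimage]
    constructor
    · rintro ⟨w', hw', rfl⟩
      obtain ⟨k, q', hq'⟩ := exists_point_lift c hsurj fst w'
      refine ⟨k, q', ?_, ?_⟩
      · rw [hq']; exact hw'
      · rw [AlgSp.Points.map_comp, hq']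
    · rintro ⟨k, q', hq', rfl⟩
      exact ⟨_, hq', (AlgSp.Points.map_comp _ _ _).symm⟩
  rw [heq]
  exact isClosed_iUnion_of_finite fun k =>
    hk k _ (hC.preimage (AlgSp.Points.continuous_map _))

/-- quasi-compactness can be checked on a finite jointly surjective family. -/
theorem isQuasiCompactMor_of_family (hW : AlgSp.IsAlgSpace W) (hP : AlgSp.IsAlgSpace P)
    (hQ : ∀ k, AlgSp.IsAlgSpace (Q k))
    (hsurj : ∀ w : AlgSp.Points W, ∃ k, w ∈ Set.range (AlgSp.Points.map (c k)))
    (hqc : ∀ k, AlgSp.IsQuasiCompactMor (c k ≫ h)) : AlgSp.IsQuasiCompactMor h := by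
  intro T W' hT hTqc t fst snd sq
  have hW' : AlgSp.IsAlgSpace W' :=
    Groth.Agent.S9874.isAlgSpace_of_isPullback hP.diag hW hT sq
  have hQ' : ∀ k, AlgSp.IsAlgSpace (pullback (c k) fst) := fun k =>
    Groth.Agent.S9874.isAlgSpace_of_isPullback hW.diag (hQ k) hW'
      (IsPullback.of_hasPullback (c k) fst)
  have hk : ∀ k, CompactSpace (AlgSp.Points (pullback (c k) fst)) := fun k =>
    (Groth.Agent.S10174.isQuasiCompactSp_iff (hQ' k)).1
      (hqc k hT hTqc t (pullback.fst (c k) fst) (pullback.snd (c k) fst ≫ snd)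
        ((IsPullback.of_hasPullback (c k) fst).paste_vert sq))
  rw [Groth.Agent.S10174.isQuasiCompactSp_iff hW']
  have huniv : (Set.univ : Set (AlgSp.Points W')) =
      ⋃ k, Set.range (AlgSp.Points.map (pullback.snd (c k) fst)) := by
    ext w'
    simp only [Set.mem_univ, Set.mem_iUnion, Set.mem_range, true_iff]
    exact exists_point_lift c hsurj fst w'
  refine isCompact_univ_iff.1 ?_
  rw [huniv]
  exact isCompact_iUnion fun k =>
    haveI := hk k
    isCompact_range (AlgSp.Points.continuous_map _)

/-- separatedness can be checked on a finite jointly surjective family of closed subspaces. -/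
theorem isSeparatedMor_of_family (hW : AlgSp.IsAlgSpace W) (hP : AlgSp.IsAlgSpace P)
    (hsurj : ∀ w : AlgSp.Points W, ∃ k, w ∈ Set.range (AlgSp.Points.map (c k)))
    (hcl : ∀ k, AlgSp.RepWith @IsClosedImmersion (c k))
    (hsep : ∀ k, AlgSp.IsSeparatedMor (c k ≫ h)) : AlgSp.IsSeparatedMor h := by
  refine Groth.Agent.S10280.isSeparatedMor_of_isUnivClosedMor_diagonal
    (X := ⟨W, hW⟩) (Y := ⟨P, hP⟩) (ObjectProperty.homMk h) ?_
  show AlgSp.IsUnivClosedMor (pullback.diagonal h)
  refine isUnivClosedMor_of_family (pullback.diagonal h) c hsurj fun k => ?_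
  have hmap : AlgSp.RepWith @IsClosedImmersion
      (pullback.map (c k ≫ h) (c k ≫ h) h h (c k) (c k) (𝟙 _)
        ((Category.comp_id _).trans rfl) ((Category.comp_id _).trans rfl)) :=
    MorphismProperty.pullbackMap (P := AlgSp.RepWith (S := S) @IsClosedImmersion) (hcl k) (hcl k)
      rfl rfl
  have heq : c k ≫ pullback.diagonal h = pullback.diagonal (c k ≫ h) ≫
      pullback.map (c k ≫ h) (c k ≫ h) h h (c k) (c k) (𝟙 _)
        ((Category.comp_id _).trans rfl) ((Category.comp_id _).trans rfl) := by
    apply pullback.hom_ext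
    · rw [Category.assoc, pullback.diagonal_fst, Category.comp_id, Category.assoc, pullback.map,
        pullback.lift_fst, ← Category.assoc, pullback.diagonal_fst, Category.id_comp]
    · rw [Category.assoc, pullback.diagonal_snd, Category.comp_id, Category.assoc, pullback.map,
        pullback.lift_snd, ← Category.assoc, pullback.diagonal_snd, Category.id_comp]
  rw [heq]
  exact isUnivClosedMor_of_isClosedImmersion _
    ((AlgSp.repWith_isMultiplicative (S := S) @IsClosedImmersion).comp_mem _ _ (hsep k) hmap)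

/-- properness can be checked on a finite jointly surjective family of closed subspaces. -/
theorem isProperMor_of_family (hW : AlgSp.IsAlgSpace W) (hP : AlgSp.IsAlgSpace P)
    (hQ : ∀ k, AlgSp.IsAlgSpace (Q k))
    (hsurj : ∀ w : AlgSp.Points W, ∃ k, w ∈ Set.range (AlgSp.Points.map (c k)))
    (hcl : ∀ k, AlgSp.RepWith @IsClosedImmersion (c k))
    (hlft : AlgSp.LocP @LocallyOfFiniteType h)
    (hprop : ∀ k, AlgSp.IsProperMor (c k ≫ h)) : AlgSp.IsProperMor h :=
  ⟨isSeparatedMor_of_family h c hW hP hsurj hcl fun k => (hprop k).1,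
    ⟨hlft, isQuasiCompactMor_of_family h c hW hP hQ hsurj fun k => (hprop k).2.1.2⟩,
    isUnivClosedMor_of_family h c hsurj fun k => (hprop k).2.2⟩

end

end Groth.Agent.Lib.Seat43.FinUnion
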