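import Mathlib
import Groth.Agent.Lib.Seat43CutOut
import Groth.Agent.S9974
import Groth.Agent.S9947
import Groth.Agent.S9948
import Groth.Prelude.Def_Neron

/-!
# Scheme theoretic closure of a closed subspace of the generic fibre over a Dedekind base (seat 43)
-/

set_option autoImplicit false
universe u
open CategoryTheory CategoryTheory.Limits AlgebraicGeometry Opposite
open AlgSp Groth.Agent.S13210

namespace Groth.Agent.Lib.Seat43.GenFibre

open Groth.Agent.Lib.Seat43.SubSp Groth.Agent.Lib.Seat43.MonoFactor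
  Groth.Agent.Lib.Seat43.SchImage Groth.Agent.Lib.Seat43.QcImage Groth.Agent.Lib.Seat43.QcImage2
  Groth.Agent.Lib.Seat43.QcTrace Groth.Agent.Lib.Seat43.CutOut

section GenPt

variable (R : Type u) [CommRing R]

lemma flat_genPt : Flat (Neron.genPt R) := by
  rw [Flat.SpecMap_iff]
  show (algebraMap R (FractionRing R)).Flat
  rw [RingHom.flat_algebraMap_iff]
  infer_instance

lemma isPreimmersion_genPt : IsPreimmersion (Neron.genPt R) :=
  IsPreimmersion.of_isLocalization (nonZeroDivisors R)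

lemma ker_genPt : (Neron.genPt R).ker = ⊥ := by
  rw [Scheme.ker_of_isAffine, ← Scheme.IdealSheafData.equivOfIsAffine_symm_apply]
  have h : RingHom.ker (Neron.genPt R).appTop.hom = ⊥ := by
    rw [RingHom.ker_eq_bot_iff_eq_zero]
    intro x hx
    have hnat := Scheme.ΓSpecIso_naturality (CommRingCat.ofHom (algebraMap R (FractionRing R)))
    have h1 : (Scheme.ΓSpecIso (CommRingCat.of (FractionRing R))).hom.hom
        ((Neron.genPt R).appTop.hom x) = 0 := by rw [hx, map_zero]
    have h2 : algebraMap R (FractionRing R) ((Scheme.ΓSpecIso (CommRingCat.of R)).hom.hom x) = 0 := by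
      have := congrArg (fun m => m.hom x) hnat
      simp only [CommRingCat.hom_comp, RingHom.comp_apply] at this
      rw [← h1]
      exact this.symm
    have h3 := (IsFractionRing.injective R (FractionRing R)) (h2.trans (map_zero _).symm)
    exact (ConcreteCategory.bijective_of_isIso (Scheme.ΓSpecIso (CommRingCat.of R)).hom).1
      (h3.trans (map_zero _).symm)
  rw [h]
  exact map_bot _

end GenPt

section Main

variable {R : Type u} [CommRing R]

/-- the base change of the generic point of `Spec R` has every base-change stable property of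
the generic point. -/
lemma repWith_pr {Y YK : AlgSp.Sp (Spec (CommRingCat.of R))}
    {pY : Y ⟶ (AlgSp.yon (Spec (CommRingCat.of R))).obj (Over.mk (𝟙 (Spec (CommRingCat.of R))))}
    {pr : YK ⟶ Y}
    {qK : YK ⟶ (AlgSp.yon (Spec (CommRingCat.of R))).obj (Over.mk (Neron.genPt R))}
    (hYK : IsPullback pr qK pY ((AlgSp.yon (Spec (CommRingCat.of R))).map
      (Over.mkIdTerminal.from (Over.mk (Neron.genPt R)))))
    (P : MorphismProperty Scheme.{u}) [P.IsStableUnderBaseChange] (hP : P (Neron.genPt R)) :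
    AlgSp.RepWith P pr :=
  (AlgSp.repWith_isStableUnderBaseChange (S := Spec (CommRingCat.of R)) P).of_isPullback hYK.flip
    ((AlgSp.repWith_yon_map_iff P _).2 (by rwa [Over.mkIdTerminal_from_left]))

lemma mono_pr {Y YK : AlgSp.Sp (Spec (CommRingCat.of R))}
    {pY : Y ⟶ (AlgSp.yon (Spec (CommRingCat.of R))).obj (Over.mk (𝟙 (Spec (CommRingCat.of R))))}
    {pr : YK ⟶ Y}
    {qK : YK ⟶ (AlgSp.yon (Spec (CommRingCat.of R))).obj (Over.mk (Neron.genPt R))}
    (hYK : IsPullback pr qK pY ((AlgSp.yon (Spec (CommRingCat.of R))).map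
      (Over.mkIdTerminal.from (Over.mk (Neron.genPt R))))) : Mono pr :=
  Groth.Agent.S9928.mono_of_repWith @IsPreimmersion
    (fun _ _ g hg => by have := hg; infer_instance) pr
    (repWith_pr hYK @IsPreimmersion (isPreimmersion_genPt R))

/-- on a scheme over the generic point, the nonzero elements of `R` are invertible. -/
lemma isUnit_of_over_genPt [IsDomain R] {W : Over (Spec (CommRingCat.of R))}
    (w : W ⟶ Over.mk (Neron.genPt R)) (r : R) (hr : r ≠ 0) :
    IsUnit (W.hom.appTop.hom ((Scheme.ΓSpecIso (CommRingCat.of R)).inv.hom r)) := by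
  have hw : W.hom = w.left ≫ Neron.genPt R := (Over.w w).symm
  have hnat := Scheme.ΓSpecIso_inv_naturality (CommRingCat.ofHom (algebraMap R (FractionRing R)))
  have h1 : (Neron.genPt R).appTop.hom ((Scheme.ΓSpecIso (CommRingCat.of R)).inv.hom r) =
      (Scheme.ΓSpecIso (CommRingCat.of (FractionRing R))).inv.hom
        (algebraMap R (FractionRing R) r) := by
    have := congrArg (fun m => m.hom r) hnat
    simp only [CommRingCat.hom_comp, RingHom.comp_apply] at this
    exact this.symm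
  rw [hw, Scheme.Hom.comp_appTop, CommRingCat.hom_comp, RingHom.comp_apply, h1]
  have hu : IsUnit (algebraMap R (FractionRing R) r) :=
    IsUnit.mk0 _ (by
      rw [Ne, IsFractionRing.to_map_eq_zero_iff]
      exact hr)
  exact (hu.map _).map _

/-- a scheme over `Spec R` (`R` Dedekind) whose functions inject into the functions of a scheme
over the generic point is flat over `Spec R`, in the affine case. -/
lemma flat_of_injective_of_over_genPt [IsDedekindDomain R] {W Q : Over (Spec (CommRingCat.of R))}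
    [IsAffine Q.left] (w : W ⟶ Over.mk (Neron.genPt R)) (ψ : W ⟶ Q)
    (hinj : Function.Injective ψ.left.appTop.hom) : Flat Q.hom := by
  rw [HasRingHomProperty.iff_of_isAffine (P := @Flat)]
  let e := Scheme.ΓSpecIso (CommRingCat.of R)
  let ρQ : R →+* Γ(Q.left, ⊤) := Q.hom.appTop.hom.comp e.inv.hom
  let ρW : R →+* Γ(W.left, ⊤) := W.hom.appTop.hom.comp e.inv.hom
  have hρ : ∀ r, ψ.left.appTop.hom (ρQ r) = ρW r := by
    intro r
    show ψ.left.appTop.hom (Q.hom.appTop.hom (e.inv.hom r)) = W.hom.appTop.hom (e.inv.hom r)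
    rw [← Over.w ψ, Scheme.Hom.comp_appTop, CommRingCat.hom_comp, RingHom.comp_apply]
  have hQ : ρQ.Flat := by
    let _ := ρQ.toAlgebra
    let _ := ρW.toAlgebra
    have hW : Module.IsTorsionFree R Γ(W.left, ⊤) := by
      refine Module.IsTorsionFree.of_smul_eq_zero fun r m hm => ?_
      by_cases hr : r = 0
      · exact Or.inl hr
      · right
        have hu : IsUnit (ρW r) := isUnit_of_over_genPt w r hr
        have hm' : ρW r * m = 0 := hm
        exact (hu.mul_right_eq_zero).1 hm'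
    have hQt : Module.IsTorsionFree R Γ(Q.left, ⊤) :=
      Function.Injective.moduleIsTorsionFree (N := Γ(W.left, ⊤)) ψ.left.appTop.hom hinj
        (fun r m => by
          show ψ.left.appTop.hom (ρQ r * m) = ρW r * ψ.left.appTop.hom m
          rw [map_mul, hρ])
    show Module.Flat R Γ(Q.left, ⊤)
    infer_instance
  have h2 : Q.hom.appTop.hom = ρQ.comp e.hom.hom := by
    ext x
    show Q.hom.appTop.hom x = Q.hom.appTop.hom (e.inv.hom (e.hom.hom x))
    congr 1
    exact (congrArg (fun m => m.hom x) e.hom_inv_id).symm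
  rw [h2]
  exact RingHom.Flat.comp
    (RingHom.Flat.of_bijective (ConcreteCategory.bijective_of_isIso e.hom)) hQ

/-- the trace on an affine flat chart of the scheme theoretic image of a quasi-compact morphism
whose source lives over the generic point is flat over the Dedekind base. -/
lemma flat_trace [IsDedekindDomain R] {H Y Z : AlgSp.Space (Spec (CommRingCat.of R))} (f : H ⟶ Y)
    (hqc : AlgSp.IsQuasiCompactMor f.hom) (i : Z ⟶ Y) (hZ : AlgSp.IsSchImage f.hom i.hom)
    {V' : Over (Spec (CommRingCat.of R))} [IsAffine V'.left]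
    (b : (AlgSp.yon (Spec (CommRingCat.of R))).obj V' ⟶ Y.obj) (hb : AlgSp.LocP @Flat b)
    {U' : Over (Spec (CommRingCat.of R))} (φ' : U' ⟶ V') [QuasiCompact φ'.left]
    (prH : (AlgSp.yon (Spec (CommRingCat.of R))).obj U' ⟶ H.obj)
    (sqH : IsPullback prH ((AlgSp.yon (Spec (CommRingCat.of R))).map φ') f.hom b)
    (w : U' ⟶ Over.mk (Neron.genPt R)) {Zo' : Over (Spec (CommRingCat.of R))} (ι' : Zo' ⟶ V')
    (prZ : (AlgSp.yon (Spec (CommRingCat.of R))).obj Zo' ⟶ Z.obj)
    (sqZ : IsPullback prZ ((AlgSp.yon (Spec (CommRingCat.of R))).map ι') i.hom b) :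
    Flat Zo'.hom := by
  have hcl : IsClosedImmersion ι'.left := hZ.1.2 _ _ ι' sqZ
  have hk : ι'.left.ker = φ'.left.ker :=
    ker_trace_eq f hqc i hZ b hb sqH (𝟙 _) (AlgSp.repWith_id _ _) (AlgSp.repWith_id _ _) φ'
      (Category.id_comp _) ι' prZ sqZ
  obtain ⟨f', hf'⟩ := hZ.2.1
  obtain ⟨ψ, hψ⟩ := (AlgSp.yon (Spec (CommRingCat.of R))).map_surjective
    (sqZ.lift (prH ≫ f') ((AlgSp.yon (Spec (CommRingCat.of R))).map φ')
      (by rw [Category.assoc, hf', sqH.w]))
  have hψι : ψ ≫ ι' = φ' := by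
    apply (AlgSp.yon (Spec (CommRingCat.of R))).map_injective
    rw [Functor.map_comp, hψ, sqZ.lift_snd]
  obtain ⟨hZaff, hsurj⟩ := IsClosedImmersion.isAffine_surjective_of_isAffine ι'.left
  have hker : RingHom.ker ι'.left.appTop.hom = RingHom.ker φ'.left.appTop.hom := by
    rw [Scheme.ker_of_isAffine, Scheme.ker_of_isAffine] at hk
    exact le_antisymm (ofIdealTop_le_iff.1 hk.le) (ofIdealTop_le_iff.1 hk.ge)
  refine flat_of_injective_of_over_genPt w ψ ?_
  rw [injective_iff_map_eq_zero]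
  intro x hx
  obtain ⟨y, rfl⟩ := hsurj x
  have hy : y ∈ RingHom.ker φ'.left.appTop.hom := by
    rw [RingHom.mem_ker, ← hψι, Over.comp_left, Scheme.Hom.comp_appTop, CommRingCat.hom_comp,
      RingHom.comp_apply]
    exact hx
  rw [← hker] at hy
  exact hy

/-- the pullback of schemes over `S`, as a pullback square in `Over S`. -/
lemma isPullback_over {S : Scheme.{u}} {A B C : Over S} (c : A ⟶ C) (d : B ⟶ C) :
    IsPullback
      (Over.homMk (pullback.fst c.left d.left) rfl :
        Over.mk (pullback.fst c.left d.left ≫ A.hom) ⟶ A)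
      (Over.homMk (pullback.snd c.left d.left) (by
        show pullback.snd c.left d.left ≫ B.hom = pullback.fst c.left d.left ≫ A.hom
        rw [← Over.w d, ← Category.assoc, ← pullback.condition, Category.assoc, Over.w c]) :
        Over.mk (pullback.fst c.left d.left ≫ A.hom) ⟶ B) c d := by
  refine IsPullback.of_map (Over.forget S) ?_ ?_
  · apply Over.OverMorphism.ext
    exact pullback.condition
  · exact IsPullback.of_hasPullback c.left d.left

set_option backward.isDefEq.respectTransparency false in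
/-- part (1): the scheme theoretic image is flat over the Dedekind base. -/
theorem locP_flat_schImage [IsDedekindDomain R]
    {Y YK H Z : AlgSp.Space (Spec (CommRingCat.of R))}
    (pY : Y.obj ⟶ (AlgSp.yon (Spec (CommRingCat.of R))).obj
      (Over.mk (𝟙 (Spec (CommRingCat.of R)))))
    (pr : YK ⟶ Y)
    (qK : YK.obj ⟶ (AlgSp.yon (Spec (CommRingCat.of R))).obj (Over.mk (Neron.genPt R)))
    (hYK : IsPullback pr.hom qK pY ((AlgSp.yon (Spec (CommRingCat.of R))).map
      (Over.mkIdTerminal.from (Over.mk (Neron.genPt R)))))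
    (k : H ⟶ YK) (hk : AlgSp.RepWith @IsClosedImmersion k.hom) (i : Z ⟶ Y)
    (hZ : AlgSp.IsSchImage (k.hom ≫ pr.hom) i.hom) : AlgSp.LocP @Flat (i.hom ≫ pY) := by
  have hprq : AlgSp.RepWith @QuasiCompact pr.hom :=
    repWith_pr hYK @QuasiCompact (inferInstance : QuasiCompact (Neron.genPt R))
  have hkq : AlgSp.RepWith @QuasiCompact k.hom :=
    ⟨hk.1, fun T W g pr' w sq => by
      have : IsClosedImmersion w.left := hk.2 g pr' w sq
      exact (inferInstance : QuasiCompact w.left)⟩
  have hfq : AlgSp.RepWith @QuasiCompact (k.hom ≫ pr.hom) :=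
    (AlgSp.repWith_isMultiplicative (S := Spec (CommRingCat.of R)) @QuasiCompact).comp_mem _ _
      hkq hprq
  let f : H ⟶ Y := k ≫ pr
  have hfe : f.hom = k.hom ≫ pr.hom := rfl
  have hqc : AlgSp.IsQuasiCompactMor f.hom :=
    Groth.Agent.S9912.isQuasiCompactMor_of_repWith H.property Y.property.diag f.hom hfq
  have hZ' : AlgSp.IsSchImage f.hom i.hom := hZ
  obtain ⟨A, p, hpe, hps⟩ := Y.property.atlas
  obtain ⟨ZA, c, prZ, sqZA⟩ := hZ.1.1 p
  have hae : AlgSp.RepWith @Etale prZ :=
    (AlgSp.repWith_isStableUnderBaseChange (S := Spec (CommRingCat.of R)) @Etale).of_isPullback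
      sqZA.flip hpe
  have has : AlgSp.RepWith @Surjective prZ :=
    (AlgSp.repWith_isStableUnderBaseChange (S := Spec (CommRingCat.of R))
      @Surjective).of_isPullback sqZA.flip hps
  have hflat : Flat ZA.hom := by
    let 𝒜 : A.left.OpenCover := A.left.openCoverOfIsOpenCover
      (fun U : A.left.affineOpens => U.1) (iSup_affineOpens_eq_top A.left)
    rw [IsZariskiLocalAtSource.iff_of_openCover (P := @Flat) (𝒜.pullback₁ c.left)]
    intro U
    let AU : Over (Spec (CommRingCat.of R)) := Over.mk (U.1.ι ≫ A.hom)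
    let ιU : AU ⟶ A := Over.homMk U.1.ι rfl
    have hAU : IsAffine AU.left := U.2
    have sq1 := (isPullback_over c ιU).map (AlgSp.yon (Spec (CommRingCat.of R)))
    have sqZ := sq1.paste_horiz sqZA
    have hbe : AlgSp.RepWith @Etale ((AlgSp.yon (Spec (CommRingCat.of R))).map ιU ≫ p) :=
      MorphismProperty.comp_mem _ _ _
        ((AlgSp.repWith_yon_map_iff _ _).2 (show Etale U.1.ι from inferInstance)) hpe
    obtain ⟨U', φ', prH, sqH⟩ := hfq.1 ((AlgSp.yon (Spec (CommRingCat.of R))).map ιU ≫ p)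
    have : QuasiCompact φ'.left := hfq.2 _ _ φ' sqH
    obtain ⟨w, -⟩ := (AlgSp.yon (Spec (CommRingCat.of R))).map_surjective (prH ≫ k.hom ≫ qK)
    exact flat_trace f hqc i hZ' _ (locP_flat_of_repWith_etale _ hbe) φ' prH sqH w _ _ sqZ
  -- one chart diagram suffices
  let T0 : AlgSp.Space (Spec (CommRingCat.of R)) :=
    ⟨(AlgSp.yon (Spec (CommRingCat.of R))).obj (Over.mk (𝟙 (Spec (CommRingCat.of R)))),
      AlgSp.IsAlgSpace.yon_obj _⟩
  let g : Z ⟶ T0 := ObjectProperty.homMk (i.hom ≫ pY)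
  obtain ⟨m, hm⟩ := (AlgSp.yon (Spec (CommRingCat.of R))).map_surjective (prZ ≫ i.hom ≫ pY)
  have hml : m.left = ZA.hom := by
    have := Over.w m
    simpa using this
  refine Groth.Agent.S9947.result @Flat (Or.inr (Or.inr (Or.inl rfl))) g prZ (𝟙 _) m hae has
    (AlgSp.repWith_id _ _) ?_ ?_
  · rw [Category.comp_id, hm]; rfl
  · rw [hml]; exact hflat

/-- a closed immersion is its own scheme theoretic image. -/
lemma isSchImage_self {S : Scheme.{u}} {F G : AlgSp.Sp S} (k : F ⟶ G)
    (hk : AlgSp.RepWith @IsClosedImmersion k) : AlgSp.IsSchImage k k :=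
  ⟨hk, ⟨𝟙 _, Category.id_comp _⟩, fun _ _ _ _ h => h⟩

set_option backward.isDefEq.respectTransparency false in
/-- part (2): the generic fibre of the scheme theoretic image is the given closed subspace. -/
theorem isPullback_schImage
    {Y YK H Z : AlgSp.Space (Spec (CommRingCat.of R))}
    (pY : Y.obj ⟶ (AlgSp.yon (Spec (CommRingCat.of R))).obj
      (Over.mk (𝟙 (Spec (CommRingCat.of R)))))
    (pr : YK ⟶ Y)
    (qK : YK.obj ⟶ (AlgSp.yon (Spec (CommRingCat.of R))).obj (Over.mk (Neron.genPt R)))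
    (hYK : IsPullback pr.hom qK pY ((AlgSp.yon (Spec (CommRingCat.of R))).map
      (Over.mkIdTerminal.from (Over.mk (Neron.genPt R)))))
    (k : H ⟶ YK) (hk : AlgSp.RepWith @IsClosedImmersion k.hom) (i : Z ⟶ Y)
    (hZ : AlgSp.IsSchImage (k.hom ≫ pr.hom) i.hom) :
    ∃ m : H ⟶ Z, m ≫ i = k ≫ pr ∧ IsPullback m.hom k.hom i.hom pr.hom := by
  have hprq : AlgSp.RepWith @QuasiCompact pr.hom :=
    repWith_pr hYK @QuasiCompact (inferInstance : QuasiCompact (Neron.genPt R))
  have hkq : AlgSp.RepWith @QuasiCompact k.hom :=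
    ⟨hk.1, fun T W g pr' w sq => by
      have : IsClosedImmersion w.left := hk.2 g pr' w sq
      exact (inferInstance : QuasiCompact w.left)⟩
  have hfq : AlgSp.RepWith @QuasiCompact (k.hom ≫ pr.hom) :=
    (AlgSp.repWith_isMultiplicative (S := Spec (CommRingCat.of R)) @QuasiCompact).comp_mem _ _
      hkq hprq
  let f : H ⟶ Y := k ≫ pr
  have hqc : AlgSp.IsQuasiCompactMor f.hom :=
    Groth.Agent.S9912.isQuasiCompactMor_of_repWith H.property Y.property.diag f.hom hfq
  have hZ' : AlgSp.IsSchImage f.hom i.hom := hZ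
  have hprf : AlgSp.RepWith @Flat pr.hom := repWith_pr hYK @Flat (flat_genPt R)
  have hprl : AlgSp.LocP @Flat pr.hom :=
    (Groth.Agent.S9948.result @Flat (Or.inr (Or.inr (Or.inl rfl))) pr hprf.1).2 hprf
  have hmono : Mono pr.hom := mono_pr hYK
  have : Mono i.hom := Groth.Agent.S9928.mono_of_repWith @IsClosedImmersion
    (fun _ _ g hg => by have := hg; infer_instance) i.hom hZ.1
  obtain ⟨f', hf'⟩ := hZ.2.1
  -- the fibre product
  have sqP := IsPullback.of_hasPullback i.hom pr.hom
  have hP : AlgSp.IsAlgSpace (pullback i.hom pr.hom) :=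
    Groth.Agent.S9874.isAlgSpace_of_isPullback Y.property.diag Z.property YK.property sqP
  let PS : AlgSp.Space (Spec (CommRingCat.of R)) := ⟨pullback i.hom pr.hom, hP⟩
  let i₁ : PS ⟶ Z := ObjectProperty.homMk (pullback.fst i.hom pr.hom)
  let iX : PS ⟶ YK := ObjectProperty.homMk (pullback.snd i.hom pr.hom)
  have sqV : IsPullback (𝟙 H.obj) k.hom (k.hom ≫ pr.hom) pr.hom := by
    have h1 : IsPullback (𝟙 H.obj) k.hom k.hom (𝟙 YK.obj) :=
      IsPullback.of_horiz_isIso ⟨by rw [Category.id_comp, Category.comp_id]⟩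
    have h2 : IsPullback (𝟙 YK.obj) (𝟙 YK.obj) pr.hom pr.hom := IsKernelPair.id_of_mono pr.hom
    have h3 := h1.paste_vert h2
    rwa [Category.comp_id] at h3
  have himg : AlgSp.IsSchImage k.hom iX.hom :=
    Groth.Agent.S9974.result pr hprl f hqc i hZ' (𝟙 H) k sqV i₁ iX sqP
  obtain ⟨e, he⟩ := isSchImage_unique H.property hP (isSchImage_self k.hom hk) himg
  have he' : e.hom ≫ pullback.fst i.hom pr.hom = f' := by
    rw [← cancel_mono i.hom, Category.assoc, pullback.condition, ← Category.assoc]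
    show (e.hom ≫ iX.hom) ≫ pr.hom = _
    rw [he, hf']
  refine ⟨ObjectProperty.homMk f', ?_, ?_⟩
  · apply ObjectProperty.hom_ext
    exact hf'
  · refine sqP.of_iso e.symm (Iso.refl _) (Iso.refl _) (Iso.refl _) ?_ ?_ ?_ ?_
    · show pullback.fst i.hom pr.hom ≫ 𝟙 _ = e.inv ≫ f'
      rw [Category.comp_id, ← he', Iso.inv_hom_id_assoc]
    · show pullback.snd i.hom pr.hom ≫ 𝟙 _ = e.inv ≫ k.hom
      rw [Category.comp_id, ← he]
      show _ = e.inv ≫ e.hom ≫ pullback.snd i.hom pr.hom
      rw [Iso.inv_hom_id_assoc]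
    · simp
    · simp

set_option backward.isDefEq.respectTransparency false in
/-- part (3): a flat closed subspace with the given generic fibre is the scheme theoretic
image. -/
theorem isSchImage_of_flat [IsDomain R]
    {Y YK H Z' : AlgSp.Space (Spec (CommRingCat.of R))}
    (pY : Y.obj ⟶ (AlgSp.yon (Spec (CommRingCat.of R))).obj
      (Over.mk (𝟙 (Spec (CommRingCat.of R)))))
    (pr : YK ⟶ Y)
    (qK : YK.obj ⟶ (AlgSp.yon (Spec (CommRingCat.of R))).obj (Over.mk (Neron.genPt R)))
    (hYK : IsPullback pr.hom qK pY ((AlgSp.yon (Spec (CommRingCat.of R))).map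
      (Over.mkIdTerminal.from (Over.mk (Neron.genPt R)))))
    (k : H ⟶ YK) (hk : AlgSp.RepWith @IsClosedImmersion k.hom) (i' : Z' ⟶ Y) (m' : H ⟶ Z')
    (h' : AlgSp.RepWith @IsClosedImmersion i'.hom) (hfl : AlgSp.LocP @Flat (i'.hom ≫ pY))
    (sq' : IsPullback m'.hom k.hom i'.hom pr.hom) :
    AlgSp.IsSchImage (k.hom ≫ pr.hom) i'.hom := by
  have hprq : AlgSp.RepWith @QuasiCompact pr.hom :=
    repWith_pr hYK @QuasiCompact (inferInstance : QuasiCompact (Neron.genPt R))
  have hkq : AlgSp.RepWith @QuasiCompact k.hom :=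
    ⟨hk.1, fun T W g pr' w sq => by
      have : IsClosedImmersion w.left := hk.2 g pr' w sq
      exact (inferInstance : QuasiCompact w.left)⟩
  have hfq : AlgSp.RepWith @QuasiCompact (k.hom ≫ pr.hom) :=
    (AlgSp.repWith_isMultiplicative (S := Spec (CommRingCat.of R)) @QuasiCompact).comp_mem _ _
      hkq hprq
  refine ⟨h', ⟨m'.hom, sq'.w⟩, ?_⟩
  intro Z'' i'' hZ'' h'' hfac
  obtain ⟨f'', hf''⟩ := hfac
  refine factors_of_affine_ideals Y.property i'.hom i'' h' h'' fun E hE => ?_
  have sqE' := AlgSp.EtOver.isPullback_bcObj h'.1 E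
  have sqE'' := AlgSp.EtOver.isPullback_bcObj h''.1 E
  have hπ' : IsClosedImmersion (AlgSp.EtOver.bcπ h'.1 E).left := h'.2 _ _ _ sqE'
  obtain ⟨U', φ', prH, sqH⟩ := hfq.1 E.obj.hom
  -- `φ'` factors through the trace of `Z''`
  obtain ⟨ψ'', hψ''⟩ := (AlgSp.yon (Spec (CommRingCat.of R))).map_surjective
    (sqE''.lift (prH ≫ f'') ((AlgSp.yon (Spec (CommRingCat.of R))).map φ')
      (by rw [Category.assoc, hf'', sqH.w]))
  have hψ''π : ψ'' ≫ AlgSp.EtOver.bcπ h''.1 E = φ' := by
    apply (AlgSp.yon (Spec (CommRingCat.of R))).map_injective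
    rw [Functor.map_comp, hψ'', sqE''.lift_snd]
  -- `φ'` factors through the trace of `Z'`
  have hcomm' : (prH ≫ m'.hom) ≫ i'.hom =
      (AlgSp.yon (Spec (CommRingCat.of R))).map φ' ≫ E.obj.hom := by
    rw [Category.assoc, sq'.w, sqH.w]
  obtain ⟨ψ', hψ'⟩ := (AlgSp.yon (Spec (CommRingCat.of R))).map_surjective
    (sqE'.lift (prH ≫ m'.hom) ((AlgSp.yon (Spec (CommRingCat.of R))).map φ') hcomm')
  have hψ'π : ψ' ≫ AlgSp.EtOver.bcπ h'.1 E = φ' := by
    apply (AlgSp.yon (Spec (CommRingCat.of R))).map_injective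
    rw [Functor.map_comp, hψ', sqE'.lift_snd]
  have hψ'fst : (AlgSp.yon (Spec (CommRingCat.of R))).map ψ' ≫
      (AlgSp.EtOver.bcObj h'.1 E).obj.hom = prH ≫ m'.hom := by
    rw [hψ', sqE'.lift_fst]
  -- the generic fibre square
  have sA : IsPullback prH ((AlgSp.yon (Spec (CommRingCat.of R))).map ψ') m'.hom
      (AlgSp.EtOver.bcObj h'.1 E).obj.hom := by
    refine IsPullback.of_bot ?_ hψ'fst.symm sqE'
    rw [← Functor.map_comp, hψ'π, sq'.w]
    exact sqH
  have sB := (sA.flip.paste_vert sq').paste_vert hYK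
  obtain ⟨w, hw⟩ := (AlgSp.yon (Spec (CommRingCat.of R))).map_surjective ((prH ≫ k.hom) ≫ qK)
  obtain ⟨τ, hτ⟩ := (AlgSp.yon (Spec (CommRingCat.of R))).map_surjective
    (((AlgSp.EtOver.bcObj h'.1 E).obj.hom ≫ i'.hom) ≫ pY)
  rw [← hw, ← hτ] at sB
  have sC := (IsPullback.of_map (AlgSp.yon (Spec (CommRingCat.of R)))
    (Over.mkIdTerminal.hom_ext _ _) sB).map (Over.forget (Spec (CommRingCat.of R)))
  have hτl : τ.left = (AlgSp.EtOver.bcObj h'.1 E).obj.left.hom := by
    have := Over.w τ
    simpa using this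
  have sD : IsPullback w.left ψ'.left (Neron.genPt R) (AlgSp.EtOver.bcObj h'.1 E).obj.left.hom := by
    have := sC.flip
    simp only [Over.forget_map, Over.mkIdTerminal_from_left, Over.mk_hom] at this
    rwa [hτl] at this
  -- flatness of the trace
  have hflat : Flat (AlgSp.EtOver.bcObj h'.1 E).obj.left.hom := by
    rw [← hτl]
    exact hfl (AlgSp.EtOver.bcObj h'.1 E).obj.hom (𝟙 _) τ (AlgSp.EtOver.bcObj h'.1 E).property
      (AlgSp.repWith_id _ _) (by rw [Category.comp_id, hτ, Category.assoc])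
  have hker0 : ψ'.left.ker = ⊥ := by
    rw [ker_of_isPullback_flat (Neron.genPt R) (AlgSp.EtOver.bcObj h'.1 E).obj.left.hom w.left
      ψ'.left sD, ker_genPt, Scheme.IdealSheafData.comap_bot]
  obtain ⟨hWaff, hsurj⟩ :=
    IsClosedImmersion.isAffine_surjective_of_isAffine (AlgSp.EtOver.bcπ h'.1 E).left
  have hinj : RingHom.ker ψ'.left.appTop.hom = ⊥ := by
    rw [Scheme.ker_of_isAffine] at hker0
    have h0 : Scheme.IdealSheafData.ofIdealTop (RingHom.ker ψ'.left.appTop.hom) ≤
        Scheme.IdealSheafData.ofIdealTop (⊥ : Ideal Γ((AlgSp.EtOver.bcObj h'.1 E).obj.left.left, ⊤)) := by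
      rw [hker0]; exact bot_le
    exact le_bot_iff.1 (ofIdealTop_le_iff.1 h0)
  intro a ha
  rw [RingHom.mem_ker] at ha ⊢
  have h1 : φ'.left.appTop.hom a = 0 := by
    rw [← hψ''π, Over.comp_left, Scheme.Hom.comp_appTop, CommRingCat.hom_comp, RingHom.comp_apply,
      ha, map_zero]
  rw [← hψ'π, Over.comp_left, Scheme.Hom.comp_appTop, CommRingCat.hom_comp, RingHom.comp_apply]
    at h1
  have h2 : (AlgSp.EtOver.bcπ h'.1 E).left.appTop.hom a ∈ RingHom.ker ψ'.left.appTop.hom := h1
  rw [hinj] at h2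
  exact h2

end Main

end Groth.Agent.Lib.Seat43.GenFibre
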