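import Mathlib
import Groth.Agent.Lib.Seat43QcImage
import Groth.Agent.Lib.Seat44SchDense
import Groth.Agent.S10175
import Groth.Agent.S10176
import Groth.Agent.S10177
import Groth.Agent.S10509
import Groth.Prelude.Def_AlgSpSub

/-!
# An immersion into its scheme theoretic image (seat 43)
-/

set_option autoImplicit false
universe u
open CategoryTheory CategoryTheory.Limits AlgebraicGeometry Opposite Topology
open AlgSp

namespace Groth.Agent.Lib.Seat43.ImmImage

variable {S : Scheme.{u}}

/-- an immersion with open range into a reduced scheme is an open immersion. -/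
lemma isOpenImmersion_of_isOpen_range {A B : Scheme.{u}} (τ : A ⟶ B) [IsImmersion τ]
    [IsReduced B] (h : IsOpen (Set.range τ)) : IsOpenImmersion τ := by
  let O : B.Opens := ⟨Set.range τ, h⟩
  have hr : Set.range τ ⊆ Set.range O.ι := by rw [Scheme.Opens.range_ι]; exact subset_rfl
  let τ' : A ⟶ O := IsOpenImmersion.lift O.ι τ hr
  have hτ' : τ' ≫ O.ι = τ := IsOpenImmersion.lift_fac _ _ _
  have : IsImmersion (τ' ≫ O.ι) := hτ' ▸ inferInstance
  have : IsImmersion τ' := IsImmersion.of_comp τ' O.ι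
  have hsurj : Function.Surjective τ' := by
    rintro ⟨b, a, rfl⟩
    refine ⟨a, ?_⟩
    apply O.ι.injective
    rw [← Scheme.Hom.comp_apply, hτ']
    rfl
  have : Surjective τ' := ⟨hsurj⟩
  have : IsClosedImmersion τ' := .of_isPreimmersion _ (by
    rw [hsurj.range_eq]; exact isClosed_univ)
  have : IsReduced O.toScheme := isReduced_of_isOpenImmersion O.ι
  have : IsIso τ' := isIso_of_isClosedImmersion_of_surjective τ'
  rw [← hτ']
  infer_instance

/-- a dense open subscheme of a reduced scheme is schematically dense. -/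
lemma isSchematicallyDense_of_dense {B : Scheme.{u}} [IsReduced B] (W : B.Opens)
    (h : Dense (W : Set B)) : CInt.IsSchematicallyDense W := by
  intro V'
  rw [injective_iff_map_eq_zero]
  intro s hs
  rw [← basicOpen_eq_bot_iff]
  by_contra hne
  have hne' : ((B.basicOpen s : B.Opens) : Set B).Nonempty := by
    rw [Set.nonempty_iff_ne_empty]
    intro he
    exact hne (TopologicalSpace.Opens.ext he)
  obtain ⟨x, hx1, hx2⟩ := h.inter_open_nonempty _ (B.basicOpen s).2 hne'
  have hxV : x ∈ V' := B.basicOpen_le s hx1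
  have h3 : B.basicOpen (B.presheaf.map (homOfLE (inf_le_left : V' ⊓ W ≤ V')).op s) =
      (V' ⊓ W) ⊓ B.basicOpen s := Scheme.basicOpen_res _ _ _
  rw [hs, Scheme.basicOpen_zero] at h3
  have : x ∈ (⊥ : B.Opens) := by
    rw [h3]; exact ⟨⟨hxV, hx2⟩, hx1⟩
  exact this

lemma isOpen_range_and_denseRange {A B C : Type*} [TopologicalSpace B]
    [TopologicalSpace C] (τ : A → B) (ι : B → C) (hι : IsClosedEmbedding ι)
    (hlc : IsLocallyClosed (Set.range (ι ∘ τ)))
    (hcl : Set.range ι = closure (Set.range (ι ∘ τ))) : IsOpen (Set.range τ) ∧ DenseRange τ := by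
  obtain ⟨O, C', hO, hC', hs⟩ := hlc
  have hsub : Set.range ι ⊆ C' := by
    rw [hcl]
    exact closure_minimal (hs ▸ Set.inter_subset_right) hC'
  have hrange : Set.range τ = ι ⁻¹' O := by
    ext b
    constructor
    · rintro ⟨a, rfl⟩
      have : ι (τ a) ∈ Set.range (ι ∘ τ) := ⟨a, rfl⟩
      rw [hs] at this
      exact this.1
    · intro hb
      have : ι b ∈ Set.range (ι ∘ τ) := by
        rw [hs]; exact ⟨hb, hsub ⟨b, rfl⟩⟩
      obtain ⟨a, ha⟩ := this
      exact ⟨a, hι.injective ha⟩
  refine ⟨hrange ▸ hO.preimage hι.continuous, ?_⟩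
  rw [DenseRange, dense_iff_closure_eq]
  have h1 : ι '' closure (Set.range τ) = ι '' Set.univ := by
    rw [← hι.closure_image_eq, ← Set.range_comp, ← hcl, Set.image_univ]
  exact hι.injective.image_injective h1

/-- the inverse image in a chart of the image of `f` is the image of the represented base
change. -/
lemma preimage_range_eq {X Y : AlgSp.Sp S} {f : X ⟶ Y} {V W : Over S}
    {p : (AlgSp.yon S).obj V ⟶ Y} {w : W ⟶ V} {fst : (AlgSp.yon S).obj W ⟶ X}
    (sq : IsPullback fst ((AlgSp.yon S).map w) f p) :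
    AlgSp.Points.ofPt p ⁻¹' Set.range (AlgSp.Points.map f) = Set.range w.left := by
  ext v
  constructor
  · rintro ⟨x, hx⟩
    obtain ⟨q, -, hq2⟩ := Groth.Agent.S10175.exists_point_of_isPullback sq x
      (AlgSp.Points.schemeHomeo V v) (by rw [hx, AlgSp.Points.ofPt_eq_map_ofScheme]; rfl)
    obtain ⟨w0, rfl⟩ := (AlgSp.Points.schemeHomeo W).surjective q
    refine ⟨w0, ?_⟩
    apply (AlgSp.Points.schemeHomeo V).injective
    rw [← hq2]
    exact (AlgSp.Points.map_yon_map_apply w w0).symm
  · rintro ⟨w0, rfl⟩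
    refine ⟨AlgSp.Points.ofPt fst w0, ?_⟩
    rw [AlgSp.Points.map_ofPt, sq.w, Groth.Agent.S10176.ofPt_map_comp]

/-- chart criterion: `h' : Z ⟶ Zbar` over `X`, with `Zbar ⟶ X` a closed subspace, is a scheme
theoretically dense and topologically dense open immersion as soon as this holds for the map of
represented base changes to an etale chart of `X`. -/
theorem openImmersion_dense_of_chart {Z X Zbar : AlgSp.Space S} (h : Z ⟶ X) (c : Zbar ⟶ X)
    (hc : AlgSp.RepWith @IsClosedImmersion c.hom) (h' : Z ⟶ Zbar) (fac : h' ≫ c = h)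
    {V U₀ B : Over S} (p : (AlgSp.yon S).obj V ⟶ X.obj) (hpe : AlgSp.RepWith @Etale p)
    (hps : AlgSp.RepWith @Surjective p) (φ : U₀ ⟶ V) (pr : (AlgSp.yon S).obj U₀ ⟶ Z.obj)
    (sq : IsPullback pr ((AlgSp.yon S).map φ) h.hom p) (ι : B ⟶ V)
    (q : (AlgSp.yon S).obj B ⟶ Zbar.obj) (sqq : IsPullback q ((AlgSp.yon S).map ι) c.hom p)
    (τ : U₀ ⟶ B) (hτ : τ ≫ ι = φ) [IsOpenImmersion τ.left]
    (hdense : CInt.IsSchematicallyDense τ.left.opensRange) (hdr : DenseRange τ.left) :
    AlgSp.RepWith @IsOpenImmersion h'.hom ∧ AlgSp.IsSchDense h'.hom ∧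
      Dense (Set.range (AlgSp.Points.map h'.hom)) := by
  have : Mono c.hom := Groth.Agent.S9928.mono_of_repWith @IsClosedImmersion
    (fun _ _ g hg => by have := hg; infer_instance) c.hom hc
  have hfac : h'.hom ≫ c.hom = h.hom := congrArg (fun m => m.hom) fac
  have hqe : AlgSp.RepWith @Etale q :=
    (AlgSp.repWith_isStableUnderBaseChange (S := S) @Etale).of_isPullback sqq.flip hpe
  have hqs : AlgSp.RepWith @Surjective q :=
    (AlgSp.repWith_isStableUnderBaseChange (S := S) @Surjective).of_isPullback sqq.flip hps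
  have hcomm : (AlgSp.yon S).map τ ≫ q = pr ≫ h'.hom := by
    rw [← cancel_mono c.hom, Category.assoc, sqq.w, ← Category.assoc, ← Functor.map_comp, hτ,
      Category.assoc, hfac, sq.w]
  have sqj : IsPullback pr ((AlgSp.yon S).map τ) h'.hom q := by
    refine (IsPullback.of_right ?_ hcomm sqq.flip).flip
    rw [← Functor.map_comp, hτ, hfac]
    exact sq.flip
  have hopen : AlgSp.RepWith @IsOpenImmersion h'.hom :=
    Groth.Agent.S9932.result @IsOpenImmersion (Or.inr (Or.inl rfl)) h' _ q hqe hqs pr _ sqj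
      ((AlgSp.repWith_yon_map_iff @IsOpenImmersion τ).2 inferInstance)
  refine ⟨hopen, ?_, ?_⟩
  · let W : B.left.Opens := τ.left.opensRange
    let ε : Over.mk (W.ι ≫ B.hom) ⟶ U₀ := Over.homMk τ.left.isoOpensRange.inv (by
      show τ.left.isoOpensRange.inv ≫ U₀.hom = W.ι ≫ B.hom
      rw [← Over.w τ, ← Category.assoc, τ.left.isoOpensRange_inv_comp])
    have hετ : ε ≫ τ = (Over.homMk W.ι rfl : Over.mk (W.ι ≫ B.hom) ⟶ B) := by
      apply Over.OverMorphism.ext
      exact τ.left.isoOpensRange_inv_comp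
    have hεiso : IsIso ε := by
      have : IsIso ((Over.forget S).map ε) :=
        inferInstanceAs (IsIso τ.left.isoOpensRange.inv)
      exact isIso_of_reflects_iso ε (Over.forget S)
    have sqε : IsPullback ((AlgSp.yon S).map ε)
        ((AlgSp.yon S).map (Over.homMk W.ι rfl : Over.mk (W.ι ≫ B.hom) ⟶ B))
        ((AlgSp.yon S).map τ) (𝟙 _) :=
      IsPullback.of_horiz_isIso ⟨by rw [Category.comp_id, ← Functor.map_comp, hετ]⟩
    have sqW := sqε.paste_horiz sqj
    rw [Category.id_comp] at sqW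
    exact ⟨hopen, B, q, W, (AlgSp.yon S).map ε ≫ pr, hqe, hqs, sqW, hdense⟩
  · have h1 : DenseRange (AlgSp.Points.ofPt q ∘ τ.left) :=
      (Groth.Agent.S10177.surjective_ofPt q hqs).denseRange.comp hdr
        (AlgSp.Points.continuous_ofPt q)
    refine h1.mono ?_
    rintro _ ⟨u, rfl⟩
    refine ⟨AlgSp.Points.ofPt pr u, ?_⟩
    rw [AlgSp.Points.map_ofPt, ← hcomm, Groth.Agent.S10509.ofPt_yon_map_comp]
    rfl

end Groth.Agent.Lib.Seat43.ImmImage
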