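import Mathlib.AlgebraicGeometry.QuasiAffine
import Mathlib.AlgebraicGeometry.AffineSpace

/-!
# The Jouanolou trick (seat 43)

For a quasi-affine scheme `X` with `A = Γ(X, ⊤)` and `f₁, …, fₙ ∈ A` whose non-vanishing loci cover
the image of `X` in `Spec A`, the affine scheme `T = Spec A[x₁, …, xₙ, y] / (∑ fᵢ xᵢ - 1)` maps to `X`
and is, over every affine scheme over `X`, an affine space of dimension `n`.
-/

set_option autoImplicit false
universe u
open CategoryTheory AlgebraicGeometry TopologicalSpace Limits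

namespace Groth.Agent.Lib.Seat43.Jouanolou

section Alg

variable {A : Type u} [CommRing A] {n : ℕ} (f : Fin n → A)

/-- the relation `∑ fᵢ xᵢ - 1` -/
noncomputable def rel : MvPolynomial (Option (Fin n)) A :=
  ∑ i, MvPolynomial.C (f i) * MvPolynomial.X (some i) - 1

/-- the Jouanolou ring `A[x₁, …, xₙ, y] / (∑ fᵢ xᵢ - 1)` -/
abbrev JR : Type u := MvPolynomial (Option (Fin n)) A ⧸ Ideal.span {rel f}

/-- the class of a variable -/
noncomputable def var (j : Option (Fin n)) : JR f := Ideal.Quotient.mk _ (MvPolynomial.X j)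

/-- the structure map -/
noncomputable def str : A →+* JR f := (Ideal.Quotient.mk _).comp MvPolynomial.C

lemma map_rel {C : Type u} [CommRing C] (q : MvPolynomial (Option (Fin n)) A →+* C) :
    q (rel f) = ∑ i, q (MvPolynomial.C (f i)) * q (MvPolynomial.X (some i)) - 1 := by
  simp [rel]

lemma sum_str_mul_var : ∑ i, str f (f i) * var f (some i) = 1 := by
  have h : Ideal.Quotient.mk (Ideal.span {rel f}) (rel f) = 0 :=
    Ideal.Quotient.eq_zero_iff_mem.mpr (Ideal.subset_span rfl)
  rw [map_rel] at h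
  exact sub_eq_zero.mp h

/-- ring homs out of the Jouanolou ring -/
noncomputable def lift {C : Type u} [CommRing C] (φ : A →+* C) (c : Option (Fin n) → C)
    (h : ∑ i, φ (f i) * c (some i) = 1) : JR f →+* C :=
  Ideal.Quotient.lift _ (MvPolynomial.eval₂Hom φ c) (by
    have : Ideal.span {rel f} ≤ RingHom.ker (MvPolynomial.eval₂Hom φ c) := by
      rw [Ideal.span_le, Set.singleton_subset_iff]
      show MvPolynomial.eval₂Hom φ c (rel f) = 0
      simp [rel, h]
    exact fun a ha => RingHom.mem_ker.mp (this ha))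

@[simp] lemma lift_str {C : Type u} [CommRing C] (φ : A →+* C) (c : Option (Fin n) → C)
    (h : ∑ i, φ (f i) * c (some i) = 1) (a : A) : lift f φ c h (str f a) = φ a := by
  show Ideal.Quotient.lift _ (MvPolynomial.eval₂Hom φ c) _ (Ideal.Quotient.mk _ (MvPolynomial.C a)) = φ a
  rw [Ideal.Quotient.lift_mk]; simp

@[simp] lemma lift_var {C : Type u} [CommRing C] (φ : A →+* C) (c : Option (Fin n) → C)
    (h : ∑ i, φ (f i) * c (some i) = 1) (j : Option (Fin n)) : lift f φ c h (var f j) = c j := by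
  show Ideal.Quotient.lift _ (MvPolynomial.eval₂Hom φ c) _ (Ideal.Quotient.mk _ (MvPolynomial.X j)) = c j
  rw [Ideal.Quotient.lift_mk]; simp

lemma hom_ext {C : Type u} [CommRing C] {φ ψ : JR f →+* C}
    (h₁ : ∀ a, φ (str f a) = ψ (str f a)) (h₂ : ∀ j, φ (var f j) = ψ (var f j)) : φ = ψ := by
  apply Ideal.Quotient.ringHom_ext
  apply MvPolynomial.ringHom_ext
  · intro a; exact h₁ a
  · intro j; exact h₂ j

lemma ring1 {C : Type u} [CommRing C] (bs as : Fin n → C) (xs : Option (Fin n) → C)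
    (h1 : ∑ i, bs i * xs (some i) = 1) (h2 : ∑ i, as i * bs i = 1) :
    ∑ j, bs j * (xs (some j) - as j + xs none * as j) = xs none := by
  have e : ∀ j, bs j * (xs (some j) - as j + xs none * as j) =
      bs j * xs (some j) - as j * bs j + xs none * (as j * bs j) := fun j => by ring
  simp only [e, Finset.sum_add_distrib, Finset.sum_sub_distrib, ← Finset.mul_sum, h1, h2]
  ring

lemma ring2 {C : Type u} [CommRing C] (b' a' z : Fin n → C) (h2 : ∑ i, a' i * b' i = 1) :
    ∑ i, b' i * (z i + (1 - ∑ j, b' j * z j) * a' i) = 1 := by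
  have e : ∀ i, b' i * (z i + (1 - ∑ j, b' j * z j) * a' i) =
      b' i * z i + (1 - ∑ j, b' j * z j) * (a' i * b' i) := fun i => by ring
  simp only [e, Finset.sum_add_distrib, ← Finset.mul_sum, h2]
  ring

end Alg

section Sharp

/-- the ring map of a morphism to an affine scheme `Spec R` -/
noncomputable def sharp {Y : Scheme.{u}} {R : CommRingCat.{u}} (a : Y ⟶ Spec R) : R ⟶ Γ(Y, ⊤) :=
  (Scheme.ΓSpecIso R).inv ≫ a.appTop

lemma sharp_toSpec {Y : Scheme.{u}} {R : CommRingCat.{u}} (φ : R ⟶ Γ(Y, ⊤)) :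
    sharp (Y.toSpecΓ ≫ Spec.map φ) = φ := by
  simp [sharp, Scheme.toSpecΓ_appTop, Scheme.ΓSpecIso_naturality]

lemma sharp_toSpecΓ (Y : Scheme.{u}) : sharp Y.toSpecΓ = 𝟙 _ := by
  simp [sharp, Scheme.toSpecΓ_appTop]

lemma sharp_comp {Y Z : Scheme.{u}} {R : CommRingCat.{u}} (h : Z ⟶ Y) (a : Y ⟶ Spec R) :
    sharp (h ≫ a) = sharp a ≫ h.appTop := by
  simp [sharp]

lemma sharp_comp_specMap {Y : Scheme.{u}} {R R' : CommRingCat.{u}} (a : Y ⟶ Spec R) (φ : R' ⟶ R) :
    sharp (a ≫ Spec.map φ) = φ ≫ sharp a := by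
  simp [sharp, Scheme.ΓSpecIso_inv_naturality_assoc]

lemma ext_sharp {Y : Scheme.{u}} {R : CommRingCat.{u}} {a b : Y ⟶ Spec R} (h : sharp a = sharp b) :
    a = b := by
  apply ext_of_isAffine
  have := congrArg (fun t => (Scheme.ΓSpecIso R).hom ≫ t) h
  simpa [sharp] using this

lemma appTop_comp_apply {X Y Z : Scheme.{u}} (a : X ⟶ Y) (b : Y ⟶ Z) (r : Γ(Z, ⊤)) :
    (a ≫ b).appTop.hom r = a.appTop.hom (b.appTop.hom r) := by
  rw [Scheme.Hom.comp_appTop]; rfl

lemma appTop_apply_of_eq {X Y Z : Scheme.{u}} (a : X ⟶ Y) (b : Y ⟶ Z) (c : X ⟶ Z) (h : a ≫ b = c)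
    (r : Γ(Z, ⊤)) : a.appTop.hom (b.appTop.hom r) = c.appTop.hom r := by
  rw [← h, appTop_comp_apply]

end Sharp

section Geom

variable (X : Scheme.{u}) [X.IsQuasiAffine]

lemma exists_fin : ∃ (n : ℕ) (f : Fin n → Γ(X, ⊤)),
    ∀ y : Spec Γ(X, ⊤), y ∈ Set.range X.toSpecΓ ↔ ∃ i, f i ∉ y.asIdeal := by
  have h1 : IsCompact (Set.range X.toSpecΓ) := isCompact_range X.toSpecΓ.continuous
  have h2 : IsOpen (Set.range X.toSpecΓ) := X.toSpecΓ.isOpenEmbedding.isOpen_range
  obtain ⟨I, hI, e⟩ := PrimeSpectrum.isCompact_isOpen_iff_ideal.mp ⟨h1, h2⟩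
  obtain ⟨n, f, rfl⟩ := Submodule.fg_iff_exists_fin_generating_family.mp hI
  refine ⟨n, f, fun y => ?_⟩
  refine (Set.ext_iff.mp e y).symm.trans ?_
  rw [PrimeSpectrum.zeroLocus_span]
  show ¬ (Set.range f ⊆ _) ↔ _
  rw [Set.range_subset_iff]
  push Not
  rfl

variable {X} {n : ℕ} (f : Fin n → Γ(X, ⊤))

/-- the Jouanolou ring as an object -/
noncomputable abbrev JRc : CommRingCat.{u} := CommRingCat.of (JR f)

/-- the map `Spec R ⟶ Spec A` -/
noncomputable def q : Spec (JRc f) ⟶ Spec Γ(X, ⊤) := Spec.map (CommRingCat.ofHom (str f))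

omit [X.IsQuasiAffine] in
lemma range_q_subset (hf : ∀ y : Spec Γ(X, ⊤), y ∈ Set.range X.toSpecΓ ↔ ∃ i, f i ∉ y.asIdeal) :
    Set.range (q f) ⊆ Set.range X.toSpecΓ := by
  rintro _ ⟨y, rfl⟩
  rw [hf]
  by_contra h
  push Not at h
  apply y.isPrime.ne_top
  rw [Ideal.eq_top_iff_one, ← sum_str_mul_var f]
  refine Ideal.sum_mem _ fun i _ => Ideal.mul_mem_right _ _ ?_
  exact h i

variable (hf : ∀ y : Spec Γ(X, ⊤), y ∈ Set.range X.toSpecΓ ↔ ∃ i, f i ∉ y.asIdeal)

/-- the Jouanolou morphism `T ⟶ X` -/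
noncomputable def p : Spec (JRc f) ⟶ X :=
  IsOpenImmersion.lift X.toSpecΓ (q f) (range_q_subset f hf)

lemma p_fac : p f hf ≫ X.toSpecΓ = q f := IsOpenImmersion.lift_fac _ _ _

omit [X.IsQuasiAffine] in
include hf in
/-- over an affine scheme over `X` the `fᵢ` generate the unit ideal -/
lemma exists_partition {X' : Scheme.{u}} [IsAffine X'] (g : X' ⟶ X) :
    ∃ a : Fin n → Γ(X', ⊤), ∑ i, a i * g.appTop.hom (f i) = 1 := by
  have hspan : Ideal.span (Set.range fun i => g.appTop.hom (f i)) = ⊤ := by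
    rw [← (isAffineOpen_top X').self_le_iSup_basicOpen_iff]
    rintro x -
    obtain ⟨i, hi⟩ := (hf (X.toSpecΓ (g x))).mp ⟨_, rfl⟩
    have hx : g x ∈ X.basicOpen (f i) := by
      rw [← Scheme.toSpecΓ_preimage_basicOpen]
      exact hi
    have hx' : x ∈ X'.basicOpen (g.appTop.hom (f i)) := by
      have := Scheme.preimage_basicOpen g (f i)
      have h2 : x ∈ g ⁻¹ᵁ X.basicOpen (f i) := hx
      rw [this] at h2
      exact h2
    rw [Opens.mem_iSup]
    exact ⟨⟨_, ⟨i, rfl⟩⟩, hx'⟩
  have h1 : (1 : Γ(X', ⊤)) ∈ Ideal.span (Set.range fun i => g.appTop.hom (f i)) := by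
    rw [hspan]; trivial
  obtain ⟨c, hc⟩ := Ideal.mem_span_range_iff_exists_fun.mp h1
  exact ⟨c, hc⟩

section Main

variable {X' : Scheme.{u}} (g : X' ⟶ X) (a : Fin n → Γ(X', ⊤))
  (ha : ∑ i, a i * g.appTop.hom (f i) = 1)

/-- the `x`- and `y`-coordinates on the pullback -/
noncomputable def xs (j : Option (Fin n)) : Γ(pullback g (p f hf), ⊤) :=
  (sharp (pullback.snd g (p f hf))).hom (var f j)

/-- the coefficients `aᵢ` on the pullback -/
noncomputable def as (i : Fin n) : Γ(pullback g (p f hf), ⊤) :=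
  (pullback.fst g (p f hf)).appTop.hom (a i)

/-- the functions `fᵢ` on the pullback -/
noncomputable def bs (i : Fin n) : Γ(pullback g (p f hf), ⊤) :=
  (pullback.fst g (p f hf)).appTop.hom (g.appTop.hom (f i))

lemma sharp_snd_comp : CommRingCat.ofHom (str f) ≫ sharp (pullback.snd g (p f hf)) =
    g.appTop ≫ (pullback.fst g (p f hf)).appTop := by
  rw [← sharp_comp_specMap]
  show sharp (pullback.snd g (p f hf) ≫ q f) = _
  rw [← p_fac f hf, ← Category.assoc, ← pullback.condition, Category.assoc, sharp_comp,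
    sharp_comp, sharp_toSpecΓ, Category.id_comp]

lemma sharp_snd_str (r : Γ(X, ⊤)) : (sharp (pullback.snd g (p f hf))).hom (str f r) =
    (pullback.fst g (p f hf)).appTop.hom (g.appTop.hom r) := by
  have := congrArg (fun φ => φ.hom r) (sharp_snd_comp f hf g)
  exact this

lemma sum_bs_xs : ∑ i, bs f hf g i * xs f hf g (some i) = 1 := by
  have := congrArg (sharp (pullback.snd g (p f hf))).hom (sum_str_mul_var f)
  simp only [map_sum, map_mul, map_one] at this
  simp only [bs, xs, ← sharp_snd_str]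
  exact this

include ha in
lemma sum_as_bs : ∑ i, as f hf g a i * bs f hf g i = 1 := by
  have := congrArg (pullback.fst g (p f hf)).appTop.hom ha
  simp only [map_sum, map_mul, map_one] at this
  exact this

/-- the morphism from the pullback to the affine space -/
noncomputable def hom : pullback g (p f hf) ⟶ 𝔸(ULift.{u} (Fin n); X') :=
  AffineSpace.homOfVector (pullback.fst g (p f hf))
    (fun i => xs f hf g (some i.down) - as f hf g a i.down + xs f hf g none * as f hf g a i.down)

/-- the coordinates of the affine space -/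
noncomputable def z (i : Fin n) : Γ(𝔸(ULift.{u} (Fin n); X'), ⊤) := AffineSpace.coord X' (ULift.up i)

/-- the coefficients on the affine space -/
noncomputable def a' (i : Fin n) : Γ(𝔸(ULift.{u} (Fin n); X'), ⊤) :=
  (𝔸(ULift.{u} (Fin n); X') ↘ X').appTop.hom (a i)

/-- the functions `fᵢ` on the affine space -/
noncomputable def b' (i : Fin n) : Γ(𝔸(ULift.{u} (Fin n); X'), ⊤) :=
  (𝔸(ULift.{u} (Fin n); X') ↘ X').appTop.hom (g.appTop.hom (f i))

/-- the values of the variables on the affine space -/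
noncomputable def c : Option (Fin n) → Γ(𝔸(ULift.{u} (Fin n); X'), ⊤)
  | some i => z (X' := X') i + (1 - ∑ j, b' f g j * z (X' := X') j) * a' a i
  | none => ∑ j, b' f g j * z (X' := X') j

omit [X.IsQuasiAffine] in
include ha in
lemma sum_a'_b' : ∑ i, a' a i * b' f g i = 1 := by
  have := congrArg (𝔸(ULift.{u} (Fin n); X') ↘ X').appTop.hom ha
  simp only [map_sum, map_mul, map_one] at this
  exact this

omit [X.IsQuasiAffine] in
include ha in
lemma c_cond : ∑ i, ((𝔸(ULift.{u} (Fin n); X') ↘ X').appTop.hom.comp g.appTop.hom) (f i) *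
    c f g a (some i) = 1 :=
  ring2 (b' f g) (a' a) (z (X' := X')) (sum_a'_b' f g a ha)

/-- the ring map defining the inverse -/
noncomputable def ψ : JR f →+* Γ(𝔸(ULift.{u} (Fin n); X'), ⊤) :=
  lift f ((𝔸(ULift.{u} (Fin n); X') ↘ X').appTop.hom.comp g.appTop.hom) (c f g a)
    (c_cond f g a ha)

/-- the morphism from the affine space to `T` -/
noncomputable def t : 𝔸(ULift.{u} (Fin n); X') ⟶ Spec (JRc f) :=
  (𝔸(ULift.{u} (Fin n); X')).toSpecΓ ≫ Spec.map (CommRingCat.ofHom (ψ f g a ha))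

omit [X.IsQuasiAffine] in
lemma sharp_t : sharp (t f g a ha) = CommRingCat.ofHom (ψ f g a ha) := sharp_toSpec _

lemma t_cond : (𝔸(ULift.{u} (Fin n); X') ↘ X') ≫ g = t f g a ha ≫ p f hf := by
  rw [← cancel_mono X.toSpecΓ, Category.assoc, Category.assoc, p_fac]
  apply ext_sharp
  rw [← Category.assoc, sharp_comp, sharp_toSpecΓ, Category.id_comp]
  show _ = sharp (t f g a ha ≫ Spec.map (CommRingCat.ofHom (str f)))
  rw [sharp_comp_specMap, sharp_t, Scheme.Hom.comp_appTop]
  ext r
  show _ = ψ f g a ha (str f r)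
  unfold ψ
  rw [lift_str]
  rfl

/-- the inverse morphism -/
noncomputable def inv : 𝔸(ULift.{u} (Fin n); X') ⟶ pullback g (p f hf) :=
  pullback.lift (𝔸(ULift.{u} (Fin n); X') ↘ X') (t f g a ha) (t_cond f hf g a ha)

lemma inv_fst : inv f hf g a ha ≫ pullback.fst g (p f hf) = 𝔸(ULift.{u} (Fin n); X') ↘ X' :=
  pullback.lift_fst _ _ _

lemma inv_snd : inv f hf g a ha ≫ pullback.snd g (p f hf) = t f g a ha :=
  pullback.lift_snd _ _ _

lemma hom_over : hom f hf g a ≫ (𝔸(ULift.{u} (Fin n); X') ↘ X') = pullback.fst g (p f hf) :=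
  AffineSpace.homOfVector_over _ _

lemma hom_z (i : Fin n) : (hom f hf g a).appTop.hom (z (X' := X') i) =
    xs f hf g (some i) - as f hf g a i + xs f hf g none * as f hf g a i :=
  AffineSpace.homOfVector_appTop_coord _ _ _

lemma hom_a' (i : Fin n) : (hom f hf g a).appTop.hom (a' a i) = as f hf g a i := by
  exact appTop_apply_of_eq _ _ _ (hom_over f hf g a) _

lemma hom_b' (i : Fin n) : (hom f hf g a).appTop.hom (b' f g i) = bs f hf g i := by
  exact appTop_apply_of_eq _ _ _ (hom_over f hf g a) _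

include ha in
lemma hom_s : (hom f hf g a).appTop.hom (∑ j, b' f g j * z (X' := X') j) = xs f hf g none := by
  simp only [map_sum, map_mul, hom_b', hom_z]
  exact ring1 _ _ _ (sum_bs_xs f hf g) (sum_as_bs f hf g a ha)

lemma inv_xs (j : Option (Fin n)) : (inv f hf g a ha).appTop.hom (xs f hf g j) = c f g a j := by
  have h1 : sharp (pullback.snd g (p f hf)) ≫ (inv f hf g a ha).appTop = CommRingCat.ofHom (ψ f g a ha) := by
    rw [← sharp_comp, inv_snd, sharp_t]
  have := congrArg (fun φ => φ.hom (var f j)) h1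
  refine Eq.trans this ?_
  show ψ f g a ha (var f j) = _
  unfold ψ
  rw [lift_var]

lemma inv_as (i : Fin n) : (inv f hf g a ha).appTop.hom (as f hf g a i) = a' a i := by
  exact appTop_apply_of_eq _ _ _ (inv_fst f hf g a ha) _

lemma hom_inv_id : hom f hf g a ≫ inv f hf g a ha = 𝟙 _ := by
  apply pullback.hom_ext
  · rw [Category.assoc, inv_fst, hom_over, Category.id_comp]
  · rw [Category.assoc, inv_snd, Category.id_comp]
    apply ext_sharp
    rw [sharp_comp, sharp_t]
    ext1
    apply hom_ext f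
    · intro r
      show (hom f hf g a).appTop.hom (ψ f g a ha (str f r)) = _
      rw [sharp_snd_str]
      unfold ψ
      rw [lift_str]
      exact appTop_apply_of_eq _ _ _ (hom_over f hf g a) _
    · intro j
      show (hom f hf g a).appTop.hom (ψ f g a ha (var f j)) = xs f hf g j
      unfold ψ
      rw [lift_var]
      cases j with
      | none => exact hom_s f hf g a ha
      | some i =>
        show (hom f hf g a).appTop.hom (z (X' := X') i + (1 - ∑ j, b' f g j * z (X' := X') j) * a' a i) = _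
        rw [map_add, map_mul, map_sub, map_one, hom_s f hf g a ha, hom_z, hom_a']
        ring

lemma inv_hom_id : inv f hf g a ha ≫ hom f hf g a = 𝟙 _ := by
  apply AffineSpace.hom_ext
  · rw [Category.assoc, hom_over, inv_fst, Category.id_comp]
  · intro i
    show (inv f hf g a ha ≫ hom f hf g a).appTop.hom (z (X' := X') i.down) = _
    rw [Scheme.Hom.comp_appTop]
    show (inv f hf g a ha).appTop.hom ((hom f hf g a).appTop.hom (z (X' := X') i.down)) = _
    rw [hom_z, map_add, map_sub, map_mul, inv_xs, inv_xs, inv_as]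
    show z (X' := X') i.down + (1 - ∑ j, b' f g j * z (X' := X') j) * a' a i.down - a' a i.down +
      (∑ j, b' f g j * z (X' := X') j) * a' a i.down = _
    simp only [Scheme.Hom.id_appTop]
    show _ = z (X' := X') i.down
    ring

/-- the isomorphism of the pullback with affine space -/
noncomputable def iso : pullback g (p f hf) ≅ 𝔸(ULift.{u} (Fin n); X') where
  hom := hom f hf g a
  inv := inv f hf g a ha
  hom_inv_id := hom_inv_id f hf g a ha
  inv_hom_id := inv_hom_id f hf g a ha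

end Main

end Geom

end Groth.Agent.Lib.Seat43.Jouanolou
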