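import Groth.Statements.S9978
import Groth.Agent.S0566
import Groth.Agent.S9833

set_option autoImplicit false
open CategoryTheory CategoryTheory.Limits AlgebraicGeometry Opposite TopologicalSpace
universe u

namespace Groth.Agent.Lib.Seat43.NagataAlgSp

/-- A scheme locally of finite type over a scheme all of whose affine opens are Nagata has all affine
opens Nagata. -/
theorem nagata_of_lft {U V : Scheme.{u}} (h : U ⟶ V) [LocallyOfFiniteType h]
    (hV : ∀ W : V.Opens, IsAffineOpen W → CAlg.IsNagata ↑Γ(V, W)) :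
    ∀ W : U.Opens, IsAffineOpen W → CAlg.IsNagata ↑Γ(U, W) := by
  intro W hW
  let ι := {W : U.affineOpens // ∃ V' : V.affineOpens, W.1 ≤ h ⁻¹ᵁ V'.1}
  refine Groth.Agent.S9833.result U (ι := ι) (fun i => i.1.1) ?_ (fun i => i.1.2) ?_ W hW
  · rw [eq_top_iff]
    intro x _
    obtain ⟨_, ⟨V', hV', rfl⟩, hxV', -⟩ :=
      V.isBasis_affineOpens.exists_subset_of_mem_open (a := h.base x) (Set.mem_univ _) isOpen_univ
    obtain ⟨_, ⟨W', hW', rfl⟩, hxW', hle⟩ :=
      U.isBasis_affineOpens.exists_subset_of_mem_open (a := x)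
        (show x ∈ ((h ⁻¹ᵁ V' : U.Opens) : Set U) from hxV') (h ⁻¹ᵁ V').2
    exact Opens.mem_iSup.mpr ⟨⟨⟨W', hW'⟩, ⟨V', hV'⟩, hle⟩, hxW'⟩
  · rintro ⟨W', V', e⟩
    have hft := h.finiteType_appLE V'.2 W'.2 e
    let _ := (h.appLE V'.1 W'.1 e).hom.toAlgebra
    have : Algebra.FiniteType ↑Γ(V, V'.1) ↑Γ(U, W'.1) := hft
    exact Groth.Agent.S0566.result ↑Γ(V, V'.1) (hV V'.1 V'.2) ↑Γ(U, W'.1)

end Groth.Agent.Lib.Seat43.NagataAlgSp
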