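import Mathlib
import Groth.Prelude.Def_Found
import Groth.Agent.S9835
import Groth.Agent.Lib.Helper14Japanese
import Groth.Agent.Lib.Helper10RedInd

/-!
# Nagata schemes and Japanese integral closed subschemes (seat 43)
-/

set_option autoImplicit false
universe u
open CategoryTheory AlgebraicGeometry TopologicalSpace

namespace Groth.Agent.Lib.Seat43.NagataSch

/-- the coordinate ring of the preimage of an affine open under a closed immersion from an integral
scheme is N-2 when the coordinate ring of the affine open is Nagata -/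
theorem isN2_preimage {X Z : Scheme.{u}} (i : Z ⟶ X) [IsClosedImmersion i] [IsIntegral Z]
    (W : X.Opens) (hW : IsAffineOpen W) [Nonempty (i ⁻¹ᵁ W)] (hN : CAlg.IsNagata Γ(X, W)) :
    CAlg.IsN2 Γ(Z, i ⁻¹ᵁ W) := by
  have hs : Function.Surjective (i.app W).hom := i.app_surjective W hW
  have : (RingHom.ker (i.app W).hom).IsPrime := RingHom.ker_isPrime _
  have h := hN.2 (RingHom.ker (i.app W).hom)
  exact Groth.Agent.Lib.Helper14.isN2_of_ringEquiv
    (RingHom.quotientKerEquivOfSurjective hs) h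

theorem forward (X : Scheme.{u})
    (h : ∀ U : X.Opens, IsAffineOpen U → CAlg.IsNagata Γ(X, U))
    (Z : Scheme.{u}) (i : Z ⟶ X) [IsClosedImmersion i] [IsIntegral Z]
    (V : Z.Opens) [Nonempty V] (hV : IsAffineOpen V) : CAlg.IsN2 Γ(Z, V) := by
  let ι : Type u := {W : X.affineOpens // Nonempty (i ⁻¹ᵁ W.1)}
  have : ∀ W : ι, Nonempty (i ⁻¹ᵁ W.1.1) := fun W => W.2
  refine Groth.Agent.S9835.result Z (ι := ι) (fun W => i ⁻¹ᵁ W.1.1) ?_ ?_ ?_ V hV
  · rw [eq_top_iff]
    rintro z -
    obtain ⟨W, hW, hzW, -⟩ := exists_isAffineOpen_mem_and_subset (x := i z) (U := ⊤) trivial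
    rw [Opens.mem_iSup]
    exact ⟨⟨⟨W, hW⟩, ⟨⟨z, hzW⟩⟩⟩, hzW⟩
  · intro W
    exact W.1.2.preimage i
  · intro W
    exact isN2_preimage i W.1.1 W.1.2 (h _ W.1.2)

open Scheme.IdealSheafData in
theorem backward (X : Scheme.{u}) [IsLocallyNoetherian X]
    (h : ∀ (Z : Scheme.{u}) (i : Z ⟶ X) [IsClosedImmersion i] [IsIntegral Z]
        (V : Z.Opens) [Nonempty V], IsAffineOpen V → CAlg.IsN2 Γ(Z, V))
    (U : X.Opens) (hU : IsAffineOpen U) : CAlg.IsNagata Γ(X, U) := by
  refine ⟨IsLocallyNoetherian.component_noetherian ⟨U, hU⟩, ?_⟩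
  intro p hp
  -- the point of `X` corresponding to `p`
  let P : Spec Γ(X, U) := ⟨p, hp⟩
  let x : X := hU.fromSpec P
  have hxU : x ∈ (U : Set X) := by
    rw [← hU.range_fromSpec]
    exact ⟨P, rfl⟩
  let Zc : Closeds X := ⟨closure {x}, isClosed_closure⟩
  let I := vanishingIdeal Zc
  have hsupp : (I.support : Set X) = closure {x} := coe_support_vanishingIdeal Zc
  haveI : IsReduced I.subscheme := Groth.Agent.Lib.Helper10.RedInd.isReduced_subscheme_vanishingIdeal Zc
  haveI : IrreducibleSpace I.subscheme := by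
    have : IsIrreducible (I.support : Set X) := by
      rw [hsupp]
      exact isIrreducible_singleton.closure
    exact Subtype.irreducibleSpace this
  haveI : IsIntegral I.subscheme := isIntegral_of_irreducibleSpace_of_isReduced _
  haveI : Nonempty (I.subschemeι ⁻¹ᵁ U) := by
    have hx : x ∈ Set.range I.subschemeι := by
      rw [range_subschemeι, hsupp]
      exact subset_closure rfl
    obtain ⟨z, hz⟩ := hx
    exact ⟨⟨z, show I.subschemeι z ∈ (U : Set X) by rw [hz]; exact hxU⟩⟩
  have hN := h I.subscheme I.subschemeι (I.subschemeι ⁻¹ᵁ U) (hU.preimage I.subschemeι)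
  have hI : I.ideal ⟨U, hU⟩ = p := by
    show (vanishingIdeal Zc).ideal ⟨U, hU⟩ = p
    rw [vanishingIdeal_ideal]
    have this : hU.fromSpec ⁻¹' {hU.fromSpec P} = {P} := by
      ext y
      simp only [Set.mem_preimage, Set.mem_singleton_iff]
      exact ⟨fun hy => hU.fromSpec.isOpenEmbedding.injective hy, fun hy => by rw [hy]⟩
    have key : (hU.fromSpec ⁻¹' closure {hU.fromSpec P} : Set (Spec Γ(X, U))) = closure {P} := by
      rw [hU.fromSpec.isOpenEmbedding.isOpenMap.preimage_closure_eq_closure_preimage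
        hU.fromSpec.continuous, this]
    refine (congrArg PrimeSpectrum.vanishingIdeal key).trans ?_
    exact (PrimeSpectrum.vanishingIdeal_closure _).trans (PrimeSpectrum.vanishingIdeal_singleton P)
  have hs : Function.Surjective (I.subschemeι.app U).hom := I.subschemeι_app_surjective ⟨U, hU⟩
  have hk : RingHom.ker (I.subschemeι.app U).hom = p := (I.ker_subschemeι_app ⟨U, hU⟩).trans hI
  have e : Γ(X, U) ⧸ p ≃+* Γ(I.subscheme, I.subschemeι ⁻¹ᵁ U) :=
    (Ideal.quotEquivOfEq hk.symm).trans (RingHom.quotientKerEquivOfSurjective hs)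
  exact Groth.Agent.Lib.Helper14.isN2_of_ringEquiv e.symm hN

end Groth.Agent.Lib.Seat43.NagataSch
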