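import Mathlib
import Groth.Agent.Lib.Seat43RedSub
import Groth.Agent.Lib.Helper12Proper
import Groth.Agent.S9874
import Groth.Agent.S9915
import Groth.Agent.S9926
import Groth.Agent.S10175
import Groth.Agent.S10278

/-!
# Images of proper closed subspaces (seat 43)
-/

set_option autoImplicit false
universe u
open CategoryTheory CategoryTheory.Limits AlgebraicGeometry
open AlgSp

namespace Groth.Agent.Lib.Seat43.ProperImage

open Groth.Agent.Lib.Helper12.Proper

variable {S : Scheme.{u}}

/-- the image of a universally closed morphism `g : Z ⟶ Y` with `Z` proper over `B` and `Y`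
locally of finite type over `B` is closed and underlies a closed subspace proper over `B`. -/
theorem core {B Y Z : AlgSp.Space S} (g : Z ⟶ Y) (b : Y ⟶ B)
    (hb : AlgSp.LocP @LocallyOfFiniteType b.hom) (hg : AlgSp.IsUnivClosedMor g.hom)
    (hgb : AlgSp.IsProperMor (g ≫ b).hom) :
    IsClosed (Set.range (AlgSp.Points.map g.hom)) ∧
      ∃ (Z' : AlgSp.Space S) (i' : Z' ⟶ Y), AlgSp.RepWith @IsClosedImmersion i'.hom ∧
        Set.range (AlgSp.Points.map i'.hom) = Set.range (AlgSp.Points.map g.hom) ∧
        AlgSp.IsProperMor (i' ≫ b).hom := by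
  have hcl : IsClosedMap (AlgSp.Points.map g.hom) :=
    hg Y.property (𝟙 Y.obj) (𝟙 Z.obj) g.hom IsPullback.of_id_fst
  have hclosed : IsClosed (Set.range (AlgSp.Points.map g.hom)) := by
    rw [← Set.image_univ]
    exact hcl _ isClosed_univ
  refine ⟨hclosed, ?_⟩
  obtain ⟨Z', i', hci, hrange, -⟩ :=
    Groth.Agent.Lib.Seat43.RedSub.exists_isRedInduced Y _ hclosed
  refine ⟨Z', i', hci, hrange, ?_⟩
  have sqW := IsPullback.of_hasPullback g.hom i'.hom
  have hW : AlgSp.IsAlgSpace (pullback g.hom i'.hom) :=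
    Groth.Agent.S9874.isAlgSpace_of_isPullback Y.property.diag Z.property Z'.property sqW
  have hw1 : AlgSp.RepWith @IsClosedImmersion (pullback.fst g.hom i'.hom) :=
    MorphismProperty.of_isPullback (P := AlgSp.RepWith @IsClosedImmersion) sqW.flip hci
  have hw2 : AlgSp.IsUnivClosedMor (pullback.snd g.hom i'.hom) :=
    isUnivClosedMor_baseChange sqW hg
  have hsurj : Function.Surjective (AlgSp.Points.map (pullback.snd g.hom i'.hom)) := by
    intro z'
    have hz' : AlgSp.Points.map i'.hom z' ∈ Set.range (AlgSp.Points.map g.hom) := by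
      rw [← hrange]; exact ⟨z', rfl⟩
    obtain ⟨z, hz⟩ := hz'
    obtain ⟨w, -, hw⟩ := Groth.Agent.S10175.exists_point_of_isPullback sqW z z' hz
    exact ⟨w, hw⟩
  have hcond : pullback.fst g.hom i'.hom ≫ (g ≫ b).hom =
      pullback.snd g.hom i'.hom ≫ (i' ≫ b).hom := by
    show pullback.fst g.hom i'.hom ≫ g.hom ≫ b.hom = pullback.snd g.hom i'.hom ≫ i'.hom ≫ b.hom
    rw [← Category.assoc, pullback.condition, Category.assoc]
  have hprop : AlgSp.IsProperMor (pullback.snd g.hom i'.hom ≫ (i' ≫ b).hom) := by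
    rw [← hcond]
    exact isProperMor_comp Z.property B.property _ _
      (isProperMor_of_isClosedImmersion Z.property _ hw1) hgb
  have hsep : AlgSp.IsSeparatedMor (i' ≫ b).hom :=
    (Groth.Agent.S9926.result (X := ⟨pullback g.hom i'.hom, hW⟩) (Y := Z') (B := B)
      (ObjectProperty.homMk (pullback.snd g.hom i'.hom))
      (ObjectProperty.homMk (pullback.snd g.hom i'.hom ≫ (i' ≫ b).hom)) (i' ≫ b) rfl hsurj
      hw2).2 hprop.1
  refine ⟨hsep, ⟨?_, ?_⟩, ?_⟩
  · exact locP_lft_comp Y.property B.property i'.hom b.hom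
      (locP_lft_of_isClosedImmersion Y.property i'.hom hci) hb
  · exact Groth.Agent.S9915.isQuasiCompactMor_of_surjective_triangle Z'.property B.property
      (pullback.snd g.hom i'.hom) (i' ≫ b).hom hsurj hprop.2.1.2
  · exact Groth.Agent.S9926.isUnivClosedMor_of_surjective_comp Z'.property B.property
      (pullback.snd g.hom i'.hom) (i' ≫ b).hom hsurj hprop.2.2

lemma image_range_eq {X Y Z : AlgSp.Space S} (i : Z ⟶ X) (f : X ⟶ Y) :
    AlgSp.Points.map f.hom '' Set.range (AlgSp.Points.map i.hom) =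
      Set.range (AlgSp.Points.map (i ≫ f).hom) := by
  rw [← Set.range_comp]
  congr 1
  funext x
  exact (AlgSp.Points.map_comp i.hom f.hom x).symm

end Groth.Agent.Lib.Seat43.ProperImage
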