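import Mathlib

/-!
# Quasi-compactness of the Riemann–Zariski space (seat 43)

For a field `K` and a subset `A ⊆ K`, the set of valuation subrings of `K` containing `A`,
identified with a subset of `K → Bool` through indicator functions, is compact in the product
topology (`isCompact_image_ind`).
-/

set_option autoImplicit false
universe u

namespace Groth.Agent.Lib.Seat43.RZCompact

open Classical

variable {K : Type u} [Field K]

/-- the indicator function of a valuation subring. -/
noncomputable def ind (R : ValuationSubring K) : K → Bool := fun x => decide (x ∈ R)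

theorem ind_eq_true_iff (R : ValuationSubring K) (x : K) : ind R x = true ↔ x ∈ R := by
  simp [ind]

/-- the conditions cutting out indicator functions of valuation subrings containing `A`. -/
def cond (A : Set K) : Set (K → Bool) :=
  {χ | χ 0 = true ∧ χ 1 = true ∧ (∀ x y, χ x = true → χ y = true → χ (x + y) = true) ∧
    (∀ x, χ x = true → χ (-x) = true) ∧ (∀ x y, χ x = true → χ y = true → χ (x * y) = true) ∧
    (∀ x, χ x = true ∨ χ x⁻¹ = true) ∧ ∀ a ∈ A, χ a = true}

theorem isClosed_coord (x : K) (b : Bool) : IsClosed {χ : K → Bool | χ x = b} := by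
  have h : IsClosed ((fun χ : K → Bool => χ x) ⁻¹' ({b} : Set Bool)) :=
    (isClosed_discrete ({b} : Set Bool)).preimage (continuous_apply x)
  exact h

theorem isOpen_coord (x : K) (b : Bool) : IsOpen {χ : K → Bool | χ x = b} := by
  have h : IsOpen ((fun χ : K → Bool => χ x) ⁻¹' ({b} : Set Bool)) :=
    (isOpen_discrete ({b} : Set Bool)).preimage (continuous_apply x)
  exact h

theorem isClosed_imp2 (x y z : K) :
    IsClosed {χ : K → Bool | χ x = true → χ y = true → χ z = true} := by
  have : {χ : K → Bool | χ x = true → χ y = true → χ z = true} =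
      {χ | χ x = false} ∪ {χ | χ y = false} ∪ {χ | χ z = true} := by
    ext χ
    simp only [Set.mem_ofPred_eq, Set.mem_union]
    cases χ x <;> cases χ y <;> cases χ z <;> simp
  rw [this]
  exact ((isClosed_coord x false).union (isClosed_coord y false)).union (isClosed_coord z true)

theorem isClosed_imp1 (x z : K) : IsClosed {χ : K → Bool | χ x = true → χ z = true} := by
  have : {χ : K → Bool | χ x = true → χ z = true} = {χ | χ x = false} ∪ {χ | χ z = true} := by
    ext χ
    simp only [Set.mem_ofPred_eq, Set.mem_union]
    cases χ x <;> cases χ z <;> simp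
  rw [this]
  exact (isClosed_coord x false).union (isClosed_coord z true)

theorem isClosed_cond (A : Set K) : IsClosed (cond A) := by
  have : cond A = {χ | χ 0 = true} ∩ {χ | χ 1 = true} ∩
      (⋂ x, ⋂ y, {χ : K → Bool | χ x = true → χ y = true → χ (x + y) = true}) ∩
      (⋂ x, {χ : K → Bool | χ x = true → χ (-x) = true}) ∩
      (⋂ x, ⋂ y, {χ : K → Bool | χ x = true → χ y = true → χ (x * y) = true}) ∩
      (⋂ x, ({χ : K → Bool | χ x = true} ∪ {χ | χ x⁻¹ = true})) ∩
      (⋂ a ∈ A, {χ : K → Bool | χ a = true}) := by
    ext χ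
    simp only [cond, Set.mem_ofPred_eq, Set.mem_inter_iff, Set.mem_iInter, Set.mem_union]
    tauto
  rw [this]
  refine ((((((isClosed_coord 0 true).inter (isClosed_coord 1 true)).inter ?_).inter ?_).inter
    ?_).inter ?_).inter ?_
  · exact isClosed_iInter fun x => isClosed_iInter fun y => isClosed_imp2 x y (x + y)
  · exact isClosed_iInter fun x => isClosed_imp1 x (-x)
  · exact isClosed_iInter fun x => isClosed_iInter fun y => isClosed_imp2 x y (x * y)
  · exact isClosed_iInter fun x => (isClosed_coord x true).union (isClosed_coord x⁻¹ true)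
  · exact isClosed_iInter fun a => isClosed_iInter fun _ => isClosed_coord a true

/-- the valuation subring of an indicator function satisfying the conditions. -/
def ofCond {A : Set K} (χ : K → Bool) (h : χ ∈ cond A) : ValuationSubring K :=
  { carrier := {x | χ x = true}
    mul_mem' := fun {x y} hx hy => h.2.2.2.2.1 x y hx hy
    one_mem' := h.2.1
    add_mem' := fun {x y} hx hy => h.2.2.1 x y hx hy
    zero_mem' := h.1
    neg_mem' := fun {x} hx => h.2.2.2.1 x hx
    mem_or_inv_mem' := h.2.2.2.2.2.1 }

theorem mem_ofCond {A : Set K} (χ : K → Bool) (h : χ ∈ cond A) (x : K) :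
    x ∈ ofCond χ h ↔ χ x = true := Iff.rfl

theorem image_ind_eq (A : Set K) :
    ind '' {R : ValuationSubring K | A ⊆ (R : Set K)} = cond A := by
  ext χ
  constructor
  · rintro ⟨R, hR, rfl⟩
    refine ⟨?_, ?_, ?_, ?_, ?_, ?_, ?_⟩
    · exact (ind_eq_true_iff R 0).2 R.zero_mem
    · exact (ind_eq_true_iff R 1).2 R.one_mem
    · intro x y hx hy
      exact (ind_eq_true_iff R _).2 (R.add_mem _ _ ((ind_eq_true_iff R x).1 hx)
        ((ind_eq_true_iff R y).1 hy))
    · intro x hx
      exact (ind_eq_true_iff R _).2 (R.neg_mem _ ((ind_eq_true_iff R x).1 hx))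
    · intro x y hx hy
      exact (ind_eq_true_iff R _).2 (R.mul_mem _ _ ((ind_eq_true_iff R x).1 hx)
        ((ind_eq_true_iff R y).1 hy))
    · intro x
      rcases R.mem_or_inv_mem x with h | h
      · exact Or.inl ((ind_eq_true_iff R _).2 h)
      · exact Or.inr ((ind_eq_true_iff R _).2 h)
    · intro a ha
      exact (ind_eq_true_iff R _).2 (hR ha)
  · intro h
    refine ⟨ofCond χ h, ?_, ?_⟩
    · intro a ha
      exact h.2.2.2.2.2.2 a ha
    · funext x
      by_cases hx : χ x = true
      · rw [hx]
        exact (ind_eq_true_iff _ x).2 hx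
      · have h1 : ¬ ind (ofCond χ h) x = true := fun h2 => hx ((ind_eq_true_iff _ x).1 h2)
        rw [Bool.not_eq_true] at hx h1
        rw [hx, h1]

/-- **Compactness of the Riemann–Zariski space.** -/
theorem isCompact_image_ind (A : Set K) :
    IsCompact (ind '' {R : ValuationSubring K | A ⊆ (R : Set K)}) := by
  rw [image_ind_eq]
  exact (isClosed_cond A).isCompact

theorem ind_injective : Function.Injective (ind : ValuationSubring K → K → Bool) := by
  intro R R' h
  ext x
  rw [← ind_eq_true_iff, ← ind_eq_true_iff, h]

end Groth.Agent.Lib.Seat43.RZCompact
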