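import Mathlib
import Groth.Agent.Lib.Seat43RZCompact
import Groth.Agent.Lib.Helper4DVREx

/-!
# Centres of valuation rings and quasi-compactness (seat 43)

For a morphism of schemes `f : X ⟶ Y` satisfying the valuative criterion (existence and uniqueness),
an affine open `V ⊆ Y` and a point `ξ` of `X` over `V`, every valuation ring of `κ(ξ)` containing the
image of `Γ(Y, V)` has a unique centre on `X`.  If `f` is locally of finite type the centre map is
continuous on the Riemann–Zariski space, hence `closure {ξ} ∩ f⁻¹ V` is compact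
(`isCompact_closure_inter`).
-/

set_option autoImplicit false
universe u
open CategoryTheory AlgebraicGeometry IsLocalRing

namespace Groth.Agent.Lib.Seat43.RZCenter

open Groth.Agent.Lib.Helper4.DVREx Groth.Agent.Lib.Seat43.RZCompact

variable {X Y : Scheme.{u}} (f : X ⟶ Y)

/-- the ring map `Γ(Y, V) ⟶ κ(ξ)`. -/
noncomputable def αA (V : Y.Opens) (ξ : X) (hξ : f ξ ∈ V) : Γ(Y, V) ⟶ X.residueField ξ :=
  f.app V ≫ X.evaluation (f ⁻¹ᵁ V) ξ hξ

lemma appLE_evaluation (V : Y.Opens) (U : X.Opens) (e : U ≤ f ⁻¹ᵁ V) (ξ : X) (hξU : ξ ∈ U) :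
    f.appLE V U e ≫ X.evaluation U ξ hξU = αA f V ξ (e hξU) := by
  rw [Scheme.Hom.appLE, Category.assoc, αA]
  congr 1
  show X.presheaf.map (homOfLE e).op ≫ X.presheaf.germ U ξ hξU ≫ X.residue ξ =
    X.presheaf.germ (f ⁻¹ᵁ V) ξ (e hξU) ≫ X.residue ξ
  rw [← Category.assoc, TopCat.Presheaf.germ_res]

lemma fromSpecResidueField_comp {V : Y.Opens} (hV : IsAffineOpen V) (ξ : X) (hξ : f ξ ∈ V) :
    X.fromSpecResidueField ξ ≫ f = Spec.map (αA f V ξ hξ) ≫ hV.fromSpec := by
  obtain ⟨U, hU, hξU, hUV⟩ := exists_isAffineOpen_mem_and_subset (U := f ⁻¹ᵁ V) (x := ξ) hξ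
  rw [fromSpecResidueField_eq hU ξ hξU, Category.assoc,
    ← IsAffineOpen.SpecMap_appLE_fromSpec f hV hU hUV, ← Category.assoc, ← Spec.map_comp,
    appLE_evaluation]

variable {f} {V : Y.Opens} (hV : IsAffineOpen V) (ξ : X) (hξ : f ξ ∈ V)

/-- the valuation rings of `κ(ξ)` over `Γ(Y, V)`. -/
def 𝒲 : Set (ValuationSubring (X.residueField ξ)) :=
  {R | ∀ a, (αA f V ξ hξ).hom a ∈ R}

/-- the map `Γ(Y, V) ⟶ R`. -/
noncomputable def βR (R : ValuationSubring (X.residueField ξ)) (hR : R ∈ 𝒲 ξ hξ) :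
    Γ(Y, V) ⟶ CommRingCat.of R :=
  CommRingCat.ofHom ((αA f V ξ hξ).hom.codRestrict R.toSubring hR)

lemma βR_comp (R : ValuationSubring (X.residueField ξ)) (hR : R ∈ 𝒲 ξ hξ) :
    βR ξ hξ R hR ≫ CommRingCat.ofHom (algebraMap R (X.residueField ξ)) = αA f V ξ hξ := by
  ext a
  rfl

/-- the valuative square of a valuation ring of `κ(ξ)` over `Γ(Y, V)`. -/
noncomputable def sq (R : ValuationSubring (X.residueField ξ)) (hR : R ∈ 𝒲 ξ hξ) :
    ValuativeCommSq f :=
  { R := R, K := X.residueField ξ, i₁ := X.fromSpecResidueField ξ,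
    i₂ := Spec.map (βR ξ hξ R hR) ≫ hV.fromSpec,
    commSq := ⟨by
      rw [fromSpecResidueField_comp f hV ξ hξ, ← Category.assoc, ← Spec.map_comp, βR_comp]⟩ }

variable (hf : ValuativeCriterion f)

/-- the lift of the valuative square of `R`. -/
noncomputable def lift (R : ValuationSubring (X.residueField ξ)) (hR : R ∈ 𝒲 ξ hξ) :
    Spec (CommRingCat.of R) ⟶ X :=
  ((hf (sq hV ξ hξ R hR)).some.default).l

lemma lift_fac_left (R : ValuationSubring (X.residueField ξ)) (hR : R ∈ 𝒲 ξ hξ) :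
    Spec.map (CommRingCat.ofHom (algebraMap R (X.residueField ξ))) ≫ lift hV ξ hξ hf R hR =
      X.fromSpecResidueField ξ :=
  ((hf (sq hV ξ hξ R hR)).some.default).fac_left

lemma lift_fac_right (R : ValuationSubring (X.residueField ξ)) (hR : R ∈ 𝒲 ξ hξ) :
    lift hV ξ hξ hf R hR ≫ f = Spec.map (βR ξ hξ R hR) ≫ hV.fromSpec :=
  ((hf (sq hV ξ hξ R hR)).some.default).fac_right

lemma eq_lift (R : ValuationSubring (X.residueField ξ)) (hR : R ∈ 𝒲 ξ hξ)
    (l' : Spec (CommRingCat.of R) ⟶ X)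
    (h1 : Spec.map (CommRingCat.ofHom (algebraMap R (X.residueField ξ))) ≫ l' =
      X.fromSpecResidueField ξ)
    (h2 : l' ≫ f = Spec.map (βR ξ hξ R hR) ≫ hV.fromSpec) : l' = lift hV ξ hξ hf R hR := by
  have := (hf (sq hV ξ hξ R hR)).some.uniq ⟨l', h1, h2⟩
  exact congrArg CommSq.LiftStruct.l this

/-- the centre of a valuation ring of `κ(ξ)` over `Γ(Y, V)`. -/
noncomputable def center (R : ValuationSubring (X.residueField ξ)) : X :=
  open Classical in
  if hR : R ∈ 𝒲 ξ hξ then lift hV ξ hξ hf R hR (closedPoint R) else ξ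

lemma center_eq (R : ValuationSubring (X.residueField ξ)) (hR : R ∈ 𝒲 ξ hξ) :
    center hV ξ hξ hf R = lift hV ξ hξ hf R hR (closedPoint R) := by
  rw [center, dif_pos hR]

lemma specializes_center (R : ValuationSubring (X.residueField ξ)) (hR : R ∈ 𝒲 ξ hξ) :
    ξ ⤳ center hV ξ hξ hf R := by
  rw [center_eq hV ξ hξ hf R hR]
  have h1 : ξ = lift hV ξ hξ hf R hR (Spec.map (CommRingCat.ofHom (algebraMap R
      (X.residueField ξ))) (closedPoint (X.residueField ξ))) := by
    rw [← Scheme.Hom.comp_apply, lift_fac_left]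
    exact (Scheme.fromSpecResidueField_apply ξ _).symm
  conv_lhs => rw [h1]
  exact (specializes_closedPoint (R := R) _).map (lift hV ξ hξ hf R hR).continuous

lemma center_mem_preimage (R : ValuationSubring (X.residueField ξ)) (hR : R ∈ 𝒲 ξ hξ) :
    f (center hV ξ hξ hf R) ∈ V := by
  rw [center_eq hV ξ hξ hf R hR, ← Scheme.Hom.comp_apply, lift_fac_right, Scheme.Hom.comp_apply]
  have h2 : hV.fromSpec (Spec.map (βR ξ hξ R hR) (closedPoint R)) ∈ Set.range hV.fromSpec :=
    ⟨_, rfl⟩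
  rw [hV.range_fromSpec] at h2
  exact h2

/-- if the functions of an affine open `U ⊆ f⁻¹ V` around `ξ` take values in `R`, the centre of `R`
lies in `U`. -/
lemma center_mem_of_evaluation_mem (R : ValuationSubring (X.residueField ξ)) (hR : R ∈ 𝒲 ξ hξ)
    {U : X.Opens} (hU : IsAffineOpen U) (e : U ≤ f ⁻¹ᵁ V) (hξU : ξ ∈ U)
    (h : ∀ b, (X.evaluation U ξ hξU).hom b ∈ R) : center hV ξ hξ hf R ∈ U := by
  let β : Γ(X, U) ⟶ CommRingCat.of R :=
    CommRingCat.ofHom ((X.evaluation U ξ hξU).hom.codRestrict R.toSubring h)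
  have hβ : β ≫ CommRingCat.ofHom (algebraMap R (X.residueField ξ)) = X.evaluation U ξ hξU := by
    ext b
    rfl
  have hβ2 : f.appLE V U e ≫ β = βR ξ hξ R hR := by
    ext a
    have := congrArg (fun k => k.hom a) (appLE_evaluation f V U e ξ hξU)
    exact this
  have h1 : Spec.map (CommRingCat.ofHom (algebraMap R (X.residueField ξ))) ≫
      (Spec.map β ≫ hU.fromSpec) = X.fromSpecResidueField ξ := by
    rw [← Category.assoc, ← Spec.map_comp, hβ, fromSpecResidueField_eq hU ξ hξU]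
  have h2 : (Spec.map β ≫ hU.fromSpec) ≫ f = Spec.map (βR ξ hξ R hR) ≫ hV.fromSpec := by
    rw [Category.assoc, ← IsAffineOpen.SpecMap_appLE_fromSpec f hV hU e, ← Category.assoc,
      ← Spec.map_comp, hβ2]
  have h3 := eq_lift hV ξ hξ hf R hR _ h1 h2
  rw [center_eq hV ξ hξ hf R hR, ← h3, Scheme.Hom.comp_apply]
  have h4 : hU.fromSpec (Spec.map β (closedPoint R)) ∈ Set.range hU.fromSpec := ⟨_, rfl⟩
  rw [hU.range_fromSpec] at h4
  exact h4

/-- if the centre of `R` lies in an affine open `U`, then `ξ ∈ U` and the functions on `U` take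
values in `R`. -/
lemma evaluation_mem_of_center_mem (R : ValuationSubring (X.residueField ξ)) (hR : R ∈ 𝒲 ξ hξ)
    {U : X.Opens} (hU : IsAffineOpen U) (hc : center hV ξ hξ hf R ∈ U) :
    ∃ hξU : ξ ∈ U, ∀ b, (X.evaluation U ξ hξU).hom b ∈ R := by
  have hξU : ξ ∈ U := (specializes_center hV ξ hξ hf R hR).mem_open U.2 hc
  refine ⟨hξU, ?_⟩
  rw [center_eq hV ξ hξ hf R hR] at hc
  obtain ⟨lam, hlam⟩ := exists_factor_fromSpec (lift hV ξ hξ hf R hR) hU hc
  have h1 : lam ≫ CommRingCat.ofHom (algebraMap R (X.residueField ξ)) = X.evaluation U ξ hξU := by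
    apply fromSpec_cancel hU
    rw [Spec.map_comp, Category.assoc, ← hlam, lift_fac_left, fromSpecResidueField_eq hU ξ hξU]
  intro b
  have := congrArg (fun k => k.hom b) h1
  simp only [CommRingCat.hom_comp, RingHom.coe_comp, Function.comp_apply,
    CommRingCat.hom_ofHom] at this
  rw [← this]
  exact (lam.hom b).2

/-- every specialization of `ξ` over `V` is the centre of a valuation ring. -/
lemma exists_center_eq (x : X) (hx : ξ ⤳ x) (hxV : f x ∈ V) :
    ∃ R ∈ 𝒲 ξ hξ, center hV ξ hξ hf R = x := by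
  obtain ⟨φx, hφx⟩ : ∃ φx : X.presheaf.stalk x ⟶ X.residueField ξ,
      φx = X.presheaf.stalkSpecializes hx ≫ X.residue ξ := ⟨_, rfl⟩
  obtain ⟨R, hRm, hloc⟩ := exists_factor_valuationRing φx.hom
  have hgermφ : ∀ (U : X.Opens) (hxU : x ∈ U),
      X.presheaf.germ U x hxU ≫ φx = X.evaluation U ξ (hx.mem_open U.2 hxU) := by
    intro U hxU
    rw [hφx, ← Category.assoc, TopCat.Presheaf.germ_stalkSpecializes]
    rfl
  have hα : ∀ a, (αA f V ξ hξ).hom a =
      φx.hom ((X.presheaf.germ (f ⁻¹ᵁ V) x hxV).hom ((f.app V).hom a)) := by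
    intro a
    have := congrArg (fun k => k.hom ((f.app V).hom a)) (hgermφ (f ⁻¹ᵁ V) hxV)
    exact this.symm
  have hR : R ∈ 𝒲 ξ hξ := fun a => by rw [hα]; exact hRm _
  refine ⟨R, hR, ?_⟩
  obtain ⟨γ, hγdef⟩ : ∃ γ : X.presheaf.stalk x ⟶ CommRingCat.of R,
      γ = CommRingCat.ofHom (φx.hom.codRestrict R.toSubring hRm) := ⟨_, rfl⟩
  have hγ : γ ≫ CommRingCat.ofHom (algebraMap R (X.residueField ξ)) = φx := by
    rw [hγdef]
    ext b
    rfl
  have h1 : Spec.map (CommRingCat.ofHom (algebraMap R (X.residueField ξ))) ≫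
      (Spec.map γ ≫ X.fromSpecStalk x) = X.fromSpecResidueField ξ := by
    rw [← Category.assoc, ← Spec.map_comp, hγ, hφx, Spec.map_comp, Category.assoc,
      Scheme.SpecMap_stalkSpecializes_fromSpecStalk]
    rfl
  have h2 : (Spec.map γ ≫ X.fromSpecStalk x) ≫ f = Spec.map (βR ξ hξ R hR) ≫ hV.fromSpec := by
    obtain ⟨U, hU, hxU, hUV⟩ := exists_isAffineOpen_mem_and_subset (U := f ⁻¹ᵁ V) (x := x) hxV
    rw [Category.assoc, ← hU.fromSpecStalk_eq_fromSpecStalk hxU, IsAffineOpen.fromSpecStalk,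
      Category.assoc, ← IsAffineOpen.SpecMap_appLE_fromSpec f hV hU hUV, ← Spec.map_comp_assoc,
      ← Spec.map_comp_assoc]
    congr 2
    ext a
    have e1 := congrArg (fun k => k.hom ((f.appLE V U hUV).hom a)) (hgermφ U hxU)
    have e2 := congrArg (fun k => k.hom a)
      (appLE_evaluation f V U hUV ξ (hx.mem_open U.2 hxU))
    rw [hγdef]
    exact e1.trans e2
  have h3 := eq_lift hV ξ hξ hf R hR _ h1 h2
  rw [center_eq hV ξ hξ hf R hR, ← h3, Scheme.Hom.comp_apply]
  have h4 : Spec.map γ (closedPoint R) = closedPoint (X.presheaf.stalk x) := by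
    rw [hγdef]
    exact comap_closedPoint (S := R) (φx.hom.codRestrict R.toSubring hRm)
  rw [h4, Scheme.fromSpecStalk_closedPoint]

omit hf in
/-- values in `R` on generators suffice. -/
lemma evaluation_mem_of_generators (R : ValuationSubring (X.residueField ξ)) (hR : R ∈ 𝒲 ξ hξ)
    {U : X.Opens} (e : U ≤ f ⁻¹ᵁ V) (hξU : ξ ∈ U) (s : Finset Γ(X, U))
    (hs : letI := (f.appLE V U e).hom.toAlgebra
      Algebra.adjoin Γ(Y, V) (s : Set Γ(X, U)) = ⊤)
    (h : ∀ b ∈ s, (X.evaluation U ξ hξU).hom b ∈ R) :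
    ∀ b, (X.evaluation U ξ hξU).hom b ∈ R := by
  letI := (f.appLE V U e).hom.toAlgebra
  intro b
  have hb : b ∈ Algebra.adjoin Γ(Y, V) (s : Set Γ(X, U)) := by rw [hs]; trivial
  induction hb using Algebra.adjoin_induction with
  | mem x hx => exact h x hx
  | algebraMap a =>
    have := congrArg (fun k => k.hom a) (appLE_evaluation f V U e ξ hξU)
    have h2 : (X.evaluation U ξ hξU).hom (algebraMap Γ(Y, V) Γ(X, U) a) =
        (αA f V ξ hξ).hom a := this
    rw [h2]
    exact hR a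
  | add x y _ _ hx hy => rw [map_add]; exact R.add_mem _ _ hx hy
  | mul x y _ _ hx hy => rw [map_mul]; exact R.mul_mem _ _ hx hy

include hV hξ hf in
/-- **Compactness of the specializations of a point over an affine open of the base.** -/
theorem isCompact_closure_inter [LocallyOfFiniteType f] :
    IsCompact (closure ({ξ} : Set X) ∩ (f ⁻¹ᵁ V : Set X)) := by
  letI : TopologicalSpace (ValuationSubring (X.residueField ξ)) :=
    TopologicalSpace.induced ind inferInstance
  have hind : Topology.IsInducing (ind : ValuationSubring (X.residueField ξ) → _) := ⟨rfl⟩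
  have h𝒲 : IsCompact (𝒲 ξ hξ) := by
    rw [hind.isCompact_iff]
    have : 𝒲 ξ hξ = {R : ValuationSubring (X.residueField ξ) |
        Set.range (αA f V ξ hξ).hom ⊆ (R : Set (X.residueField ξ))} := by
      ext R
      constructor
      · rintro h _ ⟨a, rfl⟩
        exact h a
      · intro h a
        exact h ⟨a, rfl⟩
    rw [this]
    exact isCompact_image_ind _
  have hcont : ContinuousOn (center hV ξ hξ hf) (𝒲 ξ hξ) := by
    rw [continuousOn_iff]
    intro R₀ hR₀ W hW hcW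
    obtain ⟨U, hU, hcU, hUW⟩ := exists_isAffineOpen_mem_and_subset
      (U := (⟨W, hW⟩ : X.Opens) ⊓ f ⁻¹ᵁ V) (x := center hV ξ hξ hf R₀)
      ⟨hcW, center_mem_preimage hV ξ hξ hf R₀ hR₀⟩
    have e : U ≤ f ⁻¹ᵁ V := fun y hy => (hUW hy).2
    obtain ⟨hξU, hev⟩ := evaluation_mem_of_center_mem hV ξ hξ hf R₀ hR₀ hU hcU
    have hft : (f.appLE V U e).hom.FiniteType := f.finiteType_appLE hV hU e
    obtain ⟨s, hs⟩ := hft
    refine ⟨ind ⁻¹' (⋂ b ∈ s, {χ | χ ((X.evaluation U ξ hξU).hom b) = true}), ?_, ?_, ?_⟩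
    · exact (isOpen_biInter_finset fun b _ => isOpen_coord _ true).preimage hind.continuous
    · simp only [Set.mem_preimage, Set.mem_iInter]
      intro b _
      exact (ind_eq_true_iff _ _).2 (hev b)
    · rintro R ⟨hRN, hR⟩
      simp only [Set.mem_preimage, Set.mem_iInter] at hRN
      have h1 : ∀ b ∈ s, (X.evaluation U ξ hξU).hom b ∈ R :=
        fun b hb => (ind_eq_true_iff R _).1 (hRN b hb)
      have hall := evaluation_mem_of_generators ξ hξ R hR e hξU s hs h1
      exact (hUW (center_mem_of_evaluation_mem hV ξ hξ hf R hR hU e hξU hall)).1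
  have himage : center hV ξ hξ hf '' (𝒲 ξ hξ) =
      closure ({ξ} : Set X) ∩ (f ⁻¹ᵁ V : Set X) := by
    ext x
    constructor
    · rintro ⟨R, hR, rfl⟩
      exact ⟨specializes_iff_mem_closure.1 (specializes_center hV ξ hξ hf R hR),
        center_mem_preimage hV ξ hξ hf R hR⟩
    · rintro ⟨hx1, hx2⟩
      obtain ⟨R, hR, h⟩ := exists_center_eq hV ξ hξ hf x (specializes_iff_mem_closure.2 hx1) hx2
      exact ⟨R, hR, h⟩
  rw [← himage]
  exact h𝒲.image_of_continuousOn hcont

end Groth.Agent.Lib.Seat43.RZCenter
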