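import Mathlib
import Groth.Agent.Lib.Seat43DvrClosure
import Groth.Agent.Lib.Helper12Proper
import Groth.Agent.Lib.Seat43SepLemma

/-!
# Discrete valuation rings through a given point (seat 43)

* `exists_dvr_at_point` (schemes): for a morphism locally of finite type `φ : W ⟶ T` to a locally
  Noetherian scheme, a point `w` and a specialization `φ w ⤳ v`, there is a discrete valuation ring
  whose closed point goes to `v` and whose generic point lifts to `W` at the point `w`.
-/

set_option autoImplicit false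
universe u
open CategoryTheory CategoryTheory.Limits AlgebraicGeometry Opposite
open AlgSp

namespace Groth.Agent.Lib.Seat43.RefDvrA

open Groth.Agent.Lib.Helper4.DVRSch Groth.Agent.Lib.Helper4.DVREx

open IsLocalRing in
/-- a discrete valuation ring through a given point of the source and a given specialization of its
image. -/
theorem exists_dvr_at_point {W T : Scheme.{u}} [IsLocallyNoetherian T] (φ : W ⟶ T)
    [LocallyOfFiniteType φ] (w : W) (v : T) (hw : φ w ⤳ v) :
    ∃ (A : Type u) (_ : CommRing A) (_ : IsDomain A) (_ : IsDiscreteValuationRing A)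
      (α : Spec (CommRingCat.of A) ⟶ T) (β : Spec (CommRingCat.of (FractionRing A)) ⟶ W),
      α (closedPoint A) = v ∧
      β ≫ φ = Spec.map (CommRingCat.ofHom (algebraMap A (FractionRing A))) ≫ α ∧
      ∀ ξ, β ξ = w := by
  by_cases hne : φ w = v
  · refine ⟨PowerSeries (W.residueField w), inferInstance, inferInstance, inferInstance,
      Spec.map (CommRingCat.ofHom (PowerSeries.C : W.residueField w →+* PowerSeries (W.residueField w))) ≫
        W.fromSpecResidueField w ≫ φ,
      Spec.map (CommRingCat.ofHom (algebraMap (PowerSeries (W.residueField w))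
        (FractionRing (PowerSeries (W.residueField w))))) ≫
        Spec.map (CommRingCat.ofHom (PowerSeries.C : W.residueField w →+* PowerSeries (W.residueField w))) ≫
        W.fromSpecResidueField w, ?_, ?_, ?_⟩
    · rw [Scheme.Hom.comp_apply, Scheme.Hom.comp_apply, Scheme.fromSpecResidueField_apply]
      exact hne
    · simp only [Category.assoc]
    · intro ξ
      rw [Scheme.Hom.comp_apply, Scheme.Hom.comp_apply, Scheme.fromSpecResidueField_apply]
  · obtain ⟨V, hV, g, hg1, hg2⟩ := exists_dvr_hom hw hne (L := W.residueField w)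
      (φ.residueFieldMap w)
      (RingHom.EssFiniteType.residueFieldMap (LocallyOfFiniteType.stalkMap φ w))
    obtain ⟨a, b, -, -, hab, -⟩ := dvr_bridge V
    refine ⟨↥V, inferInstance, inferInstance, hV, g, Spec.map a ≫ W.fromSpecResidueField w, hg2,
      ?_, ?_⟩
    · rw [Category.assoc, ← Scheme.Hom.SpecMap_residueFieldMap_fromSpecResidueField, ← hg1,
        ← Spec.map_comp_assoc, hab]
    · intro ξ
      rw [Scheme.Hom.comp_apply, Scheme.fromSpecResidueField_apply]

variable {S : Scheme.{u}}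

open Groth.Agent.Lib.Helper12.Proper in
set_option backward.isDefEq.respectTransparency false in
/-- **Closedness at points over `U`, Noetherian base change.**  Let `h : U ⟶ X`, `f : X ⟶ Y` be of
finite type such that valuative squares of `h ≫ f` over discrete valuation rings lift to `X`.  For a
base change `P = X ×_Y An ⟶ An` to a locally Noetherian scheme and a point `ζ` of `P` lying over the
image of `h`, every specialization of the image of `ζ` is the image of a specialization of `ζ`. -/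
theorem exists_mem_closure_of_dvr {U X Y : AlgSp.Space S} (h : U ⟶ X) (f : X ⟶ Y)
    (hft : AlgSp.IsFiniteTypeMor f.hom) (hh : AlgSp.IsFiniteTypeMor h.hom)
    (hval : ∀ sq : AlgSp.ValSq (h.hom ≫ f.hom), IsDiscreteValuationRing sq.A →
      ∃ l : (AlgSp.yon S).obj sq.ptA ⟶ X.obj,
        (AlgSp.yon S).map sq.j ≫ l = sq.top ≫ h.hom ∧ l ≫ f.hom = sq.bot)
    (An : Over S) [IsLocallyNoetherian An.left] (b : (AlgSp.yon S).obj An ⟶ Y.obj)
    {P : AlgSp.Sp S} (fst : P ⟶ X.obj) (snd : P ⟶ (AlgSp.yon S).obj An)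
    (sq : IsPullback fst snd f.hom b) (ζ : AlgSp.Points P)
    (hζ : AlgSp.Points.map fst ζ ∈ Set.range (AlgSp.Points.map h.hom))
    (y : AlgSp.Points ((AlgSp.yon S).obj An)) (hy : AlgSp.Points.map snd ζ ⤳ y) :
    ∃ z ∈ closure ({ζ} : Set (AlgSp.Points P)), AlgSp.Points.map snd z = y := by
  have hAn := AlgSp.IsAlgSpace.yon_obj (S := S) An
  have hP : AlgSp.IsAlgSpace P :=
    Groth.Agent.S9874.isAlgSpace_of_isPullback Y.property.diag X.property hAn sq
  have sqQ := IsPullback.of_hasPullback fst h.hom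
  have hQ : AlgSp.IsAlgSpace (pullback fst h.hom) :=
    Groth.Agent.S9874.isAlgSpace_of_isPullback X.property.diag hP U.property sqQ
  obtain ⟨u, hu⟩ := hζ
  obtain ⟨p, hp1, hp2⟩ := Groth.Agent.S10175.exists_point_of_isPullback sqQ ζ u hu.symm
  obtain ⟨B, _, strB, cB, w, hcBe, hw⟩ :=
    Groth.Agent.Lib.Seat47.SmLift.exists_affine_chart hQ p
  obtain ⟨φo, hφo⟩ := (AlgSp.yon S).map_surjective (cB ≫ pullback.fst fst h.hom ≫ snd)
  have hsnd_lft : AlgSp.LocP @LocallyOfFiniteType snd :=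
    locP_lft_baseChange X.property Y.property hAn sq hft.1
  have hpr_lft : AlgSp.LocP @LocallyOfFiniteType (pullback.fst fst h.hom) :=
    locP_lft_baseChange U.property X.property hP sqQ.flip hh.1
  have hcomp_lft : AlgSp.LocP @LocallyOfFiniteType (pullback.fst fst h.hom ≫ snd) :=
    locP_lft_comp hP hAn _ _ hpr_lft hsnd_lft
  have hφlft : LocallyOfFiniteType φo.left :=
    hcomp_lft cB (𝟙 _) φo hcBe (AlgSp.repWith_id _ An) (by rw [Category.comp_id, hφo])
  have hφw : AlgSp.Points.map snd ζ = AlgSp.Points.schemeHomeo An (φo.left w) := by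
    rw [← hp1, ← hw, AlgSp.Points.map_ofPt, AlgSp.Points.map_ofPt, Category.assoc, ← hφo,
      ← Category.comp_id ((AlgSp.yon S).map φo), Groth.Agent.S10176.ofPt_map_comp]
    rfl
  obtain ⟨v, rfl⟩ := (AlgSp.Points.schemeHomeo An).surjective y
  have hwv : φo.left w ⤳ v := by
    rw [hφw] at hy
    exact (AlgSp.Points.schemeHomeo An).isInducing.specializes_iff.1 hy
  obtain ⟨A, _, _, hA, α, β, hα, hβ, hβw⟩ := exists_dvr_at_point φo.left w v hwv
  have hstrB : strB = φo.left ≫ An.hom := (Over.w φo).symm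
  obtain ⟨αo, hαo⟩ : ∃ αo : Over.mk (α ≫ An.hom) ⟶ An, αo.left = α := ⟨Over.homMk α rfl, rfl⟩
  obtain ⟨βo, hβo⟩ : ∃ βo : Over.mk (Spec.map (CommRingCat.ofHom (algebraMap A (FractionRing A))) ≫
      α ≫ An.hom) ⟶ Over.mk strB, βo.left = β :=
    ⟨Over.homMk β (by
      show β ≫ strB = Spec.map _ ≫ α ≫ An.hom
      rw [hstrB, ← Category.assoc, hβ, Category.assoc]), rfl⟩
  obtain ⟨jo, hjo⟩ : ∃ jo : Over.mk (Spec.map (CommRingCat.ofHom (algebraMap A (FractionRing A))) ≫
      α ≫ An.hom) ⟶ Over.mk (α ≫ An.hom),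
      jo = Over.homMk (Spec.map (CommRingCat.ofHom (algebraMap A (FractionRing A)))) rfl :=
    ⟨_, rfl⟩
  have hjol : jo.left = Spec.map (CommRingCat.ofHom (algebraMap A (FractionRing A))) := by
    rw [hjo]; rfl
  have hβφ : βo ≫ φo = jo ≫ αo := by
    apply Over.OverMorphism.ext
    show βo.left ≫ φo.left = jo.left ≫ αo.left
    rw [hβo, hαo, hjol, hβ]
  have hcomm : ((AlgSp.yon S).map βo ≫ cB ≫ pullback.snd fst h.hom) ≫ h.hom ≫ f.hom =
      (AlgSp.yon S).map jo ≫ (AlgSp.yon S).map αo ≫ b := by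
    calc ((AlgSp.yon S).map βo ≫ cB ≫ pullback.snd fst h.hom) ≫ h.hom ≫ f.hom
        = (AlgSp.yon S).map βo ≫ cB ≫ (pullback.snd fst h.hom ≫ h.hom) ≫ f.hom := by
          simp only [Category.assoc]
      _ = (AlgSp.yon S).map βo ≫ cB ≫ (pullback.fst fst h.hom ≫ fst) ≫ f.hom := by
          rw [pullback.condition]
      _ = (AlgSp.yon S).map βo ≫ (cB ≫ pullback.fst fst h.hom ≫ snd) ≫ b := by
          simp only [Category.assoc, sq.w]
      _ = (AlgSp.yon S).map (βo ≫ φo) ≫ b := by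
          rw [← hφo, Functor.map_comp, Category.assoc]
      _ = _ := by rw [hβφ, Functor.map_comp, Category.assoc]
  let vsq : AlgSp.ValSq (h.hom ≫ f.hom) :=
    { A := A, K := FractionRing A, str := α ≫ An.hom,
      top := (AlgSp.yon S).map βo ≫ cB ≫ pullback.snd fst h.hom,
      bot := (AlgSp.yon S).map αo ≫ b,
      comm := by rw [hcomm, hjo] }
  obtain ⟨l, hl1, hl2⟩ := hval vsq hA
  have hl2' : l ≫ f.hom = (AlgSp.yon S).map αo ≫ b := hl2
  have hl1' : (AlgSp.yon S).map jo ≫ l =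
      ((AlgSp.yon S).map βo ≫ cB ≫ pullback.snd fst h.hom) ≫ h.hom := by
    rw [hjo]; exact hl1
  obtain ⟨m, hm1, hm2⟩ : ∃ m : (AlgSp.yon S).obj (Over.mk (α ≫ An.hom)) ⟶ P, m ≫ fst = l ∧
      m ≫ snd = (AlgSp.yon S).map αo := ⟨sq.lift _ _ hl2', sq.lift_fst _ _ hl2', sq.lift_snd _ _ hl2'⟩
  have hgen : (AlgSp.yon S).map jo ≫ m = (AlgSp.yon S).map βo ≫ cB ≫ pullback.fst fst h.hom := by
    apply sq.hom_ext
    · rw [Category.assoc, hm1, hl1']
      simp only [Category.assoc, pullback.condition]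
    · rw [Category.assoc, hm2, ← Functor.map_comp, ← hβφ, Functor.map_comp, hφo]
      simp only [Category.assoc]
  have hgenζ : ∀ ξ : ↥(Spec (CommRingCat.of (FractionRing A))),
      AlgSp.Points.ofPt m (jo.left ξ) = ζ := by
    intro ξ
    have e : βo.left ξ = w := by rw [hβo]; exact hβw ξ
    rw [← Groth.Agent.S10176.ofPt_map_comp, hgen, Groth.Agent.S10176.ofPt_map_comp, e,
      ← AlgSp.Points.map_ofPt, hw, hp1]
  refine ⟨AlgSp.Points.ofPt m (IsLocalRing.closedPoint A), ?_, ?_⟩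
  · obtain ⟨ξ⟩ : Nonempty ↥(Spec (CommRingCat.of (FractionRing A))) :=
      inferInstanceAs (Nonempty (PrimeSpectrum (FractionRing A)))
    have hs : jo.left ξ ⤳ IsLocalRing.closedPoint A :=
      IsLocalRing.specializes_closedPoint (R := A) _
    have hs' := hs.map (AlgSp.Points.continuous_ofPt m)
    rw [hgenζ ξ] at hs'
    exact specializes_iff_mem_closure.1 hs'
  · have e : αo.left (IsLocalRing.closedPoint A) = v := by rw [hαo]; exact hα
    rw [AlgSp.Points.map_ofPt, hm2, ← Category.comp_id ((AlgSp.yon S).map αo),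
      Groth.Agent.S10176.ofPt_map_comp, e]
    rfl

open Groth.Agent.Lib.Seat43.SepCore in
set_option backward.isDefEq.respectTransparency false in
/-- **Closedness at points over `U`, arbitrary affine base change over a Noetherian chart.** -/
theorem exists_mem_closure_of_dvr_general {R : Type u} [CommRing R] [IsNoetherianRing R]
    (sR : Spec (CommRingCat.of R) ⟶ S) {U X Y : AlgSp.Space S} (h : U ⟶ X) (f : X ⟶ Y)
    (hft : AlgSp.IsFiniteTypeMor f.hom) (hh : AlgSp.IsFiniteTypeMor h.hom)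
    (hval : ∀ sq : AlgSp.ValSq (h.hom ≫ f.hom), IsDiscreteValuationRing sq.A →
      ∃ l : (AlgSp.yon S).obj sq.ptA ⟶ X.obj,
        (AlgSp.yon S).map sq.j ≫ l = sq.top ≫ h.hom ∧ l ≫ f.hom = sq.bot)
    (cY : (AlgSp.yon S).obj (Over.mk sR) ⟶ Y.obj)
    (C : Type u) [CommRing C] [Algebra R C] {PV : AlgSp.Sp S} (r₁ : PV ⟶ X.obj)
    (r₂ : PV ⟶ (AlgSp.yon S).obj (ov sR C))
    (hPV : IsPullback r₁ r₂ f.hom ((AlgSp.yon S).map (toBase sR C) ≫ cY))
    (ζ : AlgSp.Points PV) (hζ : AlgSp.Points.map r₁ ζ ∈ Set.range (AlgSp.Points.map h.hom))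
    (v : ↥(Spec (CommRingCat.of C)))
    (hv : AlgSp.Points.map r₂ ζ ⤳ AlgSp.Points.schemeEquiv (ov sR C) v) :
    ∃ z ∈ closure ({ζ} : Set (AlgSp.Points PV)),
      AlgSp.Points.map r₂ z = AlgSp.Points.schemeEquiv (ov sR C) v := by
  by_contra hcon
  have hv' : AlgSp.Points.schemeEquiv (ov sR C) v ∉ AlgSp.Points.map r₂ '' closure {ζ} := by
    rintro ⟨z, hz, hz'⟩
    exact hcon ⟨z, hz, hz'⟩
  obtain ⟨k, φ, H⟩ := Groth.Agent.Lib.Seat43.SepLemma.sep_general sR f hft.2 cY C r₁ r₂ hPV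
    (closure {ζ}) isClosed_closure v hv'
  have sqP' := IsPullback.of_hasPullback f.hom
    ((AlgSp.yon S).map (toBase sR (MvPolynomial (ULift.{u} (Fin k)) R)) ≫ cY)
  obtain ⟨T', hT'c, hT'v, hT'κ⟩ := H _ _ _ sqP'
  have hκw : r₁ ≫ f.hom = (r₂ ≫ (AlgSp.yon S).map (ovMap sR φ)) ≫
      (AlgSp.yon S).map (toBase sR (MvPolynomial (ULift.{u} (Fin k)) R)) ≫ cY := by
    rw [hPV.w, Category.assoc, ← Category.assoc ((AlgSp.yon S).map (ovMap sR φ)),
      ← Functor.map_comp, ovMap_toBase]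
  obtain ⟨κ, hκ1, hκ2⟩ : ∃ κ : PV ⟶ pullback f.hom
      ((AlgSp.yon S).map (toBase sR (MvPolynomial (ULift.{u} (Fin k)) R)) ≫ cY),
      κ ≫ pullback.fst _ _ = r₁ ∧ κ ≫ pullback.snd _ _ = r₂ ≫ (AlgSp.yon S).map (ovMap sR φ) :=
    ⟨pullback.lift _ _ hκw, pullback.lift_fst _ _ _, pullback.lift_snd _ _ _⟩
  have hζ'T : AlgSp.Points.map κ ζ ∈ T' := hT'κ κ hκ1 hκ2 ζ (subset_closure rfl)
  haveI : IsLocallyNoetherian (ov sR (MvPolynomial (ULift.{u} (Fin k)) R)).left :=
    inferInstanceAs (IsLocallyNoetherian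
      (Spec (CommRingCat.of (MvPolynomial (ULift.{u} (Fin k)) R))))
  obtain ⟨z', hz'cl, hz'⟩ := exists_mem_closure_of_dvr h f hft hh hval
    (ov sR (MvPolynomial (ULift.{u} (Fin k)) R))
    ((AlgSp.yon S).map (toBase sR (MvPolynomial (ULift.{u} (Fin k)) R)) ≫ cY)
    (pullback.fst _ _) (pullback.snd _ _) sqP' (AlgSp.Points.map κ ζ)
    (by rw [← AlgSp.Points.map_comp, hκ1]; exact hζ)
    (AlgSp.Points.schemeEquiv _ ((ovMap sR φ).left v))
    (by
      rw [← AlgSp.Points.map_comp, hκ2, AlgSp.Points.map_comp]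
      have h1 := hv.map (AlgSp.Points.continuous_map ((AlgSp.yon S).map (ovMap sR φ)))
      have h2 : AlgSp.Points.map ((AlgSp.yon S).map (ovMap sR φ))
          (AlgSp.Points.schemeEquiv (ov sR C) v) =
          AlgSp.Points.schemeEquiv _ ((ovMap sR φ).left v) :=
        AlgSp.Points.map_yon_map_apply (ovMap sR φ) v
      rw [h2] at h1
      exact h1)
  apply hT'v
  refine ⟨z', ?_, hz'⟩
  exact (hT'c.closure_subset_iff.2 (Set.singleton_subset_iff.2 hζ'T)) hz'cl

end Groth.Agent.Lib.Seat43.RefDvrA
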