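import Mathlib
import Groth.Agent.Lib.Seat43CompVal
import Groth.Agent.Lib.Seat43FinSepVC
import Groth.Agent.Lib.Seat43ValImage
import Groth.Agent.S10292
import Groth.Agent.S9906
import Groth.Agent.S9908
import Groth.Agent.S9913
import Groth.Agent.S10180
import Groth.Agent.S10175
import Groth.Agent.S10211
import Groth.Agent.S10177
import Groth.Agent.S10288
import Groth.Agent.S10280
import Groth.Agent.S9912
import Groth.Agent.Lib.Seat43QcChart

/-!
# The refined valuative criterion for universal closedness (seat 43)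

If `f : X ⟶ Y` and `h : U ⟶ X` are quasi-compact, `|U|` is dense in `|X|` and valuative squares whose generic point
factors through `U` have at most one lift and a lift after a dominating extension, then `f` satisfies the existence
part of the valuative criterion.
-/

set_option autoImplicit false
universe u
open CategoryTheory CategoryTheory.Limits AlgebraicGeometry Opposite
open AlgSp

namespace Groth.Agent.Lib.Seat43.RefinedVC

open Groth.Agent.Lib.Seat43.CutOut Groth.Agent.Lib.Seat43.CompVal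

variable {S : Scheme.{u}}

set_option backward.isDefEq.respectTransparency false in
/-- a morphism from the spectrum of a valuation ring to an algebraic space lifts, after an extension of valuation
rings, to an affine étale chart. -/
theorem exists_affine_lift {P : AlgSp.Sp S} (hP : AlgSp.IsAlgSpace P) (A₀ : Type u) [CommRing A₀]
    [IsDomain A₀] [ValuationRing A₀] (str₀ : Spec (CommRingCat.of A₀) ⟶ S)
    (b : (AlgSp.yon S).obj (Over.mk str₀) ⟶ P) :
    ∃ (A₁ : Type u) (_ : CommRing A₁) (_ : IsDomain A₁) (_ : ValuationRing A₁) (φ₁ : A₀ →+* A₁)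
      (B : Type u) (_ : CommRing B) (strB : Spec (CommRingCat.of B) ⟶ S)
      (cB : (AlgSp.yon S).obj (Over.mk strB) ⟶ P) (a₁ : B →+* A₁)
      (hstr : Spec.map (CommRingCat.ofHom a₁) ≫ strB = Spec.map (CommRingCat.ofHom φ₁) ≫ str₀),
      Function.Injective φ₁ ∧ IsLocalHom φ₁ ∧ AlgSp.RepWith @Etale cB ∧
      (AlgSp.yon S).map (Over.homMk (Spec.map (CommRingCat.ofHom a₁)) hstr :
        Over.mk (Spec.map (CommRingCat.ofHom φ₁) ≫ str₀) ⟶ Over.mk strB) ≫ cB =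
      (AlgSp.yon S).map (Over.homMk (Spec.map (CommRingCat.ofHom φ₁)) rfl :
        Over.mk (Spec.map (CommRingCat.ofHom φ₁) ≫ str₀) ⟶ Over.mk str₀) ≫ b := by
  obtain ⟨Ap, p, hpe, hps⟩ := hP.atlas
  let PS : AlgSp.Space S := ⟨P, hP⟩
  let AS : AlgSp.Space S := ⟨(AlgSp.yon S).obj Ap, AlgSp.IsAlgSpace.yon_obj Ap⟩
  let pS : AS ⟶ PS := ObjectProperty.homMk p
  have hpflat : AlgSp.LocP @Flat pS.hom := locP_flat_of_repWith_etale p hpe
  obtain ⟨A₁, i1, i2, i3, φ₁, hφ₁inj, hφ₁loc, l', hl'⟩ :=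
    Groth.Agent.S10292.result pS hpflat A₀ str₀ b
      (Groth.Agent.S9906.surjective_map_of_repWith p hps _)
  obtain ⟨l₁o, hl₁o⟩ := (AlgSp.yon S).map_surjective l'
  obtain ⟨_, ⟨V, hV, rfl⟩, hyV, -⟩ := Ap.left.isBasis_affineOpens.exists_subset_of_mem_open
    (Set.mem_univ (l₁o.left (IsLocalRing.closedPoint A₁))) isOpen_univ
  have hrange : Set.range l₁o.left ⊆ Set.range hV.fromSpec := by
    rw [hV.range_fromSpec]
    rintro _ ⟨y, rfl⟩
    have hs : l₁o.left y ⤳ l₁o.left (IsLocalRing.closedPoint A₁) :=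
      (IsLocalRing.specializes_closedPoint y).map l₁o.left.continuous
    exact hs.mem_open V.2 hyV
  obtain ⟨τ, hτ⟩ : ∃ τ : Spec (CommRingCat.of A₁) ⟶ Spec (CommRingCat.of Γ(Ap.left, V)),
      τ ≫ hV.fromSpec = l₁o.left :=
    ⟨IsOpenImmersion.lift hV.fromSpec l₁o.left hrange, IsOpenImmersion.lift_fac _ _ _⟩
  obtain ⟨a₁c, ha₁c⟩ : ∃ a₁c : CommRingCat.of Γ(Ap.left, V) ⟶ CommRingCat.of A₁, Spec.map a₁c = τ :=
    ⟨Spec.preimage _, Spec.map_preimage _⟩
  let g : Over.mk (hV.fromSpec ≫ Ap.hom) ⟶ Ap := Over.homMk hV.fromSpec rfl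
  have hstr : Spec.map (CommRingCat.ofHom a₁c.hom) ≫ hV.fromSpec ≫ Ap.hom =
      Spec.map (CommRingCat.ofHom φ₁) ≫ str₀ := by
    change Spec.map a₁c ≫ _ = _
    rw [ha₁c, ← Category.assoc, hτ]
    exact Over.w l₁o
  refine ⟨A₁, i1, i2, i3, φ₁, Γ(Ap.left, V), inferInstance, hV.fromSpec ≫ Ap.hom,
    (AlgSp.yon S).map g ≫ p, a₁c.hom, hstr, hφ₁inj, hφ₁loc, ?_, ?_⟩
  · exact MorphismProperty.comp_mem _ _ _
      ((AlgSp.repWith_yon_map_iff _ _).2 (show Etale hV.fromSpec from inferInstance)) hpe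
  · rw [← Category.assoc, ← Functor.map_comp]
    have : (Over.homMk (Spec.map (CommRingCat.ofHom a₁c.hom)) hstr :
        Over.mk (Spec.map (CommRingCat.ofHom φ₁) ≫ str₀) ⟶ Over.mk (hV.fromSpec ≫ Ap.hom)) ≫ g =
        l₁o := by
      apply Over.OverMorphism.ext
      show Spec.map a₁c ≫ hV.fromSpec = _
      rw [ha₁c, hτ]
    rw [this, hl₁o]
    exact hl'

/-- a fraction field in the same universe. -/
lemma exists_fractionField (A : Type u) [CommRing A] [IsDomain A] :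
    ∃ (K : Type u) (_ : Field K) (_ : Algebra A K), IsFractionRing A K :=
  ⟨FractionRing A, inferInstance, inferInstance, inferInstance⟩

/-- the kernel of the ring map underlying a morphism from the spectrum of a field is the prime of the image point. -/
lemma ker_eq_asIdeal {B F : Type u} [CommRing B] [Field F] (β : B →+* F) :
    RingHom.ker β = ((Spec.map (CommRingCat.ofHom β)) (IsLocalRing.closedPoint F)).asIdeal := by
  have h1 : (IsLocalRing.closedPoint F).asIdeal = ⊥ := IsLocalRing.maximalIdeal_eq_bot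
  show _ = Ideal.comap β (IsLocalRing.closedPoint F).asIdeal
  rw [h1, RingHom.ker_eq_comap_bot]

/-- the chart of the base change of a morphism with dense image along an étale chart has dense image. -/
lemma dense_range_chart {U X PU : AlgSp.Sp S} (h : U ⟶ X) (hd : DenseRange (AlgSp.Points.map h))
    {Bc : Over S} (cX : (AlgSp.yon S).obj Bc ⟶ X) (hcX : AlgSp.RepWith @Etale cX)
    (fst : PU ⟶ U) (snd : PU ⟶ (AlgSp.yon S).obj Bc) (sqPU : IsPullback fst snd h cX)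
    {W : Over S} (qW : (AlgSp.yon S).obj W ⟶ PU) (hqWs : AlgSp.RepWith @Surjective qW)
    (φWo : W ⟶ Bc) (hφWo : qW ≫ snd = (AlgSp.yon S).map φWo) : Dense (Set.range φWo.left) := by
  have hopen : IsOpenMap (AlgSp.Points.ofPt cX) := by
    have h1 : AlgSp.Points.ofPt cX = AlgSp.Points.map cX ∘ AlgSp.Points.schemeHomeo Bc := by
      funext t
      exact AlgSp.Points.ofPt_eq_map_ofScheme cX t
    rw [h1]
    exact (Groth.Agent.S9908.isOpenMap_map_of_repWith _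
      (Groth.Agent.S10211.repWith_universallyOpen_of_etale hcX)).comp
      (AlgSp.Points.schemeHomeo Bc).isOpenMap
  have hdense : Dense (AlgSp.Points.ofPt cX ⁻¹' Set.range (AlgSp.Points.map h)) :=
    Dense.preimage hd hopen
  refine hdense.mono ?_
  rintro b ⟨u, hu⟩
  have e : AlgSp.Points.map h u = AlgSp.Points.map cX (AlgSp.Points.ofScheme Bc b) := by
    rw [hu]
    exact AlgSp.Points.ofPt_eq_map_ofScheme cX b
  obtain ⟨p, -, hp2⟩ := Groth.Agent.S10175.exists_point_of_isPullback sqPU u _ e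
  obtain ⟨w, rfl⟩ := Groth.Agent.S10177.surjective_ofPt qW hqWs p
  refine ⟨w, ?_⟩
  have h1 := Groth.Agent.Lib.Seat43.QcChart.toScheme_map_snd_ofPt snd qW φWo hφWo w
  rw [hp2, AlgSp.Points.toScheme_ofScheme] at h1
  exact h1.symm

set_option backward.isDefEq.respectTransparency false in
theorem existVC_of_refined {U X Y : AlgSp.Space S} (f : X ⟶ Y) (h : U ⟶ X)
    (hh : AlgSp.IsQuasiCompactMor h.hom)
    (hd : DenseRange (AlgSp.Points.map h.hom))
    (hv : ∀ sq : AlgSp.ValSq f.hom, (∃ t : (AlgSp.yon S).obj sq.ptK ⟶ U.obj, t ≫ h.hom = sq.top) →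
      sq.HasUniq ∧ sq.HasLiftExt) : AlgSp.ExistVC f.hom := by
  intro sq
  -- Step 1: an affine chart of `Y` receiving an extension of the valuation ring
  obtain ⟨A₁, _, _, _, φ₁, R, _, strR, r, a₁, hstr₁, hφ₁inj, hφ₁loc, hre, hr⟩ :=
    exists_affine_lift Y.property sq.A sq.str sq.bot
  obtain ⟨a₁o, ha₁o⟩ : ∃ a₁o : Over.mk (Spec.map (CommRingCat.ofHom φ₁) ≫ sq.str) ⟶ Over.mk strR,
      a₁o = Over.homMk (Spec.map (CommRingCat.ofHom a₁)) hstr₁ := ⟨_, rfl⟩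
  obtain ⟨φ₁o, hφ₁o⟩ : ∃ φ₁o : Over.mk (Spec.map (CommRingCat.ofHom φ₁) ≫ sq.str) ⟶ sq.ptA,
      φ₁o = Over.homMk (Spec.map (CommRingCat.ofHom φ₁)) rfl := ⟨_, rfl⟩
  rw [← ha₁o, ← hφ₁o] at hr
  have ha₁ol : a₁o.left = Spec.map (CommRingCat.ofHom a₁) := by rw [ha₁o]; rfl
  have hφ₁ol : φ₁o.left = Spec.map (CommRingCat.ofHom φ₁) := by rw [hφ₁o]; rfl
  -- Step 2: the fraction field of `A₁` and the point of the base change
  obtain ⟨K₁, _, _, _, ψ₁, hψ₁⟩ :=
    Groth.Agent.Lib.Seat43.FinSepVC.exists_fracExt (K' := sq.K) φ₁ hφ₁inj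
  have sqP := IsPullback.of_hasPullback f.hom r
  have hP : AlgSp.IsAlgSpace (pullback f.hom r) :=
    Groth.Agent.S9874.isAlgSpace_of_isPullback Y.property.diag X.property
      (AlgSp.IsAlgSpace.yon_obj (Over.mk strR)) sqP
  obtain ⟨strK₁, hstrK₁⟩ : ∃ strK₁ : Spec (CommRingCat.of K₁) ⟶ S,
      strK₁ = Spec.map (CommRingCat.ofHom (algebraMap A₁ K₁)) ≫
        Spec.map (CommRingCat.ofHom φ₁) ≫ sq.str := ⟨_, rfl⟩
  obtain ⟨ι₁, hι₁⟩ : ∃ ι₁ : Over.mk strK₁ ⟶ Over.mk (Spec.map (CommRingCat.ofHom φ₁) ≫ sq.str),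
      ι₁.left = Spec.map (CommRingCat.ofHom (algebraMap A₁ K₁)) :=
    ⟨Over.homMk (Spec.map (CommRingCat.ofHom (algebraMap A₁ K₁))) hstrK₁.symm, rfl⟩
  obtain ⟨ψ₁o, hψ₁o⟩ : ∃ ψ₁o : Over.mk strK₁ ⟶ sq.ptK,
      ψ₁o.left = Spec.map (CommRingCat.ofHom ψ₁) :=
    ⟨Over.homMk (Spec.map (CommRingCat.ofHom ψ₁)) (by
      rw [hstrK₁]
      change Spec.map _ ≫ Spec.map _ ≫ _ = Spec.map _ ≫ Spec.map _ ≫ _
      rw [← Spec.map_comp_assoc, ← Spec.map_comp_assoc, ← CommRingCat.ofHom_comp,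
        ← CommRingCat.ofHom_comp, hψ₁]), rfl⟩
  have hιφ₁ : ι₁ ≫ φ₁o = ψ₁o ≫ sq.j := by
    apply Over.OverMorphism.ext
    show ι₁.left ≫ φ₁o.left = ψ₁o.left ≫ Spec.map _
    rw [hι₁, hφ₁ol, hψ₁o, ← Spec.map_comp, ← Spec.map_comp, ← CommRingCat.ofHom_comp,
      ← CommRingCat.ofHom_comp, hψ₁]
  obtain ⟨x₁, hx₁1, hx₁2⟩ : ∃ x₁ : (AlgSp.yon S).obj (Over.mk strK₁) ⟶ pullback f.hom r,
      x₁ ≫ pullback.fst f.hom r = (AlgSp.yon S).map ψ₁o ≫ sq.top ∧
      x₁ ≫ pullback.snd f.hom r = (AlgSp.yon S).map (ι₁ ≫ a₁o) :=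
    ⟨pullback.lift ((AlgSp.yon S).map ψ₁o ≫ sq.top) ((AlgSp.yon S).map (ι₁ ≫ a₁o)) (by
      rw [Category.assoc, sq.comm, ← Category.assoc, ← Functor.map_comp, ← hιφ₁, Functor.map_comp,
        Functor.map_comp, Category.assoc, Category.assoc, hr]),
      pullback.lift_fst _ _ _, pullback.lift_snd _ _ _⟩
  -- Step 3: an affine chart of the base change receiving an extension of `K₁`
  obtain ⟨V₂, _, _, _, φ₂, B, _, strB, cB, b₂, hstr₂, hφ₂inj, hφ₂loc, hcBe, hcB⟩ :=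
    exists_affine_lift hP K₁ strK₁ x₁
  obtain ⟨b₂o, hb₂o⟩ : ∃ b₂o : Over.mk (Spec.map (CommRingCat.ofHom φ₂) ≫ strK₁) ⟶ Over.mk strB,
      b₂o = Over.homMk (Spec.map (CommRingCat.ofHom b₂)) hstr₂ := ⟨_, rfl⟩
  obtain ⟨φ₂o, hφ₂o⟩ : ∃ φ₂o : Over.mk (Spec.map (CommRingCat.ofHom φ₂) ≫ strK₁) ⟶ Over.mk strK₁,
      φ₂o = Over.homMk (Spec.map (CommRingCat.ofHom φ₂)) rfl := ⟨_, rfl⟩
  rw [← hb₂o, ← hφ₂o] at hcB
  have hb₂ol : b₂o.left = Spec.map (CommRingCat.ofHom b₂) := by rw [hb₂o]; rfl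
  have hφ₂ol : φ₂o.left = Spec.map (CommRingCat.ofHom φ₂) := by rw [hφ₂o]; rfl
  obtain ⟨K₂, _, _, _⟩ := exists_fractionField V₂
  -- Step 4: the ring map `R → B`
  obtain ⟨ρo, hρo⟩ := (AlgSp.yon S).map_surjective (cB ≫ pullback.snd f.hom r)
  obtain ⟨ρc, hρc⟩ : ∃ ρc : CommRingCat.of R ⟶ CommRingCat.of B, Spec.map ρc = ρo.left :=
    ⟨Spec.preimage _, Spec.map_preimage _⟩
  have hE1 : b₂.comp ρc.hom = (φ₂.comp (algebraMap A₁ K₁)).comp a₁ := by
    have h1 : b₂o ≫ ρo = φ₂o ≫ ι₁ ≫ a₁o := by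
      apply (AlgSp.yon S).map_injective
      rw [Functor.map_comp, hρo, ← Category.assoc, hcB, Category.assoc, hx₁2, ← Functor.map_comp]
    have h2 : b₂o.left ≫ ρo.left = φ₂o.left ≫ ι₁.left ≫ a₁o.left := congrArg (fun m => m.left) h1
    rw [hb₂ol, ← hρc, hφ₂ol, hι₁, ha₁ol, ← Spec.map_comp, ← Spec.map_comp, ← Spec.map_comp] at h2
    exact congrArg (fun m => m.hom) (Spec.map_injective h2)
  -- Step 5: the chart of `X`, and a point of `U` generizing the given point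
  have hfst : AlgSp.RepWith @Etale (pullback.fst f.hom r) :=
    (AlgSp.repWith_isStableUnderBaseChange (S := S) @Etale).of_isPullback sqP.flip hre
  obtain ⟨cX, hcX⟩ : ∃ cX : (AlgSp.yon S).obj (Over.mk strB) ⟶ X.obj,
      cX = cB ≫ pullback.fst f.hom r := ⟨_, rfl⟩
  have hcXe : AlgSp.RepWith @Etale cX := by
    rw [hcX]
    exact (AlgSp.repWith_isMultiplicative (S := S) @Etale).comp_mem _ _ hcBe hfst
  have sqPU := IsPullback.of_hasPullback h.hom cX
  have hPU : AlgSp.IsAlgSpace (pullback h.hom cX) :=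
    Groth.Agent.S9874.isAlgSpace_of_isPullback X.property.diag U.property
      (AlgSp.IsAlgSpace.yon_obj (Over.mk strB)) sqPU
  have hBcompact : CompactSpace ↥(Over.mk strB).left :=
    inferInstanceAs (CompactSpace ↥(Spec (CommRingCat.of B)))
  have hPUc : AlgSp.IsQuasiCompactSp (pullback h.hom cX) :=
    hh (AlgSp.IsAlgSpace.yon_obj (Over.mk strB))
      (Groth.Agent.S9913.isQuasiCompactSp_yon_of_compact (Over.mk strB)) cX _ _ sqPU
  obtain ⟨W, qW, hWa, hqWe, hqWs⟩ :=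
    (Groth.Agent.S10180.result (⟨pullback h.hom cX, hPU⟩ : AlgSp.Space S)).1 hPUc
  have : IsAffine W.left := hWa
  obtain ⟨φWo, hφWo⟩ := (AlgSp.yon S).map_surjective (qW ≫ pullback.snd h.hom cX)
  have hdense : Dense (Set.range φWo.left) :=
    dense_range_chart h.hom hd cX hcXe _ _ sqPU qW hqWs φWo hφWo.symm
  obtain ⟨φW, hφW⟩ : ∃ φW : W.left ⟶ Spec (CommRingCat.of B), φW = φWo.left := ⟨_, rfl⟩
  rw [← hφW] at hdense
  obtain ⟨κ, hκ⟩ : ∃ κ : B →+* K₂, κ = (algebraMap V₂ K₂).comp b₂ := ⟨_, rfl⟩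
  obtain ⟨q, hqdef⟩ : ∃ q : ↥(Spec (CommRingCat.of B)),
      q = (Spec.map (CommRingCat.ofHom κ)) (IsLocalRing.closedPoint K₂) := ⟨_, rfl⟩
  have hq : q ∈ φW.ker.support := by
    show q ∈ (φW.ker.support : Set ↥(Spec (CommRingCat.of B)))
    rw [Scheme.Hom.support_ker]
    exact hdense q
  obtain ⟨w, hw⟩ := Groth.Agent.Lib.Seat43.ValImage.exists_specializes_of_mem_support φW q hq
  obtain ⟨βc, hβc⟩ : ∃ βc : CommRingCat.of B ⟶ CommRingCat.of (W.left.residueField w),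
      Spec.map βc = W.left.fromSpecResidueField w ≫ φW := ⟨Spec.preimage _, Spec.map_preimage _⟩
  have hker : RingHom.ker βc.hom ≤ RingHom.ker κ := by
    rw [ker_eq_asIdeal, ker_eq_asIdeal, ← hqdef]
    have h1 : (Spec.map (CommRingCat.ofHom βc.hom)) (IsLocalRing.closedPoint _) = φW w := by
      have h0 : Spec.map (CommRingCat.ofHom βc.hom) = W.left.fromSpecResidueField w ≫ φW := hβc
      rw [h0, Scheme.Hom.comp_apply]
      congr 1
      exact Scheme.fromSpecResidueField_apply w _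
    rw [h1]
    exact (PrimeSpectrum.le_iff_specializes _ _).2 hw
  -- Step 6: the composite valuation ring
  obtain ⟨L₁, _, ιF, V, hV, ιK, hres⟩ := exists_valSubring_residue βc.hom κ hker
  obtain ⟨j₂, hj₂⟩ : ∃ j₂ : K₁ →+* K₂, j₂ = (algebraMap V₂ K₂).comp φ₂ := ⟨_, rfl⟩
  obtain ⟨ι, hι⟩ : ∃ ι : A₁ →+* IsLocalRing.ResidueField V,
      ι = ιK.comp (j₂.comp (algebraMap A₁ K₁)) := ⟨_, rfl⟩
  obtain ⟨D, hD, hDloc⟩ := IsLocalRing.exists_factor_valuationRing ι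
  have hE2 : κ.comp ρc.hom = (j₂.comp (algebraMap A₁ K₁)).comp a₁ := by
    rw [hκ, hj₂, RingHom.comp_assoc, hE1]
    rfl
  have hmemC : ∀ x : R, (ιF.comp (βc.hom.comp ρc.hom)) x ∈ comp V D := by
    intro x
    refine ⟨hV (ρc.hom x), ?_⟩
    show IsLocalRing.residue ↥V ⟨ιF (βc.hom (ρc.hom x)), hV (ρc.hom x)⟩ ∈ D
    rw [hres]
    have h1 : κ (ρc.hom x) = j₂ (algebraMap A₁ K₁ (a₁ x)) := congrArg (fun m => m x) hE2
    rw [h1]
    have h2 := hD (a₁ x)
    rw [hι] at h2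
    exact h2
  obtain ⟨ρC, hρC⟩ : ∃ ρC : R →+* ↥(comp V D), ∀ x, (ρC x : L₁) = ιF (βc.hom (ρc.hom x)) :=
    ⟨(ιF.comp (βc.hom.comp ρc.hom)).codRestrict (comp V D).toSubring hmemC, fun _ => rfl⟩
  have hρCeq : (algebraMap ↥(comp V D) L₁).comp ρC = (ιF.comp βc.hom).comp ρc.hom := by
    ext x
    exact hρC x
  have hstrB : strB = Spec.map ρc ≫ strR := by
    rw [hρc]
    exact (Over.w ρo).symm
  obtain ⟨gL₁, hgL₁⟩ : ∃ gL₁ : Over.mk (Spec.map (CommRingCat.ofHom (algebraMap ↥(comp V D) L₁)) ≫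
      Spec.map (CommRingCat.ofHom ρC) ≫ strR) ⟶ Over.mk strB,
      gL₁.left = Spec.map (CommRingCat.ofHom (ιF.comp βc.hom)) :=
    ⟨Over.homMk (Spec.map (CommRingCat.ofHom (ιF.comp βc.hom))) (by
      show Spec.map _ ≫ strB = Spec.map _ ≫ Spec.map _ ≫ strR
      rw [hstrB, ← Spec.map_comp_assoc, ← Spec.map_comp_assoc]
      congr 2
      apply CommRingCat.hom_ext
      exact hρCeq.symm), rfl⟩
  obtain ⟨ρCo, hρCo⟩ : ∃ ρCo : Over.mk (Spec.map (CommRingCat.ofHom ρC) ≫ strR) ⟶ Over.mk strR,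
      ρCo.left = Spec.map (CommRingCat.ofHom ρC) := ⟨Over.homMk _ rfl, rfl⟩
  obtain ⟨j', hj'⟩ : ∃ j' : Over.mk (Spec.map (CommRingCat.ofHom (algebraMap ↥(comp V D) L₁)) ≫
      Spec.map (CommRingCat.ofHom ρC) ≫ strR) ⟶ Over.mk (Spec.map (CommRingCat.ofHom ρC) ≫ strR),
      j' = Over.homMk (Spec.map (CommRingCat.ofHom (algebraMap ↥(comp V D) L₁))) rfl := ⟨_, rfl⟩
  have hj'l : j'.left = Spec.map (CommRingCat.ofHom (algebraMap ↥(comp V D) L₁)) := by
    rw [hj']; rfl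
  have hcXf : cX ≫ f.hom = (AlgSp.yon S).map ρo ≫ r := by
    rw [hcX, Category.assoc, pullback.condition, hρo, Category.assoc]
  have hgρ : gL₁ ≫ ρo = j' ≫ ρCo := by
    apply Over.OverMorphism.ext
    show gL₁.left ≫ ρo.left = j'.left ≫ ρCo.left
    rw [hgL₁, ← hρc, hρCo, hj'l, ← Spec.map_comp, ← Spec.map_comp]
    congr 1
    apply CommRingCat.hom_ext
    exact hρCeq.symm
  have hcomm' : ((AlgSp.yon S).map gL₁ ≫ cX) ≫ f.hom =
      (AlgSp.yon S).map j' ≫ (AlgSp.yon S).map ρCo ≫ r := by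
    calc ((AlgSp.yon S).map gL₁ ≫ cX) ≫ f.hom
        = (AlgSp.yon S).map gL₁ ≫ (AlgSp.yon S).map ρo ≫ r := by rw [Category.assoc, hcXf]
      _ = (AlgSp.yon S).map (gL₁ ≫ ρo) ≫ r := by rw [Functor.map_comp, Category.assoc]
      _ = (AlgSp.yon S).map (j' ≫ ρCo) ≫ r := by rw [hgρ]
      _ = _ := by rw [Functor.map_comp, Category.assoc]
  let sq' : AlgSp.ValSq f.hom :=
    { A := ↥(comp V D), K := L₁, str := Spec.map (CommRingCat.ofHom ρC) ≫ strR,
      top := (AlgSp.yon S).map gL₁ ≫ cX, bot := (AlgSp.yon S).map ρCo ≫ r, comm := hj' ▸ hcomm' }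
  -- the generic point of `sq'` factors through `U`
  have hWhom : W.hom = φW ≫ strB := by
    rw [hφW]
    exact (Over.w φWo).symm
  obtain ⟨gW, hgW⟩ : ∃ gW : Over.mk (Spec.map (CommRingCat.ofHom (algebraMap ↥(comp V D) L₁)) ≫
      Spec.map (CommRingCat.ofHom ρC) ≫ strR) ⟶ W,
      gW.left = Spec.map (CommRingCat.ofHom ιF) ≫ W.left.fromSpecResidueField w :=
    ⟨Over.homMk (Spec.map (CommRingCat.ofHom ιF) ≫ W.left.fromSpecResidueField w) (by
      have h1 := Over.w gL₁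
      rw [hgL₁] at h1
      rw [← h1, hWhom, Category.assoc, ← Category.assoc (W.left.fromSpecResidueField w), ← hβc]
      show _ = Spec.map (βc ≫ CommRingCat.ofHom ιF) ≫ strB
      rw [Spec.map_comp, Category.assoc]), rfl⟩
  have hgWφ : gW ≫ φWo = gL₁ := by
    apply Over.OverMorphism.ext
    show gW.left ≫ φWo.left = gL₁.left
    rw [hgW, hgL₁, ← hφW, Category.assoc, ← hβc, ← Spec.map_comp]
    rfl
  have htop : ((AlgSp.yon S).map gW ≫ qW ≫ pullback.fst h.hom cX) ≫ h.hom = sq'.top := by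
    show _ = (AlgSp.yon S).map gL₁ ≫ cX
    rw [Category.assoc, Category.assoc, pullback.condition, ← Category.assoc qW, ← hφWo,
      ← Category.assoc ((AlgSp.yon S).map gW), ← Functor.map_comp, hgWφ]
  obtain ⟨-, e', l, hl1, hl2⟩ := hv sq' ⟨_, htop⟩
  -- Step 8: the coarsening of `e'.A'` dominating `V`
  obtain ⟨V', h1', h2', ψV, A', hP1, hP2, hP3, hP4⟩ :=
    exists_coarsening V D e'.φ e'.ψ e'.comm e'.isLocalHom
  obtain ⟨cV', hcV'⟩ : ∃ cV' : e'.A' →+* ↥V', ∀ c, (cV' c : e'.K') = algebraMap e'.A' e'.K' c :=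
    ⟨(algebraMap e'.A' e'.K').codRestrict V'.toSubring h1', fun _ => rfl⟩
  obtain ⟨bV', hbV'⟩ : ∃ bV' : B →+* ↥V', ∀ y, (bV' y : e'.K') = e'.ψ (ιF (βc.hom y)) :=
    ⟨((e'.ψ.comp ιF).comp βc.hom).codRestrict V'.toSubring (fun x => h2' _ (hV x)), fun _ => rfl⟩
  have hcV'alg : (algebraMap ↥V' e'.K').comp cV' = algebraMap e'.A' e'.K' := by
    ext c
    exact hcV' c
  have hbV'alg : (algebraMap ↥V' e'.K').comp bV' = (e'.ψ.comp ιF).comp βc.hom := by
    ext y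
    exact hbV' y
  have hφψ' : ∀ c : ↥(comp V D), algebraMap e'.A' e'.K' (e'.φ c) = e'.ψ (c : L₁) :=
    fun c => congrArg (fun m => m c) e'.comm
  -- the ring identity `bV' ∘ ρ = cV' ∘ φ' ∘ ρC`
  have hRI0 : bV'.comp ρc.hom = (cV'.comp e'.φ).comp ρC := by
    apply RingHom.ext
    intro x
    apply Subtype.ext
    show (bV' (ρc.hom x) : e'.K') = (cV' (e'.φ (ρC x)) : e'.K')
    rw [hbV', hcV', hφψ', hρC]
  -- Step 9: the valuative square over `V'` and its two lifts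
  obtain ⟨ιK'e', hιK'e'⟩ : ∃ ιK'e' : e'.ptK' ⟶ e'.ptA',
      ιK'e' = Over.homMk (Spec.map (CommRingCat.ofHom (algebraMap e'.A' e'.K'))) rfl := ⟨_, rfl⟩
  obtain ⟨ψ'e', hψ'e'⟩ : ∃ ψ'e' : e'.ptK' ⟶ sq'.ptK,
      ψ'e' = Over.homMk (Spec.map (CommRingCat.ofHom e'.ψ)) (by
        have h0 : Spec.map (CommRingCat.ofHom e'.ψ) ≫
            Spec.map (CommRingCat.ofHom (algebraMap sq'.A sq'.K)) =
            Spec.map (CommRingCat.ofHom (algebraMap e'.A' e'.K')) ≫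
              Spec.map (CommRingCat.ofHom e'.φ) := by
          rw [← Spec.map_comp, ← Spec.map_comp, ← CommRingCat.ofHom_comp, ← CommRingCat.ofHom_comp,
            e'.comm]
        exact (Category.assoc _ _ _).symm.trans
          ((congrArg (fun m => m ≫ sq'.str) h0).trans (Category.assoc _ _ _))) := ⟨_, rfl⟩
  obtain ⟨φ'o, hφ'o⟩ : ∃ φ'o : e'.ptA' ⟶ sq'.ptA,
      φ'o = Over.homMk (Spec.map (CommRingCat.ofHom e'.φ)) rfl := ⟨_, rfl⟩
  rw [← hιK'e', ← hψ'e'] at hl1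
  rw [← hφ'o] at hl2
  have hιK'e'l : ιK'e'.left = Spec.map (CommRingCat.ofHom (algebraMap e'.A' e'.K')) := by
    rw [hιK'e']; rfl
  have hψ'e'l : ψ'e'.left = Spec.map (CommRingCat.ofHom e'.ψ) := by rw [hψ'e']; rfl
  have hφ'ol : φ'o.left = Spec.map (CommRingCat.ofHom e'.φ) := by rw [hφ'o]; rfl
  obtain ⟨identK, hidentK⟩ : ∃ identK : Over.mk (Spec.map (CommRingCat.ofHom (algebraMap ↥V' e'.K')) ≫
      Spec.map (CommRingCat.ofHom cV') ≫ e'.ptA'.hom) ⟶ e'.ptK', identK.left = 𝟙 _ :=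
    ⟨Over.homMk (𝟙 _) (by
      rw [Category.id_comp]
      show Spec.map _ ≫ e'.ptA'.hom = Spec.map _ ≫ Spec.map _ ≫ e'.ptA'.hom
      rw [← Spec.map_comp_assoc, ← CommRingCat.ofHom_comp, hcV'alg]), rfl⟩
  obtain ⟨cV'o, hcV'o⟩ : ∃ cV'o : Over.mk (Spec.map (CommRingCat.ofHom cV') ≫ e'.ptA'.hom) ⟶ e'.ptA',
      cV'o.left = Spec.map (CommRingCat.ofHom cV') := ⟨Over.homMk _ rfl, rfl⟩
  obtain ⟨j'', hj''⟩ : ∃ j'' : Over.mk (Spec.map (CommRingCat.ofHom (algebraMap ↥V' e'.K')) ≫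
      Spec.map (CommRingCat.ofHom cV') ≫ e'.ptA'.hom) ⟶
      Over.mk (Spec.map (CommRingCat.ofHom cV') ≫ e'.ptA'.hom),
      j'' = Over.homMk (Spec.map (CommRingCat.ofHom (algebraMap ↥V' e'.K'))) rfl := ⟨_, rfl⟩
  have hj''l : j''.left = Spec.map (CommRingCat.ofHom (algebraMap ↥V' e'.K')) := by rw [hj'']; rfl
  have he'str : e'.ptA'.hom = Spec.map (CommRingCat.ofHom e'.φ) ≫
      Spec.map (CommRingCat.ofHom ρC) ≫ strR := rfl
  obtain ⟨gV', hgV'⟩ : ∃ gV' : Over.mk (Spec.map (CommRingCat.ofHom cV') ≫ e'.ptA'.hom) ⟶ Over.mk strB,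
      gV'.left = Spec.map (CommRingCat.ofHom bV') :=
    ⟨Over.homMk (Spec.map (CommRingCat.ofHom bV')) (by
      show Spec.map _ ≫ strB = Spec.map _ ≫ e'.ptA'.hom
      rw [he'str, hstrB, ← Spec.map_comp_assoc, ← Spec.map_comp_assoc, ← Spec.map_comp_assoc]
      congr 2
      apply CommRingCat.hom_ext
      exact hRI0), rfl⟩
  -- the first lift
  have hjc : j'' ≫ cV'o = identK ≫ ιK'e' := by
    apply Over.OverMorphism.ext
    show j''.left ≫ cV'o.left = identK.left ≫ ιK'e'.left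
    rw [hj''l, hcV'o, hidentK, hιK'e'l, Category.id_comp, ← Spec.map_comp, ← CommRingCat.ofHom_comp,
      hcV'alg]
  have hl₁gen : (AlgSp.yon S).map j'' ≫ (AlgSp.yon S).map cV'o ≫ l =
      (AlgSp.yon S).map (identK ≫ ψ'e') ≫ sq'.top := by
    rw [← Category.assoc ((AlgSp.yon S).map j''), ← Functor.map_comp, hjc, Functor.map_comp,
      Category.assoc, hl1, Functor.map_comp, Category.assoc]
  have hl₁bot : ((AlgSp.yon S).map cV'o ≫ l) ≫ f.hom =
      (AlgSp.yon S).map cV'o ≫ (AlgSp.yon S).map φ'o ≫ sq'.bot := by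
    rw [Category.assoc, hl2]
  have hcomm'' : ((AlgSp.yon S).map (identK ≫ ψ'e') ≫ sq'.top) ≫ f.hom =
      (AlgSp.yon S).map j'' ≫ (AlgSp.yon S).map cV'o ≫ (AlgSp.yon S).map φ'o ≫ sq'.bot := by
    rw [← hl₁gen, Category.assoc, Category.assoc, hl2]
  let sq'' : AlgSp.ValSq f.hom :=
    { A := ↥V', K := e'.K', str := Spec.map (CommRingCat.ofHom cV') ≫ e'.ptA'.hom,
      top := (AlgSp.yon S).map (identK ≫ ψ'e') ≫ sq'.top,
      bot := (AlgSp.yon S).map cV'o ≫ (AlgSp.yon S).map φ'o ≫ sq'.bot, comm := hj'' ▸ hcomm'' }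
  have htop'' : ((AlgSp.yon S).map (identK ≫ ψ'e') ≫
      ((AlgSp.yon S).map gW ≫ qW ≫ pullback.fst h.hom cX)) ≫ h.hom = sq''.top := by
    show _ = (AlgSp.yon S).map (identK ≫ ψ'e') ≫ sq'.top
    rw [Category.assoc, htop]
  obtain ⟨huniq, -⟩ := hv sq'' ⟨_, htop''⟩
  -- the second lift
  have hl₂gen : (AlgSp.yon S).map j'' ≫ (AlgSp.yon S).map gV' ≫ cX =
      (AlgSp.yon S).map (identK ≫ ψ'e') ≫ sq'.top := by
    show _ = (AlgSp.yon S).map (identK ≫ ψ'e') ≫ (AlgSp.yon S).map gL₁ ≫ cX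
    rw [← Category.assoc ((AlgSp.yon S).map j''), ← Functor.map_comp,
      ← Category.assoc ((AlgSp.yon S).map (identK ≫ ψ'e')), ← Functor.map_comp]
    congr 2
    apply Over.OverMorphism.ext
    show j''.left ≫ gV'.left = (identK.left ≫ ψ'e'.left) ≫ gL₁.left
    rw [hj''l, hgV', hidentK, hψ'e'l, hgL₁, Category.id_comp, ← Spec.map_comp, ← Spec.map_comp,
      ← CommRingCat.ofHom_comp, ← CommRingCat.ofHom_comp, hbV'alg]
    rfl
  have hgVρ : gV' ≫ ρo = cV'o ≫ φ'o ≫ ρCo := by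
    apply Over.OverMorphism.ext
    show gV'.left ≫ ρo.left = cV'o.left ≫ φ'o.left ≫ ρCo.left
    rw [hgV', ← hρc, hcV'o, hφ'ol, hρCo, ← Spec.map_comp, ← Spec.map_comp, ← Spec.map_comp]
    congr 1
    apply CommRingCat.hom_ext
    exact hRI0
  have hl₂bot : ((AlgSp.yon S).map gV' ≫ cX) ≫ f.hom =
      (AlgSp.yon S).map cV'o ≫ (AlgSp.yon S).map φ'o ≫ sq'.bot := by
    calc ((AlgSp.yon S).map gV' ≫ cX) ≫ f.hom
        = (AlgSp.yon S).map gV' ≫ (AlgSp.yon S).map ρo ≫ r := by rw [Category.assoc, hcXf]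
      _ = (AlgSp.yon S).map (gV' ≫ ρo) ≫ r := by rw [Functor.map_comp, Category.assoc]
      _ = (AlgSp.yon S).map (cV'o ≫ φ'o ≫ ρCo) ≫ r := by rw [hgVρ]
      _ = (AlgSp.yon S).map cV'o ≫ (AlgSp.yon S).map φ'o ≫ (AlgSp.yon S).map ρCo ≫ r := by
          rw [Functor.map_comp, Functor.map_comp, Category.assoc, Category.assoc]
  have heq : (AlgSp.yon S).map cV'o ≫ l = (AlgSp.yon S).map gV' ≫ cX := by
    subst hj''
    exact huniq _ _ hl₁gen hl₁bot hl₂gen hl₂bot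
  -- Step 10: the dominating extension of the original square
  obtain ⟨φe', hφe'⟩ : ∃ φe' : A₁ →+* ↥A',
      ∀ a, (φe' a : IsLocalRing.ResidueField ↥V') = ψV (ι a) :=
    ⟨(ψV.comp ι).codRestrict A'.toSubring (fun a => hP4 _ (hD a)), fun _ => rfl⟩
  have hcV'eq : ∀ c, cV' c = ⟨algebraMap e'.A' e'.K' c, h1' c⟩ := fun c => Subtype.ext (hcV' c)
  obtain ⟨π, hπ⟩ : ∃ π : e'.A' →+* ↥A',
      ∀ c, (π c : IsLocalRing.ResidueField ↥V') = IsLocalRing.residue ↥V' (cV' c) :=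
    ⟨((IsLocalRing.residue ↥V').comp cV').codRestrict A'.toSubring (fun c => by
        show IsLocalRing.residue ↥V' (cV' c) ∈ A'
        rw [hcV'eq]
        exact hP2 c), fun _ => rfl⟩
  obtain ⟨ψe, hψe⟩ : ∃ ψe : sq.K →+* IsLocalRing.ResidueField ↥V',
      ψe = ψV.comp (ιK.comp (j₂.comp ψ₁)) := ⟨_, rfl⟩
  have hcomme : (algebraMap ↥A' (IsLocalRing.ResidueField ↥V')).comp (φe'.comp φ₁) =
      ψe.comp (algebraMap sq.A sq.K) := by
    apply RingHom.ext
    intro a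
    show (φe' (φ₁ a) : IsLocalRing.ResidueField ↥V') = ψe (algebraMap sq.A sq.K a)
    rw [hφe', hψe, hι]
    show ψV (ιK (j₂ (algebraMap A₁ K₁ (φ₁ a)))) = ψV (ιK (j₂ (ψ₁ (algebraMap sq.A sq.K a))))
    have h0 : algebraMap A₁ K₁ (φ₁ a) = ψ₁ (algebraMap sq.A sq.K a) :=
      (congrArg (fun m => m a) hψ₁).symm
    rw [h0]
  have hloce' : IsLocalHom φe' := by
    refine ⟨fun a ha => ?_⟩
    obtain ⟨u, hu⟩ := ha.exists_right_inv
    have hz : ψV (ι a) * (u : IsLocalRing.ResidueField ↥V') = 1 := by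
      rw [← hφe' a]
      exact congrArg Subtype.val hu
    have hz0 : ι a ≠ 0 := by
      intro h0
      rw [h0, map_zero, zero_mul] at hz
      exact zero_ne_one hz
    have hu' : (u : IsLocalRing.ResidueField ↥V') = ψV (ι a)⁻¹ := by
      rw [map_inv₀]
      exact eq_inv_of_mul_eq_one_right hz
    have hinvD : (ι a)⁻¹ ∈ D := hP3 _ (by rw [← hu']; exact u.2)
    have hunit : IsUnit ((ι.codRestrict D.toSubring hD) a) := by
      refine IsUnit.of_mul_eq_one (⟨(ι a)⁻¹, hinvD⟩ : D) ?_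
      apply Subtype.ext
      show ι a * (ι a)⁻¹ = 1
      exact mul_inv_cancel₀ hz0
    exact hDloc.map_nonunit a hunit
  have hloce : IsLocalHom (φe'.comp φ₁) := by
    have := hφ₁loc
    infer_instance
  let e : sq.DomExt :=
    { A' := ↥A', K' := IsLocalRing.ResidueField ↥V', φ := φe'.comp φ₁, ψ := ψe, comm := hcomme,
      isLocalHom := hloce }
  -- ring identities
  have hresb : ∀ y : B, IsLocalRing.residue ↥V' (bV' y) = ψV (ιK (κ y)) := by
    intro y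
    have h0 : bV' y = ⟨e'.ψ (ιF (βc.hom y)), h2' _ (hV y)⟩ := Subtype.ext (hbV' y)
    rw [h0, ← hP1 _ (hV y), hres]
  have hRI1 : π.comp (e'.φ.comp ρC) = φe'.comp a₁ := by
    apply RingHom.ext
    intro x
    apply Subtype.ext
    show (π (e'.φ (ρC x)) : IsLocalRing.ResidueField ↥V') = (φe' (a₁ x) : IsLocalRing.ResidueField ↥V')
    rw [hπ, hφe']
    have h0 : cV' (e'.φ (ρC x)) = bV' (ρc.hom x) := (congrArg (fun m => m x) hRI0).symm
    rw [h0, hresb, hι]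
    have h1 : κ (ρc.hom x) = j₂ (algebraMap A₁ K₁ (a₁ x)) := congrArg (fun m => m x) hE2
    rw [h1]
    rfl
  have hπalg : (algebraMap ↥A' (IsLocalRing.ResidueField ↥V')).comp π =
      (IsLocalRing.residue ↥V').comp cV' := by
    apply RingHom.ext
    intro c
    exact hπ c
  -- the morphisms over `S`
  obtain ⟨m, hm⟩ : ∃ m : e.ptA' ⟶ e'.ptA', m.left = Spec.map (CommRingCat.ofHom π) :=
    ⟨Over.homMk (Spec.map (CommRingCat.ofHom π)) (by
      show Spec.map _ ≫ e'.ptA'.hom = Spec.map (CommRingCat.ofHom (φe'.comp φ₁)) ≫ sq.str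
      rw [he'str, ← Spec.map_comp_assoc, ← Spec.map_comp_assoc, ← CommRingCat.ofHom_comp,
        ← CommRingCat.ofHom_comp, RingHom.comp_assoc, hRI1,
        CommRingCat.ofHom_comp, Spec.map_comp, Category.assoc, hstr₁, ← Spec.map_comp_assoc,
        ← CommRingCat.ofHom_comp]), rfl⟩
  obtain ⟨φe'o, hφe'o⟩ : ∃ φe'o : e.ptA' ⟶ Over.mk (Spec.map (CommRingCat.ofHom φ₁) ≫ sq.str),
      φe'o.left = Spec.map (CommRingCat.ofHom φe') :=
    ⟨Over.homMk (Spec.map (CommRingCat.ofHom φe')) (by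
      show Spec.map _ ≫ Spec.map _ ≫ sq.str = Spec.map (CommRingCat.ofHom (φe'.comp φ₁)) ≫ sq.str
      rw [← Spec.map_comp_assoc, ← CommRingCat.ofHom_comp]), rfl⟩
  refine ⟨e, (AlgSp.yon S).map m ≫ l, ?_, ?_⟩
  · -- the generic point
    obtain ⟨ιKe, hιKe⟩ : ∃ ιKe : e.ptK' ⟶ e.ptA',
        ιKe = Over.homMk (Spec.map (CommRingCat.ofHom (algebraMap e.A' e.K'))) rfl := ⟨_, rfl⟩
    have hιKel : ιKe.left = Spec.map (CommRingCat.ofHom (algebraMap ↥A' (IsLocalRing.ResidueField ↥V'))) := by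
      rw [hιKe]; rfl
    obtain ⟨ψeo, hψeo⟩ : ∃ ψeo : e.ptK' ⟶ sq.ptK,
        ψeo = Over.homMk (Spec.map (CommRingCat.ofHom e.ψ)) (by
          change Spec.map _ ≫ Spec.map _ ≫ _ = Spec.map _ ≫ Spec.map _ ≫ _
          rw [← Spec.map_comp_assoc, ← Spec.map_comp_assoc, ← CommRingCat.ofHom_comp,
            ← CommRingCat.ofHom_comp, e.comm]) := ⟨_, rfl⟩
    have hψeol : ψeo.left = Spec.map (CommRingCat.ofHom ψe) := by rw [hψeo]; rfl
    rw [← hιKe, ← hψeo]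
    have hKstr : e.ptK'.hom = Spec.map (CommRingCat.ofHom (algebraMap ↥A' (IsLocalRing.ResidueField ↥V'))) ≫
        e.ptA'.hom := rfl
    obtain ⟨lamo, hlamo⟩ : ∃ lamo : e.ptK' ⟶ Over.mk (Spec.map (CommRingCat.ofHom cV') ≫ e'.ptA'.hom),
        lamo.left = Spec.map (CommRingCat.ofHom (IsLocalRing.residue ↥V')) :=
      ⟨Over.homMk (Spec.map (CommRingCat.ofHom (IsLocalRing.residue ↥V'))) (by
        show Spec.map _ ≫ Spec.map _ ≫ e'.ptA'.hom = e.ptK'.hom
        have h1 := Over.w m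
        rw [hm] at h1
        rw [hKstr, ← h1, ← Spec.map_comp_assoc, ← Spec.map_comp_assoc, ← CommRingCat.ofHom_comp,
          ← CommRingCat.ofHom_comp, hπalg]), rfl⟩
    have hιm : ιKe ≫ m = lamo ≫ cV'o := by
      apply Over.OverMorphism.ext
      show ιKe.left ≫ m.left = lamo.left ≫ cV'o.left
      rw [hιKel, hm, hlamo, hcV'o, ← Spec.map_comp, ← Spec.map_comp, ← CommRingCat.ofHom_comp,
        ← CommRingCat.ofHom_comp, hπalg]
    -- the morphism to the spectrum of `V₂`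
    obtain ⟨μr, hμr⟩ : ∃ μr : V₂ →+* IsLocalRing.ResidueField ↥V',
        μr = ψV.comp (ιK.comp (algebraMap V₂ K₂)) := ⟨_, rfl⟩
    have hμ1 : (μr.comp φ₂).comp (algebraMap A₁ K₁) =
        (algebraMap ↥A' (IsLocalRing.ResidueField ↥V')).comp φe' := by
      apply RingHom.ext
      intro a
      show μr (φ₂ (algebraMap A₁ K₁ a)) = (φe' a : IsLocalRing.ResidueField ↥V')
      rw [hφe', hι, hμr, hj₂]
      rfl
    obtain ⟨μ, hμ⟩ : ∃ μ : e.ptK' ⟶ Over.mk (Spec.map (CommRingCat.ofHom φ₂) ≫ strK₁),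
        μ.left = Spec.map (CommRingCat.ofHom μr) :=
      ⟨Over.homMk (Spec.map (CommRingCat.ofHom μr)) (by
        show Spec.map _ ≫ Spec.map _ ≫ strK₁ = e.ptK'.hom
        rw [hKstr, hstrK₁]
        show _ = Spec.map _ ≫ Spec.map (CommRingCat.ofHom (φe'.comp φ₁)) ≫ sq.str
        rw [← Spec.map_comp_assoc, ← Spec.map_comp_assoc, ← Spec.map_comp_assoc,
          ← Spec.map_comp_assoc, ← CommRingCat.ofHom_comp, ← CommRingCat.ofHom_comp,
          ← CommRingCat.ofHom_comp, ← CommRingCat.ofHom_comp, hμ1, RingHom.comp_assoc]), rfl⟩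
    have hlamg : lamo ≫ gV' = μ ≫ b₂o := by
      apply Over.OverMorphism.ext
      show lamo.left ≫ gV'.left = μ.left ≫ b₂o.left
      rw [hlamo, hgV', hμ, hb₂ol, ← Spec.map_comp, ← Spec.map_comp, ← CommRingCat.ofHom_comp,
        ← CommRingCat.ofHom_comp]
      congr 2
      apply RingHom.ext
      intro y
      show IsLocalRing.residue ↥V' (bV' y) = μr (b₂ y)
      rw [hresb, hμr, hκ]
      rfl
    have hμψ : μ ≫ φ₂o ≫ ψ₁o = ψeo := by
      apply Over.OverMorphism.ext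
      show μ.left ≫ φ₂o.left ≫ ψ₁o.left = ψeo.left
      rw [hμ, hφ₂ol, hψ₁o, hψeol, ← Spec.map_comp, ← Spec.map_comp, ← CommRingCat.ofHom_comp,
        ← CommRingCat.ofHom_comp, hψe, hμr, hj₂]
      rfl
    calc (AlgSp.yon S).map ιKe ≫ (AlgSp.yon S).map m ≫ l
        = (AlgSp.yon S).map (ιKe ≫ m) ≫ l := by rw [Functor.map_comp, Category.assoc]
      _ = (AlgSp.yon S).map lamo ≫ (AlgSp.yon S).map cV'o ≫ l := by
          rw [hιm, Functor.map_comp, Category.assoc]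
      _ = (AlgSp.yon S).map lamo ≫ (AlgSp.yon S).map gV' ≫ cX := by rw [heq]
      _ = (AlgSp.yon S).map (lamo ≫ gV') ≫ cB ≫ pullback.fst f.hom r := by
          rw [Functor.map_comp, Category.assoc, hcX]
      _ = (AlgSp.yon S).map μ ≫ ((AlgSp.yon S).map b₂o ≫ cB) ≫ pullback.fst f.hom r := by
          rw [hlamg, Functor.map_comp, Category.assoc, Category.assoc]
      _ = (AlgSp.yon S).map μ ≫ (AlgSp.yon S).map φ₂o ≫ (AlgSp.yon S).map ψ₁o ≫ sq.top := by
          rw [hcB, Category.assoc, hx₁1]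
      _ = (AlgSp.yon S).map (μ ≫ φ₂o ≫ ψ₁o) ≫ sq.top := by
          rw [Functor.map_comp, Functor.map_comp, Category.assoc, Category.assoc]
      _ = (AlgSp.yon S).map ψeo ≫ sq.top := by rw [hμψ]
  · -- the bottom triangle
    have hmφ : m ≫ φ'o ≫ ρCo = φe'o ≫ a₁o := by
      apply Over.OverMorphism.ext
      show m.left ≫ φ'o.left ≫ ρCo.left = φe'o.left ≫ a₁o.left
      rw [hm, hφ'ol, hρCo, hφe'o, ha₁ol, ← Spec.map_comp, ← Spec.map_comp, ← Spec.map_comp,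
        ← CommRingCat.ofHom_comp, ← CommRingCat.ofHom_comp, ← CommRingCat.ofHom_comp, hRI1]
    have hφe : (Over.homMk (Spec.map (CommRingCat.ofHom e.φ)) rfl : e.ptA' ⟶ sq.ptA) =
        φe'o ≫ φ₁o := by
      apply Over.OverMorphism.ext
      show Spec.map (CommRingCat.ofHom (φe'.comp φ₁)) = φe'o.left ≫ φ₁o.left
      rw [hφe'o, hφ₁ol, ← Spec.map_comp, ← CommRingCat.ofHom_comp]
    rw [hφe]
    calc ((AlgSp.yon S).map m ≫ l) ≫ f.hom
        = (AlgSp.yon S).map m ≫ (AlgSp.yon S).map φ'o ≫ (AlgSp.yon S).map ρCo ≫ r := by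
          rw [Category.assoc, hl2]
      _ = (AlgSp.yon S).map (m ≫ φ'o ≫ ρCo) ≫ r := by
          rw [Functor.map_comp, Functor.map_comp, Category.assoc, Category.assoc]
      _ = (AlgSp.yon S).map (φe'o ≫ a₁o) ≫ r := by rw [hmφ]
      _ = (AlgSp.yon S).map φe'o ≫ (AlgSp.yon S).map φ₁o ≫ sq.bot := by
          rw [Functor.map_comp, Category.assoc, hr]
      _ = (AlgSp.yon S).map (φe'o ≫ φ₁o) ≫ sq.bot := by rw [Functor.map_comp, Category.assoc]

/-- a lift gives a lift after the trivial extension. -/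
lemma hasLiftExt_of_hasLift {F G : AlgSp.Sp S} {f : F ⟶ G} (sq : AlgSp.ValSq f) (h : sq.HasLift) :
    sq.HasLiftExt := by
  obtain ⟨l, hl1, hl2⟩ := h
  let e : sq.DomExt :=
    { A' := sq.A, K' := sq.K, φ := RingHom.id _, ψ := RingHom.id _, comm := rfl,
      isLocalHom := inferInstance }
  refine ⟨e, (AlgSp.yon S).map (Over.homMk (Spec.map (CommRingCat.ofHom e.φ)) rfl :
    e.ptA' ⟶ sq.ptA) ≫ l, ?_, ?_⟩
  · rw [← Category.assoc, ← Functor.map_comp, ← hl1, ← Category.assoc, ← Functor.map_comp]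
    congr 2
    apply Over.OverMorphism.ext
    show Spec.map _ ≫ Spec.map _ = Spec.map _ ≫ Spec.map _
    rw [← Spec.map_comp, ← Spec.map_comp, ← CommRingCat.ofHom_comp, ← CommRingCat.ofHom_comp,
      e.comm]
  · rw [Category.assoc, hl2]

set_option backward.isDefEq.respectTransparency false in
/-- the refined valuative criterion. -/
theorem refined {U X Y : AlgSp.Space S} (f : X ⟶ Y) (h : U ⟶ X)
    (hf : AlgSp.IsQuasiCompactMor f.hom) (hh : AlgSp.IsQuasiCompactMor h.hom)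
    (hd : DenseRange (AlgSp.Points.map h.hom))
    (hv : ∀ sq : AlgSp.ValSq f.hom, (∃ t : (AlgSp.yon S).obj sq.ptK ⟶ U.obj, t ≫ h.hom = sq.top) →
      sq.HasUniq ∧ sq.HasLiftExt) :
    AlgSp.IsUnivClosedMor f.hom ∧ (AlgSp.IsQuasiSeparatedMor f.hom → AlgSp.IsSeparatedMor f.hom) := by
  refine ⟨Groth.Agent.S10288.result f hf (existVC_of_refined f h hh hd hv), fun hqs => ?_⟩
  have hXX : AlgSp.IsAlgSpace (pullback f.hom f.hom) :=
    Groth.Agent.S9874.isAlgSpace_of_isPullback Y.property.diag X.property X.property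
      (IsPullback.of_hasPullback _ _)
  let XX : AlgSp.Space S := ⟨pullback f.hom f.hom, hXX⟩
  let Δ : X ⟶ XX := ObjectProperty.homMk (pullback.diagonal f.hom)
  have hΔqc : AlgSp.IsQuasiCompactMor Δ.hom :=
    Groth.Agent.S9912.isQuasiCompactMor_of_repWith X.property XX.property.diag Δ.hom hqs
  have hvΔ : ∀ sqΔ : AlgSp.ValSq Δ.hom,
      (∃ t : (AlgSp.yon S).obj sqΔ.ptK ⟶ U.obj, t ≫ h.hom = sqΔ.top) →
      sqΔ.HasUniq ∧ sqΔ.HasLiftExt := by
    rintro sqΔ ⟨t, ht⟩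
    constructor
    · intro l l' _ h2 _ h4
      have h5 : l ≫ pullback.diagonal f.hom = l' ≫ pullback.diagonal f.hom := h2.trans h4.symm
      have h6 := congrArg (fun m => m ≫ pullback.fst f.hom f.hom) h5
      simp only [Category.assoc, pullback.diagonal_fst, Category.comp_id] at h6
      exact h6
    · apply hasLiftExt_of_hasLift
      obtain ⟨a, ha⟩ : ∃ a : (AlgSp.yon S).obj sqΔ.ptA ⟶ X.obj,
          a = sqΔ.bot ≫ pullback.fst f.hom f.hom := ⟨_, rfl⟩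
      obtain ⟨b, hb⟩ : ∃ b : (AlgSp.yon S).obj sqΔ.ptA ⟶ X.obj,
          b = sqΔ.bot ≫ pullback.snd f.hom f.hom := ⟨_, rfl⟩
      have hcommΔ : sqΔ.top ≫ pullback.diagonal f.hom = (AlgSp.yon S).map sqΔ.j ≫ sqΔ.bot := sqΔ.comm
      have hja : (AlgSp.yon S).map sqΔ.j ≫ a = sqΔ.top := by
        rw [ha, ← Category.assoc, ← hcommΔ, Category.assoc, pullback.diagonal_fst, Category.comp_id]
      have hjb : (AlgSp.yon S).map sqΔ.j ≫ b = sqΔ.top := by
        rw [hb, ← Category.assoc, ← hcommΔ, Category.assoc, pullback.diagonal_snd, Category.comp_id]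
      let sqf : AlgSp.ValSq f.hom :=
        { A := sqΔ.A, K := sqΔ.K, str := sqΔ.str, top := sqΔ.top, bot := a ≫ f.hom,
          comm := by rw [← Category.assoc, hja] }
      obtain ⟨hu, -⟩ := hv sqf ⟨t, ht⟩
      have hab : a = b := hu a b hja rfl hjb (by
        show b ≫ f.hom = a ≫ f.hom
        rw [ha, hb, Category.assoc, Category.assoc, pullback.condition])
      refine ⟨a, hja, ?_⟩
      show a ≫ pullback.diagonal f.hom = sqΔ.bot
      apply pullback.hom_ext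
      · rw [Category.assoc, pullback.diagonal_fst, Category.comp_id, ha]
      · rw [Category.assoc, pullback.diagonal_snd, Category.comp_id, hab, hb]
  have hΔvc : AlgSp.ExistVC Δ.hom := existVC_of_refined Δ h hh hd hvΔ
  have hΔuc : AlgSp.IsUnivClosedMor (pullback.diagonal f.hom) :=
    Groth.Agent.S10288.result Δ hΔqc hΔvc
  exact Groth.Agent.S10280.isSeparatedMor_of_isUnivClosedMor_diagonal f hΔuc

end Groth.Agent.Lib.Seat43.RefinedVC
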