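import Mathlib
import Groth.Agent.Lib.Seat43GenFibre

/-!
# Tools for descending lifts along dominating extensions of valuation rings (seat 43)

General lemmas used for "a separated morphism has a lift as soon as it has one after a dominating
extension" (S10284):

* `isPullback_schImage_gen`: the scheme theoretic image of `k ≫ pr` (`k` a closed immersion, `pr` a flat
  quasi-compact monomorphism) pulls back along `pr` to `k`.
* `exists_equalizer`: the equalizer of two maps from a scheme to a sheaf with representable diagonal.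
* `isIso_of_closedImm_of_ker`: a closed immersion through which a morphism with trivial kernel factors is an iso.
* `isPullback_of_comp`: kernel pairs and composition.
* `flat_of_injective_of_over_fractionField`: an affine scheme over a Bezout domain whose functions inject into the
  functions of a scheme over the fraction field is flat.
-/

set_option autoImplicit false
universe u
open CategoryTheory CategoryTheory.Limits AlgebraicGeometry Opposite
open AlgSp Groth.Agent.S13210

namespace Groth.Agent.Lib.Seat43.SepLiftA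

open Groth.Agent.Lib.Seat43.SubSp Groth.Agent.Lib.Seat43.MonoFactor
  Groth.Agent.Lib.Seat43.SchImage Groth.Agent.Lib.Seat43.QcImage Groth.Agent.Lib.Seat43.QcImage2
  Groth.Agent.Lib.Seat43.QcTrace Groth.Agent.Lib.Seat43.CutOut Groth.Agent.Lib.Seat43.GenFibre

variable {S : Scheme.{u}}

/-- kernel pairs: if `(p₁, p₂)` is the kernel pair of `b ≫ m` and `p₁ ≫ b = p₂ ≫ b` then it is the kernel pair
of `b`. -/
lemma isPullback_of_comp {C : Type*} [Category C] {A B D E : C} {p₁ p₂ : A ⟶ B} {b : B ⟶ D}
    {m : D ⟶ E} (h : IsPullback p₁ p₂ (b ≫ m) (b ≫ m)) (w : p₁ ≫ b = p₂ ≫ b) :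
    IsPullback p₁ p₂ b b := by
  refine ⟨⟨w⟩, ⟨PullbackCone.IsLimit.mk w
    (fun s => h.lift s.fst s.snd (by rw [← Category.assoc, s.condition, Category.assoc]))
    (fun s => h.lift_fst _ _ _) (fun s => h.lift_snd _ _ _) ?_⟩⟩
  intro s k h1 h2
  apply h.hom_ext
  · rw [h1, h.lift_fst]
  · rw [h2, h.lift_snd]

/-- a closed immersion through which a morphism with trivial kernel factors is an isomorphism. -/
lemma isIso_of_closedImm_of_ker {E T T' : Over S} (e : E ⟶ T) [IsClosedImmersion e.left]
    (u : T' ⟶ T) (hu : u.left.ker = ⊥) (u' : T' ⟶ E) (h : u' ≫ e = u) : IsIso e := by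
  have h1 : e.left.ker ≤ u.left.ker := by
    rw [← h]
    exact ker_le_ker_comp u'.left e.left
  rw [hu, le_bot_iff] at h1
  have : IsIso e.left := IsClosedImmersion.isIso_iff_ker_eq_bot.2 h1
  have : IsIso ((Over.forget S).map e) := by
    show IsIso e.left
    infer_instance
  exact isIso_of_reflects_iso e (Over.forget S)

/-- the equalizer of two maps from a scheme to a sheaf `P` over `B`, when the diagonal of `P ⟶ B` is
representable with property `C`. -/
lemma exists_equalizer {P B : AlgSp.Sp S} (π : P ⟶ B) (C : MorphismProperty Scheme.{u})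
    (hπ : AlgSp.RepWith C (pullback.diagonal π)) {T : Over S}
    (g₁ g₂ : (AlgSp.yon S).obj T ⟶ P) (hg : g₁ ≫ π = g₂ ≫ π) :
    ∃ (E : Over S) (e : E ⟶ T), C e.left ∧
      (AlgSp.yon S).map e ≫ g₁ = (AlgSp.yon S).map e ≫ g₂ ∧
      ∀ {T' : Over S} (u : T' ⟶ T), (AlgSp.yon S).map u ≫ g₁ = (AlgSp.yon S).map u ≫ g₂ →
        ∃ u' : T' ⟶ E, u' ≫ e = u := by
  obtain ⟨W, w, pr, psq⟩ := hπ.1 (pullback.lift g₁ g₂ hg)
  have hC : C w.left := hπ.2 _ _ w psq
  have e1 : pr = (AlgSp.yon S).map w ≫ g₁ := by
    have := psq.w =≫ pullback.fst π π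
    rwa [Category.assoc, pullback.diagonal_fst, Category.comp_id, Category.assoc,
      pullback.lift_fst] at this
  have e2 : pr = (AlgSp.yon S).map w ≫ g₂ := by
    have := psq.w =≫ pullback.snd π π
    rwa [Category.assoc, pullback.diagonal_snd, Category.comp_id, Category.assoc,
      pullback.lift_snd] at this
  refine ⟨W, w, hC, e1.symm.trans e2, ?_⟩
  intro T' u hu
  have hk : ((AlgSp.yon S).map u ≫ g₁) ≫ pullback.diagonal π =
      (AlgSp.yon S).map u ≫ pullback.lift g₁ g₂ hg := by
    apply pullback.hom_ext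
    · rw [Category.assoc, pullback.diagonal_fst, Category.comp_id, Category.assoc,
        pullback.lift_fst]
    · rw [Category.assoc, pullback.diagonal_snd, Category.comp_id, Category.assoc,
        pullback.lift_snd, hu]
  obtain ⟨k, hk1⟩ := (AlgSp.yon S).map_surjective (psq.lift _ _ hk)
  refine ⟨k, ?_⟩
  apply (AlgSp.yon S).map_injective
  rw [Functor.map_comp, hk1, psq.lift_snd]

/-- the kernel of `Spec` of an injective ring map is trivial. -/
lemma ker_specMap_eq_bot {A K : Type u} [CommRing A] [CommRing K] (φ : A →+* K)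
    (hφ : Function.Injective φ) : (Spec.map (CommRingCat.ofHom φ)).ker = ⊥ := by
  rw [Scheme.ker_of_isAffine, ← Scheme.IdealSheafData.equivOfIsAffine_symm_apply]
  have h : RingHom.ker (Spec.map (CommRingCat.ofHom φ)).appTop.hom = ⊥ := by
    rw [RingHom.ker_eq_bot_iff_eq_zero]
    intro x hx
    have hnat := Scheme.ΓSpecIso_naturality (CommRingCat.ofHom φ)
    have h1 : (Scheme.ΓSpecIso (CommRingCat.of K)).hom.hom
        ((Spec.map (CommRingCat.ofHom φ)).appTop.hom x) = 0 := by rw [hx, map_zero]
    have h2 : φ ((Scheme.ΓSpecIso (CommRingCat.of A)).hom.hom x) = 0 := by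
      have := congrArg (fun m => m.hom x) hnat
      simp only [CommRingCat.hom_comp, RingHom.comp_apply] at this
      rw [← h1]
      exact this.symm
    have h3 := hφ (h2.trans (map_zero _).symm)
    exact (ConcreteCategory.bijective_of_isIso (Scheme.ΓSpecIso (CommRingCat.of A)).hom).1
      (h3.trans (map_zero _).symm)
  rw [h]
  exact map_bot _

/-- an affine scheme over `Spec A` (`A` a Bezout domain, e.g. a valuation ring) whose functions inject into the
functions of a scheme lying over the fraction field is flat over `Spec A`. -/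
lemma flat_of_injective_of_over_fractionField {A K : Type u} [CommRing A] [IsDomain A] [IsBezout A]
    [Field K] [Algebra A K] [IsFractionRing A K] {Q W : Scheme.{u}} [IsAffine Q]
    (q : Q ⟶ Spec (CommRingCat.of A)) (w : W ⟶ Spec (CommRingCat.of K)) (ψ : W ⟶ Q)
    (hcomm : ψ ≫ q = w ≫ Spec.map (CommRingCat.ofHom (algebraMap A K)))
    (hinj : Function.Injective ψ.appTop.hom) : Flat q := by
  rw [HasRingHomProperty.iff_of_isAffine (P := @Flat)]
  let e := Scheme.ΓSpecIso (CommRingCat.of A)
  let ρQ : A →+* Γ(Q, ⊤) := q.appTop.hom.comp e.inv.hom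
  let ρW : A →+* Γ(W, ⊤) := (ψ ≫ q).appTop.hom.comp e.inv.hom
  have hρ : ∀ r, ψ.appTop.hom (ρQ r) = ρW r := by
    intro r
    show ψ.appTop.hom (q.appTop.hom (e.inv.hom r)) = (ψ ≫ q).appTop.hom (e.inv.hom r)
    rw [Scheme.Hom.comp_appTop, CommRingCat.hom_comp, RingHom.comp_apply]
  have hunit : ∀ r : A, r ≠ 0 → IsUnit (ρW r) := by
    intro r hr
    show IsUnit ((ψ ≫ q).appTop.hom (e.inv.hom r))
    rw [hcomm, Scheme.Hom.comp_appTop, CommRingCat.hom_comp, RingHom.comp_apply]
    have hnat := Scheme.ΓSpecIso_inv_naturality (CommRingCat.ofHom (algebraMap A K))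
    have h1 : (Spec.map (CommRingCat.ofHom (algebraMap A K))).appTop.hom (e.inv.hom r) =
        (Scheme.ΓSpecIso (CommRingCat.of K)).inv.hom (algebraMap A K r) := by
      have := congrArg (fun m => m.hom r) hnat
      simp only [CommRingCat.hom_comp, RingHom.comp_apply] at this
      exact this.symm
    rw [h1]
    have hu : IsUnit (algebraMap A K r) :=
      IsUnit.mk0 _ (by
        rw [Ne, IsFractionRing.to_map_eq_zero_iff]
        exact hr)
    exact (hu.map _).map _
  have hQ : ρQ.Flat := by
    let _ := ρQ.toAlgebra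
    let _ := ρW.toAlgebra
    have hW : Module.IsTorsionFree A Γ(W, ⊤) := by
      refine Module.IsTorsionFree.of_smul_eq_zero fun r m hm => ?_
      by_cases hr : r = 0
      · exact Or.inl hr
      · right
        have hu : IsUnit (ρW r) := hunit r hr
        have hm' : ρW r * m = 0 := hm
        exact (hu.mul_right_eq_zero).1 hm'
    have hQt : Module.IsTorsionFree A Γ(Q, ⊤) :=
      Function.Injective.moduleIsTorsionFree (N := Γ(W, ⊤)) ψ.appTop.hom hinj
        (fun r m => by
          show ψ.appTop.hom (ρQ r * m) = ρW r * ψ.appTop.hom m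
          rw [map_mul, hρ])
    show Module.Flat A Γ(Q, ⊤)
    rw [Module.Flat.flat_iff_torsion_eq_bot_of_isBezout,
      ← Submodule.isTorsionFree_iff_torsion_eq_bot]
    exact hQt
  have h2 : q.appTop.hom = ρQ.comp e.hom.hom := by
    ext x
    show q.appTop.hom x = q.appTop.hom (e.inv.hom (e.hom.hom x))
    congr 1
    exact (congrArg (fun m => m.hom x) e.hom_inv_id).symm
  rw [h2]
  exact RingHom.Flat.comp
    (RingHom.Flat.of_bijective (ConcreteCategory.bijective_of_isIso e.hom)) hQ

/-- a flat morphism to the spectrum of a local ring whose image contains the closed point is surjective. -/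
lemma surjective_of_flat_of_closedPoint {A : Type u} [CommRing A] [IsLocalRing A] {Q : Scheme.{u}}
    (q : Q ⟶ Spec (CommRingCat.of A)) [Flat q] (v : ↥Q) (hv : q v = IsLocalRing.closedPoint A) :
    Surjective q := by
  refine ⟨fun y => ?_⟩
  have hg : GeneralizingMap q := Flat.generalizingMap q
  have hs : y ⤳ q v := by
    rw [hv]
    exact IsLocalRing.specializes_closedPoint y
  obtain ⟨x', -, hx'⟩ := hg hs
  exact ⟨x', hx'⟩

set_option backward.isDefEq.respectTransparency false in
/-- the scheme theoretic image of `k ≫ pr`, for `k` a closed immersion and `pr` a flat quasi-compact monomorphism,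
pulls back along `pr` to `k`. -/
theorem isPullback_schImage_gen {Y YK H Z : AlgSp.Space S} (pr : YK ⟶ Y)
    (hprq : AlgSp.RepWith @QuasiCompact pr.hom) (hprf : AlgSp.RepWith @Flat pr.hom)
    (hmono : Mono pr.hom)
    (k : H ⟶ YK) (hk : AlgSp.RepWith @IsClosedImmersion k.hom) (i : Z ⟶ Y)
    (hZ : AlgSp.IsSchImage (k.hom ≫ pr.hom) i.hom) :
    ∃ m : H ⟶ Z, m ≫ i = k ≫ pr ∧ IsPullback m.hom k.hom i.hom pr.hom := by
  have hkq : AlgSp.RepWith @QuasiCompact k.hom :=
    ⟨hk.1, fun T W g pr' w sq => by
      have : IsClosedImmersion w.left := hk.2 g pr' w sq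
      exact (inferInstance : QuasiCompact w.left)⟩
  have hfq : AlgSp.RepWith @QuasiCompact (k.hom ≫ pr.hom) :=
    (AlgSp.repWith_isMultiplicative (S := S) @QuasiCompact).comp_mem _ _ hkq hprq
  let f : H ⟶ Y := k ≫ pr
  have hqc : AlgSp.IsQuasiCompactMor f.hom :=
    Groth.Agent.S9912.isQuasiCompactMor_of_repWith H.property Y.property.diag f.hom hfq
  have hZ' : AlgSp.IsSchImage f.hom i.hom := hZ
  have hprl : AlgSp.LocP @Flat pr.hom :=
    (Groth.Agent.S9948.result @Flat (Or.inr (Or.inr (Or.inl rfl))) pr hprf.1).2 hprf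
  have : Mono i.hom := Groth.Agent.S9928.mono_of_repWith @IsClosedImmersion
    (fun _ _ g hg => by have := hg; infer_instance) i.hom hZ.1
  obtain ⟨f', hf'⟩ := hZ.2.1
  -- the fibre product
  have sqP := IsPullback.of_hasPullback i.hom pr.hom
  have hP : AlgSp.IsAlgSpace (pullback i.hom pr.hom) :=
    Groth.Agent.S9874.isAlgSpace_of_isPullback Y.property.diag Z.property YK.property sqP
  let PS : AlgSp.Space S := ⟨pullback i.hom pr.hom, hP⟩
  let i₁ : PS ⟶ Z := ObjectProperty.homMk (pullback.fst i.hom pr.hom)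
  let iX : PS ⟶ YK := ObjectProperty.homMk (pullback.snd i.hom pr.hom)
  have sqV : IsPullback (𝟙 H.obj) k.hom (k.hom ≫ pr.hom) pr.hom := by
    have h1 : IsPullback (𝟙 H.obj) k.hom k.hom (𝟙 YK.obj) :=
      IsPullback.of_horiz_isIso ⟨by rw [Category.id_comp, Category.comp_id]⟩
    have h2 : IsPullback (𝟙 YK.obj) (𝟙 YK.obj) pr.hom pr.hom := IsKernelPair.id_of_mono pr.hom
    have h3 := h1.paste_vert h2
    rwa [Category.comp_id] at h3
  have himg : AlgSp.IsSchImage k.hom iX.hom :=
    Groth.Agent.S9974.result pr hprl f hqc i hZ' (𝟙 H) k sqV i₁ iX sqP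
  obtain ⟨e, he⟩ := isSchImage_unique H.property hP (isSchImage_self k.hom hk) himg
  have he' : e.hom ≫ pullback.fst i.hom pr.hom = f' := by
    rw [← cancel_mono i.hom, Category.assoc, pullback.condition, ← Category.assoc]
    show (e.hom ≫ iX.hom) ≫ pr.hom = _
    rw [he, hf']
  refine ⟨ObjectProperty.homMk f', ?_, ?_⟩
  · apply ObjectProperty.hom_ext
    exact hf'
  · refine sqP.of_iso e.symm (Iso.refl _) (Iso.refl _) (Iso.refl _) ?_ ?_ ?_ ?_
    · show pullback.fst i.hom pr.hom ≫ 𝟙 _ = e.inv ≫ f'
      rw [Category.comp_id, ← he', Iso.inv_hom_id_assoc]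
    · show pullback.snd i.hom pr.hom ≫ 𝟙 _ = e.inv ≫ k.hom
      rw [Category.comp_id, ← he]
      show _ = e.inv ≫ e.hom ≫ pullback.snd i.hom pr.hom
      rw [Iso.inv_hom_id_assoc]
    · simp
    · simp

end Groth.Agent.Lib.Seat43.SepLiftA
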