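import Mathlib
import Groth.Agent.Lib.Seat43SepLiftA
import Groth.Agent.Lib.Seat47FamSheaf
import Groth.Agent.S9964
import Groth.Agent.S9906
import Groth.Agent.S10176

/-!
# A separated morphism has a lift as soon as it has one after a dominating extension (seat 43)

`hasLift_of_domExt`: for a separated morphism `f : X ⟶ Y` of algebraic spaces, a valuative square that has a
lift after a dominating extension of the valuation ring already has a lift.

Proof.  Base change to `P = X ×_Y Spec A`, separated over `Spec A`, with the section `x : Spec K ⟶ P` over the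
generic point.  Let `Z ⊂ P` be the scheme theoretic image of `x`.  By flat base change `Z ×_A Spec K = Spec K`.
The lift over the extension `A'` factors through `Z` (as `A' ⊂ K'`), so the closed point of `Spec A` is in the
image of `Z`.  Take an affine etale chart `V ⟶ Z` through such a point.  Then `V` is torsion free, hence flat,
over `A`; the closed subscheme `V ×_Z V ⊂ V ×_A V` contains the generic fibre and `V ×_A V` is flat over `A`,
so `V ×_Z V = V ×_A V`.  Hence `V ×_A V ⟶ V` is etale and by fpqc descent `V ⟶ Spec A` is etale and surjective,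
and `V ⟶ Z` descends to a section `Spec A ⟶ Z` by the sheaf property.
-/

set_option autoImplicit false
universe u
open CategoryTheory CategoryTheory.Limits AlgebraicGeometry Opposite
open AlgSp Groth.Agent.S13210

namespace Groth.Agent.Lib.Seat43.SepLiftB

open Groth.Agent.Lib.Seat43.SubSp Groth.Agent.Lib.Seat43.MonoFactor
  Groth.Agent.Lib.Seat43.SchImage Groth.Agent.Lib.Seat43.QcImage Groth.Agent.Lib.Seat43.QcImage2
  Groth.Agent.Lib.Seat43.QcTrace Groth.Agent.Lib.Seat43.CutOut Groth.Agent.Lib.Seat43.GenFibre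
  Groth.Agent.Lib.Seat43.SepLiftA

variable {S : Scheme.{u}}

set_option backward.isDefEq.respectTransparency false in
/-- A section over the generic point of a valuation ring of an algebraic space `P` separated over `Spec A` extends
to a section over `Spec A` as soon as the closed point is in the image of the scheme theoretic image of the
section. -/
theorem exists_section {A K : Type u} [CommRing A] [IsDomain A] [ValuationRing A] [Field K]
    [Algebra A K] [IsFractionRing A K] (str : Spec (CommRingCat.of A) ⟶ S)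
    {P : AlgSp.Sp S} (hP : AlgSp.IsAlgSpace P)
    (π : P ⟶ (AlgSp.yon S).obj (Over.mk str))
    (hπ : AlgSp.RepWith @IsClosedImmersion (pullback.diagonal π))
    (x : (AlgSp.yon S).obj (Over.mk (Spec.map (CommRingCat.ofHom (algebraMap A K)) ≫ str)) ⟶ P)
    (hx : x ≫ π = (AlgSp.yon S).map (Over.homMk (Spec.map (CommRingCat.ofHom (algebraMap A K))) rfl :
      Over.mk (Spec.map (CommRingCat.ofHom (algebraMap A K)) ≫ str) ⟶ Over.mk str))
    (hpt : ∀ (Z : AlgSp.Space S) (i : Z.obj ⟶ P), AlgSp.IsSchImage x i →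
      ∃ z : AlgSp.Points Z.obj, AlgSp.Points.map (i ≫ π) z =
        AlgSp.Points.ofScheme (Over.mk str) (IsLocalRing.closedPoint A)) :
    ∃ σ : (AlgSp.yon S).obj (Over.mk str) ⟶ P, σ ≫ π = 𝟙 _ ∧
      (AlgSp.yon S).map (Over.homMk (Spec.map (CommRingCat.ofHom (algebraMap A K))) rfl :
        Over.mk (Spec.map (CommRingCat.ofHom (algebraMap A K)) ≫ str) ⟶ Over.mk str) ≫ σ = x := by
  let ptA : Over S := Over.mk str
  let ptK : Over S := Over.mk (Spec.map (CommRingCat.ofHom (algebraMap A K)) ≫ str)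
  let j : ptK ⟶ ptA := Over.homMk (Spec.map (CommRingCat.ofHom (algebraMap A K))) rfl
  have hjl : j.left = Spec.map (CommRingCat.ofHom (algebraMap A K)) := rfl
  -- the generic fibre `P_K` and the closed immersion `k`
  have sqXV := IsPullback.of_hasPullback (x ≫ π) π
  have hPK : AlgSp.IsAlgSpace (pullback (x ≫ π) π) :=
    Groth.Agent.S9874.isAlgSpace_of_isPullback (AlgSp.IsAlgSpace.yon_obj ptA).diag
      (AlgSp.IsAlgSpace.yon_obj ptK) hP sqXV
  let k : (AlgSp.yon S).obj ptK ⟶ pullback (x ≫ π) π := pullback.lift (𝟙 _) x (by simp)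
  have hk : AlgSp.RepWith @IsClosedImmersion k :=
    MorphismProperty.of_isPullback (P := AlgSp.RepWith @IsClosedImmersion)
      (pullback_lift_diagonal_isPullback x π) hπ
  have hkpr : k ≫ pullback.snd (x ≫ π) π = x := pullback.lift_snd _ _ _
  have hkfst : k ≫ pullback.fst (x ≫ π) π = 𝟙 _ := pullback.lift_fst _ _ _
  have hprC : ∀ (C : MorphismProperty Scheme.{u}) [C.IsStableUnderBaseChange], C j.left →
      AlgSp.RepWith C (pullback.snd (x ≫ π) π) := fun C _ hC =>
    MorphismProperty.of_isPullback (P := AlgSp.RepWith C) sqXV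
      (hx ▸ (AlgSp.repWith_yon_map_iff C j).2 hC)
  have hjflat : Flat j.left := by
    rw [hjl, Flat.SpecMap_iff]
    show (algebraMap A K).Flat
    rw [RingHom.flat_algebraMap_iff]
    exact IsLocalization.flat K (nonZeroDivisors A)
  have hjpre : IsPreimmersion j.left := IsPreimmersion.of_isLocalization (nonZeroDivisors A)
  have hjqc : QuasiCompact j.left := by
    have h0 : QuasiCompact (Spec.map (CommRingCat.ofHom (algebraMap A K))) := inferInstance
    exact h0
  have hjker : j.left.ker = ⊥ := ker_specMap_eq_bot _ (IsFractionRing.injective A K)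
  have hprq : AlgSp.RepWith @QuasiCompact (pullback.snd (x ≫ π) π) := hprC @QuasiCompact hjqc
  have hprf : AlgSp.RepWith @Flat (pullback.snd (x ≫ π) π) := hprC @Flat hjflat
  have hprm : Mono (pullback.snd (x ≫ π) π) :=
    Groth.Agent.S9928.mono_of_repWith @IsPreimmersion
      (fun _ _ g hg => by have := hg; infer_instance) _ (hprC @IsPreimmersion hjpre)
  have hkq : AlgSp.RepWith @QuasiCompact k :=
    ⟨hk.1, fun T W g pr' w sq => by
      have : IsClosedImmersion w.left := hk.2 g pr' w sq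
      exact (inferInstance : QuasiCompact w.left)⟩
  have hxq : AlgSp.RepWith @QuasiCompact x := by
    rw [← hkpr]
    exact (AlgSp.repWith_isMultiplicative (S := S) @QuasiCompact).comp_mem _ _ hkq hprq
  -- the scheme theoretic image
  let PS : AlgSp.Space S := ⟨P, hP⟩
  let KS : AlgSp.Space S := ⟨(AlgSp.yon S).obj ptK, AlgSp.IsAlgSpace.yon_obj ptK⟩
  let PKS : AlgSp.Space S := ⟨pullback (x ≫ π) π, hPK⟩
  let xS : KS ⟶ PS := ObjectProperty.homMk x
  let kS : KS ⟶ PKS := ObjectProperty.homMk k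
  let prS : PKS ⟶ PS := ObjectProperty.homMk (pullback.snd (x ≫ π) π)
  have hxqc : AlgSp.IsQuasiCompactMor xS.hom :=
    Groth.Agent.S9912.isQuasiCompactMor_of_repWith (AlgSp.IsAlgSpace.yon_obj ptK) hP.diag x hxq
  obtain ⟨Z, i, hZ⟩ := Groth.Agent.S9964.result xS
  have hZ' : AlgSp.IsSchImage (kS.hom ≫ prS.hom) i.hom := by
    show AlgSp.IsSchImage (k ≫ pullback.snd (x ≫ π) π) i.hom
    rw [hkpr]
    exact hZ
  obtain ⟨m, hm1, hm2⟩ := isPullback_schImage_gen prS hprq hprf hprm kS hk i hZ'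
  have hmi : m.hom ≫ i.hom = x := by
    have := congrArg (fun a => a.hom) hm1
    exact this.trans hkpr
  have himono : Mono i.hom := Groth.Agent.S9928.mono_of_repWith @IsClosedImmersion
    (fun _ _ g hg => by have := hg; infer_instance) i.hom hZ.1
  -- `Z ×_A Spec K = Spec K`
  have sqZK : IsPullback (𝟙 ((AlgSp.yon S).obj ptK)) m.hom ((AlgSp.yon S).map j) (i.hom ≫ π) := by
    have sqXV' : IsPullback (pullback.fst (x ≫ π) π) (pullback.snd (x ≫ π) π)
        ((AlgSp.yon S).map j) π :=
      (congrArg (fun a => IsPullback (pullback.fst (x ≫ π) π) (pullback.snd (x ≫ π) π) a π)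
        hx).mp sqXV
    have h3 := hm2.flip.paste_horiz sqXV'
    rw [show kS.hom ≫ pullback.fst (x ≫ π) π = 𝟙 _ from hkfst] at h3
    exact h3
  have huniq : ∀ {T : Over S} (h : (AlgSp.yon S).obj T ⟶ Z.obj) (t : T ⟶ ptK),
      h ≫ i.hom ≫ π = (AlgSp.yon S).map t ≫ (AlgSp.yon S).map j →
      h = (AlgSp.yon S).map t ≫ m.hom := by
    intro T h t ht
    have h1 := sqZK.lift_fst ((AlgSp.yon S).map t) h ht.symm
    have h2 := sqZK.lift_snd ((AlgSp.yon S).map t) h ht.symm
    rw [Category.comp_id] at h1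
    rw [← h2, h1]
  -- a point of `Z` over the closed point
  obtain ⟨z, hz⟩ := hpt Z i.hom hZ
  -- an affine etale chart of `P` through its image
  obtain ⟨Ap, p, hpe, hps⟩ := hP.atlas
  obtain ⟨y0, hy0⟩ := Groth.Agent.S9906.surjective_map_of_repWith p hps (AlgSp.Points.map i.hom z)
  obtain ⟨u, rfl⟩ := (AlgSp.Points.schemeHomeo Ap).surjective y0
  let 𝒰 := Ap.left.affineCover
  obtain ⟨u', hu'⟩ := 𝒰.covers u
  let VP : Over S := Over.mk (𝒰.f (𝒰.idx u) ≫ Ap.hom)
  let ιU : VP ⟶ Ap := Over.homMk (𝒰.f (𝒰.idx u)) rfl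
  have hVPaff : IsAffine VP.left := inferInstanceAs (IsAffine (𝒰.X (𝒰.idx u)))
  have hbe : AlgSp.RepWith @Etale ((AlgSp.yon S).map ιU ≫ p) :=
    MorphismProperty.comp_mem _ _ _
      ((AlgSp.repWith_yon_map_iff _ _).2 (show Etale (𝒰.f (𝒰.idx u)) from inferInstance)) hpe
  -- its trace on `Z`
  obtain ⟨V, ι', prZ, sqZ⟩ := hZ.1.1 ((AlgSp.yon S).map ιU ≫ p)
  have hcl : IsClosedImmersion ι'.left := hZ.1.2 _ _ ι' sqZ
  obtain ⟨hVaff, hsurjι⟩ := IsClosedImmersion.isAffine_surjective_of_isAffine ι'.left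
  have hbet : AlgSp.RepWith @Etale prZ :=
    (AlgSp.repWith_isStableUnderBaseChange (S := S) @Etale).of_isPullback sqZ.flip hbe
  obtain ⟨q, hq⟩ := (AlgSp.yon S).map_surjective (prZ ≫ i.hom ≫ π)
  -- the closed point is in the image of `q`
  obtain ⟨v, hv⟩ : ∃ v : ↥V.left, q.left v = IsLocalRing.closedPoint A := by
    have e1 : AlgSp.Points.map i.hom z =
        AlgSp.Points.map ((AlgSp.yon S).map ιU ≫ p) (AlgSp.Points.ofScheme VP u') := by
      rw [← hy0, AlgSp.Points.map_comp]
      congr 1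
      refine Eq.trans ?_ (AlgSp.Points.map_yon_map_apply ιU u').symm
      show AlgSp.Points.schemeHomeo Ap u = AlgSp.Points.schemeHomeo Ap (ιU.left u')
      rw [show ιU.left u' = u from hu']
    obtain ⟨pt, hpt1, -⟩ := Groth.Agent.S10175.exists_point_of_isPullback sqZ z _ e1
    obtain ⟨v, rfl⟩ := (AlgSp.Points.schemeHomeo V).surjective pt
    refine ⟨v, ?_⟩
    apply (AlgSp.Points.schemeHomeo ptA).injective
    show AlgSp.Points.ofScheme ptA (q.left v) = AlgSp.Points.ofScheme ptA (IsLocalRing.closedPoint A)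
    rw [← hz, ← hpt1, ← AlgSp.Points.map_comp, ← hq, AlgSp.Points.map_yon_map_apply]
    rfl
  -- `q` is flat
  obtain ⟨U', φ', prH, sqH⟩ := hxq.1 ((AlgSp.yon S).map ιU ≫ p)
  have hφqc : QuasiCompact φ'.left := hxq.2 _ _ φ' sqH
  have hker : ι'.left.ker = φ'.left.ker :=
    ker_trace_eq xS hxqc i hZ _ (locP_flat_of_repWith_etale _ hbe) sqH (𝟙 _)
      (AlgSp.repWith_id _ _) (AlgSp.repWith_id _ _) φ' (Category.id_comp _) ι' prZ sqZ
  obtain ⟨ψ, hψ⟩ := (AlgSp.yon S).map_surjective
    (sqZ.lift (prH ≫ m.hom) ((AlgSp.yon S).map φ') (by rw [Category.assoc, hmi, sqH.w]))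
  have hψι : ψ ≫ ι' = φ' := by
    apply (AlgSp.yon S).map_injective
    rw [Functor.map_comp, hψ, sqZ.lift_snd]
  have hψpr : (AlgSp.yon S).map ψ ≫ prZ = prH ≫ m.hom := by
    rw [hψ, sqZ.lift_fst]
  have hinj : Function.Injective ψ.left.appTop.hom := by
    have hker' : RingHom.ker ι'.left.appTop.hom = RingHom.ker φ'.left.appTop.hom := by
      rw [Scheme.ker_of_isAffine, Scheme.ker_of_isAffine] at hker
      exact le_antisymm (ofIdealTop_le_iff.1 hker.le) (ofIdealTop_le_iff.1 hker.ge)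
    rw [injective_iff_map_eq_zero]
    intro a ha
    obtain ⟨b, rfl⟩ := hsurjι a
    have hb : b ∈ RingHom.ker φ'.left.appTop.hom := by
      rw [RingHom.mem_ker, ← hψι, Over.comp_left, Scheme.Hom.comp_appTop, CommRingCat.hom_comp,
        RingHom.comp_apply]
      exact ha
    rw [← hker'] at hb
    exact hb
  obtain ⟨w, hw⟩ := (AlgSp.yon S).map_surjective prH
  have hψq : ψ ≫ q = w ≫ j := by
    apply (AlgSp.yon S).map_injective
    rw [Functor.map_comp, Functor.map_comp, hq, ← Category.assoc, hψpr, Category.assoc,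
      ← Category.assoc m.hom, hmi, hx, hw]
  have hqflat : Flat q.left :=
    flat_of_injective_of_over_fractionField (A := A) (K := K) q.left w.left ψ.left
      (congrArg (fun a => a.left) hψq) hinj
  have hqsurj : Surjective q.left := surjective_of_flat_of_closedPoint q.left v hv
  -- `V ×_A V`
  have hV2 := isPullback_over q q
  have hV2y := hV2.map (AlgSp.yon S)
  set V2 : Over S := Over.mk (pullback.fst q.left q.left ≫ V.hom) with hV2def
  set p₁ : V2 ⟶ V := Over.homMk (pullback.fst q.left q.left) rfl with hp₁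
  obtain ⟨p₂, hp₂⟩ : ∃ p₂ : V2 ⟶ V, p₂.left = pullback.snd q.left q.left ∧
      IsPullback p₁ p₂ q q := ⟨_, rfl, hV2⟩
  obtain ⟨hp₂l, hV2⟩ := hp₂
  have hV2y : IsPullback ((AlgSp.yon S).map p₁) ((AlgSp.yon S).map p₂) ((AlgSp.yon S).map q)
      ((AlgSp.yon S).map q) := hV2.map (AlgSp.yon S)
  have hp₁flat : Flat p₁.left := by
    show Flat (pullback.fst q.left q.left)
    infer_instance
  -- the two maps `V ×_A V ⟶ P` agree
  have hg : ((AlgSp.yon S).map p₁ ≫ prZ ≫ i.hom) ≫ π = ((AlgSp.yon S).map p₂ ≫ prZ ≫ i.hom) ≫ π := by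
    simp only [Category.assoc]
    rw [← hq]
    exact hV2y.w
  obtain ⟨E, ee, hecl, heq, huniv⟩ := exists_equalizer π @IsClosedImmersion hπ _ _ hg
  have hV2K := isPullback_over (p₁ ≫ q) j
  set V2K : Over S := Over.mk (pullback.fst (p₁ ≫ q).left j.left ≫ V2.hom) with hV2Kdef
  set r₁ : V2K ⟶ V2 := Over.homMk (pullback.fst (p₁ ≫ q).left j.left) rfl with hr₁
  obtain ⟨r₂, hr₂l, hV2K⟩ : ∃ r₂ : V2K ⟶ ptK, r₂.left = pullback.snd (p₁ ≫ q).left j.left ∧
      IsPullback r₁ r₂ (p₁ ≫ q) j := ⟨_, rfl, hV2K⟩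
  have hagree : (AlgSp.yon S).map r₁ ≫ (AlgSp.yon S).map p₁ ≫ prZ ≫ i.hom =
      (AlgSp.yon S).map r₁ ≫ (AlgSp.yon S).map p₂ ≫ prZ ≫ i.hom := by
    have h1 : (AlgSp.yon S).map r₁ ≫ (AlgSp.yon S).map p₁ ≫ prZ =
        (AlgSp.yon S).map r₂ ≫ m.hom := by
      apply huniq
      simp only [Category.assoc]
      rw [← hq, ← Functor.map_comp, ← Functor.map_comp, ← Functor.map_comp, hV2K.w]
    have h2 : (AlgSp.yon S).map r₁ ≫ (AlgSp.yon S).map p₂ ≫ prZ =
        (AlgSp.yon S).map r₂ ≫ m.hom := by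
      apply huniq
      simp only [Category.assoc]
      rw [← hq, ← Functor.map_comp, ← Functor.map_comp, ← Functor.map_comp, ← hV2.w, hV2K.w]
    have h3 := congrArg (fun a => a ≫ i.hom) (h1.trans h2.symm)
    simpa only [Category.assoc] using h3
  obtain ⟨u₀, hu₀⟩ := huniv r₁ hagree
  have hr₁ker : r₁.left.ker = ⊥ := by
    have hfl : Flat (p₁ ≫ q).left := by
      show Flat (p₁.left ≫ q.left)
      infer_instance
    have hsq : IsPullback r₂.left r₁.left j.left (p₁ ≫ q).left :=
      (hV2K.map (Over.forget S)).flip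
    rw [ker_of_isPullback_flat j.left (p₁ ≫ q).left r₂.left r₁.left hsq, hjker,
      Scheme.IdealSheafData.comap_bot]
  have heiso : IsIso ee := isIso_of_closedImm_of_ker ee r₁ hr₁ker u₀ hu₀
  have hpp : (AlgSp.yon S).map p₁ ≫ prZ = (AlgSp.yon S).map p₂ ≫ prZ := by
    have h1 := (cancel_epi ((AlgSp.yon S).map ee)).1 heq
    rw [← cancel_mono i.hom]
    simpa only [Category.assoc] using h1
  -- hence `V ×_A V = V ×_Z V` and `q` is etale
  have sqRR : IsPullback ((AlgSp.yon S).map p₁) ((AlgSp.yon S).map p₂) prZ prZ := by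
    rw [hq] at hV2y
    exact isPullback_of_comp hV2y hpp
  have hp₂et : Etale p₂.left := hbet.2 prZ _ p₂ sqRR
  have hqqc : QuasiCompact q.left := by
    have : IsAffine ptA.left := inferInstanceAs (IsAffine (Spec (CommRingCat.of A)))
    infer_instance
  have hqet : Etale q.left := by
    have hsq : IsPullback p₂.left p₁.left q.left q.left := (hV2.map (Over.forget S)).flip
    exact MorphismProperty.of_isPullback_of_descendsAlong (P := @Etale)
      (Q := @Surjective ⊓ @Flat ⊓ @QuasiCompact) hsq ⟨⟨hqsurj, hqflat⟩, hqqc⟩ hp₂et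
  -- descent of `V ⟶ Z` to a section
  have hcov : Sieve.generate (Presieve.ofArrows (fun _ : Unit => V) (fun _ => q)) ∈
      AlgSp.J S ptA :=
    Groth.Agent.Lib.Seat47.FamSheaf.generate_ofArrows_mem_J _ _
      (fun _ => ⟨inferInstance, inferInstance⟩) (fun a => ⟨(), q.left.surjective a⟩)
  obtain ⟨σ, hσ⟩ := Groth.Agent.Lib.Seat47.FamSheaf.glue (fun _ : Unit => V) (fun _ => q) hcov
    (fun _ => prZ) (by
      intro _ _ Z' a b hab
      have e1 : hV2.lift a b hab ≫ p₁ = a := hV2.lift_fst _ _ _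
      have e2 : hV2.lift a b hab ≫ p₂ = b := hV2.lift_snd _ _ _
      have e3 : (AlgSp.yon S).map (hV2.lift a b hab ≫ p₁) ≫ prZ =
          (AlgSp.yon S).map (hV2.lift a b hab ≫ p₂) ≫ prZ := by
        rw [Functor.map_comp, Functor.map_comp, Category.assoc, Category.assoc, hpp]
      rwa [e1, e2] at e3)
  have hσq : (AlgSp.yon S).map q ≫ σ = prZ := hσ ()
  have hσπ : (σ ≫ i.hom) ≫ π = 𝟙 _ := by
    refine Groth.Agent.Lib.Seat47.FamSheaf.sep (fun _ : Unit => V) (fun _ => q) hcov _ _ fun _ => ?_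
    rw [Category.assoc, ← Category.assoc, hσq, Category.comp_id, hq]
  refine ⟨σ ≫ i.hom, hσπ, ?_⟩
  have h3 : (AlgSp.yon S).map j ≫ σ = (AlgSp.yon S).map (𝟙 ptK) ≫ m.hom := by
    apply huniq
    rw [Category.assoc, ← Category.assoc σ, hσπ, Category.comp_id,
      CategoryTheory.Functor.map_id, Category.id_comp]
  rw [CategoryTheory.Functor.map_id, Category.id_comp] at h3
  show (AlgSp.yon S).map j ≫ σ ≫ i.hom = x
  rw [← Category.assoc, h3, hmi]

set_option backward.isDefEq.respectTransparency false in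
/-- For a separated morphism of algebraic spaces, a valuative square that has a lift after a dominating extension
of the valuation ring already has a lift. -/
theorem hasLift_of_domExt {X Y : AlgSp.Space S} (f : X ⟶ Y) (hf : AlgSp.IsSeparatedMor f.hom)
    (sq : AlgSp.ValSq f.hom) (e : sq.DomExt) (he : e.HasLift) : sq.HasLift := by
  obtain ⟨l', hl1, hl2⟩ := he
  have sqP := IsPullback.of_hasPullback f.hom sq.bot
  have hP : AlgSp.IsAlgSpace (pullback f.hom sq.bot) :=
    Groth.Agent.S9874.isAlgSpace_of_isPullback Y.property.diag X.property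
      (AlgSp.IsAlgSpace.yon_obj sq.ptA) sqP
  have hπ : AlgSp.RepWith @IsClosedImmersion (pullback.diagonal (pullback.snd f.hom sq.bot)) :=
    (AlgSp.RepWith @IsClosedImmersion).diagonal.of_isPullback sqP hf
  let x : (AlgSp.yon S).obj sq.ptK ⟶ pullback f.hom sq.bot :=
    pullback.lift sq.top ((AlgSp.yon S).map sq.j) sq.comm
  have hx1 : x ≫ pullback.fst f.hom sq.bot = sq.top := pullback.lift_fst _ _ _
  have hx2 : x ≫ pullback.snd f.hom sq.bot = (AlgSp.yon S).map sq.j := pullback.lift_snd _ _ _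
  -- the lift over the extension
  let φ' : e.ptA' ⟶ sq.ptA := Over.homMk (Spec.map (CommRingCat.ofHom e.φ)) rfl
  let ιK' : e.ptK' ⟶ e.ptA' :=
    Over.homMk (Spec.map (CommRingCat.ofHom (algebraMap e.A' e.K'))) rfl
  let ψ' : e.ptK' ⟶ sq.ptK := Over.homMk (Spec.map (CommRingCat.ofHom e.ψ)) (by
    change Spec.map _ ≫ Spec.map _ ≫ _ = Spec.map _ ≫ Spec.map _ ≫ _
    rw [← Spec.map_comp_assoc, ← Spec.map_comp_assoc, ← CommRingCat.ofHom_comp,
      ← CommRingCat.ofHom_comp, e.comm])
  let lam : (AlgSp.yon S).obj e.ptA' ⟶ pullback f.hom sq.bot :=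
    pullback.lift l' ((AlgSp.yon S).map φ') hl2
  have hlam2 : lam ≫ pullback.snd f.hom sq.bot = (AlgSp.yon S).map φ' := pullback.lift_snd _ _ _
  have hcompat : (AlgSp.yon S).map ιK' ≫ lam = (AlgSp.yon S).map ψ' ≫ x := by
    apply pullback.hom_ext
    · rw [Category.assoc, pullback.lift_fst, Category.assoc, hx1]
      exact hl1
    · rw [Category.assoc, pullback.lift_snd, Category.assoc, hx2, ← Functor.map_comp,
        ← Functor.map_comp]
      congr 1
      apply Over.OverMorphism.ext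
      show Spec.map _ ≫ Spec.map _ = Spec.map _ ≫ Spec.map _
      rw [← Spec.map_comp, ← Spec.map_comp, ← CommRingCat.ofHom_comp, ← CommRingCat.ofHom_comp,
        e.comm]
  obtain ⟨σ, hσ1, hσ2⟩ := exists_section sq.str hP (pullback.snd f.hom sq.bot) hπ x hx2 (by
    intro Z i hZ
    obtain ⟨W, w, prW, sqW⟩ := hZ.1.1 lam
    have hcl : IsClosedImmersion w.left := hZ.1.2 _ _ w sqW
    obtain ⟨x', hx'⟩ := hZ.2.1
    obtain ⟨t, ht⟩ := (AlgSp.yon S).map_surjective
      (sqW.lift ((AlgSp.yon S).map ψ' ≫ x') ((AlgSp.yon S).map ιK')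
        (by rw [Category.assoc, hx', hcompat]))
    have htw : t ≫ w = ιK' := by
      apply (AlgSp.yon S).map_injective
      rw [Functor.map_comp, ht, sqW.lift_snd]
    have hker : ιK'.left.ker = ⊥ := ker_specMap_eq_bot _ (IsFractionRing.injective e.A' e.K')
    have hwiso : IsIso w := isIso_of_closedImm_of_ker w ιK' hker t htw
    refine ⟨AlgSp.Points.ofPt ((AlgSp.yon S).map (inv w) ≫ prW) (IsLocalRing.closedPoint e.A'), ?_⟩
    rw [AlgSp.Points.map_ofPt]
    have h1 : ((AlgSp.yon S).map (inv w) ≫ prW) ≫ i ≫ pullback.snd f.hom sq.bot =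
        (AlgSp.yon S).map φ' := by
      rw [Category.assoc, ← Category.assoc prW, sqW.w, Category.assoc, ← Category.assoc,
        ← Functor.map_comp, IsIso.inv_hom_id, CategoryTheory.Functor.map_id, Category.id_comp]
      exact hlam2
    rw [h1, ← Category.comp_id ((AlgSp.yon S).map φ'), Groth.Agent.S10176.ofPt_map_comp]
    show AlgSp.Points.ofScheme sq.ptA (φ'.left (IsLocalRing.closedPoint e.A')) = _
    congr 1
    exact (IsLocalRing.isLocalHom_iff_comap_closedPoint e.φ).1 e.isLocalHom)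
  refine ⟨σ ≫ pullback.fst f.hom sq.bot, ?_, ?_⟩
  · rw [← Category.assoc]
    erw [hσ2]
    exact hx1
  · rw [Category.assoc, pullback.condition, ← Category.assoc, hσ1, Category.id_comp]

end Groth.Agent.Lib.Seat43.SepLiftB
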