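import Mathlib
import Groth.Agent.Lib.Seat43RefDvrA
import Groth.Agent.Lib.Seat43RefDvrB
import Groth.Agent.Lib.Seat43RefinedVC
import Groth.Agent.Lib.Seat48FibreNoeth
import Groth.Agent.S10284

/-!
# From discrete valuation rings to arbitrary valuation rings (seat 43)

`hasLiftExt_of_generic`: let `h : U ⟶ X`, `f : X ⟶ Y` be of finite type with `Y` locally Noetherian and
`f` separated, such that valuative squares of `h ≫ f` over discrete valuation rings lift to `X`.  Then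
every valuative square of `f` (over an arbitrary valuation ring) whose generic point factors through
`U` has a lift after a dominating extension.
-/

set_option autoImplicit false
universe u
open CategoryTheory CategoryTheory.Limits AlgebraicGeometry Opposite
open AlgSp

namespace Groth.Agent.Lib.Seat43.RefDvrC

open Groth.Agent.Lib.Seat43.SepCore

variable {S : Scheme.{u}}

set_option backward.isDefEq.respectTransparency false in
theorem hasLiftExt_of_generic {U X Y : AlgSp.Space S} (h : U ⟶ X) (f : X ⟶ Y)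
    (hY : AlgSp.IsLocNoethSp Y.obj) (hfs : AlgSp.IsSeparatedMor f.hom)
    (hqs : AlgSp.IsQuasiSeparatedMor f.hom)
    (hft : AlgSp.IsFiniteTypeMor f.hom) (hh : AlgSp.IsFiniteTypeMor h.hom)
    (hval : ∀ sq : AlgSp.ValSq (h.hom ≫ f.hom), IsDiscreteValuationRing sq.A →
      ∃ l : (AlgSp.yon S).obj sq.ptA ⟶ X.obj,
        (AlgSp.yon S).map sq.j ≫ l = sq.top ≫ h.hom ∧ l ≫ f.hom = sq.bot)
    (sq : AlgSp.ValSq f.hom) (t : (AlgSp.yon S).obj sq.ptK ⟶ U.obj) (ht : t ≫ h.hom = sq.top) :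
    sq.HasLiftExt := by
  obtain ⟨A₁, _, _, _, φ₁, B, _, strB, cB, a₁, hstr, hφ₁inj, hφ₁loc, hcBe, hcomp⟩ :=
    Groth.Agent.Lib.Seat43.RefinedVC.exists_affine_lift Y.property sq.A sq.str sq.bot
  have hBN : IsNoetherianRing B := by
    have : IsLocallyNoetherian (Spec (CommRingCat.of B)) :=
      Groth.Agent.Lib.Seat48.FibreNoeth.isLocallyNoetherian_of_etale_chart hY cB hcBe
    exact isLocallyNoetherian_Spec.1 this
  obtain ⟨K₁, _, _, _, ψ₁, hψ₁⟩ :=
    Groth.Agent.Lib.Seat43.FinSepVC.exists_fracExt (K' := sq.K) φ₁ hφ₁inj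
  letI : Algebra B A₁ := a₁.toAlgebra
  have hstr' : Spec.map (CommRingCat.ofHom (algebraMap B A₁)) ≫ strB =
      Spec.map (CommRingCat.ofHom φ₁) ≫ sq.str := hstr
  have hψS : Spec.map (CommRingCat.ofHom ψ₁) ≫ Spec.map (CommRingCat.ofHom (algebraMap sq.A sq.K)) =
      Spec.map (CommRingCat.ofHom (algebraMap A₁ K₁)) ≫ Spec.map (CommRingCat.ofHom φ₁) := by
    rw [← Spec.map_comp, ← Spec.map_comp, ← CommRingCat.ofHom_comp, ← CommRingCat.ofHom_comp, hψ₁]
  let e : sq.DomExt :=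
    { A' := A₁, K' := K₁, φ := φ₁, ψ := ψ₁, comm := hψ₁.symm, isLocalHom := hφ₁loc }
  refine ⟨e, ?_⟩
  -- the morphisms over `S`
  obtain ⟨κK, hκK⟩ : ∃ κK : Over.mk (Spec.map (CommRingCat.ofHom (algebraMap A₁ K₁)) ≫
      Spec.map (CommRingCat.ofHom (algebraMap B A₁)) ≫ strB) ⟶ sq.ptK,
      κK.left = Spec.map (CommRingCat.ofHom ψ₁) :=
    ⟨Over.homMk (Spec.map (CommRingCat.ofHom ψ₁)) (by
      show Spec.map _ ≫ Spec.map _ ≫ sq.str = Spec.map _ ≫ Spec.map _ ≫ strB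
      rw [hstr', ← Category.assoc, hψS, Category.assoc]), rfl⟩
  obtain ⟨j₁, hj₁⟩ : ∃ j₁ : Over.mk (Spec.map (CommRingCat.ofHom (algebraMap A₁ K₁)) ≫
      Spec.map (CommRingCat.ofHom (algebraMap B A₁)) ≫ strB) ⟶ ov strB A₁,
      j₁ = Over.homMk (Spec.map (CommRingCat.ofHom (algebraMap A₁ K₁))) rfl := ⟨_, rfl⟩
  have hj₁l : j₁.left = Spec.map (CommRingCat.ofHom (algebraMap A₁ K₁)) := by rw [hj₁]; rfl
  obtain ⟨ident', hident'⟩ : ∃ ident' : ov strB A₁ ⟶ e.ptA', ident'.left = 𝟙 _ :=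
    ⟨Over.homMk (𝟙 _) (by rw [Category.id_comp]; exact hstr'.symm), rfl⟩
  obtain ⟨ident, hident⟩ : ∃ ident : e.ptA' ⟶ ov strB A₁, ident.left = 𝟙 _ :=
    ⟨Over.homMk (𝟙 _) (by rw [Category.id_comp]; exact hstr'), rfl⟩
  obtain ⟨φ', hφ'⟩ : ∃ φ' : e.ptA' ⟶ sq.ptA,
      φ' = Over.homMk (Spec.map (CommRingCat.ofHom φ₁)) rfl := ⟨_, rfl⟩
  have hφ'l : φ'.left = Spec.map (CommRingCat.ofHom φ₁) := by rw [hφ']; rfl
  obtain ⟨a₁o, ha₁o⟩ : ∃ a₁o : e.ptA' ⟶ Over.mk strB,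
      a₁o = Over.homMk (Spec.map (CommRingCat.ofHom a₁)) hstr := ⟨_, rfl⟩
  have ha₁ol : a₁o.left = Spec.map (CommRingCat.ofHom a₁) := by rw [ha₁o]; rfl
  have hcomp' : (AlgSp.yon S).map a₁o ≫ cB = (AlgSp.yon S).map φ' ≫ sq.bot := by
    rw [ha₁o, hφ']; exact hcomp
  have htoBase : toBase strB A₁ = ident' ≫ a₁o := by
    apply Over.OverMorphism.ext
    show Spec.map _ = ident'.left ≫ a₁o.left
    rw [hident', ha₁ol, Category.id_comp]
    rfl
  have hidentBase : ident ≫ toBase strB A₁ = a₁o := by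
    apply Over.OverMorphism.ext
    show ident.left ≫ Spec.map _ = a₁o.left
    rw [hident, ha₁ol, Category.id_comp]
    rfl
  have hκj : κK ≫ sq.j = j₁ ≫ ident' ≫ φ' := by
    apply Over.OverMorphism.ext
    show κK.left ≫ Spec.map _ = j₁.left ≫ ident'.left ≫ φ'.left
    rw [hκK, hj₁l, hident', hφ'l, Category.id_comp, hψS]
  have hcomm₁ : ((AlgSp.yon S).map κK ≫ sq.top) ≫ f.hom =
      (AlgSp.yon S).map j₁ ≫ (AlgSp.yon S).map (toBase strB A₁) ≫ cB := by
    calc ((AlgSp.yon S).map κK ≫ sq.top) ≫ f.hom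
        = (AlgSp.yon S).map κK ≫ (AlgSp.yon S).map sq.j ≫ sq.bot := by
          rw [Category.assoc, sq.comm]
      _ = (AlgSp.yon S).map (κK ≫ sq.j) ≫ sq.bot := by rw [Functor.map_comp, Category.assoc]
      _ = (AlgSp.yon S).map (j₁ ≫ ident' ≫ φ') ≫ sq.bot := by rw [hκj]
      _ = (AlgSp.yon S).map j₁ ≫ (AlgSp.yon S).map ident' ≫ (AlgSp.yon S).map φ' ≫ sq.bot := by
          simp only [Functor.map_comp, Category.assoc]
      _ = (AlgSp.yon S).map j₁ ≫ (AlgSp.yon S).map ident' ≫ (AlgSp.yon S).map a₁o ≫ cB := by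
          rw [hcomp']
      _ = _ := by rw [htoBase, Functor.map_comp, Category.assoc]
  let sq₁ : AlgSp.ValSq f.hom :=
    { A := A₁, K := K₁, str := Spec.map (CommRingCat.ofHom (algebraMap B A₁)) ≫ strB,
      top := (AlgSp.yon S).map κK ≫ sq.top,
      bot := (AlgSp.yon S).map (toBase strB A₁) ≫ cB,
      comm := by rw [hcomm₁, hj₁] }
  -- the point over the closed point
  have hPV := IsPullback.of_hasPullback f.hom sq₁.bot
  obtain ⟨x₁, hx₁⟩ : ∃ x₁ : (AlgSp.yon S).obj sq₁.ptK ⟶ pullback f.hom sq₁.bot,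
      x₁ = pullback.lift sq₁.top ((AlgSp.yon S).map sq₁.j) sq₁.comm := ⟨_, rfl⟩
  have hx₁1 : x₁ ≫ pullback.fst f.hom sq₁.bot = (AlgSp.yon S).map κK ≫ sq.top := by
    rw [hx₁]; exact pullback.lift_fst _ _ _
  have hx₁2 : x₁ ≫ pullback.snd f.hom sq₁.bot = (AlgSp.yon S).map j₁ := by
    rw [hx₁, hj₁]; exact pullback.lift_snd _ _ _
  have hzex := Groth.Agent.Lib.Seat43.RefDvrA.exists_mem_closure_of_dvr_general strB h f hft hh
    hval cB A₁ (pullback.fst f.hom sq₁.bot) (pullback.snd f.hom sq₁.bot) hPV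
    (AlgSp.Points.ofPt x₁ (IsLocalRing.closedPoint K₁))
    (by
      rw [AlgSp.Points.map_ofPt, hx₁1, ← ht, ← Category.assoc, ← AlgSp.Points.map_ofPt]
      exact ⟨_, rfl⟩)
    (IsLocalRing.closedPoint A₁)
    (by
      rw [AlgSp.Points.map_ofPt, hx₁2, ← Category.comp_id ((AlgSp.yon S).map j₁),
        Groth.Agent.S10176.ofPt_map_comp]
      have hs : j₁.left (IsLocalRing.closedPoint K₁) ⤳ IsLocalRing.closedPoint A₁ :=
        IsLocalRing.specializes_closedPoint (R := A₁) _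
      exact hs.map (AlgSp.Points.continuous_ofPt (𝟙 ((AlgSp.yon S).obj (ov strB A₁)))))
  have hLE : sq₁.HasLiftExt := by
    refine Groth.Agent.Lib.Seat43.RefDvrB.hasLiftExt_of_closedPoint f hqs sq₁ ?_
    rw [← hx₁]
    exact hzex
  obtain ⟨e₁, he₁⟩ := hLE
  obtain ⟨l₁, hl1, hl2⟩ := Groth.Agent.S10284.result f hfs sq₁ e₁ he₁
  have hl1' : (AlgSp.yon S).map j₁ ≫ l₁ = (AlgSp.yon S).map κK ≫ sq.top := by
    rw [hj₁]; exact hl1
  have hl2' : l₁ ≫ f.hom = (AlgSp.yon S).map (toBase strB A₁) ≫ cB := hl2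
  -- the lift for `e`
  obtain ⟨identK, hidentK⟩ : ∃ identK : e.ptK' ⟶ Over.mk (Spec.map (CommRingCat.ofHom
      (algebraMap A₁ K₁)) ≫ Spec.map (CommRingCat.ofHom (algebraMap B A₁)) ≫ strB),
      identK.left = 𝟙 _ :=
    ⟨Over.homMk (𝟙 _) (by
      rw [Category.id_comp]
      show Spec.map _ ≫ Spec.map _ ≫ strB = Spec.map _ ≫ Spec.map _ ≫ sq.str
      rw [hstr']), rfl⟩
  refine ⟨(AlgSp.yon S).map ident ≫ l₁, ?_, ?_⟩
  · have e1 : (Over.homMk (Spec.map (CommRingCat.ofHom (algebraMap e.A' e.K'))) rfl :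
        e.ptK' ⟶ e.ptA') ≫ ident = identK ≫ j₁ := by
      apply Over.OverMorphism.ext
      show Spec.map _ ≫ ident.left = identK.left ≫ j₁.left
      rw [hident, hidentK, hj₁l]
      exact (Category.comp_id _).trans (Category.id_comp _).symm
    rw [← Category.assoc, ← Functor.map_comp, e1, Functor.map_comp, Category.assoc, hl1',
      ← Category.assoc, ← Functor.map_comp]
    congr 2
    apply Over.OverMorphism.ext
    show identK.left ≫ κK.left = Spec.map _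
    rw [hidentK, hκK, Category.id_comp]
  · rw [Category.assoc, hl2', ← Category.assoc, ← Functor.map_comp, hidentBase, hcomp', hφ']

end Groth.Agent.Lib.Seat43.RefDvrC
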