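import Mathlib
import Groth.Prelude.Def_AlgSp
import Groth.Prelude.Def_AlgSpCov
import Groth.Agent.Lib.Helper12LocPCases
import Groth.Agent.Lib.Helper4DVRSch
import Groth.Agent.S9874
import Groth.Agent.S9913
import Groth.Agent.S10175
import Groth.Agent.S10176
import Groth.Agent.S10177

/-!
# Generic chart points for a finite type morphism with dense image (seat 43)

`exists_generic_chart_point`: let `h : U ⟶ X` be a finite type morphism of algebraic spaces with
dense image on points and `pr : h_W ⟶ X` an étale morphism from a locally Noetherian scheme.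
Every point of `W` is the specialisation of the image of a point of a scheme `U₂` locally of
finite type over `W` mapping to `U` compatibly.
-/

set_option autoImplicit false
universe u
open CategoryTheory CategoryTheory.Limits AlgebraicGeometry Opposite

namespace Groth.Agent.Lib.Seat43.RefinedDvr

variable {S : Scheme.{u}}

/-- the quasi-compact case. -/
theorem exists_generic_chart_point_of_compact {U X : AlgSp.Space S} (h : U ⟶ X)
    (hh : AlgSp.IsFiniteTypeMor h.hom)
    (hdense : Dense (Set.range (AlgSp.Points.map h.hom)))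
    (W : Over S) [IsLocallyNoetherian W.left] [CompactSpace ↥W.left]
    (g : (AlgSp.yon S).obj W ⟶ X.obj)
    (hg : AlgSp.RepWith @Etale g) (x : ↥W.left) :
    ∃ (U₂ : Over S) (k : U₂ ⟶ W) (t : (AlgSp.yon S).obj U₂ ⟶ U.obj) (u₂ : ↥U₂.left),
      t ≫ h.hom = (AlgSp.yon S).map k ≫ g ∧ LocallyOfFiniteType k.left ∧ k.left u₂ ⤳ x := by
  have hgood := Groth.Agent.Lib.Helper12.LocPCases.good_lft.{u}
  have sq := IsPullback.of_hasPullback h.hom g
  have hqc : AlgSp.IsQuasiCompactSp (pullback h.hom g) :=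
    hh.2 (AlgSp.IsAlgSpace.yon_obj W) (Groth.Agent.S9913.isQuasiCompactSp_yon_of_compact W) g _ _ sq
  obtain ⟨U₂, c, hce, hcs, hU₂⟩ := hqc
  obtain ⟨k, hk⟩ := (AlgSp.yon S).map_surjective (c ≫ pullback.snd h.hom g)
  have hlocP : AlgSp.LocP @LocallyOfFiniteType (pullback.snd h.hom g) :=
    hgood.locP_baseChange U.property X.property (AlgSp.IsAlgSpace.yon_obj W) sq hh.1
  have hklft : LocallyOfFiniteType k.left :=
    hlocP c (𝟙 _) k hce (AlgSp.repWith_id _ W) (by rw [hk, Category.comp_id])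
  haveI : IsLocallyNoetherian U₂.left := LocallyOfFiniteType.isLocallyNoetherian k.left
  haveI : CompactSpace ↥U₂.left := hU₂
  haveI : IsNoetherian U₂.left := { }
  have hx : x ∈ closure (Set.range k.left) := by
    rw [mem_closure_iff]
    intro O hO hxO
    have hopen := Groth.Agent.S10176.isOpenMap_ofPt g hg O hO
    obtain ⟨_, ⟨o, hoO, rfl⟩, ⟨u, hu⟩⟩ :=
      hdense.inter_open_nonempty _ hopen ⟨_, ⟨x, hxO, rfl⟩⟩
    obtain ⟨q, hq1, hq2⟩ := Groth.Agent.S10175.exists_point_of_isPullback sq u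
      (AlgSp.Points.schemeHomeo W o) (by rw [hu, AlgSp.Points.ofPt_eq_map_ofScheme]; rfl)
    obtain ⟨u₂, rfl⟩ := Groth.Agent.S10177.surjective_ofPt c hcs q
    refine ⟨k.left u₂, ?_, ⟨u₂, rfl⟩⟩
    have : AlgSp.Points.schemeHomeo W (k.left u₂) = AlgSp.Points.schemeHomeo W o := by
      rw [← hq2, AlgSp.Points.map_ofPt, ← hk]
      have := Groth.Agent.S10176.ofPt_map_comp k (𝟙 _) u₂
      rw [Category.comp_id] at this
      rw [this, AlgSp.Points.ofPt_eq_map_ofScheme, AlgSp.Points.map_id]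
      rfl
    rw [(AlgSp.Points.schemeHomeo W).injective this]
    exact hoO
  obtain ⟨a, ha⟩ := Groth.Agent.Lib.Helper4.DVRSch.exists_specializes_of_noetherianSpace
    k.left k.left.continuous hx
  refine ⟨U₂, k, c ≫ pullback.fst h.hom g, a, ?_, hklft, ha⟩
  rw [Category.assoc, pullback.condition, ← Category.assoc, hk]

theorem exists_generic_chart_point {U X : AlgSp.Space S} (h : U ⟶ X)
    (hh : AlgSp.IsFiniteTypeMor h.hom)
    (hdense : Dense (Set.range (AlgSp.Points.map h.hom)))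
    (W : Over S) [IsLocallyNoetherian W.left] (pr : (AlgSp.yon S).obj W ⟶ X.obj)
    (hpr : AlgSp.RepWith @Etale pr) (x : ↥W.left) :
    ∃ (U₂ : Over S) (k : U₂ ⟶ W) (t : (AlgSp.yon S).obj U₂ ⟶ U.obj) (u₂ : ↥U₂.left),
      t ≫ h.hom = (AlgSp.yon S).map k ≫ pr ∧ LocallyOfFiniteType k.left ∧ k.left u₂ ⤳ x := by
  obtain ⟨W₁o, hW₁, hxW₁, -⟩ :=
    exists_isAffineOpen_mem_and_subset (X := W.left) (U := ⊤) (x := x) (by simp)
  let W₁ : Over S := Over.mk (W₁o.ι ≫ W.hom)
  let ι₁ : W₁ ⟶ W := Over.homMk W₁o.ι rfl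
  haveI : IsAffine W₁.left := hW₁
  haveI : IsLocallyNoetherian W₁.left :=
    LocallyOfFiniteType.isLocallyNoetherian (Y := W.left) W₁o.ι
  have hg : AlgSp.RepWith @Etale ((AlgSp.yon S).map ι₁ ≫ pr) :=
    (AlgSp.repWith_isMultiplicative (S := S) @Etale).comp_mem _ _
      ((AlgSp.repWith_yon_map_iff @Etale ι₁).2 (show Etale W₁o.ι from inferInstance)) hpr
  obtain ⟨U₂, k, t, u₂, htk, hklft, hspec⟩ :=
    exists_generic_chart_point_of_compact h hh hdense W₁ _ hg (⟨x, hxW₁⟩ : ↥W₁o)
  refine ⟨U₂, k ≫ ι₁, t, u₂, ?_, ?_, ?_⟩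
  · rw [htk, Functor.map_comp, Category.assoc]
  · haveI := hklft
    show LocallyOfFiniteType (k.left ≫ W₁o.ι)
    infer_instance
  · have := hspec.map ι₁.left.continuous
    exact this

end Groth.Agent.Lib.Seat43.RefinedDvr
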