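import Groth.Prelude.Def_DescFam
import Groth.Agent.Lib.Helper12DescFF
import Mathlib.AlgebraicGeometry.Gluing

/-!
# Zariski gluing of descent data for schemes (seat 43)

For a family of open immersions `g i : U i ⟶ V` and a descent datum `D` relative to it, the schemes
`(D.obj i).left` glue to a scheme `Z` over `V` (`Scheme.GlueData`).
-/

set_option autoImplicit false
set_option backward.isDefEq.respectTransparency false
set_option backward.isDefEq.respectTransparency.types false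
universe u
open CategoryTheory CategoryTheory.Limits AlgebraicGeometry Desc

namespace Groth.Agent.Lib.Seat43.ZarDescGlue

open Groth.Agent.Lib.Helper12.DescFF

section Basic

variable {S : Scheme.{u}} {κ : Type u} {V : κ → Scheme.{u}} {v : ∀ j, V j ⟶ S}

lemma φ_congr (D : SchDDFam v) {T : Scheme.{u}} {j j' : κ} {x₀ x₀' : T ⟶ V j} {x₁ x₁' : T ⟶ V j'}
    (e₀ : x₀ = x₀') (e₁ : x₁ = x₁') (h : x₀ ≫ v j = x₁ ≫ v j') (h' : x₀' ≫ v j = x₁' ≫ v j')
    (p : Lifts (D.obj j) x₀) (p' : Lifts (D.obj j) x₀') (ep : p.1 = p'.1) :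
    (D.φ x₀ x₁ h p).1 = (D.φ x₀' x₁' h' p').1 := by
  subst e₀ e₁
  have : p = p' := Subtype.ext ep
  subst this
  rfl

end Basic

set_option linter.unusedSectionVars false

variable {V : Scheme.{u}} {I : Type u} {U : I → Scheme.{u}} (g : ∀ i, U i ⟶ V)
  [∀ i, IsOpenImmersion (g i)] (D : SchDDFam g)

/-- the overlap `W_i ×_V U_k` -/
noncomputable abbrev VV (i k : I) : Scheme.{u} := pullback ((D.obj i).hom ≫ g i) (g k)

/-- a point of the overlap -/
noncomputable def mk {T : Scheme.{u}} (i k : I) (w : T ⟶ (D.obj i).left) (s : T ⟶ U k)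
    (h : (w ≫ (D.obj i).hom) ≫ g i = s ≫ g k) : T ⟶ VV g D i k :=
  pullback.lift w s (by rw [← Category.assoc]; exact h)

@[simp] lemma mk_fst {T : Scheme.{u}} (i k : I) (w : T ⟶ (D.obj i).left) (s : T ⟶ U k)
    (h : (w ≫ (D.obj i).hom) ≫ g i = s ≫ g k) :
    mk g D i k w s h ≫ pullback.fst _ _ = w := pullback.lift_fst _ _ _

@[simp] lemma mk_snd {T : Scheme.{u}} (i k : I) (w : T ⟶ (D.obj i).left) (s : T ⟶ U k)
    (h : (w ≫ (D.obj i).hom) ≫ g i = s ≫ g k) :
    mk g D i k w s h ≫ pullback.snd _ _ = s := pullback.lift_snd _ _ _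

lemma cond (i k : I) : ((pullback.fst ((D.obj i).hom ≫ g i) (g k)) ≫ (D.obj i).hom) ≫ g i =
    pullback.snd ((D.obj i).hom ≫ g i) (g k) ≫ g k := by
  rw [Category.assoc]; exact pullback.condition

/-- the point of `W_k` obtained from the universal point of the overlap -/
noncomputable def tw (i k : I) : Lifts (D.obj k) (pullback.snd ((D.obj i).hom ≫ g i) (g k)) :=
  D.φ (pullback.fst ((D.obj i).hom ≫ g i) (g k) ≫ (D.obj i).hom) (pullback.snd _ _) (cond g D i k)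
    ⟨pullback.fst _ _, rfl⟩

/-- the transition maps -/
noncomputable def t (i k : I) : VV g D i k ⟶ VV g D k i :=
  mk g D k i (tw g D i k).1 (pullback.fst _ _ ≫ (D.obj i).hom) (by
    rw [(tw g D i k).2, cond])

/-- the transition map on points -/
lemma comp_t {T : Scheme.{u}} (i k : I) (w : T ⟶ (D.obj i).left) (s : T ⟶ U k)
    (h : (w ≫ (D.obj i).hom) ≫ g i = s ≫ g k) :
    mk g D i k w s h ≫ t g D i k =
      mk g D k i (D.φ (w ≫ (D.obj i).hom) s h ⟨w, rfl⟩).1 (w ≫ (D.obj i).hom) (by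
        rw [(D.φ (w ≫ (D.obj i).hom) s h ⟨w, rfl⟩).2, h]) := by
  apply pullback.hom_ext
  · rw [Category.assoc, t, mk_fst, mk_fst]
    exact (φ_nat D (mk g D i k w s h) _ _ (cond g D i k) _ _
      (by rw [← Category.assoc, mk_fst]) (mk_snd g D i k w s h) h
      ⟨pullback.fst _ _, rfl⟩ ⟨w, rfl⟩ (mk_fst g D i k w s h).symm).symm
  · rw [Category.assoc, t, mk_snd, mk_snd, ← Category.assoc, mk_fst]

lemma mk_congr {T : Scheme.{u}} (i k : I) {w w' : T ⟶ (D.obj i).left} {s s' : T ⟶ U k}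
    (h : (w ≫ (D.obj i).hom) ≫ g i = s ≫ g k) (h' : (w' ≫ (D.obj i).hom) ≫ g i = s' ≫ g k)
    (ew : w = w') (es : s = s') : mk g D i k w s h = mk g D i k w' s' h' := by
  subst ew es; rfl

lemma snd_eq (i : I) : pullback.snd ((D.obj i).hom ≫ g i) (g i) =
    pullback.fst ((D.obj i).hom ≫ g i) (g i) ≫ (D.obj i).hom := by
  rw [← cancel_mono (g i)]
  exact (cond g D i i).symm

lemma t_id (i : I) : t g D i i = 𝟙 _ := by
  apply pullback.hom_ext
  · rw [t, mk_fst, Category.id_comp]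
    exact φ_val_of_eq D _ _ (snd_eq g D i).symm _ _
  · rw [t, mk_snd, Category.id_comp, snd_eq]

/-- the triple overlaps -/
noncomputable abbrev PP (i j k : I) : Scheme.{u} :=
  pullback (pullback.fst ((D.obj i).hom ≫ g i) (g j)) (pullback.fst ((D.obj i).hom ≫ g i) (g k))

/-- a point of the triple overlap -/
noncomputable def mkP {T : Scheme.{u}} (i j k : I) (w : T ⟶ (D.obj i).left) (s : T ⟶ U j)
    (s' : T ⟶ U k) (h : (w ≫ (D.obj i).hom) ≫ g i = s ≫ g j)
    (h' : (w ≫ (D.obj i).hom) ≫ g i = s' ≫ g k) : T ⟶ PP g D i j k :=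
  pullback.lift (mk g D i j w s h) (mk g D i k w s' h') (by rw [mk_fst, mk_fst])

@[simp] lemma mkP_fst {T : Scheme.{u}} (i j k : I) (w : T ⟶ (D.obj i).left) (s : T ⟶ U j)
    (s' : T ⟶ U k) (h : (w ≫ (D.obj i).hom) ≫ g i = s ≫ g j)
    (h' : (w ≫ (D.obj i).hom) ≫ g i = s' ≫ g k) :
    mkP g D i j k w s s' h h' ≫ pullback.fst _ _ = mk g D i j w s h := pullback.lift_fst _ _ _

@[simp] lemma mkP_snd {T : Scheme.{u}} (i j k : I) (w : T ⟶ (D.obj i).left) (s : T ⟶ U j)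
    (s' : T ⟶ U k) (h : (w ≫ (D.obj i).hom) ≫ g i = s ≫ g j)
    (h' : (w ≫ (D.obj i).hom) ≫ g i = s' ≫ g k) :
    mkP g D i j k w s s' h h' ≫ pullback.snd _ _ = mk g D i k w s' h' := pullback.lift_snd _ _ _

lemma mkP_congr {T : Scheme.{u}} (i j k : I) {w w' : T ⟶ (D.obj i).left} {s₁ s₁' : T ⟶ U j}
    {s₂ s₂' : T ⟶ U k} (h₁ : (w ≫ (D.obj i).hom) ≫ g i = s₁ ≫ g j)
    (h₂ : (w ≫ (D.obj i).hom) ≫ g i = s₂ ≫ g k) (h₁' : (w' ≫ (D.obj i).hom) ≫ g i = s₁' ≫ g j)
    (h₂' : (w' ≫ (D.obj i).hom) ≫ g i = s₂' ≫ g k) (ew : w = w') (e₁ : s₁ = s₁') (e₂ : s₂ = s₂') :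
    mkP g D i j k w s₁ s₂ h₁ h₂ = mkP g D i j k w' s₁' s₂' h₁' h₂' := by
  subst ew e₁ e₂; rfl

/-- every point of the triple overlap is of the form `mkP` -/
lemma eq_mkP {T : Scheme.{u}} (i j k : I) (a : T ⟶ PP g D i j k) :
    a = mkP g D i j k (a ≫ pullback.fst _ _ ≫ pullback.fst _ _)
      (a ≫ pullback.fst _ _ ≫ pullback.snd _ _) (a ≫ pullback.snd _ _ ≫ pullback.snd _ _)
      (by simp only [Category.assoc]; rw [pullback.condition])
      (by
        simp only [Category.assoc]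
        rw [pullback.condition_assoc, pullback.condition]) := by
  apply pullback.hom_ext
  · rw [mkP_fst]
    apply pullback.hom_ext
    · rw [mk_fst, Category.assoc]
    · rw [mk_snd, Category.assoc]
  · rw [mkP_snd]
    apply pullback.hom_ext
    · rw [mk_fst, pullback.condition, Category.assoc]
    · rw [mk_snd, Category.assoc]

/-- the transition maps on triple overlaps -/
noncomputable def t' (i j k : I) : PP g D i j k ⟶ PP g D j k i :=
  pullback.lift
    (mk g D j k (pullback.fst _ _ ≫ t g D i j ≫ pullback.fst _ _)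
      (pullback.snd _ _ ≫ pullback.snd _ _) (by
        have h1 : t g D i j ≫ pullback.fst _ _ ≫ (D.obj j).hom ≫ g j =
            pullback.snd _ _ ≫ g j := by
          rw [t, ← Category.assoc, mk_fst, ← Category.assoc, (tw g D i j).2]
        simp only [Category.assoc]
        rw [h1, ← pullback.condition (f := (D.obj i).hom ≫ g i) (g := g j),
          pullback.condition_assoc, pullback.condition]))
    (pullback.fst _ _ ≫ t g D i j) (by rw [mk_fst, Category.assoc])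

lemma t_fac (i j k : I) : t' g D i j k ≫ pullback.snd _ _ = pullback.fst _ _ ≫ t g D i j :=
  pullback.lift_snd _ _ _

lemma t'_fst (i j k : I) : t' g D i j k ≫ pullback.fst _ _ =
    mk g D j k (pullback.fst _ _ ≫ t g D i j ≫ pullback.fst _ _)
      (pullback.snd _ _ ≫ pullback.snd _ _) (by
        have h1 : t g D i j ≫ pullback.fst _ _ ≫ (D.obj j).hom ≫ g j =
            pullback.snd _ _ ≫ g j := by
          rw [t, ← Category.assoc, mk_fst, ← Category.assoc, (tw g D i j).2]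
        simp only [Category.assoc]
        rw [h1, ← pullback.condition (f := (D.obj i).hom ≫ g i) (g := g j),
          pullback.condition_assoc, pullback.condition]) :=
  pullback.lift_fst _ _ _

/-- the transition map on points of the triple overlap -/
lemma mkP_t' {T : Scheme.{u}} (i j k : I) (w : T ⟶ (D.obj i).left) (s : T ⟶ U j)
    (s' : T ⟶ U k) (h : (w ≫ (D.obj i).hom) ≫ g i = s ≫ g j)
    (h' : (w ≫ (D.obj i).hom) ≫ g i = s' ≫ g k) :
    mkP g D i j k w s s' h h' ≫ t' g D i j k =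
      mkP g D j k i (D.φ (w ≫ (D.obj i).hom) s h ⟨w, rfl⟩).1 s' (w ≫ (D.obj i).hom)
        (by rw [(D.φ (w ≫ (D.obj i).hom) s h ⟨w, rfl⟩).2, ← h, h'])
        (by rw [(D.φ (w ≫ (D.obj i).hom) s h ⟨w, rfl⟩).2, h]) := by
  apply pullback.hom_ext
  · rw [Category.assoc, t'_fst, mkP_fst]
    apply pullback.hom_ext
    · rw [Category.assoc, mk_fst, mk_fst, ← Category.assoc, mkP_fst, ← Category.assoc, comp_t,
        mk_fst]
    · rw [Category.assoc, mk_snd, mk_snd, ← Category.assoc, mkP_snd, mk_snd]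
  · rw [Category.assoc, t_fac, mkP_snd, ← Category.assoc, mkP_fst, comp_t]

lemma three_φ {T : Scheme.{u}} (i j k : I) (w : T ⟶ (D.obj i).left) (s : T ⟶ U j)
    (s' : T ⟶ U k) (h : (w ≫ (D.obj i).hom) ≫ g i = s ≫ g j)
    (h' : (w ≫ (D.obj i).hom) ≫ g i = s' ≫ g k)
    (h₁ : ((D.φ (w ≫ (D.obj i).hom) s h ⟨w, rfl⟩).1 ≫ (D.obj j).hom) ≫ g j = s' ≫ g k)
    (h₂ : ((D.φ ((D.φ (w ≫ (D.obj i).hom) s h ⟨w, rfl⟩).1 ≫ (D.obj j).hom) s' h₁
      ⟨(D.φ (w ≫ (D.obj i).hom) s h ⟨w, rfl⟩).1, rfl⟩).1 ≫ (D.obj k).hom) ≫ g k =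
        (w ≫ (D.obj i).hom) ≫ g i) :
    (D.φ ((D.φ ((D.φ (w ≫ (D.obj i).hom) s h ⟨w, rfl⟩).1 ≫ (D.obj j).hom) s' h₁
      ⟨(D.φ (w ≫ (D.obj i).hom) s h ⟨w, rfl⟩).1, rfl⟩).1 ≫ (D.obj k).hom) (w ≫ (D.obj i).hom) h₂
      ⟨(D.φ ((D.φ (w ≫ (D.obj i).hom) s h ⟨w, rfl⟩).1 ≫ (D.obj j).hom) s' h₁
        ⟨(D.φ (w ≫ (D.obj i).hom) s h ⟨w, rfl⟩).1, rfl⟩).1, rfl⟩).1 = w := by
  have e1 : (D.φ ((D.φ (w ≫ (D.obj i).hom) s h ⟨w, rfl⟩).1 ≫ (D.obj j).hom) s' h₁
      ⟨(D.φ (w ≫ (D.obj i).hom) s h ⟨w, rfl⟩).1, rfl⟩).1 =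
      (D.φ (w ≫ (D.obj i).hom) s' h' ⟨w, rfl⟩).1 := by
    rw [φ_congr D (D.φ (w ≫ (D.obj i).hom) s h ⟨w, rfl⟩).2 rfl h₁ (h.symm.trans h')
      ⟨(D.φ (w ≫ (D.obj i).hom) s h ⟨w, rfl⟩).1, rfl⟩ (D.φ (w ≫ (D.obj i).hom) s h ⟨w, rfl⟩) rfl,
      D.φ_comp]
  rw [φ_congr D (D.φ ((D.φ (w ≫ (D.obj i).hom) s h ⟨w, rfl⟩).1 ≫ (D.obj j).hom) s' h₁
      ⟨(D.φ (w ≫ (D.obj i).hom) s h ⟨w, rfl⟩).1, rfl⟩).2 rfl h₂ h'.symm _
      (D.φ (w ≫ (D.obj i).hom) s' h' ⟨w, rfl⟩) e1, φ_symm_apply]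

lemma cocycle_pt {T : Scheme.{u}} (i j k : I) (w : T ⟶ (D.obj i).left) (s : T ⟶ U j)
    (s' : T ⟶ U k) (h : (w ≫ (D.obj i).hom) ≫ g i = s ≫ g j)
    (h' : (w ≫ (D.obj i).hom) ≫ g i = s' ≫ g k) :
    mkP g D i j k w s s' h h' ≫ t' g D i j k ≫ t' g D j k i ≫ t' g D k i j =
      mkP g D i j k w s s' h h' := by
  rw [← Category.assoc, mkP_t', ← Category.assoc, mkP_t', mkP_t']
  apply mkP_congr
  · exact three_φ g D i j k w s s' h h' _ _
  · exact (D.φ (w ≫ (D.obj i).hom) s h ⟨w, rfl⟩).2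
  · exact (D.φ _ s' _ _).2

lemma cocycle (i j k : I) : t' g D i j k ≫ t' g D j k i ≫ t' g D k i j = 𝟙 _ := by
  suffices H : ∀ {T : Scheme.{u}} (a : T ⟶ PP g D i j k),
      a ≫ t' g D i j k ≫ t' g D j k i ≫ t' g D k i j = a by simpa using H (𝟙 _)
  intro T a
  obtain ⟨w, s, s', h, h', rfl⟩ : ∃ w s s' h h', a = mkP g D i j k w s s' h h' :=
    ⟨_, _, _, _, _, eq_mkP g D i j k a⟩
  exact cocycle_pt g D i j k w s s' h h'

/-- the glue data -/
noncomputable def glueData : Scheme.GlueData.{u} where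
  J := I
  U i := (D.obj i).left
  V := fun (i, k) => VV g D i k
  f i k := pullback.fst _ _
  f_mono i k := inferInstance
  f_id i := inferInstance
  t i k := t g D i k
  t_id i := t_id g D i
  t' i j k := t' g D i j k
  t_fac i j k := t_fac g D i j k
  cocycle i j k := cocycle g D i j k
  f_open i k := inferInstance

/-- the glued scheme -/
noncomputable def Z : Scheme.{u} := (glueData g D).glued

/-- the charts -/
noncomputable def chart (i : I) : (D.obj i).left ⟶ Z g D := (glueData g D).ι i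

instance (i : I) : IsOpenImmersion (chart g D i) := by unfold chart; infer_instance

lemma chart_jointly_surjective (z : Z g D) : ∃ (i : I) (y : (D.obj i).left), chart g D i y = z :=
  (glueData g D).ι_jointly_surjective z

/-- the gluing relation on points -/
lemma φ_chart {T : Scheme.{u}} {i k : I} (x : T ⟶ U i) (x' : T ⟶ U k) (h : x ≫ g i = x' ≫ g k)
    (w : Lifts (D.obj i) x) : (D.φ x x' h w).1 ≫ chart g D k = w.1 ≫ chart g D i := by
  obtain ⟨w, rfl⟩ := w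
  have h' : (w ≫ (D.obj i).hom) ≫ g i = x' ≫ g k := h
  have := (glueData g D).glue_condition i k
  have e := congrArg (fun m => mk g D i k w x' h' ≫ m) this
  simp only [glueData] at e
  rw [← Category.assoc, comp_t, ← Category.assoc, mk_fst, ← Category.assoc, mk_fst] at e
  exact e

lemma t_fst_hom (i k : I) : t g D i k ≫ pullback.fst _ _ ≫ (D.obj k).hom = pullback.snd _ _ := by
  rw [t, ← Category.assoc, mk_fst]; exact (tw g D i k).2

lemma ζ_aux (i k : I) : pullback.fst ((D.obj i).hom ≫ g i) (g k) ≫ (D.obj i).hom ≫ g i =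
    (t g D i k ≫ pullback.fst _ _) ≫ (D.obj k).hom ≫ g k := by
  have h := t_fst_hom g D i k
  rw [show (t g D i k ≫ pullback.fst _ _) ≫ (D.obj k).hom ≫ g k =
    (t g D i k ≫ pullback.fst _ _ ≫ (D.obj k).hom) ≫ g k by simp only [Category.assoc], h, ← cond,
    Category.assoc]

/-- the structure morphism of the glued scheme -/
noncomputable def ζ : Z g D ⟶ V :=
  Multicoequalizer.desc _ _ (fun i => (D.obj i).hom ≫ g i) (by
    rintro ⟨(i : I), (k : I)⟩
    exact ζ_aux g D i k)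

lemma chart_ζ (i : I) : chart g D i ≫ ζ g D = (D.obj i).hom ≫ g i :=
  Multicoequalizer.π_desc _ _ _ _ _

lemma preimage_ζ_range (i : I) :
    (ζ g D) ⁻¹' (Set.range (g i)) = Set.range (chart g D i) := by
  ext z
  constructor
  · rintro ⟨x, hx⟩
    obtain ⟨k, y, rfl⟩ := chart_jointly_surjective g D z
    have h1 : ((D.obj k).hom ≫ g k) y = g i x := by
      rw [← chart_ζ, Scheme.Hom.comp_apply]; exact hx.symm
    obtain ⟨p, hp1, hp2⟩ := Scheme.Pullback.exists_preimage_pullback y x h1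
    have hglue := (glueData g D).glue_condition k i
    refine ⟨(t g D k i ≫ pullback.fst _ _) p, ?_⟩
    have : (t g D k i ≫ pullback.fst _ _ ≫ chart g D i) p = (pullback.fst _ _ ≫ chart g D k) p :=
      congrArg (fun m : VV g D k i ⟶ Z g D => m p) hglue
    rw [← Scheme.Hom.comp_apply, Category.assoc, this, Scheme.Hom.comp_apply, hp1]
  · rintro ⟨y, rfl⟩
    refine ⟨(D.obj i).hom y, ?_⟩
    rw [← Scheme.Hom.comp_apply, ← Scheme.Hom.comp_apply, chart_ζ]

lemma isPullback_chart (i : I) : IsPullback (chart g D i) (D.obj i).hom (ζ g D) (g i) := by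
  refine ⟨⟨chart_ζ g D i⟩, ⟨PullbackCone.IsLimit.mk _ ?_ ?_ ?_ ?_⟩⟩
  · intro s
    refine IsOpenImmersion.lift (chart g D i) s.fst ?_
    rw [← preimage_ζ_range]
    rintro _ ⟨x, rfl⟩
    refine ⟨s.snd x, ?_⟩
    rw [← Scheme.Hom.comp_apply, ← s.condition, Scheme.Hom.comp_apply]
  · intro s
    exact IsOpenImmersion.lift_fac _ _ _
  · intro s
    rw [← cancel_mono (g i), Category.assoc, ← chart_ζ, IsOpenImmersion.lift_fac_assoc,
      s.condition]
  · intro s m h1 h2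
    rw [← cancel_mono (chart g D i), IsOpenImmersion.lift_fac]
    exact h1

/-- the local point of a point `r` of the glued scheme over the chart `i` -/
noncomputable def loc {T : Scheme.{u}} (r : T ⟶ Z g D) (i : I) (s : T ⟶ U i)
    (h : r ≫ ζ g D = s ≫ g i) : Lifts (D.obj i) s :=
  ⟨(isPullback_chart g D i).lift r s h, (isPullback_chart g D i).lift_snd r s h⟩

lemma loc_chart {T : Scheme.{u}} (r : T ⟶ Z g D) (i : I) (s : T ⟶ U i)
    (h : r ≫ ζ g D = s ≫ g i) : (loc g D r i s h).1 ≫ chart g D i = r :=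
  (isPullback_chart g D i).lift_fst r s h

lemma loc_unique {T : Scheme.{u}} (r : T ⟶ Z g D) (i : I) (s : T ⟶ U i)
    (h : r ≫ ζ g D = s ≫ g i) (w : Lifts (D.obj i) s) (hw : w.1 ≫ chart g D i = r) :
    w = loc g D r i s h := by
  apply Subtype.ext
  apply (isPullback_chart g D i).hom_ext
  · rw [hw, loc_chart]
  · rw [w.2, (loc g D r i s h).2]

lemma loc_eq_of_eq {T : Scheme.{u}} {r r' : T ⟶ Z g D} (e : r = r') (i : I) (s : T ⟶ U i)
    (h : r ≫ ζ g D = s ≫ g i) (h' : r' ≫ ζ g D = s ≫ g i) : loc g D r i s h = loc g D r' i s h' := by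
  subst e; rfl

lemma loc_of_chart {T : Scheme.{u}} (i : I) (s : T ⟶ U i) (w : Lifts (D.obj i) s)
    (h : (w.1 ≫ chart g D i) ≫ ζ g D = s ≫ g i) : loc g D (w.1 ≫ chart g D i) i s h = w :=
  (loc_unique g D _ i s h w rfl).symm

lemma loc_φ {T : Scheme.{u}} (r : T ⟶ Z g D) (i k : I) (s : T ⟶ U i) (s' : T ⟶ U k)
    (h : r ≫ ζ g D = s ≫ g i) (h' : r ≫ ζ g D = s' ≫ g k) :
    D.φ s s' (h.symm.trans h') (loc g D r i s h) = loc g D r k s' h' := by
  apply loc_unique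
  rw [φ_chart, loc_chart]

lemma loc_nat {T T' : Scheme.{u}} (c : T' ⟶ T) (r : T ⟶ Z g D) (i : I) (s : T ⟶ U i)
    (h : r ≫ ζ g D = s ≫ g i) (r' : T' ⟶ Z g D) (s' : T' ⟶ U i) (er : c ≫ r = r') (es : c ≫ s = s')
    (h' : r' ≫ ζ g D = s' ≫ g i) :
    (loc g D r' i s' h').1 = c ≫ (loc g D r i s h).1 := by
  subst er es
  have : (⟨c ≫ (loc g D r i s h).1, by rw [Category.assoc, (loc g D r i s h).2]⟩ :
      Lifts (D.obj i) (c ≫ s)) = loc g D (c ≫ r) i (c ≫ s) h' := by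
    apply loc_unique
    rw [Category.assoc, loc_chart]
  exact (congrArg Subtype.val this).symm

end Groth.Agent.Lib.Seat43.ZarDescGlue
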