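import Groth.Agent.Lib.Seat44LimChart
import Groth.Agent.Lib.Helper12OpenSub
import Groth.Agent.Lib.Helper12OpenSub2
import Groth.Agent.S10174
import Groth.Agent.S10301

/-!
# Seat44: charts of limits (2) and open subspaces cut out by sets of points

* `exists_chart_data'` : `LimChart.exists_chart_data` together with the pullback square `V = V₀ ×_{D i} lim D`.
* `compactSpace_of_isQuasiCompactSp_yon` : a scheme whose sheaf is quasi-compact is quasi-compact.
* `isQuasiCompactSp_obj` : the open subspace on a compact open set of points is quasi-compact.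
* `exists_open_descent` : an open subspace `U ⊂ X` whose set of points is the preimage of an open `W' ⊂ |X'|` under
  `i : X ⟶ X'` is the pullback of the open subspace of `X'` on `W'`.
-/

set_option autoImplicit false
set_option backward.isDefEq.respectTransparency false
set_option backward.isDefEq.respectTransparency.types false
universe u
open CategoryTheory CategoryTheory.Limits AlgebraicGeometry
open AlgSp

namespace Groth.Agent.Lib.Seat44.LimChart2

open Groth.Agent.Lib.Seat44.AffLim Groth.Agent.Lib.Seat44.LimChart Groth.Agent.Lib.Helper12.OpenSub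

variable {S : Scheme.{u}}

/-- the chart of the limit, with the pullback square over the chart of the stage. -/
theorem exists_chart_data' {I : Type u} [SmallCategory I] [IsCofiltered I] (D : I ⥤ AlgSp.Sp S)
    (hDa : ∀ (i j : I) (φ : i ⟶ j), AlgSp.IsAffineMor (D.map φ))
    (c : Cone D) (hc : IsLimit c)
    (i : I) {Z : Over S} (hZ : IsAffine Z.left) (g : (AlgSp.yon S).obj Z ⟶ D.obj i) :
    ∃ (cW : Cone (W D hDa i hZ g)) (_ : IsLimit cW) (fst : (AlgSp.yon S).obj cW.pt ⟶ c.pt),
      IsAffine cW.pt.left ∧ Nonempty (IsLimit ((Over.forget S).mapCone cW)) ∧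
      (∀ j : Over i, IsPullback ((AlgSp.yon S).map (cW.π.app j)) fst (Wfst D hDa i hZ g j)
        (c.π.app j.left)) ∧
      IsPullback fst ((AlgSp.yon S).map (cW.π.app (Over.mk (𝟙 i)) ≫ Wι D hDa i hZ g (Over.mk (𝟙 i))))
        (c.π.app i) g := by
  obtain ⟨cW, hcW, fst, haff, hlim, sq⟩ := exists_chart_data D hDa c hc i hZ g
  refine ⟨cW, hcW, fst, haff, hlim, sq, ?_⟩
  have s := (sq (Over.mk (𝟙 i))).flip.paste_vert (Wsq D hDa i hZ g (Over.mk (𝟙 i)))
  have e : c.π.app (Over.mk (𝟙 i)).left ≫ D.map (Over.mk (𝟙 i)).hom = c.π.app i := by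
    change c.π.app i ≫ D.map (𝟙 i) = _
    rw [D.map_id, Category.comp_id]
  rw [e, ← Functor.map_comp] at s
  exact s

/-- a scheme whose sheaf is quasi-compact is quasi-compact. -/
lemma compactSpace_of_isQuasiCompactSp_yon {U : Over S}
    (h : AlgSp.IsQuasiCompactSp ((AlgSp.yon S).obj U)) : CompactSpace U.left := by
  obtain ⟨T, p, _, hps, hT⟩ := h
  obtain ⟨p', rfl⟩ := (AlgSp.yon S).map_surjective p
  haveI : Surjective p'.left := (AlgSp.repWith_yon_map_iff _ _).1 hps
  haveI : CompactSpace T.left := hT
  exact p'.left.surjective.compactSpace p'.left.continuous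

/-- an open immersion of sheaves is injective on points. -/
lemma injective_map_of_open {A Y : AlgSp.Sp S} (j : A ⟶ Y) (hj : AlgSp.RepWith @IsOpenImmersion j) :
    Function.Injective (AlgSp.Points.map j) :=
  Groth.Agent.S10301.injective_map_of_repWith (P := @IsOpenImmersion)
    (fun _ _ g hg => by
      haveI : IsOpenImmersion g := hg
      exact g.isOpenEmbedding.injective) j hj

/-- the open subspace on a compact open set of points is quasi-compact. -/
theorem isQuasiCompactSp_obj {X : AlgSp.Sp S} (hX : AlgSp.IsAlgSpace X) {W : Set (AlgSp.Points X)}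
    (hW : IsOpen W) (hWc : IsCompact W) : AlgSp.IsQuasiCompactSp (obj X W) := by
  let XX : AlgSp.Space S := ⟨obj X W, isAlgSpace_obj hX hW⟩
  refine (Groth.Agent.S10174.result XX).2 ?_
  have hinj := injective_map_of_open (incl X W) (repWith_incl hW)
  have hopen := isOpenMap_map_of_open (incl X W) (repWith_incl hW)
  have hemb : Topology.IsOpenEmbedding (AlgSp.Points.map (incl X W)) :=
    Topology.IsOpenEmbedding.of_continuous_injective_isOpenMap
      (AlgSp.Points.continuous_map _) hinj hopen
  refine ⟨?_⟩
  rw [hemb.isInducing.isCompact_iff, Set.image_univ, range_map_incl]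
  exact hWc

/-- an open subspace whose set of points is the preimage of an open set of points is a pullback of the open
subspace on that set. -/
theorem exists_open_descent {X X' U : AlgSp.Sp S} (i : X ⟶ X') (u : U ⟶ X)
    (hu : AlgSp.RepWith @IsOpenImmersion u) {W' : Set (AlgSp.Points X')} (hW' : IsOpen W')
    (h : AlgSp.Points.map i ⁻¹' W' = Set.range (AlgSp.Points.map u)) :
    ∃ k : U ⟶ obj X' W', IsPullback u k i (incl X' W') := by
  have hu' := repWith_incl (X := X') hW'
  have hr' := range_map_incl (X := X') W'
  have sq := IsPullback.of_hasPullback i (incl X' W')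
  have hfst : AlgSp.RepWith @IsOpenImmersion (pullback.fst i (incl X' W')) :=
    MorphismProperty.of_isPullback (P := AlgSp.RepWith @IsOpenImmersion) sq.flip hu'
  have hrange : Set.range (AlgSp.Points.map u) =
      Set.range (AlgSp.Points.map (pullback.fst i (incl X' W'))) := by
    rw [range_map_fst_of_isPullback sq, hr', h]
  obtain ⟨e, he⟩ := iso_of_range_eq u hu _ hfst hrange
  refine ⟨e.hom ≫ pullback.snd _ _, ?_⟩
  refine IsPullback.of_iso sq e.symm (Iso.refl _) (Iso.refl _) (Iso.refl _) ?_ ?_ ?_ ?_
  · rw [Iso.refl_hom, Category.comp_id, Iso.symm_hom]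
    exact (Iso.eq_inv_comp e).2 he
  · rw [Iso.refl_hom, Category.comp_id, Iso.symm_hom, Iso.inv_hom_id_assoc]
  · simp
  · simp

end Groth.Agent.Lib.Seat44.LimChart2
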