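import Mathlib
import Groth.Prelude.Def_AlgSp4

/-!
# Seat44: formal permanence lemmas for morphisms of sheaves (`UnivSp`, `LocP`, `IsAffineMor`, ...)

Purely formal: base change by pasting, pre/post composition with isomorphisms.
-/

set_option autoImplicit false
universe u

open CategoryTheory CategoryTheory.Limits AlgebraicGeometry AlgSp

namespace Groth.Agent.Lib.Seat44.MorBasics

variable {S : Scheme.{u}}

/-- `UnivSp Q` is stable under base change (pasting of cartesian squares). -/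
theorem univSp_of_isPullback (Q : MorphismProperty (AlgSp.Sp S)) {X Y X' Y' : AlgSp.Sp S}
    {f : X ⟶ Y} {g : Y' ⟶ Y} {fst : X' ⟶ X} {f' : X' ⟶ Y'} (sq : IsPullback fst f' f g)
    (hf : AlgSp.UnivSp Q f) : AlgSp.UnivSp Q f' := by
  intro Z Z' hZ c a b sq'
  exact hf hZ (c ≫ g) (a ≫ fst) b (sq'.paste_horiz sq)

/-- `UnivSp Q` is insensitive to precomposition with an isomorphism. -/
theorem univSp_iso_comp (Q : MorphismProperty (AlgSp.Sp S)) {X X' Y : AlgSp.Sp S}
    (σ : X' ⟶ X) [IsIso σ] {f : X ⟶ Y} (hf : AlgSp.UnivSp Q f) : AlgSp.UnivSp Q (σ ≫ f) := by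
  intro Z Z' hZ c a b sq'
  refine hf hZ c (a ≫ σ) b ?_
  refine ⟨⟨by rw [Category.assoc, sq'.w]⟩,
    ⟨PullbackCone.IsLimit.mk _ (fun s => sq'.lift (s.fst ≫ inv σ) s.snd (by
      rw [Category.assoc, IsIso.inv_hom_id_assoc]; exact s.condition)) ?_ ?_ ?_⟩⟩
  · intro s
    rw [← Category.assoc, sq'.lift_fst, Category.assoc, IsIso.inv_hom_id, Category.comp_id]
  · intro s; exact sq'.lift_snd _ _ _
  · intro s m h1 h2
    apply sq'.hom_ext
    · rw [sq'.lift_fst, ← h1, Category.assoc, Category.assoc, IsIso.hom_inv_id, Category.comp_id]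
    · rw [sq'.lift_snd, h2]

/-- `UnivSp Q` is insensitive to postcomposition with an isomorphism. -/
theorem univSp_comp_iso (Q : MorphismProperty (AlgSp.Sp S)) {X Y Y' : AlgSp.Sp S}
    {f : X ⟶ Y} (τ : Y ⟶ Y') [IsIso τ] (hf : AlgSp.UnivSp Q f) : AlgSp.UnivSp Q (f ≫ τ) := by
  intro Z Z' hZ c a b sq'
  refine hf hZ (c ≫ inv τ) a b ?_
  refine ⟨⟨?_⟩, ⟨PullbackCone.IsLimit.mk _ (fun s => sq'.lift s.fst s.snd (by
      have := s.condition
      rw [← Category.assoc, this]; simp)) ?_ ?_ ?_⟩⟩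
  · have := sq'.w
    rw [← Category.assoc, ← this]; simp
  · intro s; exact sq'.lift_fst _ _ _
  · intro s; exact sq'.lift_snd _ _ _
  · intro s m h1 h2
    apply sq'.hom_ext
    · rw [h1, sq'.lift_fst]
    · rw [h2, sq'.lift_snd]

/-- `LocP P` is insensitive to precomposition with an isomorphism. -/
theorem locP_iso_comp (P : MorphismProperty Scheme.{u}) {X X' Y : AlgSp.Sp S}
    (σ : X' ⟶ X) [IsIso σ] {f : X ⟶ Y} (hf : AlgSp.LocP P f) : AlgSp.LocP P (σ ≫ f) := by
  intro U V a b h ha hb comm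
  refine hf (a ≫ σ) b h ?_ hb (by rw [Category.assoc, comm])
  exact (MorphismProperty.cancel_right_of_respectsIso (AlgSp.RepWith @Etale) a σ).2 ha

/-- `LocP P` is insensitive to postcomposition with an isomorphism. -/
theorem locP_comp_iso (P : MorphismProperty Scheme.{u}) {X Y Y' : AlgSp.Sp S}
    {f : X ⟶ Y} (τ : Y ⟶ Y') [IsIso τ] (hf : AlgSp.LocP P f) : AlgSp.LocP P (f ≫ τ) := by
  intro U V a b h ha hb comm
  refine hf a (b ≫ inv τ) h ha ?_ ?_
  · exact (MorphismProperty.cancel_right_of_respectsIso (AlgSp.RepWith @Etale) b (inv τ)).2 hb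
  · rw [← Category.assoc, ← comm]; simp

/-- Surjectivity on points is stable under composition. -/
theorem isSurjectiveMor_comp {X Y Z : AlgSp.Sp S} {f : X ⟶ Y} {g : Y ⟶ Z}
    (hf : AlgSp.IsSurjectiveMor f) (hg : AlgSp.IsSurjectiveMor g) : AlgSp.IsSurjectiveMor (f ≫ g) := by
  intro z
  obtain ⟨y, rfl⟩ := hg z
  obtain ⟨x, rfl⟩ := hf y
  exact ⟨x, AlgSp.Points.map_comp f g x⟩

/-- A split epimorphism of sheaves is surjective on points. -/
theorem isSurjectiveMor_of_section {X Y : AlgSp.Sp S} (f : X ⟶ Y) (s : Y ⟶ X) (h : s ≫ f = 𝟙 Y) :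
    AlgSp.IsSurjectiveMor f := by
  intro y
  refine ⟨AlgSp.Points.map s y, ?_⟩
  rw [← AlgSp.Points.map_comp, h, AlgSp.Points.map_id]

/-- An isomorphism is surjective on points. -/
theorem isSurjectiveMor_of_isIso {X Y : AlgSp.Sp S} (f : X ⟶ Y) [IsIso f] : AlgSp.IsSurjectiveMor f :=
  isSurjectiveMor_of_section f (inv f) (by simp)

/-- `IsAffineMor` is stable under base change. -/
theorem isAffineMor_of_isPullback {X Y X' Y' : AlgSp.Sp S}
    {f : X ⟶ Y} {g : Y' ⟶ Y} {fst : X' ⟶ X} {f' : X' ⟶ Y'} (sq : IsPullback fst f' f g)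
    (hf : AlgSp.IsAffineMor f) : AlgSp.IsAffineMor f' := by
  intro Z hZ c
  obtain ⟨W, i, a, sqW, hW⟩ := hf hZ (c ≫ g)
  refine ⟨W, i, sq.lift a ((AlgSp.yon S).map i ≫ c) (by rw [sqW.w, Category.assoc]), ?_, hW⟩
  refine IsPullback.of_right ?_ (sq.lift_snd _ _ _) sq
  rw [sq.lift_fst]
  exact sqW

/-- `IsAffineMor` is stable under composition. -/
theorem isAffineMor_comp {X Y Z : AlgSp.Sp S} {f : X ⟶ Y} {g : Y ⟶ Z}
    (hf : AlgSp.IsAffineMor f) (hg : AlgSp.IsAffineMor g) : AlgSp.IsAffineMor (f ≫ g) := by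
  intro T hT c
  obtain ⟨W, i, a, sqW, hW⟩ := hg hT c
  obtain ⟨W', i', a', sqW', hW'⟩ := hf hW a
  refine ⟨W', i' ≫ i, a', ?_, hW'⟩
  rw [Functor.map_comp]
  exact sqW'.paste_vert sqW

/-- `IsAffineMor` is insensitive to precomposition with an isomorphism. -/
theorem isAffineMor_iso_comp {X X' Y : AlgSp.Sp S}
    (σ : X' ⟶ X) [IsIso σ] {f : X ⟶ Y} (hf : AlgSp.IsAffineMor f) : AlgSp.IsAffineMor (σ ≫ f) := by
  intro Z hZ c
  obtain ⟨W, i, a, sqW, hW⟩ := hf hZ c
  refine ⟨W, i, a ≫ inv σ, ?_, hW⟩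
  refine ⟨⟨by rw [Category.assoc, IsIso.inv_hom_id_assoc, sqW.w]⟩,
    ⟨PullbackCone.IsLimit.mk _ (fun s => sqW.lift (s.fst ≫ σ) s.snd (by
      rw [Category.assoc]; exact s.condition)) ?_ ?_ ?_⟩⟩
  · intro s
    rw [← Category.assoc, sqW.lift_fst, Category.assoc, IsIso.hom_inv_id, Category.comp_id]
  · intro s; exact sqW.lift_snd _ _ _
  · intro s m h1 h2
    apply sqW.hom_ext
    · rw [sqW.lift_fst, ← h1, Category.assoc, Category.assoc, IsIso.inv_hom_id, Category.comp_id]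
    · rw [sqW.lift_snd, h2]

/-- `IsAffineMor` is insensitive to postcomposition with an isomorphism. -/
theorem isAffineMor_comp_iso {X Y Y' : AlgSp.Sp S}
    {f : X ⟶ Y} (τ : Y ⟶ Y') [IsIso τ] (hf : AlgSp.IsAffineMor f) : AlgSp.IsAffineMor (f ≫ τ) := by
  intro Z hZ c
  obtain ⟨W, i, a, sqW, hW⟩ := hf hZ (c ≫ inv τ)
  refine ⟨W, i, a, ?_, hW⟩
  refine ⟨⟨by rw [← Category.assoc, sqW.w]; simp⟩,
    ⟨PullbackCone.IsLimit.mk _ (fun s => sqW.lift s.fst s.snd (by
      have := s.condition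
      rw [← Category.assoc, ← this]; simp)) ?_ ?_ ?_⟩⟩
  · intro s; exact sqW.lift_fst _ _ _
  · intro s; exact sqW.lift_snd _ _ _
  · intro s m h1 h2
    apply sqW.hom_ext
    · rw [sqW.lift_fst, h1]
    · rw [sqW.lift_snd, h2]

/-- `h_g` is an affine morphism of sheaves when `g` is an affine morphism of schemes. -/
theorem isAffineMor_yon_map {U V : Over S} (g : U ⟶ V) [IsAffineHom g.left] :
    AlgSp.IsAffineMor ((AlgSp.yon S).map g) := by
  intro Z hZ c
  obtain ⟨c, rfl⟩ := (AlgSp.yon S).map_surjective c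
  refine ⟨pullback g c, pullback.snd g c, (AlgSp.yon S).map (pullback.fst g c), ?_, ?_⟩
  · exact (IsPullback.of_hasPullback g c).map (AlgSp.yon S)
  · have : IsAffine Z.left := hZ
    have e : (pullback g c).left ≅ pullback g.left c.left :=
      (PreservesPullback.iso (Over.forget S) g c)
    have : IsAffine (pullback g.left c.left) := isAffine_of_isAffineHom (pullback.snd g.left c.left)
    exact IsAffine.of_isIso e.hom

end Groth.Agent.Lib.Seat44.MorBasics
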