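import Mathlib

/-!
# Seat44: connected limits commute with base change

Let `J` be a connected category, `E F : J ⥤ C`, `B Z : C`, `β : E ⟶ const B`, `ζ : F ⟶ const Z`, `τ : F ⟶ E`, `g : Z ⟶ B` with
all squares `(τ_j, ζ_j, β_j, g)` cartesian.  If `cE`, `cF` are limit cones of `E`, `F`, then for any `j₀`
the square `(lim τ, cF.π j₀ ≫ ζ_{j₀}, cE.π j₀ ≫ β_{j₀}, g)` is cartesian.
-/

set_option autoImplicit false
universe v u v' u'

open CategoryTheory CategoryTheory.Limits

namespace Groth.Agent.Lib.Seat44.PullbackLimit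

variable {C : Type u} [Category.{v} C] {J : Type u'} [Category.{v'} J] [IsConnected J]
variable {E F : J ⥤ C} {B Z : C} (β : E ⟶ (Functor.const J).obj B) (ζ : F ⟶ (Functor.const J).obj Z)
  (τ : F ⟶ E) (g : Z ⟶ B)

/-- the composite `cE.pt ⟶ E j ⟶ B` does not depend on `j`. -/
lemma π_comp_const (cE : Cone E) (j j' : J) : cE.π.app j ≫ β.app j = cE.π.app j' ≫ β.app j' := by
  refine constant_of_preserves_morphisms (fun j => cE.π.app j ≫ β.app j) (fun j₁ j₂ ψ => ?_) j j'
  have h1 := β.naturality ψ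
  have h2 := cE.w ψ
  simp only [Functor.const_obj_obj, Functor.const_obj_map, Category.comp_id] at h1
  rw [← h2, Category.assoc, h1]

/-- Connected limits commute with base change. -/
theorem isPullback_of_isLimit (sq : ∀ j, IsPullback (τ.app j) (ζ.app j) (β.app j) g)
    (cE : Cone E) (hcE : IsLimit cE) (cF : Cone F) (hcF : IsLimit cF) (j₀ : J) :
    IsPullback (hcE.lift ⟨cF.pt, cF.π ≫ τ⟩) (cF.π.app j₀ ≫ ζ.app j₀) (cE.π.app j₀ ≫ β.app j₀) g := by
  have hlift : ∀ j, hcE.lift ⟨cF.pt, cF.π ≫ τ⟩ ≫ cE.π.app j = cF.π.app j ≫ τ.app j := fun j =>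
    hcE.fac ⟨cF.pt, cF.π ≫ τ⟩ j
  refine ⟨⟨?_⟩, ⟨PullbackCone.IsLimit.mk _ ?_ ?_ ?_ ?_⟩⟩
  · rw [← Category.assoc, hlift, Category.assoc, (sq j₀).w, Category.assoc]
  · intro s
    have hs : ∀ j, (s.fst ≫ cE.π.app j) ≫ β.app j = s.snd ≫ g := fun j => by
      rw [Category.assoc, π_comp_const β cE j j₀, s.condition]
    refine hcF.lift ⟨s.pt, ⟨fun j => (sq j).lift (s.fst ≫ cE.π.app j) s.snd (hs j), ?_⟩⟩
    intro j j' ψ
    apply (sq j').hom_ext
    · simp only [Functor.const_obj_obj, Functor.const_obj_map, Category.id_comp, Category.assoc,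
        IsPullback.lift_fst]
      rw [τ.naturality ψ, ← Category.assoc, IsPullback.lift_fst, Category.assoc, cE.w ψ]
    · have h1 := ζ.naturality ψ
      simp only [Functor.const_obj_obj, Functor.const_obj_map, Category.comp_id] at h1
      simp only [Functor.const_obj_obj, Functor.const_obj_map, Category.id_comp, Category.assoc,
        IsPullback.lift_snd]
      rw [h1, IsPullback.lift_snd]
  · intro s
    apply hcE.hom_ext
    intro j
    rw [Category.assoc, hlift, ← Category.assoc, hcF.fac]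
    exact (sq j).lift_fst _ _ _
  · intro s
    rw [← Category.assoc, hcF.fac]
    exact (sq j₀).lift_snd _ _ _
  · intro s m h1 h2
    apply hcF.hom_ext
    intro j
    rw [hcF.fac]
    apply (sq j).hom_ext
    · rw [IsPullback.lift_fst, Category.assoc, ← hlift, ← Category.assoc, h1]
    · rw [IsPullback.lift_snd, Category.assoc, π_comp_const ζ cF j j₀, h2]

end Groth.Agent.Lib.Seat44.PullbackLimit
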