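import Mathlib
import Groth.Prelude.Def_AlgSp3
import Groth.Agent.Lib.Seat44PullbackLimit

/-!
# Seat44: limits of sheaves along affine transition maps

Let `D : I ⥤ Sp S` be a cofiltered system of fppf sheaves with affine transition maps, `c` a limit cone.
For `i : I`, an affine `Z` and `g : h_Z ⟶ D i`, we build the system `W : Over i ⥤ Over S` of affine schemes
`W_j = Z ×_{D i} D j`, and show `Z ×_{D i} lim D = h_{lim W}` with `lim W` affine.  In particular every projection
`lim D ⟶ D i` is affine.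
-/

set_option autoImplicit false
universe u

open CategoryTheory CategoryTheory.Limits AlgebraicGeometry AlgSp

namespace Groth.Agent.Lib.Seat44.AffLim

variable {S : Scheme.{u}}

/-- A connected small diagram of affine schemes over `S` has a limit in `Over S`, with affine apex. -/
theorem exists_affine_limit_cone {J : Type u} [SmallCategory J] [IsConnected J] (W : J ⥤ Over S)
    (hW : ∀ j, IsAffine (W.obj j).left) :
    ∃ (cW : Cone W), Nonempty (IsLimit cW) ∧ IsAffine cW.pt.left := by
  let W' : J ⥤ AffineScheme.{u} := ObjectProperty.lift _ (W ⋙ Over.forget S)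
    (fun j => AlgebraicGeometry.essImage_Spec.2 (hW j))
  let c' : Cone (W ⋙ Over.forget S) := AffineScheme.forgetToScheme.mapCone (limit.cone W')
  have hc' : IsLimit c' := isLimitOfPreserves AffineScheme.forgetToScheme (limit.isLimit W')
  let cW := liftLimit (F := Over.forget S) (K := W) hc'
  refine ⟨cW, ⟨liftedLimitIsLimit hc'⟩, ?_⟩
  have e := liftedLimitMapsToOriginal (F := Over.forget S) (K := W) hc'
  have e' : cW.pt.left ≅ c'.pt := (Cone.forget _).mapIso e
  have : IsAffine c'.pt := by
    change IsAffine (limit W').obj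
    infer_instance
  exact .of_isIso e'.hom

section System

variable {I : Type u} [SmallCategory I] (D : I ⥤ AlgSp.Sp S)
  (hDa : ∀ (i j : I) (φ : i ⟶ j), AlgSp.IsAffineMor (D.map φ))
  (i : I) {Z : Over S} (hZ : IsAffine Z.left) (g : (AlgSp.yon S).obj Z ⟶ D.obj i)

/-- `W_j = Z ×_{D i} D j` (a chosen affine scheme representing it). -/
noncomputable def Wobj (j : Over i) : Over S := (hDa j.left i j.hom hZ g).choose

/-- `W_j ⟶ Z` -/
noncomputable def Wι (j : Over i) : Wobj D hDa i hZ g j ⟶ Z :=
  (hDa j.left i j.hom hZ g).choose_spec.choose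

/-- `h_{W_j} ⟶ D j` -/
noncomputable def Wfst (j : Over i) : (AlgSp.yon S).obj (Wobj D hDa i hZ g j) ⟶ D.obj j.left :=
  (hDa j.left i j.hom hZ g).choose_spec.choose_spec.choose

lemma Wsq (j : Over i) :
    IsPullback (Wfst D hDa i hZ g j) ((AlgSp.yon S).map (Wι D hDa i hZ g j)) (D.map j.hom) g :=
  (hDa j.left i j.hom hZ g).choose_spec.choose_spec.choose_spec.1

lemma Waff (j : Over i) : IsAffine (Wobj D hDa i hZ g j).left :=
  (hDa j.left i j.hom hZ g).choose_spec.choose_spec.choose_spec.2

/-- transition maps of `W` on the level of sheaves -/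
noncomputable def WmapSh {j j' : Over i} (ψ : j ⟶ j') :
    (AlgSp.yon S).obj (Wobj D hDa i hZ g j) ⟶ (AlgSp.yon S).obj (Wobj D hDa i hZ g j') :=
  (Wsq D hDa i hZ g j').lift (Wfst D hDa i hZ g j ≫ D.map ψ.left) ((AlgSp.yon S).map (Wι D hDa i hZ g j))
    (by rw [Category.assoc, ← D.map_comp, Over.w ψ, (Wsq D hDa i hZ g j).w])

lemma WmapSh_fst {j j' : Over i} (ψ : j ⟶ j') :
    WmapSh D hDa i hZ g ψ ≫ Wfst D hDa i hZ g j' = Wfst D hDa i hZ g j ≫ D.map ψ.left :=
  (Wsq D hDa i hZ g j').lift_fst _ _ _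

lemma WmapSh_snd {j j' : Over i} (ψ : j ⟶ j') :
    WmapSh D hDa i hZ g ψ ≫ (AlgSp.yon S).map (Wι D hDa i hZ g j') = (AlgSp.yon S).map (Wι D hDa i hZ g j) :=
  (Wsq D hDa i hZ g j').lift_snd _ _ _

/-- The system of affine schemes `W_j = Z ×_{D i} D j`, `j ∈ Over i`. -/
noncomputable def W : Over i ⥤ Over S where
  obj j := Wobj D hDa i hZ g j
  map ψ := (AlgSp.yon S).preimage (WmapSh D hDa i hZ g ψ)
  map_id j := by
    apply (AlgSp.yon S).map_injective
    rw [Functor.map_preimage, CategoryTheory.Functor.map_id]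
    apply (Wsq D hDa i hZ g j).hom_ext
    · rw [WmapSh_fst, Category.id_comp]
      simp
    · rw [WmapSh_snd, Category.id_comp]
  map_comp {j j' j''} ψ ψ' := by
    apply (AlgSp.yon S).map_injective
    rw [Functor.map_preimage, Functor.map_comp, Functor.map_preimage, Functor.map_preimage]
    apply (Wsq D hDa i hZ g j'').hom_ext
    · rw [WmapSh_fst, Category.assoc, WmapSh_fst, ← Category.assoc, WmapSh_fst, Category.assoc,
        ← D.map_comp]
      rfl
    · rw [WmapSh_snd, Category.assoc, WmapSh_snd, WmapSh_snd]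

@[simp] lemma W_obj (j : Over i) : (W D hDa i hZ g).obj j = Wobj D hDa i hZ g j := rfl

lemma yon_map_W_map {j j' : Over i} (ψ : j ⟶ j') :
    (AlgSp.yon S).map ((W D hDa i hZ g).map ψ) = WmapSh D hDa i hZ g ψ :=
  Functor.map_preimage _ _

/-- `h_{W_j} ⟶ D j`, as a natural transformation. -/
noncomputable def τ : W D hDa i hZ g ⋙ AlgSp.yon S ⟶ Over.forget i ⋙ D where
  app j := Wfst D hDa i hZ g j
  naturality j j' ψ := by
    simp only [Functor.comp_obj, Functor.comp_map, Over.forget_obj, Over.forget_map]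
    rw [yon_map_W_map]
    exact WmapSh_fst D hDa i hZ g ψ

/-- `h_{W_j} ⟶ h_Z`, as a natural transformation. -/
noncomputable def ζ : W D hDa i hZ g ⋙ AlgSp.yon S ⟶ (Functor.const _).obj ((AlgSp.yon S).obj Z) where
  app j := (AlgSp.yon S).map (Wι D hDa i hZ g j)
  naturality j j' ψ := by
    simp only [Functor.comp_obj, Functor.comp_map, Functor.const_obj_obj, Functor.const_obj_map,
      Category.comp_id]
    rw [yon_map_W_map]
    exact WmapSh_snd D hDa i hZ g ψ

/-- the structure maps `D j ⟶ D i`, as a natural transformation. -/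
noncomputable def β : Over.forget i ⋙ D ⟶ (Functor.const _).obj (D.obj i) where
  app j := D.map j.hom
  naturality j j' ψ := by
    simp only [Functor.comp_obj, Functor.comp_map, Over.forget_obj, Over.forget_map,
      Functor.const_obj_obj, Functor.const_obj_map, Category.comp_id]
    rw [← D.map_comp, Over.w ψ]

end System

attribute [local instance] IsCofiltered.isConnected

/-- For a cofiltered system of sheaves with affine transition maps, the base change of the limit projection
`lim D ⟶ D i` to an affine scheme is an affine scheme (the limit of the affine schemes `W_j`). -/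
theorem exists_affine_pullback {I : Type u} [SmallCategory I] [IsCofiltered I] (D : I ⥤ AlgSp.Sp S)
    (hDa : ∀ (i j : I) (φ : i ⟶ j), AlgSp.IsAffineMor (D.map φ))
    (c : Cone D) (hc : IsLimit c)
    (i : I) {Z : Over S} (hZ : IsAffine Z.left) (g : (AlgSp.yon S).obj Z ⟶ D.obj i) :
    ∃ (cW : Cone (W D hDa i hZ g)) (_ : IsLimit cW) (fst : (AlgSp.yon S).obj cW.pt ⟶ c.pt),
      IsAffine cW.pt.left ∧
      (∀ j : Over i, fst ≫ c.π.app j.left = (AlgSp.yon S).map (cW.π.app j) ≫ Wfst D hDa i hZ g j) ∧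
      IsPullback fst ((AlgSp.yon S).map (cW.π.app (Over.mk (𝟙 i)) ≫ Wι D hDa i hZ g (Over.mk (𝟙 i))))
        (c.π.app i) g := by
  obtain ⟨cW, ⟨hcW⟩, hcWa⟩ := exists_affine_limit_cone (W D hDa i hZ g) (fun j => Waff D hDa i hZ g j)
  have hcE : IsLimit (c.whisker (Over.forget i)) := (Functor.Initial.isLimitWhiskerEquiv (Over.forget i) c).symm hc
  have hcF : IsLimit ((AlgSp.yon S).mapCone cW) := isLimitOfPreserves (AlgSp.yon S) hcW
  have key := Groth.Agent.Lib.Seat44.PullbackLimit.isPullback_of_isLimit (β D i) (ζ D hDa i hZ g)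
    (τ D hDa i hZ g) g (fun j => Wsq D hDa i hZ g j) _ hcE _ hcF (Over.mk (𝟙 i))
  refine ⟨cW, hcW, hcE.lift ⟨_, ((AlgSp.yon S).mapCone cW).π ≫ τ D hDa i hZ g⟩, hcWa, ?_, ?_⟩
  · intro j
    exact hcE.fac ⟨_, ((AlgSp.yon S).mapCone cW).π ≫ τ D hDa i hZ g⟩ j
  · have e1 : (c.whisker (Over.forget i)).π.app (Over.mk (𝟙 i)) ≫ (β D i).app (Over.mk (𝟙 i)) = c.π.app i := by
      simp [β]
    rw [e1] at key
    rw [Functor.map_comp]
    exact key

/-- The projections of a cofiltered limit of sheaves with affine transition maps are affine. -/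
theorem isAffineMor_π {I : Type u} [SmallCategory I] [IsCofiltered I] (D : I ⥤ AlgSp.Sp S)
    (hDa : ∀ (i j : I) (φ : i ⟶ j), AlgSp.IsAffineMor (D.map φ))
    (c : Cone D) (hc : IsLimit c) (i : I) : AlgSp.IsAffineMor (c.π.app i) := by
  intro Z hZ g
  obtain ⟨cW, -, fst, haff, -, sq⟩ := exists_affine_pullback D hDa c hc i hZ g
  exact ⟨cW.pt, _, fst, sq, haff⟩

end Groth.Agent.Lib.Seat44.AffLim
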