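import Mathlib
import Groth.Agent.Lib.Seat44AffLim

/-!
# Seat44: limits of affine schemes over `S` are computed in schemes
-/

set_option autoImplicit false
universe u
open CategoryTheory CategoryTheory.Limits AlgebraicGeometry

namespace Groth.Agent.Lib.Seat44.AffLim

/-- For a connected diagram `W` of affine schemes over `S`, the forgetful functor to schemes preserves its limit. -/
noncomputable def isLimitForgetMapCone {S : Scheme.{u}} {J : Type u} [SmallCategory J] [IsConnected J] (W : J ⥤ Over S)
    (hW : ∀ j, IsAffine (W.obj j).left) (cW : Cone W) (hcW : IsLimit cW) :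
    IsLimit ((Over.forget S).mapCone cW) := by
  let W' : J ⥤ AffineScheme.{u} := ObjectProperty.lift _ (W ⋙ Over.forget S)
    (fun j => AlgebraicGeometry.essImage_Spec.2 (hW j))
  let c' : Cone (W ⋙ Over.forget S) := AffineScheme.forgetToScheme.mapCone (limit.cone W')
  have hc' : IsLimit c' := isLimitOfPreserves AffineScheme.forgetToScheme (limit.isLimit W')
  haveI : HasLimit (W ⋙ Over.forget S) := ⟨⟨⟨c', hc'⟩⟩⟩
  haveI : PreservesLimit W (Over.forget S) := preservesLimit_of_createsLimit_and_hasLimit W (Over.forget S)
  exact isLimitOfPreserves (Over.forget S) hcW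

end Groth.Agent.Lib.Seat44.AffLim
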