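import Mathlib
import Groth.Agent.S9947
import Groth.Agent.S9874
import Groth.Agent.S10177

/-!
# Seat44: properties of a morphism of algebraic spaces can be checked after base change to an atlas of the target
-/

set_option autoImplicit false
universe u

open CategoryTheory CategoryTheory.Limits AlgebraicGeometry AlgSp

namespace Groth.Agent.Lib.Seat44.AtlasReduce

variable {S : Scheme.{u}}

/-- If the base change of `f : X ⟶ Y` to an étale atlas `h_V ⟶ Y` has `LocP P`, so does `f`. -/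
theorem locP_of_pullback_atlas (P : MorphismProperty Scheme.{u})
    (hP : P = @LocallyOfFiniteType ∨ P = @LocallyOfFinitePresentation ∨ P = @Flat ∨ P = @Smooth ∨ P = @Etale ∨
      (∀ ⦃A B : Scheme.{u}⦄ (g : A ⟶ B), P g ↔ (LocallyQuasiFinite g ∧ LocallyOfFiniteType g)) ∨
      (∀ ⦃A B : Scheme.{u}⦄ (g : A ⟶ B), P g ↔ (LocallyOfFiniteType g ∧ FormallyUnramified g)))
    {X Y : AlgSp.Sp S} (hX : AlgSp.IsAlgSpace X) (hY : AlgSp.IsAlgSpace Y) (f : X ⟶ Y)
    {V : Over S} (b : (AlgSp.yon S).obj V ⟶ Y) (hbe : AlgSp.RepWith @Etale b)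
    (hbs : AlgSp.RepWith @Surjective b) (h : AlgSp.LocP P (pullback.snd f b)) : AlgSp.LocP P f := by
  have sqV := IsPullback.of_hasPullback f b
  have hXV : AlgSp.IsAlgSpace (pullback f b) :=
    Groth.Agent.S9874.result S Y hY.diag ⟨X, hX⟩ ⟨(AlgSp.yon S).obj V, AlgSp.IsAlgSpace.yon_obj V⟩
      f b _ _ _ sqV
  obtain ⟨W, a', ha'e, ha's⟩ := hXV.atlas
  have hπ1e : AlgSp.RepWith @Etale (pullback.fst f b) :=
    MorphismProperty.of_isPullback (P := AlgSp.RepWith @Etale) sqV.flip hbe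
  have hπ1s : AlgSp.RepWith @Surjective (pullback.fst f b) :=
    MorphismProperty.of_isPullback (P := AlgSp.RepWith @Surjective) sqV.flip hbs
  have hae : AlgSp.RepWith @Etale (a' ≫ pullback.fst f b) :=
    (AlgSp.RepWith (S := S) @Etale).comp_mem _ _ ha'e hπ1e
  have has : AlgSp.RepWith @Surjective (a' ≫ pullback.fst f b) :=
    (AlgSp.RepWith (S := S) @Surjective).comp_mem _ _ ha's hπ1s
  obtain ⟨k, hk⟩ := (AlgSp.yon S).map_surjective (a' ≫ pullback.snd f b)
  have comm : (a' ≫ pullback.fst f b) ≫ f = (AlgSp.yon S).map k ≫ b := by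
    rw [hk, Category.assoc, Category.assoc, sqV.w]
  have hPk : P k.left := h a' (𝟙 _) k ha'e (AlgSp.repWith_id _ V) (by rw [Category.comp_id, hk])
  exact Groth.Agent.S9947.result P hP (X := ⟨X, hX⟩) (Y := ⟨Y, hY⟩) (ObjectProperty.homMk f)
    (a' ≫ pullback.fst f b) b k hae has hbe comm hPk

/-- If the base change of `f : X ⟶ Y` to a surjective atlas `h_V ⟶ Y` is surjective, so is `f`. -/
theorem isSurjectiveMor_of_pullback_atlas {X Y : AlgSp.Sp S} (f : X ⟶ Y)
    {V : Over S} (b : (AlgSp.yon S).obj V ⟶ Y) (hbs : AlgSp.RepWith @Surjective b)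
    (h : AlgSp.IsSurjectiveMor (pullback.snd f b)) : AlgSp.IsSurjectiveMor f := by
  intro y
  obtain ⟨v, rfl⟩ := Groth.Agent.S10177.surjective_ofPt b hbs y
  obtain ⟨ρ, hρ⟩ := h (AlgSp.Points.ofScheme V v)
  refine ⟨AlgSp.Points.map (pullback.fst f b) ρ, ?_⟩
  rw [← AlgSp.Points.map_comp, pullback.condition, AlgSp.Points.map_comp, hρ,
    ← AlgSp.Points.ofPt_eq_map_ofScheme]

end Groth.Agent.Lib.Seat44.AtlasReduce
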