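import Mathlib

/-!
# Seat44: base change of a connected system over `Z` along `e₂ : E₀ ⟶ Z`

For `F : J ⥤ C` with structure maps `ζ : F ⟶ const Z` and `e₂ : E₀ ⟶ Z`, the system `j ↦ F j ×_Z E₀` is a functor
`sys F ζ e₂`, and the base change of a limit cone of `F` is a limit cone of `sys F ζ e₂` (for connected `J`).
-/

set_option autoImplicit false
universe v u v' u'
open CategoryTheory CategoryTheory.Limits

namespace Groth.Agent.Lib.Seat44.BCSystem

variable {C : Type u} [Category.{v} C] [HasPullbacks C] {J : Type u'} [Category.{v'} J]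
  (F : J ⥤ C) {Z E₀ : C} (ζ : F ⟶ (Functor.const J).obj Z) (e₂ : E₀ ⟶ Z)

/-- the system `j ↦ F j ×_Z E₀`. -/
noncomputable def sys : J ⥤ C := Over.lift F ζ ⋙ Over.pullback e₂ ⋙ Over.forget E₀

lemma sys_obj (j : J) : (sys F ζ e₂).obj j = pullback (ζ.app j) e₂ := rfl

/-- first projection `F j ×_Z E₀ ⟶ F j`. -/
noncomputable def pr₁ (j : J) : (sys F ζ e₂).obj j ⟶ F.obj j := pullback.fst (ζ.app j) e₂

/-- second projection `F j ×_Z E₀ ⟶ E₀`. -/
noncomputable def pr₂ (j : J) : (sys F ζ e₂).obj j ⟶ E₀ := pullback.snd (ζ.app j) e₂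

lemma isPullback_pr (j : J) : IsPullback (pr₁ F ζ e₂ j) (pr₂ F ζ e₂ j) (ζ.app j) e₂ :=
  IsPullback.of_hasPullback _ _

@[reassoc]
lemma sys_map_pr₁ {j j' : J} (ψ : j ⟶ j') :
    (sys F ζ e₂).map ψ ≫ pr₁ F ζ e₂ j' = pr₁ F ζ e₂ j ≫ F.map ψ := by
  simp [sys, pr₁]
  exact pullback.lift_fst _ _ _

@[reassoc]
lemma sys_map_pr₂ {j j' : J} (ψ : j ⟶ j') :
    (sys F ζ e₂).map ψ ≫ pr₂ F ζ e₂ j' = pr₂ F ζ e₂ j := by
  simp [sys, pr₂]
  exact pullback.lift_snd _ _ _

/-- the transition squares are cartesian. -/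
lemma isPullback_sys_map {j j' : J} (ψ : j ⟶ j') :
    IsPullback ((sys F ζ e₂).map ψ) (pr₁ F ζ e₂ j) (pr₁ F ζ e₂ j') (F.map ψ) := by
  have hζ : F.map ψ ≫ ζ.app j' = ζ.app j := by
    exact (ζ.naturality ψ).trans (Category.comp_id _)
  refine IsPullback.of_right ?_ (sys_map_pr₁ F ζ e₂ ψ) (isPullback_pr F ζ e₂ j').flip
  rw [sys_map_pr₂, hζ]
  exact (isPullback_pr F ζ e₂ j).flip

section Cone

variable (cF : Cone F) (p : cF.pt ⟶ Z) (hp : ∀ j, cF.π.app j ≫ ζ.app j = p)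

/-- the base change of a cone. -/
noncomputable def cone : Cone (sys F ζ e₂) :=
  (Over.forget E₀).mapCone ((Over.pullback e₂).mapCone (Over.liftCone F ζ cF p hp))

lemma cone_pt : (cone F ζ e₂ cF p hp).pt = pullback p e₂ := rfl

@[reassoc]
lemma cone_π_pr₁ (j : J) :
    (cone F ζ e₂ cF p hp).π.app j ≫ pr₁ F ζ e₂ j = pullback.fst p e₂ ≫ cF.π.app j := by
  simp [cone, pr₁]
  exact pullback.lift_fst _ _ _

@[reassoc]
lemma cone_π_pr₂ (j : J) :
    (cone F ζ e₂ cF p hp).π.app j ≫ pr₂ F ζ e₂ j = pullback.snd p e₂ := by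
  simp [cone, pr₂]
  exact pullback.lift_snd _ _ _

/-- the base change of a limit cone over a connected category is a limit cone. -/
noncomputable def isLimitCone [IsConnected J] (hcF : IsLimit cF) : IsLimit (cone F ζ e₂ cF p hp) :=
  isLimitOfPreserves (Over.forget E₀)
    (isLimitOfPreserves (Over.pullback e₂) (Over.isLimitLiftCone F ζ cF p hp hcF))

end Cone

end Groth.Agent.Lib.Seat44.BCSystem
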