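import Groth.Agent.Lib.Seat44Jshriek
import Groth.Agent.S9873

/-!
# Seat44: `j⁻¹ F'` versus `h_S × F'`

For `g : S ⟶ S'` and a sheaf `F'` over `S'`: a point `ξ : h_T ⟶ j⁻¹ F'` (with `T` over `S`) gives the point
`pt T ξ = (can T, tr ξ) : h_{T/S'} ⟶ h_S × F'`; a square of points of `j⁻¹ F'` is cartesian iff the square of the
corresponding points of `h_S × F'` is (`isPullback_pt`, `isPullback_of_pt`).  Consequently `j⁻¹ F'` is an algebraic
space over `S` iff `h_S × F'` is an algebraic space over `S'`.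
-/

set_option autoImplicit false
universe u
open CategoryTheory CategoryTheory.Limits AlgebraicGeometry Opposite
open AlgSp

namespace Groth.Agent.Lib.Seat44.BaseProd

open Groth.Agent.S13210 Groth.Agent.S9900 Groth.Agent.S9874
open Groth.Agent.Lib.Seat44.BaseRestrict Groth.Agent.Lib.Seat44.Jshriek

variable {S S' : Scheme.{u}} (g : S ⟶ S')

/-- the sheaf `h_S` over `S'`. -/
noncomputable abbrev hS : AlgSp.Sp S' := (AlgSp.yon S').obj (Over.mk g)

/-- the structure morphism `X/S' ⟶ S/S'`. -/
def can (X : Over S) : (Over.map g).obj X ⟶ Over.mk g := Over.homMk X.hom rfl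

lemma can_map {Z T : Over S} (t : Z ⟶ T) : (Over.map g).map t ≫ can g T = can g Z := by
  ext
  exact Over.w t

variable {g} in
/-- a scheme over `S'` with a structure map to `S` is, up to isomorphism, a scheme over `S` viewed over `S'`. -/
def iotIso {Z' : Over S'} (z : Z'.left ⟶ S) (hz : z ≫ g = Z'.hom) :
    (Over.map g).obj (Over.mk z) ≅ Z' :=
  Over.isoMk (Iso.refl _) (by
    change 𝟙 _ ≫ Z'.hom = z ≫ g
    rw [Category.id_comp, hz])

variable {g} in
lemma iot_comp {Z' : Over S'} {X : Over S} (b : Z' ⟶ (Over.map g).obj X) (z : Z'.left ⟶ S)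
    (h : b.left ≫ X.hom = z) (hz : z ≫ g = Z'.hom) :
    (iotIso z hz).hom ≫ b = (Over.map g).map (dwn b z h) := by
  ext
  change 𝟙 _ ≫ b.left = b.left
  rw [Category.id_comp]

variable {g} in
lemma iot_can {Z' : Over S'} (c : Z' ⟶ Over.mk g) :
    (iotIso c.left (Over.w c)).hom ≫ c = can g (Over.mk c.left) := by
  ext
  change 𝟙 _ ≫ c.left = c.left
  rw [Category.id_comp]

variable (F' : AlgSp.Sp S')

/-- the point of `h_S × F'` attached to a point of `j⁻¹ F'`. -/
noncomputable def pt (T : Over S) (ξ : (AlgSp.yon S).obj T ⟶ (jinv g).obj F') :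
    (AlgSp.yon S').obj ((Over.map g).obj T) ⟶ hS g ⨯ F' :=
  prod.lift ((AlgSp.yon S').map (can g T)) (tr g F' T ξ)

lemma pt_fst (T : Over S) (ξ : (AlgSp.yon S).obj T ⟶ (jinv g).obj F') :
    pt g F' T ξ ≫ prod.fst = (AlgSp.yon S').map (can g T) := prod.lift_fst _ _

lemma pt_snd (T : Over S) (ξ : (AlgSp.yon S).obj T ⟶ (jinv g).obj F') :
    pt g F' T ξ ≫ prod.snd = tr g F' T ξ := prod.lift_snd _ _

lemma pt_map {Z T : Over S} (t : Z ⟶ T) (ξ : (AlgSp.yon S).obj T ⟶ (jinv g).obj F') :
    (AlgSp.yon S').map ((Over.map g).map t) ≫ pt g F' T ξ = pt g F' Z ((AlgSp.yon S).map t ≫ ξ) := by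
  apply prod.hom_ext
  · rw [Category.assoc, pt_fst, pt_fst, ← Functor.map_comp, can_map]
  · rw [Category.assoc, pt_snd, pt_snd, tr_map]

/-- cancelling the first component. -/
lemma pt_comp_eq_iff {Z' : Over S'} {T : Over S} (t : Z' ⟶ (Over.map g).obj T)
    (a b : (AlgSp.yon S).obj T ⟶ (jinv g).obj F') :
    (AlgSp.yon S').map t ≫ pt g F' T a = (AlgSp.yon S').map t ≫ pt g F' T b ↔
      (AlgSp.yon S').map t ≫ tr g F' T a = (AlgSp.yon S').map t ≫ tr g F' T b := by
  constructor
  · intro h
    have := congrArg (· ≫ prod.snd) h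
    simpa only [Category.assoc, pt_snd] using this
  · intro h
    apply prod.hom_ext
    · rw [Category.assoc, Category.assoc, pt_fst, pt_fst]
    · rw [Category.assoc, Category.assoc, pt_snd, pt_snd, h]

/-- every point of `h_S × F'` is, up to isomorphism of the source, of the form `pt T ξ`. -/
lemma exists_pt {T' : Over S'} (ζ : (AlgSp.yon S').obj T' ⟶ hS g ⨯ F') :
    ∃ (T : Over S) (κ : (Over.map g).obj T ≅ T') (ξ : (AlgSp.yon S).obj T ⟶ (jinv g).obj F'),
      (AlgSp.yon S').map κ.hom ≫ ζ = pt g F' T ξ := by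
  obtain ⟨c0, hc0⟩ := (AlgSp.yon S').map_surjective (ζ ≫ prod.fst)
  refine ⟨Over.mk c0.left, iotIso c0.left (Over.w c0),
    (tr g F' _).symm ((AlgSp.yon S').map (iotIso c0.left (Over.w c0)).hom ≫ ζ ≫ prod.snd), ?_⟩
  apply prod.hom_ext
  · rw [Category.assoc, ← hc0, ← Functor.map_comp, pt_fst, iot_can]
  · rw [pt_snd, Category.assoc, Equiv.apply_symm_apply]

variable {g}

/-- a cartesian square of points of `j⁻¹ F'` gives a cartesian square of points of `h_S × F'`. -/
theorem isPullback_pt {V U T : Over S} (u : V ⟶ U) (v : V ⟶ T)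
    (p : (AlgSp.yon S).obj U ⟶ (jinv g).obj F') (ξ : (AlgSp.yon S).obj T ⟶ (jinv g).obj F')
    (sq : IsPullback ((AlgSp.yon S).map u) ((AlgSp.yon S).map v) p ξ) :
    IsPullback ((AlgSp.yon S').map ((Over.map g).map u)) ((AlgSp.yon S').map ((Over.map g).map v))
      (pt g F' U p) (pt g F' T ξ) := by
  have hcomm : (AlgSp.yon S').map ((Over.map g).map u) ≫ pt g F' U p =
      (AlgSp.yon S').map ((Over.map g).map v) ≫ pt g F' T ξ := by
    rw [pt_map, pt_map, sq.w]
  refine isPullback_of_yon hcomm ?_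
  intro Z' b' d' hbd
  obtain ⟨b, rfl⟩ := (AlgSp.yon S').map_surjective b'
  obtain ⟨d, rfl⟩ := (AlgSp.yon S').map_surjective d'
  have h1 : b ≫ can g U = d ≫ can g T := by
    apply (AlgSp.yon S').map_injective
    have := congrArg (· ≫ prod.fst) hbd
    simpa only [Category.assoc, pt_fst, ← Functor.map_comp] using this
  have h1' : d.left ≫ T.hom = b.left ≫ U.hom := by
    have h1'' := congrArg CommaMorphism.left h1
    exact h1''.symm
  have h2 : (AlgSp.yon S').map b ≫ tr g F' U p = (AlgSp.yon S').map d ≫ tr g F' T ξ := by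
    have := congrArg (· ≫ prod.snd) hbd
    simpa only [Category.assoc, pt_snd] using this
  have hz : (b.left ≫ U.hom) ≫ g = Z'.hom := w_map b
  have h3 : (AlgSp.yon S).map (dwn b _ rfl) ≫ p = (AlgSp.yon S).map (dwn d _ h1') ≫ ξ := by
    apply (tr g F' _).injective
    rw [tr_map, tr_map, ← iot_comp b _ rfl hz, ← iot_comp d _ h1' hz, Functor.map_comp,
      Functor.map_comp, Category.assoc, Category.assoc, h2]
  obtain ⟨a0, ha1, ha2⟩ : ∃ a0 : Over.mk (b.left ≫ U.hom) ⟶ V,
      a0 ≫ u = dwn b _ rfl ∧ a0 ≫ v = dwn d _ h1' := by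
    obtain ⟨a0, ha⟩ := (AlgSp.yon S).map_surjective (sq.lift _ _ h3)
    refine ⟨a0, ?_, ?_⟩
    · apply (AlgSp.yon S).map_injective
      rw [Functor.map_comp, ha, sq.lift_fst]
    · apply (AlgSp.yon S).map_injective
      rw [Functor.map_comp, ha, sq.lift_snd]
  refine ⟨(AlgSp.yon S').map (upp _ hz a0), ⟨?_, ?_⟩, ?_⟩
  · rw [← Functor.map_comp]
    congr 1
    ext
    have h' := congrArg CommaMorphism.left ha1
    exact h'
  · rw [← Functor.map_comp]
    congr 1
    ext
    have h' := congrArg CommaMorphism.left ha2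
    exact h'
  · rintro a1' ⟨e1, e2⟩
    obtain ⟨a1, rfl⟩ := (AlgSp.yon S').map_surjective a1'
    congr 1
    have e1' : a1 ≫ (Over.map g).map u = b := by
      apply (AlgSp.yon S').map_injective
      rw [Functor.map_comp]
      exact e1
    have e2' : a1 ≫ (Over.map g).map v = d := by
      apply (AlgSp.yon S').map_injective
      rw [Functor.map_comp]
      exact e2
    have e1l : a1.left ≫ u.left = b.left := congrArg CommaMorphism.left e1'
    have e2l : a1.left ≫ v.left = d.left := congrArg CommaMorphism.left e2'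
    have hz1 : a1.left ≫ V.hom = b.left ≫ U.hom := by
      rw [← left_w u, ← Category.assoc, e1l]
    have : dwn a1 _ hz1 = a0 := by
      apply (AlgSp.yon S).map_injective
      apply sq.hom_ext
      · rw [← Functor.map_comp, ← Functor.map_comp, ha1]
        congr 1
        ext
        exact e1l
      · rw [← Functor.map_comp, ← Functor.map_comp, ha2]
        congr 1
        ext
        exact e2l
    ext
    have h' := congrArg CommaMorphism.left this
    exact h'

/-- a square of points of `j⁻¹ F'` is cartesian as soon as the square of points of `h_S × F'` is. -/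
theorem isPullback_of_pt {V U T : Over S} (u : V ⟶ U) (v : V ⟶ T)
    (p : (AlgSp.yon S).obj U ⟶ (jinv g).obj F') (ξ : (AlgSp.yon S).obj T ⟶ (jinv g).obj F')
    (sq : IsPullback ((AlgSp.yon S').map ((Over.map g).map u)) ((AlgSp.yon S').map ((Over.map g).map v))
      (pt g F' U p) (pt g F' T ξ)) :
    IsPullback ((AlgSp.yon S).map u) ((AlgSp.yon S).map v) p ξ := by
  have hcomm : (AlgSp.yon S).map u ≫ p = (AlgSp.yon S).map v ≫ ξ := by
    apply (tr g F' _).injective
    have := congrArg (· ≫ prod.snd) sq.w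
    rw [tr_map, tr_map]
    simpa only [Category.assoc, pt_snd] using this
  refine isPullback_of_yon hcomm ?_
  intro Z b' d' hbd
  obtain ⟨b, rfl⟩ := (AlgSp.yon S).map_surjective b'
  obtain ⟨d, rfl⟩ := (AlgSp.yon S).map_surjective d'
  have hbd' : (AlgSp.yon S').map ((Over.map g).map b) ≫ pt g F' U p =
      (AlgSp.yon S').map ((Over.map g).map d) ≫ pt g F' T ξ := by
    rw [pt_map, pt_map, hbd]
  obtain ⟨a', ha⟩ := (AlgSp.yon S').map_surjective (sq.lift _ _ hbd')
  have ha1 : a' ≫ (Over.map g).map u = (Over.map g).map b := by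
    apply (AlgSp.yon S').map_injective
    rw [Functor.map_comp, ha, sq.lift_fst]
  have ha2 : a' ≫ (Over.map g).map v = (Over.map g).map d := by
    apply (AlgSp.yon S').map_injective
    rw [Functor.map_comp, ha, sq.lift_snd]
  have ha1l : a'.left ≫ u.left = b.left := congrArg CommaMorphism.left ha1
  have ha2l : a'.left ≫ v.left = d.left := congrArg CommaMorphism.left ha2
  have hw : a'.left ≫ V.hom = Z.hom := by
    rw [← left_w u, ← Category.assoc, ha1l]
    exact Over.w b
  refine ⟨(AlgSp.yon S).map (Over.homMk a'.left hw), ⟨?_, ?_⟩, ?_⟩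
  · rw [← Functor.map_comp]
    congr 1
    ext
    exact ha1l
  · rw [← Functor.map_comp]
    congr 1
    ext
    exact ha2l
  · rintro a1' ⟨e1, e2⟩
    obtain ⟨a1, rfl⟩ := (AlgSp.yon S).map_surjective a1'
    congr 1
    have e1' : a1 ≫ u = b := by
      apply (AlgSp.yon S).map_injective
      rw [Functor.map_comp]
      exact e1
    have e2' : a1 ≫ v = d := by
      apply (AlgSp.yon S).map_injective
      rw [Functor.map_comp]
      exact e2
    have : (Over.map g).map a1 = a' := by
      apply (AlgSp.yon S').map_injective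
      apply sq.hom_ext
      · calc (AlgSp.yon S').map ((Over.map g).map a1) ≫ (AlgSp.yon S').map ((Over.map g).map u)
            = (AlgSp.yon S').map ((Over.map g).map (a1 ≫ u)) := by
              rw [Functor.map_comp, Functor.map_comp]
          _ = (AlgSp.yon S').map (a' ≫ (Over.map g).map u) := by rw [e1', ha1]
          _ = _ := Functor.map_comp _ _ _
      · calc (AlgSp.yon S').map ((Over.map g).map a1) ≫ (AlgSp.yon S').map ((Over.map g).map v)
            = (AlgSp.yon S').map ((Over.map g).map (a1 ≫ v)) := by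
              rw [Functor.map_comp, Functor.map_comp]
          _ = (AlgSp.yon S').map (a' ≫ (Over.map g).map v) := by rw [e2', ha2]
          _ = _ := Functor.map_comp _ _ _
    ext
    have h' := congrArg CommaMorphism.left this
    exact h'

variable (g)

/-- `dn v'` viewed over `S'` is `V'`. -/
def dnIso {T : Over S} {V' : Over S'} (v' : V' ⟶ (Over.map g).obj T) :
    (Over.map g).obj (dn v') ≅ V' :=
  Over.isoMk (Iso.refl _) (by
    change 𝟙 _ ≫ V'.hom = (v'.left ≫ T.hom) ≫ g
    rw [Category.id_comp, Category.assoc]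
    exact dn_w v')

lemma dnIso_hom_comp {T : Over S} {V' : Over S'} (v' : V' ⟶ (Over.map g).obj T) :
    (dnIso g v').hom ≫ v' = (Over.map g).map (dnHom v') := by
  ext
  change 𝟙 _ ≫ v'.left = v'.left
  rw [Category.id_comp]

/-- a point of `h_S × F'` through the atlas `p` of `j⁻¹ F'` has the representable properties of `p`. -/
theorem repWith_pt (P : MorphismProperty Scheme.{u}) [P.RespectsIso] {U : Over S}
    (p : (AlgSp.yon S).obj U ⟶ (jinv g).obj F') (hp : AlgSp.RepWith P p) :
    AlgSp.RepWith P (pt g F' U p) := by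
  refine MorphismProperty.relative.of_exists (fun T' ζ => ?_)
  obtain ⟨T, κ, ξ, hζ⟩ := exists_pt g F' ζ
  obtain ⟨V, v, u', sq⟩ := hp.rep ξ
  obtain ⟨u, rfl⟩ := (AlgSp.yon S).map_surjective u'
  have hv : P v.left := hp.property _ _ _ sq
  have sq2 := isPullback_pt F' u v p ξ sq
  rw [← hζ] at sq2
  refine ⟨(Over.map g).obj V, (AlgSp.yon S').map ((Over.map g).map u), (Over.map g).map v ≫ κ.hom, ?_, ?_⟩
  · refine IsPullback.of_iso sq2 (Iso.refl _) (Iso.refl _) ((AlgSp.yon S').mapIso κ) (Iso.refl _)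
      ?_ ?_ ?_ ?_
    · simp
    · simp
    · simp
    · simp
  · change P ((Over.map g).map v ≫ κ.hom).left
    rw [Over.comp_left]
    haveI : IsIso κ.hom.left := inferInstance
    exact (P.cancel_right_of_respectsIso _ _).2 hv

/-- **If `j⁻¹ F'` is an algebraic space over `S`, then `h_S × F'` is an algebraic space over `S'`.** -/
theorem isAlgSpace_prod_of_restrict (hF : AlgSp.IsAlgSpace ((jinv g).obj F')) :
    AlgSp.IsAlgSpace (hS g ⨯ F') := by
  obtain ⟨U, p, he, hs⟩ := hF.atlas
  exact Groth.Agent.S9873.result S' ⟨(AlgSp.yon S').obj ((Over.map g).obj U), AlgSp.IsAlgSpace.yon_obj _⟩ _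
    (pt g F' U p) (repWith_pt g F' @Etale p he) (repWith_pt g F' @Surjective p hs)

/-- an atlas of `h_S × F'` induces a chart of `j⁻¹ F'` with the same representable properties. -/
theorem repWith_of_pt (P : MorphismProperty Scheme.{u}) [P.RespectsIso] {U : Over S}
    (p : (AlgSp.yon S).obj U ⟶ (jinv g).obj F') (hq : AlgSp.RepWith P (pt g F' U p)) :
    AlgSp.RepWith P p := by
  refine MorphismProperty.relative.of_exists (fun T ξ => ?_)
  obtain ⟨V', v', u'', sq⟩ := hq.rep (pt g F' T ξ)
  obtain ⟨u', rfl⟩ := (AlgSp.yon S').map_surjective u''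
  have hv : P v'.left := hq.property _ _ _ sq
  have h1 : u' ≫ can g U = v' ≫ can g T := by
    apply (AlgSp.yon S').map_injective
    have := congrArg (· ≫ prod.fst) sq.w
    simpa only [Category.assoc, pt_fst, ← Functor.map_comp] using this
  have h1' : u'.left ≫ U.hom = v'.left ≫ T.hom := congrArg CommaMorphism.left h1
  let u : dn v' ⟶ U := Over.homMk u'.left h1'
  have hu : (dnIso g v').hom ≫ u' = (Over.map g).map u := by
    ext
    change 𝟙 _ ≫ u'.left = u'.left
    rw [Category.id_comp]
  have sq' : IsPullback ((AlgSp.yon S').map ((Over.map g).map u))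
      ((AlgSp.yon S').map ((Over.map g).map (dnHom v'))) (pt g F' U p) (pt g F' T ξ) := by
    refine IsPullback.of_iso sq ((AlgSp.yon S').mapIso (dnIso g v')).symm (Iso.refl _) (Iso.refl _)
      (Iso.refl _) ?_ ?_ ?_ ?_
    · rw [← hu, Functor.map_comp]
      simp
    · rw [← dnIso_hom_comp, Functor.map_comp]
      simp
    · simp
    · simp
  exact ⟨dn v', (AlgSp.yon S).map u, dnHom v', isPullback_of_pt F' u (dnHom v') p ξ sq', hv⟩

/-- **If `h_S × F'` is an algebraic space over `S'`, then `j⁻¹ F'` is an algebraic space over `S`.** -/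
theorem isAlgSpace_restrict_of_prod (hG : AlgSp.IsAlgSpace (hS g ⨯ F')) :
    AlgSp.IsAlgSpace ((jinv g).obj F') where
  diag := by
    refine representable_diag_of_isEqLocus (fun {T} a b => ?_)
    obtain ⟨E', e', he⟩ := exists_isEqLocus hG.diag (pt g F' T a) (pt g F' T b)
    refine ⟨dn e', dnHom e', isEqLocus_dn g F' a b e' ⟨he.1, fun Z t => ?_⟩⟩
    rw [← he.2, pt_comp_eq_iff]
  atlas := by
    obtain ⟨U', q', he, hs⟩ := hG.atlas
    obtain ⟨U, κ, p, hq⟩ := exists_pt g F' q'
    have key : ∀ (P : MorphismProperty Scheme.{u}) [P.IsStableUnderBaseChange],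
        AlgSp.RepWith P q' → AlgSp.RepWith P p := by
      intro P _ h
      haveI : P.RespectsIso := MorphismProperty.IsStableUnderBaseChange.respectsIso
      refine repWith_of_pt g F' P p ?_
      rw [← hq]
      exact MorphismProperty.RespectsIso.precomp _ ((AlgSp.yon S').map κ.hom) _ h
    exact ⟨U, p, key @Etale he, key @Surjective hs⟩

end Groth.Agent.Lib.Seat44.BaseProd
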