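import Groth.Agent.S13210
import Groth.Agent.S9874

/-!
# Seat44: restriction of fppf sheaves along a morphism of base schemes

For `g : S ⟶ S'`, the restriction functor `j⁻¹ = Scheme.fppfTopology.overMapPullback _ g` from fppf sheaves on schemes
over `S'` to fppf sheaves on schemes over `S` (a scheme over `S` is viewed over `S'` through `g`).

* `repBy` : `j⁻¹ h_{X'}` is represented by `X' ×_{S'} S`.
* `tr` : maps `h_T ⟶ j⁻¹ F'` correspond to maps `h_{T/S'} ⟶ F'`.
* `dn`, `dnHom`, `dnLift`, `dnUp` : a scheme over `T/S'` viewed as a scheme over `S` through `T`.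
* `isAlgSpace_restrict` : `j⁻¹` of an algebraic space over `S'` is an algebraic space over `S`.
-/

set_option autoImplicit false
universe u
open CategoryTheory CategoryTheory.Limits AlgebraicGeometry Opposite
open AlgSp

namespace Groth.Agent.Lib.Seat44.BaseRestrict

open Groth.Agent.S13210 Groth.Agent.S9900 Groth.Agent.S9874

variable {S S' : Scheme.{u}} (g : S ⟶ S')

/-- the restriction functor. -/
noncomputable abbrev jinv : AlgSp.Sp S' ⥤ AlgSp.Sp S :=
  Scheme.fppfTopology.overMapPullback (Type (u + 1)) g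

/-- the first projection `(X' ×_{S'} S)/S' ⟶ X'`. -/
noncomputable def pr (X' : Over S') : (Over.map g).obj (Over.mk (pullback.snd X'.hom g)) ⟶ X' :=
  Over.homMk (pullback.fst X'.hom g) pullback.condition

/-- `j⁻¹ h_{X'}` is represented by `X' ×_{S'} S`. -/
noncomputable def repBy (X' : Over S') :
    ((jinv g).obj ((AlgSp.yon S').obj X')).obj.RepresentableBy (Over.mk (pullback.snd X'.hom g)) where
  homEquiv {Z} :=
    { toFun := fun a => ⟨(Over.map g).map a ≫ pr g X'⟩
      invFun := fun b => Over.homMk (pullback.lift b.down.left Z.hom (Over.w b.down))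
        (pullback.lift_snd _ _ _)
      left_inv := fun a => by
        ext
        apply pullback.hom_ext
        · exact pullback.lift_fst _ _ _
        · exact (pullback.lift_snd _ _ _).trans (Over.w a).symm
      right_inv := fun b => by
        apply ULift.ext
        apply Over.OverMorphism.ext
        exact pullback.lift_fst _ _ _ }
  homEquiv_comp {Z Z'} f a := by
    apply ULift.ext
    change (Over.map g).map (f ≫ a) ≫ pr g X' = (Over.map g).map f ≫ (Over.map g).map a ≫ pr g X'
    rw [Functor.map_comp, Category.assoc]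

section Tr

variable (F' : AlgSp.Sp S')

/-- maps `h_T ⟶ j⁻¹ F'` correspond to maps `h_{T/S'} ⟶ F'`. -/
noncomputable def tr (T : Over S) :
    ((AlgSp.yon S).obj T ⟶ (jinv g).obj F') ≃ ((AlgSp.yon S').obj ((Over.map g).obj T) ⟶ F') :=
  (yEquiv T ((jinv g).obj F')).trans (yEquiv ((Over.map g).obj T) F').symm

lemma yEquiv_symm_map' {A B : Over S'} (k : A ⟶ B) (P : AlgSp.Sp S') (x : P.obj.obj (op B)) :
    (yEquiv A P).symm (P.obj.map k.op x) = (AlgSp.yon S').map k ≫ (yEquiv B P).symm x :=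
  ((AlgSp.J S').uliftYonedaEquiv_symm_naturality_left k P x).symm

lemma yEquiv_map' {A B : Over S} (k : A ⟶ B) (P : AlgSp.Sp S) (a : (AlgSp.yon S).obj B ⟶ P) :
    P.obj.map k.op (yEquiv B P a) = yEquiv A P ((AlgSp.yon S).map k ≫ a) :=
  (AlgSp.J S).uliftYonedaEquiv_naturality a k

lemma tr_map {Z T : Over S} (t : Z ⟶ T) (a : (AlgSp.yon S).obj T ⟶ (jinv g).obj F') :
    tr g F' Z ((AlgSp.yon S).map t ≫ a) = (AlgSp.yon S').map ((Over.map g).map t) ≫ tr g F' T a := by
  have h1 : yEquiv Z ((jinv g).obj F') ((AlgSp.yon S).map t ≫ a) =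
      F'.obj.map ((Over.map g).map t).op (yEquiv T ((jinv g).obj F') a) :=
    (yEquiv_map' t _ a).symm
  exact (congrArg (yEquiv _ F').symm h1).trans (yEquiv_symm_map' _ F' _)

end Tr

section Dn

variable {g} {T : Over S} {V' : Over S'} (v' : V' ⟶ (Over.map g).obj T)

/-- a scheme over `T/S'`, viewed as a scheme over `S` through `T`. -/
def dn : Over S := Over.mk (v'.left ≫ T.hom)

/-- the structure map `dn v' ⟶ T`. -/
def dnHom : dn v' ⟶ T := Over.homMk v'.left rfl

lemma dn_w : V'.hom = v'.left ≫ T.hom ≫ g := (Over.w v').symm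

/-- a morphism `Z/S' ⟶ V'` lying over a morphism `Z ⟶ T` over `S` is a morphism `Z ⟶ dn v'` over `S`. -/
def dnLift {Z : Over S} (z' : (Over.map g).obj Z ⟶ V') (c : Z ⟶ T) (h : z' ≫ v' = (Over.map g).map c) :
    Z ⟶ dn v' :=
  Over.homMk z'.left (by
    change z'.left ≫ v'.left ≫ T.hom = Z.hom
    rw [← Category.assoc, ← Over.comp_left, h]
    exact Over.w c)

lemma dnLift_hom {Z : Over S} (z' : (Over.map g).obj Z ⟶ V') (c : Z ⟶ T)
    (h : z' ≫ v' = (Over.map g).map c) : dnLift v' z' c h ≫ dnHom v' = c := by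
  ext
  change z'.left ≫ v'.left = c.left
  rw [← Over.comp_left, h]
  rfl

/-- a morphism `Z ⟶ dn v'` over `S` gives a morphism `Z/S' ⟶ V'` over `S'`. -/
def dnUp {Z : Over S} (a : Z ⟶ dn v') : (Over.map g).obj Z ⟶ V' :=
  Over.homMk a.left (by
    have h1 : a.left ≫ v'.left ≫ T.hom = Z.hom := Over.w a
    calc a.left ≫ V'.hom = a.left ≫ v'.left ≫ T.hom ≫ g := congrArg (a.left ≫ ·) (dn_w v')
      _ = (a.left ≫ v'.left ≫ T.hom) ≫ g := by simp only [Category.assoc]
      _ = Z.hom ≫ g := by rw [h1])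

lemma dnUp_comp {Z : Over S} (a : Z ⟶ dn v') : dnUp v' a ≫ v' = (Over.map g).map (a ≫ dnHom v') := by
  ext
  rfl

lemma dnUp_dnLift {Z : Over S} (z' : (Over.map g).obj Z ⟶ V') (c : Z ⟶ T)
    (h : z' ≫ v' = (Over.map g).map c) : dnUp v' (dnLift v' z' c h) = z' := by
  ext
  rfl

lemma dnLift_dnUp {Z : Over S} (a : Z ⟶ dn v') :
    dnLift v' (dnUp v' a) (a ≫ dnHom v') (dnUp_comp v' a) = a := by
  ext
  rfl

lemma dnUp_injective {Z : Over S} (a b : Z ⟶ dn v') (h : dnUp v' a = dnUp v' b) : a = b := by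
  ext
  have h' := congrArg CommaMorphism.left h
  exact h'

end Dn

section AlgSpace

variable (F' : AlgSp.Sp S')

/-- equalizer loci for `j⁻¹ F'` come from equalizer loci for `F'`. -/
lemma isEqLocus_dn {T : Over S} (a b : (AlgSp.yon S).obj T ⟶ (jinv g).obj F') {E' : Over S'}
    (e' : E' ⟶ (Over.map g).obj T) (he : IsEqLocus (tr g F' T a) (tr g F' T b) e') :
    IsEqLocus a b (dnHom e') := by
  haveI : Mono e' := he.1
  haveI : Mono e'.left := inferInstance
  refine ⟨?_, fun Z t => ?_⟩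
  · haveI : Mono (dnHom e').left := by
      change Mono e'.left
      infer_instance
    exact Over.mono_of_mono_left _
  · rw [← (tr g F' Z).apply_eq_iff_eq, tr_map, tr_map, he.2]
    constructor
    · rintro ⟨t', ht'⟩
      exact ⟨dnLift e' t' t ht', dnLift_hom e' t' t ht'⟩
    · rintro ⟨t', rfl⟩
      exact ⟨dnUp e' t', dnUp_comp e' t'⟩

/-- the diagonal of `j⁻¹ F'` is representable when that of `F'` is. -/
theorem representable_diag_restrict (hF' : AlgSp.Representable (Limits.diag F')) :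
    AlgSp.Representable (Limits.diag ((jinv g).obj F')) := by
  refine representable_diag_of_isEqLocus (fun {T} a b => ?_)
  obtain ⟨E', e', he⟩ := exists_isEqLocus hF' (tr g F' T a) (tr g F' T b)
  exact ⟨dn e', dnHom e', isEqLocus_dn g F' a b e' he⟩

lemma map_dnUp_id {T : Over S} {V' : Over S'} (v' : V' ⟶ (Over.map g).obj T) {Z : Over S}
    (a : Z ⟶ dn v') : (Over.map g).map a ≫ dnUp v' (𝟙 (dn v')) = dnUp v' a := by
  ext
  change a.left ≫ 𝟙 _ = a.left
  rw [Category.comp_id]

/-- the chart `h_{U' ×_{S'} S} ⟶ j⁻¹ F'` induced by a chart `p' : h_{U'} ⟶ F'`. -/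
noncomputable def chart {U' : Over S'} (p' : (AlgSp.yon S').obj U' ⟶ F') :
    (AlgSp.yon S).obj (Over.mk (pullback.snd U'.hom g)) ⟶ (jinv g).obj F' :=
  (tr g F' _).symm ((AlgSp.yon S').map (pr g U') ≫ p')

lemma tr_chart {U' : Over S'} (p' : (AlgSp.yon S').obj U' ⟶ F') :
    tr g F' _ (chart g F' p') = (AlgSp.yon S').map (pr g U') ≫ p' :=
  Equiv.apply_symm_apply _ _

lemma repBy_homEquiv_apply {X' : Over S'} {Z : Over S} (a : Z ⟶ Over.mk (pullback.snd X'.hom g)) :
    (repBy g X').homEquiv a = ⟨(Over.map g).map a ≫ pr g X'⟩ := rfl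

/-- the pullback of a chart of `F'` along `tr ξ` gives the pullback of the induced chart of `j⁻¹ F'` along `ξ`. -/
theorem isPullback_chart {U' : Over S'} (p' : (AlgSp.yon S').obj U' ⟶ F') {T : Over S}
    (ξ : (AlgSp.yon S).obj T ⟶ (jinv g).obj F') {V' : Over S'} (v' : V' ⟶ (Over.map g).obj T)
    (u'' : V' ⟶ U')
    (sq : IsPullback ((AlgSp.yon S').map u'') ((AlgSp.yon S').map v') p' (tr g F' T ξ)) :
    ∃ w : dn v' ⟶ Over.mk (pullback.snd U'.hom g),
      IsPullback ((AlgSp.yon S).map w) ((AlgSp.yon S).map (dnHom v')) (chart g F' p') ξ := by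
  let ι : (Over.map g).obj (dn v') ⟶ V' := dnUp v' (𝟙 _)
  have hι : ι ≫ v' = (Over.map g).map (dnHom v') := by
    have := dnUp_comp v' (𝟙 (dn v'))
    rwa [Category.id_comp] at this
  let w : dn v' ⟶ Over.mk (pullback.snd U'.hom g) := (repBy g U').homEquiv.symm ⟨ι ≫ u''⟩
  have hw : (Over.map g).map w ≫ pr g U' = ι ≫ u'' := by
    have h1 : (repBy g U').homEquiv w = ⟨ι ≫ u''⟩ := Equiv.apply_symm_apply _ _
    rw [repBy_homEquiv_apply] at h1
    exact congrArg ULift.down h1
  have hcomm : (AlgSp.yon S).map w ≫ chart g F' p' = (AlgSp.yon S).map (dnHom v') ≫ ξ := by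
    apply (tr g F' _).injective
    rw [tr_map, tr_map, tr_chart, ← Category.assoc, ← Functor.map_comp, hw, ← hι,
      Functor.map_comp, Functor.map_comp, Category.assoc, Category.assoc, sq.w]
  refine ⟨w, isPullback_of_yon hcomm ?_⟩
  intro Z b' c' hbc
  obtain ⟨b, rfl⟩ := (AlgSp.yon S).map_surjective b'
  obtain ⟨c, rfl⟩ := (AlgSp.yon S).map_surjective c'
  have hbc' : (AlgSp.yon S').map ((Over.map g).map b ≫ pr g U') ≫ p' =
      (AlgSp.yon S').map ((Over.map g).map c) ≫ tr g F' T ξ := by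
    have := congrArg (tr g F' Z) hbc
    rwa [tr_map, tr_map, tr_chart, ← Category.assoc, ← Functor.map_comp] at this
  obtain ⟨a', ha1, ha2⟩ : ∃ a' : (AlgSp.yon S').obj ((Over.map g).obj Z) ⟶ (AlgSp.yon S').obj V',
      a' ≫ (AlgSp.yon S').map u'' = (AlgSp.yon S').map ((Over.map g).map b ≫ pr g U') ∧
      a' ≫ (AlgSp.yon S').map v' = (AlgSp.yon S').map ((Over.map g).map c) :=
    ⟨sq.lift _ _ hbc', sq.lift_fst _ _ hbc', sq.lift_snd _ _ hbc'⟩
  obtain ⟨a'', rfl⟩ := (AlgSp.yon S').map_surjective a'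
  have ha1' : a'' ≫ u'' = (Over.map g).map b ≫ pr g U' := by
    apply (AlgSp.yon S').map_injective
    rw [Functor.map_comp]
    exact ha1
  have ha2' : a'' ≫ v' = (Over.map g).map c := by
    apply (AlgSp.yon S').map_injective
    rw [Functor.map_comp]
    exact ha2
  refine ⟨(AlgSp.yon S).map (dnLift v' a'' c ha2'), ⟨?_, ?_⟩, ?_⟩
  · rw [← Functor.map_comp]
    congr 1
    apply (repBy g U').homEquiv.injective
    rw [repBy_homEquiv_apply, repBy_homEquiv_apply]
    congr 1
    rw [Functor.map_comp, Category.assoc, hw, ← Category.assoc, map_dnUp_id, dnUp_dnLift, ha1']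
  · rw [← Functor.map_comp, dnLift_hom]
  · rintro a₁' ⟨h1, h2⟩
    obtain ⟨a₁, rfl⟩ := (AlgSp.yon S).map_surjective a₁'
    congr 1
    apply dnUp_injective v'
    rw [dnUp_dnLift]
    have h1' : a₁ ≫ w = b := by
      apply (AlgSp.yon S).map_injective
      rw [Functor.map_comp]
      exact h1
    have h2' : a₁ ≫ dnHom v' = c := by
      apply (AlgSp.yon S).map_injective
      rw [Functor.map_comp]
      exact h2
    apply (AlgSp.yon S').map_injective
    apply sq.hom_ext
    · rw [← Functor.map_comp, ← Functor.map_comp, ha1', ← map_dnUp_id, Category.assoc, ← hw,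
        ← Category.assoc, ← Functor.map_comp, h1']
    · rw [← Functor.map_comp, ← Functor.map_comp, ha2', dnUp_comp, h2']

/-- the induced chart of `j⁻¹ F'` inherits representable properties. -/
theorem repWith_chart (P : MorphismProperty Scheme.{u}) [P.RespectsIso] {U' : Over S'}
    (p' : (AlgSp.yon S').obj U' ⟶ F') (hp' : AlgSp.RepWith P p') :
    AlgSp.RepWith P (chart g F' p') := by
  refine MorphismProperty.relative.of_exists (fun T ξ => ?_)
  obtain ⟨V', v', u', sq⟩ := hp'.rep (tr g F' T ξ)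
  obtain ⟨u'', rfl⟩ := (AlgSp.yon S').map_surjective u'
  have hP : P v'.left := hp'.property _ _ _ sq
  obtain ⟨w, sqw⟩ := isPullback_chart g F' p' ξ v' u'' sq
  exact ⟨dn v', (AlgSp.yon S).map w, dnHom v', sqw, hP⟩

/-- **The restriction of an algebraic space over `S'` to schemes over `S` is an algebraic space over `S`.** -/
theorem isAlgSpace_restrict (hF' : AlgSp.IsAlgSpace F') : AlgSp.IsAlgSpace ((jinv g).obj F') where
  diag := representable_diag_restrict g F' hF'.diag
  atlas := by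
    obtain ⟨U', p', he, hs⟩ := hF'.atlas
    exact ⟨_, chart g F' p', repWith_chart g F' @Etale p' he, repWith_chart g F' @Surjective p' hs⟩

end AlgSpace

end Groth.Agent.Lib.Seat44.BaseRestrict
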