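import Groth.Agent.Lib.Seat44ChartSys
import Groth.Agent.Lib.Seat44LimChart2
import Groth.Agent.S9943

/-!
# A strict scheme model of a system of algebraic spaces affine over `Y`, on a chart of `Y`

Let `X = lim X_i ⟶ Y` be a limit of a system of quasi-compact quasi-separated algebraic spaces over a quasi-compact
quasi-separated algebraic space `Y`, with affine transition maps and affine limit map, and let `v : h_V ⟶ Y` be an
affine étale chart.  Then beyond some index `i₀` the base changes `X_i ×_Y V` form a *functor* `WW : Over i₀ ⥤ Over S`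
of affine schemes, equipped with structure maps to `V`, with cartesian comparison squares and a limit cone which is
the base change of `X`.  This reduces "eventually `P`" statements for `X_i ⟶ Y` to the corresponding statements for
schemes.
-/

set_option autoImplicit false
set_option backward.isDefEq.respectTransparency false
set_option backward.isDefEq.respectTransparency.types false
universe u
open CategoryTheory CategoryTheory.Limits AlgebraicGeometry
open AlgSp

namespace Groth.Agent.Lib.Seat44.ChartModel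

open Groth.Agent.Lib.Seat44.BCSystem Groth.Agent.Lib.Seat44.ChartSys Groth.Agent.Lib.Seat44.AffLim
  Groth.Agent.Lib.Seat44.LimChart Groth.Agent.Lib.Seat44.LimChart2

attribute [local instance] IsCofiltered.isConnected

variable {S : Scheme.{u}}

/-- the strict scheme model of the chart system. -/
theorem exists_chart_model [QuasiSeparatedSpace S] {I : Type u} [SmallCategory I] [IsCofiltered I]
    (Y : AlgSp.Space S) (D : I ⥤ AlgSp.Sp S) (hD : ∀ i, AlgSp.IsAlgSpace (D.obj i))
    (t : D ⟶ (Functor.const I).obj Y.obj)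
    (hDa : ∀ (i j : I) (φ : i ⟶ j), AlgSp.IsAffineMor (D.map φ))
    (c : Cone D) (hc : IsLimit c) (g : c.pt ⟶ Y.obj) (hg : ∀ i, c.π.app i ≫ t.app i = g)
    (hqc : ∀ i, AlgSp.IsQuasiCompactSp (D.obj i)) (hqs : ∀ i, AlgSp.IsQuasiSeparatedSp (D.obj i))
    (hYqc : AlgSp.IsQuasiCompactSp Y.obj) (hYqs : AlgSp.IsQuasiSeparatedSp Y.obj)
    {V : Over S} (hV : IsAffine V.left) (v : (yon S).obj V ⟶ Y.obj)
    (hX : AlgSp.IsAffineMor g) :
    ∃ (i₀ : I) (WW : Over i₀ ⥤ Over S) (tW : WW ⟶ (Functor.const _).obj V) (cW : Cone WW)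
      (a : ∀ k, (yon S).obj (WW.obj k) ⟶ D.obj k.left) (aInf : (yon S).obj cW.pt ⟶ c.pt),
      (∀ k, IsAffine (WW.obj k).left) ∧
      Nonempty (IsLimit ((Over.forget S).mapCone cW)) ∧
      (∀ k, IsPullback (a k) ((yon S).map (tW.app k)) (t.app k.left) v) ∧
      (∀ {k k' : Over i₀} (ψ : k ⟶ k'),
        IsPullback ((yon S).map (WW.map ψ)) (a k) (a k') (D.map ψ.left)) ∧
      (∀ k, IsPullback aInf ((yon S).map (cW.π.app k ≫ tW.app k)) g v) := by
  obtain ⟨i₀, T', hT', ⟨e⟩⟩ := exists_affine_stage_sys Y D t v hD hDa c hc g hg hqc hqs hYqc hYqs hV hX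
  have hDa' : ∀ (i j : I) (φ : i ⟶ j), AlgSp.IsAffineMor ((sys D t v).map φ) :=
    fun i j φ => isAffineMor_sys_map Y D t v φ (hDa i j φ)
  obtain ⟨cW, hcW, fstW, hcWaff, hlimW, sqW, sq₀⟩ :=
    exists_chart_data' (sys D t v) hDa' (cone D t v c g hg) (isLimitCone D t v c g hg hc) i₀ hT' e.hom
  haveI : IsIso fstW := sq₀.isIso_fst_of_isIso
  haveI hfstIso : ∀ k, IsIso (Wfst (sys D t v) hDa' i₀ hT' e.hom k) :=
    fun k => (Wsq (sys D t v) hDa' i₀ hT' e.hom k).isIso_fst_of_isIso
  -- the structure maps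
  have hnat : ∀ {k k' : Over i₀} (ψ : k ⟶ k'),
      (yon S).map ((W (sys D t v) hDa' i₀ hT' e.hom).map ψ) ≫
        Wfst (sys D t v) hDa' i₀ hT' e.hom k' ≫ pr₂ D t v k'.left =
      Wfst (sys D t v) hDa' i₀ hT' e.hom k ≫ pr₂ D t v k.left := by
    intro k k' ψ
    rw [← Category.assoc, (Groth.Agent.S10006.isPullback_W_map (sys D t v) hDa' i₀ hT' e.hom ψ).w,
      Category.assoc, sys_map_pr₂]
  let tW : W (sys D t v) hDa' i₀ hT' e.hom ⟶ (Functor.const _).obj V :=
    { app := fun k => (yon S).preimage (Wfst (sys D t v) hDa' i₀ hT' e.hom k ≫ pr₂ D t v k.left)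
      naturality := fun k k' ψ => by
        apply (yon S).map_injective
        simp only [Functor.const_obj_obj, Functor.const_obj_map, Category.comp_id, Functor.map_comp,
          Functor.map_preimage]
        exact hnat ψ }
  have htW : ∀ k, (yon S).map (tW.app k) =
      Wfst (sys D t v) hDa' i₀ hT' e.hom k ≫ pr₂ D t v k.left := fun k => Functor.map_preimage _ _
  refine ⟨i₀, W (sys D t v) hDa' i₀ hT' e.hom, tW, cW,
    fun k => Wfst (sys D t v) hDa' i₀ hT' e.hom k ≫ pr₁ D t v k.left,
    fstW ≫ pullback.fst g v, fun k => Waff (sys D t v) hDa' i₀ hT' e.hom k, hlimW, ?_, ?_, ?_⟩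
  · intro k
    rw [htW]
    have hl : IsPullback (Wfst (sys D t v) hDa' i₀ hT' e.hom k)
        (Wfst (sys D t v) hDa' i₀ hT' e.hom k ≫ pr₂ D t v k.left) (pr₂ D t v k.left)
        (𝟙 ((yon S).obj V)) := IsPullback.of_horiz_isIso ⟨by rw [Category.comp_id]⟩
    have := hl.paste_horiz (isPullback_pr D t v k.left)
    rw [Category.id_comp] at this
    exact this
  · intro k k' ψ
    exact (Groth.Agent.S10006.isPullback_W_map (sys D t v) hDa' i₀ hT' e.hom ψ).paste_vert
      (isPullback_sys_map D t v ψ.left)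
  · intro k
    have h1 : (yon S).map (cW.π.app k ≫ tW.app k) = fstW ≫ pullback.snd g v := by
      rw [Functor.map_comp, htW, ← Category.assoc, (sqW k).w, Category.assoc]
      exact congrArg (fun m => fstW ≫ m) (cone_π_pr₂ D t v c g hg k.left)
    rw [h1]
    have hl : IsPullback fstW (fstW ≫ pullback.snd g v) (pullback.snd g v)
        (𝟙 ((yon S).obj V)) := IsPullback.of_horiz_isIso ⟨by rw [Category.comp_id]⟩
    have := hl.paste_horiz (IsPullback.of_hasPullback g v)
    rw [Category.id_comp] at this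
    exact this

end Groth.Agent.Lib.Seat44.ChartModel
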