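import Groth.Agent.S10006
import Groth.Agent.S9921
import Groth.Agent.S9874
import Groth.Agent.Lib.Seat44BCSystem
import Groth.Agent.Lib.Seat44MorBasics

/-!
# Base change of a system of algebraic spaces over `Y` to a chart of `Y`

For a system `D : I ⥤ Sp S` with structure maps `t : D ⟶ const Y` and a chart `v : h_V ⟶ Y` we study the system
`i ↦ D i ×_Y h_V` (`BCSystem.sys D t v`): its terms are algebraic spaces, quasi-compact and quasi-separated if
those of `D`, `Y` and `V` are, with affine transition maps; if the limit map `X ⟶ Y` is affine, some term (hence all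
later terms) is an affine scheme.
-/

set_option autoImplicit false
set_option backward.isDefEq.respectTransparency false
set_option backward.isDefEq.respectTransparency.types false
universe u
open CategoryTheory CategoryTheory.Limits AlgebraicGeometry
open AlgSp

namespace Groth.Agent.Lib.Seat44.ChartSys

open Groth.Agent.Lib.Seat44.BCSystem

attribute [local instance] IsCofiltered.isConnected

variable {S : Scheme.{u}} {I : Type u} [SmallCategory I]
  (Y : AlgSp.Space S) (D : I ⥤ AlgSp.Sp S) (t : D ⟶ (Functor.const I).obj Y.obj)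
  {V : Over S} (v : (yon S).obj V ⟶ Y.obj)

theorem isAlgSpace_sys (hD : ∀ i, AlgSp.IsAlgSpace (D.obj i)) (j : I) :
    IsAlgSpace ((sys D t v).obj j) :=
  Groth.Agent.S9874.isAlgSpace_of_isPullback Y.property.diag (hD j) (IsAlgSpace.yon_obj V)
    (isPullback_pr D t v j)

theorem isAffineMor_sys_map {j j' : I} (ψ : j ⟶ j') (h : AlgSp.IsAffineMor (D.map ψ)) :
    IsAffineMor ((sys D t v).map ψ) :=
  Groth.Agent.Lib.Seat44.MorBasics.isAffineMor_of_isPullback (isPullback_sys_map D t v ψ).flip h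

theorem repWith_sys_map (P : MorphismProperty Scheme.{u}) [P.IsStableUnderBaseChange]
    {j j' : I} (ψ : j ⟶ j') (h : AlgSp.RepWith P (D.map ψ)) :
    RepWith P ((sys D t v).map ψ) :=
  MorphismProperty.of_isPullback (P := RepWith (S := S) P) (isPullback_sys_map D t v ψ).flip h

theorem qcqs_sys [QuasiSeparatedSpace S] (hD : ∀ i, AlgSp.IsAlgSpace (D.obj i)) (hV : IsAffine V.left)
    (hYqc : AlgSp.IsQuasiCompactSp Y.obj) (hYqs : AlgSp.IsQuasiSeparatedSp Y.obj) (j : I)
    (hqc : AlgSp.IsQuasiCompactSp (D.obj j)) (hqs : AlgSp.IsQuasiSeparatedSp (D.obj j)) :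
    IsQuasiCompactSp ((sys D t v).obj j) ∧ IsQuasiSeparatedSp ((sys D t v).obj j) := by
  haveI := hV
  exact Groth.Agent.S9921.result
    (X := ⟨D.obj j, hD j⟩) (Y := Y) (Z := ⟨(yon S).obj V, IsAlgSpace.yon_obj _⟩)
    (P := ⟨(sys D t v).obj j, isAlgSpace_sys Y D t v hD j⟩)
    (ObjectProperty.homMk (t.app j)) (ObjectProperty.homMk v)
    (ObjectProperty.homMk (pr₁ D t v j)) (ObjectProperty.homMk (pr₂ D t v j))
    (isPullback_pr D t v j) ⟨hqc, hqs⟩ ⟨hYqc, hYqs⟩
    ⟨Groth.Agent.Lib.Helper15QcRep.isQuasiCompactSp_yon _ hV,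
      Groth.Agent.S10006.isQuasiSeparatedSp_yon _⟩

/-- if the limit map is affine, some term of the chart system is an affine scheme. -/
theorem exists_affine_stage_sys [IsCofiltered I] [QuasiSeparatedSpace S]
    (hD : ∀ i, AlgSp.IsAlgSpace (D.obj i))
    (hDa : ∀ (i j : I) (φ : i ⟶ j), AlgSp.IsAffineMor (D.map φ))
    (c : Cone D) (hc : IsLimit c) (g : c.pt ⟶ Y.obj) (hg : ∀ i, c.π.app i ≫ t.app i = g)
    (hqc : ∀ i, AlgSp.IsQuasiCompactSp (D.obj i)) (hqs : ∀ i, AlgSp.IsQuasiSeparatedSp (D.obj i))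
    (hYqc : AlgSp.IsQuasiCompactSp Y.obj) (hYqs : AlgSp.IsQuasiSeparatedSp Y.obj)
    (hV : IsAffine V.left) (hX : AlgSp.IsAffineMor g) :
    ∃ (i₀ : I) (T' : Over S), IsAffine T'.left ∧ Nonempty ((yon S).obj T' ≅ (sys D t v).obj i₀) := by
  obtain ⟨T, iT, fstT, sqT, hT⟩ := hX hV v
  exact Groth.Agent.S10006.result S (sys D t v) (isAlgSpace_sys Y D t v hD)
    (fun i j φ => isAffineMor_sys_map Y D t v φ (hDa i j φ))
    (fun j => (qcqs_sys Y D t v hD hV hYqc hYqs j (hqc j) (hqs j)).1)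
    (fun j => (qcqs_sys Y D t v hD hV hYqc hYqs j (hqc j) (hqs j)).2)
    (cone D t v c g hg) (isLimitCone D t v c g hg hc) T hT
    (sqT.isoIsPullback _ _ (IsPullback.of_hasPullback g v))

/-- an affine morphism onto a sheaf isomorphic to an affine scheme has source an affine scheme. -/
theorem exists_affine_iso_of_isAffineMor {F G : AlgSp.Sp S} (f : F ⟶ G) (hf : IsAffineMor f)
    {T' : Over S} (hT' : IsAffine T'.left) (e : (yon S).obj T' ≅ G) :
    ∃ (W : Over S) (i : W ⟶ T') (e' : (yon S).obj W ≅ F), IsAffine W.left ∧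
      e'.hom ≫ f = (yon S).map i ≫ e.hom := by
  obtain ⟨W, i, fst, sq, hW⟩ := hf hT' e.hom
  haveI : IsIso fst := sq.isIso_fst_of_isIso
  exact ⟨W, i, asIso fst, hW, sq.w⟩

/-- a morphism from a sheaf isomorphic to an affine scheme to an affine scheme is affine. -/
theorem isAffineMor_of_iso_affine {F : AlgSp.Sp S} {W V : Over S} (hW : IsAffine W.left)
    (hV : IsAffine V.left) (e : (yon S).obj W ≅ F) (p : F ⟶ (yon S).obj V) : IsAffineMor p := by
  obtain ⟨m, hm⟩ := (yon S).map_surjective (e.hom ≫ p)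
  haveI := hW
  haveI := hV
  have h2 := Groth.Agent.Lib.Seat44.MorBasics.isAffineMor_yon_map m
  rw [hm] at h2
  have h3 := Groth.Agent.Lib.Seat44.MorBasics.isAffineMor_iso_comp e.inv h2
  rwa [Iso.inv_hom_id_assoc] at h3

end Groth.Agent.Lib.Seat44.ChartSys
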