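import Groth.Agent.S10067
import Groth.Agent.S13210

/-!
# Seat44: relatively limit preserving morphisms of fppf sheaves in terms of morphisms

For a morphism `f : X ⟶ Y` of fppf sheaves over `S`, `AlgSp.IsRelLimitPreserving f.hom` is equivalent to two
lifting conditions `HomSurj f` and `HomInj f` expressed with morphisms of sheaves out of `h_T`, `T` a cofiltered limit of
affine schemes over `S`.
-/

set_option autoImplicit false
universe u
open CategoryTheory CategoryTheory.Limits AlgebraicGeometry Opposite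
open AlgSp

namespace Groth.Agent.Lib.Seat44.RlpBridge

open Groth.Agent.S13210

variable {S : Scheme.{u}}

/-- existence of descended lifts -/
def HomSurj {X Y : AlgSp.Sp S} (f : X ⟶ Y) : Prop :=
  ∀ ⦃I : Type u⦄ [SmallCategory I] [IsCofiltered I] (D : I ⥤ Over S) (c : Cone D),
    IsLimit ((Over.forget S).mapCone c) → (∀ i, IsAffine (D.obj i).left) → IsAffine c.pt.left →
    ∀ (j : I) (y : (AlgSp.yon S).obj (D.obj j) ⟶ Y) (x : (AlgSp.yon S).obj c.pt ⟶ X),
      x ≫ f = (AlgSp.yon S).map (c.π.app j) ≫ y →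
      ∃ (k : I) (φ : k ⟶ j) (x' : (AlgSp.yon S).obj (D.obj k) ⟶ X),
        x' ≫ f = (AlgSp.yon S).map (D.map φ) ≫ y ∧ (AlgSp.yon S).map (c.π.app k) ≫ x' = x

/-- uniqueness of descended lifts -/
def HomInj {X Y : AlgSp.Sp S} (f : X ⟶ Y) : Prop :=
  ∀ ⦃I : Type u⦄ [SmallCategory I] [IsCofiltered I] (D : I ⥤ Over S) (c : Cone D),
    IsLimit ((Over.forget S).mapCone c) → (∀ i, IsAffine (D.obj i).left) → IsAffine c.pt.left →
    ∀ (j : I) (x x' : (AlgSp.yon S).obj (D.obj j) ⟶ X), x ≫ f = x' ≫ f →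
      (AlgSp.yon S).map (c.π.app j) ≫ x = (AlgSp.yon S).map (c.π.app j) ≫ x' →
      ∃ (k : I) (φ : k ⟶ j), (AlgSp.yon S).map (D.map φ) ≫ x = (AlgSp.yon S).map (D.map φ) ≫ x'

lemma yEquiv_symm_map {A B : Over S} (g : A ⟶ B) (P : AlgSp.Sp S) (x : P.obj.obj (op B)) :
    (yEquiv A P).symm (P.obj.map g.op x) = (AlgSp.yon S).map g ≫ (yEquiv B P).symm x :=
  ((AlgSp.J S).uliftYonedaEquiv_symm_naturality_left g P x).symm

lemma yEquiv_map {A B : Over S} (g : A ⟶ B) (P : AlgSp.Sp S) (a : (AlgSp.yon S).obj B ⟶ P) :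
    P.obj.map g.op (yEquiv B P a) = yEquiv A P ((AlgSp.yon S).map g ≫ a) :=
  (AlgSp.J S).uliftYonedaEquiv_naturality a g

theorem isRelLimitPreserving_of_hom {X Y : AlgSp.Sp S} (f : X ⟶ Y) (hs : HomSurj f) (hi : HomInj f) :
    AlgSp.IsRelLimitPreserving f.hom := by
  rw [Groth.Agent.S10067.result]
  intro I _ _ D c hc hD hT
  rw [Groth.Agent.S10067.isPullback_colim_iff]
  swap
  · intro j x
    exact NatTrans.naturality_apply f.hom (c.π.app j.unop).op x
  refine ⟨?_, ?_⟩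
  · rintro ⟨j⟩ y x hx
    change Y.obj.obj (op (D.obj j)) at y
    change X.obj.obj (op c.pt) at x
    change f.hom.app (op c.pt) x = Y.obj.map (c.π.app j).op y at hx
    obtain ⟨k, φ, x', h1, h2⟩ := hs D c hc hD hT j ((yEquiv _ Y).symm y) ((yEquiv _ X).symm x) (by
      rw [yEquiv_symm_comp, hx, yEquiv_symm_map])
    refine ⟨op k, φ.op, yEquiv _ X x', ?_, ?_⟩
    · change f.hom.app (op (D.obj k)) (yEquiv _ X x') = Y.obj.map (D.map φ).op y
      rw [← yEquiv_comp, h1]
      rw [← yEquiv_map, Equiv.apply_symm_apply]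
    · change X.obj.map (c.π.app k).op (yEquiv _ X x') = x
      rw [yEquiv_map, h2]
      exact Equiv.apply_symm_apply _ _
  · rintro ⟨j⟩ x x' h1 h2
    change X.obj.obj (op (D.obj j)) at x x'
    change f.hom.app (op (D.obj j)) x = f.hom.app (op (D.obj j)) x' at h1
    change X.obj.map (c.π.app j).op x = X.obj.map (c.π.app j).op x' at h2
    obtain ⟨k, φ, h⟩ := hi D c hc hD hT j ((yEquiv _ X).symm x) ((yEquiv _ X).symm x') (by
      rw [yEquiv_symm_comp, yEquiv_symm_comp, h1]) (by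
      rw [← yEquiv_symm_map, ← yEquiv_symm_map, h2])
    refine ⟨op k, φ.op, ?_⟩
    change X.obj.map (D.map φ).op x = X.obj.map (D.map φ).op x'
    apply (yEquiv _ X).symm.injective
    rw [yEquiv_symm_map, yEquiv_symm_map, h]

theorem homSurj_of_isRelLimitPreserving {X Y : AlgSp.Sp S} (f : X ⟶ Y)
    (h : AlgSp.IsRelLimitPreserving f.hom) : HomSurj f := by
  rw [Groth.Agent.S10067.result] at h
  intro I _ _ D c hc hD hT j y x hx
  have hp := h D c hc hD hT
  rw [Groth.Agent.S10067.isPullback_colim_iff] at hp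
  swap
  · intro j x
    exact NatTrans.naturality_apply f.hom (c.π.app j.unop).op x
  obtain ⟨⟨k⟩, ⟨φ⟩, x', h1, h2⟩ := hp.1 (op j) (yEquiv _ Y y) (yEquiv _ X x) (by
    change f.hom.app (op c.pt) (yEquiv _ X x) = Y.obj.map (c.π.app j).op (yEquiv _ Y y)
    rw [← yEquiv_comp, hx, yEquiv_map]
    rfl)
  change X.obj.obj (op (D.obj k)) at x'
  change f.hom.app (op (D.obj k)) x' = Y.obj.map (D.map φ).op (yEquiv _ Y y) at h1
  change X.obj.map (c.π.app k).op x' = yEquiv _ X x at h2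
  refine ⟨k, φ, (yEquiv _ X).symm x', ?_, ?_⟩
  · rw [yEquiv_symm_comp, h1, yEquiv_map, Equiv.symm_apply_apply]
  · rw [← yEquiv_symm_map, h2]
    exact Equiv.symm_apply_apply _ _

theorem homInj_of_isRelLimitPreserving {X Y : AlgSp.Sp S} (f : X ⟶ Y)
    (h : AlgSp.IsRelLimitPreserving f.hom) : HomInj f := by
  rw [Groth.Agent.S10067.result] at h
  intro I _ _ D c hc hD hT j x x' h1 h2
  have hp := h D c hc hD hT
  rw [Groth.Agent.S10067.isPullback_colim_iff] at hp
  swap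
  · intro j x
    exact NatTrans.naturality_apply f.hom (c.π.app j.unop).op x
  obtain ⟨⟨k⟩, ⟨φ⟩, h3⟩ := hp.2 (op j) (yEquiv _ X x) (yEquiv _ X x') (by
    change f.hom.app (op (D.obj j)) (yEquiv _ X x) = f.hom.app (op (D.obj j)) (yEquiv _ X x')
    rw [← yEquiv_comp, ← yEquiv_comp, h1]) (by
    change X.obj.map (c.π.app j).op (yEquiv _ X x) = X.obj.map (c.π.app j).op (yEquiv _ X x')
    rw [yEquiv_map, yEquiv_map, h2])
  change X.obj.map (D.map φ).op (yEquiv _ X x) = X.obj.map (D.map φ).op (yEquiv _ X x') at h3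
  refine ⟨k, φ, ?_⟩
  apply (yEquiv _ X).injective
  rw [← yEquiv_map, ← yEquiv_map, h3]

end Groth.Agent.Lib.Seat44.RlpBridge
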