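import Groth.Agent.Lib.Seat44HomDesc2
import Groth.Agent.Lib.Seat44RlpBridge

/-!
# Seat44: effective descent of a lift on a chart of a limit

`D : I ⥤ Sp S` a cofiltered system with affine transition maps and limit cone `c`; `p : h_{U₀} ⟶ D i₀` an affine étale
surjective chart with an affine chart `R₀` of its kernel pair; `f : X ⟶ Y` a morphism of sheaves with uniqueness of
descended lifts (`HomInj f`).  A lift `b : h_{W_j} ⟶ X` on a stage of the chart system which induces `x : c.pt ⟶ X` on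
the limit descends, at a later stage, to `D k ⟶ X`.
-/

set_option autoImplicit false
set_option backward.isDefEq.respectTransparency false
set_option backward.isDefEq.respectTransparency.types false
universe u
open CategoryTheory CategoryTheory.Limits AlgebraicGeometry
open AlgSp

namespace Groth.Agent.Lib.Seat44.CocycleDesc

open Groth.Agent.Lib.Seat44.AffLim Groth.Agent.Lib.Seat44.LimChart Groth.Agent.Lib.Seat44.LimChart2
  Groth.Agent.Lib.Seat44.DiagBC Groth.Agent.Lib.Seat44.HomDesc Groth.Agent.Lib.Seat44.RlpBridge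

variable {S : Scheme.{u}}

theorem exists_descent_of_chart_lift {I : Type u} [SmallCategory I] [IsCofiltered I]
    (D : I ⥤ AlgSp.Sp S) (hDa : ∀ (i j : I) (φ : i ⟶ j), AlgSp.IsAffineMor (D.map φ))
    (c : Cone D) (hc : IsLimit c) (i₀ : I)
    {U₀ R₀ : Over S} (hU₀ : IsAffine U₀.left) (hR₀ : IsAffine R₀.left)
    (p : (yon S).obj U₀ ⟶ D.obj i₀) (hpe : RepWith @Etale p) (hps : RepWith @Surjective p)
    (r₁ r₂ : R₀ ⟶ U₀) (r : (yon S).obj R₀ ⟶ pullback p p)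
    (hre : RepWith @Etale r) (hrs : RepWith @Surjective r)
    (h₁ : r ≫ pullback.fst p p = (yon S).map r₁) (h₂ : r ≫ pullback.snd p p = (yon S).map r₂)
    {X Y : AlgSp.Sp S} (f : X ⟶ Y) (hi : HomInj f)
    (y : D.obj i₀ ⟶ Y) (x : c.pt ⟶ X)
    (cW : Cone (W D hDa i₀ hU₀ p)) (hcW : IsLimit cW) (fstW : (yon S).obj cW.pt ⟶ c.pt)
    (sqW : ∀ j : Over i₀, IsPullback ((yon S).map (cW.π.app j)) fstW (Wfst D hDa i₀ hU₀ p j)
      (c.π.app j.left))
    (sq₀ : IsPullback fstW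
      ((yon S).map (cW.π.app (Over.mk (𝟙 i₀)) ≫ Wι D hDa i₀ hU₀ p (Over.mk (𝟙 i₀)))) (c.π.app i₀) p)
    (j : Over i₀) (b : (yon S).obj (Wobj D hDa i₀ hU₀ p j) ⟶ X)
    (hb1 : b ≫ f = Wfst D hDa i₀ hU₀ p j ≫ D.map j.hom ≫ y)
    (hb2 : (yon S).map (cW.π.app j) ≫ b = fstW ≫ x) :
    ∃ (k : Over i₀) (xk : D.obj k.left ⟶ X),
      xk ≫ f = D.map k.hom ≫ y ∧ c.π.app k.left ≫ xk = x := by
  have hr : (yon S).map r₁ ≫ p = (yon S).map r₂ ≫ p := by
    rw [← h₁, ← h₂, Category.assoc, Category.assoc, pullback.condition]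
  obtain ⟨cW', hcW', fstW', hcWaff', ⟨hlimW'⟩, sqW', -⟩ :=
    exists_chart_data' D hDa c hc i₀ hR₀ ((yon S).map r₁ ≫ p)
  haveI : Epi fstW := epi_chart_fst D hDa c i₀ hU₀ p hpe hps cW fstW sq₀
  have hcE : IsLimit (c.whisker (Over.forget i₀)) :=
    (Functor.Initial.isLimitWhiskerEquiv (Over.forget i₀) c).symm hc
  have key : ∀ (r' : R₀ ⟶ U₀) (hr' : (yon S).map r₁ ≫ p = (yon S).map r' ≫ p),
      (yon S).map (cW'.π.app j) ≫
        ((yon S).map (Wρ D hDa i₀ hU₀ hR₀ p ((yon S).map r₁ ≫ p) r' hr' j) ≫ b) = fstW' ≫ x := by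
    intro r' hr'
    let s : Cone (W D hDa i₀ hU₀ p) :=
      { pt := cW'.pt
        π :=
          { app := fun k => cW'.π.app k ≫ Wρ D hDa i₀ hU₀ hR₀ p ((yon S).map r₁ ≫ p) r' hr' k
            naturality := by
              intro k k' ψ
              simp only [Functor.const_obj_obj, Functor.const_obj_map, Category.id_comp,
                Category.assoc]
              rw [← Wρ_naturality, ← Category.assoc, cW'.w ψ] } }
    have hs : ∀ k, hcW.lift s ≫ cW.π.app k =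
        cW'.π.app k ≫ Wρ D hDa i₀ hU₀ hR₀ p ((yon S).map r₁ ≫ p) r' hr' k := fun k => hcW.fac s k
    have hfst : (yon S).map (hcW.lift s) ≫ fstW = fstW' := by
      apply hcE.hom_ext
      intro k
      change ((yon S).map (hcW.lift s) ≫ fstW) ≫ c.π.app k.left = fstW' ≫ c.π.app k.left
      rw [Category.assoc, ← (sqW k).w, ← Category.assoc, ← Functor.map_comp, hs, Functor.map_comp,
        Category.assoc, yon_Wρ_fst, (sqW' k).w]
    rw [← Category.assoc, ← Functor.map_comp, ← hs, Functor.map_comp, Category.assoc, hb2,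
      ← Category.assoc, hfst]
  have hagree : (yon S).map (cW'.π.app j) ≫
        ((yon S).map (Wρ D hDa i₀ hU₀ hR₀ p ((yon S).map r₁ ≫ p) r₁ rfl j) ≫ b) =
      (yon S).map (cW'.π.app j) ≫
        ((yon S).map (Wρ D hDa i₀ hU₀ hR₀ p ((yon S).map r₁ ≫ p) r₂ hr j) ≫ b) := by
    rw [key r₁ rfl, key r₂ hr]
  have hsame : ((yon S).map (Wρ D hDa i₀ hU₀ hR₀ p ((yon S).map r₁ ≫ p) r₁ rfl j) ≫ b) ≫ f =
      ((yon S).map (Wρ D hDa i₀ hU₀ hR₀ p ((yon S).map r₁ ≫ p) r₂ hr j) ≫ b) ≫ f := by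
    rw [Category.assoc, Category.assoc, hb1,
      reassoc_of% (yon_Wρ_fst D hDa i₀ hU₀ hR₀ p ((yon S).map r₁ ≫ p) r₁ rfl j),
      reassoc_of% (yon_Wρ_fst D hDa i₀ hU₀ hR₀ p ((yon S).map r₁ ≫ p) r₂ hr j)]
  obtain ⟨k, ψ, hk⟩ := hi (W D hDa i₀ hR₀ ((yon S).map r₁ ≫ p)) cW' hlimW'
    (fun j => Waff D hDa i₀ hR₀ _ j) hcWaff' j _ _ hsame hagree
  -- the morphism at stage `k`
  have hk' : (yon S).map (Wρ D hDa i₀ hU₀ hR₀ p ((yon S).map r₁ ≫ p) r₁ rfl k) ≫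
        ((yon S).map ((W D hDa i₀ hU₀ p).map ψ) ≫ b) =
      (yon S).map (Wρ D hDa i₀ hU₀ hR₀ p ((yon S).map r₁ ≫ p) r₂ hr k) ≫
        ((yon S).map ((W D hDa i₀ hU₀ p).map ψ) ≫ b) := by
    rw [← Category.assoc, ← Functor.map_comp, ← Wρ_naturality, Functor.map_comp, Category.assoc,
      ← Category.assoc ((yon S).map (Wρ D hDa i₀ hU₀ hR₀ p ((yon S).map r₁ ≫ p) r₂ hr k)),
      ← Functor.map_comp, ← Wρ_naturality, Functor.map_comp, Category.assoc]
    exact hk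
  have hWe : RepWith @Etale (Wfst D hDa i₀ hU₀ p k) :=
    MorphismProperty.of_isPullback (P := RepWith @Etale) (Wsq D hDa i₀ hU₀ p k).flip hpe
  have hWs : RepWith @Surjective (Wfst D hDa i₀ hU₀ p k) :=
    MorphismProperty.of_isPullback (P := RepWith @Surjective) (Wsq D hDa i₀ hU₀ p k).flip hps
  haveI : Epi (Wfst D hDa i₀ hU₀ p k) := Groth.Agent.S9927.epi_of_repWith _ hWe hWs
  have hκ := isPullback_κ D hDa i₀ hU₀ hR₀ p r₁ r₂ hr r h₁ h₂ k
  haveI : Epi (κ D hDa i₀ hU₀ hR₀ p r₁ r₂ hr k) := Groth.Agent.S9927.epi_of_repWith _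
    (MorphismProperty.of_isPullback (P := RepWith @Etale) hκ hre)
    (MorphismProperty.of_isPullback (P := RepWith @Surjective) hκ hrs)
  have hkp : pullback.fst (Wfst D hDa i₀ hU₀ p k) (Wfst D hDa i₀ hU₀ p k) ≫
      ((yon S).map ((W D hDa i₀ hU₀ p).map ψ) ≫ b) =
      pullback.snd (Wfst D hDa i₀ hU₀ p k) (Wfst D hDa i₀ hU₀ p k) ≫
      ((yon S).map ((W D hDa i₀ hU₀ p).map ψ) ≫ b) := by
    rw [← cancel_epi (κ D hDa i₀ hU₀ hR₀ p r₁ r₂ hr k)]
    unfold κ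
    rw [pullback.lift_fst_assoc, pullback.lift_snd_assoc, hk']
  have hreg : IsRegularEpi (Wfst D hDa i₀ hU₀ p k) := IsRegularEpiCategory.regularEpiOfEpi _
  have heff : EffectiveEpi (Wfst D hDa i₀ hU₀ p k) := (isRegularEpi_iff_effectiveEpi _).1 hreg
  have hco : ∀ {A : AlgSp.Sp S} (g₁ g₂ : A ⟶ (yon S).obj (Wobj D hDa i₀ hU₀ p k)),
      g₁ ≫ Wfst D hDa i₀ hU₀ p k = g₂ ≫ Wfst D hDa i₀ hU₀ p k →
      g₁ ≫ ((yon S).map ((W D hDa i₀ hU₀ p).map ψ) ≫ b) =
        g₂ ≫ ((yon S).map ((W D hDa i₀ hU₀ p).map ψ) ≫ b) := by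
    intro A g₁ g₂ h
    calc g₁ ≫ ((yon S).map ((W D hDa i₀ hU₀ p).map ψ) ≫ b)
        = (pullback.lift g₁ g₂ h ≫ pullback.fst _ _) ≫
            ((yon S).map ((W D hDa i₀ hU₀ p).map ψ) ≫ b) := by rw [pullback.lift_fst]
      _ = (pullback.lift g₁ g₂ h ≫ pullback.snd _ _) ≫
            ((yon S).map ((W D hDa i₀ hU₀ p).map ψ) ≫ b) := by
          rw [Category.assoc, hkp, Category.assoc]
      _ = g₂ ≫ ((yon S).map ((W D hDa i₀ hU₀ p).map ψ) ≫ b) := by rw [pullback.lift_snd]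
  refine ⟨k, EffectiveEpi.desc (Wfst D hDa i₀ hU₀ p k) _ hco, ?_, ?_⟩
  · rw [← cancel_epi (Wfst D hDa i₀ hU₀ p k), ← Category.assoc, EffectiveEpi.fac, Category.assoc,
      hb1, ← Category.assoc, yon_map_W_map, WmapSh_fst, Category.assoc, ← Category.assoc (D.map ψ.left),
      ← D.map_comp, Over.w ψ]
  · rw [← cancel_epi fstW, ← Category.assoc, ← (sqW k).w, Category.assoc, EffectiveEpi.fac,
      ← Category.assoc, ← Functor.map_comp, cW.w, hb2]

end Groth.Agent.Lib.Seat44.CocycleDesc
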