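import Mathlib

/-!
# Seat44: the diagonal of a base change is the base change of the diagonal

In a category with pullbacks: `f₀ : X₀ ⟶ Y₀`, `b₀ : Y₀ ⟶ B₀`, `β : B ⟶ B₀`, `Y = Y₀ ×_{B₀} B`, `X = X₀ ×_{Y₀} Y`, `f : X ⟶ Y`.
Then `X ×_Y X = (X₀ ×_{Y₀} X₀) ×_{B₀} B` (`isPullback_diagMap`) and the diagonal of `f` is the base change of the
diagonal of `f₀` (`isPullback_diagonal`).
-/

set_option autoImplicit false
universe v u
open CategoryTheory CategoryTheory.Limits

namespace Groth.Agent.Lib.Seat44.DiagBC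

variable {C : Type u} [Category.{v} C] [HasPullbacks C]
variable {X₀ Y₀ B₀ B X Y : C} {f₀ : X₀ ⟶ Y₀} {b₀ : Y₀ ⟶ B₀} {β : B ⟶ B₀}
  {f : X ⟶ Y} {pY : Y ⟶ Y₀} {qY : Y ⟶ B} {pX : X ⟶ X₀}

/-- the map `X ×_Y X ⟶ X₀ ×_{Y₀} X₀`. -/
noncomputable def diagMap (hX : IsPullback pX f f₀ pY) : pullback f f ⟶ pullback f₀ f₀ :=
  pullback.map f f f₀ f₀ pX pX pY hX.w.symm hX.w.symm

@[reassoc (attr := simp)]
lemma diagMap_fst (hX : IsPullback pX f f₀ pY) :
    diagMap hX ≫ pullback.fst f₀ f₀ = pullback.fst f f ≫ pX := by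
  unfold diagMap
  exact pullback.lift_fst _ _ _

@[reassoc (attr := simp)]
lemma diagMap_snd (hX : IsPullback pX f f₀ pY) :
    diagMap hX ≫ pullback.snd f₀ f₀ = pullback.snd f f ≫ pX := by
  unfold diagMap
  exact pullback.lift_snd _ _ _

/-- `X ×_Y X = (X₀ ×_{Y₀} X₀) ×_{X₀} X` (second projections). -/
lemma isPullback_diagMap_snd (hX : IsPullback pX f f₀ pY) :
    IsPullback (diagMap hX) (pullback.snd f f) (pullback.snd f₀ f₀) pX := by
  have s := (IsPullback.of_hasPullback f f).paste_horiz hX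
  have e : f ≫ pY = pX ≫ f₀ := hX.w.symm
  rw [e] at s
  refine IsPullback.of_right ?_ (diagMap_snd hX) (IsPullback.of_hasPullback f₀ f₀)
  rw [diagMap_fst]
  exact s

/-- `X ×_Y X = (X₀ ×_{Y₀} X₀) ×_{B₀} B`. -/
theorem isPullback_diagMap (hY : IsPullback pY qY b₀ β) (hX : IsPullback pX f f₀ pY) :
    IsPullback (diagMap hX) (pullback.snd f f ≫ f ≫ qY) (pullback.snd f₀ f₀ ≫ f₀ ≫ b₀) β :=
  (isPullback_diagMap_snd hX).paste_vert (hX.paste_vert hY)

/-- the diagonal of `f` is the base change of the diagonal of `f₀`. -/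
theorem isPullback_diagonal (hX : IsPullback pX f f₀ pY) :
    IsPullback pX (pullback.diagonal f) (pullback.diagonal f₀) (diagMap hX) := by
  have p : pullback.diagonal f ≫ diagMap hX = pX ≫ pullback.diagonal f₀ := by
    apply pullback.hom_ext <;> simp
  have s : IsPullback (pullback.diagonal f ≫ pullback.snd f f) pX pX
      (pullback.diagonal f₀ ≫ pullback.snd f₀ f₀) := by
    rw [pullback.diagonal_snd, pullback.diagonal_snd]
    exact IsPullback.of_horiz_isIso ⟨by simp⟩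
  exact (IsPullback.of_right s p (isPullback_diagMap_snd hX).flip).flip

end Groth.Agent.Lib.Seat44.DiagBC
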