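import Groth.Agent.Lib.Seat44EtaleModel

/-!
# Seat44: étale coverings of a limit of affine schemes descend to a stage

* `exists_affine_refinement` : an étale surjective morphism onto a quasi-compact scheme is refined by an affine one.
* `exists_etale_cover_descent` : an affine étale covering of the limit of a cofiltered system of affine schemes is the
  base change of an affine étale covering of a stage (below any prescribed stage).
-/

set_option autoImplicit false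
set_option backward.isDefEq.respectTransparency false
set_option backward.isDefEq.respectTransparency.types false
universe u
open CategoryTheory CategoryTheory.Limits AlgebraicGeometry

namespace Groth.Agent.Lib.Seat44.EtaleCoverDesc

open Groth.Agent.Lib.Seat44.EtaleModel Groth.Agent.Lib.Seat44.StageMono

/-- an étale surjective morphism onto a quasi-compact scheme is refined by an affine étale surjective one. -/
theorem exists_affine_refinement {C W : Scheme.{u}} [CompactSpace C] (w : W ⟶ C) [Etale w]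
    [Surjective w] :
    ∃ (W' : Scheme.{u}) (g : W' ⟶ W), IsAffine W' ∧ Etale g ∧ Surjective (g ≫ w) := by
  let 𝒰 := W.affineCover
  have hopen : ∀ i, IsOpen (Set.range (𝒰.f i ≫ w)) := fun i =>
    (𝒰.f i ≫ w).isOpenMap.isOpen_range
  have hcov : (Set.univ : Set C) ⊆ ⋃ i, Set.range (𝒰.f i ≫ w) := by
    intro x _
    obtain ⟨y, rfl⟩ := w.surjective x
    obtain ⟨z, hz⟩ := 𝒰.covers y
    exact Set.mem_iUnion.2 ⟨𝒰.idx y, z, by rw [Scheme.Hom.comp_apply, hz]⟩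
  obtain ⟨t, ht⟩ := isCompact_univ.elim_finite_subcover _ hopen hcov
  haveI : ∀ i : t, IsAffine (𝒰.X i.1) := fun i => by dsimp [𝒰]; infer_instance
  let d : (∐ fun i : t => 𝒰.X i.1) ⟶ W := Sigma.desc (fun i : t => 𝒰.f i.1)
  haveI : Etale d := IsZariskiLocalAtSource.sigmaDesc (fun i => inferInstance)
  refine ⟨_, d, inferInstance, inferInstance, ⟨fun x => ?_⟩⟩
  obtain ⟨i, hi, z, hz⟩ : ∃ i ∈ t, x ∈ Set.range (𝒰.f i ≫ w) := by
    simpa using ht (Set.mem_univ x)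
  refine ⟨(Sigma.ι (fun i : t => 𝒰.X i.1) ⟨i, hi⟩) z, ?_⟩
  rw [← Scheme.Hom.comp_apply, ← Category.assoc, Sigma.ι_desc]
  exact hz

/-- **Affine étale coverings of a limit of affine schemes descend to a stage.** -/
theorem exists_etale_cover_descent {I : Type u} [SmallCategory I] [IsCofiltered I]
    (D : I ⥤ Scheme.{u}) (c : Cone D) (hc : IsLimit c) (hD : ∀ i, IsAffine (D.obj i))
    {W : Scheme.{u}} [IsAffine W] (u : W ⟶ c.pt) [Etale u] [Surjective u] (j : I) :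
    ∃ (n : I) (_ : n ⟶ j) (V : Scheme.{u}) (v : V ⟶ D.obj n) (g : W ⟶ V),
      IsAffine V ∧ Etale v ∧ Surjective v ∧ IsPullback g u v (c.π.app n) := by
  haveI : ∀ i, IsAffine (D.obj i) := hD
  haveI : ∀ (i j : I) (f : i ⟶ j), IsAffineHom (D.map f) := fun i j f => inferInstance
  haveI : ∀ i, CompactSpace (D.obj i) := fun i => inferInstance
  haveI : ∀ i, QuasiSeparatedSpace (D.obj i) := fun i => inferInstance
  haveI : IsAffine c.pt := Scheme.isAffine_of_isLimit c hc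
  -- descend `u`
  obtain ⟨l, Vl, vl, gl, hvl1, hvl2, hvl3, sql⟩ := Groth.Agent.S0591.result D c hc W u
  haveI := hvl1
  haveI := hvl2
  haveI := hvl3
  haveI : CompactSpace Vl := QuasiCompact.compactSpace_of_compactSpace vl
  haveI : QuasiSeparatedSpace Vl := quasiSeparatedSpace_of_quasiSeparated vl
  have hY0 : IsPullback (c.π.app l) (𝟙 c.pt) (𝟙 (D.obj l)) (c.π.app l) := by
    haveI : IsIso (𝟙 c.pt) := IsIso.id _
    haveI : IsIso (𝟙 (D.obj l)) := IsIso.id _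
    exact IsPullback.of_vert_isIso ⟨by simp⟩
  obtain ⟨m₁, φ₁, X₁, Y₁, f₁, g₁, pY₁, pX₁, hY₁, hX₁, h₁⟩ :=
    Groth.Agent.S9192.result D c hc l vl (𝟙 _) u (𝟙 _) (c.π.app l) gl hY0 sql
  obtain ⟨m₂, φ₂, X₂, Y₂, f₂, g₂, pY₂, pX₂, hY₂, hX₂, h₂⟩ :=
    Groth.Agent.S2581.result D c hc l vl (𝟙 _) u (𝟙 _) (c.π.app l) gl hY0 sql
  obtain ⟨m₃, φ₃, X₃, Y₃, f₃, g₃, pY₃, pX₃, hY₃, hX₃, h₃⟩ :=
    Groth.Agent.S9186.result D c hc l vl (𝟙 _) u (𝟙 _) (c.π.app l) gl hY0 sql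
  -- a common stage
  obtain ⟨j', α₁, α₂, hα⟩ := exists_common_stage φ₁ φ₂
  obtain ⟨n', β, β₃, hβ⟩ := exists_common_stage (α₁ ≫ φ₁) φ₃
  let n := IsCofiltered.min n' j
  let γ : n ⟶ n' := IsCofiltered.minToLeft n' j
  let δ : n ⟶ j := IsCofiltered.minToRight n' j
  let ξ : n ⟶ l := γ ≫ β ≫ α₁ ≫ φ₁
  have e₁ : (γ ≫ β ≫ α₁) ≫ φ₁ = ξ := by simp [ξ]
  have e₂ : (γ ≫ β ≫ α₂) ≫ φ₂ = ξ := by simp [ξ, hα]
  have e₃ : (γ ≫ β₃) ≫ φ₃ = ξ := by simp [ξ, hβ]
  have k₁ : Etale (pullback.snd vl (D.map ξ)) :=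
    e₁ ▸ stage_transfer @Etale D φ₁ (γ ≫ β ≫ α₁) vl f₁ g₁ pY₁ pX₁ hY₁ hX₁ h₁
  have k₂ : Surjective (pullback.snd vl (D.map ξ)) :=
    e₂ ▸ stage_transfer @Surjective D φ₂ (γ ≫ β ≫ α₂) vl f₂ g₂ pY₂ pX₂ hY₂ hX₂ h₂
  have k₃ : IsAffineHom (pullback.snd vl (D.map ξ)) :=
    e₃ ▸ stage_transfer @IsAffineHom D φ₃ (γ ≫ β₃) vl f₃ g₃ pY₃ pX₃ hY₃ hX₃ h₃
  haveI : IsAffine (pullback vl (D.map ξ)) := by
    haveI := k₃
    exact isAffine_of_isAffineHom (pullback.snd vl (D.map ξ))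
  have hgl : gl ≫ vl = (u ≫ c.π.app n) ≫ D.map ξ := by
    rw [Category.assoc, c.w ξ]
    exact sql.w
  refine ⟨n, δ, pullback vl (D.map ξ), pullback.snd vl (D.map ξ),
    pullback.lift gl (u ≫ c.π.app n) hgl, inferInstance, k₁, k₂, ?_⟩
  refine IsPullback.of_right ?_ (pullback.lift_snd _ _ _) (IsPullback.of_hasPullback vl (D.map ξ))
  rw [pullback.lift_fst, c.w ξ]
  exact sql

end Groth.Agent.Lib.Seat44.EtaleCoverDesc
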