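import Groth.Prelude
import Groth.Agent.S9874

/-!
# Seat44: stages of a limit — common refinements and monotonicity

For a cofiltered system `D : I ⥤ Sp S` of algebraic spaces, an index `i₀`, `b₀ : Y₀ ⟶ D.obj i₀` and
`f₀ : X₀ ⟶ Y₀`, the predicate `StageProp Q D f₀ b₀ φ` (for `φ : i ⟶ i₀`) says that every base change `f_i` of `f₀`
to `D.obj i` has `Q`.  For base-change-stable `Q` it is monotone in the stage (`StageProp.mono`), and two stages have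
a common refinement (`exists_common_stage`).
-/

set_option autoImplicit false
set_option backward.isDefEq.respectTransparency false
set_option backward.isDefEq.respectTransparency.types false
universe u
open CategoryTheory CategoryTheory.Limits AlgebraicGeometry
open AlgSp

namespace Groth.Agent.Lib.Seat44.StageMono

/-- two arrows into `i₀` in a cofiltered category have a common refinement. -/
theorem exists_common_stage {I : Type u} [SmallCategory I] [IsCofiltered I] {i₀ i₁ i₂ : I}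
    (φ₁ : i₁ ⟶ i₀) (φ₂ : i₂ ⟶ i₀) :
    ∃ (i : I) (ψ₁ : i ⟶ i₁) (ψ₂ : i ⟶ i₂), ψ₁ ≫ φ₁ = ψ₂ ≫ φ₂ := by
  let j := IsCofiltered.min i₁ i₂
  let a : j ⟶ i₁ := IsCofiltered.minToLeft i₁ i₂
  let b : j ⟶ i₂ := IsCofiltered.minToRight i₁ i₂
  refine ⟨IsCofiltered.eq (a ≫ φ₁) (b ≫ φ₂), IsCofiltered.eqHom _ _ ≫ a, IsCofiltered.eqHom _ _ ≫ b, ?_⟩
  rw [Category.assoc, Category.assoc]
  exact IsCofiltered.eq_condition _ _

variable {S : Scheme.{u}} {I : Type u} [SmallCategory I]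

/-- every base change of `f₀` to the stage `φ : i ⟶ i₀` has `Q`. -/
def StageProp (Q : ∀ {A B : AlgSp.Sp S}, (A ⟶ B) → Prop) (D : I ⥤ AlgSp.Sp S) {i₀ : I}
    {X₀ Y₀ : AlgSp.Sp S} (f₀ : X₀ ⟶ Y₀) (b₀ : Y₀ ⟶ D.obj i₀) {i : I} (φ : i ⟶ i₀) : Prop :=
  ∀ (Xi Yi : AlgSp.Sp S) (fi : Xi ⟶ Yi) (pYi : Yi ⟶ Y₀) (qYi : Yi ⟶ D.obj i)
    (_ : IsPullback pYi qYi b₀ (D.map φ)) (pXi : Xi ⟶ X₀) (_ : IsPullback pXi fi f₀ pYi), Q fi

/-- monotonicity of `StageProp` for a property stable under base change between algebraic spaces. -/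
theorem StageProp.mono {Q : ∀ {A B : AlgSp.Sp S}, (A ⟶ B) → Prop}
    (hQ : ∀ {A B A' B' : AlgSp.Sp S}, IsAlgSpace A → IsAlgSpace B → IsAlgSpace A' → IsAlgSpace B' →
      ∀ {f : A ⟶ B} {f' : A' ⟶ B'} {p : A' ⟶ A} {q : B' ⟶ B}, IsPullback p f' f q → Q f → Q f')
    (D : I ⥤ AlgSp.Sp S) (hD : ∀ i, AlgSp.IsAlgSpace (D.obj i)) {i₀ : I}
    {X₀ Y₀ : AlgSp.Sp S} (hX₀ : IsAlgSpace X₀) (hY₀ : IsAlgSpace Y₀)
    (f₀ : X₀ ⟶ Y₀) (b₀ : Y₀ ⟶ D.obj i₀) {i₁ i : I} (φ₁ : i₁ ⟶ i₀) (ψ : i ⟶ i₁)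
    (h : StageProp Q D f₀ b₀ φ₁) : StageProp Q D f₀ b₀ (ψ ≫ φ₁) := by
  intro Xi Yi fi pYi qYi sqY pXi sqX
  have hYi : IsAlgSpace Yi := Groth.Agent.S9874.isAlgSpace_of_isPullback (hD i₀).diag hY₀ (hD i) sqY
  have hXi : IsAlgSpace Xi := Groth.Agent.S9874.isAlgSpace_of_isPullback hY₀.diag hX₀ hYi sqX
  have sqY₁ := IsPullback.of_hasPullback b₀ (D.map φ₁)
  have sqX₁ := IsPullback.of_hasPullback f₀ (pullback.fst b₀ (D.map φ₁))
  have hY₁ : IsAlgSpace (pullback b₀ (D.map φ₁)) :=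
    Groth.Agent.S9874.isAlgSpace_of_isPullback (hD i₀).diag hY₀ (hD i₁) sqY₁
  have hX₁ : IsAlgSpace (pullback f₀ (pullback.fst b₀ (D.map φ₁))) :=
    Groth.Agent.S9874.isAlgSpace_of_isPullback hY₀.diag hX₀ hY₁ sqX₁
  have h₁ : Q (pullback.snd f₀ (pullback.fst b₀ (D.map φ₁))) :=
    h _ _ _ _ _ sqY₁ _ sqX₁
  have wm : pYi ≫ b₀ = (qYi ≫ D.map ψ) ≫ D.map φ₁ := by
    rw [Category.assoc, ← D.map_comp]; exact sqY.w
  let m : Yi ⟶ pullback b₀ (D.map φ₁) := pullback.lift pYi (qYi ≫ D.map ψ) wm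
  have hm : m ≫ pullback.fst b₀ (D.map φ₁) = pYi := pullback.lift_fst _ _ _
  have wn : pXi ≫ f₀ = (fi ≫ m) ≫ pullback.fst b₀ (D.map φ₁) := by
    rw [Category.assoc, hm]; exact sqX.w
  let n : Xi ⟶ pullback f₀ (pullback.fst b₀ (D.map φ₁)) := pullback.lift pXi (fi ≫ m) wn
  have hn1 : n ≫ pullback.fst f₀ (pullback.fst b₀ (D.map φ₁)) = pXi := pullback.lift_fst _ _ _
  have hn2 : n ≫ pullback.snd f₀ (pullback.fst b₀ (D.map φ₁)) = fi ≫ m := pullback.lift_snd _ _ _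
  have big : IsPullback (n ≫ pullback.fst f₀ (pullback.fst b₀ (D.map φ₁))) fi f₀
      (m ≫ pullback.fst b₀ (D.map φ₁)) := by
    rw [hn1, hm]; exact sqX
  have sq : IsPullback n fi (pullback.snd f₀ (pullback.fst b₀ (D.map φ₁))) m :=
    IsPullback.of_right big hn2 sqX₁
  exact hQ hX₁ hY₁ hXi hYi sq h₁

end Groth.Agent.Lib.Seat44.StageMono
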