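import Mathlib
import Groth.Agent.S7383
import Groth.Agent.S0591
import Groth.Agent.S9192
import Groth.Agent.S2581
import Groth.Agent.S9186
import Groth.Agent.Lib.Seat44StageMono

/-!
# Seat44: models of finite presentation for an étale surjective morphism of affine schemes over `S`

`exists_etale_model` : for a quasi-separated scheme `S` and an étale surjective morphism `u : U ⟶ T` of affine schemes over
`S` there are affine schemes `Z`, `V` over `S` with `Z` locally of finite presentation over `S`, an étale surjective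
`v : V ⟶ Z` and a morphism `z : T ⟶ Z` with `U = V ×_Z T`.
-/

set_option autoImplicit false
set_option backward.isDefEq.respectTransparency false
set_option backward.isDefEq.respectTransparency.types false
universe u
open CategoryTheory CategoryTheory.Limits AlgebraicGeometry

namespace Groth.Agent.Lib.Seat44.EtaleModel

/-- the image of a quasi-compact scheme lies in a quasi-compact open. -/
theorem exists_compact_open_range_subset {X S : Scheme.{u}} [CompactSpace X] (f : X ⟶ S) :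
    ∃ S' : S.Opens, IsCompact (S' : Set S) ∧ Set.range f ⊆ (S' : Set S) := by
  have hK : IsCompact (Set.range f) := isCompact_range f.continuous
  obtain ⟨t, ht⟩ := hK.elim_finite_subcover
    (fun i : S.affineCover.I₀ => ((S.affineCover.f i).opensRange : Set S))
    (fun i => (S.affineCover.f i).opensRange.isOpen)
    (fun x _ => Set.mem_iUnion.2 ⟨S.affineCover.idx x, S.affineCover.covers x⟩)
  refine ⟨⨆ i ∈ t, (S.affineCover.f i).opensRange, ?_, ?_⟩
  · simp only [TopologicalSpace.Opens.coe_iSup]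
    exact t.finite_toSet.isCompact_biUnion (fun i _ => by
      simpa using isCompact_range (S.affineCover.f i).continuous)
  · simpa only [TopologicalSpace.Opens.coe_iSup] using ht

/-- transfer of a base-change-stable property from a descended stage to the canonical base change at a later stage. -/
theorem stage_transfer (P : MorphismProperty Scheme.{u}) [P.IsStableUnderBaseChange]
    {I : Type u} [SmallCategory I] (D : I ⥤ Scheme.{u}) {l m n : I} (φ : m ⟶ l) (ξ : n ⟶ m)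
    {V₀ : Scheme.{u}} (v₀ : V₀ ⟶ D.obj l) {Xm Ym : Scheme.{u}} (fm : Xm ⟶ Ym) (gm : Ym ⟶ D.obj m)
    (pY : Ym ⟶ D.obj l) (pX : Xm ⟶ V₀) (hY : IsPullback pY gm (𝟙 _) (D.map φ))
    (hX : IsPullback pX fm v₀ pY) (h : P fm) : P (pullback.snd v₀ (D.map (ξ ≫ φ))) := by
  haveI : IsIso gm := hY.isIso_snd_of_isIso
  have hpY : pY = gm ≫ D.map φ := by
    have := hY.w
    rwa [Category.comp_id] at this
  have hm : (D.map ξ ≫ inv gm) ≫ pY = D.map (ξ ≫ φ) := by
    rw [hpY, Category.assoc, IsIso.inv_hom_id_assoc, D.map_comp]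
  exact Groth.Agent.Lib.Helper26.LimDescend.of_two_pullbacks P
    (IsPullback.of_hasPullback v₀ (D.map (ξ ≫ φ))) hX (D.map ξ ≫ inv gm) hm h

open Groth.Agent.Lib.Seat44.StageMono in
/-- **Models of finite presentation for étale surjective morphisms of affine schemes over `S`.** -/
theorem exists_etale_model {S : Scheme.{u}} [QuasiSeparatedSpace S] {T U : Over S}
    (hT : IsAffine T.left) (hU : IsAffine U.left) (u : U ⟶ T) [Etale u.left] [Surjective u.left] :
    ∃ (Z V : Over S) (z : T ⟶ Z) (v : V ⟶ Z) (g : U ⟶ V), IsAffine Z.left ∧ IsAffine V.left ∧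
      LocallyOfFinitePresentation Z.hom ∧ Etale v.left ∧ Surjective v.left ∧
      IsPullback g.left u.left v.left z.left := by
  haveI := hT
  haveI := hU
  obtain ⟨S', hS'c, hS'⟩ := exists_compact_open_range_subset T.hom
  haveI : CompactSpace S' := isCompact_iff_compactSpace.mp hS'c
  haveI : QuasiSeparatedSpace S' := quasiSeparatedSpace_of_quasiSeparated S'.ι
  let t' : T.left ⟶ S' := IsOpenImmersion.lift S'.ι T.hom (by simpa using hS')
  have ht' : t' ≫ S'.ι = T.hom := IsOpenImmersion.lift_fac _ _ _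
  obtain ⟨J, hJ1, hJ2, hJ3, DZ, cZ, hcZ, hprops, haffine, ⟨eZ⟩⟩ := Groth.Agent.S7383.result t'
  -- the system of schemes and its limit cone with apex `T`
  let Dsch : Jᵒᵖ ⥤ Scheme.{u} := DZ ⋙ Over.forget _
  haveI : ∀ (i j : Jᵒᵖ) (f : i ⟶ j), IsAffineHom (Dsch.map f) := fun i j f => haffine i j f
  haveI : ∀ i, CompactSpace (Dsch.obj i) := fun i => by
    haveI := (hprops i).2.1
    exact QuasiCompact.compactSpace_of_compactSpace (DZ.obj i).hom
  haveI : ∀ i, QuasiSeparatedSpace (Dsch.obj i) := fun i => by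
    haveI := (hprops i).2.2
    exact quasiSeparatedSpace_of_quasiSeparated (DZ.obj i).hom
  let c₀ : Cone Dsch := (Over.forget _).mapCone cZ
  have hc₀ : IsLimit c₀ := isLimitOfPreserves (Over.forget _) hcZ
  let eT : c₀.pt ≅ T.left := (Over.forget _).mapIso eZ
  let c₁ : Cone Dsch := { pt := T.left, π := (Functor.const _).map eT.inv ≫ c₀.π }
  have hc₁ : IsLimit c₁ := IsLimit.ofIsoLimit hc₀ (Cone.ext eT (fun j => by simp [c₁]))
  have hc₁π : ∀ j, c₁.π.app j ≫ (DZ.obj j).hom = t' := fun j => by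
    change (eT.inv ≫ (cZ.π.app j).left) ≫ (DZ.obj j).hom = t'
    rw [Category.assoc, Over.w]
    exact Over.w eZ.inv
  -- an affine stage
  haveI : IsAffine c₁.pt := hT
  obtain ⟨μ₀, hμ₀⟩ := Scheme.exists_isAffine_of_isLimit Dsch c₁ hc₁
  -- descend `u`
  obtain ⟨l, Vl, vl, gl, hvl1, hvl2, hvl3, sql⟩ := Groth.Agent.S0591.result Dsch c₁ hc₁ U.left u.left
  haveI := hvl1
  haveI := hvl2
  haveI := hvl3
  haveI : CompactSpace Vl := QuasiCompact.compactSpace_of_compactSpace vl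
  haveI : QuasiSeparatedSpace Vl := quasiSeparatedSpace_of_quasiSeparated vl
  have hY0 : IsPullback (c₁.π.app l) (𝟙 c₁.pt) (𝟙 (Dsch.obj l)) (c₁.π.app l) := by
    haveI : IsIso (𝟙 c₁.pt) := IsIso.id _
    haveI : IsIso (𝟙 (Dsch.obj l)) := IsIso.id _
    exact IsPullback.of_vert_isIso ⟨by simp⟩
  obtain ⟨m₁, φ₁, X₁, Y₁, f₁, g₁, pY₁, pX₁, hY₁, hX₁, h₁⟩ :=
    Groth.Agent.S9192.result Dsch c₁ hc₁ l vl (𝟙 _) u.left (𝟙 _) (c₁.π.app l) gl hY0 sql
  obtain ⟨m₂, φ₂, X₂, Y₂, f₂, g₂, pY₂, pX₂, hY₂, hX₂, h₂⟩ :=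
    Groth.Agent.S2581.result Dsch c₁ hc₁ l vl (𝟙 _) u.left (𝟙 _) (c₁.π.app l) gl hY0 sql
  obtain ⟨m₃, φ₃, X₃, Y₃, f₃, g₃, pY₃, pX₃, hY₃, hX₃, h₃⟩ :=
    Groth.Agent.S9186.result Dsch c₁ hc₁ l vl (𝟙 _) u.left (𝟙 _) (c₁.π.app l) gl hY0 sql
  -- a common stage
  obtain ⟨j, α₁, α₂, hα⟩ := exists_common_stage φ₁ φ₂
  obtain ⟨n', β, β₃, hβ⟩ := exists_common_stage (α₁ ≫ φ₁) φ₃
  let n := IsCofiltered.min n' μ₀
  let γ : n ⟶ n' := IsCofiltered.minToLeft n' μ₀
  let δ : n ⟶ μ₀ := IsCofiltered.minToRight n' μ₀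
  let ξ : n ⟶ l := γ ≫ β ≫ α₁ ≫ φ₁
  have e₁ : (γ ≫ β ≫ α₁) ≫ φ₁ = ξ := by simp [ξ]
  have e₂ : (γ ≫ β ≫ α₂) ≫ φ₂ = ξ := by simp [ξ, hα]
  have e₃ : (γ ≫ β₃) ≫ φ₃ = ξ := by simp [ξ, hβ]
  have k₁ : Etale (pullback.snd vl (Dsch.map ξ)) :=
    e₁ ▸ stage_transfer @Etale Dsch φ₁ (γ ≫ β ≫ α₁) vl f₁ g₁ pY₁ pX₁ hY₁ hX₁ h₁
  have k₂ : Surjective (pullback.snd vl (Dsch.map ξ)) :=
    e₂ ▸ stage_transfer @Surjective Dsch φ₂ (γ ≫ β ≫ α₂) vl f₂ g₂ pY₂ pX₂ hY₂ hX₂ h₂
  have k₃ : IsAffineHom (pullback.snd vl (Dsch.map ξ)) :=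
    e₃ ▸ stage_transfer @IsAffineHom Dsch φ₃ (γ ≫ β₃) vl f₃ g₃ pY₃ pX₃ hY₃ hX₃ h₃
  haveI : IsAffine (Dsch.obj n) := by
    haveI := hμ₀
    exact isAffine_of_isAffineHom (Dsch.map δ)
  haveI : IsAffine (pullback vl (Dsch.map ξ)) := by
    haveI := k₃
    exact isAffine_of_isAffineHom (pullback.snd vl (Dsch.map ξ))
  -- the objects over `S`
  let Z : Over S := Over.mk ((DZ.obj n).hom ≫ S'.ι)
  let V : Over S := Over.mk (pullback.snd vl (Dsch.map ξ) ≫ Z.hom)
  let v : V ⟶ Z := Over.homMk (pullback.snd vl (Dsch.map ξ)) rfl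
  have hz : c₁.π.app n ≫ Z.hom = T.hom := by
    change c₁.π.app n ≫ (DZ.obj n).hom ≫ S'.ι = T.hom
    rw [← Category.assoc, hc₁π, ht']
  let z : T ⟶ Z := Over.homMk (c₁.π.app n) hz
  have hgl : gl ≫ vl = (u.left ≫ c₁.π.app n) ≫ Dsch.map ξ := by
    rw [Category.assoc, c₁.w ξ]
    exact sql.w
  have hg : pullback.lift gl (u.left ≫ c₁.π.app n) hgl ≫ V.hom = U.hom := by
    change pullback.lift gl (u.left ≫ c₁.π.app n) hgl ≫ pullback.snd vl (Dsch.map ξ) ≫ Z.hom = U.hom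
    rw [pullback.lift_snd_assoc, Category.assoc, hz]
    exact Over.w u
  let g : U ⟶ V := Over.homMk (pullback.lift gl (u.left ≫ c₁.π.app n) hgl) hg
  refine ⟨Z, V, z, v, g, inferInstanceAs (IsAffine (Dsch.obj n)),
    inferInstanceAs (IsAffine (pullback vl (Dsch.map ξ))), ?_, k₁, k₂, ?_⟩
  · haveI := (hprops n).1
    exact inferInstanceAs (LocallyOfFinitePresentation ((DZ.obj n).hom ≫ S'.ι))
  · change IsPullback (pullback.lift gl (u.left ≫ c₁.π.app n) hgl) u.left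
      (pullback.snd vl (Dsch.map ξ)) (c₁.π.app n)
    refine IsPullback.of_right ?_ (pullback.lift_snd _ _ _) (IsPullback.of_hasPullback vl (Dsch.map ξ))
    rw [pullback.lift_fst, c₁.w ξ]
    exact sql

end Groth.Agent.Lib.Seat44.EtaleModel
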