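import Mathlib

/-!
# Seat44: constructible sets and cofiltered limits of schemes with affine transition maps

* `exists_preimage_eq_empty` : a constructible subset of a stage whose preimage in the limit is empty has empty
  preimage in some later stage (Stacks 01Z4-type argument from Mathlib's `exists_map_preimage_le_map_preimage`).
* `exists_range_subset_range` : for a system over `V₀` (`t : D ⟶ const V₀`) and `h₀ : U₀ ⟶ V₀` quasi-compact and
  locally of finite presentation with `V₀` qcqs: if the image of the limit in `V₀` lies in the image of `h₀`, so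
  does the image of some stage (Chevalley).
-/

set_option autoImplicit false
set_option backward.isDefEq.respectTransparency false
set_option backward.isDefEq.respectTransparency.types false
universe u
open CategoryTheory CategoryTheory.Limits AlgebraicGeometry TopologicalSpace Topology

namespace Groth.Agent.Lib.Seat44.LimConstr

variable {I : Type u} [Category.{u} I] [IsCofiltered I] (D : I ⥤ Scheme.{u}) (c : Cone D) (hc : IsLimit c)
  [∀ {i j} (f : i ⟶ j), IsAffineHom (D.map f)]

include hc in
/-- a piece `U \ V` (`U` compact open, `V` open) with empty preimage in the limit has empty preimage at a stage. -/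
lemma exists_preimage_sdiff_eq_empty {i : I} (U V : (D.obj i).Opens) (hU : IsCompact (U : Set (D.obj i)))
    (h : c.π.app i ⁻¹' ((U : Set (D.obj i)) \ V) = ∅) :
    ∃ (j : I) (f : j ⟶ i), D.map f ⁻¹' ((U : Set (D.obj i)) \ V) = ∅ := by
  have H : c.π.app i ⁻¹ᵁ U ≤ c.π.app i ⁻¹ᵁ V := by
    intro x hx
    by_contra hxV
    have : x ∈ c.π.app i ⁻¹' ((U : Set (D.obj i)) \ V) := ⟨hx, hxV⟩
    rw [h] at this
    exact this
  obtain ⟨j, f, hj⟩ := exists_map_preimage_le_map_preimage D c hc hU H
  refine ⟨j, f, ?_⟩
  rw [Set.eq_empty_iff_forall_notMem]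
  rintro x ⟨hxU, hxV⟩
  exact hxV (hj hxU)

include hc in
/-- a constructible subset of a stage with empty preimage in the limit has empty preimage at a later stage. -/
theorem exists_preimage_eq_empty {i : I} [CompactSpace (D.obj i)] [QuasiSeparatedSpace (D.obj i)]
    (E : Set (D.obj i)) (hE : IsConstructible E) (h : c.π.app i ⁻¹' E = ∅) :
    ∃ (j : I) (f : j ⟶ i), D.map f ⁻¹' E = ∅ := by
  let ι := {U : (D.obj i).Opens // IsCompact (U : Set (D.obj i))}
  haveI : Nonempty ι := ⟨⟨⊥, by simp⟩⟩
  let b : ι → Set (D.obj i) := fun U => (U.1 : Set (D.obj i))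
  have hbasis : IsTopologicalBasis (Set.range b) := by
    refine IsTopologicalBasis.of_isOpen_of_subset ?_ (D.obj i).isBasis_affineOpens ?_
    · rintro _ ⟨U, rfl⟩
      exact U.1.2
    · rintro _ ⟨U, hU, rfl⟩
      exact ⟨⟨U, IsAffineOpen.isCompact hU⟩, rfl⟩
  revert h
  induction E, hE using IsConstructible.induction_of_isTopologicalBasis b hbasis (fun U => U.2) with
  | sdiff U s hs =>
    intro h
    let V : (D.obj i).Opens := ⨆ j ∈ s, j.1
    have hV : (V : Set (D.obj i)) = ⋃ j ∈ s, b j := by
      simp [V, b]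
    rw [← hV] at h ⊢
    exact exists_preimage_sdiff_eq_empty D c hc U.1 V U.2 h
  | union s hs t ht ihs iht =>
    intro h
    rw [Set.preimage_union, Set.union_empty_iff] at h
    obtain ⟨j₁, f₁, h₁⟩ := ihs h.1
    obtain ⟨j₂, f₂, h₂⟩ := iht h.2
    obtain ⟨k, g₁, g₂, e⟩ := IsCofiltered.cospan f₁ f₂
    refine ⟨k, g₁ ≫ f₁, ?_⟩
    rw [Set.preimage_union, Set.union_empty_iff]
    constructor
    · rw [D.map_comp, Scheme.Hom.comp_base, TopCat.coe_comp, Set.preimage_comp, h₁, Set.preimage_empty]
    · rw [e, D.map_comp, Scheme.Hom.comp_base, TopCat.coe_comp, Set.preimage_comp, h₂, Set.preimage_empty]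

variable {V₀ U₀ : Scheme.{u}} (t : D ⟶ (Functor.const I).obj V₀) (h₀ : U₀ ⟶ V₀)

include hc in
/-- Chevalley + limits: if the image of the limit in `V₀` lies in the image of `h₀`, so does the image of a stage. -/
theorem exists_range_subset_range [∀ i, CompactSpace (D.obj i)] [∀ i, QuasiSeparatedSpace (D.obj i)]
    [CompactSpace V₀] [QuasiSeparatedSpace V₀] [LocallyOfFinitePresentation h₀] [QuasiCompact h₀]
    (i : I) (h : Set.range (c.π.app i ≫ t.app i) ⊆ Set.range h₀) :
    ∃ (j : I) (_ : j ⟶ i), Set.range (t.app j) ⊆ Set.range h₀ := by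
  have hR : IsConstructible (Set.range h₀) := by
    rw [← Set.image_univ]
    exact h₀.isConstructible_image IsConstructible.univ
  have hE : IsConstructible ((t.app i) ⁻¹' (Set.range h₀)ᶜ) :=
    (t.app i).isConstructible_preimage hR.compl
  have hempty : c.π.app i ⁻¹' ((t.app i) ⁻¹' (Set.range h₀)ᶜ) = ∅ := by
    rw [Set.eq_empty_iff_forall_notMem]
    intro x hx
    apply hx
    apply h
    exact ⟨x, rfl⟩
  obtain ⟨j, f, hj⟩ := exists_preimage_eq_empty D c hc _ hE hempty
  refine ⟨j, f, ?_⟩
  rintro _ ⟨y, rfl⟩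
  by_contra hy
  have hnat : D.map f ≫ t.app i = t.app j := by
    have := t.naturality f
    simpa using this
  have : y ∈ D.map f ⁻¹' ((t.app i) ⁻¹' (Set.range h₀)ᶜ) := by
    change (t.app i) ((D.map f) y) ∈ (Set.range h₀)ᶜ
    rw [← Scheme.Hom.comp_apply, hnat]
    exact hy
  rw [hj] at this
  exact this

end Groth.Agent.Lib.Seat44.LimConstr
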