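import Groth.Agent.Lib.Seat44ShfLP

/-!
# Seat44: fibre presheaves of a morphism of sheaves and limit preservation

* `fiber_isSheaf` : the fibre presheaf `AlgSp.fiberFun a T y` of a morphism of fppf sheaves is an fppf sheaf on
  schemes over `T`.
* `liftMap` : for `ηF : F ⟶ F'`, `ηG : G ⟶ G'` with `ηF ≫ a' = a ≫ ηG`, the map of fibre presheaves
  `F_{y₀} ⟶ F'_{ηG y₀}`; it is locally bijective when `ηF` is locally bijective and `ηG` is locally injective.
* `fiber_lp_of_lift` : hence `F'_{ηG y₀}` is limit preserving when `F_{y₀}` is.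
-/

set_option autoImplicit false
set_option backward.isDefEq.respectTransparency false
set_option backward.isDefEq.respectTransparency.types false
universe u
open CategoryTheory CategoryTheory.Limits AlgebraicGeometry Opposite
open AlgSp

namespace Groth.Agent.Lib.Seat44.FiberShf

open Groth.Agent.Lib.Seat44.TopFamily Groth.Agent.Lib.Seat44.ShfLP Groth.Agent.S10111 Groth.Agent.S10067

variable {S : Scheme.{u}}

/-- the fibre presheaf of a morphism of fppf sheaves is an fppf sheaf. -/
theorem fiber_isSheaf {F G : AlgSp.PSp S} (a : F ⟶ G) (hF : Presieve.IsSheaf (AlgSp.J S) F)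
    (hG : Presieve.IsSheaf (AlgSp.J S) G) (T : Over S) (y : G.obj (op T)) :
    Presieve.IsSheaf (AlgSp.J T.left) (AlgSp.fiberFun a T y) := by
  have hFT : Presieve.IsSheaf (AlgSp.J T.left) ((Over.map T.hom).op ⋙ F) :=
    Functor.op_comp_isSheaf_of_isSheaf_type (Over.map T.hom) (AlgSp.J T.left) hF
  have hGT : Presieve.IsSheaf (AlgSp.J T.left) ((Over.map T.hom).op ⋙ G) :=
    Functor.op_comp_isSheaf_of_isSheaf_type (Over.map T.hom) (AlgSp.J T.left) hG
  intro T' R hR x hx
  let x' : Presieve.FamilyOfElements ((Over.map T.hom).op ⋙ F) R.arrows :=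
    fun Z f hf => (x f hf).1
  have hx' : x'.Compatible := fun Y₁ Y₂ Z g₁ g₂ f₁ f₂ h₁ h₂ e =>
    congrArg Subtype.val (hx g₁ g₂ h₁ h₂ e)
  obtain ⟨t, ht, htu⟩ := hFT R hR x' hx'
  have hat : a.app _ t = G.map (overHom T T').op y := by
    refine ext_of_sieve hGT R hR _ _ (fun Z f hf => ?_)
    change G.map ((Over.map T.hom).map f).op (a.app _ t) =
      G.map ((Over.map T.hom).map f).op (G.map (overHom T T').op y)
    rw [← NatTrans.naturality_apply, map_map_apply, map_comp_overHom]
    have h1 : F.map ((Over.map T.hom).map f).op t = (x f hf).1 := ht f hf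
    rw [h1]
    exact (x f hf).2
  refine ⟨⟨t, hat⟩, fun Z f hf => Subtype.ext (ht f hf), fun t' ht' => Subtype.ext ?_⟩
  exact htu t'.1 (fun Z f hf => congrArg Subtype.val (ht' f hf))

section Lift

variable {F G F' G' : AlgSp.PSp S} (a : F ⟶ G) (a' : F' ⟶ G') (ηF : F ⟶ F') (ηG : G ⟶ G')
  (hcomm : ηF ≫ a' = a ≫ ηG)

include hcomm in
lemma comm_apply {Z : Over S} (x : F.obj (op Z)) :
    a'.app (op Z) (ηF.app (op Z) x) = ηG.app (op Z) (a.app (op Z) x) :=
  ConcreteCategory.congr_hom (NatTrans.congr_app hcomm (op Z)) x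

/-- the map of fibre presheaves induced by a commutative square. -/
def liftMap (T : Over S) (y₀ : G.obj (op T)) :
    AlgSp.fiberFun a T y₀ ⟶ AlgSp.fiberFun a' T (ηG.app (op T) y₀) where
  app T' := ↾fun x => ⟨ηF.app _ x.1, by
    rw [comm_apply a a' ηF ηG hcomm, x.2]
    exact NatTrans.naturality_apply ηG _ y₀⟩
  naturality T' T'' f := by
    ext x
    apply Subtype.ext
    exact NatTrans.naturality_apply ηF ((Over.map T.hom).map f.unop).op x.1

variable (hsurjF : ∀ (T : Over S) (g : F'.obj (op T)), ∃ R ∈ AlgSp.J S T, ∀ ⦃Z : Over S⦄ (f : Z ⟶ T),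
    R.arrows f → ∃ x : F.obj (op Z), ηF.app (op Z) x = F'.map f.op g)
  (hinjF : ∀ (T : Over S) (x y : F.obj (op T)), ηF.app (op T) x = ηF.app (op T) y →
    ∃ R ∈ AlgSp.J S T, ∀ ⦃Z : Over S⦄ (f : Z ⟶ T), R.arrows f → F.map f.op x = F.map f.op y)
  (hinjG : ∀ (T : Over S) (x y : G.obj (op T)), ηG.app (op T) x = ηG.app (op T) y →
    ∃ R ∈ AlgSp.J S T, ∀ ⦃Z : Over S⦄ (f : Z ⟶ T), R.arrows f → G.map f.op x = G.map f.op y)

/-- the sieve of arrows over which a section `s` of `F'` lifts to a section of `F` lying over `y₀`. -/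
def liftSieve {T A : Over S} (y₀ : G.obj (op T)) (q : A ⟶ T) (s : F'.obj (op A)) : Sieve A where
  arrows Z z := ∃ x : F.obj (op Z), ηF.app _ x = F'.map z.op s ∧ a.app _ x = G.map (z ≫ q).op y₀
  downward_closed := by
    rintro Z W z ⟨x, hx1, hx2⟩ w
    refine ⟨F.map w.op x, ?_, ?_⟩
    · rw [NatTrans.naturality_apply, hx1]
      exact map_map_apply w z s
    · rw [NatTrans.naturality_apply, hx2, Category.assoc]
      exact map_map_apply w (z ≫ q) y₀

include hcomm hsurjF hinjG in
lemma liftSieve_mem {T A : Over S} (y₀ : G.obj (op T)) (q : A ⟶ T) (s : F'.obj (op A))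
    (hs : a'.app _ s = G'.map q.op (ηG.app _ y₀)) :
    liftSieve a ηF y₀ q s ∈ AlgSp.J S A := by
  obtain ⟨R₁, hR₁, h₁⟩ := hsurjF A s
  refine (AlgSp.J S).transitive hR₁ _ (fun Z z hz => ?_)
  obtain ⟨x, hx⟩ := h₁ z hz
  have e : ηG.app _ (a.app _ x) = ηG.app _ (G.map (z ≫ q).op y₀) := by
    rw [← comm_apply a a' ηF ηG hcomm, hx, NatTrans.naturality_apply, hs,
      NatTrans.naturality_apply]
    exact map_map_apply z q _
  obtain ⟨R₂, hR₂, h₂⟩ := hinjG Z _ _ e
  refine (AlgSp.J S).superset_covering (fun W w hw => ?_) hR₂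
  refine ⟨F.map w.op x, ?_, ?_⟩
  · rw [NatTrans.naturality_apply, hx]
    exact map_map_apply w z s
  · rw [NatTrans.naturality_apply, h₂ w hw, Category.assoc]
    exact map_map_apply w (z ≫ q) y₀

include hcomm hsurjF hinjG in
lemma liftMap_locally_surjective (T : Over S) (y₀ : G.obj (op T)) (T' : Over T.left)
    (g : (AlgSp.fiberFun a' T (ηG.app (op T) y₀)).obj (op T')) :
    ∃ R ∈ AlgSp.J T.left T', ∀ ⦃Z : Over T.left⦄ (f : Z ⟶ T'), R.arrows f →
      ∃ x : (AlgSp.fiberFun a T y₀).obj (op Z),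
        (liftMap a a' ηF ηG hcomm T y₀).app (op Z) x =
          (AlgSp.fiberFun a' T (ηG.app (op T) y₀)).map f.op g := by
  have hB := liftSieve_mem a a' ηF ηG hcomm hsurjF hinjG y₀ (overHom T T') g.1 g.2
  refine ⟨(liftSieve a ηF y₀ (overHom T T') g.1).functorPullback (Over.map T.hom),
    Functor.cover_lift (Over.map T.hom) (AlgSp.J T.left) (AlgSp.J S) hB, fun Z f hf => ?_⟩
  obtain ⟨x, hx1, hx2⟩ := hf
  refine ⟨⟨x, ?_⟩, Subtype.ext hx1⟩
  rw [hx2, map_comp_overHom]

include hinjF in
lemma liftMap_locally_injective (T : Over S) (y₀ : G.obj (op T)) (T' : Over T.left)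
    (x x' : (AlgSp.fiberFun a T y₀).obj (op T'))
    (h : (liftMap a a' ηF ηG hcomm T y₀).app (op T') x =
      (liftMap a a' ηF ηG hcomm T y₀).app (op T') x') :
    ∃ R ∈ AlgSp.J T.left T', ∀ ⦃Z : Over T.left⦄ (f : Z ⟶ T'), R.arrows f →
      (AlgSp.fiberFun a T y₀).map f.op x = (AlgSp.fiberFun a T y₀).map f.op x' := by
  have h' : ηF.app _ x.1 = ηF.app _ x'.1 := congrArg Subtype.val h
  obtain ⟨R₁, hR₁, h₁⟩ := hinjF _ _ _ h'
  refine ⟨R₁.functorPullback (Over.map T.hom),
    Functor.cover_lift (Over.map T.hom) (AlgSp.J T.left) (AlgSp.J S) hR₁, fun Z f hf => ?_⟩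
  exact Subtype.ext (h₁ _ hf)

include hcomm hsurjF hinjF hinjG in
/-- if the fibre presheaf `F_{y₀}` is limit preserving, so is the fibre sheaf `F'_{ηG y₀}`. -/
theorem fiber_lp_of_lift (hF' : Presieve.IsSheaf (AlgSp.J S) F')
    (hG' : Presieve.IsSheaf (AlgSp.J S) G') (T : Over S) (y₀ : G.obj (op T))
    (hlp : AlgSp.IsLimitPreserving (AlgSp.fiberFun a T y₀)) :
    AlgSp.IsLimitPreserving (AlgSp.fiberFun a' T (ηG.app (op T) y₀)) :=
  isLimitPreserving_of_locally_bijective (P := @Flat ⊓ @LocallyOfFinitePresentation) adm_fppf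
    (AlgSp.fiberFun a T y₀) (AlgSp.fiberFun a' T (ηG.app (op T) y₀))
    (liftMap a a' ηF ηG hcomm T y₀) (fiber_isSheaf a' hF' hG' T _)
    (fun T' g => liftMap_locally_surjective a a' ηF ηG hcomm hsurjF hinjG T y₀ T' g)
    (fun T' x x' h => liftMap_locally_injective a a' ηF ηG hcomm hinjF T y₀ T' x x' h)
    hlp

end Lift

section Restrict

variable {F G : AlgSp.PSp S} (a : F ⟶ G) (T : Over S) (y : G.obj (op T)) (U : Over T.left)

/-- the comparison `X/U/T ≅ X/(U/T)` of schemes over `S`. -/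
def ε (X : Over U.left) : (Over.map ((Over.map T.hom).obj U).hom).obj X ≅
    (Over.map T.hom).obj ((Over.map U.hom).obj X) :=
  Over.isoMk (Iso.refl _) (by simp)

lemma ε_hom_overHom (X : Over U.left) :
    (ε T U X).hom ≫ overHom T ((Over.map U.hom).obj X) =
      overHom ((Over.map T.hom).obj U) X ≫ overHom T U := by
  ext
  simp [ε]

lemma ε_inv_overHom (X : Over U.left) :
    (ε T U X).inv ≫ overHom ((Over.map T.hom).obj U) X ≫ overHom T U =
      overHom T ((Over.map U.hom).obj X) := by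
  rw [← ε_hom_overHom, Iso.inv_hom_id_assoc]

lemma ε_naturality {X X' : Over U.left} (f : X ⟶ X') :
    (ε T U X).hom ≫ (Over.map T.hom).map ((Over.map U.hom).map f) =
      (Over.map ((Over.map T.hom).obj U).hom).map f ≫ (ε T U X').hom := by
  ext
  simp [ε]

omit T y U in
lemma transfer {A B C : Over S} (e : B ⟶ A) (p : A ⟶ C) (q : B ⟶ C) (h : e ≫ p = q)
    (y : G.obj (op C)) (x : F.obj (op A)) (hx : a.app _ x = G.map p.op y) :
    a.app _ (F.map e.op x) = G.map q.op y :=
  (NatTrans.naturality_apply a e.op x).trans ((congrArg (G.map e.op) hx).trans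
    ((map_map_apply e p y).trans (by rw [h])))

/-- restricting a fibre presheaf to schemes over `U ⟶ T` gives the fibre presheaf over `U`. -/
def restrictIso : (Over.map U.hom).op ⋙ AlgSp.fiberFun a T y ≅
    AlgSp.fiberFun a ((Over.map T.hom).obj U) (G.map (overHom T U).op y) :=
  NatIso.ofComponents (fun X => Equiv.toIso
    { toFun := fun x => ⟨F.map (ε T U X.unop).hom.op x.1,
        (transfer a (ε T U X.unop).hom _ _ (ε_hom_overHom T U X.unop) y x.1 x.2).trans
          (map_map_apply _ _ _).symm⟩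
      invFun := fun x => ⟨F.map (ε T U X.unop).inv.op x.1,
        transfer a (ε T U X.unop).inv _ _ (ε_inv_overHom T U X.unop) y x.1
          (x.2.trans (map_map_apply _ _ _))⟩
      left_inv := fun x => by
        apply Subtype.ext
        change F.map (ε T U X.unop).inv.op (F.map (ε T U X.unop).hom.op x.1) = x.1
        rw [map_map_apply, Iso.inv_hom_id]
        exact map_id_apply' _ rfl _
      right_inv := fun x => by
        apply Subtype.ext
        change F.map (ε T U X.unop).hom.op (F.map (ε T U X.unop).inv.op x.1) = x.1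
        rw [map_map_apply, Iso.hom_inv_id]
        exact map_id_apply' _ rfl _ })
    (fun {X X'} f => by
      ext x
      apply Subtype.ext
      change F.map (ε T U X'.unop).hom.op
          (F.map ((Over.map T.hom).map ((Over.map U.hom).map f.unop)).op x.1) =
        F.map ((Over.map ((Over.map T.hom).obj U).hom).map f.unop).op
          (F.map (ε T U X.unop).hom.op x.1)
      rw [map_map_apply, map_map_apply, ε_naturality])

end Restrict

end Groth.Agent.Lib.Seat44.FiberShf
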