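import Mathlib

/-!
# Quasi-compact monomorphisms from étale schemes over a field are closed immersions (seat 44)

* `isClosedImmersion_of_mono_of_etale_field`: `ι : Z ⟶ U` a quasi-compact monomorphism of schemes over a
  field `k` with `Z` étale over `k` is a closed immersion.
-/

set_option autoImplicit false
universe u
open CategoryTheory CategoryTheory.Limits AlgebraicGeometry

namespace Groth.Agent.Lib.Seat44.FieldClosed

theorem locallyQuasiFinite_of_etale {X S : Scheme.{u}} (f : X ⟶ S) [Etale f] :
    LocallyQuasiFinite f := by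
  constructor
  intro U hU V hV e
  have h1 := f.etale_appLE hU hV e
  algebraize [(f.appLE U V e).hom]
  have : Algebra.Etale Γ(S, U) Γ(X, V) := h1
  exact RingHom.quasiFinite_algebraMap.mpr inferInstance

/-- A quasi-compact monomorphism `ι : Z ⟶ U` of schemes over a field `k`, with `Z` étale over `k`, is a
closed immersion. -/
theorem isClosedImmersion_of_mono_of_etale_field {k : Type u} [Field k] {Z U : Scheme.{u}}
    (ι : Z ⟶ U) (s : U ⟶ Spec (CommRingCat.of k)) [Mono ι] [QuasiCompact ι] (h : Etale (ι ≫ s)) :
    IsClosedImmersion ι := by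
  rw [IsZariskiLocalAtTarget.iff_of_openCover (P := @IsClosedImmersion) U.affineCover]
  intro i
  change IsClosedImmersion (pullback.snd ι (U.affineCover.f i))
  set f := pullback.snd ι (U.affineCover.f i) with hf
  haveI : CompactSpace ↥(pullback ι (U.affineCover.f i)) :=
    QuasiCompact.compactSpace_of_compactSpace f
  have hcomp : f ≫ (U.affineCover.f i ≫ s) = pullback.fst ι (U.affineCover.f i) ≫ (ι ≫ s) := by
    rw [hf, ← Category.assoc, ← pullback.condition, Category.assoc]
  haveI : Etale (f ≫ (U.affineCover.f i ≫ s)) := by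
    rw [hcomp]; infer_instance
  haveI : LocallyQuasiFinite (f ≫ (U.affineCover.f i ≫ s)) := locallyQuasiFinite_of_etale _
  haveI : QuasiCompact (f ≫ (U.affineCover.f i ≫ s)) :=
    (quasiCompact_iff_compactSpace _).mpr inferInstance
  haveI : IsFinite (f ≫ (U.affineCover.f i ≫ s)) := IsFinite.of_locallyQuasiFinite _
  haveI : IsFinite f := IsFinite.of_comp f (U.affineCover.f i ≫ s)
  exact (IsClosedImmersion.iff_isFinite_and_mono f).mpr ⟨inferInstance, inferInstance⟩

end Groth.Agent.Lib.Seat44.FieldClosed
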