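import Mathlib
import Groth.Prelude.Def_AlgSpGpd

/-!
# Seat44: for a groupoid `(U, R, s, t, c)`, the diagonal of `j : R ⟶ U ×_B U` is a base change of the unit
section of the stabilizer

The square
```
R ----Δ_j----> R ×_{U ×_B U} R
| s               | (r, r') ↦ r⁻¹ ∘ r'
v                 v
U -----e----->  stabilizer
```
is cartesian.
-/

set_option autoImplicit false
universe u

open CategoryTheory CategoryTheory.Limits AlgebraicGeometry AlgSp

namespace Groth.Agent.Lib.Seat44.GpdDiag

variable {S : Scheme.{u}} {B : AlgSp.Sp S} (G : AlgSp.GroupoidSp B)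

/-- composition on `T`-valued points -/
noncomputable def cmp {T : AlgSp.Sp S} (α β : T ⟶ G.R) (h : α ≫ G.s = β ≫ G.t) : T ⟶ G.R :=
  pullback.lift α β h ≫ G.c

lemma cmp_s {T : AlgSp.Sp S} (α β : T ⟶ G.R) (h : α ≫ G.s = β ≫ G.t) :
    cmp G α β h ≫ G.s = β ≫ G.s := G.comp_s α β h

lemma cmp_t {T : AlgSp.Sp S} (α β : T ⟶ G.R) (h : α ≫ G.s = β ≫ G.t) :
    cmp G α β h ≫ G.t = α ≫ G.t := G.comp_t α β h

lemma cmp_congr {T : AlgSp.Sp S} {α α' β β' : T ⟶ G.R} (h : α ≫ G.s = β ≫ G.t) (hα : α = α')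
    (hβ : β = β') : cmp G α β h = cmp G α' β' (by rw [← hα, ← hβ, h]) := by
  subst hα; subst hβ; rfl

lemma comp_cmp {T T' : AlgSp.Sp S} (p : T' ⟶ T) (α β : T ⟶ G.R) (h : α ≫ G.s = β ≫ G.t) :
    p ≫ cmp G α β h = cmp G (p ≫ α) (p ≫ β) (by rw [Category.assoc, Category.assoc, h]) := by
  unfold cmp
  rw [← Category.assoc]
  congr 1
  apply pullback.hom_ext
  · rw [Category.assoc, pullback.lift_fst, pullback.lift_fst]
  · rw [Category.assoc, pullback.lift_snd, pullback.lift_snd]

lemma fst_t_eq : pullback.fst G.j G.j ≫ G.t = pullback.snd G.j G.j ≫ G.t := by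
  rw [← G.j_fst, ← Category.assoc, pullback.condition, Category.assoc]

lemma fst_s_eq : pullback.fst G.j G.j ≫ G.s = pullback.snd G.j G.j ≫ G.s := by
  rw [← G.j_snd, ← Category.assoc, pullback.condition, Category.assoc]

lemma delta_aux : (pullback.fst G.j G.j ≫ G.i) ≫ G.s = pullback.snd G.j G.j ≫ G.t := by
  rw [Category.assoc, G.i_s, fst_t_eq]

/-- `(r, r') ↦ r⁻¹ ∘ r'` as a map to `R`. -/
noncomputable def deltaR : pullback G.j G.j ⟶ G.R :=
  cmp G (pullback.fst G.j G.j ≫ G.i) (pullback.snd G.j G.j) (delta_aux G)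

lemma deltaR_comp_j : deltaR G ≫ G.j = (pullback.fst G.j G.j ≫ G.s) ≫ G.diag := by
  apply pullback.hom_ext
  · rw [Category.assoc, G.j_fst]
    unfold deltaR
    rw [cmp_t, Category.assoc, G.i_t]
    unfold AlgSp.GroupoidSp.diag
    rw [Category.assoc, pullback.lift_fst, Category.comp_id]
  · rw [Category.assoc, G.j_snd]
    unfold deltaR
    rw [cmp_s, ← fst_s_eq]
    unfold AlgSp.GroupoidSp.diag
    rw [Category.assoc, pullback.lift_snd, Category.comp_id]

/-- `(r, r') ↦ r⁻¹ ∘ r'` as a map to the stabilizer. -/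
noncomputable def delta : pullback G.j G.j ⟶ G.stabilizer :=
  pullback.lift (deltaR G) (pullback.fst G.j G.j ≫ G.s) (deltaR_comp_j G)

lemma delta_ι : delta G ≫ G.stabilizerι = deltaR G := pullback.lift_fst _ _ _

lemma delta_toU : delta G ≫ G.stabilizerToU = pullback.fst G.j G.j ≫ G.s := pullback.lift_snd _ _ _

/-- A lift of the identity to the stabilizer is a section of the stabilizer. -/
lemma eG_toU (eG : G.U ⟶ G.stabilizer) (heG : eG ≫ G.stabilizerι = G.e) :
    eG ≫ G.stabilizerToU = 𝟙 G.U := by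
  have hcond : G.stabilizerι ≫ G.j = G.stabilizerToU ≫ G.diag := pullback.condition
  have h : eG ≫ G.stabilizerι ≫ G.j = eG ≫ G.stabilizerToU ≫ G.diag := by
    rw [hcond]
  have h2 := congrArg (fun m => m ≫ pullback.fst G.pU G.pU) h
  simp only [Category.assoc, G.j_fst] at h2
  rw [← Category.assoc, heG, G.e_t] at h2
  unfold AlgSp.GroupoidSp.diag at h2
  rw [pullback.lift_fst, Category.comp_id] at h2
  exact h2.symm

/-- left cancellation: `r' = r ∘ (r⁻¹ ∘ r')`. -/
lemma eq_of_inv_cmp_eq {T : AlgSp.Sp S} (r r' : T ⟶ G.R) (ht : r ≫ G.t = r' ≫ G.t)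
    (_hs : r ≫ G.s = r' ≫ G.s)
    (h : cmp G (r ≫ G.i) r' (by rw [Category.assoc, G.i_s, ht]) = r ≫ G.s ≫ G.e) : r = r' := by
  have h1 : r ≫ G.s = (r ≫ G.i) ≫ G.t := by rw [Category.assoc, G.i_t]
  have h2 : (r ≫ G.i) ≫ G.s = r' ≫ G.t := by rw [Category.assoc, G.i_s, ht]
  have assoc := G.assoc r (r ≫ G.i) r' h1 h2
  -- left side: (r ∘ r⁻¹) ∘ r' = e(t r) ∘ r' = r'
  have hl : pullback.lift (pullback.lift r (r ≫ G.i) h1 ≫ G.c) r'
      ((G.comp_s r (r ≫ G.i) h1).trans h2) ≫ G.c = r' := by
    have e1 : pullback.lift r (r ≫ G.i) h1 ≫ G.c = r' ≫ G.t ≫ G.e := by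
      rw [G.comp_i r, ← Category.assoc, ht, Category.assoc]
    refine Eq.trans ?_ (G.e_comp r')
    congr 1
    apply pullback.hom_ext
    · rw [pullback.lift_fst, pullback.lift_fst, e1]
    · rw [pullback.lift_snd, pullback.lift_snd]
  -- right side: r ∘ (r⁻¹ ∘ r') = r ∘ e(s r) = r
  have hr : pullback.lift r (pullback.lift (r ≫ G.i) r' h2 ≫ G.c)
      (h1.trans (G.comp_t (r ≫ G.i) r' h2).symm) ≫ G.c = r := by
    have e1 : pullback.lift (r ≫ G.i) r' h2 ≫ G.c = r ≫ G.s ≫ G.e := h
    refine Eq.trans ?_ (G.comp_e r)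
    congr 1
    apply pullback.hom_ext
    · rw [pullback.lift_fst, pullback.lift_fst]
    · rw [pullback.lift_snd, pullback.lift_snd, e1]
  rw [← hr, ← assoc, hl]

/-- The diagonal of `j` is the base change of the unit section of the stabilizer. -/
theorem isPullback_diagonal_j (eG : G.U ⟶ G.stabilizer) (heG : eG ≫ G.stabilizerι = G.e) :
    IsPullback (pullback.diagonal G.j) G.s (delta G) eG := by
  have hsec := eG_toU G eG heG
  refine ⟨⟨?_⟩, ⟨PullbackCone.IsLimit.mk _ (fun c => c.fst ≫ pullback.fst G.j G.j) ?_ ?_ ?_⟩⟩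
  · -- commutativity
    apply pullback.hom_ext
    · change (pullback.diagonal G.j ≫ delta G) ≫ G.stabilizerι = (G.s ≫ eG) ≫ G.stabilizerι
      rw [Category.assoc, delta_ι, Category.assoc, heG]
      unfold deltaR
      rw [comp_cmp]
      have := G.i_comp (𝟙 G.R)
      simp only [Category.id_comp] at this
      rw [← this]
      unfold cmp
      congr 1
      apply pullback.hom_ext
      · rw [pullback.lift_fst, pullback.lift_fst, ← Category.assoc, pullback.diagonal_fst, Category.id_comp]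
      · rw [pullback.lift_snd, pullback.lift_snd, pullback.diagonal_snd]
    · change (pullback.diagonal G.j ≫ delta G) ≫ G.stabilizerToU = (G.s ≫ eG) ≫ G.stabilizerToU
      rw [Category.assoc, delta_toU, Category.assoc, hsec, ← Category.assoc, pullback.diagonal_fst,
        Category.id_comp, Category.comp_id]
  · intro c
    have hc := c.condition
    have hc1 : c.fst ≫ deltaR G = c.snd ≫ G.e := by
      have := congrArg (fun m => m ≫ G.stabilizerι) hc
      simpa only [Category.assoc, delta_ι, heG] using this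
    have hc2 : c.fst ≫ pullback.fst G.j G.j ≫ G.s = c.snd := by
      have := congrArg (fun m => m ≫ G.stabilizerToU) hc
      simpa only [Category.assoc, delta_toU, hsec, Category.comp_id] using this
    have hrr : c.fst ≫ pullback.fst G.j G.j = c.fst ≫ pullback.snd G.j G.j := by
      have ht : (c.fst ≫ pullback.fst G.j G.j) ≫ G.t = (c.fst ≫ pullback.snd G.j G.j) ≫ G.t := by
        rw [Category.assoc, Category.assoc, fst_t_eq]
      have hs : (c.fst ≫ pullback.fst G.j G.j) ≫ G.s = (c.fst ≫ pullback.snd G.j G.j) ≫ G.s := by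
        rw [Category.assoc, Category.assoc, fst_s_eq]
      refine eq_of_inv_cmp_eq G _ _ ht hs ?_
      have hR : (c.fst ≫ pullback.fst G.j G.j) ≫ G.s ≫ G.e = c.fst ≫ deltaR G := by
        rw [hc1, ← hc2]
        simp only [Category.assoc]
      rw [hR]
      unfold deltaR
      rw [comp_cmp]
      exact cmp_congr G _ (Category.assoc _ _ _) rfl
    apply pullback.hom_ext
    · rw [Category.assoc, pullback.diagonal_fst, Category.comp_id]
    · rw [Category.assoc, pullback.diagonal_snd, Category.comp_id, hrr]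
  · intro c
    have hc := c.condition
    have := congrArg (fun m => m ≫ G.stabilizerToU) hc
    simpa only [Category.assoc, delta_toU, hsec, Category.comp_id] using this
  · intro c m h1 _
    rw [← h1, Category.assoc, pullback.diagonal_fst, Category.comp_id]

end Groth.Agent.Lib.Seat44.GpdDiag
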