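import Mathlib
import Groth.Prelude.Def_AlgSpGpd

/-!
# Seat44: restriction of a groupoid: `s'`, `t'` are composites of base changes of `g`, `s`, `t`

For a restriction `(U', R', s', t')` of `(U, R, s, t)` along `g : U' ⟶ U`, the map
`R' ⟶ U' ×_{g, U, t} R` is a base change of `g`, and `U' ×_{g, U, t} R ⟶ U'` is a base change of `t`; their
composite is `t'`.  Symmetrically for `s'`.
-/

set_option autoImplicit false
universe u v

open CategoryTheory CategoryTheory.Limits

namespace Groth.Agent.Lib.Seat44.GpdRestrict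

section General

variable {C : Type u} [Category.{v} C] [HasPullbacks C]

/-- Abstract form: `R'` has the universal property of `U' ×_U R ×_U U'` with respect to `a, b : R ⟶ U`. -/
theorem isPullback_of_univ {U U' R R' : C} (g : U' ⟶ U) (a b : R ⟶ U) (a' b' : R' ⟶ U') (fR : R' ⟶ R)
    (ha : fR ≫ a = a' ≫ g) (hb : fR ≫ b = b' ≫ g)
    (hex : ∀ {T : C} (r : T ⟶ R) (x y : T ⟶ U'), x ≫ g = r ≫ a → y ≫ g = r ≫ b →
      ∃ r' : T ⟶ R', r' ≫ fR = r ∧ r' ≫ a' = x ∧ r' ≫ b' = y)
    (huniq : ∀ {T : C} (r₁ r₂ : T ⟶ R'), r₁ ≫ fR = r₂ ≫ fR → r₁ ≫ a' = r₂ ≫ a' → r₁ ≫ b' = r₂ ≫ b' →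
      r₁ = r₂) :
    IsPullback (pullback.lift a' fR ha.symm : R' ⟶ pullback g a) b' (pullback.snd g a ≫ b) g := by
  refine ⟨⟨?_⟩, ⟨PullbackCone.IsLimit.mk _
    (fun c => (hex (c.fst ≫ pullback.snd g a) (c.fst ≫ pullback.fst g a) c.snd
      (by rw [Category.assoc, Category.assoc, pullback.condition])
      (by rw [Category.assoc]; exact c.condition.symm)).choose) ?_ ?_ ?_⟩⟩
  · rw [← Category.assoc, pullback.lift_snd, hb]
  · intro c
    obtain ⟨h1, h2, _⟩ := (hex (c.fst ≫ pullback.snd g a) (c.fst ≫ pullback.fst g a) c.snd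
      (by rw [Category.assoc, Category.assoc, pullback.condition])
      (by rw [Category.assoc]; exact c.condition.symm)).choose_spec
    apply pullback.hom_ext
    · rw [Category.assoc, pullback.lift_fst, h2]
    · rw [Category.assoc, pullback.lift_snd, h1]
  · intro c
    exact (hex (c.fst ≫ pullback.snd g a) (c.fst ≫ pullback.fst g a) c.snd
      (by rw [Category.assoc, Category.assoc, pullback.condition])
      (by rw [Category.assoc]; exact c.condition.symm)).choose_spec.2.2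
  · intro c m hm1 hm2
    obtain ⟨h1, h2, h3⟩ := (hex (c.fst ≫ pullback.snd g a) (c.fst ≫ pullback.fst g a) c.snd
      (by rw [Category.assoc, Category.assoc, pullback.condition])
      (by rw [Category.assoc]; exact c.condition.symm)).choose_spec
    apply huniq
    · rw [h1, ← hm1, Category.assoc, pullback.lift_snd]
    · rw [h2, ← hm1, Category.assoc, pullback.lift_fst]
    · rw [h3, hm2]

end General

section Groupoid

open AlgebraicGeometry AlgSp

variable {S : Scheme.{u}} {B : AlgSp.Sp S} {G' G : AlgSp.GroupoidSp B} (φ : AlgSp.GroupoidSp.Hom G' G)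

lemma exists_lift_of_isRestriction (hφ : φ.IsRestriction) {T : AlgSp.Sp S} (r : T ⟶ G.R)
    (x y : T ⟶ G'.U) (hx : x ≫ φ.fU = r ≫ G.t) (hy : y ≫ φ.fU = r ≫ G.s) :
    ∃ r' : T ⟶ G'.R, r' ≫ φ.fR = r ∧ r' ≫ G'.t = x ∧ r' ≫ G'.s = y := by
  have hxy : x ≫ G'.pU = y ≫ G'.pU := by
    rw [← φ.fU_over, ← Category.assoc, hx, ← Category.assoc, hy, Category.assoc, Category.assoc,
      G.t_over, G.s_over]
  obtain ⟨l, hl1, hl2⟩ := hφ.exists_lift r (pullback.lift x y hxy) (by
    apply pullback.hom_ext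
    · rw [Category.assoc, G.j_fst]
      unfold AlgSp.GroupoidSp.Hom.prodMap
      rw [Category.assoc, pullback.lift_fst, ← Category.assoc, pullback.lift_fst, hx]
    · rw [Category.assoc, G.j_snd]
      unfold AlgSp.GroupoidSp.Hom.prodMap
      rw [Category.assoc, pullback.lift_snd, ← Category.assoc, pullback.lift_snd, hy])
  refine ⟨l, hl1, ?_, ?_⟩
  · have := congrArg (fun m => m ≫ pullback.fst _ _) hl2
    simpa only [Category.assoc, G'.j_fst, pullback.lift_fst] using this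
  · have := congrArg (fun m => m ≫ pullback.snd _ _) hl2
    simpa only [Category.assoc, G'.j_snd, pullback.lift_snd] using this

lemma uniq_of_isRestriction (hφ : φ.IsRestriction) {T : AlgSp.Sp S} (r₁ r₂ : T ⟶ G'.R)
    (h1 : r₁ ≫ φ.fR = r₂ ≫ φ.fR) (h2 : r₁ ≫ G'.t = r₂ ≫ G'.t) (h3 : r₁ ≫ G'.s = r₂ ≫ G'.s) :
    r₁ = r₂ := by
  apply hφ.hom_ext h1
  apply pullback.hom_ext
  · rw [Category.assoc, Category.assoc, G'.j_fst, h2]
  · rw [Category.assoc, Category.assoc, G'.j_snd, h3]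

/-- `R' ⟶ U' ×_{g, U, t} R` is the base change of `g` along `U' ×_{g, U, t} R ⟶ R ⟶ U` (via `s`). -/
theorem isPullback_t (hφ : φ.IsRestriction) :
    IsPullback (pullback.lift G'.t φ.fR φ.comm_t.symm : G'.R ⟶ pullback φ.fU G.t) G'.s
      (pullback.snd φ.fU G.t ≫ G.s) φ.fU :=
  isPullback_of_univ φ.fU G.t G.s G'.t G'.s φ.fR φ.comm_t φ.comm_s
    (fun r x y hx hy => exists_lift_of_isRestriction φ hφ r x y hx hy)
    (fun r₁ r₂ h1 h2 h3 => uniq_of_isRestriction φ hφ r₁ r₂ h1 h2 h3)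

/-- `R' ⟶ U' ×_{g, U, s} R` is the base change of `g` along `U' ×_{g, U, s} R ⟶ R ⟶ U` (via `t`). -/
theorem isPullback_s (hφ : φ.IsRestriction) :
    IsPullback (pullback.lift G'.s φ.fR φ.comm_s.symm : G'.R ⟶ pullback φ.fU G.s) G'.t
      (pullback.snd φ.fU G.s ≫ G.t) φ.fU :=
  isPullback_of_univ φ.fU G.s G.t G'.s G'.t φ.fR φ.comm_s φ.comm_t
    (fun r x y hx hy => by
      obtain ⟨r', h1, h2, h3⟩ := exists_lift_of_isRestriction φ hφ r y x hy hx
      exact ⟨r', h1, h3, h2⟩)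
    (fun r₁ r₂ h1 h2 h3 => uniq_of_isRestriction φ hφ r₁ r₂ h1 h3 h2)

end Groupoid

end Groth.Agent.Lib.Seat44.GpdRestrict
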