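import Mathlib
import Groth.Prelude.Def_AlgSpGpd

/-!
# Seat44: the diagonal of a group object is a base change of its unit

In a cartesian monoidal category, for a group object `G`, the square
```
G ---(id,id)---> G ⊗ G
|                  | (g, g') ↦ g⁻¹ g'
v                  v
𝟙 -------η------>  G
```
is cartesian.  Specialised to `Over B` for a sheaf `B`, and pushed to `Sp S` by the forgetful functor.
-/

set_option autoImplicit false
universe u v

open CategoryTheory CategoryTheory.Limits MonoidalCategory CartesianMonoidalCategory MonObj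

namespace Groth.Agent.Lib.Seat44.GrpDiag

section General

variable {C : Type u} [Category.{v} C] [CartesianMonoidalCategory C] (G : C) [GrpObj G]

/-- `(g, g') ↦ g⁻¹ g'` -/
noncomputable def divMap : G ⊗ G ⟶ G := (fst G G)⁻¹ * snd G G

lemma comp_divMap {T : C} (a : T ⟶ G ⊗ G) : a ≫ divMap G = (a ≫ fst G G)⁻¹ * (a ≫ snd G G) := by
  unfold divMap
  rw [MonObj.comp_mul, GrpObj.comp_inv]

/-- The diagonal of a group object is the base change of the unit along `(g, g') ↦ g⁻¹ g'`. -/
theorem isPullback_diag_unit :
    IsPullback (lift (𝟙 G) (𝟙 G)) (toUnit G) (divMap G) η[G] := by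
  refine ⟨⟨?_⟩, ⟨PullbackCone.IsLimit.mk _ (fun s => s.fst ≫ fst G G) ?_ ?_ ?_⟩⟩
  · rw [comp_divMap, lift_fst, lift_snd, inv_mul_cancel, Hom.one_def]
  · intro s
    have h := s.condition
    rw [comp_divMap] at h
    have h1 : s.snd ≫ η[G] = 1 := by
      rw [Hom.one_def]; congr 1; exact toUnit_unique _ _
    rw [h1, inv_mul_eq_one] at h
    apply CartesianMonoidalCategory.hom_ext
    · simp
    · simp [h]
  · intro s
    exact toUnit_unique _ _
  · intro s m h1 _
    rw [← h1]
    simp

end General

section Sheaves

open AlgebraicGeometry AlgSp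

variable {S : Scheme.{u}} {B : AlgSp.Sp S} (G : Over B) [GrpObj G]

/-- For a group sheaf `G` over `B`, the relative diagonal `G ⟶ G ×_B G` is the base change of the unit section
`B ⟶ G` along `(g, g') ↦ g⁻¹ g'`, as a cartesian square of sheaves. -/
theorem isPullback_diagonal_unit_left :
    IsPullback (pullback.diagonal G.hom) G.hom (divMap G).left (η[G]).left := by
  have h := (isPullback_diag_unit G).map (Over.forget B)
  exact h

/-- The unit is a section of the structure map. -/
theorem unit_left_comp_hom : (η[G]).left ≫ G.hom = 𝟙 B := by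
  simp

end Sheaves

end Groth.Agent.Lib.Seat44.GrpDiag
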