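import Mathlib
import Groth.Prelude.Def_AlgSpGpd

/-!
# Seat44: the multiplication of a group object is a base change of its structure map

In a cartesian monoidal category, for a group object `G`, the square
```
G ⊗ G ---μ---> G
| snd          |
v              v
G ---------->  𝟙
```
is cartesian (`(g, h) ↦ (g h, h)` is an isomorphism).
-/

set_option autoImplicit false
universe u v

open CategoryTheory CategoryTheory.Limits MonoidalCategory CartesianMonoidalCategory MonObj

namespace Groth.Agent.Lib.Seat44.GrpMul

section General

variable {C : Type u} [Category.{v} C] [CartesianMonoidalCategory C] (G : C) [GrpObj G]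

theorem isPullback_mul_snd : IsPullback μ[G] (snd G G) (toUnit G) (toUnit G) := by
  refine ⟨⟨toUnit_unique _ _⟩, ⟨PullbackCone.IsLimit.mk _
    (fun s => lift (s.fst * (s.snd)⁻¹) s.snd) ?_ ?_ ?_⟩⟩
  · intro s
    rw [← Hom.mul_def, inv_mul_cancel_right]
  · intro s
    rw [lift_snd]
  · intro s m h1 h2
    apply CartesianMonoidalCategory.hom_ext
    · rw [lift_fst, ← h1, ← h2]
      have : m ≫ μ[G] = (m ≫ fst G G) * (m ≫ snd G G) := by
        rw [Hom.mul_def]
        congr 1
        apply CartesianMonoidalCategory.hom_ext <;> simp
      rw [this, mul_inv_cancel_right]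
    · rw [lift_snd, h2]

end General

section Sheaves

open AlgebraicGeometry AlgSp

variable {S : Scheme.{u}} {B : AlgSp.Sp S} (G : Over B) [GrpObj G]

/-- The multiplication `G ×_B G ⟶ G` is the base change of `G ⟶ B` along itself, as a cartesian square of sheaves. -/
theorem isPullback_mul_left :
    IsPullback (μ[G]).left (pullback.snd G.hom G.hom) G.hom G.hom := by
  have h := (isPullback_mul_snd G).map (Over.forget B)
  exact h

end Sheaves

end Groth.Agent.Lib.Seat44.GrpMul
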