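import Groth.Agent.Lib.Seat44LimChart2

/-!
# Seat44: morphisms from limits of affine schemes over `S` to schemes locally of finite presentation, and morphisms of
`W`-systems

* `over_hom_descent` / `over_hom_eq` : for a cofiltered system `W : J ⥤ Over S` of affine schemes with limit cone `cW`,
  a morphism `cW.pt ⟶ Y` to a scheme locally of finite presentation over `S` factors through a stage, and two
  morphisms `W j ⟶ Y` (to `Y` locally of finite type) which agree on the limit agree at a later stage.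
* `Wρ` : a morphism of affine charts `m : Z' ⟶ Z` over `D i` induces a morphism of `W`-systems.
-/

set_option autoImplicit false
set_option backward.isDefEq.respectTransparency false
set_option backward.isDefEq.respectTransparency.types false
universe u
open CategoryTheory CategoryTheory.Limits AlgebraicGeometry
open AlgSp

namespace Groth.Agent.Lib.Seat44.HomDesc

open Groth.Agent.Lib.Seat44.AffLim Groth.Agent.Lib.Seat44.LimChart

variable {S : Scheme.{u}}

section Over

variable {J : Type u} [SmallCategory J] [IsCofiltered J] (W : J ⥤ Over S)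
  (hW : ∀ j, IsAffine (W.obj j).left) (cW : Cone W) (hlim : IsLimit ((Over.forget S).mapCone cW))

/-- the structure maps of the system. -/
noncomputable def tS : W ⋙ Over.forget S ⟶ (Functor.const _).obj S where
  app j := (W.obj j).hom
  naturality j j' ψ := by
    simp only [Functor.const_obj_obj, Functor.const_obj_map, Category.comp_id]
    exact Over.w (W.map ψ)

include hW hlim in
/-- a morphism from the limit to a scheme locally of finite presentation over `S` factors through a stage. -/
theorem over_hom_descent (Y : Over S) [LocallyOfFinitePresentation Y.hom] (a : cW.pt ⟶ Y) :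
    ∃ (j : J) (b : W.obj j ⟶ Y), cW.π.app j ≫ b = a := by
  haveI : ∀ j, IsAffine ((W ⋙ Over.forget S).obj j) := fun j => hW j
  haveI : ∀ {j j' : J} (f : j ⟶ j'), IsAffineHom ((W ⋙ Over.forget S).map f) := fun f => inferInstance
  haveI : ∀ j, CompactSpace ↥((W ⋙ Over.forget S).obj j) := fun j => inferInstance
  haveI : ∀ j, QuasiSeparatedSpace ↥((W ⋙ Over.forget S).obj j) := fun j => inferInstance
  obtain ⟨j, g, hg1, hg2⟩ := Scheme.exists_π_app_comp_eq_of_locallyOfFinitePresentation
    (W ⋙ Over.forget S) (tS W) Y.hom ((Over.forget S).mapCone cW) hlim a.left (by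
      ext k : 2
      simp only [NatTrans.comp_app, Functor.const_map_app]
      change (cW.π.app k).left ≫ (W.obj k).hom = a.left ≫ Y.hom
      rw [Over.w, Over.w]
      rfl)
  refine ⟨j, Over.homMk g hg2, ?_⟩
  ext
  exact hg1

include hW hlim in
/-- two morphisms from a stage to a scheme locally of finite type over `S` which agree on the limit agree at a later
stage. -/
theorem over_hom_eq (Y : Over S) [LocallyOfFiniteType Y.hom] {j : J} (b b' : W.obj j ⟶ Y)
    (h : cW.π.app j ≫ b = cW.π.app j ≫ b') :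
    ∃ (k : J) (ψ : k ⟶ j), W.map ψ ≫ b = W.map ψ ≫ b' := by
  haveI : ∀ j, IsAffine ((W ⋙ Over.forget S).obj j) := fun j => hW j
  haveI : ∀ {j j' : J} (f : j ⟶ j'), IsAffineHom ((W ⋙ Over.forget S).map f) := fun f => inferInstance
  haveI : ∀ j, CompactSpace ↥((W ⋙ Over.forget S).obj j) := fun j => inferInstance
  obtain ⟨k, ψ, hk⟩ := Scheme.exists_hom_comp_eq_comp_of_locallyOfFiniteType (W ⋙ Over.forget S)
    (tS W) Y.hom ((Over.forget S).mapCone cW) hlim (i := j) b.left b'.left
    (Over.w b).symm (Over.w b').symm (by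
      change (cW.π.app j).left ≫ b.left = (cW.π.app j).left ≫ b'.left
      rw [← Over.comp_left, ← Over.comp_left, h])
  refine ⟨k, ψ, ?_⟩
  ext
  exact hk

end Over

section Rho

variable {I : Type u} [SmallCategory I] (D : I ⥤ AlgSp.Sp S)
  (hDa : ∀ (i j : I) (φ : i ⟶ j), AlgSp.IsAffineMor (D.map φ))
  (i : I) {Z Z' : Over S} (hZ : IsAffine Z.left) (hZ' : IsAffine Z'.left)
  (g : (AlgSp.yon S).obj Z ⟶ D.obj i) (g' : (AlgSp.yon S).obj Z' ⟶ D.obj i)
  (m : Z' ⟶ Z) (hm : g' = (AlgSp.yon S).map m ≫ g)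

include hm in
lemma Wρ_comm (j : Over i) :
    Wfst D hDa i hZ' g' j ≫ D.map j.hom =
      (AlgSp.yon S).map (Wι D hDa i hZ' g' j ≫ m) ≫ g := by
  rw [Functor.map_comp, Category.assoc, ← hm]
  exact (Wsq D hDa i hZ' g' j).w

/-- the morphism of `W`-systems induced by a morphism of charts. -/
noncomputable def Wρ (j : Over i) : Wobj D hDa i hZ' g' j ⟶ Wobj D hDa i hZ g j :=
  (AlgSp.yon S).preimage ((Wsq D hDa i hZ g j).lift (Wfst D hDa i hZ' g' j)
    ((AlgSp.yon S).map (Wι D hDa i hZ' g' j ≫ m)) (Wρ_comm D hDa i hZ' g g' m hm j))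

lemma yon_Wρ_fst (j : Over i) :
    (AlgSp.yon S).map (Wρ D hDa i hZ hZ' g g' m hm j) ≫ Wfst D hDa i hZ g j =
      Wfst D hDa i hZ' g' j := by
  unfold Wρ
  rw [Functor.map_preimage]
  exact (Wsq D hDa i hZ g j).lift_fst _ _ _

lemma Wρ_ι (j : Over i) :
    Wρ D hDa i hZ hZ' g g' m hm j ≫ Wι D hDa i hZ g j = Wι D hDa i hZ' g' j ≫ m := by
  apply (AlgSp.yon S).map_injective
  rw [Functor.map_comp]
  unfold Wρ
  rw [Functor.map_preimage]
  exact (Wsq D hDa i hZ g j).lift_snd _ _ _

/-- naturality of `Wρ`. -/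
lemma Wρ_naturality {j j' : Over i} (ψ : j ⟶ j') :
    (W D hDa i hZ' g').map ψ ≫ Wρ D hDa i hZ hZ' g g' m hm j' =
      Wρ D hDa i hZ hZ' g g' m hm j ≫ (W D hDa i hZ g).map ψ := by
  apply (AlgSp.yon S).map_injective
  apply (Wsq D hDa i hZ g j').hom_ext
  · rw [Functor.map_comp, Functor.map_comp, Category.assoc, Category.assoc, yon_Wρ_fst,
      yon_map_W_map, yon_map_W_map, WmapSh_fst, WmapSh_fst, ← Category.assoc, yon_Wρ_fst]
  · rw [← Functor.map_comp, ← Functor.map_comp, Category.assoc, Category.assoc, Wρ_ι, W_map_ι,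
      ← Category.assoc, W_map_ι, Wρ_ι]

/-- `W'_j = Z' ×_Z W_j`. -/
lemma isPullback_Wρ (j : Over i) :
    IsPullback ((AlgSp.yon S).map (Wρ D hDa i hZ hZ' g g' m hm j))
      ((AlgSp.yon S).map (Wι D hDa i hZ' g' j))
      ((AlgSp.yon S).map (Wι D hDa i hZ g j)) ((AlgSp.yon S).map m) := by
  have big : IsPullback ((AlgSp.yon S).map (Wρ D hDa i hZ hZ' g g' m hm j) ≫ Wfst D hDa i hZ g j)
      ((AlgSp.yon S).map (Wι D hDa i hZ' g' j)) (D.map j.hom) ((AlgSp.yon S).map m ≫ g) := by
    rw [yon_Wρ_fst, ← hm]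
    exact Wsq D hDa i hZ' g' j
  refine IsPullback.of_right big ?_ (Wsq D hDa i hZ g j)
  rw [← Functor.map_comp, ← Functor.map_comp, Wρ_ι]

end Rho

end Groth.Agent.Lib.Seat44.HomDesc
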