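import Groth.Agent.Lib.Seat44HomDesc
import Groth.Agent.Lib.Seat44DiagBC
import Groth.Agent.Lib.Helper15QcRep
import Groth.Agent.S10180
import Groth.Agent.S9920
import Groth.Agent.S9927
import Mathlib.CategoryTheory.Sites.RegularEpi

/-!
# Seat44: morphisms from a limit of algebraic spaces to a scheme locally of finite presentation

`D : I ⥤ Sp S` a cofiltered system of algebraic spaces with affine transition maps, `D i₀` quasi-compact and
quasi-separated, `c` a limit cone, `Z` a scheme locally of finite presentation over `S`.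

* `exists_hom_descent` : every morphism `c.pt ⟶ h_Z` factors through some `D k ⟶ h_Z`, `k ⟶ i₀`.
* `exists_hom_eq` : two morphisms `D k ⟶ h_Z` (`Z` locally of finite type) which agree on `c.pt` agree at a later
  stage.
-/

set_option autoImplicit false
set_option backward.isDefEq.respectTransparency false
set_option backward.isDefEq.respectTransparency.types false
universe u
open CategoryTheory CategoryTheory.Limits AlgebraicGeometry
open AlgSp

namespace Groth.Agent.Lib.Seat44.HomDesc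

open Groth.Agent.Lib.Seat44.AffLim Groth.Agent.Lib.Seat44.LimChart Groth.Agent.Lib.Seat44.LimChart2
  Groth.Agent.Lib.Seat44.DiagBC

variable {S : Scheme.{u}}

/-- an affine chart of the kernel pair of an affine chart of a quasi-separated algebraic space. -/
theorem exists_kernelPair_chart [QuasiSeparatedSpace S] (X₀ : AlgSp.Space S)
    (hqs : IsQuasiSeparatedSp X₀.obj) {U₀ : Over S} (hU₀ : IsAffine U₀.left)
    (p : (yon S).obj U₀ ⟶ X₀.obj) :
    ∃ (R₀ : Over S) (r₁ r₂ : R₀ ⟶ U₀) (r : (yon S).obj R₀ ⟶ pullback p p), IsAffine R₀.left ∧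
      RepWith @Etale r ∧ RepWith @Surjective r ∧
      r ≫ pullback.fst p p = (yon S).map r₁ ∧ r ≫ pullback.snd p p = (yon S).map r₂ := by
  have hqcp : IsQuasiCompactMor p := by
    let UU : Space S := ⟨(yon S).obj U₀, IsAlgSpace.yon_obj U₀⟩
    let pp : UU ⟶ X₀ := ObjectProperty.homMk p
    exact Groth.Agent.S9920.result pp
      (Groth.Agent.Lib.Helper15QcRep.isQuasiCompactSp_yon U₀ hU₀) hqs
  have hK : IsQuasiCompactSp (pullback p p) :=
    hqcp (IsAlgSpace.yon_obj U₀) (Groth.Agent.Lib.Helper15QcRep.isQuasiCompactSp_yon U₀ hU₀)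
      p _ _ (IsPullback.of_hasPullback p p)
  obtain ⟨R₀, r, hR₀, hre, hrs⟩ := Groth.Agent.S10180.exists_affine_chart hK
  obtain ⟨r₁, hr₁⟩ := (yon S).map_surjective (r ≫ pullback.fst p p)
  obtain ⟨r₂, hr₂⟩ := (yon S).map_surjective (r ≫ pullback.snd p p)
  exact ⟨R₀, r₁, r₂, r, hR₀, hre, hrs, hr₁.symm, hr₂.symm⟩

section Stage

variable {I : Type u} [SmallCategory I] (D : I ⥤ AlgSp.Sp S)
  (hDa : ∀ (i j : I) (φ : i ⟶ j), AlgSp.IsAffineMor (D.map φ))
  (i : I) {U₀ R₀ : Over S} (hU₀ : IsAffine U₀.left) (hR₀ : IsAffine R₀.left)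
  (p : (yon S).obj U₀ ⟶ D.obj i) (r₁ r₂ : R₀ ⟶ U₀)
  (hr : (yon S).map r₁ ≫ p = (yon S).map r₂ ≫ p)

/-- the two projections `W'_j ⇉ W_j` coequalized by `W_j ⟶ D j`. -/
lemma Wρ_condition (j : Over i) :
    (yon S).map (Wρ D hDa i hU₀ hR₀ p ((yon S).map r₁ ≫ p) r₁ rfl j) ≫ Wfst D hDa i hU₀ p j =
      (yon S).map (Wρ D hDa i hU₀ hR₀ p ((yon S).map r₁ ≫ p) r₂ hr j) ≫ Wfst D hDa i hU₀ p j := by
  rw [yon_Wρ_fst, yon_Wρ_fst]

/-- the map from `W'_j` to the kernel pair of `W_j ⟶ D j`. -/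
noncomputable def κ (j : Over i) : (yon S).obj (Wobj D hDa i hR₀ ((yon S).map r₁ ≫ p) j) ⟶
    pullback (Wfst D hDa i hU₀ p j) (Wfst D hDa i hU₀ p j) :=
  pullback.lift _ _ (Wρ_condition D hDa i hU₀ hR₀ p r₁ r₂ hr j)

/-- `κ_j` is the base change of the chart `r` of the kernel pair of `p`. -/
lemma isPullback_κ (r : (yon S).obj R₀ ⟶ pullback p p)
    (h₁ : r ≫ pullback.fst p p = (yon S).map r₁) (h₂ : r ≫ pullback.snd p p = (yon S).map r₂)
    (j : Over i) :
    IsPullback ((yon S).map (Wι D hDa i hR₀ ((yon S).map r₁ ≫ p) j))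
      (κ D hDa i hU₀ hR₀ p r₁ r₂ hr j) r (diagMap (Wsq D hDa i hU₀ p j).flip) := by
  have t := (isPullback_diagMap_snd (Wsq D hDa i hU₀ p j).flip).flip
  have s := isPullback_Wρ D hDa i hU₀ hR₀ p ((yon S).map r₁ ≫ p) r₂ hr j
  have e1 : κ D hDa i hU₀ hR₀ p r₁ r₂ hr j ≫
      pullback.snd (Wfst D hDa i hU₀ p j) (Wfst D hDa i hU₀ p j) =
      (yon S).map (Wρ D hDa i hU₀ hR₀ p ((yon S).map r₁ ≫ p) r₂ hr j) := pullback.lift_snd _ _ _
  have e0 : κ D hDa i hU₀ hR₀ p r₁ r₂ hr j ≫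
      pullback.fst (Wfst D hDa i hU₀ p j) (Wfst D hDa i hU₀ p j) =
      (yon S).map (Wρ D hDa i hU₀ hR₀ p ((yon S).map r₁ ≫ p) r₁ rfl j) := pullback.lift_fst _ _ _
  rw [← e1, ← h₂] at s
  refine (IsPullback.of_right s ?_ t).flip
  apply pullback.hom_ext
  · rw [Category.assoc, diagMap_fst, ← Category.assoc, e0, Category.assoc, h₁,
      ← Functor.map_comp, ← Functor.map_comp, Wρ_ι]
  · rw [Category.assoc, diagMap_snd, ← Category.assoc, e1, Category.assoc, h₂,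
      ← Functor.map_comp, ← Functor.map_comp, Wρ_ι]

end Stage

section Main

variable [QuasiSeparatedSpace S] {I : Type u} [SmallCategory I] [IsCofiltered I]
  (D : I ⥤ AlgSp.Sp S) (hD : ∀ i, AlgSp.IsAlgSpace (D.obj i))
  (hDa : ∀ (i j : I) (φ : i ⟶ j), AlgSp.IsAffineMor (D.map φ))
  (c : Cone D) (hc : IsLimit c) (i₀ : I)

omit [QuasiSeparatedSpace S] [IsCofiltered I] in
/-- the chart of the limit is an epimorphism when the chart of the stage is étale surjective. -/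
lemma epi_chart_fst {U₀ : Over S} (hU₀ : IsAffine U₀.left) (p : (yon S).obj U₀ ⟶ D.obj i₀)
    (hpe : RepWith @Etale p) (hps : RepWith @Surjective p)
    (cW : Cone (W D hDa i₀ hU₀ p)) (fstW : (yon S).obj cW.pt ⟶ c.pt)
    (sq₀ : IsPullback fstW ((yon S).map (cW.π.app (Over.mk (𝟙 i₀)) ≫
      Wι D hDa i₀ hU₀ p (Over.mk (𝟙 i₀)))) (c.π.app i₀) p) : Epi fstW :=
  Groth.Agent.S9927.epi_of_repWith fstW
    (MorphismProperty.of_isPullback (P := RepWith @Etale) sq₀.flip hpe)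
    (MorphismProperty.of_isPullback (P := RepWith @Surjective) sq₀.flip hps)

include hD hDa hc in
/-- **Morphisms to schemes locally of finite presentation descend to a stage.** -/
theorem exists_hom_descent (hqc : IsQuasiCompactSp (D.obj i₀)) (hqs : IsQuasiSeparatedSp (D.obj i₀))
    (Z : Over S) [LocallyOfFinitePresentation Z.hom] (a : c.pt ⟶ (yon S).obj Z) :
    ∃ (k : Over i₀) (ak : D.obj k.left ⟶ (yon S).obj Z), c.π.app k.left ≫ ak = a := by
  obtain ⟨U₀, p, hU₀, hpe, hps⟩ := Groth.Agent.S10180.exists_affine_chart hqc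
  obtain ⟨R₀, r₁, r₂, r, hR₀, hre, hrs, h₁, h₂⟩ :=
    exists_kernelPair_chart ⟨D.obj i₀, hD i₀⟩ hqs hU₀ p
  have hr : (yon S).map r₁ ≫ p = (yon S).map r₂ ≫ p := by
    rw [← h₁, ← h₂, Category.assoc, Category.assoc, pullback.condition]
  obtain ⟨cW, hcW, fstW, hcWaff, ⟨hlimW⟩, sqW, sq₀⟩ := exists_chart_data' D hDa c hc i₀ hU₀ p
  obtain ⟨cW', hcW', fstW', hcWaff', ⟨hlimW'⟩, sqW', -⟩ :=
    exists_chart_data' D hDa c hc i₀ hR₀ ((yon S).map r₁ ≫ p)
  haveI : Epi fstW := epi_chart_fst D hDa c i₀ hU₀ p hpe hps cW fstW sq₀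
  -- the morphism on the chart of the limit, and its descent to a stage
  obtain ⟨aU, haU⟩ := (yon S).map_surjective (fstW ≫ a)
  obtain ⟨j, b, hb⟩ := over_hom_descent (W D hDa i₀ hU₀ p) (fun j => Waff D hDa i₀ hU₀ p j) cW hlimW Z aU
  -- the limit-level maps `ρ^∞`
  have hcE : IsLimit (c.whisker (Over.forget i₀)) :=
    (Functor.Initial.isLimitWhiskerEquiv (Over.forget i₀) c).symm hc
  have key : ∀ (r' : R₀ ⟶ U₀) (hr' : (yon S).map r₁ ≫ p = (yon S).map r' ≫ p),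
      (yon S).map (cW'.π.app j ≫ Wρ D hDa i₀ hU₀ hR₀ p ((yon S).map r₁ ≫ p) r' hr' j ≫ b) =
        fstW' ≫ a := by
    intro r' hr'
    let s : Cone (W D hDa i₀ hU₀ p) :=
      { pt := cW'.pt
        π :=
          { app := fun k => cW'.π.app k ≫ Wρ D hDa i₀ hU₀ hR₀ p ((yon S).map r₁ ≫ p) r' hr' k
            naturality := by
              intro k k' ψ
              simp only [Functor.const_obj_obj, Functor.const_obj_map, Category.id_comp,
                Category.assoc]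
              rw [← Wρ_naturality, ← Category.assoc, cW'.w ψ] } }
    have hs : ∀ k, hcW.lift s ≫ cW.π.app k =
        cW'.π.app k ≫ Wρ D hDa i₀ hU₀ hR₀ p ((yon S).map r₁ ≫ p) r' hr' k := fun k => hcW.fac s k
    have hfst : (yon S).map (hcW.lift s) ≫ fstW = fstW' := by
      apply hcE.hom_ext
      intro k
      change ((yon S).map (hcW.lift s) ≫ fstW) ≫ c.π.app k.left = fstW' ≫ c.π.app k.left
      rw [Category.assoc, ← (sqW k).w, ← Category.assoc, ← Functor.map_comp, hs, Functor.map_comp,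
        Category.assoc, yon_Wρ_fst, (sqW' k).w]
    rw [← Category.assoc, ← hs, Category.assoc, hb, Functor.map_comp, haU, ← Category.assoc, hfst]
  have hagree : cW'.π.app j ≫ Wρ D hDa i₀ hU₀ hR₀ p ((yon S).map r₁ ≫ p) r₁ rfl j ≫ b =
      cW'.π.app j ≫ Wρ D hDa i₀ hU₀ hR₀ p ((yon S).map r₁ ≫ p) r₂ hr j ≫ b := by
    apply (yon S).map_injective
    rw [key r₁ rfl, key r₂ hr]
  obtain ⟨k, ψ, hk⟩ := over_hom_eq (W D hDa i₀ hR₀ ((yon S).map r₁ ≫ p))
    (fun j => Waff D hDa i₀ hR₀ _ j) cW' hlimW' Z _ _ hagree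
  -- the morphism at stage `k`
  have hk' : Wρ D hDa i₀ hU₀ hR₀ p ((yon S).map r₁ ≫ p) r₁ rfl k ≫ (W D hDa i₀ hU₀ p).map ψ ≫ b =
      Wρ D hDa i₀ hU₀ hR₀ p ((yon S).map r₁ ≫ p) r₂ hr k ≫ (W D hDa i₀ hU₀ p).map ψ ≫ b := by
    rw [← Category.assoc, ← Wρ_naturality, ← Category.assoc, ← Wρ_naturality, Category.assoc,
      Category.assoc]
    exact hk
  have hWe : RepWith @Etale (Wfst D hDa i₀ hU₀ p k) :=
    MorphismProperty.of_isPullback (P := RepWith @Etale) (Wsq D hDa i₀ hU₀ p k).flip hpe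
  have hWs : RepWith @Surjective (Wfst D hDa i₀ hU₀ p k) :=
    MorphismProperty.of_isPullback (P := RepWith @Surjective) (Wsq D hDa i₀ hU₀ p k).flip hps
  haveI : Epi (Wfst D hDa i₀ hU₀ p k) := Groth.Agent.S9927.epi_of_repWith _ hWe hWs
  have hκ := isPullback_κ D hDa i₀ hU₀ hR₀ p r₁ r₂ hr r h₁ h₂ k
  haveI : Epi (κ D hDa i₀ hU₀ hR₀ p r₁ r₂ hr k) := Groth.Agent.S9927.epi_of_repWith _
    (MorphismProperty.of_isPullback (P := RepWith @Etale) hκ hre)
    (MorphismProperty.of_isPullback (P := RepWith @Surjective) hκ hrs)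
  have hkp : pullback.fst (Wfst D hDa i₀ hU₀ p k) (Wfst D hDa i₀ hU₀ p k) ≫
      (yon S).map ((W D hDa i₀ hU₀ p).map ψ ≫ b) =
      pullback.snd (Wfst D hDa i₀ hU₀ p k) (Wfst D hDa i₀ hU₀ p k) ≫
      (yon S).map ((W D hDa i₀ hU₀ p).map ψ ≫ b) := by
    rw [← cancel_epi (κ D hDa i₀ hU₀ hR₀ p r₁ r₂ hr k)]
    unfold κ
    rw [pullback.lift_fst_assoc, pullback.lift_snd_assoc, ← Functor.map_comp, ← Functor.map_comp, hk']
  have hreg : IsRegularEpi (Wfst D hDa i₀ hU₀ p k) := IsRegularEpiCategory.regularEpiOfEpi _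
  have heff : EffectiveEpi (Wfst D hDa i₀ hU₀ p k) := (isRegularEpi_iff_effectiveEpi _).1 hreg
  have hco : ∀ {A : AlgSp.Sp S} (g₁ g₂ : A ⟶ (yon S).obj (Wobj D hDa i₀ hU₀ p k)),
      g₁ ≫ Wfst D hDa i₀ hU₀ p k = g₂ ≫ Wfst D hDa i₀ hU₀ p k →
      g₁ ≫ (yon S).map ((W D hDa i₀ hU₀ p).map ψ ≫ b) =
        g₂ ≫ (yon S).map ((W D hDa i₀ hU₀ p).map ψ ≫ b) := by
    intro A g₁ g₂ h
    calc g₁ ≫ (yon S).map ((W D hDa i₀ hU₀ p).map ψ ≫ b)
        = (pullback.lift g₁ g₂ h ≫ pullback.fst _ _) ≫ (yon S).map ((W D hDa i₀ hU₀ p).map ψ ≫ b) := by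
          rw [pullback.lift_fst]
      _ = (pullback.lift g₁ g₂ h ≫ pullback.snd _ _) ≫ (yon S).map ((W D hDa i₀ hU₀ p).map ψ ≫ b) := by
          rw [Category.assoc, hkp, Category.assoc]
      _ = g₂ ≫ (yon S).map ((W D hDa i₀ hU₀ p).map ψ ≫ b) := by rw [pullback.lift_snd]
  refine ⟨k, EffectiveEpi.desc (Wfst D hDa i₀ hU₀ p k) _ hco, ?_⟩
  rw [← cancel_epi fstW, ← Category.assoc, ← (sqW k).w, Category.assoc, EffectiveEpi.fac,
    ← Functor.map_comp, ← Category.assoc, cW.w, hb, haU]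

end Main

end Groth.Agent.Lib.Seat44.HomDesc
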