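import Mathlib
import Groth.Agent.Lib.Seat44AffLim
import Groth.Agent.Lib.Seat44AffLim2
import Groth.Agent.Lib.Helper12ZarGlue

/-!
# Seat44: the chart of a cofiltered limit of sheaves with affine transition maps

For a cofiltered system `D` of sheaves with affine transition maps, limit cone `c`, an index `i` and an affine
chart `p : h_{U₀} ⟶ D i`, the affine schemes `W_j = U₀ ×_{D i} D j` (`j ∈ Over i`) have an affine limit `U`, with
`h_U = U₀ ×_{D i} lim D`, and for every `j` the square `h_U ⟶ h_{W_j}`, `h_U ⟶ lim D`, over `D j`, is cartesian.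
-/

set_option autoImplicit false
set_option backward.isDefEq.respectTransparency false
set_option backward.isDefEq.respectTransparency.types false
universe u
open CategoryTheory CategoryTheory.Limits AlgebraicGeometry AlgSp

namespace Groth.Agent.Lib.Seat44.LimChart

open Groth.Agent.Lib.Seat44.AffLim

attribute [local instance] IsCofiltered.isConnected

variable {S : Scheme.{u}}

/-- a map of sheaves representable by closed immersions is affine. -/
lemma isAffineMor_of_repWith_isClosedImmersion {F G : AlgSp.Sp S} (f : F ⟶ G)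
    (hf : AlgSp.RepWith @IsClosedImmersion f) : AlgSp.IsAffineMor f := by
  intro Z hZ g
  obtain ⟨W, w, fst, sq⟩ := hf.1 g
  have : IsClosedImmersion w.left := hf.2 g fst w sq
  haveI := hZ
  exact ⟨W, w, fst, sq, isAffine_of_isAffineHom w.left⟩

/-- an affine map of sheaves is representable (by affine morphisms). -/
lemma repWith_isAffineHom_of_isAffineMor {F G : AlgSp.Sp S} (f : F ⟶ G) (hf : AlgSp.IsAffineMor f) :
    AlgSp.RepWith @IsAffineHom f :=
  Groth.Agent.Lib.Helper12.ZarGlue.repWith_of_affine @IsAffineHom f (fun Z hZ g => by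
    obtain ⟨W, i, fst, sq, hW⟩ := hf hZ g
    haveI := hZ
    haveI := hW
    exact ⟨W, i, fst, sq, inferInstance⟩)

/-- the projections of a cofiltered limit with monomorphic transition maps are monomorphisms. -/
lemma mono_π_of_mono {C : Type*} [Category C] {I : Type*} [Category I] [IsCofiltered I] (D : I ⥤ C)
    (hm : ∀ (i j : I) (φ : i ⟶ j), Mono (D.map φ)) (c : Cone D) (hc : IsLimit c) (j : I) :
    Mono (c.π.app j) := by
  refine ⟨fun {Z} a b hab => hc.hom_ext (fun k => ?_)⟩
  obtain ⟨l, α, β, -⟩ := IsCofilteredOrEmpty.cone_objs j k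
  haveI := hm l j α
  have h1 : a ≫ c.π.app l = b ≫ c.π.app l := by
    rw [← cancel_mono (D.map α), Category.assoc, Category.assoc, c.w, hab]
  rw [← c.w β, ← Category.assoc, h1, Category.assoc]

section

variable {I : Type u} [SmallCategory I] (D : I ⥤ AlgSp.Sp S)
  (hDa : ∀ (i j : I) (φ : i ⟶ j), AlgSp.IsAffineMor (D.map φ))
  (i : I) {Z : Over S} (hZ : IsAffine Z.left) (g : (AlgSp.yon S).obj Z ⟶ D.obj i)

lemma W_map_ι {j j' : Over i} (ψ : j ⟶ j') :
    (W D hDa i hZ g).map ψ ≫ Wι D hDa i hZ g j' = Wι D hDa i hZ g j := by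
  apply (AlgSp.yon S).map_injective
  rw [Functor.map_comp, yon_map_W_map]
  exact WmapSh_snd D hDa i hZ g ψ

/-- the structure maps `W_j ⟶ Z`, as a natural transformation of scheme-valued functors. -/
noncomputable def ιNat : W D hDa i hZ g ⋙ Over.forget S ⟶ (Functor.const _).obj Z.left where
  app j := (Wι D hDa i hZ g j).left
  naturality j j' ψ := by
    simp only [Functor.const_obj_obj, Functor.const_obj_map, Category.comp_id]
    change ((W D hDa i hZ g).map ψ).left ≫ _ = _
    rw [← Over.comp_left, W_map_ι]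

lemma cone_π_ι (cW : Cone (W D hDa i hZ g)) (k : Over i) :
    cW.π.app k ≫ Wι D hDa i hZ g k =
      cW.π.app (Over.mk (𝟙 i)) ≫ Wι D hDa i hZ g (Over.mk (𝟙 i)) := by
  let ψ : k ⟶ Over.mk (𝟙 i) := Over.homMk k.hom
  rw [← cW.w ψ, Category.assoc, W_map_ι]

end

/-- the chart of the limit. -/
theorem exists_chart_data {I : Type u} [SmallCategory I] [IsCofiltered I] (D : I ⥤ AlgSp.Sp S)
    (hDa : ∀ (i j : I) (φ : i ⟶ j), AlgSp.IsAffineMor (D.map φ))
    (c : Cone D) (hc : IsLimit c)
    (i : I) {Z : Over S} (hZ : IsAffine Z.left) (g : (AlgSp.yon S).obj Z ⟶ D.obj i) :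
    ∃ (cW : Cone (W D hDa i hZ g)) (_ : IsLimit cW) (fst : (AlgSp.yon S).obj cW.pt ⟶ c.pt),
      IsAffine cW.pt.left ∧ Nonempty (IsLimit ((Over.forget S).mapCone cW)) ∧
      ∀ j : Over i, IsPullback ((AlgSp.yon S).map (cW.π.app j)) fst (Wfst D hDa i hZ g j)
        (c.π.app j.left) := by
  obtain ⟨cW, hcW, fst, haff, hfst, sq⟩ := exists_affine_pullback D hDa c hc i hZ g
  refine ⟨cW, hcW, fst, haff, ⟨isLimitForgetMapCone _ (fun j => Waff D hDa i hZ g j) cW hcW⟩,
    fun j => ?_⟩
  have s := sq.flip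
  rw [← cone_π_ι D hDa i hZ g cW j, Functor.map_comp, ← c.w j.hom] at s
  exact IsPullback.of_right s (hfst j).symm (Wsq D hDa i hZ g j).flip

end Groth.Agent.Lib.Seat44.LimChart
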