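import Groth.Agent.Lib.Seat44RlpBridge
import Groth.Agent.Lib.Seat44HomDesc
import Groth.Agent.S10016
import Groth.Agent.S9900
import Groth.Agent.S9948

/-!
# Seat44: relative descent of morphisms from limits of affine schemes, and uniqueness of descended lifts for morphisms
of algebraic spaces locally of finite type
-/

set_option autoImplicit false
set_option backward.isDefEq.respectTransparency false
set_option backward.isDefEq.respectTransparency.types false
universe u
open CategoryTheory CategoryTheory.Limits AlgebraicGeometry Opposite
open AlgSp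

namespace Groth.Agent.Lib.Seat44.HomDescRel

open Groth.Agent.Lib.Seat44.RlpBridge Groth.Agent.S9900

variable {S : Scheme.{u}}

/-- a morphism from the limit of a system of affine schemes over `T` to a scheme locally of finite presentation over `T`
factors through a stage, compatibly with the structure maps to `T`. -/
theorem hom_descent_rel {J : Type u} [SmallCategory J] [IsCofiltered J] (W : J ⥤ Over S)
    (hW : ∀ j, IsAffine (W.obj j).left) (cW : Cone W) (hlim : IsLimit ((Over.forget S).mapCone cW))
    {T U : Over S} (h : U ⟶ T) [LocallyOfFinitePresentation h.left]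
    (t : W ⟶ (Functor.const J).obj T) (a : cW.pt ⟶ U) (ha : ∀ j, a ≫ h = cW.π.app j ≫ t.app j) :
    ∃ (j : J) (b : W.obj j ⟶ U), cW.π.app j ≫ b = a ∧ b ≫ h = t.app j := by
  haveI : ∀ j, IsAffine ((W ⋙ Over.forget S).obj j) := fun j => hW j
  haveI : ∀ {j j' : J} (f : j ⟶ j'), IsAffineHom ((W ⋙ Over.forget S).map f) := fun f => inferInstance
  haveI : ∀ j, CompactSpace ↥((W ⋙ Over.forget S).obj j) := fun j => inferInstance
  haveI : ∀ j, QuasiSeparatedSpace ↥((W ⋙ Over.forget S).obj j) := fun j => inferInstance
  let t' : W ⋙ Over.forget S ⟶ (Functor.const J).obj T.left :=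
    { app := fun j => (t.app j).left
      naturality := fun j j' ψ => by
        have hn := t.naturality ψ
        simp only [Functor.const_obj_obj, Functor.const_obj_map, Category.comp_id] at hn
        simp only [Functor.comp_obj, Functor.comp_map, Over.forget_obj, Over.forget_map,
          Functor.const_obj_obj, Functor.const_obj_map, Category.comp_id]
        rw [← Over.comp_left, hn] }
  obtain ⟨j, g, hg1, hg2⟩ := Scheme.exists_π_app_comp_eq_of_locallyOfFinitePresentation
    (W ⋙ Over.forget S) t' h.left ((Over.forget S).mapCone cW) hlim a.left (by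
      ext k : 2
      simp only [NatTrans.comp_app, Functor.const_map_app]
      change (cW.π.app k).left ≫ (t.app k).left = a.left ≫ h.left
      rw [← Over.comp_left, ← Over.comp_left, ha k])
  have hgU : g ≫ U.hom = (W.obj j).hom := by
    rw [← Over.w h, ← Category.assoc, hg2]
    exact Over.w (t.app j)
  refine ⟨j, Over.homMk g hgU, ?_, ?_⟩
  · ext
    exact hg1
  · ext
    exact hg2

/-- **Uniqueness of descended lifts** for a morphism locally of finite type of algebraic spaces. -/
theorem homInj_of_locP (X Y : AlgSp.Space S) (f : X.obj ⟶ Y.obj)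
    (hf : AlgSp.LocP @LocallyOfFiniteType f) : HomInj f := by
  intro I _ _ D c hc hD hT j x x' h1 h2
  -- the equalizer locus
  obtain ⟨Q, e, he⟩ := exists_isEqLocus X.property.diag x x'
  have he' : IsEqLocus (pullback.lift x x' h1 ≫ pullback.fst f f)
      (pullback.lift x x' h1 ≫ pullback.snd f f) e := by
    rw [pullback.lift_fst, pullback.lift_snd]
    exact he
  have sq := IsEqLocus.isPullback_diagonal f (pullback.lift x x' h1) he'
  -- the diagonal is locally of finite presentation
  have hP : IsAlgSpace (pullback f f) :=
    Groth.Agent.S9874.isAlgSpace_of_isPullback Y.property.diag X.property X.property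
      (IsPullback.of_hasPullback f f)
  have hΔ : AlgSp.LocP @LocallyOfFinitePresentation (pullback.diagonal f) :=
    Groth.Agent.S10016.locP_lfp_diagonal X Y f hf
  have hrep : AlgSp.Representable (pullback.diagonal f) :=
    (Groth.Agent.S9900.result (X := X) (Y := Y) (ObjectProperty.homMk f)).1
  have hΔ' : AlgSp.RepWith @LocallyOfFinitePresentation (pullback.diagonal f) :=
    (Groth.Agent.S9948.result @LocallyOfFinitePresentation (Or.inr (Or.inl rfl)) (X := X)
      (Y := ⟨pullback f f, hP⟩) (ObjectProperty.homMk (pullback.diagonal f)) hrep).1 hΔ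
  haveI : LocallyOfFinitePresentation e.left := hΔ'.2 _ _ e sq
  -- the limit factors through the locus
  obtain ⟨a, ha⟩ := (he.2 c.pt (c.π.app j)).1 h2
  -- the system over `j`
  haveI : IsConnected (Over j) := IsCofiltered.isConnected _
  let t : Over.forget j ⋙ D ⟶ (Functor.const (Over j)).obj (D.obj j) :=
    { app := fun k => D.map k.hom
      naturality := fun k k' ψ => by
        simp only [Functor.comp_obj, Functor.comp_map, Over.forget_obj, Over.forget_map,
          Functor.const_obj_obj, Functor.const_obj_map, Category.comp_id]
        rw [← D.map_comp, Over.w ψ] }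
  have hlim' : IsLimit ((Over.forget S).mapCone (c.whisker (Over.forget j))) :=
    (Functor.Initial.isLimitWhiskerEquiv (Over.forget j) ((Over.forget S).mapCone c)).symm hc
  obtain ⟨k, b, -, hb⟩ := hom_descent_rel (Over.forget j ⋙ D) (fun k => hD k.left)
    (c.whisker (Over.forget j)) hlim' e t a (fun k => by
      rw [ha]
      exact (c.w k.hom).symm)
  refine ⟨k.left, k.hom, ?_⟩
  exact (he.2 (D.obj k.left) (D.map k.hom)).2 ⟨b, hb⟩

end Groth.Agent.Lib.Seat44.HomDescRel
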