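import Groth.Agent.Lib.Seat44CocycleDesc
import Groth.Agent.Lib.Seat44HomDescRel
import Groth.Agent.Lib.Seat44EtaleCoverDesc
import Groth.Agent.Lib.Helper15MonoSep
import Groth.Agent.Lib.Seat44MorBasics
import Groth.Agent.S9984

/-!
# Seat44: existence of descended lifts for morphisms of algebraic spaces locally of finite presentation

* `homSurj_core` : for an algebraic space `Z` locally of finite presentation over a stage `T_j` of a cofiltered system of
  affine schemes with limit `T`, every `T_j`-morphism `T ⟶ Z` factors through a stage.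
* `homSurj_of_locP` : `HomSurj f` for `f` locally of finite presentation between algebraic spaces.
* `isRelLimitPreserving_of_locP` : such `f` is relatively limit preserving.
-/

set_option autoImplicit false
set_option backward.isDefEq.respectTransparency false
set_option backward.isDefEq.respectTransparency.types false
universe u
open CategoryTheory CategoryTheory.Limits AlgebraicGeometry
open AlgSp

namespace Groth.Agent.Lib.Seat44.HomSurj

open Groth.Agent.Lib.Seat44.AffLim Groth.Agent.Lib.Seat44.LimChart Groth.Agent.Lib.Seat44.LimChart2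
  Groth.Agent.Lib.Seat44.HomDesc Groth.Agent.Lib.Seat44.RlpBridge Groth.Agent.Lib.Seat44.HomDescRel
  Groth.Agent.Lib.Seat44.EtaleCoverDesc Groth.Agent.Lib.Seat44.CocycleDesc

variable {S : Scheme.{u}}

attribute [local instance] IsCofiltered.isConnected

theorem homSurj_core (Z : AlgSp.Space S) {I : Type u} [SmallCategory I] [IsCofiltered I]
    (D₀ : I ⥤ Over S) (c₀ : Cone D₀) (hc₀ : IsLimit ((Over.forget S).mapCone c₀))
    (hD₀ : ∀ i, IsAffine (D₀.obj i).left) (hT : IsAffine c₀.pt.left) (j : I)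
    (q : Z.obj ⟶ (yon S).obj (D₀.obj j)) (hq : LocP @LocallyOfFinitePresentation q)
    (z : (yon S).obj c₀.pt ⟶ Z.obj) (hz : z ≫ q = (yon S).map (c₀.π.app j)) :
    ∃ (k : I) (φ : k ⟶ j) (z' : (yon S).obj (D₀.obj k) ⟶ Z.obj),
      z' ≫ q = (yon S).map (D₀.map φ) ∧ (yon S).map (c₀.π.app k) ≫ z' = z := by
  -- the system of sheaves
  have hDa : ∀ (i i' : I) (φ : i ⟶ i'), IsAffineMor ((D₀ ⋙ yon S).map φ) := fun i i' φ => by
    haveI := hD₀ i
    haveI := hD₀ i'
    haveI : IsAffineHom (D₀.map φ).left := inferInstance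
    exact Groth.Agent.Lib.Seat44.MorBasics.isAffineMor_yon_map (D₀.map φ)
  have hc₀' : IsLimit c₀ := isLimitOfReflects (Over.forget S) hc₀
  have hc : IsLimit ((yon S).mapCone c₀) := isLimitOfPreserves (yon S) hc₀'
  -- an atlas of `Z` and its pullback to the limit
  obtain ⟨U, a, hae, has⟩ := Z.property.atlas
  obtain ⟨Winf, w, β', sq⟩ := hae.1 z
  obtain ⟨β, rfl⟩ := (yon S).map_surjective β'
  haveI : Etale w.left := hae.2 _ _ w sq
  haveI : Surjective w.left := has.2 _ _ w sq
  haveI : IsAffine c₀.pt.left := hT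
  -- an affine refinement
  obtain ⟨W', g, hW', hge, hgs⟩ := exists_affine_refinement w.left
  haveI := hW'
  haveI := hge
  haveI := hgs
  let W'o : Over S := Over.mk (g ≫ Winf.hom)
  let go : W'o ⟶ Winf := Over.homMk g rfl
  -- descend the covering
  obtain ⟨n, φ₀, V, v, g', hV, hve, hvs, sqV⟩ := exists_etale_cover_descent (D₀ ⋙ Over.forget S)
    ((Over.forget S).mapCone c₀) hc₀ hD₀ (g ≫ w.left) j
  haveI := hV
  let Vo : Over S := Over.mk (v ≫ (D₀.obj n).hom)
  let vo : Vo ⟶ D₀.obj n := Over.homMk v rfl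
  have hg'o : g' ≫ Vo.hom = W'o.hom := by
    have e1 : (c₀.π.app n).left ≫ (D₀.obj n).hom = c₀.pt.hom := Over.w (c₀.π.app n)
    have e2 : w.left ≫ c₀.pt.hom = Winf.hom := Over.w w
    change g' ≫ v ≫ (D₀.obj n).hom = g ≫ Winf.hom
    rw [← Category.assoc, sqV.w, Category.assoc]
    change (g ≫ w.left) ≫ (c₀.π.app n).left ≫ (D₀.obj n).hom = g ≫ Winf.hom
    rw [e1, Category.assoc, e2]
  let g'o : W'o ⟶ Vo := Over.homMk g' hg'o
  have sqO : IsPullback g'o (go ≫ w) vo (c₀.π.app n) :=
    IsPullback.of_map (Over.forget S) (by ext; exact sqV.w) sqV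
  have sqSh := (sqO.map (yon S)).flip
  have hpe : RepWith @Etale ((yon S).map vo) := (repWith_yon_map_iff _ _).2 hve
  have hps : RepWith @Surjective ((yon S).map vo) := (repWith_yon_map_iff _ _).2 hvs
  have hVo : IsAffine Vo.left := hV
  -- the kernel pair chart
  haveI : IsAffine ((D₀ ⋙ Over.forget S).obj n) := hD₀ n
  let R₀ : Over S := Over.mk (pullback.fst v v ≫ Vo.hom)
  let r₁ : R₀ ⟶ Vo := Over.homMk (pullback.fst v v) rfl
  let r₂ : R₀ ⟶ Vo := Over.homMk (pullback.snd v v) (by
    change pullback.snd v v ≫ v ≫ (D₀.obj n).hom = pullback.fst v v ≫ v ≫ (D₀.obj n).hom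
    rw [← Category.assoc, ← pullback.condition, Category.assoc])
  have hR₀ : IsAffine R₀.left := inferInstanceAs (IsAffine (pullback v v))
  have sqR : IsPullback r₁ r₂ vo vo :=
    IsPullback.of_map (Over.forget S) (by ext; exact pullback.condition)
      (IsPullback.of_hasPullback v v)
  have sqRS := sqR.map (yon S)
  haveI : IsIso sqRS.isoPullback.hom := inferInstance
  have hre : RepWith @Etale sqRS.isoPullback.hom :=
    Groth.Agent.Lib.Helper15MonoSep.repWith_of_isIso _ _
  have hrs : RepWith @Surjective sqRS.isoPullback.hom :=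
    Groth.Agent.Lib.Helper15MonoSep.repWith_of_isIso _ _
  -- the chart of the limit
  obtain ⟨cW, hcW, fstW, hcWaff, ⟨hlimW⟩, sqW, sq₀⟩ :=
    exists_chart_data' (D₀ ⋙ yon S) hDa ((yon S).mapCone c₀) hc n hVo ((yon S).map vo)
  let θ := sq₀.isoIsPullback _ _ sqSh
  have hθ1 : θ.hom ≫ (yon S).map (go ≫ w) = fstW := sq₀.isoIsPullback_hom_fst _ _ sqSh
  -- the chart of `Z` over the stage `j`
  obtain ⟨h, hh⟩ := (yon S).map_surjective (a ≫ q)
  haveI : LocallyOfFinitePresentation h.left :=
    hq a (𝟙 _) h hae (AlgSp.repWith_id @Etale (D₀.obj j)) (by rw [hh, Category.comp_id])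
  have hβz : (yon S).map (go ≫ β) ≫ a = (yon S).map (go ≫ w) ≫ z := by
    rw [Functor.map_comp, Functor.map_comp, Category.assoc, Category.assoc, sq.w]
  -- the structure maps of the chart system to the stage `j`
  have hnat : ∀ {k k' : Over n} (ψ : k ⟶ k'),
      (yon S).map ((W (D₀ ⋙ yon S) hDa n hVo ((yon S).map vo)).map ψ) ≫
        Wfst (D₀ ⋙ yon S) hDa n hVo ((yon S).map vo) k' ≫ (D₀ ⋙ yon S).map (k'.hom ≫ φ₀) =
      Wfst (D₀ ⋙ yon S) hDa n hVo ((yon S).map vo) k ≫ (D₀ ⋙ yon S).map (k.hom ≫ φ₀) := by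
    intro k k' ψ
    rw [yon_map_W_map, ← Category.assoc, WmapSh_fst, Category.assoc, ← Functor.map_comp,
      ← Category.assoc, Over.w ψ]
  let t : W (D₀ ⋙ yon S) hDa n hVo ((yon S).map vo) ⟶ (Functor.const _).obj (D₀.obj j) :=
    { app := fun k => (yon S).preimage
        (Wfst (D₀ ⋙ yon S) hDa n hVo ((yon S).map vo) k ≫ (D₀ ⋙ yon S).map (k.hom ≫ φ₀))
      naturality := fun k k' ψ => by
        apply (yon S).map_injective
        simp only [Functor.const_obj_obj, Functor.const_obj_map, Category.comp_id]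
        rw [Functor.map_comp, Functor.map_preimage, Functor.map_preimage]
        exact hnat ψ }
  have ht : ∀ k, (yon S).map (t.app k) =
      Wfst (D₀ ⋙ yon S) hDa n hVo ((yon S).map vo) k ≫ (D₀ ⋙ yon S).map (k.hom ≫ φ₀) :=
    fun k => Functor.map_preimage _ _
  let a' : cW.pt ⟶ U := (yon S).preimage (θ.hom ≫ (yon S).map (go ≫ β))
  have ha' : (yon S).map a' = θ.hom ≫ (yon S).map (go ≫ β) := Functor.map_preimage _ _
  have ha'z : (yon S).map a' ≫ a = fstW ≫ z := by
    rw [ha', Category.assoc, hβz, ← Category.assoc, hθ1]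
  obtain ⟨j', βj, hβ1, hβ2⟩ := hom_descent_rel (W (D₀ ⋙ yon S) hDa n hVo ((yon S).map vo))
    (fun k => Waff (D₀ ⋙ yon S) hDa n hVo ((yon S).map vo) k) cW hlimW h t a' (fun k => by
      apply (yon S).map_injective
      rw [Functor.map_comp, Functor.map_comp, hh, ← Category.assoc, ha'z, Category.assoc, hz, ht,
        ← Category.assoc, (sqW k).w, Category.assoc]
      congr 1
      exact (((yon S).mapCone c₀).w (k.hom ≫ φ₀)).symm)
  -- the lift on the chart and its descent
  have hb1 : ((yon S).map βj ≫ a) ≫ q = Wfst (D₀ ⋙ yon S) hDa n hVo ((yon S).map vo) j' ≫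
      (D₀ ⋙ yon S).map j'.hom ≫ (D₀ ⋙ yon S).map φ₀ := by
    rw [Category.assoc, ← hh, ← Functor.map_comp, hβ2, ht, Functor.map_comp]
  have hb2 : (yon S).map (cW.π.app j') ≫ ((yon S).map βj ≫ a) = fstW ≫ z := by
    rw [← Category.assoc, ← Functor.map_comp, hβ1, ha'z]
  have hi : HomInj q := homInj_of_locP Z ⟨(yon S).obj (D₀.obj j), IsAlgSpace.yon_obj _⟩ q
    (fun A B a b m ha hb e => by
      haveI := hq a b m ha hb e
      infer_instance)
  obtain ⟨k, xk, hk1, hk2⟩ := exists_descent_of_chart_lift (D₀ ⋙ yon S) hDa ((yon S).mapCone c₀) hc n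
    hVo hR₀ ((yon S).map vo) hpe hps r₁ r₂ sqRS.isoPullback.hom hre hrs
    sqRS.isoPullback_hom_fst sqRS.isoPullback_hom_snd q hi ((D₀ ⋙ yon S).map φ₀) z cW hcW fstW sqW sq₀
    j' ((yon S).map βj ≫ a) hb1 hb2
  refine ⟨k.left, k.hom ≫ φ₀, xk, ?_, hk2⟩
  rw [hk1, ← Functor.map_comp]
  rfl

/-- **Existence of descended lifts** for a morphism locally of finite presentation of algebraic spaces. -/
theorem homSurj_of_locP (X Y : AlgSp.Space S) (f : X.obj ⟶ Y.obj)
    (hf : AlgSp.LocP @LocallyOfFinitePresentation f) : HomSurj f := by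
  intro I _ _ D c hc hD hT j y x hx
  have hZ : IsAlgSpace (pullback f y) :=
    Groth.Agent.S9874.isAlgSpace_of_isPullback Y.property.diag X.property (IsAlgSpace.yon_obj _)
      (IsPullback.of_hasPullback f y)
  have hq : LocP @LocallyOfFinitePresentation (pullback.snd f y) :=
    Groth.Agent.S9984.result @LocallyOfFinitePresentation (Or.inr (Or.inl rfl)) (X := X) (Y := Y)
      (Y' := ⟨(yon S).obj (D.obj j), IsAlgSpace.yon_obj _⟩) (X' := ⟨pullback f y, hZ⟩)
      (ObjectProperty.homMk f) (ObjectProperty.homMk y) (ObjectProperty.homMk (pullback.fst f y))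
      (ObjectProperty.homMk (pullback.snd f y)) (IsPullback.of_hasPullback f y) hf
  obtain ⟨k, φ, z', h1, h2⟩ := homSurj_core ⟨pullback f y, hZ⟩ D c hc hD hT j (pullback.snd f y) hq
    (pullback.lift x ((yon S).map (c.π.app j)) hx) (pullback.lift_snd _ _ _)
  refine ⟨k, φ, z' ≫ pullback.fst f y, ?_, ?_⟩
  · rw [Category.assoc, pullback.condition, ← Category.assoc, h1]
  · rw [← Category.assoc, h2, pullback.lift_fst]

/-- A morphism locally of finite presentation of algebraic spaces is relatively limit preserving. -/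
theorem isRelLimitPreserving_of_locP (X Y : AlgSp.Space S) (f : X.obj ⟶ Y.obj)
    (hf : AlgSp.LocP @LocallyOfFinitePresentation f) : AlgSp.IsRelLimitPreserving f.hom :=
  isRelLimitPreserving_of_hom f (homSurj_of_locP X Y f hf)
    (homInj_of_locP X Y f (fun A B a b m ha hb e => by
      haveI := hf a b m ha hb e
      infer_instance))

end Groth.Agent.Lib.Seat44.HomSurj
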