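import Groth.Agent.Lib.Seat44BaseRestrict
import Groth.Agent.S9868
import Groth.Agent.S9872
import Groth.Agent.Lib.Seat19Present

/-!
# Seat44: the left adjoint `j_!` of restriction along a morphism of base schemes

For `g : S ⟶ S'`, `j_! = (Over.map g).sheafPullback …` is the left adjoint of the restriction functor `j⁻¹`.

* `trc` : naturality of `BaseRestrict.tr` in the sheaf.
* `shIso X : j_! h_X ≅ h_{X/S'}`, natural in `X` (`shIso_nat`).
* `isEtaleEqvRel_map` : an etale equivalence relation over `S` is one over `S'`.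
* `isAlgSpace_jsh` : `j_!` of an algebraic space over `S` is an algebraic space over `S'`.
-/

set_option autoImplicit false
universe u
open CategoryTheory CategoryTheory.Limits AlgebraicGeometry Opposite
open AlgSp

namespace Groth.Agent.Lib.Seat44.Jshriek

open Groth.Agent.S13210 Groth.Agent.Lib.Seat44.BaseRestrict

variable {S S' : Scheme.{u}} (g : S ⟶ S')

/-- the left adjoint `j_!` of restriction. -/
noncomputable abbrev jsh : AlgSp.Sp S ⥤ AlgSp.Sp S' :=
  (Over.map g).sheafPullback (Type (u + 1)) (AlgSp.J S) (AlgSp.J S')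

/-- the adjunction `j_! ⊣ j⁻¹`. -/
noncomputable def adj : jsh g ⊣ jinv g :=
  Functor.sheafAdjunctionContinuous (Over.map g) (Type (u + 1)) (AlgSp.J S) (AlgSp.J S')

/-- naturality of `tr` in the sheaf. -/
lemma trc {F' G' : AlgSp.Sp S'} (φ : F' ⟶ G') (T : Over S)
    (a : (AlgSp.yon S).obj T ⟶ (jinv g).obj F') :
    tr g G' T (a ≫ (jinv g).map φ) = tr g F' T a ≫ φ := by
  have h1 : yEquiv T ((jinv g).obj G') (a ≫ (jinv g).map φ) =
      φ.hom.app (op ((Over.map g).obj T)) (yEquiv T ((jinv g).obj F') a) :=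
    yEquiv_comp a ((jinv g).map φ)
  exact (congrArg (yEquiv _ G').symm h1).trans (yEquiv_symm_comp φ _).symm

lemma trc_symm {F' G' : AlgSp.Sp S'} (φ : F' ⟶ G') (T : Over S)
    (a' : (AlgSp.yon S').obj ((Over.map g).obj T) ⟶ F') :
    (tr g G' T).symm (a' ≫ φ) = (tr g F' T).symm a' ≫ (jinv g).map φ := by
  apply (tr g G' T).injective
  rw [trc, Equiv.apply_symm_apply, Equiv.apply_symm_apply]

section ShIso

variable (X : Over S)

/-- the comparison `j_! h_X ⟶ h_{X/S'}`. -/
noncomputable def shHom : (jsh g).obj ((AlgSp.yon S).obj X) ⟶ (AlgSp.yon S').obj ((Over.map g).obj X) :=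
  ((adj g).homEquiv _ _).symm ((tr g _ X).symm (𝟙 _))

/-- the comparison `h_{X/S'} ⟶ j_! h_X`. -/
noncomputable def shInv : (AlgSp.yon S').obj ((Over.map g).obj X) ⟶ (jsh g).obj ((AlgSp.yon S).obj X) :=
  tr g _ X ((adj g).unit.app ((AlgSp.yon S).obj X))

lemma homEquiv_shHom : (adj g).homEquiv _ _ (shHom g X) = (tr g _ X).symm (𝟙 _) :=
  Equiv.apply_symm_apply _ _

lemma shInv_shHom : shInv g X ≫ shHom g X = 𝟙 _ := by
  unfold shInv
  rw [← trc, ← Adjunction.homEquiv_unit, homEquiv_shHom, Equiv.apply_symm_apply]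

lemma shHom_shInv : shHom g X ≫ shInv g X = 𝟙 _ := by
  apply ((adj g).homEquiv _ _).injective
  rw [Adjunction.homEquiv_naturality_right, homEquiv_shHom, ← trc_symm, Category.id_comp]
  unfold shInv
  rw [Equiv.symm_apply_apply, Adjunction.homEquiv_unit, CategoryTheory.Functor.map_id]
  exact (Category.comp_id _).symm

/-- `j_! h_X ≅ h_{X/S'}`. -/
noncomputable def shIso : (jsh g).obj ((AlgSp.yon S).obj X) ≅ (AlgSp.yon S').obj ((Over.map g).obj X) where
  hom := shHom g X
  inv := shInv g X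
  hom_inv_id := shHom_shInv g X
  inv_hom_id := shInv_shHom g X

end ShIso

/-- naturality of `shIso`. -/
lemma shIso_nat {X Y : Over S} (f : X ⟶ Y) :
    (jsh g).map ((AlgSp.yon S).map f) ≫ (shIso g Y).hom =
      (shIso g X).hom ≫ (AlgSp.yon S').map ((Over.map g).map f) := by
  apply ((adj g).homEquiv _ _).injective
  rw [Adjunction.homEquiv_naturality_left, Adjunction.homEquiv_naturality_right]
  change _ ≫ (adj g).homEquiv _ _ (shHom g Y) = (adj g).homEquiv _ _ (shHom g X) ≫ _
  rw [homEquiv_shHom, homEquiv_shHom, ← trc_symm, Category.id_comp]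
  apply (tr g _ X).injective
  rw [tr_map, Equiv.apply_symm_apply, Equiv.apply_symm_apply, Category.comp_id]

section EqvRel

variable {g}

/-- a morphism over `S'` into `X/S'` is a morphism over `S` from the source with the induced structure. -/
def dwn {T' : Over S'} {X : Over S} (a : T' ⟶ (Over.map g).obj X) (c : T'.left ⟶ S)
    (h : a.left ≫ X.hom = c) : Over.mk c ⟶ X :=
  Over.homMk a.left h

/-- a morphism over `S` from `T'` with a structure map to `S` lifting that to `S'` is a morphism over `S'`. -/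
def upp {T' : Over S'} {X : Over S} (c : T'.left ⟶ S) (hc : c ≫ g = T'.hom) (x : Over.mk c ⟶ X) :
    T' ⟶ (Over.map g).obj X :=
  Over.homMk x.left (by
    have h1 : x.left ≫ X.hom = c := Over.w x
    change x.left ≫ X.hom ≫ g = T'.hom
    rw [← Category.assoc, h1, hc])

lemma w_map {T' : Over S'} {X : Over S} (a : T' ⟶ (Over.map g).obj X) :
    (a.left ≫ X.hom) ≫ g = T'.hom := by
  rw [Category.assoc]
  exact Over.w a

lemma left_w {R U : Over S} (t : R ⟶ U) : t.left ≫ U.hom = R.hom := Over.w t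

variable (g) in
/-- an equivalence relation over `S` is an equivalence relation over `S'`. -/
theorem isEqvRel_map {R U : Over S} {s t : R ⟶ U} (h : AlgSp.IsEqvRel s t) :
    AlgSp.IsEqvRel ((Over.map g).map s) ((Over.map g).map t) where
  injective T' r r' h1 h2 := by
    have h1' : r.left ≫ t.left = r'.left ≫ t.left := congrArg CommaMorphism.left h1
    have h2' : r.left ≫ s.left = r'.left ≫ s.left := congrArg CommaMorphism.left h2
    have hc : r'.left ≫ R.hom = r.left ≫ R.hom := by
      rw [← left_w t, ← Category.assoc, ← Category.assoc, h1']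
    have := h.injective (Over.mk (r.left ≫ R.hom)) (dwn r _ rfl) (dwn r' _ hc)
      (by ext; exact h1') (by ext; exact h2')
    ext
    have this' := congrArg CommaMorphism.left this
    exact this'
  equivalence T' := by
    refine ⟨fun a => ?_, fun {a b} hab => ?_, fun {a b c} hab hbc => ?_⟩
    · obtain ⟨r0, h1, h2⟩ := (h.equivalence (Over.mk (a.left ≫ U.hom))).refl (dwn a _ rfl)
      refine ⟨upp _ (w_map a) r0, ?_, ?_⟩
      · ext
        have h1' := congrArg CommaMorphism.left h1
        exact h1'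
      · ext
        have h2' := congrArg CommaMorphism.left h2
        exact h2'
    · obtain ⟨r, rfl, rfl⟩ := hab
      obtain ⟨r1, h1, h2⟩ := (h.equivalence (Over.mk (r.left ≫ R.hom))).symm
        ⟨dwn r _ rfl, rfl, rfl⟩
      refine ⟨upp _ (w_map r) r1, ?_, ?_⟩
      · ext
        have h1' := congrArg CommaMorphism.left h1
        exact h1'
      · ext
        have h2' := congrArg CommaMorphism.left h2
        exact h2'
    · obtain ⟨r, rfl, rfl⟩ := hab
      obtain ⟨r', h3, rfl⟩ := hbc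
      have h3' : r'.left ≫ t.left = r.left ≫ s.left := congrArg CommaMorphism.left h3
      have hc : r'.left ≫ R.hom = r.left ≫ R.hom := by
        rw [← left_w t, ← Category.assoc, h3', Category.assoc, left_w t, left_w s]
      obtain ⟨r2, h1, h2⟩ := (h.equivalence (Over.mk (r.left ≫ R.hom))).trans
        (⟨dwn r _ rfl, rfl, rfl⟩ : ∃ r0 : Over.mk (r.left ≫ R.hom) ⟶ R,
          r0 ≫ t = dwn r _ rfl ≫ t ∧ r0 ≫ s = dwn r _ rfl ≫ s)
        (⟨dwn r' _ hc, by ext; exact h3', rfl⟩ : ∃ r0 : Over.mk (r.left ≫ R.hom) ⟶ R,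
          r0 ≫ t = dwn r _ rfl ≫ s ∧ r0 ≫ s = dwn r' _ hc ≫ s)
      refine ⟨upp _ (w_map r) r2, ?_, ?_⟩
      · ext
        have h1' := congrArg CommaMorphism.left h1
        exact h1'
      · ext
        have h2' := congrArg CommaMorphism.left h2
        exact h2'

variable (g) in
/-- an etale equivalence relation over `S` is an etale equivalence relation over `S'`. -/
theorem isEtaleEqvRel_map {R U : Over S} {s t : R ⟶ U} (h : AlgSp.IsEtaleEqvRel s t) :
    AlgSp.IsEtaleEqvRel ((Over.map g).map s) ((Over.map g).map t) where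
  toIsEqvRel := isEqvRel_map g h.toIsEqvRel
  etale_left := h.etale_left
  etale_right := h.etale_right

end EqvRel

section AlgSpace

open Groth.Agent.Lib.Seat19.Present

local notation "𝕃" => Scheme.fppfPrecoverage

/-- `rep (X/S') ≅ j_! h_X`. -/
noncomputable def repIso (X : Over S) :
    QuotSh.rep 𝕃 ((Over.map g).obj X) ≅ (jsh g).obj ((AlgSp.yon S).obj X) :=
  QuotSh.repIsoUliftYoneda 𝕃 ((Over.map g).obj X) ≪≫ (shIso g X).symm

lemma repIso_nat {X Y : Over S} (f : X ⟶ Y) :
    QuotSh.repMap 𝕃 ((Over.map g).map f) ≫ (repIso g Y).hom =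
      (repIso g X).hom ≫ (jsh g).map ((AlgSp.yon S).map f) := by
  have h1 : (shIso g X).inv ≫ (jsh g).map ((AlgSp.yon S).map f) =
      (AlgSp.yon S').map ((Over.map g).map f) ≫ (shIso g Y).inv := by
    rw [Iso.inv_comp_eq, ← Category.assoc, ← shIso_nat, Category.assoc, Iso.hom_inv_id,
      Category.comp_id]
  change QuotSh.repMap 𝕃 ((Over.map g).map f) ≫ (QuotSh.repIsoUliftYoneda 𝕃 _).hom ≫ (shIso g Y).inv =
    ((QuotSh.repIsoUliftYoneda 𝕃 _).hom ≫ (shIso g X).inv) ≫ _
  rw [Category.assoc, h1, ← Category.assoc, ← Category.assoc, rho_nat']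

/-- **`j_!` of an algebraic space over `S` is an algebraic space over `S'`.** -/
theorem isAlgSpace_jsh (F : AlgSp.Sp S) (hF : AlgSp.IsAlgSpace F) :
    AlgSp.IsAlgSpace ((jsh g).obj F) := by
  obtain ⟨U, p, he, hs⟩ := hF.atlas
  obtain ⟨R, b, a', sq'⟩ := hF.representable_from_yon p p
  obtain ⟨a, rfl⟩ := (AlgSp.yon S).map_surjective a'
  have sq : IsPullback ((AlgSp.yon S).map a) ((AlgSp.yon S).map b) p p := sq'
  have hrel : AlgSp.IsEtaleEqvRel a b := (Groth.Agent.S9872.result S F hF p he hs a b sq.flip).1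
  obtain ⟨hcol⟩ := (Groth.Agent.S9872.result S F hF p he hs b a sq).2
  have halg : AlgSp.IsAlgSpace (QuotSh.quot 𝕃 ((Over.map g).map a) ((Over.map g).map b)) :=
    Groth.Agent.S9868.result S' _ _ (isEtaleEqvRel_map g hrel)
  haveI : PreservesColimitsOfSize.{0, 0} (jsh g) := (adj g).leftAdjoint_preservesColimits
  have hcol' := isColimitCoforkMapOfIsColimit (jsh g) sq.w hcol
  have w1 : QuotSh.repMap 𝕃 ((Over.map g).map a) ≫ (repIso g U).hom ≫ (jsh g).map p =
      QuotSh.repMap 𝕃 ((Over.map g).map b) ≫ (repIso g U).hom ≫ (jsh g).map p := by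
    rw [← Category.assoc, repIso_nat, ← Category.assoc, repIso_nat, Category.assoc, Category.assoc,
      ← Functor.map_comp, ← Functor.map_comp, sq.w]
  have w2 : (jsh g).map ((AlgSp.yon S).map a) ≫ (repIso g U).inv ≫
        QuotSh.quotπ 𝕃 ((Over.map g).map a) ((Over.map g).map b) =
      (jsh g).map ((AlgSp.yon S).map b) ≫ (repIso g U).inv ≫
        QuotSh.quotπ 𝕃 ((Over.map g).map a) ((Over.map g).map b) := by
    have h1 : ∀ {X Y : Over S} (f : X ⟶ Y), (jsh g).map ((AlgSp.yon S).map f) ≫ (repIso g Y).inv =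
        (repIso g X).inv ≫ QuotSh.repMap 𝕃 ((Over.map g).map f) := by
      intro X Y f
      rw [Iso.eq_inv_comp, ← Category.assoc, ← repIso_nat, Category.assoc, Iso.hom_inv_id,
        Category.comp_id]
    rw [← Category.assoc, h1, ← Category.assoc, h1, Category.assoc, Category.assoc,
      QuotSh.quot_condition]
  let φ : QuotSh.quot 𝕃 ((Over.map g).map a) ((Over.map g).map b) ⟶ (jsh g).obj F :=
    coequalizer.desc ((repIso g U).hom ≫ (jsh g).map p) w1
  let ψ : (jsh g).obj F ⟶ QuotSh.quot 𝕃 ((Over.map g).map a) ((Over.map g).map b) :=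
    Cofork.IsColimit.desc hcol' ((repIso g U).inv ≫ QuotSh.quotπ 𝕃 _ _) w2
  have hπφ : QuotSh.quotπ 𝕃 ((Over.map g).map a) ((Over.map g).map b) ≫ φ =
      (repIso g U).hom ≫ (jsh g).map p := coequalizer.π_desc _ _
  have hpψ : (jsh g).map p ≫ ψ = (repIso g U).inv ≫ QuotSh.quotπ 𝕃 _ _ :=
    Cofork.IsColimit.π_desc' hcol' _ w2
  refine halg.of_iso ⟨φ, ψ, ?_, ?_⟩
  · apply coequalizer.hom_ext
    change QuotSh.quotπ 𝕃 _ _ ≫ φ ≫ ψ = QuotSh.quotπ 𝕃 _ _ ≫ 𝟙 _
    rw [← Category.assoc, hπφ, Category.assoc, hpψ, Iso.hom_inv_id_assoc, Category.comp_id]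
  · apply Cofork.IsColimit.hom_ext hcol'
    change (jsh g).map p ≫ ψ ≫ φ = (jsh g).map p ≫ 𝟙 _
    rw [← Category.assoc, hpψ, Category.assoc, hπφ, Iso.inv_hom_id_assoc, Category.comp_id]

end AlgSpace

end Groth.Agent.Lib.Seat44.Jshriek
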