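import Mathlib

/-!
# Seat44: the system of kernel pairs `T ×_{D i} T` of a map `T ⟶ lim D`

For a functor `D : I ⥤ C`, a cone `c` and `a : T ⟶ c.pt`, the objects `T ×_{D i} T` form a functor `kp D c a : I ⥤ C`,
with a cone `kpCone` with apex `T ×_{c.pt} T`, which is a limit cone if `c` is a limit cone and `I` is cofiltered.
The transition maps are base changes of the diagonals of the transition maps of `D`.
-/

set_option autoImplicit false
universe v u
open CategoryTheory CategoryTheory.Limits

namespace Groth.Agent.Lib.Seat44.KerPairSys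

variable {C : Type u} [Category.{v} C] [HasPullbacks C] {I : Type*} [Category I] (D : I ⥤ C) (c : Cone D)
  {T : C} (a : T ⟶ c.pt)

lemma kp_cond {i j : I} (φ : i ⟶ j) :
    pullback.fst (a ≫ c.π.app i) (a ≫ c.π.app i) ≫ a ≫ c.π.app j =
      pullback.snd (a ≫ c.π.app i) (a ≫ c.π.app i) ≫ a ≫ c.π.app j := by
  have h := pullback.condition (f := a ≫ c.π.app i) (g := a ≫ c.π.app i)
  rw [← c.w φ]
  simp only [← Category.assoc] at h ⊢
  rw [h]

/-- the system `i ↦ T ×_{D i} T`. -/
noncomputable def kp : I ⥤ C where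
  obj i := pullback (a ≫ c.π.app i) (a ≫ c.π.app i)
  map {i j} φ := pullback.lift (pullback.fst _ _) (pullback.snd _ _) (kp_cond D c a φ)
  map_id i := by
    apply pullback.hom_ext
    · rw [pullback.lift_fst, Category.id_comp]
    · rw [pullback.lift_snd, Category.id_comp]
  map_comp {i j k} φ ψ := by
    apply pullback.hom_ext
    · rw [pullback.lift_fst, Category.assoc, pullback.lift_fst, pullback.lift_fst]
    · rw [pullback.lift_snd, Category.assoc, pullback.lift_snd, pullback.lift_snd]

/-- first projection -/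
noncomputable def kfst (i : I) : (kp D c a).obj i ⟶ T := pullback.fst (a ≫ c.π.app i) (a ≫ c.π.app i)
/-- second projection -/
noncomputable def ksnd (i : I) : (kp D c a).obj i ⟶ T := pullback.snd (a ≫ c.π.app i) (a ≫ c.π.app i)

lemma k_isPullback (i : I) :
    IsPullback (kfst D c a i) (ksnd D c a i) (a ≫ c.π.app i) (a ≫ c.π.app i) :=
  IsPullback.of_hasPullback _ _

lemma k_hom_ext {i : I} {Z : C} {u v : Z ⟶ (kp D c a).obj i} (h1 : u ≫ kfst D c a i = v ≫ kfst D c a i)
    (h2 : u ≫ ksnd D c a i = v ≫ ksnd D c a i) : u = v :=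
  (k_isPullback D c a i).hom_ext h1 h2

@[reassoc (attr := simp)]
lemma kp_map_fst {i j : I} (φ : i ⟶ j) : (kp D c a).map φ ≫ kfst D c a j = kfst D c a i :=
  pullback.lift_fst _ _ _

@[reassoc (attr := simp)]
lemma kp_map_snd {i j : I} (φ : i ⟶ j) : (kp D c a).map φ ≫ ksnd D c a j = ksnd D c a i :=
  pullback.lift_snd _ _ _

/-- the first projections `T ×_{D i} T ⟶ T`. -/
noncomputable def kpFst : kp D c a ⟶ (Functor.const I).obj T where
  app i := kfst D c a i
  naturality i j φ := by
    simp only [Functor.const_obj_obj, Functor.const_obj_map, Category.comp_id]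
    exact kp_map_fst D c a φ

@[simp] lemma kpFst_app (i : I) : (kpFst D c a).app i = kfst D c a i := rfl

/-- the comparison `T ×_{c.pt} T ⟶ T ×_{D i} T`. -/
noncomputable def kpπ (i : I) : pullback a a ⟶ (kp D c a).obj i :=
  (k_isPullback D c a i).lift (pullback.fst a a) (pullback.snd a a) (by
    have h := pullback.condition (f := a) (g := a)
    simp only [← Category.assoc]
    rw [h])

@[reassoc (attr := simp)]
lemma kpπ_fst (i : I) : kpπ D c a i ≫ kfst D c a i = pullback.fst a a :=
  (k_isPullback D c a i).lift_fst _ _ _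

@[reassoc (attr := simp)]
lemma kpπ_snd (i : I) : kpπ D c a i ≫ ksnd D c a i = pullback.snd a a :=
  (k_isPullback D c a i).lift_snd _ _ _

/-- the cone over `kp` with apex `T ×_{c.pt} T`. -/
noncomputable def kpCone : Cone (kp D c a) where
  pt := pullback a a
  π :=
    { app := fun i => kpπ D c a i
      naturality := fun i j φ => by
        simp only [Functor.const_obj_obj, Functor.const_obj_map, Category.id_comp]
        apply k_hom_ext
        · rw [Category.assoc, kp_map_fst, kpπ_fst, kpπ_fst]
        · rw [Category.assoc, kp_map_snd, kpπ_snd, kpπ_snd] }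

@[simp] lemma kpCone_pt : (kpCone D c a).pt = pullback a a := rfl
@[simp] lemma kpCone_π_app (i : I) : (kpCone D c a).π.app i = kpπ D c a i := rfl

variable [IsCofiltered I]

lemma cone_fst_eq (s : Cone (kp D c a)) (i k : I) :
    s.π.app i ≫ kfst D c a i = s.π.app k ≫ kfst D c a k := by
  obtain ⟨l, α, β, -⟩ := IsCofilteredOrEmpty.cone_objs i k
  rw [← s.w α, ← s.w β, Category.assoc, Category.assoc, kp_map_fst, kp_map_fst]

lemma cone_snd_eq (s : Cone (kp D c a)) (i k : I) :
    s.π.app i ≫ ksnd D c a i = s.π.app k ≫ ksnd D c a k := by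
  obtain ⟨l, α, β, -⟩ := IsCofilteredOrEmpty.cone_objs i k
  rw [← s.w α, ← s.w β, Category.assoc, Category.assoc, kp_map_snd, kp_map_snd]

/-- `T ×_{lim D} T = lim (T ×_{D i} T)`. -/
noncomputable def kpIsLimit (hc : IsLimit c) : IsLimit (kpCone D c a) := by
  haveI : Nonempty I := IsCofiltered.nonempty
  let i₀ : I := Classical.arbitrary I
  refine
    { lift := fun s => pullback.lift (s.π.app i₀ ≫ kfst D c a i₀) (s.π.app i₀ ≫ ksnd D c a i₀) ?_
      fac := ?_
      uniq := ?_ }
  · refine hc.hom_ext (fun k => ?_)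
    rw [cone_fst_eq D c a s i₀ k, cone_snd_eq D c a s i₀ k]
    simp only [Category.assoc]
    rw [(k_isPullback D c a k).w]
  · intro s k
    change (pullback.lift (s.π.app i₀ ≫ kfst D c a i₀) (s.π.app i₀ ≫ ksnd D c a i₀) _ :
      s.pt ⟶ pullback a a) ≫ kpπ D c a k = s.π.app k
    apply k_hom_ext
    · rw [Category.assoc, kpπ_fst, pullback.lift_fst, cone_fst_eq D c a s i₀ k]
    · rw [Category.assoc, kpπ_snd, pullback.lift_snd, cone_snd_eq D c a s i₀ k]
  · intro s (m : s.pt ⟶ pullback a a) hm
    have h1 : m ≫ kpπ D c a i₀ = s.π.app i₀ := hm i₀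
    apply pullback.hom_ext
    · rw [pullback.lift_fst, ← h1, Category.assoc, kpπ_fst]
    · rw [pullback.lift_snd, ← h1, Category.assoc, kpπ_snd]

omit [IsCofiltered I] in
/-- the transition maps of `kp` are base changes of the diagonals of the transition maps of `D`. -/
theorem kp_map_isPullback {i j : I} (φ : i ⟶ j) :
    ∃ (top : (kp D c a).obj i ⟶ D.obj i) (bot : (kp D c a).obj j ⟶ pullback (D.map φ) (D.map φ)),
      IsPullback top ((kp D c a).map φ) (pullback.diagonal (D.map φ)) bot := by
  have key : ∀ (b : T ⟶ D.obj j) (hb : (a ≫ c.π.app i) ≫ D.map φ = b)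
      (w : pullback.fst (a ≫ c.π.app i) (a ≫ c.π.app i) ≫ b =
        pullback.snd (a ≫ c.π.app i) (a ≫ c.π.app i) ≫ b),
      ∃ (top : pullback (a ≫ c.π.app i) (a ≫ c.π.app i) ⟶ D.obj i)
        (bot : pullback b b ⟶ pullback (D.map φ) (D.map φ)),
        IsPullback top (pullback.lift (pullback.fst _ _) (pullback.snd _ _) w)
          (pullback.diagonal (D.map φ)) bot := by
    intro b hb w
    subst hb
    have h := pullback_map_diagonal_isPullback (a ≫ c.π.app i) (a ≫ c.π.app i) (D.map φ)
    have e : pullback.lift (pullback.fst (a ≫ c.π.app i) (a ≫ c.π.app i))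
        (pullback.snd (a ≫ c.π.app i) (a ≫ c.π.app i)) w =
        pullback.map (a ≫ c.π.app i) (a ≫ c.π.app i) ((a ≫ c.π.app i) ≫ D.map φ)
          ((a ≫ c.π.app i) ≫ D.map φ) (𝟙 T) (𝟙 T) (D.map φ) (Category.id_comp _).symm
          (Category.id_comp _).symm := by
      apply pullback.hom_ext
      · rw [pullback.lift_fst, pullback.lift_fst, Category.comp_id]
      · rw [pullback.lift_snd, pullback.lift_snd, Category.comp_id]
    rw [e]
    exact ⟨_, _, h⟩
  exact key (a ≫ c.π.app j) (by rw [Category.assoc, c.w]) (kp_cond D c a φ)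

end Groth.Agent.Lib.Seat44.KerPairSys
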