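import Mathlib.CategoryTheory.Limits.Shapes.Diagonal
import Mathlib.CategoryTheory.Filtered.Basic
import Mathlib.CategoryTheory.Limits.Shapes.Pullback.IsPullback.Basic

/-!
# The systems `X_i ×_Y X_i` and `X ×_{X_i} X` attached to a system `X_i` over `Y` with a cone `X`

For `D : I ⥤ C` with structure maps `t : D ⟶ const Y` and a cone `c` (apex `X`, with `g : X ⟶ Y` compatible):

* `fibSys D t : I ⥤ C`, `i ↦ X_i ×_Y X_i`, with cone `fibCone` of apex `X ×_Y X`, a limit cone if `c` is;
* `kerSys D c : I ⥤ C`, `i ↦ X ×_{X_i} X`, with cone `kerCone` of apex `X` (diagonals), a limit cone if `c` is and `I`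
  is cofiltered; its structure maps `kerToFib` to `X ×_Y X`;
* the cartesian squares expressing `X ×_{X_i} X ⟶ X ×_Y X` and the transition maps of `kerSys` as base changes of
  diagonals.
-/

set_option autoImplicit false
set_option backward.isDefEq.respectTransparency false
universe v u v' u'
open CategoryTheory CategoryTheory.Limits

namespace Groth.Agent.Lib.Seat44.KerSys

variable {C : Type u} [Category.{v} C] [HasPullbacks C]

/-- `X ×_{X₁} X ⟶ X ×_Y X` is the base change of the diagonal of `X₁ ⟶ Y`. -/
theorem isPullback_ker_fib {X X₁ Y : C} (π : X ⟶ X₁) (t : X₁ ⟶ Y) (g : X ⟶ Y) (h : π ≫ t = g) :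
    IsPullback (pullback.fst π π ≫ π)
      (pullback.lift (pullback.fst π π) (pullback.snd π π)
        (by rw [← h, ← Category.assoc, pullback.condition, Category.assoc]) : pullback π π ⟶ pullback g g)
      (pullback.diagonal t)
      (pullback.map g g t t π π (𝟙 Y) (by rw [h, Category.comp_id]) (by rw [h, Category.comp_id])) := by
  subst h
  have := pullback_map_diagonal_isPullback π π t
  convert this using 1
  apply pullback.hom_ext <;> simp

/-- the diagonal of a composite. -/
theorem diagonal_comp_lift {X X₁ Y : C} (π : X ⟶ X₁) (t : X₁ ⟶ Y) (g : X ⟶ Y) (h : π ≫ t = g) :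
    pullback.diagonal π ≫ (pullback.lift (pullback.fst π π) (pullback.snd π π)
        (by rw [← h, ← Category.assoc, pullback.condition, Category.assoc]) : pullback π π ⟶ pullback g g) =
      pullback.diagonal g := by
  apply pullback.hom_ext <;> simp

variable {I : Type u'} [Category.{v'} I] (D : I ⥤ C) {Y : C} (t : D ⟶ (Functor.const I).obj Y)

omit [HasPullbacks C] in
lemma t_nat {i j : I} (φ : i ⟶ j) : D.map φ ≫ t.app j = t.app i :=
  (t.naturality φ).trans (Category.comp_id _)

/-- the system `i ↦ X_i ×_Y X_i`. -/
noncomputable def fibSys : I ⥤ C where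
  obj i := pullback (t.app i) (t.app i)
  map {i j} φ := pullback.map (t.app i) (t.app i) (t.app j) (t.app j) (D.map φ) (D.map φ) (𝟙 Y)
    ((Category.comp_id _).trans (t_nat D t φ).symm) ((Category.comp_id _).trans (t_nat D t φ).symm)
  map_id i := by apply pullback.hom_ext <;> simp
  map_comp φ ψ := by apply pullback.hom_ext <;> simp

lemma fibSys_obj (i : I) : (fibSys D t).obj i = pullback (t.app i) (t.app i) := rfl

lemma fibSys_map {i j : I} (φ : i ⟶ j) :
    (fibSys D t).map φ = pullback.map (t.app i) (t.app i) (t.app j) (t.app j) (D.map φ) (D.map φ) (𝟙 Y)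
      ((Category.comp_id _).trans (t_nat D t φ).symm) ((Category.comp_id _).trans (t_nat D t φ).symm) := rfl

section Cone

variable (c : Cone D) (g : c.pt ⟶ Y) (hg : ∀ i, c.π.app i ≫ t.app i = g)

/-- the cone `X ×_Y X ⟶ X_i ×_Y X_i`. -/
noncomputable def fibCone : Cone (fibSys D t) where
  pt := pullback g g
  π :=
    { app := fun i => pullback.map g g (t.app i) (t.app i) (c.π.app i) (c.π.app i) (𝟙 Y)
        (by rw [Category.comp_id, hg]) (by rw [Category.comp_id, hg])
      naturality := fun i j φ => by
        apply pullback.hom_ext <;> simp [fibSys] }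

lemma fibCone_pt : (fibCone D t c g hg).pt = pullback g g := rfl

lemma fibCone_π (i : I) : (fibCone D t c g hg).π.app i =
    pullback.map g g (t.app i) (t.app i) (c.π.app i) (c.π.app i) (𝟙 Y)
      (by rw [Category.comp_id, hg]) (by rw [Category.comp_id, hg]) := rfl

/-- `X ×_Y X` is the limit of the `X_i ×_Y X_i`. -/
noncomputable def isLimitFibCone [Nonempty I] (hc : IsLimit c) : IsLimit (fibCone D t c g hg) := by
  let s1 : ∀ s : Cone (fibSys D t), Cone D := fun s =>
    { pt := s.pt
      π :=
        { app := fun i => s.π.app i ≫ pullback.fst _ _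
          naturality := fun i j φ => by
            have h := s.w φ
            simp only [Functor.const_obj_obj, Functor.const_obj_map, Category.id_comp]
            rw [← h, Category.assoc]
            simp [fibSys] } }
  let s2 : ∀ s : Cone (fibSys D t), Cone D := fun s =>
    { pt := s.pt
      π :=
        { app := fun i => s.π.app i ≫ pullback.snd _ _
          naturality := fun i j φ => by
            have h := s.w φ
            simp only [Functor.const_obj_obj, Functor.const_obj_map, Category.id_comp]
            rw [← h, Category.assoc]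
            simp [fibSys] } }
  have hpq : ∀ s : Cone (fibSys D t), hc.lift (s1 s) ≫ g = hc.lift (s2 s) ≫ g := by
    intro s
    obtain ⟨i⟩ := (inferInstance : Nonempty I)
    rw [← hg i, ← Category.assoc, ← Category.assoc, hc.fac, hc.fac]
    change (s.π.app i ≫ pullback.fst _ _) ≫ t.app i = (s.π.app i ≫ pullback.snd _ _) ≫ t.app i
    rw [Category.assoc, Category.assoc, pullback.condition]
  refine
    { lift := fun s => pullback.lift (hc.lift (s1 s)) (hc.lift (s2 s)) (hpq s)
      fac := fun s i => ?_
      uniq := fun s m hm => ?_ }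
  · apply pullback.hom_ext
    · rw [fibCone_π, Category.assoc, pullback.lift_fst, pullback.lift_fst_assoc, hc.fac]
    · rw [fibCone_π, Category.assoc, pullback.lift_snd, pullback.lift_snd_assoc, hc.fac]
  · apply pullback.hom_ext
    · rw [pullback.lift_fst]
      refine hc.hom_ext (fun i => ?_)
      rw [hc.fac]
      change _ = s.π.app i ≫ pullback.fst _ _
      rw [← hm i, fibCone_π, Category.assoc, Category.assoc, pullback.lift_fst]
    · rw [pullback.lift_snd]
      refine hc.hom_ext (fun i => ?_)
      rw [hc.fac]
      change _ = s.π.app i ≫ pullback.snd _ _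
      rw [← hm i, fibCone_π, Category.assoc, Category.assoc, pullback.lift_snd]

/-- the system `i ↦ X ×_{X_i} X`. -/
noncomputable def kerSys : I ⥤ C where
  obj i := pullback (c.π.app i) (c.π.app i)
  map {i j} φ := pullback.lift (pullback.fst _ _) (pullback.snd _ _)
    (by rw [← c.w φ, ← Category.assoc, pullback.condition, Category.assoc])
  map_id i := by apply pullback.hom_ext <;> simp
  map_comp φ ψ := by apply pullback.hom_ext <;> simp

lemma kerSys_obj (i : I) : (kerSys D c).obj i = pullback (c.π.app i) (c.π.app i) := rfl

lemma kerSys_map {i j : I} (φ : i ⟶ j) :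
    (kerSys D c).map φ = pullback.lift (pullback.fst _ _) (pullback.snd _ _)
      (by rw [← c.w φ, ← Category.assoc, pullback.condition, Category.assoc]) := rfl

@[reassoc]
lemma kerSys_map_fst {i j : I} (φ : i ⟶ j) :
    (kerSys D c).map φ ≫ pullback.fst (c.π.app j) (c.π.app j) = pullback.fst (c.π.app i) (c.π.app i) :=
  pullback.lift_fst _ _ _

@[reassoc]
lemma kerSys_map_snd {i j : I} (φ : i ⟶ j) :
    (kerSys D c).map φ ≫ pullback.snd (c.π.app j) (c.π.app j) = pullback.snd (c.π.app i) (c.π.app i) :=
  pullback.lift_snd _ _ _

/-- the cone of diagonals `X ⟶ X ×_{X_i} X`. -/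
noncomputable def kerCone : Cone (kerSys D c) where
  pt := c.pt
  π :=
    { app := fun i => pullback.diagonal (c.π.app i)
      naturality := fun i j φ => by
        apply pullback.hom_ext <;> simp [kerSys] }

lemma kerCone_π (i : I) : (kerCone D c).π.app i = pullback.diagonal (c.π.app i) := rfl

/-- `X` is the limit of the `X ×_{X_i} X`. -/
noncomputable def isLimitKerCone [IsCofiltered I] (hc : IsLimit c) : IsLimit (kerCone D c) := by
  have hfst : ∀ (s : Cone (kerSys D c)) (i j : I),
      s.π.app i ≫ pullback.fst (c.π.app i) (c.π.app i) = s.π.app j ≫ pullback.fst (c.π.app j) (c.π.app j) := by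
    intro s i j
    have h1 := s.w (IsCofiltered.minToLeft i j)
    have h2 := s.w (IsCofiltered.minToRight i j)
    rw [← h1, ← h2, Category.assoc, Category.assoc, kerSys_map_fst, kerSys_map_fst]
  have hsnd : ∀ (s : Cone (kerSys D c)) (i j : I),
      s.π.app i ≫ pullback.snd (c.π.app i) (c.π.app i) = s.π.app j ≫ pullback.snd (c.π.app j) (c.π.app j) := by
    intro s i j
    have h1 := s.w (IsCofiltered.minToLeft i j)
    have h2 := s.w (IsCofiltered.minToRight i j)
    rw [← h1, ← h2, Category.assoc, Category.assoc, kerSys_map_snd, kerSys_map_snd]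
  have hpq : ∀ (s : Cone (kerSys D c)) (i : I),
      s.π.app i ≫ pullback.fst (c.π.app i) (c.π.app i) = s.π.app i ≫ pullback.snd (c.π.app i) (c.π.app i) := by
    intro s i
    refine hc.hom_ext (fun j => ?_)
    rw [hfst s i j, hsnd s i j, Category.assoc, Category.assoc, pullback.condition]
  let i₀ : I := Classical.choice (IsCofiltered.nonempty (C := I))
  refine
    { lift := fun s => s.π.app i₀ ≫ pullback.fst _ _
      fac := fun s i => ?_
      uniq := fun s m hm => ?_ }
  · apply pullback.hom_ext
    · rw [kerCone_π, Category.assoc, pullback.diagonal_fst, Category.comp_id]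
      exact hfst s i₀ i
    · rw [kerCone_π, Category.assoc, pullback.diagonal_snd, Category.comp_id, hpq s i₀]
      exact hsnd s i₀ i
  · rw [← hm i₀, kerCone_π, Category.assoc, pullback.diagonal_fst, Category.comp_id]

/-- the structure maps `X ×_{X_i} X ⟶ X ×_Y X`. -/
noncomputable def kerToFib : kerSys D c ⟶ (Functor.const I).obj (pullback g g) where
  app i := pullback.lift (pullback.fst _ _) (pullback.snd _ _)
    (by rw [← hg i, ← Category.assoc, pullback.condition, Category.assoc])
  naturality i j φ := by
    apply pullback.hom_ext <;> simp [kerSys]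

lemma kerToFib_app (i : I) : (kerToFib D t c g hg).app i =
    pullback.lift (pullback.fst _ _) (pullback.snd _ _)
      (by rw [← hg i, ← Category.assoc, pullback.condition, Category.assoc]) := rfl

lemma kerCone_π_kerToFib (i : I) :
    (kerCone D c).π.app i ≫ (kerToFib D t c g hg).app i = pullback.diagonal g := by
  rw [kerCone_π, kerToFib_app]
  exact diagonal_comp_lift (c.π.app i) (t.app i) g (hg i)

/-- `X ×_{X_i} X ⟶ X ×_Y X` is the base change of the diagonal of `X_i ⟶ Y`. -/
theorem isPullback_kerToFib (i : I) :
    IsPullback (pullback.fst (c.π.app i) (c.π.app i) ≫ c.π.app i) ((kerToFib D t c g hg).app i)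
      (pullback.diagonal (t.app i)) ((fibCone D t c g hg).π.app i) :=
  isPullback_ker_fib (c.π.app i) (t.app i) g (hg i)

/-- the transition maps of `kerSys` are base changes of the diagonals of the transition maps of `D`. -/
theorem isPullback_kerSys_map {i j : I} (φ : i ⟶ j) :
    IsPullback (pullback.fst (c.π.app i) (c.π.app i) ≫ c.π.app i) ((kerSys D c).map φ)
      (pullback.diagonal (D.map φ))
      (pullback.map (c.π.app j) (c.π.app j) (D.map φ) (D.map φ) (c.π.app i) (c.π.app i) (𝟙 _)
        (by rw [c.w φ, Category.comp_id]) (by rw [c.w φ, Category.comp_id])) :=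
  isPullback_ker_fib (c.π.app i) (D.map φ) (c.π.app j) (c.w φ)

end Cone

end Groth.Agent.Lib.Seat44.KerSys
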