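import Mathlib

/-!
# Seat44: closed immersions into a cofiltered limit of affine schemes

* `ring_surjective_of_isColimit`: if `R = colim R_j` (filtered), `R → Q` is surjective and `Q` is of finite type over
  some `R_{j₁}`, then `R_j → Q` is surjective for all large `j`.
* `exists_isClosedImmersion_of_isLimit`: if `U = lim W_j` is a cofiltered limit of affine schemes, `Y → U` a closed
  immersion with `Y → W_{j₁}` locally of finite type, then `Y → W_j` is a closed immersion for all large `j`.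
-/

set_option autoImplicit false
set_option backward.isDefEq.respectTransparency false
set_option backward.isDefEq.respectTransparency.types false
universe u
open CategoryTheory CategoryTheory.Limits AlgebraicGeometry

namespace Groth.Agent.Lib.Seat44.LimClosed

theorem ring_surjective_of_isColimit {J : Type u} [SmallCategory J] [IsFiltered J]
    (F : J ⥤ CommRingCat.{u}) (c : Cocone F) (hc : IsColimit c) {Q : CommRingCat.{u}} (π : c.pt ⟶ Q)
    (hπ : Function.Surjective π.hom) (j₁ : J) (hft : (c.ι.app j₁ ≫ π).hom.FiniteType) :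
    ∃ (j₀ : J) (_ : j₁ ⟶ j₀), ∀ (j : J) (_ : j₀ ⟶ j), Function.Surjective (c.ι.app j ≫ π).hom := by
  classical
  have hc' := isColimitOfPreserves (forget CommRingCat) hc
  letI := (c.ι.app j₁ ≫ π).hom.toAlgebra
  obtain ⟨s, hs⟩ := (show Algebra.FiniteType (F.obj j₁) Q from hft).out
  have hlift : ∀ q : Q, ∃ (j : J) (x : F.obj j), π.hom ((c.ι.app j).hom x) = q := by
    intro q
    obtain ⟨r, hr⟩ := hπ q
    obtain ⟨j, x, hx⟩ := Types.jointly_surjective_of_isColimit hc' r
    exact ⟨j, x, by rw [← hr]; exact congrArg π.hom hx⟩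
  choose jq xq hxq using hlift
  obtain ⟨j₀, hj₀⟩ := IsFiltered.sup_objs_exists (insert j₁ (s.image jq))
  obtain ⟨φ₁⟩ := hj₀ (Finset.mem_insert_self _ _)
  refine ⟨j₀, φ₁, fun j ψ q => ?_⟩
  have hq : q ∈ Algebra.adjoin (F.obj j₁) (s : Set Q) := by rw [hs]; trivial
  induction hq using Algebra.adjoin_induction with
  | mem x hx =>
    obtain ⟨φ⟩ := hj₀ (Finset.mem_insert_of_mem (Finset.mem_image_of_mem jq hx))
    refine ⟨(F.map (φ ≫ ψ)).hom (xq x), ?_⟩
    have h1 := c.w (φ ≫ ψ)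
    refine Eq.trans ?_ (hxq x)
    rw [← h1]
    rfl
  | algebraMap r =>
    refine ⟨(F.map (φ₁ ≫ ψ)).hom r, ?_⟩
    have h1 := c.w (φ₁ ≫ ψ)
    change _ = (c.ι.app j₁ ≫ π).hom r
    rw [← h1]
    rfl
  | add x y _ _ hx hy =>
    obtain ⟨a, ha⟩ := hx
    obtain ⟨b, hb⟩ := hy
    exact ⟨a + b, by rw [map_add, ha, hb]⟩
  | mul x y _ _ hx hy =>
    obtain ⟨a, ha⟩ := hx
    obtain ⟨b, hb⟩ := hy
    exact ⟨a * b, by rw [map_mul, ha, hb]⟩

open Opposite in
theorem exists_isClosedImmersion_of_isLimit {J : Type u} [SmallCategory J] [IsCofiltered J]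
    (D : J ⥤ Scheme.{u}) [∀ j, IsAffine (D.obj j)] (c : Cone D) (hc : IsLimit c) [IsAffine c.pt]
    {Y : Scheme.{u}} [IsAffine Y] (w : Y ⟶ c.pt) [IsClosedImmersion w] (j₁ : J)
    [LocallyOfFiniteType (w ≫ c.π.app j₁)] :
    ∃ (j₀ : J) (_ : j₀ ⟶ j₁), ∀ (j : J) (_ : j ⟶ j₀), IsClosedImmersion (w ≫ c.π.app j) := by
  haveI : ∀ {i j : J} (f : i ⟶ j), IsAffineHom (D.map f) := fun f => inferInstance
  obtain ⟨hcol⟩ := nonempty_isColimit_Γ_mapCocone D c hc
  have hsurj : Function.Surjective w.appTop.hom :=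
    (IsClosedImmersion.isAffine_surjective_of_isAffine w).2
  have hft : ((Scheme.Γ.mapCocone c.op).ι.app (op j₁) ≫ w.appTop).hom.FiniteType := by
    have h1 := (HasRingHomProperty.iff_of_isAffine (P := @LocallyOfFiniteType)
      (f := w ≫ c.π.app j₁)).1 inferInstance
    rw [Scheme.Hom.comp_appTop] at h1
    exact h1
  obtain ⟨j₀, φ, h⟩ := ring_surjective_of_isColimit (D.op ⋙ Scheme.Γ) _ hcol w.appTop hsurj
    (op j₁) hft
  refine ⟨j₀.unop, φ.unop, fun j ψ => ?_⟩
  apply IsClosedImmersion.of_surjective_of_isAffine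
  have h2 := h (op j) ψ.op
  rw [Scheme.Hom.comp_appTop]
  exact h2

end Groth.Agent.Lib.Seat44.LimClosed
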