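import Groth.Agent.Lib.Seat44LimChart2
import Groth.Agent.Lib.Helper15QcRep
import Groth.Agent.Lib.Helper26LimDescend
import Groth.Agent.S10180
import Groth.Agent.S9920
import Groth.Agent.S9874

/-!
# Seat44: descending properties of base changes through limits of algebraic spaces, via charts

Situation: `D : I ⥤ Sp S` cofiltered with affine transition maps and limit cone `c`; `f₀ : X₀ ⟶ Y₀` over `D i₀`;
base changes `f_i : X_i ⟶ Y_i` and `f : X ⟶ Y`.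

* `exists_affine_chart_square` : a chart square of `f₀` by affine schemes `h₀ : U₀ ⟶ V₀`.
* `exists_stage_chart` : the induced chart square of any base change of `f₀` (pure sheaf theory).
* `exists_stage_of_schDescends` : descent of a property of the scheme morphism `U₀ ×_{V₀} T ⟶ T` from the limit
  `T = V₀ ×_{D i₀} lim D` to a stage `T = W_k`, given the scheme-level descent statement (`SchDescends`).
-/

set_option autoImplicit false
set_option backward.isDefEq.respectTransparency false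
set_option backward.isDefEq.respectTransparency.types false
universe u
open CategoryTheory CategoryTheory.Limits AlgebraicGeometry
open AlgSp

namespace Groth.Agent.Lib.Seat44.LimDesc

open Groth.Agent.Lib.Seat44.AffLim Groth.Agent.Lib.Seat44.LimChart Groth.Agent.Lib.Seat44.LimChart2

variable {S : Scheme.{u}}

/-- a chart square of `f₀` by affine schemes, with both charts étale surjective. -/
theorem exists_affine_chart_square [QuasiSeparatedSpace S] (X₀ Y₀ : AlgSp.Space S) (f₀ : X₀.obj ⟶ Y₀.obj)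
    (hXqc : AlgSp.IsQuasiCompactSp X₀.obj) (hYqc : AlgSp.IsQuasiCompactSp Y₀.obj)
    (hYqs : AlgSp.IsQuasiSeparatedSp Y₀.obj) :
    ∃ (U₀ V₀ : Over S) (aC : (yon S).obj U₀ ⟶ X₀.obj) (v : (yon S).obj V₀ ⟶ Y₀.obj) (h₀ : U₀ ⟶ V₀),
      IsAffine U₀.left ∧ IsAffine V₀.left ∧ RepWith @Etale aC ∧ RepWith @Surjective aC ∧
      RepWith @Etale v ∧ RepWith @Surjective v ∧ aC ≫ f₀ = (yon S).map h₀ ≫ v := by
  obtain ⟨V₀, v, hV₀, hve, hvs⟩ := Groth.Agent.S10180.exists_affine_chart hYqc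
  obtain ⟨U₀', u', hU₀', hue, hus⟩ := Groth.Agent.S10180.exists_affine_chart hXqc
  obtain ⟨U₁, pU, fstU, sqU⟩ := hve.1 (u' ≫ f₀)
  have hpUe : RepWith @Etale ((yon S).map pU) := (RepWith @Etale).of_isPullback sqU hve
  have hpUs : RepWith @Surjective ((yon S).map pU) := (RepWith @Surjective).of_isPullback sqU hvs
  have hqcv : IsQuasiCompactMor v := by
    let VV : Space S := ⟨(yon S).obj V₀, IsAlgSpace.yon_obj V₀⟩
    let vv : VV ⟶ Y₀ := ObjectProperty.homMk v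
    exact Groth.Agent.S9920.result vv
      (Groth.Agent.Lib.Helper15QcRep.isQuasiCompactSp_yon V₀ hV₀) hYqs
  have hU₁qc : IsQuasiCompactSp ((yon S).obj U₁) :=
    hqcv (IsAlgSpace.yon_obj U₀') (Groth.Agent.Lib.Helper15QcRep.isQuasiCompactSp_yon U₀' hU₀')
      (u' ≫ f₀) _ _ sqU
  obtain ⟨U₀, p, hU₀, hpe, hps⟩ := Groth.Agent.S10180.exists_affine_chart hU₁qc
  obtain ⟨h₀, hh₀⟩ := (yon S).map_surjective (p ≫ fstU)
  refine ⟨U₀, V₀, p ≫ (yon S).map pU ≫ u', v, h₀, hU₀, hV₀, ?_, ?_, hve, hvs, ?_⟩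
  · exact (RepWith @Etale).comp_mem _ _ hpe ((RepWith @Etale).comp_mem _ _ hpUe hue)
  · exact (RepWith @Surjective).comp_mem _ _ hps ((RepWith @Surjective).comp_mem _ _ hpUs hus)
  · rw [hh₀, Category.assoc, Category.assoc, Category.assoc, sqU.w]

/-- the chart square of a base change of `f₀` induced by a chart square of `f₀`. -/
theorem exists_stage_chart {X₀ Y₀ Xi Yi : AlgSp.Sp S} (f₀ : X₀ ⟶ Y₀) {U₀ V₀ T : Over S}
    (v : (yon S).obj V₀ ⟶ Y₀) (aC : (yon S).obj U₀ ⟶ X₀) (h₀ : U₀ ⟶ V₀)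
    (comm : aC ≫ f₀ = (yon S).map h₀ ≫ v) (ιT : T ⟶ V₀) (fi : Xi ⟶ Yi) (pYi : Yi ⟶ Y₀) (pXi : Xi ⟶ X₀)
    (sqX : IsPullback pXi fi f₀ pYi) (wY : (yon S).obj T ⟶ Yi)
    (sqw : IsPullback wY ((yon S).map ιT) pYi v) :
    ∃ a : (yon S).obj (pullback h₀ ιT) ⟶ Xi,
      IsPullback a ((yon S).map (pullback.fst h₀ ιT)) pXi aC ∧
      a ≫ fi = (yon S).map (pullback.snd h₀ ιT) ≫ wY := by
  have s4 : IsPullback ((yon S).map (pullback.snd h₀ ιT)) ((yon S).map (pullback.fst h₀ ιT))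
      ((yon S).map ιT) ((yon S).map h₀) := ((IsPullback.of_hasPullback h₀ ιT).map (yon S)).flip
  have s5 := s4.paste_horiz sqw
  have hc : ((yon S).map (pullback.fst h₀ ιT) ≫ aC) ≫ f₀ =
      ((yon S).map (pullback.snd h₀ ιT) ≫ wY) ≫ pYi := by
    rw [Category.assoc, comm, s5.w]
  refine ⟨sqX.lift _ _ hc, ?_, sqX.lift_snd _ _ hc⟩
  refine IsPullback.of_right ?_ (sqX.lift_fst _ _ hc) sqX.flip
  rw [sqX.lift_snd, comm]
  exact s5

/-- scheme-level descent statement for `P` (the shape of the descent theorems for flat, smooth, étale). -/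
def SchDescends (P : MorphismProperty Scheme.{u}) : Prop :=
  ∀ {I : Type u} [SmallCategory I] [IsCofiltered I] (D : I ⥤ Scheme.{u}) (c : Cone D) (_ : IsLimit c)
    [∀ (i j : I) (f : i ⟶ j), IsAffineHom (D.map f)] (i₀ : I) [CompactSpace (D.obj i₀)]
    [QuasiSeparatedSpace (D.obj i₀)] {X₀ Y₀ : Scheme.{u}} (f₀ : X₀ ⟶ Y₀) (g₀ : Y₀ ⟶ D.obj i₀)
    [CompactSpace X₀] [QuasiSeparatedSpace X₀] [CompactSpace Y₀] [QuasiSeparatedSpace Y₀]
    [LocallyOfFinitePresentation f₀]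
    {X Y : Scheme.{u}} (f : X ⟶ Y) (g : Y ⟶ c.pt) (qY : Y ⟶ Y₀) (qX : X ⟶ X₀)
    (_ : IsPullback qY g g₀ (c.π.app i₀)) (_ : IsPullback qX f f₀ qY), P f →
    ∃ (i : I) (φ : i ⟶ i₀) (Xi Yi : Scheme.{u}) (fi : Xi ⟶ Yi) (gi : Yi ⟶ D.obj i) (pY : Yi ⟶ Y₀)
      (pX : Xi ⟶ X₀), IsPullback pY gi g₀ (D.map φ) ∧ IsPullback pX fi f₀ pY ∧ P fi

section WSystem

variable {I : Type u} [SmallCategory I] [IsCofiltered I] (D : I ⥤ AlgSp.Sp S)
  (hDa : ∀ (i j : I) (φ : i ⟶ j), AlgSp.IsAffineMor (D.map φ)) (i₀ : I)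
  {V₀ : Over S} (hV₀ : IsAffine V₀.left) (g : (yon S).obj V₀ ⟶ D.obj i₀)

omit [IsCofiltered I] in
/-- `W_{id} ⟶ V₀` is an isomorphism. -/
lemma isIso_Wι_id : IsIso (Wι D hDa i₀ hV₀ g (Over.mk (𝟙 i₀))) := by
  have sq := Wsq D hDa i₀ hV₀ g (Over.mk (𝟙 i₀))
  haveI : IsIso (D.map (Over.mk (𝟙 i₀)).hom) := by
    change IsIso (D.map (𝟙 i₀))
    rw [D.map_id]
    infer_instance
  haveI : IsIso ((yon S).map (Wι D hDa i₀ hV₀ g (Over.mk (𝟙 i₀)))) := sq.isIso_snd_of_isIso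
  exact isIso_of_fully_faithful (yon S) _

/-- descent of a property of `U₀ ×_{V₀} T ⟶ T` from the limit of the `W`-system to a stage. -/
theorem exists_stage_of_schDescends (P : MorphismProperty Scheme.{u}) [P.IsStableUnderBaseChange]
    (hP : SchDescends P) (cW : Cone (W D hDa i₀ hV₀ g)) (hlimW : IsLimit ((Over.forget S).mapCone cW))
    {U₀ : Over S} (hU₀ : IsAffine U₀.left) (h₀ : U₀ ⟶ V₀) [LocallyOfFinitePresentation h₀.left]
    (h : P (pullback.snd h₀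
      (cW.π.app (Over.mk (𝟙 i₀)) ≫ Wι D hDa i₀ hV₀ g (Over.mk (𝟙 i₀)))).left) :
    ∃ k : Over i₀, P (pullback.snd h₀ (Wι D hDa i₀ hV₀ g k)).left := by
  haveI := hV₀
  haveI := hU₀
  haveI := isIso_Wι_id D hDa i₀ hV₀ g
  haveI : ∀ k, IsAffine ((W D hDa i₀ hV₀ g ⋙ Over.forget S).obj k) := fun k => Waff D hDa i₀ hV₀ g k
  haveI : ∀ (k k' : Over i₀) (ψ : k ⟶ k'), IsAffineHom ((W D hDa i₀ hV₀ g ⋙ Over.forget S).map ψ) :=
    fun _ _ ψ => inferInstance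
  haveI : IsIso (Wι D hDa i₀ hV₀ g (Over.mk (𝟙 i₀))).left :=
    inferInstanceAs (IsIso ((Over.forget S).map (Wι D hDa i₀ hV₀ g (Over.mk (𝟙 i₀)))))
  let j₀ : Over i₀ := Over.mk (𝟙 i₀)
  let g₀ : V₀.left ⟶ (W D hDa i₀ hV₀ g ⋙ Over.forget S).obj j₀ := inv (Wι D hDa i₀ hV₀ g j₀).left
  haveI : IsIso g₀ := inferInstanceAs (IsIso (inv (Wι D hDa i₀ hV₀ g j₀).left))
  let iinf : cW.pt ⟶ V₀ := cW.π.app j₀ ≫ Wι D hDa i₀ hV₀ g j₀
  have hY : IsPullback iinf.left (𝟙 cW.pt.left) g₀ (((Over.forget S).mapCone cW).π.app j₀) := by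
    refine IsPullback.of_vert_isIso ⟨?_⟩
    change (cW.π.app j₀ ≫ Wι D hDa i₀ hV₀ g j₀).left ≫ inv (Wι D hDa i₀ hV₀ g j₀).left =
      𝟙 _ ≫ (cW.π.app j₀).left
    rw [Over.comp_left, Category.assoc, IsIso.hom_inv_id, Category.comp_id, Category.id_comp]
  have hX : IsPullback (pullback.fst h₀ iinf).left (pullback.snd h₀ iinf).left h₀.left iinf.left :=
    (IsPullback.of_hasPullback h₀ iinf).map (Over.forget S)
  obtain ⟨k, φ, Xk, Yk, fk, gk, pY, pX, hpY, hpX, hfk⟩ :=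
    hP (W D hDa i₀ hV₀ g ⋙ Over.forget S) ((Over.forget S).mapCone cW) hlimW j₀ h₀.left g₀
      (pullback.snd h₀ iinf).left (𝟙 _) iinf.left (pullback.fst h₀ iinf).left hY hX h
  refine ⟨k, ?_⟩
  have comm' : (Wι D hDa i₀ hV₀ g k).left ≫ g₀ =
      𝟙 _ ≫ (W D hDa i₀ hV₀ g ⋙ Over.forget S).map φ := by
    change (Wι D hDa i₀ hV₀ g k).left ≫ inv (Wι D hDa i₀ hV₀ g j₀).left =
      𝟙 _ ≫ ((W D hDa i₀ hV₀ g).map φ).left
    rw [Category.id_comp, IsIso.comp_inv_eq, ← Over.comp_left, W_map_ι]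
  exact Groth.Agent.Lib.Helper26.LimDescend.of_two_pullbacks P
    ((IsPullback.of_hasPullback h₀ (Wι D hDa i₀ hV₀ g k)).map (Over.forget S)) hpX
    (hpY.lift (Wι D hDa i₀ hV₀ g k).left (𝟙 _) comm') (hpY.lift_fst _ _ _) hfk

end WSystem

/-- **Descent through limits via charts.**  Let `P` be a property of morphisms of schemes, stable under base change, for
which the scheme-level descent statement holds, and `Q` a property of morphisms of sheaves which implies `P` on every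
chart square and is implied by `P` on one chart square with étale surjective source chart.  Then `Q` descends from the
base change of `f₀` to the limit to its base change to some stage. -/
theorem descend_via_charts [QuasiSeparatedSpace S] (P : MorphismProperty Scheme.{u}) [P.IsStableUnderBaseChange]
    (hP : SchDescends P) (Q : MorphismProperty (AlgSp.Sp S))
    (hQP : ∀ {X Y : AlgSp.Sp S} (f : X ⟶ Y) {U V : Over S} (a : (yon S).obj U ⟶ X)
      (b : (yon S).obj V ⟶ Y) (h : U ⟶ V), RepWith @Etale a → RepWith @Etale b →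
      a ≫ f = (yon S).map h ≫ b → Q f → P h.left)
    (hPQ : ∀ {X Y : AlgSp.Sp S}, IsAlgSpace X → IsAlgSpace Y → ∀ (f : X ⟶ Y) {U V : Over S}
      (a : (yon S).obj U ⟶ X) (b : (yon S).obj V ⟶ Y) (h : U ⟶ V), RepWith @Etale a →
      RepWith @Surjective a → RepWith @Etale b → a ≫ f = (yon S).map h ≫ b → P h.left → Q f)
    {I : Type u} [SmallCategory I] [IsCofiltered I]
    (D : I ⥤ AlgSp.Sp S) (hD : ∀ i, AlgSp.IsAlgSpace (D.obj i))
    (hDa : ∀ (i j : I) (φ : i ⟶ j), AlgSp.IsAffineMor (D.map φ))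
    (c : Cone D) (hc : IsLimit c) (i₀ : I)
    (X₀ Y₀ : AlgSp.Space S) (f₀ : X₀.obj ⟶ Y₀.obj) (b₀ : Y₀.obj ⟶ D.obj i₀)
    (hXqc : AlgSp.IsQuasiCompactSp X₀.obj)
    (hYqc : AlgSp.IsQuasiCompactSp Y₀.obj) (hYqs : AlgSp.IsQuasiSeparatedSp Y₀.obj)
    (X Y : AlgSp.Sp S) (f : X ⟶ Y) (pY : Y ⟶ Y₀.obj) (qY : Y ⟶ c.pt)
    (hY : IsPullback pY qY b₀ (c.π.app i₀)) (pX : X ⟶ X₀.obj) (hX : IsPullback pX f f₀ pY)
    (hf : Q f) (hf₀ : AlgSp.LocP @LocallyOfFinitePresentation f₀) :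
    ∃ (i : I) (φ : i ⟶ i₀), ∀ (Xi Yi : AlgSp.Sp S) (fi : Xi ⟶ Yi) (pYi : Yi ⟶ Y₀.obj) (qYi : Yi ⟶ D.obj i)
      (_ : IsPullback pYi qYi b₀ (D.map φ)) (pXi : Xi ⟶ X₀.obj) (_ : IsPullback pXi fi f₀ pYi),
      Q fi := by
  obtain ⟨U₀, V₀, aC, v, h₀, hU₀, hV₀, hae, has, hve, hvs, comm⟩ :=
    exists_affine_chart_square X₀ Y₀ f₀ hXqc hYqc hYqs
  haveI : LocallyOfFinitePresentation h₀.left := hf₀ aC v h₀ hae hve comm
  obtain ⟨cW, hcW, fstW, hcWaff, ⟨hlimW⟩, sqW, sq₀⟩ := exists_chart_data' D hDa c hc i₀ hV₀ (v ≫ b₀)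
  -- the chart of the limit
  have hcommInf : ((yon S).map (cW.π.app (Over.mk (𝟙 i₀)) ≫
      Wι D hDa i₀ hV₀ (v ≫ b₀) (Over.mk (𝟙 i₀))) ≫ v) ≫ b₀ = fstW ≫ c.π.app i₀ := by
    rw [Category.assoc]
    exact sq₀.w.symm
  have sqvY : IsPullback (hY.lift _ _ hcommInf) ((yon S).map (cW.π.app (Over.mk (𝟙 i₀)) ≫
      Wι D hDa i₀ hV₀ (v ≫ b₀) (Over.mk (𝟙 i₀)))) pY v := by
    refine IsPullback.of_right ?_ (hY.lift_fst _ _ _) hY.flip
    rw [hY.lift_snd]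
    exact sq₀
  obtain ⟨aInf, sqaInf, commaInf⟩ := exists_stage_chart f₀ v aC h₀ comm _ f pY pX hX _ sqvY
  have hInf : P (pullback.snd h₀ (cW.π.app (Over.mk (𝟙 i₀)) ≫
      Wι D hDa i₀ hV₀ (v ≫ b₀) (Over.mk (𝟙 i₀)))).left :=
    hQP f aInf _ _ ((RepWith @Etale).of_isPullback sqaInf.flip hae)
      ((RepWith @Etale).of_isPullback sqvY.flip hve) commaInf hf
  obtain ⟨k, hk⟩ := exists_stage_of_schDescends D hDa i₀ hV₀ (v ≫ b₀) P hP cW hlimW hU₀ h₀ hInf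
  refine ⟨k.left, k.hom, ?_⟩
  intro Xi Yi fi pYi qYi sqY pXi sqX
  have hcommk : ((yon S).map (Wι D hDa i₀ hV₀ (v ≫ b₀) k) ≫ v) ≫ b₀ =
      Wfst D hDa i₀ hV₀ (v ≫ b₀) k ≫ D.map k.hom := by
    rw [Category.assoc]
    exact (Wsq D hDa i₀ hV₀ (v ≫ b₀) k).w.symm
  have sqwY : IsPullback (sqY.lift _ _ hcommk) ((yon S).map (Wι D hDa i₀ hV₀ (v ≫ b₀) k)) pYi v := by
    refine IsPullback.of_right ?_ (sqY.lift_fst _ _ _) sqY.flip
    rw [sqY.lift_snd]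
    exact Wsq D hDa i₀ hV₀ (v ≫ b₀) k
  obtain ⟨a, sqa, comma⟩ := exists_stage_chart f₀ v aC h₀ comm _ fi pYi pXi sqX _ sqwY
  have hYi : IsAlgSpace Yi :=
    Groth.Agent.S9874.isAlgSpace_of_isPullback (hD i₀).diag Y₀.property (hD k.left) sqY
  have hXi : IsAlgSpace Xi :=
    Groth.Agent.S9874.isAlgSpace_of_isPullback Y₀.property.diag X₀.property hYi sqX
  exact hPQ hXi hYi fi a _ _ ((RepWith @Etale).of_isPullback sqa.flip hae)
    ((RepWith @Surjective).of_isPullback sqa.flip has)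
    ((RepWith @Etale).of_isPullback sqwY.flip hve) comma hk

end Groth.Agent.Lib.Seat44.LimDesc
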