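import Groth.Agent.Lib.Seat44LimDesc
import Groth.Agent.S10127

/-!
# Seat44: descending `RepWith P` of base changes through limits of algebraic spaces, via a chart of the target

Situation: `D : I ⥤ Sp S` cofiltered with affine transition maps and limit cone `c`; `f₀ : X₀ ⟶ Y₀` a REPRESENTABLE
morphism over `D i₀`, `v : V₀ ⟶ Y₀` an étale surjective chart by an affine scheme and `h₀ : E₀ ⟶ V₀` the base change of
`f₀` (a morphism of schemes), with `E₀` quasi-compact and quasi-separated.  If the scheme-level descent statement for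
`P` holds for morphisms with `R`, and `h₀` has `R`, then `RepWith P` descends from the base change of `f₀` to the limit
to its base changes to some stage (`descend_repWith_via_target_chart`).
-/

set_option autoImplicit false
set_option backward.isDefEq.respectTransparency false
set_option backward.isDefEq.respectTransparency.types false
universe u
open CategoryTheory CategoryTheory.Limits AlgebraicGeometry
open AlgSp

namespace Groth.Agent.Lib.Seat44.LimDescRep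

open Groth.Agent.Lib.Seat44.AffLim Groth.Agent.Lib.Seat44.LimChart Groth.Agent.Lib.Seat44.LimChart2
  Groth.Agent.Lib.Seat44.LimDesc

variable {S : Scheme.{u}}

/-- scheme-level descent statement for `P`, for morphisms `f₀` having `R`. -/
def SchDescendsWith (R P : MorphismProperty Scheme.{u}) : Prop :=
  ∀ {I : Type u} [SmallCategory I] [IsCofiltered I] (D : I ⥤ Scheme.{u}) (c : Cone D) (_ : IsLimit c)
    [∀ (i j : I) (f : i ⟶ j), IsAffineHom (D.map f)] (i₀ : I) [CompactSpace (D.obj i₀)]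
    [QuasiSeparatedSpace (D.obj i₀)] {X₀ Y₀ : Scheme.{u}} (f₀ : X₀ ⟶ Y₀) (g₀ : Y₀ ⟶ D.obj i₀)
    [CompactSpace X₀] [QuasiSeparatedSpace X₀] [CompactSpace Y₀] [QuasiSeparatedSpace Y₀],
    R f₀ → ∀ {X Y : Scheme.{u}} (f : X ⟶ Y) (g : Y ⟶ c.pt) (qY : Y ⟶ Y₀) (qX : X ⟶ X₀)
    (_ : IsPullback qY g g₀ (c.π.app i₀)) (_ : IsPullback qX f f₀ qY), P f →
    ∃ (i : I) (φ : i ⟶ i₀) (Xi Yi : Scheme.{u}) (fi : Xi ⟶ Yi) (gi : Yi ⟶ D.obj i) (pY : Yi ⟶ Y₀)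
      (pX : Xi ⟶ X₀), IsPullback pY gi g₀ (D.map φ) ∧ IsPullback pX fi f₀ pY ∧ P fi

section WSystem

variable {I : Type u} [SmallCategory I] [IsCofiltered I] (D : I ⥤ AlgSp.Sp S)
  (hDa : ∀ (i j : I) (φ : i ⟶ j), AlgSp.IsAffineMor (D.map φ)) (i₀ : I)
  {V₀ : Over S} (hV₀ : IsAffine V₀.left) (g : (yon S).obj V₀ ⟶ D.obj i₀)

/-- descent of a property of `E₀ ×_{V₀} T ⟶ T` from the limit of the `W`-system to a stage (`E₀` qcqs). -/
theorem exists_stage_of_schDescendsWith (R P : MorphismProperty Scheme.{u}) [P.IsStableUnderBaseChange]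
    (hP : SchDescendsWith R P) (cW : Cone (W D hDa i₀ hV₀ g))
    (hlimW : IsLimit ((Over.forget S).mapCone cW))
    {E₀ : Over S} [CompactSpace E₀.left] [QuasiSeparatedSpace E₀.left] (h₀ : E₀ ⟶ V₀)
    (hR : R h₀.left)
    (h : P (pullback.snd h₀
      (cW.π.app (Over.mk (𝟙 i₀)) ≫ Wι D hDa i₀ hV₀ g (Over.mk (𝟙 i₀)))).left) :
    ∃ k : Over i₀, P (pullback.snd h₀ (Wι D hDa i₀ hV₀ g k)).left := by
  haveI := hV₀
  haveI := isIso_Wι_id D hDa i₀ hV₀ g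
  haveI : ∀ k, IsAffine ((W D hDa i₀ hV₀ g ⋙ Over.forget S).obj k) := fun k => Waff D hDa i₀ hV₀ g k
  haveI : ∀ (k k' : Over i₀) (ψ : k ⟶ k'), IsAffineHom ((W D hDa i₀ hV₀ g ⋙ Over.forget S).map ψ) :=
    fun _ _ ψ => inferInstance
  haveI : IsIso (Wι D hDa i₀ hV₀ g (Over.mk (𝟙 i₀))).left :=
    inferInstanceAs (IsIso ((Over.forget S).map (Wι D hDa i₀ hV₀ g (Over.mk (𝟙 i₀)))))
  let j₀ : Over i₀ := Over.mk (𝟙 i₀)
  let g₀ : V₀.left ⟶ (W D hDa i₀ hV₀ g ⋙ Over.forget S).obj j₀ := inv (Wι D hDa i₀ hV₀ g j₀).left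
  haveI : IsIso g₀ := inferInstanceAs (IsIso (inv (Wι D hDa i₀ hV₀ g j₀).left))
  let iinf : cW.pt ⟶ V₀ := cW.π.app j₀ ≫ Wι D hDa i₀ hV₀ g j₀
  have hY : IsPullback iinf.left (𝟙 cW.pt.left) g₀ (((Over.forget S).mapCone cW).π.app j₀) := by
    refine IsPullback.of_vert_isIso ⟨?_⟩
    change (cW.π.app j₀ ≫ Wι D hDa i₀ hV₀ g j₀).left ≫ inv (Wι D hDa i₀ hV₀ g j₀).left =
      𝟙 _ ≫ (cW.π.app j₀).left
    rw [Over.comp_left, Category.assoc, IsIso.hom_inv_id, Category.comp_id, Category.id_comp]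
  have hX : IsPullback (pullback.fst h₀ iinf).left (pullback.snd h₀ iinf).left h₀.left iinf.left :=
    (IsPullback.of_hasPullback h₀ iinf).map (Over.forget S)
  obtain ⟨k, φ, Xk, Yk, fk, gk, pY, pX, hpY, hpX, hfk⟩ :=
    hP (W D hDa i₀ hV₀ g ⋙ Over.forget S) ((Over.forget S).mapCone cW) hlimW j₀ h₀.left g₀ hR
      (pullback.snd h₀ iinf).left (𝟙 _) iinf.left (pullback.fst h₀ iinf).left hY hX h
  refine ⟨k, ?_⟩
  have comm' : (Wι D hDa i₀ hV₀ g k).left ≫ g₀ =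
      𝟙 _ ≫ (W D hDa i₀ hV₀ g ⋙ Over.forget S).map φ := by
    change (Wι D hDa i₀ hV₀ g k).left ≫ inv (Wι D hDa i₀ hV₀ g j₀).left =
      𝟙 _ ≫ ((W D hDa i₀ hV₀ g).map φ).left
    rw [Category.id_comp, IsIso.comp_inv_eq, ← Over.comp_left, W_map_ι]
  exact Groth.Agent.Lib.Helper26.LimDescend.of_two_pullbacks P
    ((IsPullback.of_hasPullback h₀ (Wι D hDa i₀ hV₀ g k)).map (Over.forget S)) hpX
    (hpY.lift (Wι D hDa i₀ hV₀ g k).left (𝟙 _) comm') (hpY.lift_fst _ _ _) hfk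

end WSystem

/-- the chart square of a base change of a representable `f₀` induced by a cartesian chart square of `f₀` is
cartesian. -/
theorem exists_stage_chart_cartesian {X₀ Y₀ Xi Yi : AlgSp.Sp S} (f₀ : X₀ ⟶ Y₀) {E₀ V₀ T : Over S}
    (v : (yon S).obj V₀ ⟶ Y₀) (e : (yon S).obj E₀ ⟶ X₀) (h₀ : E₀ ⟶ V₀)
    (sqE : IsPullback e ((yon S).map h₀) f₀ v) (ιT : T ⟶ V₀) (fi : Xi ⟶ Yi) (pYi : Yi ⟶ Y₀) (pXi : Xi ⟶ X₀)
    (sqX : IsPullback pXi fi f₀ pYi) (wY : (yon S).obj T ⟶ Yi)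
    (sqw : IsPullback wY ((yon S).map ιT) pYi v) :
    ∃ a : (yon S).obj (pullback h₀ ιT) ⟶ Xi,
      IsPullback a ((yon S).map (pullback.snd h₀ ιT)) fi wY := by
  obtain ⟨a, sqa, comma⟩ := exists_stage_chart f₀ v e h₀ sqE.w ιT fi pYi pXi sqX wY sqw
  refine ⟨a, ?_⟩
  have s4 : IsPullback ((yon S).map (pullback.fst h₀ ιT)) ((yon S).map (pullback.snd h₀ ιT))
      ((yon S).map h₀) ((yon S).map ιT) := (IsPullback.of_hasPullback h₀ ιT).map (yon S)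
  have big := s4.paste_horiz sqE
  refine IsPullback.of_right ?_ comma sqX
  rw [sqa.w, sqw.w]
  exact big

/-- **Descent of `RepWith P` through limits via a chart of the target.** -/
theorem descend_repWith_via_target_chart (R P : MorphismProperty Scheme.{u})
    [P.IsStableUnderBaseChange]
    [P.DescendsAlong (@Surjective ⊓ @Flat ⊓ @LocallyOfFinitePresentation)]
    (hP : SchDescendsWith R P)
    {I : Type u} [SmallCategory I] [IsCofiltered I]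
    (D : I ⥤ AlgSp.Sp S)
    (hDa : ∀ (i j : I) (φ : i ⟶ j), AlgSp.IsAffineMor (D.map φ))
    (c : Cone D) (hc : IsLimit c) (i₀ : I)
    {X₀ Y₀ : AlgSp.Sp S} (f₀ : X₀ ⟶ Y₀) (hrep : AlgSp.Representable f₀) (b₀ : Y₀ ⟶ D.obj i₀)
    {V₀ E₀ : Over S} (hV₀ : IsAffine V₀.left) (v : (yon S).obj V₀ ⟶ Y₀)
    (hve : RepWith @Etale v) (hvs : RepWith @Surjective v)
    (h₀ : E₀ ⟶ V₀) (e : (yon S).obj E₀ ⟶ X₀) (sqE : IsPullback e ((yon S).map h₀) f₀ v)
    [CompactSpace E₀.left] [QuasiSeparatedSpace E₀.left] (hR : R h₀.left)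
    (X Y : AlgSp.Sp S) (f : X ⟶ Y) (pY : Y ⟶ Y₀) (qY : Y ⟶ c.pt)
    (hY : IsPullback pY qY b₀ (c.π.app i₀)) (pX : X ⟶ X₀) (hX : IsPullback pX f f₀ pY)
    (hf : RepWith P f) :
    ∃ (i : I) (φ : i ⟶ i₀), ∀ (Xi Yi : AlgSp.Sp S) (fi : Xi ⟶ Yi) (pYi : Yi ⟶ Y₀) (qYi : Yi ⟶ D.obj i)
      (_ : IsPullback pYi qYi b₀ (D.map φ)) (pXi : Xi ⟶ X₀) (_ : IsPullback pXi fi f₀ pYi),
      RepWith P fi := by
  obtain ⟨cW, hcW, fstW, hcWaff, ⟨hlimW⟩, sqW, sq₀⟩ := exists_chart_data' D hDa c hc i₀ hV₀ (v ≫ b₀)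
  -- the chart of the limit
  have hcommInf : ((yon S).map (cW.π.app (Over.mk (𝟙 i₀)) ≫
      Wι D hDa i₀ hV₀ (v ≫ b₀) (Over.mk (𝟙 i₀))) ≫ v) ≫ b₀ = fstW ≫ c.π.app i₀ := by
    rw [Category.assoc]
    exact sq₀.w.symm
  have sqvY : IsPullback (hY.lift _ _ hcommInf) ((yon S).map (cW.π.app (Over.mk (𝟙 i₀)) ≫
      Wι D hDa i₀ hV₀ (v ≫ b₀) (Over.mk (𝟙 i₀)))) pY v := by
    refine IsPullback.of_right ?_ (hY.lift_fst _ _ _) hY.flip
    rw [hY.lift_snd]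
    exact sq₀
  obtain ⟨aInf, sqaInf⟩ := exists_stage_chart_cartesian f₀ v e h₀ sqE _ f pY pX hX _ sqvY
  have hInf : P (pullback.snd h₀ (cW.π.app (Over.mk (𝟙 i₀)) ≫
      Wι D hDa i₀ hV₀ (v ≫ b₀) (Over.mk (𝟙 i₀)))).left := hf.2 _ _ _ sqaInf
  obtain ⟨k, hk⟩ := exists_stage_of_schDescendsWith D hDa i₀ hV₀ (v ≫ b₀) R P hP cW hlimW h₀ hR hInf
  refine ⟨k.left, k.hom, ?_⟩
  intro Xi Yi fi pYi qYi sqY pXi sqX
  have hcommk : ((yon S).map (Wι D hDa i₀ hV₀ (v ≫ b₀) k) ≫ v) ≫ b₀ =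
      Wfst D hDa i₀ hV₀ (v ≫ b₀) k ≫ D.map k.hom := by
    rw [Category.assoc]
    exact (Wsq D hDa i₀ hV₀ (v ≫ b₀) k).w.symm
  have sqwY : IsPullback (sqY.lift _ _ hcommk) ((yon S).map (Wι D hDa i₀ hV₀ (v ≫ b₀) k)) pYi v := by
    refine IsPullback.of_right ?_ (sqY.lift_fst _ _ _) sqY.flip
    rw [sqY.lift_snd]
    exact Wsq D hDa i₀ hV₀ (v ≫ b₀) k
  obtain ⟨a, sqa⟩ := exists_stage_chart_cartesian f₀ v e h₀ sqE _ fi pYi pXi sqX _ sqwY
  have hrepi : AlgSp.Representable fi :=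
    MorphismProperty.of_isPullback (P := AlgSp.Representable (S := S)) sqX hrep
  exact Groth.Agent.S10127.repWith_of_atlas P fi hrepi _
    ((RepWith @Etale).of_isPullback sqwY.flip hve)
    ((RepWith @Surjective).of_isPullback sqwY.flip hvs) _ a sqa hk

end Groth.Agent.Lib.Seat44.LimDescRep
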