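import Mathlib.CategoryTheory.Limits.Shapes.Pullback.IsPullback.Basic
import Mathlib.CategoryTheory.Limits.Shapes.Pullback.HasPullback

/-!
# Rebasing a pair of pullback squares along a factorisation of the base map

Given a factorisation `B ⟶ B₁ ⟶ B₀` of the base map and a tower of pullback squares
`X ⟶ X₀`, `Y ⟶ Y₀` over `B ⟶ B₀`, we re-express them as a tower of pullback squares over `B ⟶ B₁`
with targets the canonical base changes `Y₁ = Y₀ ×_{B₀} B₁` and `X₁ = X₀ ×_{Y₀} Y₁`.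
-/

set_option autoImplicit false
universe v u
open CategoryTheory CategoryTheory.Limits

namespace Groth.Agent.Lib.Seat44.Rebase

variable {C : Type u} [Category.{v} C] [HasPullbacks C]

/-- rebasing a tower of two pullback squares along a factorisation `β ≫ β₁` of the base map. -/
theorem exists_rebase {X₀ Y₀ B₀ B₁ B X Y : C} (f₀ : X₀ ⟶ Y₀) (b₀ : Y₀ ⟶ B₀) (β₁ : B₁ ⟶ B₀) (β : B ⟶ B₁)
    {f : X ⟶ Y} {pY : Y ⟶ Y₀} {qY : Y ⟶ B} (hY : IsPullback pY qY b₀ (β ≫ β₁))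
    {pX : X ⟶ X₀} (hX : IsPullback pX f f₀ pY) :
    ∃ (pY' : Y ⟶ pullback b₀ β₁) (pX' : X ⟶ pullback f₀ (pullback.fst b₀ β₁)),
      IsPullback pY' qY (pullback.snd b₀ β₁) β ∧
      IsPullback pX' f (pullback.snd f₀ (pullback.fst b₀ β₁)) pY' ∧
      pY' ≫ pullback.fst b₀ β₁ = pY ∧ pX' ≫ pullback.fst f₀ (pullback.fst b₀ β₁) = pX := by
  have w1 : pY ≫ b₀ = (qY ≫ β) ≫ β₁ := by rw [Category.assoc]; exact hY.w
  have hfst : pullback.lift pY (qY ≫ β) w1 ≫ pullback.fst b₀ β₁ = pY := pullback.lift_fst _ _ _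
  have hsnd : pullback.lift pY (qY ≫ β) w1 ≫ pullback.snd b₀ β₁ = qY ≫ β := pullback.lift_snd _ _ _
  have sqY' : IsPullback (pullback.lift pY (qY ≫ β) w1) qY (pullback.snd b₀ β₁) β := by
    refine IsPullback.of_right ?_ hsnd (IsPullback.of_hasPullback b₀ β₁)
    rw [hfst]
    exact hY
  have w2 : pX ≫ f₀ = (f ≫ pullback.lift pY (qY ≫ β) w1) ≫ pullback.fst b₀ β₁ := by
    rw [Category.assoc, hfst]; exact hX.w
  have hfst2 : pullback.lift pX (f ≫ pullback.lift pY (qY ≫ β) w1) w2 ≫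
      pullback.fst f₀ (pullback.fst b₀ β₁) = pX := pullback.lift_fst _ _ _
  have hsnd2 : pullback.lift pX (f ≫ pullback.lift pY (qY ≫ β) w1) w2 ≫
      pullback.snd f₀ (pullback.fst b₀ β₁) = f ≫ pullback.lift pY (qY ≫ β) w1 := pullback.lift_snd _ _ _
  refine ⟨pullback.lift pY (qY ≫ β) w1, pullback.lift pX (f ≫ pullback.lift pY (qY ≫ β) w1) w2,
    sqY', ?_, hfst, hfst2⟩
  refine IsPullback.of_right ?_ hsnd2 (IsPullback.of_hasPullback f₀ (pullback.fst b₀ β₁))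
  rw [hfst2, hfst]
  exact hX

end Groth.Agent.Lib.Seat44.Rebase
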