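import Groth.Agent.S10017
import Groth.Agent.S9984
import Groth.Agent.Lib.Seat44LimDescRep
import Groth.Agent.Lib.Seat44Rebase

/-!
# Descending `RepWith P` for affine base changes whose stage-`i₀` model is only locally of finite type

If the base change `f` of `f₀` to the limit is affine and representable with `P`, `f₀` is locally of finite type, and
`P` descends at the level of schemes (for locally finite type models), then at some stage every base change of `f₀`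
is representable with `P`.
-/

set_option autoImplicit false
set_option backward.isDefEq.respectTransparency false
set_option backward.isDefEq.respectTransparency.types false
universe u
open CategoryTheory CategoryTheory.Limits AlgebraicGeometry
open AlgSp

namespace Groth.Agent.Lib.Seat44.LimDescAff

open Groth.Agent.Lib.Seat44.AffLim Groth.Agent.Lib.Seat44.LimChart Groth.Agent.Lib.Seat44.LimChart2
  Groth.Agent.Lib.Seat44.LimDescRep Groth.Agent.Lib.Seat44.Rebase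

/-- descent of `RepWith P` for affine `f` with `f₀` locally of finite type. -/
theorem descend_repWith_of_isAffineMor (P : MorphismProperty Scheme.{u})
    [P.IsStableUnderBaseChange]
    [P.DescendsAlong (@Surjective ⊓ @Flat ⊓ @LocallyOfFinitePresentation)]
    (hP : SchDescendsWith @LocallyOfFiniteType P)
    (S : Scheme.{u}) [QuasiSeparatedSpace S] {I : Type u} [SmallCategory I] [IsCofiltered I]
    (D : I ⥤ AlgSp.Sp S) (hD : ∀ i, AlgSp.IsAlgSpace (D.obj i))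
    (hDa : ∀ (i j : I) (φ : i ⟶ j), AlgSp.IsAffineMor (D.map φ))
    (c : Cone D) (hc : IsLimit c) (i₀ : I)
    (hBqc : AlgSp.IsQuasiCompactSp (D.obj i₀)) (hBqs : AlgSp.IsQuasiSeparatedSp (D.obj i₀))
    (X₀ Y₀ : AlgSp.Space S) (f₀ : X₀.obj ⟶ Y₀.obj) (b₀ : Y₀.obj ⟶ D.obj i₀)
    (hXqc : AlgSp.IsQuasiCompactSp X₀.obj) (hXqs : AlgSp.IsQuasiSeparatedSp X₀.obj)
    (hYqc : AlgSp.IsQuasiCompactSp Y₀.obj) (hYqs : AlgSp.IsQuasiSeparatedSp Y₀.obj)
    (X Y : AlgSp.Sp S) (f : X ⟶ Y) (pY : Y ⟶ Y₀.obj) (qY : Y ⟶ c.pt)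
    (hY : IsPullback pY qY b₀ (c.π.app i₀)) (pX : X ⟶ X₀.obj) (hX : IsPullback pX f f₀ pY)
    (hfaff : AlgSp.IsAffineMor f) (hf : AlgSp.RepWith P f) (hf₀ : AlgSp.LocP @LocallyOfFiniteType f₀) :
    ∃ (i : I) (φ : i ⟶ i₀), ∀ (Xi Yi : AlgSp.Sp S) (fi : Xi ⟶ Yi) (pYi : Yi ⟶ Y₀.obj) (qYi : Yi ⟶ D.obj i)
      (_ : IsPullback pYi qYi b₀ (D.map φ)) (pXi : Xi ⟶ X₀.obj) (_ : IsPullback pXi fi f₀ pYi),
      AlgSp.RepWith P fi := by
  -- Step 1: a stage where the base change is affine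
  obtain ⟨i₁, φ₁, H₁⟩ := Groth.Agent.S10017.result S D hD hDa c hc i₀ hBqc hBqs X₀ Y₀ f₀ b₀
    hXqc hXqs hYqc hYqs X Y f pY qY hY pX hX hfaff
  -- Step 2: the canonical base change to stage `i₁`
  have sqY₁ := IsPullback.of_hasPullback b₀ (D.map φ₁)
  have sqX₁ := IsPullback.of_hasPullback f₀ (pullback.fst b₀ (D.map φ₁))
  have hY₁ : IsAlgSpace (pullback b₀ (D.map φ₁)) :=
    Groth.Agent.S9874.isAlgSpace_of_isPullback (hD i₀).diag Y₀.property (hD i₁) sqY₁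
  have hX₁ : IsAlgSpace (pullback f₀ (pullback.fst b₀ (D.map φ₁))) :=
    Groth.Agent.S9874.isAlgSpace_of_isPullback Y₀.property.diag X₀.property hY₁ sqX₁
  have hf₁aff : IsAffineMor (pullback.snd f₀ (pullback.fst b₀ (D.map φ₁))) :=
    H₁ _ _ _ _ _ sqY₁ _ sqX₁
  have hrep₁ : AlgSp.Representable (pullback.snd f₀ (pullback.fst b₀ (D.map φ₁))) :=
    (repWith_isAffineHom_of_isAffineMor _ hf₁aff).1
  have hlft₁ : LocP @LocallyOfFiniteType (pullback.snd f₀ (pullback.fst b₀ (D.map φ₁))) :=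
    Groth.Agent.S9984.result @LocallyOfFiniteType (Or.inl rfl)
      (X := X₀) (Y := Y₀) (Y' := ⟨_, hY₁⟩) (X' := ⟨_, hX₁⟩)
      (ObjectProperty.homMk f₀) (ObjectProperty.homMk (pullback.fst b₀ (D.map φ₁)))
      (ObjectProperty.homMk (pullback.fst f₀ (pullback.fst b₀ (D.map φ₁))))
      (ObjectProperty.homMk (pullback.snd f₀ (pullback.fst b₀ (D.map φ₁)))) sqX₁ hf₀
  -- Step 3: the chart of `Y₁`
  obtain ⟨V₀, v, hV₀, hve, hvs⟩ := Groth.Agent.S10180.exists_affine_chart hYqc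
  have hcommk : ((yon S).map (Wι D hDa i₀ hV₀ (v ≫ b₀) (Over.mk φ₁)) ≫ v) ≫ b₀ =
      Wfst D hDa i₀ hV₀ (v ≫ b₀) (Over.mk φ₁) ≫ D.map φ₁ := by
    rw [Category.assoc]
    exact (Wsq D hDa i₀ hV₀ (v ≫ b₀) (Over.mk φ₁)).w.symm
  have sqwY : IsPullback (sqY₁.lift _ _ hcommk) ((yon S).map (Wι D hDa i₀ hV₀ (v ≫ b₀) (Over.mk φ₁)))
      (pullback.fst b₀ (D.map φ₁)) v := by
    refine IsPullback.of_right ?_ (sqY₁.lift_fst _ _ _) sqY₁.flip
    rw [sqY₁.lift_snd]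
    exact Wsq D hDa i₀ hV₀ (v ≫ b₀) (Over.mk φ₁)
  have hwe : RepWith @Etale (sqY₁.lift _ _ hcommk) :=
    MorphismProperty.of_isPullback (P := RepWith @Etale) sqwY.flip hve
  have hws : RepWith @Surjective (sqY₁.lift _ _ hcommk) :=
    MorphismProperty.of_isPullback (P := RepWith @Surjective) sqwY.flip hvs
  have hWaff : IsAffine (Wobj D hDa i₀ hV₀ (v ≫ b₀) (Over.mk φ₁)).left :=
    Waff D hDa i₀ hV₀ (v ≫ b₀) (Over.mk φ₁)
  obtain ⟨T', iT', fst', sq', hT'⟩ := hf₁aff hWaff (sqY₁.lift _ _ hcommk)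
  have hfst'e : RepWith @Etale fst' :=
    MorphismProperty.of_isPullback (P := RepWith @Etale) sq'.flip hwe
  have hR : LocallyOfFiniteType iT'.left := hlft₁ fst' (sqY₁.lift _ _ hcommk) iT' hfst'e hwe sq'.w
  haveI := hT'
  -- Step 4: descend along the chart at stage `i₁`
  have hY' : IsPullback pY qY b₀ (c.π.app i₁ ≫ D.map φ₁) := by
    rw [c.w φ₁]; exact hY
  obtain ⟨pY', pX', sqY', sqX', -, -⟩ := exists_rebase f₀ b₀ (D.map φ₁) (c.π.app i₁) hY' hX
  obtain ⟨i₂, φ₂, H₂⟩ := descend_repWith_via_target_chart @LocallyOfFiniteType P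
    hP D hDa c hc i₁
    (pullback.snd f₀ (pullback.fst b₀ (D.map φ₁))) hrep₁ (pullback.snd b₀ (D.map φ₁))
    hWaff (sqY₁.lift _ _ hcommk) hwe hws iT' fst' sq' hR
    X Y f pY' qY sqY' pX' sqX' hf
  -- Step 5: conclude at stage `i₂`
  refine ⟨i₂, φ₂ ≫ φ₁, ?_⟩
  intro Xi Yi fi pYi qYi sqY pXi sqX
  rw [D.map_comp] at sqY
  obtain ⟨pYi', pXi', sqYi', sqXi', -, -⟩ := exists_rebase f₀ b₀ (D.map φ₁) (D.map φ₂) sqY sqX
  exact H₂ Xi Yi fi pYi' qYi sqYi' pXi' sqXi'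

end Groth.Agent.Lib.Seat44.LimDescAff
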