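import Mathlib

/-!
# Seat44: morphisms from a cofiltered limit of affine schemes over `S` to schemes locally of finite presentation/type

Two consequences of Mathlib's `Scheme.exists_π_app_comp_eq_of_locallyOfFinitePresentation` and
`Scheme.exists_hom_comp_eq_comp_of_locallyOfFiniteType`, for systems in `Over S`, relative to a stage `D i₁`.
-/

set_option autoImplicit false
set_option backward.isDefEq.respectTransparency false
set_option backward.isDefEq.respectTransparency.types false
universe u
open CategoryTheory CategoryTheory.Limits AlgebraicGeometry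

namespace Groth.Agent.Lib.Seat44.LimHom

variable {S : Scheme.{u}} {I : Type u} [SmallCategory I] [IsCofiltered I] (D : I ⥤ Over S) (c : Cone D)
  (hlim : IsLimit ((Over.forget S).mapCone c)) (hD : ∀ i, IsAffine (D.obj i).left)

/-- the restricted system over a stage -/
noncomputable def D₁ (i₁ : I) : Over i₁ ⥤ Scheme.{u} := Over.forget i₁ ⋙ D ⋙ Over.forget S

/-- the structure maps to the stage -/
noncomputable def t₁ (i₁ : I) : D₁ D i₁ ⟶ (Functor.const _).obj (D.obj i₁).left where
  app j := (D.map j.hom).left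
  naturality j j' ψ := by
    simp only [Functor.const_obj_obj, Functor.const_obj_map, Category.comp_id]
    change (D.map ψ.left).left ≫ (D.map j'.hom).left = _
    rw [← Over.comp_left, ← D.map_comp, Over.w ψ]

/-- the restricted cone -/
noncomputable def c₁ (i₁ : I) : Cone (D₁ D i₁) := ((Over.forget S).mapCone c).whisker (Over.forget i₁)

include hlim in
/-- the restricted cone is a limit cone -/
noncomputable def hc₁ (i₁ : I) : IsLimit (c₁ D c i₁) :=
  (Functor.Initial.isLimitWhiskerEquiv (Over.forget i₁) _).symm hlim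

include hlim hD in
/-- a morphism from the limit to a scheme locally of finite presentation over a stage factors through a stage. -/
theorem exists_factor_of_lfp (i₁ : I) {P : Over S} (pP : P ⟶ D.obj i₁)
    [LocallyOfFinitePresentation pP.left] (l : c.pt ⟶ P) (hl : l ≫ pP = c.π.app i₁) :
    ∃ (i₂ : I) (ψ : i₂ ⟶ i₁) (g : D.obj i₂ ⟶ P), c.π.app i₂ ≫ g = l ∧ g ≫ pP = D.map ψ := by
  haveI : ∀ j, IsAffine ((D₁ D i₁).obj j) := fun j => hD j.left
  haveI : ∀ {j j' : Over i₁} (f : j ⟶ j'), IsAffineHom ((D₁ D i₁).map f) := fun f => inferInstance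
  haveI : ∀ j, CompactSpace ↥((D₁ D i₁).obj j) := fun j => inferInstance
  haveI : ∀ j, QuasiSeparatedSpace ↥((D₁ D i₁).obj j) := fun j => inferInstance
  obtain ⟨j, g, hg1, hg2⟩ := Scheme.exists_π_app_comp_eq_of_locallyOfFinitePresentation (D₁ D i₁)
    (t₁ D i₁) pP.left (c₁ D c i₁) (hc₁ D c hlim i₁) l.left (by
      ext k : 2
      simp only [NatTrans.comp_app, Functor.const_map_app]
      change (c.π.app k.left).left ≫ (D.map k.hom).left = l.left ≫ pP.left
      rw [← Over.comp_left, ← Over.comp_left, c.w, hl])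
  have hg1' : (c.π.app j.left).left ≫ g = l.left := hg1
  have hg2' : g ≫ pP.left = (D.map j.hom).left := hg2
  have hw : g ≫ P.hom = (D.obj j.left).hom := by
    rw [← Over.w pP, ← Category.assoc, hg2', Over.w]
  refine ⟨j.left, j.hom, Over.homMk g hw, ?_, ?_⟩
  · ext1
    exact hg1'
  · ext1
    exact hg2'

include hlim hD in
/-- two sections over a stage of a scheme locally of finite type which agree on the limit agree on a stage. -/
theorem exists_eq_of_lft (i₂ : I) {E : Over S} (pE : E ⟶ D.obj i₂) [LocallyOfFiniteType pE.left]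
    (s s' : D.obj i₂ ⟶ E) (hs : s ≫ pE = 𝟙 _) (hs' : s' ≫ pE = 𝟙 _)
    (h : c.π.app i₂ ≫ s = c.π.app i₂ ≫ s') :
    ∃ (i₃ : I) (ψ : i₃ ⟶ i₂), D.map ψ ≫ s = D.map ψ ≫ s' := by
  haveI : ∀ j, IsAffine ((D₁ D i₂).obj j) := fun j => hD j.left
  haveI : ∀ {j j' : Over i₂} (f : j ⟶ j'), IsAffineHom ((D₁ D i₂).map f) := fun f => inferInstance
  haveI : ∀ j, CompactSpace ↥((D₁ D i₂).obj j) := fun j => inferInstance
  have e0 : (t₁ D i₂).app (Over.mk (𝟙 i₂)) = 𝟙 _ := by
    change (D.map (𝟙 i₂)).left = _
    rw [D.map_id]; rfl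
  obtain ⟨k, hik, hk⟩ := Scheme.exists_hom_comp_eq_comp_of_locallyOfFiniteType (D₁ D i₂)
    (t₁ D i₂) pE.left (c₁ D c i₂) (hc₁ D c hlim i₂) (i := Over.mk (𝟙 i₂)) s.left s'.left
    (by rw [e0, ← Over.comp_left, hs]; rfl) (by rw [e0, ← Over.comp_left, hs']; rfl)
    (by
      change (c.π.app i₂).left ≫ s.left = (c.π.app i₂).left ≫ s'.left
      rw [← Over.comp_left, ← Over.comp_left, h])
  refine ⟨k.left, hik.left, ?_⟩
  ext1
  exact hk

end Groth.Agent.Lib.Seat44.LimHom
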