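import Mathlib
import Groth.Agent.Lib.Helper12QuasiFiniteDescent

/-!
# Seat44: a morphism of schemes is locally quasi-finite as soon as its base change along itself is

`h : U ⟶ V` such that `pr₂ : U ×_V U ⟶ U` is locally quasi-finite.  Then `h` is locally quasi-finite: the fibre of `pr₂`
over `u` is the base change of the fibre of `h` over `h u` along the field extension `κ(h u) → κ(u)`, and quasi-finiteness
descends along field extensions.
-/

set_option autoImplicit false
universe u

open CategoryTheory CategoryTheory.Limits AlgebraicGeometry

namespace Groth.Agent.Lib.Seat44.LqfDiag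

/-- the spectrum of a field extension is an fpqc covering -/
lemma fpqc_specMap_residueFieldMap {U V : Scheme.{u}} (h : U ⟶ V) (x : U) :
    (@Surjective ⊓ @Flat ⊓ @QuasiCompact : MorphismProperty Scheme.{u})
      (Spec.map (h.residueFieldMap x)) := by
  refine ⟨⟨?_, ?_⟩, ?_⟩
  · constructor
    intro y
    have : Nonempty ↥(Spec (U.residueField x)) := inferInstance
    obtain ⟨z⟩ := this
    exact ⟨z, Subsingleton.elim _ _⟩
  · exact (inferInstance : Flat (Spec.map (h.residueFieldMap x)))
  · exact (inferInstance : QuasiCompact (Spec.map (h.residueFieldMap x)))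

theorem locallyQuasiFinite_of_pullback_snd {U V : Scheme.{u}} (h : U ⟶ V)
    [LocallyQuasiFinite (pullback.snd h h)] : LocallyQuasiFinite h := by
  have := Groth.Agent.Lib.Helper12.descendsAlong_locallyQuasiFinite.{u}
  apply LocallyQuasiFinite.of_fiberToSpecResidueField
  intro v
  by_cases hv : ∃ x : U, h x = v
  · obtain ⟨x, rfl⟩ := hv
    have sq := isPullback_fiberToSpecResidueField_of_isPullback (IsPullback.of_hasPullback h h) x
    have h1 : LocallyQuasiFinite ((pullback.snd h h).fiberToSpecResidueField x) := by
      unfold Scheme.Hom.fiberToSpecResidueField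
      exact MorphismProperty.pullback_snd (P := @LocallyQuasiFinite) _ _ ‹_›
    exact MorphismProperty.of_isPullback_of_descendsAlong
      (P := @LocallyQuasiFinite) (Q := (@Surjective ⊓ @Flat ⊓ @QuasiCompact : MorphismProperty Scheme.{u}))
      sq.flip (fpqc_specMap_residueFieldMap h x) h1
  · have hemp : IsEmpty ↥(h.fiber v) := by
      constructor
      intro z
      apply hv
      refine ⟨h.fiberι v z, ?_⟩
      have : h.fiberι v z ∈ Set.range (h.fiberι v) := ⟨z, rfl⟩
      rw [Scheme.Hom.range_fiberι] at this
      exact this
    infer_instance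

end Groth.Agent.Lib.Seat44.LqfDiag
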