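import Mathlib
import Groth.Agent.S9947
import Groth.Agent.S9984
import Groth.Agent.S9874
import Groth.Agent.Lib.Seat44LqfDiag

/-!
# Seat44: a morphism of algebraic spaces, locally of finite type, is locally quasi-finite as soon as its base change
along itself is
-/

set_option autoImplicit false
universe u

open CategoryTheory CategoryTheory.Limits AlgebraicGeometry AlgSp

namespace Groth.Agent.Lib.Seat44.LqfSelf

variable {S : Scheme.{u}}

theorem locP_lqf_of_pullback_snd {X B : AlgSp.Sp S} (hX : AlgSp.IsAlgSpace X) (hB : AlgSp.IsAlgSpace B)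
    (p : X ⟶ B) (hlft : AlgSp.LocP @LocallyOfFiniteType p)
    (h2 : AlgSp.LocP (@LocallyQuasiFinite ⊓ @LocallyOfFiniteType) (pullback.snd p p)) :
    AlgSp.LocP (@LocallyQuasiFinite ⊓ @LocallyOfFiniteType) p := by
  have hP : (@LocallyQuasiFinite ⊓ @LocallyOfFiniteType : MorphismProperty Scheme.{u}) = @LocallyOfFiniteType ∨
      (@LocallyQuasiFinite ⊓ @LocallyOfFiniteType : MorphismProperty Scheme.{u}) = @LocallyOfFinitePresentation ∨
      (@LocallyQuasiFinite ⊓ @LocallyOfFiniteType : MorphismProperty Scheme.{u}) = @Flat ∨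
      (@LocallyQuasiFinite ⊓ @LocallyOfFiniteType : MorphismProperty Scheme.{u}) = @Smooth ∨
      (@LocallyQuasiFinite ⊓ @LocallyOfFiniteType : MorphismProperty Scheme.{u}) = @Etale ∨
      (∀ ⦃A B : Scheme.{u}⦄ (g : A ⟶ B),
        (@LocallyQuasiFinite ⊓ @LocallyOfFiniteType : MorphismProperty Scheme.{u}) g ↔
          (LocallyQuasiFinite g ∧ LocallyOfFiniteType g)) ∨
      (∀ ⦃A B : Scheme.{u}⦄ (g : A ⟶ B),
        (@LocallyQuasiFinite ⊓ @LocallyOfFiniteType : MorphismProperty Scheme.{u}) g ↔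
          (LocallyOfFiniteType g ∧ FormallyUnramified g)) :=
    Or.inr (Or.inr (Or.inr (Or.inr (Or.inr (Or.inl (fun _ _ _ => Iff.rfl))))))
  obtain ⟨V, b, hbe, hbs⟩ := hB.atlas
  have sqV := IsPullback.of_hasPullback p b
  have hXV : AlgSp.IsAlgSpace (pullback p b) :=
    Groth.Agent.S9874.result S B hB.diag ⟨X, hX⟩ ⟨(AlgSp.yon S).obj V, AlgSp.IsAlgSpace.yon_obj V⟩
      p b _ _ _ sqV
  obtain ⟨U, a', ha'e, ha's⟩ := hXV.atlas
  have hπ1e : AlgSp.RepWith @Etale (pullback.fst p b) :=
    MorphismProperty.of_isPullback (P := AlgSp.RepWith @Etale) sqV.flip hbe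
  have hπ1s : AlgSp.RepWith @Surjective (pullback.fst p b) :=
    MorphismProperty.of_isPullback (P := AlgSp.RepWith @Surjective) sqV.flip hbs
  have hae : AlgSp.RepWith @Etale (a' ≫ pullback.fst p b) :=
    (AlgSp.RepWith (S := S) @Etale).comp_mem _ _ ha'e hπ1e
  have has : AlgSp.RepWith @Surjective (a' ≫ pullback.fst p b) :=
    (AlgSp.RepWith (S := S) @Surjective).comp_mem _ _ ha's hπ1s
  obtain ⟨h, hh⟩ := (AlgSp.yon S).map_surjective (a' ≫ pullback.snd p b)
  have comm : (a' ≫ pullback.fst p b) ≫ p = (AlgSp.yon S).map h ≫ b := by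
    rw [hh, Category.assoc, Category.assoc, sqV.w]
  have hlfth : LocallyOfFiniteType h.left := hlft _ b h hae hbe comm
  -- `Q = X_V ×_V U`
  have sqQ := IsPullback.of_hasPullback (pullback.snd p b) ((AlgSp.yon S).map h)
  have sqOuter := sqQ.paste_horiz sqV
  have hcomm2 : (pullback.fst (pullback.snd p b) ((AlgSp.yon S).map h) ≫ pullback.fst p b) ≫ p =
      (pullback.snd (pullback.snd p b) ((AlgSp.yon S).map h) ≫ a' ≫ pullback.fst p b) ≫ p := by
    rw [sqOuter.w, Category.assoc, ← comm]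
  have sqL : IsPullback (pullback.lift _ _ hcomm2) (pullback.snd (pullback.snd p b) ((AlgSp.yon S).map h))
      (pullback.snd p p) (a' ≫ pullback.fst p b) := by
    refine IsPullback.of_right ?_ (pullback.lift_snd _ _ _) (IsPullback.of_hasPullback p p)
    rw [pullback.lift_fst, comm]
    exact sqOuter
  have hQ : AlgSp.IsAlgSpace (pullback (pullback.snd p b) ((AlgSp.yon S).map h)) :=
    Groth.Agent.S9874.result S _ (AlgSp.IsAlgSpace.yon_obj V).diag ⟨_, hXV⟩
      ⟨(AlgSp.yon S).obj U, AlgSp.IsAlgSpace.yon_obj U⟩ _ _ _ _ _ sqQ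
  have hXX : AlgSp.IsAlgSpace (pullback p p) :=
    Groth.Agent.S9874.result S B hB.diag ⟨X, hX⟩ ⟨X, hX⟩ p p _ _ _ (IsPullback.of_hasPullback p p)
  have hρ2 : AlgSp.LocP (@LocallyQuasiFinite ⊓ @LocallyOfFiniteType)
      (pullback.snd (pullback.snd p b) ((AlgSp.yon S).map h)) :=
    Groth.Agent.S9984.result _ hP (X := ⟨pullback p p, hXX⟩) (Y := ⟨X, hX⟩)
      (Y' := ⟨(AlgSp.yon S).obj U, AlgSp.IsAlgSpace.yon_obj U⟩) (X' := ⟨_, hQ⟩)
      (ObjectProperty.homMk (pullback.snd p p)) (ObjectProperty.homMk (a' ≫ pullback.fst p b))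
      (ObjectProperty.homMk (pullback.lift _ _ hcomm2))
      (ObjectProperty.homMk (pullback.snd (pullback.snd p b) ((AlgSp.yon S).map h))) sqL h2
  -- `W = U ×_V U`
  have sqW := (IsPullback.of_hasPullback h h).map (AlgSp.yon S)
  have hcommk : ((AlgSp.yon S).map (pullback.fst h h) ≫ a') ≫ pullback.snd p b =
      (AlgSp.yon S).map (pullback.snd h h) ≫ (AlgSp.yon S).map h := by
    rw [Category.assoc, ← hh]
    exact sqW.w
  have sqK : IsPullback (pullback.lift _ _ hcommk) ((AlgSp.yon S).map (pullback.fst h h))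
      (pullback.fst (pullback.snd p b) ((AlgSp.yon S).map h)) a' := by
    refine IsPullback.of_right ?_ (pullback.lift_fst _ _ _) sqQ.flip
    rw [pullback.lift_snd, ← hh]
    exact sqW.flip
  have hke : AlgSp.RepWith @Etale (pullback.lift _ _ hcommk) :=
    MorphismProperty.of_isPullback (P := AlgSp.RepWith @Etale) sqK.flip ha'e
  have hq2 := hρ2 (pullback.lift _ _ hcommk) (𝟙 _) (pullback.snd h h) hke (AlgSp.repWith_id _ U)
    (by rw [pullback.lift_snd, Category.comp_id])
  -- transfer to the pullback of schemes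
  have hsnd : (PreservesPullback.iso (Over.forget S) h h).hom ≫ pullback.snd h.left h.left =
      (pullback.snd h h).left := PreservesPullback.iso_hom_snd (Over.forget S) h h
  have : LocallyQuasiFinite (pullback.snd h.left h.left) := by
    have e : pullback.snd h.left h.left =
        (PreservesPullback.iso (Over.forget S) h h).inv ≫ (pullback.snd h h).left := by
      rw [← hsnd, Iso.inv_hom_id_assoc]
    rw [e]
    exact (MorphismProperty.cancel_left_of_respectsIso @LocallyQuasiFinite _ _).2 hq2.1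
  have hlqf := Groth.Agent.Lib.Seat44.LqfDiag.locallyQuasiFinite_of_pullback_snd h.left
  exact Groth.Agent.S9947.result _ hP (X := ⟨X, hX⟩) (Y := ⟨B, hB⟩) (ObjectProperty.homMk p)
    (a' ≫ pullback.fst p b) b h hae has hbe comm ⟨hlqf, hlfth⟩

end Groth.Agent.Lib.Seat44.LqfSelf
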