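import Mathlib
import Groth.Agent.S9947
import Groth.Agent.S9911
import Groth.Agent.S9984
import Groth.Agent.S9874
import Groth.Agent.Lib.Seat44MorBasics

/-!
# Seat44: morphisms to the spectrum of a field are flat and universally open; base changes of such
-/

set_option autoImplicit false
universe u

open CategoryTheory CategoryTheory.Limits AlgebraicGeometry AlgSp

namespace Groth.Agent.Lib.Seat44.OverField

open Groth.Agent.Lib.Seat44.MorBasics

variable {S : Scheme.{u}}

/-- Every morphism from an algebraic space to the spectrum of a field is flat. -/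
theorem locP_flat_to_field {X : AlgSp.Sp S} (hX : AlgSp.IsAlgSpace X) {k : Type u} [Field k]
    (str : Spec (CommRingCat.of k) ⟶ S) (p : X ⟶ (AlgSp.yon S).obj (Over.mk str)) :
    AlgSp.LocP @Flat p := by
  obtain ⟨U, q, hqe, hqs⟩ := hX.atlas
  obtain ⟨v, hv⟩ := (AlgSp.yon S).map_surjective (q ≫ p)
  have : IsIntegral (Over.mk str).left := by
    change IsIntegral (Spec (CommRingCat.of k))
    infer_instance
  have : Subsingleton ↥(Over.mk str).left := by
    change Subsingleton ↥(Spec (CommRingCat.of k))
    infer_instance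
  have hvf : Flat v.left := inferInstance
  exact Groth.Agent.S9947.result @Flat (Or.inr (Or.inr (Or.inl rfl)))
    (X := ⟨X, hX⟩) (Y := (AlgSp.ofScheme S).obj (Over.mk str)) (ObjectProperty.homMk p)
    q (𝟙 _) v hqe hqs (AlgSp.repWith_id _ _) (by rw [hv]; exact (Category.comp_id _).symm) hvf

/-- Every morphism from an algebraic space to the spectrum of a field is universally open. -/
theorem isUnivOpenMor_to_field {X : AlgSp.Sp S} (hX : AlgSp.IsAlgSpace X) {k : Type u} [Field k]
    (str : Spec (CommRingCat.of k) ⟶ S) (p : X ⟶ (AlgSp.yon S).obj (Over.mk str)) :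
    AlgSp.IsUnivOpenMor p :=
  Groth.Agent.S9911.result (⟨X, hX⟩ : AlgSp.Space S) str (ObjectProperty.homMk p)

/-- A base change, along a morphism of algebraic spaces, of a morphism from an algebraic space to (a sheaf isomorphic to)
the spectrum of a field is flat and universally open. -/
theorem flat_univOpen_of_isPullback_to_field {X U Y P : AlgSp.Sp S} (hX : AlgSp.IsAlgSpace X)
    (hY : AlgSp.IsAlgSpace Y) {k : Type u} [Field k]
    (str : Spec (CommRingCat.of k) ⟶ S) (eU : U ≅ (AlgSp.yon S).obj (Over.mk str))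
    (p : X ⟶ U) (g : Y ⟶ U) (fst : P ⟶ X) (snd : P ⟶ Y) (sq : IsPullback fst snd p g) :
    AlgSp.LocP @Flat snd ∧ AlgSp.IsUnivOpenMor snd := by
  have hU : AlgSp.IsAlgSpace U := (AlgSp.IsAlgSpace.yon_obj (Over.mk str)).of_iso eU.symm
  have hP : AlgSp.IsAlgSpace P :=
    Groth.Agent.S9874.result S U hU.diag ⟨X, hX⟩ ⟨Y, hY⟩ p g P fst snd sq
  have h1 : AlgSp.LocP @Flat p := by
    have := locP_comp_iso @Flat eU.inv (locP_flat_to_field hX str (p ≫ eU.hom))
    simpa using this
  have h2 : AlgSp.IsUnivOpenMor p := by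
    have := univSp_comp_iso _ eU.inv (isUnivOpenMor_to_field hX str (p ≫ eU.hom))
    simp only [Category.assoc, Iso.hom_inv_id, Category.comp_id] at this
    exact this
  refine ⟨?_, univSp_of_isPullback _ sq h2⟩
  exact Groth.Agent.S9984.result @Flat (Or.inr (Or.inr (Or.inl rfl)))
    (X := ⟨X, hX⟩) (Y := ⟨U, hU⟩) (Y' := ⟨Y, hY⟩) (X' := ⟨P, hP⟩)
    (ObjectProperty.homMk p) (ObjectProperty.homMk g) (ObjectProperty.homMk fst)
    (ObjectProperty.homMk snd) sq h1

end Groth.Agent.Lib.Seat44.OverField
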