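import Mathlib
import Groth.Agent.S9907
import Groth.Agent.S9985
import Groth.Agent.Lib.Seat44OverField

/-!
# Seat44: the bundle "surjective, flat, universally open": over a field, base change, composition
-/

set_option autoImplicit false
universe u

open CategoryTheory CategoryTheory.Limits AlgebraicGeometry AlgSp

namespace Groth.Agent.Lib.Seat44.OverField

open Groth.Agent.Lib.Seat44.MorBasics

variable {S : Scheme.{u}}

/-- surjective, flat and universally open -/
def SFO {X Y : AlgSp.Sp S} (f : X ⟶ Y) : Prop :=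
  AlgSp.IsSurjectiveMor f ∧ AlgSp.LocP @Flat f ∧ AlgSp.IsUnivOpenMor f

/-- A morphism from an algebraic space to a sheaf isomorphic to the spectrum of a field is flat and universally open. -/
theorem flat_univOpen_to_field_iso {X U : AlgSp.Sp S} (hX : AlgSp.IsAlgSpace X) {k : Type u} [Field k]
    (str : Spec (CommRingCat.of k) ⟶ S) (eU : U ≅ (AlgSp.yon S).obj (Over.mk str)) (p : X ⟶ U) :
    AlgSp.LocP @Flat p ∧ AlgSp.IsUnivOpenMor p := by
  constructor
  · have := locP_comp_iso @Flat eU.inv (locP_flat_to_field hX str (p ≫ eU.hom))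
    simpa using this
  · have := univSp_comp_iso _ eU.inv (isUnivOpenMor_to_field hX str (p ≫ eU.hom))
    simp only [Category.assoc, Iso.hom_inv_id, Category.comp_id] at this
    exact this

/-- The space of points of the spectrum of a field is a singleton. -/
theorem subsingleton_points_of_iso_field {U : AlgSp.Sp S} {k : Type u} [Field k]
    (str : Spec (CommRingCat.of k) ⟶ S) (eU : U ≅ (AlgSp.yon S).obj (Over.mk str)) :
    Subsingleton (AlgSp.Points U) := by
  have h1 : Subsingleton (AlgSp.Points ((AlgSp.yon S).obj (Over.mk str))) := by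
    have : Subsingleton ↥(Over.mk str).left := by
      change Subsingleton ↥(Spec (CommRingCat.of k))
      infer_instance
    exact (AlgSp.Points.schemeEquiv (Over.mk str)).symm.injective.subsingleton
  have hinj : Function.Injective (AlgSp.Points.map eU.hom) := by
    intro x y hxy
    have := congrArg (AlgSp.Points.map eU.inv) hxy
    rwa [← AlgSp.Points.map_comp, ← AlgSp.Points.map_comp, eU.hom_inv_id, AlgSp.Points.map_id,
      AlgSp.Points.map_id] at this
  exact hinj.subsingleton

theorem nonempty_points_of_iso_field {U : AlgSp.Sp S} {k : Type u} [Field k]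
    (str : Spec (CommRingCat.of k) ⟶ S) (eU : U ≅ (AlgSp.yon S).obj (Over.mk str)) :
    Nonempty (AlgSp.Points U) := by
  have : Nonempty ↥(Over.mk str).left := by
    change Nonempty ↥(Spec (CommRingCat.of k))
    infer_instance
  obtain ⟨x⟩ := this
  exact ⟨AlgSp.Points.map eU.inv (AlgSp.Points.schemeEquiv (Over.mk str) x)⟩

/-- A morphism from an algebraic space with a point to the spectrum of a field is surjective, flat, universally open. -/
theorem sfo_to_field_iso {X U : AlgSp.Sp S} (hX : AlgSp.IsAlgSpace X) (hne : Nonempty (AlgSp.Points X))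
    {k : Type u} [Field k]
    (str : Spec (CommRingCat.of k) ⟶ S) (eU : U ≅ (AlgSp.yon S).obj (Over.mk str)) (p : X ⟶ U) :
    SFO p := by
  obtain ⟨h1, h2⟩ := flat_univOpen_to_field_iso hX str eU p
  refine ⟨?_, h1, h2⟩
  have := subsingleton_points_of_iso_field str eU
  obtain ⟨x⟩ := hne
  intro y
  exact ⟨x, Subsingleton.elim _ _⟩

/-- Universally open morphisms of algebraic spaces compose. -/
theorem isUnivOpenMor_comp {X Y W : AlgSp.Sp S} (hY : AlgSp.IsAlgSpace Y) (hW : AlgSp.IsAlgSpace W)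
    {f : X ⟶ Y} {g : Y ⟶ W} (hf : AlgSp.IsUnivOpenMor f) (hg : AlgSp.IsUnivOpenMor g) :
    AlgSp.IsUnivOpenMor (f ≫ g) := by
  intro Z Z' hZ c a b sq
  -- the intermediate fibre product
  have sqY := IsPullback.of_hasPullback g c
  have hZY : AlgSp.IsAlgSpace (pullback g c) :=
    Groth.Agent.S9874.result S W hW.diag ⟨Y, hY⟩ ⟨Z, hZ⟩ g c _ _ _ sqY
  let l : Z' ⟶ pullback g c := pullback.lift (a ≫ f) b (by rw [Category.assoc]; exact sq.w)
  have sqX : IsPullback a l f (pullback.fst g c) := by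
    refine IsPullback.of_bot ?_ (pullback.lift_fst _ _ _).symm sqY
    rw [pullback.lift_snd]
    exact sq
  have h1 : IsOpenMap (AlgSp.Points.map l) := hf hZY (pullback.fst g c) a l sqX
  have h2 : IsOpenMap (AlgSp.Points.map (pullback.snd g c)) := hg hZ c _ _ sqY
  have e : b = l ≫ pullback.snd g c := (pullback.lift_snd _ _ _).symm
  change IsOpenMap (AlgSp.Points.map b)
  rw [e]
  have : AlgSp.Points.map (l ≫ pullback.snd g c) =
      AlgSp.Points.map (pullback.snd g c) ∘ AlgSp.Points.map l := by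
    funext x; exact AlgSp.Points.map_comp _ _ x
  rw [this]
  exact h2.comp h1

/-- `SFO` is stable under base change (between algebraic spaces). -/
theorem sfo_of_isPullback {X Y Y' X' : AlgSp.Sp S} (hX : AlgSp.IsAlgSpace X) (hY : AlgSp.IsAlgSpace Y)
    (hY' : AlgSp.IsAlgSpace Y') {f : X ⟶ Y} {g : Y' ⟶ Y} {fst : X' ⟶ X} {f' : X' ⟶ Y'}
    (sq : IsPullback fst f' f g) (hf : SFO f) : SFO f' := by
  have hX' : AlgSp.IsAlgSpace X' :=
    Groth.Agent.S9874.result S Y hY.diag ⟨X, hX⟩ ⟨Y', hY'⟩ f g X' fst f' sq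
  refine ⟨?_, ?_, univSp_of_isPullback _ sq hf.2.2⟩
  · exact Groth.Agent.S9907.result (X := ⟨X, hX⟩) (Y := ⟨Y, hY⟩) (Y' := ⟨Y', hY'⟩)
      (ObjectProperty.homMk f) (ObjectProperty.homMk g) fst f' sq hf.1
  · exact Groth.Agent.S9984.result @Flat (Or.inr (Or.inr (Or.inl rfl)))
      (X := ⟨X, hX⟩) (Y := ⟨Y, hY⟩) (Y' := ⟨Y', hY'⟩) (X' := ⟨X', hX'⟩)
      (ObjectProperty.homMk f) (ObjectProperty.homMk g) (ObjectProperty.homMk fst)
      (ObjectProperty.homMk f') sq hf.2.1

/-- `SFO` is stable under composition (between algebraic spaces). -/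
theorem sfo_comp {X Y W : AlgSp.Sp S} (hX : AlgSp.IsAlgSpace X) (hY : AlgSp.IsAlgSpace Y)
    (hW : AlgSp.IsAlgSpace W) {f : X ⟶ Y} {g : Y ⟶ W} (hf : SFO f) (hg : SFO g) : SFO (f ≫ g) := by
  refine ⟨isSurjectiveMor_comp hf.1 hg.1, ?_, isUnivOpenMor_comp hY hW hf.2.2 hg.2.2⟩
  exact Groth.Agent.S9985.result @Flat (Or.inr (Or.inr (Or.inl rfl)))
    (X := ⟨X, hX⟩) (Y := ⟨Y, hY⟩) (Z := ⟨W, hW⟩) (ObjectProperty.homMk f) (ObjectProperty.homMk g)
    hf.2.1 hg.2.1

end Groth.Agent.Lib.Seat44.OverField
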