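import Groth.Agent.Lib.Seat44KerSys
import Groth.Agent.Lib.Seat44MorBasics
import Groth.Agent.Lib.Seat45Charts
import Groth.Agent.S9920
import Groth.Agent.S9921
import Groth.Agent.S9957
import Groth.Agent.S10004
import Groth.Agent.S10012
import Groth.Agent.S10180

/-!
# Quasi-compactness and quasi-separatedness of fibre products and limits (base only quasi-separated)
-/

set_option autoImplicit false
set_option backward.isDefEq.respectTransparency false
set_option backward.isDefEq.respectTransparency.types false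
universe u
open CategoryTheory CategoryTheory.Limits AlgebraicGeometry
open AlgSp

namespace Groth.Agent.Lib.Seat44.SepSys

variable {S : Scheme.{u}}

/-- fibre products of quasi-compact quasi-separated algebraic spaces over a quasi-separated algebraic space are
quasi-compact and quasi-separated. -/
theorem qcqs_of_isPullback_qs [QuasiSeparatedSpace S] {X Y Z P : AlgSp.Sp S}
    (hX : IsAlgSpace X) (hY : IsAlgSpace Y) (hZ : IsAlgSpace Z)
    {f : X ⟶ Y} {g : Z ⟶ Y} {fst : P ⟶ X} {snd : P ⟶ Z} (sq : IsPullback fst snd f g)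
    (hXq : IsQuasiCompactSp X ∧ IsQuasiSeparatedSp X) (hYqs : IsQuasiSeparatedSp Y)
    (hZq : IsQuasiCompactSp Z ∧ IsQuasiSeparatedSp Z) :
    IsQuasiCompactSp P ∧ IsQuasiSeparatedSp P := by
  constructor
  · have hg : AlgSp.IsQuasiCompactMor g :=
      Groth.Agent.S9920.isQuasiCompactMor_of_qc_qs hZ hY g hZq.1 hYqs
    exact hg hX hXq.1 f snd fst sq.flip
  · exact Groth.Agent.S9921.repWith_diag_of_isPullback @QuasiCompact sq hXq.2 hZq.2

/-- the source of an affine morphism to a quasi-compact quasi-separated algebraic space is quasi-compact and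
quasi-separated. -/
theorem qcqs_of_isAffineMor {X Z : AlgSp.Sp S} (hX : IsAlgSpace X) (hZ : IsAlgSpace Z) (f : X ⟶ Z)
    (hf : IsAffineMor f) (hZqc : IsQuasiCompactSp Z) (hZqs : IsQuasiSeparatedSp Z) :
    IsQuasiCompactSp X ∧ IsQuasiSeparatedSp X := by
  constructor
  · obtain ⟨V, v, hV, hve, hvs⟩ := Groth.Agent.S10180.exists_affine_chart hZqc
    obtain ⟨W, i, fst, sq, hW⟩ := hf hV v
    haveI := hW
    exact ⟨W, fst, MorphismProperty.of_isPullback (P := RepWith @Etale) sq.flip hve,
      MorphismProperty.of_isPullback (P := RepWith @Surjective) sq.flip hvs, inferInstance⟩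
  · have hsep : IsSeparatedMor f := Groth.Agent.S10012.isSeparatedMor_of_isAffineMor hX hZ f hf
    have hqs : IsQuasiSeparatedMor f :=
      Groth.Agent.Lib.Seat45.Charts.repWith_mono
        (fun g hg => by haveI : IsClosedImmersion g := hg; infer_instance) hsep
    exact Groth.Agent.S9957.isQuasiSeparatedSp_of_mor hX hZ f hqs hZqs

/-- the limit of a cofiltered system of quasi-compact quasi-separated algebraic spaces with affine transition maps
is a quasi-compact quasi-separated algebraic space. -/
theorem qcqs_limit {I : Type u} [SmallCategory I] [IsCofiltered I]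
    (D : I ⥤ AlgSp.Sp S) (hD : ∀ i, AlgSp.IsAlgSpace (D.obj i))
    (hDa : ∀ (i j : I) (φ : i ⟶ j), AlgSp.IsAffineMor (D.map φ))
    (c : Cone D) (hc : IsLimit c) (i : I)
    (hqc : AlgSp.IsQuasiCompactSp (D.obj i)) (hqs : AlgSp.IsQuasiSeparatedSp (D.obj i)) :
    IsAlgSpace c.pt ∧ IsQuasiCompactSp c.pt ∧ IsQuasiSeparatedSp c.pt := by
  obtain ⟨h1, h2⟩ := Groth.Agent.S10004.result S D hD hDa c hc
  exact ⟨h1, qcqs_of_isAffineMor h1 (hD i) (c.π.app i) (h2 i) hqc hqs⟩

/-- affine morphisms are stable under base change. -/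
instance isAffineMor_isStableUnderBaseChange :
    (IsAffineMor (S := S)).IsStableUnderBaseChange where
  of_isPullback sq h := Groth.Agent.Lib.Seat44.MorBasics.isAffineMor_of_isPullback sq h

/-- affine morphisms are stable under composition. -/
instance isAffineMor_isStableUnderComposition :
    (IsAffineMor (S := S)).IsStableUnderComposition where
  comp_mem _ _ hf hg := Groth.Agent.Lib.Seat44.MorBasics.isAffineMor_comp hf hg

/-- `pullback.map` of affine morphisms over a fixed base is affine. -/
theorem isAffineMor_pullback_map {X X' Y Y' B : AlgSp.Sp S} {f : X ⟶ B} {g : Y ⟶ B} {f' : X' ⟶ B} {g' : Y' ⟶ B}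
    {i₁ : X ⟶ X'} {i₂ : Y ⟶ Y'} (h₁ : IsAffineMor i₁) (h₂ : IsAffineMor i₂)
    (e₁ : f ≫ 𝟙 B = i₁ ≫ f') (e₂ : g ≫ 𝟙 B = i₂ ≫ g') :
    IsAffineMor (pullback.map f g f' g' i₁ i₂ (𝟙 B) e₁ e₂) :=
  MorphismProperty.pullbackMap (P := IsAffineMor (S := S)) h₁ h₂
    ((Category.comp_id _).symm.trans e₁) ((Category.comp_id _).symm.trans e₂)

end Groth.Agent.Lib.Seat44.SepSys
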