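import Groth.Agent.Lib.Seat44BCSystem
import Groth.Agent.Lib.Seat44AffLim
import Groth.Agent.Lib.Seat44SepSys

/-!
# Base change of a system of algebraic spaces along a morphism to a stage

For a cofiltered system `D : I ⥤ Sp S`, an index `i` and `e₂ : E ⟶ D.obj i`, the system
`overSys D i e₂ : Over i ⥤ Sp S`, `k ↦ D k ×_{D i} E`, with its limit cone `overCone` of apex `lim D ×_{D i} E`.
-/

set_option autoImplicit false
set_option backward.isDefEq.respectTransparency false
set_option backward.isDefEq.respectTransparency.types false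
universe u
open CategoryTheory CategoryTheory.Limits AlgebraicGeometry
open AlgSp

namespace Groth.Agent.Lib.Seat44.OverSys

open Groth.Agent.Lib.Seat44.BCSystem Groth.Agent.Lib.Seat44.AffLim

attribute [local instance] IsCofiltered.isConnected

variable {S : Scheme.{u}}

section General

variable {J : Type u} [SmallCategory J] (F : J ⥤ AlgSp.Sp S) {Z : AlgSp.Sp S}
  (ζ : F ⟶ (Functor.const J).obj Z) {E : AlgSp.Sp S} (e₂ : E ⟶ Z)

theorem isAlgSpace_sys (hZ : IsAlgSpace Z) (hF : ∀ j, IsAlgSpace (F.obj j)) (hE : IsAlgSpace E) (j : J) :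
    IsAlgSpace ((sys F ζ e₂).obj j) :=
  Groth.Agent.S9874.isAlgSpace_of_isPullback hZ.diag (hF j) hE (isPullback_pr F ζ e₂ j)

theorem isAffineMor_sys_map {j j' : J} (ψ : j ⟶ j') (h : AlgSp.IsAffineMor (F.map ψ)) :
    IsAffineMor ((sys F ζ e₂).map ψ) :=
  Groth.Agent.Lib.Seat44.MorBasics.isAffineMor_of_isPullback (isPullback_sys_map F ζ e₂ ψ).flip h

theorem repWith_pr₁ (P : MorphismProperty Scheme.{u}) [P.IsStableUnderBaseChange]
    (h : AlgSp.RepWith P e₂) (j : J) : RepWith P (pr₁ F ζ e₂ j) :=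
  MorphismProperty.of_isPullback (P := RepWith (S := S) P) (isPullback_pr F ζ e₂ j).flip h

theorem isAffineMor_pr₁ (h : AlgSp.IsAffineMor e₂) (j : J) : IsAffineMor (pr₁ F ζ e₂ j) :=
  Groth.Agent.Lib.Seat44.MorBasics.isAffineMor_of_isPullback (isPullback_pr F ζ e₂ j).flip h

theorem isPullback_cone_π (cF : Cone F) (p : cF.pt ⟶ Z) (hp : ∀ j, cF.π.app j ≫ ζ.app j = p) (j : J) :
    IsPullback ((cone F ζ e₂ cF p hp).π.app j) (pullback.fst p e₂) (pr₁ F ζ e₂ j) (cF.π.app j) := by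
  refine IsPullback.of_right ?_ (cone_π_pr₁ F ζ e₂ cF p hp j) (isPullback_pr F ζ e₂ j).flip
  rw [cone_π_pr₂, hp j]
  exact (IsPullback.of_hasPullback p e₂).flip

end General

section Over

variable {I : Type u} [SmallCategory I] (D : I ⥤ AlgSp.Sp S) (i : I) {E : AlgSp.Sp S} (e₂ : E ⟶ D.obj i)

/-- the system `k ↦ D k ×_{D i} E`, `k ∈ Over i`. -/
noncomputable abbrev overSys : Over i ⥤ AlgSp.Sp S := sys (Over.forget i ⋙ D) (β D i) e₂

lemma overCone_aux (c : Cone D) (k : Over i) :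
    (c.whisker (Over.forget i)).π.app k ≫ (β D i).app k = c.π.app i := by
  change c.π.app k.left ≫ D.map k.hom = c.π.app i
  exact c.w k.hom

/-- the cone `lim D ×_{D i} E ⟶ D k ×_{D i} E`. -/
noncomputable abbrev overCone (c : Cone D) : Cone (overSys D i e₂) :=
  cone (Over.forget i ⋙ D) (β D i) e₂ (c.whisker (Over.forget i)) (c.π.app i) (overCone_aux D i c)

/-- `lim D ×_{D i} E` is the limit of the `D k ×_{D i} E`. -/
noncomputable def isLimitOverCone [IsCofiltered I] (c : Cone D) (hc : IsLimit c) :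
    IsLimit (overCone D i e₂ c) :=
  isLimitCone (Over.forget i ⋙ D) (β D i) e₂ _ _ (overCone_aux D i c)
    ((Functor.Initial.isLimitWhiskerEquiv (Over.forget i) c).symm hc)

theorem isAlgSpace_overSys (hD : ∀ i, IsAlgSpace (D.obj i)) (hE : IsAlgSpace E) (k : Over i) :
    IsAlgSpace ((overSys D i e₂).obj k) :=
  isAlgSpace_sys _ _ e₂ (hD i) (fun k => hD k.left) hE k

theorem isAffineMor_overSys_map (hDa : ∀ (i j : I) (φ : i ⟶ j), AlgSp.IsAffineMor (D.map φ))
    {k k' : Over i} (ψ : k ⟶ k') : IsAffineMor ((overSys D i e₂).map ψ) :=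
  isAffineMor_sys_map _ _ e₂ ψ (hDa _ _ ψ.left)

theorem qcqs_overSys [QuasiSeparatedSpace S] (hD : ∀ i, IsAlgSpace (D.obj i)) (hE : IsAlgSpace E)
    (hEq : IsQuasiCompactSp E ∧ IsQuasiSeparatedSp E) (hiqs : IsQuasiSeparatedSp (D.obj i)) (k : Over i)
    (hkq : IsQuasiCompactSp (D.obj k.left) ∧ IsQuasiSeparatedSp (D.obj k.left)) :
    IsQuasiCompactSp ((overSys D i e₂).obj k) ∧ IsQuasiSeparatedSp ((overSys D i e₂).obj k) :=
  Groth.Agent.Lib.Seat44.SepSys.qcqs_of_isPullback_qs (hD k.left) (hD i) hE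
    (isPullback_pr (Over.forget i ⋙ D) (β D i) e₂ k) hkq hiqs hEq

end Over

end Groth.Agent.Lib.Seat44.OverSys
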