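import Groth.Agent.Lib.Seat44OverSys

/-!
# More on `overSys`: structure maps to a base, quasi-compactness via affineness
-/

set_option autoImplicit false
set_option backward.isDefEq.respectTransparency false
set_option backward.isDefEq.respectTransparency.types false
universe u
open CategoryTheory CategoryTheory.Limits AlgebraicGeometry
open AlgSp

namespace Groth.Agent.Lib.Seat44.OverSys

open Groth.Agent.Lib.Seat44.BCSystem Groth.Agent.Lib.Seat44.AffLim

variable {S : Scheme.{u}} {I : Type u} [SmallCategory I] (D : I ⥤ AlgSp.Sp S) {B : AlgSp.Sp S}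
  (t : D ⟶ (Functor.const I).obj B) (i : I) {E : AlgSp.Sp S} (e₂ : E ⟶ D.obj i)

/-- all composites `lim D ⟶ D i ⟶ B` agree. -/
theorem π_t_eq [IsCofiltered I] (c : Cone D) (i i' : I) :
    c.π.app i ≫ t.app i = c.π.app i' ≫ t.app i' := by
  obtain ⟨l, α, β, -⟩ := IsCofilteredOrEmpty.cone_objs i i'
  have h1 := t.naturality α
  have h2 := t.naturality β
  simp only [Functor.const_obj_obj, Functor.const_obj_map, Category.comp_id] at h1 h2
  rw [← c.w α, Category.assoc, h1, ← c.w β, Category.assoc, h2]

/-- the structure maps `D k ×_{D i} E ⟶ D k ⟶ B`. -/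
noncomputable def tOver : overSys D i e₂ ⟶ (Functor.const (Over i)).obj B where
  app k := pr₁ (Over.forget i ⋙ D) (β D i) e₂ k ≫ t.app k.left
  naturality k k' ψ := by
    have h1 := sys_map_pr₁ (Over.forget i ⋙ D) (β D i) e₂ ψ
    have h2 := t.naturality ψ.left
    simp only [Functor.const_obj_obj, Functor.const_obj_map, Category.comp_id] at h2 ⊢
    rw [← Category.assoc, h1, Category.assoc]
    exact congrArg (fun m => pr₁ (Over.forget i ⋙ D) (β D i) e₂ k ≫ m) h2

lemma tOver_app (k : Over i) :
    (tOver D t i e₂).app k = pr₁ (Over.forget i ⋙ D) (β D i) e₂ k ≫ t.app k.left := rfl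

/-- the projection of the base-changed cone followed by the first projection. -/
lemma overCone_π_pr₁ (c : Cone D) (k : Over i) :
    (overCone D i e₂ c).π.app k ≫ pr₁ (Over.forget i ⋙ D) (β D i) e₂ k =
      pullback.fst (c.π.app i) e₂ ≫ c.π.app k.left :=
  cone_π_pr₁ (Over.forget i ⋙ D) (β D i) e₂ (c.whisker (Over.forget i)) (c.π.app i)
    (overCone_aux D i c) k

lemma overCone_π_tOver (c : Cone D) (k : Over i) :
    (overCone D i e₂ c).π.app k ≫ (tOver D t i e₂).app k =
      pullback.fst (c.π.app i) e₂ ≫ c.π.app k.left ≫ t.app k.left := by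
  rw [tOver_app, ← Category.assoc, overCone_π_pr₁, Category.assoc]

/-- quasi-compactness and quasi-separatedness of the terms of `overSys` when `E` is quasi-compact and
quasi-separated (no assumption on the `D k`). -/
theorem qcqs_overSys_of_affine (hD : ∀ i, IsAlgSpace (D.obj i))
    (hDa : ∀ (i j : I) (φ : i ⟶ j), AlgSp.IsAffineMor (D.map φ)) (hE : IsAlgSpace E)
    (hEqc : IsQuasiCompactSp E) (hEqs : IsQuasiSeparatedSp E) (k : Over i) :
    IsQuasiCompactSp ((overSys D i e₂).obj k) ∧ IsQuasiSeparatedSp ((overSys D i e₂).obj k) :=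
  Groth.Agent.Lib.Seat44.SepSys.qcqs_of_isAffineMor (isAlgSpace_overSys D i e₂ hD hE k) hE
    (pr₂ (Over.forget i ⋙ D) (β D i) e₂ k)
    (Groth.Agent.Lib.Seat44.MorBasics.isAffineMor_of_isPullback
      (isPullback_pr (Over.forget i ⋙ D) (β D i) e₂ k) (hDa _ _ k.hom)) hEqc hEqs

end Groth.Agent.Lib.Seat44.OverSys
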