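import Groth.Agent.S10180
import Groth.Agent.S10176
import Groth.Agent.S9906
import Groth.Agent.S10195
import Groth.Agent.S10196

/-!
# Quasi-compact open subspaces around quasi-compact sets of points

* `isCompact_range_map`: the image on points of a morphism from a quasi-compact sheaf is quasi-compact;
* `exists_qc_open_between`: between a quasi-compact set of points `K` of an algebraic space and an open set `O ⊇ K`
  there is a quasi-compact open subspace.
-/

set_option autoImplicit false
set_option backward.isDefEq.respectTransparency false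
set_option backward.isDefEq.respectTransparency.types false
universe u
open CategoryTheory CategoryTheory.Limits AlgebraicGeometry
open AlgSp

namespace Groth.Agent.Lib.Seat44.QcOpen

variable {S : Scheme.{u}}

/-- `ofPt` of a representable surjective chart is surjective. -/
theorem surjective_ofPt {F : AlgSp.Sp S} {T : Over S} (q : (yon S).obj T ⟶ F)
    (hqs : RepWith @Surjective q) : Function.Surjective (Points.ofPt q) := by
  intro x
  obtain ⟨z, rfl⟩ := Groth.Agent.S9906.surjective_map_of_repWith q hqs x
  obtain ⟨t, rfl⟩ := (Points.schemeHomeo T).surjective z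
  exact ⟨t, Points.ofPt_eq_map_ofScheme q t⟩

/-- the image on points of a morphism from a quasi-compact sheaf is quasi-compact. -/
theorem isCompact_range_map {Y X : AlgSp.Sp S} (hYqc : IsQuasiCompactSp Y) (f : Y ⟶ X) :
    IsCompact (Set.range (Points.map f)) := by
  obtain ⟨T, q, hT, -, hqs⟩ := Groth.Agent.S10180.exists_affine_chart hYqc
  haveI := hT
  have h : Set.range (Points.map f) = Set.range (Points.ofPt (q ≫ f)) := by
    ext x
    constructor
    · rintro ⟨y, rfl⟩
      obtain ⟨t, rfl⟩ := surjective_ofPt q hqs y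
      exact ⟨t, (Points.map_ofPt q f t).symm⟩
    · rintro ⟨t, rfl⟩
      exact ⟨Points.ofPt q t, Points.map_ofPt q f t⟩
  rw [h]
  exact isCompact_range (Points.continuous_ofPt _)

/-- a quasi-compact open subspace between a quasi-compact set of points and an open neighbourhood of it. -/
theorem exists_qc_open_between (X : AlgSp.Space S) (K O : Set (Points X.obj)) (hK : IsCompact K)
    (hO : IsOpen O) (hKO : K ⊆ O) :
    ∃ (X' : AlgSp.Space S) (j : X' ⟶ X), RepWith @IsOpenImmersion j.hom ∧ IsQuasiCompactSp X'.obj ∧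
      K ⊆ Set.range (Points.map j.hom) ∧ Set.range (Points.map j.hom) ⊆ O := by
  obtain ⟨V, p, hpe, hps⟩ := X.property.atlas
  have hsurj := surjective_ofPt p hps
  have hopen := Groth.Agent.S10176.isOpenMap_ofPt p hpe
  have hcont := Points.continuous_ofPt p
  -- for each point of `K` an affine open of `V` mapping into `O`
  have hloc : ∀ x ∈ K, ∃ A : V.left.Opens, IsAffineOpen A ∧ x ∈ Points.ofPt p '' (A : Set V.left) ∧
      Points.ofPt p '' (A : Set V.left) ⊆ O := by
    intro x hx
    obtain ⟨v, rfl⟩ := hsurj x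
    obtain ⟨_, ⟨A, hA, rfl⟩, hvA, hAO⟩ := V.left.isBasis_affineOpens.exists_subset_of_mem_open
      (show v ∈ Points.ofPt p ⁻¹' O from hKO hx) (hO.preimage hcont)
    exact ⟨A, hA, ⟨v, hvA, rfl⟩, Set.image_subset_iff.2 hAO⟩
  choose! A hAaff hxA hAO using hloc
  obtain ⟨F, hFK, hFfin, hFcov⟩ := hK.elim_finite_subcover_image
    (fun x _ => hopen _ (A x).isOpen) (fun x hx => Set.mem_biUnion hx (hxA x hx))
  -- the quasi-compact open of the atlas
  let V' : V.left.Opens := ⨆ x ∈ F, A x
  have hV'c : IsCompact (V' : Set V.left) := by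
    have : (V' : Set V.left) = ⋃ x ∈ F, (A x : Set V.left) := by
      simp [V']
    rw [this]
    exact hFfin.isCompact_biUnion (fun x hx => (hAaff x (hFK hx)).isCompact)
  have himg : Points.ofPt p '' (V' : Set V.left) = ⋃ x ∈ F, Points.ofPt p '' (A x : Set V.left) := by
    have : (V' : Set V.left) = ⋃ x ∈ F, (A x : Set V.left) := by
      simp [V']
    rw [this, Set.image_iUnion₂]
  obtain ⟨X', j, hj, hjr⟩ := Groth.Agent.S10195.result X (Points.ofPt p '' (V' : Set V.left))
    (hopen _ V'.isOpen)
  -- the chart of the open subspace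
  let V's : Over S := Over.mk (V'.ι ≫ V.hom)
  let ι : V's ⟶ V := Over.homMk V'.ι rfl
  have hae : RepWith @Etale ((yon S).map ι ≫ p) :=
    MorphismProperty.comp_mem (RepWith (S := S) @Etale) _ _
      ((AlgSp.repWith_yon_map_iff _ _).2 (by change Etale V'.ι; infer_instance)) hpe
  have hrange : Set.range (Points.map j.hom) = Set.range (Points.ofPt ((yon S).map ι ≫ p)) := by
    rw [hjr]
    ext x
    constructor
    · rintro ⟨v, hv, rfl⟩
      refine ⟨⟨v, hv⟩, ?_⟩
      rw [Groth.Agent.S10176.ofPt_map_comp]
      rfl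
    · rintro ⟨w, rfl⟩
      rw [Groth.Agent.S10176.ofPt_map_comp]
      exact ⟨ι.left w, w.2, rfl⟩
  obtain ⟨a', -, ha'e, ha's, -⟩ := Groth.Agent.S10196.result ((yon S).map ι ≫ p) hae j hj hrange
  refine ⟨X', j, hj, ⟨V's, a', ha'e, ha's, ?_⟩, ?_, ?_⟩
  · change CompactSpace ↥(V' : Scheme)
    exact isCompact_iff_compactSpace.mp hV'c
  · rw [hjr, himg]
    exact hFcov
  · rw [hjr, himg]
    exact Set.iUnion₂_subset (fun x hx => hAO x (hFK hx))

end Groth.Agent.Lib.Seat44.QcOpen
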