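import Mathlib
import Groth.Agent.Lib.Helper9SpQuot
import Groth.Agent.Lib.Helper15LocEss
import Groth.Agent.S13210

/-!
# Seat44: the quotient sheaf of an equivalence relation: kernel pair, local lifting

* `isPullback_quotSpπ`: for an equivalence relation `s, t : R ⟶ U` of fppf sheaves, `R = U ×_{U/R} U`.
* `exists_fppf_lift`: sections of the target of an epimorphism of fppf sheaves lift fppf locally.
-/

set_option autoImplicit false
universe u

open CategoryTheory CategoryTheory.Limits AlgebraicGeometry Opposite AlgSp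

namespace Groth.Agent.Lib.Seat44.QuotKernel

open Groth.Agent.Lib.Helper9 Groth.Agent.Lib.Helper9.LocalRel Groth.Agent.Lib.Helper9.SpQuot Groth.Agent.S13210

variable {S : Scheme.{u}} {R U : AlgSp.Sp S} (s t : R ⟶ U)

/-- a relation is jointly monic on all sheaf-valued points -/
theorem jointly_mono (hrel : AlgSp.IsRelSp s t) {W : AlgSp.Sp S} (a b : W ⟶ R)
    (h1 : a ≫ t = b ≫ t) (h2 : a ≫ s = b ≫ s) : a = b := by
  refine jEpi_yon W a b (fun p => ?_)
  refine hrel p.1 _ _ ?_ ?_
  · rw [Category.assoc, Category.assoc, h1]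
  · rw [Category.assoc, Category.assoc, h2]

/-- two points of `U` with the same image in `U/R` are related. -/
theorem exists_rel_of_comp_eq (hj : AlgSp.IsEqvRelSp s t) {W : AlgSp.Sp S} (a b : W ⟶ U)
    (hab : a ≫ AlgSp.quotSpπ s t = b ≫ AlgSp.quotSpπ s t) : ∃ r : W ⟶ R, r ≫ s = a ∧ r ≫ t = b := by
  obtain ⟨W', e, he, r', h1, h2⟩ := rho_of_isPreEqvRelSp s t hj.equivalence a b hab
  obtain ⟨r, hr⟩ := ToposLike.exists_desc_of_epi e he r' (fun Z a₁ a₂ h => by
    refine jointly_mono s t hj.injective _ _ ?_ ?_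
    · rw [Category.assoc, Category.assoc, h2, ← Category.assoc, h, Category.assoc]
    · rw [Category.assoc, Category.assoc, h1, ← Category.assoc, h, Category.assoc])
  refine ⟨r, ?_, ?_⟩
  · rw [← cancel_epi e, ← Category.assoc, hr, h1]
  · rw [← cancel_epi e, ← Category.assoc, hr, h2]

/-- An equivalence relation is the kernel pair of its quotient. -/
theorem isPullback_quotSpπ (hj : AlgSp.IsEqvRelSp s t) :
    IsPullback s t (AlgSp.quotSpπ s t) (AlgSp.quotSpπ s t) := by
  refine isPullback_of_yon (AlgSp.quotSp_condition s t) (fun T b c hbc => ?_)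
  obtain ⟨r, h1, h2⟩ := exists_rel_of_comp_eq s t hj b c hbc
  refine ⟨r, ⟨h1, h2⟩, fun r' hr' => ?_⟩
  exact hj.injective T r' r (by rw [hr'.2, h2]) (by rw [hr'.1, h1])

/-- Sections of the target of an epimorphism of fppf sheaves lift fppf locally. -/
theorem exists_fppf_lift {F G : AlgSp.Sp S} (π : F ⟶ G) [Epi π] {V : Over S}
    (b : (AlgSp.yon S).obj V ⟶ G) :
    ∃ (T : ↥V.left → Over S) (c : ∀ x, T x ⟶ V) (l : ∀ x, (AlgSp.yon S).obj (T x) ⟶ F),
      AlgSp.IsFppfCover (fun x => (AlgSp.yon S).obj (T x)) (fun x => (AlgSp.yon S).map (c x)) ∧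
      ∀ x, l x ≫ π = (AlgSp.yon S).map (c x) ≫ b := by
  haveI : Sheaf.IsLocallySurjective π := (Sheaf.isLocallySurjective_iff_epi π).2 inferInstance
  have hmem : Presheaf.imageSieve π.hom (yEquiv V G b) ∈ (AlgSp.J S) V :=
    Presheaf.imageSieve_mem (AlgSp.J S) π.hom (U := op V) (yEquiv V G b)
  obtain ⟨T, c, hc, hcov⟩ := Groth.Agent.Lib.Helper15LocEss.exists_family_of_mem_J _ hmem
  choose u hu using hc
  refine ⟨T, c, fun x => (yEquiv (T x) F).symm (u x), hcov, fun x => ?_⟩
  rw [yEquiv_symm_comp]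
  apply (yEquiv (T x) G).injective
  rw [Equiv.apply_symm_apply, yEquiv_comp]
  have h4 := (AlgSp.J S).uliftYonedaEquiv_naturality b (c x)
  rw [hu x]
  exact h4

end Groth.Agent.Lib.Seat44.QuotKernel
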