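import Mathlib
import Groth.Prelude.Def_AlgSpRep

/-!
# Seat44: relatively limit preserving transformations are stable under base change
-/

set_option autoImplicit false
universe u

open CategoryTheory CategoryTheory.Limits AlgebraicGeometry AlgSp Opposite

namespace Groth.Agent.Lib.Seat44.RelLimPres

variable {S : Scheme.{u}} {F G H P : AlgSp.PSp S} {a : F ⟶ G} {b : H ⟶ G} {fst : P ⟶ F} {snd : P ⟶ H}

/-- the comparison of fibres on sections -/
def fiberMap (sq : IsPullback fst snd a b) (T : Over S) (y : H.obj (op T)) (T' : (Over T.left)ᵒᵖ) :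
    (AlgSp.fiberFun snd T y).obj T' → (AlgSp.fiberFun a T (b.app _ y)).obj T' :=
  fun p => ⟨fst.app _ p.1, by
    have h1 : a.app _ (fst.app _ p.1) = b.app _ (snd.app _ p.1) :=
      congrArg (fun (m : P ⟶ G) => m.app (op ((Over.map T.hom).obj T'.unop)) p.1) sq.w
    rw [h1, p.2]
    exact NatTrans.naturality_apply b _ y⟩

theorem fiberMap_bijective (sq : IsPullback fst snd a b) (T : Over S) (y : H.obj (op T))
    (T' : (Over T.left)ᵒᵖ) : Function.Bijective (fiberMap sq T y T') := by
  have sqA := sq.map ((evaluation _ _).obj (op ((Over.map T.hom).obj T'.unop)))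
  rw [Types.isPullback_iff] at sqA
  obtain ⟨-, huniq, hex⟩ := sqA
  constructor
  · intro p p' hpp
    apply Subtype.ext
    apply huniq
    refine ⟨congrArg Subtype.val hpp, ?_⟩
    exact p.2.trans p'.2.symm
  · intro x
    obtain ⟨z, hz1, hz2⟩ := hex x.1 (H.map (AlgSp.overHom T T'.unop).op y) (by
      refine x.2.trans ?_
      exact (NatTrans.naturality_apply b _ y).symm)
    refine ⟨⟨z, hz2⟩, ?_⟩
    apply Subtype.ext
    exact hz1

/-- the fibres of `snd` are the fibres of `a` -/
noncomputable def fiberIso (sq : IsPullback fst snd a b) (T : Over S) (y : H.obj (op T)) :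
    AlgSp.fiberFun snd T y ≅ AlgSp.fiberFun a T (b.app _ y) :=
  NatIso.ofComponents (fun T' => Equiv.toIso (Equiv.ofBijective _ (fiberMap_bijective sq T y T')))
    (by
      intro T' T'' g
      ext p
      apply Subtype.ext
      exact (NatTrans.naturality_apply fst _ p.1))

/-- Relatively limit preserving transformations are stable under base change. -/
theorem isRelLimitPreserving_of_isPullback (sq : IsPullback fst snd a b)
    (ha : AlgSp.IsRelLimitPreserving a) : AlgSp.IsRelLimitPreserving snd := by
  intro T y
  exact (ha T (b.app _ y)).of_iso (fiberIso sq T y).symm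

end Groth.Agent.Lib.Seat44.RelLimPres
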