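import Mathlib

/-!
# Seat44: a ring map through which maps into filtered colimits factor is of finite presentation

`SCring φ` for `φ : A ⟶ B`: for every filtered system `F_j` of `A`-algebras with colimit `C`, every `A`-algebra map
`B ⟶ C` factors through some `F_j`.  Then `φ` is of finite presentation (`finitePresentation_of_SCring`).
-/

set_option autoImplicit false
universe u
open CategoryTheory CategoryTheory.Limits

namespace Groth.Agent.Lib.Seat44.RingSC

variable {A B : CommRingCat.{u}} (φ : A ⟶ B)

/-- the surjectivity condition: `A`-algebra maps from `B` into a filtered colimit factor through a stage. -/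
def SCring : Prop :=
  ∀ ⦃J : Type u⦄ [SmallCategory J] [IsFiltered J] (F : J ⥤ CommRingCat.{u})
    (α : (Functor.const J).obj A ⟶ F) (c : Cocone F) (_ : IsColimit c) (g : B ⟶ c.pt),
    (∀ j, φ ≫ g = α.app j ≫ c.ι.app j) →
    ∃ (j : J) (g' : B ⟶ F.obj j), φ ≫ g' = α.app j ∧ g' ≫ c.ι.app j = g

/-- recognizing filtered colimits of commutative rings. -/
noncomputable def isColimitOfForget {J : Type u} [SmallCategory J] [IsFiltered J] (F : J ⥤ CommRingCat.{u})
    (c : Cocone F) (hsurj : ∀ x : c.pt, ∃ (j : J) (xj : F.obj j), x = c.ι.app j xj)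
    (hinj : ∀ (j : J) (x y : F.obj j), c.ι.app j x = c.ι.app j y →
      ∃ (k : J) (f : j ⟶ k), F.map f x = F.map f y) : IsColimit c := by
  have : ReflectsFilteredColimits (forget CommRingCat.{u}) :=
    ⟨fun _ ↦ reflectsColimitsOfShape_of_reflectsIsomorphisms⟩
  refine (ReflectsColimit.reflects (F := forget _)
    (Types.FilteredColimit.isColimitOf' (F ⋙ forget _) ((forget _).mapCocone c) ?_ ?_)).some
  · exact hsurj
  · exact hinj

section FiniteType

/-- the system of finitely generated `A`-subalgebras of `B`. -/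
noncomputable def subF : Finset B ⥤ CommRingCat.{u} :=
  letI := φ.hom.toAlgebra
  { obj := fun s => CommRingCat.of (Algebra.adjoin A (s : Set B))
    map := fun {s t} f => CommRingCat.ofHom
      (Subalgebra.inclusion (Algebra.adjoin_mono (by exact_mod_cast (leOfHom f)))).toRingHom
    map_id := fun s => by ext x; rfl
    map_comp := fun f g => by ext x; rfl }

/-- the cocone of inclusions. -/
noncomputable def subCocone : Cocone (subF φ) :=
  letI := φ.hom.toAlgebra
  { pt := B
    ι :=
      { app := fun s => CommRingCat.ofHom (Algebra.adjoin A (s : Set B)).val.toRingHom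
        naturality := fun s t f => by ext x; rfl } }

/-- the structure maps. -/
noncomputable def subα : (Functor.const (Finset B)).obj A ⟶ subF φ :=
  letI := φ.hom.toAlgebra
  { app := fun s => CommRingCat.ofHom (algebraMap A (Algebra.adjoin A (s : Set B)))
    naturality := fun s t f => by ext x; rfl }

noncomputable def subIsColimit : IsColimit (subCocone φ) := by
  letI := φ.hom.toAlgebra
  refine isColimitOfForget _ _ (fun x => ?_) (fun s x y h => ?_)
  · exact ⟨{x}, ⟨x, Algebra.subset_adjoin (Finset.mem_coe.2 (Finset.mem_singleton_self x))⟩, rfl⟩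
  · refine ⟨s, 𝟙 s, ?_⟩
    have : x = y := Subtype.ext h
    rw [this]

theorem finiteType_of_SCring (h : SCring φ) : φ.hom.FiniteType := by
  letI := φ.hom.toAlgebra
  obtain ⟨s, g', h1, h2⟩ := h (subF φ) (subα φ) (subCocone φ) (subIsColimit φ) (𝟙 B)
    (fun s => by ext x; rfl)
  have hs : Algebra.adjoin A (s : Set B) = ⊤ := by
    rw [eq_top_iff]
    rintro b -
    have hb : ((subCocone φ).ι.app s).hom (g'.hom b) = b := congrArg (fun k => k.hom b) h2
    let y : Algebra.adjoin A (s : Set B) := g'.hom b
    have hy : (y : B) = b := hb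
    rw [← hy]
    exact y.2
  exact ⟨⟨s, hs⟩⟩

end FiniteType

section FinitePresentation

variable {n : ℕ} (π : MvPolynomial (Fin n) A →+* B)

/-- finitely generated ideals contained in the kernel of `π`. -/
abbrev Idx := {K' : Ideal (MvPolynomial (Fin n) A) // K'.FG ∧ K' ≤ RingHom.ker π}

instance : IsDirected (Idx π) (· ≤ ·) :=
  ⟨fun a b => ⟨⟨a.1 ⊔ b.1, Submodule.FG.sup a.2.1 b.2.1, sup_le a.2.2 b.2.2⟩,
    (le_sup_left : a.1 ≤ a.1 ⊔ b.1), (le_sup_right : b.1 ≤ a.1 ⊔ b.1)⟩⟩

instance : Nonempty (Idx π) := ⟨⟨⊥, Submodule.fg_bot, bot_le⟩⟩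

/-- the system of quotients of the polynomial ring by finitely generated subideals of the kernel. -/
noncomputable def quotF : Idx π ⥤ CommRingCat.{u} where
  obj K' := CommRingCat.of (MvPolynomial (Fin n) A ⧸ K'.1)
  map {K' K''} f := CommRingCat.ofHom (Ideal.Quotient.factor (leOfHom f))
  map_id K' := by
    apply CommRingCat.hom_ext
    apply Ideal.Quotient.ringHom_ext
    exact RingHom.ext fun p => rfl
  map_comp f g := by
    apply CommRingCat.hom_ext
    apply Ideal.Quotient.ringHom_ext
    exact RingHom.ext fun p => rfl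

noncomputable def quotCocone : Cocone (quotF π) where
  pt := B
  ι :=
    { app := fun K' => CommRingCat.ofHom (Ideal.Quotient.lift K'.1 π (fun a ha => K'.2.2 ha))
      naturality := fun K' K'' f => by
        apply CommRingCat.hom_ext
        apply Ideal.Quotient.ringHom_ext
        exact RingHom.ext fun p => rfl }

noncomputable def quotα : (Functor.const (Idx π)).obj A ⟶ quotF π where
  app K' := CommRingCat.ofHom ((Ideal.Quotient.mk K'.1).comp MvPolynomial.C)
  naturality K' K'' f := by
    ext x
    rfl

noncomputable def quotIsColimit (hπ : Function.Surjective π) : IsColimit (quotCocone π) := by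
  refine isColimitOfForget _ _ (fun x => ?_) (fun K' x y h => ?_)
  · obtain ⟨p, rfl⟩ := hπ x
    exact ⟨⟨⊥, Submodule.fg_bot, bot_le⟩, Ideal.Quotient.mk _ p, rfl⟩
  · obtain ⟨p, rfl⟩ := Ideal.Quotient.mk_surjective x
    obtain ⟨q, rfl⟩ := Ideal.Quotient.mk_surjective y
    have hpq : π p = π q := h
    have hmem : p - q ∈ RingHom.ker π := by
      rw [RingHom.mem_ker, map_sub, hpq, sub_self]
    let K'' : Idx π := ⟨K'.1 ⊔ Ideal.span {p - q},
      Submodule.FG.sup K'.2.1 (Submodule.fg_span (Set.finite_singleton _)),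
      sup_le K'.2.2 ((Ideal.span_singleton_le_iff_mem _).2 hmem)⟩
    refine ⟨K'', homOfLE (le_sup_left : K'.1 ≤ K'.1 ⊔ Ideal.span {p - q}), ?_⟩
    change Ideal.Quotient.mk K''.1 p = Ideal.Quotient.mk K''.1 q
    rw [Ideal.Quotient.eq]
    exact Ideal.mem_sup_right (Ideal.subset_span rfl)

theorem finitePresentation_of_SCring_of_surjective (h : SCring φ) (hπ : Function.Surjective π)
    (hπC : ∀ a, π (MvPolynomial.C a) = φ.hom a) : φ.hom.FinitePresentation := by
  obtain ⟨K', g', h1, h2⟩ := h (quotF π) (quotα π) (quotCocone π) (quotIsColimit π hπ) (𝟙 B)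
    (fun K' => by
      ext a
      exact (hπC a).symm)
  let Q := MvPolynomial (Fin n) A ⧸ K'.1
  let ιQ : Q →+* B := Ideal.Quotient.lift K'.1 π (fun a ha => K'.2.2 ha)
  let gQ : B →+* Q := g'.hom
  have hgι : ∀ b : B, ιQ (gQ b) = b := fun b => congrArg (fun k => k.hom b) h2
  have hgφ : ∀ a : A, gQ (φ.hom a) = Ideal.Quotient.mk K'.1 (MvPolynomial.C a) := fun a =>
    congrArg (fun k => k.hom a) h1
  let e : Q →+* Q := gQ.comp ιQ
  let I₀ : Ideal Q := Ideal.span (Set.range fun k : Fin n =>
    Ideal.Quotient.mk K'.1 (MvPolynomial.X k) - e (Ideal.Quotient.mk K'.1 (MvPolynomial.X k)))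
  have claim1 : ∀ p : MvPolynomial (Fin n) A,
      Ideal.Quotient.mk K'.1 p - e (Ideal.Quotient.mk K'.1 p) ∈ I₀ := by
    intro p
    induction p using MvPolynomial.induction_on with
    | C a =>
      have : e (Ideal.Quotient.mk K'.1 (MvPolynomial.C a)) =
          Ideal.Quotient.mk K'.1 (MvPolynomial.C a) := by
        change gQ (π (MvPolynomial.C a)) = _
        rw [hπC, hgφ]
      rw [this, sub_self]
      exact I₀.zero_mem
    | add p q hp hq =>
      have : Ideal.Quotient.mk K'.1 (p + q) - e (Ideal.Quotient.mk K'.1 (p + q)) =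
          (Ideal.Quotient.mk K'.1 p - e (Ideal.Quotient.mk K'.1 p)) +
          (Ideal.Quotient.mk K'.1 q - e (Ideal.Quotient.mk K'.1 q)) := by
        rw [map_add, map_add]; ring
      rw [this]
      exact I₀.add_mem hp hq
    | mul_X p k hp =>
      have : Ideal.Quotient.mk K'.1 (p * MvPolynomial.X k) -
          e (Ideal.Quotient.mk K'.1 (p * MvPolynomial.X k)) =
          Ideal.Quotient.mk K'.1 p * (Ideal.Quotient.mk K'.1 (MvPolynomial.X k) -
            e (Ideal.Quotient.mk K'.1 (MvPolynomial.X k))) +
          e (Ideal.Quotient.mk K'.1 (MvPolynomial.X k)) *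
            (Ideal.Quotient.mk K'.1 p - e (Ideal.Quotient.mk K'.1 p)) := by
        rw [map_mul, map_mul]; ring
      rw [this]
      exact I₀.add_mem (I₀.mul_mem_left _ (Ideal.subset_span ⟨k, rfl⟩)) (I₀.mul_mem_left _ hp)
  have hker : RingHom.ker ιQ = I₀ := by
    apply le_antisymm
    · intro q hq
      obtain ⟨p, rfl⟩ := Ideal.Quotient.mk_surjective q
      have h0 : e (Ideal.Quotient.mk K'.1 p) = 0 := by
        change gQ (ιQ _) = 0
        rw [(RingHom.mem_ker).1 hq, map_zero]
      have := claim1 p
      rwa [h0, sub_zero] at this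
    · rw [Ideal.span_le]
      rintro _ ⟨k, rfl⟩
      rw [SetLike.mem_coe, RingHom.mem_ker, map_sub]
      change _ - ιQ (gQ (ιQ _)) = 0
      rw [hgι, sub_self]
  have hfg : (RingHom.ker ιQ).FG := by
    rw [hker]
    exact Submodule.fg_span (Set.finite_range _)
  have hιsurj : Function.Surjective ιQ := by
    intro b
    obtain ⟨p, rfl⟩ := hπ b
    exact ⟨Ideal.Quotient.mk K'.1 p, rfl⟩
  have hC : (MvPolynomial.C : A →+* MvPolynomial (Fin n) A).FinitePresentation := by
    have : Algebra.FinitePresentation A (MvPolynomial (Fin n) A) := inferInstance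
    exact RingHom.finitePresentation_algebraMap.2 this
  have hmk : ((Ideal.Quotient.mk K'.1).comp MvPolynomial.C).FinitePresentation :=
    RingHom.FinitePresentation.comp_surjective hC Ideal.Quotient.mk_surjective (by
      rw [Ideal.mk_ker]; exact K'.2.1)
  have hcomp := RingHom.FinitePresentation.comp_surjective hmk hιsurj hfg
  have heq : ιQ.comp ((Ideal.Quotient.mk K'.1).comp MvPolynomial.C) = φ.hom := by
    ext a
    exact hπC a
  rw [heq] at hcomp
  exact hcomp

end FinitePresentation

/-- a ring map through which maps into filtered colimits factor is of finite presentation. -/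
theorem finitePresentation_of_SCring (h : SCring φ) : φ.hom.FinitePresentation := by
  have hft := finiteType_of_SCring φ h
  letI := φ.hom.toAlgebra
  obtain ⟨n, f, hf⟩ := Algebra.FiniteType.iff_quotient_mvPolynomial''.1
    (show Algebra.FiniteType A B from hft)
  exact finitePresentation_of_SCring_of_surjective φ f.toRingHom h hf (fun a => f.commutes a)

end Groth.Agent.Lib.Seat44.RingSC
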