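import Groth.Agent.Lib.Seat44RingSC
import Groth.Agent.Lib.Seat44LimHom
import Groth.Prelude.Def_AlgSpRep
import Groth.Prelude.Def_AlgSp4

/-!
# Seat44: the surjectivity condition (SC) for morphisms of schemes over `S`

`SCsch h` for `h : U ⟶ V` in `Over S`: for every cofiltered limit `T = lim T_i` of affine schemes over `S`, each
`T`-point of `U` lying over a `T_i`-point of `V` comes from a `T_{i'}`-point of `U`, compatibly.

* `SCring_of_SCsch` : for `h = Spec φ` this gives the ring condition `RingSC.SCring φ`, hence `φ` of finite presentation.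
* `SCsch_of_chart` : (SC) for a morphism of fppf sheaves descends to an étale chart of it.
-/

set_option autoImplicit false
set_option backward.isDefEq.respectTransparency false
set_option backward.isDefEq.respectTransparency.types false
universe u
open CategoryTheory CategoryTheory.Limits AlgebraicGeometry Opposite

namespace Groth.Agent.Lib.Seat44.SCsch

open Groth.Agent.Lib.Seat44

variable {S : Scheme.{u}}

/-- the surjectivity condition for a morphism of schemes over `S`. -/
def SCsch {U V : Over S} (h : U ⟶ V) : Prop :=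
  ∀ ⦃I : Type u⦄ [SmallCategory I] [IsCofiltered I] (D : I ⥤ Over S) (c : Cone D),
    IsLimit ((Over.forget S).mapCone c) → (∀ i, IsAffine (D.obj i).left) → IsAffine c.pt.left →
    ∀ (x : c.pt ⟶ U) (i : I) (y : D.obj i ⟶ V), x ≫ h = c.π.app i ≫ y →
      ∃ (i' : I) (φ : i' ⟶ i) (x' : D.obj i' ⟶ U), c.π.app i' ≫ x' = x ∧ x' ≫ h = D.map φ ≫ y

section Ring

variable {A B : CommRingCat.{u}} (φ : A ⟶ B) (σ : Spec A ⟶ S)
variable {J : Type u} [SmallCategory J] (F : J ⥤ CommRingCat.{u}) (α : (Functor.const J).obj A ⟶ F)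

/-- the system of spectra over `S`. -/
noncomputable def specD : Jᵒᵖ ⥤ Over S where
  obj j := Over.mk (Spec.map (α.app j.unop) ≫ σ)
  map {j j'} f := Over.homMk (Spec.map (F.map f.unop)) (by
    have := α.naturality f.unop
    simp only [Functor.const_obj_obj, Functor.const_obj_map, Category.id_comp] at this
    simp only [Over.mk_left, Over.mk_hom]
    rw [← Category.assoc, ← Spec.map_comp, ← this])
  map_id j := by
    ext1
    simp
  map_comp f g := by
    ext1
    simp

variable (c : Cocone F) (g : B ⟶ c.pt) (hg : ∀ j, φ ≫ g = α.app j ≫ c.ι.app j)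

/-- the cone of spectra. -/
noncomputable def specCone : Cone (specD σ F α) where
  pt := Over.mk (Spec.map (φ ≫ g) ≫ σ)
  π :=
    { app := fun j => Over.homMk (Spec.map (c.ι.app j.unop)) (by
        simp only [specD, Over.mk_left, Over.mk_hom]
        rw [← Category.assoc, ← Spec.map_comp, ← hg]
        rfl)
      naturality := fun j j' f => by
        ext1
        simp only [specD, Functor.const_obj_obj, Functor.const_obj_map, Category.id_comp, Over.comp_left,
          Over.homMk_left]
        rw [← Spec.map_comp, c.w] }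

/-- the cone of spectra is a limit cone of schemes. -/
noncomputable def specConeIsLimit (hc : IsColimit c) :
    IsLimit ((Over.forget S).mapCone (specCone φ σ F α c g hg)) :=
  (isLimitOfPreserves Scheme.Spec hc.op : IsLimit (Scheme.Spec.mapCone c.op))

/-- (SC) for `Spec φ` over `S` gives the ring condition for `φ`. -/
theorem SCring_of_SCsch
    (H : SCsch (Over.homMk (Spec.map φ) rfl : Over.mk (Spec.map φ ≫ σ) ⟶ Over.mk σ)) :
    RingSC.SCring φ := by
  intro J _ _ F α c hc g hg
  obtain ⟨j₀⟩ := IsFiltered.nonempty (C := J)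
  haveI : ∀ i, IsAffine ((specD σ F α).obj i).left := fun i => by
    change IsAffine (Spec _)
    infer_instance
  haveI : IsAffine (specCone φ σ F α c g hg).pt.left := by
    change IsAffine (Spec _)
    infer_instance
  obtain ⟨i', ψ, x', h1, h2⟩ := H (specD σ F α) (specCone φ σ F α c g hg)
    (specConeIsLimit φ σ F α c g hg hc) (fun i => inferInstance) inferInstance
    (Over.homMk (Spec.map g) (by
      simp only [specCone, Over.mk_left, Over.mk_hom]
      rw [← Category.assoc, ← Spec.map_comp]))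
    (op j₀)
    (Over.homMk (Spec.map (α.app j₀)) rfl)
    (by
      ext1
      simp only [specCone, Over.comp_left, Over.homMk_left]
      rw [← Spec.map_comp, ← Spec.map_comp, hg j₀])
  have h1' : Spec.map (c.ι.app i'.unop) ≫ x'.left = Spec.map g := congrArg (fun k => k.left) h1
  have h2' : x'.left ≫ Spec.map φ = Spec.map (F.map ψ.unop) ≫ Spec.map (α.app j₀) :=
    congrArg (fun k => k.left) h2
  have hnat := α.naturality ψ.unop
  simp only [Functor.const_obj_obj, Functor.const_obj_map, Category.id_comp] at hnat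
  let x'' : Spec (F.obj i'.unop) ⟶ Spec B := x'.left
  refine ⟨i'.unop, Spec.preimage x'', ?_, ?_⟩
  · apply Spec.map_injective
    rw [Spec.map_comp, Spec.map_preimage]
    change x'.left ≫ Spec.map φ = _
    rw [h2', ← Spec.map_comp, ← hnat]
  · apply Spec.map_injective
    rw [Spec.map_comp, Spec.map_preimage]
    exact h1'

end Ring

section Chart

open AlgSp

variable {X Y : AlgSp.Sp S} (f : X ⟶ Y)

/-- (SC) for a morphism of fppf sheaves over `S`. -/
def SCsp : Prop :=
  ∀ ⦃I : Type u⦄ [SmallCategory I] [IsCofiltered I] (D : I ⥤ Over S) (c : Cone D),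
    IsLimit ((Over.forget S).mapCone c) → (∀ i, IsAffine (D.obj i).left) → IsAffine c.pt.left →
    ∀ (x : (AlgSp.yon S).obj c.pt ⟶ X) (i : I) (y : (AlgSp.yon S).obj (D.obj i) ⟶ Y),
      x ≫ f = (AlgSp.yon S).map (c.π.app i) ≫ y →
      ∃ (i' : I) (φ : i' ⟶ i) (x' : (AlgSp.yon S).obj (D.obj i') ⟶ X),
        (AlgSp.yon S).map (c.π.app i') ≫ x' = x ∧ x' ≫ f = (AlgSp.yon S).map (D.map φ) ≫ y

/-- (SC) for a morphism of sheaves passes to any chart of it by representable étale maps. -/
theorem SCsch_of_chart (H : SCsp f) {U V : Over S} (a : (yon S).obj U ⟶ X) (b : (yon S).obj V ⟶ Y)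
    (h : U ⟶ V) (ha : RepWith @Etale a) (hb : RepWith @Etale b) (comm : a ≫ f = (yon S).map h ≫ b) :
    SCsch h := by
  intro I _ _ D c hlim hD hc x i y hxy
  -- Step 1: descend the point of `X`
  obtain ⟨i₁, φ₁, x₁', e1, e2⟩ := H D c hlim hD hc ((yon S).map x ≫ a) i ((yon S).map y ≫ b) (by
    rw [Category.assoc, comm, ← Category.assoc, ← Functor.map_comp, hxy, Functor.map_comp,
      Category.assoc])
  -- Step 2: lift it to the chart `U`
  obtain ⟨P, pP, fstP, sqP⟩ := ha.1 x₁'
  haveI : Etale pP.left := ha.2 x₁' fstP pP sqP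
  obtain ⟨fP, rfl⟩ := (yon S).map_surjective fstP
  obtain ⟨l, hl⟩ := (yon S).map_surjective
    (sqP.lift ((yon S).map x) ((yon S).map (c.π.app i₁)) e1.symm)
  have hl1 : l ≫ fP = x := (yon S).map_injective (by rw [Functor.map_comp, hl, sqP.lift_fst])
  have hl2 : l ≫ pP = c.π.app i₁ :=
    (yon S).map_injective (by rw [Functor.map_comp, hl, sqP.lift_snd])
  obtain ⟨i₂, ψ, g, hg1, hg2⟩ := LimHom.exists_factor_of_lfp D c hlim hD i₁ pP l hl2
  have hx₂c : c.π.app i₂ ≫ g ≫ fP = x := by rw [← Category.assoc, hg1, hl1]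
  have hx₂a : (yon S).map (g ≫ fP) ≫ a = (yon S).map (D.map ψ) ≫ x₁' := by
    rw [Functor.map_comp, Category.assoc, sqP.w, ← Category.assoc, ← Functor.map_comp, hg2]
  -- Step 3: the two maps to `V` agree at a later stage
  have huv : (yon S).map ((g ≫ fP) ≫ h) ≫ b = (yon S).map (D.map (ψ ≫ φ₁) ≫ y) ≫ b := by
    rw [Functor.map_comp, Category.assoc, ← comm, ← Category.assoc, hx₂a, Category.assoc, e2,
      Functor.map_comp, D.map_comp, Functor.map_comp]
    simp only [Category.assoc]
  have hcuv : c.π.app i₂ ≫ (g ≫ fP) ≫ h = c.π.app i₂ ≫ D.map (ψ ≫ φ₁) ≫ y := by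
    rw [← Category.assoc, ← Category.assoc, Category.assoc _ g, hx₂c, hxy,
      ← Category.assoc (c.π.app i₂), c.w]
  obtain ⟨E, pE, fstE, sqE⟩ := hb.1 ((yon S).map (D.map (ψ ≫ φ₁) ≫ y) ≫ b)
  haveI : Etale pE.left := hb.2 _ fstE pE sqE
  obtain ⟨fE, rfl⟩ := (yon S).map_surjective fstE
  obtain ⟨su, hsu⟩ := (yon S).map_surjective
    (sqE.lift ((yon S).map ((g ≫ fP) ≫ h)) (𝟙 _) (by rw [huv, Category.id_comp]))
  obtain ⟨sv, hsv⟩ := (yon S).map_surjective
    (sqE.lift ((yon S).map (D.map (ψ ≫ φ₁) ≫ y)) (𝟙 _) (by rw [Category.id_comp]))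
  have hsu1 : su ≫ fE = (g ≫ fP) ≫ h :=
    (yon S).map_injective (by rw [Functor.map_comp, hsu, sqE.lift_fst])
  have hsu2 : su ≫ pE = 𝟙 _ :=
    (yon S).map_injective (by rw [Functor.map_comp, hsu, sqE.lift_snd, CategoryTheory.Functor.map_id])
  have hsv1 : sv ≫ fE = D.map (ψ ≫ φ₁) ≫ y :=
    (yon S).map_injective (by rw [Functor.map_comp, hsv, sqE.lift_fst])
  have hsv2 : sv ≫ pE = 𝟙 _ :=
    (yon S).map_injective (by rw [Functor.map_comp, hsv, sqE.lift_snd, CategoryTheory.Functor.map_id])
  have hss : c.π.app i₂ ≫ su = c.π.app i₂ ≫ sv := by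
    apply (yon S).map_injective
    apply sqE.hom_ext
    · rw [← Functor.map_comp, ← Functor.map_comp, Category.assoc, Category.assoc, hsu1, hsv1, hcuv]
    · rw [← Functor.map_comp, ← Functor.map_comp, Category.assoc, Category.assoc, hsu2, hsv2]
  obtain ⟨i₃, ψ', hψ'⟩ := LimHom.exists_eq_of_lft D c hlim hD i₂ pE su sv hsu2 hsv2 hss
  have huv' : D.map ψ' ≫ (g ≫ fP) ≫ h = D.map ψ' ≫ D.map (ψ ≫ φ₁) ≫ y := by
    rw [← hsu1, ← hsv1, ← Category.assoc, hψ', Category.assoc]
  refine ⟨i₃, ψ' ≫ ψ ≫ φ₁, D.map ψ' ≫ g ≫ fP, ?_, ?_⟩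
  · rw [← Category.assoc, c.w, hx₂c]
  · rw [Category.assoc, huv']
    simp only [Functor.map_comp, Category.assoc]

end Chart

end Groth.Agent.Lib.Seat44.SCsch
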