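import Mathlib
import Groth.Prelude.Def_AlgSpSub
import Groth.Agent.Lib.Seat44SchDense
import Groth.Agent.Lib.Helper9SpQuot
import Groth.Agent.S9927
import Groth.Agent.S9928
import Groth.Agent.S9912
import Groth.Agent.S9874

/-!
# Seat44: scheme theoretically dense open subspaces of algebraic spaces

* `isSchImage_id_of_isSchDense`: the scheme theoretic closure of a scheme theoretically dense open subspace is everything;
* `isSchDense_of_flat_pullback`: flat pullback of a quasi-compact scheme theoretically dense open subspace.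
-/

set_option autoImplicit false
universe u

open CategoryTheory CategoryTheory.Limits AlgebraicGeometry AlgSp

namespace Groth.Agent.Lib.Seat44.SchDenseSp

open Groth.Agent.Lib.Seat44.SchDense Groth.Agent.Lib.Helper9

variable {S : Scheme.{u}}

/-- The scheme theoretic closure of a scheme theoretically dense open subspace is everything. -/
theorem isSchImage_id_of_isSchDense {G F : AlgSp.Sp S} (j : G ⟶ F) (hj : AlgSp.IsSchDense j) :
    AlgSp.IsSchImage j (𝟙 F) := by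
  obtain ⟨-, V₁, φ₁, W₁, fst₁, hφe, hφs, sq₁, hdense⟩ := hj
  refine ⟨(AlgSp.RepWith (S := S) @IsClosedImmersion).id_mem F, ⟨j, Category.comp_id j⟩, ?_⟩
  rintro Z' i' - hi' ⟨f'', hf''⟩
  obtain ⟨Z₁, z₁, pr, sqZ⟩ := hi'.1 φ₁
  haveI : IsClosedImmersion z₁.left := hi'.2 φ₁ pr z₁ sqZ
  obtain ⟨w, hw⟩ := (AlgSp.yon S).map_surjective
    (sqZ.lift (fst₁ ≫ f'') ((AlgSp.yon S).map (Over.homMk W₁.ι rfl : Over.mk (W₁.ι ≫ V₁.hom) ⟶ V₁))
      (by rw [Category.assoc, hf'', sq₁.w]))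
  have hwz : w ≫ z₁ = (Over.homMk W₁.ι rfl : Over.mk (W₁.ι ≫ V₁.hom) ⟶ V₁) := by
    apply (AlgSp.yon S).map_injective
    rw [Functor.map_comp, hw, IsPullback.lift_snd]
  have hwz' : w.left ≫ z₁.left = W₁.ι := congrArg (fun m => m.left) hwz
  haveI : IsIso z₁.left := isIso_of_dense_factors z₁.left W₁ hdense w.left hwz'
  haveI : IsIso ((Over.forget S).map z₁) := (inferInstance : IsIso z₁.left)
  haveI : IsIso z₁ := isIso_of_reflects_iso z₁ (Over.forget S)
  have hc : (inv ((AlgSp.yon S).map z₁) ≫ pr) ≫ i' = φ₁ := by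
    rw [Category.assoc, sqZ.w, IsIso.inv_hom_id_assoc]
  haveI : Epi φ₁ := Groth.Agent.S9927.epi_of_repWith φ₁ hφe hφs
  haveI : Mono i' := Groth.Agent.S9928.mono_of_repWith @IsClosedImmersion
    (fun _ _ g hg => by haveI : IsClosedImmersion g := hg; infer_instance) i' hi'
  haveI : Epi i' := epi_of_epi_fac hc
  haveI : IsIso i' := ToposLike.isIso_of_mono_of_epi i' inferInstance inferInstance
  exact ⟨inv i', IsIso.inv_hom_id i'⟩

/-- Flat pullback of a quasi-compact scheme theoretically dense open subspace is scheme theoretically dense. -/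
theorem isSchDense_of_flat_pullback {X Y V V' : AlgSp.Sp S} (hX : AlgSp.IsAlgSpace X) (hY : AlgSp.IsAlgSpace Y)
    (f : X ⟶ Y) (hf : AlgSp.LocP @Flat f) (j : V ⟶ Y) (hj : AlgSp.IsSchDense j)
    (hjq : AlgSp.IsQuasiCompactMor j) (fst : V' ⟶ V) (jX : V' ⟶ X) (sq : IsPullback fst jX j f) :
    AlgSp.IsSchDense jX := by
  obtain ⟨hjo, V₁, φ₁, W₁, fst₁, hφe, hφs, sq₁, hdense⟩ := hj
  have hjqc : AlgSp.RepWith @QuasiCompact j :=
    Groth.Agent.S9912.repWith_quasiCompact_of_isQuasiCompactMor j hjo.1 hjq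
  haveI : QuasiCompact W₁.ι := hjqc.2 φ₁ fst₁ _ sq₁
  -- a chart of `X` over `V₁`
  have sqV := IsPullback.of_hasPullback f φ₁
  have hXV : AlgSp.IsAlgSpace (pullback f φ₁) :=
    Groth.Agent.S9874.result S Y hY.diag ⟨X, hX⟩ ⟨(AlgSp.yon S).obj V₁, AlgSp.IsAlgSpace.yon_obj V₁⟩
      f φ₁ _ _ _ sqV
  obtain ⟨V₂, a, hae, has⟩ := hXV.atlas
  have hπ1e : AlgSp.RepWith @Etale (pullback.fst f φ₁) :=
    MorphismProperty.of_isPullback (P := AlgSp.RepWith @Etale) sqV.flip hφe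
  have hπ1s : AlgSp.RepWith @Surjective (pullback.fst f φ₁) :=
    MorphismProperty.of_isPullback (P := AlgSp.RepWith @Surjective) sqV.flip hφs
  have hφ₂e : AlgSp.RepWith @Etale (a ≫ pullback.fst f φ₁) :=
    (AlgSp.RepWith (S := S) @Etale).comp_mem _ _ hae hπ1e
  have hφ₂s : AlgSp.RepWith @Surjective (a ≫ pullback.fst f φ₁) :=
    (AlgSp.RepWith (S := S) @Surjective).comp_mem _ _ has hπ1s
  obtain ⟨k, hk⟩ := (AlgSp.yon S).map_surjective (a ≫ pullback.snd f φ₁)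
  have comm : (a ≫ pullback.fst f φ₁) ≫ f = (AlgSp.yon S).map k ≫ φ₁ := by
    rw [hk, Category.assoc, Category.assoc, sqV.w]
  haveI : Flat k.left := hf _ φ₁ k hφ₂e hφe comm
  have hdense₂ : CInt.IsSchematicallyDense (k.left ⁻¹ᵁ W₁) := dense_preimage_of_flat k.left W₁ hdense
  -- the pullback square of opens
  have hk'w : (k.left ∣_ W₁) ≫ W₁.ι ≫ V₁.hom = (k.left ⁻¹ᵁ W₁).ι ≫ V₂.hom := by
    rw [← Category.assoc, morphismRestrict_ι, Category.assoc, Over.w k]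
  let k' : Over.mk ((k.left ⁻¹ᵁ W₁).ι ≫ V₂.hom) ⟶ Over.mk (W₁.ι ≫ V₁.hom) :=
    Over.homMk (k.left ∣_ W₁) hk'w
  have hOver : IsPullback k'
      (Over.homMk (k.left ⁻¹ᵁ W₁).ι rfl : Over.mk ((k.left ⁻¹ᵁ W₁).ι ≫ V₂.hom) ⟶ V₂)
      (Over.homMk W₁.ι rfl : Over.mk (W₁.ι ≫ V₁.hom) ⟶ V₁) k := by
    refine IsPullback.of_map (Over.forget S) ?_ ?_
    · apply Over.OverMorphism.ext
      simp only [Over.comp_left, Over.homMk_left, k']
      exact morphismRestrict_ι k.left W₁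
    · exact isPullback_morphismRestrict k.left W₁
  have big := (hOver.map (AlgSp.yon S)).paste_horiz sq₁
  rw [← comm] at big
  have hlift : ((AlgSp.yon S).map k' ≫ fst₁) ≫ j =
      ((AlgSp.yon S).map (Over.homMk (k.left ⁻¹ᵁ W₁).ι rfl :
        Over.mk ((k.left ⁻¹ᵁ W₁).ι ≫ V₂.hom) ⟶ V₂) ≫ a ≫ pullback.fst f φ₁) ≫ f := by
    rw [big.w]
    simp only [Category.assoc]
  have sq₂ : IsPullback (sq.lift _ _ hlift)
      ((AlgSp.yon S).map (Over.homMk (k.left ⁻¹ᵁ W₁).ι rfl :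
        Over.mk ((k.left ⁻¹ᵁ W₁).ι ≫ V₂.hom) ⟶ V₂)) jX (a ≫ pullback.fst f φ₁) := by
    refine IsPullback.of_right ?_ (sq.lift_snd _ _ hlift) sq
    rw [sq.lift_fst]
    exact big
  exact ⟨MorphismProperty.of_isPullback (P := AlgSp.RepWith @IsOpenImmersion) sq hjo,
    V₂, a ≫ pullback.fst f φ₁, k.left ⁻¹ᵁ W₁, sq.lift _ _ hlift, hφ₂e, hφ₂s, sq₂, hdense₂⟩

end Groth.Agent.Lib.Seat44.SchDenseSp
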