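import Groth.Agent.Lib.Seat44CocycleDesc

/-!
# Seat44: descent of morphisms from limits of quasi-compact quasi-separated algebraic spaces

For a morphism `f : X ⟶ Y` of fppf sheaves with `HomSurj f` and `HomInj f` (lifting conditions for cofiltered limits of
affine schemes), the same lifting conditions hold for cofiltered limits of quasi-compact quasi-separated algebraic spaces
with affine transition maps (`sysSurj_of_hom`, `sysInj_of_hom`).  `isPullback_yoneda_iff` reformulates these conditions as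
a cartesian square of colimits of Hom sets.
-/

set_option autoImplicit false
set_option backward.isDefEq.respectTransparency false
set_option backward.isDefEq.respectTransparency.types false
universe u
open CategoryTheory CategoryTheory.Limits AlgebraicGeometry Opposite
open AlgSp

namespace Groth.Agent.Lib.Seat44.SysHom

open Groth.Agent.Lib.Seat44.AffLim Groth.Agent.Lib.Seat44.LimChart Groth.Agent.Lib.Seat44.LimChart2
  Groth.Agent.Lib.Seat44.HomDesc Groth.Agent.Lib.Seat44.RlpBridge Groth.Agent.Lib.Seat44.CocycleDesc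

variable {S : Scheme.{u}}

/-- existence of descended lifts for a system of sheaves -/
def SysSurj {X Y : AlgSp.Sp S} (f : X ⟶ Y) {I : Type u} [SmallCategory I] (D : I ⥤ AlgSp.Sp S)
    (c : Cone D) : Prop :=
  ∀ (j : I) (y : D.obj j ⟶ Y) (x : c.pt ⟶ X), x ≫ f = c.π.app j ≫ y →
    ∃ (k : I) (φ : k ⟶ j) (x' : D.obj k ⟶ X), x' ≫ f = D.map φ ≫ y ∧ c.π.app k ≫ x' = x

/-- uniqueness of descended lifts for a system of sheaves -/
def SysInj {X Y : AlgSp.Sp S} (f : X ⟶ Y) {I : Type u} [SmallCategory I] (D : I ⥤ AlgSp.Sp S)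
    (c : Cone D) : Prop :=
  ∀ (j : I) (x x' : D.obj j ⟶ X), x ≫ f = x' ≫ f → c.π.app j ≫ x = c.π.app j ≫ x' →
    ∃ (k : I) (φ : k ⟶ j), D.map φ ≫ x = D.map φ ≫ x'

theorem isPullback_yoneda_iff {X Y : AlgSp.Sp S} (f : X ⟶ Y) {I : Type u} [SmallCategory I]
    [IsCofiltered I] (D : I ⥤ AlgSp.Sp S) (c : Cone D) :
    IsPullback (colimMap (Functor.whiskerLeft D.op (yoneda.map f)))
      (colimit.desc (D.op ⋙ yoneda.obj X) ((yoneda.obj X).mapCocone c.op))
      (colimit.desc (D.op ⋙ yoneda.obj Y) ((yoneda.obj Y).mapCocone c.op))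
      ((yoneda.map f).app (Opposite.op c.pt)) ↔ SysSurj f D c ∧ SysInj f D c := by
  rw [Groth.Agent.S10067.isPullback_colim_iff]
  swap
  · intro j x
    exact Category.assoc (c.π.app j.unop) x f
  constructor
  · rintro ⟨h1, h2⟩
    refine ⟨fun j y x hx => ?_, fun j x x' e1 e2 => ?_⟩
    · obtain ⟨⟨k⟩, ⟨φ⟩, x', e1, e2⟩ := h1 (op j) y x hx
      exact ⟨k, φ, x', e1, e2⟩
    · obtain ⟨⟨k⟩, ⟨φ⟩, e⟩ := h2 (op j) x x' e1 e2
      exact ⟨k, φ, e⟩
  · rintro ⟨h1, h2⟩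
    refine ⟨fun j y x hx => ?_, fun j x x' e1 e2 => ?_⟩
    · obtain ⟨k, φ, x', e1, e2⟩ := h1 j.unop y x hx
      exact ⟨op k, φ.op, x', e1, e2⟩
    · obtain ⟨k, φ, e⟩ := h2 j.unop x x' e1 e2
      exact ⟨op k, φ.op, e⟩

section Main

variable [QuasiSeparatedSpace S] {I : Type u} [SmallCategory I] [IsCofiltered I]
  (D : I ⥤ AlgSp.Sp S) (hD : ∀ i, AlgSp.IsAlgSpace (D.obj i))
  (hDa : ∀ (i j : I) (φ : i ⟶ j), AlgSp.IsAffineMor (D.map φ))
  (c : Cone D) (hc : IsLimit c)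

include hD hDa hc in
/-- existence of descended lifts from limits of algebraic spaces. -/
theorem sysSurj_of_hom {X Y : AlgSp.Sp S} (f : X ⟶ Y) (hs : HomSurj f) (hi : HomInj f) (j : I)
    (hqc : IsQuasiCompactSp (D.obj j)) (hqs : IsQuasiSeparatedSp (D.obj j))
    (y : D.obj j ⟶ Y) (x : c.pt ⟶ X) (hx : x ≫ f = c.π.app j ≫ y) :
    ∃ (k : I) (φ : k ⟶ j) (x' : D.obj k ⟶ X), x' ≫ f = D.map φ ≫ y ∧ c.π.app k ≫ x' = x := by
  obtain ⟨U₀, p, hU₀, hpe, hps⟩ := Groth.Agent.S10180.exists_affine_chart hqc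
  obtain ⟨R₀, r₁, r₂, r, hR₀, hre, hrs, h₁, h₂⟩ :=
    exists_kernelPair_chart ⟨D.obj j, hD j⟩ hqs hU₀ p
  obtain ⟨cW, hcW, fstW, hcWaff, ⟨hlimW⟩, sqW, sq₀⟩ := exists_chart_data' D hDa c hc j hU₀ p
  have hid : D.map (Over.mk (𝟙 j)).hom = 𝟙 _ := D.map_id j
  obtain ⟨k, ψ, b, hb1, hb2⟩ := hs (W D hDa j hU₀ p) cW hlimW (fun k => Waff D hDa j hU₀ p k) hcWaff
    (Over.mk (𝟙 j)) (Wfst D hDa j hU₀ p (Over.mk (𝟙 j)) ≫ y) (fstW ≫ x) (by
      rw [Category.assoc, hx, ← Category.assoc, ← Category.assoc, (sqW (Over.mk (𝟙 j))).w]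
      rfl)
  have hb1' : b ≫ f = Wfst D hDa j hU₀ p k ≫ D.map k.hom ≫ y := by
    rw [hb1, yon_map_W_map, ← Category.assoc, WmapSh_fst, Category.assoc]
    have e : ψ.left = k.hom := (Category.comp_id ψ.left).symm.trans (Over.w ψ)
    rw [e]
  obtain ⟨k', xk, hk1, hk2⟩ := exists_descent_of_chart_lift D hDa c hc j hU₀ hR₀ p hpe hps r₁ r₂ r
    hre hrs h₁ h₂ f hi y x cW hcW fstW sqW sq₀ k b hb1' hb2
  exact ⟨k'.left, k'.hom, xk, hk1, hk2⟩

omit [QuasiSeparatedSpace S] in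
include hDa hc in
/-- uniqueness of descended lifts from limits of algebraic spaces. -/
theorem sysInj_of_hom {X Y : AlgSp.Sp S} (f : X ⟶ Y) (hi : HomInj f) (j : I)
    (hqc : IsQuasiCompactSp (D.obj j))
    (x x' : D.obj j ⟶ X) (h1 : x ≫ f = x' ≫ f) (h2 : c.π.app j ≫ x = c.π.app j ≫ x') :
    ∃ (k : I) (φ : k ⟶ j), D.map φ ≫ x = D.map φ ≫ x' := by
  obtain ⟨U₀, p, hU₀, hpe, hps⟩ := Groth.Agent.S10180.exists_affine_chart hqc
  obtain ⟨cW, hcW, fstW, hcWaff, ⟨hlimW⟩, sqW, sq₀⟩ := exists_chart_data' D hDa c hc j hU₀ p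
  obtain ⟨k, ψ, hk⟩ := hi (W D hDa j hU₀ p) cW hlimW (fun k => Waff D hDa j hU₀ p k) hcWaff
    (Over.mk (𝟙 j)) (Wfst D hDa j hU₀ p (Over.mk (𝟙 j)) ≫ x) (Wfst D hDa j hU₀ p (Over.mk (𝟙 j)) ≫ x')
    (by rw [Category.assoc, Category.assoc, h1]) (by
      rw [← Category.assoc, ← Category.assoc, (sqW (Over.mk (𝟙 j))).w, Category.assoc, Category.assoc]
      exact congrArg (fun m => fstW ≫ m) h2)
  have hWe : RepWith @Etale (Wfst D hDa j hU₀ p k) :=
    MorphismProperty.of_isPullback (P := RepWith @Etale) (Wsq D hDa j hU₀ p k).flip hpe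
  have hWs : RepWith @Surjective (Wfst D hDa j hU₀ p k) :=
    MorphismProperty.of_isPullback (P := RepWith @Surjective) (Wsq D hDa j hU₀ p k).flip hps
  haveI : Epi (Wfst D hDa j hU₀ p k) := Groth.Agent.S9927.epi_of_repWith _ hWe hWs
  refine ⟨k.left, ψ.left, ?_⟩
  rw [← cancel_epi (Wfst D hDa j hU₀ p k), ← Category.assoc, ← WmapSh_fst, ← yon_map_W_map,
    Category.assoc, hk, ← Category.assoc, yon_map_W_map, WmapSh_fst, Category.assoc]

end Main

end Groth.Agent.Lib.Seat44.SysHom
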