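import Mathlib

/-!
# A Baire-type property of affine schemes (seat 45)

* `exists_mem_iInter_basicOpen`: a decreasing sequence of nonempty basic opens of a prime spectrum has a common
  point.
* `exists_basicOpen`: if a sequence of opens `O n` of a nonempty prime spectrum has no common point, there are
  `n` and a nonempty basic open contained in `O k` for `k < n` and disjoint from `O n`.
* `exists_affineOpen`: the same for a nonempty affine scheme, with an affine open.
-/

set_option autoImplicit false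
set_option linter.style.haveILetI false
universe u

open CategoryTheory AlgebraicGeometry Topology TopologicalSpace

namespace Groth.Agent.Lib.Seat45.Baire

open PrimeSpectrum

/-- A decreasing sequence of nonempty basic opens has a common point. -/
lemma exists_mem_iInter_basicOpen {A : Type*} [CommRing A] (f : ℕ → A)
    (hne : ∀ n, ((basicOpen (f n) : Opens (PrimeSpectrum A)) : Set (PrimeSpectrum A)).Nonempty)
    (hanti : ∀ n, basicOpen (f (n + 1)) ≤ basicOpen (f n)) :
    ∃ p : PrimeSpectrum A, ∀ n, p ∈ basicOpen (f n) := by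
  have hanti' : Antitone fun n => basicOpen (f n) := antitone_nat_of_succ_le hanti
  set M : Submonoid A := Submonoid.closure (Set.range f) with hM
  have hMk : ∀ m ∈ M, ∃ k, basicOpen (f k) ≤ basicOpen m := by
    intro m hm
    induction hm using Submonoid.closure_induction with
    | mem x hx =>
      obtain ⟨k, rfl⟩ := hx
      exact ⟨k, le_rfl⟩
    | one => exact ⟨0, by rw [basicOpen_one]; exact le_top⟩
    | mul x y _ _ hx hy =>
      obtain ⟨k, hk⟩ := hx
      obtain ⟨l, hl⟩ := hy
      refine ⟨max k l, ?_⟩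
      rw [basicOpen_mul]
      exact le_inf ((hanti' (le_max_left k l)).trans hk) ((hanti' (le_max_right k l)).trans hl)
  have h0 : (0 : A) ∉ M := by
    intro h
    obtain ⟨k, hk⟩ := hMk 0 h
    obtain ⟨p, hp⟩ := hne k
    have := hk hp
    rw [basicOpen_zero] at this
    exact this
  have hdisj : Disjoint ((⊥ : Ideal A) : Set A) (M : Set A) := by
    rw [Set.disjoint_left]
    intro a ha haM
    rw [SetLike.mem_coe, Ideal.mem_bot] at ha
    subst ha
    exact h0 haM
  obtain ⟨p, hp, -, hpM⟩ := Ideal.exists_le_prime_disjoint (⊥ : Ideal A) M hdisj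
  refine ⟨⟨p, hp⟩, fun n => ?_⟩
  rw [mem_basicOpen]
  intro hfn
  exact Set.disjoint_left.1 hpM hfn (Submonoid.subset_closure ⟨n, rfl⟩)

/-- If the opens `O n` of a nonempty prime spectrum have no common point, some nonempty basic open lies in
`O k` for `k < n` and is disjoint from `O n`. -/
theorem exists_basicOpen {A : Type*} [CommRing A] [Nontrivial A] (O : ℕ → Set (PrimeSpectrum A))
    (hO : ∀ n, IsOpen (O n)) (hemp : ∀ p, ∃ n, p ∉ O n) :
    ∃ (n : ℕ) (f : A), ((basicOpen f : Opens (PrimeSpectrum A)) : Set (PrimeSpectrum A)).Nonempty ∧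
      (∀ k < n, ((basicOpen f : Opens (PrimeSpectrum A)) : Set (PrimeSpectrum A)) ⊆ O k) ∧
      Disjoint ((basicOpen f : Opens (PrimeSpectrum A)) : Set (PrimeSpectrum A)) (O n) := by
  by_contra H
  push Not at H
  let P : ℕ → A → Prop := fun n f =>
    ((basicOpen f : Opens (PrimeSpectrum A)) : Set (PrimeSpectrum A)).Nonempty ∧
      ∀ k < n, ((basicOpen f : Opens (PrimeSpectrum A)) : Set (PrimeSpectrum A)) ⊆ O k
  have step : ∀ n f, P n f → ∃ g, P (n + 1) g ∧ basicOpen g ≤ basicOpen f := by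
    intro n f hf
    have hnd := H n f hf.1 hf.2
    rw [Set.not_disjoint_iff] at hnd
    obtain ⟨p, hp1, hp2⟩ := hnd
    obtain ⟨_, ⟨g, rfl⟩, hpg, hgsub⟩ := isTopologicalBasis_basic_opens.exists_subset_of_mem_open
      (show p ∈ ((basicOpen f : Opens (PrimeSpectrum A)) : Set (PrimeSpectrum A)) ∩ O n from ⟨hp1, hp2⟩)
      ((basicOpen f).isOpen.inter (hO n))
    refine ⟨g, ⟨⟨p, hpg⟩, fun k hk => ?_⟩, fun q hq => (hgsub hq).1⟩
    rcases Nat.lt_succ_iff_lt_or_eq.1 hk with h | rfl
    · exact fun q hq => hf.2 k h (hgsub hq).1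
    · exact fun q hq => (hgsub hq).2
  have h1 : P 0 1 := by
    refine ⟨?_, fun k hk => absurd hk (Nat.not_lt_zero k)⟩
    rw [basicOpen_one]
    exact ⟨Classical.arbitrary _, trivial⟩
  let seq : ∀ n, {f // P n f} := fun n =>
    Nat.rec (motive := fun n => {f // P n f}) ⟨1, h1⟩
      (fun n prev => ⟨Classical.choose (step n prev.1 prev.2),
        (Classical.choose_spec (step n prev.1 prev.2)).1⟩) n
  have hseq : ∀ n, basicOpen (seq (n + 1)).1 ≤ basicOpen (seq n).1 := fun n =>
    (Classical.choose_spec (step n (seq n).1 (seq n).2)).2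
  obtain ⟨p, hp⟩ := exists_mem_iInter_basicOpen (fun n => (seq n).1) (fun n => (seq n).2.1) hseq
  obtain ⟨n, hn⟩ := hemp p
  exact hn ((seq (n + 1)).2.2 n (Nat.lt_succ_self n) (hp (n + 1)))

/-- If the opens `O n` of a nonempty affine scheme have no common point, some nonempty affine open lies in
`O k` for `k < n` and is disjoint from `O n`. -/
theorem exists_affineOpen {U : Scheme.{u}} [IsAffine U] [Nonempty ↥U] (O : ℕ → U.Opens)
    (hemp : ∀ y : ↥U, ∃ n, y ∉ O n) :
    ∃ (n : ℕ) (V : U.Opens), IsAffineOpen V ∧ (V : Set ↥U).Nonempty ∧ (∀ k < n, V ≤ O k) ∧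
      Disjoint V (O n) := by
  let h : ↥U ≃ₜ PrimeSpectrum Γ(U, ⊤) := U.isoSpec.hom.homeomorph
  haveI : Nontrivial Γ(U, ⊤) := by
    rw [← PrimeSpectrum.nonempty_iff_nontrivial]
    exact ⟨h (Classical.arbitrary _)⟩
  obtain ⟨n, f, ⟨p, hp⟩, h1, h2⟩ := exists_basicOpen (fun n => h '' (O n : Set ↥U))
    (fun n => h.isOpenMap _ (O n).isOpen) (fun p => by
      obtain ⟨n, hn⟩ := hemp (h.symm p)
      refine ⟨n, ?_⟩
      rintro ⟨y, hy, rfl⟩
      rw [h.symm_apply_apply] at hn
      exact hn hy)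
  obtain ⟨_, ⟨V, hV, rfl⟩, hpV, hVsub⟩ := U.isBasis_affineOpens.exists_subset_of_mem_open
    (show h.symm p ∈ h ⁻¹' ((basicOpen f : Opens (PrimeSpectrum Γ(U, ⊤))) : Set (PrimeSpectrum Γ(U, ⊤))) by
      rw [Set.mem_preimage, h.apply_symm_apply]; exact hp)
    ((basicOpen f).isOpen.preimage h.continuous)
  refine ⟨n, V, hV, ⟨_, hpV⟩, fun k hk v hv => ?_, ?_⟩
  · obtain ⟨y, hy, hyv⟩ := h1 k hk (hVsub hv)
    rw [h.injective hyv] at hy
    exact hy
  · rw [← Opens.coe_disjoint, Set.disjoint_left]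
    intro v hv hvO
    exact Set.disjoint_left.1 h2 (hVsub hv) ⟨v, hvO, rfl⟩

end Groth.Agent.Lib.Seat45.Baire
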