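import Mathlib
import Groth.Agent.Lib.Seat45Charts

/-!
# Chart chasing for properties of morphisms of algebraic spaces at points (seat 45)

* `exists_diagram`: every point of the source of a morphism of algebraic spaces lies on a chart diagram.
* `exists_atlas_diagram`: a chart diagram with both charts étale surjective.
* `exists_common_diagram`: two chart diagrams through the same point have a common étale refinement.
* `hasAtMor_iff_forall`: for `Q` étale local on the source-and-target, "some diagram" = "all diagrams".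
-/

set_option autoImplicit false
universe u

open CategoryTheory CategoryTheory.Limits AlgebraicGeometry

namespace Groth.Agent.Lib.Seat45.ChartsMor

open Groth.Agent.Lib.Seat45.Charts

variable {S : Scheme.{u}}

/-- Every point of the source of a morphism of algebraic spaces lies on a chart diagram. -/
lemma exists_diagram {F G : AlgSp.Sp S} (hF : AlgSp.IsAlgSpace F) (hG : AlgSp.IsAlgSpace G)
    (f : F ⟶ G) (x : AlgSp.Points F) :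
    ∃ (U V : Over S) (a : (AlgSp.yon S).obj U ⟶ F) (b : (AlgSp.yon S).obj V ⟶ G) (h : U ⟶ V)
      (u : ↥U.left), AlgSp.RepWith @Etale a ∧ AlgSp.RepWith @Etale b ∧
        a ≫ f = (AlgSp.yon S).map h ≫ b ∧ AlgSp.Points.ofPt a u = x := by
  obtain ⟨U, a, u, ha, hu⟩ := exists_chart hF x
  obtain ⟨V, b, v, hb, hv⟩ := exists_chart hG (AlgSp.Points.map f x)
  obtain ⟨W, p, q, w, hp, hw1, hw2, hpa, hc⟩ :=
    exists_chart_square f a ha b hb u v (by rw [hu, hv])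
  refine ⟨W, V, (AlgSp.yon S).map p ≫ a, b, q, w, hpa, hb, hc, ?_⟩
  rw [Groth.Agent.S10176.ofPt_map_comp, hw1, hu]

/-- A chart diagram for a morphism of algebraic spaces with both charts étale and surjective. -/
lemma exists_atlas_diagram {F G : AlgSp.Sp S} (hF : AlgSp.IsAlgSpace F) (hG : AlgSp.IsAlgSpace G)
    (f : F ⟶ G) :
    ∃ (U V : Over S) (a : (AlgSp.yon S).obj U ⟶ F) (b : (AlgSp.yon S).obj V ⟶ G) (h : U ⟶ V),
      AlgSp.RepWith @Etale a ∧ AlgSp.RepWith @Surjective a ∧ AlgSp.RepWith @Etale b ∧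
        AlgSp.RepWith @Surjective b ∧ a ≫ f = (AlgSp.yon S).map h ≫ b := by
  obtain ⟨U, a, hae, has⟩ := hF.atlas
  obtain ⟨V, b, hbe, hbs⟩ := hG.atlas
  obtain ⟨W, p, q', sq⟩ := hbe.1 (a ≫ f)
  obtain ⟨q, rfl⟩ := (AlgSp.yon S).map_surjective q'
  haveI hp : Etale p.left := hbe.2 _ _ _ sq
  haveI hps : Surjective p.left := hbs.2 _ _ _ sq
  refine ⟨W, V, (AlgSp.yon S).map p ≫ a, b, q, repWith_etale_comp p a hae, ?_, hbe, hbs, ?_⟩
  · exact (AlgSp.RepWith @Surjective).comp_mem _ _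
      ((AlgSp.repWith_yon_map_iff _ _).2 inferInstance) has
  · rw [Category.assoc]; exact sq.w.symm

/-- Two chart diagrams for `f` through the same point have a common étale refinement. -/
lemma exists_common_diagram {F G : AlgSp.Sp S} (f : F ⟶ G)
    {U₁ V₁ U₂ V₂ : Over S} (a₁ : (AlgSp.yon S).obj U₁ ⟶ F) (b₁ : (AlgSp.yon S).obj V₁ ⟶ G) (h₁ : U₁ ⟶ V₁)
    (a₂ : (AlgSp.yon S).obj U₂ ⟶ F) (b₂ : (AlgSp.yon S).obj V₂ ⟶ G) (h₂ : U₂ ⟶ V₂)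
    (ha₁ : AlgSp.RepWith @Etale a₁) (hb₁ : AlgSp.RepWith @Etale b₁)
    (ha₂ : AlgSp.RepWith @Etale a₂) (hb₂ : AlgSp.RepWith @Etale b₂)
    (hc₁ : a₁ ≫ f = (AlgSp.yon S).map h₁ ≫ b₁) (hc₂ : a₂ ≫ f = (AlgSp.yon S).map h₂ ≫ b₂)
    (u₁ : ↥U₁.left) (u₂ : ↥U₂.left) (e : AlgSp.Points.ofPt a₁ u₁ = AlgSp.Points.ofPt a₂ u₂) :
    ∃ (U₀ V₀ : Over S) (α₁ : U₀ ⟶ U₁) (α₂ : U₀ ⟶ U₂) (β₁ : V₀ ⟶ V₁) (β₂ : V₀ ⟶ V₂) (h₀ : U₀ ⟶ V₀)
      (u₀ : ↥U₀.left), Etale α₁.left ∧ Etale α₂.left ∧ Etale β₁.left ∧ Etale β₂.left ∧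
        h₀ ≫ β₁ = α₁ ≫ h₁ ∧ h₀ ≫ β₂ = α₂ ≫ h₂ ∧ α₁.left u₀ = u₁ ∧ α₂.left u₀ = u₂ := by
  obtain ⟨U₀, α₁, α₂, u₀, hα₁, hα₂, hu₁, hu₂, hα⟩ := exists_common_chart a₁ a₂ ha₁ ha₂ u₁ u₂ e
  obtain ⟨V₀, β₂, β₁', sq⟩ := hb₁.1 b₂
  obtain ⟨β₁, rfl⟩ := (AlgSp.yon S).map_surjective β₁'
  have hβ₂ : Etale β₂.left := hb₁.2 _ _ _ sq
  have hβ₁ : Etale β₁.left := hb₂.2 _ _ _ sq.flip
  have hw : ((AlgSp.yon S).map (α₁ ≫ h₁)) ≫ b₁ = ((AlgSp.yon S).map (α₂ ≫ h₂)) ≫ b₂ := by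
    rw [Functor.map_comp, Functor.map_comp, Category.assoc, Category.assoc, ← hc₁, ← hc₂,
      ← Category.assoc, ← Category.assoc, hα]
  obtain ⟨h₀, hh₀⟩ := (AlgSp.yon S).map_surjective (sq.lift _ _ hw)
  refine ⟨U₀, V₀, α₁, α₂, β₁, β₂, h₀, u₀, hα₁, hα₂, hβ₁, hβ₂, ?_, ?_, hu₁, hu₂⟩
  · apply (AlgSp.yon S).map_injective
    rw [Functor.map_comp, hh₀, sq.lift_fst]
  · apply (AlgSp.yon S).map_injective
    rw [Functor.map_comp, hh₀, sq.lift_snd]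

/-- For a property `Q` of pointed morphisms of schemes which is étale local on the source-and-target,
having `Q` at `x` on some chart diagram is the same as having it on all chart diagrams through `x`. -/
theorem hasAtMor_iff_forall (Q : ∀ (U V : Scheme.{u}), (U ⟶ V) → ↥U → Prop)
    (hQ : ∀ {U U' V V' : Scheme.{u}} (h : U ⟶ V) (h' : U' ⟶ V') (a : U' ⟶ U) (b : V' ⟶ V)
      [Etale a] [Etale b], h' ≫ b = a ≫ h → ∀ u' : ↥U', Q U V h (a u') ↔ Q U' V' h' u')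
    {F G : AlgSp.Sp S} (hF : AlgSp.IsAlgSpace F) (hG : AlgSp.IsAlgSpace G) (f : F ⟶ G)
    (x : AlgSp.Points F) :
    AlgSp.HasAtMor Q f x ↔
      ∀ (U V : Over S) (a : (AlgSp.yon S).obj U ⟶ F) (b : (AlgSp.yon S).obj V ⟶ G) (h : U ⟶ V)
        (u : ↥U.left), AlgSp.RepWith @Etale a → AlgSp.RepWith @Etale b →
          a ≫ f = (AlgSp.yon S).map h ≫ b → AlgSp.Points.ofPt a u = x → Q U.left V.left h.left u := by
  constructor
  · rintro ⟨U₁, V₁, a₁, b₁, h₁, u₁, ha₁, hb₁, hc₁, hu₁, hQ₁⟩ U₂ V₂ a₂ b₂ h₂ u₂ ha₂ hb₂ hc₂ hu₂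
    obtain ⟨U₀, V₀, α₁, α₂, β₁, β₂, h₀, u₀, hα₁, hα₂, hβ₁, hβ₂, e₁, e₂, hw₁, hw₂⟩ :=
      exists_common_diagram f a₁ b₁ h₁ a₂ b₂ h₂ ha₁ hb₁ ha₂ hb₂ hc₁ hc₂ u₁ u₂ (hu₁.trans hu₂.symm)
    have e₁' : h₀.left ≫ β₁.left = α₁.left ≫ h₁.left := by
      rw [← Over.comp_left, ← Over.comp_left, e₁]
    have e₂' : h₀.left ≫ β₂.left = α₂.left ≫ h₂.left := by
      rw [← Over.comp_left, ← Over.comp_left, e₂]
    have k₁ := hQ h₁.left h₀.left α₁.left β₁.left e₁' u₀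
    have k₂ := hQ h₂.left h₀.left α₂.left β₂.left e₂' u₀
    rw [hw₁] at k₁
    rw [hw₂] at k₂
    exact k₂.2 (k₁.1 hQ₁)
  · intro h
    obtain ⟨U, V, a, b, k, u, ha, hb, hc, hu⟩ := exists_diagram hF hG f x
    exact ⟨U, V, a, b, k, u, ha, hb, hc, hu, h U V a b k u ha hb hc hu⟩

/-- For `Q` étale local on the source-and-target and a chart diagram `(a, b, h)`, `f` has `Q` at the image of `u`
exactly when `h` has `Q` at `u`. -/
theorem hasAtMor_ofPt_iff (Q : ∀ (U V : Scheme.{u}), (U ⟶ V) → ↥U → Prop)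
    (hQ : ∀ {U U' V V' : Scheme.{u}} (h : U ⟶ V) (h' : U' ⟶ V') (a : U' ⟶ U) (b : V' ⟶ V)
      [Etale a] [Etale b], h' ≫ b = a ≫ h → ∀ u' : ↥U', Q U V h (a u') ↔ Q U' V' h' u')
    {F G : AlgSp.Sp S} (hF : AlgSp.IsAlgSpace F) (hG : AlgSp.IsAlgSpace G) (f : F ⟶ G)
    {U V : Over S} (a : (AlgSp.yon S).obj U ⟶ F) (b : (AlgSp.yon S).obj V ⟶ G) (h : U ⟶ V)
    (ha : AlgSp.RepWith @Etale a) (hb : AlgSp.RepWith @Etale b)
    (hc : a ≫ f = (AlgSp.yon S).map h ≫ b) (u : ↥U.left) :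
    AlgSp.HasAtMor Q f (AlgSp.Points.ofPt a u) ↔ Q U.left V.left h.left u :=
  ⟨fun hx => (hasAtMor_iff_forall Q hQ hF hG f _).1 hx U V a b h u ha hb hc rfl,
    fun hu => ⟨U, V, a, b, h, u, ha, hb, hc, rfl, hu⟩⟩

end Groth.Agent.Lib.Seat45.ChartsMor
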