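import Mathlib
import Groth.Agent.Lib.Seat45BaseChange
import Groth.Agent.S10175

/-!
# Atlas diagrams compatible with a base change of algebraic spaces, second version (seat 45)

`exists_baseChange_atlas_diagram'`: as `exists_baseChange_atlas_diagram`, with in addition the surjectivity of
`V' ⟶ Y' ×_Y V` on points: for `y'` in `|Y'|` and `v` in `V` over the same point of `Y` there is `v'` in `V'`
over both.
-/

set_option autoImplicit false
universe u

open CategoryTheory CategoryTheory.Limits AlgebraicGeometry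

namespace Groth.Agent.Lib.Seat45.BaseChange

open Groth.Agent.Lib.Seat45.Charts

variable {S : Scheme.{u}}

theorem exists_baseChange_atlas_diagram' {X Y Y' X' : AlgSp.Sp S} (hX : AlgSp.IsAlgSpace X)
    (hY : AlgSp.IsAlgSpace Y) (hY' : AlgSp.IsAlgSpace Y') {f : X ⟶ Y} {g : Y' ⟶ Y} {g' : X' ⟶ X}
    {f' : X' ⟶ Y'} (sq : IsPullback g' f' f g) :
    ∃ (U V U' V' : Over S) (a : (AlgSp.yon S).obj U ⟶ X) (b : (AlgSp.yon S).obj V ⟶ Y) (h : U ⟶ V)
      (a' : (AlgSp.yon S).obj U' ⟶ X') (b' : (AlgSp.yon S).obj V' ⟶ Y') (h' : U' ⟶ V')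
      (α : U' ⟶ U) (β : V' ⟶ V),
      AlgSp.RepWith @Etale a ∧ AlgSp.RepWith @Surjective a ∧
      AlgSp.RepWith @Etale b ∧ AlgSp.RepWith @Surjective b ∧
      AlgSp.RepWith @Etale a' ∧ AlgSp.RepWith @Surjective a' ∧
      AlgSp.RepWith @Etale b' ∧ AlgSp.RepWith @Surjective b' ∧
      a ≫ f = (AlgSp.yon S).map h ≫ b ∧ a' ≫ f' = (AlgSp.yon S).map h' ≫ b' ∧
      a' ≫ g' = (AlgSp.yon S).map α ≫ a ∧ b' ≫ g = (AlgSp.yon S).map β ≫ b ∧
      IsPullback α h' h β ∧
      (∀ (y' : AlgSp.Points Y') (v : ↥V.left), AlgSp.Points.map g y' = AlgSp.Points.ofPt b v →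
        ∃ v' : ↥V'.left, AlgSp.Points.ofPt b' v' = y' ∧ β.left v' = v) := by
  obtain ⟨V, b, hbe, hbs⟩ := hY.atlas
  -- `Q = X ×_Y V`
  have sqQ := IsPullback.of_hasPullback f b
  have hQ : AlgSp.IsAlgSpace (pullback f b) :=
    Groth.Agent.S9874.isAlgSpace_of_isPullback hY.diag hX (AlgSp.IsAlgSpace.yon_obj V) sqQ
  have hQfe : AlgSp.RepWith @Etale (pullback.fst f b) :=
    MorphismProperty.of_isPullback (P := AlgSp.RepWith @Etale) sqQ.flip hbe
  have hQfs : AlgSp.RepWith @Surjective (pullback.fst f b) :=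
    MorphismProperty.of_isPullback (P := AlgSp.RepWith @Surjective) sqQ.flip hbs
  obtain ⟨U, e, hee, hes⟩ := hQ.atlas
  obtain ⟨h, hh⟩ := (AlgSp.yon S).map_surjective (e ≫ pullback.snd f b)
  -- `R = Y' ×_Y V`
  have sqR := IsPullback.of_hasPullback g b
  have hR : AlgSp.IsAlgSpace (pullback g b) :=
    Groth.Agent.S9874.isAlgSpace_of_isPullback hY.diag hY' (AlgSp.IsAlgSpace.yon_obj V) sqR
  have hRfe : AlgSp.RepWith @Etale (pullback.fst g b) :=
    MorphismProperty.of_isPullback (P := AlgSp.RepWith @Etale) sqR.flip hbe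
  have hRfs : AlgSp.RepWith @Surjective (pullback.fst g b) :=
    MorphismProperty.of_isPullback (P := AlgSp.RepWith @Surjective) sqR.flip hbs
  obtain ⟨V', β', hβe, hβs⟩ := hR.atlas
  obtain ⟨β, hβ⟩ := (AlgSp.yon S).map_surjective (β' ≫ pullback.snd g b)
  have hb'e : AlgSp.RepWith @Etale (β' ≫ pullback.fst g b) :=
    (AlgSp.RepWith @Etale).comp_mem _ _ hβe hRfe
  have hb's : AlgSp.RepWith @Surjective (β' ≫ pullback.fst g b) :=
    (AlgSp.RepWith @Surjective).comp_mem _ _ hβs hRfs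
  have hb'g : (β' ≫ pullback.fst g b) ≫ g = (AlgSp.yon S).map β ≫ b := by
    rw [Category.assoc, pullback.condition, ← Category.assoc, hβ]
  -- `P' = X' ×_{Y'} V'`
  have sqP := IsPullback.of_hasPullback f' (β' ≫ pullback.fst g b)
  have hPfe : AlgSp.RepWith @Etale (pullback.fst f' (β' ≫ pullback.fst g b)) :=
    MorphismProperty.of_isPullback (P := AlgSp.RepWith @Etale) sqP.flip hb'e
  have hPfs : AlgSp.RepWith @Surjective (pullback.fst f' (β' ≫ pullback.fst g b)) :=
    MorphismProperty.of_isPullback (P := AlgSp.RepWith @Surjective) sqP.flip hb's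
  -- `ρ : P' ⟶ Q`
  have hw : (pullback.fst f' (β' ≫ pullback.fst g b) ≫ g') ≫ f =
      (pullback.snd f' (β' ≫ pullback.fst g b) ≫ (AlgSp.yon S).map β) ≫ b := by
    rw [Category.assoc, sq.w, ← Category.assoc, pullback.condition, Category.assoc, hb'g,
      Category.assoc]
  obtain ⟨ρ, hρ⟩ : ∃ ρ : pullback f' (β' ≫ pullback.fst g b) ⟶ pullback f b,
      ρ = pullback.lift (pullback.fst f' (β' ≫ pullback.fst g b) ≫ g')
        (pullback.snd f' (β' ≫ pullback.fst g b) ≫ (AlgSp.yon S).map β) hw := ⟨_, rfl⟩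
  have hρ1 : ρ ≫ pullback.fst f b = pullback.fst f' (β' ≫ pullback.fst g b) ≫ g' := by
    rw [hρ, pullback.lift_fst]
  have hρ2 : ρ ≫ pullback.snd f b =
      pullback.snd f' (β' ≫ pullback.fst g b) ≫ (AlgSp.yon S).map β := by
    rw [hρ, pullback.lift_snd]
  have big : IsPullback (pullback.fst f' (β' ≫ pullback.fst g b) ≫ g')
      (pullback.snd f' (β' ≫ pullback.fst g b)) f ((β' ≫ pullback.fst g b) ≫ g) :=
    sqP.paste_horiz sq
  have sqρ : IsPullback ρ (pullback.snd f' (β' ≫ pullback.fst g b)) (pullback.snd f b)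
      ((AlgSp.yon S).map β) := by
    refine IsPullback.of_right ?_ hρ2 sqQ
    rw [hρ1, ← hb'g]
    exact big
  -- the chart `U' = U ×_V V'`
  have sqU : IsPullback ((AlgSp.yon S).map (pullback.fst h β))
      ((AlgSp.yon S).map (pullback.snd h β)) ((AlgSp.yon S).map h) ((AlgSp.yon S).map β) :=
    (IsPullback.of_hasPullback h β).map (AlgSp.yon S)
  have hw' : ((AlgSp.yon S).map (pullback.fst h β) ≫ e) ≫ pullback.snd f b =
      (AlgSp.yon S).map (pullback.snd h β) ≫ (AlgSp.yon S).map β := by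
    rw [Category.assoc, ← hh, sqU.w]
  obtain ⟨c, hc⟩ : ∃ c : (AlgSp.yon S).obj (pullback h β) ⟶ pullback f' (β' ≫ pullback.fst g b),
      c = sqρ.lift ((AlgSp.yon S).map (pullback.fst h β) ≫ e)
        ((AlgSp.yon S).map (pullback.snd h β)) hw' := ⟨_, rfl⟩
  have hc1 : c ≫ ρ = (AlgSp.yon S).map (pullback.fst h β) ≫ e := by rw [hc, sqρ.lift_fst]
  have hc2 : c ≫ pullback.snd f' (β' ≫ pullback.fst g b) =
      (AlgSp.yon S).map (pullback.snd h β) := by rw [hc, sqρ.lift_snd]
  have left : IsPullback c ((AlgSp.yon S).map (pullback.fst h β)) ρ e := by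
    refine IsPullback.of_right ?_ hc1 sqρ.flip
    rw [hc2, ← hh]
    exact sqU.flip
  have hce : AlgSp.RepWith @Etale c :=
    MorphismProperty.of_isPullback (P := AlgSp.RepWith @Etale) left.flip hee
  have hcs : AlgSp.RepWith @Surjective c :=
    MorphismProperty.of_isPullback (P := AlgSp.RepWith @Surjective) left.flip hes
  refine ⟨U, V, pullback h β, V', e ≫ pullback.fst f b, b, h,
    c ≫ pullback.fst f' (β' ≫ pullback.fst g b), β' ≫ pullback.fst g b, pullback.snd h β,
    pullback.fst h β, β,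
    (AlgSp.RepWith @Etale).comp_mem _ _ hee hQfe, (AlgSp.RepWith @Surjective).comp_mem _ _ hes hQfs,
    hbe, hbs, (AlgSp.RepWith @Etale).comp_mem _ _ hce hPfe,
    (AlgSp.RepWith @Surjective).comp_mem _ _ hcs hPfs, hb'e, hb's, ?_, ?_, ?_, hb'g,
    IsPullback.of_hasPullback h β, ?_⟩
  · rw [Category.assoc, pullback.condition, ← Category.assoc, hh]
  · rw [Category.assoc, pullback.condition, ← Category.assoc, hc2]
  · rw [Category.assoc, ← hρ1, ← Category.assoc, hc1, Category.assoc]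
  · intro y' v hyv
    obtain ⟨p, hp1, hp2⟩ := Groth.Agent.S10175.exists_point_of_isPullback sqR.flip
      (AlgSp.Points.ofScheme V v) y' (by
        rw [hyv, AlgSp.Points.map_ofPt, Category.id_comp])
    obtain ⟨v', hv'⟩ := Groth.Agent.S10177.surjective_ofPt β' hβs p
    refine ⟨v', ?_, ?_⟩
    · rw [← AlgSp.Points.map_ofPt, hv', hp2]
    · apply (AlgSp.Points.schemeHomeo V).injective
      have h1 : AlgSp.Points.ofPt ((AlgSp.yon S).map β) v' = AlgSp.Points.ofScheme V v := by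
        rw [hβ, ← AlgSp.Points.map_ofPt, hv', hp1]
      rw [← Category.comp_id ((AlgSp.yon S).map β), Groth.Agent.S10176.ofPt_map_comp] at h1
      exact h1

end Groth.Agent.Lib.Seat45.BaseChange
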