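import Groth.Agent.Lib.Seat45BaseChange

/-!
# Base change chart diagrams over prescribed charts of the bases (seat 45)

`exists_baseChange_diagram_over`: for a cartesian square `X' = X ×_Y Y'` of algebraic spaces and compatible étale
charts `V ⟶ Y`, `V' ⟶ Y'`, `β : V' ⟶ V`, there are étale charts `U ⟶ X`, `U' ⟶ X'` with `U' = U ×_V V'`,
such that `U ⟶ X ×_Y V` and `U' ⟶ X' ×_{Y'} V'` are surjective (expressed by lifting of points).
-/

set_option autoImplicit false
universe u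

open CategoryTheory CategoryTheory.Limits AlgebraicGeometry

namespace Groth.Agent.Lib.Seat45.BaseChange

variable {S : Scheme.{u}}

theorem exists_baseChange_diagram_over {X Y Y' X' : AlgSp.Sp S} (hX : AlgSp.IsAlgSpace X)
    (hY : AlgSp.IsAlgSpace Y) {f : X ⟶ Y} {g : Y' ⟶ Y} {g' : X' ⟶ X}
    {f' : X' ⟶ Y'} (sq : IsPullback g' f' f g) {V V' : Over S} (b : (AlgSp.yon S).obj V ⟶ Y)
    (b' : (AlgSp.yon S).obj V' ⟶ Y') (β : V' ⟶ V) (hbe : AlgSp.RepWith @Etale b)
    (hb'e : AlgSp.RepWith @Etale b') (hb'g : b' ≫ g = (AlgSp.yon S).map β ≫ b) :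
    ∃ (U U' : Over S) (a : (AlgSp.yon S).obj U ⟶ X) (h : U ⟶ V)
      (a' : (AlgSp.yon S).obj U' ⟶ X') (h' : U' ⟶ V') (α : U' ⟶ U),
      AlgSp.RepWith @Etale a ∧ AlgSp.RepWith @Etale a' ∧
      a ≫ f = (AlgSp.yon S).map h ≫ b ∧ a' ≫ f' = (AlgSp.yon S).map h' ≫ b' ∧
      a' ≫ g' = (AlgSp.yon S).map α ≫ a ∧ IsPullback α h' h β ∧
      (∀ (x : AlgSp.Points X) (v : ↥V.left), AlgSp.Points.map f x = AlgSp.Points.ofPt b v →
        ∃ u : ↥U.left, AlgSp.Points.ofPt a u = x ∧ h.left u = v) ∧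
      (∀ (x' : AlgSp.Points X') (v' : ↥V'.left), AlgSp.Points.map f' x' = AlgSp.Points.ofPt b' v' →
        ∃ u' : ↥U'.left, AlgSp.Points.ofPt a' u' = x' ∧ h'.left u' = v') := by
  -- `Q = X ×_Y V`
  have sqQ := IsPullback.of_hasPullback f b
  have hQ : AlgSp.IsAlgSpace (pullback f b) :=
    Groth.Agent.S9874.isAlgSpace_of_isPullback hY.diag hX (AlgSp.IsAlgSpace.yon_obj V) sqQ
  have hQfe : AlgSp.RepWith @Etale (pullback.fst f b) :=
    MorphismProperty.of_isPullback (P := AlgSp.RepWith @Etale) sqQ.flip hbe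
  obtain ⟨U, e, hee, hes⟩ := hQ.atlas
  obtain ⟨h, hh⟩ := (AlgSp.yon S).map_surjective (e ≫ pullback.snd f b)
  -- `P' = X' ×_{Y'} V'`
  have sqP := IsPullback.of_hasPullback f' b'
  have hPfe : AlgSp.RepWith @Etale (pullback.fst f' b') :=
    MorphismProperty.of_isPullback (P := AlgSp.RepWith @Etale) sqP.flip hb'e
  -- `ρ : P' ⟶ Q`
  have hw : (pullback.fst f' b' ≫ g') ≫ f = (pullback.snd f' b' ≫ (AlgSp.yon S).map β) ≫ b := by
    rw [Category.assoc, sq.w, ← Category.assoc, pullback.condition, Category.assoc, hb'g,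
      Category.assoc]
  obtain ⟨ρ, hρ⟩ : ∃ ρ : pullback f' b' ⟶ pullback f b,
      ρ = pullback.lift (pullback.fst f' b' ≫ g') (pullback.snd f' b' ≫ (AlgSp.yon S).map β) hw :=
    ⟨_, rfl⟩
  have hρ1 : ρ ≫ pullback.fst f b = pullback.fst f' b' ≫ g' := by
    rw [hρ, pullback.lift_fst]
  have hρ2 : ρ ≫ pullback.snd f b = pullback.snd f' b' ≫ (AlgSp.yon S).map β := by
    rw [hρ, pullback.lift_snd]
  have big : IsPullback (pullback.fst f' b' ≫ g') (pullback.snd f' b') f (b' ≫ g) :=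
    sqP.paste_horiz sq
  have sqρ : IsPullback ρ (pullback.snd f' b') (pullback.snd f b) ((AlgSp.yon S).map β) := by
    refine IsPullback.of_right ?_ hρ2 sqQ
    rw [hρ1, ← hb'g]
    exact big
  -- the chart `U' = U ×_V V'`
  have sqU : IsPullback ((AlgSp.yon S).map (pullback.fst h β))
      ((AlgSp.yon S).map (pullback.snd h β)) ((AlgSp.yon S).map h) ((AlgSp.yon S).map β) :=
    (IsPullback.of_hasPullback h β).map (AlgSp.yon S)
  have hw' : ((AlgSp.yon S).map (pullback.fst h β) ≫ e) ≫ pullback.snd f b =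
      (AlgSp.yon S).map (pullback.snd h β) ≫ (AlgSp.yon S).map β := by
    rw [Category.assoc, ← hh, sqU.w]
  obtain ⟨c, hc⟩ : ∃ c : (AlgSp.yon S).obj (pullback h β) ⟶ pullback f' b',
      c = sqρ.lift ((AlgSp.yon S).map (pullback.fst h β) ≫ e)
        ((AlgSp.yon S).map (pullback.snd h β)) hw' := ⟨_, rfl⟩
  have hc1 : c ≫ ρ = (AlgSp.yon S).map (pullback.fst h β) ≫ e := by rw [hc, sqρ.lift_fst]
  have hc2 : c ≫ pullback.snd f' b' = (AlgSp.yon S).map (pullback.snd h β) := by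
    rw [hc, sqρ.lift_snd]
  have left : IsPullback c ((AlgSp.yon S).map (pullback.fst h β)) ρ e := by
    refine IsPullback.of_right ?_ hc1 sqρ.flip
    rw [hc2, ← hh]
    exact sqU.flip
  have hce : AlgSp.RepWith @Etale c :=
    MorphismProperty.of_isPullback (P := AlgSp.RepWith @Etale) left.flip hee
  have hcs : AlgSp.RepWith @Surjective c :=
    MorphismProperty.of_isPullback (P := AlgSp.RepWith @Surjective) left.flip hes
  -- lifting of points through an étale surjective chart of a fibre product with a representable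
  have lift : ∀ {F F' : AlgSp.Sp S} {T T' : Over S} (φ : F' ⟶ F) (t : (AlgSp.yon S).obj T ⟶ F)
      (e₀ : (AlgSp.yon S).obj T' ⟶ pullback φ t) (k : T' ⟶ T),
      AlgSp.RepWith @Surjective e₀ → e₀ ≫ pullback.snd φ t = (AlgSp.yon S).map k →
      ∀ (x : AlgSp.Points F') (v : ↥T.left), AlgSp.Points.map φ x = AlgSp.Points.ofPt t v →
        ∃ u : ↥T'.left, AlgSp.Points.ofPt (e₀ ≫ pullback.fst φ t) u = x ∧ k.left u = v := by
    intro F F' T T' φ t e₀ k hes₀ hk x v hxv
    have e1 : AlgSp.Points.map φ x = AlgSp.Points.map t (AlgSp.Points.ofScheme T v) := by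
      rw [hxv, AlgSp.Points.ofPt_eq_map_ofScheme]
    obtain ⟨p, hp1, hp2⟩ := Groth.Agent.S10175.exists_point_of_isPullback
      (IsPullback.of_hasPullback φ t) x _ e1
    obtain ⟨u, hu⟩ := Groth.Agent.S10177.surjective_ofPt e₀ hes₀ p
    refine ⟨u, ?_, ?_⟩
    · rw [← AlgSp.Points.map_ofPt, hu, hp1]
    · have h2 : AlgSp.Points.ofPt ((AlgSp.yon S).map k) u = AlgSp.Points.ofScheme T v := by
        rw [← hk, ← AlgSp.Points.map_ofPt, hu, hp2]
      have h3 := congrArg (AlgSp.Points.toScheme T) h2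
      rwa [AlgSp.Points.toScheme_ofPt, AlgSp.Points.toScheme_ofScheme] at h3
  refine ⟨U, pullback h β, e ≫ pullback.fst f b, h, c ≫ pullback.fst f' b', pullback.snd h β,
    pullback.fst h β, (AlgSp.RepWith @Etale).comp_mem _ _ hee hQfe,
    (AlgSp.RepWith @Etale).comp_mem _ _ hce hPfe, ?_, ?_, ?_, IsPullback.of_hasPullback h β,
    lift f b e h hes hh.symm, lift f' b' c (pullback.snd h β) hcs hc2⟩
  · rw [Category.assoc, pullback.condition, ← Category.assoc, hh]
  · rw [Category.assoc, pullback.condition, ← Category.assoc, hc2]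
  · rw [Category.assoc, ← hρ1, ← Category.assoc, hc1, Category.assoc]

end Groth.Agent.Lib.Seat45.BaseChange
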