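import Mathlib
import Groth.Agent.Lib.Seat45ChartsMor
import Groth.Agent.Lib.Seat45EtDim

/-!
# More chart chasing for morphisms of algebraic spaces (seat 45)

* `hasAtMor_iff_forall_of_locP`, `hasAtMor_ofPt_iff_of_locP`: as `hasAtMor_iff_forall` / `hasAtMor_ofPt_iff`, but
  étale-locality of `Q` only has to be known for morphisms of schemes with a property `P` that `f` has étale locally.
* `exists_diagram_comp`: a chart diagram for a composable pair through a given point.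
* `exists_chart_square_of_isClosed`: refinement of a chart at a closed point keeps the point closed.
-/

set_option autoImplicit false
universe u

open CategoryTheory CategoryTheory.Limits AlgebraicGeometry

namespace Groth.Agent.Lib.Seat45.ChartsMor

open Groth.Agent.Lib.Seat45.Charts

variable {S : Scheme.{u}}

/-- Variant of `hasAtMor_iff_forall` where étale-locality of `Q` is only required among morphisms with `P`,
for `f` having `P` étale locally. -/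
theorem hasAtMor_iff_forall_of_locP (P : MorphismProperty Scheme.{u})
    (Q : ∀ (U V : Scheme.{u}), (U ⟶ V) → ↥U → Prop)
    (hQ : ∀ {U U' V V' : Scheme.{u}} (h : U ⟶ V) (h' : U' ⟶ V') (a : U' ⟶ U) (b : V' ⟶ V)
      [Etale a] [Etale b], P h → P h' → h' ≫ b = a ≫ h → ∀ u' : ↥U', Q U V h (a u') ↔ Q U' V' h' u')
    {F G : AlgSp.Sp S} (hF : AlgSp.IsAlgSpace F) (hG : AlgSp.IsAlgSpace G) (f : F ⟶ G)
    (hf : AlgSp.LocP P f) (x : AlgSp.Points F) :
    AlgSp.HasAtMor Q f x ↔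
      ∀ (U V : Over S) (a : (AlgSp.yon S).obj U ⟶ F) (b : (AlgSp.yon S).obj V ⟶ G) (h : U ⟶ V)
        (u : ↥U.left), AlgSp.RepWith @Etale a → AlgSp.RepWith @Etale b →
          a ≫ f = (AlgSp.yon S).map h ≫ b → AlgSp.Points.ofPt a u = x → Q U.left V.left h.left u := by
  constructor
  · rintro ⟨U₁, V₁, a₁, b₁, h₁, u₁, ha₁, hb₁, hc₁, hu₁, hQ₁⟩ U₂ V₂ a₂ b₂ h₂ u₂ ha₂ hb₂ hc₂ hu₂
    obtain ⟨U₀, V₀, α₁, α₂, β₁, β₂, h₀, u₀, hα₁, hα₂, hβ₁, hβ₂, e₁, e₂, hw₁, hw₂⟩ :=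
      exists_common_diagram f a₁ b₁ h₁ a₂ b₂ h₂ ha₁ hb₁ ha₂ hb₂ hc₁ hc₂ u₁ u₂ (hu₁.trans hu₂.symm)
    have e₁' : h₀.left ≫ β₁.left = α₁.left ≫ h₁.left := by
      rw [← Over.comp_left, ← Over.comp_left, e₁]
    have e₂' : h₀.left ≫ β₂.left = α₂.left ≫ h₂.left := by
      rw [← Over.comp_left, ← Over.comp_left, e₂]
    have hP₁ : P h₁.left := hf a₁ b₁ h₁ ha₁ hb₁ hc₁
    have hP₂ : P h₂.left := hf a₂ b₂ h₂ ha₂ hb₂ hc₂
    have hP₀ : P h₀.left := by
      refine hf ((AlgSp.yon S).map α₁ ≫ a₁) ((AlgSp.yon S).map β₁ ≫ b₁) h₀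
        (repWith_etale_comp α₁ a₁ ha₁) (repWith_etale_comp β₁ b₁ hb₁) ?_
      rw [Category.assoc, hc₁, ← Category.assoc, ← Functor.map_comp, ← e₁, Functor.map_comp,
        Category.assoc]
    have k₁ := hQ h₁.left h₀.left α₁.left β₁.left hP₁ hP₀ e₁' u₀
    have k₂ := hQ h₂.left h₀.left α₂.left β₂.left hP₂ hP₀ e₂' u₀
    rw [hw₁] at k₁
    rw [hw₂] at k₂
    exact k₂.2 (k₁.1 hQ₁)
  · intro h
    obtain ⟨U, V, a, b, k, u, ha, hb, hc, hu⟩ := exists_diagram hF hG f x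
    exact ⟨U, V, a, b, k, u, ha, hb, hc, hu, h U V a b k u ha hb hc hu⟩

/-- Variant of `hasAtMor_ofPt_iff` relative to a property `P` that `f` has étale locally. -/
theorem hasAtMor_ofPt_iff_of_locP (P : MorphismProperty Scheme.{u})
    (Q : ∀ (U V : Scheme.{u}), (U ⟶ V) → ↥U → Prop)
    (hQ : ∀ {U U' V V' : Scheme.{u}} (h : U ⟶ V) (h' : U' ⟶ V') (a : U' ⟶ U) (b : V' ⟶ V)
      [Etale a] [Etale b], P h → P h' → h' ≫ b = a ≫ h → ∀ u' : ↥U', Q U V h (a u') ↔ Q U' V' h' u')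
    {F G : AlgSp.Sp S} (hF : AlgSp.IsAlgSpace F) (hG : AlgSp.IsAlgSpace G) (f : F ⟶ G)
    (hf : AlgSp.LocP P f)
    {U V : Over S} (a : (AlgSp.yon S).obj U ⟶ F) (b : (AlgSp.yon S).obj V ⟶ G) (h : U ⟶ V)
    (ha : AlgSp.RepWith @Etale a) (hb : AlgSp.RepWith @Etale b)
    (hc : a ≫ f = (AlgSp.yon S).map h ≫ b) (u : ↥U.left) :
    AlgSp.HasAtMor Q f (AlgSp.Points.ofPt a u) ↔ Q U.left V.left h.left u :=
  ⟨fun hx => (hasAtMor_iff_forall_of_locP P Q hQ hF hG f hf _).1 hx U V a b h u ha hb hc rfl,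
    fun hu => ⟨U, V, a, b, h, u, ha, hb, hc, rfl, hu⟩⟩

/-- A chart diagram for a composable pair of morphisms of algebraic spaces through a given point. -/
lemma exists_diagram_comp {F G H : AlgSp.Sp S} (hF : AlgSp.IsAlgSpace F) (hG : AlgSp.IsAlgSpace G)
    (hH : AlgSp.IsAlgSpace H) (f : F ⟶ G) (g : G ⟶ H) (x : AlgSp.Points F) :
    ∃ (U V W : Over S) (a : (AlgSp.yon S).obj U ⟶ F) (b : (AlgSp.yon S).obj V ⟶ G)
      (c : (AlgSp.yon S).obj W ⟶ H) (h : U ⟶ V) (k : V ⟶ W) (u : ↥U.left),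
      AlgSp.RepWith @Etale a ∧ AlgSp.RepWith @Etale b ∧ AlgSp.RepWith @Etale c ∧
        a ≫ f = (AlgSp.yon S).map h ≫ b ∧ b ≫ g = (AlgSp.yon S).map k ≫ c ∧
        a ≫ f ≫ g = (AlgSp.yon S).map (h ≫ k) ≫ c ∧ AlgSp.Points.ofPt a u = x := by
  obtain ⟨W, c, w, hc, hw⟩ := exists_chart hH (AlgSp.Points.map g (AlgSp.Points.map f x))
  obtain ⟨V₀, b₀, v₀, hb₀, hv₀⟩ := exists_chart hG (AlgSp.Points.map f x)
  obtain ⟨V, p, k, v, hp, hpv, hkv, hbe, hbc⟩ :=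
    exists_chart_square g b₀ hb₀ c hc v₀ w (by rw [hv₀, hw])
  have hv : AlgSp.Points.ofPt ((AlgSp.yon S).map p ≫ b₀) v = AlgSp.Points.map f x := by
    rw [Groth.Agent.S10176.ofPt_map_comp, hpv, hv₀]
  obtain ⟨U₀, a₀, u₀, ha₀, hu₀⟩ := exists_chart hF x
  obtain ⟨U, p', h, u, hp', hpu, hhu, hae, hac⟩ :=
    exists_chart_square f a₀ ha₀ _ hbe u₀ v (by rw [hu₀, hv])
  have hu : AlgSp.Points.ofPt ((AlgSp.yon S).map p' ≫ a₀) u = x := by
    rw [Groth.Agent.S10176.ofPt_map_comp, hpu, hu₀]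
  refine ⟨U, V, W, _, _, c, h, k, u, hae, hbe, hc, hac, hbc, ?_, hu⟩
  rw [← Category.assoc, hac, Category.assoc, hbc, Functor.map_comp, Category.assoc]

/-- A point over a closed point along an étale morphism of schemes is closed. -/
lemma isClosed_singleton_of_etale {W U : Scheme.{u}} (p : W ⟶ U) [Etale p] (w : ↥W)
    (hu : IsClosed ({p w} : Set ↥U)) : IsClosed ({w} : Set ↥W) := by
  have : LocallyQuasiFinite p := Groth.Agent.Lib.Seat45.EtDim.locallyQuasiFinite_of_etale p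
  have hdisc : _root_.IsDiscrete (p ⁻¹' {p w}) := p.isDiscrete_preimage_singleton (p w)
  have : DiscreteTopology ↥(p ⁻¹' {p w}) := hdisc.to_subtype
  have hcl : IsClosed (p ⁻¹' {p w}) := hu.preimage p.continuous
  have h1 : IsClosed ({⟨w, rfl⟩} : Set ↥(p ⁻¹' {p w})) := isClosed_discrete _
  have h2 := hcl.isClosedEmbedding_subtypeVal.isClosedMap _ h1
  simpa using h2

end Groth.Agent.Lib.Seat45.ChartsMor
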