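import Groth.Agent.S10194
import Groth.Agent.S10195
import Groth.Agent.S10175
import Groth.Agent.S9874

/-!
# "Where a relative morphism has a property" (seat 45)

For `f : X ⟶ Y` over `Z` (with `p : X ⟶ Z` closed), if the failure of a property of the base changes of `f` is
detected by a closed set `T` of points of `X`, there is an open subspace of `Z` through which exactly those
`Z' ⟶ Z` factor for which the base change of `f` has the property.

* `exists_baseChange`: the base change squares exist in the category of algebraic spaces.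
* `exists_where`: the general construction of the open subspace.
-/

set_option autoImplicit false
set_option linter.style.haveILetI false
universe u

open CategoryTheory CategoryTheory.Limits AlgebraicGeometry

namespace Groth.Agent.Lib.Seat45.Where

variable {S : Scheme.{u}}

/-- Fibre products exist in the category of algebraic spaces. -/
lemma exists_pullback {X Y Z : AlgSp.Space S} (f : X ⟶ Z) (g : Y ⟶ Z) :
    ∃ (P : AlgSp.Space S) (fst : P ⟶ X) (snd : P ⟶ Y), IsPullback fst.hom snd.hom f.hom g.hom := by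
  have hP : AlgSp.IsAlgSpace (pullback f.hom g.hom) :=
    Groth.Agent.S9874.isAlgSpace_of_isPullback Z.property.diag X.property Y.property
      (IsPullback.of_hasPullback f.hom g.hom)
  exact ⟨⟨pullback f.hom g.hom, hP⟩, ObjectProperty.homMk (pullback.fst f.hom g.hom),
    ObjectProperty.homMk (pullback.snd f.hom g.hom), IsPullback.of_hasPullback f.hom g.hom⟩

/-- The open subspace of `Z` over which a closed set `T` of "bad" points of `X` disappears. -/
theorem exists_where {X Y Z : AlgSp.Space S} (f : X ⟶ Y) (p : X ⟶ Z) (q : Y ⟶ Z) (hc : f ≫ q = p)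
    (hp : AlgSp.IsClosedMor p.hom) (T : Set (AlgSp.Points X.obj)) (hT : IsClosed T)
    (Pr : ∀ ⦃X' Y' : AlgSp.Space S⦄, (X' ⟶ Y') → Prop)
    (hPr : ∀ (Z' : AlgSp.Space S) (g : Z' ⟶ Z) (Y' : AlgSp.Space S) (gY : Y' ⟶ Y) (q' : Y' ⟶ Z'),
      IsPullback gY.hom q'.hom q.hom g.hom → ∀ (X' : AlgSp.Space S) (gX : X' ⟶ X) (f' : X' ⟶ Y'),
        IsPullback gX.hom f'.hom f.hom gY.hom →
          (Pr f' ↔ ∀ x' : AlgSp.Points X'.obj, AlgSp.Points.map gX.hom x' ∉ T)) :
    ∃ (W : AlgSp.Space S) (w : W ⟶ Z), AlgSp.RepWith @IsOpenImmersion w.hom ∧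
      ∀ (Z' : AlgSp.Space S) (g : Z' ⟶ Z),
        (∃ k : Z' ⟶ W, k ≫ w = g) ↔
          ∀ (Y' : AlgSp.Space S) (gY : Y' ⟶ Y) (q' : Y' ⟶ Z'),
            IsPullback gY.hom q'.hom q.hom g.hom →
            ∀ (X' : AlgSp.Space S) (gX : X' ⟶ X) (f' : X' ⟶ Y'),
              IsPullback gX.hom f'.hom f.hom gY.hom → Pr f' := by
  have hO : IsOpen (AlgSp.Points.map p.hom '' T)ᶜ := (hp T hT).isOpen_compl
  obtain ⟨W, w, hw, hrange⟩ := Groth.Agent.S10195.result Z _ hO
  refine ⟨W, w, hw, fun Z' g => ?_⟩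
  rw [Groth.Agent.S10194.result w hw g, hrange]
  constructor
  · intro hsub Y' gY q' sq1 X' gX f' sq2
    rw [hPr Z' g Y' gY q' sq1 X' gX f' sq2]
    intro x' hx'
    have h1 : AlgSp.Points.map g.hom (AlgSp.Points.map (f' ≫ q').hom x') ∈
        (AlgSp.Points.map p.hom '' T)ᶜ := hsub ⟨_, rfl⟩
    apply h1
    refine ⟨_, hx', ?_⟩
    have e : gX.hom ≫ p.hom = (f' ≫ q').hom ≫ g.hom := by
      rw [← hc]
      exact (sq2.paste_vert sq1).w
    rw [← AlgSp.Points.map_comp, ← AlgSp.Points.map_comp, e]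
  · intro H
    obtain ⟨Y', gY, q', sq1⟩ := exists_pullback q g
    obtain ⟨X', gX, f', sq2⟩ := exists_pullback f gY
    have hx := (hPr Z' g Y' gY q' sq1 X' gX f' sq2).1 (H Y' gY q' sq1 X' gX f' sq2)
    rintro _ ⟨z', rfl⟩ ⟨x, hxT, hxz⟩
    have sqbig : IsPullback gX.hom (f' ≫ q').hom (f ≫ q).hom g.hom := sq2.paste_vert sq1
    rw [hc] at sqbig
    obtain ⟨x', hx'1, -⟩ := Groth.Agent.S10175.exists_point_of_isPullback sqbig x z' hxz
    exact hx x' (hx'1 ▸ hxT)

/-- Variant of `exists_where` with an additional closed set of bad points of `Y` (with `q` closed). -/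
theorem exists_where₂ {X Y Z : AlgSp.Space S} (f : X ⟶ Y) (p : X ⟶ Z) (q : Y ⟶ Z) (hc : f ≫ q = p)
    (hp : AlgSp.IsClosedMor p.hom) (hq : AlgSp.IsClosedMor q.hom)
    (T : Set (AlgSp.Points X.obj)) (hT : IsClosed T) (C : Set (AlgSp.Points Y.obj)) (hC : IsClosed C)
    (Pr : ∀ ⦃X' Y' : AlgSp.Space S⦄, (X' ⟶ Y') → Prop)
    (hPr : ∀ (Z' : AlgSp.Space S) (g : Z' ⟶ Z) (Y' : AlgSp.Space S) (gY : Y' ⟶ Y) (q' : Y' ⟶ Z'),
      IsPullback gY.hom q'.hom q.hom g.hom → ∀ (X' : AlgSp.Space S) (gX : X' ⟶ X) (f' : X' ⟶ Y'),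
        IsPullback gX.hom f'.hom f.hom gY.hom →
          (Pr f' ↔ (∀ x' : AlgSp.Points X'.obj, AlgSp.Points.map gX.hom x' ∉ T) ∧
            ∀ y' : AlgSp.Points Y'.obj, AlgSp.Points.map gY.hom y' ∉ C)) :
    ∃ (W : AlgSp.Space S) (w : W ⟶ Z), AlgSp.RepWith @IsOpenImmersion w.hom ∧
      ∀ (Z' : AlgSp.Space S) (g : Z' ⟶ Z),
        (∃ k : Z' ⟶ W, k ≫ w = g) ↔
          ∀ (Y' : AlgSp.Space S) (gY : Y' ⟶ Y) (q' : Y' ⟶ Z'),
            IsPullback gY.hom q'.hom q.hom g.hom →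
            ∀ (X' : AlgSp.Space S) (gX : X' ⟶ X) (f' : X' ⟶ Y'),
              IsPullback gX.hom f'.hom f.hom gY.hom → Pr f' := by
  have hO : IsOpen (AlgSp.Points.map p.hom '' T ∪ AlgSp.Points.map q.hom '' C)ᶜ :=
    ((hp T hT).union (hq C hC)).isOpen_compl
  obtain ⟨W, w, hw, hrange⟩ := Groth.Agent.S10195.result Z _ hO
  refine ⟨W, w, hw, fun Z' g => ?_⟩
  rw [Groth.Agent.S10194.result w hw g, hrange]
  constructor
  · intro hsub Y' gY q' sq1 X' gX f' sq2
    rw [hPr Z' g Y' gY q' sq1 X' gX f' sq2]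
    refine ⟨fun x' hx' => ?_, fun y' hy' => ?_⟩
    · have h1 : AlgSp.Points.map g.hom (AlgSp.Points.map (f' ≫ q').hom x') ∈
          (AlgSp.Points.map p.hom '' T ∪ AlgSp.Points.map q.hom '' C)ᶜ := hsub ⟨_, rfl⟩
      apply h1
      refine Or.inl ⟨_, hx', ?_⟩
      have e : gX.hom ≫ p.hom = (f' ≫ q').hom ≫ g.hom := by
        rw [← hc]
        exact (sq2.paste_vert sq1).w
      rw [← AlgSp.Points.map_comp, ← AlgSp.Points.map_comp, e]
    · have h1 : AlgSp.Points.map g.hom (AlgSp.Points.map q'.hom y') ∈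
          (AlgSp.Points.map p.hom '' T ∪ AlgSp.Points.map q.hom '' C)ᶜ := hsub ⟨_, rfl⟩
      apply h1
      refine Or.inr ⟨_, hy', ?_⟩
      rw [← AlgSp.Points.map_comp, ← AlgSp.Points.map_comp, sq1.w]
  · intro H
    obtain ⟨Y', gY, q', sq1⟩ := exists_pullback q g
    obtain ⟨X', gX, f', sq2⟩ := exists_pullback f gY
    obtain ⟨hx, hy⟩ := (hPr Z' g Y' gY q' sq1 X' gX f' sq2).1 (H Y' gY q' sq1 X' gX f' sq2)
    rintro _ ⟨z', rfl⟩ (⟨x, hxT, hxz⟩ | ⟨y, hyC, hyz⟩)
    · have sqbig : IsPullback gX.hom (f' ≫ q').hom (f ≫ q).hom g.hom := sq2.paste_vert sq1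
      rw [hc] at sqbig
      obtain ⟨x', hx'1, -⟩ := Groth.Agent.S10175.exists_point_of_isPullback sqbig x z' hxz
      exact hx x' (hx'1 ▸ hxT)
    · obtain ⟨y', hy'1, -⟩ := Groth.Agent.S10175.exists_point_of_isPullback sq1 y z' hyz
      exact hy y' (hy'1 ▸ hyC)

end Groth.Agent.Lib.Seat45.Where
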