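import Groth.Agent.Lib.Seat45UnramSp
import Groth.Agent.Lib.Seat45Where
import Groth.Agent.Lib.Helper12OpenSub2
import Groth.Agent.Lib.Helper12Proper
import Groth.Agent.Lib.Seat43FibFlatSp
import Groth.Agent.S10261
import Groth.Agent.S9555
import Groth.Agent.S9906
import Groth.Agent.S9984
import Groth.Agent.S9948
import Groth.Agent.S9938
import Groth.Agent.S9928
import Groth.Agent.Lib.Seat43ImmDescent

/-!
# Universally closed unramified universally injective morphisms are closed immersions (seat 45)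

* `repWith_isClosedImmersion_of_chart`: a morphism `X ⟶ h_V` with an étale chart `h_W ⟶ X`, surjective on
  points, whose composite to `V` is a closed immersion of schemes, is a closed immersion.
* `exists_etale_nhd_isClosedImmersion`: étale locally on a scheme base, a universally closed, unramified,
  universally injective morphism from an algebraic space is a closed immersion.
-/

set_option autoImplicit false
set_option linter.style.haveILetI false
universe u

open CategoryTheory CategoryTheory.Limits AlgebraicGeometry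

namespace Groth.Agent.Lib.Seat45.ClosedImm

open Groth.Agent.Lib.Seat45.Charts

variable {S : Scheme.{u}}

/-- A morphism `X ⟶ h_V` with an étale chart `h_W ⟶ X`, surjective on points, whose composite to `V` is a closed
immersion of schemes, is a closed immersion. -/
lemma repWith_isClosedImmersion_of_chart {X : AlgSp.Sp S} {V W : Over S}
    (f : X ⟶ (AlgSp.yon S).obj V) (k : (AlgSp.yon S).obj W ⟶ X) (hk : AlgSp.RepWith @Etale k)
    (hks : Function.Surjective (AlgSp.Points.map k)) (c : W ⟶ V)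
    (hc : k ≫ f = (AlgSp.yon S).map c) [IsClosedImmersion c.left] :
    AlgSp.RepWith @IsClosedImmersion f := by
  haveI : Mono c.left := inferInstance
  haveI : Mono c := (Over.forget S).mono_of_mono_map ‹_›
  haveI : Mono ((AlgSp.yon S).map c) := inferInstance
  haveI : Mono k := by
    haveI : Mono (k ≫ f) := by rw [hc]; infer_instance
    exact mono_of_mono k f
  have hket : AlgSp.IsEtaleMor k := fun U φ hφ => (AlgSp.RepWith @Etale).comp_mem _ _ hφ hk
  have hopen := Groth.Agent.S10261.repWith_isOpenImmersion_of_mono (AlgSp.IsAlgSpace.yon_obj W) k hket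
  have hsurj := Groth.Agent.S9906.repWith_surjective_of_surjective_map k hopen.1 hks
  haveI := Groth.Agent.S10194.isIso_of_repWith_openImmersion_surjective k hopen hsurj
  have e : f = inv k ≫ (AlgSp.yon S).map c := by rw [IsIso.eq_inv_comp, hc]
  rw [e]
  exact MorphismProperty.RespectsIso.precomp _ _ _
    ((AlgSp.repWith_yon_map_iff @IsClosedImmersion c).2 ‹_›)

/-- The image of a point of a scheme under `h_φ`. -/
lemma map_yon_map_ofPt_id {T T' : Over S} (φ : T ⟶ T') (t : ↥T.left) :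
    AlgSp.Points.map ((AlgSp.yon S).map φ) (AlgSp.Points.ofPt (𝟙 _) t) =
      AlgSp.Points.ofPt (𝟙 _) (φ.left t) := by
  rw [AlgSp.Points.map_ofPt, Category.id_comp, ← Groth.Agent.S10176.ofPt_map_comp, Category.comp_id]

/-- Points of `h_T` are points of `T`. -/
lemma exists_ofPt_id {T : Over S} (y : AlgSp.Points ((AlgSp.yon S).obj T)) :
    ∃ t : ↥T.left, AlgSp.Points.ofPt (𝟙 _) t = y :=
  (AlgSp.Points.schemeEquiv T).surjective y

lemma ofPt_id_injective {T : Over S} :
    Function.Injective (AlgSp.Points.ofPt (𝟙 ((AlgSp.yon S).obj T))) :=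
  (AlgSp.Points.schemeEquiv T).injective

/-- Criterion for the base change of `f : X ⟶ h_V` along an étale `V'' ⟶ V` to be a closed immersion: a scheme
`W` étale over an atlas `U` of `X`, closed in `V''`, covering all points of `V''` in the image of `X`. -/
lemma repWith_isClosedImmersion_baseChange {X : AlgSp.Sp S} (hX : AlgSp.IsAlgSpace X) {V U : Over S}
    (f : X ⟶ (AlgSp.yon S).obj V) (hui : AlgSp.IsUnivInjectiveMor f)
    (a : (AlgSp.yon S).obj U ⟶ X) (hae : AlgSp.RepWith @Etale a) (h : U ⟶ V)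
    (hh : (AlgSp.yon S).map h = a ≫ f) {V'' W : Over S} (g : V'' ⟶ V) [Etale g.left]
    (e : W ⟶ U) [Etale e.left] (c : W ⟶ V'') [IsClosedImmersion c.left] (hec : e ≫ h = c ≫ g)
    (hcov : ∀ (t : ↥V''.left) (x : AlgSp.Points X),
      AlgSp.Points.map f x = AlgSp.Points.ofPt (𝟙 _) (g.left t) → t ∈ Set.range c.left)
    (P : AlgSp.Sp S) (fst : P ⟶ X) (snd : P ⟶ (AlgSp.yon S).obj V'')
    (sq : IsPullback fst snd f ((AlgSp.yon S).map g)) : AlgSp.RepWith @IsClosedImmersion snd := by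
  have hV : AlgSp.IsAlgSpace ((AlgSp.yon S).obj V) := AlgSp.IsAlgSpace.yon_obj V
  have hV'' : AlgSp.IsAlgSpace ((AlgSp.yon S).obj V'') := AlgSp.IsAlgSpace.yon_obj V''
  have hP : AlgSp.IsAlgSpace P :=
    Groth.Agent.S9874.isAlgSpace_of_isPullback hV.diag hX hV'' sq
  have hw : ((AlgSp.yon S).map e ≫ a) ≫ f = (AlgSp.yon S).map c ≫ (AlgSp.yon S).map g := by
    rw [Category.assoc, ← hh, ← Functor.map_comp, ← Functor.map_comp, hec]
  obtain ⟨k, hk1, hk2⟩ : ∃ k : (AlgSp.yon S).obj W ⟶ P,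
      k ≫ fst = (AlgSp.yon S).map e ≫ a ∧ k ≫ snd = (AlgSp.yon S).map c :=
    ⟨sq.lift _ _ hw, sq.lift_fst _ _ _, sq.lift_snd _ _ _⟩
  have hfst : AlgSp.RepWith @Etale fst :=
    MorphismProperty.of_isPullback (P := AlgSp.RepWith @Etale) sq.flip
      ((AlgSp.repWith_yon_map_iff @Etale g).2 inferInstance)
  have hk : AlgSp.RepWith @Etale k := by
    refine Groth.Agent.Lib.Seat43.FibFlatSp.repWith_etale_of_comp hP k fst hfst ?_
    rw [hk1]
    exact repWith_etale_comp e a hae
  have hinj : Function.Injective (AlgSp.Points.map snd) := hui hV'' _ fst snd sq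
  have hks : Function.Surjective (AlgSp.Points.map k) := by
    intro π
    obtain ⟨t, ht⟩ := exists_ofPt_id (AlgSp.Points.map snd π)
    have h1 : AlgSp.Points.map f (AlgSp.Points.map fst π) = AlgSp.Points.ofPt (𝟙 _) (g.left t) := by
      rw [← AlgSp.Points.map_comp, sq.w, AlgSp.Points.map_comp, ← ht, map_yon_map_ofPt_id]
    obtain ⟨w, hw⟩ := hcov t _ h1
    refine ⟨AlgSp.Points.ofPt (𝟙 _) w, hinj ?_⟩
    rw [← AlgSp.Points.map_comp, hk2, map_yon_map_ofPt_id, hw, ht]
  exact repWith_isClosedImmersion_of_chart snd k hk hks c hk2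

/-- Étale locally on a scheme base, around a point outside the image, a universally closed universally injective
morphism is a closed immersion (the base change is empty). -/
lemma exists_nhd_of_not_mem {X : AlgSp.Sp S} (hX : AlgSp.IsAlgSpace X) {V : Over S}
    (f : X ⟶ (AlgSp.yon S).obj V) (huc : AlgSp.IsUnivClosedMor f)
    (hui : AlgSp.IsUnivInjectiveMor f) (v : ↥V.left)
    (hv : ¬ ∃ x : AlgSp.Points X, AlgSp.Points.map f x = AlgSp.Points.ofPt (𝟙 _) v) :
    ∃ (V'' : Over S) (g : V'' ⟶ V) (v'' : ↥V''.left), Etale g.left ∧ g.left v'' = v ∧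
      ∀ (P : AlgSp.Sp S) (fst : P ⟶ X) (snd : P ⟶ (AlgSp.yon S).obj V''),
        IsPullback fst snd f ((AlgSp.yon S).map g) → AlgSp.RepWith @IsClosedImmersion snd := by
  obtain ⟨U, a, hae, has⟩ := hX.atlas
  obtain ⟨h, hh⟩ := (AlgSp.yon S).map_surjective (a ≫ f)
  have hV : AlgSp.IsAlgSpace ((AlgSp.yon S).obj V) := AlgSp.IsAlgSpace.yon_obj V
  have hclosed : IsClosedMap (AlgSp.Points.map f) := huc hV (𝟙 _) (𝟙 _) f IsPullback.of_id_fst
  have hC : IsClosed (AlgSp.Points.ofPt (𝟙 ((AlgSp.yon S).obj V)) ⁻¹'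
      Set.range (AlgSp.Points.map f)) := by
    refine IsClosed.preimage (AlgSp.Points.continuous_ofPt _) ?_
    rw [← Set.image_univ]
    exact hclosed _ isClosed_univ
  let O : V.left.Opens := ⟨_, hC.isOpen_compl⟩
  let V'' : Over S := Over.mk (O.ι ≫ V.hom)
  let g : V'' ⟶ V := Over.homMk O.ι rfl
  haveI : Etale g.left := by change Etale O.ι; infer_instance
  have hvO : v ∈ O := fun ⟨x, hx⟩ => hv ⟨x, hx⟩
  let W : Over S := Over.mk (Scheme.emptyTo S)
  let e : W ⟶ U := Over.homMk (Scheme.emptyTo U.left) (Scheme.empty_ext _ _)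
  let c : W ⟶ V'' := Over.homMk (Scheme.emptyTo V''.left) (Scheme.empty_ext _ _)
  haveI : Etale e.left := by change Etale (Scheme.emptyTo U.left); infer_instance
  haveI : IsClosedImmersion c.left := by
    change IsClosedImmersion (Scheme.emptyTo V''.left); infer_instance
  have hec : e ≫ h = c ≫ g := Over.OverMorphism.ext (Scheme.empty_ext _ _)
  refine ⟨V'', g, ⟨v, hvO⟩, inferInstance, rfl, fun P fst snd sq => ?_⟩
  refine repWith_isClosedImmersion_baseChange hX f hui a hae h hh g e c hec ?_ P fst snd sq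
  intro t x hx
  exact absurd ⟨x, hx⟩ t.2

/-- An étale chart `h_W ⟶ X` whose composite with some `X ⟶ h_V` comes from a monomorphism of schemes is an open
immersion. -/
lemma repWith_isOpenImmersion_of_chart {X : AlgSp.Sp S} {V W : Over S}
    (f : X ⟶ (AlgSp.yon S).obj V) (k : (AlgSp.yon S).obj W ⟶ X) (hk : AlgSp.RepWith @Etale k)
    (c : W ⟶ V) (hc : k ≫ f = (AlgSp.yon S).map c) [Mono c.left] :
    AlgSp.RepWith @IsOpenImmersion k := by
  haveI : Mono c := (Over.forget S).mono_of_mono_map ‹_›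
  haveI : Mono ((AlgSp.yon S).map c) := inferInstance
  haveI : Mono k := by
    haveI : Mono (k ≫ f) := by rw [hc]; infer_instance
    exact mono_of_mono k f
  have hket : AlgSp.IsEtaleMor k := fun U φ hφ => (AlgSp.RepWith @Etale).comp_mem _ _ hφ hk
  exact Groth.Agent.S10261.repWith_isOpenImmersion_of_mono (AlgSp.IsAlgSpace.yon_obj W) k hket

/-- Étale locally on a scheme base, around a point of the image, a universally closed unramified universally
injective morphism is a closed immersion. -/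
lemma exists_nhd_of_mem {X : AlgSp.Sp S} (hX : AlgSp.IsAlgSpace X) {V : Over S}
    (f : X ⟶ (AlgSp.yon S).obj V) (huc : AlgSp.IsUnivClosedMor f)
    (hun : AlgSp.LocP (@LocallyOfFiniteType ⊓ @FormallyUnramified) f)
    (hui : AlgSp.IsUnivInjectiveMor f) (v : ↥V.left)
    (hv : ∃ x : AlgSp.Points X, AlgSp.Points.map f x = AlgSp.Points.ofPt (𝟙 _) v) :
    ∃ (V'' : Over S) (g : V'' ⟶ V) (v'' : ↥V''.left), Etale g.left ∧ g.left v'' = v ∧
      ∀ (P : AlgSp.Sp S) (fst : P ⟶ X) (snd : P ⟶ (AlgSp.yon S).obj V''),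
        IsPullback fst snd f ((AlgSp.yon S).map g) → AlgSp.RepWith @IsClosedImmersion snd := by
  obtain ⟨U, a, hae, has⟩ := hX.atlas
  obtain ⟨h, hh⟩ := (AlgSp.yon S).map_surjective (a ≫ f)
  have hV : AlgSp.IsAlgSpace ((AlgSp.yon S).obj V) := AlgSp.IsAlgSpace.yon_obj V
  have hP := hun a (𝟙 _) h hae (AlgSp.repWith_id @Etale V) (by rw [Category.comp_id, hh])
  haveI : LocallyOfFiniteType h.left := hP.1
  haveI : FormallyUnramified h.left := hP.2
  -- the point `u` over `v`
  obtain ⟨x, hx⟩ := hv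
  obtain ⟨u, rfl⟩ := Groth.Agent.S10177.surjective_ofPt a has x
  have hu : h.left u = v := by
    apply ofPt_id_injective
    rw [← hx, AlgSp.Points.map_ofPt, ← hh, ← Groth.Agent.S10176.ofPt_map_comp, Category.comp_id]
  -- the local structure of unramified morphisms
  obtain ⟨V'₀, g₀, v', hg₀, hgv, K, _, lab, Vk, H1, -, H3⟩ :=
    Groth.Agent.S9555.result h.left v (fun _ : Unit => u) (Function.injective_of_subsingleton _)
      (fun _ => hu) (fun _ => ⟨⊤, trivial, inferInstance,
        IsZariskiLocalAtSource.comp (P := @FormallyUnramified) hP.2 _⟩)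
  obtain ⟨w₀, hw₀1, hw₀2⟩ := Scheme.Pullback.exists_preimage_pullback (f := h.left) (g := g₀) u v'
    (hu.trans hgv.symm)
  obtain ⟨k, -, -⟩ := H3 w₀ () hw₀2 hw₀1
  obtain ⟨hci, w, hwk, hwv⟩ := H1 k
  -- the schemes over `S`
  let V' : Over S := Over.mk (g₀ ≫ V.hom)
  let g : V' ⟶ V := Over.homMk g₀ rfl
  let U'' : Over S := Over.mk ((Vk k).ι ≫ pullback.fst h.left g₀ ≫ U.hom)
  let e₁ : U'' ⟶ U := Over.homMk ((Vk k).ι ≫ pullback.fst h.left g₀) (by simp [U''])
  let c₁ : U'' ⟶ V' := Over.homMk ((Vk k).ι ≫ pullback.snd h.left g₀) (by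
    change ((Vk k).ι ≫ pullback.snd h.left g₀) ≫ g₀ ≫ V.hom =
      (Vk k).ι ≫ pullback.fst h.left g₀ ≫ U.hom
    rw [Category.assoc, ← Category.assoc (pullback.snd h.left g₀), ← pullback.condition,
      Category.assoc, Over.w h])
  have hec₁ : e₁ ≫ h = c₁ ≫ g := by
    apply Over.OverMorphism.ext
    change ((Vk k).ι ≫ pullback.fst h.left g₀) ≫ h.left = ((Vk k).ι ≫ pullback.snd h.left g₀) ≫ g₀
    rw [Category.assoc, Category.assoc, pullback.condition]
  haveI : Etale g.left := hg₀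
  haveI : Etale e₁.left := by
    change Etale ((Vk k).ι ≫ pullback.fst h.left g₀)
    infer_instance
  haveI : IsClosedImmersion c₁.left := hci
  have hV' : AlgSp.IsAlgSpace ((AlgSp.yon S).obj V') := AlgSp.IsAlgSpace.yon_obj V'
  -- the base change to `V'`
  have sq' := IsPullback.of_hasPullback f ((AlgSp.yon S).map g)
  have hX' : AlgSp.IsAlgSpace (pullback f ((AlgSp.yon S).map g)) :=
    Groth.Agent.S9874.isAlgSpace_of_isPullback hV.diag hX hV' sq'
  have hw : ((AlgSp.yon S).map e₁ ≫ a) ≫ f = (AlgSp.yon S).map c₁ ≫ (AlgSp.yon S).map g := by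
    rw [Category.assoc, ← hh, ← Functor.map_comp, ← Functor.map_comp, hec₁]
  obtain ⟨j, hj1, hj2⟩ : ∃ j : (AlgSp.yon S).obj U'' ⟶ pullback f ((AlgSp.yon S).map g),
      j ≫ pullback.fst f ((AlgSp.yon S).map g) = (AlgSp.yon S).map e₁ ≫ a ∧
        j ≫ pullback.snd f ((AlgSp.yon S).map g) = (AlgSp.yon S).map c₁ :=
    ⟨sq'.lift _ _ hw, sq'.lift_fst _ _ _, sq'.lift_snd _ _ _⟩
  have hfst : AlgSp.RepWith @Etale (pullback.fst f ((AlgSp.yon S).map g)) :=
    MorphismProperty.of_isPullback (P := AlgSp.RepWith @Etale) sq'.flip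
      ((AlgSp.repWith_yon_map_iff @Etale g).2 inferInstance)
  have hj : AlgSp.RepWith @Etale j := by
    refine Groth.Agent.Lib.Seat43.FibFlatSp.repWith_etale_of_comp hX' j _ hfst ?_
    rw [hj1]
    exact repWith_etale_comp e₁ a hae
  have hjo : AlgSp.RepWith @IsOpenImmersion j :=
    repWith_isOpenImmersion_of_chart (pullback.snd f ((AlgSp.yon S).map g)) j hj c₁ hj2
  have hinj' : Function.Injective (AlgSp.Points.map (pullback.snd f ((AlgSp.yon S).map g))) :=
    hui hV' _ _ _ sq'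
  have huc' : AlgSp.IsUnivClosedMor (pullback.snd f ((AlgSp.yon S).map g)) :=
    Groth.Agent.Lib.Helper12.Proper.isUnivClosedMor_baseChange sq' huc
  have hclosed' : IsClosedMap (AlgSp.Points.map (pullback.snd f ((AlgSp.yon S).map g))) :=
    huc' hV' (𝟙 _) (𝟙 _) _ IsPullback.of_id_fst
  have hjsnd : ∀ y : ↥U''.left, AlgSp.Points.map (pullback.snd f ((AlgSp.yon S).map g))
      (AlgSp.Points.map j (AlgSp.Points.ofPt (𝟙 _) y)) = AlgSp.Points.ofPt (𝟙 _) (c₁.left y) := by
    intro y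
    rw [← AlgSp.Points.map_comp, hj2, map_yon_map_ofPt_id]
  -- the closed set to remove
  have hD : IsClosed (AlgSp.Points.ofPt (𝟙 ((AlgSp.yon S).obj V')) ⁻¹'
      (AlgSp.Points.map (pullback.snd f ((AlgSp.yon S).map g)) '' (Set.range (AlgSp.Points.map j))ᶜ)) :=
    IsClosed.preimage (AlgSp.Points.continuous_ofPt _)
      (hclosed' _ (Groth.Agent.Lib.Helper12.OpenSub.isOpen_range_of_open j hjo).isClosed_compl)
  let O : V'.left.Opens := ⟨_, hD.isOpen_compl⟩
  have hv'O : v' ∈ O := by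
    rintro ⟨x', hx'1, hx'2⟩
    apply hx'1
    refine ⟨AlgSp.Points.ofPt (𝟙 _) (⟨w, hwk⟩ : ↥(Vk k)), hinj' ?_⟩
    rw [hx'2, hjsnd]
    congr 1
  let V'' : Over S := Over.mk (O.ι ≫ V'.hom)
  let g' : V'' ⟶ V' := Over.homMk O.ι rfl
  haveI : Etale (g' ≫ g).left := by
    change Etale (O.ι ≫ g₀)
    infer_instance
  let W : Over S := Over.mk ((c₁.left ⁻¹ᵁ O).ι ≫ U''.hom)
  let e₂ : W ⟶ U'' := Over.homMk (c₁.left ⁻¹ᵁ O).ι rfl
  let c : W ⟶ V'' := Over.homMk (c₁.left ∣_ O) (by
    change (c₁.left ∣_ O) ≫ O.ι ≫ V'.hom = (c₁.left ⁻¹ᵁ O).ι ≫ U''.hom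
    rw [← Category.assoc, morphismRestrict_ι, Category.assoc, Over.w c₁])
  haveI : Etale (e₂ ≫ e₁).left := by
    change Etale ((c₁.left ⁻¹ᵁ O).ι ≫ e₁.left)
    infer_instance
  haveI : IsClosedImmersion c.left := by
    change IsClosedImmersion (c₁.left ∣_ O)
    exact IsZariskiLocalAtTarget.restrict ‹IsClosedImmersion c₁.left› O
  have hec : (e₂ ≫ e₁) ≫ h = c ≫ (g' ≫ g) := by
    have h1 : e₂ ≫ c₁ = c ≫ g' := by
      apply Over.OverMorphism.ext
      change (c₁.left ⁻¹ᵁ O).ι ≫ c₁.left = (c₁.left ∣_ O) ≫ O.ι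
      rw [morphismRestrict_ι]
    rw [Category.assoc, hec₁, ← Category.assoc, h1, Category.assoc]
  refine ⟨V'', g' ≫ g, ⟨v', hv'O⟩, inferInstance, hgv, fun P fst snd sq => ?_⟩
  refine repWith_isClosedImmersion_baseChange hX f hui a hae h hh (g' ≫ g) (e₂ ≫ e₁) c hec ?_ P fst snd sq
  intro t x hx
  -- a point of `X'` over `x` and `t`
  have hxt : AlgSp.Points.map f x = AlgSp.Points.map ((AlgSp.yon S).map g)
      (AlgSp.Points.ofPt (𝟙 _) (O.ι t)) := by
    rw [hx, map_yon_map_ofPt_id]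
    rfl
  obtain ⟨x', -, hx'2⟩ := Groth.Agent.S10175.exists_point_of_isPullback sq' x _ hxt
  have hx'r : x' ∈ Set.range (AlgSp.Points.map j) := by
    by_contra hnot
    exact t.2 ⟨x', hnot, hx'2⟩
  obtain ⟨y, rfl⟩ := hx'r
  obtain ⟨w₁, rfl⟩ := exists_ofPt_id y
  rw [hjsnd] at hx'2
  have hw₁ : c₁.left w₁ = O.ι t := ofPt_id_injective hx'2
  have hw₁O : w₁ ∈ c₁.left ⁻¹ᵁ O := by
    change c₁.left w₁ ∈ O
    rw [hw₁]
    exact t.2
  refine ⟨⟨w₁, hw₁O⟩, ?_⟩
  apply O.ι.injective
  have h2 : O.ι ((c₁.left ∣_ O) ⟨w₁, hw₁O⟩) = c₁.left ((c₁.left ⁻¹ᵁ O).ι ⟨w₁, hw₁O⟩) := by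
    rw [← Scheme.Hom.comp_apply, ← Scheme.Hom.comp_apply, morphismRestrict_ι]
  exact h2.trans hw₁

/-- Étale locally on a scheme base, a universally closed unramified universally injective morphism is a closed
immersion. -/
theorem exists_etale_nhd_isClosedImmersion {X : AlgSp.Sp S} (hX : AlgSp.IsAlgSpace X) {V : Over S}
    (f : X ⟶ (AlgSp.yon S).obj V) (huc : AlgSp.IsUnivClosedMor f)
    (hun : AlgSp.LocP (@LocallyOfFiniteType ⊓ @FormallyUnramified) f)
    (hui : AlgSp.IsUnivInjectiveMor f) (v : ↥V.left) :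
    ∃ (V'' : Over S) (g : V'' ⟶ V) (v'' : ↥V''.left), Etale g.left ∧ g.left v'' = v ∧
      ∀ (P : AlgSp.Sp S) (fst : P ⟶ X) (snd : P ⟶ (AlgSp.yon S).obj V''),
        IsPullback fst snd f ((AlgSp.yon S).map g) → AlgSp.RepWith @IsClosedImmersion snd := by
  by_cases hv : ∃ x : AlgSp.Points X, AlgSp.Points.map f x = AlgSp.Points.ofPt (𝟙 _) v
  · exact exists_nhd_of_mem hX f huc hun hui v hv
  · exact exists_nhd_of_not_mem hX f huc hui v hv

/-- Universal injectivity is stable under base change. -/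
lemma isUnivInjectiveMor_baseChange {X Y X' Y' : AlgSp.Sp S} {f : X ⟶ Y} {g : Y' ⟶ Y}
    {fst : X' ⟶ X} {f' : X' ⟶ Y'} (sq : IsPullback fst f' f g)
    (hf : AlgSp.IsUnivInjectiveMor f) : AlgSp.IsUnivInjectiveMor f' := by
  intro Z Z' hZ z a b sqZ
  exact hf hZ (z ≫ g) (a ≫ fst) b (sqZ.paste_horiz sq)

/-- **A universally closed, unramified, universally injective morphism of algebraic spaces is a closed
immersion.** -/
theorem repWith_isClosedImmersion_of_univClosed_unramified_univInjective {X Y : AlgSp.Space S}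
    (f : X ⟶ Y) (huc : AlgSp.IsUnivClosedMor f.hom)
    (hun : AlgSp.LocP (@LocallyOfFiniteType ⊓ @FormallyUnramified) f.hom)
    (hui : AlgSp.IsUnivInjectiveMor f.hom) : AlgSp.RepWith @IsClosedImmersion f.hom := by
  obtain ⟨V, b, hbe, hbs⟩ := Y.property.atlas
  have hV : AlgSp.IsAlgSpace ((AlgSp.yon S).obj V) := AlgSp.IsAlgSpace.yon_obj V
  have sqV := IsPullback.of_hasPullback f.hom b
  have hXV : AlgSp.IsAlgSpace (pullback f.hom b) :=
    Groth.Agent.S9874.isAlgSpace_of_isPullback Y.property.diag X.property hV sqV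
  have huc' : AlgSp.IsUnivClosedMor (pullback.snd f.hom b) :=
    Groth.Agent.Lib.Helper12.Proper.isUnivClosedMor_baseChange sqV huc
  have hui' : AlgSp.IsUnivInjectiveMor (pullback.snd f.hom b) := isUnivInjectiveMor_baseChange sqV hui
  have hun' : AlgSp.LocP (@LocallyOfFiniteType ⊓ @FormallyUnramified) (pullback.snd f.hom b) :=
    Groth.Agent.S9984.result (@LocallyOfFiniteType ⊓ @FormallyUnramified)
      (Or.inr (Or.inr (Or.inr (Or.inr (Or.inr (Or.inr (fun _ _ _ => Iff.rfl)))))))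
      (X := X) (Y := Y) (Y' := ⟨(AlgSp.yon S).obj V, hV⟩) (X' := ⟨pullback f.hom b, hXV⟩)
      f (ObjectProperty.homMk b) (ObjectProperty.homMk (pullback.fst f.hom b))
      (ObjectProperty.homMk (pullback.snd f.hom b)) sqV hun
  choose V'' g v'' hg hgv hcl using
    exists_etale_nhd_isClosedImmersion hXV (pullback.snd f.hom b) huc' hun' hui'
  have hge : ∀ v, AlgSp.RepWith @Etale ((AlgSp.yon S).map (g v) ≫ b) := fun v =>
    haveI := hg v
    repWith_etale_comp (g v) b hbe
  have hgood := Groth.Agent.Lib.Helper12.LocPCases.good_flat.{u}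
  have hgood' := Groth.Agent.Lib.Helper12.LocPCases.good_lfp.{u}
  have hcov : AlgSp.IsFpqcCover (fun v : ↥V.left => (AlgSp.yon S).obj (V'' v))
      (fun v => (AlgSp.yon S).map (g v) ≫ b) := by
    refine Groth.Agent.S10505.result Y
      (fun v : ↥V.left => (⟨(AlgSp.yon S).obj (V'' v), AlgSp.IsAlgSpace.yon_obj _⟩ : AlgSp.Space S))
      (fun v => ObjectProperty.homMk ((AlgSp.yon S).map (g v) ≫ b)) ⟨fun v => ⟨?_, ?_⟩, ?_⟩
    · exact Groth.Agent.S9947.locP_of_repWith_etale _ hgood.hEt _ (hge v)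
    · exact Groth.Agent.S9947.locP_of_repWith_etale _ hgood'.hEt _ (hge v)
    · intro y
      obtain ⟨v, rfl⟩ := Groth.Agent.S10177.surjective_ofPt b hbs y
      refine ⟨v, AlgSp.Points.ofPt (𝟙 _) (v'' v), ?_⟩
      change AlgSp.Points.map ((AlgSp.yon S).map (g v) ≫ b) (AlgSp.Points.ofPt (𝟙 _) (v'' v)) = _
      rw [AlgSp.Points.map_comp, map_yon_map_ofPt_id, hgv, AlgSp.Points.map_ofPt, Category.id_comp]
  have hloc := Groth.Agent.S10534.result S
  have sqi : ∀ v, IsPullback (pullback.fst f.hom ((AlgSp.yon S).map (g v) ≫ b))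
      (pullback.snd f.hom ((AlgSp.yon S).map (g v) ≫ b)) f.hom ((AlgSp.yon S).map (g v) ≫ b) :=
    fun v => IsPullback.of_hasPullback _ _
  refine (hloc (fun v : ↥V.left => (AlgSp.yon S).obj (V'' v)) (fun v => (AlgSp.yon S).map (g v) ≫ b)
    Y.property (fun v => AlgSp.IsAlgSpace.yon_obj _) hcov f.hom X.property
    (fun v => pullback f.hom ((AlgSp.yon S).map (g v) ≫ b)) (fun v => pullback.snd _ _)
    (fun v => pullback.fst _ _) (fun v => ?_) sqi).2 (fun v => ?_)
  · exact Groth.Agent.S9874.isAlgSpace_of_isPullback Y.property.diag X.property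
      (AlgSp.IsAlgSpace.yon_obj _) (sqi v)
  · -- the square over `h_V`
    have hw : pullback.fst f.hom ((AlgSp.yon S).map (g v) ≫ b) ≫ f.hom =
        (pullback.snd f.hom ((AlgSp.yon S).map (g v) ≫ b) ≫ (AlgSp.yon S).map (g v)) ≫ b := by
      rw [Category.assoc]; exact pullback.condition
    obtain ⟨m, hm1, hm2⟩ : ∃ m : pullback f.hom ((AlgSp.yon S).map (g v) ≫ b) ⟶ pullback f.hom b,
        m ≫ pullback.fst f.hom b = pullback.fst f.hom ((AlgSp.yon S).map (g v) ≫ b) ∧
          m ≫ pullback.snd f.hom b =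
            pullback.snd f.hom ((AlgSp.yon S).map (g v) ≫ b) ≫ (AlgSp.yon S).map (g v) :=
      ⟨pullback.lift _ _ hw, pullback.lift_fst _ _ _, pullback.lift_snd _ _ _⟩
    have sqm : IsPullback m (pullback.snd f.hom ((AlgSp.yon S).map (g v) ≫ b))
        (pullback.snd f.hom b) ((AlgSp.yon S).map (g v)) := by
      refine IsPullback.of_right ?_ hm2 sqV
      rw [hm1]
      exact sqi v
    exact hcl v _ m _ sqm

/-- A monomorphism of algebraic spaces is universally injective. -/
lemma isUnivInjectiveMor_of_mono {X Y : AlgSp.Space S} (f : X ⟶ Y) [Mono f.hom] :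
    AlgSp.IsUnivInjectiveMor f.hom := by
  rw [← (Groth.Agent.S9938.result f).1]
  intro K _ str a b hab
  exact (cancel_mono f.hom).1 hab

/-- A closed immersion of algebraic spaces is a monomorphism. -/
lemma mono_of_isClosedImmersion {F G : AlgSp.Sp S} (f : F ⟶ G)
    (hf : AlgSp.RepWith @IsClosedImmersion f) : Mono f :=
  Groth.Agent.S9928.mono_of_repWith @IsClosedImmersion
    (fun _ _ g hg => by haveI : IsClosedImmersion g := hg; infer_instance) f hf

/-- A closed immersion of algebraic spaces is unramified. -/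
lemma locP_unramified_of_isClosedImmersion {X Y : AlgSp.Space S} (f : X ⟶ Y)
    (hf : AlgSp.RepWith @IsClosedImmersion f.hom) :
    AlgSp.LocP (@LocallyOfFiniteType ⊓ @FormallyUnramified) f.hom := by
  rw [Groth.Agent.S9948.result (@LocallyOfFiniteType ⊓ @FormallyUnramified)
    (Or.inr (Or.inr (Or.inr (Or.inr (Or.inr (Or.inr (fun _ _ _ => Iff.rfl))))))) f hf.1]
  refine repWith_mono (fun g hg => ?_) hf
  haveI : IsClosedImmersion g := hg
  exact ⟨inferInstance, inferInstance⟩

/-- A closed immersion of algebraic spaces is universally injective. -/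
lemma isUnivInjectiveMor_of_isClosedImmersion {X Y : AlgSp.Space S} (f : X ⟶ Y)
    (hf : AlgSp.RepWith @IsClosedImmersion f.hom) : AlgSp.IsUnivInjectiveMor f.hom := by
  haveI := mono_of_isClosedImmersion f.hom hf
  exact isUnivInjectiveMor_of_mono f

end Groth.Agent.Lib.Seat45.ClosedImm
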