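import Mathlib

/-!
# Finitely many codimension zero points of a quasi-separated scheme lie in an affine open (seat 45)
-/

set_option autoImplicit false
set_option linter.style.haveILetI false
universe u
open CategoryTheory AlgebraicGeometry TopologicalSpace Opposite
open scoped Classical

namespace Groth.Agent.Lib.Seat45.CodimZeroAffine

variable {X : Scheme.{u}}

/-- a section not invertible at a codimension zero point vanishes (up to a power) near it. -/
lemma exists_nhd_inf_basicOpen_eq_bot (η : X) (hη : ringKrullDim (X.presheaf.stalk η) = 0)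
    {V₀ : X.Opens} (hηV : η ∈ V₀) (f : Γ(X, V₀)) (hf : η ∉ X.basicOpen f) :
    ∃ N : X.Opens, η ∈ N ∧ N ≤ V₀ ∧ N ⊓ X.basicOpen f = ⊥ := by
  haveI : Ring.KrullDimLE 0 (X.presheaf.stalk η) := Ring.krullDimLE_iff.2 (by rw [hη]; rfl)
  have hnu : ¬ IsUnit (X.presheaf.germ V₀ η hηV f) := fun h => hf ((X.mem_basicOpen f η hηV).2 h)
  have hnil : IsNilpotent (X.presheaf.germ V₀ η hηV f) :=
    Ring.KrullDimLE.isNilpotent_iff_mem_nonunits.2 hnu
  obtain ⟨n, hn⟩ := hnil
  have hn0 : 0 < n := by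
    rcases Nat.eq_zero_or_pos n with h | h
    · subst h
      rw [pow_zero] at hn
      exact absurd hn one_ne_zero
    · exact h
  have hg : X.presheaf.germ V₀ η hηV (f ^ n) = X.presheaf.germ V₀ η hηV 0 := by
    rw [map_pow, hn, map_zero]
  obtain ⟨N, hηN, iU, iV, e⟩ := X.presheaf.germ_eq η hηV hηV (f ^ n) 0 hg
  refine ⟨N, hηN, iU.le, ?_⟩
  have e' : X.presheaf.map iU.op (f ^ n) = 0 := by rw [e, map_zero]
  have h1 : X.basicOpen (X.presheaf.map iU.op (f ^ n)) = N ⊓ X.basicOpen (f ^ n) :=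
    X.basicOpen_res (f ^ n) iU.op
  rw [e', X.basicOpen_zero, X.basicOpen_pow f hn0] at h1
  exact h1.symm

/-- a codimension zero point outside a quasi-compact open has an affine open neighbourhood
disjoint from it. -/
lemma exists_affineOpen_disjoint [QuasiSeparatedSpace X] (η : X)
    (hη : ringKrullDim (X.presheaf.stalk η) = 0) (Q : X.Opens) (hQ : IsCompact (Q : Set X))
    (hηQ : η ∉ Q) : ∃ V : X.Opens, IsAffineOpen V ∧ η ∈ V ∧ Disjoint V Q := by
  obtain ⟨_, ⟨V₀, hV₀, rfl⟩, hη₀, -⟩ := X.isBasis_affineOpens.exists_subset_of_mem_open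
    (Set.mem_univ η) isOpen_univ
  have hK : IsCompact ((V₀ : Set X) ∩ (Q : Set X)) :=
    QuasiSeparatedSpace.inter_isCompact _ _ V₀.isOpen hV₀.isCompact Q.isOpen hQ
  have hex : ∀ q : X, q ∈ (V₀ : Set X) ∩ (Q : Set X) →
      ∃ f : Γ(X, V₀), X.basicOpen f ≤ V₀ ⊓ Q ∧ q ∈ X.basicOpen f := by
    intro q hq
    exact hV₀.exists_basicOpen_le (V := V₀ ⊓ Q) ⟨q, hq⟩ hq.1
  choose! f hfle hfq using hex
  obtain ⟨t, ht⟩ := hK.elim_nhds_subcover' (fun q _ => (X.basicOpen (f q) : Set X))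
    (fun q hq => (X.basicOpen (f q)).isOpen.mem_nhds (hfq q hq))
  have hN : ∀ q : ↥((V₀ : Set X) ∩ (Q : Set X)),
      ∃ N : X.Opens, η ∈ N ∧ N ≤ V₀ ∧ N ⊓ X.basicOpen (f q) = ⊥ := by
    intro q
    refine exists_nhd_inf_basicOpen_eq_bot η hη hη₀ (f q) (fun h => hηQ ?_)
    exact (hfle q q.2 h).2
  choose N hηN hNV hNf using hN
  let N₀ : X.Opens := V₀ ⊓ t.inf N
  have hηN₀ : η ∈ N₀ := by
    refine ⟨hη₀, ?_⟩
    have : ∀ s : Finset ↥((V₀ : Set X) ∩ (Q : Set X)), η ∈ s.inf N := by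
      intro s
      induction s using Finset.induction_on with
      | empty => simp
      | insert a s _ ih =>
        rw [Finset.inf_insert]
        exact ⟨hηN a, ih⟩
    exact this t
  obtain ⟨_, ⟨V, hV, rfl⟩, hηV, hVN⟩ := X.isBasis_affineOpens.exists_subset_of_mem_open
    hηN₀ N₀.isOpen
  refine ⟨V, hV, hηV, ?_⟩
  rw [← Opens.coe_disjoint, Set.disjoint_left]
  intro y hyV hyQ
  have hyN₀ : y ∈ N₀ := hVN hyV
  have hyK : y ∈ (V₀ : Set X) ∩ (Q : Set X) := ⟨hyN₀.1, hyQ⟩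
  obtain ⟨q, hqt, hyq⟩ := Set.mem_iUnion₂.1 (ht hyK)
  have hyNq : y ∈ N q := (Finset.inf_le hqt : t.inf N ≤ N q) hyN₀.2
  have : y ∈ N q ⊓ X.basicOpen (f q) := ⟨hyNq, hyq⟩
  rw [hNf q] at this
  exact this

/-- **finitely many codimension zero points of a quasi-separated scheme lie in a common affine
open.** -/
theorem exists_affineOpen_of_finite [QuasiSeparatedSpace X] (F : Set X) (hF : F.Finite)
    (h0 : ∀ η ∈ F, ringKrullDim (X.presheaf.stalk η) = 0) :
    ∃ V : X.Opens, IsAffineOpen V ∧ F ⊆ (V : Set X) := by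
  induction F, hF using Set.Finite.induction_on with
  | empty => exact ⟨⊥, isAffineOpen_bot X, Set.empty_subset _⟩
  | @insert η F' _ _ ih =>
    obtain ⟨V', hV', hFV'⟩ := ih (fun x hx => h0 x (Set.mem_insert_of_mem _ hx))
    by_cases hηV' : η ∈ V'
    · exact ⟨V', hV', Set.insert_subset hηV' hFV'⟩
    · obtain ⟨V, hV, hηV, hdisj⟩ := exists_affineOpen_disjoint η (h0 η (Set.mem_insert _ _)) V'
        hV'.isCompact hηV'
      refine ⟨V ⊔ V', hV.sup_of_disjoint hV' hdisj, Set.insert_subset (Or.inl hηV) ?_⟩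
      exact fun x hx => Or.inr (hFV' hx)

end Groth.Agent.Lib.Seat45.CodimZeroAffine
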