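import Mathlib
import Groth.Agent.Lib.Seat45EtDim

/-!
# The tower of "`n` distinct points in the fibre" schemes of an étale separated morphism (seat 45)

For an étale separated morphism `s : R ⟶ U` of schemes we build, by recursion on `n`, an étale `U`-scheme
`W_n` with `n` morphisms `q_i : W_n ⟶ R` over `U` that are pairwise distinct on every nonempty scheme over
`W_n` (the complement of the diagonals in the `n`-fold fibre power of `R` over `U`).  The images `U_n ⊆ U`
of `W_n` are open and decreasing in `n`.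

* `Lvl.exists_next`: a point of `W_n` over `y` and a point of the fibre `s⁻¹(y)` not among the `q_i` give a point
  of `W_{n+1}` over `y`.
* `isCompact_preimage`: for a quasi-compact open `V ⊆ U_n` disjoint from `U_{n+1}`, `s⁻¹(V)` is quasi-compact.
* `exists_bound`: if the fibre of `s` over `y` is finite over `κ(y)`, then `y ∉ U_n` for `n` large.
-/

set_option autoImplicit false
set_option linter.style.haveILetI false
universe u

open CategoryTheory CategoryTheory.Limits AlgebraicGeometry Topology TopologicalSpace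

namespace Groth.Agent.Lib.Seat45.DegTower

variable {R U : Scheme.{u}} (s : R ⟶ U)

/-- The data at level `n`: an étale `U`-scheme `W` with `n` pairwise (universally) distinct `U`-morphisms to
`R`. -/
structure Lvl (n : ℕ) where
  /-- the scheme -/
  W : Scheme.{u}
  /-- the structure map -/
  π : W ⟶ U
  /-- the `n` maps to `R` -/
  q : Fin n → (W ⟶ R)
  hq : ∀ i, q i ≫ s = π
  etale : Etale π
  distinct : ∀ (Z : Scheme.{u}) [Nonempty ↥Z] (z : Z ⟶ W) (i j : Fin n), i ≠ j → z ≫ q i ≠ z ≫ q j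

namespace Lvl

/-- level `0`. -/
def base : Lvl s 0 where
  W := U
  π := 𝟙 U
  q := Fin.elim0
  hq i := i.elim0
  etale := inferInstance
  distinct _ _ _ i := i.elim0

variable {s} {n : ℕ} (L : Lvl s n)

/-- the `i`-th section of `R ×_U W ⟶ W`. -/
noncomputable def sec (i : Fin n) : L.W ⟶ pullback s L.π :=
  pullback.lift (L.q i) (𝟙 _) (by rw [L.hq, Category.id_comp])

@[reassoc (attr := simp)]
lemma sec_fst (i : Fin n) : L.sec i ≫ pullback.fst s L.π = L.q i := pullback.lift_fst _ _ _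

@[reassoc (attr := simp)]
lemma sec_snd (i : Fin n) : L.sec i ≫ pullback.snd s L.π = 𝟙 _ := pullback.lift_snd _ _ _

lemma isClosed_range_sec [IsSeparated s] (i : Fin n) : IsClosed (Set.range (L.sec i)) := by
  haveI : IsClosedImmersion (L.sec i ≫ pullback.snd s L.π) := by rw [sec_snd]; infer_instance
  haveI : IsClosedImmersion (L.sec i) := IsClosedImmersion.of_comp (L.sec i) (pullback.snd s L.π)
  exact (L.sec i).isClosedEmbedding.isClosed_range

/-- the open complement of the sections. -/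
noncomputable def O [IsSeparated s] : (pullback s L.π).Opens :=
  ⟨(⋃ i, Set.range (L.sec i))ᶜ, (isClosed_iUnion_of_finite fun i => L.isClosed_range_sec i).isOpen_compl⟩

lemma mem_O_iff [IsSeparated s] (p : ↥(pullback s L.π)) : p ∈ L.O ↔ ∀ i, p ∉ Set.range (L.sec i) := by
  change p ∈ (⋃ i, Set.range (L.sec i))ᶜ ↔ _
  simp

/-- the next level. -/
noncomputable def next [Etale s] [IsSeparated s] : Lvl s (n + 1) where
  W := L.O
  π := L.O.ι ≫ pullback.snd s L.π ≫ L.π
  q := Fin.cons (L.O.ι ≫ pullback.fst s L.π) (fun i => L.O.ι ≫ pullback.snd s L.π ≫ L.q i)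
  hq := by
    refine Fin.cases ?_ (fun i => ?_)
    · simp [pullback.condition]
    · simp [L.hq]
  etale := by haveI := L.etale; infer_instance
  distinct Z _ z := by
    have key : ∀ j : Fin n, z ≫ L.O.ι ≫ pullback.fst s L.π ≠ z ≫ L.O.ι ≫ pullback.snd s L.π ≫ L.q j := by
      intro j h
      have h2 : z ≫ L.O.ι = (z ≫ L.O.ι ≫ pullback.snd s L.π) ≫ L.sec j := by
        apply pullback.hom_ext
        · simp only [Category.assoc, sec_fst]; exact h
        · simp only [Category.assoc, sec_snd, Category.comp_id]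
      obtain ⟨pt⟩ := ‹Nonempty ↥Z›
      have h3 : (z ≫ L.O.ι) pt ∈ L.O := by
        rw [Scheme.Hom.comp_apply]
        exact (z pt).2
      rw [h2, mem_O_iff] at h3
      exact h3 j ⟨(z ≫ L.O.ι ≫ pullback.snd s L.π) pt, (Scheme.Hom.comp_apply _ _ _).symm⟩
    refine Fin.cases ?_ (fun i => ?_)
    · refine Fin.cases (fun h => absurd rfl h) (fun j _ => ?_)
      simpa using key j
    · refine Fin.cases (fun _ => ?_) (fun j hij => ?_)
      · simpa using (key i).symm
      · have hij' : i ≠ j := fun h => hij (by rw [h])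
        have := L.distinct Z (z ≫ L.O.ι ≫ pullback.snd s L.π) i j hij'
        simpa using this

variable [Etale s] [IsSeparated s]

lemma next_π : L.next.π = L.O.ι ≫ pullback.snd s L.π ≫ L.π := rfl

/-- a point of `W` over `y` and a point of `R` over `y` not among the `q i` give a point of the next level over
`y`. -/
lemma exists_next (z : ↥L.W) (w : ↥R) (h : s w = L.π z) (hne : ∀ i, L.q i z ≠ w) :
    ∃ z' : ↥L.next.W, L.next.π z' = L.π z := by
  obtain ⟨p, hp1, hp2⟩ := Scheme.Pullback.exists_preimage_pullback w z h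
  have hpO : p ∈ L.O := by
    rw [mem_O_iff]
    rintro i ⟨z'', rfl⟩
    have e1 : z'' = z := by
      rw [← hp2, ← Scheme.Hom.comp_apply, sec_snd]; rfl
    apply hne i
    rw [← hp1, ← Scheme.Hom.comp_apply, sec_fst, e1]
  refine ⟨(⟨p, hpO⟩ : ↥(L.O : Scheme.{u})), ?_⟩
  change L.π (pullback.snd s L.π p) = _
  rw [hp2]

end Lvl

variable [Etale s] [IsSeparated s]

/-- the tower. -/
noncomputable def lvl : (n : ℕ) → Lvl s n
  | 0 => Lvl.base s
  | n + 1 => (lvl n).next

lemma lvl_succ (n : ℕ) : lvl s (n + 1) = (lvl s n).next := rfl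

/-- the open image of level `n`. -/
noncomputable def Uopen (n : ℕ) : U.Opens :=
  ⟨Set.range (lvl s n).π, by haveI := (lvl s n).etale; exact (lvl s n).π.isOpenMap.isOpen_range⟩

lemma mem_Uopen_iff (n : ℕ) (y : ↥U) : y ∈ Uopen s n ↔ ∃ z : ↥(lvl s n).W, (lvl s n).π z = y := Iff.rfl

lemma Uopen_zero : Uopen s 0 = ⊤ := by
  ext y
  simp only [mem_Uopen_iff, Opens.coe_top, Set.mem_univ, iff_true, SetLike.mem_coe]
  exact ⟨y, rfl⟩

/-- For a quasi-compact open `V ⊆ U_n` disjoint from `U_{n+1}`, the preimage `s⁻¹(V)` is quasi-compact. -/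
theorem isCompact_preimage (n : ℕ) (V : U.Opens) (hVc : IsCompact (V : Set ↥U)) (hV1 : V ≤ Uopen s n)
    (hV2 : Disjoint V (Uopen s (n + 1))) : IsCompact (s ⁻¹' (V : Set ↥U)) := by
  set L := lvl s n with hL
  -- choose for every `v ∈ V` a point over it and an affine open around that point inside `π⁻¹ V`
  have hch : ∀ v : ↥U, v ∈ V → ∃ A : L.W.Opens, IsCompact (A : Set ↥L.W) ∧ A ≤ L.π ⁻¹ᵁ V ∧
      v ∈ L.π '' (A : Set ↥L.W) := by
    intro v hv
    obtain ⟨z, rfl⟩ := hV1 hv
    obtain ⟨_, ⟨A, hA, rfl⟩, hzA, hAV⟩ := L.W.isBasis_affineOpens.exists_subset_of_mem_open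
      (show z ∈ ((L.π ⁻¹ᵁ V : L.W.Opens) : Set ↥L.W) from hv) (L.π ⁻¹ᵁ V).isOpen
    exact ⟨A, hA.isCompact, hAV, z, hzA, rfl⟩
  choose! A hAc hAV hvA using hch
  haveI := L.etale
  obtain ⟨t, ht⟩ := hVc.elim_nhds_subcover' (fun v _ => L.π '' (A v : Set ↥L.W))
    (fun v hv => (L.π.isOpenMap _ (A v).isOpen).mem_nhds (hvA v hv))
  set K : Set ↥L.W := ⋃ v ∈ t, (A (v : ↥U) : Set ↥L.W) with hK
  have hKc : IsCompact K := t.isCompact_biUnion fun v _ => hAc v v.2
  have hKV : ∀ z ∈ K, L.π z ∈ V := by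
    intro z hz
    simp only [hK, Set.mem_iUnion] at hz
    obtain ⟨v, _, hzv⟩ := hz
    exact hAV v v.2 hzv
  have hcov : ∀ y ∈ V, ∃ z ∈ K, L.π z = y := by
    intro y hy
    have := ht hy
    simp only [Set.mem_iUnion] at this
    obtain ⟨v, hvt, z, hz, rfl⟩ := this
    exact ⟨z, Set.mem_biUnion hvt hz, rfl⟩
  have heq : s ⁻¹' (V : Set ↥U) = ⋃ i, (L.q i) '' K := by
    ext w
    simp only [Set.mem_preimage, SetLike.mem_coe, Set.mem_iUnion, Set.mem_image]
    constructor
    · intro hw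
      obtain ⟨z, hzK, hz⟩ := hcov _ hw
      by_contra hcon
      push Not at hcon
      obtain ⟨z', hz'⟩ := L.exists_next z w hz.symm (fun i h => hcon i z hzK h)
      refine Set.disjoint_left.1 (Opens.coe_disjoint.2 hV2) hw ?_
      rw [SetLike.mem_coe, mem_Uopen_iff]
      exact ⟨z', by rw [← hz]; exact hz'⟩
    · rintro ⟨i, z, hzK, rfl⟩
      rw [← Scheme.Hom.comp_apply, L.hq]
      exact hKV z hzK
  rw [heq]
  exact isCompact_iUnion fun i => hKc.image (L.q i).continuous

/-- For a scheme `F` finite over a field `κ` there is a bound on the number of pairwise distinct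
`κ`-morphisms from the spectrum of a field to `F`. -/
theorem card_le_of_isFinite {F : Scheme.{u}} {κ : CommRingCat.{u}} (hκ : IsField κ) (g : F ⟶ Spec κ)
    [IsFinite g] :
    ∃ d : ℕ, ∀ (L : CommRingCat.{u}) (_ : IsField L) (c : Spec L ⟶ Spec κ) (n : ℕ)
      (φ : Fin n → (Spec L ⟶ F)), (∀ i, φ i ≫ g = c) → Function.Injective φ → n ≤ d := by
  letI : Field κ := hκ.toField
  haveI : IsAffine F := isAffine_of_isAffineHom g
  let ιA : κ ⟶ Γ(F, ⊤) := (Scheme.ΓSpecIso κ).inv ≫ g.appTop
  letI : Algebra κ Γ(F, ⊤) := ιA.hom.toAlgebra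
  have hfin : Module.Finite κ Γ(F, ⊤) := by
    have h1 : g.appTop.hom.Finite := ((HasAffineProperty.iff_of_isAffine (P := @IsFinite)).1 ‹_›).2
    have h2 : (Scheme.ΓSpecIso κ).inv.hom.Finite :=
      RingHom.Finite.of_surjective _ (ConcreteCategory.bijective_of_isIso (Scheme.ΓSpecIso κ).inv).2
    exact (h1.comp h2 : (g.appTop.hom.comp (Scheme.ΓSpecIso κ).inv.hom).Finite)
  refine ⟨Module.finrank κ Γ(F, ⊤), fun L hL c n φ hφ hinj => ?_⟩
  letI : Field L := hL.toField
  let cL : κ ⟶ L := (Scheme.ΓSpecIso κ).inv ≫ c.appTop ≫ (Scheme.ΓSpecIso L).hom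
  letI : Algebra κ L := cL.hom.toAlgebra
  let ψ : Fin n → (Γ(F, ⊤) ⟶ L) := fun i => (φ i).appTop ≫ (Scheme.ΓSpecIso L).hom
  have hψ : ∀ i, ιA ≫ ψ i = cL := by
    intro i
    simp only [ιA, ψ, cL, Category.assoc]
    rw [← Scheme.Hom.comp_appTop_assoc, hφ]
  let ψa : Fin n → (Γ(F, ⊤) →ₐ[κ] L) := fun i =>
    { toRingHom := (ψ i).hom
      commutes' := fun r => congr($(hψ i).hom r) }
  have hψinj : Function.Injective ψa := by
    intro i j hij
    apply hinj
    apply ext_of_isAffine
    have h1 : (ψ i).hom = (ψ j).hom := congrArg (fun f : Γ(F, ⊤) →ₐ[κ] L => f.toRingHom) hij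
    have h2 : ψ i = ψ j := CommRingCat.hom_ext h1
    exact (cancel_mono (Scheme.ΓSpecIso L).hom).1 h2
  calc n = Nat.card (Fin n) := (Nat.card_fin n).symm
    _ ≤ Nat.card (Γ(F, ⊤) →ₐ[κ] L) := Nat.card_le_card_of_injective ψa hψinj
    _ ≤ Module.finrank κ Γ(F, ⊤) := card_algHom_le_finrank κ _ L

/-- If the fibre of `s` over `y` is finite over `κ(y)`, the levels with a point over `y` are bounded. -/
theorem exists_bound (y : ↥U) [IsFinite (pullback.snd s (U.fromSpecResidueField y))] :
    ∃ d : ℕ, ∀ (n : ℕ) (L : Lvl s n) (z : ↥L.W), L.π z = y → n ≤ d := by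
  obtain ⟨d, hd⟩ := card_le_of_isFinite (κ := U.residueField y) (Field.toIsField _)
    (pullback.snd s (U.fromSpecResidueField y))
  refine ⟨d, fun n L z hz => ?_⟩
  subst hz
  let ζ := L.W.fromSpecResidueField z
  let ρ := L.π.residueFieldMap z
  have hρ : Spec.map ρ ≫ U.fromSpecResidueField (L.π z) = ζ ≫ L.π :=
    Scheme.Hom.SpecMap_residueFieldMap_fromSpecResidueField L.π z
  let φ : Fin n → (Spec (L.W.residueField z) ⟶ pullback s (U.fromSpecResidueField (L.π z))) := fun i =>
    pullback.lift (ζ ≫ L.q i) (Spec.map ρ) (by rw [Category.assoc, L.hq, hρ])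
  refine hd (L.W.residueField z) (Field.toIsField _) (Spec.map ρ) n φ (fun i => pullback.lift_snd _ _ _) ?_
  intro i j hij
  by_contra hne
  refine L.distinct _ ζ i j hne ?_
  have := congr($hij ≫ pullback.fst _ _)
  dsimp only [φ] at this
  rwa [pullback.lift_fst, pullback.lift_fst] at this

/-- If the fibre of `s` over `y` is finite over `κ(y)`, then `y ∉ U_n` for some `n`. -/
theorem exists_not_mem_Uopen (y : ↥U) [IsFinite (pullback.snd s (U.fromSpecResidueField y))] :
    ∃ n : ℕ, y ∉ Uopen s n := by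
  obtain ⟨d, hd⟩ := exists_bound s y
  refine ⟨d + 1, fun hy => ?_⟩
  obtain ⟨z, hz⟩ := (mem_Uopen_iff s _ y).1 hy
  exact absurd (hd _ _ z hz) (by omega)

end Groth.Agent.Lib.Seat45.DegTower
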