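import Mathlib
import Groth.Agent.Lib.Helper14IrrComp

/-!
# Schemes with locally finitely many irreducible components (seat 45)

* `MaxPt`: points without proper generizations; `finite_irreducibleComponents_iff`: for a sober space the set of
  irreducible components is finite iff the set of maximal points is.
* `LocFinIrr U`: every quasi-compact open of the scheme `U` has finitely many irreducible components;
  `locFinIrr_iff`: in terms of maximal points of `U`.
* `locFinIrr_of_flat_lft`: passes to the source of a flat morphism locally of finite type.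
* `locFinIrr_of_isOpenMap_surjective`: descends along a surjective open morphism.
-/

set_option autoImplicit false
set_option linter.style.haveILetI false
universe u

open CategoryTheory AlgebraicGeometry TopologicalSpace

namespace Groth.Agent.Lib.Seat45.LocFinIrr

section Top

variable {α β : Type*} [TopologicalSpace α] [TopologicalSpace β]

/-- A maximal point: a point without proper generizations. -/
def MaxPt (y : α) : Prop := ∀ y' : α, y' ⤳ y → y' = y

lemma MaxPt.map_of_generalizingMap {f : α → β} (hf : GeneralizingMap f) {w : α} (hw : MaxPt w) :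
    MaxPt (f w) := by
  intro y' hy'
  obtain ⟨w', hw', rfl⟩ := hf hy'
  rw [hw w' hw']

/-- In a sober space every point has a maximal generization. -/
lemma exists_maxPt_specializes [QuasiSober α] [T0Space α] (x : α) : ∃ y : α, MaxPt y ∧ y ⤳ x := by
  have hM : irreducibleComponent x ∈ irreducibleComponents α := irreducibleComponent_mem_irreducibleComponents x
  obtain ⟨η, hη⟩ := Groth.Agent.Lib.Helper14.exists_closure_eq_of_mem_irreducibleComponents hM
  refine ⟨η, ?_, ?_⟩
  · rw [MaxPt, ← Groth.Agent.Lib.Helper14.closure_mem_irreducibleComponents_iff, hη]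
    exact hM
  · rw [specializes_iff_mem_closure, hη]
    exact mem_irreducibleComponent

/-- For a sober space: finitely many irreducible components iff finitely many maximal points. -/
theorem finite_irreducibleComponents_iff [QuasiSober α] [T0Space α] :
    (irreducibleComponents α).Finite ↔ {y : α | MaxPt y}.Finite := by
  have hbij : Set.BijOn (fun y : α => closure ({y} : Set α)) {y : α | MaxPt y} (irreducibleComponents α) := by
    refine ⟨?_, ?_, ?_⟩
    · intro y hy
      exact (Groth.Agent.Lib.Helper14.closure_mem_irreducibleComponents_iff y).2 hy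
    · intro y _ y' _ h
      have h1 : y ⤳ y' := specializes_iff_closure_subset.2 (le_of_eq h.symm)
      have h2 : y' ⤳ y := specializes_iff_closure_subset.2 (le_of_eq h)
      exact (h1.antisymm h2).eq
    · intro Z hZ
      obtain ⟨η, hη⟩ := Groth.Agent.Lib.Helper14.exists_closure_eq_of_mem_irreducibleComponents hZ
      refine ⟨η, ?_, hη⟩
      show MaxPt η
      rw [MaxPt, ← Groth.Agent.Lib.Helper14.closure_mem_irreducibleComponents_iff, hη]
      exact hZ
  exact hbij.finite_iff_finite.symm

/-- Maximal points of an open subspace are the maximal points of the space lying in it. -/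
lemma maxPt_subtype_iff {s : Set α} (hs : IsOpen s) (w : s) : MaxPt w ↔ MaxPt (w : α) := by
  constructor
  · intro h y' hy'
    have hy's : y' ∈ s := hy'.mem_open hs w.2
    have := h ⟨y', hy's⟩ ((subtype_specializes_iff _ _).2 hy')
    exact congrArg Subtype.val this
  · intro h w' hw'
    exact Subtype.ext (h _ ((subtype_specializes_iff _ _).1 hw'))

end Top

section Sch

/-- Every quasi-compact open of `U` has finitely many irreducible components. -/
def LocFinIrr (U : Scheme.{u}) : Prop :=
  ∀ W : U.Opens, IsCompact (W : Set ↥U) → (irreducibleComponents ↥W).Finite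

theorem locFinIrr_iff (U : Scheme.{u}) :
    LocFinIrr U ↔ ∀ W : U.Opens, IsCompact (W : Set ↥U) → {u : ↥U | u ∈ W ∧ MaxPt u}.Finite := by
  refine forall_congr' fun W => imp_congr_right fun _ => ?_
  have h1 : (irreducibleComponents ↥W).Finite ↔ {w : ↥W | MaxPt w}.Finite :=
    finite_irreducibleComponents_iff (α := W.toScheme)
  rw [h1]
  have h2 : {u : ↥U | u ∈ W ∧ MaxPt u} = Subtype.val '' {w : ↥W | MaxPt w} := by
    ext u
    constructor
    · rintro ⟨huW, hu⟩
      exact ⟨⟨u, huW⟩, (maxPt_subtype_iff W.isOpen ⟨u, huW⟩).2 hu, rfl⟩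
    · rintro ⟨w, hw, rfl⟩
      exact ⟨w.2, (maxPt_subtype_iff W.isOpen w).1 hw⟩
  rw [h2]
  exact (Set.finite_image_iff Subtype.val_injective.injOn).symm

/-- `LocFinIrr` descends along surjective open morphisms. -/
theorem locFinIrr_of_isOpenMap_surjective {U V : Scheme.{u}} (h : U ⟶ V) (hopen : IsOpenMap h)
    (hsurj : Function.Surjective h) (hU : LocFinIrr U) : LocFinIrr V := by
  rw [locFinIrr_iff] at hU ⊢
  intro W hW
  have key : ∀ v ∈ (W : Set ↥V), ∃ O : U.Opens, IsAffineOpen O ∧ (O : Set ↥U) ⊆ h ⁻¹' (W : Set ↥V) ∧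
      v ∈ h '' (O : Set ↥U) := by
    intro v hv
    obtain ⟨x, rfl⟩ := hsurj v
    obtain ⟨O, hO, huO, hOW⟩ := exists_isAffineOpen_mem_and_subset (U := h ⁻¹ᵁ W) (x := x) hv
    exact ⟨O, hO, hOW, x, huO, rfl⟩
  choose O hOaff hOW hvO using key
  obtain ⟨t, ht⟩ := hW.elim_nhds_subcover' (fun v hv => h '' (O v hv : Set ↥U))
    (fun v hv => (hopen _ (O v hv).isOpen).mem_nhds (hvO v hv))
  let Ot : U.Opens := ⨆ x ∈ t, O x.1 x.2
  have hOtcoe : (Ot : Set ↥U) = ⋃ x ∈ t, (O x.1 x.2 : Set ↥U) := by simp [Ot]
  have hOt : IsCompact (Ot : Set ↥U) := by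
    rw [hOtcoe]
    exact t.finite_toSet.isCompact_biUnion (fun x _ => (hOaff x.1 x.2).isCompact)
  refine ((hU Ot hOt).image h).subset ?_
  rintro v ⟨hvW, hv⟩
  obtain ⟨o, ho, rfl⟩ : v ∈ h '' (Ot : Set ↥U) := by
    have := ht hvW
    simp only [Set.mem_iUnion] at this
    obtain ⟨x, hx, o, ho, rfl⟩ := this
    refine ⟨o, ?_, rfl⟩
    rw [hOtcoe]
    simp only [Set.mem_iUnion]
    exact ⟨x, hx, ho⟩
  obtain ⟨y, hy, hyo⟩ := exists_maxPt_specializes o
  have hyO : y ∈ Ot := hyo.mem_open Ot.isOpen ho
  exact ⟨y, ⟨hyO, hy⟩, hv _ (hyo.map h.continuous)⟩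

/-- The maximal points of a Noetherian scheme are finite in number. -/
lemma finite_maxPt_of_isNoetherian (F : Scheme.{u}) [IsNoetherian F] : {z : ↥F | MaxPt z}.Finite := by
  rw [← finite_irreducibleComponents_iff]
  haveI : NoetherianSpace F := IsNoetherian.noetherianSpace
  exact NoetherianSpace.finite_irreducibleComponents

/-- Affine-local form: for a flat morphism of finite type between affine schemes whose target has finitely many
maximal points, the source has finitely many maximal points. -/
lemma finite_maxPt_of_flat_of_isAffine {A B : Scheme.{u}} [IsAffine A] [IsAffine B] (g : A ⟶ B) [Flat g]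
    [LocallyOfFiniteType g] (hB : {b : ↥B | MaxPt b}.Finite) : {a : ↥A | MaxPt a}.Finite := by
  have hfib : ∀ η : ↥B, {z : ↥(g.fiber η) | MaxPt z}.Finite := by
    intro η
    haveI : LocallyOfFiniteType (g.fiberToSpecResidueField η) :=
      inferInstanceAs (LocallyOfFiniteType (Limits.pullback.snd g (B.fromSpecResidueField η)))
    haveI : IsLocallyNoetherian (g.fiber η) :=
      LocallyOfFiniteType.isLocallyNoetherian (g.fiberToSpecResidueField η)
    haveI : IsNoetherian (g.fiber η) := {}
    exact finite_maxPt_of_isNoetherian _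
  have hfin : (⋃ η ∈ {b : ↥B | MaxPt b}, (g.fiberι η) '' {z : ↥(g.fiber η) | MaxPt z}).Finite :=
    hB.biUnion (fun η _ => (hfib η).image _)
  refine hfin.subset ?_
  intro a ha
  simp only [Set.mem_iUnion]
  refine ⟨g a, ha.map_of_generalizingMap (Flat.generalizingMap g), g.asFiber a, ?_, g.fiberι_asFiber a⟩
  intro z' hz'
  have h1 : g.fiberι (g a) z' ⤳ g.fiberι (g a) (g.asFiber a) := hz'.map (g.fiberι (g a)).continuous
  rw [g.fiberι_asFiber a] at h1
  have h2 := ha _ h1
  apply (g.fiberι (g a)).isEmbedding.injective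
  rw [h2, g.fiberι_asFiber a]

/-- `LocFinIrr` passes to the source of a flat morphism locally of finite type. -/
theorem locFinIrr_of_flat_lft {U V : Scheme.{u}} (h : U ⟶ V) [Flat h] [LocallyOfFiniteType h]
    (hV : LocFinIrr V) : LocFinIrr U := by
  rw [locFinIrr_iff] at hV ⊢
  intro W hW
  have key : ∀ w ∈ (W : Set ↥U), ∃ (V₀ : V.Opens) (O : U.Opens) (e : O ≤ h ⁻¹ᵁ V₀), IsAffineOpen V₀ ∧
      IsAffineOpen O ∧ w ∈ O := by
    intro w _
    obtain ⟨V₀, hV₀, hwV₀, -⟩ := exists_isAffineOpen_mem_and_subset (U := (⊤ : V.Opens)) (x := h w) trivial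
    obtain ⟨O, hO, hwO, hOV⟩ := exists_isAffineOpen_mem_and_subset (U := h ⁻¹ᵁ V₀) (x := w) hwV₀
    exact ⟨V₀, O, hOV, hV₀, hO, hwO⟩
  choose V₀ O e hV₀ hO hwO using key
  obtain ⟨t, ht⟩ := hW.elim_nhds_subcover' (fun w hw => (O w hw : Set ↥U))
    (fun w hw => (O w hw).isOpen.mem_nhds (hwO w hw))
  have hfin : (⋃ x ∈ t, {a : ↥U | a ∈ O x.1 x.2 ∧ MaxPt a}).Finite := by
    refine t.finite_toSet.biUnion (fun x _ => ?_)
    haveI : IsAffine (O x.1 x.2).toScheme := hO x.1 x.2
    haveI : IsAffine (V₀ x.1 x.2).toScheme := hV₀ x.1 x.2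
    have hB : {b : ↥(V₀ x.1 x.2).toScheme | MaxPt b}.Finite := by
      have h1 := hV (V₀ x.1 x.2) (hV₀ x.1 x.2).isCompact
      refine (h1.preimage (Subtype.val_injective.injOn)).subset ?_
      intro b hb
      exact ⟨b.2, (maxPt_subtype_iff (V₀ x.1 x.2).isOpen b).1 hb⟩
    have hA := finite_maxPt_of_flat_of_isAffine (h.resLE (V₀ x.1 x.2) (O x.1 x.2) (e x.1 x.2)) hB
    refine (hA.image Subtype.val).subset ?_
    rintro a ⟨haO, ha⟩
    exact ⟨⟨a, haO⟩, (maxPt_subtype_iff (O x.1 x.2).isOpen ⟨a, haO⟩).2 ha, rfl⟩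
  refine hfin.subset ?_
  rintro a ⟨haW, ha⟩
  have := ht haW
  simp only [Set.mem_iUnion] at this ⊢
  obtain ⟨x, hx, hax⟩ := this
  exact ⟨x, hx, hax, ha⟩

end Sch

end Groth.Agent.Lib.Seat45.LocFinIrr
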