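import Mathlib
import Groth.Agent.Lib.Seat45LocFinIrr
import Groth.Agent.S10176
import Groth.Agent.S9920

/-!
# Generic points of irreducible closed subsets of `|X|` through a chart with compact relation (seat 45)

* `exists_specializes_of_mem_closure_image`: for `g : W ⟶ U` with `W` quasi-compact, `U` affine and `Z ⊆ W`
  closed, every point of the closure of `g(Z)` is a specialization of a point of `g(Z)`.
* `exists_maximal_of_isClosed`: a point of a closed subset `Z` of a sober space has a generization in `Z`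
  that is maximal in `Z`.
* `exists_isGenericPoint`: let `a : h_U ⟶ F` be representable étale with `U` affine and `R = U ×_F U`
  quasi-compact.  Every irreducible closed `T ⊆ |F|` meeting the image of `U` has a generic point (in the
  image of `U`).
* `compactSpace_of_qs_of_factors`: for `F` quasi-separated over `S` and `U` affine mapping into an affine open
  of `S`, the scheme `U ×_F U` is quasi-compact.
-/

set_option autoImplicit false
set_option linter.style.haveILetI false
universe u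

open CategoryTheory CategoryTheory.Limits AlgebraicGeometry Topology TopologicalSpace

namespace Groth.Agent.Lib.Seat45.QsSober

open Groth.Agent.Lib.Seat45.LocFinIrr

section Ring

/-- prime spectrum version. -/
lemma exists_specializes_of_mem_closure_comap {A B : Type*} [CommRing A] [CommRing B] (φ : A →+* B)
    (Z : Set (PrimeSpectrum B)) (hZ : IsClosed Z) (z : PrimeSpectrum A)
    (hz : z ∈ closure (PrimeSpectrum.comap φ '' Z)) :
    ∃ w ∈ Z, PrimeSpectrum.comap φ w ⤳ z := by
  obtain ⟨I, rfl⟩ := (PrimeSpectrum.isClosed_iff_zeroLocus_ideal Z).mp hZ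
  rw [PrimeSpectrum.closure_image_comap_zeroLocus] at hz
  obtain ⟨q, hqI, hq, hqle⟩ := z.asIdeal.exists_ideal_comap_le_prime I hz
  exact ⟨⟨q, hq⟩, hqI, (PrimeSpectrum.le_iff_specializes _ z).mp hqle⟩

end Ring

section Scheme

/-- `Spec` version. -/
lemma exists_specializes_of_mem_closure_image_spec {A B : CommRingCat.{u}} (g : Spec B ⟶ Spec A)
    (Z : Set ↥(Spec B)) (hZ : IsClosed Z) (z : ↥(Spec A)) (hz : z ∈ closure (g '' Z)) :
    ∃ w ∈ Z, g w ⤳ z := by
  obtain ⟨φ, rfl⟩ := Spec.homEquiv.symm.surjective g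
  exact exists_specializes_of_mem_closure_comap φ.hom Z hZ z hz

/-- For `g : W ⟶ U` with `W` quasi-compact, `U` affine and `Z ⊆ W` closed, every point of the closure of
`g(Z)` is a specialization of a point of `g(Z)`. -/
lemma exists_specializes_of_mem_closure_image {W U : Scheme.{u}} [CompactSpace W] [IsAffine U]
    (g : W ⟶ U) (Z : Set ↥W) (hZ : IsClosed Z) (z : ↥U) (hz : z ∈ closure (g '' Z)) :
    ∃ w ∈ Z, g w ⤳ z := by
  obtain ⟨R, h, hh⟩ := compactSpace_iff_exists.mp (inferInstance : CompactSpace W)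
  let g' : Spec R ⟶ Spec Γ(U, ⊤) := h ≫ g ≫ U.isoSpec.hom
  have hZ' : IsClosed (h ⁻¹' Z) := hZ.preimage h.continuous
  have himg : g' '' (h ⁻¹' Z) = U.isoSpec.hom '' (g '' Z) := by
    ext y
    constructor
    · rintro ⟨r, hr, rfl⟩
      exact ⟨g (h r), ⟨h r, hr, rfl⟩, by simp [g']⟩
    · rintro ⟨_, ⟨w, hw, rfl⟩, rfl⟩
      obtain ⟨r, rfl⟩ := hh w
      exact ⟨r, hw, by simp [g']⟩
  have hz' : U.isoSpec.hom z ∈ closure (g' '' (h ⁻¹' Z)) := by
    rw [himg]
    exact image_closure_subset_closure_image U.isoSpec.hom.continuous ⟨z, hz, rfl⟩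
  obtain ⟨r, hr, hrz⟩ := exists_specializes_of_mem_closure_image_spec g' _ hZ' _ hz'
  refine ⟨h r, hr, ?_⟩
  have := hrz.map U.isoSpec.inv.continuous
  simpa [g'] using this

end Scheme

section Top

variable {Y : Type*} [TopologicalSpace Y]

/-- A point of a closed subset `Z` of a sober space has a generization in `Z` which is maximal in `Z`. -/
lemma exists_maximal_of_isClosed [QuasiSober Y] [T0Space Y] (Z : Set Y) (hZ : IsClosed Z) (z₀ : Y)
    (h₀ : z₀ ∈ Z) : ∃ z ∈ Z, z ⤳ z₀ ∧ ∀ z' ∈ Z, z' ⤳ z → z' = z := by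
  haveI : QuasiSober ↥Z := hZ.isClosedEmbedding_subtypeVal.quasiSober
  obtain ⟨ζ, hζ, hζ₀⟩ := exists_maxPt_specializes (⟨z₀, h₀⟩ : ↥Z)
  refine ⟨ζ.1, ζ.2, (subtype_specializes_iff _ _).1 hζ₀, fun z' hz' hsp => ?_⟩
  have := hζ ⟨z', hz'⟩ ((subtype_specializes_iff _ _).2 hsp)
  exact congrArg Subtype.val this

/-- In a preirreducible set, a nonempty relatively open subset is dense. -/
lemma subset_closure_inter_of_isPreirreducible {T O : Set Y} (hT : IsPreirreducible T) (hO : IsOpen O)
    (hne : (T ∩ O).Nonempty) : T ⊆ closure (T ∩ O) := by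
  intro x hx
  rw [mem_closure_iff]
  intro O' hO' hxO'
  obtain ⟨y, hyT, hyO', hyO⟩ := hT O' O hO' hO ⟨x, hx, hxO'⟩ hne
  exact ⟨y, hyO', hyT, hyO⟩

end Top

variable {S : Scheme.{u}}

/-- Let `a : h_U ⟶ F` be representable étale with `U` affine and `R = U ×_F U` quasi-compact.  Every
irreducible closed `T ⊆ |F|` meeting the image of `U` has a generic point, in the image of `U`. -/
theorem exists_isGenericPoint {F : AlgSp.Sp S} {U R : Over S} [IsAffine U.left] [CompactSpace ↥R.left]
    (a : (AlgSp.yon S).obj U ⟶ F) (ha : AlgSp.RepWith @Etale a) (s t : R ⟶ U)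
    (sq : IsPullback ((AlgSp.yon S).map s) ((AlgSp.yon S).map t) a a)
    (T : Set (AlgSp.Points F)) (hT : IsPreirreducible T) (hTc : IsClosed T)
    (hTU : (T ∩ Set.range (AlgSp.Points.ofPt a)).Nonempty) :
    ∃ x ∈ Set.range (AlgSp.Points.ofPt a), IsGenericPoint x T := by
  obtain ⟨_, hx₀T, u₀, rfl⟩ := hTU
  have hcont : Continuous (AlgSp.Points.ofPt a) := AlgSp.Points.continuous_ofPt a
  have hopenmap : IsOpenMap (AlgSp.Points.ofPt a) := Groth.Agent.S10176.isOpenMap_ofPt a ha
  set Z : Set ↥U.left := AlgSp.Points.ofPt a ⁻¹' T with hZdef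
  have hZc : IsClosed Z := hTc.preimage hcont
  obtain ⟨z, hzZ, -, hzmax⟩ := exists_maximal_of_isClosed Z hZc u₀ hx₀T
  refine ⟨AlgSp.Points.ofPt a z, ⟨z, rfl⟩, ?_⟩
  change closure {AlgSp.Points.ofPt a z} = T
  apply subset_antisymm
  · exact hTc.closure_subset_iff.2 (Set.singleton_subset_iff.2 hzZ)
  · have hdense := subset_closure_inter_of_isPreirreducible hT hopenmap.isOpen_range
      ⟨AlgSp.Points.ofPt a u₀, hx₀T, u₀, rfl⟩
    refine hdense.trans (closure_minimal ?_ isClosed_closure)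
    rintro _ ⟨hx''T, u'', rfl⟩
    rw [← specializes_iff_mem_closure, specializes_iff_forall_open]
    intro O hO hu''O
    obtain ⟨_, ⟨N, hN, rfl⟩, hu''N, hNO⟩ := U.left.isBasis_affineOpens.exists_subset_of_mem_open
      (show u'' ∈ AlgSp.Points.ofPt a ⁻¹' O from hu''O) (hO.preimage hcont)
    -- the open `W = t⁻¹(N)` of `R`
    haveI : QuasiCompact t.left := (HasAffineProperty.iff_of_isAffine (P := @QuasiCompact)).2 inferInstance
    let W : R.left.Opens := t.left ⁻¹ᵁ N
    have hWc : IsCompact (W : Set ↥R.left) :=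
      QuasiCompact.isCompact_preimage (f := t.left) _ N.isOpen hN.isCompact
    haveI : CompactSpace ↥(W : Scheme.{u}) := isCompact_iff_compactSpace.1 hWc
    let g : (W : Scheme.{u}) ⟶ U.left := W.ι ≫ s.left
    have hgapp : ∀ w : ↥W, g w = s.left w.1 := fun w => by
      simp [g]
    have hZ'c : IsClosed (g ⁻¹' Z) := hZc.preimage g.continuous
    have hzcl : z ∈ closure (g '' (g ⁻¹' Z)) := by
      rw [mem_closure_iff]
      intro M hM hzM
      obtain ⟨y, hyT, ⟨m, hmM, rfl⟩, ⟨n, hnN, hmn⟩⟩ := hT _ _ (hopenmap M hM) (hopenmap N N.isOpen)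
        ⟨AlgSp.Points.ofPt a z, hzZ, z, hzM, rfl⟩ ⟨AlgSp.Points.ofPt a u'', hx''T, u'', hu''N, rfl⟩
      obtain ⟨r, hr1, hr2⟩ := Groth.Agent.S10176.exists_point_of_isPullback_yon sq m n hmn.symm
      have hrW : r ∈ W := by
        change t.left r ∈ N
        rw [hr2]; exact hnN
      refine ⟨m, hmM, ⟨⟨r, hrW⟩, ?_, ?_⟩⟩
      · change g ⟨r, hrW⟩ ∈ Z
        rw [hgapp, hr1]; exact hyT
      · rw [hgapp, hr1]
    obtain ⟨w, hwZ', hwz⟩ := exists_specializes_of_mem_closure_image g _ hZ'c z hzcl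
    have hgw : g w = z := hzmax _ hwZ' hwz
    have hcomm : AlgSp.Points.ofPt a (s.left w.1) = AlgSp.Points.ofPt a (t.left w.1) := by
      rw [← Groth.Agent.S10176.ofPt_map_comp, ← Groth.Agent.S10176.ofPt_map_comp, sq.w]
    have : AlgSp.Points.ofPt a z = AlgSp.Points.ofPt a (t.left w.1) := by
      rw [← hgw, hgapp, hcomm]
    rw [this]
    exact hNO w.2

/-- If every point of `F` lies in the image of an affine étale chart with quasi-compact relation, then
`|F|` is quasi-sober. -/
theorem quasiSober_of_charts {F : AlgSp.Sp S}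
    (hcov : ∀ x : AlgSp.Points F, ∃ (U R : Over S) (a : (AlgSp.yon S).obj U ⟶ F) (s t : R ⟶ U),
      IsAffine U.left ∧ CompactSpace ↥R.left ∧ AlgSp.RepWith @Etale a ∧
      IsPullback ((AlgSp.yon S).map s) ((AlgSp.yon S).map t) a a ∧
      x ∈ Set.range (AlgSp.Points.ofPt a)) :
    QuasiSober (AlgSp.Points F) := by
  refine ⟨fun {T} hirr hcl => ?_⟩
  obtain ⟨x₀, hx₀⟩ := hirr.1
  obtain ⟨U, R, a, s, t, hU, hR, ha, sq, hx₀a⟩ := hcov x₀
  haveI := hU
  haveI := hR
  obtain ⟨x, -, hx⟩ := exists_isGenericPoint a ha s t sq T hirr.2 hcl ⟨x₀, hx₀, hx₀a⟩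
  exact ⟨x, hx⟩

section Res

/-- an open subscheme of a scheme over `S`, as a scheme over `S`. -/
noncomputable abbrev resObj (U : Over S) (N : U.left.Opens) : Over S := Over.mk (N.ι ≫ U.hom)

/-- the inclusion of an open subscheme, over `S`. -/
noncomputable abbrev resHom (U : Over S) (N : U.left.Opens) : resObj U N ⟶ U := Over.homMk N.ι rfl

variable {F : AlgSp.Sp S} {U : Over S} (a : (AlgSp.yon S).obj U ⟶ F)

lemma ofPt_res (N : U.left.Opens) (w : ↥(resObj U N).left) :
    AlgSp.Points.ofPt ((AlgSp.yon S).map (resHom U N) ≫ a) w = AlgSp.Points.ofPt a (N.ι w) :=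
  Groth.Agent.S10176.ofPt_map_comp (resHom U N) a w

lemma repWith_etale_res (ha : AlgSp.RepWith @Etale a) (N : U.left.Opens) :
    AlgSp.RepWith @Etale ((AlgSp.yon S).map (resHom U N) ≫ a) := by
  haveI : Etale (resHom U N).left := inferInstanceAs (Etale N.ι)
  exact (AlgSp.RepWith @Etale).comp_mem _ _ ((AlgSp.repWith_yon_map_iff _ _).2 inferInstance) ha

lemma range_ofPt_res (N : U.left.Opens) :
    Set.range (AlgSp.Points.ofPt ((AlgSp.yon S).map (resHom U N) ≫ a)) =
      AlgSp.Points.ofPt a '' (N : Set ↥U.left) := by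
  ext x
  constructor
  · rintro ⟨w, rfl⟩
    exact ⟨N.ι w, w.2, (ofPt_res a N w).symm⟩
  · rintro ⟨u, hu, rfl⟩
    exact ⟨⟨u, hu⟩, ofPt_res a N ⟨u, hu⟩⟩

end Res

/-- the intersection of the images of two charts is the image of their fibre product. -/
lemma range_inter_range_eq {F : AlgSp.Sp S} {U V E : Over S} {a : (AlgSp.yon S).obj U ⟶ F}
    {b : (AlgSp.yon S).obj V ⟶ F} {q : E ⟶ U} {p : E ⟶ V}
    (sq : IsPullback ((AlgSp.yon S).map q) ((AlgSp.yon S).map p) a b) :
    Set.range (AlgSp.Points.ofPt a) ∩ Set.range (AlgSp.Points.ofPt b) =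
      Set.range (AlgSp.Points.ofPt ((AlgSp.yon S).map q ≫ a)) := by
  ext x
  constructor
  · rintro ⟨⟨u, rfl⟩, ⟨v, hv⟩⟩
    obtain ⟨e, he1, -⟩ := Groth.Agent.S10176.exists_point_of_isPullback_yon sq u v hv.symm
    exact ⟨e, by rw [Groth.Agent.S10176.ofPt_map_comp, he1]⟩
  · rintro ⟨e, rfl⟩
    refine ⟨⟨q.left e, (Groth.Agent.S10176.ofPt_map_comp q a e).symm⟩, ⟨p.left e, ?_⟩⟩
    rw [sq.w, Groth.Agent.S10176.ofPt_map_comp]

/-- composing the bottom maps of a pullback square with a monomorphism. -/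
lemma isPullback_comp_mono {C : Type*} [Category C] {P A B D E : C} {f : P ⟶ A} {g : P ⟶ B}
    {a : A ⟶ D} {b : B ⟶ D} (h : IsPullback f g a b) (i : D ⟶ E) [Mono i] :
    IsPullback f g (a ≫ i) (b ≫ i) := by
  refine ⟨⟨by rw [← Category.assoc, h.w, Category.assoc]⟩, ⟨PullbackCone.IsLimit.mk _
    (fun c => h.lift c.fst c.snd (by
      rw [← cancel_mono i, Category.assoc, Category.assoc]; exact c.condition)) ?_ ?_ ?_⟩⟩
  · intro c
    exact h.lift_fst _ _ _
  · intro c
    exact h.lift_snd _ _ _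
  · intro c m h1 h2
    apply h.hom_ext
    · rw [h.lift_fst]; exact h1
    · rw [h.lift_snd]; exact h2

/-- For `F` quasi-separated over `S` and `U` affine mapping into an affine open of `S`, the scheme
`U ×_F U` is quasi-compact. -/
theorem compactSpace_of_qs_of_factors {F : AlgSp.Sp S} (hF : AlgSp.IsQuasiSeparatedSp F) {U R : Over S}
    [IsAffine U.left] (V : S.Opens) (hV : IsAffineOpen V) (q : U.left ⟶ (V : Scheme.{u}))
    (hq : q ≫ V.ι = U.hom) (a : (AlgSp.yon S).obj U ⟶ F) (s t : R ⟶ U)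
    (sq : IsPullback ((AlgSp.yon S).map s) ((AlgSp.yon S).map t) a a) : CompactSpace ↥R.left := by
  have hqc : QuasiCompact (prod.lift s t).left := Groth.Agent.S9920.property_of_repWith_diag hF sq
  haveI : IsAffine (V : Scheme.{u}) := hV
  have hpb : IsPullback (pullback.fst q q) (pullback.snd q q) U.hom U.hom := by
    rw [← hq]
    exact isPullback_comp_mono (IsPullback.of_hasPullback q q) V.ι
  haveI : CompactSpace ↥(pullback U.hom U.hom) :=
    QuasiCompact.compactSpace_of_compactSpace hpb.isoPullback.inv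
  haveI : CompactSpace ↥(U ⨯ U).left :=
    QuasiCompact.compactSpace_of_compactSpace (Over.prodLeftIsoPullback U U).hom
  exact QuasiCompact.compactSpace_of_compactSpace (prod.lift s t).left

end Groth.Agent.Lib.Seat45.QsSober
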