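import Groth.Prelude.Def_StCurv2
import Mathlib

/-!
# Geometric fibres of the sheaf family of a scheme over a field (seat 83)

`geomFib_toSpFam_iff`: for a scheme `X` over a field `k` (structure morphism `p`) and `t : Spec k ⟶ S`,
the predicate `CurvSt.GeomFib P` of the classifying sheaf family of `X` unfolds to: for every
algebraically closed field `Ω`, every `t' : Spec Ω ⟶ Spec k` and every cartesian square of SCHEMES
`X' = X ×_k Ω`, `P Ω X' q`.  (For properties `P` that do not look at marked points.)
-/

set_option autoImplicit false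
universe u

open CategoryTheory CategoryTheory.Limits AlgebraicGeometry Opposite

namespace Groth.Agent.Lib.Seat83.GeomFib

variable {S : Scheme.{u}}

/-- A square of `h`'s of morphisms over `S` is cartesian in sheaves iff the square of underlying
schemes is cartesian. -/
theorem isPullback_yon_iff {A B C D : Over S} (a : A ⟶ B) (b : A ⟶ C) (c : B ⟶ D) (d : C ⟶ D) :
    IsPullback ((AlgSp.yon S).map a) ((AlgSp.yon S).map b) ((AlgSp.yon S).map c) ((AlgSp.yon S).map d) ↔
      IsPullback a.left b.left c.left d.left := by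
  constructor
  · intro h
    have h1 : IsPullback a b c d := by
      refine IsPullback.of_map (AlgSp.yon S) ?_ h
      apply (AlgSp.yon S).map_injective
      rw [Functor.map_comp, Functor.map_comp]
      exact h.w
    exact h1.map (Over.forget S)
  · intro h
    have hw : a ≫ c = b ≫ d := by
      ext
      exact h.w
    have h1 : IsPullback a b c d := IsPullback.of_map (Over.forget S) hw h
    exact h1.map (AlgSp.yon S)

/-- `GeomFib` of the sheaf family of a scheme over a field, unfolded to cartesian squares of schemes. -/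
theorem geomFib_toSpFam_iff (k : Type u) [Field k] (t : Spec (CommRingCat.of k) ⟶ S)
    (X : Scheme.{u}) (p : X ⟶ Spec (CommRingCat.of k))
    (P : ∀ (Ω : Type u) [Field Ω] [IsAlgClosed Ω] (X' : Scheme.{u}), (X' ⟶ Spec (CommRingCat.of Ω)) → Prop) :
    CurvSt.GeomFib (fun Ω _ _ X' q _ => P Ω X' q)
        ((CurvSt.toSpFam S 0).obj ⟨Over.mk t, X, p, Fin.elim0, fun i => i.elim0⟩) ↔
      ∀ (Ω : Type u) [Field Ω] [IsAlgClosed Ω] (t' : Spec (CommRingCat.of Ω) ⟶ Spec (CommRingCat.of k))
        (X' : Scheme.{u}) (q : X' ⟶ Spec (CommRingCat.of Ω)) (i₀ : X' ⟶ X),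
        IsPullback i₀ q p t' → P Ω X' q := by
  constructor
  · intro h Ω _ _ t' X' q i₀ hsq
    let A : CurvSt.SpFamObj S 0 := (CurvSt.toSpFam S 0).obj ⟨Over.mk t, X, p, Fin.elim0, fun i => i.elim0⟩
    have hw : i₀ ≫ (p ≫ t) = (q ≫ t') ≫ t := by
      rw [← Category.assoc, hsq.w, Category.assoc]
    let i₁ : A.ptOver (q ≫ t') ⟶ Over.mk (p ≫ t) := Over.homMk i₀ hw
    refine h Ω t' X' q ((AlgSp.yon S).map i₁) ?_
    exact (isPullback_yon_iff i₁ (A.fibHom t' q) (Over.homMk p rfl : Over.mk (p ≫ t) ⟶ Over.mk t)
      (A.ptHom t')).2 hsq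
  · intro h Ω _ _ t' X' q i hP
    let A : CurvSt.SpFamObj S 0 := (CurvSt.toSpFam S 0).obj ⟨Over.mk t, X, p, Fin.elim0, fun i => i.elim0⟩
    obtain ⟨i₁, rfl⟩ := (AlgSp.yon S).map_surjective i
    have hsq := (isPullback_yon_iff i₁ (A.fibHom t' q) (Over.homMk p rfl : Over.mk (p ≫ t) ⟶ Over.mk t)
      (A.ptHom t')).1 hP
    exact h Ω t' X' q i₁.left hsq

/-- Reducedness descends along the base change of a field extension (the projection is
scheme-theoretically dominant and quasi-compact). -/
theorem isReduced_of_fieldExt {K Ω : Type u} [Field K] [Field Ω] [Algebra K Ω] {Z Z' : Scheme.{u}}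
    (snd : Z ⟶ Spec (CommRingCat.of K)) (pr : Z' ⟶ Z) (q : Z' ⟶ Spec (CommRingCat.of Ω))
    (h : IsPullback pr q snd (Spec.map (CommRingCat.ofHom (algebraMap K Ω)))) [IsReduced Z'] :
    IsReduced Z := by
  let j : Spec (CommRingCat.of Ω) ⟶ Spec (CommRingCat.of K) := Spec.map (CommRingCat.ofHom (algebraMap K Ω))
  have : IsDominant j := by
    have : Surjective j := by
      constructor
      intro x
      refine ⟨IsLocalRing.closedPoint Ω, Subsingleton.elim _ _⟩
    infer_instance
  have : IsSchemeTheoreticallyDominant j := IsSchemeTheoreticallyDominant.of_isDominant j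
  have : IsSchemeTheoreticallyDominant pr := IsSchemeTheoreticallyDominant.of_isPullback h.flip
  have : QuasiCompact pr := MorphismProperty.of_isPullback h.flip (inferInstance : QuasiCompact j)
  exact IsSchemeTheoreticallyDominant.isReduced pr

/-- A morphism to the spectrum of a field is geometrically reduced as soon as its base changes to
algebraically closed fields are reduced. -/
theorem geometricallyReduced_of_algClosed {k : Type u} [Field k] {X : Scheme.{u}}
    (p : X ⟶ Spec (CommRingCat.of k))
    (h : ∀ (Ω : Type u) [Field Ω] [IsAlgClosed Ω] (t' : Spec (CommRingCat.of Ω) ⟶ Spec (CommRingCat.of k))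
        (X' : Scheme.{u}) (q : X' ⟶ Spec (CommRingCat.of Ω)) (i₀ : X' ⟶ X),
        IsPullback i₀ q p t' → IsReduced X') : GeometricallyReduced p := by
  refine ⟨?_⟩
  intro K _ y Z fst snd hsq
  let Ω := AlgebraicClosure K
  let j : Spec (CommRingCat.of Ω) ⟶ Spec (CommRingCat.of K) := Spec.map (CommRingCat.ofHom (algebraMap K Ω))
  have h1 : IsPullback (pullback.fst snd j) (pullback.snd snd j) snd j := IsPullback.of_hasPullback snd j
  have h2 : IsPullback (pullback.fst snd j ≫ fst) (pullback.snd snd j) p (j ≫ y) := h1.paste_horiz hsq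
  have : IsReduced (pullback snd j) := h Ω (j ≫ y) _ _ _ h2
  exact isReduced_of_fieldExt snd _ _ h1

/-- A morphism to the spectrum of a field is geometrically connected as soon as its base changes to
algebraically closed fields are connected. -/
theorem geometricallyConnected_of_algClosed {k : Type u} [Field k] {X : Scheme.{u}}
    (p : X ⟶ Spec (CommRingCat.of k))
    (h : ∀ (Ω : Type u) [Field Ω] [IsAlgClosed Ω] (t' : Spec (CommRingCat.of Ω) ⟶ Spec (CommRingCat.of k))
        (X' : Scheme.{u}) (q : X' ⟶ Spec (CommRingCat.of Ω)) (i₀ : X' ⟶ X),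
        IsPullback i₀ q p t' → ConnectedSpace ↥X') : GeometricallyConnected p := by
  refine ⟨?_⟩
  intro K _ y Z fst snd hsq
  let Ω := AlgebraicClosure K
  let j : Spec (CommRingCat.of Ω) ⟶ Spec (CommRingCat.of K) := Spec.map (CommRingCat.ofHom (algebraMap K Ω))
  have h1 : IsPullback (pullback.fst snd j) (pullback.snd snd j) snd j := IsPullback.of_hasPullback snd j
  have h2 : IsPullback (pullback.fst snd j ≫ fst) (pullback.snd snd j) p (j ≫ y) := h1.paste_horiz hsq
  have hc : ConnectedSpace ↥(pullback snd j) := h Ω (j ≫ y) _ _ _ h2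
  have hj : Surjective j := by
    constructor
    intro x
    refine ⟨IsLocalRing.closedPoint Ω, Subsingleton.elim _ _⟩
  have hs : Surjective (pullback.fst snd j) := MorphismProperty.of_isPullback h1.flip hj
  have hconn : _root_.IsConnected (Set.range (pullback.fst snd j)) :=
    isConnected_range (pullback.fst snd j).continuous
  rw [(pullback.fst snd j).surjective.range_eq] at hconn
  exact connectedSpace_iff_univ.2 hconn

end Groth.Agent.Lib.Seat83.GeomFib
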