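import Mathlib
import Groth.Prelude.Def_AlgSpDec
import Groth.Agent.S10176
import Groth.Agent.Lib.Seat46FieldQuot

/-!
# Field-valued points represented by monomorphisms (seat 46)
-/

set_option autoImplicit false
universe u
open CategoryTheory CategoryTheory.Limits AlgebraicGeometry

namespace Groth.Agent.Lib.Seat46.DecentPt

variable {S : Scheme.{u}} {F : AlgSp.Sp S}

/-- the field-valued point defined by a morphism from the spectrum of a field. -/
noncomputable def ofHom (k : Type u) [Field k] (str : Spec (CommRingCat.of k) ⟶ S)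
    (m : (AlgSp.yon S).obj (Over.mk str) ⟶ F) : AlgSp.FieldPt F :=
  ⟨k, str, (AlgSp.J S).uliftYonedaEquiv m⟩

@[simp]
lemma toHom_ofHom (k : Type u) [Field k] (str : Spec (CommRingCat.of k) ⟶ S)
    (m : (AlgSp.yon S).obj (Over.mk str) ⟶ F) : (ofHom k str m).toHom = m :=
  Equiv.symm_apply_apply _ _

/-- two field-valued points related by a morphism of their spectra define the same point. -/
lemma mk_eq_of_comp (p q : AlgSp.FieldPt F) (c : q.pt ⟶ p.pt)
    (h : (AlgSp.yon S).map c ≫ p.toHom = q.toHom) : AlgSp.Points.mk p = AlgSp.Points.mk q := by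
  have s : ↥(Spec (CommRingCat.of q.K)) := IsLocalRing.closedPoint q.K
  rw [← AlgSp.Points.ofPt_toHom q s, ← h, Groth.Agent.S10176.ofPt_map_comp]
  exact (AlgSp.Points.ofPt_toHom p _).symm

open Groth.Agent.Lib.Seat46.FieldQuot in
/-- a field-valued point whose kernel pair is a quasi-compact scheme etale over the field is equivalent
to one given by a monomorphism. -/
theorem exists_mono_fieldPt (q : AlgSp.FieldPt F) {R : Over S} (s t : R ⟶ q.pt)
    (sq : IsPullback ((AlgSp.yon S).map t) ((AlgSp.yon S).map s) q.toHom q.toHom)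
    [Etale s.left] [CompactSpace ↥R.left] :
    ∃ p : AlgSp.FieldPt F, AlgSp.Points.mk p = AlgSp.Points.mk q ∧ Mono p.toHom ∧
      ∃ c : q.pt ⟶ p.pt, (AlgSp.yon S).map c ≫ p.toHom = q.toHom ∧ IsFinite c.left ∧
        Etale c.left ∧ Surjective c.left := by
  obtain ⟨k', fld, str', c, m, hm, hmono, hfin, het, hsurj⟩ :=
    exists_mono_factor q.str q.toHom s t sq
  refine ⟨ofHom k' str' m, ?_, ?_, c, ?_, hfin, het, hsurj⟩
  · exact mk_eq_of_comp _ q c (by rw [toHom_ofHom]; exact hm)
  · rw [toHom_ofHom]; exact hmono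
  · rw [toHom_ofHom]; exact hm

end Groth.Agent.Lib.Seat46.DecentPt
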