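import Mathlib
import Groth.Agent.Lib.Helper6FibCount
import Groth.Agent.S10175
import Groth.Prelude.Def_W4decUnivBdd

/-!
# Universally bounded fibres: counting points (seat 46)
-/

set_option autoImplicit false
universe u
open CategoryTheory CategoryTheory.Limits AlgebraicGeometry

namespace Groth.Agent.Lib.Seat46.UnivBdd

/-- a scheme finite of rank at most `n` over the spectrum of a field has at most `n` points. -/
lemma card_le_of_isFinite_of_finrank_le {T : Scheme.{u}} {K : Type u} [Field K]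
    (c : T ⟶ Spec (CommRingCat.of K)) [IsFinite c] (n : ℕ) (h : ∀ s, c.finrank s ≤ n) :
    Finite T ∧ Nat.card T ≤ n := by
  have : IsAffine T := isAffine_of_isAffineHom c
  let ψ : CommRingCat.of K ⟶ Γ(T, ⊤) := Spec.preimage (T.isoSpec.inv ≫ c)
  have hψ' : Spec.map ψ = T.isoSpec.inv ≫ c := Spec.map_preimage _
  have hc : c = T.isoSpec.hom ≫ Spec.map ψ := by
    rw [hψ', Iso.hom_inv_id_assoc]
  let _ : Algebra K Γ(T, ⊤) := ψ.hom.toAlgebra
  have hψ : ψ = CommRingCat.ofHom (algebraMap K Γ(T, ⊤)) := rfl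
  have : IsFinite (Spec.map ψ) := by
    rw [hψ']; infer_instance
  have : Module.Finite K Γ(T, ⊤) := by
    have := (IsFinite.SpecMap_iff (f := ψ)).1 inferInstance
    rw [hψ] at this
    exact RingHom.finite_algebraMap.1 this
  have hrank : Module.finrank K Γ(T, ⊤) ≤ n := by
    have h1 := h (IsLocalRing.closedPoint K)
    rw [hc, Scheme.Hom.finrank_comp_left_of_isIso, hψ,
      Scheme.Hom.finrank_SpecMap_algebraMap, Module.rankAtStalk_eq_finrank_of_free] at h1
    exact h1
  obtain ⟨hfin, hcard⟩ := Groth.Agent.Lib.Helper6.FibCount.card_primeSpectrum_le K Γ(T, ⊤)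
  have e : T ≃ PrimeSpectrum Γ(T, ⊤) := T.isoSpec.hom.homeomorph.toEquiv
  exact ⟨Finite.of_equiv _ e.symm, (Nat.card_congr e).trans_le (hcard.trans hrank)⟩

variable {S : Scheme.{u}}

/-- in a pullback square of sheaves with corner `h_T` over `φ : h_U ⟶ F` and a field-valued point
`q` of `F`, every point of `U` over the class of `q` is the image of a point of `T`. -/
lemma fibre_subset_range_of_isPullback {F : AlgSp.Sp S} {U T : Over S}
    (φ : (AlgSp.yon S).obj U ⟶ F) (q : AlgSp.FieldPt F) (c : T ⟶ q.pt) (b : T ⟶ U)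
    (sq : IsPullback ((AlgSp.yon S).map c) ((AlgSp.yon S).map b) q.toHom φ) :
    AlgSp.Points.ofPt φ ⁻¹' {AlgSp.Points.mk q} ⊆ Set.range b.left := by
  intro u hu
  have hu' : AlgSp.Points.ofPt φ u = AlgSp.Points.mk q := hu
  let s : ↥q.pt.left := IsLocalRing.closedPoint q.K
  have e : AlgSp.Points.map φ (AlgSp.Points.ofScheme U u) =
      AlgSp.Points.map q.toHom (AlgSp.Points.ofScheme q.pt s) := by
    rw [← AlgSp.Points.ofPt_eq_map_ofScheme, ← AlgSp.Points.ofPt_eq_map_ofScheme, hu',
      AlgSp.Points.ofPt_toHom]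
  obtain ⟨p, hp1, -⟩ := Groth.Agent.S10175.exists_point_of_isPullback sq.flip _ _ e
  obtain ⟨t, rfl⟩ := (AlgSp.Points.schemeHomeo T).surjective p
  refine ⟨t, ?_⟩
  rw [AlgSp.Points.map_yon_map_apply] at hp1
  exact (AlgSp.Points.schemeHomeo U).injective hp1

/-- if `n` bounds the degrees of the fibres of `φ : h_U ⟶ X` with `X` an algebraic space, then every
fibre of `|U| → |X|` has at most `n` elements. -/
theorem encard_fibre_le_of_degFibresLE {X : AlgSp.Sp S} (hX : AlgSp.IsAlgSpace X) {U : Over S}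
    (φ : (AlgSp.yon S).obj U ⟶ X) {n : ℕ} (hn : W4dec.DegFibresLE n φ) (x : AlgSp.Points X) :
    (AlgSp.Points.ofPt φ ⁻¹' {x}).encard ≤ n := by
  induction x using AlgSp.Points.ind with | h q => ?_
  obtain ⟨T, c, fst, sq⟩ := hX.representable_from_yon φ q.toHom
  obtain ⟨b, rfl⟩ := (AlgSp.yon S).map_surjective fst
  obtain ⟨hfin, hrank⟩ := hn q T c _ sq.flip
  have := hfin
  obtain ⟨hF, hcard⟩ := card_le_of_isFinite_of_finrank_le c.left n hrank
  have hsub := fibre_subset_range_of_isPullback φ q c b sq.flip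
  calc (AlgSp.Points.ofPt φ ⁻¹' {AlgSp.Points.mk q}).encard
      ≤ (Set.range b.left).encard := Set.encard_le_encard hsub
    _ ≤ ENat.card ↥T.left := by
        rw [← Set.image_univ, ← Set.encard_univ]
        exact Set.encard_image_le _ _
    _ ≤ n := by
        rw [ENat.card_eq_coe_natCard]
        exact_mod_cast hcard

end Groth.Agent.Lib.Seat46.UnivBdd
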