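import Mathlib
import Groth.Prelude.Def_AlgSpDec
import Groth.Agent.Lib.Seat46DecentPt
import Groth.Agent.Lib.Helper12Reduced
import Groth.Agent.S10555
import Groth.Agent.Lib.Seat46UnivBdd

set_option autoImplicit false
universe u
open CategoryTheory CategoryTheory.Limits AlgebraicGeometry

namespace Groth.Agent.Lib.Seat46.DecentChart

section FieldMono

variable {k : Type u} [Field k]

/-- a monomorphism to a one-point integral scheme is an open immersion. -/
lemma isOpenImmersion_of_mono_of_subsingleton {Z Y : Scheme.{u}} (g : Z ⟶ Y) [Mono g]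
    [Subsingleton Y] [IsIntegral Y] : IsOpenImmersion g := by
  by_cases hne : Nonempty Z
  · haveI : Subsingleton Z := g.injective.subsingleton
    haveI : Finite Z := Finite.of_subsingleton
    haveI : CompactSpace Z := Finite.compactSpace
    haveI : QuasiSeparatedSpace Y := by
      haveI : Finite Y := Finite.of_subsingleton
      infer_instance
    haveI : QuasiCompact g := inferInstance
    haveI : Surjective g := ⟨fun y => by
      obtain ⟨z⟩ := hne
      exact ⟨z, Subsingleton.elim _ _⟩⟩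
    haveI : IsIso g := Flat.isIso_of_surjective_of_mono g
    infer_instance
  · haveI : IsEmpty Z := not_nonempty_iff.1 hne
    infer_instance

/-- a monomorphism to a scheme etale over a field is an open immersion. -/
theorem isOpenImmersion_of_mono_of_etale_field {Z Y : Scheme.{u}} (f : Z ⟶ Y) [Mono f]
    (π : Y ⟶ Spec (CommRingCat.of k)) [Etale π] : IsOpenImmersion f := by
  haveI := Groth.Agent.S10555.lqf_of_etale π
  obtain ⟨y₀⟩ : Nonempty ↥(Spec (CommRingCat.of k)) := ⟨IsLocalRing.closedPoint k⟩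
  have huniv : π ⁻¹' {y₀} = Set.univ := by
    ext x
    simp only [Set.mem_preimage, Set.mem_univ, iff_true]
    exact Subsingleton.elim _ _
  haveI hdisc : DiscreteTopology Y := by
    have := π.isDiscrete_preimage_singleton y₀
    rw [huniv] at this
    exact isDiscrete_univ_iff.1 this
  haveI : IsReduced Y := Groth.Agent.Lib.Helper12.Reduced.isReduced_of_smooth π
  let V : Y → Y.Opens := fun y => ⟨{y}, isOpen_discrete _⟩
  have hV : iSup V = ⊤ := by
    rw [eq_top_iff]
    intro y _
    exact TopologicalSpace.Opens.mem_iSup.2 ⟨y, rfl⟩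
  rw [IsZariskiLocalAtTarget.iff_of_iSup_eq_top (P := @IsOpenImmersion) V hV]
  intro y
  haveI : Subsingleton ↥(V y : Scheme.{u}) := by
    constructor
    rintro ⟨a, ha⟩ ⟨b, hb⟩
    exact Subtype.ext ((Set.mem_singleton_iff.1 ha).trans (Set.mem_singleton_iff.1 hb).symm)
  haveI : Nonempty ↥(V y : Scheme.{u}) := ⟨⟨y, rfl⟩⟩
  haveI : IrreducibleSpace ↥(V y : Scheme.{u}) := { toNonempty := inferInstance }
  haveI : IsIntegral (V y : Scheme.{u}) := isIntegral_of_irreducibleSpace_of_isReduced _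
  haveI : Mono (f ∣_ V y) := by
    have h : (f ∣_ V y) ≫ (V y).ι = (f ⁻¹ᵁ V y).ι ≫ f := morphismRestrict_ι f (V y)
    haveI : Mono ((f ∣_ V y) ≫ (V y).ι) := by rw [h]; infer_instance
    exact mono_of_mono _ (V y).ι
  exact isOpenImmersion_of_mono_of_subsingleton _


end FieldMono

variable {S : Scheme.{u}} {X : AlgSp.Sp S} {U R : Over S}

/-- the inclusion of the residue field of a point of a scheme over `S`. -/
noncomputable abbrev ptι (φ : (AlgSp.yon S).obj U ⟶ X) (u : ↥U.left) :
    (AlgSp.FieldPt.ofPt φ u).pt ⟶ U :=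
  Over.homMk (U.left.fromSpecResidueField u) rfl

lemma toHom_ofPt' (φ : (AlgSp.yon S).obj U ⟶ X) (u : ↥U.left) :
    (AlgSp.FieldPt.ofPt φ u).toHom = (AlgSp.yon S).map (ptι φ u) ≫ φ :=
  AlgSp.FieldPt.toHom_ofPt φ u

open Groth.Agent.Lib.Seat46.DecentPt in
/-- **Residue field points of etale charts.** If `φ : h_U ⟶ X` is representable etale with kernel pair
`R`, and only finitely many points of `R` lie over `(u, u)`, then the point of `X` defined by `u` is
represented by a monomorphism from the spectrum of a field, through which `Spec κ(u)` is finite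
etale. -/
theorem exists_mono_fieldPt_of_chart (φ : (AlgSp.yon S).obj U ⟶ X) (hφ : AlgSp.RepWith @Etale φ)
    (s t : R ⟶ U) (sqR : IsPullback ((AlgSp.yon S).map t) ((AlgSp.yon S).map s) φ φ) (u : ↥U.left)
    (hfin : {r : ↥R.left | s.left r = u ∧ t.left r = u}.Finite) :
    ∃ p : AlgSp.FieldPt X, AlgSp.Points.mk p = AlgSp.Points.ofPt φ u ∧ Mono p.toHom ∧
      ∃ c : (AlgSp.FieldPt.ofPt φ u).pt ⟶ p.pt,
        (AlgSp.yon S).map c ≫ p.toHom = (AlgSp.FieldPt.ofPt φ u).toHom ∧ IsFinite c.left ∧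
          Etale c.left ∧ Surjective c.left := by
  set q := AlgSp.FieldPt.ofPt φ u with hq
  let ι := ptι φ u
  have hqι : q.toHom = (AlgSp.yon S).map ι ≫ φ := toHom_ofPt' φ u
  haveI : Etale s.left := hφ.2 φ ((AlgSp.yon S).map t) s sqR
  haveI : Mono ι.left := inferInstanceAs (Mono (U.left.fromSpecResidueField u))
  -- first fibre product
  have sqA := IsPullback.of_hasPullback ι s
  set R₁ := pullback ι s
  set fst₁ : R₁ ⟶ q.pt := pullback.fst ι s
  set snd₁ : R₁ ⟶ R := pullback.snd ι s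
  have sqA' : IsPullback fst₁.left snd₁.left ι.left s.left := sqA.map (Over.forget S)
  haveI : Etale fst₁.left := MorphismProperty.of_isPullback sqA'.flip inferInstance
  -- second fibre product
  have sqB := IsPullback.of_hasPullback (snd₁ ≫ t) ι
  set Ru := pullback (snd₁ ≫ t) ι
  set fst₂ : Ru ⟶ R₁ := pullback.fst (snd₁ ≫ t) ι
  set snd₂ : Ru ⟶ q.pt := pullback.snd (snd₁ ≫ t) ι
  have sqB' : IsPullback fst₂.left snd₂.left (snd₁ ≫ t).left ι.left := sqB.map (Over.forget S)
  haveI : Mono fst₂.left := by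
    constructor
    intro Z a b hab
    apply sqB'.hom_ext hab
    rw [← cancel_mono ι.left, Category.assoc, Category.assoc, ← sqB'.w, ← Category.assoc,
      ← Category.assoc, hab]
  haveI : Mono snd₁.left := by
    constructor
    intro Z a b hab
    refine sqA'.hom_ext ?_ hab
    rw [← cancel_mono ι.left, Category.assoc, Category.assoc, sqA'.w, ← Category.assoc,
      ← Category.assoc, hab]
  haveI : IsOpenImmersion fst₂.left :=
    isOpenImmersion_of_mono_of_etale_field (k := q.K) fst₂.left fst₁.left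
  haveI : Etale (fst₂ ≫ fst₁).left := by
    rw [Over.comp_left]; infer_instance
  -- the kernel pair of the residue field point
  have sq1 : IsPullback ((AlgSp.yon S).map (snd₁ ≫ t)) ((AlgSp.yon S).map fst₁) φ q.toHom := by
    rw [hqι, Functor.map_comp]
    exact (sqA.flip.map (AlgSp.yon S)).paste_horiz sqR
  have sq2 : IsPullback ((AlgSp.yon S).map (fst₂ ≫ fst₁)) ((AlgSp.yon S).map snd₂) q.toHom q.toHom := by
    have := (sqB.map (AlgSp.yon S)).paste_horiz sq1.flip
    rw [← Functor.map_comp, ← hqι] at this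
    exact this
  -- compactness
  haveI : Finite ↥Ru.left := by
    have hinj : Function.Injective (fst₂ ≫ snd₁).left := by
      haveI : Mono (fst₂ ≫ snd₁).left := by rw [Over.comp_left]; infer_instance
      exact (fst₂ ≫ snd₁).left.injective
    have hmem : ∀ r : ↥Ru.left, (fst₂ ≫ snd₁).left r ∈
        {r : ↥R.left | s.left r = u ∧ t.left r = u} := by
      intro r
      constructor
      · have : (fst₂ ≫ snd₁).left ≫ s.left = (fst₂ ≫ fst₁).left ≫ ι.left := by
          rw [← Over.comp_left, ← Over.comp_left, Category.assoc, Category.assoc, sqA.w]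
        rw [← Scheme.Hom.comp_apply, this, Scheme.Hom.comp_apply]
        exact Scheme.fromSpecResidueField_apply _ _
      · have : (fst₂ ≫ snd₁).left ≫ t.left = snd₂.left ≫ ι.left := by
          rw [← Over.comp_left, ← Over.comp_left, Category.assoc, sqB.w]
        rw [← Scheme.Hom.comp_apply, this, Scheme.Hom.comp_apply]
        exact Scheme.fromSpecResidueField_apply _ _
    haveI := hfin.to_subtype
    exact Finite.of_injective (fun r => (⟨_, hmem r⟩ : {r : ↥R.left | s.left r = u ∧ t.left r = u}))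
      (fun a b hab => hinj (congrArg Subtype.val hab))
  haveI : CompactSpace ↥Ru.left := Finite.compactSpace
  obtain ⟨p, hp, hm, c, hc⟩ := exists_mono_fieldPt q (fst₂ ≫ fst₁) snd₂ sq2.flip
  exact ⟨p, hp, hm, c, hc⟩

section Pasting

variable {C : Type*} [Category C]

/-- `(A ×_X U) ×_A (A ×_X U)` is `A ×_X (U ×_X U)`. -/
lemma isPullback_kernelPair_baseChange {A T T₂ U R X : C} {f : A ⟶ X} {φ : U ⟶ X} {c : T ⟶ A}
    {b : T ⟶ U} (sqT : IsPullback c b f φ) {t s : R ⟶ U} (sqR : IsPullback t s φ φ)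
    {π₁ π₂ : T₂ ⟶ T} (sq₂ : IsPullback π₁ π₂ c c) (ρ : T₂ ⟶ R) (h1 : ρ ≫ t = π₁ ≫ b)
    (h2 : ρ ≫ s = π₂ ≫ b) : IsPullback ρ (π₁ ≫ c) (t ≫ φ) f := by
  have hw : ρ ≫ t ≫ φ = (π₁ ≫ c) ≫ f := by
    rw [← Category.assoc, h1, Category.assoc, Category.assoc, sqT.w]
  refine ⟨⟨hw⟩, ⟨PullbackCone.IsLimit.mk _ (fun cone => ?_) (fun cone => ?_) (fun cone => ?_)
    (fun cone m hm1 hm2 => ?_)⟩⟩
  · have w1 : cone.snd ≫ f = (cone.fst ≫ t) ≫ φ := by
      rw [Category.assoc]; exact cone.condition.symm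
    have w2 : cone.snd ≫ f = (cone.fst ≫ s) ≫ φ := by
      rw [Category.assoc, ← sqR.w]; exact cone.condition.symm
    exact sq₂.lift (sqT.lift cone.snd (cone.fst ≫ t) w1) (sqT.lift cone.snd (cone.fst ≫ s) w2)
      (by rw [sqT.lift_fst, sqT.lift_fst])
  · apply sqR.hom_ext
    · rw [Category.assoc, h1, sq₂.lift_fst_assoc, sqT.lift_snd]
    · rw [Category.assoc, h2, sq₂.lift_snd_assoc, sqT.lift_snd]
  · rw [sq₂.lift_fst_assoc, sqT.lift_fst]
  · apply sq₂.hom_ext
    · rw [sq₂.lift_fst]
      apply sqT.hom_ext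
      · rw [sqT.lift_fst, Category.assoc]; exact hm2
      · rw [sqT.lift_snd, Category.assoc, ← h1, ← Category.assoc, hm1]
    · rw [sq₂.lift_snd]
      apply sqT.hom_ext
      · rw [sqT.lift_fst, Category.assoc, ← sq₂.w]; exact hm2
      · rw [sqT.lift_snd, Category.assoc, ← h2, ← Category.assoc, hm1]

end Pasting

/-- points of a fibre product `h_T = h_{Spec k} ×_X h_U` map into the fibre over the point. -/
lemma range_subset_fibre_of_isPullback (φ : (AlgSp.yon S).obj U ⟶ X) (q : AlgSp.FieldPt X)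
    {T : Over S} (c : T ⟶ q.pt) (b : T ⟶ U)
    (sq : IsPullback ((AlgSp.yon S).map c) ((AlgSp.yon S).map b) q.toHom φ) :
    Set.range b.left ⊆ AlgSp.Points.ofPt φ ⁻¹' {AlgSp.Points.mk q} := by
  rintro _ ⟨y, rfl⟩
  change AlgSp.Points.ofPt φ (b.left y) = AlgSp.Points.mk q
  rw [← Groth.Agent.S10176.ofPt_map_comp, ← sq.w, Groth.Agent.S10176.ofPt_map_comp,
    AlgSp.Points.ofPt_toHom]

open Groth.Agent.Lib.Seat46.UBFField in
/-- if `h_{Spec k} ×_X h_U` is finite over `k`, only finitely many points of `U ×_X U` lie over the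
point of `X` defined by `Spec k`. -/
theorem finite_fibre_kernelPair (p : AlgSp.FieldPt X) (φ : (AlgSp.yon S).obj U ⟶ X) {T : Over S}
    (c : T ⟶ p.pt) (b : T ⟶ U)
    (sqT : IsPullback ((AlgSp.yon S).map c) ((AlgSp.yon S).map b) p.toHom φ) [IsFinite c.left]
    (s t : R ⟶ U) (sqR : IsPullback ((AlgSp.yon S).map t) ((AlgSp.yon S).map s) φ φ) :
    (AlgSp.Points.ofPt ((AlgSp.yon S).map t ≫ φ) ⁻¹' {AlgSp.Points.mk p}).Finite := by
  have sq₂ := IsPullback.of_hasPullback c c
  set T₂ := pullback c c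
  set π₁ : T₂ ⟶ T := pullback.fst c c
  set π₂ : T₂ ⟶ T := pullback.snd c c
  have hw : (AlgSp.yon S).map (π₁ ≫ b) ≫ φ = (AlgSp.yon S).map (π₂ ≫ b) ≫ φ := by
    rw [Functor.map_comp, Functor.map_comp, Category.assoc, Category.assoc, ← sqT.w,
      ← Category.assoc, ← Category.assoc, ← Functor.map_comp, ← Functor.map_comp, sq₂.w]
  obtain ⟨ρ, hρ⟩ := (AlgSp.yon S).map_surjective (sqR.lift _ _ hw)
  have h1 : (AlgSp.yon S).map ρ ≫ (AlgSp.yon S).map t = (AlgSp.yon S).map π₁ ≫ (AlgSp.yon S).map b := by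
    rw [hρ, sqR.lift_fst, Functor.map_comp]
  have h2 : (AlgSp.yon S).map ρ ≫ (AlgSp.yon S).map s = (AlgSp.yon S).map π₂ ≫ (AlgSp.yon S).map b := by
    rw [hρ, sqR.lift_snd, Functor.map_comp]
  have sqP := isPullback_kernelPair_baseChange sqT.flip.flip sqR (sq₂.map (AlgSp.yon S)) _ h1 h2
  rw [← Functor.map_comp] at sqP
  have hsub := Groth.Agent.Lib.Seat46.UnivBdd.fibre_subset_range_of_isPullback
    ((AlgSp.yon S).map t ≫ φ) p (π₁ ≫ c) ρ sqP.flip
  have sq₂' : IsPullback π₁.left π₂.left c.left c.left := sq₂.map (Over.forget S)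
  haveI : IsFinite π₁.left := MorphismProperty.of_isPullback sq₂'.flip inferInstance
  haveI : IsFinite (π₁ ≫ c).left := by rw [Over.comp_left]; infer_instance
  haveI : Finite ↥T₂.left := (finite_discrete_of_isFinite (K := p.K) (π₁ ≫ c).left).1
  exact (Set.finite_range _).subset hsub

end Groth.Agent.Lib.Seat46.DecentChart
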