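import Mathlib
import Groth.Agent.Lib.Seat45DegTower
import Groth.Agent.Lib.Seat45Baire
import Groth.Agent.Lib.Seat45QsSober
import Groth.Agent.Lib.Seat45Charts
import Groth.Agent.Lib.Seat83GeomFib
import Groth.Agent.S10360

/-!
# Decent algebraic spaces: an affine chart with quasi-compact relation, generic points (seat 45)

* `isSeparated_left_of_isPullback`, `etale_left_of_isPullback`: the projections of `R = U ×_F U` for an étale
  chart from an affine scheme are étale and separated.
* `isFinite_fibre`: on a decent space the scheme-theoretic fibres of `s : R ⟶ U` are finite.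
* `exists_affineOpen_isCompact_preimage`: on a decent space an affine étale chart `U` has a nonempty affine open
  `V` with `s⁻¹(V)` quasi-compact.
* `isPullback_restrict`: the relation of the chart restricted to an open `V ⊆ U`.
* `exists_isGenericPoint_univ`: a decent space with irreducible `|X|` has a generic point.
-/

set_option autoImplicit false
set_option linter.style.haveILetI false
universe u

open CategoryTheory CategoryTheory.Limits AlgebraicGeometry Topology TopologicalSpace

namespace Groth.Agent.Lib.Seat45.DecGen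

open Groth.Agent.Lib.Seat45.QsSober Groth.Agent.Lib.Seat45.Charts

variable {S : Scheme.{u}}

section Rel

variable {F : AlgSp.Sp S} {U R : Over S} {a : (AlgSp.yon S).obj U ⟶ F} {s t : R ⟶ U}

lemma etale_left_of_isPullback (ha : AlgSp.RepWith @Etale a)
    (sq : IsPullback ((AlgSp.yon S).map s) ((AlgSp.yon S).map t) a a) : Etale s.left ∧ Etale t.left :=
  ⟨ha.2 _ _ _ sq.flip, ha.2 _ _ _ sq⟩

/-- `(s, t)` is jointly monic on the underlying schemes. -/
lemma hom_ext_of_isPullback (sq : IsPullback ((AlgSp.yon S).map s) ((AlgSp.yon S).map t) a a)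
    {Z : Scheme.{u}} (f g : Z ⟶ R.left) (h1 : f ≫ s.left = g ≫ s.left) (h2 : f ≫ t.left = g ≫ t.left) :
    f = g := by
  have hfg : f ≫ R.hom = g ≫ R.hom := by
    rw [← Over.w s, ← Category.assoc, h1, Category.assoc]
  let f' : Over.mk (f ≫ R.hom) ⟶ R := Over.homMk f rfl
  let g' : Over.mk (f ≫ R.hom) ⟶ R := Over.homMk g hfg.symm
  have e : (AlgSp.yon S).map f' = (AlgSp.yon S).map g' := by
    apply sq.hom_ext
    · rw [← Functor.map_comp, ← Functor.map_comp]
      congr 1
      ext
      exact h1
    · rw [← Functor.map_comp, ← Functor.map_comp]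
      congr 1
      ext
      exact h2
  exact congrArg (fun φ => φ.left) ((AlgSp.yon S).map_injective e)

lemma isSeparated_left_of_isPullback [IsAffine U.left]
    (sq : IsPullback ((AlgSp.yon S).map s) ((AlgSp.yon S).map t) a a) :
    IsSeparated s.left ∧ IsSeparated t.left := by
  let m : R.left ⟶ pullback (terminal.from U.left) (terminal.from U.left) :=
    pullback.lift s.left t.left (terminal.hom_ext _ _)
  haveI : Mono m := ⟨fun f g h => hom_ext_of_isPullback sq f g
    (by
      have := congr($h ≫ pullback.fst _ _)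
      rwa [Category.assoc, Category.assoc, pullback.lift_fst] at this)
    (by
      have := congr($h ≫ pullback.snd _ _)
      rwa [Category.assoc, Category.assoc, pullback.lift_snd] at this)⟩
  haveI : IsSeparated (terminal.from R.left) := by
    rw [show terminal.from R.left = m ≫ terminal.from _ from terminal.hom_ext _ _]
    infer_instance
  constructor
  · haveI : IsSeparated (s.left ≫ terminal.from U.left) := by
      rw [show s.left ≫ terminal.from U.left = terminal.from R.left from terminal.hom_ext _ _]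
      infer_instance
    exact IsSeparated.of_comp s.left (terminal.from U.left)
  · haveI : IsSeparated (t.left ≫ terminal.from U.left) := by
      rw [show t.left ≫ terminal.from U.left = terminal.from R.left from terminal.hom_ext _ _]
      infer_instance
    exact IsSeparated.of_comp t.left (terminal.from U.left)

end Rel

/-- On a decent algebraic space, the scheme-theoretic fibres of `s : U ×_X U ⟶ U` (`U` affine, étale over `X`)
are finite over the residue fields. -/
theorem isFinite_fibre (X : AlgSp.Space S) (hX : AlgSp.IsDecent X.obj) {U R : Over S} [IsAffine U.left]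
    (a : (AlgSp.yon S).obj U ⟶ X.obj) (ha : AlgSp.RepWith @Etale a) (s t : R ⟶ U)
    (sq : IsPullback ((AlgSp.yon S).map s) ((AlgSp.yon S).map t) a a) (y : ↥U.left) :
    IsFinite (pullback.snd s.left (U.left.fromSpecResidueField y)) := by
  haveI : Etale s.left := (etale_left_of_isPullback ha sq).1
  have hfin := ((Groth.Agent.S10360.result X (AlgSp.Points.ofPt a y)).2 (hX _) U a inferInstance ha R t s sq).2
  set Fy := pullback s.left (U.left.fromSpecResidueField y) with hFy
  have hmem : ∀ p : ↥Fy, pullback.fst s.left (U.left.fromSpecResidueField y) p ∈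
      AlgSp.Points.ofPt ((AlgSp.yon S).map s ≫ a) ⁻¹' {AlgSp.Points.ofPt a y} := by
    intro p
    rw [Set.mem_preimage, Set.mem_singleton_iff, Groth.Agent.S10176.ofPt_map_comp]
    congr 1
    rw [← Scheme.Hom.comp_apply, pullback.condition, Scheme.Hom.comp_apply,
      Scheme.fromSpecResidueField_apply]
  haveI : Finite ↥(AlgSp.Points.ofPt ((AlgSp.yon S).map s ≫ a) ⁻¹' {AlgSp.Points.ofPt a y}) :=
    hfin.to_subtype
  haveI : Finite ↥Fy := Finite.of_injective
    (fun p => (⟨pullback.fst s.left (U.left.fromSpecResidueField y) p, hmem p⟩ :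
      ↥(AlgSp.Points.ofPt ((AlgSp.yon S).map s ≫ a) ⁻¹' {AlgSp.Points.ofPt a y})))
    (fun p p' h => (pullback.fst s.left (U.left.fromSpecResidueField y)).isEmbedding.injective
      (congrArg Subtype.val h))
  haveI : QuasiCompact (pullback.snd s.left (U.left.fromSpecResidueField y)) :=
    (HasAffineProperty.iff_of_isAffine (P := @QuasiCompact)).2 inferInstance
  haveI : LocallyQuasiFinite (pullback.snd s.left (U.left.fromSpecResidueField y)) :=
    Groth.Agent.Lib.Seat45.EtDim.locallyQuasiFinite_of_etale _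
  exact IsFinite.of_locallyQuasiFinite _

/-- On a decent algebraic space, an étale chart from a nonempty affine scheme `U` has a nonempty affine open `V`
such that `s⁻¹(V) = V ×_X U` is quasi-compact. -/
theorem exists_affineOpen_isCompact_preimage (X : AlgSp.Space S) (hX : AlgSp.IsDecent X.obj) {U R : Over S}
    [IsAffine U.left] [Nonempty ↥U.left]
    (a : (AlgSp.yon S).obj U ⟶ X.obj) (ha : AlgSp.RepWith @Etale a) (s t : R ⟶ U)
    (sq : IsPullback ((AlgSp.yon S).map s) ((AlgSp.yon S).map t) a a) :
    ∃ V : U.left.Opens, IsAffineOpen V ∧ (V : Set ↥U.left).Nonempty ∧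
      IsCompact (s.left ⁻¹' (V : Set ↥U.left)) := by
  haveI : Etale s.left := (etale_left_of_isPullback ha sq).1
  haveI : IsSeparated s.left := (isSeparated_left_of_isPullback sq).1
  have hfin := isFinite_fibre X hX a ha s t sq
  obtain ⟨n, V, hV, hVne, h1, h2⟩ := Baire.exists_affineOpen (fun n => DegTower.Uopen s.left n)
    (fun y => by haveI := hfin y; exact DegTower.exists_not_mem_Uopen s.left y)
  refine ⟨V, hV, hVne, ?_⟩
  cases n with
  | zero =>
    exfalso
    obtain ⟨v, hv⟩ := hVne
    rw [DegTower.Uopen_zero] at h2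
    exact (h2.le_bot ⟨hv, trivial⟩ : v ∈ (⊥ : U.left.Opens))
  | succ m => exact DegTower.isCompact_preimage s.left m V hV.isCompact (h1 m (Nat.lt_succ_self m)) h2

section Restrict

variable {F : AlgSp.Sp S} {U R : Over S} (a : (AlgSp.yon S).obj U ⟶ F) (s t : R ⟶ U) (V : U.left.Opens)

/-- `s⁻¹(V)` as a scheme over `S`. -/
noncomputable abbrev R1 : Over S := resObj R (s.left ⁻¹ᵁ V)

/-- `s` restricted to `s⁻¹(V) ⟶ V`. -/
noncomputable def s1 : R1 s V ⟶ resObj U V :=
  Over.homMk (s.left ∣_ V) (by
    change (s.left ∣_ V) ≫ V.ι ≫ U.hom = (s.left ⁻¹ᵁ V).ι ≫ R.hom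
    rw [morphismRestrict_ι_assoc, Over.w s])

/-- `t` on `s⁻¹(V)`. -/
noncomputable def t1 : R1 s V ⟶ U := resHom R (s.left ⁻¹ᵁ V) ≫ t

/-- `s⁻¹(V) ∩ t⁻¹(V)` as a scheme over `S`. -/
noncomputable abbrev R2 : Over S := resObj (R1 s V) ((t1 s t V).left ⁻¹ᵁ V)

/-- `t` restricted to `s⁻¹(V) ∩ t⁻¹(V) ⟶ V`. -/
noncomputable def t2 : R2 s t V ⟶ resObj U V :=
  Over.homMk ((t1 s t V).left ∣_ V) (by
    change ((t1 s t V).left ∣_ V) ≫ V.ι ≫ U.hom = ((t1 s t V).left ⁻¹ᵁ V).ι ≫ (R1 s V).hom
    rw [morphismRestrict_ι_assoc, Over.w (t1 s t V)])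

/-- `s` restricted to `s⁻¹(V) ∩ t⁻¹(V) ⟶ V`. -/
noncomputable def s2 : R2 s t V ⟶ resObj U V := resHom (R1 s V) ((t1 s t V).left ⁻¹ᵁ V) ≫ s1 s V

variable {a s t}

lemma isPullback_R1 (sq : IsPullback ((AlgSp.yon S).map s) ((AlgSp.yon S).map t) a a) :
    IsPullback ((AlgSp.yon S).map (s1 s V)) ((AlgSp.yon S).map (t1 s t V))
      ((AlgSp.yon S).map (resHom U V) ≫ a) a := by
  have hL : IsPullback ((AlgSp.yon S).map (s1 s V)) ((AlgSp.yon S).map (resHom R (s.left ⁻¹ᵁ V)))
      ((AlgSp.yon S).map (resHom U V)) ((AlgSp.yon S).map s) :=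
    (Groth.Agent.Lib.Seat83.GeomFib.isPullback_yon_iff _ _ _ _).2 (isPullback_morphismRestrict s.left V)
  have := hL.paste_vert sq
  rwa [← Functor.map_comp] at this

/-- The relation of the chart restricted to the open `V ⊆ U`. -/
theorem isPullback_restrict (sq : IsPullback ((AlgSp.yon S).map s) ((AlgSp.yon S).map t) a a) :
    IsPullback ((AlgSp.yon S).map (s2 s t V)) ((AlgSp.yon S).map (t2 s t V))
      ((AlgSp.yon S).map (resHom U V) ≫ a) ((AlgSp.yon S).map (resHom U V) ≫ a) := by
  have hM : IsPullback ((AlgSp.yon S).map (t2 s t V))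
      ((AlgSp.yon S).map (resHom (R1 s V) ((t1 s t V).left ⁻¹ᵁ V)))
      ((AlgSp.yon S).map (resHom U V)) ((AlgSp.yon S).map (t1 s t V)) :=
    (Groth.Agent.Lib.Seat83.GeomFib.isPullback_yon_iff _ _ _ _).2
      (isPullback_morphismRestrict (t1 s t V).left V)
  have := hM.paste_vert (isPullback_R1 V sq).flip
  rw [← Functor.map_comp] at this
  exact this.flip

/-- if `s⁻¹(V)` is quasi-compact, `V` affine and `U` affine, the restricted relation is quasi-compact. -/
theorem compactSpace_R2 [IsAffine U.left] (hV : IsAffineOpen V)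
    (hc : IsCompact (s.left ⁻¹' (V : Set ↥U.left))) : CompactSpace ↥(R2 s t V).left := by
  haveI : CompactSpace ↥(R1 s V).left := isCompact_iff_compactSpace.1 hc
  haveI : QuasiCompact (t1 s t V).left :=
    (HasAffineProperty.iff_of_isAffine (P := @QuasiCompact)).2 inferInstance
  exact isCompact_iff_compactSpace.1
    (QuasiCompact.isCompact_preimage (f := (t1 s t V).left) _ V.isOpen hV.isCompact)

end Restrict

/-- A decent algebraic space: every étale chart from a nonempty affine scheme restricts, on a nonempty affine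
open, to a chart with quasi-compact relation. -/
theorem exists_chart_compact_rel (X : AlgSp.Space S) (hX : AlgSp.IsDecent X.obj) {U : Over S}
    [IsAffine U.left] [Nonempty ↥U.left] (a : (AlgSp.yon S).obj U ⟶ X.obj) (ha : AlgSp.RepWith @Etale a) :
    ∃ (V : U.left.Opens) (R' : Over S) (s' t' : R' ⟶ resObj U V), IsAffineOpen V ∧ (V : Set ↥U.left).Nonempty ∧
      CompactSpace ↥R'.left ∧
      IsPullback ((AlgSp.yon S).map s') ((AlgSp.yon S).map t')
        ((AlgSp.yon S).map (resHom U V) ≫ a) ((AlgSp.yon S).map (resHom U V) ≫ a) := by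
  obtain ⟨R, t, s', sq⟩ := ha.1 a
  obtain ⟨s, rfl⟩ := (AlgSp.yon S).map_surjective s'
  obtain ⟨V, hV, hVne, hc⟩ := exists_affineOpen_isCompact_preimage X hX a ha s t sq
  exact ⟨V, R2 s t V, s2 s t V, t2 s t V, hV, hVne, compactSpace_R2 V hV hc, isPullback_restrict V sq⟩

/-- A decent algebraic space whose space of points is irreducible has a generic point. -/
theorem exists_isGenericPoint_univ (X : AlgSp.Space S) (hX : AlgSp.IsDecent X.obj)
    [IrreducibleSpace (AlgSp.Points X.obj)] :
    ∃ ξ : AlgSp.Points X.obj, IsGenericPoint ξ (Set.univ : Set (AlgSp.Points X.obj)) := by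
  obtain ⟨x₀⟩ := (inferInstance : Nonempty (AlgSp.Points X.obj))
  obtain ⟨U₀, a₀, u₀, ha₀, -⟩ := exists_chart X.property x₀
  obtain ⟨_, ⟨N, hN, rfl⟩, hu₀N, -⟩ := U₀.left.isBasis_affineOpens.exists_subset_of_mem_open
    (Set.mem_univ u₀) isOpen_univ
  haveI : IsAffine (resObj U₀ N).left := hN
  haveI : Nonempty ↥(resObj U₀ N).left := ⟨⟨u₀, hu₀N⟩⟩
  have ha : AlgSp.RepWith @Etale ((AlgSp.yon S).map (resHom U₀ N) ≫ a₀) := repWith_etale_res a₀ ha₀ N
  obtain ⟨V, R', s', t', hV, ⟨v, hv⟩, hR', sq'⟩ := exists_chart_compact_rel X hX _ ha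
  haveI : IsAffine (resObj (resObj U₀ N) V).left := hV
  haveI := hR'
  obtain ⟨ξ, -, hξ⟩ := exists_isGenericPoint _ (repWith_etale_res _ ha V) s' t' sq' Set.univ
    (IrreducibleSpace.isIrreducible_univ _).2 isClosed_univ
    ⟨_, Set.mem_univ _, ⟨⟨v, hv⟩, rfl⟩⟩
  exact ⟨ξ, hξ⟩

end Groth.Agent.Lib.Seat45.DecGen
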