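import Mathlib
import Groth.Agent.Lib.Seat45DegTower

/-!
# Finiteness over the locus of constant fibre degree (seat 45)

* `universallyClosed_of_sections`: a morphism with finitely many sections that jointly cover the source is
  universally closed.
* `isFinite_morphismRestrict`: for an étale separated `s : R ⟶ U` and an open `V ⊆ U_n` disjoint from
  `U_{n+1}` (notation of `Seat45DegTower`), the restriction `s⁻¹(V) ⟶ V` is finite.
-/

set_option autoImplicit false
set_option linter.style.haveILetI false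
universe u

open CategoryTheory CategoryTheory.Limits AlgebraicGeometry Topology TopologicalSpace

namespace Groth.Agent.Lib.Seat45.DegTower

section Sections

variable {P W : Scheme.{u}}

/-- iterated binary coproduct of copies of `W`. -/
noncomputable def copow (W : Scheme.{u}) : ℕ → Scheme.{u}
  | 0 => ⊥_ Scheme.{u}
  | n + 1 => W ⨿ copow W n

/-- the map from the iterated coproduct given by a list of maps. -/
noncomputable def descList : (l : List (W ⟶ P)) → (copow W l.length ⟶ P)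
  | [] => initial.to P
  | σ :: l => coprod.desc σ (descList l)

set_option backward.isDefEq.respectTransparency.types false in
lemma isFinite_descList_comp (g : P ⟶ W) (l : List (W ⟶ P)) (hsec : ∀ σ ∈ l, σ ≫ g = 𝟙 W) :
    IsFinite (descList l ≫ g) := by
  induction l with
  | nil =>
    haveI : IsEmpty ↥(copow W ([] : List (W ⟶ P)).length) := inferInstanceAs (IsEmpty ↥(⊥_ Scheme.{u}))
    infer_instance
  | cons σ l ih =>
    haveI := ih (fun σ' h => hsec σ' (List.mem_cons_of_mem _ h))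
    have h1 : (coprod.desc σ (descList l) : W ⨿ copow W l.length ⟶ P) ≫ g =
        coprod.desc (𝟙 W) (descList l ≫ g) := by
      ext <;> simp [hsec σ List.mem_cons_self]
    change IsFinite ((coprod.desc σ (descList l) : W ⨿ copow W l.length ⟶ P) ≫ g)
    rw [h1]
    infer_instance

lemma range_subset_range_descList (l : List (W ⟶ P)) :
    ∀ σ ∈ l, Set.range σ ⊆ Set.range (descList l) := by
  induction l with
  | nil => intro σ h; simp at h
  | cons σ₀ l ih =>
    intro σ h
    rcases List.mem_cons.1 h with rfl | h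
    · rintro _ ⟨w, rfl⟩
      refine ⟨(coprod.inl : W ⟶ W ⨿ copow W l.length) w, ?_⟩
      change (coprod.desc σ (descList l)) _ = _
      rw [← Scheme.Hom.comp_apply, coprod.inl_desc]
    · rintro _ hp
      obtain ⟨c, rfl⟩ := ih σ h hp
      refine ⟨(coprod.inr : copow W l.length ⟶ W ⨿ copow W l.length) c, ?_⟩
      change (coprod.desc σ₀ (descList l)) _ = _
      rw [← Scheme.Hom.comp_apply, coprod.inr_desc]

/-- A morphism with finitely many sections that jointly cover the source is universally closed. -/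
theorem universallyClosed_of_sections (g : P ⟶ W) (l : List (W ⟶ P)) (hsec : ∀ σ ∈ l, σ ≫ g = 𝟙 W)
    (hcov : ∀ p : ↥P, ∃ σ ∈ l, p ∈ Set.range σ) : UniversallyClosed g := by
  haveI : IsFinite (descList l ≫ g) := isFinite_descList_comp g l hsec
  haveI : Surjective (descList l) := ⟨fun p => by
    obtain ⟨σ, hσ, hp⟩ := hcov p
    exact range_subset_range_descList l σ hσ hp⟩
  exact UniversallyClosed.of_comp_surjective (descList l) g

end Sections

variable {R U : Scheme.{u}} (s : R ⟶ U) [Etale s] [IsSeparated s]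

set_option backward.isDefEq.respectTransparency.types false in
/-- For an open `V ⊆ U_n` disjoint from `U_{n+1}`, the restriction `s⁻¹(V) ⟶ V` is finite. -/
theorem isFinite_morphismRestrict (n : ℕ) (V : U.Opens) (hV1 : V ≤ Uopen s n)
    (hV2 : Disjoint V (Uopen s (n + 1))) : IsFinite (s ∣_ V) := by
  set L := lvl s n with hL
  haveI := L.etale
  let G : pullback s L.π ⟶ L.W := pullback.snd s L.π
  let N : L.W.Opens := L.π ⁻¹ᵁ V
  -- the sections over `N`
  have hrange : ∀ i : Fin n, Set.range (N.ι ≫ L.sec i) ⊆ Set.range (G ⁻¹ᵁ N).ι := by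
    rintro i _ ⟨z, rfl⟩
    rw [Scheme.Opens.range_ι]
    change G ((N.ι ≫ L.sec i) z) ∈ N
    rw [← Scheme.Hom.comp_apply, Category.assoc, Lvl.sec_snd, Category.comp_id]
    exact z.2
  let τ : Fin n → ((N : Scheme.{u}) ⟶ ((G ⁻¹ᵁ N : (pullback s L.π).Opens) : Scheme.{u})) := fun i =>
    IsOpenImmersion.lift (G ⁻¹ᵁ N).ι (N.ι ≫ L.sec i) (hrange i)
  have hτι : ∀ i, τ i ≫ (G ⁻¹ᵁ N).ι = N.ι ≫ L.sec i := fun i => IsOpenImmersion.lift_fac _ _ _
  have hτ : ∀ i, τ i ≫ (G ∣_ N) = 𝟙 _ := by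
    intro i
    rw [← cancel_mono N.ι, Category.assoc, morphismRestrict_ι, ← Category.assoc, hτι, Category.assoc,
      Lvl.sec_snd, Category.comp_id, Category.id_comp]
  have hcov : ∀ p : ↥((G ⁻¹ᵁ N : (pullback s L.π).Opens) : Scheme.{u}),
      ∃ σ ∈ List.ofFn τ, p ∈ Set.range σ := by
    intro p
    have hpN : L.π (G p.1) ∈ V := p.2
    have hnotO : p.1 ∉ L.O := by
      intro hO
      refine Set.disjoint_left.1 (Opens.coe_disjoint.2 hV2) hpN ?_
      rw [SetLike.mem_coe, mem_Uopen_iff]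
      exact ⟨(⟨p.1, hO⟩ : ↥(L.O : Scheme.{u})), rfl⟩
    rw [Lvl.mem_O_iff] at hnotO
    push Not at hnotO
    obtain ⟨i, z, hz⟩ := hnotO
    have hzN : z ∈ N := by
      have : G p.1 = z := by
        rw [← hz, ← Scheme.Hom.comp_apply, Lvl.sec_snd]; rfl
      change L.π z ∈ V
      rw [← this]; exact hpN
    refine ⟨τ i, (List.mem_ofFn' τ (τ i)).2 ⟨i, rfl⟩, ⟨⟨z, hzN⟩, ?_⟩⟩
    apply Subtype.ext
    change ((G ⁻¹ᵁ N).ι) (τ i ⟨z, hzN⟩) = p.1
    rw [← Scheme.Hom.comp_apply, hτι, Scheme.Hom.comp_apply]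
    exact hz
  haveI hUC : UniversallyClosed (G ∣_ N) :=
    universallyClosed_of_sections (G ∣_ N) (List.ofFn τ)
      (fun σ hσ => by obtain ⟨i, rfl⟩ := (List.mem_ofFn' τ σ).1 hσ; exact hτ i) hcov
  -- the cartesian square
  have hrange' : Set.range ((G ⁻¹ᵁ N).ι ≫ pullback.fst s L.π) ⊆ Set.range (s ⁻¹ᵁ V).ι := by
    rintro _ ⟨p, rfl⟩
    rw [Scheme.Opens.range_ι]
    change s (((G ⁻¹ᵁ N).ι ≫ pullback.fst s L.π) p) ∈ V
    rw [← Scheme.Hom.comp_apply, Category.assoc, pullback.condition]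
    exact p.2
  let φ : ((G ⁻¹ᵁ N : (pullback s L.π).Opens) : Scheme.{u}) ⟶ ((s ⁻¹ᵁ V : R.Opens) : Scheme.{u}) :=
    IsOpenImmersion.lift (s ⁻¹ᵁ V).ι ((G ⁻¹ᵁ N).ι ≫ pullback.fst s L.π) hrange'
  have hφι : φ ≫ (s ⁻¹ᵁ V).ι = (G ⁻¹ᵁ N).ι ≫ pullback.fst s L.π := IsOpenImmersion.lift_fac _ _ _
  have hcomm : φ ≫ (s ∣_ V) = (G ∣_ N) ≫ (L.π ∣_ V) := by
    rw [← cancel_mono V.ι, Category.assoc, Category.assoc, morphismRestrict_ι, morphismRestrict_ι,
      ← Category.assoc, hφι, ← Category.assoc, morphismRestrict_ι, Category.assoc, Category.assoc,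
      pullback.condition]
  have hbig : IsPullback (φ ≫ (s ⁻¹ᵁ V).ι) (G ∣_ N) s ((L.π ∣_ V) ≫ V.ι) := by
    rw [hφι, morphismRestrict_ι]
    exact (isPullback_morphismRestrict G N).flip.paste_horiz (IsPullback.of_hasPullback s L.π)
  have hsq : IsPullback φ (G ∣_ N) (s ∣_ V) (L.π ∣_ V) :=
    IsPullback.of_right hbig hcomm (isPullback_morphismRestrict s V).flip
  -- descent
  have hsurj : Surjective (L.π ∣_ V) := ⟨fun v => by
    obtain ⟨z, hz⟩ := hV1 v.2
    refine ⟨⟨z, show L.π z ∈ V by rw [hz]; exact v.2⟩, Subtype.ext ?_⟩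
    have := congr($(morphismRestrict_ι L.π V) ⟨z, show L.π z ∈ V by rw [hz]; exact v.2⟩)
    rw [Scheme.Hom.comp_apply, Scheme.Hom.comp_apply] at this
    exact this.trans hz⟩
  haveI : UniversallyClosed (s ∣_ V) :=
    MorphismProperty.of_isPullback_of_descendsAlong (P := @UniversallyClosed)
      (Q := @Surjective ⊓ @Flat ⊓ @LocallyOfFinitePresentation) hsq.flip
      ⟨⟨hsurj, inferInstance⟩, inferInstance⟩ hUC
  haveI : IsProper (s ∣_ V) := {}
  haveI : LocallyQuasiFinite (s ∣_ V) := Groth.Agent.Lib.Seat45.EtDim.locallyQuasiFinite_of_etale _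
  exact IsFinite.of_isProper_of_locallyQuasiFinite _

end Groth.Agent.Lib.Seat45.DegTower
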