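import Mathlib
import Groth.Prelude.Def_AlgSp
import Groth.Agent.Lib.Seat46FieldQuot

/-!
# Quotient of an affine scheme by a finite etale equivalence relation (seat 45)

Generalisation of `Seat46FieldQuot.exists_mono_factor` from spectra of fields to affine schemes:
if the kernel pair of `p : h_U ⟶ X` (`U` affine) is represented by an affine scheme `R` finite etale
over `U`, then `p = h_c ≫ m` with `c : U ⟶ M` finite etale surjective and `m` a monomorphism.
-/

set_option autoImplicit false
set_option linter.style.haveILetI false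
universe u
open CategoryTheory CategoryTheory.Limits AlgebraicGeometry

namespace Groth.Agent.Lib.Seat45.FinEtQuot

open Groth.Agent.Lib.Seat46.FieldQuot Groth.Agent.Lib.Seat46.UBFField
open Groth.Agent.Lib.Seat33.PairGrpd Groth.Agent.Lib.Seat33.SubGrpd

variable {S : Scheme.{u}} {X : AlgSp.Sp S}

open Groth.Agent.Lib.Helper9 in
/-- **Quotient of an affine scheme by a finite etale equivalence relation.** -/
theorem exists_mono_factor_affine' {U R : Over S} (p : (AlgSp.yon S).obj U ⟶ X) (s t : R ⟶ U)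
    (sq : IsPullback ((AlgSp.yon S).map t) ((AlgSp.yon S).map s) p p)
    [IsAffine U.left] [IsAffine R.left] [IsFinite s.left] [Etale s.left] :
    ∃ (M : Over S) (c : U ⟶ M) (m : (AlgSp.yon S).obj M ⟶ X), IsAffine M.left ∧
      (AlgSp.yon S).map c ≫ m = p ∧ Mono m ∧ IsFinite c.left ∧ Etale c.left ∧
        Surjective c.left := by
  let G := grpd sq
  haveI : IsAffine G.U := (inferInstance : IsAffine U.left)
  haveI : IsAffine G.R := (inferInstance : IsAffine R.left)
  have hGs : G.s = s.left := grpd_s sq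
  have hGt : G.t = t.left := grpd_t sq
  haveI : IsFinite G.s := by
    have h : IsFinite s.left := inferInstance
    rw [hGs]; exact h
  haveI : Etale G.s := by
    have h : Etale s.left := inferInstance
    rw [hGs]; exact h
  haveI : Flat G.s := inferInstance
  haveI : LocallyOfFinitePresentation G.s := inferInstance
  have hpb : IsPullback G.t G.s G.toQuot G.toQuot := Groth.Agent.Lib.Seat19.FFQ.isPullback_toQuot G
  obtain ⟨hqfin, hqflat, hqfp⟩ := Groth.Agent.Lib.Seat19.FFQ.toQuot_props G
  haveI : Surjective G.toQuot := ⟨Groth.Agent.Lib.Seat19.Quot1.toQuot_surjective G⟩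
  haveI := hqfin
  haveI := hqflat
  haveI := hqfp
  have hqet : Etale G.toQuot :=
    (Groth.Agent.Lib.Helper12.LocPCases.good_etale.desc).of_isPullback hpb.flip
      ⟨⟨inferInstance, inferInstance⟩, inferInstance⟩ (inferInstance : Etale G.s)
  -- the structure morphism of the quotient
  have hdesc : ∀ {Z : Scheme.{u}} (g₁ g₂ : Z ⟶ G.U), g₁ ≫ G.toQuot = g₂ ≫ G.toQuot →
      g₁ ≫ G.pU = g₂ ≫ G.pU := by
    intro Z g₁ g₂ h
    have h1 : hpb.lift g₁ g₂ h ≫ G.t = g₁ := hpb.lift_fst _ _ _
    have h2 : hpb.lift g₁ g₂ h ≫ G.s = g₂ := hpb.lift_snd _ _ _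
    calc g₁ ≫ G.pU = (hpb.lift g₁ g₂ h ≫ G.t) ≫ G.pU := by rw [h1]
      _ = (hpb.lift g₁ g₂ h ≫ G.s) ≫ G.pU := by
          rw [Category.assoc, Category.assoc, G.t_over, G.s_over]
      _ = g₂ ≫ G.pU := by rw [h2]
  let str' : Spec (CommRingCat.of ↥G.invariants) ⟶ S := EffectiveEpi.desc G.toQuot G.pU hdesc
  have hfac : G.toQuot ≫ str' = U.hom := EffectiveEpi.fac G.toQuot G.pU hdesc
  let c : U ⟶ Over.mk str' := Over.homMk G.toQuot hfac
  refine ⟨Over.mk str', c, ?_⟩
  -- the kernel pair of `h_c`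
  have hpb' : IsPullback t.left s.left c.left c.left := by
    have := hpb
    rw [hGt, hGs] at this
    exact this
  have hw : t ≫ c = s ≫ c := by ext; exact hpb'.w
  have hpbO : IsPullback t s c c := IsPullback.of_map (Over.forget S) hw hpb'
  have hq : IsPullback ((AlgSp.yon S).map t) ((AlgSp.yon S).map s) ((AlgSp.yon S).map c)
      ((AlgSp.yon S).map c) := hpbO.map (AlgSp.yon S)
  -- `h_c` is an epimorphism
  have h1 : AlgSp.RepWith @Flat ((AlgSp.yon S).map c) := (AlgSp.repWith_yon_map_iff @Flat c).2 hqflat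
  have h2 : AlgSp.RepWith @LocallyOfFinitePresentation ((AlgSp.yon S).map c) :=
    (AlgSp.repWith_yon_map_iff @LocallyOfFinitePresentation c).2 hqfp
  have h3 : AlgSp.RepWith @Surjective ((AlgSp.yon S).map c) :=
    (AlgSp.repWith_yon_map_iff @Surjective c).2 (inferInstance : Surjective G.toQuot)
  haveI := Groth.Agent.S9885.isLocallySurjective_of_repWith _ h1 h2 h3
  haveI hepi : Epi ((AlgSp.yon S).map c) := (Sheaf.isLocallySurjective_iff_epi _).1 inferInstance
  haveI : IsRegularEpi ((AlgSp.yon S).map c) := IsRegularEpiCategory.regularEpiOfEpi _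
  obtain ⟨m, hm⟩ := IsRegularEpi.exists_of_isKernelPair ((AlgSp.yon S).map c) hq p sq.w
  refine ⟨m, ?_, hm, ?_, hqfin, hqet, (inferInstance : Surjective G.toQuot)⟩
  · change IsAffine (Spec (CommRingCat.of ↥G.invariants))
    infer_instance
  constructor
  intro W a b hab
  obtain ⟨W', e', he', a', b', ha', hb'⟩ :=
    ToposLike.exists_local_lift₂ ((AlgSp.yon S).map c) hepi a b
  have h4 : a' ≫ p = b' ≫ p := by
    rw [← hm, ← Category.assoc, ← Category.assoc, ← ha', ← hb', Category.assoc, Category.assoc, hab]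
  have h5 : a' ≫ (AlgSp.yon S).map c = b' ≫ (AlgSp.yon S).map c := by
    have e1 : sq.lift a' b' h4 ≫ (AlgSp.yon S).map t = a' := sq.lift_fst _ _ _
    have e2 : sq.lift a' b' h4 ≫ (AlgSp.yon S).map s = b' := sq.lift_snd _ _ _
    calc a' ≫ (AlgSp.yon S).map c = (sq.lift a' b' h4 ≫ (AlgSp.yon S).map t) ≫ (AlgSp.yon S).map c := by
          rw [e1]
      _ = (sq.lift a' b' h4 ≫ (AlgSp.yon S).map s) ≫ (AlgSp.yon S).map c := by
          rw [Category.assoc, Category.assoc, hq.w]
      _ = b' ≫ (AlgSp.yon S).map c := by rw [e2]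
  rw [← cancel_epi e', ha', hb', h5]

/-- **Quotient of an affine scheme by a finite etale equivalence relation** (without the affineness of the
quotient in the conclusion). -/
theorem exists_mono_factor_affine {U R : Over S} (p : (AlgSp.yon S).obj U ⟶ X) (s t : R ⟶ U)
    (sq : IsPullback ((AlgSp.yon S).map t) ((AlgSp.yon S).map s) p p)
    [IsAffine U.left] [IsAffine R.left] [IsFinite s.left] [Etale s.left] :
    ∃ (M : Over S) (c : U ⟶ M) (m : (AlgSp.yon S).obj M ⟶ X),
      (AlgSp.yon S).map c ≫ m = p ∧ Mono m ∧ IsFinite c.left ∧ Etale c.left ∧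
        Surjective c.left := by
  obtain ⟨M, c, m, -, h⟩ := exists_mono_factor_affine' p s t sq
  exact ⟨M, c, m, h⟩

end Groth.Agent.Lib.Seat45.FinEtQuot
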