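import Mathlib
import Groth.Prelude.Def_AlgSp
import Groth.Prelude.Def_AlgSp2
import Groth.Agent.S1881
import Groth.Agent.S10176
import Groth.Agent.S10177
import Groth.Agent.S10212
import Groth.Agent.S10261
import Groth.Agent.S10555
import Groth.Agent.Lib.Seat45FinEtQuot
import Groth.Agent.Lib.Seat45CodimZeroAffine
import Groth.Agent.Lib.Seat45EtDim

/-!
# Open subschemes of a space with a finite etale cover by a quasi-separated scheme (seat 45)
-/

set_option autoImplicit false
set_option linter.style.haveILetI false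
universe u
open CategoryTheory CategoryTheory.Limits AlgebraicGeometry

namespace Groth.Agent.Lib.Seat45.FinEtCover

open Groth.Agent.Lib.Seat46.FieldQuot Groth.Agent.Lib.Seat45.FinEtQuot

/-- moving a monomorphism across a pullback square. -/
lemma isPullback_of_comp_mono {C : Type*} [Category C] {P A B C' D : C} (f : P ⟶ A) (i : A ⟶ B)
    [Mono i] (g : P ⟶ C') (a : B ⟶ D) (b : C' ⟶ D) (h : IsPullback (f ≫ i) g a b) :
    IsPullback f g (i ≫ a) b := by
  refine ⟨⟨by rw [← Category.assoc, h.w]⟩, ⟨PullbackCone.IsLimit.mk _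
    (fun c => h.lift (c.fst ≫ i) c.snd (by rw [Category.assoc, c.condition])) ?_ ?_ ?_⟩⟩
  · intro c
    rw [← cancel_mono i, Category.assoc, h.lift_fst]
  · intro c
    exact h.lift_snd _ _ _
  · intro c m h1 h2
    apply h.hom_ext
    · rw [h.lift_fst, ← Category.assoc, h1]
    · rw [h.lift_snd, h2]

variable {S : Scheme.{u}} {X : AlgSp.Sp S} {U R : Over S} {a : (AlgSp.yon S).obj U ⟶ X}
  {s t : R ⟶ U}

/-- an invariant affine open of a finite etale cover gives an open subscheme of the space. -/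
theorem exists_open_of_invariant (hX : AlgSp.IsAlgSpace X)
    (sq : IsPullback ((AlgSp.yon S).map t) ((AlgSp.yon S).map s) a a)
    (ha : AlgSp.RepWith @Etale a) [IsFinite s.left] [Etale s.left]
    (W : U.left.Opens) (hW : IsAffineOpen W) (hinv : s.left ⁻¹ᵁ W = t.left ⁻¹ᵁ W) :
    ∃ (M : Over S) (m : (AlgSp.yon S).obj M ⟶ X), AlgSp.RepWith @IsOpenImmersion m ∧
      ∀ u ∈ W, AlgSp.Points.ofPt a u ∈ Set.range (AlgSp.Points.map m) := by
  let W' : Over S := Over.mk (W.ι ≫ U.hom)
  let ιW : W' ⟶ U := Over.homMk W.ι rfl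
  let RW : Over S := Over.mk ((s.left ⁻¹ᵁ W).ι ≫ R.hom)
  let ιR : RW ⟶ R := Over.homMk (s.left ⁻¹ᵁ W).ι rfl
  have hsW : (s.left ∣_ W) ≫ W'.hom = RW.hom := by
    show (s.left ∣_ W) ≫ W.ι ≫ U.hom = (s.left ⁻¹ᵁ W).ι ≫ R.hom
    rw [← Category.assoc, morphismRestrict_ι, Category.assoc, Over.w s]
  let sW : RW ⟶ W' := Over.homMk (s.left ∣_ W) hsW
  have htW : ((R.left.isoOfEq hinv).hom ≫ (t.left ∣_ W)) ≫ W'.hom = RW.hom := by
    show ((R.left.isoOfEq hinv).hom ≫ (t.left ∣_ W)) ≫ W.ι ≫ U.hom = (s.left ⁻¹ᵁ W).ι ≫ R.hom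
    rw [Category.assoc, ← Category.assoc (t.left ∣_ W), morphismRestrict_ι, Category.assoc,
      Over.w t, ← Category.assoc, Scheme.isoOfEq_hom_ι]
  let tW : RW ⟶ W' := Over.homMk ((R.left.isoOfEq hinv).hom ≫ (t.left ∣_ W)) htW
  have htι : tW ≫ ιW = ιR ≫ t := by
    ext
    show ((R.left.isoOfEq hinv).hom ≫ (t.left ∣_ W)) ≫ W.ι = (s.left ⁻¹ᵁ W).ι ≫ t.left
    rw [Category.assoc, morphismRestrict_ι, ← Category.assoc, Scheme.isoOfEq_hom_ι]
  have hsι : sW ≫ ιW = ιR ≫ s := by
    ext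
    exact morphismRestrict_ι s.left W
  have hL0 : IsPullback sW ιR ιW s :=
    IsPullback.of_map (Over.forget S) hsι (isPullback_morphismRestrict s.left W)
  have hL : IsPullback ((AlgSp.yon S).map sW) ((AlgSp.yon S).map ιR) ((AlgSp.yon S).map ιW)
      ((AlgSp.yon S).map s) := hL0.map (AlgSp.yon S)
  have hbig := hL.paste_vert sq.flip
  rw [← Functor.map_comp, ← htι, Functor.map_comp] at hbig
  haveI : IsOpenImmersion ιW.left := inferInstanceAs (IsOpenImmersion W.ι)
  have hιo : AlgSp.RepWith @IsOpenImmersion ((AlgSp.yon S).map ιW) :=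
    (AlgSp.repWith_yon_map_iff _ _).2 inferInstance
  haveI : Mono ((AlgSp.yon S).map ιW) :=
    Groth.Agent.S9928.mono_of_repWith @IsOpenImmersion
      (fun X Y g hg => by haveI : IsOpenImmersion g := hg; infer_instance) _ hιo
  have sqW : IsPullback ((AlgSp.yon S).map tW) ((AlgSp.yon S).map sW)
      ((AlgSp.yon S).map ιW ≫ a) ((AlgSp.yon S).map ιW ≫ a) :=
    isPullback_of_comp_mono _ _ _ _ _ hbig.flip
  -- instances
  haveI : IsAffine W'.left := hW
  haveI : IsFinite sW.left := inferInstanceAs (IsFinite (s.left ∣_ W))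
  haveI : Etale sW.left := inferInstanceAs (Etale (s.left ∣_ W))
  haveI : IsAffine RW.left := isAffine_of_isAffineHom sW.left
  obtain ⟨M, c, m, hm, hmono, hcfin, hcet, hcsurj⟩ :=
    exists_mono_factor_affine ((AlgSp.yon S).map ιW ≫ a) sW tW sqW
  haveI := hmono
  haveI := hcet
  haveI := hcsurj
  have haW : AlgSp.RepWith @Etale ((AlgSp.yon S).map ιW ≫ a) :=
    (AlgSp.RepWith @Etale).comp_mem _ _ ((AlgSp.repWith_yon_map_iff _ _).2 inferInstance) ha
  have hmet : AlgSp.RepWith @Etale m :=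
    Groth.Agent.S10212.repWith_etale_of_comp_surjective_etale c m
      (hX.representable_from_yon _) (hm ▸ haW)
  have hmo : AlgSp.RepWith @IsOpenImmersion m :=
    Groth.Agent.S10261.repWith_isOpenImmersion_of_mono (AlgSp.IsAlgSpace.yon_obj _) m
      (fun W φ hφ => (AlgSp.RepWith @Etale).comp_mem _ _ hφ hmet)
  refine ⟨M, m, hmo, fun u hu => ?_⟩
  refine ⟨AlgSp.Points.ofPt ((AlgSp.yon S).map c) (⟨u, hu⟩ : W.toScheme), ?_⟩
  rw [AlgSp.Points.map_ofPt, hm, Groth.Agent.S10176.ofPt_map_comp]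
  rfl

/-- **a codimension zero point of a space with a finite etale cover by a quasi-separated scheme
has an open neighbourhood which is a scheme.** -/
theorem exists_open_subscheme_of_codimZero (hX : AlgSp.IsAlgSpace X) {U : Over S}
    (a : (AlgSp.yon S).obj U ⟶ X) (hf : AlgSp.RepWith @IsFinite a) (he : AlgSp.RepWith @Etale a)
    (hs : AlgSp.RepWith @Surjective a) [QuasiSeparatedSpace ↥U.left] (x : AlgSp.Points X)
    (hx : AlgSp.HasAt (fun U u => ringKrullDim ↥(U.presheaf.stalk u) = 0) X x) :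
    ∃ (M : Over S) (m : (AlgSp.yon S).obj M ⟶ X), AlgSp.RepWith @IsOpenImmersion m ∧
      x ∈ Set.range (AlgSp.Points.map m) := by
  open Groth.Agent.Lib.Seat45.EtDim in
  obtain ⟨R, s, fst, sq0⟩ := he.1 a
  obtain ⟨t, rfl⟩ := (AlgSp.yon S).map_surjective fst
  haveI hset : Etale s.left := he.2 _ _ _ sq0
  haveI hsfin : IsFinite s.left := hf.2 _ _ _ sq0
  haveI htet : Etale t.left := he.2 _ _ _ sq0.flip
  haveI htfin : IsFinite t.left := hf.2 _ _ _ sq0.flip
  -- a point of `U` over `x`, of codimension zero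
  obtain ⟨u, hu⟩ := Groth.Agent.S10177.surjective_ofPt a hs x
  have hu0 : ringKrullDim (U.left.presheaf.stalk u) = 0 := by
    obtain ⟨V, b, v, hb, hbv, hv⟩ := hx
    obtain ⟨P, w, pr', sqP⟩ := he.1 b
    obtain ⟨pr, rfl⟩ := (AlgSp.yon S).map_surjective pr'
    haveI : Etale w.left := he.2 _ _ _ sqP
    haveI : Etale pr.left := hb.2 _ _ _ sqP.flip
    obtain ⟨y, hy1, hy2⟩ := Groth.Agent.S10176.exists_point_of_isPullback_yon sqP u v
      (hu.trans hbv.symm)
    rw [← hy1, ← ringKrullDim_stalk_eq_of_etale pr.left y, ringKrullDim_stalk_eq_of_etale w.left y,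
      hy2]
    exact hv
  -- the orbit of `u` is finite and consists of codimension zero points
  haveI : LocallyQuasiFinite s.left := Groth.Agent.S10555.lqf_of_etale s.left
  have hFfin : (t.left '' (s.left ⁻¹' {u})).Finite :=
    (s.left.finite_preimage_singleton u).image _
  have hF0 : ∀ η ∈ t.left '' (s.left ⁻¹' {u}), ringKrullDim (U.left.presheaf.stalk η) = 0 := by
    rintro _ ⟨r, hr, rfl⟩
    have hr' : s.left r = u := hr
    rw [← ringKrullDim_stalk_eq_of_etale t.left r, ringKrullDim_stalk_eq_of_etale s.left r, hr']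
    exact hu0
  obtain ⟨V, hV, hFV⟩ :=
    Groth.Agent.Lib.Seat45.CodimZeroAffine.exists_affineOpen_of_finite _ hFfin hF0
  -- the groupoid and an invariant affine open
  let G := grpd sq0
  have hGs : G.s = s.left := grpd_s sq0
  have hGt : G.t = t.left := grpd_t sq0
  haveI : IsFinite G.s := by rw [hGs]; exact hsfin
  haveI : Etale G.s := by rw [hGs]; exact hset
  haveI : Flat G.s := inferInstance
  haveI : LocallyOfFinitePresentation G.s := inferInstance
  haveI : IsFinite G.t := by rw [hGt]; exact htfin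
  haveI : Etale G.t := by rw [hGt]; exact htet
  haveI : Flat G.t := inferInstance
  haveI : LocallyOfFinitePresentation G.t := inferInstance
  have huV : ∀ r : G.R, G.s r = u → G.t r ∈ V := by
    intro r hr
    have h1 : s.left r = u := by rw [← hGs]; exact hr
    have h2 : t.left r ∈ V := hFV ⟨r, h1, rfl⟩
    rw [hGt]
    exact h2
  obtain ⟨W, hW, huW, hinvG⟩ := Groth.Agent.S1881.result S G u V hV huV
  have hinv : s.left ⁻¹ᵁ W = t.left ⁻¹ᵁ W := by
    have := hinvG
    rw [hGs, hGt] at this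
    exact this
  obtain ⟨M, m, hmo, hm⟩ := exists_open_of_invariant hX sq0 he W hW hinv
  exact ⟨M, m, hmo, hu ▸ hm u huW⟩

end Groth.Agent.Lib.Seat45.FinEtCover
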