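import Mathlib
import Groth.Agent.Lib.Seat45QsSober
import Groth.Agent.Lib.Helper12LargestOpen
import Groth.Agent.Lib.Helper12ZarGlue
import Groth.Agent.S9906
import Groth.Agent.Lib.Seat45Charts

/-!
# Quasi-compact étale affine charts of quasi-separated open subspaces (seat 45)

* `isPullback_of_comp_mono'`, `repWith_of_comp_mono`: cancelling a monomorphism in pullback squares / `RepWith`.
* `compactSpace_of_qs_of_factors₂`: for `F` quasi-separated over `S` and `U`, `T` affine mapping into a common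
  affine open of `S`, the scheme `U ×_F T` is quasi-compact.
* `exists_affine_qc_chart`: let `j : Xi ⟶ X` be an open subspace, quasi-separated over `S`, and `a₀ : h_U ⟶ Xi`
  étale from an affine `U` lying over an affine open of `S`.  Then `U` maps quasi-compactly, étale and
  surjectively onto the open subspace of `X` which is the image of `U`.
-/

set_option autoImplicit false
set_option linter.style.haveILetI false
universe u

open CategoryTheory CategoryTheory.Limits AlgebraicGeometry Topology TopologicalSpace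

namespace Groth.Agent.Lib.Seat45.ZarQs

open Groth.Agent.Lib.Seat45.QsSober Groth.Agent.Lib.Helper12

/-- cancelling a monomorphism at the bottom of a pullback square. -/
lemma isPullback_of_comp_mono' {C : Type*} [Category C] {P A B D E : C} {f : P ⟶ A} {g : P ⟶ B}
    {a : A ⟶ D} {b : B ⟶ D} (i : D ⟶ E) [Mono i] (h : IsPullback f g (a ≫ i) (b ≫ i)) :
    IsPullback f g a b := by
  have hw : f ≫ a = g ≫ b := by
    rw [← cancel_mono i, Category.assoc, Category.assoc]; exact h.w
  refine ⟨⟨hw⟩, ⟨PullbackCone.IsLimit.mk _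
    (fun c => h.lift c.fst c.snd (by rw [← Category.assoc, c.condition, Category.assoc])) ?_ ?_ ?_⟩⟩
  · intro c
    exact h.lift_fst _ _ _
  · intro c
    exact h.lift_snd _ _ _
  · intro c m h1 h2
    apply h.hom_ext
    · rw [h.lift_fst]; exact h1
    · rw [h.lift_snd]; exact h2

variable {S : Scheme.{u}}

/-- `RepWith P (p ≫ i)` with `i` a monomorphism gives `RepWith P p`. -/
lemma repWith_of_comp_mono (P : MorphismProperty Scheme.{u}) {A B C : AlgSp.Sp S} (p : A ⟶ B) (i : B ⟶ C)
    [Mono i] (h : AlgSp.RepWith P (p ≫ i)) : AlgSp.RepWith P p := by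
  refine ⟨fun T g => ?_, fun T E g fst snd sq => ?_⟩
  · obtain ⟨E, snd, fst, sq⟩ := h.1 (g ≫ i)
    exact ⟨E, snd, fst, isPullback_of_comp_mono' i sq⟩
  · exact h.2 (g ≫ i) fst snd (isPullback_comp_mono sq i)

/-- a morphism all of whose points land in an open factors through it. -/
lemma exists_factor_opens {T : Scheme.{u}} (f : T ⟶ S) (V : S.Opens) (h : ∀ t : ↥T, f t ∈ V) :
    ∃ q : T ⟶ (V : Scheme.{u}), q ≫ V.ι = f :=
  ⟨IsOpenImmersion.lift V.ι f (by
    rintro _ ⟨t, rfl⟩
    rw [Scheme.Opens.range_ι]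
    exact h t), IsOpenImmersion.lift_fac _ _ _⟩

/-- For `F` quasi-separated over `S` and `U`, `T` affine mapping into a common affine open of `S`, the scheme
`U ×_F T` is quasi-compact. -/
theorem compactSpace_of_qs_of_factors₂ {F : AlgSp.Sp S} (hF : AlgSp.IsQuasiSeparatedSp F) {U T R : Over S}
    [IsAffine U.left] [IsAffine T.left] (V : S.Opens) (hV : IsAffineOpen V)
    (qU : U.left ⟶ (V : Scheme.{u})) (hqU : qU ≫ V.ι = U.hom)
    (qT : T.left ⟶ (V : Scheme.{u})) (hqT : qT ≫ V.ι = T.hom)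
    (a : (AlgSp.yon S).obj U ⟶ F) (b : (AlgSp.yon S).obj T ⟶ F) (s : R ⟶ U) (t : R ⟶ T)
    (sq : IsPullback ((AlgSp.yon S).map s) ((AlgSp.yon S).map t) a b) : CompactSpace ↥R.left := by
  have hqc : QuasiCompact (prod.lift s t).left := Groth.Agent.S9920.property_of_repWith_diag hF sq
  haveI : IsAffine (V : Scheme.{u}) := hV
  have hpb : IsPullback (pullback.fst qU qT) (pullback.snd qU qT) U.hom T.hom := by
    rw [← hqU, ← hqT]
    exact isPullback_comp_mono (IsPullback.of_hasPullback qU qT) V.ι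
  haveI : CompactSpace ↥(pullback U.hom T.hom) :=
    QuasiCompact.compactSpace_of_compactSpace hpb.isoPullback.inv
  haveI : CompactSpace ↥(U ⨯ T).left :=
    QuasiCompact.compactSpace_of_compactSpace (Over.prodLeftIsoPullback U T).hom
  exact QuasiCompact.compactSpace_of_compactSpace (prod.lift s t).left

/-- the points of `h_T` and of `T`. -/
lemma range_map_eq_range_ofPt {F : AlgSp.Sp S} {T : Over S} (g : (AlgSp.yon S).obj T ⟶ F) :
    Set.range (AlgSp.Points.map g) = Set.range (AlgSp.Points.ofPt g) := by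
  ext x
  constructor
  · rintro ⟨y, rfl⟩
    obtain ⟨t, rfl⟩ := (AlgSp.Points.schemeHomeo T).surjective y
    exact ⟨t, AlgSp.Points.ofPt_eq_map_ofScheme g t⟩
  · rintro ⟨t, rfl⟩
    exact ⟨_, (AlgSp.Points.ofPt_eq_map_ofScheme g t).symm⟩

/-- Let `j : Xi ⟶ X` be an open subspace which is quasi-separated over `S`, and `a₀ : h_U ⟶ Xi` étale from an
affine `U` lying over an affine open of `S`.  Then `U` maps quasi-compactly, étale and surjectively onto the
open subspace of `X` which is the image of `U`. -/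
theorem exists_affine_qc_chart {X Xi : AlgSp.Sp S} (j : Xi ⟶ X)
    (hj : AlgSp.RepWith @IsOpenImmersion j) (hqs : AlgSp.IsQuasiSeparatedSp Xi) {U : Over S}
    [IsAffine U.left] (a₀ : (AlgSp.yon S).obj U ⟶ Xi) (ha₀ : AlgSp.RepWith @Etale a₀) (V : S.Opens)
    (hV : IsAffineOpen V) (qU : U.left ⟶ (V : Scheme.{u})) (hqU : qU ≫ V.ι = U.hom) :
    IsOpen (Set.range (AlgSp.Points.ofPt (a₀ ≫ j))) ∧
    ∃ p : (AlgSp.yon S).obj U ⟶ OpenSub.obj X (Set.range (AlgSp.Points.ofPt (a₀ ≫ j))),
      p ≫ OpenSub.incl X (Set.range (AlgSp.Points.ofPt (a₀ ≫ j))) = a₀ ≫ j ∧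
      AlgSp.RepWith @QuasiCompact p ∧ AlgSp.RepWith @Etale p ∧ AlgSp.RepWith @Surjective p := by
  haveI : Mono j := LargestOpen.mono_of_open j hj
  have hae : AlgSp.RepWith @Etale (a₀ ≫ j) :=
    (AlgSp.RepWith @Etale).comp_mem _ _ ha₀ (Groth.Agent.Lib.Seat45.Charts.repWith_etale_of_isOpenImmersion hj)
  have hW : IsOpen (Set.range (AlgSp.Points.ofPt (a₀ ≫ j))) :=
    (Groth.Agent.S10176.isOpenMap_ofPt _ hae).isOpen_range
  refine ⟨hW, ?_⟩
  set W := Set.range (AlgSp.Points.ofPt (a₀ ≫ j)) with hWdef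
  have hincl : AlgSp.RepWith @IsOpenImmersion (OpenSub.incl X W) := OpenSub.repWith_incl hW
  obtain ⟨p, hp⟩ := (Groth.Agent.S10194.exists_factor_iff (OpenSub.incl X W) hincl (a₀ ≫ j)).2 (by
    rw [OpenSub.range_map_incl, range_map_eq_range_ofPt])
  have hpe : AlgSp.RepWith @Etale p := repWith_of_comp_mono @Etale p (OpenSub.incl X W) (by rw [hp]; exact hae)
  have hinj : Function.Injective (AlgSp.Points.map (OpenSub.incl X W)) :=
    LargestOpen.injective_map_of_open _ hincl
  have hps : AlgSp.RepWith @Surjective p := by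
    refine Groth.Agent.S9906.repWith_surjective_of_surjective_map p hpe.1 (fun y => ?_)
    have hy : AlgSp.Points.map (OpenSub.incl X W) y ∈ W :=
      (OpenSub.range_map_incl W).subset (Set.mem_range_self y)
    obtain ⟨u, hu⟩ := hy
    refine ⟨AlgSp.Points.ofScheme U u, hinj ?_⟩
    rw [← AlgSp.Points.map_comp, hp, ← AlgSp.Points.ofPt_eq_map_ofScheme]
    exact hu
  refine ⟨p, hp, ?_, hpe, hps⟩
  refine ZarGlue.repWith_of_affine @QuasiCompact p (fun T hT g => ?_)
  haveI := hT
  obtain ⟨E, snd, fst', sq⟩ := hpe.1 g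
  obtain ⟨fst, rfl⟩ := (AlgSp.yon S).map_surjective fst'
  have sqX : IsPullback ((AlgSp.yon S).map fst) ((AlgSp.yon S).map snd) (a₀ ≫ j)
      (g ≫ OpenSub.incl X W) := by
    rw [← hp]; exact isPullback_comp_mono sq (OpenSub.incl X W)
  have hgW : ∀ t : ↥T.left, AlgSp.Points.ofPt (g ≫ OpenSub.incl X W) t ∈ W := fun t => by
    rw [← AlgSp.Points.map_ofPt]
    exact (OpenSub.range_map_incl W).subset (Set.mem_range_self _)
  obtain ⟨g', hg'⟩ := (Groth.Agent.S10194.exists_factor_iff j hj (g ≫ OpenSub.incl X W)).2 (by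
    rw [range_map_eq_range_ofPt]
    rintro _ ⟨t, rfl⟩
    obtain ⟨u, hu⟩ := hgW t
    exact ⟨AlgSp.Points.ofPt a₀ u, by rw [AlgSp.Points.map_ofPt]; exact hu⟩)
  have sqi : IsPullback ((AlgSp.yon S).map fst) ((AlgSp.yon S).map snd) a₀ g' :=
    isPullback_of_comp_mono' j (by rw [hg']; exact sqX)
  have hTV : ∀ t : ↥T.left, T.hom t ∈ V := fun t => by
    obtain ⟨u, hu⟩ := hgW t
    obtain ⟨e, he1, he2⟩ := Groth.Agent.S10176.exists_point_of_isPullback_yon sqX u t hu
    have h1 : T.hom t = U.hom u := by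
      rw [← he1, ← he2]
      change (snd.left ≫ T.hom) e = (fst.left ≫ U.hom) e
      rw [Over.w, Over.w]
    rw [h1, ← hqU]
    exact (qU u).2
  obtain ⟨qT, hqT⟩ := exists_factor_opens T.hom V hTV
  have hEc : CompactSpace ↥E.left :=
    compactSpace_of_qs_of_factors₂ hqs V hV qU hqU qT hqT a₀ g' fst snd sqi
  exact ⟨E, snd, (AlgSp.yon S).map fst, sq,
    (HasAffineProperty.iff_of_isAffine (P := @QuasiCompact)).2 hEc⟩

end Groth.Agent.Lib.Seat45.ZarQs
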