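import Mathlib
import Groth.Agent.S10508

/-!
# A surjective étale chart is an fpqc covering (seat 46)
-/

set_option autoImplicit false
universe u
open CategoryTheory CategoryTheory.Limits AlgebraicGeometry
open AlgSp

namespace Groth.Agent.Lib.Seat46.EtCover

variable {S : Scheme.{u}}

/-- a representable étale surjective map from a scheme to an algebraic space is an fpqc covering. -/
lemma isFpqcCover_of_etale_surjective {Y : AlgSp.Sp S} (hY : AlgSp.IsAlgSpace Y) {V : Over S}
    (p : (AlgSp.yon S).obj V ⟶ Y) (hp : AlgSp.RepWith @Etale p)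
    (hps : AlgSp.RepWith @Surjective p) :
    AlgSp.IsFpqcCover (fun _ : PUnit.{u + 1} => (AlgSp.yon S).obj V) (fun _ => p) := by
  have hgood := Groth.Agent.Lib.Helper12.LocPCases.good_flat.{u}
  have hgood' := Groth.Agent.Lib.Helper12.LocPCases.good_lfp.{u}
  let X : AlgSp.Space S := ⟨Y, hY⟩
  let UU : AlgSp.Space S := ⟨(AlgSp.yon S).obj V, AlgSp.IsAlgSpace.yon_obj V⟩
  let pp : UU ⟶ X := ObjectProperty.homMk p
  refine Groth.Agent.S10505.result X (fun _ : PUnit.{u + 1} => UU) (fun _ => pp)
    ⟨fun _ => ⟨?_, ?_⟩, ?_⟩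
  · exact Groth.Agent.S9947.locP_of_repWith_etale _ hgood.hEt p hp
  · exact Groth.Agent.S9947.locP_of_repWith_etale _ hgood'.hEt p hp
  · intro x
    exact ⟨PUnit.unit, Groth.Agent.S9906.surjective_map_of_repWith p hps x⟩

end Groth.Agent.Lib.Seat46.EtCover
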