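import Mathlib
import Groth.Agent.Lib.Seat45DecGen
import Groth.Agent.Lib.Seat45DegFinite
import Groth.Agent.Lib.Seat45ZarQs
import Groth.Agent.Lib.Seat45FinEtCover
import Groth.Agent.Lib.Helper12OpenSub
import Groth.Agent.Lib.Helper12LargestOpen
import Groth.Agent.S10018
import Groth.Agent.S10204
import Groth.Agent.S10268
import Groth.Agent.S9906
import Groth.Agent.S9928

/-!
# A nonempty decent algebraic space contains a nonempty open subscheme (seat 45)

* `exists_affineOpen_isFinite`: on a decent space an affine étale chart `U` has a nonempty affine open `V`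
  with `s⁻¹(V) = V ×_X U ⟶ V` finite.
* `exists_nonempty_open_subscheme`: a nonempty decent algebraic space has a nonempty open subspace which is a
  scheme.
-/

set_option autoImplicit false
set_option linter.style.haveILetI false
universe u

open CategoryTheory CategoryTheory.Limits AlgebraicGeometry Topology TopologicalSpace

namespace Groth.Agent.Lib.Seat45.DecSch

open Groth.Agent.Lib.Seat45.QsSober Groth.Agent.Lib.Seat45.Charts Groth.Agent.Lib.Seat45.DecGen
  Groth.Agent.Lib.Helper12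

variable {S : Scheme.{u}}

/-- On a decent algebraic space, an étale chart from a nonempty affine scheme `U` has a nonempty affine open `V`
such that `s⁻¹(V) = V ×_X U ⟶ V` is finite. -/
theorem exists_affineOpen_isFinite (X : AlgSp.Space S) (hX : AlgSp.IsDecent X.obj) {U R : Over S}
    [IsAffine U.left] [Nonempty ↥U.left]
    (a : (AlgSp.yon S).obj U ⟶ X.obj) (ha : AlgSp.RepWith @Etale a) (s t : R ⟶ U)
    (sq : IsPullback ((AlgSp.yon S).map s) ((AlgSp.yon S).map t) a a) :
    ∃ V : U.left.Opens, IsAffineOpen V ∧ (V : Set ↥U.left).Nonempty ∧ IsFinite (s.left ∣_ V) := by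
  haveI : Etale s.left := (etale_left_of_isPullback ha sq).1
  haveI : IsSeparated s.left := (isSeparated_left_of_isPullback sq).1
  have hfin := isFinite_fibre X hX a ha s t sq
  obtain ⟨n, V, hV, hVne, h1, h2⟩ := Baire.exists_affineOpen (fun n => DegTower.Uopen s.left n)
    (fun y => by haveI := hfin y; exact DegTower.exists_not_mem_Uopen s.left y)
  refine ⟨V, hV, hVne, ?_⟩
  cases n with
  | zero =>
    exfalso
    obtain ⟨v, hv⟩ := hVne
    rw [DegTower.Uopen_zero] at h2
    exact (h2.le_bot ⟨hv, trivial⟩ : v ∈ (⊥ : U.left.Opens))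
  | succ m => exact DegTower.isFinite_morphismRestrict s.left m V (h1 m (Nat.lt_succ_self m)) h2

/-- A nonempty decent algebraic space has a nonempty open subspace which is a scheme. -/
theorem exists_nonempty_open_subscheme (X : AlgSp.Space S) (hX : AlgSp.IsDecent X.obj)
    [Nonempty (AlgSp.Points X.obj)] :
    ∃ (M : Over S) (m : (AlgSp.yon S).obj M ⟶ X.obj), AlgSp.RepWith @IsOpenImmersion m ∧
      Nonempty ↥M.left := by
  obtain ⟨x₀⟩ := (inferInstance : Nonempty (AlgSp.Points X.obj))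
  obtain ⟨U₀, a₀, u₀, ha₀, -⟩ := exists_chart X.property x₀
  obtain ⟨_, ⟨N, hN, rfl⟩, hu₀N, -⟩ := U₀.left.isBasis_affineOpens.exists_subset_of_mem_open
    (Set.mem_univ u₀) isOpen_univ
  haveI : IsAffine (resObj U₀ N).left := hN
  haveI : Nonempty ↥(resObj U₀ N).left := ⟨⟨u₀, hu₀N⟩⟩
  obtain ⟨U, hU⟩ : ∃ U : Over S, U = resObj U₀ N := ⟨_, rfl⟩
  haveI : IsAffine U.left := by rw [hU]; infer_instance
  haveI : Nonempty ↥U.left := by rw [hU]; infer_instance
  obtain ⟨a, ha⟩ : ∃ a : (AlgSp.yon S).obj U ⟶ X.obj, AlgSp.RepWith @Etale a := by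
    rw [hU]; exact ⟨_, repWith_etale_res a₀ ha₀ N⟩
  clear hU
  obtain ⟨R, t, s', sq⟩ := ha.1 a
  obtain ⟨s, rfl⟩ := (AlgSp.yon S).map_surjective s'
  obtain ⟨V, hV, ⟨v, hv⟩, hfin⟩ := exists_affineOpen_isFinite X hX a ha s t sq
  have hopen : IsOpenMap (AlgSp.Points.ofPt a) := Groth.Agent.S10176.isOpenMap_ofPt a ha
  have hcont : Continuous (AlgSp.Points.ofPt a) := AlgSp.Points.continuous_ofPt a
  set O : Set (AlgSp.Points X.obj) := AlgSp.Points.ofPt a '' (V : Set ↥U.left) with hOdef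
  have hO : IsOpen O := hopen _ V.isOpen
  let XO : AlgSp.Space S := ⟨OpenSub.obj X.obj O, OpenSub.isAlgSpace_obj X.property hO⟩
  have hincl : AlgSp.RepWith @IsOpenImmersion (OpenSub.incl X.obj O) := OpenSub.repWith_incl hO
  have hinj : Function.Injective (AlgSp.Points.map (OpenSub.incl X.obj O)) :=
    LargestOpen.injective_map_of_open _ hincl
  let U' : U.left.Opens := ⟨AlgSp.Points.ofPt a ⁻¹' O, hO.preimage hcont⟩
  -- the charts of the open subspace
  obtain ⟨aO, haO⟩ := (OpenSub.factor_iff O ((AlgSp.yon S).map (resHom U U') ≫ a)).2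
    (fun w => by rw [ofPt_res]; exact w.2)
  obtain ⟨b, hb⟩ := (OpenSub.factor_iff O ((AlgSp.yon S).map (resHom U V) ≫ a)).2
    (fun w => by rw [ofPt_res]; exact ⟨w.1, w.2, rfl⟩)
  have haOe : AlgSp.RepWith @Etale aO :=
    ZarQs.repWith_of_comp_mono @Etale aO (OpenSub.incl X.obj O) (by rw [haO]; exact repWith_etale_res a ha U')
  have hbe : AlgSp.RepWith @Etale b :=
    ZarQs.repWith_of_comp_mono @Etale b (OpenSub.incl X.obj O) (by rw [hb]; exact repWith_etale_res a ha V)
  have hbs : AlgSp.RepWith @Surjective b := by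
    refine Groth.Agent.S9906.repWith_surjective_of_surjective_map b hbe.1 (fun y => ?_)
    have hy : AlgSp.Points.map (OpenSub.incl X.obj O) y ∈ O :=
      (OpenSub.range_map_incl O).subset (Set.mem_range_self y)
    obtain ⟨v', hv', hv'y⟩ := hy
    refine ⟨AlgSp.Points.ofScheme (resObj U V) ⟨v', hv'⟩, hinj ?_⟩
    rw [← AlgSp.Points.map_comp, hb, ← AlgSp.Points.ofPt_eq_map_ofScheme, ofPt_res]
    exact hv'y
  have haOs : AlgSp.RepWith @Surjective aO := by
    refine Groth.Agent.S9906.repWith_surjective_of_surjective_map aO haOe.1 (fun y => ?_)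
    have hy : AlgSp.Points.map (OpenSub.incl X.obj O) y ∈ O :=
      (OpenSub.range_map_incl O).subset (Set.mem_range_self y)
    obtain ⟨v', hv', hv'y⟩ := hy
    have hv'U' : v' ∈ U' := ⟨v', hv', rfl⟩
    refine ⟨AlgSp.Points.ofScheme (resObj U U') ⟨v', hv'U'⟩, hinj ?_⟩
    rw [← AlgSp.Points.map_comp, haO, ← AlgSp.Points.ofPt_eq_map_ofScheme, ofPt_res]
    exact hv'y
  -- `t` maps `s⁻¹(V)` into `U'`
  have hrange : Set.range (t1 s t V).left ⊆ Set.range U'.ι := by
    rintro _ ⟨r, rfl⟩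
    rw [Scheme.Opens.range_ι]
    change AlgSp.Points.ofPt a ((t1 s t V).left r) ∈ O
    have h1 : AlgSp.Points.ofPt a ((t1 s t V).left r) = AlgSp.Points.ofPt a (s.left r.1) := by
      change AlgSp.Points.ofPt a (t.left r.1) = _
      rw [← Groth.Agent.S10176.ofPt_map_comp, ← Groth.Agent.S10176.ofPt_map_comp, sq.w]
    rw [h1]
    exact ⟨s.left r.1, r.2, rfl⟩
  let t1' : R1 s V ⟶ resObj U U' :=
    Over.homMk (IsOpenImmersion.lift U'.ι (t1 s t V).left hrange) (by
      change IsOpenImmersion.lift U'.ι (t1 s t V).left hrange ≫ U'.ι ≫ U.hom = (R1 s V).hom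
      rw [← Category.assoc, IsOpenImmersion.lift_fac, Over.w (t1 s t V)])
  have ht1' : t1' ≫ resHom U U' = t1 s t V := by
    ext
    exact IsOpenImmersion.lift_fac _ _ _
  haveI : IsOpenImmersion (resHom U U').left := inferInstanceAs (IsOpenImmersion U'.ι)
  have hιo : AlgSp.RepWith @IsOpenImmersion ((AlgSp.yon S).map (resHom U U')) :=
    (AlgSp.repWith_yon_map_iff _ _).2 inferInstance
  haveI : Mono ((AlgSp.yon S).map (resHom U U')) :=
    Groth.Agent.S9928.mono_of_repWith @IsOpenImmersion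
      (fun X Y g hg => by haveI : IsOpenImmersion g := hg; infer_instance) _ hιo
  have sq1 := (isPullback_R1 (a := a) (t := t) V sq).flip
  rw [← ht1', Functor.map_comp] at sq1
  have sq2 : IsPullback ((AlgSp.yon S).map t1') ((AlgSp.yon S).map (s1 s V))
      ((AlgSp.yon S).map (resHom U U') ≫ a) ((AlgSp.yon S).map (resHom U V) ≫ a) :=
    Groth.Agent.Lib.Seat45.FinEtCover.isPullback_of_comp_mono _ _ _ _ _ sq1
  rw [← haO, ← hb] at sq2
  have sqO : IsPullback ((AlgSp.yon S).map t1') ((AlgSp.yon S).map (s1 s V)) aO b :=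
    ZarQs.isPullback_of_comp_mono' (OpenSub.incl X.obj O) sq2
  -- finiteness of the chart `aO`
  have hs1fin : AlgSp.IsFiniteMor ((AlgSp.yon S).map (s1 s V)) :=
    Groth.Agent.S10018.isFiniteMor_of_repWith_isFinite _
      ((AlgSp.repWith_yon_map_iff _ _).2 (show IsFinite (s1 s V).left from hfin))
  let YU' : AlgSp.Space S := ⟨(AlgSp.yon S).obj (resObj U U'), AlgSp.IsAlgSpace.yon_obj _⟩
  let fO : YU' ⟶ XO := ObjectProperty.homMk aO
  have hfOfin : AlgSp.IsFiniteMor fO.hom :=
    (Groth.Agent.S10268.result fO (resObj U V) b hbe hbs ((AlgSp.yon S).map t1')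
      ((AlgSp.yon S).map (s1 s V)) sqO).2 hs1fin
  have haOf : AlgSp.RepWith @IsFinite aO := Groth.Agent.S10018.repWith_isFinite_of_isFiniteMor aO hfOfin
  haveI : QuasiSeparatedSpace ↥(resObj U U').left :=
    QuasiSeparatedSpace.of_isOpenEmbedding U'.ι.isOpenEmbedding
  obtain ⟨X', j, hj, hrep, hdense, -⟩ := Groth.Agent.S10204.result XO aO haOf haOe haOs
  obtain ⟨M, ⟨e⟩⟩ := hrep
  let e' : (AlgSp.yon S).obj M ≅ X'.obj := AlgSp.isoOfRepresentableBy e
  refine ⟨M, e'.hom ≫ j.hom ≫ OpenSub.incl X.obj O, ?_, ?_⟩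
  · refine (MorphismProperty.cancel_left_of_respectsIso (AlgSp.RepWith @IsOpenImmersion) e'.hom _).2 ?_
    exact (AlgSp.RepWith @IsOpenImmersion).comp_mem _ _ hj hincl
  · -- nonempty
    have hne : Nonempty (AlgSp.Points XO.obj) := by
      have : AlgSp.Points.ofPt a v ∈ Set.range (AlgSp.Points.map (OpenSub.incl X.obj O)) := by
        rw [OpenSub.range_map_incl]; exact ⟨v, hv, rfl⟩
      obtain ⟨y, -⟩ := this
      exact ⟨y⟩
    haveI := hne
    obtain ⟨_, ⟨x', rfl⟩⟩ := hdense.nonempty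
    obtain ⟨mpt, -⟩ := (AlgSp.Points.schemeHomeo M).surjective (AlgSp.Points.map e'.inv x')
    exact ⟨mpt⟩

end Groth.Agent.Lib.Seat45.DecSch
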