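import Mathlib
import Groth.Agent.Lib.Seat45DegFinite
import Groth.Agent.Lib.Seat45QsSober

/-!
# The degree tower of a quasi-compact étale separated morphism (seat 45)

* `compactSpace_lvl`: for `s : R ⟶ U` étale, separated and quasi-compact with `U` quasi-compact, all levels of
  the tower are quasi-compact.
* `exists_open_isFinite_of_maximal`: if moreover `U` is affine and the tower is eventually empty over every point,
  every maximal point (generic point of an irreducible component) of `U` has an open neighbourhood `V` with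
  `s⁻¹(V) ⟶ V` finite.
-/

set_option autoImplicit false
set_option linter.style.haveILetI false
universe u

open CategoryTheory CategoryTheory.Limits AlgebraicGeometry Topology TopologicalSpace

namespace Groth.Agent.Lib.Seat45.DegTower

variable {R U : Scheme.{u}} (s : R ⟶ U) [Etale s] [IsSeparated s]

lemma isOpen_range_sec {n : ℕ} (L : Lvl s n) (i : Fin n) : IsOpen (Set.range (L.sec i)) := by
  haveI := L.etale
  haveI : Etale (L.sec i ≫ pullback.snd s L.π) := by rw [Lvl.sec_snd]; infer_instance
  haveI : Etale (L.sec i) := Etale.of_comp (L.sec i) (pullback.snd s L.π)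
  exact (L.sec i).isOpenMap.isOpen_range

lemma isClosed_O {n : ℕ} (L : Lvl s n) : IsClosed (L.O : Set ↥(pullback s L.π)) := by
  change IsClosed (⋃ i, Set.range (L.sec i))ᶜ
  exact (isOpen_iUnion fun i => isOpen_range_sec s L i).isClosed_compl

/-- all levels are quasi-compact when `s` and `U` are. -/
theorem compactSpace_lvl [QuasiCompact s] [CompactSpace ↥U] : ∀ n : ℕ, CompactSpace ↥(lvl s n).W
  | 0 => inferInstanceAs (CompactSpace ↥U)
  | n + 1 => by
    haveI := compactSpace_lvl n
    haveI : CompactSpace ↥(pullback s (lvl s n).π) :=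
      QuasiCompact.compactSpace_of_compactSpace (pullback.snd s (lvl s n).π)
    exact isCompact_iff_compactSpace.1 (isClosed_O s (lvl s n)).isCompact

/-- Every maximal point of `U` has an open neighbourhood over which `s` is finite. -/
theorem exists_open_isFinite_of_maximal [IsAffine U] [QuasiCompact s]
    (hfin : ∀ y : ↥U, ∃ n, y ∉ Uopen s n) (u : ↥U) (hu : ∀ u' : ↥U, u' ⤳ u → u' = u) :
    ∃ V : U.Opens, u ∈ V ∧ IsFinite (s ∣_ V) := by
  classical
  set m := Nat.find (hfin u) with hm
  have hm1 : u ∉ Uopen s m := Nat.find_spec (hfin u)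
  have hm0 : m ≠ 0 := by
    intro h0
    rw [h0, Uopen_zero] at hm1
    exact hm1 trivial
  obtain ⟨n, hn⟩ : ∃ n, m = n + 1 := Nat.exists_eq_succ_of_ne_zero hm0
  have hn1 : u ∈ Uopen s n := by
    by_contra h
    have := Nat.find_min' (hfin u) h
    omega
  rw [hn] at hm1
  haveI := compactSpace_lvl s (n + 1)
  have hucl : u ∉ closure ((Uopen s (n + 1) : U.Opens) : Set ↥U) := by
    intro h
    obtain ⟨w, -, hw⟩ := Groth.Agent.Lib.Seat45.QsSober.exists_specializes_of_mem_closure_image
      (lvl s (n + 1)).π Set.univ isClosed_univ u (by rw [Set.image_univ]; exact h)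
    exact hm1 ⟨w, hu _ hw⟩
  let C : U.Opens := ⟨(closure ((Uopen s (n + 1) : U.Opens) : Set ↥U))ᶜ, isClosed_closure.isOpen_compl⟩
  refine ⟨Uopen s n ⊓ C, ⟨hn1, hucl⟩, ?_⟩
  refine isFinite_morphismRestrict s n _ inf_le_left ?_
  rw [← Opens.coe_disjoint, Set.disjoint_left]
  rintro y ⟨-, hyC⟩ hy
  exact hyC (subset_closure hy)

end Groth.Agent.Lib.Seat45.DegTower
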