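import Groth.Agent.Lib.Seat45UnramSp
import Groth.Agent.Lib.Seat45Where
import Groth.Agent.Lib.Helper12OpenSub2
import Groth.Agent.S10262

/-!
# The diagonal over the unramified locus (seat 45)

* `locP_comp_etale`: `LocP P` is stable under precomposition with étale morphisms.
* `locP_unramified_of_forall`: the restriction of a morphism locally of finite type to an open subspace inside
  its unramified locus is unramified.
* `repWith_isOpenImmersion_comp_diag`: if `j : X₁ ⟶ X` is an open immersion with `j ≫ f` unramified, then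
  `j ≫ Δ : X₁ ⟶ X ×_Y X` is an open immersion.
-/

set_option autoImplicit false
set_option linter.style.haveILetI false
universe u

open CategoryTheory CategoryTheory.Limits AlgebraicGeometry

namespace Groth.Agent.Lib.Seat45.DiagOpen

open Groth.Agent.Lib.Seat45.Charts Groth.Agent.Lib.Seat45.Unram

variable {S : Scheme.{u}}

/-- `LocP P` is stable under precomposition with étale morphisms. -/
lemma locP_comp_etale (P : MorphismProperty Scheme.{u}) {F' F G : AlgSp.Sp S} (j : F' ⟶ F)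
    (hj : AlgSp.RepWith @Etale j) (f : F ⟶ G) (hf : AlgSp.LocP P f) : AlgSp.LocP P (j ≫ f) := by
  intro U V a b h ha hb hc
  exact hf (a ≫ j) b h ((AlgSp.RepWith @Etale).comp_mem _ _ ha hj) hb (by rw [Category.assoc, hc])

/-- The restriction of a morphism locally of finite type to an open subspace inside its unramified locus is
unramified. -/
lemma locP_unramified_of_forall {X₁ X Y : AlgSp.Sp S} (hX₁ : AlgSp.IsAlgSpace X₁)
    (hX : AlgSp.IsAlgSpace X) (hY : AlgSp.IsAlgSpace Y) (j : X₁ ⟶ X)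
    (hj : AlgSp.RepWith @IsOpenImmersion j) (f : X ⟶ Y) (hf : AlgSp.LocP @LocallyOfFiniteType f)
    (H : ∀ x₁ : AlgSp.Points X₁, AlgSp.HasAtMor UnrNear f (AlgSp.Points.map j x₁)) :
    AlgSp.LocP (@LocallyOfFiniteType ⊓ @FormallyUnramified) (j ≫ f) := by
  have hje := repWith_etale_of_isOpenImmersion hj
  have hf₁ : AlgSp.LocP @LocallyOfFiniteType (j ≫ f) := locP_comp_etale _ j hje f hf
  rw [locP_unramified_iff hX₁ hY (j ≫ f) hf₁]
  intro x₁
  obtain ⟨U, V, a, b, h, u, ha, hb, hc, rfl⟩ :=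
    Groth.Agent.Lib.Seat45.ChartsMor.exists_diagram hX₁ hY (j ≫ f) x₁
  rw [hasAtMor_unrNear_ofPt_iff hX₁ hY (j ≫ f) hf₁ a b h ha hb hc u]
  have ha' : AlgSp.RepWith @Etale (a ≫ j) := (AlgSp.RepWith @Etale).comp_mem _ _ ha hje
  have hc' : (a ≫ j) ≫ f = (AlgSp.yon S).map h ≫ b := by rw [Category.assoc, hc]
  rw [← hasAtMor_unrNear_ofPt_iff hX hY f hf (a ≫ j) b h ha' hb hc' u]
  exact H (AlgSp.Points.ofPt a u)

/-- If `j : X₁ ⟶ X` is an open immersion with `j ≫ f` unramified, then `j ≫ Δ : X₁ ⟶ X ×_Y X` is an open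
immersion. -/
lemma repWith_isOpenImmersion_comp_diag {X₁ X Y XX : AlgSp.Space S} (j : X₁ ⟶ X)
    (hj : AlgSp.RepWith @IsOpenImmersion j.hom) (f : X ⟶ Y)
    (hjf : AlgSp.LocP (@LocallyOfFiniteType ⊓ @FormallyUnramified) (j ≫ f).hom)
    (pr0 pr1 : XX ⟶ X) (hXX : IsPullback pr0.hom pr1.hom f.hom f.hom)
    (Δ : X ⟶ XX) (h0 : Δ ≫ pr0 = 𝟙 X) (h1 : Δ ≫ pr1 = 𝟙 X) :
    AlgSp.RepWith @IsOpenImmersion (j ≫ Δ).hom := by
  obtain ⟨A, aXX, a1, sqA⟩ := Groth.Agent.Lib.Seat45.Where.exists_pullback pr1 j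
  have sqAY : IsPullback (aXX ≫ pr0).hom a1.hom f.hom (j ≫ f).hom := sqA.paste_horiz hXX
  obtain ⟨B, bA, b1, sqB⟩ := Groth.Agent.Lib.Seat45.Where.exists_pullback (aXX ≫ pr0) j
  have sqBY : IsPullback (bA ≫ a1).hom b1.hom (j ≫ f).hom (j ≫ f).hom := sqB.paste_horiz sqAY.flip
  have hδ0 := (Groth.Agent.S10262.result (j ≫ f)).1 hjf
  obtain ⟨δ, hδ1, hδ2⟩ : ∃ δ : X₁.obj ⟶ B.obj, δ ≫ (bA ≫ a1).hom = 𝟙 _ ∧ δ ≫ b1.hom = 𝟙 _ :=
    ⟨sqBY.lift (𝟙 _) (𝟙 _) rfl, sqBY.lift_fst _ _ _, sqBY.lift_snd _ _ _⟩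
  have hδe : δ = pullback.diagonal (j ≫ f).hom ≫ sqBY.isoPullback.inv := by
    rw [Iso.eq_comp_inv]
    apply pullback.hom_ext
    · rw [Category.assoc, IsPullback.isoPullback_hom_fst, hδ1, pullback.diagonal_fst]
    · rw [Category.assoc, IsPullback.isoPullback_hom_snd, hδ2, pullback.diagonal_snd]
  have hδ : AlgSp.RepWith @IsOpenImmersion δ := by
    rw [hδe]
    exact MorphismProperty.RespectsIso.postcomp _ _ _ hδ0
  have hbA : AlgSp.RepWith @IsOpenImmersion bA.hom :=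
    MorphismProperty.of_isPullback (P := AlgSp.RepWith @IsOpenImmersion) sqB.flip hj
  have haXX : AlgSp.RepWith @IsOpenImmersion aXX.hom :=
    MorphismProperty.of_isPullback (P := AlgSp.RepWith @IsOpenImmersion) sqA.flip hj
  have e : (j ≫ Δ).hom = δ ≫ bA.hom ≫ aXX.hom := by
    apply hXX.hom_ext
    · have e1 : (j ≫ Δ).hom ≫ pr0.hom = j.hom := by
        change j.hom ≫ (Δ ≫ pr0).hom = _
        rw [h0]; exact Category.comp_id _
      have e2 : (δ ≫ bA.hom ≫ aXX.hom) ≫ pr0.hom = j.hom := by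
        have := sqB.w
        change bA.hom ≫ aXX.hom ≫ pr0.hom = b1.hom ≫ j.hom at this
        rw [Category.assoc, Category.assoc, this, ← Category.assoc, hδ2, Category.id_comp]
      rw [e1, e2]
    · have e1 : (j ≫ Δ).hom ≫ pr1.hom = j.hom := by
        change j.hom ≫ (Δ ≫ pr1).hom = _
        rw [h1]; exact Category.comp_id _
      have e2 : (δ ≫ bA.hom ≫ aXX.hom) ≫ pr1.hom = j.hom := by
        have := sqA.w
        have hδ1' : δ ≫ bA.hom ≫ a1.hom = 𝟙 _ := hδ1
        rw [Category.assoc, Category.assoc, this, ← Category.assoc bA.hom, ← Category.assoc δ, hδ1',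
          Category.id_comp]
      rw [e1, e2]
  rw [e]
  exact (AlgSp.RepWith @IsOpenImmersion).comp_mem _ _ hδ
    ((AlgSp.RepWith @IsOpenImmersion).comp_mem _ _ hbA haXX)

end Groth.Agent.Lib.Seat45.DiagOpen
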