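import Mathlib

/-!
# A scheme with discrete underlying space is separated (seat 45)
-/

set_option autoImplicit false
set_option linter.style.haveILetI false
universe u
open CategoryTheory CategoryTheory.Limits AlgebraicGeometry

namespace Groth.Agent.Lib.Seat45.DiscreteSep

/-- a discrete space is quasi-separated. -/
lemma quasiSeparatedSpace_of_discrete (α : Type*) [TopologicalSpace α] [DiscreteTopology α] :
    QuasiSeparatedSpace α :=
  ⟨fun _ _ _ hU _ _ => (hU.finite_of_discrete.subset Set.inter_subset_left).isCompact⟩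

/-- a morphism from the spectrum of a local ring to a discrete scheme is constant. -/
lemma map_eq_closedPoint {X : Scheme.{u}} [DiscreteTopology X] {R : Type u} [CommRing R]
    [IsLocalRing R] (l : Spec (CommRingCat.of R) ⟶ X) (z : ↥(Spec (CommRingCat.of R))) :
    l z = l (IsLocalRing.closedPoint R) :=
  ((IsLocalRing.specializes_closedPoint (R := R) z).map l.continuous).eq

/-- **a scheme whose underlying space is discrete is separated.** -/
theorem isSeparated_of_discrete (X : Scheme.{u}) [DiscreteTopology X] : X.IsSeparated := by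
  haveI : QuasiSeparatedSpace ↥X := quasiSeparatedSpace_of_discrete _
  haveI : QuasiSeparated (terminal.from X) := (quasiSeparatedSpace_iff_quasiSeparated X).1 inferInstance
  refine ⟨IsSeparated.of_valuativeCriterion (terminal.from X) ?_⟩
  intro Sq
  constructor
  intro l₁ l₂
  apply CommSq.LiftStruct.ext
  let j : Spec (CommRingCat.of Sq.K) ⟶ Spec (CommRingCat.of Sq.R) :=
    Spec.map (CommRingCat.ofHom (algebraMap Sq.R Sq.K))
  have h1 : j ≫ l₁.l = Sq.i₁ := l₁.fac_left
  have h2 : j ≫ l₂.l = Sq.i₁ := l₂.fac_left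
  obtain ⟨pt⟩ : Nonempty ↥(Spec (CommRingCat.of Sq.K)) := ⟨IsLocalRing.closedPoint Sq.K⟩
  let x : ↥X := l₁.l (IsLocalRing.closedPoint Sq.R)
  have hx1 : ∀ z, l₁.l z = x := fun z => map_eq_closedPoint l₁.l z
  have hx2 : ∀ z, l₂.l z = x := by
    intro z
    rw [map_eq_closedPoint l₂.l z, ← map_eq_closedPoint l₂.l (j pt), ← Scheme.Hom.comp_apply, h2,
      ← h1, Scheme.Hom.comp_apply]
    exact hx1 _
  let Vx : X.Opens := ⟨{x}, isOpen_discrete _⟩
  have hr1 : Set.range l₁.l ⊆ Set.range Vx.ι := by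
    rintro _ ⟨z, rfl⟩
    rw [Scheme.Opens.range_ι]
    exact hx1 z
  have hr2 : Set.range l₂.l ⊆ Set.range Vx.ι := by
    rintro _ ⟨z, rfl⟩
    rw [Scheme.Opens.range_ι]
    exact hx2 z
  let l₁' : Spec (CommRingCat.of Sq.R) ⟶ Vx.toScheme := IsOpenImmersion.lift Vx.ι l₁.l hr1
  let l₂' : Spec (CommRingCat.of Sq.R) ⟶ Vx.toScheme := IsOpenImmersion.lift Vx.ι l₂.l hr2
  have hl1 : l₁' ≫ Vx.ι = l₁.l := IsOpenImmersion.lift_fac _ _ _
  have hl2 : l₂' ≫ Vx.ι = l₂.l := IsOpenImmersion.lift_fac _ _ _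
  have hj : j ≫ l₁' = j ≫ l₂' := by
    rw [← cancel_mono Vx.ι, Category.assoc, Category.assoc, hl1, hl2, h1, h2]
  haveI : Subsingleton ↥Vx.toScheme := inferInstanceAs (Subsingleton ↥({x} : Set ↥X))
  haveI : IsAffine Vx.toScheme := inferInstance
  have huniq := IsSeparated.valuativeCriterion (terminal.from Vx.toScheme)
  let Sq' : ValuativeCommSq (terminal.from Vx.toScheme) :=
    ⟨Sq.R, Sq.K, j ≫ l₁', terminal.from _, ⟨terminal.hom_ext _ _⟩⟩
  haveI : Subsingleton Sq'.commSq.LiftStruct := huniq Sq'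
  let a₁ : Sq'.commSq.LiftStruct := ⟨l₁', rfl, terminal.hom_ext _ _⟩
  let a₂ : Sq'.commSq.LiftStruct := ⟨l₂', hj.symm, terminal.hom_ext _ _⟩
  have h12 : l₁' = l₂' := congrArg CommSq.LiftStruct.l (Subsingleton.elim a₁ a₂)
  rw [← hl1, ← hl2, h12]

/-- every quasi-compact open of a discrete scheme is affine. -/
theorem isAffineOpen_of_isCompact_of_discrete {X : Scheme.{u}} [DiscreteTopology X] (V : X.Opens)
    (hV : IsCompact (V : Set ↥X)) : IsAffineOpen V := by
  haveI : Finite ↥V.toScheme := hV.finite_of_discrete.to_subtype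
  haveI : DiscreteTopology ↥V.toScheme := inferInstanceAs (DiscreteTopology ↥(V : Set ↥X))
  exact (inferInstance : IsAffine V.toScheme)

end Groth.Agent.Lib.Seat45.DiscreteSep
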