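import Mathlib
import Groth.Prelude.Def_AlgSpDec
import Groth.Agent.S9874
import Groth.Agent.S10175
import Groth.Agent.S10209
import Groth.Agent.Lib.Seat45EtField

/-!
# Spaces etale over a decent space are decent (seat 45)
-/

set_option autoImplicit false
set_option linter.style.haveILetI false
universe u
open CategoryTheory CategoryTheory.Limits AlgebraicGeometry

namespace Groth.Agent.Lib.Seat45.EtDecent

open Groth.Agent.Lib.Seat45.EtField Groth.Agent.Lib.Seat46.FieldQuot

variable {S : Scheme.{u}}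

/-- the morphism of a field valued point built from a morphism is that morphism. -/
lemma toHom_mk {F : AlgSp.Sp S} {K : Type u} [Field K] (strK : Spec (CommRingCat.of K) ⟶ S)
    (q : (AlgSp.yon S).obj (Over.mk strK) ⟶ F) :
    (AlgSp.FieldPt.mk K strK ((AlgSp.J S).uliftYonedaEquiv q)).toHom = q :=
  Equiv.symm_apply_apply _ q

/-- **a space etale over a decent space is decent.** -/
theorem isDecent_of_isEtaleMor {X Y : AlgSp.Sp S} (hX : AlgSp.IsAlgSpace X)
    (hY : AlgSp.IsAlgSpace Y) (f : X ⟶ Y) (hf : AlgSp.IsEtaleMor f) (hd : AlgSp.IsDecent Y) :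
    AlgSp.IsDecent X := by
  intro x
  obtain ⟨py, hpy, hmono, hqc⟩ := hd (AlgSp.Points.map f x)
  have sq := IsPullback.of_hasPullback f py.toHom
  have hZ : AlgSp.IsAlgSpace (pullback f py.toHom) :=
    Groth.Agent.S9874.isAlgSpace_of_isPullback hY.diag hX (AlgSp.IsAlgSpace.yon_obj _) sq
  have hsnd : AlgSp.IsEtaleMor (pullback.snd f py.toHom) :=
    Groth.Agent.S10209.isEtaleMor_of_isPullback hX (AlgSp.IsAlgSpace.yon_obj _) sq.flip hf
  obtain ⟨W, ⟨eW⟩⟩ :=
    (isRepresentable_of_isEtaleMor hZ (pullback.snd f py.toHom) hsnd).has_representation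
  let e : (AlgSp.yon S).obj W ≅ pullback f py.toHom := AlgSp.isoOfRepresentableBy eW
  obtain ⟨b, hb⟩ := (AlgSp.yon S).map_surjective (e.hom ≫ pullback.snd f py.toHom)
  let j : (AlgSp.yon S).obj W ⟶ X := e.hom ≫ pullback.fst f py.toHom
  have sq' : IsPullback j ((AlgSp.yon S).map b) f py.toHom := by
    refine IsPullback.of_iso sq e.symm (Iso.refl _) (Iso.refl _) (Iso.refl _) ?_ ?_ ?_ ?_
    · simp [j]
    · simp [hb]
    · simp
    · simp
  have hbet : AlgSp.IsEtaleMor ((AlgSp.yon S).map b) :=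
    Groth.Agent.S10209.isEtaleMor_of_isPullback hX (AlgSp.IsAlgSpace.yon_obj _) sq'.flip hf
  haveI : Etale b.left := (AlgSp.isEtaleMor_yon_map_iff b).1 hbet
  -- the point
  obtain ⟨s₀⟩ : Nonempty ↥(Spec (CommRingCat.of py.K)) := ⟨IsLocalRing.closedPoint py.K⟩
  have hs₀ : AlgSp.Points.map py.toHom (AlgSp.Points.ofScheme py.pt s₀) = AlgSp.Points.map f x := by
    rw [← AlgSp.Points.ofPt_eq_map_ofScheme, AlgSp.Points.ofPt_toHom, hpy]
  obtain ⟨z', hz1, hz2⟩ := Groth.Agent.S10175.exists_point_of_isPullback sq'.flip _ _ hs₀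
  obtain ⟨z, rfl⟩ := (AlgSp.Points.schemeHomeo W).surjective z'
  obtain ⟨K, fK, strK, ι, pt, hι, hpt⟩ := exists_point_openImmersion (K := py.K) W b.left z
  let q : (AlgSp.yon S).obj (Over.mk strK) ⟶ X := (AlgSp.yon S).map ι ≫ j
  have hq : (AlgSp.FieldPt.mk K strK ((AlgSp.J S).uliftYonedaEquiv q)).toHom = q := toHom_mk strK q
  have hjmono : Mono j := by
    haveI := hmono
    exact (MorphismProperty.monomorphisms _).of_isPullback sq'.flip (MorphismProperty.monomorphisms.infer_property _)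
  have hιo : AlgSp.RepWith @IsOpenImmersion ((AlgSp.yon S).map ι) :=
    (AlgSp.repWith_yon_map_iff _ _).2 hι
  have hιmono : Mono ((AlgSp.yon S).map ι) :=
    Groth.Agent.S9928.mono_of_repWith @IsOpenImmersion
      (fun X Y g hg => by haveI : IsOpenImmersion g := hg; infer_instance) _ hιo
  have hιqc : AlgSp.RepWith @QuasiCompact ((AlgSp.yon S).map ι) :=
    (AlgSp.repWith_yon_map_iff _ _).2 (quasiCompact_of_field (K := K) ι.left)
  have hjqc : AlgSp.RepWith @QuasiCompact j :=
    MorphismProperty.of_isPullback (P := AlgSp.RepWith @QuasiCompact) sq'.flip hqc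
  refine ⟨⟨K, strK, (AlgSp.J S).uliftYonedaEquiv q⟩, ?_, ?_, ?_⟩
  · rw [← AlgSp.Points.ofPt_toHom _ pt, hq, Groth.Agent.S10176.ofPt_map_comp, hpt,
      AlgSp.Points.ofPt_eq_map_ofScheme]
    exact hz2
  · rw [hq]
    exact mono_comp _ _
  · rw [hq]
    exact (AlgSp.RepWith @QuasiCompact).comp_mem _ _ hιqc hjqc

end Groth.Agent.Lib.Seat45.EtDecent
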