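import Mathlib
import Groth.Agent.Lib.Helper3QFinDim
import Groth.Agent.S7408

/-!
# Fibre dimension zero and quasi-finiteness, without quasi-compactness (seat 45)
-/

set_option autoImplicit false
set_option linter.style.haveILetI false
universe u
open CategoryTheory CategoryTheory.Limits AlgebraicGeometry Topology

namespace Groth.Agent.Lib.Seat45.FibDim

variable {X S : Scheme.{u}}

/-- quasi-finiteness at a point is the vanishing of the local fibre dimension. -/
theorem quasiFiniteAt_iff_fibreDimAt_le_zero (f : X ⟶ S) [LocallyOfFiniteType f] (x : X) :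
    f.QuasiFiniteAt x ↔ FlatMor.fibreDimAt f x ≤ 0 := by
  obtain ⟨U, hU, hfx, -⟩ := TopologicalSpace.Opens.isBasis_iff_nbhd.mp S.isBasis_affineOpens
    (TopologicalSpace.Opens.mem_top (f x))
  obtain ⟨V, hV, hxV, hVU⟩ := TopologicalSpace.Opens.isBasis_iff_nbhd.mp X.isBasis_affineOpens
    (show x ∈ f ⁻¹ᵁ U from hfx)
  haveI : IsAffine (U : Scheme) := hU
  haveI : IsAffine (V : Scheme) := hV
  haveI : IsAffineHom (f.resLE U V hVU) := isAffineHom_of_isAffine _
  have h1 : f.QuasiFiniteAt x ↔ (f.resLE U V hVU).QuasiFiniteAt ⟨x, hxV⟩ := by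
    rw [← Scheme.Hom.quasiFiniteAt_comp_iff (f := f.resLE U V hVU) (g := Scheme.Opens.ι U),
      Scheme.Hom.resLE_comp_ι, Scheme.Hom.quasiFiniteAt_comp_iff_of_isOpenImmersion]
    rfl
  have h2 : FlatMor.fibreDimAt f x = FlatMor.fibreDimAt (f.resLE U V hVU) ⟨x, hxV⟩ :=
    Groth.Agent.S7408.result f (f.resLE U V hVU) (Scheme.Opens.ι V) (Scheme.Opens.ι U) (Scheme.Hom.resLE_comp_ι f hVU) ⟨x, hxV⟩
  rw [h1, h2]
  exact Groth.Agent.Lib.Helper3.QFinDim.quasiFiniteAt_iff_fibreDimAt_le_zero _ _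

theorem fibreDimAt_nonneg (f : X ⟶ S) (x : X) : 0 ≤ FlatMor.fibreDimAt f x :=
  Groth.Agent.Lib.Helper7.TopDim.localDim_nonneg _

theorem locallyQuasiFinite_iff_forall_fibreDimAt_le_zero (f : X ⟶ S) [LocallyOfFiniteType f] :
    LocallyQuasiFinite f ↔ ∀ x : X, FlatMor.fibreDimAt f x ≤ 0 := by
  rw [← Scheme.Hom.quasiFiniteLocus_eq_top_iff]
  constructor
  · intro h x
    rw [← quasiFiniteAt_iff_fibreDimAt_le_zero]
    exact h.ge (Set.mem_univ x)
  · intro h
    apply top_le_iff.mp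
    intro x _
    exact (quasiFiniteAt_iff_fibreDimAt_le_zero f x).mpr (h x)

theorem locallyQuasiFinite_iff_forall_fibreDimAt_eq_zero (f : X ⟶ S) [LocallyOfFiniteType f] :
    LocallyQuasiFinite f ↔ ∀ x : X, FlatMor.fibreDimAt f x = 0 := by
  rw [locallyQuasiFinite_iff_forall_fibreDimAt_le_zero]
  exact forall_congr' fun x =>
    ⟨fun h => le_antisymm h (fibreDimAt_nonneg f x), fun h => h.le⟩

/-- quasi-finiteness on an open neighbourhood is the vanishing of the local fibre dimension. -/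
theorem exists_opens_lqf_iff_fibreDimAt_le_zero (f : X ⟶ S) [LocallyOfFiniteType f] (x : X) :
    (∃ W : X.Opens, x ∈ W ∧ LocallyQuasiFinite (W.ι ≫ f) ∧ LocallyOfFiniteType (W.ι ≫ f)) ↔
      FlatMor.fibreDimAt f x ≤ 0 := by
  rw [← quasiFiniteAt_iff_fibreDimAt_le_zero]
  constructor
  · rintro ⟨W, hxW, hqf, -⟩
    have h1 : (W.ι ≫ f).QuasiFiniteAt (⟨x, hxW⟩ : W) := (W.ι ≫ f).quasiFiniteAt _
    rw [Scheme.Hom.quasiFiniteAt_comp_iff_of_isOpenImmersion] at h1
    exact h1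
  · intro hx
    exact ⟨f.quasiFiniteLocus, hx, inferInstance, inferInstance⟩

end Groth.Agent.Lib.Seat45.FibDim
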