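import Mathlib
import Groth.Agent.Lib.Seat45ChartsMor
import Groth.Agent.Lib.Seat45FibDim
import Groth.Agent.Lib.Seat45BaseChange
import Groth.Agent.S9358

/-!
# Relative dimension of a morphism of algebraic spaces at a point: independence of the chart (seat 45)
-/

set_option autoImplicit false
universe u
open CategoryTheory CategoryTheory.Limits AlgebraicGeometry

namespace Groth.Agent.Lib.Seat45.FibDimSp

open Groth.Agent.Lib.Seat45.Charts Groth.Agent.Lib.Seat45.ChartsMor

variable {S : Scheme.{u}}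

/-- any predicate on the fibre dimension at a point is étale local on the source-and-target. -/
lemma fibreDimAt_etale_local (P : WithBot ℕ∞ → Prop) {U U' V V' : Scheme.{u}} (h : U ⟶ V)
    (h' : U' ⟶ V') (a : U' ⟶ U) (b : V' ⟶ V) [Etale a] [Etale b] (comm : h' ≫ b = a ≫ h) (u' : ↥U') :
    P (FlatMor.fibreDimAt h (a u')) ↔ P (FlatMor.fibreDimAt h' u') := by
  rw [Groth.Agent.S7408.result h h' a b comm u']

/-- On a chart diagram, a predicate on the relative dimension of `f` at the image of `u` can be read on the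
chart. -/
theorem hasAtMor_fibreDimAt_ofPt_iff (P : WithBot ℕ∞ → Prop)
    {F G : AlgSp.Sp S} (hF : AlgSp.IsAlgSpace F) (hG : AlgSp.IsAlgSpace G) (f : F ⟶ G)
    {U V : Over S} (a : (AlgSp.yon S).obj U ⟶ F) (b : (AlgSp.yon S).obj V ⟶ G) (h : U ⟶ V)
    (ha : AlgSp.RepWith @Etale a) (hb : AlgSp.RepWith @Etale b)
    (hc : a ≫ f = (AlgSp.yon S).map h ≫ b) (u : ↥U.left) :
    AlgSp.HasAtMor (fun _ _ h u => P (FlatMor.fibreDimAt h u)) f (AlgSp.Points.ofPt a u) ↔
      P (FlatMor.fibreDimAt h.left u) :=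
  hasAtMor_ofPt_iff (fun _ _ h u => P (FlatMor.fibreDimAt h u))
    (fun h h' a b _ _ comm u' => fibreDimAt_etale_local P h h' a b comm u') hF hG f a b h ha hb hc u

/-- Any predicate on the relative dimension at a point is insensitive to base change. -/
theorem hasAtMor_fibreDimAt_baseChange_iff (P : WithBot ℕ∞ → Prop)
    {X Y Y' X' : AlgSp.Sp S} (hX : AlgSp.IsAlgSpace X) (hY : AlgSp.IsAlgSpace Y)
    (hY' : AlgSp.IsAlgSpace Y') (hX' : AlgSp.IsAlgSpace X') {f : X ⟶ Y} {g : Y' ⟶ Y} {g' : X' ⟶ X}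
    {f' : X' ⟶ Y'} (sq : IsPullback g' f' f g) (hf : AlgSp.LocP @LocallyOfFiniteType f)
    (x' : AlgSp.Points X') :
    AlgSp.HasAtMor (fun _ _ h u => P (FlatMor.fibreDimAt h u)) f (AlgSp.Points.map g' x') ↔
      AlgSp.HasAtMor (fun _ _ h u => P (FlatMor.fibreDimAt h u)) f' x' := by
  obtain ⟨U, V, U', V', a, b, h, a', b', h', α, β, hae, has, hbe, hbs, ha'e, ha's, hb'e, hb's, hc, hc',
    hα, hβ, sqU⟩ := Groth.Agent.Lib.Seat45.BaseChange.exists_baseChange_atlas_diagram hX hY hY' sq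
  obtain ⟨u', hu'⟩ := Groth.Agent.S10177.surjective_ofPt a' ha's x'
  haveI : LocallyOfFiniteType h.left := hf a b h hae hbe hc
  have h1 : AlgSp.Points.map g' x' = AlgSp.Points.ofPt a (α.left u') := by
    rw [← hu', AlgSp.Points.map_ofPt, hα, Groth.Agent.S10176.ofPt_map_comp]
  have h3 := (Groth.Agent.S9358.result h.left β.left α.left h'.left
    (sqU.map (Over.forget S)) 0).1 u'
  rw [h1, ← hu', hasAtMor_fibreDimAt_ofPt_iff P hX hY f a b h hae hbe hc,
    hasAtMor_fibreDimAt_ofPt_iff P hX' hY' f' a' b' h' ha'e hb'e hc', h3]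

end Groth.Agent.Lib.Seat45.FibDimSp
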