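import Mathlib
import Groth.Agent.Lib.Seat45LocFinIrr
import Groth.Agent.Lib.Seat45ChartsMor
import Groth.Agent.Lib.Seat45EtDim

/-!
# Algebraic spaces whose étale charts have locally finitely many irreducible components (seat 45)

* `exists_atlas_diagram_over`: an atlas diagram of `f : F ⟶ G` over a prescribed étale surjective chart of `G`.
* `locFinIrr_chart`: if some étale surjective chart of an algebraic space has `LocFinIrr`, every étale chart has.
* `finite_irreducibleComponents_of_surjective`: finiteness of the set of irreducible components passes to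
  continuous surjective images.
* `maxPt_iff_stalkDim_eq_zero`: maximal points of a scheme are the points with zero-dimensional local ring.
-/

set_option autoImplicit false
set_option linter.style.haveILetI false
universe u

open CategoryTheory CategoryTheory.Limits AlgebraicGeometry

namespace Groth.Agent.Lib.Seat45.LocFinIrr

open Groth.Agent.Lib.Seat45.Charts

section Top

variable {α β : Type*} [TopologicalSpace α] [TopologicalSpace β]

theorem finite_irreducibleComponents_of_surjective (f : α → β) (hf : Continuous f)
    (hsurj : Function.Surjective f) (h : (irreducibleComponents α).Finite) :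
    (irreducibleComponents β).Finite := by
  classical
  refine (h.image (fun Z => closure (f '' Z))).subset ?_
  intro T hT
  have hcov : T ⊆ ⋃₀ ((h.toFinset.image (fun Z => closure (f '' Z)) : Finset (Set β)) : Set (Set β)) := by
    intro b _
    obtain ⟨a, rfl⟩ := hsurj b
    refine ⟨closure (f '' irreducibleComponent a), ?_, subset_closure ⟨a, mem_irreducibleComponent, rfl⟩⟩
    simp only [Finset.coe_image, Set.Finite.coe_toFinset, Set.mem_image]
    exact ⟨_, irreducibleComponent_mem_irreducibleComponents a, rfl⟩
  obtain ⟨z, hz, hTz⟩ := (isIrreducible_iff_sUnion_isClosed.1 hT.1) _ (by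
    intro z hz
    simp only [Finset.mem_image, Set.Finite.mem_toFinset] at hz
    obtain ⟨Z, -, rfl⟩ := hz
    exact isClosed_closure) hcov
  simp only [Finset.mem_image, Set.Finite.mem_toFinset] at hz
  obtain ⟨Z, hZ, rfl⟩ := hz
  refine ⟨Z, hZ, ?_⟩
  have hirr : IsIrreducible (closure (f '' Z)) := (hZ.1.image f hf.continuousOn).closure
  exact le_antisymm (hT.2 hirr hTz) hTz

end Top

/-- Maximal points of a scheme are the points whose local ring has dimension zero. -/
theorem maxPt_iff_stalkDim_eq_zero {U : Scheme.{u}} (x : ↥U) :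
    MaxPt x ↔ ringKrullDim (U.presheaf.stalk x) = 0 := by
  rw [ringKrullDim_stalk_eq_coheight]
  have h0 : ((Order.coheight x : ℕ∞) : WithBot ℕ∞) = 0 ↔ Order.coheight x = 0 := by
    constructor
    · intro h; exact_mod_cast h
    · intro h; rw [h]; rfl
  rw [h0, Order.coheight_eq_zero]
  constructor
  · intro h y hxy
    have : y ⤳ x := hxy
    rw [h y this]
  · intro h y hy
    have h1 : x ≤ y := hy
    have h2 : y ≤ x := h h1
    exact (hy.antisymm h2).eq

variable {S : Scheme.{u}}

/-- An atlas diagram of `f : F ⟶ G` over a prescribed étale surjective chart of `G`. -/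
lemma exists_atlas_diagram_over {F G : AlgSp.Sp S} (hF : AlgSp.IsAlgSpace F) (f : F ⟶ G) {V : Over S}
    (b : (AlgSp.yon S).obj V ⟶ G) (hbe : AlgSp.RepWith @Etale b) (hbs : AlgSp.RepWith @Surjective b) :
    ∃ (U : Over S) (a : (AlgSp.yon S).obj U ⟶ F) (h : U ⟶ V),
      AlgSp.RepWith @Etale a ∧ AlgSp.RepWith @Surjective a ∧ a ≫ f = (AlgSp.yon S).map h ≫ b := by
  obtain ⟨U, a, hae, has⟩ := hF.atlas
  obtain ⟨W, p, q', sq⟩ := hbe.1 (a ≫ f)
  obtain ⟨q, rfl⟩ := (AlgSp.yon S).map_surjective q'
  haveI hp : Etale p.left := hbe.2 _ _ _ sq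
  haveI hps : Surjective p.left := hbs.2 _ _ _ sq
  refine ⟨W, (AlgSp.yon S).map p ≫ a, q, repWith_etale_comp p a hae, ?_, ?_⟩
  · exact (AlgSp.RepWith @Surjective).comp_mem _ _
      ((AlgSp.repWith_yon_map_iff _ _).2 inferInstance) has
  · rw [Category.assoc]; exact sq.w.symm

/-- If some étale surjective chart of `F` has locally finitely many irreducible components, so has every étale
chart. -/
theorem locFinIrr_chart {F : AlgSp.Sp S} (hX : AlgSp.EtaleLocally LocFinIrr F) {U : Over S}
    (a : (AlgSp.yon S).obj U ⟶ F) (ha : AlgSp.RepWith @Etale a) : LocFinIrr U.left := by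
  obtain ⟨V, p, hpe, hps, hV⟩ := hX
  have sq := hpe.rep.isPullback' a
  haveI : Etale (hpe.rep.snd a).left := hpe.property_snd a
  haveI : Surjective (hpe.rep.snd a).left := hps.2 a _ _ (hpe.rep.isPullback a)
  haveI : Etale (hpe.rep.fst' a).left := ha.2 p _ _ sq.flip
  have h1 : LocFinIrr (hpe.rep.pullback a).left := locFinIrr_of_flat_lft (hpe.rep.fst' a).left hV
  exact locFinIrr_of_isOpenMap_surjective (hpe.rep.snd a).left (hpe.rep.snd a).left.isOpenMap
    (hpe.rep.snd a).left.surjective h1

end Groth.Agent.Lib.Seat45.LocFinIrr
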