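import Mathlib
import Groth.Agent.Lib.Seat45FibDim
import Groth.Agent.Lib.Seat45EtDim
import Groth.Agent.Lib.Seat45LocFinIrrSp

/-!
# Finiteness of the quasi-finite points of a fibre (seat 45)

* `finite_isolated`: a Noetherian space has finitely many isolated points.
* `finite_quasiFiniteAt_fibre`: for a quasi-compact morphism locally of finite type, the points of a fibre at
  which the morphism is quasi-finite are finite in number.
-/

set_option autoImplicit false
set_option linter.style.haveILetI false
universe u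

open CategoryTheory CategoryTheory.Limits AlgebraicGeometry TopologicalSpace

namespace Groth.Agent.Lib.Seat45.QFin

/-- In a Noetherian space the set of isolated points is finite. -/
lemma finite_isolated {α : Type*} [TopologicalSpace α] [NoetherianSpace α] :
    {z : α | IsOpen ({z} : Set α)}.Finite := by
  have hc : IsCompact {z : α | IsOpen ({z} : Set α)} := NoetherianSpace.isCompact _
  refine hc.finite ?_
  rw [isDiscrete_iff_forall_mem_exists_isOpen]
  intro z hz
  refine ⟨{z}, hz, ?_⟩
  ext w
  simp only [Set.mem_inter_iff, Set.mem_singleton_iff, Set.mem_setOf_eq, and_iff_left_iff_imp]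
  rintro rfl
  exact hz

/-- For a quasi-compact morphism locally of finite type, only finitely many points of a given fibre are
quasi-finite points of the morphism. -/
lemma finite_quasiFiniteAt_fibre {U V : Scheme.{u}} (h : U ⟶ V) [LocallyOfFiniteType h] [QuasiCompact h]
    (v : ↥V) : {u : ↥U | h u = v ∧ h.QuasiFiniteAt u}.Finite := by
  haveI : LocallyOfFiniteType (h.fiberToSpecResidueField v) :=
    inferInstanceAs (LocallyOfFiniteType (Limits.pullback.snd h (V.fromSpecResidueField v)))
  haveI : IsLocallyNoetherian (h.fiber v) :=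
    LocallyOfFiniteType.isLocallyNoetherian (h.fiberToSpecResidueField v)
  haveI : QuasiCompact (h.fiberToSpecResidueField v) :=
    inferInstanceAs (QuasiCompact (Limits.pullback.snd h (V.fromSpecResidueField v)))
  haveI : CompactSpace ↥(h.fiber v) :=
    QuasiCompact.compactSpace_of_compactSpace (h.fiberToSpecResidueField v)
  haveI : IsNoetherian (h.fiber v) := {}
  haveI : NoetherianSpace ↥(h.fiber v) := IsNoetherian.noetherianSpace
  have hfin := finite_isolated (α := ↥(h.fiber v))
  refine (hfin.image (h.fiberι v)).subset ?_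
  rintro u ⟨rfl, hu⟩
  exact ⟨h.asFiber u, Scheme.Hom.quasiFiniteAt_iff_isOpen_singleton_asFiber.1 hu, h.fiberι_asFiber u⟩

open Groth.Agent.Lib.Seat45.LocFinIrr in
/-- If every point of the fibre through `u` has a zero-dimensional local ring on the source, then `h` is
quasi-finite at `u`. -/
lemma quasiFiniteAt_of_forall_stalkDim_eq_zero {U V : Scheme.{u}} (h : U ⟶ V) [LocallyOfFiniteType h]
    (u : ↥U) (H : ∀ u' : ↥U, h u' = h u → ringKrullDim (U.presheaf.stalk u') = 0) :
    h.QuasiFiniteAt u := by
  rw [Groth.Agent.Lib.Seat45.FibDim.quasiFiniteAt_iff_fibreDimAt_le_zero]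
  have hstalk : ∀ z : ↥(h.fiber (h u)), ringKrullDim ((h.fiber (h u)).presheaf.stalk z) = 0 := by
    intro z
    rw [← maxPt_iff_stalkDim_eq_zero]
    intro z' hz'
    have h1 : h.fiberι (h u) z' ⤳ h.fiberι (h u) z := hz'.map (h.fiberι (h u)).continuous
    have hz : h (h.fiberι (h u) z) = h u := by
      have : h.fiberι (h u) z ∈ Set.range (h.fiberι (h u)) := ⟨z, rfl⟩
      rw [h.range_fiberι] at this
      exact this
    have h2 : MaxPt (h.fiberι (h u) z) := (maxPt_iff_stalkDim_eq_zero _).2 (H _ hz)
    exact (h.fiberι (h u)).isEmbedding.injective (h2 _ h1)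
  unfold FlatMor.fibreDimAt FlatMor.localDim
  refine iInf_le_of_le ⟨⊤, trivial⟩ ?_
  have := Groth.Agent.Lib.Seat45.EtDim.topologicalKrullDim_opens (X := h.fiber (h u)) ⊤
  rw [this]
  exact iSup_le fun z => (hstalk z.1).le

/-- At a quasi-finite point the dimension of the local ring does not go up. -/
lemma ringKrullDim_stalk_le_of_quasiFiniteAt {U V : Scheme.{u}} (h : U ⟶ V) [LocallyOfFiniteType h]
    (u : ↥U) (hu : h.QuasiFiniteAt u) :
    ringKrullDim (U.presheaf.stalk u) ≤ ringKrullDim (V.presheaf.stalk (h u)) := by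
  have h1 := Groth.Agent.Lib.Seat45.EtDim.ringKrullDim_stalk_le_of_lqf (h.quasiFiniteLocus.ι ≫ h) ⟨u, hu⟩
  rwa [Groth.Agent.Lib.Seat45.EtDim.ringKrullDim_stalk_eq_of_etale h.quasiFiniteLocus.ι ⟨u, hu⟩] at h1

/-- A quasi-finite point has no proper specialization inside its fibre. -/
lemma eq_of_specializes_of_quasiFiniteAt {U V : Scheme.{u}} (h : U ⟶ V) [LocallyOfFiniteType h]
    {u₀ u : ↥U} (hu₀ : h.QuasiFiniteAt u₀) (hs : u₀ ⤳ u) (he : h u = h u₀) : u = u₀ := by
  have hcl := hu₀.isClopen_singleton_asFiber.1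
  have hmem : u ∈ Set.range (h.fiberι (h u₀)) := by rw [h.range_fiberι]; exact he
  obtain ⟨z, rfl⟩ := hmem
  have h1 : h.asFiber u₀ ⤳ z := by
    rw [← (h.fiberι (h u₀)).isEmbedding.toIsInducing.specializes_iff, h.fiberι_asFiber]
    exact hs
  have h2 : z ∈ ({h.asFiber u₀} : Set ↥(h.fiber (h u₀))) := h1.mem_closed hcl rfl
  rw [h2, h.fiberι_asFiber]

end Groth.Agent.Lib.Seat45.QFin
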