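import Mathlib
import Groth.Agent.Lib.Seat45QFin
import Groth.Agent.Lib.Seat45FibDimSp
import Groth.Agent.S9874
import Groth.Agent.S10175

/-!
# Quasi-finite points of a morphism of algebraic spaces (seat 45)

* `exists_affine_chart`: an étale chart through a given point with affine source.
* `QFNear`: the predicate "quasi-finite (and locally of finite type) on an open neighbourhood of the point".
* `hasAtMor_qfNear_ofPt_iff`: for `f` locally of finite type, quasi-finiteness at the image of `u` is read on any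
  chart diagram as `QuasiFiniteAt`.
* `exists_qc_chart_diagram_over`: for `f` quasi-compact and a chart `V → Y` with `V` quasi-compact, a chart
  diagram `U → V` of `f` with `U` quasi-compact such that every pair `(x, v)` of points with the same image in `Y`
  lifts to a point of `U`.
-/

set_option autoImplicit false
set_option linter.style.haveILetI false
universe u

open CategoryTheory CategoryTheory.Limits AlgebraicGeometry

namespace Groth.Agent.Lib.Seat45.QFin

open Groth.Agent.Lib.Seat45.Charts Groth.Agent.Lib.Seat45.ChartsMor Groth.Agent.Lib.Seat45.FibDimSp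
  Groth.Agent.Lib.Seat45.FibDim

variable {S : Scheme.{u}}

/-- An étale chart through a given point with affine source. -/
lemma exists_affine_chart {F : AlgSp.Sp S} (hF : AlgSp.IsAlgSpace F) (y : AlgSp.Points F) :
    ∃ (V : Over S) (b : (AlgSp.yon S).obj V ⟶ F) (v : ↥V.left),
      AlgSp.RepWith @Etale b ∧ AlgSp.Points.ofPt b v = y ∧ IsAffine V.left := by
  obtain ⟨V₀, b₀, v₀, hb₀, hv₀⟩ := exists_chart hF y
  obtain ⟨O, hO, hvO, -⟩ :=
    exists_isAffineOpen_mem_and_subset (U := (⊤ : V₀.left.Opens)) (x := v₀) trivial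
  let V : Over S := Over.mk (O.ι ≫ V₀.hom)
  let i : V ⟶ V₀ := Over.homMk O.ι rfl
  haveI : Etale i.left := by change Etale O.ι; infer_instance
  refine ⟨V, (AlgSp.yon S).map i ≫ b₀, ⟨v₀, hvO⟩, repWith_etale_comp i b₀ hb₀, ?_, hO⟩
  rw [Groth.Agent.S10176.ofPt_map_comp]
  exact hv₀

/-- `h` is locally quasi-finite and locally of finite type on an open neighbourhood of `u`. -/
def QFNear (U V : Scheme.{u}) (h : U ⟶ V) (u : ↥U) : Prop :=
  ∃ W : U.Opens, u ∈ W ∧ LocallyQuasiFinite (W.ι ≫ h) ∧ LocallyOfFiniteType (W.ι ≫ h)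

/-- For `f` locally of finite type, quasi-finiteness at the image of `u` can be read on any chart diagram. -/
theorem hasAtMor_qfNear_ofPt_iff {F G : AlgSp.Sp S} (hF : AlgSp.IsAlgSpace F) (hG : AlgSp.IsAlgSpace G)
    (f : F ⟶ G) (hf : AlgSp.LocP @LocallyOfFiniteType f)
    {U V : Over S} (a : (AlgSp.yon S).obj U ⟶ F) (b : (AlgSp.yon S).obj V ⟶ G) (h : U ⟶ V)
    (ha : AlgSp.RepWith @Etale a) (hb : AlgSp.RepWith @Etale b)
    (hc : a ≫ f = (AlgSp.yon S).map h ≫ b) (u : ↥U.left) :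
    AlgSp.HasAtMor QFNear f (AlgSp.Points.ofPt a u) ↔ h.left.QuasiFiniteAt u := by
  haveI : LocallyOfFiniteType h.left := hf a b h ha hb hc
  rw [quasiFiniteAt_iff_fibreDimAt_le_zero,
    ← hasAtMor_fibreDimAt_ofPt_iff (fun e => e ≤ 0) hF hG f a b h ha hb hc u]
  constructor
  · rintro ⟨U₁, V₁, a₁, b₁, h₁, u₁, ha₁, hb₁, hc₁, hu₁, hW⟩
    haveI : LocallyOfFiniteType h₁.left := hf a₁ b₁ h₁ ha₁ hb₁ hc₁
    exact ⟨U₁, V₁, a₁, b₁, h₁, u₁, ha₁, hb₁, hc₁, hu₁,
      (exists_opens_lqf_iff_fibreDimAt_le_zero h₁.left u₁).1 hW⟩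
  · rintro ⟨U₁, V₁, a₁, b₁, h₁, u₁, ha₁, hb₁, hc₁, hu₁, hle⟩
    haveI : LocallyOfFiniteType h₁.left := hf a₁ b₁ h₁ ha₁ hb₁ hc₁
    exact ⟨U₁, V₁, a₁, b₁, h₁, u₁, ha₁, hb₁, hc₁, hu₁,
      (exists_opens_lqf_iff_fibreDimAt_le_zero h₁.left u₁).2 hle⟩

/-- For a quasi-compact morphism `f : F ⟶ G` of algebraic spaces and an étale chart `b : V ⟶ G` with `V`
quasi-compact there is a chart diagram `h : U ⟶ V` of `f` with `U` quasi-compact through which every pair of
points `(x, v)` with the same image in `G` lifts. -/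
theorem exists_qc_chart_diagram_over {F G : AlgSp.Sp S} (hF : AlgSp.IsAlgSpace F) (hG : AlgSp.IsAlgSpace G)
    (f : F ⟶ G) (hqc : AlgSp.IsQuasiCompactMor f) {V : Over S} (b : (AlgSp.yon S).obj V ⟶ G)
    (hbe : AlgSp.RepWith @Etale b) [CompactSpace ↥V.left] :
    ∃ (U : Over S) (a : (AlgSp.yon S).obj U ⟶ F) (h : U ⟶ V), AlgSp.RepWith @Etale a ∧
      a ≫ f = (AlgSp.yon S).map h ≫ b ∧ CompactSpace ↥U.left ∧
      ∀ (x : AlgSp.Points F) (v : ↥V.left), AlgSp.Points.map f x = AlgSp.Points.ofPt b v →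
        ∃ u : ↥U.left, AlgSp.Points.ofPt a u = x ∧ h.left u = v := by
  have sqP := IsPullback.of_hasPullback f b
  have hP : AlgSp.IsAlgSpace (pullback f b) :=
    Groth.Agent.S9874.isAlgSpace_of_isPullback hG.diag hF (AlgSp.IsAlgSpace.yon_obj V) sqP
  have hVqc : AlgSp.IsQuasiCompactSp ((AlgSp.yon S).obj V) :=
    ⟨V, 𝟙 _, AlgSp.repWith_id _ V, AlgSp.repWith_id _ V, inferInstance⟩
  obtain ⟨U, e, hee, hes, hUc⟩ :=
    hqc (AlgSp.IsAlgSpace.yon_obj V) hVqc b (pullback.fst f b) (pullback.snd f b) sqP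
  have hfe : AlgSp.RepWith @Etale (pullback.fst f b) :=
    MorphismProperty.of_isPullback (P := AlgSp.RepWith @Etale) sqP.flip hbe
  obtain ⟨h, hh⟩ := (AlgSp.yon S).map_surjective (e ≫ pullback.snd f b)
  refine ⟨U, e ≫ pullback.fst f b, h, (AlgSp.RepWith @Etale).comp_mem _ _ hee hfe, ?_, hUc, ?_⟩
  · rw [hh, Category.assoc, Category.assoc, pullback.condition]
  · intro x v hxv
    have e1 : AlgSp.Points.map f x = AlgSp.Points.map b (AlgSp.Points.ofScheme V v) := by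
      rw [hxv, AlgSp.Points.ofPt_eq_map_ofScheme]
    obtain ⟨p, hp1, hp2⟩ := Groth.Agent.S10175.exists_point_of_isPullback sqP x _ e1
    obtain ⟨u, hu⟩ := Groth.Agent.S10177.surjective_ofPt e hes p
    refine ⟨u, ?_, ?_⟩
    · rw [← AlgSp.Points.map_ofPt, hu, hp1]
    · have h2 : AlgSp.Points.ofPt ((AlgSp.yon S).map h) u = AlgSp.Points.ofScheme V v := by
        rw [hh, ← AlgSp.Points.map_ofPt, hu, hp2]
      have h3 := congrArg (AlgSp.Points.toScheme V) h2
      rwa [AlgSp.Points.toScheme_ofPt, AlgSp.Points.toScheme_ofScheme] at h3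

/-- For `f` of finite type, only finitely many points over a given point are quasi-finite points of `f`. -/
theorem finite_setOf_qfNear_over_point {F G : AlgSp.Sp S} (hF : AlgSp.IsAlgSpace F) (hG : AlgSp.IsAlgSpace G)
    (f : F ⟶ G) (hlft : AlgSp.LocP @LocallyOfFiniteType f) (hqc : AlgSp.IsQuasiCompactMor f)
    (y : AlgSp.Points G) :
    {x : AlgSp.Points F | AlgSp.Points.map f x = y ∧ AlgSp.HasAtMor QFNear f x}.Finite := by
  obtain ⟨V, b, v, hbe, hv, hVaff⟩ := exists_affine_chart hG y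
  haveI : IsAffine V.left := hVaff
  obtain ⟨U, a, h, hae, hc, hUc, hlift⟩ := exists_qc_chart_diagram_over hF hG f hqc b hbe
  haveI : CompactSpace ↥U.left := hUc
  haveI : LocallyOfFiniteType h.left := hlft a b h hae hbe hc
  refine ((finite_quasiFiniteAt_fibre h.left v).image (AlgSp.Points.ofPt a)).subset ?_
  rintro x ⟨hxy, hx⟩
  obtain ⟨u, rfl, huv⟩ := hlift x v (by rw [hxy, hv])
  exact ⟨u, ⟨huv, (hasAtMor_qfNear_ofPt_iff hF hG f hlft a b h hae hbe hc u).1 hx⟩, rfl⟩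

/-- For `f` locally of finite type, quasi-finiteness at a point is the vanishing of the relative dimension. -/
theorem hasAtMor_qfNear_iff_fibreDimAt {F G : AlgSp.Sp S} (f : F ⟶ G)
    (hf : AlgSp.LocP @LocallyOfFiniteType f) (x : AlgSp.Points F) :
    AlgSp.HasAtMor QFNear f x ↔ AlgSp.HasAtMor (fun _ _ h u => FlatMor.fibreDimAt h u ≤ 0) f x := by
  constructor
  · rintro ⟨U₁, V₁, a₁, b₁, h₁, u₁, ha₁, hb₁, hc₁, hu₁, hW⟩
    haveI : LocallyOfFiniteType h₁.left := hf a₁ b₁ h₁ ha₁ hb₁ hc₁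
    exact ⟨U₁, V₁, a₁, b₁, h₁, u₁, ha₁, hb₁, hc₁, hu₁,
      (exists_opens_lqf_iff_fibreDimAt_le_zero h₁.left u₁).1 hW⟩
  · rintro ⟨U₁, V₁, a₁, b₁, h₁, u₁, ha₁, hb₁, hc₁, hu₁, hle⟩
    haveI : LocallyOfFiniteType h₁.left := hf a₁ b₁ h₁ ha₁ hb₁ hc₁
    exact ⟨U₁, V₁, a₁, b₁, h₁, u₁, ha₁, hb₁, hc₁, hu₁,
      (exists_opens_lqf_iff_fibreDimAt_le_zero h₁.left u₁).2 hle⟩

/-- Quasi-finiteness at a point is insensitive to base change (for morphisms locally of finite type). -/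
theorem hasAtMor_qfNear_baseChange_iff {X Y Y' X' : AlgSp.Sp S} (hX : AlgSp.IsAlgSpace X)
    (hY : AlgSp.IsAlgSpace Y) (hY' : AlgSp.IsAlgSpace Y') (hX' : AlgSp.IsAlgSpace X') {f : X ⟶ Y}
    {g : Y' ⟶ Y} {g' : X' ⟶ X} {f' : X' ⟶ Y'} (sq : IsPullback g' f' f g)
    (hf : AlgSp.LocP @LocallyOfFiniteType f) (hf' : AlgSp.LocP @LocallyOfFiniteType f')
    (x' : AlgSp.Points X') :
    AlgSp.HasAtMor QFNear f (AlgSp.Points.map g' x') ↔ AlgSp.HasAtMor QFNear f' x' := by
  rw [hasAtMor_qfNear_iff_fibreDimAt f hf, hasAtMor_qfNear_iff_fibreDimAt f' hf']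
  exact hasAtMor_fibreDimAt_baseChange_iff (fun e => e ≤ 0) hX hY hY' hX' sq hf x'

open Groth.Agent.Lib.Seat45.LocFinIrr in
/-- If all points of a scheme étale over `F` define the same point of `F`, every point of the scheme is a
maximal point. -/
lemma maxPt_of_ofPt_const {F : AlgSp.Sp S} {O : Over S} (c : (AlgSp.yon S).obj O ⟶ F)
    (hc : AlgSp.RepWith @Etale c)
    (hconst : ∀ z z' : ↥O.left, AlgSp.Points.ofPt c z = AlgSp.Points.ofPt c z') (z : ↥O.left) :
    MaxPt z := by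
  intro z₁ hz₁
  obtain ⟨z₀, hz₀max, hz₀z₁⟩ := exists_maxPt_specializes z₁
  have hz₀z : z₀ ⤳ z := hz₀z₁.trans hz₁
  suffices h : z₀ = z by
    rw [h] at hz₀z₁
    exact (hz₁.antisymm hz₀z₁).eq
  obtain ⟨R, s, t', sq⟩ := hc.1 c
  obtain ⟨t, rfl⟩ := (AlgSp.yon S).map_surjective t'
  haveI : Etale s.left := hc.2 _ _ _ sq
  haveI : Etale t.left := hc.2 _ _ _ sq.flip
  obtain ⟨r, hr1, hr2⟩ := Groth.Agent.S10176.exists_point_of_isPullback_yon sq z z₀ (hconst z z₀)
  have hrmax : MaxPt r := by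
    intro r' hr'
    haveI : LocallyQuasiFinite s.left := Groth.Agent.Lib.Seat45.EtDim.locallyQuasiFinite_of_etale s.left
    have h1 : s.left r' = s.left r := by
      rw [hr2]
      exact hz₀max _ (hr2 ▸ hr'.map s.left.continuous)
    by_contra hne
    have hle : r ≤ r' := hr'
    have hlt : r < r' := lt_of_le_not_ge hle (fun h => hne ((hr'.antisymm (h : r ⤳ r')).eq))
    exact (Groth.Agent.Lib.Seat45.EtDim.strictMono_of_lqf s.left hlt).ne h1.symm
  obtain ⟨r', hr', hr'z⟩ := (Flat.generalizingMap t.left) (hr1 ▸ hz₀z : z₀ ⤳ t.left r)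
  rw [hrmax r' hr', hr1] at hr'z
  exact hr'z.symm

open Groth.Agent.Lib.Seat45.LocFinIrr in
/-- A morphism locally of finite type from an algebraic space with discrete space of points is quasi-finite
at every point. -/
theorem hasAtMor_qfNear_of_discrete {F G : AlgSp.Sp S} (hF : AlgSp.IsAlgSpace F) (hG : AlgSp.IsAlgSpace G)
    (f : F ⟶ G) (hf : AlgSp.LocP @LocallyOfFiniteType f) [DiscreteTopology (AlgSp.Points F)]
    (x : AlgSp.Points F) : AlgSp.HasAtMor QFNear f x := by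
  obtain ⟨T, V, c, b, h, t, hc, hb, hcomm, rfl⟩ := exists_diagram hF hG f x
  haveI : LocallyOfFiniteType h.left := hf c b h hc hb hcomm
  refine (hasAtMor_qfNear_ofPt_iff hF hG f hf c b h hc hb hcomm t).2 ?_
  let O : T.left.Opens := ⟨AlgSp.Points.ofPt c ⁻¹' {AlgSp.Points.ofPt c t},
    (isOpen_discrete _).preimage (AlgSp.Points.continuous_ofPt c)⟩
  have htO : t ∈ O := rfl
  let O' : Over S := Over.mk (O.ι ≫ T.hom)
  let i : O' ⟶ T := Over.homMk O.ι rfl
  haveI : Etale i.left := by change Etale O.ι; infer_instance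
  have hc₀ : AlgSp.RepWith @Etale ((AlgSp.yon S).map i ≫ c) := repWith_etale_comp i c hc
  have hconst : ∀ z z' : ↥O'.left, AlgSp.Points.ofPt ((AlgSp.yon S).map i ≫ c) z =
      AlgSp.Points.ofPt ((AlgSp.yon S).map i ≫ c) z' := by
    intro z z'
    rw [Groth.Agent.S10176.ofPt_map_comp, Groth.Agent.S10176.ofPt_map_comp]
    exact z.2.trans z'.2.symm
  have hq : (O.ι ≫ h.left).QuasiFiniteAt (⟨t, htO⟩ : ↥O) := by
    refine quasiFiniteAt_of_forall_stalkDim_eq_zero (O.ι ≫ h.left) _ fun z _ => ?_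
    exact (maxPt_iff_stalkDim_eq_zero (U := O'.left) z).1 (maxPt_of_ofPt_const _ hc₀ hconst z)
  rwa [Scheme.Hom.quasiFiniteAt_comp_iff_of_isOpenImmersion] at hq

end Groth.Agent.Lib.Seat45.QFin
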