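import Groth.Agent.S0402
import Groth.Agent.S0404
import Groth.Agent.S7408
import Groth.Agent.Lib.Helper7TopDim
import Groth.Agent.Lib.Helper3DimCons
import Groth.Agent.Lib.Seat45FibDimSp
import Groth.Agent.Lib.Seat45QFinSp

/-!
# Semicontinuity of fibre dimension for algebraic spaces (seat 45)

Scheme level:
* `isOpen_image_lt_fibreDimAt`: for `h` flat and locally of finite presentation, the image of the closed set
  `{u | n < fibreDimAt h u}` is open (no quasi-compactness needed).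

Space level:
* `isOpen_hasAtMor_fibreDimAt_le`: the locus of relative dimension `≤ n` is open in the source.
* `isOpen_image_not_hasAtMor_le`: for `f` flat lfp, the image of the complement is open.
-/

set_option autoImplicit false
set_option linter.style.haveILetI false
universe u

open CategoryTheory CategoryTheory.Limits AlgebraicGeometry

namespace Groth.Agent.Lib.Seat45.FibDimSemi

open Groth.Agent.Lib.Helper7.TopDim Groth.Agent.Lib.Helper3.DimCons

/-- For a flat morphism locally of finite presentation, the image of the locus where the fibre dimension exceeds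
`n` is open. -/
theorem isOpen_image_lt_fibreDimAt {U W : Scheme.{u}} (h : U ⟶ W) [Flat h]
    [LocallyOfFinitePresentation h] (n : ℕ) :
    IsOpen (h '' {u | (n : WithBot ℕ∞) < FlatMor.fibreDimAt h u}) := by
  refine isOpen_iff_forall_mem_open.mpr ?_
  rintro _ ⟨u₀, hu₀, rfl⟩
  obtain ⟨Wi, hWi, hwWi, -⟩ :=
    exists_isAffineOpen_mem_and_subset (U := (⊤ : W.Opens)) (x := h u₀) trivial
  obtain ⟨Uj, hUj, huUj, hUjW⟩ :=
    exists_isAffineOpen_mem_and_subset (U := h ⁻¹ᵁ Wi) (x := u₀) hwWi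
  haveI : IsAffine (Wi : Scheme.{u}) := hWi
  haveI : IsAffine (Uj : Scheme.{u}) := hUj
  let g : (Uj : Scheme.{u}) ⟶ Wi := h.resLE Wi Uj hUjW
  have hcomm : g ≫ Wi.ι = Uj.ι ≫ h := Scheme.Hom.resLE_comp_ι _ _
  have hO : IsOpen {s : ↥Wi | (n : WithBot ℕ∞) < topologicalKrullDim ↥(g.fiber s)} :=
    Groth.Agent.S0404.result g (n : WithBot ℕ∞)
  refine ⟨Wi.ι '' {s : ↥Wi | (n : WithBot ℕ∞) < topologicalKrullDim ↥(g.fiber s)}, ?_,
    Wi.ι.isOpenEmbedding.isOpenMap _ hO, ?_⟩
  · rintro _ ⟨s, hs, rfl⟩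
    change (n : WithBot ℕ∞) < topologicalKrullDim ↥(g.fiber s) at hs
    rw [topologicalKrullDim_eq_iSup_localDim, lt_iSup_iff] at hs
    obtain ⟨z, hz⟩ := hs
    rw [← fibreDimAt_fiberι g s z, ← Groth.Agent.S7408.result h g Uj.ι Wi.ι hcomm] at hz
    refine ⟨Uj.ι (g.fiberι s z), hz, ?_⟩
    have h1 : g (g.fiberι s z) = s := by
      have : g.fiberι s z ∈ Set.range (g.fiberι s) := ⟨z, rfl⟩
      rw [Scheme.Hom.range_fiberι] at this
      exact this
    rw [← Scheme.Hom.comp_apply, ← hcomm, Scheme.Hom.comp_apply, h1]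
  · refine ⟨g ⟨u₀, huUj⟩, ?_, ?_⟩
    · have h1 : FlatMor.fibreDimAt h (Uj.ι ⟨u₀, huUj⟩) = FlatMor.fibreDimAt g ⟨u₀, huUj⟩ :=
        Groth.Agent.S7408.result h g Uj.ι Wi.ι hcomm _
      have h2 : (n : WithBot ℕ∞) < FlatMor.fibreDimAt g ⟨u₀, huUj⟩ := by
        rw [← h1]
        exact hu₀
      exact lt_of_lt_of_le h2 (localDim_le_dim _)
    · rw [← Scheme.Hom.comp_apply, hcomm, Scheme.Hom.comp_apply]
      rfl

variable {S : Scheme.{u}}

/-- A chart diagram of `f` over a given étale chart of the target through which every compatible pair of points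
lifts. -/
theorem exists_chart_diagram_over {F G : AlgSp.Sp S} (hF : AlgSp.IsAlgSpace F) (hG : AlgSp.IsAlgSpace G)
    (f : F ⟶ G) {V : Over S} (b : (AlgSp.yon S).obj V ⟶ G) (hbe : AlgSp.RepWith @Etale b) :
    ∃ (U : Over S) (a : (AlgSp.yon S).obj U ⟶ F) (h : U ⟶ V), AlgSp.RepWith @Etale a ∧
      a ≫ f = (AlgSp.yon S).map h ≫ b ∧
      ∀ (x : AlgSp.Points F) (v : ↥V.left), AlgSp.Points.map f x = AlgSp.Points.ofPt b v →
        ∃ u : ↥U.left, AlgSp.Points.ofPt a u = x ∧ h.left u = v := by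
  have sqP := IsPullback.of_hasPullback f b
  have hP : AlgSp.IsAlgSpace (pullback f b) :=
    Groth.Agent.S9874.isAlgSpace_of_isPullback hG.diag hF (AlgSp.IsAlgSpace.yon_obj V) sqP
  obtain ⟨U, e, hee, hes⟩ := hP.atlas
  have hfe : AlgSp.RepWith @Etale (pullback.fst f b) :=
    MorphismProperty.of_isPullback (P := AlgSp.RepWith @Etale) sqP.flip hbe
  obtain ⟨h, hh⟩ := (AlgSp.yon S).map_surjective (e ≫ pullback.snd f b)
  refine ⟨U, e ≫ pullback.fst f b, h, (AlgSp.RepWith @Etale).comp_mem _ _ hee hfe, ?_, ?_⟩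
  · rw [hh, Category.assoc, Category.assoc, pullback.condition]
  · intro x v hxv
    have e1 : AlgSp.Points.map f x = AlgSp.Points.map b (AlgSp.Points.ofScheme V v) := by
      rw [hxv, AlgSp.Points.ofPt_eq_map_ofScheme]
    obtain ⟨p, hp1, hp2⟩ := Groth.Agent.S10175.exists_point_of_isPullback sqP x _ e1
    obtain ⟨u, hu⟩ := Groth.Agent.S10177.surjective_ofPt e hes p
    refine ⟨u, ?_, ?_⟩
    · rw [← AlgSp.Points.map_ofPt, hu, hp1]
    · have h2 : AlgSp.Points.ofPt ((AlgSp.yon S).map h) u = AlgSp.Points.ofScheme V v := by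
        rw [hh, ← AlgSp.Points.map_ofPt, hu, hp2]
      have h3 := congrArg (AlgSp.Points.toScheme V) h2
      rwa [AlgSp.Points.toScheme_ofPt, AlgSp.Points.toScheme_ofScheme] at h3

/-- The locus of relative dimension at most `n` is open in the source. -/
theorem isOpen_hasAtMor_fibreDimAt_le {F G : AlgSp.Sp S} (f : F ⟶ G)
    (hf : AlgSp.LocP @LocallyOfFiniteType f) (n : ℕ) :
    IsOpen {x : AlgSp.Points F |
      AlgSp.HasAtMor (fun _ _ h u => FlatMor.fibreDimAt h u ≤ (n : WithBot ℕ∞)) f x} := by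
  refine isOpen_iff_forall_mem_open.mpr fun x hx => ?_
  obtain ⟨U, V, a, b, h, u, ha, hb, hc, hu, hle⟩ := hx
  haveI : LocallyOfFiniteType h.left := hf a b h ha hb hc
  refine ⟨AlgSp.Points.ofPt a '' {u' | FlatMor.fibreDimAt h.left u' ≤ (n : WithBot ℕ∞)}, ?_,
    Groth.Agent.S10176.isOpenMap_ofPt a ha _ (Groth.Agent.S0402.result h.left n), ⟨u, hle, hu⟩⟩
  rintro _ ⟨u', hu', rfl⟩
  exact ⟨U, V, a, b, h, u', ha, hb, hc, rfl, hu'⟩

/-- For `f` flat and locally of finite presentation, the image of the locus of relative dimension `> n` is open. -/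
theorem isOpen_image_not_hasAtMor_le {F G : AlgSp.Sp S} (hF : AlgSp.IsAlgSpace F) (hG : AlgSp.IsAlgSpace G)
    (f : F ⟶ G) (hfl : AlgSp.LocP @Flat f) (hfp : AlgSp.LocP @LocallyOfFinitePresentation f) (n : ℕ) :
    IsOpen (AlgSp.Points.map f '' {x : AlgSp.Points F |
      ¬ AlgSp.HasAtMor (fun _ _ h u => FlatMor.fibreDimAt h u ≤ (n : WithBot ℕ∞)) f x}) := by
  obtain ⟨W, b, hbe, hbs⟩ := hG.atlas
  obtain ⟨U, a, h, hae, hc, hlift⟩ := exists_chart_diagram_over hF hG f b hbe
  haveI : Flat h.left := hfl a b h hae hbe hc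
  haveI : LocallyOfFinitePresentation h.left := hfp a b h hae hbe hc
  have key : ∀ u : ↥U.left,
      AlgSp.HasAtMor (fun _ _ h u => FlatMor.fibreDimAt h u ≤ (n : WithBot ℕ∞)) f (AlgSp.Points.ofPt a u) ↔
        FlatMor.fibreDimAt h.left u ≤ (n : WithBot ℕ∞) := fun u =>
    Groth.Agent.Lib.Seat45.FibDimSp.hasAtMor_fibreDimAt_ofPt_iff (fun e => e ≤ (n : WithBot ℕ∞))
      hF hG f a b h hae hbe hc u
  set A := AlgSp.Points.map f '' {x : AlgSp.Points F |
      ¬ AlgSp.HasAtMor (fun _ _ h u => FlatMor.fibreDimAt h u ≤ (n : WithBot ℕ∞)) f x} with hA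
  have hpre : AlgSp.Points.ofPt b ⁻¹' A =
      h.left '' {u | (n : WithBot ℕ∞) < FlatMor.fibreDimAt h.left u} := by
    ext w
    constructor
    · rintro ⟨x, hx, hxw⟩
      obtain ⟨u, rfl, rfl⟩ := hlift x w hxw
      exact ⟨u, not_le.1 fun hle => hx ((key u).2 hle), rfl⟩
    · rintro ⟨u, hu, rfl⟩
      refine ⟨AlgSp.Points.ofPt a u, fun hx => not_le.2 hu ((key u).1 hx), ?_⟩
      rw [AlgSp.Points.map_ofPt, hc, Groth.Agent.S10176.ofPt_map_comp]
  have hsurj : Function.Surjective (AlgSp.Points.ofPt b) := Groth.Agent.S10177.surjective_ofPt b hbs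
  rw [← Set.image_preimage_eq A hsurj, hpre]
  exact Groth.Agent.S10176.isOpenMap_ofPt b hbe _ (isOpen_image_lt_fibreDimAt h.left n)

end Groth.Agent.Lib.Seat45.FibDimSemi
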