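import Groth.Agent.Lib.Seat45FibDimSemi
import Groth.Agent.S10678
import Groth.Agent.S9962

/-!
# The fibre dimension function of a morphism of algebraic spaces (seat 45)

* `FibreAll f R y`: every fibre `X_k` over `y` satisfies `R (dim X_k)` (the form used in statements).
* `fibDim f y`: the dimension of a chosen fibre over `y`; `fibreAll_iff : FibreAll f R y ↔ R (fibDim f y)`.
* `fibDim_eq_bot_iff`, `fibDim_le_iff`: characterisation via relative dimension at points (from S10678).
* openness results `isOpen_setOf_lt_fibDim` (flat lfp), `isOpen_setOf_fibDim_le` (closed), `fibDim_ne_top` (qc).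
-/

set_option autoImplicit false
set_option linter.style.haveILetI false
universe u

open CategoryTheory CategoryTheory.Limits AlgebraicGeometry

namespace Groth.Agent.Lib.Seat45.FibDimSemi

variable {S : Scheme.{u}}

/-- Every fibre of `f` over `y` has dimension satisfying `R`. -/
def FibreAll {X Y : AlgSp.Space S} (f : X ⟶ Y) (R : WithBot ℕ∞ → Prop) (y : AlgSp.Points Y.obj) : Prop :=
  ∀ (k : AlgSp.FieldPt Y.obj), AlgSp.Points.mk k = y →
    ∀ (Xk : AlgSp.Sp S) (fst : Xk ⟶ X.obj) (snd : Xk ⟶ (AlgSp.yon S).obj k.pt),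
      IsPullback fst snd f.hom k.toHom → R (AlgSp.dim Xk)

/-- The dimension of a chosen fibre over `y`. -/
noncomputable def fibDim {X Y : AlgSp.Space S} (f : X ⟶ Y) (y : AlgSp.Points Y.obj) : WithBot ℕ∞ :=
  AlgSp.dim (pullback f.hom (Classical.choose (AlgSp.Points.mk_surjective y)).toHom)

lemma withBot_enat_eq {e e' : WithBot ℕ∞} (h0 : e = ⊥ ↔ e' = ⊥)
    (h : ∀ n : ℕ, e ≤ (n : WithBot ℕ∞) ↔ e' ≤ (n : WithBot ℕ∞)) : e = e' := by
  have key : ∀ {a a' : WithBot ℕ∞}, (a' = ⊥ → a = ⊥) →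
      (∀ n : ℕ, a' ≤ (n : WithBot ℕ∞) → a ≤ (n : WithBot ℕ∞)) → a ≤ a' := by
    intro a a' h0 h
    induction a' using WithBot.recBotCoe with
    | bot => rw [h0 rfl]
    | coe m =>
      induction m using ENat.recTopCoe with
      | top => exact le_top
      | coe m => exact h m le_rfl
  exact le_antisymm (key h0.2 fun n hn => (h n).2 hn) (key h0.1 fun n hn => (h n).1 hn)

lemma withBot_enat_lt_zero_iff (x : WithBot ℕ∞) : x < (((0 : ℕ) : ℕ∞) : WithBot ℕ∞) ↔ x = ⊥ := by
  induction x using WithBot.recBotCoe with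
  | bot => simp
  | coe l => simp

lemma withBot_enat_lt_succ_iff (x : WithBot ℕ∞) (k : ℕ) :
    x < (((k + 1 : ℕ) : ℕ∞) : WithBot ℕ∞) ↔ x ≤ (k : WithBot ℕ∞) := by
  induction x using WithBot.recBotCoe with
  | bot => simp
  | coe l =>
    have e : ((k : ℕ) : WithBot ℕ∞) = ((k : ℕ∞) : WithBot ℕ∞) := rfl
    rw [e, WithBot.coe_lt_coe, WithBot.coe_le_coe]
    induction l using ENat.recTopCoe with
    | top => simp
    | coe l => exact_mod_cast Nat.lt_succ_iff

lemma withBot_enat_lt_top_iff (x : WithBot ℕ∞) :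
    x < ((⊤ : ℕ∞) : WithBot ℕ∞) ↔ ∃ n : ℕ, x ≤ (n : WithBot ℕ∞) := by
  induction x using WithBot.recBotCoe with
  | bot => exact ⟨fun _ => ⟨0, bot_le⟩, fun _ => WithBot.bot_lt_coe _⟩
  | coe l =>
    rw [WithBot.coe_lt_coe]
    induction l using ENat.recTopCoe with
    | top =>
      simp only [lt_self_iff_false, false_iff, not_exists]
      intro n hn
      have e : ((n : ℕ) : WithBot ℕ∞) = ((n : ℕ∞) : WithBot ℕ∞) := rfl
      rw [e, WithBot.coe_le_coe, top_le_iff] at hn
      exact ENat.coe_ne_top n hn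
    | coe l => exact ⟨fun _ => ⟨l, le_rfl⟩, fun _ => ENat.coe_lt_top l⟩

variable {X Y : AlgSp.Space S} (f : X ⟶ Y)

/-- All fibres over `y` have the same dimension. -/
theorem dim_fibre_eq_fibDim (hf : AlgSp.IsFiniteTypeMor f.hom) (y : AlgSp.Points Y.obj)
    (k : AlgSp.FieldPt Y.obj) (hk : AlgSp.Points.mk k = y) (Xk : AlgSp.Sp S) (fst : Xk ⟶ X.obj)
    (snd : Xk ⟶ (AlgSp.yon S).obj k.pt) (h : IsPullback fst snd f.hom k.toHom) :
    AlgSp.dim Xk = fibDim f y := by
  have h1 := Groth.Agent.S10678.result f hf y k hk Xk fst snd h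
  have h2 := Groth.Agent.S10678.result f hf y _ (Classical.choose_spec (AlgSp.Points.mk_surjective y)) _ _ _
    (IsPullback.of_hasPullback f.hom (Classical.choose (AlgSp.Points.mk_surjective y)).toHom)
  exact withBot_enat_eq (h1.1.trans h2.1.symm) fun n => (h1.2 n).trans (h2.2 n).symm

theorem fibreAll_iff (hf : AlgSp.IsFiniteTypeMor f.hom) (R : WithBot ℕ∞ → Prop) (y : AlgSp.Points Y.obj) :
    FibreAll f R y ↔ R (fibDim f y) := by
  constructor
  · intro H
    exact H _ (Classical.choose_spec (AlgSp.Points.mk_surjective y)) _ _ _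
      (IsPullback.of_hasPullback f.hom (Classical.choose (AlgSp.Points.mk_surjective y)).toHom)
  · intro H k hk Xk fst snd h
    rw [dim_fibre_eq_fibDim f hf y k hk Xk fst snd h]
    exact H

theorem fibDim_eq_bot_iff (hf : AlgSp.IsFiniteTypeMor f.hom) (y : AlgSp.Points Y.obj) :
    fibDim f y = ⊥ ↔ y ∉ Set.range (AlgSp.Points.map f.hom) :=
  (Groth.Agent.S10678.result f hf y _ (Classical.choose_spec (AlgSp.Points.mk_surjective y)) _ _ _
    (IsPullback.of_hasPullback f.hom (Classical.choose (AlgSp.Points.mk_surjective y)).toHom)).1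

theorem fibDim_le_iff (hf : AlgSp.IsFiniteTypeMor f.hom) (y : AlgSp.Points Y.obj) (n : ℕ) :
    fibDim f y ≤ (n : WithBot ℕ∞) ↔ ∀ x : AlgSp.Points X.obj, AlgSp.Points.map f.hom x = y →
      AlgSp.HasAtMor (fun _ _ h u => FlatMor.fibreDimAt h u ≤ (n : WithBot ℕ∞)) f.hom x :=
  (Groth.Agent.S10678.result f hf y _ (Classical.choose_spec (AlgSp.Points.mk_surjective y)) _ _ _
    (IsPullback.of_hasPullback f.hom (Classical.choose (AlgSp.Points.mk_surjective y)).toHom)).2 n

theorem setOf_fibDim_le_eq (hf : AlgSp.IsFiniteTypeMor f.hom) (n : ℕ) :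
    {y | fibDim f y ≤ (n : WithBot ℕ∞)} = (AlgSp.Points.map f.hom '' {x : AlgSp.Points X.obj |
      ¬ AlgSp.HasAtMor (fun _ _ h u => FlatMor.fibreDimAt h u ≤ (n : WithBot ℕ∞)) f.hom x})ᶜ := by
  ext y
  rw [Set.mem_setOf_eq, fibDim_le_iff f hf, Set.mem_compl_iff]
  constructor
  · rintro H ⟨x, hx, rfl⟩
    exact hx (H x rfl)
  · intro H x hx
    by_contra hcon
    exact H ⟨x, hcon, hx⟩

theorem setOf_fibDim_eq_bot_eq (hf : AlgSp.IsFiniteTypeMor f.hom) :
    {y | fibDim f y = ⊥} = (Set.range (AlgSp.Points.map f.hom))ᶜ := by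
  ext y
  rw [Set.mem_setOf_eq, fibDim_eq_bot_iff f hf, Set.mem_compl_iff]

/-- For a closed morphism of finite type, the locus of fibre dimension at most `n` is open in the target. -/
theorem isOpen_setOf_fibDim_le (hf : AlgSp.IsFiniteTypeMor f.hom)
    (hcl : IsClosedMap (AlgSp.Points.map f.hom)) (n : ℕ) :
    IsOpen {y | fibDim f y ≤ (n : WithBot ℕ∞)} := by
  rw [setOf_fibDim_le_eq f hf]
  exact (hcl _ (isOpen_hasAtMor_fibreDimAt_le f.hom hf.1 n).isClosed_compl).isOpen_compl

theorem isOpen_setOf_fibDim_eq_bot (hf : AlgSp.IsFiniteTypeMor f.hom)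
    (hcl : IsClosedMap (AlgSp.Points.map f.hom)) : IsOpen {y | fibDim f y = ⊥} := by
  rw [setOf_fibDim_eq_bot_eq f hf]
  exact hcl.isClosed_range.isOpen_compl

/-- For a closed morphism of finite type, the fibre dimension is upper semicontinuous. -/
theorem isOpen_setOf_fibDim_lt (hf : AlgSp.IsFiniteTypeMor f.hom)
    (hcl : IsClosedMap (AlgSp.Points.map f.hom)) (d : WithBot ℕ∞) :
    IsOpen {y | fibDim f y < d} := by
  induction d using WithBot.recBotCoe with
  | bot =>
    have h1 : {y | fibDim f y < (⊥ : WithBot ℕ∞)} = ∅ := by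
      ext y
      simp
    rw [h1]
    exact isOpen_empty
  | coe m =>
    induction m using ENat.recTopCoe with
    | top =>
      have h1 : {y | fibDim f y < ((⊤ : ℕ∞) : WithBot ℕ∞)} = ⋃ n : ℕ, {y | fibDim f y ≤ (n : WithBot ℕ∞)} := by
        ext y
        rw [Set.mem_setOf_eq, withBot_enat_lt_top_iff, Set.mem_iUnion]
        rfl
      rw [h1]
      exact isOpen_iUnion fun n => isOpen_setOf_fibDim_le f hf hcl n
    | coe n =>
      rcases n with _ | k
      · have h1 : {y | fibDim f y < (((0 : ℕ) : ℕ∞) : WithBot ℕ∞)} = {y | fibDim f y = ⊥} := by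
          ext y
          rw [Set.mem_setOf_eq, withBot_enat_lt_zero_iff]
          rfl
        rw [h1]
        exact isOpen_setOf_fibDim_eq_bot f hf hcl
      · have h1 : {y | fibDim f y < (((k + 1 : ℕ) : ℕ∞) : WithBot ℕ∞)} =
            {y | fibDim f y ≤ (k : WithBot ℕ∞)} := by
          ext y
          rw [Set.mem_setOf_eq, withBot_enat_lt_succ_iff]
          rfl
        rw [h1]
        exact isOpen_setOf_fibDim_le f hf hcl k

/-- For a flat morphism of finite type, locally of finite presentation, the fibre dimension is lower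
semicontinuous. -/
theorem isOpen_setOf_lt_fibDim (hf : AlgSp.IsFiniteTypeMor f.hom) (hfl : AlgSp.LocP @Flat f.hom)
    (hfp : AlgSp.LocP @LocallyOfFinitePresentation f.hom) (d : WithBot ℕ∞) :
    IsOpen {y | d < fibDim f y} := by
  induction d using WithBot.recBotCoe with
  | bot =>
    have h1 : {y | (⊥ : WithBot ℕ∞) < fibDim f y} = Set.range (AlgSp.Points.map f.hom) := by
      ext y
      rw [Set.mem_setOf_eq, bot_lt_iff_ne_bot, Ne, fibDim_eq_bot_iff f hf, not_not]
    rw [h1]
    have hopen : IsOpenMap (AlgSp.Points.map f.hom) :=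
      Groth.Agent.S9962.result f hfl hfp Y.property (𝟙 _) (𝟙 _) f.hom IsPullback.of_id_fst
    exact hopen.isOpen_range
  | coe m =>
    induction m using ENat.recTopCoe with
    | top =>
      have h1 : {y | ((⊤ : ℕ∞) : WithBot ℕ∞) < fibDim f y} = ∅ := by
        ext y
        simp only [Set.mem_setOf_eq, Set.mem_empty_iff_false, iff_false]
        exact not_top_lt
      rw [h1]
      exact isOpen_empty
    | coe n =>
      have h1 : {y | ((n : ℕ∞) : WithBot ℕ∞) < fibDim f y} = {y | fibDim f y ≤ (n : WithBot ℕ∞)}ᶜ := by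
        ext y
        simp only [Set.mem_setOf_eq, Set.mem_compl_iff, not_le]
        rfl
      rw [h1, setOf_fibDim_le_eq f hf, compl_compl]
      exact isOpen_image_not_hasAtMor_le X.property Y.property f.hom hfl hfp n

open Groth.Agent.Lib.Seat45.QFin Groth.Agent.Lib.Helper3.DimCons Groth.Agent.Lib.Helper7.TopDim in
/-- The fibres of a morphism of finite type are finite dimensional. -/
theorem exists_fibDim_le (hf : AlgSp.IsFiniteTypeMor f.hom) (y : AlgSp.Points Y.obj) :
    ∃ n : ℕ, fibDim f y ≤ (n : WithBot ℕ∞) := by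
  obtain ⟨V, b, v, hbe, hv, hVaff⟩ := exists_affine_chart Y.property y
  haveI : IsAffine V.left := hVaff
  obtain ⟨U, a, h, hae, hc, hUc, hlift⟩ :=
    exists_qc_chart_diagram_over X.property Y.property f.hom hf.2 b hbe
  haveI : CompactSpace ↥U.left := hUc
  haveI : LocallyOfFiniteType h.left := hf.1 a b h hae hbe hc
  obtain ⟨n, hn⟩ := (withBot_enat_lt_top_iff _).1 (fibre_dim_lt_top h.left v)
  refine ⟨n, (fibDim_le_iff f hf y n).2 fun x hx => ?_⟩
  obtain ⟨u, rfl, huv⟩ := hlift x v (by rw [hx, hv])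
  refine ⟨U, V, a, b, h, u, hae, hbe, hc, rfl, ?_⟩
  have h1 : FlatMor.fibreDimAt h.left u ≤ topologicalKrullDim ↥(h.left.fiber (h.left u)) :=
    localDim_le_dim _
  rw [huv] at h1
  exact h1.trans hn

theorem fibDim_ne_top (hf : AlgSp.IsFiniteTypeMor f.hom) (y : AlgSp.Points Y.obj) :
    fibDim f y ≠ ((⊤ : ℕ∞) : WithBot ℕ∞) := by
  obtain ⟨n, hn⟩ := exists_fibDim_le f hf y
  exact ((withBot_enat_lt_top_iff _).2 ⟨n, hn⟩).ne

theorem isOpen_setOf_natCast_le_fibDim (hf : AlgSp.IsFiniteTypeMor f.hom) (hfl : AlgSp.LocP @Flat f.hom)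
    (hfp : AlgSp.LocP @LocallyOfFinitePresentation f.hom) (n : ℕ) :
    IsOpen {y | (((n : ℕ) : ℕ∞) : WithBot ℕ∞) ≤ fibDim f y} := by
  rcases n with _ | k
  · have h1 : {y | (((0 : ℕ) : ℕ∞) : WithBot ℕ∞) ≤ fibDim f y} = {y | (⊥ : WithBot ℕ∞) < fibDim f y} := by
      ext y
      rw [Set.mem_setOf_eq, Set.mem_setOf_eq, ← not_lt, withBot_enat_lt_zero_iff, bot_lt_iff_ne_bot]
    rw [h1]
    exact isOpen_setOf_lt_fibDim f hf hfl hfp ⊥
  · have h1 : {y | (((k + 1 : ℕ) : ℕ∞) : WithBot ℕ∞) ≤ fibDim f y} =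
        {y | ((k : ℕ∞) : WithBot ℕ∞) < fibDim f y} := by
      ext y
      rw [Set.mem_setOf_eq, Set.mem_setOf_eq, ← not_lt, withBot_enat_lt_succ_iff, not_le]
      rfl
    rw [h1]
    exact isOpen_setOf_lt_fibDim f hf hfl hfp _

/-- For a closed flat morphism of finite type, locally of finite presentation, the fibre dimension is locally
constant. -/
theorem isOpen_setOf_fibDim_eq (hf : AlgSp.IsFiniteTypeMor f.hom)
    (hcl : IsClosedMap (AlgSp.Points.map f.hom)) (hfl : AlgSp.LocP @Flat f.hom)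
    (hfp : AlgSp.LocP @LocallyOfFinitePresentation f.hom) (d : WithBot ℕ∞) :
    IsOpen {y | fibDim f y = d} := by
  induction d using WithBot.recBotCoe with
  | bot => exact isOpen_setOf_fibDim_eq_bot f hf hcl
  | coe m =>
    induction m using ENat.recTopCoe with
    | top =>
      have h1 : {y | fibDim f y = ((⊤ : ℕ∞) : WithBot ℕ∞)} = ∅ := by
        ext y
        simp only [Set.mem_setOf_eq, Set.mem_empty_iff_false, iff_false]
        exact fibDim_ne_top f hf y
      rw [h1]
      exact isOpen_empty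
    | coe n =>
      have h1 : {y | fibDim f y = ((n : ℕ∞) : WithBot ℕ∞)} =
          {y | fibDim f y ≤ (n : WithBot ℕ∞)} ∩ {y | (((n : ℕ) : ℕ∞) : WithBot ℕ∞) ≤ fibDim f y} := by
        ext y
        simp only [Set.mem_setOf_eq, Set.mem_inter_iff]
        exact le_antisymm_iff
      rw [h1]
      exact (isOpen_setOf_fibDim_le f hf hcl n).inter (isOpen_setOf_natCast_le_fibDim f hf hfl hfp n)

end Groth.Agent.Lib.Seat45.FibDimSemi
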