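import Mathlib
import Groth.Agent.Lib.Helper4DimFormulaAA
import Groth.Agent.Lib.Helper4DimFormulaAE
import Groth.Agent.Lib.Helper4DimFormulaAI
import Groth.Agent.Lib.Helper4VarDim10
import Groth.Agent.Lib.Seat45EtDim

/-!
# The dimension of the local ring of the fibre under base change (seat 45)

For a cartesian square `X' = X ×_S S'` of schemes:
* `fibMap`: the map `X'_{s'} ⟶ X_{g s'}` between fibres; it is flat and surjective.
* `fibStalkDim_le_of_isPullback`: `dim O_{X_{f x}, x} ≤ dim O_{X'_{f' x'}, x'}` for `x'` over `x`.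
* `exists_fibStalkDim_eq_of_isPullback`: for `f` locally of finite type, `x` and `s'` over the same point of `S`
  there is `x'` over both with `dim O_{X'_{s'}, x'} = dim O_{X_{f x}, x}`.
-/

set_option autoImplicit false
set_option linter.style.haveILetI false
universe u

open CategoryTheory CategoryTheory.Limits AlgebraicGeometry IsLocalRing

namespace Groth.Agent.Lib.Seat45.FibStalkBC

open Groth.Agent.Lib.Helper4.DimFormula

variable {X S X' S' : Scheme.{u}} {f : X ⟶ S} {g : S' ⟶ S} {g' : X' ⟶ X} {f' : X' ⟶ S'}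

/-- The map between fibres induced by a cartesian square. -/
noncomputable def fibMap (hsq : IsPullback g' f' f g) (s' : S') : f'.fiber s' ⟶ f.fiber (g s') :=
  pullback.map _ _ _ _ g' (Spec.map (g.residueFieldMap s')) g hsq.w.symm (by simp)

lemma isPullback_fibMap (hsq : IsPullback g' f' f g) (s' : S') :
    IsPullback (fibMap hsq s') (f'.fiberToSpecResidueField s') (f.fiberToSpecResidueField (g s'))
      (Spec.map (g.residueFieldMap s')) :=
  isPullback_fiberToSpecResidueField_of_isPullback hsq s'

lemma fibMap_fiberι (hsq : IsPullback g' f' f g) (s' : S') :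
    fibMap hsq s' ≫ f.fiberι (g s') = f'.fiberι s' ≫ g' := by
  exact pullback.lift_fst _ _ _

lemma fibMap_fiberι_apply (hsq : IsPullback g' f' f g) (s' : S') (z' : ↥(f'.fiber s')) :
    f.fiberι (g s') (fibMap hsq s' z') = g' (f'.fiberι s' z') := by
  rw [← Scheme.Hom.comp_apply, fibMap_fiberι, Scheme.Hom.comp_apply]

lemma flat_specMap_of_field {K L : CommRingCat.{u}} (hK : IsField K) (φ : K ⟶ L) : Flat (Spec.map φ) := by
  rw [HasRingHomProperty.Spec_iff (P := @Flat)]
  letI := hK.toField
  letI : Algebra K L := φ.hom.toAlgebra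
  show Module.Flat K L
  infer_instance

lemma surjective_specMap_of_field {K L : CommRingCat.{u}} (hK : IsField K) [Nontrivial L] (φ : K ⟶ L) :
    Surjective (Spec.map φ) := by
  letI := hK.toField
  constructor
  intro y
  obtain ⟨z⟩ : Nonempty (Spec L) := inferInstanceAs (Nonempty (PrimeSpectrum L))
  refine ⟨z, ?_⟩
  exact Subsingleton.elim (α := PrimeSpectrum K) _ _

instance flat_fibMap (hsq : IsPullback g' f' f g) (s' : S') : Flat (fibMap hsq s') := by
  haveI : Flat (Spec.map (g.residueFieldMap s')) :=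
    flat_specMap_of_field (Field.toIsField (S.residueField (g s'))) _
  exact MorphismProperty.of_isPullback (P := @Flat) (isPullback_fibMap hsq s').flip inferInstance

instance surjective_fibMap (hsq : IsPullback g' f' f g) (s' : S') : Surjective (fibMap hsq s') := by
  haveI : Surjective (Spec.map (g.residueFieldMap s')) :=
    surjective_specMap_of_field (Field.toIsField (S.residueField (g s'))) _
  exact MorphismProperty.of_isPullback (P := @Surjective) (isPullback_fibMap hsq s').flip inferInstance

/-- The dimension of the local ring of the fibre does not drop under base change. -/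
theorem fibStalkDim_le_of_isPullback (hsq : IsPullback g' f' f g) (x' : X') :
    fibStalkDim f (g' x') ≤ fibStalkDim f' x' := by
  have h1 := Groth.Agent.Lib.Seat45.EtDim.ringKrullDim_stalk_le_of_flat (fibMap hsq (f' x')) (f'.asFiber x')
  rw [ringKrullDim_stalk_asFiber, ringKrullDim_stalk_fiber_eq_fibStalkDim, fibMap_fiberι_apply,
    Scheme.Hom.fiberι_asFiber] at h1
  exact h1

/-- For a flat morphism from a locally Noetherian scheme, at a point which is maximal (for generization) in its
fibre the local rings of source and target have the same dimension. -/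
theorem ringKrullDim_stalk_eq_of_flat_of_maximal_in_fibre {A B : Scheme.{u}} [IsLocallyNoetherian A]
    [IsLocallyNoetherian B]
    (φ : A ⟶ B) [Flat φ] (a : A) (hmax : ∀ w : A, φ w = φ a → w ⤳ a → w = a) :
    ringKrullDim (A.presheaf.stalk a) = ringKrullDim (B.presheaf.stalk (φ a)) := by
  letI : Algebra (B.presheaf.stalk (φ a)) (A.presheaf.stalk a) := (φ.stalkMap a).hom.toAlgebra
  haveI : Module.Flat (B.presheaf.stalk (φ a)) (A.presheaf.stalk a) := Flat.stalkMap φ a
  have hlocal : IsLocalHom (φ.stalkMap a).hom := inferInstance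
  have hcomap : (maximalIdeal (A.presheaf.stalk a)).comap (φ.stalkMap a).hom =
      maximalIdeal (B.presheaf.stalk (φ a)) :=
    ((IsLocalRing.local_hom_TFAE (φ.stalkMap a).hom).out 0 4).mp hlocal
  haveI : (maximalIdeal (A.presheaf.stalk a)).LiesOver (maximalIdeal (B.presheaf.stalk (φ a))) :=
    ⟨hcomap.symm⟩
  have h := Ideal.height_eq_height_add_of_liesOver_of_hasGoingDown
    (maximalIdeal (B.presheaf.stalk (φ a))) (maximalIdeal (A.presheaf.stalk a))
  set I : Ideal (A.presheaf.stalk a) :=
    (maximalIdeal (B.presheaf.stalk (φ a))).map (algebraMap _ (A.presheaf.stalk a)) with hI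
  have hIle : I ≤ maximalIdeal (A.presheaf.stalk a) := by
    rw [hI, Ideal.map_le_iff_le_comap]
    exact hcomap.ge
  have hker : RingHom.ker (Ideal.Quotient.mk I) ≤ maximalIdeal (A.presheaf.stalk a) := by
    rw [Ideal.mk_ker]; exact hIle
  haveI hP' : ((maximalIdeal (A.presheaf.stalk a)).map (Ideal.Quotient.mk I)).IsPrime :=
    Ideal.map_isPrime_of_surjective Ideal.Quotient.mk_surjective hker
  have h0 : ((maximalIdeal (A.presheaf.stalk a)).map (Ideal.Quotient.mk I)).height = 0 := by
    rw [Ideal.height_eq_zero_iff]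
    refine ⟨⟨hP', bot_le⟩, fun Q' hQ' hQ'le => ?_⟩
    haveI hQ'p : Q'.IsPrime := hQ'.1
    set Q : Ideal (A.presheaf.stalk a) := Q'.comap (Ideal.Quotient.mk I) with hQ
    haveI hQp : Q.IsPrime := Ideal.comap_isPrime _ _
    have hIQ : I ≤ Q := by
      intro t ht
      rw [hQ, Ideal.mem_comap, Ideal.Quotient.eq_zero_iff_mem.2 ht]
      exact Q'.zero_mem
    have hw1 : A.fromSpecStalk a ⟨Q, hQp⟩ ⤳ a := fromSpecStalk_specializes a ⟨Q, hQp⟩
    have hw2 : φ (A.fromSpecStalk a ⟨Q, hQp⟩) = φ a := base_fromSpecStalk_eq_of_map_le φ a Q hIQ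
    have hw3 := hmax _ hw2 hw1
    have hQmax : Q = maximalIdeal (A.presheaf.stalk a) := eq_maximalIdeal_of_fromSpecStalk_eq a Q hw3
    rw [← hQmax, hQ, Ideal.map_comap_of_surjective _ Ideal.Quotient.mk_surjective]
  rw [h0, add_zero] at h
  rw [← IsLocalRing.maximalIdeal_height_eq_ringKrullDim, ← IsLocalRing.maximalIdeal_height_eq_ringKrullDim, h]

/-- For `f` locally of finite type, `x` and `s'` over the same point of `S`, there is a point `x'` of the base change
over both at which the local ring of the fibre has the same dimension as the one of the fibre of `f` at `x`. -/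
theorem exists_fibStalkDim_eq_of_isPullback [LocallyOfFiniteType f] (hsq : IsPullback g' f' f g) (x : X) (s' : S')
    (hxs : f x = g s') :
    ∃ x' : X', g' x' = x ∧ f' x' = s' ∧ fibStalkDim f' x' = fibStalkDim f x := by
  have hx : x ∈ Set.range (f.fiberι (g s')) := by rw [Scheme.Hom.range_fiberι]; exact hxs
  obtain ⟨z, hz⟩ := hx
  obtain ⟨z₀, hz₀⟩ := (fibMap hsq s').surjective z
  haveI : LocallyOfFiniteType f' :=
    MorphismProperty.of_isPullback (P := @LocallyOfFiniteType) hsq inferInstance
  haveI : IsLocallyNoetherian (f'.fiber s') :=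
    LocallyOfFiniteType.isLocallyNoetherian (f'.fiberToSpecResidueField s')
  haveI : IsLocallyNoetherian (f.fiber (g s')) :=
    LocallyOfFiniteType.isLocallyNoetherian (f.fiberToSpecResidueField (g s'))
  let T : Set ↥(f'.fiber s') := {w | fibMap hsq s' w = z ∧ w ⤳ z₀}
  have hT : T.Nonempty := ⟨z₀, hz₀, specializes_rfl⟩
  obtain ⟨z', hz'T, hmin⟩ :=
    (InvImage.wf (fun w : ↥(f'.fiber s') => Order.coheight w) wellFounded_lt).has_min T hT
  have hfin : ∀ w : ↥(f'.fiber s'), Order.coheight w < ⊤ := by
    intro w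
    have h1 := ringKrullDim_stalk_eq_coheight w
    have h2 : ringKrullDim ((f'.fiber s').presheaf.stalk w) < ⊤ := ringKrullDim_lt_top
    rw [h1] at h2
    have h3 : ((Order.coheight w : ℕ∞) : WithBot ℕ∞) < ((⊤ : ℕ∞) : WithBot ℕ∞) := h2
    exact WithBot.coe_lt_coe.1 h3
  have hmax : ∀ w : ↥(f'.fiber s'), fibMap hsq s' w = fibMap hsq s' z' → w ⤳ z' → w = z' := by
    intro w hw hwz'
    by_contra hne
    have hlt : z' < w := lt_of_le_not_ge hwz' (fun h => hne (hwz'.antisymm h).eq)
    exact hmin w ⟨hw.trans hz'T.1, hwz'.trans hz'T.2⟩ (Order.coheight_strictAnti hlt (hfin w))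
  refine ⟨f'.fiberι s' z', ?_, ?_, ?_⟩
  · rw [← fibMap_fiberι_apply hsq s' z', hz'T.1, hz]
  · have : f'.fiberι s' z' ∈ f' ⁻¹' {s'} := by rw [← Scheme.Hom.range_fiberι]; exact ⟨z', rfl⟩
    exact this
  · rw [← ringKrullDim_stalk_fiber_eq_fibStalkDim f' s' z', ← hz, ← hz'T.1,
      ← ringKrullDim_stalk_fiber_eq_fibStalkDim f (g s') (fibMap hsq s' z')]
    exact ringKrullDim_stalk_eq_of_flat_of_maximal_in_fibre (fibMap hsq s') z' hmax

end Groth.Agent.Lib.Seat45.FibStalkBC
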