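import Mathlib
import Groth.Agent.Lib.Seat45DecSch
import Groth.Agent.Lib.Seat45EtDim

/-!
# Open subschemes from a chart that is finite over an open (seat 45)

* `exists_open_subscheme_of_isFinite`: let `a : h_U ⟶ X` be an étale chart of an algebraic space from an affine
  scheme, `R = U ×_X U`, and `V ⊆ U` an open with `s⁻¹(V) ⟶ V` finite.  Then there is an open subspace of `X`
  which is a scheme and contains the images of all points of `V` whose local ring has dimension zero.
-/

set_option autoImplicit false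
set_option linter.style.haveILetI false
universe u

open CategoryTheory CategoryTheory.Limits AlgebraicGeometry Topology TopologicalSpace

namespace Groth.Agent.Lib.Seat45.FinSch

open Groth.Agent.Lib.Seat45.QsSober Groth.Agent.Lib.Seat45.Charts Groth.Agent.Lib.Seat45.DecGen
  Groth.Agent.Lib.Helper12

variable {S : Scheme.{u}}

/-- An étale chart `U` (affine) of `X` that is finite over an open `V ⊆ U` gives an open subscheme of `X` containing the
images of the points of `V` with zero-dimensional local ring. -/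
theorem exists_open_subscheme_of_isFinite (X : AlgSp.Space S) {U R : Over S} [IsAffine U.left]
    (a : (AlgSp.yon S).obj U ⟶ X.obj) (ha : AlgSp.RepWith @Etale a) (s t : R ⟶ U)
    (sq : IsPullback ((AlgSp.yon S).map s) ((AlgSp.yon S).map t) a a) (V : U.left.Opens)
    (hfin : IsFinite (s.left ∣_ V)) :
    ∃ (M : Over S) (m : (AlgSp.yon S).obj M ⟶ X.obj), AlgSp.RepWith @IsOpenImmersion m ∧
      ∀ v ∈ V, ringKrullDim ↥(U.left.presheaf.stalk v) = 0 →
        AlgSp.Points.ofPt a v ∈ Set.range (AlgSp.Points.map m) := by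
  have hopen : IsOpenMap (AlgSp.Points.ofPt a) := Groth.Agent.S10176.isOpenMap_ofPt a ha
  have hcont : Continuous (AlgSp.Points.ofPt a) := AlgSp.Points.continuous_ofPt a
  set O : Set (AlgSp.Points X.obj) := AlgSp.Points.ofPt a '' (V : Set ↥U.left) with hOdef
  have hO : IsOpen O := hopen _ V.isOpen
  let XO : AlgSp.Space S := ⟨OpenSub.obj X.obj O, OpenSub.isAlgSpace_obj X.property hO⟩
  have hincl : AlgSp.RepWith @IsOpenImmersion (OpenSub.incl X.obj O) := OpenSub.repWith_incl hO
  have hinj : Function.Injective (AlgSp.Points.map (OpenSub.incl X.obj O)) :=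
    LargestOpen.injective_map_of_open _ hincl
  let U' : U.left.Opens := ⟨AlgSp.Points.ofPt a ⁻¹' O, hO.preimage hcont⟩
  -- the charts of the open subspace
  obtain ⟨aO, haO⟩ := (OpenSub.factor_iff O ((AlgSp.yon S).map (resHom U U') ≫ a)).2
    (fun w => by rw [ofPt_res]; exact w.2)
  obtain ⟨b, hb⟩ := (OpenSub.factor_iff O ((AlgSp.yon S).map (resHom U V) ≫ a)).2
    (fun w => by rw [ofPt_res]; exact ⟨w.1, w.2, rfl⟩)
  have haOe : AlgSp.RepWith @Etale aO :=
    ZarQs.repWith_of_comp_mono @Etale aO (OpenSub.incl X.obj O) (by rw [haO]; exact repWith_etale_res a ha U')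
  have hbe : AlgSp.RepWith @Etale b :=
    ZarQs.repWith_of_comp_mono @Etale b (OpenSub.incl X.obj O) (by rw [hb]; exact repWith_etale_res a ha V)
  have hbs : AlgSp.RepWith @Surjective b := by
    refine Groth.Agent.S9906.repWith_surjective_of_surjective_map b hbe.1 (fun y => ?_)
    have hy : AlgSp.Points.map (OpenSub.incl X.obj O) y ∈ O :=
      (OpenSub.range_map_incl O).subset (Set.mem_range_self y)
    obtain ⟨v', hv', hv'y⟩ := hy
    refine ⟨AlgSp.Points.ofScheme (resObj U V) ⟨v', hv'⟩, hinj ?_⟩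
    rw [← AlgSp.Points.map_comp, hb, ← AlgSp.Points.ofPt_eq_map_ofScheme, ofPt_res]
    exact hv'y
  have haOs : AlgSp.RepWith @Surjective aO := by
    refine Groth.Agent.S9906.repWith_surjective_of_surjective_map aO haOe.1 (fun y => ?_)
    have hy : AlgSp.Points.map (OpenSub.incl X.obj O) y ∈ O :=
      (OpenSub.range_map_incl O).subset (Set.mem_range_self y)
    obtain ⟨v', hv', hv'y⟩ := hy
    have hv'U' : v' ∈ U' := ⟨v', hv', rfl⟩
    refine ⟨AlgSp.Points.ofScheme (resObj U U') ⟨v', hv'U'⟩, hinj ?_⟩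
    rw [← AlgSp.Points.map_comp, haO, ← AlgSp.Points.ofPt_eq_map_ofScheme, ofPt_res]
    exact hv'y
  -- `t` maps `s⁻¹(V)` into `U'`
  have hrange : Set.range (t1 s t V).left ⊆ Set.range U'.ι := by
    rintro _ ⟨r, rfl⟩
    rw [Scheme.Opens.range_ι]
    change AlgSp.Points.ofPt a ((t1 s t V).left r) ∈ O
    have h1 : AlgSp.Points.ofPt a ((t1 s t V).left r) = AlgSp.Points.ofPt a (s.left r.1) := by
      change AlgSp.Points.ofPt a (t.left r.1) = _
      rw [← Groth.Agent.S10176.ofPt_map_comp, ← Groth.Agent.S10176.ofPt_map_comp, sq.w]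
    rw [h1]
    exact ⟨s.left r.1, r.2, rfl⟩
  let t1' : R1 s V ⟶ resObj U U' :=
    Over.homMk (IsOpenImmersion.lift U'.ι (t1 s t V).left hrange) (by
      change IsOpenImmersion.lift U'.ι (t1 s t V).left hrange ≫ U'.ι ≫ U.hom = (R1 s V).hom
      rw [← Category.assoc, IsOpenImmersion.lift_fac, Over.w (t1 s t V)])
  have ht1' : t1' ≫ resHom U U' = t1 s t V := by
    ext
    exact IsOpenImmersion.lift_fac _ _ _
  haveI : IsOpenImmersion (resHom U U').left := inferInstanceAs (IsOpenImmersion U'.ι)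
  have hιo : AlgSp.RepWith @IsOpenImmersion ((AlgSp.yon S).map (resHom U U')) :=
    (AlgSp.repWith_yon_map_iff _ _).2 inferInstance
  haveI : Mono ((AlgSp.yon S).map (resHom U U')) :=
    Groth.Agent.S9928.mono_of_repWith @IsOpenImmersion
      (fun X Y g hg => by haveI : IsOpenImmersion g := hg; infer_instance) _ hιo
  have sq1 := (isPullback_R1 (a := a) (t := t) V sq).flip
  rw [← ht1', Functor.map_comp] at sq1
  have sq2 : IsPullback ((AlgSp.yon S).map t1') ((AlgSp.yon S).map (s1 s V))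
      ((AlgSp.yon S).map (resHom U U') ≫ a) ((AlgSp.yon S).map (resHom U V) ≫ a) :=
    Groth.Agent.Lib.Seat45.FinEtCover.isPullback_of_comp_mono _ _ _ _ _ sq1
  rw [← haO, ← hb] at sq2
  have sqO : IsPullback ((AlgSp.yon S).map t1') ((AlgSp.yon S).map (s1 s V)) aO b :=
    ZarQs.isPullback_of_comp_mono' (OpenSub.incl X.obj O) sq2
  -- finiteness of the chart `aO`
  have hs1fin : AlgSp.IsFiniteMor ((AlgSp.yon S).map (s1 s V)) :=
    Groth.Agent.S10018.isFiniteMor_of_repWith_isFinite _
      ((AlgSp.repWith_yon_map_iff _ _).2 (show IsFinite (s1 s V).left from hfin))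
  let YU' : AlgSp.Space S := ⟨(AlgSp.yon S).obj (resObj U U'), AlgSp.IsAlgSpace.yon_obj _⟩
  let fO : YU' ⟶ XO := ObjectProperty.homMk aO
  have hfOfin : AlgSp.IsFiniteMor fO.hom :=
    (Groth.Agent.S10268.result fO (resObj U V) b hbe hbs ((AlgSp.yon S).map t1')
      ((AlgSp.yon S).map (s1 s V)) sqO).2 hs1fin
  have haOf : AlgSp.RepWith @IsFinite aO := Groth.Agent.S10018.repWith_isFinite_of_isFiniteMor aO hfOfin
  haveI : QuasiSeparatedSpace ↥(resObj U U').left :=
    QuasiSeparatedSpace.of_isOpenEmbedding U'.ι.isOpenEmbedding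
  obtain ⟨X', j, hj, hrep, -, hcod⟩ := Groth.Agent.S10204.result XO aO haOf haOe haOs
  obtain ⟨M, ⟨e⟩⟩ := hrep
  let e' : (AlgSp.yon S).obj M ≅ X'.obj := AlgSp.isoOfRepresentableBy e
  refine ⟨M, e'.hom ≫ j.hom ≫ OpenSub.incl X.obj O, ?_, ?_⟩
  · refine (MorphismProperty.cancel_left_of_respectsIso (AlgSp.RepWith @IsOpenImmersion) e'.hom _).2 ?_
    exact (AlgSp.RepWith @IsOpenImmersion).comp_mem _ _ hj hincl
  · intro v hv hv0
    have hx' : AlgSp.HasAt (fun U u => ringKrullDim ↥(U.presheaf.stalk u) = 0) XO.obj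
        (AlgSp.Points.ofPt b ⟨v, hv⟩) := by
      refine ⟨resObj U V, b, ⟨v, hv⟩, hbe, rfl, ?_⟩
      change ringKrullDim ↥((V : Scheme.{u}).presheaf.stalk ⟨v, hv⟩) = 0
      rw [Groth.Agent.Lib.Seat45.EtDim.ringKrullDim_stalk_eq_of_etale V.ι ⟨v, hv⟩]
      exact hv0
    obtain ⟨x'', hx''⟩ := hcod _ hx'
    refine ⟨AlgSp.Points.map e'.inv x'', ?_⟩
    rw [← AlgSp.Points.map_comp, e'.inv_hom_id_assoc, AlgSp.Points.map_comp, hx'',
      AlgSp.Points.map_ofPt, hb, ofPt_res]
    rfl

end Groth.Agent.Lib.Seat45.FinSch
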