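import Groth.Agent.S0386
import Groth.Agent.Lib.Helper3FibCritSch
import Groth.Agent.Lib.Helper5FiberMor
import Groth.Agent.Lib.Helper3BaseMap
import Groth.Agent.Lib.Helper6LfpComp

/-!
# Flatness of stalk maps: étale locality and base change (seat 45, scheme level)

* `FlSt h u`: the stalk map of `h` at `u` is flat.
* `flSt_etale_local`: for morphisms locally of finite presentation, `FlSt` is étale local on source and target.
* `flSt_descent`: pointwise descent of flatness along a flat base change.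
* `flSt_baseChange_iff`: for a tower `U ⟶ V ⟶ W` with `U/W` flat lfp and `V/W` lft, and any `W' ⟶ W`, the flat locus
  of `U ×_W W' ⟶ V ×_W W'` is the preimage of the flat locus of `U ⟶ V`.
-/

set_option autoImplicit false
set_option linter.style.haveILetI false
universe u

open CategoryTheory CategoryTheory.Limits AlgebraicGeometry

namespace Groth.Agent.Lib.Seat45.FlatLoc

open Groth.Agent.Lib.Helper3.FibCritSch Groth.Agent.Lib.Helper5.FiberMor Groth.Agent.Lib.Helper3.BaseMap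

/-- The stalk map of `h` at `u` is flat. -/
def FlSt {U V : Scheme.{u}} (h : U ⟶ V) (u : ↥U) : Prop := (h.stalkMap u).hom.Flat

lemma flSt_comp_left_iff {U' U V : Scheme.{u}} (a : U' ⟶ U) [Flat a] (h : U ⟶ V) (u' : ↥U') :
    FlSt (a ≫ h) u' ↔ FlSt h (a u') :=
  ⟨fun H => flat_of_comp a h u' H (Flat.stalkMap a u'), fun H => flat_comp a h u' (Flat.stalkMap a u') H⟩

lemma flSt_comp_right {U V V₁ : Scheme.{u}} (h : U ⟶ V) (b : V ⟶ V₁) [Flat b] (u : ↥U)
    (H : FlSt h u) : FlSt (h ≫ b) u :=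
  flat_comp h b u H (Flat.stalkMap b _)

instance : MorphismProperty.HasOfPostcompProperty @Flat @Etale := by
  rw [MorphismProperty.hasOfPostcompProperty_iff_le_diagonal]
  intro X Y f hf
  haveI : Etale f := hf
  haveI : Etale (pullback.diagonal f) := inferInstance
  exact (inferInstance : Flat (pullback.diagonal f))

/-- If `g ≫ b` is flat at `u`, `b` is étale and `g ≫ b` is locally of finite presentation then `g` is flat at `u`. -/
lemma flSt_of_comp_etale {U V' V : Scheme.{u}} (g : U ⟶ V') (b : V' ⟶ V) [Etale b]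
    [LocallyOfFinitePresentation (g ≫ b)] (u : ↥U) (H : FlSt (g ≫ b) u) : FlSt g u := by
  let O : U.Opens := ⟨{x | ((g ≫ b).stalkMap x).hom.Flat}, Groth.Agent.S0386.result (g ≫ b)⟩
  haveI h1 : Flat (O.ι ≫ g ≫ b) :=
    Flat.of_stalkMap _ (fun x => (flat_stalkMap_ι_comp_iff (g ≫ b) O x).mpr x.2)
  haveI h2 : Flat ((O.ι ≫ g) ≫ b) := by rwa [Category.assoc]
  haveI h3 : Flat (O.ι ≫ g) :=
    MorphismProperty.of_postcomp (W := @Flat) (W' := @Etale) (O.ι ≫ g) b ‹Etale b› h2
  exact (flat_stalkMap_ι_comp_iff g O (⟨u, H⟩ : O)).mp (Flat.stalkMap (O.ι ≫ g) (⟨u, H⟩ : O))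

/-- For morphisms locally of finite presentation, flatness of the stalk map is étale local on source and target. -/
lemma flSt_etale_local {U U' V V' : Scheme.{u}} (h : U ⟶ V) (h' : U' ⟶ V') (a : U' ⟶ U) (b : V' ⟶ V)
    [Etale a] [Etale b] (hh' : LocallyOfFinitePresentation h')
    (comm : h' ≫ b = a ≫ h) (u' : ↥U') : FlSt h (a u') ↔ FlSt h' u' := by
  constructor
  · intro H
    have h1 : FlSt (a ≫ h) u' := (flSt_comp_left_iff a h u').2 H
    haveI : LocallyOfFinitePresentation (h' ≫ b) := inferInstance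
    refine flSt_of_comp_etale h' b u' ?_
    rw [comm]
    exact h1
  · intro H
    have h1 : FlSt (h' ≫ b) u' := flSt_comp_right h' b u' H
    rw [comm] at h1
    exact (flSt_comp_left_iff a h u').1 h1

/-- Pointwise descent of flatness along a flat base change. -/
lemma flSt_descent {U₂ U₁ V₂ V₁ : Scheme.{u}} {p : U₂ ⟶ U₁} {k₂ : U₂ ⟶ V₂} {k₁ : U₁ ⟶ V₁} {ψ : V₂ ⟶ V₁}
    (sq : IsPullback p k₂ k₁ ψ) [Flat ψ] (u₂ : ↥U₂) (H : FlSt k₂ u₂) : FlSt k₁ (p u₂) := by
  haveI : Flat p := MorphismProperty.of_isPullback (P := @Flat) sq.flip inferInstance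
  have h1 : FlSt (k₂ ≫ ψ) u₂ := flSt_comp_right k₂ ψ u₂ H
  rw [← sq.w] at h1
  exact (flSt_comp_left_iff p k₁ u₂).1 h1

/-- Pointwise base change of flatness, for morphisms locally of finite presentation. -/
lemma flSt_baseChange {U₂ U₁ V₂ V₁ : Scheme.{u}} {p : U₂ ⟶ U₁} {k₂ : U₂ ⟶ V₂} {k₁ : U₁ ⟶ V₁} {ψ : V₂ ⟶ V₁}
    (sq : IsPullback p k₂ k₁ ψ) [LocallyOfFinitePresentation k₁] (u₂ : ↥U₂) (H : FlSt k₁ (p u₂)) :
    FlSt k₂ u₂ := by
  let O : U₁.Opens := ⟨{x | (k₁.stalkMap x).hom.Flat}, Groth.Agent.S0386.result k₁⟩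
  haveI h1 : Flat (O.ι ≫ k₁) :=
    Flat.of_stalkMap _ (fun x => (flat_stalkMap_ι_comp_iff k₁ O x).mpr x.2)
  have sqO : IsPullback (p ∣_ O) ((p ⁻¹ᵁ O).ι ≫ k₂) (O.ι ≫ k₁) ψ :=
    (isPullback_morphismRestrict p O).paste_vert sq
  haveI h2 : Flat ((p ⁻¹ᵁ O).ι ≫ k₂) := MorphismProperty.of_isPullback (P := @Flat) sqO h1
  have hu : u₂ ∈ p ⁻¹ᵁ O := H
  exact (flat_stalkMap_ι_comp_iff k₂ (p ⁻¹ᵁ O) (⟨u₂, hu⟩ : ↥(p ⁻¹ᵁ O))).mp
    (Flat.stalkMap ((p ⁻¹ᵁ O).ι ≫ k₂) (⟨u₂, hu⟩ : ↥(p ⁻¹ᵁ O)))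

/-- Transport of flatness of the fibre map along an equality of base points. -/
lemma flSt_fiberMap_asFiber {X Y S : Scheme.{u}} (f : X ⟶ Y) (g : Y ⟶ S) (x : ↥X) (s : ↥S)
    (hs : s = (f ≫ g) x) (z : ↥((f ≫ g).fiber s)) (hz : (f ≫ g).fiberι s z = x)
    (H : FlSt (MoreMor.fiberMap f g s) z) :
    FlSt (MoreMor.fiberMap f g ((f ≫ g) x)) ((f ≫ g).asFiber x) := by
  subst hs
  have : z = (f ≫ g).asFiber x := by
    apply ((f ≫ g).fiberι _).isEmbedding.injective
    rw [hz, Scheme.Hom.fiberι_asFiber]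
  rw [← this]
  exact H

set_option maxHeartbeats 800000 in
/-- The hard direction of base change for the flat locus: for a tower `U ⟶ V ⟶ W` with `U/W` flat at the point and
locally of finite presentation, `V/W` locally of finite type, flatness of `U ×_W W' ⟶ V ×_W W'` at a point implies
flatness of `U ⟶ V` at its image. -/
theorem flSt_of_flSt_baseChange {U V W W' V' U' : Scheme.{u}} (k : U ⟶ V) (g : V ⟶ W)
    [LocallyOfFinitePresentation (k ≫ g)] [LocallyOfFiniteType g]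
    {βW : W' ⟶ W} {βV : V' ⟶ V} {g' : V' ⟶ W'} (sqV : IsPullback βV g' g βW)
    {α : U' ⟶ U} {k' : U' ⟶ V'} (sqU : IsPullback α k' k βV) (u' : ↥U')
    (hflat : FlSt (k ≫ g) (α u')) (H : FlSt k' u') : FlSt k (α u') := by
  haveI : LocallyOfFinitePresentation k :=
    Groth.Agent.Lib.Helper6.locallyOfFinitePresentation_of_comp ‹LocallyOfFiniteType g›
      ‹LocallyOfFinitePresentation (k ≫ g)›
  haveI : LocallyOfFinitePresentation k' := MorphismProperty.of_isPullback sqU inferInstance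
  set s' : ↥W' := (k' ≫ g') u' with hs'
  set z' : ↥((k' ≫ g').fiber s') := (k' ≫ g').asFiber u' with hz'
  have h1 : FlSt (MoreMor.fiberMap k' g' s') z' := by
    refine flat_stalkMap_fiberMap_of_flat k' g' s' z' ?_
    rw [hz', Scheme.Hom.fiberι_asFiber]
    exact H
  -- the map between the fibres of `V' ⟶ W'` and `V ⟶ W`
  set a' := W'.fromSpecResidueField s' with ha'
  set a := W.fromSpecResidueField (βW s') with ha
  set r := Spec.map (βW.residueFieldMap s') with hrdef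
  have hr : r ≫ a = a' ≫ βW := Scheme.Hom.SpecMap_residueFieldMap_fromSpecResidueField βW s'
  have hwψ : (pullback.fst g' a' ≫ βV) ≫ g = (pullback.snd g' a' ≫ r) ≫ a := by
    rw [Category.assoc, sqV.w, ← Category.assoc, pullback.condition, Category.assoc, Category.assoc, hr]
  obtain ⟨ψ, hψ⟩ : ∃ ψ : pullback g' a' ⟶ pullback g a,
      ψ = pullback.lift (pullback.fst g' a' ≫ βV) (pullback.snd g' a' ≫ r) hwψ := ⟨_, rfl⟩
  have hψ1 : ψ ≫ pullback.fst g a = pullback.fst g' a' ≫ βV := by rw [hψ, pullback.lift_fst]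
  have hψ2 : ψ ≫ pullback.snd g a = pullback.snd g' a' ≫ r := by rw [hψ, pullback.lift_snd]
  have sqψ : IsPullback ψ (pullback.snd g' a') (pullback.snd g a) r := by
    refine IsPullback.of_right ?_ hψ2 (IsPullback.of_hasPullback g a)
    rw [hψ1, hr]
    exact (IsPullback.of_hasPullback g' a').paste_horiz sqV
  haveI : Flat r := inferInstance
  haveI : Flat ψ := MorphismProperty.of_isPullback (P := @Flat) sqψ.flip inferInstance
  -- the square between the fibre maps
  have hwp : (pullback.fst (k' ≫ g') a' ≫ α) ≫ k = (baseMap k' g' a' ≫ ψ) ≫ pullback.fst g a := by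
    rw [Category.assoc, sqU.w, Category.assoc, hψ1, baseMap_fst_assoc]
  obtain ⟨p, hp⟩ : ∃ p : pullback (k' ≫ g') a' ⟶ pullback (k ≫ g) a,
      p = (isPullback_baseMap k g a).lift (pullback.fst (k' ≫ g') a' ≫ α) (baseMap k' g' a' ≫ ψ) hwp :=
    ⟨_, rfl⟩
  have hp1 : p ≫ pullback.fst (k ≫ g) a = pullback.fst (k' ≫ g') a' ≫ α := by
    rw [hp, IsPullback.lift_fst]
  have hp2 : p ≫ baseMap k g a = baseMap k' g' a' ≫ ψ := by
    rw [hp, IsPullback.lift_snd]
  have sqFM : IsPullback p (baseMap k' g' a') (baseMap k g a) ψ := by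
    refine IsPullback.of_right ?_ hp2 (isPullback_baseMap k g a)
    rw [hp1, hψ1]
    exact (isPullback_baseMap k' g' a').paste_horiz sqU
  have h2 : FlSt (baseMap k g a) (p z') := flSt_descent sqFM z' h1
  -- conclude by the fibre criterion
  refine flat_stalkMap_of_flat_of_fiberMap k g (α u') hflat ?_
  refine flSt_fiberMap_asFiber k g (α u') (βW s') ?_ (p z') ?_ h2
  · rw [hs', ← Scheme.Hom.comp_apply, ← Scheme.Hom.comp_apply, Category.assoc, ← sqV.w,
      ← Category.assoc, ← sqU.w, Category.assoc]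
  · change (p ≫ pullback.fst (k ≫ g) a) z' = α u'
    rw [hp1, Scheme.Hom.comp_apply]
    congr 1
    exact Scheme.Hom.fiberι_asFiber _ _

/-- Base change for the flat locus: for a tower `U ⟶ V ⟶ W` with `U/W` flat and locally of finite presentation and
`V/W` locally of finite type, and any `W' ⟶ W`. -/
theorem flSt_baseChange_iff {U V W W' V' U' : Scheme.{u}} (k : U ⟶ V) (g : V ⟶ W)
    [LocallyOfFinitePresentation (k ≫ g)] [Flat (k ≫ g)] [LocallyOfFiniteType g]
    {βW : W' ⟶ W} {βV : V' ⟶ V} {g' : V' ⟶ W'} (sqV : IsPullback βV g' g βW)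
    {α : U' ⟶ U} {k' : U' ⟶ V'} (sqU : IsPullback α k' k βV) (u' : ↥U') :
    FlSt k' u' ↔ FlSt k (α u') := by
  haveI : LocallyOfFinitePresentation k :=
    Groth.Agent.Lib.Helper6.locallyOfFinitePresentation_of_comp ‹LocallyOfFiniteType g›
      ‹LocallyOfFinitePresentation (k ≫ g)›
  exact ⟨flSt_of_flSt_baseChange k g sqV sqU u' (Flat.stalkMap (k ≫ g) (α u')),
    flSt_baseChange sqU u'⟩

end Groth.Agent.Lib.Seat45.FlatLoc
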