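import Groth.Agent.Lib.Seat45FlatLoc
import Groth.Agent.Lib.Seat45BaseChange3
import Groth.Agent.Lib.Seat45ChartsMor2
import Groth.Agent.S9984

/-!
# The flat locus of a morphism of algebraic spaces (seat 45)

* `locP_lfp_of_comp`: cancellation `f ≫ g` lfp, `g` lft ⟹ `f` lfp.
* `isFlatAtMor_iff`: for `f` lfp, flatness at `x` (all chart diagrams) is the same as flatness on some chart diagram.
* `isOpen_isFlatAtMor`: the flat locus of an lfp morphism is open.
* `isFlatAtMor_baseChange_iff`: for `X ⟶ Y ⟶ Z` with `X/Z` flat lfp and `Y/Z` lft, the flat locus of `X ⟶ Y` commutes with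
  base change along any `Z' ⟶ Z`.
-/

set_option autoImplicit false
set_option linter.style.haveILetI false
universe u

open CategoryTheory CategoryTheory.Limits AlgebraicGeometry

namespace Groth.Agent.Lib.Seat45.FlatLoc

open Groth.Agent.Lib.Seat45.Charts Groth.Agent.Lib.Seat45.ChartsMor

variable {S : Scheme.{u}}

/-- Cancellation: if `f ≫ g` is locally of finite presentation and `g` is locally of finite type then `f` is locally
of finite presentation. -/
lemma locP_lfp_of_comp {X Y Z : AlgSp.Sp S} (hZ : AlgSp.IsAlgSpace Z) (f : X ⟶ Y) (g : Y ⟶ Z)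
    (h : AlgSp.LocP @LocallyOfFinitePresentation (f ≫ g)) (hg : AlgSp.LocP @LocallyOfFiniteType g) :
    AlgSp.LocP @LocallyOfFinitePresentation f := by
  intro U V a b hh ha hb hcomm
  obtain ⟨W, c, hc, hcs⟩ := hZ.atlas
  obtain ⟨V', π, k', sqV'⟩ := hc.1 (b ≫ g)
  obtain ⟨k, rfl⟩ := (AlgSp.yon S).map_surjective k'
  haveI : Etale π.left := hc.2 _ _ π sqV'
  haveI : Surjective π.left := hcs.2 _ _ π sqV'
  have hsq : IsPullback (pullback.fst hh π).left (pullback.snd hh π).left hh.left π.left :=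
    (IsPullback.of_hasPullback hh π).map (Over.forget S)
  haveI : Etale (pullback.fst hh π).left :=
    MorphismProperty.of_isPullback (P := @Etale) hsq.flip inferInstance
  have hchart : ((AlgSp.yon S).map (pullback.fst hh π) ≫ a) ≫ (f ≫ g) =
      (AlgSp.yon S).map (pullback.snd hh π ≫ k) ≫ c := by
    have e2 : (AlgSp.yon S).map (pullback.fst hh π) ≫ (AlgSp.yon S).map hh =
        (AlgSp.yon S).map (pullback.snd hh π) ≫ (AlgSp.yon S).map π := by
      rw [← Functor.map_comp, ← Functor.map_comp, pullback.condition]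
    rw [Functor.map_comp]
    simp only [Category.assoc]
    rw [reassoc_of% hcomm, reassoc_of% e2, sqV'.w]
  have hP := h ((AlgSp.yon S).map (pullback.fst hh π) ≫ a) c (pullback.snd hh π ≫ k)
    ((AlgSp.RepWith @Etale).comp_mem _ _ ((AlgSp.repWith_yon_map_iff _ _).2 inferInstance) ha)
    hc hchart
  rw [Over.comp_left] at hP
  have hk : LocallyOfFiniteType k.left :=
    hg ((AlgSp.yon S).map π ≫ b) c k (repWith_etale_comp π b hb) hc (by rw [Category.assoc, sqV'.w])
  have h1 : LocallyOfFinitePresentation (pullback.snd hh π).left :=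
    Groth.Agent.Lib.Helper6.locallyOfFinitePresentation_of_comp hk hP
  have hπQ : (@Surjective ⊓ @Flat ⊓ @LocallyOfFinitePresentation : MorphismProperty Scheme.{u})
      π.left := ⟨⟨inferInstance, inferInstance⟩, inferInstance⟩
  exact MorphismProperty.of_isPullback_of_descendsAlong (P := @LocallyOfFinitePresentation)
      (Q := @Surjective ⊓ @Flat ⊓ @LocallyOfFinitePresentation) hsq.flip hπQ h1

/-- The predicate "the stalk map is flat" in the form used by `AlgSp.HasAtMor`. -/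
def FlStQ (U V : Scheme.{u}) (h : U ⟶ V) (u : ↥U) : Prop := FlSt h u

lemma flStQ_etale_local {U U' V V' : Scheme.{u}} (h : U ⟶ V) (h' : U' ⟶ V') (a : U' ⟶ U) (b : V' ⟶ V)
    [Etale a] [Etale b] (_ : LocallyOfFinitePresentation h) (hh' : LocallyOfFinitePresentation h')
    (comm : h' ≫ b = a ≫ h) (u' : ↥U') : FlStQ U V h (a u') ↔ FlStQ U' V' h' u' :=
  flSt_etale_local h h' a b hh' comm u'

/-- On a chart diagram of a morphism locally of finite presentation, flatness at the image point is read on the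
chart. -/
theorem hasAtMor_flStQ_ofPt_iff {F G : AlgSp.Sp S} (hF : AlgSp.IsAlgSpace F) (hG : AlgSp.IsAlgSpace G)
    (f : F ⟶ G) (hf : AlgSp.LocP @LocallyOfFinitePresentation f)
    {U V : Over S} (a : (AlgSp.yon S).obj U ⟶ F) (b : (AlgSp.yon S).obj V ⟶ G) (h : U ⟶ V)
    (ha : AlgSp.RepWith @Etale a) (hb : AlgSp.RepWith @Etale b)
    (hc : a ≫ f = (AlgSp.yon S).map h ≫ b) (u : ↥U.left) :
    AlgSp.HasAtMor FlStQ f (AlgSp.Points.ofPt a u) ↔ FlSt h.left u :=
  hasAtMor_ofPt_iff_of_locP @LocallyOfFinitePresentation FlStQ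
    (fun h h' a b _ _ hh hh' comm u' => flStQ_etale_local h h' a b hh hh' comm u')
    hF hG f hf a b h ha hb hc u

/-- For `f` locally of finite presentation, flatness at `x` in all chart diagrams is flatness in some chart
diagram. -/
theorem isFlatAtMor_iff {F G : AlgSp.Sp S} (hF : AlgSp.IsAlgSpace F) (hG : AlgSp.IsAlgSpace G)
    (f : F ⟶ G) (hf : AlgSp.LocP @LocallyOfFinitePresentation f) (x : AlgSp.Points F) :
    AlgSp.IsFlatAtMor f x ↔ AlgSp.HasAtMor FlStQ f x := by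
  rw [hasAtMor_iff_forall_of_locP @LocallyOfFinitePresentation FlStQ
    (fun h h' a b _ _ hh hh' comm u' => flStQ_etale_local h h' a b hh hh' comm u') hF hG f hf x]
  constructor
  · intro H U V a b h u ha hb hc hu
    exact H a b h u ha hb hc hu
  · intro H U V a b h u ha hb hc hu
    exact H U V a b h u ha hb hc hu

/-- The flat locus of a morphism locally of finite presentation is open. -/
theorem isOpen_hasAtMor_flStQ {F G : AlgSp.Sp S} (f : F ⟶ G)
    (hf : AlgSp.LocP @LocallyOfFinitePresentation f) :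
    IsOpen {x : AlgSp.Points F | AlgSp.HasAtMor FlStQ f x} := by
  refine isOpen_iff_forall_mem_open.mpr fun x hx => ?_
  obtain ⟨U, V, a, b, h, u, ha, hb, hc, hu, hfl⟩ := hx
  haveI : LocallyOfFinitePresentation h.left := hf a b h ha hb hc
  refine ⟨AlgSp.Points.ofPt a '' {u' | (h.left.stalkMap u').hom.Flat}, ?_,
    Groth.Agent.S10176.isOpenMap_ofPt a ha _ (Groth.Agent.S0386.result h.left), ⟨u, hfl, hu⟩⟩
  rintro _ ⟨u', hu', rfl⟩
  exact ⟨U, V, a, b, h, u', ha, hb, hc, rfl, hu'⟩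

theorem isOpen_isFlatAtMor {F G : AlgSp.Sp S} (hF : AlgSp.IsAlgSpace F) (hG : AlgSp.IsAlgSpace G)
    (f : F ⟶ G) (hf : AlgSp.LocP @LocallyOfFinitePresentation f) :
    IsOpen {x : AlgSp.Points F | AlgSp.IsFlatAtMor f x} := by
  have : {x : AlgSp.Points F | AlgSp.IsFlatAtMor f x} = {x | AlgSp.HasAtMor FlStQ f x} := by
    ext x
    exact isFlatAtMor_iff hF hG f hf x
  rw [this]
  exact isOpen_hasAtMor_flStQ f hf

/-- The image of the flat locus of a morphism locally of finite presentation is open. -/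
theorem isOpen_image_hasAtMor_flStQ {F G : AlgSp.Sp S} (f : F ⟶ G)
    (hf : AlgSp.LocP @LocallyOfFinitePresentation f) :
    IsOpen (AlgSp.Points.map f '' {x : AlgSp.Points F | AlgSp.HasAtMor FlStQ f x}) := by
  refine isOpen_iff_forall_mem_open.mpr ?_
  rintro _ ⟨x, hx, rfl⟩
  obtain ⟨U, V, a, b, h, u, ha, hb, hc, hu, hfl⟩ := hx
  haveI : LocallyOfFinitePresentation h.left := hf a b h ha hb hc
  let O : U.left.Opens := ⟨{u' | (h.left.stalkMap u').hom.Flat}, Groth.Agent.S0386.result h.left⟩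
  haveI h1 : Flat (O.ι ≫ h.left) :=
    Flat.of_stalkMap _ (fun x =>
      (Groth.Agent.Lib.Helper3.FibCritSch.flat_stalkMap_ι_comp_iff h.left O x).mpr x.2)
  have hopen : IsOpen (Set.range (O.ι ≫ h.left)) := (O.ι ≫ h.left).isOpenMap.isOpen_range
  have hmap : ∀ u' : ↥U.left, AlgSp.Points.map f (AlgSp.Points.ofPt a u') =
      AlgSp.Points.ofPt b (h.left u') := fun u' => by
    rw [AlgSp.Points.map_ofPt, hc, Groth.Agent.S10176.ofPt_map_comp]
  refine ⟨AlgSp.Points.ofPt b '' Set.range (O.ι ≫ h.left), ?_,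
    Groth.Agent.S10176.isOpenMap_ofPt b hb _ hopen, ?_⟩
  · rintro _ ⟨_, ⟨u', rfl⟩, rfl⟩
    refine ⟨AlgSp.Points.ofPt a (O.ι u'), ⟨U, V, a, b, h, O.ι u', ha, hb, hc, rfl, u'.2⟩, ?_⟩
    rw [hmap]
    rfl
  · refine ⟨h.left u, ⟨⟨u, hfl⟩, rfl⟩, ?_⟩
    rw [← hmap, hu]

/-- Base change for the flat locus of `X ⟶ Y` over `Z`, `X/Z` flat and lfp, `Y/Z` lft. -/
theorem hasAtMor_flStQ_baseChange_iff {X Y Z X' Y' Z' : AlgSp.Sp S} (hX : AlgSp.IsAlgSpace X)
    (hY : AlgSp.IsAlgSpace Y) (hZ : AlgSp.IsAlgSpace Z) (hX' : AlgSp.IsAlgSpace X')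
    (hY' : AlgSp.IsAlgSpace Y') (hZ' : AlgSp.IsAlgSpace Z')
    {f : X ⟶ Y} {h : Y ⟶ Z} {g : Z' ⟶ Z} {f' : X' ⟶ Y'} {h' : Y' ⟶ Z'} {pX : X' ⟶ X} {pY : Y' ⟶ Y}
    (sq1 : IsPullback pY h' h g) (sq2 : IsPullback pX f' f pY)
    (hfp : AlgSp.LocP @LocallyOfFinitePresentation (f ≫ h)) (hfl : AlgSp.LocP @Flat (f ≫ h))
    (hft : AlgSp.LocP @LocallyOfFiniteType h) (hf : AlgSp.LocP @LocallyOfFinitePresentation f)
    (hf' : AlgSp.LocP @LocallyOfFinitePresentation f') (x' : AlgSp.Points X') :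
    AlgSp.HasAtMor FlStQ f' x' ↔ AlgSp.HasAtMor FlStQ f (AlgSp.Points.map pX x') := by
  obtain ⟨V, W, V', W', b, c, g₀, b', c', g₀', βV, βW, hbe, hbs, hce, hcs, hb'e, hb's, hc'e, hc's,
    hbc, hb'c', hb'g, hc'g, sqV⟩ :=
    Groth.Agent.Lib.Seat45.BaseChange.exists_baseChange_atlas_diagram hY hZ hZ' sq1
  obtain ⟨U, U', a, k, a', k', α, hae, ha'e, hak, ha'k', ha'α, sqU, -, hlift'⟩ :=
    Groth.Agent.Lib.Seat45.BaseChange.exists_baseChange_diagram_over hX hY sq2 b b' βV hbe hb'e hb'g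
  obtain ⟨v', hv'⟩ := Groth.Agent.S10177.surjective_ofPt b' hb's (AlgSp.Points.map f' x')
  obtain ⟨u', rfl, -⟩ := hlift' x' v' hv'.symm
  have hcomp : a ≫ (f ≫ h) = (AlgSp.yon S).map (k ≫ g₀) ≫ c := by
    rw [← Category.assoc, hak, Category.assoc, hbc, Functor.map_comp, Category.assoc]
  haveI : LocallyOfFinitePresentation (k.left ≫ g₀.left) := by
    have := hfp a c (k ≫ g₀) hae hce hcomp
    rwa [Over.comp_left] at this
  haveI : Flat (k.left ≫ g₀.left) := by
    have := hfl a c (k ≫ g₀) hae hce hcomp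
    rwa [Over.comp_left] at this
  haveI : LocallyOfFiniteType g₀.left := hft b c g₀ hbe hce hbc
  have h1 : AlgSp.Points.map pX (AlgSp.Points.ofPt a' u') = AlgSp.Points.ofPt a (α.left u') := by
    rw [AlgSp.Points.map_ofPt, ha'α, Groth.Agent.S10176.ofPt_map_comp]
  rw [h1, hasAtMor_flStQ_ofPt_iff hX' hY' f' hf' a' b' k' ha'e hb'e ha'k',
    hasAtMor_flStQ_ofPt_iff hX hY f hf a b k hae hbe hak]
  exact flSt_baseChange_iff k.left g₀.left (sqV.map (Over.forget S)) (sqU.map (Over.forget S)) u'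

end Groth.Agent.Lib.Seat45.FlatLoc
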