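import Mathlib
import Groth.Agent.Lib.Seat45DecGen
import Groth.Agent.Lib.Seat45QFinSp
import Groth.Agent.Lib.Seat45FinEtQuot
import Groth.Agent.Lib.Seat45LocFinIrrSp
import Groth.Agent.S0113
import Groth.Agent.S2080

/-!
# Generically finite morphisms of algebraic spaces: scheme-level and categorical tools (seat 45)

* `isFinite_morphismRestrict_of_le`: finiteness over an open passes to smaller opens.
* `isFinite_of_comp`: descent of finiteness from an fppf cover of the source (affine case).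
* `isPullback_diag`: the relative kernel pair `U ×_P U ⟶ U ×_V U` is a base change of the diagonal of `P ⟶ V`.
* `exists_quasiCompact_kernel`: for `g : P ⟶ h_V` quasi-separated and a chart `a : h_U ⟶ P` the scheme
  `U ×_P U` maps quasi-compactly to `U ×_V U`.
-/

set_option autoImplicit false
set_option linter.style.haveILetI false
universe u

open CategoryTheory CategoryTheory.Limits AlgebraicGeometry Topology TopologicalSpace

namespace Groth.Agent.Lib.Seat45.GenFin

/-- finiteness over an open passes to smaller opens. -/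
theorem isFinite_morphismRestrict_of_le {X Y : Scheme.{u}} (f : X ⟶ Y) {V₁ V₂ : Y.Opens} (hle : V₂ ≤ V₁)
    (h : IsFinite (f ∣_ V₁)) : IsFinite (f ∣_ V₂) := by
  have hle' : f ⁻¹ᵁ V₂ ≤ f ⁻¹ᵁ V₁ := fun x hx => hle hx
  have hbig : IsPullback (X.homOfLE hle' ≫ (f ⁻¹ᵁ V₁).ι) (f ∣_ V₂) f (Y.homOfLE hle ≫ V₁.ι) := by
    rw [Scheme.homOfLE_ι, Scheme.homOfLE_ι]
    exact (isPullback_morphismRestrict f V₂).flip
  have hw : X.homOfLE hle' ≫ (f ∣_ V₁) = (f ∣_ V₂) ≫ Y.homOfLE hle := by
    rw [← cancel_mono V₁.ι]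
    simp only [Category.assoc, Scheme.homOfLE_ι, morphismRestrict_ι, Scheme.homOfLE_ι_assoc]
  have hsmall : IsPullback (X.homOfLE hle') (f ∣_ V₂) (f ∣_ V₁) (Y.homOfLE hle) :=
    IsPullback.of_right hbig hw (isPullback_morphismRestrict f V₁).flip
  exact MorphismProperty.of_isPullback (P := @IsFinite) hsmall h

/-- descent of finiteness from an fppf cover of the source (affine case). -/
theorem isFinite_of_comp {U M V : Scheme.{u}} [IsAffine U] [IsAffine M] [IsAffine V] (c : U ⟶ M) (k : M ⟶ V)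
    [Flat c] [Surjective c] [LocallyOfFinitePresentation c] [IsFinite (c ≫ k)] : IsFinite k := by
  rw [IsFinite.iff_isIntegralHom_and_locallyOfFiniteType]
  constructor
  · rw [IsIntegralHom.iff_universallyClosed_and_isAffineHom]
    exact ⟨UniversallyClosed.of_comp_surjective c k, inferInstance⟩
  · rw [HasRingHomProperty.iff_of_isAffine (P := @LocallyOfFiniteType)]
    have h1 : (c ≫ k).appTop.hom.FiniteType :=
      (HasRingHomProperty.iff_of_isAffine (P := @LocallyOfFiniteType)).1 inferInstance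
    have h2 : c.appTop.hom.FaithfullyFlat :=
      (Flat.flat_and_surjective_iff_faithfullyFlat_of_isAffine (f := c)).1 ⟨inferInstance, inferInstance⟩
    have h3 : c.appTop.hom.FinitePresentation :=
      (HasRingHomProperty.iff_of_isAffine (P := @LocallyOfFinitePresentation)).1 inferInstance
    letI := k.appTop.hom.toAlgebra
    letI := c.appTop.hom.toAlgebra
    letI := (c ≫ k).appTop.hom.toAlgebra
    haveI : IsScalarTower Γ(V, ⊤) Γ(M, ⊤) Γ(U, ⊤) := IsScalarTower.of_algebraMap_eq' (by
      simp only [RingHom.algebraMap_toAlgebra]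
      rw [Scheme.Hom.comp_appTop]; rfl)
    haveI : Algebra.FiniteType Γ(V, ⊤) Γ(U, ⊤) := h1
    haveI : Module.FaithfullyFlat Γ(M, ⊤) Γ(U, ⊤) := h2
    haveI : Algebra.FinitePresentation Γ(M, ⊤) Γ(U, ⊤) := h3
    exact Groth.Agent.S0113.result (R := Γ(V, ⊤)) (A := Γ(M, ⊤)) (B := Γ(U, ⊤))

/-- The relative kernel pair `U ×_P U ⟶ U ×_V U` is a base change of the diagonal of `g : P ⟶ V`. -/
theorem isPullback_diag {C : Type*} [Category C] {U P V K R : C} (a : U ⟶ P) (g : P ⟶ V) [HasPullback g g]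
    {k₁ k₂ : K ⟶ U} (hK : IsPullback k₁ k₂ (a ≫ g) (a ≫ g)) {t s : R ⟶ U} (sq : IsPullback t s a a)
    (e : R ⟶ K) (he₁ : e ≫ k₁ = t) (he₂ : e ≫ k₂ = s) (m : K ⟶ pullback g g)
    (hm₁ : m ≫ pullback.fst g g = k₁ ≫ a) (hm₂ : m ≫ pullback.snd g g = k₂ ≫ a) :
    IsPullback (t ≫ a) e (pullback.diagonal g) m := by
  have hw : (t ≫ a) ≫ pullback.diagonal g = e ≫ m := by
    apply pullback.hom_ext
    · rw [Category.assoc, pullback.diagonal_fst, Category.comp_id, Category.assoc, hm₁,
        ← Category.assoc, he₁]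
    · rw [Category.assoc, pullback.diagonal_snd, Category.comp_id, Category.assoc, hm₂,
        ← Category.assoc, he₂]
      exact sq.w
  have key : ∀ (c : PullbackCone (pullback.diagonal g) m),
      (c.snd ≫ k₁) ≫ a = c.fst ∧ (c.snd ≫ k₂) ≫ a = c.fst := by
    intro c
    have h1 := congr($(c.condition) ≫ pullback.fst g g)
    have h2 := congr($(c.condition) ≫ pullback.snd g g)
    rw [Category.assoc, pullback.diagonal_fst, Category.comp_id, Category.assoc, hm₁] at h1
    rw [Category.assoc, pullback.diagonal_snd, Category.comp_id, Category.assoc, hm₂] at h2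
    exact ⟨by rw [Category.assoc, ← h1], by rw [Category.assoc, ← h2]⟩
  refine ⟨⟨hw⟩, ⟨PullbackCone.IsLimit.mk _
    (fun c => sq.lift (c.snd ≫ k₁) (c.snd ≫ k₂) (by rw [(key c).1, (key c).2])) ?_ ?_ ?_⟩⟩
  · intro c
    rw [← Category.assoc, sq.lift_fst]
    exact (key c).1
  · intro c
    apply hK.hom_ext
    · rw [Category.assoc, he₁, sq.lift_fst]
    · rw [Category.assoc, he₂, sq.lift_snd]
  · intro c m' h1 h2
    apply sq.hom_ext
    · rw [sq.lift_fst, ← h2, Category.assoc, he₁]
    · rw [sq.lift_snd, ← h2, Category.assoc, he₂]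

variable {S : Scheme.{u}}

/-- For `g : P ⟶ h_V` quasi-separated and a chart `a : h_U ⟶ P` the scheme `U ×_P U` maps quasi-compactly to
`U ×_V U`. -/
theorem exists_quasiCompact_kernel {P : AlgSp.Sp S} {V U R : Over S} (g : P ⟶ (AlgSp.yon S).obj V)
    (hg : AlgSp.IsQuasiSeparatedMor g) (a : (AlgSp.yon S).obj U ⟶ P) (h : U ⟶ V)
    (hc : a ≫ g = (AlgSp.yon S).map h) (s t : R ⟶ U)
    (sq : IsPullback ((AlgSp.yon S).map t) ((AlgSp.yon S).map s) a a) :
    ∃ e : R ⟶ pullback h h, e ≫ pullback.fst h h = t ∧ e ≫ pullback.snd h h = s ∧ QuasiCompact e.left := by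
  have hts : t ≫ h = s ≫ h := by
    apply (AlgSp.yon S).map_injective
    rw [Functor.map_comp, Functor.map_comp, ← hc, ← Category.assoc, ← Category.assoc, sq.w]
  let e : R ⟶ pullback h h := pullback.lift t s hts
  have he₁ : e ≫ pullback.fst h h = t := pullback.lift_fst _ _ _
  have he₂ : e ≫ pullback.snd h h = s := pullback.lift_snd _ _ _
  refine ⟨e, he₁, he₂, ?_⟩
  have hK : IsPullback ((AlgSp.yon S).map (pullback.fst h h)) ((AlgSp.yon S).map (pullback.snd h h))
      (a ≫ g) (a ≫ g) := by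
    rw [hc]
    exact (IsPullback.of_hasPullback h h).map (AlgSp.yon S)
  have := isPullback_diag a g hK sq ((AlgSp.yon S).map e)
    (by rw [← Functor.map_comp, he₁]) (by rw [← Functor.map_comp, he₂])
    (pullback.lift ((AlgSp.yon S).map (pullback.fst h h) ≫ a) ((AlgSp.yon S).map (pullback.snd h h) ≫ a)
      (by rw [Category.assoc, Category.assoc]; exact hK.w))
    (pullback.lift_fst _ _ _) (pullback.lift_snd _ _ _)
  exact hg.2 _ _ _ this

end Groth.Agent.Lib.Seat45.GenFin
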