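import Mathlib
import Groth.Agent.Lib.Seat45ChartsMor
import Groth.Agent.Lib.Seat45EtDim
import Groth.Agent.Lib.Helper12NoethDescent

/-!
# Charts of locally Noetherian algebraic spaces; images of chart points (seat 45)

* `isLocallyNoetherian_chart`: every scheme étale over a locally Noetherian algebraic space is locally Noetherian.
* `ofPt_diagram`: on a chart diagram `a ≫ f = h ≫ b`, the image of the point of `u` under `f` is the point of `h u`.
* `hasAt_localDim_iff`, `hasAt_stalkDim_iff`: reading `HasAt` for local dimension / dimension of the local ring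
  on any chart.
-/

set_option autoImplicit false
universe u

open CategoryTheory CategoryTheory.Limits AlgebraicGeometry

namespace Groth.Agent.Lib.Seat45.Noeth

open Groth.Agent.Lib.Seat45.Charts Groth.Agent.Lib.Seat45.ChartsMor

variable {S : Scheme.{u}}

/-- Every scheme étale over a locally Noetherian algebraic space is locally Noetherian. -/
theorem isLocallyNoetherian_chart {F : AlgSp.Sp S} (hX : AlgSp.IsLocNoethSp F) {U : Over S}
    (a : (AlgSp.yon S).obj U ⟶ F) (ha : AlgSp.RepWith @Etale a) : IsLocallyNoetherian U.left := by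
  obtain ⟨V, p, hpe, hps, hV⟩ := hX
  have sq := hpe.rep.isPullback' a
  haveI : Etale (hpe.rep.snd a).left := hpe.property_snd a
  haveI : Surjective (hpe.rep.snd a).left := hps.2 a _ _ (hpe.rep.isPullback a)
  haveI : Etale (hpe.rep.fst' a).left := ha.2 p _ _ sq.flip
  haveI : IsLocallyNoetherian V.left := hV
  haveI : IsLocallyNoetherian (hpe.rep.pullback a).left :=
    LocallyOfFiniteType.isLocallyNoetherian (hpe.rep.fst' a).left
  exact Groth.Agent.Lib.Helper12.NoethDescent.isLocallyNoetherian_of_flat_lfp_surjective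
      (hpe.rep.snd a).left

/-- On a chart diagram, the image under `f` of the point defined by `u` is the point defined by `h u`. -/
theorem ofPt_diagram {F G : AlgSp.Sp S} (f : F ⟶ G) {U V : Over S} (a : (AlgSp.yon S).obj U ⟶ F)
    (b : (AlgSp.yon S).obj V ⟶ G) (h : U ⟶ V) (hc : a ≫ f = (AlgSp.yon S).map h ≫ b) (u : ↥U.left) :
    AlgSp.Points.ofPt b (h.left u) = AlgSp.Points.map f (AlgSp.Points.ofPt a u) := by
  rw [AlgSp.Points.map_ofPt, hc, Groth.Agent.S10176.ofPt_map_comp]

/-- The local dimension at a point of an algebraic space can be read on any étale chart. -/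
theorem hasAt_localDim_iff {F : AlgSp.Sp S} (hF : AlgSp.IsAlgSpace F) {U : Over S}
    (a : (AlgSp.yon S).obj U ⟶ F) (ha : AlgSp.RepWith @Etale a) (u : ↥U.left) (d : WithBot ℕ∞) :
    AlgSp.HasAt (fun U u => FlatMor.localDim ↥U u = d) F (AlgSp.Points.ofPt a u) ↔
      FlatMor.localDim ↥U.left u = d := by
  constructor
  · intro h
    exact (hasAt_iff_forall (fun U u => FlatMor.localDim ↥U u = d)
      (fun g _ w => by rw [Groth.Agent.Lib.Seat45.EtDim.localDim_eq_of_etale g w]) hF _).1 h U a u ha rfl
  · intro h
    exact ⟨U, a, u, ha, rfl, h⟩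

/-- The dimension of the local ring at a point of an algebraic space can be read on any étale chart. -/
theorem hasAt_stalkDim_iff {F : AlgSp.Sp S} (hF : AlgSp.IsAlgSpace F) {U : Over S}
    (a : (AlgSp.yon S).obj U ⟶ F) (ha : AlgSp.RepWith @Etale a) (u : ↥U.left) (d : WithBot ℕ∞) :
    AlgSp.HasAt (fun U u => ringKrullDim ↥(U.presheaf.stalk u) = d) F (AlgSp.Points.ofPt a u) ↔
      ringKrullDim ↥(U.left.presheaf.stalk u) = d := by
  constructor
  · intro h
    exact (hasAt_iff_forall (fun U u => ringKrullDim ↥(U.presheaf.stalk u) = d)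
      (fun g _ w => by rw [Groth.Agent.Lib.Seat45.EtDim.ringKrullDim_stalk_eq_of_etale g w]) hF _).1 h U a u ha rfl
  · intro h
    exact ⟨U, a, u, ha, rfl, h⟩

end Groth.Agent.Lib.Seat45.Noeth
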