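import Mathlib
import Groth.Agent.Lib.Seat45GenFin
import Groth.Agent.Lib.Seat45ZarQs
import Groth.Agent.Lib.Seat45Noeth
import Groth.Agent.Lib.Seat45Where
import Groth.Agent.Lib.Seat45EtDim
import Groth.Agent.S9913
import Groth.Agent.S9885
import Groth.Agent.S10268
import Groth.Agent.S10018
import Groth.Agent.Lib.Seat45QFinSp
import Groth.Agent.Lib.Seat45LocFinIrrSp
import Groth.Agent.Lib.Seat45FinEtQuot

/-!
# Generically finite morphisms of algebraic spaces (seat 45)

* `exists_affine_surjective_chart`: a quasi-compact algebraic space has an étale surjective chart from an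
  affine scheme.
* `exists_chart_onto_image`: an étale chart maps étale surjectively onto its open image.
* `exists_affineOpen_finite`: scheme-level core (two applications of the generically finite lemma).
* `exists_open_finite`: a quasi-separated morphism of finite type which is quasi-finite at all points over a
  codimension `0` point `y` is finite over an open neighbourhood of `y`.
-/

set_option autoImplicit false
set_option linter.style.haveILetI false
universe u

open CategoryTheory CategoryTheory.Limits AlgebraicGeometry Topology TopologicalSpace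

namespace Groth.Agent.Lib.Seat45.GenFin

open Groth.Agent.Lib.Seat45.QsSober Groth.Agent.Lib.Seat45.DecGen Groth.Agent.Lib.Seat45.ZarQs
  Groth.Agent.Lib.Seat45.Charts Groth.Agent.Lib.Helper12

variable {S : Scheme.{u}}

/-- a quasi-compact algebraic space has an étale surjective chart from an affine scheme. -/
theorem exists_affine_surjective_chart {X : AlgSp.Sp S} (hqc : AlgSp.IsQuasiCompactSp X) :
    ∃ (U : Over S) (a : (AlgSp.yon S).obj U ⟶ X), IsAffine U.left ∧ AlgSp.RepWith @Etale a ∧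
      AlgSp.RepWith @Surjective a := by
  obtain ⟨U, p, hp, hps, hc⟩ := hqc
  have haff : ∀ u : U.left, ∃ U₁ : U.left.Opens, IsAffineOpen U₁ ∧ u ∈ U₁ := by
    intro u
    obtain ⟨U₁, hU₁, hx, -⟩ := exists_isAffineOpen_mem_and_subset (x := u)
      (U := (⊤ : U.left.Opens)) trivial
    exact ⟨U₁, hU₁, hx⟩
  choose V hV huV using haff
  haveI : CompactSpace U.left := hc
  obtain ⟨t, ht⟩ := isCompact_univ.elim_finite_subcover
    (fun u => ((V u : U.left.Opens) : Set U.left)) (fun u => (V u).2)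
    (fun u _ => Set.mem_iUnion.2 ⟨u, huV u⟩)
  let F : {u // u ∈ t} → Scheme.{u} := fun k => (V k.1).toScheme
  haveI : ∀ k, IsAffine (F k) := fun k => hV k.1
  let g₀ : (∐ F) ⟶ U.left := Sigma.desc (fun k => (V k.1).ι)
  let Vo : Over S := Over.mk (g₀ ≫ U.hom)
  let gV : Vo ⟶ U := Over.homMk g₀ rfl
  have hge : Etale g₀ := IsZariskiLocalAtSource.sigmaDesc (P := @Etale) (fun k => inferInstance)
  have hgs : Surjective g₀ := by
    constructor
    intro u
    have := ht (Set.mem_univ u)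
    simp only [Set.mem_iUnion] at this
    obtain ⟨k, hk, hu⟩ := this
    refine ⟨(Sigma.ι F ⟨k, hk⟩) ⟨u, hu⟩, ?_⟩
    rw [← Scheme.Hom.comp_apply, Sigma.ι_desc]
    rfl
  refine ⟨Vo, (AlgSp.yon S).map gV ≫ p, ?_, ?_, ?_⟩
  · change IsAffine (∐ F)
    infer_instance
  · exact (AlgSp.RepWith @Etale).comp_mem _ _ ((AlgSp.repWith_yon_map_iff @Etale gV).2 hge) hp
  · exact (AlgSp.RepWith @Surjective).comp_mem _ _ ((AlgSp.repWith_yon_map_iff @Surjective gV).2 hgs) hps

/-- an étale chart maps étale surjectively onto its open image. -/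
theorem exists_chart_onto_image {X : AlgSp.Sp S} {U : Over S} (a₀ : (AlgSp.yon S).obj U ⟶ X)
    (hae : AlgSp.RepWith @Etale a₀) :
    IsOpen (Set.range (AlgSp.Points.ofPt a₀)) ∧
    ∃ p : (AlgSp.yon S).obj U ⟶ OpenSub.obj X (Set.range (AlgSp.Points.ofPt a₀)),
      p ≫ OpenSub.incl X (Set.range (AlgSp.Points.ofPt a₀)) = a₀ ∧
      AlgSp.RepWith @Etale p ∧ AlgSp.RepWith @Surjective p := by
  have hW : IsOpen (Set.range (AlgSp.Points.ofPt a₀)) :=
    (Groth.Agent.S10176.isOpenMap_ofPt _ hae).isOpen_range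
  refine ⟨hW, ?_⟩
  set W := Set.range (AlgSp.Points.ofPt a₀) with hWdef
  have hincl : AlgSp.RepWith @IsOpenImmersion (OpenSub.incl X W) := OpenSub.repWith_incl hW
  obtain ⟨p, hp⟩ := (Groth.Agent.S10194.exists_factor_iff (OpenSub.incl X W) hincl a₀).2 (by
    rw [OpenSub.range_map_incl, range_map_eq_range_ofPt])
  have hpe : AlgSp.RepWith @Etale p := repWith_of_comp_mono @Etale p (OpenSub.incl X W) (by rw [hp]; exact hae)
  have hinj : Function.Injective (AlgSp.Points.map (OpenSub.incl X W)) :=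
    LargestOpen.injective_map_of_open _ hincl
  have hps : AlgSp.RepWith @Surjective p := by
    refine Groth.Agent.S9906.repWith_surjective_of_surjective_map p hpe.1 (fun y => ?_)
    have hy : AlgSp.Points.map (OpenSub.incl X W) y ∈ W :=
      (OpenSub.range_map_incl W).subset (Set.mem_range_self y)
    obtain ⟨u, hu⟩ := hy
    refine ⟨AlgSp.Points.ofScheme U u, hinj ?_⟩
    rw [← AlgSp.Points.map_comp, hp, ← AlgSp.Points.ofPt_eq_map_ofScheme]
    exact hu
  exact ⟨p, hp, hpe, hps⟩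

/-- scheme-level core: two applications of the generically finite lemma. -/
theorem exists_affineOpen_finite {U V R : Scheme.{u}} [IsAffine U] [IsAffine V] [CompactSpace R]
    (h : U ⟶ V) (s : R ⟶ U) [LocallyOfFiniteType h] [Etale s] [IsSeparated s] (v : V)
    (hv : closure {v} ∈ irreducibleComponents (V : Type u)) (hfin : (h ⁻¹' {v}).Finite) :
    ∃ V₂ : V.Opens, IsAffineOpen V₂ ∧ v ∈ V₂ ∧ IsFinite (h ∣_ V₂) ∧ IsFinite ((s ≫ h) ∣_ V₂) := by
  haveI : QuasiCompact s := (HasAffineProperty.iff_of_isAffine (P := @QuasiCompact)).2 inferInstance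
  haveI : LocallyQuasiFinite s := Groth.Agent.Lib.Seat45.EtDim.locallyQuasiFinite_of_etale s
  have hfin2 : ((s ≫ h) ⁻¹' {v}).Finite := by
    have : ((s ≫ h) ⁻¹' {v}) = s ⁻¹' (h ⁻¹' {v}) := by
      ext x; simp
    rw [this]
    exact hfin.preimage' (fun u _ => s.finite_preimage_singleton u)
  obtain ⟨V₁, hV₁, hv₁, hf₁⟩ := (Groth.Agent.S2080.result h v hv).1 hfin
  obtain ⟨V₁', hV₁', hv₁', hf₁'⟩ := (Groth.Agent.S2080.result (s ≫ h) v hv).1 hfin2
  obtain ⟨_, ⟨V₂, hV₂, rfl⟩, hv₂, hle⟩ := V.isBasis_affineOpens.exists_subset_of_mem_open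
    (show v ∈ ((V₁ ⊓ V₁' : V.Opens) : Set V) from ⟨hv₁, hv₁'⟩) (V₁ ⊓ V₁').isOpen
  exact ⟨V₂, hV₂, hv₂, isFinite_morphismRestrict_of_le h (fun x hx => (hle hx).1) hf₁,
    isFinite_morphismRestrict_of_le (s ≫ h) (fun x hx => (hle hx).2) hf₁'⟩

/-- restricting an open immersion `O.ι` to an open contained in `O` gives an isomorphism. -/
theorem isIso_ι_morphismRestrict {X : Scheme.{u}} (O W : X.Opens) (hle : W ≤ O) : IsIso (O.ι ∣_ W) := by
  rw [isIso_iff_isOpenImmersion_and_surjective]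
  refine ⟨inferInstance, ⟨fun w => ?_⟩⟩
  have hw : w.1 ∈ O := hle w.2
  refine ⟨⟨⟨w.1, hw⟩, ?_⟩, ?_⟩
  · change O.ι ⟨w.1, hw⟩ ∈ W
    exact w.2
  · apply W.ι.injective
    rw [← Scheme.Hom.comp_apply, morphismRestrict_ι]
    rfl

/-- finiteness of the second projection of the restricted relation. -/
theorem isFinite_t2 {U R : Over S} (s t : R ⟶ U) (W : U.left.Opens)
    (hle : t.left ⁻¹ᵁ W ≤ s.left ⁻¹ᵁ W) (hfin : IsFinite (t.left ∣_ W)) :
    IsFinite (t2 s t W).left := by
  change IsFinite (((s.left ⁻¹ᵁ W).ι ≫ t.left) ∣_ W)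
  rw [morphismRestrict_comp]
  have hiso := isIso_ι_morphismRestrict (s.left ⁻¹ᵁ W) (t.left ⁻¹ᵁ W) hle
  exact (@MorphismProperty.cancel_left_of_respectsIso _ _ @IsFinite _ _ _ _ _ _ hiso).2 hfin

open Groth.Agent.Lib.Seat45.QFin Groth.Agent.Lib.Seat45.Noeth Groth.Agent.Lib.Seat45.LocFinIrr

/-- the restriction of `h : U ⟶ V` over an open `V₁ ⊆ V`, as a morphism over `S`. -/
noncomputable def resMap {U V : Over S} (h : U ⟶ V) (V₁ : V.left.Opens) :
    resObj U (h.left ⁻¹ᵁ V₁) ⟶ resObj V V₁ :=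
  Over.homMk (h.left ∣_ V₁) (by
    change (h.left ∣_ V₁) ≫ V₁.ι ≫ V.hom = (h.left ⁻¹ᵁ V₁).ι ≫ U.hom
    rw [morphismRestrict_ι_assoc, Over.w h])

lemma isPullback_resMap {U V : Over S} (h : U ⟶ V) (V₁ : V.left.Opens) :
    IsPullback ((AlgSp.yon S).map (resMap h V₁)) ((AlgSp.yon S).map (resHom U (h.left ⁻¹ᵁ V₁)))
      ((AlgSp.yon S).map (resHom V V₁)) ((AlgSp.yon S).map h) :=
  (Groth.Agent.Lib.Seat83.GeomFib.isPullback_yon_iff _ _ _ _).2 (isPullback_morphismRestrict h.left V₁)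

/-- **Re-basing a chart.** Let `a : h_U ⟶ P` be a chart of `P` over `h_V` and `Q = P ×_{h_V} h_{V₁}` for an
open `V₁ ⊆ V`.  Then `h⁻¹(V₁)` is a chart of `Q`, and it is the base change of `a`. -/
theorem exists_rebase {P : AlgSp.Sp S} {V U : Over S} (g : P ⟶ (AlgSp.yon S).obj V)
    (a : (AlgSp.yon S).obj U ⟶ P) (h : U ⟶ V) (hc : a ≫ g = (AlgSp.yon S).map h) (V₁ : V.left.Opens)
    {Q : AlgSp.Sp S} (ψ : Q ⟶ P) (q : Q ⟶ (AlgSp.yon S).obj (resObj V V₁))
    (sqQ : IsPullback ψ q g ((AlgSp.yon S).map (resHom V V₁))) :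
    ∃ a₁ : (AlgSp.yon S).obj (resObj U (h.left ⁻¹ᵁ V₁)) ⟶ Q,
      a₁ ≫ ψ = (AlgSp.yon S).map (resHom U (h.left ⁻¹ᵁ V₁)) ≫ a ∧
      a₁ ≫ q = (AlgSp.yon S).map (resMap h V₁) ∧
      IsPullback a₁ ((AlgSp.yon S).map (resHom U (h.left ⁻¹ᵁ V₁))) ψ a := by
  have sqh := isPullback_resMap h V₁
  have hw : ((AlgSp.yon S).map (resHom U (h.left ⁻¹ᵁ V₁)) ≫ a) ≫ g =
      (AlgSp.yon S).map (resMap h V₁) ≫ (AlgSp.yon S).map (resHom V V₁) := by
    rw [Category.assoc, hc, sqh.w]
  refine ⟨sqQ.lift _ _ hw, sqQ.lift_fst _ _ _, sqQ.lift_snd _ _ _, ?_⟩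
  refine IsPullback.of_right ?_ (sqQ.lift_fst _ _ _) sqQ.flip
  rw [sqQ.lift_snd, hc]
  exact sqh

/-- **Finite relation ⇒ finite quotient.** Let `a : h_U ⟶ P` be an étale surjective chart from an affine
scheme of a space `P` over an affine `V`, with relation `R = U ×_P U`.  If over the affine open `V₂ ⊆ V` both
`U` and `R` are finite over `V`, then `P ×_V V₂` is finite over `V₂`. -/
theorem isFiniteMor_of_finite_rel {P : AlgSp.Sp S} {V U R : Over S} [IsAffine V.left] [IsAffine U.left]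
    (g : P ⟶ (AlgSp.yon S).obj V)
    (a : (AlgSp.yon S).obj U ⟶ P) (hae : AlgSp.RepWith @Etale a) (has : AlgSp.RepWith @Surjective a)
    (h : U ⟶ V) (hc : a ≫ g = (AlgSp.yon S).map h) (s t : R ⟶ U)
    (sq : IsPullback ((AlgSp.yon S).map s) ((AlgSp.yon S).map t) a a)
    (V₂ : V.left.Opens) (hV₂ : IsAffineOpen V₂) (hfin1 : IsFinite (h.left ∣_ V₂))
    (hfin2 : IsFinite ((t.left ≫ h.left) ∣_ V₂))
    (Q : AlgSp.Sp S) (ψ : Q ⟶ P) (q : Q ⟶ (AlgSp.yon S).obj (resObj V V₂))
    (sqQ : IsPullback ψ q g ((AlgSp.yon S).map (resHom V V₂))) : AlgSp.IsFiniteMor q := by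
  set U₂ : U.left.Opens := h.left ⁻¹ᵁ V₂ with hU₂def
  have hU₂ : IsAffineOpen U₂ := hV₂.preimage h.left
  haveI : IsAffine (resObj U U₂).left := hU₂
  haveI : IsAffine (resObj V V₂).left := hV₂
  obtain ⟨a₂, ha₂ψ, ha₂q, sqL⟩ := exists_rebase g a h hc V₂ ψ q sqQ
  have ha₂e : AlgSp.RepWith @Etale a₂ :=
    MorphismProperty.of_isPullback (P := AlgSp.RepWith @Etale) sqL.flip hae
  have ha₂s : AlgSp.RepWith @Surjective a₂ :=
    MorphismProperty.of_isPullback (P := AlgSp.RepWith @Surjective) sqL.flip has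
  haveI : Mono ((AlgSp.yon S).map (resHom V V₂)) :=
    LargestOpen.mono_of_open _ ((AlgSp.repWith_yon_map_iff @IsOpenImmersion _).2
      (inferInstanceAs (IsOpenImmersion V₂.ι)))
  haveI : Mono ψ := sqQ.mono_fst_of_mono
  have sq₂ : IsPullback ((AlgSp.yon S).map (s2 s t U₂)) ((AlgSp.yon S).map (t2 s t U₂)) a₂ a₂ := by
    refine isPullback_of_comp_mono' ψ ?_
    rw [ha₂ψ]
    exact isPullback_restrict U₂ sq
  -- finiteness of the relation
  have hts : s ≫ h = t ≫ h := by
    apply (AlgSp.yon S).map_injective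
    rw [Functor.map_comp, Functor.map_comp, ← hc, ← Category.assoc, ← Category.assoc, sq.w]
  have hle : t.left ⁻¹ᵁ U₂ ≤ s.left ⁻¹ᵁ U₂ := by
    intro x hx
    change h.left (s.left x) ∈ V₂
    have e1 : h.left (s.left x) = h.left (t.left x) := by
      rw [← Scheme.Hom.comp_apply, ← Scheme.Hom.comp_apply, ← Over.comp_left, ← Over.comp_left, hts]
    rw [e1]
    exact hx
  haveI := hfin1
  have hfin_t : IsFinite (t.left ∣_ U₂) := by
    rw [morphismRestrict_comp] at hfin2
    exact @IsFinite.of_comp _ _ _ (t.left ∣_ U₂) (h.left ∣_ V₂) hfin2 inferInstance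
  haveI : IsFinite (t2 s t U₂).left := isFinite_t2 s t U₂ hle hfin_t
  haveI : Etale (t2 s t U₂).left := (etale_left_of_isPullback ha₂e sq₂).2
  haveI : IsAffine (R2 s t U₂).left := isAffine_of_isAffineHom (t2 s t U₂).left
  obtain ⟨M, c, m, hMaff, hcm, hmono, hcfin, hcet, hcsurj⟩ :=
    Groth.Agent.Lib.Seat45.FinEtQuot.exists_mono_factor_affine' a₂ (t2 s t U₂) (s2 s t U₂) sq₂
  haveI := hMaff
  haveI := hmono
  haveI := hcfin
  haveI := hcet
  haveI := hcsurj
  -- `m` is an isomorphism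
  haveI : Epi a₂ := by
    haveI := Groth.Agent.S9885.isLocallySurjective_of_repWith a₂
      (repWith_mono (fun g hg => by haveI : Etale g := hg; exact (inferInstance : Flat g)) ha₂e)
      (repWith_mono (fun g hg => by
        haveI : Etale g := hg; exact (inferInstance : LocallyOfFinitePresentation g)) ha₂e) ha₂s
    exact (Sheaf.isLocallySurjective_iff_epi _).1 inferInstance
  haveI : Epi m := by
    haveI : Epi ((AlgSp.yon S).map c ≫ m) := by rw [hcm]; infer_instance
    exact epi_of_epi ((AlgSp.yon S).map c) m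
  haveI : IsIso m := isIso_of_mono_of_epi m
  obtain ⟨k, hk⟩ := (AlgSp.yon S).map_surjective (m ≫ q)
  have hck : c ≫ k = resMap h V₂ := by
    apply (AlgSp.yon S).map_injective
    rw [Functor.map_comp, hk, ← Category.assoc, hcm, ha₂q]
  haveI : IsFinite (c.left ≫ k.left) := by
    rw [← Over.comp_left, hck]
    exact hfin1
  have hkfin : IsFinite k.left := isFinite_of_comp c.left k.left
  refine Groth.Agent.S10018.isFiniteMor_of_repWith_isFinite q ?_
  rw [← MorphismProperty.cancel_left_of_respectsIso (AlgSp.RepWith @IsFinite) m q, ← hk]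
  exact (AlgSp.repWith_yon_map_iff @IsFinite k).2 hkfin

/-- chart-level statement: an affine chart `a : h_U ⟶ P` of a space `P` over an affine `V` with finite fibre
over a maximal point `v` of `V`: after shrinking `V`, the space `P` is finite over `V`. -/
theorem exists_affineOpen_isFiniteMor {P : AlgSp.Sp S} {V U : Over S} [IsAffine V.left] [IsAffine U.left]
    (g : P ⟶ (AlgSp.yon S).obj V) (hg : AlgSp.IsQuasiSeparatedMor g)
    (a : (AlgSp.yon S).obj U ⟶ P) (hae : AlgSp.RepWith @Etale a) (has : AlgSp.RepWith @Surjective a)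
    (h : U ⟶ V) (hc : a ≫ g = (AlgSp.yon S).map h) [LocallyOfFiniteType h.left] (v : ↥V.left)
    (hv : closure {v} ∈ irreducibleComponents (V.left : Type u)) (hfin : (h.left ⁻¹' {v}).Finite) :
    ∃ V₂ : V.left.Opens, IsAffineOpen V₂ ∧ v ∈ V₂ ∧
      ∀ (Q : AlgSp.Sp S) (ψ : Q ⟶ P) (q : Q ⟶ (AlgSp.yon S).obj (resObj V V₂)),
        IsPullback ψ q g ((AlgSp.yon S).map (resHom V V₂)) → AlgSp.IsFiniteMor q := by
  -- the relation
  obtain ⟨R, t, s', sq⟩ := hae.1 a
  obtain ⟨s, rfl⟩ := (AlgSp.yon S).map_surjective s'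
  obtain ⟨e, he₁, he₂, heqc⟩ := exists_quasiCompact_kernel g hg a h hc t s sq
  haveI : Etale t.left := (etale_left_of_isPullback hae sq).2
  haveI : IsSeparated t.left := (isSeparated_left_of_isPullback sq).2
  haveI : CompactSpace ↥R.left := by
    have hpb : IsPullback (pullback.fst h h).left (pullback.snd h h).left h.left h.left :=
      (IsPullback.of_hasPullback h h).map (Over.forget S)
    haveI : CompactSpace ↥(pullback h h).left :=
      QuasiCompact.compactSpace_of_compactSpace hpb.isoPullback.hom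
    exact QuasiCompact.compactSpace_of_compactSpace e.left
  obtain ⟨V₂, hV₂, hvV₂, hfin1, hfin2⟩ := exists_affineOpen_finite h.left t.left v hv hfin
  exact ⟨V₂, hV₂, hvV₂, fun Q ψ q sqQ =>
    isFiniteMor_of_finite_rel g a hae has h hc s t sq V₂ hV₂ hfin1 hfin2 Q ψ q sqQ⟩

/-- A quasi-separated morphism of finite type which is quasi-finite at all points over a codimension `0` point
`y` is finite over an open neighbourhood of `y`. -/
theorem exists_open_finite {X Y : AlgSp.Space S} (f : X ⟶ Y)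
    (hqs : AlgSp.IsQuasiSeparatedMor f.hom) (hft : AlgSp.IsFiniteTypeMor f.hom) (y : AlgSp.Points Y.obj)
    (hy : AlgSp.HasAt (fun U u => ringKrullDim ↥(U.presheaf.stalk u) = 0) Y.obj y)
    (hqf : ∀ x : AlgSp.Points X.obj, AlgSp.Points.map f.hom x = y → AlgSp.HasAtMor QFNear f.hom x) :
    ∃ (Y' X' : AlgSp.Space S) (j : Y' ⟶ Y) (fst : X' ⟶ Y') (snd : X' ⟶ X),
      AlgSp.RepWith @IsOpenImmersion j.hom ∧
      y ∈ Set.range (AlgSp.Points.map j.hom) ∧ IsPullback fst.hom snd.hom j.hom f.hom ∧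
      AlgSp.IsFiniteMor fst.hom := by
  obtain ⟨V, b, v, hbe, hvy, hVaff⟩ := exists_affine_chart Y.property y
  haveI := hVaff
  have hv0 : ringKrullDim (V.left.presheaf.stalk v) = 0 :=
    (hasAt_stalkDim_iff Y.property b hbe v 0).1 (by rw [hvy]; exact hy)
  have hvmax : closure {v} ∈ irreducibleComponents (V.left : Type u) :=
    (Groth.Agent.Lib.Helper14.closure_mem_irreducibleComponents_iff v).2
      ((maxPt_iff_stalkDim_eq_zero v).2 hv0)
  have sqP := IsPullback.of_hasPullback f.hom b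
  have hP : AlgSp.IsAlgSpace (pullback f.hom b) :=
    Groth.Agent.S9874.isAlgSpace_of_isPullback Y.property.diag X.property (AlgSp.IsAlgSpace.yon_obj V) sqP
  have hpre : AlgSp.RepWith @Etale (pullback.fst f.hom b) :=
    MorphismProperty.of_isPullback (P := AlgSp.RepWith @Etale) sqP.flip hbe
  have hgqs : AlgSp.IsQuasiSeparatedMor (pullback.snd f.hom b) :=
    MorphismProperty.of_isPullback (P := (AlgSp.RepWith (S := S) @QuasiCompact).diagonal) sqP hqs
  have hPqc : AlgSp.IsQuasiCompactSp (pullback f.hom b) :=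
    hft.2 (AlgSp.IsAlgSpace.yon_obj V) (Groth.Agent.S9913.isQuasiCompactSp_yon_of_compact V) b _ _ sqP
  obtain ⟨U, a, hUaff, hae, has⟩ := exists_affine_surjective_chart hPqc
  haveI := hUaff
  obtain ⟨h, hh⟩ := (AlgSp.yon S).map_surjective (a ≫ pullback.snd f.hom b)
  have hae' : AlgSp.RepWith @Etale (a ≫ pullback.fst f.hom b) :=
    (AlgSp.RepWith @Etale).comp_mem _ _ hae hpre
  have hcomm : (a ≫ pullback.fst f.hom b) ≫ f.hom = (AlgSp.yon S).map h ≫ b := by
    rw [Category.assoc, sqP.w, ← Category.assoc, hh]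
  haveI : LocallyOfFiniteType h.left := hft.1 _ b h hae' hbe hcomm
  have hfin : (h.left ⁻¹' {v}).Finite := by
    refine (finite_quasiFiniteAt_fibre h.left v).subset ?_
    intro u hu
    have hu' : h.left u = v := hu
    refine ⟨hu', ?_⟩
    have hx : AlgSp.Points.map f.hom (AlgSp.Points.ofPt (a ≫ pullback.fst f.hom b) u) = y := by
      rw [← ofPt_diagram f.hom _ b h hcomm u, hu', hvy]
    exact (hasAtMor_qfNear_ofPt_iff X.property Y.property f.hom hft.1 _ b h hae' hbe hcomm u).1 (hqf _ hx)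
  obtain ⟨V₂, hV₂, hvV₂, hQ⟩ :=
    exists_affineOpen_isFiniteMor (pullback.snd f.hom b) hgqs a hae has h hh.symm v hvmax hfin
  -- the open subspace
  have hb₂₀e : AlgSp.RepWith @Etale ((AlgSp.yon S).map (resHom V V₂) ≫ b) := repWith_etale_res b hbe V₂
  obtain ⟨hW, b₂, hb₂, hb₂e, hb₂s⟩ := exists_chart_onto_image _ hb₂₀e
  let Y' : AlgSp.Space S := ⟨OpenSub.obj Y.obj (Set.range (AlgSp.Points.ofPt ((AlgSp.yon S).map (resHom V V₂) ≫ b))),
    OpenSub.isAlgSpace_obj Y.property hW⟩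
  let j : Y' ⟶ Y := ObjectProperty.homMk (OpenSub.incl Y.obj _)
  obtain ⟨X', fst, snd, sqX⟩ := Groth.Agent.Lib.Seat45.Where.exists_pullback j f
  refine ⟨Y', X', j, fst, snd, OpenSub.repWith_incl hW, ?_, sqX, ?_⟩
  · change y ∈ Set.range (AlgSp.Points.map (OpenSub.incl Y.obj _))
    rw [OpenSub.range_map_incl]
    refine ⟨⟨v, hvV₂⟩, ?_⟩
    rw [ofPt_res]
    exact hvy
  · have sqQ := IsPullback.of_hasPullback fst.hom b₂
    refine (Groth.Agent.S10268.result fst (resObj V V₂) b₂ hb₂e hb₂s _ _ sqQ).2 ?_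
    have hbig : IsPullback (pullback.fst fst.hom b₂ ≫ snd.hom) (pullback.snd fst.hom b₂) f.hom
        (b₂ ≫ j.hom) := sqQ.paste_horiz sqX.flip
    have hbj : b₂ ≫ j.hom = (AlgSp.yon S).map (resHom V V₂) ≫ b := hb₂
    rw [hbj] at hbig
    let ψ : pullback fst.hom b₂ ⟶ pullback f.hom b :=
      sqP.lift (pullback.fst fst.hom b₂ ≫ snd.hom)
        (pullback.snd fst.hom b₂ ≫ (AlgSp.yon S).map (resHom V V₂)) (by
          rw [Category.assoc]; exact hbig.w)
    have hψ1 : ψ ≫ pullback.fst f.hom b = pullback.fst fst.hom b₂ ≫ snd.hom := sqP.lift_fst _ _ _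
    have hψ2 : ψ ≫ pullback.snd f.hom b = pullback.snd fst.hom b₂ ≫ (AlgSp.yon S).map (resHom V V₂) :=
      sqP.lift_snd _ _ _
    have sqψ : IsPullback ψ (pullback.snd fst.hom b₂) (pullback.snd f.hom b)
        ((AlgSp.yon S).map (resHom V V₂)) := by
      refine IsPullback.of_right ?_ hψ2 sqP
      rw [hψ1]
      exact hbig
    exact hQ _ ψ _ sqψ

end Groth.Agent.Lib.Seat45.GenFin
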