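import Mathlib
import Groth.Agent.S10176
import Groth.Agent.S10177
import Groth.Agent.S10340
import Groth.Agent.S10265
import Groth.Agent.Lib.Helper12QcPoint
import Groth.Prelude.Def_AlgSpDec

/-!
# Closed points and the Jacobson property for decent algebraic spaces (seat 83)

* `isClosed_singleton_of_isClosed_image`: over a closed point of `|X|` (decent `X`) every point of an étale chart
  is closed in the chart.
* `isClosed_singleton_of_chart`: if some chart has a closed point over `x`, every point over `x` in a Jacobson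
  chart is closed.
* `isClosed_point_of_chart`: in the presence of a Jacobson étale surjective chart, a point of `|X|` with a
  closed preimage in some chart is closed.
* `jacobsonSpace_points`, `jacobsonSpace_chart`: `|X|` Jacobson iff charts Jacobson (decent `X`).
-/

set_option autoImplicit false
set_option linter.style.haveILetI false
universe u

open CategoryTheory CategoryTheory.Limits AlgebraicGeometry Topology

namespace Groth.Agent.Lib.Seat83.Jacobson

variable {S : Scheme.{u}}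

/-- Over a closed point of a decent space every chart point is closed. -/
lemma isClosed_singleton_of_isClosed_image (X : AlgSp.Space S) (hX : AlgSp.IsDecent X.obj)
    {U : Over S} (a : (AlgSp.yon S).obj U ⟶ X.obj) (ha : AlgSp.RepWith @Etale a) (u : ↥U.left)
    (hx : IsClosed ({AlgSp.Points.ofPt a u} : Set (AlgSp.Points X.obj))) :
    IsClosed ({u} : Set ↥U.left) := by
  rw [← closure_subset_iff_isClosed]
  intro u' hu'
  have hs : u ⤳ u' := specializes_iff_mem_closure.2 hu'
  have hs' : AlgSp.Points.ofPt a u ⤳ AlgSp.Points.ofPt a u' :=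
    hs.map (AlgSp.Points.continuous_ofPt a)
  have hmem : AlgSp.Points.ofPt a u' ∈ closure ({AlgSp.Points.ofPt a u} : Set _) :=
    specializes_iff_mem_closure.1 hs'
  rw [hx.closure_eq, Set.mem_singleton_iff] at hmem
  exact (Groth.Agent.S10340.result X hX a ha u' u hmem hs)

/-- A closed point in one chart forces closed points over the same image in any Jacobson chart. -/
lemma isClosed_singleton_of_chart {F : AlgSp.Sp S} {U V : Over S}
    (a : (AlgSp.yon S).obj U ⟶ F) (ha : AlgSp.RepWith @Etale a)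
    (b : (AlgSp.yon S).obj V ⟶ F) (hb : AlgSp.RepWith @Etale b) [JacobsonSpace ↥V.left]
    (u : ↥U.left) (v : ↥V.left) (e : AlgSp.Points.ofPt a u = AlgSp.Points.ofPt b v)
    (hu : IsClosed ({u} : Set ↥U.left)) : IsClosed ({v} : Set ↥V.left) := by
  obtain ⟨W, w, pr', sq⟩ := ha.1 b
  obtain ⟨pr, rfl⟩ := (AlgSp.yon S).map_surjective pr'
  haveI : Etale w.left := ha.2 b _ w sq
  haveI : Etale pr.left := hb.2 a _ pr sq.flip
  obtain ⟨y, hy1, hy2⟩ := Groth.Agent.S10176.exists_point_of_isPullback_yon sq u v e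
  haveI : LocallyQuasiFinite pr.left := Groth.Agent.S10265.locallyQuasiFinite_of_unramified _
  have hdisc : _root_.IsDiscrete (pr.left ⁻¹' {u}) := pr.left.isDiscrete_preimage_singleton u
  have hcl : IsClosed (pr.left ⁻¹' {u}) := hu.preimage pr.left.continuous
  have hy : IsClosed ({y} : Set ↥W.left) := by
    haveI : DiscreteTopology ↥(pr.left ⁻¹' {u}) := hdisc.to_subtype
    have h1 : IsClosed ({⟨y, hy1⟩} : Set ↥(pr.left ⁻¹' {u})) := isClosed_discrete _
    have h2 := hcl.isClosedEmbedding_subtypeVal.isClosedMap _ h1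
    simpa using h2
  have := w.left.closePoints_subset_preimage_closedPoints (show y ∈ closedPoints ↥W.left from hy)
  rw [Set.mem_preimage, hy2] at this
  exact this


/-- For a decent space the fibre of an étale chart over a point meets every affine open in a finite set. -/
lemma finite_inter_fibre (X : AlgSp.Space S) (hX : AlgSp.IsDecent X.obj)
    {U : Over S} (a : (AlgSp.yon S).obj U ⟶ X.obj) (ha : AlgSp.RepWith @Etale a)
    (U₀ : U.left.Opens) (hU₀ : IsAffineOpen U₀) (x : AlgSp.Points X.obj) :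
    ((U₀ : Set ↥U.left) ∩ AlgSp.Points.ofPt a ⁻¹' {x}).Finite := by
  obtain ⟨p, hp, -, hq⟩ := hX x
  let V : Over S := Over.mk (U₀.ι ≫ U.hom)
  let j : V ⟶ U := Over.homMk U₀.ι rfl
  have hb : AlgSp.RepWith @Etale ((AlgSp.yon S).map j ≫ a) :=
    (AlgSp.RepWith @Etale).comp_mem _ _
      ((AlgSp.repWith_yon_map_iff _ _).2 (inferInstance : Etale U₀.ι)) ha
  haveI : IsAffine V.left := hU₀
  haveI : CompactSpace ↥V.left := inferInstance
  have hfin := Groth.Agent.Lib.Helper12.QcPoint.finite_fibre_of_quasiCompact p hq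
    ((AlgSp.yon S).map j ≫ a) hb
  rw [hp] at hfin
  refine (hfin.image j.left).subset ?_
  rintro u ⟨hu1, hu2⟩
  refine ⟨⟨u, hu1⟩, ?_, rfl⟩
  rw [Set.mem_preimage, Groth.Agent.S10176.ofPt_map_comp]
  exact hu2

/-- With a Jacobson étale surjective chart, a point of `|X|` having a closed preimage point in some étale chart is
closed (decent `X`). -/
lemma isClosed_point_of_chart (X : AlgSp.Space S) (hX : AlgSp.IsDecent X.obj)
    {U₀ : Over S} (p : (AlgSp.yon S).obj U₀ ⟶ X.obj) (hpe : AlgSp.RepWith @Etale p)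
    (hps : AlgSp.RepWith @Surjective p) [JacobsonSpace ↥U₀.left]
    {U : Over S} (a : (AlgSp.yon S).obj U ⟶ X.obj) (ha : AlgSp.RepWith @Etale a) (u : ↥U.left)
    (hu : IsClosed ({u} : Set ↥U.left)) :
    IsClosed ({AlgSp.Points.ofPt a u} : Set (AlgSp.Points X.obj)) := by
  rw [← (Groth.Agent.S10177.isQuotientMap_ofPt p hpe hps).isClosed_preimage]
  have hpt : ∀ v ∈ AlgSp.Points.ofPt p ⁻¹' {AlgSp.Points.ofPt a u}, IsClosed ({v} : Set ↥U₀.left) :=
    fun v hv => isClosed_singleton_of_chart a ha p hpe u v hv.symm hu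
  rw [← closure_subset_iff_isClosed]
  intro z hz
  obtain ⟨V, hV, hzV, -⟩ : ∃ V : U₀.left.Opens, V ∈ U₀.left.affineOpens ∧ z ∈ V ∧ V ≤ ⊤ :=
    TopologicalSpace.Opens.isBasis_iff_nbhd.1 U₀.left.isBasis_affineOpens
      (TopologicalSpace.Opens.mem_top z)
  have hfin := finite_inter_fibre X hX p hpe V hV (AlgSp.Points.ofPt a u)
  have hcl : IsClosed ((V : Set ↥U₀.left) ∩ AlgSp.Points.ofPt p ⁻¹' {AlgSp.Points.ofPt a u}) := by
    have := hfin.isClosed_biUnion (f := fun v => ({v} : Set ↥U₀.left)) (fun v hv => hpt v hv.2)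
    rwa [Set.biUnion_of_singleton] at this
  have h1 : z ∈ closure ((V : Set ↥U₀.left) ∩ AlgSp.Points.ofPt p ⁻¹' {AlgSp.Points.ofPt a u}) :=
    V.2.inter_closure ⟨hzV, hz⟩
  rw [hcl.closure_eq] at h1
  exact h1.2

/-- A criterion for the Jacobson property: closed points are dense in the closure of every point. -/
lemma jacobsonSpace_of_forall_nhd {T : Type*} [TopologicalSpace T]
    (H : ∀ (t : T) (D : Set T), IsOpen D → t ∈ D → ∃ d ∈ D ∩ closure {t}, IsClosed ({d} : Set T)) :
    JacobsonSpace T := by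
  constructor
  intro Z hZ
  refine subset_antisymm (closure_minimal Set.inter_subset_left hZ) ?_
  intro z hz
  rw [mem_closure_iff]
  intro D hD hzD
  obtain ⟨d, ⟨hdD, hdc⟩, hcl⟩ := H z D hD hzD
  exact ⟨d, hdD, (hZ.closure_subset_iff.2 (Set.singleton_subset_iff.2 hz)) hdc, hcl⟩

/-- A decent space with a Jacobson étale surjective chart has a Jacobson space of points. -/
theorem jacobsonSpace_points (X : AlgSp.Space S) (hX : AlgSp.IsDecent X.obj)
    {U₀ : Over S} (p : (AlgSp.yon S).obj U₀ ⟶ X.obj) (hpe : AlgSp.RepWith @Etale p)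
    (hps : AlgSp.RepWith @Surjective p) [JacobsonSpace ↥U₀.left] :
    JacobsonSpace (AlgSp.Points X.obj) := by
  constructor
  intro Z hZ
  refine subset_antisymm (closure_minimal Set.inter_subset_left hZ) ?_
  intro z hz
  rw [mem_closure_iff]
  intro N hN hzN
  obtain ⟨u₀, rfl⟩ := Groth.Agent.S10177.surjective_ofPt p hps z
  have hZ' : IsClosed (AlgSp.Points.ofPt p ⁻¹' Z) := hZ.preimage (AlgSp.Points.continuous_ofPt p)
  have hN' : IsOpen (AlgSp.Points.ofPt p ⁻¹' N) := hN.preimage (AlgSp.Points.continuous_ofPt p)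
  have hmem : u₀ ∈ closure (AlgSp.Points.ofPt p ⁻¹' Z ∩ closedPoints ↥U₀.left) := by
    rw [closure_inter_closedPoints hZ']
    exact hz
  obtain ⟨u₁, hu₁N, hu₁Z, hu₁c⟩ := mem_closure_iff.1 hmem _ hN' hzN
  exact ⟨AlgSp.Points.ofPt p u₁, hu₁N, hu₁Z, isClosed_point_of_chart X hX p hpe hps p hpe u₁ hu₁c⟩

/-- For a decent space with Jacobson space of points every étale chart is Jacobson. -/
theorem jacobsonSpace_chart (X : AlgSp.Space S) (hX : AlgSp.IsDecent X.obj)
    [JacobsonSpace (AlgSp.Points X.obj)]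
    {U : Over S} (a : (AlgSp.yon S).obj U ⟶ X.obj) (ha : AlgSp.RepWith @Etale a) :
    JacobsonSpace ↥U.left := by
  apply jacobsonSpace_of_forall_nhd
  intro u D hD huD
  -- an affine open neighbourhood inside `D`
  obtain ⟨D₀, hD₀, huD₀, hD₀D⟩ : ∃ V : U.left.Opens, V ∈ U.left.affineOpens ∧ u ∈ V ∧ V ≤ ⟨D, hD⟩ :=
    TopologicalSpace.Opens.isBasis_iff_nbhd.1 U.left.isBasis_affineOpens
      (show u ∈ (⟨D, hD⟩ : U.left.Opens) from huD)
  set x := AlgSp.Points.ofPt a u with hx
  have hfin := finite_inter_fibre X hX a ha D₀ hD₀ x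
  -- shrink so that `u` is the only point of the fibre
  have hsep : ∀ v ∈ (D₀ : Set ↥U.left) ∩ AlgSp.Points.ofPt a ⁻¹' {x}, v ≠ u →
      ∃ O : Set ↥U.left, IsOpen O ∧ u ∈ O ∧ v ∉ O := by
    intro v hv hvu
    have hns : ¬ v ⤳ u := fun hs => hvu (Groth.Agent.S10340.result X hX a ha u v hv.2.symm hs).symm
    rw [specializes_iff_forall_open] at hns
    push Not at hns
    obtain ⟨O, hO, huO, hvO⟩ := hns
    exact ⟨O, hO, huO, hvO⟩
  choose! O hO huO hvO using hsep
  set D' : Set ↥U.left := (D₀ : Set ↥U.left) ∩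
    ⋂ v ∈ ((D₀ : Set ↥U.left) ∩ AlgSp.Points.ofPt a ⁻¹' {x}) \ {u}, O v with hD'
  have hD'o : IsOpen D' :=
    D₀.2.inter ((hfin.subset Set.sdiff_subset).isOpen_biInter
      (fun v hv => hO v hv.1 (by simpa using hv.2)))
  have huD' : u ∈ D' := by
    refine ⟨huD₀, ?_⟩
    simp only [Set.mem_iInter]
    intro v hv
    exact huO v hv.1 (by simpa using hv.2)
  have hD'fib : ∀ d ∈ D', AlgSp.Points.ofPt a d = x → d = u := by
    intro d hd hdx
    by_contra hne
    have hd' : d ∈ ((D₀ : Set ↥U.left) ∩ AlgSp.Points.ofPt a ⁻¹' {x}) \ {u} :=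
      ⟨⟨hd.1, hdx⟩, by simpa using hne⟩
    have := hd.2
    simp only [Set.mem_iInter] at this
    exact hvO d hd'.1 hne (this d hd')
  -- a closed point of `|X|` in the image of `D'` and in the closure of `x`
  have hNo : IsOpen (AlgSp.Points.ofPt a '' D') := Groth.Agent.S10176.isOpenMap_ofPt a ha _ hD'o
  have hxN : x ∈ AlgSp.Points.ofPt a '' D' := ⟨u, huD', rfl⟩
  have hmem : x ∈ closure (closure ({x} : Set (AlgSp.Points X.obj)) ∩ closedPoints (AlgSp.Points X.obj)) := by
    rw [closure_inter_closedPoints isClosed_closure]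
    exact subset_closure rfl
  obtain ⟨x₁, hx₁N, hx₁c, hx₁cl⟩ := mem_closure_iff.1 hmem _ hNo hxN
  obtain ⟨d₁, hd₁D', hd₁⟩ := hx₁N
  have hspec : x ⤳ x₁ := specializes_iff_mem_closure.2 hx₁c
  obtain ⟨q, hq, -, hqq⟩ := hX x
  obtain ⟨d, hdd₁, hdx⟩ := Groth.Agent.Lib.Helper12.QcPoint.exists_generization x₁ x hspec q hq hqq
    a ha d₁ hd₁
  have hdD' : d ∈ D' := hdd₁.mem_open hD'o hd₁D'
  have hdu : d = u := hD'fib d hdD' hdx
  subst hdu
  refine ⟨d₁, ⟨hD₀D hd₁D'.1, specializes_iff_mem_closure.1 hdd₁⟩, ?_⟩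
  apply isClosed_singleton_of_isClosed_image X hX a ha d₁
  rw [hd₁]
  exact hx₁cl

end Groth.Agent.Lib.Seat83.Jacobson
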