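import Mathlib
import Groth.Agent.Lib.Seat83Jacobson
import Groth.Prelude.Def_Cyc

/-!
# Lifting generalizations along étale charts of decent spaces (seat 83)

For a decent algebraic space `X` and an étale chart `a : h_U ⟶ X`, generalizations lift along
`|U| → |X|`: the map is open and its fibres meet every affine open in a finite set.  Together with the absence of
specializations inside the fibres (`S10340`) this transports dimension functions from a chart to `|X|`.
-/

set_option autoImplicit false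
set_option linter.style.haveILetI false
universe u

open CategoryTheory CategoryTheory.Limits AlgebraicGeometry Topology

namespace Groth.Agent.Lib.Seat83.GenLift

variable {S : Scheme.{u}}

/-- Generalizations lift along an étale chart of a decent space. -/
theorem exists_generalization_lift (X : AlgSp.Space S) (hX : AlgSp.IsDecent X.obj)
    {U : Over S} (a : (AlgSp.yon S).obj U ⟶ X.obj) (ha : AlgSp.RepWith @Etale a) (u : ↥U.left)
    (x' : AlgSp.Points X.obj) (h : x' ⤳ AlgSp.Points.ofPt a u) :
    ∃ u' : ↥U.left, u' ⤳ u ∧ AlgSp.Points.ofPt a u' = x' := by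
  obtain ⟨V, hV, huV, -⟩ : ∃ V : U.left.Opens, V ∈ U.left.affineOpens ∧ u ∈ V ∧ V ≤ ⊤ :=
    TopologicalSpace.Opens.isBasis_iff_nbhd.1 U.left.isBasis_affineOpens
      (TopologicalSpace.Opens.mem_top u)
  have hfin := Groth.Agent.Lib.Seat83.Jacobson.finite_inter_fibre X hX a ha V hV x'
  have hmem : u ∈ closure ((V : Set ↥U.left) ∩ AlgSp.Points.ofPt a ⁻¹' {x'}) := by
    rw [mem_closure_iff]
    intro N hN huN
    have hopen : IsOpen (AlgSp.Points.ofPt a '' (N ∩ (V : Set ↥U.left))) :=
      Groth.Agent.S10176.isOpenMap_ofPt a ha _ (hN.inter V.2)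
    have hx' : x' ∈ AlgSp.Points.ofPt a '' (N ∩ (V : Set ↥U.left)) :=
      h.mem_open hopen ⟨u, ⟨huN, huV⟩, rfl⟩
    obtain ⟨w, ⟨hwN, hwV⟩, hw⟩ := hx'
    exact ⟨w, hwN, hwV, hw⟩
  rw [← Set.biUnion_of_singleton ((V : Set ↥U.left) ∩ AlgSp.Points.ofPt a ⁻¹' {x'}),
    hfin.closure_biUnion] at hmem
  obtain ⟨w, hw, hwu⟩ := Set.mem_iUnion₂.1 hmem
  exact ⟨w, specializes_iff_mem_closure.2 hwu, hw.2⟩

/-- A function on `|X|` whose composite with an étale surjective chart of the decent space `X` is a dimension function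
is a dimension function. -/
theorem isDimFun_points_of_chart (X : AlgSp.Space S) (hX : AlgSp.IsDecent X.obj)
    {U : Over S} (a : (AlgSp.yon S).obj U ⟶ X.obj) (ha : AlgSp.RepWith @Etale a)
    (hs : AlgSp.RepWith @Surjective a) (δX : AlgSp.Points X.obj → ℤ)
    (hU : Cyc.IsDimFun U.left (δX ∘ AlgSp.Points.ofPt a)) :
    ∀ x y : AlgSp.Points X.obj, x ⤳ y → x ≠ y →
      δX y < δX x ∧ ((∀ z : AlgSp.Points X.obj, x ⤳ z → z ⤳ y → z = x ∨ z = y) → δX x = δX y + 1) := by
  intro x y hxy hne
  obtain ⟨uy, rfl⟩ := Groth.Agent.S10177.surjective_ofPt a hs y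
  obtain ⟨ux, hux, rfl⟩ := exists_generalization_lift X hX a ha uy x hxy
  have hne' : ux ≠ uy := fun h => hne (by rw [h])
  obtain ⟨h1, h2⟩ := hU ux uy hux hne'
  refine ⟨h1, fun himm => h2 ?_⟩
  intro w hw1 hw2
  rcases himm (AlgSp.Points.ofPt a w) (hw1.map (AlgSp.Points.continuous_ofPt a))
    (hw2.map (AlgSp.Points.continuous_ofPt a)) with h | h
  · left
    exact Groth.Agent.S10340.result X hX a ha w ux h hw1
  · right
    exact (Groth.Agent.S10340.result X hX a ha uy w h.symm hw2).symm

end Groth.Agent.Lib.Seat83.GenLift
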