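import Mathlib
import Groth.Agent.Lib.Seat83GenLift
import Groth.Agent.S10271
import Groth.Agent.S10175

/-!
# Specializations and finite morphisms of decent spaces (seat 83)

* `exists_affine_etale_chart_at`: an affine étale chart through a point of an algebraic space.
* `isClosedMap_of_isFiniteMor`: a finite morphism of algebraic spaces is closed on points.
* `eq_of_specializes_of_map_eq`: a finite morphism of decent spaces has no nontrivial specializations in its fibres.
* `isDimFun_of_comp_finite_surjective`: dimension functions descend along finite surjective morphisms.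
-/

set_option autoImplicit false
set_option linter.style.haveILetI false
universe u

open CategoryTheory CategoryTheory.Limits AlgebraicGeometry Topology

namespace Groth.Agent.Lib.Seat83.FiniteSpec

variable {S : Scheme.{u}}

/-- An affine étale chart through a given point of an algebraic space. -/
theorem exists_affine_etale_chart_at {X : AlgSp.Sp S} (hX : AlgSp.IsAlgSpace X) (x : AlgSp.Points X) :
    ∃ (V : Over S) (b : (AlgSp.yon S).obj V ⟶ X) (v : ↥V.left), IsAffine V.left ∧
      AlgSp.RepWith @Etale b ∧ AlgSp.Points.ofPt b v = x := by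
  obtain ⟨U₀, p, hpe, hps⟩ := hX.atlas
  obtain ⟨u₀, rfl⟩ := Groth.Agent.S10177.surjective_ofPt p hps x
  obtain ⟨V₀, hV₀, hu₀, -⟩ : ∃ V : U₀.left.Opens, V ∈ U₀.left.affineOpens ∧ u₀ ∈ V ∧ V ≤ ⊤ :=
    TopologicalSpace.Opens.isBasis_iff_nbhd.1 U₀.left.isBasis_affineOpens
      (TopologicalSpace.Opens.mem_top u₀)
  let V : Over S := Over.mk (V₀.ι ≫ U₀.hom)
  let j : V ⟶ U₀ := Over.homMk V₀.ι rfl
  have hb : AlgSp.RepWith @Etale ((AlgSp.yon S).map j ≫ p) :=
    (AlgSp.RepWith @Etale).comp_mem _ _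
      ((AlgSp.repWith_yon_map_iff _ _).2 (inferInstance : Etale V₀.ι)) hpe
  refine ⟨V, (AlgSp.yon S).map j ≫ p, (⟨u₀, hu₀⟩ : ↥V₀), hV₀, hb, ?_⟩
  rw [Groth.Agent.S10176.ofPt_map_comp]
  rfl

/-- A finite morphism of algebraic spaces is closed on points. -/
theorem isClosedMap_of_isFiniteMor {X Y : AlgSp.Space S} (f : Y ⟶ X) (hf : AlgSp.IsFiniteMor f.hom) :
    IsClosedMap (AlgSp.Points.map f.hom) := by
  have h := ((Groth.Agent.S10271.result f).1 hf).2.2.2
  exact h X.property (𝟙 X.obj) (𝟙 Y.obj) f.hom (IsPullback.of_horiz_isIso ⟨by simp⟩)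

/-- A finite morphism of decent spaces has no nontrivial specializations inside its fibres. -/
theorem eq_of_specializes_of_map_eq {X Y : AlgSp.Space S} (f : Y ⟶ X) (hf : AlgSp.IsFiniteMor f.hom)
    (hX : AlgSp.IsDecent X.obj) (hY : AlgSp.IsDecent Y.obj) (y z : AlgSp.Points Y.obj) (hyz : y ⤳ z)
    (he : AlgSp.Points.map f.hom y = AlgSp.Points.map f.hom z) : y = z := by
  obtain ⟨V, b, v, hV, hb, hv⟩ := exists_affine_etale_chart_at X.property (AlgSp.Points.map f.hom z)
  obtain ⟨W, i, fst, sq, hW, hi⟩ := hf hV b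
  have hfst : AlgSp.RepWith @Etale fst :=
    MorphismProperty.of_isPullback (P := AlgSp.RepWith @Etale) sq.flip hb
  -- a point of `W` over `z` and `v`
  obtain ⟨wz, hwz1, hwz2⟩ : ∃ w : ↥W.left, AlgSp.Points.ofPt fst w = z ∧ i.left w = v := by
    have e : AlgSp.Points.map f.hom z = AlgSp.Points.map b (AlgSp.Points.ofScheme V v) := by
      rw [← AlgSp.Points.ofPt_eq_map_ofScheme]; exact hv.symm
    obtain ⟨p, hp1, hp2⟩ := Groth.Agent.S10175.exists_point_of_isPullback sq z _ e
    obtain ⟨w, rfl⟩ := (AlgSp.Points.schemeHomeo W).surjective p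
    refine ⟨w, ?_, ?_⟩
    · rw [AlgSp.Points.ofPt_eq_map_ofScheme]; exact hp1
    · apply (AlgSp.Points.schemeHomeo V).injective
      rw [← AlgSp.Points.map_yon_map_apply]
      exact hp2
  -- lift the generalization `y` of `z`
  obtain ⟨wy, hwy1, hwy2⟩ := Groth.Agent.Lib.Seat83.GenLift.exists_generalization_lift Y hY fst hfst wz y
    (by rw [hwz1]; exact hyz)
  -- both lie over `v`
  have hcomp : ∀ w : ↥W.left, AlgSp.Points.ofPt b (i.left w) =
      AlgSp.Points.map f.hom (AlgSp.Points.ofPt fst w) := by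
    intro w
    rw [AlgSp.Points.map_ofPt, sq.w, Groth.Agent.S10176.ofPt_map_comp]
  have hiy : i.left wy = v := by
    have h1 : AlgSp.Points.ofPt b v = AlgSp.Points.ofPt b (i.left wy) := by
      rw [hcomp, hwy2, he, hv]
    have h2 : i.left wy ⤳ v := by
      rw [← hwz2]; exact hwy1.map i.left.continuous
    exact (Groth.Agent.S10340.result X hX b hb v (i.left wy) h1 h2).symm
  -- the fibre of the finite morphism `i` over `v` is discrete
  haveI : IsFinite i.left := hi
  have hdisc : _root_.IsDiscrete (i.left ⁻¹' {v}) := i.left.isDiscrete_preimage_singleton v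
  haveI : DiscreteTopology ↥(i.left ⁻¹' {v}) := hdisc.to_subtype
  have hsp : (⟨wy, hiy⟩ : ↥(i.left ⁻¹' {v})) ⤳ ⟨wz, hwz2⟩ :=
    (subtype_specializes_iff _ _).2 hwy1
  have heq : (⟨wy, hiy⟩ : ↥(i.left ⁻¹' {v})) = ⟨wz, hwz2⟩ := hsp.eq
  have : wy = wz := congrArg Subtype.val heq
  rw [← hwy2, ← hwz1, this]

/-- Specializations lift along a closed map once a lift of the generic point is chosen. -/
theorem exists_specializes_lift_of_isClosedMap {A B : Type*} [TopologicalSpace A] [TopologicalSpace B]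
    {g : A → B} (hg : IsClosedMap g) (a : A) (b : B) (h : g a ⤳ b) : ∃ a' : A, a ⤳ a' ∧ g a' = b := by
  have hcl : IsClosed (g '' closure {a}) := hg _ isClosed_closure
  have hb : b ∈ g '' closure {a} := by
    have : closure {g a} ⊆ g '' closure {a} :=
      hcl.closure_subset_iff.2 (Set.singleton_subset_iff.2 ⟨a, subset_closure rfl, rfl⟩)
    exact this (specializes_iff_mem_closure.1 h)
  obtain ⟨a', ha', rfl⟩ := hb
  exact ⟨a', specializes_iff_mem_closure.2 ha', rfl⟩

/-- A function on `|X|` whose composite with a finite surjective morphism `Y ⟶ X` of decent spaces is a dimension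
function on `|Y|` is a dimension function on `|X|`. -/
theorem isDimFun_of_comp_finite_surjective {X Y : AlgSp.Space S} (f : Y ⟶ X)
    (hf : AlgSp.IsFiniteMor f.hom) (hs : AlgSp.IsSurjectiveMor f.hom) (hX : AlgSp.IsDecent X.obj)
    (hY : AlgSp.IsDecent Y.obj) (δ : AlgSp.Points X.obj → ℤ)
    (hδ : ∀ a b : AlgSp.Points Y.obj, a ⤳ b → a ≠ b →
      (δ ∘ AlgSp.Points.map f.hom) b < (δ ∘ AlgSp.Points.map f.hom) a ∧
        ((∀ c : AlgSp.Points Y.obj, a ⤳ c → c ⤳ b → c = a ∨ c = b) →
          (δ ∘ AlgSp.Points.map f.hom) a = (δ ∘ AlgSp.Points.map f.hom) b + 1)) :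
    ∀ a b : AlgSp.Points X.obj, a ⤳ b → a ≠ b →
      δ b < δ a ∧ ((∀ c : AlgSp.Points X.obj, a ⤳ c → c ⤳ b → c = a ∨ c = b) → δ a = δ b + 1) := by
  intro a b hab hne
  obtain ⟨ya, rfl⟩ := hs a
  obtain ⟨yb, hyab, rfl⟩ :=
    exists_specializes_lift_of_isClosedMap (isClosedMap_of_isFiniteMor f hf) ya b hab
  have hne' : ya ≠ yb := fun h => hne (by rw [h])
  obtain ⟨h1, h2⟩ := hδ ya yb hyab hne'
  refine ⟨h1, fun himm => h2 ?_⟩
  intro w hw1 hw2
  rcases himm (AlgSp.Points.map f.hom w) (hw1.map (AlgSp.Points.continuous_map f.hom))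
    (hw2.map (AlgSp.Points.continuous_map f.hom)) with h | h
  · left
    exact (eq_of_specializes_of_map_eq f hf hX hY ya w hw1 h.symm).symm
  · right
    exact eq_of_specializes_of_map_eq f hf hX hY w yb hw2 h

end Groth.Agent.Lib.Seat83.FiniteSpec
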