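import Mathlib
import Groth.Agent.Lib.Seat45GenFin2
import Groth.Agent.S10190
import Groth.Agent.S10272
import Groth.Agent.S10337
import Groth.Agent.S10540
import Groth.Agent.S10505
import Groth.Agent.S9947
import Groth.Agent.Lib.Seat83FiniteSpec
import Groth.Agent.Lib.Helper12Proper

/-!
# Generically finite morphisms of algebraic spaces, without quasi-separatedness (seat 45)

* `exists_isCompact_opens_of_finite`: a finite set of points of a scheme lies in a quasi-compact open.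
* `exists_affineOpen_finite_of_mono`: scheme-level: the relation `R ⟶ V` (étale separated over `U`, monomorphism
  into a scheme finite over `V`, all maximal points over `η`) is finite over a neighbourhood of `η`.
* `exists_affineOpen_isFiniteMor_of_isFinite`: chart-level statement without quasi-separatedness.
-/

set_option autoImplicit false
set_option linter.style.haveILetI false
universe u
open CategoryTheory CategoryTheory.Limits AlgebraicGeometry Topology TopologicalSpace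

namespace Groth.Agent.Lib.Seat45.GenFin

open Groth.Agent.Lib.Seat45.QsSober Groth.Agent.Lib.Seat45.DecGen Groth.Agent.Lib.Seat45.ZarQs
  Groth.Agent.Lib.Seat45.Charts Groth.Agent.Lib.Helper12 Groth.Agent.Lib.Seat45.QFin
  Groth.Agent.Lib.Seat45.Noeth Groth.Agent.Lib.Seat45.LocFinIrr

/-- a finite set of points of a scheme lies in a quasi-compact open. -/
theorem exists_isCompact_opens_of_finite {R : Scheme.{u}} (F : Set R) (hF : F.Finite) :
    ∃ O : R.Opens, IsCompact (O : Set R) ∧ F ⊆ O := by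
  have haff : ∀ x : R, ∃ W : R.Opens, IsAffineOpen W ∧ x ∈ W := by
    intro x
    obtain ⟨W, hW, hx, -⟩ := exists_isAffineOpen_mem_and_subset (x := x) (U := (⊤ : R.Opens)) trivial
    exact ⟨W, hW, hx⟩
  choose W hW hxW using haff
  refine ⟨⨆ x ∈ F, W x, ?_, ?_⟩
  · have : ((⨆ x ∈ F, W x : R.Opens) : Set R) = ⋃ x ∈ F, (W x : Set R) := by
      ext y; simp
    rw [this]
    exact hF.isCompact_biUnion (fun x _ => (hW x).isCompact)
  · intro x hx
    have : x ∈ ((⨆ x ∈ F, W x : R.Opens) : Set R) := by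
      simp only [Opens.coe_iSup, Set.mem_iUnion]
      exact ⟨x, hx, hxW x⟩
    exact this

/-- **The relation is generically finite.** -/
theorem exists_affineOpen_finite_of_mono {U V R K : Scheme.{u}} [IsAffine V] (h : U ⟶ V) [IsFinite h]
    (t : R ⟶ U) [Etale t] [IsSeparated t] (e : R ⟶ K) [Mono e] (κ : K ⟶ V) [IsFinite κ]
    (he : e ≫ κ = t ≫ h) (η : V) (hη : closure {η} ∈ irreducibleComponents (V : Type u))
    (hmax : ∀ ξ : R, MaxPt ξ → (t ≫ h) ξ = η) :
    ∃ V₁ : V.Opens, IsAffineOpen V₁ ∧ η ∈ V₁ ∧ IsFinite ((t ≫ h) ∣_ V₁) := by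
  set r := t ≫ h with hr
  have hfib : (r ⁻¹' {η}).Finite := by
    have h1 : (r ⁻¹' {η}) = e ⁻¹' (κ ⁻¹' {η}) := by
      ext x
      simp only [Set.mem_preimage, Set.mem_singleton_iff, ← Scheme.Hom.comp_apply, he]
    rw [h1]
    exact (κ.finite_preimage_singleton η).preimage (e.injective.injOn)
  obtain ⟨R', hR'c, hR'⟩ := exists_isCompact_opens_of_finite _ hfib
  haveI : CompactSpace ↥(R' : Scheme.{u}) := isCompact_iff_compactSpace.1 hR'c
  haveI : QuasiCompact (R'.ι ≫ r) := (HasAffineProperty.iff_of_isAffine (P := @QuasiCompact)).2 inferInstance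
  have hfib' : ((R'.ι ≫ r) ⁻¹' {η}).Finite := by
    have h1 : ((R'.ι ≫ r) ⁻¹' {η}) = R'.ι ⁻¹' (r ⁻¹' {η}) := by
      ext x; simp
    rw [h1]
    exact hfib.preimage (R'.ι.injective.injOn)
  obtain ⟨V₁, hV₁, hηV₁, hf₁⟩ := (Groth.Agent.S2080.result (R'.ι ≫ r) η hη).1 hfib'
  refine ⟨V₁, hV₁, hηV₁, ?_⟩
  rw [morphismRestrict_comp] at hf₁
  have hι₁fin : IsFinite (R'.ι ∣_ (r ⁻¹ᵁ V₁)) :=
    @IsFinite.of_comp _ _ _ (R'.ι ∣_ (r ⁻¹ᵁ V₁)) (r ∣_ V₁) hf₁ inferInstance
  have hsurj : Surjective (R'.ι ∣_ (r ⁻¹ᵁ V₁)) := by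
    haveI := hι₁fin
    have hcl : IsClosed (Set.range (R'.ι ∣_ (r ⁻¹ᵁ V₁))) :=
      (R'.ι ∣_ (r ⁻¹ᵁ V₁)).isClosedMap.isClosed_range
    have hdense : Dense (Set.range (R'.ι ∣_ (r ⁻¹ᵁ V₁))) := by
      rw [dense_iff_inter_open]
      rintro O hO ⟨x, hx⟩
      obtain ⟨ξ, hξmax, hξx⟩ := exists_maxPt_specializes (α := ↥((r ⁻¹ᵁ V₁ : R.Opens) : Scheme.{u})) x
      have hξO : ξ ∈ O := hξx.mem_open hO hx
      refine ⟨ξ, hξO, ?_⟩
      have hξR : MaxPt (ξ.1 : R) := (maxPt_subtype_iff (r ⁻¹ᵁ V₁).isOpen ξ).1 hξmax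
      have hξη : r ξ.1 = η := hmax _ hξR
      have hξR' : ξ.1 ∈ R' := hR' hξη
      refine ⟨⟨⟨ξ.1, hξR'⟩, ξ.2⟩, ?_⟩
      apply (r ⁻¹ᵁ V₁).ι.injective
      rw [← Scheme.Hom.comp_apply, morphismRestrict_ι]
      rfl
    have huniv : Set.range (R'.ι ∣_ (r ⁻¹ᵁ V₁)) = Set.univ := by
      rw [← hcl.closure_eq, hdense.closure_eq]
    refine ⟨fun y => ?_⟩
    have : y ∈ Set.range (R'.ι ∣_ (r ⁻¹ᵁ V₁)) := by rw [huniv]; trivial
    exact this
  have hiso : IsIso (R'.ι ∣_ (r ⁻¹ᵁ V₁)) :=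
    (isIso_iff_isOpenImmersion_and_surjective _).2 ⟨inferInstance, hsurj⟩
  exact (@MorphismProperty.cancel_left_of_respectsIso _ _ @IsFinite _ _ _ _ _ _ hiso).1 hf₁

variable {S : Scheme.{u}}

/-- chart-level statement without quasi-separatedness: an étale surjective affine chart `a : h_U ⟶ P` of a space
`P` over an affine `V`, with `U` finite over `V` and all maximal points of `U` lying over the maximal point `η`:
after shrinking `V` around `η`, the space `P` is finite over `V`. -/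
theorem exists_affineOpen_isFiniteMor_of_isFinite {P : AlgSp.Sp S} {V U : Over S} [IsAffine V.left]
    [IsAffine U.left] (g : P ⟶ (AlgSp.yon S).obj V)
    (a : (AlgSp.yon S).obj U ⟶ P) (hae : AlgSp.RepWith @Etale a) (has : AlgSp.RepWith @Surjective a)
    (h : U ⟶ V) (hc : a ≫ g = (AlgSp.yon S).map h) [IsFinite h.left] (η : ↥V.left)
    (hη : closure {η} ∈ irreducibleComponents (V.left : Type u))
    (hmax : ∀ u : ↥U.left, MaxPt u → h.left u = η) :
    ∃ V₂ : V.left.Opens, IsAffineOpen V₂ ∧ η ∈ V₂ ∧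
      ∀ (Q : AlgSp.Sp S) (ψ : Q ⟶ P) (q : Q ⟶ (AlgSp.yon S).obj (resObj V V₂)),
        IsPullback ψ q g ((AlgSp.yon S).map (resHom V V₂)) → AlgSp.IsFiniteMor q := by
  obtain ⟨R, t, s', sq⟩ := hae.1 a
  obtain ⟨s, rfl⟩ := (AlgSp.yon S).map_surjective s'
  haveI : Etale t.left := (etale_left_of_isPullback hae sq).2
  haveI : IsSeparated t.left := (isSeparated_left_of_isPullback sq).2
  have hts : s ≫ h = t ≫ h := by
    apply (AlgSp.yon S).map_injective
    rw [Functor.map_comp, Functor.map_comp, ← hc, ← Category.assoc, ← Category.assoc, sq.w]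
  let e : R ⟶ pullback h h := pullback.lift s t hts
  have he₁ : e ≫ pullback.fst h h = s := pullback.lift_fst _ _ _
  have he₂ : e ≫ pullback.snd h h = t := pullback.lift_snd _ _ _
  have hpb : IsPullback (pullback.fst h h).left (pullback.snd h h).left h.left h.left :=
    (IsPullback.of_hasPullback h h).map (Over.forget S)
  haveI : Mono e.left := ⟨fun f₁ f₂ hf => hom_ext_of_isPullback sq f₁ f₂
    (by
      have := congr($hf ≫ (pullback.fst h h).left)
      rwa [Category.assoc, Category.assoc, ← Over.comp_left, he₁] at this)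
    (by
      have := congr($hf ≫ (pullback.snd h h).left)
      rwa [Category.assoc, Category.assoc, ← Over.comp_left, he₂] at this)⟩
  haveI : IsFinite (pullback.snd h h).left :=
    MorphismProperty.of_isPullback (P := @IsFinite) hpb inferInstance
  have he : e.left ≫ ((pullback.snd h h).left ≫ h.left) = t.left ≫ h.left := by
    rw [← Category.assoc, ← Over.comp_left, he₂]
  have hmaxR : ∀ ξ : ↥R.left, MaxPt ξ → (t.left ≫ h.left) ξ = η := by
    intro ξ hξ
    rw [Scheme.Hom.comp_apply]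
    exact hmax _ (hξ.map_of_generalizingMap (Flat.generalizingMap t.left))
  obtain ⟨V₁, hV₁, hηV₁, hfin2⟩ := exists_affineOpen_finite_of_mono h.left t.left e.left
    ((pullback.snd h h).left ≫ h.left) he η hη hmaxR
  exact ⟨V₁, hV₁, hηV₁, fun Q ψ q sqQ =>
    isFiniteMor_of_finite_rel g a hae has h hc s t sq V₁ hV₁ inferInstance hfin2 Q ψ q sqQ⟩

/-- reading maximal points on a chart diagram of a morphism which preserves and reflects codimension `0`. -/
theorem maxPt_iff_of_diagram {X Y : AlgSp.Space S} (f : X ⟶ Y)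
    (hpre : ∀ x : AlgSp.Points X.obj,
      AlgSp.HasAt (fun U u => ringKrullDim ↥(U.presheaf.stalk u) = 0) X.obj x ↔
        AlgSp.HasAt (fun U u => ringKrullDim ↥(U.presheaf.stalk u) = 0) Y.obj (AlgSp.Points.map f.hom x))
    {U V : Over S} (a : (AlgSp.yon S).obj U ⟶ X.obj) (b : (AlgSp.yon S).obj V ⟶ Y.obj) (h : U ⟶ V)
    (ha : AlgSp.RepWith @Etale a) (hb : AlgSp.RepWith @Etale b)
    (hc : a ≫ f.hom = (AlgSp.yon S).map h ≫ b) (u : ↥U.left) : MaxPt u ↔ MaxPt (h.left u) := by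
  rw [maxPt_iff_stalkDim_eq_zero, maxPt_iff_stalkDim_eq_zero, ← hasAt_stalkDim_iff X.property a ha u 0,
    ← hasAt_stalkDim_iff Y.property b hb (h.left u) 0, ofPt_diagram f.hom a b h hc u]
  exact hpre _

/-- an étale chart from an affine scheme whose image contains a given finite set of points. -/
theorem exists_affine_chart_of_finite {F : AlgSp.Sp S} (hF : AlgSp.IsAlgSpace F) (A : Set (AlgSp.Points F))
    (hA : A.Finite) :
    ∃ (U : Over S) (a : (AlgSp.yon S).obj U ⟶ F), IsAffine U.left ∧ AlgSp.RepWith @Etale a ∧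
      A ⊆ Set.range (AlgSp.Points.ofPt a) := by
  obtain ⟨W, p, hpe, hps⟩ := hF.atlas
  have hsurj := Groth.Agent.S10177.surjective_ofPt p hps
  choose w hw using hsurj
  obtain ⟨O, hOc, hO⟩ := exists_isCompact_opens_of_finite (w '' A) (hA.image w)
  haveI : CompactSpace ↥(resObj W O).left := isCompact_iff_compactSpace.1 hOc
  obtain ⟨U, a', hUaff, ha'e, ha's⟩ :=
    exists_affine_surjective_chart (Groth.Agent.S9913.isQuasiCompactSp_yon_of_compact (resObj W O))
  refine ⟨U, a' ≫ (AlgSp.yon S).map (resHom W O) ≫ p, hUaff,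
    (AlgSp.RepWith @Etale).comp_mem _ _ ha'e (repWith_etale_res p hpe O), ?_⟩
  intro x hx
  have hwO : w x ∈ O := hO ⟨x, hx, rfl⟩
  obtain ⟨u, hu⟩ := Groth.Agent.S10177.surjective_ofPt a' ha's
    (AlgSp.Points.ofScheme (resObj W O) ⟨w x, hwO⟩)
  refine ⟨u, ?_⟩
  rw [← AlgSp.Points.map_ofPt, hu, ← AlgSp.Points.ofPt_eq_map_ofScheme, ofPt_res]
  exact hw x

/-- **From a finite surjective chart to a finite neighbourhood.** -/
theorem exists_of_finite_chart {X Y : AlgSp.Space S} (f : X ⟶ Y)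
    (hpre : ∀ x : AlgSp.Points X.obj,
      AlgSp.HasAt (fun U u => ringKrullDim ↥(U.presheaf.stalk u) = 0) X.obj x ↔
        AlgSp.HasAt (fun U u => ringKrullDim ↥(U.presheaf.stalk u) = 0) Y.obj (AlgSp.Points.map f.hom x))
    {V : Over S} [IsAffine V.left] (b : (AlgSp.yon S).obj V ⟶ Y.obj) (hb : AlgSp.RepWith @Etale b)
    (η : ↥V.left) (hηmax : MaxPt η) (huniq : ∀ v : ↥V.left, MaxPt v → v = η)
    {P : AlgSp.Sp S} (pr : P ⟶ X.obj) (g : P ⟶ (AlgSp.yon S).obj V) (sqP : IsPullback pr g f.hom b)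
    {U : Over S} [IsAffine U.left] (a : (AlgSp.yon S).obj U ⟶ P) (hae : AlgSp.RepWith @Etale a)
    (has : AlgSp.RepWith @Surjective a) (h : U ⟶ V) (hc : a ≫ g = (AlgSp.yon S).map h)
    [IsFinite h.left] :
    ∃ (V₂ : Over S) (b₂ : (AlgSp.yon S).obj V₂ ⟶ Y.obj) (i : V₂ ⟶ V), IsOpenImmersion i.left ∧
      b₂ = (AlgSp.yon S).map i ≫ b ∧ η ∈ Set.range i.left ∧
      ∀ (Q : AlgSp.Sp S) (fst : Q ⟶ X.obj) (q : Q ⟶ (AlgSp.yon S).obj V₂),
        IsPullback fst q f.hom b₂ → AlgSp.IsFiniteMor q := by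
  have hpre' : AlgSp.RepWith @Etale pr := MorphismProperty.of_isPullback (P := AlgSp.RepWith @Etale) sqP.flip hb
  have hcomm : (a ≫ pr) ≫ f.hom = (AlgSp.yon S).map h ≫ b := by
    rw [Category.assoc, sqP.w, ← Category.assoc, hc]
  have hmax : ∀ u : ↥U.left, MaxPt u → h.left u = η := fun u hu =>
    huniq _ ((maxPt_iff_of_diagram f hpre (a ≫ pr) b h ((AlgSp.RepWith @Etale).comp_mem _ _ hae hpre') hb
      hcomm u).1 hu)
  have hη : closure {η} ∈ irreducibleComponents (V.left : Type u) :=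
    (Groth.Agent.Lib.Helper14.closure_mem_irreducibleComponents_iff η).2 hηmax
  obtain ⟨V₂, hV₂, hηV₂, hQ⟩ := exists_affineOpen_isFiniteMor_of_isFinite g a hae has h hc η hη hmax
  refine ⟨resObj V V₂, (AlgSp.yon S).map (resHom V V₂) ≫ b, resHom V V₂,
    inferInstanceAs (IsOpenImmersion V₂.ι), rfl, ⟨⟨η, hηV₂⟩, rfl⟩, ?_⟩
  intro Q fst q sqQ
  let ψ : Q ⟶ P := sqP.lift fst (q ≫ (AlgSp.yon S).map (resHom V V₂)) (by
    rw [Category.assoc]; exact sqQ.w)
  have hψ1 : ψ ≫ pr = fst := sqP.lift_fst _ _ _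
  have hψ2 : ψ ≫ g = q ≫ (AlgSp.yon S).map (resHom V V₂) := sqP.lift_snd _ _ _
  have sqψ : IsPullback ψ q g ((AlgSp.yon S).map (resHom V V₂)) := by
    refine IsPullback.of_right ?_ hψ2 sqP
    rw [hψ1]
    exact sqQ
  exact hQ Q ψ q sqψ

/-- the codimension `0` predicate is invariant under étale morphisms of schemes. -/
lemma codimZero_etale {W V : Scheme.{u}} (g : W ⟶ V) [Etale g] (w : ↥W) :
    ringKrullDim ↥(W.presheaf.stalk w) = 0 ↔ ringKrullDim ↥(V.presheaf.stalk (g w)) = 0 := by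
  rw [Groth.Agent.Lib.Seat45.EtDim.ringKrullDim_stalk_eq_of_etale g w]

/-- **Pointwise statement on a good chart.** -/
theorem exists_chart_isFiniteMor_of_good {X Y : AlgSp.Space S} (f : X ⟶ Y)
    (hf : AlgSp.LocP @LocallyOfFiniteType f.hom)
    (hX0 : {x : AlgSp.Points X.obj |
      AlgSp.HasAt (fun U u => ringKrullDim ↥(U.presheaf.stalk u) = 0) X.obj x}.Finite)
    (hpre : ∀ x : AlgSp.Points X.obj,
      AlgSp.HasAt (fun U u => ringKrullDim ↥(U.presheaf.stalk u) = 0) X.obj x ↔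
        AlgSp.HasAt (fun U u => ringKrullDim ↥(U.presheaf.stalk u) = 0) Y.obj (AlgSp.Points.map f.hom x))
    (hqs : AlgSp.IsQuasiCompactMor f.hom ∨ AlgSp.IsSeparatedMor f.hom)
    {V : Over S} [IsAffine V.left] (b : (AlgSp.yon S).obj V ⟶ Y.obj)
    (hb : AlgSp.RepWith @IsOpenImmersion b)
    (η : ↥V.left) (hηmax : MaxPt η) (huniq : ∀ v : ↥V.left, MaxPt v → v = η) :
    ∃ (V₂ : Over S) (b₂ : (AlgSp.yon S).obj V₂ ⟶ Y.obj), AlgSp.RepWith @IsOpenImmersion b₂ ∧
      AlgSp.Points.ofPt b η ∈ Set.range (AlgSp.Points.ofPt b₂) ∧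
      ∀ (Q : AlgSp.Sp S) (fst : Q ⟶ X.obj) (q : Q ⟶ (AlgSp.yon S).obj V₂),
        IsPullback fst q f.hom b₂ → AlgSp.IsFiniteMor q := by
  have hbe : AlgSp.RepWith @Etale b := repWith_etale_of_isOpenImmersion hb
  have sqP := IsPullback.of_hasPullback f.hom b
  have hP : AlgSp.IsAlgSpace (pullback f.hom b) :=
    Groth.Agent.S9874.isAlgSpace_of_isPullback Y.property.diag X.property (AlgSp.IsAlgSpace.yon_obj V) sqP
  have hpro : AlgSp.RepWith @IsOpenImmersion (pullback.fst f.hom b) :=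
    MorphismProperty.of_isPullback (P := AlgSp.RepWith @IsOpenImmersion) sqP.flip hb
  have hpre' : AlgSp.RepWith @Etale (pullback.fst f.hom b) := repWith_etale_of_isOpenImmersion hpro
  -- an affine chart covering the codimension 0 points
  obtain ⟨U, a, hUaff, hae, hcov, hor⟩ : ∃ (U : Over S) (a : (AlgSp.yon S).obj U ⟶ pullback f.hom b),
      IsAffine U.left ∧ AlgSp.RepWith @Etale a ∧
      {p : AlgSp.Points (pullback f.hom b) |
        AlgSp.HasAt (fun U u => ringKrullDim ↥(U.presheaf.stalk u) = 0) (pullback f.hom b) p} ⊆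
          Set.range (AlgSp.Points.ofPt a) ∧
      (AlgSp.RepWith @Surjective a ∨ AlgSp.IsSeparatedMor f.hom) := by
    rcases hqs with hqc | hsep
    · have hPqc : AlgSp.IsQuasiCompactSp (pullback f.hom b) :=
        hqc (AlgSp.IsAlgSpace.yon_obj V) (Groth.Agent.S9913.isQuasiCompactSp_yon_of_compact V) b _ _ sqP
      obtain ⟨U, a, hUaff, hae, has⟩ := exists_affine_surjective_chart hPqc
      exact ⟨U, a, hUaff, hae, fun p _ => Groth.Agent.S10177.surjective_ofPt a has p, Or.inl has⟩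
    · have hP0 : {p : AlgSp.Points (pullback f.hom b) |
          AlgSp.HasAt (fun U u => ringKrullDim ↥(U.presheaf.stalk u) = 0) (pullback f.hom b) p}.Finite := by
        refine Set.Finite.of_finite_image (f := AlgSp.Points.map (pullback.fst f.hom b)) ?_
          (LargestOpen.injective_map_of_open _ hpro).injOn
        refine hX0.subset ?_
        rintro _ ⟨p, hp, rfl⟩
        exact (hasAt_iff_of_isEtaleMor _ (fun g _ w => codimZero_etale g w) hP X.property
          (pullback.fst f.hom b) (fun U φ hφ => (AlgSp.RepWith @Etale).comp_mem _ _ hφ hpre') p).1 hp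
      obtain ⟨U, a, hUaff, hae, hA⟩ := exists_affine_chart_of_finite hP _ hP0
      exact ⟨U, a, hUaff, hae, hA, Or.inr hsep⟩
  haveI := hUaff
  obtain ⟨h, hh⟩ := (AlgSp.yon S).map_surjective (a ≫ pullback.snd f.hom b)
  have hae' : AlgSp.RepWith @Etale (a ≫ pullback.fst f.hom b) :=
    (AlgSp.RepWith @Etale).comp_mem _ _ hae hpre'
  have hcomm : (a ≫ pullback.fst f.hom b) ≫ f.hom = (AlgSp.yon S).map h ≫ b := by
    rw [Category.assoc, sqP.w, ← Category.assoc, hh]
  haveI : LocallyOfFiniteType h.left := hf _ b h hae' hbe hcomm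
  have hmaxU : ∀ u : ↥U.left, MaxPt u ↔ MaxPt (h.left u) :=
    maxPt_iff_of_diagram f hpre _ b h hae' hbe hcomm
  have hfin : (h.left ⁻¹' {η}).Finite := by
    refine (finite_quasiFiniteAt_fibre h.left η).subset ?_
    intro u hu
    have hu' : h.left u = η := hu
    refine ⟨hu', quasiFiniteAt_of_forall_stalkDim_eq_zero h.left u (fun u' hu'' => ?_)⟩
    rw [← maxPt_iff_stalkDim_eq_zero, hmaxU, hu'', hu']
    exact hηmax
  have hη : closure {η} ∈ irreducibleComponents (V.left : Type u) :=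
    (Groth.Agent.Lib.Helper14.closure_mem_irreducibleComponents_iff η).2 hηmax
  obtain ⟨V₁, hV₁, hηV₁, hfin1⟩ := (Groth.Agent.S2080.result h.left η hη).1 hfin
  -- re-base to `V₁`
  haveI : IsAffine (resObj V V₁).left := hV₁
  haveI : IsAffine (resObj U (h.left ⁻¹ᵁ V₁)).left := hV₁.preimage h.left
  have hb₁ : AlgSp.RepWith @IsOpenImmersion ((AlgSp.yon S).map (resHom V V₁) ≫ b) :=
    (AlgSp.RepWith @IsOpenImmersion).comp_mem _ _
      ((AlgSp.repWith_yon_map_iff @IsOpenImmersion _).2 (inferInstanceAs (IsOpenImmersion V₁.ι))) hb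
  have sqP₁ := IsPullback.of_hasPullback f.hom ((AlgSp.yon S).map (resHom V V₁) ≫ b)
  have hP₁ : AlgSp.IsAlgSpace (pullback f.hom ((AlgSp.yon S).map (resHom V V₁) ≫ b)) :=
    Groth.Agent.S9874.isAlgSpace_of_isPullback Y.property.diag X.property
      (AlgSp.IsAlgSpace.yon_obj (resObj V V₁)) sqP₁
  let ψ₁ : pullback f.hom ((AlgSp.yon S).map (resHom V V₁) ≫ b) ⟶ pullback f.hom b :=
    sqP.lift (pullback.fst f.hom _) (pullback.snd f.hom _ ≫ (AlgSp.yon S).map (resHom V V₁)) (by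
      rw [Category.assoc]; exact sqP₁.w)
  have hψ1 : ψ₁ ≫ pullback.fst f.hom b = pullback.fst f.hom _ := sqP.lift_fst _ _ _
  have hψ2 : ψ₁ ≫ pullback.snd f.hom b = pullback.snd f.hom _ ≫ (AlgSp.yon S).map (resHom V V₁) :=
    sqP.lift_snd _ _ _
  have sqψ₁ : IsPullback ψ₁ (pullback.snd f.hom ((AlgSp.yon S).map (resHom V V₁) ≫ b))
      (pullback.snd f.hom b) ((AlgSp.yon S).map (resHom V V₁)) := by
    refine IsPullback.of_right ?_ hψ2 sqP
    rw [hψ1]
    exact sqP₁
  obtain ⟨a₁, ha₁ψ, ha₁q, sqL⟩ := exists_rebase (pullback.snd f.hom b) a h hh.symm V₁ ψ₁ _ sqψ₁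
  have ha₁e : AlgSp.RepWith @Etale a₁ :=
    MorphismProperty.of_isPullback (P := AlgSp.RepWith @Etale) sqL.flip hae
  haveI : IsFinite (resMap h V₁).left := hfin1
  have hηmax₁ : MaxPt (⟨η, hηV₁⟩ : ↥(resObj V V₁).left) :=
    (maxPt_subtype_iff V₁.isOpen ⟨η, hηV₁⟩).2 hηmax
  have huniq₁ : ∀ v : ↥(resObj V V₁).left, MaxPt v → v = ⟨η, hηV₁⟩ := by
    intro v hv
    exact Subtype.ext (huniq _ ((maxPt_subtype_iff V₁.isOpen v).1 hv))
  have has₁ : AlgSp.RepWith @Surjective a₁ := by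
    rcases hor with has | hsep
    · exact MorphismProperty.of_isPullback (P := AlgSp.RepWith @Surjective) sqL.flip has
    · refine Groth.Agent.S9906.repWith_surjective_of_surjective_map a₁ ha₁e.1 ?_
      let P₁sp : AlgSp.Space S := ⟨pullback f.hom ((AlgSp.yon S).map (resHom V V₁) ≫ b), hP₁⟩
      let U₁sp : AlgSp.Space S := ⟨(AlgSp.yon S).obj (resObj U (h.left ⁻¹ᵁ V₁)), AlgSp.IsAlgSpace.yon_obj _⟩
      let V₁sp : AlgSp.Space S := ⟨(AlgSp.yon S).obj (resObj V V₁), AlgSp.IsAlgSpace.yon_obj _⟩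
      let a₁' : U₁sp ⟶ P₁sp := ObjectProperty.homMk a₁
      let g₁' : P₁sp ⟶ V₁sp := ObjectProperty.homMk (pullback.snd f.hom _)
      have hg₁sep : AlgSp.IsSeparatedMor g₁'.hom :=
        Groth.Agent.Lib.Helper12.Proper.isSeparatedMor_baseChange sqP₁ hsep
      have hfinM : AlgSp.IsFiniteMor (a₁' ≫ g₁').hom := by
        change AlgSp.IsFiniteMor (a₁ ≫ pullback.snd f.hom _)
        rw [ha₁q]
        exact Groth.Agent.S10018.isFiniteMor_of_repWith_isFinite _
          ((AlgSp.repWith_yon_map_iff @IsFinite _).2 hfin1)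
      have ha₁fin : AlgSp.IsFiniteMor a₁'.hom := (Groth.Agent.S10272.result a₁' g₁' hg₁sep).1 hfinM
      have hcl : IsClosed (Set.range (AlgSp.Points.map a₁)) :=
        (Groth.Agent.Lib.Seat83.FiniteSpec.isClosedMap_of_isFiniteMor a₁' ha₁fin).isClosed_range
      have hdense : Dense (Set.range (AlgSp.Points.map a₁)) := by
        refine (Groth.Agent.S10190.result P₁sp).mono ?_
        intro p₁ hp₁
        have hψ₁e : AlgSp.RepWith @Etale ψ₁ :=
          MorphismProperty.of_isPullback (P := AlgSp.RepWith @Etale) sqψ₁.flip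
            ((AlgSp.repWith_yon_map_iff @Etale _).2 (inferInstanceAs (Etale V₁.ι)))
        have hp' : AlgSp.HasAt (fun U u => ringKrullDim ↥(U.presheaf.stalk u) = 0) (pullback f.hom b)
            (AlgSp.Points.map ψ₁ p₁) :=
          (hasAt_iff_of_isEtaleMor _ (fun g _ w => codimZero_etale g w) hP₁ hP ψ₁
            (fun U φ hφ => (AlgSp.RepWith @Etale).comp_mem _ _ hφ hψ₁e) p₁).1 hp₁
        obtain ⟨u, hu⟩ := hcov hp'
        rw [AlgSp.Points.ofPt_eq_map_ofScheme] at hu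
        obtain ⟨z, hz, -⟩ := Groth.Agent.S10175.exists_point_of_isPullback sqL p₁
          (AlgSp.Points.ofScheme U u) hu.symm
        exact ⟨z, hz⟩
      have huniv : Set.range (AlgSp.Points.map a₁) = Set.univ := by
        rw [← hcl.closure_eq, hdense.closure_eq]
      intro p₁
      have : p₁ ∈ Set.range (AlgSp.Points.map a₁) := by rw [huniv]; trivial
      exact this
  obtain ⟨V₂, b₂, i, hi, hb₂, ⟨z, hz⟩, hQ⟩ := exists_of_finite_chart f hpre
    ((AlgSp.yon S).map (resHom V V₁) ≫ b) (repWith_etale_of_isOpenImmersion hb₁) ⟨η, hηV₁⟩ hηmax₁ huniq₁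
    (pullback.fst f.hom _) (pullback.snd f.hom _) sqP₁ a₁ ha₁e has₁ (resMap h V₁) ha₁q
  refine ⟨V₂, b₂, ?_, ?_, hQ⟩
  · rw [hb₂]
    exact (AlgSp.RepWith @IsOpenImmersion).comp_mem _ _
      ((AlgSp.repWith_yon_map_iff @IsOpenImmersion _).2 hi) hb₁
  · refine ⟨z, ?_⟩
    rw [hb₂, Groth.Agent.S10176.ofPt_map_comp, hz, ofPt_res]
    rfl

end Groth.Agent.Lib.Seat45.GenFin
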