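import Mathlib
import Groth.Agent.Lib.Seat45GenFin3
import Groth.Agent.Lib.Seat83GenLift

/-!
# Generically finite morphisms over a decent base (seat 45)

* `subset_of_dense_open`: a finite dense set of pairwise non-specializing points lies in every dense open.
* `exists_affineOpen_unique_maxPt`: isolating a maximal point of a scheme with finitely many maximal points.
* `exists_dense_open_finite`: `f : X ⟶ Y` locally of finite type, `Y` decent, finitely many codimension `0`
  points on both sides, preserved and reflected by `f`, `f` quasi-compact or separated: then `f` is finite over a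
  dense open subspace of `Y`.
-/

set_option autoImplicit false
set_option linter.style.haveILetI false
universe u
open CategoryTheory CategoryTheory.Limits AlgebraicGeometry Topology TopologicalSpace

namespace Groth.Agent.Lib.Seat45.GenFin

open Groth.Agent.Lib.Seat45.QsSober Groth.Agent.Lib.Seat45.DecGen Groth.Agent.Lib.Seat45.ZarQs
  Groth.Agent.Lib.Seat45.Charts Groth.Agent.Lib.Helper12 Groth.Agent.Lib.Seat45.QFin
  Groth.Agent.Lib.Seat45.Noeth Groth.Agent.Lib.Seat45.LocFinIrr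

/-- a finite dense set of pairwise non-specializing points lies in every dense open. -/
theorem subset_of_dense_open {α : Type*} [TopologicalSpace α] (M : Set α) (hM : M.Finite) (hMd : Dense M)
    (hgen : ∀ m ∈ M, ∀ m' ∈ M, m' ⤳ m → m' = m) (D : Set α) (hD : IsOpen D) (hDd : Dense D) : M ⊆ D := by
  intro m hm
  set Z : Set α := ⋃ m' ∈ M \ {m}, closure {m'} with hZ
  have hZcl : IsClosed Z := (hM.subset Set.sdiff_subset).isClosed_biUnion (fun _ _ => isClosed_closure)
  have hmZ : m ∉ Z := by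
    intro h
    simp only [hZ, Set.mem_iUnion] at h
    obtain ⟨m', ⟨hm'M, hm'ne⟩, hmem⟩ := h
    exact hm'ne (hgen m hm m' hm'M (specializes_iff_mem_closure.2 hmem))
  obtain ⟨x, ⟨hxZ, hxD⟩, hxM⟩ := hMd.inter_open_nonempty (Zᶜ ∩ D) (hZcl.isOpen_compl.inter hD)
    (by
      obtain ⟨x, hx1, hx2⟩ := hDd.inter_open_nonempty Zᶜ hZcl.isOpen_compl ⟨m, hmZ⟩
      exact ⟨x, hx1, hx2⟩)
  by_cases hxm : x = m
  · rw [← hxm]; exact hxD
  · exfalso
    apply hxZ
    simp only [hZ, Set.mem_iUnion]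
    exact ⟨x, ⟨hxM, hxm⟩, subset_closure rfl⟩

variable {S : Scheme.{u}}

/-- a maximal point of a scheme with finitely many maximal points has an affine open neighbourhood in which it
is the only maximal point. -/
theorem exists_affineOpen_unique_maxPt (T : Scheme.{u}) (hT0 : {t : T | MaxPt t}.Finite) (η : T)
    (hη : MaxPt η) :
    ∃ V : T.Opens, IsAffineOpen V ∧ η ∈ V ∧ ∀ v : T, v ∈ V → MaxPt v → v = η := by
  set Z : Set T := ⋃ t ∈ {t : T | MaxPt t} \ {η}, closure {t} with hZ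
  have hZcl : IsClosed Z := (hT0.subset Set.sdiff_subset).isClosed_biUnion (fun _ _ => isClosed_closure)
  have hηZ : η ∉ Z := by
    intro h
    simp only [hZ, Set.mem_iUnion] at h
    obtain ⟨t, ⟨-, htne⟩, hmem⟩ := h
    exact htne (hη t (specializes_iff_mem_closure.2 hmem))
  obtain ⟨_, ⟨V, hV, rfl⟩, hηV, hVZ⟩ := T.isBasis_affineOpens.exists_subset_of_mem_open
    (show η ∈ Zᶜ from hηZ) hZcl.isOpen_compl
  refine ⟨V, hV, hηV, fun v hvV hv => ?_⟩
  by_contra hne
  apply hVZ hvV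
  simp only [hZ, Set.mem_iUnion]
  exact ⟨v, ⟨hv, hne⟩, subset_closure rfl⟩

/-- **Generically finite morphisms over a decent base.** -/
theorem exists_dense_open_finite {X Y : AlgSp.Space S} (f : X ⟶ Y)
    (hf : AlgSp.LocP @LocallyOfFiniteType f.hom) (hY : AlgSp.IsDecent Y.obj)
    (hX0 : {x : AlgSp.Points X.obj |
      AlgSp.HasAt (fun U u => ringKrullDim ↥(U.presheaf.stalk u) = 0) X.obj x}.Finite)
    (hY0 : {y : AlgSp.Points Y.obj |
      AlgSp.HasAt (fun U u => ringKrullDim ↥(U.presheaf.stalk u) = 0) Y.obj y}.Finite)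
    (hpre : ∀ x : AlgSp.Points X.obj,
      AlgSp.HasAt (fun U u => ringKrullDim ↥(U.presheaf.stalk u) = 0) X.obj x ↔
        AlgSp.HasAt (fun U u => ringKrullDim ↥(U.presheaf.stalk u) = 0) Y.obj (AlgSp.Points.map f.hom x))
    (hqs : AlgSp.IsQuasiCompactMor f.hom ∨ AlgSp.IsSeparatedMor f.hom) :
    ∃ (V X' : AlgSp.Space S) (j : V ⟶ Y) (fst : X' ⟶ V) (snd : X' ⟶ X),
      AlgSp.RepWith @IsOpenImmersion j.hom ∧
      Dense (Set.range (AlgSp.Points.map j.hom)) ∧ IsPullback fst.hom snd.hom j.hom f.hom ∧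
      AlgSp.IsFiniteMor fst.hom := by
  -- the dense open subscheme
  obtain ⟨Y₁, j₁, hj₁, hrep, hdense₁⟩ := Groth.Agent.S10337.result Y hY
  obtain ⟨T, ⟨e⟩⟩ := hrep.has_representation
  let iso₀ : (AlgSp.yon S).obj T ≅ Y₁.obj := AlgSp.isoOfRepresentableBy e
  set b₀ : (AlgSp.yon S).obj T ⟶ Y.obj := iso₀.hom ≫ j₁.hom with hb₀def
  have hb₀ : AlgSp.RepWith @IsOpenImmersion b₀ :=
    (MorphismProperty.cancel_left_of_respectsIso (AlgSp.RepWith @IsOpenImmersion) iso₀.hom j₁.hom).2 hj₁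
  have hb₀e : AlgSp.RepWith @Etale b₀ := repWith_etale_of_isOpenImmersion hb₀
  have hrange : Set.range (AlgSp.Points.ofPt b₀) = Set.range (AlgSp.Points.map j₁.hom) := by
    rw [← range_map_eq_range_ofPt, hb₀def]
    ext y
    constructor
    · rintro ⟨z, rfl⟩
      exact ⟨AlgSp.Points.map iso₀.hom z, by rw [← AlgSp.Points.map_comp]⟩
    · rintro ⟨z, rfl⟩
      refine ⟨AlgSp.Points.map iso₀.inv z, ?_⟩
      rw [← AlgSp.Points.map_comp, ← Category.assoc, Iso.inv_hom_id, Category.id_comp]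
  have hopen : IsOpen (Set.range (AlgSp.Points.ofPt b₀)) :=
    (Groth.Agent.S10176.isOpenMap_ofPt _ hb₀e).isOpen_range
  -- codimension 0 points have no proper generizations
  have hgen : ∀ y : AlgSp.Points Y.obj,
      AlgSp.HasAt (fun U u => ringKrullDim ↥(U.presheaf.stalk u) = 0) Y.obj y →
      ∀ y' : AlgSp.Points Y.obj, y' ⤳ y → y' = y := by
    rintro y ⟨U, a, u, ha, rfl, hdim⟩ y' hy'
    obtain ⟨u', hu', rfl⟩ := Groth.Agent.Lib.Seat83.GenLift.exists_generalization_lift Y hY a ha u y' hy'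
    rw [(maxPt_iff_stalkDim_eq_zero u).2 hdim u' hu']
  have hY0sub : {y : AlgSp.Points Y.obj |
      AlgSp.HasAt (fun U u => ringKrullDim ↥(U.presheaf.stalk u) = 0) Y.obj y} ⊆
      Set.range (AlgSp.Points.ofPt b₀) :=
    subset_of_dense_open _ hY0 (Groth.Agent.S10190.result Y)
      (fun m hm m' _ h => hgen m hm m' h) _ hopen (by rw [hrange]; exact hdense₁)
  -- maximal points of `T`
  have hinj : Function.Injective (AlgSp.Points.ofPt b₀) := by
    intro t t' htt'
    rw [AlgSp.Points.ofPt_eq_map_ofScheme, AlgSp.Points.ofPt_eq_map_ofScheme] at htt'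
    exact (AlgSp.Points.schemeHomeo T).injective (LargestOpen.injective_map_of_open b₀ hb₀ htt')
  have hT0 : {t : ↥T.left | MaxPt t}.Finite := by
    refine Set.Finite.of_finite_image (f := AlgSp.Points.ofPt b₀) (hY0.subset ?_) hinj.injOn
    rintro _ ⟨t, ht, rfl⟩
    exact (hasAt_stalkDim_iff Y.property b₀ hb₀e t 0).2 ((maxPt_iff_stalkDim_eq_zero t).1 ht)
  -- the pointwise statement
  have key : ∀ t : {t : ↥T.left // MaxPt t}, ∃ (V₂ : Over S) (b₂ : (AlgSp.yon S).obj V₂ ⟶ Y.obj),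
      AlgSp.RepWith @IsOpenImmersion b₂ ∧
      AlgSp.Points.ofPt b₀ t.1 ∈ Set.range (AlgSp.Points.ofPt b₂) ∧
      ∀ (Q : AlgSp.Sp S) (fst : Q ⟶ X.obj) (q : Q ⟶ (AlgSp.yon S).obj V₂),
        IsPullback fst q f.hom b₂ → AlgSp.IsFiniteMor q := by
    rintro ⟨t, ht⟩
    obtain ⟨V, hV, htV, huniq⟩ := exists_affineOpen_unique_maxPt T.left hT0 t ht
    haveI : IsAffine (resObj T V).left := hV
    have hb : AlgSp.RepWith @IsOpenImmersion ((AlgSp.yon S).map (resHom T V) ≫ b₀) :=
      (AlgSp.RepWith @IsOpenImmersion).comp_mem _ _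
        ((AlgSp.repWith_yon_map_iff @IsOpenImmersion _).2 (inferInstanceAs (IsOpenImmersion V.ι))) hb₀
    obtain ⟨V₂, b₂, hb₂, hmem, hQ⟩ := exists_chart_isFiniteMor_of_good f hf hX0 hpre hqs
      ((AlgSp.yon S).map (resHom T V) ≫ b₀) hb (⟨t, htV⟩ : ↥(resObj T V).left)
      ((maxPt_subtype_iff V.isOpen ⟨t, htV⟩).2 ht)
      (fun v hv => Subtype.ext (huniq v.1 v.2 ((maxPt_subtype_iff V.isOpen v).1 hv)))
    refine ⟨V₂, b₂, hb₂, ?_, hQ⟩
    rw [ofPt_res] at hmem
    exact hmem
  choose V₂ b₂ hb₂ hmem hQ using key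
  -- the open subspace
  set W : Set (AlgSp.Points Y.obj) := ⋃ t, Set.range (AlgSp.Points.ofPt (b₂ t)) with hWdef
  have hW : IsOpen W := isOpen_iUnion fun t =>
    (Groth.Agent.S10176.isOpenMap_ofPt _ (repWith_etale_of_isOpenImmersion (hb₂ t))).isOpen_range
  have hY0W : {y : AlgSp.Points Y.obj |
      AlgSp.HasAt (fun U u => ringKrullDim ↥(U.presheaf.stalk u) = 0) Y.obj y} ⊆ W := by
    intro y hy
    obtain ⟨t, rfl⟩ := hY0sub hy
    have ht : MaxPt t := (maxPt_iff_stalkDim_eq_zero t).2 ((hasAt_stalkDim_iff Y.property b₀ hb₀e t 0).1 hy)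
    exact Set.mem_iUnion.2 ⟨⟨t, ht⟩, hmem ⟨t, ht⟩⟩
  have hWdense : Dense W := (Groth.Agent.S10190.result Y).mono hY0W
  let Vsp : AlgSp.Space S := ⟨OpenSub.obj Y.obj W, OpenSub.isAlgSpace_obj Y.property hW⟩
  let j : Vsp ⟶ Y := ObjectProperty.homMk (OpenSub.incl Y.obj W)
  have hincl : AlgSp.RepWith @IsOpenImmersion (OpenSub.incl Y.obj W) := OpenSub.repWith_incl hW
  obtain ⟨X', fst, snd, sqX⟩ := Groth.Agent.Lib.Seat45.Where.exists_pullback j f
  refine ⟨Vsp, X', j, fst, snd, hincl, ?_, sqX, ?_⟩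
  · change Dense (Set.range (AlgSp.Points.map (OpenSub.incl Y.obj W)))
    rw [OpenSub.range_map_incl]
    exact hWdense
  · -- the covering family
    have hgi : ∀ t, ∃ gi : (AlgSp.yon S).obj (V₂ t) ⟶ OpenSub.obj Y.obj W,
        gi ≫ OpenSub.incl Y.obj W = b₂ t := fun t =>
      (OpenSub.factor_iff W (b₂ t)).2 (fun z => Set.mem_iUnion.2 ⟨t, z, rfl⟩)
    choose gi hgi using hgi
    have hgie : ∀ t, AlgSp.RepWith @Etale (gi t) := fun t =>
      repWith_of_comp_mono @Etale (gi t) (OpenSub.incl Y.obj W) (by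
        rw [hgi t]; exact repWith_etale_of_isOpenImmersion (hb₂ t))
    let Yi : {t : ↥T.left // MaxPt t} → AlgSp.Space S := fun t =>
      ⟨(AlgSp.yon S).obj (V₂ t), AlgSp.IsAlgSpace.yon_obj _⟩
    let gsp : ∀ t, Yi t ⟶ Vsp := fun t => ObjectProperty.homMk (gi t)
    have hcov : AlgSp.IsFpqcCover (fun t => (Yi t).obj) (fun t => (gsp t).hom) := by
      refine Groth.Agent.S10505.result Vsp Yi gsp ⟨fun t => ⟨?_, ?_⟩, ?_⟩
      · exact Groth.Agent.S9947.locP_of_repWith_etale @Flat
          (fun g hg => by haveI : Etale g := hg; infer_instance) (gi t) (hgie t)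
      · exact Groth.Agent.S9947.locP_of_repWith_etale @LocallyOfFinitePresentation
          (fun g hg => by haveI : Etale g := hg; infer_instance) (gi t) (hgie t)
      · intro x
        have hx : AlgSp.Points.map (OpenSub.incl Y.obj W) x ∈ W :=
          (OpenSub.range_map_incl W).subset (Set.mem_range_self x)
        obtain ⟨t, z, hz⟩ := Set.mem_iUnion.1 hx
        refine ⟨t, AlgSp.Points.ofScheme (V₂ t) z, LargestOpen.injective_map_of_open _ hincl ?_⟩
        change AlgSp.Points.map (OpenSub.incl Y.obj W) (AlgSp.Points.map (gi t) _) = _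
        rw [← AlgSp.Points.map_comp, hgi t, ← AlgSp.Points.ofPt_eq_map_ofScheme]
        exact hz
    refine ((Groth.Agent.S10540.result S) (fun t => (Yi t).obj) (fun t => (gsp t).hom) Vsp.property
      (fun t => (Yi t).property) hcov fst.hom X'.property (fun t => pullback fst.hom (gi t))
      (fun t => pullback.snd _ _) (fun t => pullback.fst _ _)
      (fun t => Groth.Agent.S9874.isAlgSpace_of_isPullback Vsp.property.diag X'.property
        (AlgSp.IsAlgSpace.yon_obj _) (IsPullback.of_hasPullback _ _))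
      (fun t => IsPullback.of_hasPullback _ _)).2 ?_
    intro t
    refine hQ t _ (pullback.fst fst.hom (gi t) ≫ snd.hom) _ ?_
    have := (IsPullback.of_hasPullback fst.hom (gi t)).paste_horiz sqX.flip
    rwa [show gi t ≫ j.hom = b₂ t from hgi t] at this

end Groth.Agent.Lib.Seat45.GenFin
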