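import Mathlib
import Groth.Agent.Lib.Seat45GenFin2

/-!
# Generically finite morphisms of algebraic spaces, variant (seat 45)

* `exists_open_finite_of_finite_chart_fibres`: a quasi-separated morphism of finite type `f : X ⟶ Y` such that
  every affine étale chart of `X` has only finitely many points over the codimension `0` point `y` is finite
  over an open neighbourhood of `y`.
-/

set_option autoImplicit false
set_option linter.style.haveILetI false
universe u

open CategoryTheory CategoryTheory.Limits AlgebraicGeometry Topology TopologicalSpace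

namespace Groth.Agent.Lib.Seat45.GenFin

open Groth.Agent.Lib.Seat45.QsSober Groth.Agent.Lib.Seat45.DecGen Groth.Agent.Lib.Seat45.ZarQs
  Groth.Agent.Lib.Seat45.Charts Groth.Agent.Lib.Helper12
  Groth.Agent.Lib.Seat45.QFin Groth.Agent.Lib.Seat45.Noeth Groth.Agent.Lib.Seat45.LocFinIrr

variable {S : Scheme.{u}}

/-- variant of `exists_open_finite` where the hypothesis on quasi-finiteness is replaced by finiteness of the
fibres of affine étale charts over `y`. -/
theorem exists_open_finite_of_finite_chart_fibres {X Y : AlgSp.Space S} (f : X ⟶ Y)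
    (hqs : AlgSp.IsQuasiSeparatedMor f.hom) (hft : AlgSp.IsFiniteTypeMor f.hom) (y : AlgSp.Points Y.obj)
    (hy : AlgSp.HasAt (fun U u => ringKrullDim ↥(U.presheaf.stalk u) = 0) Y.obj y)
    (hfinU : ∀ (U : Over S) (a : (AlgSp.yon S).obj U ⟶ X.obj), IsAffine U.left → AlgSp.RepWith @Etale a →
      (AlgSp.Points.ofPt a ⁻¹' (AlgSp.Points.map f.hom ⁻¹' {y})).Finite) :
    ∃ (Y' X' : AlgSp.Space S) (j : Y' ⟶ Y) (fst : X' ⟶ Y') (snd : X' ⟶ X),
      AlgSp.RepWith @IsOpenImmersion j.hom ∧
      y ∈ Set.range (AlgSp.Points.map j.hom) ∧ IsPullback fst.hom snd.hom j.hom f.hom ∧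
      AlgSp.IsFiniteMor fst.hom := by
  obtain ⟨V, b, v, hbe, hvy, hVaff⟩ := exists_affine_chart Y.property y
  haveI := hVaff
  have hv0 : ringKrullDim (V.left.presheaf.stalk v) = 0 :=
    (hasAt_stalkDim_iff Y.property b hbe v 0).1 (by rw [hvy]; exact hy)
  have hvmax : closure {v} ∈ irreducibleComponents (V.left : Type u) :=
    (Groth.Agent.Lib.Helper14.closure_mem_irreducibleComponents_iff v).2
      ((maxPt_iff_stalkDim_eq_zero v).2 hv0)
  have sqP := IsPullback.of_hasPullback f.hom b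
  have hP : AlgSp.IsAlgSpace (pullback f.hom b) :=
    Groth.Agent.S9874.isAlgSpace_of_isPullback Y.property.diag X.property (AlgSp.IsAlgSpace.yon_obj V) sqP
  have hpre : AlgSp.RepWith @Etale (pullback.fst f.hom b) :=
    MorphismProperty.of_isPullback (P := AlgSp.RepWith @Etale) sqP.flip hbe
  have hgqs : AlgSp.IsQuasiSeparatedMor (pullback.snd f.hom b) :=
    MorphismProperty.of_isPullback (P := (AlgSp.RepWith (S := S) @QuasiCompact).diagonal) sqP hqs
  have hPqc : AlgSp.IsQuasiCompactSp (pullback f.hom b) :=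
    hft.2 (AlgSp.IsAlgSpace.yon_obj V) (Groth.Agent.S9913.isQuasiCompactSp_yon_of_compact V) b _ _ sqP
  obtain ⟨U, a, hUaff, hae, has⟩ := exists_affine_surjective_chart hPqc
  haveI := hUaff
  obtain ⟨h, hh⟩ := (AlgSp.yon S).map_surjective (a ≫ pullback.snd f.hom b)
  have hae' : AlgSp.RepWith @Etale (a ≫ pullback.fst f.hom b) :=
    (AlgSp.RepWith @Etale).comp_mem _ _ hae hpre
  have hcomm : (a ≫ pullback.fst f.hom b) ≫ f.hom = (AlgSp.yon S).map h ≫ b := by
    rw [Category.assoc, sqP.w, ← Category.assoc, hh]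
  haveI : LocallyOfFiniteType h.left := hft.1 _ b h hae' hbe hcomm
  have hfin : (h.left ⁻¹' {v}).Finite := by
    refine (hfinU U _ hUaff hae').subset ?_
    intro u hu
    have hu' : h.left u = v := hu
    change AlgSp.Points.map f.hom (AlgSp.Points.ofPt (a ≫ pullback.fst f.hom b) u) = y
    rw [← ofPt_diagram f.hom _ b h hcomm u, hu', hvy]
  obtain ⟨V₂, hV₂, hvV₂, hQ⟩ :=
    exists_affineOpen_isFiniteMor (pullback.snd f.hom b) hgqs a hae has h hh.symm v hvmax hfin
  -- the open subspace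
  have hb₂₀e : AlgSp.RepWith @Etale ((AlgSp.yon S).map (resHom V V₂) ≫ b) := repWith_etale_res b hbe V₂
  obtain ⟨hW, b₂, hb₂, hb₂e, hb₂s⟩ := exists_chart_onto_image _ hb₂₀e
  let Y' : AlgSp.Space S := ⟨OpenSub.obj Y.obj (Set.range (AlgSp.Points.ofPt ((AlgSp.yon S).map (resHom V V₂) ≫ b))),
    OpenSub.isAlgSpace_obj Y.property hW⟩
  let j : Y' ⟶ Y := ObjectProperty.homMk (OpenSub.incl Y.obj _)
  obtain ⟨X', fst, snd, sqX⟩ := Groth.Agent.Lib.Seat45.Where.exists_pullback j f
  refine ⟨Y', X', j, fst, snd, OpenSub.repWith_incl hW, ?_, sqX, ?_⟩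
  · change y ∈ Set.range (AlgSp.Points.map (OpenSub.incl Y.obj _))
    rw [OpenSub.range_map_incl]
    refine ⟨⟨v, hvV₂⟩, ?_⟩
    rw [ofPt_res]
    exact hvy
  · have sqQ := IsPullback.of_hasPullback fst.hom b₂
    refine (Groth.Agent.S10268.result fst (resObj V V₂) b₂ hb₂e hb₂s _ _ sqQ).2 ?_
    have hbig : IsPullback (pullback.fst fst.hom b₂ ≫ snd.hom) (pullback.snd fst.hom b₂) f.hom
        (b₂ ≫ j.hom) := sqQ.paste_horiz sqX.flip
    have hbj : b₂ ≫ j.hom = (AlgSp.yon S).map (resHom V V₂) ≫ b := hb₂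
    rw [hbj] at hbig
    let ψ : pullback fst.hom b₂ ⟶ pullback f.hom b :=
      sqP.lift (pullback.fst fst.hom b₂ ≫ snd.hom)
        (pullback.snd fst.hom b₂ ≫ (AlgSp.yon S).map (resHom V V₂)) (by
          rw [Category.assoc]; exact hbig.w)
    have hψ1 : ψ ≫ pullback.fst f.hom b = pullback.fst fst.hom b₂ ≫ snd.hom := sqP.lift_fst _ _ _
    have hψ2 : ψ ≫ pullback.snd f.hom b = pullback.snd fst.hom b₂ ≫ (AlgSp.yon S).map (resHom V V₂) :=
      sqP.lift_snd _ _ _
    have sqψ : IsPullback ψ (pullback.snd fst.hom b₂) (pullback.snd f.hom b)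
        ((AlgSp.yon S).map (resHom V V₂)) := by
      refine IsPullback.of_right ?_ hψ2 sqP
      rw [hψ1]
      exact hbig
    exact hQ _ ψ _ sqψ

end Groth.Agent.Lib.Seat45.GenFin
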