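import Mathlib
import Groth.Prelude.Def_AlgSp
import Groth.Prelude.Def_AlgSp2
import Groth.Prelude.Def_AlgSp3
import Groth.Prelude.Def_AlgSpDec
import Groth.Agent.Lib.Seat83MonoPoint
import Groth.Agent.S9904

/-!
# Seat 83: sheaves quasi-separated over a scheme are decent

* `property_lift_of_repWith_diagonal`: if the relative diagonal of `f : F ⟶ h_T` has `P` then for every
  represented fibre product `h_E = h_U ×_F h_V` the map `E ⟶ U ×_T V` has `P`.
* `isDecent_of_rel_qs`: an algebraic space with a quasi-separated morphism to a scheme is decent.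
-/

set_option autoImplicit false
set_option linter.style.haveILetI false

universe u

open CategoryTheory CategoryTheory.Limits AlgebraicGeometry Opposite

namespace Groth.Agent.Lib.Seat83.RelQs

open AlgSp Groth.Agent.S9900 Groth.Agent.S9904

variable {S : Scheme.{u}}

/-- if the relative diagonal of `f : F ⟶ h_T` has `P`, then `h_U ×_F h_V ⟶ U ×_T V` has `P`. -/
theorem property_lift_of_repWith_diagonal {F : Sp S} {T : Over S} (f : F ⟶ (yon S).obj T)
    {P : MorphismProperty Scheme.{u}} (h : RepWith P (pullback.diagonal f)) {U V E : Over S}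
    {a : (yon S).obj U ⟶ F} {b : (yon S).obj V ⟶ F} {eU : E ⟶ U} {eV : E ⟶ V}
    (sq : IsPullback ((yon S).map eU) ((yon S).map eV) a b) (τa : U ⟶ T) (τb : V ⟶ T)
    (ha : (yon S).map τa = a ≫ f) (hb : (yon S).map τb = b ≫ f) :
    ∃ hc : eU.left ≫ τa.left = eV.left ≫ τb.left, P (pullback.lift eU.left eV.left hc) := by
  have hE : eU ≫ τa = eV ≫ τb := by
    apply (yon S).map_injective
    rw [Functor.map_comp, Functor.map_comp, ha, hb, ← Category.assoc, ← Category.assoc, sq.w]
  have hc : eU.left ≫ τa.left = eV.left ≫ τb.left := by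
    rw [← Over.comp_left, ← Over.comp_left, hE]
  refine ⟨hc, ?_⟩
  let W : Over S := Over.mk (pullback.fst τa.left τb.left ≫ U.hom)
  let π₁ : W ⟶ U := Over.homMk (pullback.fst τa.left τb.left) rfl
  have hπ₂ : pullback.snd τa.left τb.left ≫ V.hom = pullback.fst τa.left τb.left ≫ U.hom := by
    rw [← Over.w τb, ← Over.w τa, pullback.condition_assoc]
  let π₂ : W ⟶ V := Over.homMk (pullback.snd τa.left τb.left) hπ₂
  have hπ : π₁ ≫ τa = π₂ ≫ τb := by
    ext
    exact pullback.condition
  let l : E ⟶ W := Over.homMk (pullback.lift eU.left eV.left hc) (by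
    change pullback.lift eU.left eV.left hc ≫ pullback.fst τa.left τb.left ≫ U.hom = E.hom
    rw [pullback.lift_fst_assoc, Over.w eU])
  have hl1 : l ≫ π₁ = eU := by
    ext
    exact pullback.lift_fst _ _ _
  have hl2 : l ≫ π₂ = eV := by
    ext
    exact pullback.lift_snd _ _ _
  have hmono : ∀ {Z : Over S} (x x' : Z ⟶ W), x ≫ π₁ = x' ≫ π₁ → x ≫ π₂ = x' ≫ π₂ → x = x' := by
    intro Z x x' h1 h2
    ext
    apply pullback.hom_ext
    · exact congrArg (fun m => m.left) h1
    · exact congrArg (fun m => m.left) h2
  have he : IsEqLocus ((yon S).map π₁ ≫ a) ((yon S).map π₂ ≫ b) l := by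
    refine ⟨⟨fun {Z} x x' hxx => ?_⟩, fun T' t => ?_⟩
    · apply (yon S).map_injective
      apply sq.hom_ext
      · rw [← Functor.map_comp, ← Functor.map_comp, ← hl1, ← Category.assoc, ← Category.assoc, hxx]
      · rw [← Functor.map_comp, ← Functor.map_comp, ← hl2, ← Category.assoc, ← Category.assoc, hxx]
    · constructor
      · intro hab
        rw [← Category.assoc, ← Category.assoc, ← Functor.map_comp, ← Functor.map_comp] at hab
        obtain ⟨t', ht'⟩ := (yon S).map_surjective (sq.lift _ _ hab)
        refine ⟨t', ?_⟩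
        apply hmono
        · rw [Category.assoc, hl1]
          apply (yon S).map_injective
          rw [Functor.map_comp, ht', sq.lift_fst]
        · rw [Category.assoc, hl2]
          apply (yon S).map_injective
          rw [Functor.map_comp, ht', sq.lift_snd]
      · rintro ⟨t', rfl⟩
        rw [← Category.assoc, ← Category.assoc, ← Functor.map_comp, ← Functor.map_comp,
          Category.assoc, Category.assoc, hl1, hl2, Functor.map_comp,
          Functor.map_comp, Category.assoc, Category.assoc, sq.w]
  have hab : ((yon S).map π₁ ≫ a) ≫ f = ((yon S).map π₂ ≫ b) ≫ f := by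
    rw [Category.assoc, Category.assoc, ← ha, ← hb, ← Functor.map_comp, ← Functor.map_comp, hπ]
  exact IsEqLocus.property_of_repWith f h hab he

/-- relative quasi-compact diagonal over a scheme: kernel pairs of field points are quasi-compact. -/
lemma compactSpace_kernelPair_of_rel_qs {F : Sp S} {T : Over S} (f : F ⟶ (yon S).obj T)
    (h : IsQuasiSeparatedMor f) (p : FieldPt F)
    (R : Over S) (s t : R ⟶ p.pt)
    (sq : IsPullback ((yon S).map t) ((yon S).map s) p.toHom p.toHom) : CompactSpace ↥R.left := by
  obtain ⟨τ, hτ⟩ := (yon S).map_surjective (p.toHom ≫ f)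
  obtain ⟨hc, hqc⟩ := property_lift_of_repWith_diagonal f h sq τ τ hτ hτ
  haveI : QuasiCompact (pullback.lift t.left s.left hc) := hqc
  haveI : CompactSpace ↥(pullback τ.left τ.left) :=
    Groth.Agent.Lib.Seat46.FieldQuot.compactSpace_pullback_field (K := p.K) τ.left
  exact QuasiCompact.compactSpace_of_compactSpace (pullback.lift t.left s.left hc)

/-- relative quasi-compact diagonal over a scheme: every field point is quasi-compact. -/
lemma quasiCompact_of_rel_qs {F : Sp S} (hF : IsAlgSpace F) {T : Over S} (f : F ⟶ (yon S).obj T)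
    (h : IsQuasiSeparatedMor f) (p : FieldPt F) : RepWith @QuasiCompact p.toHom := by
  refine ⟨hF.representable_from_yon p.toHom, ?_⟩
  intro T' W g fst' snd sqW
  obtain ⟨fst, rfl⟩ := (yon S).map_surjective fst'
  change QuasiCompact snd.left
  obtain ⟨τa, hτa⟩ := (yon S).map_surjective (p.toHom ≫ f)
  obtain ⟨τb, hτb⟩ := (yon S).map_surjective (g ≫ f)
  obtain ⟨hc, hqc⟩ := property_lift_of_repWith_diagonal f h sqW τa τb hτa hτb
  haveI : QuasiCompact (pullback.lift fst.left snd.left hc) := hqc
  haveI : QuasiCompact τa.left :=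
    Groth.Agent.Lib.Seat46.FieldQuot.quasiCompact_of_field (K := p.K) τa.left
  have h1 : snd.left = pullback.lift fst.left snd.left hc ≫ pullback.snd τa.left τb.left :=
    (pullback.lift_snd _ _ _).symm
  rw [h1]
  infer_instance

/-- an algebraic space with a quasi-separated morphism to a scheme is decent. -/
theorem isDecent_of_rel_qs {F : Sp S} (hF : IsAlgSpace F) {T : Over S} (f : F ⟶ (yon S).obj T)
    (h : IsQuasiSeparatedMor f) : IsDecent F :=
  Groth.Agent.Lib.Seat83.MonoPoint.isDecent_of_compact hF (compactSpace_kernelPair_of_rel_qs f h)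
    (quasiCompact_of_rel_qs hF f h)

end Groth.Agent.Lib.Seat83.RelQs
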