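import Mathlib
import Groth.Agent.Lib.Seat45GenFin5
import Groth.Agent.Lib.Seat44LimChart2
import Groth.Agent.Lib.Seat45ClosedImm
import Groth.Agent.S9920
import Groth.Agent.S10350
import Groth.Agent.S10381
import Groth.Agent.S10423
import Groth.Agent.S10360
import Groth.Agent.S10175

/-!
# Finite fibre over a codimension 0 point (seat 45)

* `finite_fibre_of_isFiniteMor`: finite morphisms have finite fibres on points.
* `exists_isCompact_isOpen_of_finite`: a finite set of points lies in a quasi-compact open.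
* `finite_ofPt_preimage_of_isDecent`: affine étale charts of a decent space have finite fibres.
* `exists_open_finite_of_finite_fibre`: `f` quasi-separated, locally of finite type, `Y` quasi-separated, `y` of
  codimension `0` with finite fibre ⇒ `f` restricts to a finite morphism of open subspaces containing the fibre.
* `finite_fibre_of_open_finite`: the converse.
-/

set_option autoImplicit false
set_option linter.style.haveILetI false
universe u
open CategoryTheory CategoryTheory.Limits AlgebraicGeometry Topology TopologicalSpace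
open AlgSp

namespace Groth.Agent.Lib.Seat45.GenFin

open Groth.Agent.Lib.Seat45.QsSober Groth.Agent.Lib.Seat45.DecGen Groth.Agent.Lib.Seat45.ZarQs
  Groth.Agent.Lib.Seat45.Charts Groth.Agent.Lib.Helper12
  Groth.Agent.Lib.Seat45.QFin Groth.Agent.Lib.Seat45.Noeth Groth.Agent.Lib.Seat45.LocFinIrr
  Groth.Agent.Lib.Seat45.ClosedImm

variable {S : Scheme.{u}}

/-- a finite morphism of algebraic spaces has finite fibres on points. -/
theorem finite_fibre_of_isFiniteMor {X Y : AlgSp.Space S} (f : X ⟶ Y) (hf : AlgSp.IsFiniteMor f.hom)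
    (y : AlgSp.Points Y.obj) : (AlgSp.Points.map f.hom ⁻¹' {y}).Finite := by
  obtain ⟨V, b, v, hbe, hvy, hVaff⟩ := exists_affine_chart Y.property y
  have hrep := Groth.Agent.S10018.repWith_isFinite_of_isFiniteMor f.hom hf
  obtain ⟨U, g, fst, sq⟩ := hrep.1 b
  haveI : IsFinite g.left := hrep.2 b fst g sq
  have hfin : (g.left ⁻¹' {v}).Finite := g.left.finite_preimage_singleton v
  refine (hfin.image (AlgSp.Points.ofPt fst)).subset ?_
  intro x hx
  have hx' : AlgSp.Points.map f.hom x = y := hx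
  have e : AlgSp.Points.map b (AlgSp.Points.ofPt (𝟙 _) v) = AlgSp.Points.map f.hom x := by
    rw [AlgSp.Points.map_ofPt, Category.id_comp, hvy, hx']
  obtain ⟨p, hp1, hp2⟩ := Groth.Agent.S10175.exists_point_of_isPullback sq.flip _ _ e
  obtain ⟨u, rfl⟩ := exists_ofPt_id p
  refine ⟨u, ?_, ?_⟩
  · rw [map_yon_map_ofPt_id] at hp1
    exact ofPt_id_injective hp1
  · rw [AlgSp.Points.map_ofPt, Category.id_comp] at hp2
    exact hp2

/-- a finite set of points of an algebraic space lies in a quasi-compact open set of points. -/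
theorem exists_isCompact_isOpen_of_finite {X : AlgSp.Sp S} (hX : AlgSp.IsAlgSpace X)
    (F : Set (AlgSp.Points X)) (hF : F.Finite) :
    ∃ W : Set (AlgSp.Points X), IsOpen W ∧ IsCompact W ∧ F ⊆ W := by
  have key : ∀ x : AlgSp.Points X, ∃ W : Set (AlgSp.Points X), IsOpen W ∧ IsCompact W ∧ x ∈ W := by
    intro x
    obtain ⟨V, b, v, hbe, hv, hVaff⟩ := exists_affine_chart hX x
    haveI := hVaff
    refine ⟨Set.range (AlgSp.Points.ofPt b), (Groth.Agent.S10176.isOpenMap_ofPt b hbe).isOpen_range,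
      isCompact_range (AlgSp.Points.continuous_ofPt b), ⟨v, hv⟩⟩
  choose W hWo hWc hxW using key
  refine ⟨⋃ x ∈ F, W x, isOpen_biUnion fun x _ => hWo x, hF.isCompact_biUnion fun x _ => hWc x, ?_⟩
  intro x hx
  exact Set.mem_biUnion hx (hxW x)

/-- on a decent algebraic space, affine étale charts have finite fibres over points. -/
theorem finite_ofPt_preimage_of_isDecent (X : AlgSp.Space S) (hX : AlgSp.IsDecent X.obj) {U : Over S}
    [IsAffine U.left] (a : (AlgSp.yon S).obj U ⟶ X.obj) (ha : AlgSp.RepWith @Etale a)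
    (x : AlgSp.Points X.obj) : (AlgSp.Points.ofPt a ⁻¹' {x}).Finite := by
  obtain ⟨R, t, s', sq⟩ := ha.1 a
  obtain ⟨s, rfl⟩ := (AlgSp.yon S).map_surjective s'
  exact ((Groth.Agent.S10360.result X x).2 (hX x) U a inferInstance ha R t s sq).1

/-- finite fibre over a codimension `0` point ⇒ finite over open neighbourhoods. -/
theorem exists_open_finite_of_finite_fibre [QuasiSeparatedSpace ↥S] {X Y : AlgSp.Space S}
    (f : X ⟶ Y) (hqs : AlgSp.IsQuasiSeparatedMor f.hom) (hft : AlgSp.LocP @LocallyOfFiniteType f.hom)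
    (hY : AlgSp.IsQuasiSeparatedSp Y.obj) (y : AlgSp.Points Y.obj)
    (hy : AlgSp.HasAt (fun U u => ringKrullDim ↥(U.presheaf.stalk u) = 0) Y.obj y)
    (hfin : (AlgSp.Points.map f.hom ⁻¹' {y}).Finite) :
    ∃ (X' Y' : AlgSp.Space S) (i : X' ⟶ X) (j : Y' ⟶ Y) (f' : X' ⟶ Y'), AlgSp.RepWith @IsOpenImmersion i.hom ∧
        AlgSp.RepWith @IsOpenImmersion j.hom ∧ f' ≫ j = i ≫ f ∧ y ∈ Set.range (AlgSp.Points.map j.hom) ∧
          AlgSp.Points.map f.hom ⁻¹' {y} ⊆ Set.range (AlgSp.Points.map i.hom) ∧ AlgSp.IsFiniteMor f'.hom := by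
  obtain ⟨W, hWo, hWc, hFW⟩ := exists_isCompact_isOpen_of_finite X.property _ hfin
  let X₁ : AlgSp.Space S := ⟨OpenSub.obj X.obj W, OpenSub.isAlgSpace_obj X.property hWo⟩
  let i₁ : X₁ ⟶ X := ObjectProperty.homMk (OpenSub.incl X.obj W)
  have hi₁ : AlgSp.RepWith @IsOpenImmersion i₁.hom := OpenSub.repWith_incl hWo
  have hX₁qc : AlgSp.IsQuasiCompactSp X₁.obj :=
    Groth.Agent.Lib.Seat44.LimChart2.isQuasiCompactSp_obj X.property hWo hWc
  have hf₁qc : AlgSp.IsQuasiCompactMor (i₁ ≫ f).hom := Groth.Agent.S9920.result (i₁ ≫ f) hX₁qc hY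
  have hi₁e : AlgSp.RepWith @Etale i₁.hom := repWith_etale_of_isOpenImmersion hi₁
  have hf₁lft : AlgSp.LocP @LocallyOfFiniteType (i₁ ≫ f).hom := by
    intro U V a b h ha hb hc
    exact hft (a ≫ i₁.hom) b h ((AlgSp.RepWith @Etale).comp_mem _ _ ha hi₁e) hb
      (by rw [Category.assoc]; exact hc)
  have hf₁qs : AlgSp.IsQuasiSeparatedMor (i₁ ≫ f).hom := by
    haveI : Mono i₁.hom := inferInstanceAs (Mono (OpenSub.incl X.obj W))
    have h1 : AlgSp.IsQuasiSeparatedMor i₁.hom := by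
      change AlgSp.RepWith @QuasiCompact (pullback.diagonal i₁.hom)
      exact MorphismProperty.of_isIso _ _
    exact (AlgSp.RepWith (S := S) @QuasiCompact).diagonal.comp_mem _ _ h1 hqs
  have hX₁dec : AlgSp.IsDecent X₁.obj :=
    Groth.Agent.S10381.result (i₁ ≫ f) ((Groth.Agent.S10423.result (i₁ ≫ f)).2 hf₁qs)
      (Groth.Agent.S10350.result Y hY)
  have hinj := Groth.Agent.Lib.Seat44.LimChart2.injective_map_of_open i₁.hom hi₁
  have hfin₁ : (AlgSp.Points.map (i₁ ≫ f).hom ⁻¹' {y}).Finite := by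
    have : AlgSp.Points.map (i₁ ≫ f).hom ⁻¹' {y} =
        AlgSp.Points.map i₁.hom ⁻¹' (AlgSp.Points.map f.hom ⁻¹' {y}) := by
      ext x
      change AlgSp.Points.map (i₁.hom ≫ f.hom) x = y ↔ AlgSp.Points.map f.hom (AlgSp.Points.map i₁.hom x) = y
      rw [AlgSp.Points.map_comp]
    rw [this]
    exact hfin.preimage hinj.injOn
  obtain ⟨Y', X', j, fst, snd, hj, hyj, sq, hfinm⟩ :=
    exists_open_finite_of_finite_chart_fibres (i₁ ≫ f) hf₁qs ⟨hf₁lft, hf₁qc⟩ y hy (by
      intro U a hU ha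
      haveI := hU
      have : AlgSp.Points.ofPt a ⁻¹' (AlgSp.Points.map (i₁ ≫ f).hom ⁻¹' {y}) =
          ⋃ x ∈ (AlgSp.Points.map (i₁ ≫ f).hom ⁻¹' {y}), AlgSp.Points.ofPt a ⁻¹' {x} := by
        ext u; simp
      rw [this]
      exact hfin₁.biUnion fun x _ => finite_ofPt_preimage_of_isDecent X₁ hX₁dec a ha x)
  have hsnd : AlgSp.RepWith @IsOpenImmersion snd.hom :=
    MorphismProperty.of_isPullback (P := AlgSp.RepWith @IsOpenImmersion) sq hj
  refine ⟨X', Y', snd ≫ i₁, j, fst, ?_, hj, ?_, hyj, ?_, hfinm⟩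
  · exact (AlgSp.RepWith @IsOpenImmersion).comp_mem _ _ hsnd hi₁
  · apply ObjectProperty.hom_ext
    have := sq.w
    change fst.hom ≫ j.hom = (snd.hom ≫ i₁.hom) ≫ f.hom
    rw [Category.assoc]
    exact this
  · intro x hx
    have hxW : x ∈ W := hFW hx
    rw [← OpenSub.range_map_incl W] at hxW
    obtain ⟨x₁, hx₁⟩ := hxW
    obtain ⟨y', hy'⟩ := hyj
    have e : AlgSp.Points.map j.hom y' = AlgSp.Points.map (i₁ ≫ f).hom x₁ := by
      rw [hy']
      change y = AlgSp.Points.map (i₁.hom ≫ f.hom) x₁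
      rw [AlgSp.Points.map_comp]
      change y = AlgSp.Points.map f.hom (AlgSp.Points.map (OpenSub.incl X.obj W) x₁)
      rw [hx₁]
      exact hx.symm
    obtain ⟨p, -, hp2⟩ := Groth.Agent.S10175.exists_point_of_isPullback sq y' x₁ e
    refine ⟨p, ?_⟩
    change AlgSp.Points.map (snd.hom ≫ i₁.hom) p = x
    rw [AlgSp.Points.map_comp, hp2]
    exact hx₁

/-- the converse: a restriction to opens which is finite and contains the fibre forces the fibre to be finite. -/
theorem finite_fibre_of_open_finite {X Y X' Y' : AlgSp.Space S} (f : X ⟶ Y) (y : AlgSp.Points Y.obj)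
    (i : X' ⟶ X) (j : Y' ⟶ Y) (f' : X' ⟶ Y')
    (hj : AlgSp.RepWith @IsOpenImmersion j.hom) (hc : f' ≫ j = i ≫ f)
    (hy : y ∈ Set.range (AlgSp.Points.map j.hom))
    (hsub : AlgSp.Points.map f.hom ⁻¹' {y} ⊆ Set.range (AlgSp.Points.map i.hom))
    (hfin : AlgSp.IsFiniteMor f'.hom) : (AlgSp.Points.map f.hom ⁻¹' {y}).Finite := by
  obtain ⟨y', hy'⟩ := hy
  have hinj := Groth.Agent.Lib.Seat44.LimChart2.injective_map_of_open j.hom hj
  refine ((finite_fibre_of_isFiniteMor f' hfin y').image (AlgSp.Points.map i.hom)).subset ?_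
  intro x hx
  obtain ⟨x', hx'⟩ := hsub hx
  refine ⟨x', ?_, hx'⟩
  apply hinj
  have hc' : f'.hom ≫ j.hom = i.hom ≫ f.hom := congrArg (fun k => k.hom) hc
  rw [← AlgSp.Points.map_comp, hc', AlgSp.Points.map_comp, hx', hy']
  exact hx

end Groth.Agent.Lib.Seat45.GenFin
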