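import Groth.Agent.Lib.Seat45Unram
import Groth.Agent.Lib.Seat45ChartsMor2
import Groth.Agent.Lib.Seat45BaseChange
import Groth.Agent.S9952
import Groth.Agent.S9984

/-!
# Unramified points of morphisms of algebraic spaces (seat 45)

* `hasAtMor_unrNear_ofPt_iff`: on a chart diagram, being unramified at the image point is read on the chart.
* `isOpen_hasAtMor_unrNear`: the unramified locus is open.
* `locP_unramified_iff`: a morphism locally of finite type is unramified iff it is unramified at all points.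
* `hasAtMor_unrNear_baseChange_iff`: the unramified locus commutes with base change.
-/

set_option autoImplicit false
set_option linter.style.haveILetI false
universe u

open CategoryTheory CategoryTheory.Limits AlgebraicGeometry

namespace Groth.Agent.Lib.Seat45.Unram

variable {S : Scheme.{u}}

/-- On a chart diagram of a morphism locally of finite type, being unramified at the image point is read on the
chart. -/
lemma hasAtMor_unrNear_ofPt_iff {F G : AlgSp.Sp S} (hF : AlgSp.IsAlgSpace F)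
    (hG : AlgSp.IsAlgSpace G) (f : F ⟶ G) (hf : AlgSp.LocP @LocallyOfFiniteType f)
    {U V : Over S} (a : (AlgSp.yon S).obj U ⟶ F) (b : (AlgSp.yon S).obj V ⟶ G) (h : U ⟶ V)
    (ha : AlgSp.RepWith @Etale a) (hb : AlgSp.RepWith @Etale b)
    (hc : a ≫ f = (AlgSp.yon S).map h ≫ b) (u : ↥U.left) :
    AlgSp.HasAtMor UnrNear f (AlgSp.Points.ofPt a u) ↔ UnrNear U.left V.left h.left u :=
  Groth.Agent.Lib.Seat45.ChartsMor.hasAtMor_ofPt_iff_of_locP @LocallyOfFiniteType UnrNear
    (fun h h' a b _ _ hh hh' comm u' => unrNear_etale_local h h' a b hh hh' comm u')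
    hF hG f hf a b h ha hb hc u

lemma isOpen_hasAtMor_unrNear {F G : AlgSp.Sp S} (f : F ⟶ G) :
    IsOpen {x : AlgSp.Points F | AlgSp.HasAtMor UnrNear f x} := by
  refine isOpen_iff_forall_mem_open.mpr fun x hx => ?_
  obtain ⟨U, V, a, b, h, u, ha, hb, hc, hu, W, huW, hW1, hW2⟩ := hx
  refine ⟨AlgSp.Points.ofPt a '' (W : Set ↥U.left), ?_,
    Groth.Agent.S10176.isOpenMap_ofPt a ha _ W.isOpen, ⟨u, huW, hu⟩⟩
  rintro _ ⟨w, hw, rfl⟩
  exact ⟨U, V, a, b, h, w, ha, hb, hc, rfl, W, hw, hW1, hW2⟩

/-- A morphism of schemes which is unramified near every point is formally unramified. -/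
lemma formallyUnramified_of_forall_unrNear {U V : Scheme.{u}} (h : U ⟶ V)
    (H : ∀ u : ↥U, UnrNear U V h u) : FormallyUnramified h := by
  choose W hW1 hW2 hW3 using H
  refine (IsZariskiLocalAtSource.iff_of_iSup_eq_top (P := @FormallyUnramified) W ?_).2 hW3
  exact top_le_iff.1 fun u _ => TopologicalSpace.Opens.mem_iSup.2 ⟨u, hW1 u⟩

/-- A morphism of algebraic spaces, locally of finite type, is unramified iff it is unramified at all points. -/
theorem locP_unramified_iff {F G : AlgSp.Sp S} (hF : AlgSp.IsAlgSpace F) (hG : AlgSp.IsAlgSpace G)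
    (f : F ⟶ G) (hf : AlgSp.LocP @LocallyOfFiniteType f) :
    AlgSp.LocP (@LocallyOfFiniteType ⊓ @FormallyUnramified) f ↔
      ∀ x : AlgSp.Points F, AlgSp.HasAtMor UnrNear f x := by
  constructor
  · intro H x
    obtain ⟨U, V, a, b, h, hae, has, hbe, hbs, hc⟩ :=
      Groth.Agent.Lib.Seat45.ChartsMor.exists_atlas_diagram hF hG f
    obtain ⟨u, rfl⟩ := Groth.Agent.S10177.surjective_ofPt a has x
    have hP := H a b h hae hbe hc
    refine ⟨U, V, a, b, h, u, hae, hbe, hc, rfl, ⊤, trivial, ?_, ?_⟩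
    · haveI : LocallyOfFiniteType h.left := hP.1
      infer_instance
    · exact IsZariskiLocalAtSource.comp (P := @FormallyUnramified) hP.2 _
  · intro H U V a b h ha hb hc
    haveI : LocallyOfFiniteType h.left := hf a b h ha hb hc
    refine ⟨inferInstance, formallyUnramified_of_forall_unrNear h.left fun u => ?_⟩
    exact (hasAtMor_unrNear_ofPt_iff hF hG f hf a b h ha hb hc u).1 (H _)

/-- The unramified locus of a morphism locally of finite type commutes with arbitrary base change. -/
theorem hasAtMor_unrNear_baseChange_iff {X Y Y' X' : AlgSp.Sp S} (hX : AlgSp.IsAlgSpace X)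
    (hY : AlgSp.IsAlgSpace Y) (hY' : AlgSp.IsAlgSpace Y') (hX' : AlgSp.IsAlgSpace X') {f : X ⟶ Y}
    {g : Y' ⟶ Y} {g' : X' ⟶ X} {f' : X' ⟶ Y'} (sq : IsPullback g' f' f g)
    (hf : AlgSp.LocP @LocallyOfFiniteType f) (hf' : AlgSp.LocP @LocallyOfFiniteType f')
    (x' : AlgSp.Points X') :
    AlgSp.HasAtMor UnrNear f' x' ↔ AlgSp.HasAtMor UnrNear f (AlgSp.Points.map g' x') := by
  obtain ⟨U, V, U', V', a₀, b₀, h, a', b', h', α, β, hae, has, hbe, hbs, ha'e, ha's, hb'e, hb's, hc, hc',
    hα, hβ, sqU⟩ := Groth.Agent.Lib.Seat45.BaseChange.exists_baseChange_atlas_diagram hX hY hY' sq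
  obtain ⟨u', hu'⟩ := Groth.Agent.S10177.surjective_ofPt a' ha's x'
  haveI : LocallyOfFiniteType h.left := hf a₀ b₀ h hae hbe hc
  have h1 : AlgSp.Points.map g' x' = AlgSp.Points.ofPt a₀ (α.left u') := by
    rw [← hu', AlgSp.Points.map_ofPt, hα, Groth.Agent.S10176.ofPt_map_comp]
  rw [h1, ← hu', hasAtMor_unrNear_ofPt_iff hX hY f hf a₀ b₀ h hae hbe hc,
    hasAtMor_unrNear_ofPt_iff hX' hY' f' hf' a' b' h' ha'e hb'e hc']
  have sqU' : IsPullback α.left h'.left h.left β.left := sqU.map (Over.forget S)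
  exact unrNear_baseChange_iff sqU' u'

end Groth.Agent.Lib.Seat45.Unram
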