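import Groth.Agent.Lib.Seat44GrpMul
import Groth.Agent.Lib.Seat44GrpDiag
import Groth.Agent.Lib.Seat45UnramSp
import Groth.Agent.Lib.Seat45QFinSp
import Groth.Agent.Lib.Seat45Where
import Groth.Agent.S10129

/-!
# Group algebraic spaces: pointwise properties of `G ⟶ B` are detected along the unit section (seat 45)

For a group algebraic space `G` over `B`, locally of finite type, and a pointwise property `Q` of morphisms
which is insensitive to base change, `G ⟶ B` has `Q` at `g` iff it has `Q` at `e(π(g))`.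
-/

set_option autoImplicit false
set_option linter.style.haveILetI false
universe u

open CategoryTheory CategoryTheory.Limits AlgebraicGeometry MonoidalCategory CartesianMonoidalCategory MonObj

namespace Groth.Agent.Lib.Seat45.GrpUnit

variable {S : Scheme.{u}} {B : AlgSp.Sp S} (G : Over B) [GrpObj G]

/-- `g ↦ (e(π g), g)`. -/
noncomputable def sigma : G ⟶ G ⊗ G := lift (toUnit G ≫ η[G]) (𝟙 G)

lemma sigma_mul : sigma G ≫ μ[G] = 𝟙 G := by
  unfold sigma
  simp

lemma sigma_fst : sigma G ≫ fst G G = toUnit G ≫ η[G] := by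
  unfold sigma
  simp

lemma isPullback_fst_snd : IsPullback (fst G G).left (snd G G).left G.hom G.hom :=
  IsPullback.of_hasPullback G.hom G.hom

/-- Base change of "locally of finite type", on the level of sheaves which are algebraic spaces. -/
lemma locP_lft_of_isPullback {X Y Y' X' : AlgSp.Sp S} (hX : AlgSp.IsAlgSpace X) (hY : AlgSp.IsAlgSpace Y)
    (hY' : AlgSp.IsAlgSpace Y') (hX' : AlgSp.IsAlgSpace X') {f : X ⟶ Y} {g : Y' ⟶ Y} {g' : X' ⟶ X}
    {f' : X' ⟶ Y'} (sq : IsPullback g' f' f g) (hf : AlgSp.LocP @LocallyOfFiniteType f) :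
    AlgSp.LocP @LocallyOfFiniteType f' :=
  Groth.Agent.S9984.result @LocallyOfFiniteType (Or.inl rfl) (X := ⟨X, hX⟩) (Y := ⟨Y, hY⟩) (Y' := ⟨Y', hY'⟩)
    (X' := ⟨X', hX'⟩) (ObjectProperty.homMk f) (ObjectProperty.homMk g) (ObjectProperty.homMk g')
    (ObjectProperty.homMk f') sq hf

/-- A pointwise predicate on morphisms of schemes whose `HasAtMor` is insensitive to base change, for morphisms
locally of finite type. -/
def BCInv (Q : ∀ (U V : Scheme.{u}), (U ⟶ V) → ↥U → Prop) : Prop :=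
  ∀ {S : Scheme.{u}} {X Y Y' X' : AlgSp.Sp S}, AlgSp.IsAlgSpace X → AlgSp.IsAlgSpace Y →
    AlgSp.IsAlgSpace Y' → AlgSp.IsAlgSpace X' → ∀ {f : X ⟶ Y} {g : Y' ⟶ Y} {g' : X' ⟶ X} {f' : X' ⟶ Y'},
      IsPullback g' f' f g → AlgSp.LocP @LocallyOfFiniteType f → AlgSp.LocP @LocallyOfFiniteType f' →
        ∀ x' : AlgSp.Points X', AlgSp.HasAtMor Q f' x' ↔ AlgSp.HasAtMor Q f (AlgSp.Points.map g' x')

lemma bcInv_unrNear : BCInv Groth.Agent.Lib.Seat45.Unram.UnrNear :=
  fun hX hY hY' hX' _ _ _ _ sq hf hf' x' =>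
    Groth.Agent.Lib.Seat45.Unram.hasAtMor_unrNear_baseChange_iff hX hY hY' hX' sq hf hf' x'

lemma bcInv_qfNear : BCInv Groth.Agent.Lib.Seat45.QFin.QFNear :=
  fun hX hY hY' hX' _ _ _ _ sq hf hf' x' =>
    (Groth.Agent.Lib.Seat45.QFin.hasAtMor_qfNear_baseChange_iff hX hY hY' hX' sq hf hf' x').symm

/-- For a group algebraic space `G ⟶ B` locally of finite type, a base change invariant pointwise property
holds at `g` iff it holds at the unit point of the fibre through `g`. -/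
theorem hasAtMor_iff_at_unit {Q : ∀ (U V : Scheme.{u}), (U ⟶ V) → ↥U → Prop} (hQ : BCInv Q)
    (hB : AlgSp.IsAlgSpace B) (hG : AlgSp.IsAlgSpace G.left)
    (hlft : AlgSp.LocP @LocallyOfFiniteType G.hom) (g : AlgSp.Points G.left) :
    AlgSp.HasAtMor Q G.hom g ↔
      AlgSp.HasAtMor Q G.hom (AlgSp.Points.map (η[G]).left (AlgSp.Points.map G.hom g)) := by
  have hGG : AlgSp.IsAlgSpace (G ⊗ G).left :=
    Groth.Agent.S9874.isAlgSpace_of_isPullback hB.diag hG hG (isPullback_fst_snd G)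
  have hsnd : AlgSp.LocP @LocallyOfFiniteType (snd G G).left :=
    locP_lft_of_isPullback hG hB hG hGG (isPullback_fst_snd G) hlft
  have h1 := hQ hG hB hG hGG (Groth.Agent.Lib.Seat44.GrpMul.isPullback_mul_left G) hlft hsnd
    (AlgSp.Points.map (sigma G).left g)
  have h2 := hQ hG hB hG hGG (isPullback_fst_snd G) hlft hsnd (AlgSp.Points.map (sigma G).left g)
  have e1 : AlgSp.Points.map (μ[G]).left (AlgSp.Points.map (sigma G).left g) = g := by
    rw [← AlgSp.Points.map_comp, ← Over.comp_left, sigma_mul, Over.id_left, AlgSp.Points.map_id]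
  have e2 : AlgSp.Points.map (fst G G).left (AlgSp.Points.map (sigma G).left g) =
      AlgSp.Points.map (η[G]).left (AlgSp.Points.map G.hom g) := by
    rw [← AlgSp.Points.map_comp, ← Over.comp_left, sigma_fst, Over.comp_left, AlgSp.Points.map_comp]
    rfl
  rw [e1] at h1
  rw [e2] at h2
  exact h1.symm.trans h2

open Groth.Agent.Lib.Seat45.QFin in
/-- A morphism of algebraic spaces, locally of finite type, is locally quasi-finite iff it is quasi-finite at all
points. -/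
theorem locP_lqf_iff {F G : AlgSp.Sp S} (hF : AlgSp.IsAlgSpace F) (hG : AlgSp.IsAlgSpace G)
    (f : F ⟶ G) (hf : AlgSp.LocP @LocallyOfFiniteType f) :
    AlgSp.LocP (@LocallyQuasiFinite ⊓ @LocallyOfFiniteType) f ↔
      ∀ x : AlgSp.Points F, AlgSp.HasAtMor QFNear f x := by
  constructor
  · intro H x
    obtain ⟨U, V, a, b, h, hae, has, hbe, hbs, hc⟩ :=
      Groth.Agent.Lib.Seat45.ChartsMor.exists_atlas_diagram hF hG f
    obtain ⟨u, rfl⟩ := Groth.Agent.S10177.surjective_ofPt a has x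
    have hP := H a b h hae hbe hc
    haveI : LocallyQuasiFinite h.left := hP.1
    exact (hasAtMor_qfNear_ofPt_iff hF hG f hf a b h hae hbe hc u).2 (h.left.quasiFiniteAt u)
  · intro H U V a b h ha hb hc
    haveI : LocallyOfFiniteType h.left := hf a b h ha hb hc
    refine ⟨?_, inferInstance⟩
    rw [← Scheme.Hom.quasiFiniteLocus_eq_top_iff]
    exact top_le_iff.1 fun u _ => (hasAtMor_qfNear_ofPt_iff hF hG f hf a b h ha hb hc u).1 (H _)

open Groth.Agent.Lib.Seat45.QFin in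
lemma isOpen_hasAtMor_qfNear {F G : AlgSp.Sp S} (f : F ⟶ G) :
    IsOpen {x : AlgSp.Points F | AlgSp.HasAtMor QFNear f x} := by
  refine isOpen_iff_forall_mem_open.mpr fun x hx => ?_
  obtain ⟨U, V, a, b, h, u, ha, hb, hc, hu, W, huW, hW1, hW2⟩ := hx
  refine ⟨AlgSp.Points.ofPt a '' (W : Set ↥U.left), ?_,
    Groth.Agent.S10176.isOpenMap_ofPt a ha _ W.isOpen, ⟨u, huW, hu⟩⟩
  rintro _ ⟨w, hw, rfl⟩
  exact ⟨U, V, a, b, h, w, ha, hb, hc, rfl, W, hw, hW1, hW2⟩

/-- For a group algebraic space `G ⟶ B` locally of finite type and a base change invariant pointwise property `Q`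
which characterises the étale local property `P` of morphisms: the base change of `G` along `t : T ⟶ B` has `P`
iff `G ⟶ B` has `Q` at the unit points over the image of `t`. -/
theorem locP_baseChange_iff_at_unit {Q : ∀ (U V : Scheme.{u}), (U ⟶ V) → ↥U → Prop} (hQ : BCInv Q)
    (P : MorphismProperty Scheme.{u})
    (hPQ : ∀ {F G : AlgSp.Sp S}, AlgSp.IsAlgSpace F → AlgSp.IsAlgSpace G → ∀ (f : F ⟶ G),
      AlgSp.LocP @LocallyOfFiniteType f → (AlgSp.LocP P f ↔ ∀ x : AlgSp.Points F, AlgSp.HasAtMor Q f x))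
    (hB : AlgSp.IsAlgSpace B) (hG : AlgSp.IsAlgSpace G.left)
    (hlft : AlgSp.LocP @LocallyOfFiniteType G.hom)
    {T : AlgSp.Sp S} (hT : AlgSp.IsAlgSpace T) (t : T ⟶ B) {E : AlgSp.Sp S} {pr₁ : E ⟶ G.left}
    {pr₂ : E ⟶ T} (sq : IsPullback pr₁ pr₂ G.hom t) :
    AlgSp.LocP P pr₂ ↔ ∀ b' : AlgSp.Points T,
      AlgSp.HasAtMor Q G.hom (AlgSp.Points.map (η[G]).left (AlgSp.Points.map t b')) := by
  have hE : AlgSp.IsAlgSpace E := Groth.Agent.S9874.isAlgSpace_of_isPullback hB.diag hG hT sq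
  have hpr₂ : AlgSp.LocP @LocallyOfFiniteType pr₂ := locP_lft_of_isPullback hG hB hT hE sq hlft
  rw [hPQ hE hT pr₂ hpr₂]
  constructor
  · intro H b'
    have e0 : AlgSp.Points.map G.hom (AlgSp.Points.map (η[G]).left (AlgSp.Points.map t b')) =
        AlgSp.Points.map t b' := by
      rw [← AlgSp.Points.map_comp, Groth.Agent.Lib.Seat44.GrpDiag.unit_left_comp_hom]
      exact AlgSp.Points.map_id _
    obtain ⟨x', hx'1, -⟩ := Groth.Agent.S10175.exists_point_of_isPullback sq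
      (AlgSp.Points.map (η[G]).left (AlgSp.Points.map t b')) b' e0
    have := (hQ hG hB hT hE sq hlft hpr₂ x').1 (H x')
    rwa [hx'1] at this
  · intro H x'
    rw [hQ hG hB hT hE sq hlft hpr₂ x', hasAtMor_iff_at_unit G hQ hB hG hlft, ← AlgSp.Points.map_comp pr₁,
      sq.w, AlgSp.Points.map_comp]
    exact H _

/-- Factoring through an open subspace, on the level of sheaves. -/
lemma factors_iff_range_subset {X X' Y : AlgSp.Sp S} (hX : AlgSp.IsAlgSpace X) (hX' : AlgSp.IsAlgSpace X')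
    (hY : AlgSp.IsAlgSpace Y) (j : X' ⟶ X) (hj : AlgSp.RepWith @IsOpenImmersion j) (f : Y ⟶ X) :
    (∃ k : Y ⟶ X', k ≫ j = f) ↔
      Set.range (AlgSp.Points.map f) ⊆ Set.range (AlgSp.Points.map j) := by
  refine Iff.trans ?_ (Groth.Agent.S10194.result (X := ⟨X, hX⟩) (X' := ⟨X', hX'⟩) (Y := ⟨Y, hY⟩)
    (ObjectProperty.homMk j) hj (ObjectProperty.homMk f))
  constructor
  · rintro ⟨k, hk⟩
    exact ⟨ObjectProperty.homMk k, by ext1; exact hk⟩
  · rintro ⟨k, hk⟩
    exact ⟨k.hom, congrArg (fun m => m.hom) hk⟩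

/-- For a group algebraic space `G ⟶ B` locally of finite type: the largest open subspace of `B` over which `G` has
`P`, and its compatibility with base change. -/
theorem exists_largest_open {Q : ∀ (U V : Scheme.{u}), (U ⟶ V) → ↥U → Prop} (hQ : BCInv Q)
    (P : MorphismProperty Scheme.{u})
    (hPQ : ∀ {F G : AlgSp.Sp S}, AlgSp.IsAlgSpace F → AlgSp.IsAlgSpace G → ∀ (f : F ⟶ G),
      AlgSp.LocP @LocallyOfFiniteType f → (AlgSp.LocP P f ↔ ∀ x : AlgSp.Points F, AlgSp.HasAtMor Q f x))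
    (hopen : IsOpen {x : AlgSp.Points G.left | AlgSp.HasAtMor Q G.hom x})
    (hB : AlgSp.IsAlgSpace B) (hG : AlgSp.IsAlgSpace G.left)
    (hlft : AlgSp.LocP @LocallyOfFiniteType G.hom) :
    ∃ (W : AlgSp.Sp S) (w : W ⟶ B), AlgSp.RepWith @IsOpenImmersion w ∧
      (∀ (W' : AlgSp.Sp S) (w' : W' ⟶ B), AlgSp.RepWith @IsOpenImmersion w' →
        (AlgSp.LocP P (pullback.snd G.hom w') ↔ ∃ k : W' ⟶ W, k ≫ w = w')) ∧
      (∀ (B' : AlgSp.Sp S), AlgSp.IsAlgSpace B' → ∀ (f : B' ⟶ B) (W'' : AlgSp.Sp S) (w'' : W'' ⟶ B'),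
        AlgSp.RepWith @IsOpenImmersion w'' →
        (AlgSp.LocP P (pullback.snd (pullback.snd G.hom f) w'') ↔
          ∃ k : W'' ⟶ pullback w f, k ≫ pullback.snd w f = w'')) := by
  have hO : IsOpen (AlgSp.Points.map (η[G]).left ⁻¹' {x | AlgSp.HasAtMor Q G.hom x}) :=
    hopen.preimage (AlgSp.Points.continuous_map _)
  obtain ⟨W, w, hw, hrange⟩ := Groth.Agent.S10195.result ⟨B, hB⟩ _ hO
  have hWsp : AlgSp.IsAlgSpace W.obj := W.property
  -- the key equivalence for any `t : T ⟶ B`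
  have key : ∀ {T : AlgSp.Sp S} (hT : AlgSp.IsAlgSpace T) (t : T ⟶ B) {E : AlgSp.Sp S}
      {pr₁ : E ⟶ G.left} {pr₂ : E ⟶ T} (sq : IsPullback pr₁ pr₂ G.hom t),
      AlgSp.LocP P pr₂ ↔ ∃ k : T ⟶ W.obj, k ≫ w.hom = t := by
    intro T hT t E pr₁ pr₂ sq
    rw [locP_baseChange_iff_at_unit G hQ P hPQ hB hG hlft hT t sq,
      factors_iff_range_subset hB hWsp hT w.hom hw t, hrange]
    constructor
    · rintro H _ ⟨b', rfl⟩
      exact H b'
    · intro H b'
      exact H ⟨b', rfl⟩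
  refine ⟨W.obj, w.hom, hw, ?_, ?_⟩
  · intro W' w' hw'
    have hW' : AlgSp.IsAlgSpace W' := Groth.Agent.S10129.isAlgSpace_of_representable hB w' hw'.1
    exact key hW' w' (IsPullback.of_hasPullback G.hom w')
  · intro B' hB' f W'' w'' hw''
    have hW'' : AlgSp.IsAlgSpace W'' := Groth.Agent.S10129.isAlgSpace_of_representable hB' w'' hw''.1
    have sq : IsPullback (pullback.fst (pullback.snd G.hom f) w'' ≫ pullback.fst G.hom f)
        (pullback.snd (pullback.snd G.hom f) w'') G.hom (w'' ≫ f) :=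
      (IsPullback.of_hasPullback (pullback.snd G.hom f) w'').paste_horiz
        (IsPullback.of_hasPullback G.hom f)
    rw [key hW'' (w'' ≫ f) sq]
    constructor
    · rintro ⟨k, hk⟩
      exact ⟨pullback.lift k w'' hk, pullback.lift_snd _ _ _⟩
    · rintro ⟨k, hk⟩
      refine ⟨k ≫ pullback.fst w.hom f, ?_⟩
      rw [Category.assoc, pullback.condition, ← Category.assoc, hk]

end Groth.Agent.Lib.Seat45.GrpUnit
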