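import Mathlib
import Groth.Agent.Lib.Helper4DimFormulaAL
import Groth.Agent.Lib.Helper4DimFormulaAD
import Groth.Agent.Lib.Helper4DimFormulaAJ
import Groth.Agent.Lib.Seat45FibDim
import Groth.Agent.Lib.Seat45FibDimSp
import Groth.Agent.Lib.Seat45ChartsMor2
import Groth.Prelude.Def_Dual3

/-!
# Residue transcendence degree and dimension of the local ring of the fibre: étale locality (seat 45)

Scheme level (all morphisms locally of finite type):
* `resTrdeg_eq_ptTrdeg`: `Dual3.resTrdeg f x = ptTrdeg f x`.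
* `ptTrdeg_eq_zero_of_lqf`, `ptTrdeg_etale_local`, `resTrdeg_etale_local`.
* `fibreStalkDim_etale_local`: the dimension of the local ring of the fibre is étale local.
Algebraic spaces:
* `hasAtMor_resTrdeg_ofPt_iff`, `hasAtMor_fibreStalkDim_ofPt_iff`: read on any chart diagram.
-/

set_option autoImplicit false
universe u

open CategoryTheory CategoryTheory.Limits AlgebraicGeometry

namespace Groth.Agent.Lib.Seat45.Trdeg

open Groth.Agent.Lib.Helper4.DimFormula

section Scheme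

variable {X Y : Scheme.{u}}

theorem resTrdeg_eq_ptTrdeg (f : X ⟶ Y) [LocallyOfFiniteType f] (x : X) :
    Dual3.resTrdeg f x = (ptTrdeg f x : Cardinal.{u}) := trdeg_eq_ptTrdeg f x

theorem toENat_resTrdeg (f : X ⟶ Y) [LocallyOfFiniteType f] (x : X) :
    Cardinal.toENat (Dual3.resTrdeg f x) = (ptTrdeg f x : ℕ∞) := by
  rw [resTrdeg_eq_ptTrdeg]; simp

theorem ptTrdeg_eq_zero_of_lqf (g : X ⟶ Y) [LocallyOfFiniteType g] [LocallyQuasiFinite g] (x : X) :
    ptTrdeg g x = 0 := by
  have h1 := Groth.Agent.Lib.Helper4.DimFormula.ptTrdeg_le_fibreDimAt g x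
  have h2 := (Groth.Agent.Lib.Seat45.FibDim.locallyQuasiFinite_iff_forall_fibreDimAt_le_zero g).mp
    inferInstance x
  have h4 : (ptTrdeg g x : WithBot ℕ∞) ≤ ((0 : ℕ) : WithBot ℕ∞) := h1.trans (by simpa using h2)
  have h5 : ptTrdeg g x ≤ 0 := by exact_mod_cast h4
  omega

theorem ptTrdeg_congr {f g : X ⟶ Y} (h : f = g) [LocallyOfFiniteType f] [LocallyOfFiniteType g] (x : X) :
    ptTrdeg f x = ptTrdeg g x := by
  subst h; rfl

theorem ptTrdeg_etale_local {U U' V V' : Scheme.{u}} (h : U ⟶ V) (h' : U' ⟶ V') (a : U' ⟶ U) (b : V' ⟶ V)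
    [Etale a] [Etale b] [LocallyOfFiniteType h] [LocallyOfFiniteType h'] (comm : h' ≫ b = a ≫ h)
    (u' : ↥U') : ptTrdeg h (a u') = ptTrdeg h' u' := by
  have : LocallyQuasiFinite a := Groth.Agent.Lib.Seat45.EtDim.locallyQuasiFinite_of_etale a
  have : LocallyQuasiFinite b := Groth.Agent.Lib.Seat45.EtDim.locallyQuasiFinite_of_etale b
  have h1 := ptTrdeg_comp h' b u'
  have h2 := ptTrdeg_comp a h u'
  rw [ptTrdeg_eq_zero_of_lqf b] at h1
  rw [ptTrdeg_eq_zero_of_lqf a] at h2
  have h3 := ptTrdeg_congr comm u'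
  omega

theorem resTrdeg_etale_local (P : Cardinal.{u} → Prop) {U U' V V' : Scheme.{u}} (h : U ⟶ V) (h' : U' ⟶ V')
    (a : U' ⟶ U) (b : V' ⟶ V)
    [Etale a] [Etale b] (hh : LocallyOfFiniteType h) (hh' : LocallyOfFiniteType h') (comm : h' ≫ b = a ≫ h)
    (u' : ↥U') : P (Dual3.resTrdeg h (a u')) ↔ P (Dual3.resTrdeg h' u') := by
  rw [resTrdeg_eq_ptTrdeg, resTrdeg_eq_ptTrdeg, ptTrdeg_etale_local h h' a b comm u']

theorem withBot_add_natCast_cancel {a b : WithBot ℕ∞} {n : ℕ} (h : a + (n : WithBot ℕ∞) = b + (n : WithBot ℕ∞)) :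
    a = b := by
  induction a using WithBot.recBotCoe with
  | bot =>
    induction b using WithBot.recBotCoe with
    | bot => rfl
    | coe b =>
      exfalso
      rw [WithBot.bot_add] at h
      have : ((b + (n : ℕ∞) : ℕ∞) : WithBot ℕ∞) = ⊥ := by rw [h]; push_cast; rfl
      exact WithBot.coe_ne_bot this
  | coe a =>
    induction b using WithBot.recBotCoe with
    | bot =>
      exfalso
      rw [WithBot.bot_add] at h
      have : ((a + (n : ℕ∞) : ℕ∞) : WithBot ℕ∞) = ⊥ := by rw [← h]; push_cast; rfl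
      exact WithBot.coe_ne_bot this
    | coe b =>
      have h' : ((a + (n : ℕ∞) : ℕ∞) : WithBot ℕ∞) = ((b + (n : ℕ∞) : ℕ∞) : WithBot ℕ∞) := by
        push_cast; exact h
      have h'' : a + (n : ℕ∞) = b + (n : ℕ∞) := WithBot.coe_injective h'
      have : a = b := ENat.add_left_injective_of_ne_top (ENat.coe_ne_top n) h''
      rw [this]

theorem fibreStalkDim_etale_local (P : WithBot ℕ∞ → Prop) {U U' V V' : Scheme.{u}} (h : U ⟶ V) (h' : U' ⟶ V')
    (a : U' ⟶ U) (b : V' ⟶ V)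
    [Etale a] [Etale b] (hh : LocallyOfFiniteType h) (hh' : LocallyOfFiniteType h') (comm : h' ≫ b = a ≫ h)
    (u' : ↥U') :
    P (ringKrullDim ↥((h.fiber (h (a u'))).presheaf.stalk (h.asFiber (a u')))) ↔
      P (ringKrullDim ↥((h'.fiber (h' u')).presheaf.stalk (h'.asFiber u'))) := by
  have h1 := fibreDimAt_eq_stalk_add_ptTrdeg h (a u')
  have h2 := fibreDimAt_eq_stalk_add_ptTrdeg h' u'
  rw [Groth.Agent.S7408.result h h' a b comm u', h2, ptTrdeg_etale_local h h' a b comm u'] at h1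
  rw [withBot_add_natCast_cancel h1]

end Scheme

section Space

open Groth.Agent.Lib.Seat45.Charts Groth.Agent.Lib.Seat45.ChartsMor

variable {S : Scheme.{u}}

/-- For `f` locally of finite type, a predicate on the residue transcendence degree of `f` at the image of `u` can
be read on any chart diagram. -/
theorem hasAtMor_resTrdeg_ofPt_iff (P : Cardinal.{u} → Prop)
    {F G : AlgSp.Sp S} (hF : AlgSp.IsAlgSpace F) (hG : AlgSp.IsAlgSpace G) (f : F ⟶ G)
    (hf : AlgSp.LocP @LocallyOfFiniteType f)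
    {U V : Over S} (a : (AlgSp.yon S).obj U ⟶ F) (b : (AlgSp.yon S).obj V ⟶ G) (h : U ⟶ V)
    (ha : AlgSp.RepWith @Etale a) (hb : AlgSp.RepWith @Etale b)
    (hc : a ≫ f = (AlgSp.yon S).map h ≫ b) (u : ↥U.left) :
    AlgSp.HasAtMor (fun _ _ h u => P (Dual3.resTrdeg h u)) f (AlgSp.Points.ofPt a u) ↔
      P (Dual3.resTrdeg h.left u) :=
  hasAtMor_ofPt_iff_of_locP @LocallyOfFiniteType (fun _ _ h u => P (Dual3.resTrdeg h u))
    (fun h h' a b _ _ hh hh' comm u' => resTrdeg_etale_local P h h' a b hh hh' comm u') hF hG f hf a b h ha hb hc u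

/-- For `f` locally of finite type, a predicate on the dimension of the local ring of the fibre of `f` at the image
of `u` can be read on any chart diagram. -/
theorem hasAtMor_fibreStalkDim_ofPt_iff (P : WithBot ℕ∞ → Prop)
    {F G : AlgSp.Sp S} (hF : AlgSp.IsAlgSpace F) (hG : AlgSp.IsAlgSpace G) (f : F ⟶ G)
    (hf : AlgSp.LocP @LocallyOfFiniteType f)
    {U V : Over S} (a : (AlgSp.yon S).obj U ⟶ F) (b : (AlgSp.yon S).obj V ⟶ G) (h : U ⟶ V)
    (ha : AlgSp.RepWith @Etale a) (hb : AlgSp.RepWith @Etale b)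
    (hc : a ≫ f = (AlgSp.yon S).map h ≫ b) (u : ↥U.left) :
    AlgSp.HasAtMor (fun _ _ h u => P (ringKrullDim ↥((h.fiber (h u)).presheaf.stalk (h.asFiber u)))) f
        (AlgSp.Points.ofPt a u) ↔
      P (ringKrullDim ↥((h.left.fiber (h.left u)).presheaf.stalk (h.left.asFiber u))) :=
  hasAtMor_ofPt_iff_of_locP @LocallyOfFiniteType
    (fun _ _ h u => P (ringKrullDim ↥((h.fiber (h u)).presheaf.stalk (h.asFiber u))))
    (fun h h' a b _ _ hh hh' comm u' => fibreStalkDim_etale_local P h h' a b hh hh' comm u') hF hG f hf a b h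
    ha hb hc u

end Space

end Groth.Agent.Lib.Seat45.Trdeg
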