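import Mathlib
import Groth.Agent.Lib.Seat45GenFin6
import Groth.Agent.Lib.Seat45GenFin4
import Groth.Agent.Lib.Seat45Trdeg
import Groth.Agent.Lib.Helper4DimFormulaT
import Groth.Agent.S10340
import Groth.Agent.S10338
import Groth.Agent.S10339
import Groth.Agent.S10394

/-!
# Dominant morphisms of integral algebraic spaces (seat 45)

For `f : X ⟶ Y` dominant, locally of finite type between integral algebraic spaces with generic points `x`, `y`:
* `hasAt_dimZero_iff_eq_generic`, `map_generic`, `generic_mem_of_isOpen`;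
* `unique_of_qfNear`, `qfNear_of_unique`: `f` quasi-finite at `x` ⇔ `x` is the only point over `y`;
* `resTrdeg_eq_zero_iff_qfNear`: transcendence degree `0` ⇔ quasi-finite at `x`.
-/

set_option autoImplicit false
set_option linter.style.haveILetI false
universe u
open CategoryTheory CategoryTheory.Limits AlgebraicGeometry Topology TopologicalSpace
open AlgSp

namespace Groth.Agent.Lib.Seat45.IntSp

open Groth.Agent.Lib.Seat45.QsSober Groth.Agent.Lib.Seat45.DecGen Groth.Agent.Lib.Seat45.ZarQs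
  Groth.Agent.Lib.Seat45.Charts Groth.Agent.Lib.Helper12 Groth.Agent.Lib.Seat45.ChartsMor
  Groth.Agent.Lib.Seat45.QFin Groth.Agent.Lib.Seat45.Noeth Groth.Agent.Lib.Seat45.LocFinIrr
  Groth.Agent.Lib.Seat45.ClosedImm Groth.Agent.Lib.Seat45.GenFin

variable {S : Scheme.{u}}

/-- in an integral algebraic space, the codimension `0` points are exactly the generic point. -/
theorem hasAt_dimZero_iff_eq_generic {X : AlgSp.Space S} (hXi : AlgSp.IsIntegralSp X.obj)
    (x : AlgSp.Points X.obj) (hx : IsGenericPoint x (Set.univ : Set (AlgSp.Points X.obj)))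
    (x' : AlgSp.Points X.obj) :
    AlgSp.HasAt (fun U u => ringKrullDim ↥(U.presheaf.stalk u) = 0) X.obj x' ↔ x' = x := by
  haveI : T0Space (AlgSp.Points X.obj) := Groth.Agent.S10338.result X hXi.2.1
  haveI : IrreducibleSpace (AlgSp.Points X.obj) := hXi.2.2
  rw [← Groth.Agent.S10394.result X hXi.2.1 x']
  constructor
  · rintro ⟨T, hT, hgen⟩
    rw [irreducibleComponents_eq_singleton, Set.mem_singleton_iff] at hT
    subst hT
    exact hgen.eq hx
  · rintro rfl
    refine ⟨Set.univ, ?_, hx⟩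
    rw [irreducibleComponents_eq_singleton]
    rfl

/-- a dominant morphism maps the generic point to the generic point. -/
theorem map_generic {X Y : AlgSp.Space S} (hYi : AlgSp.IsIntegralSp Y.obj) (f : X ⟶ Y)
    (hd : AlgSp.IsDominantMor f.hom)
    (x : AlgSp.Points X.obj) (hx : IsGenericPoint x (Set.univ : Set (AlgSp.Points X.obj)))
    (y : AlgSp.Points Y.obj) (hy : IsGenericPoint y (Set.univ : Set (AlgSp.Points Y.obj))) :
    AlgSp.Points.map f.hom x = y := by
  haveI : T0Space (AlgSp.Points Y.obj) := Groth.Agent.S10338.result Y hYi.2.1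
  have h1 := hx.image (AlgSp.Points.continuous_map f.hom)
  rw [Set.image_univ, hd.closure_range] at h1
  exact h1.eq hy

/-- a nonempty open set contains the generic point. -/
theorem generic_mem_of_isOpen {X : AlgSp.Space S}
    (x : AlgSp.Points X.obj) (hx : IsGenericPoint x (Set.univ : Set (AlgSp.Points X.obj)))
    {W : Set (AlgSp.Points X.obj)} (hW : IsOpen W) (hne : W.Nonempty) : x ∈ W := by
  rw [hx.mem_open_set_iff hW, Set.univ_inter]
  exact hne

section Core

variable {X Y : AlgSp.Space S} (hXi : AlgSp.IsIntegralSp X.obj) (hYi : AlgSp.IsIntegralSp Y.obj)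
  (f : X ⟶ Y) (hft : AlgSp.LocP @LocallyOfFiniteType f.hom) (hd : AlgSp.IsDominantMor f.hom)
  (x : AlgSp.Points X.obj) (hx : IsGenericPoint x (Set.univ : Set (AlgSp.Points X.obj)))
  (y : AlgSp.Points Y.obj) (hy : IsGenericPoint y (Set.univ : Set (AlgSp.Points Y.obj)))

include hXi hYi hft hd hx hy

/-- (4) ⇒ (5). -/
theorem unique_of_qfNear (hqf : AlgSp.HasAtMor QFNear f.hom x) :
    ∀ x' : AlgSp.Points X.obj, AlgSp.Points.map f.hom x' = y → x' = x := by
  intro x' hx'
  obtain ⟨T, V, c, b, h, t', hc, hb, hcomm, rfl⟩ := exists_diagram X.property Y.property f.hom x'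
  haveI : LocallyOfFiniteType h.left := hft c b h hc hb hcomm
  obtain ⟨t₀, ht₀max, ht₀⟩ := exists_maxPt_specializes t'
  have ht₀x : AlgSp.Points.ofPt c t₀ = x := by
    rw [← hasAt_dimZero_iff_eq_generic hXi x hx, hasAt_stalkDim_iff X.property c hc t₀ 0,
      ← maxPt_iff_stalkDim_eq_zero]
    exact ht₀max
  have hqf₀ : h.left.QuasiFiniteAt t₀ :=
    (hasAtMor_qfNear_ofPt_iff X.property Y.property f.hom hft c b h hc hb hcomm t₀).1 (by rw [ht₀x]; exact hqf)
  have hfx : AlgSp.Points.map f.hom x = y := map_generic hYi f hd x hx y hy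
  have h1 : AlgSp.Points.ofPt b (h.left t') = AlgSp.Points.ofPt b (h.left t₀) := by
    rw [ofPt_diagram f.hom c b h hcomm t', ofPt_diagram f.hom c b h hcomm t₀, ht₀x, hx', hfx]
  have h2 : h.left t' = h.left t₀ :=
    Groth.Agent.S10340.result Y hYi.2.1 b hb _ _ h1 (ht₀.map h.left.continuous)
  have h3 : t' = t₀ := eq_of_specializes_of_quasiFiniteAt h.left hqf₀ ht₀ h2
  rw [h3, ht₀x]

/-- (5) ⇒ (4). -/
theorem qfNear_of_unique (huniq : ∀ x' : AlgSp.Points X.obj, AlgSp.Points.map f.hom x' = y → x' = x) :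
    AlgSp.HasAtMor QFNear f.hom x := by
  obtain ⟨T, V, c, b, h, t, hc, hb, hcomm, rfl⟩ := exists_diagram X.property Y.property f.hom x
  haveI : LocallyOfFiniteType h.left := hft c b h hc hb hcomm
  refine (hasAtMor_qfNear_ofPt_iff X.property Y.property f.hom hft c b h hc hb hcomm t).2 ?_
  refine quasiFiniteAt_of_forall_stalkDim_eq_zero h.left t ?_
  intro t' ht'
  have hfx := map_generic hYi f hd _ hx y hy
  have h1 : AlgSp.Points.ofPt c t' = AlgSp.Points.ofPt c t := by
    apply huniq
    rw [← ofPt_diagram f.hom c b h hcomm t', ht', ofPt_diagram f.hom c b h hcomm t, hfx]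
  rw [← hasAt_stalkDim_iff X.property c hc t' 0, hasAt_dimZero_iff_eq_generic hXi _ hx]
  exact h1

omit hYi hd hy in
/-- (1) ⇔ (4). -/
theorem resTrdeg_eq_zero_iff_qfNear :
    AlgSp.HasAtMor (fun _ _ h u => Dual3.resTrdeg h u = 0) f.hom x ↔ AlgSp.HasAtMor QFNear f.hom x := by
  obtain ⟨T, V, c, b, h, t, hc, hb, hcomm, rfl⟩ := exists_diagram X.property Y.property f.hom x
  haveI : LocallyOfFiniteType h.left := hft c b h hc hb hcomm
  rw [Groth.Agent.Lib.Seat45.Trdeg.hasAtMor_resTrdeg_ofPt_iff (fun c => c = 0) X.property Y.property f.hom hft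
      c b h hc hb hcomm t,
    hasAtMor_qfNear_ofPt_iff X.property Y.property f.hom hft c b h hc hb hcomm t,
    Groth.Agent.Lib.Seat45.FibDim.quasiFiniteAt_iff_fibreDimAt_le_zero]
  have htmax : MaxPt t := by
    rw [maxPt_iff_stalkDim_eq_zero, ← hasAt_stalkDim_iff X.property c hc t 0,
      hasAt_dimZero_iff_eq_generic hXi _ hx]
  rw [Groth.Agent.Lib.Helper4.DimFormula.fibreDimAt_eq_ptTrdeg_of_maximal h.left t
      (fun t' _ ht' => htmax t' ht'),
    Groth.Agent.Lib.Seat45.Trdeg.resTrdeg_eq_ptTrdeg]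
  constructor
  · intro h0
    have : Groth.Agent.Lib.Helper4.DimFormula.ptTrdeg h.left t = 0 := by exact_mod_cast h0
    rw [this]; rfl
  · intro h0
    have : Groth.Agent.Lib.Helper4.DimFormula.ptTrdeg h.left t = 0 := by
      have h1 : ((Groth.Agent.Lib.Helper4.DimFormula.ptTrdeg h.left t : ℕ) : WithBot ℕ∞) ≤ ((0 : ℕ) : WithBot ℕ∞) := by
        simpa using h0
      have h2 : Groth.Agent.Lib.Helper4.DimFormula.ptTrdeg h.left t ≤ 0 := by exact_mod_cast h1
      omega
    rw [this]; simp

end Core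

end Groth.Agent.Lib.Seat45.IntSp
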