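import Mathlib
import Groth.Agent.Lib.Seat45IntSp
import Groth.Agent.S10351
import Groth.Agent.S2080

/-!
# Dominant morphisms of integral algebraic spaces, II (seat 45)

* `exists_nonempty_affine_open`: a nonempty decent algebraic space has a nonempty affine open subscheme.
* `qfNear_of_open_chart`, `unique_of_affine_open_finite`, `exists_affine_opens_finite_of_qfNear`,
  `exists_affine_open_finite_of_unique`, `unique_of_alteration`, `exists_alteration_of_unique`: the remaining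
  implications between the characterisations of generically finite dominant morphisms of integral spaces.
-/

set_option autoImplicit false
set_option linter.style.haveILetI false
universe u
open CategoryTheory CategoryTheory.Limits AlgebraicGeometry Topology TopologicalSpace
open AlgSp

namespace Groth.Agent.Lib.Seat45.IntSp

open Groth.Agent.Lib.Seat45.QsSober Groth.Agent.Lib.Seat45.DecGen Groth.Agent.Lib.Seat45.ZarQs
  Groth.Agent.Lib.Seat45.Charts Groth.Agent.Lib.Helper12 Groth.Agent.Lib.Seat45.ChartsMor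
  Groth.Agent.Lib.Seat45.QFin Groth.Agent.Lib.Seat45.Noeth Groth.Agent.Lib.Seat45.LocFinIrr
  Groth.Agent.Lib.Seat45.ClosedImm Groth.Agent.Lib.Seat45.GenFin

variable {S : Scheme.{u}}

/-- a nonempty decent algebraic space has a nonempty affine open subscheme. -/
theorem exists_nonempty_affine_open (V₀ : AlgSp.Space S) (hdec : AlgSp.IsDecent V₀.obj)
    (hne : Nonempty (AlgSp.Points V₀.obj)) :
    ∃ (V : Over S) (c : (AlgSp.yon S).obj V ⟶ V₀.obj), IsAffine V.left ∧ Nonempty ↥V.left ∧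
      AlgSp.RepWith @IsOpenImmersion c := by
  obtain ⟨V₁, j₁, hj₁, hrep, hdense₁⟩ := Groth.Agent.S10337.result V₀ hdec
  obtain ⟨T, ⟨e⟩⟩ := hrep.has_representation
  let iso₀ : (AlgSp.yon S).obj T ≅ V₁.obj := AlgSp.isoOfRepresentableBy e
  have hb₀ : AlgSp.RepWith @IsOpenImmersion (iso₀.hom ≫ j₁.hom) :=
    (MorphismProperty.cancel_left_of_respectsIso (AlgSp.RepWith @IsOpenImmersion) iso₀.hom j₁.hom).2 hj₁
  obtain ⟨z⟩ := hne
  obtain ⟨_, -, ⟨z₁, rfl⟩⟩ := hdense₁.inter_open_nonempty Set.univ isOpen_univ ⟨z, trivial⟩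
  obtain ⟨t, -⟩ := exists_ofPt_id (AlgSp.Points.map iso₀.inv z₁)
  obtain ⟨O, hO, htO, -⟩ := exists_isAffineOpen_mem_and_subset (U := (⊤ : T.left.Opens)) (x := t) trivial
  refine ⟨resObj T O, (AlgSp.yon S).map (resHom T O) ≫ iso₀.hom ≫ j₁.hom, hO, ⟨⟨t, htO⟩⟩, ?_⟩
  refine (AlgSp.RepWith @IsOpenImmersion).comp_mem _ _ ?_ hb₀
  exact (AlgSp.repWith_yon_map_iff @IsOpenImmersion (resHom T O)).2
    (inferInstanceAs (IsOpenImmersion O.ι))

section Core

variable {X Y : AlgSp.Space S} (hXi : AlgSp.IsIntegralSp X.obj) (hYi : AlgSp.IsIntegralSp Y.obj)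
  (f : X ⟶ Y) (hft : AlgSp.LocP @LocallyOfFiniteType f.hom) (hd : AlgSp.IsDominantMor f.hom)
  (x : AlgSp.Points X.obj) (hx : IsGenericPoint x (Set.univ : Set (AlgSp.Points X.obj)))
  (y : AlgSp.Points Y.obj) (hy : IsGenericPoint y (Set.univ : Set (AlgSp.Points Y.obj)))

include hft hx in
/-- (3) ⇒ (4): a chart diagram of open subschemes with nonempty source and locally quasi-finite map. -/
theorem qfNear_of_open_chart {U V : Over S} (a : (AlgSp.yon S).obj U ⟶ X.obj) (b : (AlgSp.yon S).obj V ⟶ Y.obj)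
    (g : U ⟶ V) (ha : AlgSp.RepWith @IsOpenImmersion a) (hb : AlgSp.RepWith @IsOpenImmersion b)
    (hc : a ≫ f.hom = (AlgSp.yon S).map g ≫ b) (hne : Nonempty ↥U.left) [LocallyQuasiFinite g.left] :
    AlgSp.HasAtMor QFNear f.hom x := by
  have hae := repWith_etale_of_isOpenImmersion ha
  have hbe := repWith_etale_of_isOpenImmersion hb
  haveI : LocallyOfFiniteType g.left := hft a b g hae hbe hc
  obtain ⟨u₀⟩ := hne
  obtain ⟨u, rfl⟩ : x ∈ Set.range (AlgSp.Points.ofPt a) :=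
    generic_mem_of_isOpen x hx (Groth.Agent.S10176.isOpenMap_ofPt a hae).isOpen_range ⟨_, ⟨u₀, rfl⟩⟩
  refine (hasAtMor_qfNear_ofPt_iff X.property Y.property f.hom hft a b g hae hbe hc u).2 ?_
  rw [← Scheme.Hom.mem_quasiFiniteLocus, Scheme.Hom.quasiFiniteLocus_eq_top]
  trivial

include hXi hYi hft hd hx hy in
/-- (6) ⇒ (5). -/
theorem unique_of_affine_open_finite {V U : Over S} (b : (AlgSp.yon S).obj V ⟶ Y.obj) (g : U ⟶ V)
    (a : (AlgSp.yon S).obj U ⟶ X.obj) (hVne : Nonempty ↥V.left) (hb : AlgSp.RepWith @IsOpenImmersion b)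
    (sq : IsPullback a ((AlgSp.yon S).map g) f.hom b) [IsFinite g.left] :
    ∀ x' : AlgSp.Points X.obj, AlgSp.Points.map f.hom x' = y → x' = x := by
  have ha : AlgSp.RepWith @IsOpenImmersion a :=
    MorphismProperty.of_isPullback (P := AlgSp.RepWith @IsOpenImmersion) sq.flip hb
  have hbe := repWith_etale_of_isOpenImmersion hb
  have hne : Nonempty ↥U.left := by
    obtain ⟨v₀⟩ := hVne
    obtain ⟨_, ⟨v, rfl⟩, ⟨x'', hx''⟩⟩ := hd.inter_open_nonempty _
      (Groth.Agent.S10176.isOpenMap_ofPt b hbe).isOpen_range ⟨_, ⟨v₀, rfl⟩⟩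
    have e : AlgSp.Points.map b (AlgSp.Points.ofPt (𝟙 _) v) = AlgSp.Points.map f.hom x'' := by
      rw [AlgSp.Points.map_ofPt, Category.id_comp, hx'']
    obtain ⟨p, -, -⟩ := Groth.Agent.S10175.exists_point_of_isPullback sq.flip _ _ e
    obtain ⟨u, -⟩ := exists_ofPt_id p
    exact ⟨u⟩
  exact unique_of_qfNear hXi hYi f hft hd x hx y hy
    (qfNear_of_open_chart f hft x hx a b g ha hb sq.w hne)

include hXi hYi hft hd hx hy in
/-- (4) ⇒ (3). -/
theorem exists_affine_opens_finite_of_qfNear (hqf : AlgSp.HasAtMor QFNear f.hom x) :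
    ∃ (U V : Over S) (a : (AlgSp.yon S).obj U ⟶ X.obj) (b : (AlgSp.yon S).obj V ⟶ Y.obj) (g : U ⟶ V),
      IsAffine U.left ∧ IsAffine V.left ∧ Nonempty ↥U.left ∧
        AlgSp.RepWith @IsOpenImmersion a ∧ AlgSp.RepWith @IsOpenImmersion b ∧
          a ≫ f.hom = (AlgSp.yon S).map g ≫ b ∧ IsFinite g.left := by
  haveI : IrreducibleSpace (AlgSp.Points X.obj) := hXi.2.2
  haveI : IrreducibleSpace (AlgSp.Points Y.obj) := hYi.2.2
  have hfx := map_generic hYi f hd x hx y hy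
  obtain ⟨U₀, a₀, hU₀aff, hU₀ne, ha₀⟩ := exists_nonempty_affine_open X hXi.2.1 ⟨x⟩
  obtain ⟨V₀, b₀, hV₀aff, hV₀ne, hb₀⟩ := exists_nonempty_affine_open Y hYi.2.1 ⟨y⟩
  haveI := hV₀aff
  have ha₀e := repWith_etale_of_isOpenImmersion ha₀
  have hb₀e := repWith_etale_of_isOpenImmersion hb₀
  -- the generic points lie in the charts
  obtain ⟨u₀⟩ := hU₀ne
  obtain ⟨v₀'⟩ := hV₀ne
  obtain ⟨u₀, hu₀⟩ : x ∈ Set.range (AlgSp.Points.ofPt a₀) :=
    generic_mem_of_isOpen x hx (Groth.Agent.S10176.isOpenMap_ofPt a₀ ha₀e).isOpen_range ⟨_, ⟨u₀, rfl⟩⟩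
  obtain ⟨v₀, hv₀⟩ : y ∈ Set.range (AlgSp.Points.ofPt b₀) :=
    generic_mem_of_isOpen y hy (Groth.Agent.S10176.isOpenMap_ofPt b₀ hb₀e).isOpen_range ⟨_, ⟨v₀', rfl⟩⟩
  -- pull back `b₀` along `a₀ ≫ f`
  obtain ⟨U₁, p, q', sq⟩ := hb₀.1 (a₀ ≫ f.hom)
  obtain ⟨q, rfl⟩ := (AlgSp.yon S).map_surjective q'
  haveI hp : IsOpenImmersion p.left := hb₀.2 _ _ _ sq
  have ha₁ : AlgSp.RepWith @IsOpenImmersion ((AlgSp.yon S).map p ≫ a₀) :=
    (AlgSp.RepWith @IsOpenImmersion).comp_mem _ _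
      ((AlgSp.repWith_yon_map_iff @IsOpenImmersion p).2 hp) ha₀
  have ha₁e := repWith_etale_of_isOpenImmersion ha₁
  have hc₁ : ((AlgSp.yon S).map p ≫ a₀) ≫ f.hom = (AlgSp.yon S).map q ≫ b₀ := by
    rw [Category.assoc]; exact sq.w.symm
  haveI : LocallyOfFiniteType q.left := hft _ b₀ q ha₁e hb₀e hc₁
  -- the generic point lies in `U₁`
  obtain ⟨u₁, hu₁⟩ : ∃ u₁ : ↥U₁.left, p.left u₁ = u₀ := by
    have e : AlgSp.Points.map b₀ (AlgSp.Points.ofPt (𝟙 _) v₀) =
        AlgSp.Points.map (a₀ ≫ f.hom) (AlgSp.Points.ofPt (𝟙 _) u₀) := by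
      rw [AlgSp.Points.map_ofPt, Category.id_comp, hv₀, AlgSp.Points.map_ofPt, Category.id_comp,
        ← AlgSp.Points.map_ofPt, hu₀, hfx]
    obtain ⟨π, -, hπ⟩ := Groth.Agent.S10175.exists_point_of_isPullback sq _ _ e
    obtain ⟨u₁, rfl⟩ := exists_ofPt_id π
    rw [map_yon_map_ofPt_id] at hπ
    exact ⟨u₁, ofPt_id_injective hπ⟩
  have hu₁x : AlgSp.Points.ofPt ((AlgSp.yon S).map p ≫ a₀) u₁ = x := by
    rw [Groth.Agent.S10176.ofPt_map_comp, hu₁, hu₀]
  have hqf₁ : q.left.QuasiFiniteAt u₁ :=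
    (hasAtMor_qfNear_ofPt_iff X.property Y.property f.hom hft _ b₀ q ha₁e hb₀e hc₁ u₁).1
      (by rw [hu₁x]; exact hqf)
  have hqu₁ : AlgSp.Points.ofPt b₀ (q.left u₁) = y := by
    rw [ofPt_diagram f.hom _ b₀ q hc₁ u₁, hu₁x, hfx]
  have hvmax : closure {q.left u₁} ∈ irreducibleComponents (V₀.left : Type u) := by
    refine (Groth.Agent.Lib.Helper14.closure_mem_irreducibleComponents_iff _).2
      ((maxPt_iff_stalkDim_eq_zero _).2 ?_)
    rw [← hasAt_stalkDim_iff Y.property b₀ hb₀e _ 0, hqu₁, hasAt_dimZero_iff_eq_generic hYi y hy]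
  -- an affine open neighbourhood of `u₁` in the quasi-finite locus
  obtain ⟨U₂, hU₂, hu₁U₂, hU₂le⟩ := exists_isAffineOpen_mem_and_subset (U := q.left.quasiFiniteLocus)
    (x := u₁) hqf₁
  let q₂ : resObj U₁ U₂ ⟶ V₀ := resHom U₁ U₂ ≫ q
  haveI : IsAffine (resObj U₁ U₂).left := hU₂
  have hq₂left : q₂.left = U₂.ι ≫ q.left := rfl
  haveI : LocallyOfFiniteType q₂.left := by rw [hq₂left]; infer_instance
  haveI : LocallyQuasiFinite q₂.left := by
    rw [hq₂left, ← Scheme.Hom.quasiFiniteLocus_eq_top_iff, Scheme.Hom.quasiFiniteLocus_comp]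
    ext z
    simp only [Scheme.Hom.coe_preimage, Set.mem_preimage, SetLike.mem_coe, Opens.coe_top, Set.mem_univ, iff_true]
    exact hU₂le z.2
  haveI : QuasiCompact q₂.left := (HasAffineProperty.iff_of_isAffine (P := @QuasiCompact)).2 inferInstance
  have hfin : (q₂.left ⁻¹' {q.left u₁}).Finite := q₂.left.finite_preimage_singleton _
  obtain ⟨V, hV, hvV, hVfin⟩ := (Groth.Agent.S2080.result q₂.left (q.left u₁) hvmax).1 hfin
  haveI : IsAffine (resObj V₀ V).left := hV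
  haveI : IsFinite (resMap q₂ V).left := hVfin
  refine ⟨resObj (resObj U₁ U₂) (q₂.left ⁻¹ᵁ V), resObj V₀ V,
    (AlgSp.yon S).map (resHom (resObj U₁ U₂) (q₂.left ⁻¹ᵁ V)) ≫ (AlgSp.yon S).map (resHom U₁ U₂) ≫
      (AlgSp.yon S).map p ≫ a₀,
    (AlgSp.yon S).map (resHom V₀ V) ≫ b₀, resMap q₂ V, ?_, hV, ?_, ?_, ?_, ?_, hVfin⟩
  · exact isAffine_of_isAffineHom (resMap q₂ V).left
  · exact ⟨⟨⟨u₁, hu₁U₂⟩, hvV⟩⟩
  · refine (AlgSp.RepWith @IsOpenImmersion).comp_mem _ _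
      ((AlgSp.repWith_yon_map_iff @IsOpenImmersion _).2 (inferInstanceAs (IsOpenImmersion (Scheme.Opens.ι _)))) ?_
    exact (AlgSp.RepWith @IsOpenImmersion).comp_mem _ _
      ((AlgSp.repWith_yon_map_iff @IsOpenImmersion _).2 (inferInstanceAs (IsOpenImmersion U₂.ι))) ha₁
  · exact (AlgSp.RepWith @IsOpenImmersion).comp_mem _ _
      ((AlgSp.repWith_yon_map_iff @IsOpenImmersion _).2 (inferInstanceAs (IsOpenImmersion V.ι))) hb₀
  · have h1 := (isPullback_resMap q₂ V).w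
    simp only [Category.assoc] at hc₁ ⊢
    rw [hc₁, ← Category.assoc ((AlgSp.yon S).map (resHom U₁ U₂)), ← Functor.map_comp,
      ← Category.assoc, ← Category.assoc, h1]

include hXi hYi hft hd hx hy in
/-- (5) ⇒ (6). -/
theorem exists_affine_open_finite_of_unique
    (hsq : AlgSp.IsSeparatedMor f.hom ∨ AlgSp.IsQuasiCompactMor f.hom)
    (huniq : ∀ x' : AlgSp.Points X.obj, AlgSp.Points.map f.hom x' = y → x' = x) :
    ∃ (V : Over S) (b : (AlgSp.yon S).obj V ⟶ Y.obj) (U : Over S) (g : U ⟶ V) (a : (AlgSp.yon S).obj U ⟶ X.obj),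
      IsAffine V.left ∧ Nonempty ↥V.left ∧ AlgSp.RepWith @IsOpenImmersion b ∧
        IsPullback a ((AlgSp.yon S).map g) f.hom b ∧ IsAffine U.left ∧ IsFinite g.left := by
  have hfx := map_generic hYi f hd x hx y hy
  have hX0 : {x' : AlgSp.Points X.obj |
      AlgSp.HasAt (fun U u => ringKrullDim ↥(U.presheaf.stalk u) = 0) X.obj x'}.Finite := by
    refine (Set.finite_singleton x).subset ?_
    intro x' hx'
    exact (hasAt_dimZero_iff_eq_generic hXi x hx x').1 hx'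
  have hY0 : {y' : AlgSp.Points Y.obj |
      AlgSp.HasAt (fun U u => ringKrullDim ↥(U.presheaf.stalk u) = 0) Y.obj y'}.Finite := by
    refine (Set.finite_singleton y).subset ?_
    intro y' hy'
    exact (hasAt_dimZero_iff_eq_generic hYi y hy y').1 hy'
  have hpre : ∀ x' : AlgSp.Points X.obj,
      AlgSp.HasAt (fun U u => ringKrullDim ↥(U.presheaf.stalk u) = 0) X.obj x' ↔
        AlgSp.HasAt (fun U u => ringKrullDim ↥(U.presheaf.stalk u) = 0) Y.obj (AlgSp.Points.map f.hom x') := by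
    intro x'
    rw [hasAt_dimZero_iff_eq_generic hXi x hx, hasAt_dimZero_iff_eq_generic hYi y hy]
    exact ⟨fun h => by rw [h, hfx], huniq x'⟩
  obtain ⟨V₀, X', j, fst, snd, hj, hdense, sq, hfin⟩ :=
    exists_dense_open_finite f hft hYi.2.1 hX0 hY0 hpre hsq.symm
  have hV₀dec : AlgSp.IsDecent V₀.obj := Groth.Agent.S10351.result j hj.1 hYi.2.1
  have hne : Nonempty (AlgSp.Points V₀.obj) := by
    obtain ⟨_, -, ⟨z, rfl⟩⟩ := hdense.inter_open_nonempty Set.univ isOpen_univ ⟨y, trivial⟩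
    exact ⟨z⟩
  obtain ⟨V, c, hVaff, hVne, hc⟩ := exists_nonempty_affine_open V₀ hV₀dec hne
  obtain ⟨W, w, fst', sq', hWaff, hwfin⟩ := hfin hVaff c
  refine ⟨V, c ≫ j.hom, W, w, fst' ≫ snd.hom, hVaff, hVne,
    (AlgSp.RepWith @IsOpenImmersion).comp_mem _ _ hc hj, ?_, hWaff, hwfin⟩
  exact (sq'.flip.paste_vert sq).flip

include hXi hYi hft hd hx hy in
/-- an alteration has a unique point over the generic point. -/
theorem unique_of_alteration (V : AlgSp.Space S) (j : V ⟶ Y) (hj : AlgSp.RepWith @IsOpenImmersion j.hom)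
    (hne : Nonempty (AlgSp.Points V.obj))
    (hfin : ∀ (P : AlgSp.Space S) (fst : P ⟶ V) (snd : P ⟶ X), IsPullback fst.hom snd.hom j.hom f.hom →
      AlgSp.IsFiniteMor fst.hom) :
    ∀ x' : AlgSp.Points X.obj, AlgSp.Points.map f.hom x' = y → x' = x := by
  obtain ⟨P, fst, snd, sq⟩ := Groth.Agent.Lib.Seat45.Where.exists_pullback j f
  have hfinm := hfin P fst snd sq
  have hVdec : AlgSp.IsDecent V.obj := Groth.Agent.S10351.result j hj.1 hYi.2.1
  obtain ⟨V', c, hV'aff, hV'ne, hc⟩ := exists_nonempty_affine_open V hVdec hne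
  obtain ⟨W, w, fst', sq', -, hwfin⟩ := hfinm hV'aff c
  haveI := hwfin
  exact unique_of_affine_open_finite hXi hYi f hft hd x hx y hy (c ≫ j.hom) w (fst' ≫ snd.hom) hV'ne
    ((AlgSp.RepWith @IsOpenImmersion).comp_mem _ _ hc hj) (sq'.flip.paste_vert sq).flip

include hXi hYi hft hd hx hy in
/-- conversely, for `f` separated or quasi-compact. -/
theorem exists_alteration_of_unique (hsq : AlgSp.IsSeparatedMor f.hom ∨ AlgSp.IsQuasiCompactMor f.hom)
    (huniq : ∀ x' : AlgSp.Points X.obj, AlgSp.Points.map f.hom x' = y → x' = x) :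
    ∃ (V : AlgSp.Space S) (j : V ⟶ Y), AlgSp.RepWith @IsOpenImmersion j.hom ∧ Nonempty (AlgSp.Points V.obj) ∧
      ∀ (P : AlgSp.Space S) (fst : P ⟶ V) (snd : P ⟶ X), IsPullback fst.hom snd.hom j.hom f.hom →
        AlgSp.IsFiniteMor fst.hom := by
  obtain ⟨V, b, U, g, a, hVaff, ⟨v⟩, hb, sq, hUaff, hgfin⟩ :=
    exists_affine_open_finite_of_unique hXi hYi f hft hd x hx y hy hsq huniq
  refine ⟨⟨(AlgSp.yon S).obj V, AlgSp.IsAlgSpace.yon_obj V⟩, ObjectProperty.homMk b, hb,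
    ⟨AlgSp.Points.ofPt (𝟙 _) v⟩, ?_⟩
  intro P fst snd sqP
  have sqP' : IsPullback snd.hom fst.hom f.hom b := sqP.flip
  have e1 : (sqP'.isoIsPullback _ _ sq).hom ≫ (AlgSp.yon S).map g = fst.hom :=
    IsPullback.isoIsPullback_hom_snd _ _ sqP' sq
  rw [← e1]
  exact Groth.Agent.S10018.isFiniteMor_of_repWith_isFinite _
    ((MorphismProperty.cancel_left_of_respectsIso (AlgSp.RepWith @IsFinite) _ _).2
      ((AlgSp.repWith_yon_map_iff @IsFinite g).2 hgfin))

end Core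

end Groth.Agent.Lib.Seat45.IntSp
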