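import Mathlib
import Groth.Prelude.Def_AlgSp
import Groth.Agent.S10212
import Groth.Agent.S10261
import Groth.Agent.S10176
import Groth.Agent.S10177
import Groth.Agent.S10555
import Groth.Agent.Lib.Seat45FinEtQuot
import Groth.Agent.Lib.Helper12ZarGlue
import Groth.Agent.Lib.Helper12ZarGlue2

/-!
# Algebraic spaces locally quasi-finite over a locally Artinian scheme are schemes (seat 45)
-/

set_option autoImplicit false
set_option linter.style.haveILetI false
universe u
open CategoryTheory CategoryTheory.Limits AlgebraicGeometry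

namespace Groth.Agent.Lib.Seat45.LqfArt

open Groth.Agent.Lib.Seat46.FieldQuot Groth.Agent.Lib.Seat45.FinEtQuot

section Sch

/-- every morphism from a finite scheme is quasi-compact. -/
lemma quasiCompact_of_finite {T Y : Scheme.{u}} [Finite ↥T] (c : T ⟶ Y) : QuasiCompact c :=
  ⟨fun _ _ _ => (Set.toFinite _).isCompact⟩

/-- a scheme quasi-finite over a finite locally Artinian scheme is finite (as a set). -/
lemma finite_of_lqf {T Y : Scheme.{u}} (c : T ⟶ Y) [LocallyQuasiFinite c] [QuasiCompact c]
    [Finite ↥Y] : Finite ↥T := by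
  rw [← Set.finite_univ_iff]
  refine Set.Finite.of_finite_fibers c (Set.toFinite _) fun y _ => ?_
  exact (c.finite_preimage_singleton y).subset Set.inter_subset_right

end Sch

section Sp

variable {S : Scheme.{u}} {X : AlgSp.Sp S} {Y : Over S}

/-- the kernel pair of an etale one-point chart of a space quasi-finite over a locally Artinian
scheme is a finite set. -/
lemma finite_kernelPair [IsLocallyArtinian Y.left] {W : Over S} [Subsingleton ↥W.left]
    [IsLocallyArtinian W.left]
    (f : X ⟶ (AlgSp.yon S).obj Y)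
    (q : (AlgSp.yon S).obj W ⟶ X) (c : W ⟶ Y) [LocallyQuasiFinite c.left]
    (hc : (AlgSp.yon S).map c = q ≫ f)
    {R : Over S} (s t : R ⟶ W)
    (sq : IsPullback ((AlgSp.yon S).map t) ((AlgSp.yon S).map s) q q) :
    Finite ↥R.left := by
  have w : t ≫ c = s ≫ c := by
    apply (AlgSp.yon S).map_injective
    rw [Functor.map_comp, Functor.map_comp, hc, ← Category.assoc, sq.w, Category.assoc]
  have wl : t.left ≫ c.left = s.left ≫ c.left := by
    rw [← Over.comp_left, ← Over.comp_left, w]
  let lam : R.left ⟶ pullback c.left c.left := pullback.lift t.left s.left wl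
  have hcw : c.left ≫ Y.hom = W.hom := Over.w c
  let μ : pullback c.left c.left ⟶ pullback W.hom W.hom :=
    pullback.lift (pullback.fst _ _) (pullback.snd _ _) (by
      have h := pullback.condition (f := c.left) (g := c.left)
      calc pullback.fst c.left c.left ≫ W.hom
          = (pullback.fst c.left c.left ≫ c.left) ≫ Y.hom := by rw [Category.assoc, hcw]
        _ = (pullback.snd c.left c.left ≫ c.left) ≫ Y.hom := by rw [h]
        _ = pullback.snd c.left c.left ≫ W.hom := by rw [Category.assoc, hcw])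
  have hμ1 : μ ≫ pullback.fst W.hom W.hom = pullback.fst _ _ := pullback.lift_fst _ _ _
  have hμ2 : μ ≫ pullback.snd W.hom W.hom = pullback.snd _ _ := pullback.lift_snd _ _ _
  have hl1 : lam ≫ pullback.fst _ _ = t.left := pullback.lift_fst _ _ _
  have hl2 : lam ≫ pullback.snd _ _ = s.left := pullback.lift_snd _ _ _
  have hfac : lam ≫ μ = ι s t := by
    apply pullback.hom_ext
    · rw [Category.assoc, hμ1, hl1]; exact (ι_fst (s := s) (t := t)).symm
    · rw [Category.assoc, hμ2, hl2]; exact (ι_snd (s := s) (t := t)).symm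
  haveI : Mono (ι s t) := mono_ι sq
  haveI : Mono lam := mono_of_mono_fac hfac
  haveI : Finite ↥W.left := Finite.of_subsingleton
  haveI : QuasiCompact c.left := quasiCompact_of_finite c.left
  haveI : Finite ↥(pullback c.left c.left) := finite_of_lqf (pullback.fst c.left c.left)
  exact Finite.of_injective lam lam.injective

/-- an etale one-point chart of a space quasi-finite over a locally Artinian scheme factors
through an open immersion from an affine scheme. -/
theorem exists_open_point (hX : AlgSp.IsAlgSpace X) [IsLocallyArtinian Y.left] {W : Over S}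
    [Subsingleton ↥W.left] [IsLocallyArtinian W.left]
    (f : X ⟶ (AlgSp.yon S).obj Y) (hf : AlgSp.LocP @LocallyQuasiFinite f)
    (q : (AlgSp.yon S).obj W ⟶ X) (hq : AlgSp.RepWith @Etale q) :
    ∃ (V : Over S) (c : W ⟶ V) (m : (AlgSp.yon S).obj V ⟶ X),
      (AlgSp.yon S).map c ≫ m = q ∧ AlgSp.RepWith @IsOpenImmersion m := by
  obtain ⟨R, s, fst, sq0⟩ := hq.1 q
  obtain ⟨t, rfl⟩ := (AlgSp.yon S).map_surjective fst
  haveI : Etale s.left := hq.2 _ _ _ sq0
  obtain ⟨c0, hc0⟩ := (AlgSp.yon S).map_surjective (q ≫ f)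
  haveI : LocallyQuasiFinite c0.left :=
    hf q (𝟙 _) c0 hq (AlgSp.repWith_id _ Y) (by rw [hc0, Category.comp_id])
  haveI : Finite ↥R.left := finite_kernelPair f q c0 hc0 s t sq0
  haveI : IsAffine W.left := inferInstance
  haveI : LocallyQuasiFinite s.left := Groth.Agent.S10555.lqf_of_etale s.left
  haveI : QuasiCompact s.left := quasiCompact_of_finite s.left
  haveI : IsFinite s.left := IsFinite.of_locallyQuasiFinite s.left
  haveI : IsAffine R.left := isAffine_of_isAffineHom s.left
  obtain ⟨M, c, m, hm, hmono, hcfin, hcet, hcsurj⟩ := exists_mono_factor_affine q s t sq0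
  refine ⟨M, c, m, hm, ?_⟩
  haveI := hmono
  haveI := hcet
  haveI := hcsurj
  have hmet : AlgSp.RepWith @Etale m :=
    Groth.Agent.S10212.repWith_etale_of_comp_surjective_etale c m
      (hX.representable_from_yon _) (hm ▸ hq)
  exact Groth.Agent.S10261.repWith_isOpenImmersion_of_mono (AlgSp.IsAlgSpace.yon_obj _) m
    (fun W φ hφ => (AlgSp.RepWith @Etale).comp_mem _ _ hφ hmet)

open Groth.Agent.Lib.Helper12 in
/-- **An algebraic space locally quasi-finite over a locally Artinian scheme is a scheme.** -/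
theorem exists_iso_of_locP_lqf (hX : AlgSp.IsAlgSpace X) [IsLocallyArtinian Y.left]
    (f : X ⟶ (AlgSp.yon S).obj Y) (hf : AlgSp.LocP @LocallyQuasiFinite f) :
    ∃ (W₀ : Over S) (_ : (AlgSp.yon S).obj W₀ ≅ X), IsLocallyArtinian W₀.left := by
  obtain ⟨U, p, hpe, hps⟩ := hX.atlas
  obtain ⟨a, ha⟩ := (AlgSp.yon S).map_surjective (p ≫ f)
  haveI : LocallyQuasiFinite a.left :=
    hf p (𝟙 _) a hpe (AlgSp.repWith_id _ Y) (by rw [ha, Category.comp_id])
  haveI : IsLocallyArtinian U.left := IsLocallyArtinian.of_locallyQuasiFinite a.left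
  haveI : DiscreteTopology ↥U.left := inferInstance
  have key : ∀ u : ↥U.left, ∃ (V : Over S) (m : (AlgSp.yon S).obj V ⟶ X),
      AlgSp.RepWith @IsOpenImmersion m ∧
        AlgSp.Points.ofPt p u ∈ Set.range (AlgSp.Points.map m) := by
    intro u
    let Vu : U.left.Opens := ⟨{u}, isOpen_discrete _⟩
    let W : Over S := Over.mk (Vu.ι ≫ U.hom)
    let ιu : W ⟶ U := Over.homMk Vu.ι rfl
    haveI : Subsingleton ↥W.left := inferInstanceAs (Subsingleton ↥({u} : Set ↥U.left))
    haveI : IsLocallyArtinian W.left := inferInstanceAs (IsLocallyArtinian Vu.toScheme)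
    haveI : IsOpenImmersion ιu.left := inferInstanceAs (IsOpenImmersion Vu.ι)
    have hq : AlgSp.RepWith @Etale ((AlgSp.yon S).map ιu ≫ p) :=
      (AlgSp.RepWith @Etale).comp_mem _ _ ((AlgSp.repWith_yon_map_iff _ _).2 inferInstance) hpe
    obtain ⟨V, c, m, hm, hmo⟩ := exists_open_point hX f hf _ hq
    refine ⟨V, m, hmo, ?_⟩
    refine ⟨AlgSp.Points.ofPt ((AlgSp.yon S).map c) (⟨u, rfl⟩ : Vu.toScheme), ?_⟩
    rw [AlgSp.Points.map_ofPt, hm, Groth.Agent.S10176.ofPt_map_comp]
    rfl
  choose V m hmo hmem using key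
  have hs : ZarGlue.JointlySurjective hmo := by
    intro T g t
    obtain ⟨u, hu⟩ := Groth.Agent.S10177.surjective_ofPt p hps (AlgSp.Points.ofPt g t)
    refine ⟨u, ZarGlue.mem_range_of_mem_range_map (m u) g _ _ ((hmo u).rep.isPullback g) t ?_⟩
    rw [← hu]
    exact hmem u
  obtain ⟨W₀, e₀, -, -, -⟩ := ZarGlue.exists_iso hmo hs
  refine ⟨W₀, e₀, ?_⟩
  obtain ⟨g, hg⟩ := (AlgSp.yon S).map_surjective (e₀.hom ≫ f)
  have he₀ : AlgSp.RepWith @Etale e₀.hom :=
    (AlgSp.RepWith @Etale).of_isIso e₀.hom
  haveI : LocallyQuasiFinite g.left :=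
    hf e₀.hom (𝟙 _) g he₀ (AlgSp.repWith_id _ Y) (by rw [hg, Category.comp_id])
  exact IsLocallyArtinian.of_locallyQuasiFinite g.left

end Sp

end Groth.Agent.Lib.Seat45.LqfArt
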