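import Mathlib
import Groth.Agent.Lib.Seat45LocFinIrr
import Groth.Agent.Lib.Helper14IrrComp

/-!
# Dense opens of a locally Noetherian scheme contain all maximal points (seat 45)
-/

set_option autoImplicit false
set_option linter.style.haveILetI false
universe u
open CategoryTheory AlgebraicGeometry TopologicalSpace

namespace Groth.Agent.Lib.Seat45.LocFinIrr

/-- in a locally Noetherian scheme a dense open subset contains every maximal point (generic point
of an irreducible component). -/
lemma mem_of_dense_open_of_maxPt {U : Scheme.{u}} [IsLocallyNoetherian U] (D : Set ↥U)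
    (hD : IsOpen D) (hDd : Dense D) (η : ↥U) (hη : MaxPt η) : η ∈ D := by
  obtain ⟨_, ⟨O, hO, rfl⟩, hηO, -⟩ := U.isBasis_affineOpens.exists_subset_of_mem_open
    (Set.mem_univ η) isOpen_univ
  haveI : IsNoetherianRing Γ(U, O) := IsLocallyNoetherian.component_noetherian ⟨O, hO⟩
  haveI : NoetherianSpace ↥O := noetherianSpace_of_isAffineOpen O hO
  haveI : QuasiSober ↥O := inferInstanceAs (QuasiSober ↥(Scheme.Opens.toScheme O))
  haveI : T0Space ↥O := inferInstanceAs (T0Space ↥(Scheme.Opens.toScheme O))
  let η' : ↥O := ⟨η, hηO⟩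
  have hη' : MaxPt η' := (maxPt_subtype_iff O.isOpen η').2 hη
  have hZ : closure ({η'} : Set ↥O) ∈ irreducibleComponents ↥O :=
    (Groth.Agent.Lib.Helper14.closure_mem_irreducibleComponents_iff η').2 hη'
  obtain ⟨o, ho, hone, hoZ⟩ :=
    NoetherianSpace.exists_isOpen_nonempty_subset_irreducibleComponent _ hZ
  have ho' : IsOpen (Subtype.val '' o : Set ↥U) := O.isOpen.isOpenMap_subtype_val o ho
  obtain ⟨z, hzo, hzD⟩ := hDd.inter_open_nonempty _ ho' (hone.image _)
  obtain ⟨z', hz'o, rfl⟩ := hzo
  have h1 : η' ⤳ z' := specializes_iff_mem_closure.2 (hoZ hz'o)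
  have h2 : η ⤳ (z' : ↥U) := h1.map continuous_subtype_val
  exact h2.mem_open hD hzD

end Groth.Agent.Lib.Seat45.LocFinIrr
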