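import Mathlib
import Groth.Agent.Lib.Helper3SmDim
import Groth.Agent.Lib.Helper3RelDimFlat
import Groth.Agent.Lib.Helper4DimFormulaU
import Groth.Agent.Lib.Helper4VarDim5

/-!
# Dimension formula for smooth morphisms of locally Noetherian schemes (seat 45)

* `localDim_eq_add_of_smooth`: `dim_x X = dim_{f x} Y + dim_x X_{f x}` for `f` smooth, `X`, `Y` locally Noetherian.
-/

set_option autoImplicit false
universe u

open CategoryTheory AlgebraicGeometry

namespace Groth.Agent.Lib.Seat45.SmDim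

/-- `dim_x X = dim_{f x} Y + dim_x (X_{f x})` for a smooth morphism of locally Noetherian schemes. -/
theorem localDim_eq_add_of_smooth {X Y : Scheme.{u}} [IsLocallyNoetherian X] [IsLocallyNoetherian Y]
    (f : X ⟶ Y) [Smooth f] (x : X) :
    FlatMor.localDim ↥X x = FlatMor.localDim ↥Y (f x) + FlatMor.fibreDimAt f x := by
  obtain ⟨U, hU, V, hV, hxV, e, hstd⟩ := Smooth.exists_isStandardSmooth f x
  obtain ⟨n, hn⟩ := Groth.Agent.Lib.Helper3.SmDim.exists_relDim_of_isStandardSmooth _ hstd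
  have hfib : ∀ z : X, z ∈ V → FlatMor.fibreDimAt f z = (n : WithBot ℕ∞) := fun z hz =>
    Groth.Agent.Lib.Helper3.SmDim.fibreDimAt_eq_of_chart f n z hU hV hz e hn
  let g : V.toScheme ⟶ Y := V.ι ≫ f
  haveI : IsLocallyNoetherian V.toScheme := isLocallyNoetherian_of_isOpenImmersion V.ι
  haveI : Flat g := inferInstance
  haveI : LocallyOfFiniteType g := inferInstance
  have hg : ∀ z : V.toScheme, FlatMor.fibreDimAt g z = (n : WithBot ℕ∞) := fun z => by
    rw [Groth.Agent.Lib.Helper4.DimFormula.fibreDimAt_opens_ι_comp f V z]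
    exact hfib _ z.2
  have key := Groth.Agent.Lib.Helper3.RelDimFlat.localDim_eq_add g n
    ((Groth.Agent.Lib.Helper3.RelDim.hasRelDim_iff_forall_fibreDimAt_eq g n).2 hg) ⟨x, hxV⟩
  have h1 : FlatMor.localDim ↥V.toScheme ⟨x, hxV⟩ = FlatMor.localDim ↥X x :=
    Groth.Agent.Lib.Helper4.VarDim.localDim_eq_of_isOpenEmbedding V.ι.isOpenEmbedding ⟨x, hxV⟩
  rw [← h1, key, hfib x hxV]
  rfl

end Groth.Agent.Lib.Seat45.SmDim
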