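import Mathlib

/-!
# Krull dimension of an open subset of a sober space as a supremum of coheights of points (seat 45)
-/

set_option autoImplicit false
set_option linter.style.haveILetI false

open Topology TopologicalSpace

namespace Groth.Agent.Lib.Seat45.SoberDim

/-- In a sober space, the Krull dimension of an open subset is the supremum of the coheights (for the
specialization order of the whole space) of its points. -/
lemma topologicalKrullDim_opens_eq {P : Type*} [TopologicalSpace P] [QuasiSober P] [T0Space P]
    (O : Opens P) :
    topologicalKrullDim ↥(O : Set P) =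
      ⨆ x : ↥(O : Set P), ((@Order.coheight P (specializationOrder P).toPreorder x.1 : ℕ∞) : WithBot ℕ∞) := by
  have hemb : IsOpenEmbedding (Subtype.val : ↥(O : Set P) → P) := O.isOpen.isOpenEmbedding_subtypeVal
  haveI : QuasiSober ↥(O : Set P) := hemb.quasiSober
  have h1 : topologicalKrullDim ↥(O : Set P) =
      @Order.krullDim ↥(O : Set P) (specializationOrder ↥(O : Set P)).toPreorder :=
    @Order.krullDim_eq_of_orderIso _ _ _ (specializationOrder ↥(O : Set P)).toPreorder
      (irreducibleSetEquivPoints (α := ↥(O : Set P)))
  rw [h1, @Order.krullDim_eq_iSup_coheight _ (specializationOrder ↥(O : Set P)).toPreorder]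
  refine iSup_congr fun x => ?_
  congr 1
  exact (hemb.coheight_eq Subtype.val).symm

end Groth.Agent.Lib.Seat45.SoberDim
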