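import Mathlib.RingTheory.Etale.Field
import Mathlib.RingTheory.Unramified.Locus
import Mathlib.RingTheory.Unramified.LocalRing
import Mathlib.RingTheory.Kaehler.TensorProduct
import Mathlib.RingTheory.SurjectiveOnStalks
import Mathlib.RingTheory.Support
import Mathlib.RingTheory.Flat.FaithfullyFlat.Basic

/-!
# Unramifiedness of a fibre over a maximal ideal versus unramifiedness at the primes of the fibre

For an `A`-algebra `C` of finite type and a maximal ideal `P` of `A`, the fibre algebra
`(A ⧸ P) ⊗[A] C` is formally unramified over `A ⧸ P` if and only if `C` is unramified over `A` at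
every prime of `C` lying over `P`.
-/

set_option autoImplicit false

open TensorProduct

namespace Groth.Agent.Lib.Seat57.EtFibre

/-- the support of a base change of a finite module contains the primes over the support -/
theorem mem_support_baseChange_of_finite {S T : Type*} [CommRing S] [CommRing T] [Algebra S T]
    (M : Type*) [AddCommGroup M] [Module S M] [Module.Finite S M] (q : PrimeSpectrum T)
    (h : q.comap (algebraMap S T) ∈ Module.support S M) :
    q ∈ Module.support T (T ⊗[S] M) := by
  rw [Module.mem_support_iff_nontrivial_residueField_tensorProduct] at h ⊢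
  let φ : (q.comap (algebraMap S T)).asIdeal.ResidueField →+* q.asIdeal.ResidueField :=
    Ideal.ResidueField.map (q.comap (algebraMap S T)).asIdeal q.asIdeal (algebraMap S T)
      (PrimeSpectrum.comap_asIdeal _ _)
  let _ : Algebra (q.comap (algebraMap S T)).asIdeal.ResidueField q.asIdeal.ResidueField :=
    φ.toAlgebra
  have : IsScalarTower S (q.comap (algebraMap S T)).asIdeal.ResidueField
      q.asIdeal.ResidueField := by
    refine IsScalarTower.of_algebraMap_eq (fun s => ?_)
    rw [RingHom.algebraMap_toAlgebra]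
    change _ = Ideal.ResidueField.map _ _ _ _ _
    rw [Ideal.ResidueField.map_algebraMap]
    rw [← IsScalarTower.algebraMap_apply]
  let e1 := AlgebraTensorModule.cancelBaseChange S (q.comap (algebraMap S T)).asIdeal.ResidueField
    q.asIdeal.ResidueField q.asIdeal.ResidueField M
  let e2 := AlgebraTensorModule.cancelBaseChange S T
    q.asIdeal.ResidueField q.asIdeal.ResidueField M
  have : Nontrivial (q.asIdeal.ResidueField ⊗[(q.comap (algebraMap S T)).asIdeal.ResidueField]
      ((q.comap (algebraMap S T)).asIdeal.ResidueField ⊗[S] M)) :=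
    Module.FaithfullyFlat.lTensor_nontrivial _ _ _
  exact (e2.toEquiv.nontrivial_congr).mpr ((e1.toEquiv.nontrivial_congr).mp this)

/-- unramifiedness at a prime descends along arbitrary base change (finite type case) -/
theorem isUnramifiedAt_of_baseChange_of_finiteType (R S R' T : Type*) [CommRing R] [CommRing S]
    [CommRing R'] [CommRing T]
    [Algebra R S] [Algebra R R'] [Algebra R T] [Algebra S T] [Algebra R' T]
    [IsScalarTower R S T] [IsScalarTower R R' T] [Algebra.IsPushout R R' S T]
    [Algebra.FiniteType R S]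
    (q : Ideal T) [q.IsPrime]
    (hq : Algebra.IsUnramifiedAt R' q) :
    Algebra.IsUnramifiedAt R (q.comap (algebraMap S T)) := by
  let qq : PrimeSpectrum T := ⟨q, inferInstance⟩
  have h1 : qq ∈ Algebra.unramifiedLocus R' T := hq
  rw [Algebra.unramifiedLocus_eq_compl_support] at h1
  have e := KaehlerDifferential.tensorKaehlerEquiv R R' S T
  rw [← e.support_eq] at h1
  have h2 : qq.comap (algebraMap S T) ∈ Algebra.unramifiedLocus R S := by
    rw [Algebra.unramifiedLocus_eq_compl_support]
    intro h
    exact h1 (mem_support_baseChange_of_finite _ qq h)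
  exact h2

variable {A C : Type*} [CommRing A] [CommRing C] [Algebra A C]

attribute [local instance] Algebra.TensorProduct.rightAlgebra

/-- If `C` is unramified over `A` at `q`, then `(A ⧸ P) ⊗[A] C` is unramified over `A ⧸ P` at every
prime contracting to `q`. -/
theorem isUnramifiedAt_quotient_tensor (P : Ideal A) (q : Ideal C) [q.IsPrime]
    [Algebra.IsUnramifiedAt A q]
    (Q' : Ideal ((A ⧸ P) ⊗[A] C)) [Q'.IsPrime]
    (hQ' : q = Q'.comap Algebra.TensorProduct.includeRight.toRingHom) :
    Algebra.IsUnramifiedAt (A ⧸ P) Q' := by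
  let f₀ : Localization.AtPrime q →ₐ[A] Localization.AtPrime Q' :=
    Localization.localAlgHom q Q' _ hQ'
  have hf₀ : Function.Surjective f₀ := by
    subst hQ'
    exact (RingHom.surjectiveOnStalks_of_surjective
      (Ideal.Quotient.mk_surjective (I := P))).baseChange' _ _
  let f : (A ⧸ P) ⊗[A] (Localization.AtPrime q) →ₐ[A ⧸ P] Localization.AtPrime Q' :=
    Algebra.TensorProduct.lift (Algebra.ofId _ _) f₀ fun _ _ ↦ .all _ _
  have hf : Function.Surjective f := hf₀.forall.mpr fun x ↦ ⟨1 ⊗ₜ x, by simp [f]⟩
  exact .of_surjective _ hf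

/-- For every prime `q` of `C` containing the image of `P` there is a prime of the fibre
`(A ⧸ P) ⊗[A] C` contracting to `q`. -/
theorem exists_prime_fibre_comap_eq (P : Ideal A) (q : Ideal C) [q.IsPrime]
    (hq : P ≤ q.comap (algebraMap A C)) :
    ∃ Q' : Ideal ((A ⧸ P) ⊗[A] C), Q'.IsPrime ∧
      Q'.comap (algebraMap C ((A ⧸ P) ⊗[A] C)) = q := by
  let g : (A ⧸ P) →ₐ[A] (C ⧸ q) :=
    Ideal.Quotient.liftₐ P (Algebra.ofId A (C ⧸ q)) (fun a ha => by
      have : algebraMap A C a ∈ q := hq ha
      rw [Algebra.ofId_apply, IsScalarTower.algebraMap_apply A C (C ⧸ q),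
        Ideal.Quotient.algebraMap_eq, Ideal.Quotient.eq_zero_iff_mem]
      exact this)
  let χ : (A ⧸ P) ⊗[A] C →ₐ[A] (C ⧸ q) :=
    Algebra.TensorProduct.lift g (IsScalarTower.toAlgHom A C (C ⧸ q)) (fun _ _ => Commute.all _ _)
  refine ⟨RingHom.ker χ.toRingHom, RingHom.ker_isPrime _, ?_⟩
  ext c
  rw [Ideal.mem_comap, RingHom.mem_ker]
  show χ ((1 : A ⧸ P) ⊗ₜ[A] c) = 0 ↔ _
  simp [χ, Ideal.Quotient.eq_zero_iff_mem]

/-- For an `A`-algebra `C` of finite type and a maximal ideal `P` of `A`, the fibre
`(A ⧸ P) ⊗[A] C` is formally unramified over `A ⧸ P` iff `C` is unramified over `A` at all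
primes over `P`. -/
theorem formallyUnramified_fibre_iff [Algebra.FiniteType A C] (P : Ideal A) [P.IsMaximal] :
    Algebra.FormallyUnramified (A ⧸ P) ((A ⧸ P) ⊗[A] C) ↔
      ∀ (q : Ideal C) [q.IsPrime], q.LiesOver P → Algebra.IsUnramifiedAt A q := by
  constructor
  · intro H q _ hqP
    obtain ⟨Q', hQ'p, hQ'⟩ := exists_prime_fibre_comap_eq P q (hqP.over.le)
    have h1 : Algebra.IsUnramifiedAt (A ⧸ P) Q' :=
      Algebra.formallyUnramified_iff_forall.mp H ⟨Q', hQ'p⟩
    have h2 := isUnramifiedAt_of_baseChange_of_finiteType A C (A ⧸ P) ((A ⧸ P) ⊗[A] C) Q' h1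
    subst hQ'
    exact h2
  · intro H
    rw [Algebra.formallyUnramified_iff_forall]
    intro Q'
    let q : Ideal C := Q'.asIdeal.comap Algebra.TensorProduct.includeRight.toRingHom
    have hqp : q.IsPrime := Ideal.comap_isPrime _ _
    have hle : P ≤ q.comap (algebraMap A C) := by
      intro a ha
      rw [Ideal.mem_comap, Ideal.mem_comap]
      have : (Algebra.TensorProduct.includeRight.toRingHom (algebraMap A C a) :
          (A ⧸ P) ⊗[A] C) = 0 := by
        show (1 : A ⧸ P) ⊗ₜ[A] (algebraMap A C a) = 0
        rw [Algebra.algebraMap_eq_smul_one, ← TensorProduct.smul_tmul,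
          ← Algebra.algebraMap_eq_smul_one, Ideal.Quotient.algebraMap_eq,
          Ideal.Quotient.eq_zero_iff_mem.mpr ha, TensorProduct.zero_tmul]
      rw [this]
      exact Ideal.zero_mem _
    have hlies : q.LiesOver P := by
      refine ⟨?_⟩
      have hne : q.comap (algebraMap A C) ≠ ⊤ := (Ideal.comap_isPrime _ _).ne_top
      exact (Ideal.IsMaximal.eq_of_le inferInstance hne hle)
    have := H q hlies
    exact isUnramifiedAt_quotient_tensor P q Q'.asIdeal rfl

end Groth.Agent.Lib.Seat57.EtFibre
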