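import Mathlib
import Groth.Agent.Lib.Seat57EtFibre

/-!
# Unramified at a point, for morphisms of schemes (seat 45)

`UnrSt h u`: the stalk map of `h` at `u` is formally unramified.  For `h` locally of finite type this is the
same as `h` being unramified on an open neighbourhood of `u` (`nbhd_iff_unrSt`); it is étale local on the
source and target (`unrSt_etale_local`), the locus is open (`isOpen_unrSt`) and commutes with arbitrary base
change (`unrSt_iff_of_isPullback`).
-/

set_option autoImplicit false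
set_option linter.style.haveILetI false
universe u

open CategoryTheory CategoryTheory.Limits AlgebraicGeometry

namespace Groth.Agent.Lib.Seat45.Unram

/-- The stalk map of `h` at `u` is formally unramified. -/
def UnrSt {U V : Scheme.{u}} (h : U ⟶ V) (u : ↥U) : Prop := (h.stalkMap u).hom.FormallyUnramified

set_option backward.isDefEq.respectTransparency false in
lemma unrSt_comp_right_iff {U V V₁ : Scheme.{u}} (h : U ⟶ V) (b : V ⟶ V₁) [FormallyUnramified b]
    (u : ↥U) : UnrSt (h ≫ b) u ↔ UnrSt h u := by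
  unfold UnrSt
  rw [Scheme.Hom.stalkMap_comp, CommRingCat.hom_comp]
  exact ⟨fun H => RingHom.FormallyUnramified.of_comp H,
    fun H => RingHom.FormallyUnramified.comp (FormallyUnramified.stalkMap b (h u)) H⟩

section Ring

open TensorProduct

/-- Formal unramifiedness descends along a faithfully flat formally étale extension of the top ring. -/
lemma formallyUnramified_of_formallyEtale_of_faithfullyFlat (A B C : Type*) [CommRing A] [CommRing B]
    [CommRing C] [Algebra A B] [Algebra B C] [Algebra A C] [IsScalarTower A B C]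
    [Algebra.FormallyEtale B C] [Module.FaithfullyFlat B C] [Algebra.FormallyUnramified A C] :
    Algebra.FormallyUnramified A B := by
  rw [Algebra.formallyUnramified_iff]
  have e := KaehlerDifferential.tensorKaehlerEquivOfFormallyEtale A B C
  have h1 : Subsingleton (Ω[C⁄A]) := (Algebra.formallyUnramified_iff A C).1 inferInstance
  have h2 : Subsingleton (C ⊗[B] Ω[B⁄A]) := e.toEquiv.subsingleton
  exact Module.FaithfullyFlat.lTensor_reflects_triviality B C _

end Ring

set_option backward.isDefEq.respectTransparency false in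
lemma unrSt_comp_left_iff {U' U V : Scheme.{u}} (a : U' ⟶ U) [Etale a] (h : U ⟶ V) (u' : ↥U') :
    UnrSt (a ≫ h) u' ↔ UnrSt h (a u') := by
  unfold UnrSt
  rw [Scheme.Hom.stalkMap_comp, CommRingCat.hom_comp]
  constructor
  · intro H
    have hfl : (a.stalkMap u').hom.Flat := Flat.stalkMap a u'
    have hun : (a.stalkMap u').hom.FormallyUnramified := FormallyUnramified.stalkMap a u'
    have hsm : (a.stalkMap u').hom.FormallySmooth := by
      have := a.smoothLocus_eq_top
      exact (this ▸ (trivial : u' ∈ (⊤ : U'.Opens)) : u' ∈ a.smoothLocus)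
    have hloc : IsLocalHom (a.stalkMap u').hom := inferInstance
    algebraize [(h.stalkMap (a u')).hom, (a.stalkMap u').hom,
      (a.stalkMap u').hom.comp (h.stalkMap (a u')).hom]
    haveI : Algebra.FormallyEtale (U.presheaf.stalk (a u')) (U'.presheaf.stalk u') :=
      Algebra.FormallyEtale.of_formallyUnramified_and_formallySmooth
    haveI : IsLocalHom (algebraMap (U.presheaf.stalk (a u')) (U'.presheaf.stalk u')) := hloc
    haveI : Module.FaithfullyFlat (U.presheaf.stalk (a u')) (U'.presheaf.stalk u') :=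
      Module.FaithfullyFlat.of_flat_of_isLocalHom
    haveI : Algebra.FormallyUnramified (V.presheaf.stalk (h (a u'))) (U'.presheaf.stalk u') := H
    exact formallyUnramified_of_formallyEtale_of_faithfullyFlat (V.presheaf.stalk (h (a u')))
      (U.presheaf.stalk (a u')) (U'.presheaf.stalk u')
  · intro H
    exact RingHom.FormallyUnramified.comp H (FormallyUnramified.stalkMap a u')

/-- `UnrSt` is étale local on the source and target. -/
lemma unrSt_etale_local {U U' V V' : Scheme.{u}} (h : U ⟶ V) (h' : U' ⟶ V') (a : U' ⟶ U) (b : V' ⟶ V)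
    [Etale a] [Etale b] (comm : h' ≫ b = a ≫ h) (u' : ↥U') : UnrSt h (a u') ↔ UnrSt h' u' := by
  rw [← unrSt_comp_left_iff a h u', ← comm, unrSt_comp_right_iff]

/-- `UnrSt` read on affine opens: the analogue of Mathlib's `formallySmooth_stalkMap_iff`. -/
lemma unrSt_iff_mem_unramifiedLocus {X Y : Scheme.{u}} {f : X ⟶ Y} {x : ↥X} (U : Y.Opens)
    (hU : IsAffineOpen U) (V : X.Opens) (hV : IsAffineOpen V) (hVU : V ≤ f ⁻¹ᵁ U) (hx : x ∈ V) :
    letI := (f.appLE U V hVU).hom.toAlgebra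
    UnrSt f x ↔ hV.primeIdealOf ⟨x, hx⟩ ∈ Algebra.unramifiedLocus Γ(Y, U) Γ(X, V) := by
  let := (f.appLE U V hVU).hom.toAlgebra
  let p := (hU.primeIdealOf ⟨f x, hVU hx⟩).asIdeal
  let q := (hV.primeIdealOf ⟨x, hx⟩).asIdeal
  have : q.LiesOver p :=
    ⟨congr($(IsAffineOpen.comap_primeIdealOf_appLE U hU V hV hVU hx).1).symm⟩
  let := Localization.AtPrime.algebraOfLiesOver p q
  trans Algebra.FormallyUnramified (Localization.AtPrime p) (Localization.AtPrime q)
  · rw [← RingHom.formallyUnramified_algebraMap]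
    exact RingHom.FormallyUnramified.respectsIso.arrow_mk_iso_iff
      (IsAffineOpen.arrowStalkMapIso f U hU V hV hVU hx)
  · exact ⟨fun _ => Algebra.FormallyUnramified.comp _ (Localization.AtPrime p) _,
      fun (_ : Algebra.FormallyUnramified Γ(Y, U) (Localization.AtPrime q)) =>
        Algebra.FormallyUnramified.of_restrictScalars Γ(Y, U) _ _⟩

/-- The unramified locus of a morphism locally of finite type is open. -/
lemma isOpen_unrSt {X Y : Scheme.{u}} (h : X ⟶ Y) [LocallyOfFiniteType h] : IsOpen {x | UnrSt h x} := by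
  refine isOpen_iff_forall_mem_open.mpr fun x hx => ?_
  obtain ⟨_, ⟨U, hU, rfl⟩, hxU, -⟩ :=
    Y.isBasis_affineOpens.exists_subset_of_mem_open (Set.mem_univ (h x)) isOpen_univ
  obtain ⟨_, ⟨V, hV, rfl⟩, hxV, hVU⟩ :=
    X.isBasis_affineOpens.exists_subset_of_mem_open hxU (U.2.preimage h.continuous)
  have hft := h.finiteType_appLE hU hV hVU
  algebraize [(h.appLE U V hVU).hom]
  let T : Set ↥V := (fun y : ↥V => hV.primeIdealOf y) ⁻¹' Algebra.unramifiedLocus Γ(Y, U) Γ(X, V)
  have hT : IsOpen T :=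
    Algebra.isOpen_unramifiedLocus.preimage hV.isoSpec.hom.continuous
  refine ⟨Subtype.val '' T, ?_, V.2.isOpenMap_subtype_val _ hT, ⟨⟨x, hxV⟩, ?_, rfl⟩⟩
  · rintro _ ⟨y, hy, rfl⟩
    exact (unrSt_iff_mem_unramifiedLocus U hU V hV hVU y.2).2 hy
  · exact (unrSt_iff_mem_unramifiedLocus U hU V hV hVU hxV).1 hx

/-- For `h` locally of finite type, `h` is unramified on an open neighbourhood of `u` iff the stalk map at `u`
is formally unramified. -/
lemma nbhd_iff_unrSt {U V : Scheme.{u}} (h : U ⟶ V) [LocallyOfFiniteType h] (u : ↥U) :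
    (∃ W : U.Opens, u ∈ W ∧ LocallyOfFiniteType (W.ι ≫ h) ∧ FormallyUnramified (W.ι ≫ h)) ↔
      UnrSt h u := by
  constructor
  · rintro ⟨W, hu, _, hW⟩
    exact (unrSt_comp_left_iff W.ι h ⟨u, hu⟩).1 (FormallyUnramified.stalkMap (W.ι ≫ h) ⟨u, hu⟩)
  · intro hu
    refine ⟨⟨{w | UnrSt h w}, isOpen_unrSt h⟩, hu, inferInstance, ?_⟩
    exact HasRingHomProperty.of_stalkMap RingHom.FormallyUnramified.ofLocalizationPrime
      (fun w => (unrSt_comp_left_iff _ h w).2 w.2)

/-- Unramifiedness at a point descends along arbitrary base change (for `h` locally of finite type). -/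
lemma unrSt_of_isPullback {U' U V' V : Scheme.{u}} {α : U' ⟶ U} {h' : U' ⟶ V'} {h : U ⟶ V} {β : V' ⟶ V}
    (sq : IsPullback α h' h β) [LocallyOfFiniteType h] (u' : ↥U') (H : UnrSt h' u') :
    UnrSt h (α u') := by
  obtain ⟨_, ⟨V₀, hV₀, rfl⟩, hxV₀, -⟩ :=
    V.isBasis_affineOpens.exists_subset_of_mem_open (Set.mem_univ (h (α u'))) isOpen_univ
  obtain ⟨_, ⟨U₀, hU₀, rfl⟩, hxU₀, hUV⟩ :=
    U.isBasis_affineOpens.exists_subset_of_mem_open hxV₀ (V₀.2.preimage h.continuous)
  have hx' : h' u' ∈ (β ⁻¹ᵁ V₀ : Set ↥V') := by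
    change β (h' u') ∈ V₀
    rw [← Scheme.Hom.comp_apply, ← sq.w, Scheme.Hom.comp_apply]
    exact hxV₀
  obtain ⟨_, ⟨V₀', hV₀', rfl⟩, hxV₀', hV'V⟩ :=
    V'.isBasis_affineOpens.exists_subset_of_mem_open hx' (V₀.2.preimage β.continuous)
  obtain ⟨UY, hUY⟩ : ∃ UY : U'.Opens, UY = α ⁻¹ᵁ U₀ ⊓ h' ⁻¹ᵁ V₀' := ⟨_, rfl⟩
  have hu'Y : u' ∈ UY := by rw [hUY]; exact ⟨hxU₀, hxV₀'⟩
  have hYU : UY ≤ α ⁻¹ᵁ U₀ := by rw [hUY]; exact inf_le_left
  have hYV : UY ≤ h' ⁻¹ᵁ V₀' := by rw [hUY]; exact inf_le_right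
  haveI : IsAffine (Scheme.Opens.toScheme (X := V) V₀) := hV₀
  haveI : IsAffine (Scheme.Opens.toScheme (X := V') V₀') := hV₀'
  haveI : IsAffine (Scheme.Opens.toScheme (X := U) U₀) := hU₀
  have hUYaff : IsAffineOpen UY :=
    .of_isIso (Scheme.Hom.isPullback_resLE sq hV'V hUV hUY).isoPullback.hom
  have hpo : IsPushout (h.appLE V₀ U₀ hUV) (β.appLE V₀ V₀' hV'V) (α.appLE U₀ UY hYU)
      (h'.appLE V₀' UY hYV) :=
    (isIso_pushoutSection_iff sq hV'V hUV hUY).1
      (isIso_pushoutSection_of_isAffineOpen sq hV'V hUV hUY hV₀ hV₀' hU₀)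
  have hft := h.finiteType_appLE hV₀ hU₀ hUV
  algebraize [(h.appLE V₀ U₀ hUV).hom, (β.appLE V₀ V₀' hV'V).hom, (α.appLE U₀ UY hYU).hom,
    (h'.appLE V₀' UY hYV).hom, (α.appLE U₀ UY hYU).hom.comp (h.appLE V₀ U₀ hUV).hom]
  haveI : IsScalarTower Γ(V, V₀) Γ(V', V₀') Γ(U', UY) := by
    refine IsScalarTower.of_algebraMap_eq' ?_
    simp only [RingHom.algebraMap_toAlgebra, ← CommRingCat.hom_comp]
    exact congrArg _ hpo.w
  haveI : Algebra.IsPushout Γ(V, V₀) Γ(V', V₀') Γ(U, U₀) Γ(U', UY) :=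
    CommRingCat.isPushout_iff_isPushout.1 hpo.flip
  have hq : Algebra.IsUnramifiedAt Γ(V', V₀') (hUYaff.primeIdealOf ⟨u', hu'Y⟩).asIdeal :=
    (unrSt_iff_mem_unramifiedLocus V₀' hV₀' UY hUYaff hYV hu'Y).1 H
  have key := Groth.Agent.Lib.Seat57.EtFibre.isUnramifiedAt_of_baseChange_of_finiteType Γ(V, V₀) Γ(U, U₀)
    Γ(V', V₀') Γ(U', UY) (hUYaff.primeIdealOf ⟨u', hu'Y⟩).asIdeal hq
  refine (unrSt_iff_mem_unramifiedLocus V₀ hV₀ U₀ hU₀ hUV hxU₀).2 ?_
  have hcomap := IsAffineOpen.comap_primeIdealOf_appLE U₀ hU₀ UY hUYaff hYU hu'Y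
  rw [← hcomap]
  exact key

/-- `h` is unramified (locally of finite type and formally unramified) on an open neighbourhood of `u`. -/
def UnrNear (U V : Scheme.{u}) (h : U ⟶ V) (u : ↥U) : Prop :=
  ∃ W : U.Opens, u ∈ W ∧ LocallyOfFiniteType (W.ι ≫ h) ∧ FormallyUnramified (W.ι ≫ h)

lemma unrNear_iff_unrSt {U V : Scheme.{u}} (h : U ⟶ V) [LocallyOfFiniteType h] (u : ↥U) :
    UnrNear U V h u ↔ UnrSt h u := nbhd_iff_unrSt h u

/-- For morphisms locally of finite type, being unramified near a point is étale local on the source and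
target. -/
lemma unrNear_etale_local {U U' V V' : Scheme.{u}} (h : U ⟶ V) (h' : U' ⟶ V') (a : U' ⟶ U) (b : V' ⟶ V)
    [Etale a] [Etale b] (hh : LocallyOfFiniteType h) (hh' : LocallyOfFiniteType h')
    (comm : h' ≫ b = a ≫ h) (u' : ↥U') : UnrNear U V h (a u') ↔ UnrNear U' V' h' u' := by
  rw [unrNear_iff_unrSt, unrNear_iff_unrSt, unrSt_etale_local h h' a b comm u']

/-- Being unramified near a point is insensitive to arbitrary base change (for `h` locally of finite type). -/
lemma unrNear_baseChange_iff {U' U V' V : Scheme.{u}} {α : U' ⟶ U} {h' : U' ⟶ V'} {h : U ⟶ V} {β : V' ⟶ V}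
    (sq : IsPullback α h' h β) [LocallyOfFiniteType h] (u' : ↥U') :
    UnrNear U' V' h' u' ↔ UnrNear U V h (α u') := by
  haveI : LocallyOfFiniteType h' := MorphismProperty.of_isPullback sq inferInstance
  constructor
  · intro H
    rw [unrNear_iff_unrSt] at H ⊢
    exact unrSt_of_isPullback sq u' H
  · rintro ⟨W, hu, hW1, hW2⟩
    have sqW : IsPullback (α ∣_ W) ((α ⁻¹ᵁ W).ι ≫ h') (W.ι ≫ h) β :=
      (isPullback_morphismRestrict α W).paste_vert sq
    exact ⟨α ⁻¹ᵁ W, hu, MorphismProperty.of_isPullback sqW hW1, MorphismProperty.of_isPullback sqW hW2⟩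

end Groth.Agent.Lib.Seat45.Unram
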