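import Mathlib
import Groth.Agent.Lib.Seat86GenCoverAlg

/-!
# Generators of a finite module from generators on the strata of a closed flag (seat 86)

Pure commutative algebra: let `∅ = Z 0 ⊆ Z 1 ⊆ ⋯ ⊆ Z m = Spec R` be closed subsets such that for every
radical ideal `J` with `V(J) ⊆ Z (k+1) \ Z k` the module `M / J M` is generated by `n` elements.  Then
the finite module `M` is generated by `n * m` elements.
-/

set_option autoImplicit false
universe u

namespace Groth.Agent.Lib.Seat86.GenFlagAlg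

open PrimeSpectrum Groth.Agent.Lib.Seat86.GenCoverAlg

variable {R : Type u} [CommRing R] {M : Type u} [AddCommGroup M] [Module R M]

/-- the hypothesis on a subset `W`: for every radical ideal `J` with `V(J) ⊆ W` the module is generated
by `n` elements modulo `J`. -/
def NearGenRad (n : ℕ) (W : Set (PrimeSpectrum R)) (M : Type u) [AddCommGroup M] [Module R M] : Prop :=
  ∀ J : Ideal R, J.IsRadical → zeroLocus (J : Set R) ⊆ W →
    ∃ t : Fin n → M, Submodule.span R (Set.range t) ⊔ J • (⊤ : Submodule R M) = ⊤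

theorem exists_span_of_flag [Module.Finite R M] (n m : ℕ) (Z : Fin (m + 1) → Set (PrimeSpectrum R))
    (hZ0 : Z 0 = ∅) (hZc : ∀ k, IsClosed (Z k))
    (hgen : ∀ k : Fin m, NearGenRad n (Z k.succ \ Z k.castSucc) M) :
    ∀ (k : ℕ) (hk : k ≤ m), ∃ s : Fin (n * k) → M,
      Disjoint (Z ⟨k, Nat.lt_succ_of_le hk⟩)
        (zeroLocus ((Submodule.span R (Set.range s)).colon (⊤ : Submodule R M) : Set R)) := by
  intro k
  induction k with
  | zero =>
    intro hk
    refine ⟨fun i => (Fin.elim0 (Fin.cast (by simp) i)), ?_⟩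
    have : Z ⟨0, Nat.lt_succ_of_le hk⟩ = ∅ := hZ0
    rw [this]
    exact Set.empty_disjoint _
  | succ k ih =>
    intro hk
    obtain ⟨s', hs'⟩ := ih (Nat.le_of_succ_le hk)
    set N' := Submodule.span R (Set.range s') with hN'
    obtain ⟨IZ, hIZ⟩ := (isClosed_iff_zeroLocus_ideal _).1 (hZc ⟨k + 1, Nat.lt_succ_of_le hk⟩)
    set J : Ideal R := (N'.colon (⊤ : Submodule R M) ⊔ IZ).radical with hJ
    let kk : Fin m := ⟨k, hk⟩
    have e1 : kk.succ = ⟨k + 1, Nat.lt_succ_of_le hk⟩ := rfl
    have e2 : kk.castSucc = ⟨k, Nat.lt_succ_of_le (Nat.le_of_succ_le hk)⟩ := rfl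
    have hJW : zeroLocus (J : Set R) ⊆ Z kk.succ \ Z kk.castSucc := by
      intro x hx
      rw [hJ, zeroLocus_radical, zeroLocus_sup] at hx
      rw [e1, e2]
      refine ⟨by rw [hIZ]; exact hx.2, fun hxZ => ?_⟩
      exact Set.disjoint_left.1 hs' hxZ hx.1
    obtain ⟨t, ht⟩ := hgen kk J (Ideal.radical_isRadical _) hJW
    refine ⟨fun i => Fin.append s' t (Fin.cast (by ring) i), ?_⟩
    have hrange : Set.range (fun i : Fin (n * (k + 1)) => Fin.append s' t (Fin.cast (by ring) i)) =
        Set.range s' ∪ Set.range t := by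
      rw [← range_append s' t]
      ext x
      constructor
      · rintro ⟨i, rfl⟩; exact ⟨_, rfl⟩
      · rintro ⟨i, rfl⟩; exact ⟨Fin.cast (by ring) i, by simp⟩
    rw [hrange, Submodule.span_union]
    set N := Submodule.span R (Set.range s') ⊔ Submodule.span R (Set.range t) with hN
    rw [Set.disjoint_left]
    intro x hxZ hx
    have hx' : N.colon (⊤ : Submodule R M) ≤ x.asIdeal := (mem_zeroLocus _ _).1 hx
    have hN'N : N' ≤ N := le_sup_left
    have hcolon : N'.colon (⊤ : Submodule R M) ≤ N.colon (⊤ : Submodule R M) :=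
      Submodule.colon_mono hN'N subset_rfl
    have hJx : J ≤ x.asIdeal := by
      rw [hJ]
      refine (Ideal.IsPrime.radical_le_iff x.2).2 (sup_le (hcolon.trans hx') ?_)
      rw [hIZ] at hxZ
      exact (mem_zeroLocus _ _).1 hxZ
    have hsup : N ⊔ J • (⊤ : Submodule R M) = ⊤ :=
      top_le_iff.1 (ht.symm.le.trans
        (sup_le_sup_right (le_sup_right : Submodule.span R (Set.range t) ≤ N) _))
    exact not_le_of_sup_smul_eq_top N J hsup x.asIdeal hJx hx'

/-- **Main algebraic result (flag version).** -/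
theorem exists_span_eq_top [Module.Finite R M] (n m : ℕ) (Z : Fin (m + 1) → Set (PrimeSpectrum R))
    (hZ0 : Z 0 = ∅) (hZm : Z (Fin.last m) = Set.univ) (hZc : ∀ k, IsClosed (Z k))
    (hgen : ∀ k : Fin m, NearGenRad n (Z k.succ \ Z k.castSucc) M) :
    ∃ s : Fin (n * m) → M, Submodule.span R (Set.range s) = ⊤ := by
  obtain ⟨s, hs⟩ := exists_span_of_flag n m Z hZ0 hZc hgen m le_rfl
  refine ⟨s, ?_⟩
  have hlast : (⟨m, Nat.lt_succ_of_le le_rfl⟩ : Fin (m + 1)) = Fin.last m := rfl
  rw [hlast, hZm] at hs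
  have h1 : zeroLocus ((Submodule.span R (Set.range s)).colon (⊤ : Submodule R M) : Set R) = ∅ := by
    simpa using hs
  have h2 : (Submodule.span R (Set.range s)).colon (⊤ : Submodule R M) = ⊤ := by
    rwa [zeroLocus_empty_iff_eq_top] at h1
  rw [eq_top_iff]
  intro y _
  have h3 : (1 : R) ∈ (Submodule.span R (Set.range s)).colon (⊤ : Submodule R M) := by
    rw [h2]; trivial
  rw [Submodule.mem_colon] at h3
  simpa using h3 y trivial

end Groth.Agent.Lib.Seat86.GenFlagAlg
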