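import Mathlib
import Groth.Prelude.Def_FlatMod2
import Groth.Prelude.Def_PicLoc
import Groth.Prelude.Def_W4c5algebraiztannakaNis
import Groth.Agent.Lib.Seat86GenCoverSh
import Groth.Agent.Lib.Seat86GenFlagAlg

/-!
# Lifting reduced subschemes through immersions; generators from an epi after pull-back (seat 86)
-/

set_option autoImplicit false
set_option linter.style.haveILetI false
universe u
open CategoryTheory AlgebraicGeometry Limits TensorProduct Opposite

namespace Groth.Agent.Lib.Seat86.GenFlagSh

open Groth.Agent.Lib.Seat86.GenCoverSh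

section lift

/-- a morphism from a reduced scheme whose image lies in the image of a closed immersion factors
through it. -/
theorem exists_lift_closedImmersion {T V S' : Scheme.{u}} (c : T ⟶ V) [IsClosedImmersion c]
    (i : S' ⟶ V) [IsReduced S'] (h : Set.range i.base ⊆ Set.range c.base) :
    ∃ l : S' ⟶ T, l ≫ c = i := by
  have hker : c.ker ≤ i.ker := by
    have h1 : i.ker = Scheme.IdealSheafData.vanishingIdeal (.closure (i.base '' (⊤ : TopologicalSpace.Closeds S'))) := by
      rw [← Scheme.IdealSheafData.map_vanishingIdeal, Scheme.IdealSheafData.vanishingIdeal_top,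
        Scheme.nilradical_eq_bot, Scheme.IdealSheafData.map_bot]
    rw [h1, ← Scheme.IdealSheafData.le_support_iff_le_vanishingIdeal, TopologicalSpace.Closeds.closure_le]
    rw [Scheme.Hom.support_ker]
    simp only [TopologicalSpace.Closeds.coe_top, Set.image_univ]
    exact h.trans subset_closure
  exact ⟨IsClosedImmersion.lift c i hker, IsClosedImmersion.lift_fac c i hker⟩

/-- a morphism from a reduced scheme whose image lies in the image of an immersion factors through it. -/
theorem exists_lift_immersion {T Y S' : Scheme.{u}} (g : T ⟶ Y) [IsImmersion g]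
    (i : S' ⟶ Y) [IsReduced S'] (h : Set.range i.base ⊆ Set.range g.base) :
    ∃ l : S' ⟶ T, l ≫ g = i := by
  have h1 : Set.range i.base ⊆ Set.range g.coborderRange.ι.base := by
    refine h.trans ?_
    rintro _ ⟨t, rfl⟩
    refine ⟨g.liftCoborder.base t, ?_⟩
    rw [← Scheme.Hom.comp_apply, g.liftCoborder_ι]
  let iV : S' ⟶ g.coborderRange := IsOpenImmersion.lift g.coborderRange.ι i h1
  have hiV : iV ≫ g.coborderRange.ι = i := IsOpenImmersion.lift_fac _ _ _
  have h2 : Set.range iV.base ⊆ Set.range g.liftCoborder.base := by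
    rintro _ ⟨x, rfl⟩
    obtain ⟨t, ht⟩ := h ⟨x, rfl⟩
    refine ⟨t, ?_⟩
    apply g.coborderRange.ι.isEmbedding.injective
    have e1 : g.coborderRange.ι.base (g.liftCoborder.base t) = g.base t := by
      rw [← Scheme.Hom.comp_apply, g.liftCoborder_ι]
    have e2 : g.coborderRange.ι.base (iV.base x) = i.base x := by
      rw [← Scheme.Hom.comp_apply, hiV]
    rw [e1, e2, ht]
  obtain ⟨l, hl⟩ := exists_lift_closedImmersion g.liftCoborder iV h2
  refine ⟨l, ?_⟩
  rw [← g.liftCoborder_ι, ← Category.assoc, hl, hiV]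

end lift

section main
variable {R : CommRingCat.{u}} (M : ModuleCat.{u} R)

open Groth.Agent.Lib.Seat86.GenFlagAlg

theorem exists_span_of_factor (n : ℕ) {U' : Scheme.{u}} (f' : U' ⟶ Spec R)
    (φ : FlatMod.freeMod U' n ⟶ (Scheme.Modules.pullback f').obj (tilde M)) [Epi φ]
    (J : Ideal R) (i'' : Spec (CommRingCat.of (R ⧸ J)) ⟶ U')
    (hi : i'' ≫ f' = Spec.map (CommRingCat.ofHom (Ideal.Quotient.mk J))) :
    ∃ t : Fin n → M, Submodule.span R (Set.range t) ⊔ J • (⊤ : Submodule R M) = ⊤ := by
  let A : CommRingCat.{u} := CommRingCat.of (R ⧸ J)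
  let ψ : R ⟶ A := CommRingCat.ofHom (Ideal.Quotient.mk J)
  let e1 : (Scheme.Modules.pullback i'').obj (FlatMod.freeMod U' n) ≅ FlatMod.freeMod (Spec A) n :=
    pullbackFreeIso i'' n
  let e2 : (Scheme.Modules.pullback i'').obj ((Scheme.Modules.pullback f').obj (tilde M)) ≅
      tilde ((ModuleCat.extendScalars ψ.hom).obj M) :=
    (Scheme.Modules.pullbackComp i'' f').app (tilde M) ≪≫
      (Scheme.Modules.pullbackCongr hi).app (tilde M) ≪≫ pullbackTildeObjIso ψ M
  let F : ModuleCat.{u} A := ModuleCat.of A (ULift.{u} (Fin n) →₀ A)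
  let T : ModuleCat.{u} A := (ModuleCat.extendScalars ψ.hom).obj M
  let χ : (tilde.functor A).obj F ⟶ (tilde.functor A).obj T :=
    (tildeFinsuppIsoFreeMod A n).hom ≫ e1.inv ≫ (Scheme.Modules.pullback i'').map φ ≫ e2.hom
  haveI : Epi ((Scheme.Modules.pullback i'').map φ) := inferInstance
  haveI : Epi χ := by
    dsimp only [χ]
    infer_instance
  haveI hfull : (tilde.functor A).Full := (tilde.fullyFaithfulFunctor (R := A)).full
  haveI hfaith : (tilde.functor A).Faithful := (tilde.fullyFaithfulFunctor (R := A)).faithful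
  obtain ⟨g, hg⟩ := (tilde.functor A).map_surjective χ
  haveI : Epi ((tilde.functor A).map g) := by rw [hg]; infer_instance
  haveI : Epi g := (tilde.functor A).epi_of_epi_map inferInstance
  have hsurj : Function.Surjective g.hom := (ModuleCat.epi_iff_surjective g).1 inferInstance
  exact exists_span_sup_smul_eq_top J M n g hsurj

theorem nearGenRad_of_hasSectOver (n : ℕ) {U' : Scheme.{u}} (f : U' ⟶ Spec R)
    (φ : FlatMod.freeMod U' n ⟶ (Scheme.Modules.pullback f).obj (tilde M)) [Epi φ]
    (W : Set (Spec R)) (hW : W4c5algebraiztannaka.HasSectOver f W) :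
    NearGenRad n (W : Set (PrimeSpectrum R)) M := by
  intro J hJrad hJW
  obtain ⟨T, g, s, hg, hrange, hsf⟩ := hW
  haveI : IsReduced (R ⧸ J) := (Ideal.isRadical_iff_quotient_reduced J).1 hJrad
  haveI : IsReduced (Spec (CommRingCat.of (R ⧸ J))) := inferInstance
  let i : Spec (CommRingCat.of (R ⧸ J)) ⟶ Spec R := Spec.map (CommRingCat.ofHom (Ideal.Quotient.mk J))
  have hi : Set.range i.base ⊆ Set.range g.base := by
    rintro _ ⟨y, rfl⟩
    have h1 : i.base y ∈ W := by
      apply hJW
      rw [PrimeSpectrum.mem_zeroLocus]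
      intro x hx
      change (Ideal.Quotient.mk J) x ∈ y.asIdeal
      rw [Ideal.Quotient.eq_zero_iff_mem.2 hx]
      exact zero_mem _
    rw [← hrange] at h1
    exact h1
  obtain ⟨l, hl⟩ := exists_lift_immersion g i hi
  exact exists_span_of_factor M n f φ J (l ≫ s) (by rw [Category.assoc, hsf, hl])

end main

end Groth.Agent.Lib.Seat86.GenFlagSh
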