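import Groth.Agent.Lib.Seat46FieldQuot
import Groth.Agent.Lib.Seat86GenFlagSh

/-!
# Quotients of affine schemes by finite etale equivalence relations inside a sheaf; finiteness through a
surjective closed immersion (seat 46)
-/

set_option autoImplicit false
universe u
open CategoryTheory CategoryTheory.Limits AlgebraicGeometry

namespace Groth.Agent.Lib.Seat46.AffQuot

open Groth.Agent.Lib.Seat46.FieldQuot

variable {S : Scheme.{u}} {X : AlgSp.Sp S}

open Groth.Agent.Lib.Helper9 in
/-- **Quotient of an affine scheme by a finite etale equivalence relation.** If the kernel pair of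
`p : h_U ⟶ X` is an affine scheme finite etale over the affine scheme `U`, then `p` factors as a finite
etale surjective map of schemes followed by a monomorphism. -/
theorem exists_mono_factor_affine {U R : Over S} [IsAffine U.left] [IsAffine R.left]
    (p : (AlgSp.yon S).obj U ⟶ X) (s t : R ⟶ U)
    (sq : IsPullback ((AlgSp.yon S).map t) ((AlgSp.yon S).map s) p p)
    [Etale s.left] [IsFinite s.left] :
    ∃ (M : Over S) (c : U ⟶ M) (m : (AlgSp.yon S).obj M ⟶ X),
      (AlgSp.yon S).map c ≫ m = p ∧ Mono m ∧ IsFinite c.left ∧ Etale c.left ∧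
        Surjective c.left := by
  have hsfin : IsFinite s.left := inferInstance
  let G := grpd sq
  haveI : IsAffine G.U := ‹IsAffine U.left›
  haveI : IsAffine G.R := ‹IsAffine R.left›
  have hGs : G.s = s.left := grpd_s sq
  have hGt : G.t = t.left := grpd_t sq
  haveI : IsFinite G.s := by rw [hGs]; exact hsfin
  haveI : Etale G.s := by
    have h : Etale s.left := inferInstance
    rw [hGs]; exact h
  haveI : Flat G.s := inferInstance
  haveI : LocallyOfFinitePresentation G.s := inferInstance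
  have hpb : IsPullback G.t G.s G.toQuot G.toQuot := Groth.Agent.Lib.Seat19.FFQ.isPullback_toQuot G
  obtain ⟨hqfin, hqflat, hqfp⟩ := Groth.Agent.Lib.Seat19.FFQ.toQuot_props G
  haveI : Surjective G.toQuot := ⟨Groth.Agent.Lib.Seat19.Quot1.toQuot_surjective G⟩
  haveI := hqfin
  haveI := hqflat
  haveI := hqfp
  have hqet : Etale G.toQuot :=
    (Groth.Agent.Lib.Helper12.LocPCases.good_etale.desc).of_isPullback hpb.flip
      ⟨⟨inferInstance, inferInstance⟩, inferInstance⟩ (inferInstance : Etale G.s)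
  have hdesc : ∀ {Z : Scheme.{u}} (g₁ g₂ : Z ⟶ G.U), g₁ ≫ G.toQuot = g₂ ≫ G.toQuot →
      g₁ ≫ G.pU = g₂ ≫ G.pU := by
    intro Z g₁ g₂ h
    have h1 : hpb.lift g₁ g₂ h ≫ G.t = g₁ := hpb.lift_fst _ _ _
    have h2 : hpb.lift g₁ g₂ h ≫ G.s = g₂ := hpb.lift_snd _ _ _
    calc g₁ ≫ G.pU = (hpb.lift g₁ g₂ h ≫ G.t) ≫ G.pU := by rw [h1]
      _ = (hpb.lift g₁ g₂ h ≫ G.s) ≫ G.pU := by
          rw [Category.assoc, Category.assoc, G.t_over, G.s_over]
      _ = g₂ ≫ G.pU := by rw [h2]
  let str' : Spec (CommRingCat.of ↥G.invariants) ⟶ S := EffectiveEpi.desc G.toQuot G.pU hdesc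
  have hfac : G.toQuot ≫ str' = U.hom := EffectiveEpi.fac G.toQuot G.pU hdesc
  let c : U ⟶ Over.mk str' := Over.homMk G.toQuot hfac
  refine ⟨Over.mk str', c, ?_⟩
  have hpb' : IsPullback t.left s.left c.left c.left := by
    have := hpb
    rw [hGt, hGs] at this
    exact this
  have hw : t ≫ c = s ≫ c := by ext; exact hpb'.w
  have hpbO : IsPullback t s c c := IsPullback.of_map (Over.forget S) hw hpb'
  have hq : IsPullback ((AlgSp.yon S).map t) ((AlgSp.yon S).map s) ((AlgSp.yon S).map c)
      ((AlgSp.yon S).map c) := hpbO.map (AlgSp.yon S)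
  have h1 : AlgSp.RepWith @Flat ((AlgSp.yon S).map c) := (AlgSp.repWith_yon_map_iff @Flat c).2 hqflat
  have h2 : AlgSp.RepWith @LocallyOfFinitePresentation ((AlgSp.yon S).map c) :=
    (AlgSp.repWith_yon_map_iff @LocallyOfFinitePresentation c).2 hqfp
  have h3 : AlgSp.RepWith @Surjective ((AlgSp.yon S).map c) :=
    (AlgSp.repWith_yon_map_iff @Surjective c).2 (inferInstance : Surjective G.toQuot)
  haveI := Groth.Agent.S9885.isLocallySurjective_of_repWith _ h1 h2 h3
  haveI hepi : Epi ((AlgSp.yon S).map c) := (Sheaf.isLocallySurjective_iff_epi _).1 inferInstance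
  haveI : IsRegularEpi ((AlgSp.yon S).map c) := IsRegularEpiCategory.regularEpiOfEpi _
  obtain ⟨m, hm⟩ := IsRegularEpi.exists_of_isKernelPair ((AlgSp.yon S).map c) hq p sq.w
  refine ⟨m, hm, ?_, hqfin, hqet, (inferInstance : Surjective G.toQuot)⟩
  constructor
  intro W a b hab
  obtain ⟨W', e', he', a', b', ha', hb'⟩ :=
    ToposLike.exists_local_lift₂ ((AlgSp.yon S).map c) hepi a b
  have h4 : a' ≫ p = b' ≫ p := by
    rw [← hm, ← Category.assoc, ← Category.assoc, ← ha', ← hb', Category.assoc, Category.assoc, hab]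
  have h5 : a' ≫ (AlgSp.yon S).map c = b' ≫ (AlgSp.yon S).map c := by
    have e1 : sq.lift a' b' h4 ≫ (AlgSp.yon S).map t = a' := sq.lift_fst _ _ _
    have e2 : sq.lift a' b' h4 ≫ (AlgSp.yon S).map s = b' := sq.lift_snd _ _ _
    calc a' ≫ (AlgSp.yon S).map c = (sq.lift a' b' h4 ≫ (AlgSp.yon S).map t) ≫ (AlgSp.yon S).map c := by
          rw [e1]
      _ = (sq.lift a' b' h4 ≫ (AlgSp.yon S).map s) ≫ (AlgSp.yon S).map c := by
          rw [Category.assoc, Category.assoc, hq.w]
      _ = b' ≫ (AlgSp.yon S).map c := by rw [e2]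
  rw [← cancel_epi e', ha', hb', h5]

open Groth.Agent.Lib.Seat86.GenFlagSh in
/-- an affine morphism locally of finite type whose base change along a surjective closed immersion is
finite is itself finite. -/
theorem isFinite_of_isFinite_baseChange {R U K RK : Scheme.{u}} (s : R ⟶ U) (m : K ⟶ U)
    [IsClosedImmersion m] [Surjective m] (sK : RK ⟶ K) (pr : RK ⟶ R)
    (sq : IsPullback pr sK s m) [IsFinite sK] [IsAffineHom s] [LocallyOfFiniteType s] :
    IsFinite s := by
  haveI : UniversallyClosed s := by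
    refine UniversallyClosed.of_valuativeCriterion s fun V => ?_
    -- the bottom map factors through `K`
    obtain ⟨j₂, hj₂⟩ := exists_lift_closedImmersion m V.i₂ (by
      rintro u -
      exact m.surjective u)
    have hc : V.i₁ ≫ s = (Spec.map (CommRingCat.ofHom (algebraMap V.R V.K)) ≫ j₂) ≫ m := by
      rw [Category.assoc, hj₂]; exact V.commSq.w
    let j₁ : Spec (CommRingCat.of V.K) ⟶ RK := sq.lift V.i₁ _ hc
    have hj₁1 : j₁ ≫ pr = V.i₁ := sq.lift_fst _ _ _
    have hj₁2 : j₁ ≫ sK = Spec.map (CommRingCat.ofHom (algebraMap V.R V.K)) ≫ j₂ := sq.lift_snd _ _ _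
    have hex : ValuativeCriterion.Existence sK := by
      have : UniversallyClosed sK := inferInstance
      rw [UniversallyClosed.eq_valuativeCriterion] at this
      exact this.1
    let V' : ValuativeCommSq sK := ⟨V.R, V.K, j₁, j₂, ⟨hj₁2⟩⟩
    obtain ⟨⟨l, hl1, hl2⟩⟩ := hex V'
    refine ⟨⟨⟨l ≫ pr, ?_, ?_⟩⟩⟩
    · rw [← Category.assoc, hl1]; exact hj₁1
    · rw [Category.assoc, sq.w, ← Category.assoc, hl2]; exact hj₂
  haveI : IsIntegralHom s := IsIntegralHom.iff_universallyClosed_and_isAffineHom.2 ⟨inferInstance, inferInstance⟩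
  exact (IsFinite.iff_isIntegralHom_and_locallyOfFiniteType s).2 ⟨inferInstance, inferInstance⟩

end Groth.Agent.Lib.Seat46.AffQuot
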