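import Mathlib

/-!
# Bounded numbers of geometric lifts along étale separated morphisms (seat 46)

`BL n g`: for every field `Ω` and `y : Spec Ω ⟶ V`, among any `n + 1` lifts of `y` along `g : W ⟶ V` two coincide.

* `bl_of_dense`: for `g` étale and separated it suffices to check the bound over a set `G` of points of `V` meeting every
  nonempty open subset.
* `finite_fibre_of_bl`: a bound on geometric lifts bounds the set-theoretic fibres.
-/

set_option autoImplicit false
universe u
open CategoryTheory CategoryTheory.Limits AlgebraicGeometry Topology TopologicalSpace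

namespace Groth.Agent.Lib.Seat46.BddLifts

/-- among any `n + 1` lifts of a field-valued point of `V` lying over `G` along `g`, two coincide. -/
def BLOn {W V : Scheme.{u}} (n : ℕ) (g : W ⟶ V) (G : Set ↥V) : Prop :=
  ∀ (Ω : Type u) [Field Ω] (y : Spec (CommRingCat.of Ω) ⟶ V),
    y (IsLocalRing.closedPoint Ω) ∈ G →
    ∀ z : Fin (n + 1) → (Spec (CommRingCat.of Ω) ⟶ W), (∀ i, z i ≫ g = y) →
      ∃ i j, i ≠ j ∧ z i = z j

/-- among any `n + 1` lifts of a field-valued point of `V` along `g`, two coincide. -/
def BL {W V : Scheme.{u}} (n : ℕ) (g : W ⟶ V) : Prop := BLOn n g Set.univ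

lemma eq_closedPoint {Ω : Type u} [Field Ω] (s : ↥(Spec (CommRingCat.of Ω))) :
    s = IsLocalRing.closedPoint Ω := Subsingleton.elim _ _

lemma range_eq_singleton {Ω : Type u} [Field Ω] {W : Scheme.{u}} (z : Spec (CommRingCat.of Ω) ⟶ W) :
    Set.range z = {z (IsLocalRing.closedPoint Ω)} := by
  ext w
  constructor
  · rintro ⟨s, rfl⟩
    rw [eq_closedPoint s]; rfl
  · rintro rfl
    exact ⟨_, rfl⟩

theorem bl_of_dense : ∀ (n : ℕ) {W V : Scheme.{u}} (g : W ⟶ V) [Etale g] [IsSeparated g] (G : Set ↥V)
    (_ : ∀ O : V.Opens, (O : Set ↥V).Nonempty → ((O : Set ↥V) ∩ G).Nonempty)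
    (_ : BLOn n g G), BL n g := by
  intro n
  induction n with
  | zero =>
    intro W V g _ _ G hG h Ω _ y _ z hz
    exfalso
    -- `W` is nonempty, so `g(W)` is a nonempty open subset
    have hopen : IsOpen (Set.range g) := g.isOpenMap.isOpen_range
    obtain ⟨v, ⟨w, rfl⟩, hvG⟩ := hG ⟨Set.range g, hopen⟩ ⟨_, ⟨z 0 (IsLocalRing.closedPoint Ω), rfl⟩⟩
    obtain ⟨i, j, hij, -⟩ := h (W.residueField w) (W.fromSpecResidueField w ≫ g)
      (by
        rw [Scheme.Hom.comp_apply, Scheme.fromSpecResidueField_apply]
        exact hvG)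
      (fun _ => W.fromSpecResidueField w) (fun _ => rfl)
    exact hij (by ext; omega)
  | succ n ih =>
    intro W V g _ _ G hG h Ω _ y _ z hz
    by_contra hcon
    push Not at hcon
    have hinj : Function.Injective z := fun i j hij => by
      by_contra hne
      exact hcon i j hne hij
    -- the complement of the diagonal
    let Δ := pullback.diagonal g
    have hcl : IsClosed (Set.range Δ) := Δ.isClosedEmbedding.isClosed_range
    let O : (pullback g g).Opens := ⟨(Set.range Δ)ᶜ, hcl.isOpen_compl⟩
    let g'' : (O : Scheme.{u}) ⟶ W := O.ι ≫ pullback.fst g g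
    haveI : Etale g'' := inferInstance
    haveI : IsSeparated g'' := inferInstance
    -- a morphism from the spectrum of a field to the fibre square factors through `O` unless its components agree
    have key : ∀ {Ω' : Type u} [Field Ω'] (a b : Spec (CommRingCat.of Ω') ⟶ W) (hab : a ≫ g = b ≫ g),
        a ≠ b → ∃ l : Spec (CommRingCat.of Ω') ⟶ (O : Scheme.{u}), l ≫ O.ι = pullback.lift a b hab := by
      intro Ω' _ a b hab hne
      have hmem : Set.range (pullback.lift a b hab) ⊆ Set.range O.ι := by
        rw [range_eq_singleton, Set.singleton_subset_iff, Scheme.Opens.range_ι]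
        intro hmem
        apply hne
        have hsub : Set.range (pullback.lift a b hab) ⊆ Set.range Δ := by
          rw [range_eq_singleton, Set.singleton_subset_iff]
          exact hmem
        have e := IsOpenImmersion.lift_fac Δ (pullback.lift a b hab) hsub
        have e1 := congr($e ≫ pullback.fst g g)
        have e2 := congr($e ≫ pullback.snd g g)
        simp only [Category.assoc, pullback.lift_fst, pullback.lift_snd, Δ, pullback.diagonal_fst,
          pullback.diagonal_snd, Category.comp_id] at e1 e2
        exact e1.symm.trans e2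
      exact ⟨IsOpenImmersion.lift O.ι _ hmem, IsOpenImmersion.lift_fac _ _ _⟩
    -- the bound for `g''` over `g⁻¹ G`
    have hG'' : ∀ O' : W.Opens, (O' : Set ↥W).Nonempty → ((O' : Set ↥W) ∩ g ⁻¹' G).Nonempty := by
      intro O' hO'
      obtain ⟨v, ⟨w, hw, rfl⟩, hvG⟩ := hG ⟨g '' (O' : Set ↥W), g.isOpenMap _ O'.2⟩ (hO'.image _)
      exact ⟨w, hw, hvG⟩
    have h'' : BLOn n g'' (g ⁻¹' G) := by
      intro Ω' _ y'' hy'' z'' hz''
      by_contra hcon''
      push Not at hcon''
      let zt : Fin (n + 1 + 1) → (Spec (CommRingCat.of Ω') ⟶ W) :=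
        Fin.cons y'' (fun i => z'' i ≫ O.ι ≫ pullback.snd g g)
      have hzt : ∀ i, zt i ≫ g = y'' ≫ g := by
        intro i
        refine Fin.cases ?_ (fun i => ?_) i
        · rfl
        · change (z'' i ≫ O.ι ≫ pullback.snd g g) ≫ g = _
          rw [Category.assoc, Category.assoc, ← pullback.condition, ← hz'' i]
          simp [g'']
      obtain ⟨i, j, hij, hzij⟩ := h Ω' (y'' ≫ g) hy'' zt hzt
      -- analyse the coincidence
      have hcase : ∀ (i : Fin (n + 1)), zt 0 ≠ zt i.succ := by
        intro i heq
        change y'' = z'' i ≫ O.ι ≫ pullback.snd g g at heq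
        have h1 : z'' i ≫ O.ι = y'' ≫ Δ := by
          apply pullback.hom_ext
          · rw [Category.assoc, Category.assoc, pullback.diagonal_fst, Category.comp_id]
            exact hz'' i
          · rw [Category.assoc, Category.assoc, pullback.diagonal_snd, Category.comp_id]
            exact heq.symm
        have h2 : (z'' i ≫ O.ι) (IsLocalRing.closedPoint Ω') ∈ Set.range O.ι := ⟨_, rfl⟩
        rw [Scheme.Opens.range_ι, h1] at h2
        exact h2 ⟨_, rfl⟩
      have hcase2 : ∀ (i j : Fin (n + 1)), zt i.succ = zt j.succ → i = j := by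
        intro i j heq
        change z'' i ≫ O.ι ≫ pullback.snd g g = z'' j ≫ O.ι ≫ pullback.snd g g at heq
        by_contra hne
        apply hcon'' i j hne
        rw [← cancel_mono O.ι]
        apply pullback.hom_ext
        · have := (hz'' i).trans (hz'' j).symm
          simpa [g''] using this
        · simpa using heq
      revert hij hzij
      refine Fin.cases ?_ (fun i => ?_) i <;> refine Fin.cases ?_ (fun j => ?_) j
      · intro h; exact absurd rfl h
      · intro _ h; exact hcase j h
      · intro _ h; exact hcase i h.symm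
      · intro hne h
        exact hne (congrArg Fin.succ (hcase2 i j h))
    have hBL := ih g'' (g ⁻¹' G) hG'' h''
    -- lifts of `z 0`
    have hne : ∀ i : Fin (n + 1), z 0 ≠ z i.succ := fun i heq => (Fin.succ_ne_zero i) (hinj heq).symm
    have hcomm : ∀ i : Fin (n + 1), z 0 ≫ g = z i.succ ≫ g := fun i => (hz 0).trans (hz _).symm
    choose l hl using fun i : Fin (n + 1) => key (z 0) (z i.succ) (hcomm i) (hne i)
    obtain ⟨i, j, hij, hlij⟩ := hBL Ω (z 0) trivial l (fun i => by
      change l i ≫ O.ι ≫ pullback.fst g g = z 0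
      rw [← Category.assoc, hl i, pullback.lift_fst])
    apply hij
    have h1 := congr($(hl i) ≫ pullback.snd g g)
    have h2 := congr($(hl j) ≫ pullback.snd g g)
    rw [pullback.lift_snd] at h1 h2
    have : z i.succ = z j.succ := by rw [← h1, ← h2, hlij]
    exact Fin.succ_injective _ (hinj this)

/-- finitely many points of a fibre can be lifted to points with values in a common field, over a common point of the
base. -/
lemma exists_common_field {W V : Scheme.{u}} (g : W ⟶ V) (v : ↥V) (A : Finset ↥W)
    (hA : ∀ w ∈ A, g w = v) :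
    ∃ (Ω : Type u) (_ : Field Ω) (y : Spec (CommRingCat.of Ω) ⟶ V), y (IsLocalRing.closedPoint Ω) = v ∧
      ∀ w ∈ A, ∃ z : Spec (CommRingCat.of Ω) ⟶ W, z ≫ g = y ∧ z (IsLocalRing.closedPoint Ω) = w := by
  classical
  induction A using Finset.induction_on with
  | empty =>
    refine ⟨V.residueField v, inferInstance, V.fromSpecResidueField v, ?_, ?_⟩
    · exact Scheme.fromSpecResidueField_apply _ _
    · intro w hw
      simp at hw
  | insert w A' hw ih =>
    obtain ⟨Ω, _, y, hy, hl⟩ := ih (fun w' hw' => hA w' (Finset.mem_insert_of_mem hw'))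
    have hgw : g w = v := hA w (Finset.mem_insert_self _ _)
    have hpt : y (IsLocalRing.closedPoint Ω) =
        (W.fromSpecResidueField w ≫ g) (IsLocalRing.closedPoint (W.residueField w)) := by
      rw [hy, Scheme.Hom.comp_apply, Scheme.fromSpecResidueField_apply, hgw]
    obtain ⟨q, hq1, hq2⟩ := Scheme.Pullback.exists_preimage_pullback (f := y)
      (g := W.fromSpecResidueField w ≫ g) _ _ hpt
    let P := pullback y (W.fromSpecResidueField w ≫ g)
    refine ⟨P.residueField q, inferInstance, P.fromSpecResidueField q ≫ pullback.fst _ _ ≫ y, ?_, ?_⟩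
    · rw [Scheme.Hom.comp_apply, Scheme.Hom.comp_apply, Scheme.fromSpecResidueField_apply, hq1, hy]
    · intro w' hw'
      rcases Finset.mem_insert.1 hw' with rfl | hw'
      · refine ⟨P.fromSpecResidueField q ≫ pullback.snd _ _ ≫ W.fromSpecResidueField w', ?_, ?_⟩
        · rw [Category.assoc, Category.assoc, ← pullback.condition]
        · rw [Scheme.Hom.comp_apply, Scheme.Hom.comp_apply, Scheme.fromSpecResidueField_apply]
      · obtain ⟨z, hz, hzw⟩ := hl w' hw'
        refine ⟨P.fromSpecResidueField q ≫ pullback.fst _ _ ≫ z, ?_, ?_⟩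
        · rw [Category.assoc, Category.assoc, hz]
        · rw [Scheme.Hom.comp_apply, Scheme.Hom.comp_apply, Scheme.fromSpecResidueField_apply, hq1, hzw]

/-- a bound on geometric lifts bounds the set-theoretic fibres. -/
theorem finite_fibre_of_bl {W V : Scheme.{u}} (g : W ⟶ V) (n : ℕ) (h : BL n g) (v : ↥V) :
    (g ⁻¹' {v}).Finite := by
  by_contra hinf
  obtain ⟨A, hAs, hAc⟩ := Set.Infinite.exists_subset_card_eq hinf (n + 1)
  obtain ⟨Ω, _, y, -, hl⟩ := exists_common_field g v A (fun w hw => hAs hw)
  let e : Fin (n + 1) ≃ A := (Fintype.equivFinOfCardEq (by simpa using hAc)).symm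
  choose z hz hzw using fun i : Fin (n + 1) => hl (e i).1 (e i).2
  obtain ⟨i, j, hij, hzij⟩ := h Ω y trivial z hz
  apply hij
  apply e.injective
  apply Subtype.ext
  rw [← hzw i, ← hzw j, hzij]

end Groth.Agent.Lib.Seat46.BddLifts
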