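import Mathlib
import Groth.Agent.Lib.Seat46BddLifts
import Groth.Agent.Lib.Seat46UBFField
import Groth.Agent.Lib.Seat45EtDim

/-!
# Bounded numbers of geometric lifts: schemes étale over a field (seat 46)

* `exists_bl_of_compact_etale`: a quasi-compact scheme étale over a field has a bounded number of geometric points.
-/

set_option autoImplicit false
universe u
open CategoryTheory CategoryTheory.Limits AlgebraicGeometry Topology TopologicalSpace

namespace Groth.Agent.Lib.Seat46.BddLifts

open Groth.Agent.Lib.Seat46.UBFField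

theorem exists_bl_of_compact_etale {K : Type u} [Field K] {T : Scheme.{u}}
    (c : T ⟶ Spec (CommRingCat.of K)) [Etale c] [CompactSpace ↥T] : ∃ d, BL d c := by
  haveI : QuasiCompact c := (HasAffineProperty.iff_of_isAffine (P := @QuasiCompact)).2 inferInstance
  haveI := Groth.Agent.Lib.Seat45.EtDim.locallyQuasiFinite_of_etale c
  haveI : IsFinite c := IsFinite.of_locallyQuasiFinite c
  obtain ⟨hT, hfin, -⟩ := (isFinite_and_finrank_le_iff c (c.finrank (IsLocalRing.closedPoint K))).1
    ⟨inferInstance, fun s => by rw [Subsingleton.elim s (IsLocalRing.closedPoint K)]⟩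
  letI : Algebra K Γ(T, ⊤) := (ringMap c).hom.toAlgebra
  refine ⟨Module.finrank K Γ(T, ⊤), ?_⟩
  intro Ω _ y _ z hz
  by_contra hcon
  push Not at hcon
  letI : Algebra K Ω := (ringMap y ≫ (Scheme.ΓSpecIso (CommRingCat.of Ω)).hom).hom.toAlgebra
  let ρ : Fin (Module.finrank K Γ(T, ⊤) + 1) → (Γ(T, ⊤) →ₐ[K] Ω) := fun i =>
    { toRingHom := ((z i).appTop ≫ (Scheme.ΓSpecIso (CommRingCat.of Ω)).hom).hom
      commutes' := fun k => by
        have h1 : ringMap (z i ≫ c) = ringMap c ≫ (z i).appTop := ringMap_comp (z i) c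
        rw [hz i] at h1
        have h2 : ringMap c ≫ (z i).appTop ≫ (Scheme.ΓSpecIso (CommRingCat.of Ω)).hom =
            ringMap y ≫ (Scheme.ΓSpecIso (CommRingCat.of Ω)).hom := by
          rw [← Category.assoc, ← h1]
        exact congrArg (fun φ => φ.hom k) h2 }
  have hρ : Function.Injective ρ := by
    intro i j hij
    by_contra hne
    apply hcon i j hne
    apply ext_of_isAffine
    have h1 : (z i).appTop ≫ (Scheme.ΓSpecIso (CommRingCat.of Ω)).hom =
        (z j).appTop ≫ (Scheme.ΓSpecIso (CommRingCat.of Ω)).hom := by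
      ext a
      exact congrArg (fun φ : Γ(T, ⊤) →ₐ[K] Ω => φ a) hij
    exact (cancel_mono _).1 h1
  have h1 := Nat.card_le_card_of_injective ρ hρ
  have h2 := card_algHom_le_finrank K Γ(T, ⊤) Ω
  rw [Nat.card_eq_fintype_card, Fintype.card_fin] at h1
  omega

end Groth.Agent.Lib.Seat46.BddLifts
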