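import Mathlib
import Groth.Agent.Lib.Seat46BddLifts
import Groth.Agent.Lib.Seat46UBFField
import Groth.Agent.S7433
import Groth.Agent.S7441

/-!
# Bounded numbers of geometric lifts: quasi-finite morphisms, the off-diagonal part (seat 46)

* `bl_of_finite_field`: a scheme finite over a field has at most `dim` geometric points.
* `exists_bl_of_lqf_compact`: a locally quasi-finite morphism locally of finite type with quasi-compact source has a
  bounded number of geometric lifts (from the prior rows on universally bounded fibres).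
* `offDiag g`, `bl_offDiag`: for `g` étale and separated, the complement of the diagonal in `W ×_V W`, as a scheme over `W`,
  has one geometric lift less.
-/

set_option autoImplicit false
universe u
open CategoryTheory CategoryTheory.Limits AlgebraicGeometry Topology TopologicalSpace

namespace Groth.Agent.Lib.Seat46.BddLifts

open Groth.Agent.Lib.Seat46.UBFField

lemma BL.mono {W V : Scheme.{u}} {g : W ⟶ V} {d n : ℕ} (h : BL d g) (hdn : d ≤ n) : BL n g := by
  intro Ω _ y hy z hz
  obtain ⟨i, j, hij, hzij⟩ := h Ω y hy (fun i => z (Fin.castLE (by omega) i)) (fun i => hz _)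
  exact ⟨_, _, fun h => hij (Fin.castLE_injective _ h), hzij⟩

theorem bl_of_finite_field {K : Type u} [Field K] {T : Scheme.{u}} (c : T ⟶ Spec (CommRingCat.of K))
    (hT : IsAffine T) (hfin : letI := (ringMap c).hom.toAlgebra; Module.Finite K Γ(T, ⊤)) :
    letI := (ringMap c).hom.toAlgebra
    BL (Module.finrank K Γ(T, ⊤)) c := by
  letI : Algebra K Γ(T, ⊤) := (ringMap c).hom.toAlgebra
  intro Ω _ y _ z hz
  by_contra hcon
  push Not at hcon
  letI : Algebra K Ω := (ringMap y ≫ (Scheme.ΓSpecIso (CommRingCat.of Ω)).hom).hom.toAlgebra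
  let ρ : Fin (Module.finrank K Γ(T, ⊤) + 1) → (Γ(T, ⊤) →ₐ[K] Ω) := fun i =>
    { toRingHom := ((z i).appTop ≫ (Scheme.ΓSpecIso (CommRingCat.of Ω)).hom).hom
      commutes' := fun k => by
        have h1 : ringMap (z i ≫ c) = ringMap c ≫ (z i).appTop := ringMap_comp (z i) c
        rw [hz i] at h1
        have h2 : ringMap c ≫ (z i).appTop ≫ (Scheme.ΓSpecIso (CommRingCat.of Ω)).hom =
            ringMap y ≫ (Scheme.ΓSpecIso (CommRingCat.of Ω)).hom := by
          rw [← Category.assoc, ← h1]
        exact congrArg (fun φ => φ.hom k) h2 }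
  have hρ : Function.Injective ρ := by
    intro i j hij
    by_contra hne
    apply hcon i j hne
    apply ext_of_isAffine
    have h1 : (z i).appTop ≫ (Scheme.ΓSpecIso (CommRingCat.of Ω)).hom =
        (z j).appTop ≫ (Scheme.ΓSpecIso (CommRingCat.of Ω)).hom := by
      ext a
      exact congrArg (fun φ : Γ(T, ⊤) →ₐ[K] Ω => φ a) hij
    exact (cancel_mono _).1 h1
  have h1 := Nat.card_le_card_of_injective ρ hρ
  have h2 := card_algHom_le_finrank K Γ(T, ⊤) Ω
  rw [Nat.card_eq_fintype_card, Fintype.card_fin] at h1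
  omega

/-- a bound on the degrees of the fibres bounds the geometric lifts. -/
theorem bl_of_fibreDegLE {W V : Scheme.{u}} (g : W ⟶ V) (n : ℕ) (h : BddFib.FibreDegLE g n) : BL n g := by
  intro Ω _ y _ z hz
  obtain ⟨hT, hfin, hrk⟩ := (Groth.Agent.S7433.result g n).1 h Ω y
  have hbl := (bl_of_finite_field (pullback.snd g y) hT hfin).mono hrk
  obtain ⟨i, j, hij, hσ⟩ := hbl Ω (𝟙 _) trivial
    (fun i => pullback.lift (z i) (𝟙 _) (by rw [hz i, Category.id_comp]))
    (fun i => pullback.lift_snd _ _ _)
  refine ⟨i, j, hij, ?_⟩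
  have := congr($hσ ≫ pullback.fst g y)
  rwa [pullback.lift_fst, pullback.lift_fst] at this

theorem exists_bl_of_lqf_compact {W V : Scheme.{u}} (g : W ⟶ V) [LocallyQuasiFinite g]
    [LocallyOfFiniteType g] [CompactSpace ↥W] : ∃ n, BL n g := by
  obtain ⟨n, hn⟩ := Groth.Agent.S7441.result g
  exact ⟨n, bl_of_fibreDegLE g n hn⟩

lemma isEmpty_of_bl_zero {W V : Scheme.{u}} (g : W ⟶ V) (h : BL 0 g) : IsEmpty ↥W := by
  refine ⟨fun w => ?_⟩
  obtain ⟨i, j, hij, -⟩ := h (W.residueField w) (W.fromSpecResidueField w ≫ g) trivial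
    (fun _ => W.fromSpecResidueField w) (fun _ => rfl)
  exact hij (by ext; omega)

section OffDiag

variable {W V : Scheme.{u}} (g : W ⟶ V) [Etale g] [IsSeparated g]

/-- the complement of the diagonal in `W ×_V W`. -/
noncomputable def offDiag : (pullback g g).Opens :=
  ⟨(Set.range (pullback.diagonal g))ᶜ, (pullback.diagonal g).isClosedEmbedding.isClosed_range.isOpen_compl⟩

/-- a field-valued point of `W ×_V W` with distinct components factors through the complement of the diagonal. -/
lemma exists_lift_offDiag {Ω : Type u} [Field Ω] (a b : Spec (CommRingCat.of Ω) ⟶ W) (hab : a ≫ g = b ≫ g)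
    (hne : a ≠ b) :
    ∃ l : Spec (CommRingCat.of Ω) ⟶ (offDiag g : Scheme.{u}), l ≫ (offDiag g).ι = pullback.lift a b hab := by
  have hmem : Set.range (pullback.lift a b hab) ⊆ Set.range (offDiag g).ι := by
    rw [range_eq_singleton, Set.singleton_subset_iff, Scheme.Opens.range_ι]
    intro hmem
    apply hne
    have hsub : Set.range (pullback.lift a b hab) ⊆ Set.range (pullback.diagonal g) := by
      rw [range_eq_singleton, Set.singleton_subset_iff]
      exact hmem
    have e := IsOpenImmersion.lift_fac (pullback.diagonal g) (pullback.lift a b hab) hsub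
    have e1 := congr($e ≫ pullback.fst g g)
    have e2 := congr($e ≫ pullback.snd g g)
    simp only [Category.assoc, pullback.lift_fst, pullback.lift_snd, pullback.diagonal_fst,
      pullback.diagonal_snd, Category.comp_id] at e1 e2
    exact e1.symm.trans e2
  exact ⟨IsOpenImmersion.lift (offDiag g).ι _ hmem, IsOpenImmersion.lift_fac _ _ _⟩

omit [Etale g] in
/-- a field-valued point of the complement of the diagonal has distinct components. -/
lemma fst_ne_snd_of_offDiag {Ω : Type u} [Field Ω] (l : Spec (CommRingCat.of Ω) ⟶ (offDiag g : Scheme.{u})) :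
    l ≫ (offDiag g).ι ≫ pullback.fst g g ≠ l ≫ (offDiag g).ι ≫ pullback.snd g g := by
  intro heq
  have h1 : l ≫ (offDiag g).ι = (l ≫ (offDiag g).ι ≫ pullback.fst g g) ≫ pullback.diagonal g := by
    apply pullback.hom_ext
    · rw [Category.assoc, Category.assoc, Category.assoc, pullback.diagonal_fst, Category.comp_id]
    · rw [Category.assoc, Category.assoc, Category.assoc, pullback.diagonal_snd, Category.comp_id]
      exact heq.symm
  have h2 : (l ≫ (offDiag g).ι) (IsLocalRing.closedPoint Ω) ∈ Set.range (offDiag g).ι := ⟨_, rfl⟩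
  rw [Scheme.Opens.range_ι, h1] at h2
  exact h2 ⟨_, rfl⟩

omit [Etale g] in
theorem bl_offDiag (n : ℕ) (h : BL (n + 1) g) : BL n ((offDiag g).ι ≫ pullback.fst g g) := by
  intro Ω _ y _ z hz
  by_contra hcon
  push Not at hcon
  let zt : Fin (n + 1 + 1) → (Spec (CommRingCat.of Ω) ⟶ W) :=
    Fin.cons y (fun i => z i ≫ (offDiag g).ι ≫ pullback.snd g g)
  have hzt : ∀ i, zt i ≫ g = y ≫ g := by
    intro i
    refine Fin.cases ?_ (fun i => ?_) i
    · rfl
    · change (z i ≫ (offDiag g).ι ≫ pullback.snd g g) ≫ g = _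
      rw [Category.assoc, Category.assoc, ← pullback.condition, ← hz i]
      simp
  obtain ⟨i, j, hij, hzij⟩ := h Ω (y ≫ g) trivial zt hzt
  have hcase : ∀ (i : Fin (n + 1)), zt 0 ≠ zt i.succ := by
    intro i heq
    change y = z i ≫ (offDiag g).ι ≫ pullback.snd g g at heq
    apply fst_ne_snd_of_offDiag g (z i)
    rw [← heq, ← hz i]
  have hcase2 : ∀ (i j : Fin (n + 1)), zt i.succ = zt j.succ → i = j := by
    intro i j heq
    change z i ≫ (offDiag g).ι ≫ pullback.snd g g = z j ≫ (offDiag g).ι ≫ pullback.snd g g at heq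
    by_contra hne
    apply hcon i j hne
    rw [← cancel_mono (offDiag g).ι]
    apply pullback.hom_ext
    · have := (hz i).trans (hz j).symm
      simpa using this
    · simpa using heq
  revert hij hzij
  refine Fin.cases ?_ (fun i => ?_) i <;> refine Fin.cases ?_ (fun j => ?_) j
  · intro h; exact absurd rfl h
  · intro _ h; exact hcase j h
  · intro _ h; exact hcase i h.symm
  · intro hne h
    exact hne (congrArg Fin.succ (hcase2 i j h))

end OffDiag

end Groth.Agent.Lib.Seat46.BddLifts
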