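import Groth.Agent.Lib.Seat46FieldQuot
import Groth.Agent.Lib.Seat46UBFField

/-!
# Closed points of schemes via integral field-valued points (seat 46)
-/

set_option autoImplicit false
universe u
open CategoryTheory CategoryTheory.Limits AlgebraicGeometry Topology TopologicalSpace

namespace Groth.Agent.Lib.Seat46.ClosedPt

open Groth.Agent.Lib.Seat46.FieldQuot Groth.Agent.Lib.Seat46.UBFField

/-- a point of a scheme etale over a field is the image of a field spectrum finite over the base field. -/
lemma exists_finite_fieldPt {K : Type u} [Field K] {T : Scheme.{u}}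
    (c : T ⟶ Spec (CommRingCat.of K)) [Etale c] (v : ↥T) :
    ∃ (L : Type u) (_ : Field L) (m : Spec (CommRingCat.of L) ⟶ T),
      IsFinite (m ≫ c) ∧ ∀ z, m z = v := by
  obtain ⟨W, hW, hvW, -⟩ := exists_isAffineOpen_mem_and_subset (x := v) (U := ⊤) trivial
  haveI : IsAffine (W : Scheme.{u}) := hW
  haveI : CompactSpace ↥(W : Scheme.{u}) := inferInstance
  haveI : Etale (W.ι ≫ c) := inferInstance
  haveI : IsFinite (W.ι ≫ c) := (isAffine_isFinite_of_etale_compact (K := K) (W.ι ≫ c)).2
  haveI : DiscreteTopology ↥(W : Scheme.{u}) := (finite_discrete_of_isFinite (K := K) (W.ι ≫ c)).2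
  let v' : ↥(W : Scheme.{u}) := ⟨v, hvW⟩
  haveI : IsClosedImmersion ((W : Scheme.{u}).fromSpecResidueField v') :=
    isClosed_singleton_iff_isClosedImmersion.mp (isClosed_discrete _)
  refine ⟨↥((W : Scheme.{u}).residueField v'), inferInstance,
    (W : Scheme.{u}).fromSpecResidueField v' ≫ W.ι, ?_, ?_⟩
  · rw [Category.assoc]
    infer_instance
  · intro z
    rw [Scheme.Hom.comp_apply, Scheme.fromSpecResidueField_apply]
    rfl

/-- the image point of a field spectrum integral over the base, through a separated morphism, is closed. -/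
lemma isClosed_singleton_of_integral {U S : Scheme.{u}} (f : U ⟶ S) [IsSeparated f] {L : Type u}
    [Field L] (m : Spec (CommRingCat.of L) ⟶ U) [IsIntegralHom (m ≫ f)]
    (z : ↥(Spec (CommRingCat.of L))) : IsClosed ({m z} : Set ↥U) := by
  haveI : IsIntegralHom m := IsIntegralHom.of_comp m f
  have h := m.isClosedMap.isClosed_range
  have he : Set.range m = {m z} := by
    ext y
    constructor
    · rintro ⟨z', rfl⟩
      rw [Subsingleton.elim z' z]
      rfl
    · rintro rfl
      exact ⟨z, rfl⟩
  rwa [he] at h

end Groth.Agent.Lib.Seat46.ClosedPt
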