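import Groth.Agent.Lib.Seat46DecentChart
import Groth.Agent.Lib.Seat46DecentPt

/-!
# Field points through residue fields, factoring through monomorphic representatives (seat 46)
-/

set_option autoImplicit false
universe u
open CategoryTheory CategoryTheory.Limits AlgebraicGeometry Topology TopologicalSpace

namespace Groth.Agent.Lib.Seat46.ElemNbhd

open Groth.Agent.Lib.Seat46.DecentChart

variable {S : Scheme.{u}} {X : AlgSp.Sp S}

/-- a monomorphism from a nonempty scheme to the spectrum of a field is an isomorphism. -/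
lemma isIso_of_mono_field {K : Type u} [Field K] {Z : Scheme.{u}}
    (g : Z ⟶ Spec (CommRingCat.of K)) [Mono g] [Nonempty ↥Z] : IsIso g := by
  haveI : IsOpenImmersion g := isOpenImmersion_of_mono_of_subsingleton g
  rw [isIso_iff_isOpenImmersion_and_surjective]
  refine ⟨inferInstance, ⟨fun y => ?_⟩⟩
  obtain ⟨z⟩ := ‹Nonempty ↥Z›
  exact ⟨z, Subsingleton.elim _ _⟩

/-- a morphism from a field spectrum to a scheme over `S` factors through the residue field of its
image point. -/
lemma exists_factor_ptι {U : Over S} (a : (AlgSp.yon S).obj U ⟶ X) {K : Type u} [Field K]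
    (str : Spec (CommRingCat.of K) ⟶ S) (f : Over.mk str ⟶ U) (u : ↥U.left)
    (hu : f.left (IsLocalRing.closedPoint K) = u) :
    ∃ F : Over.mk str ⟶ (AlgSp.FieldPt.ofPt a u).pt, F ≫ ptι a u = f := by
  subst hu
  let f' : Spec (CommRingCat.of K) ⟶ U.left := f.left
  have key := Scheme.descResidueField_stalkClosedPointTo_fromSpecResidueField K U.left f'
  let e := U.left.descResidueField (K := K) (Scheme.stalkClosedPointTo f')
  refine ⟨Over.homMk (Spec.map e) ?_, ?_⟩
  · change Spec.map e ≫ (U.left.fromSpecResidueField _ ≫ U.hom) = str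
    exact ((Category.assoc _ _ _).symm.trans (congrArg (· ≫ U.hom) key)).trans (Over.w f)
  · ext
    exact key

/-- **Factoring through a monomorphic representative.** -/
lemma exists_factor_of_mono (q : AlgSp.FieldPt X) (hm : Mono q.toHom)
    (hr : AlgSp.Representable q.toHom) (p : AlgSp.FieldPt X)
    (h : AlgSp.Points.mk p = AlgSp.Points.mk q) :
    ∃ c : p.pt ⟶ q.pt, (AlgSp.yon S).map c ≫ q.toHom = p.toHom := by
  obtain ⟨P, b, fst, sq⟩ := hr p.toHom
  obtain ⟨a, rfl⟩ := (AlgSp.yon S).map_surjective fst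
  haveI : Mono ((AlgSp.yon S).map b) := sq.mono_snd_of_mono
  haveI : Mono b := (AlgSp.yon S).mono_of_mono_map inferInstance
  haveI : Mono b.left := inferInstance
  obtain ⟨y, -, -⟩ := Groth.Agent.S10176.exists_point_of_isPullback_yon sq
    (IsLocalRing.closedPoint q.K) (IsLocalRing.closedPoint p.K)
    ((AlgSp.Points.ofPt_toHom q _).trans ((AlgSp.Points.ofPt_toHom p _).trans h).symm)
  haveI : Nonempty ↥P.left := ⟨y⟩
  haveI : IsIso b.left := isIso_of_mono_field (K := p.K) b.left
  haveI : IsIso ((Over.forget S).map b) := ‹IsIso b.left›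
  haveI : IsIso b := isIso_of_reflects_iso b (Over.forget S)
  refine ⟨inv b ≫ a, ?_⟩
  rw [Functor.map_comp, Category.assoc, sq.w, ← Category.assoc, ← Functor.map_comp, IsIso.inv_hom_id,
    CategoryTheory.Functor.map_id, Category.id_comp]

/-- if a field-valued point of a chart gives a monomorphism to `X`, so does the residue field point of
its image. -/
lemma mono_toHom_ofPt_of_mono {U : Over S} (a : (AlgSp.yon S).obj U ⟶ X) {K : Type u} [Field K]
    (str : Spec (CommRingCat.of K) ⟶ S) (w : Over.mk str ⟶ U)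
    (hm : Mono ((AlgSp.yon S).map w ≫ a)) :
    Mono (AlgSp.FieldPt.ofPt a (w.left (IsLocalRing.closedPoint K))).toHom := by
  obtain ⟨E, hE⟩ := exists_factor_ptι a str w _ rfl
  have hfac : (AlgSp.yon S).map w ≫ a =
      (AlgSp.yon S).map E ≫ (AlgSp.FieldPt.ofPt a (w.left (IsLocalRing.closedPoint K))).toHom := by
    rw [toHom_ofPt', ← Category.assoc, ← Functor.map_comp, hE]
  haveI : Mono ((AlgSp.yon S).map E) := by
    haveI : Mono ((AlgSp.yon S).map E ≫
        (AlgSp.FieldPt.ofPt a (w.left (IsLocalRing.closedPoint K))).toHom) := by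
      rw [← hfac]; exact hm
    exact mono_of_mono _ (AlgSp.FieldPt.ofPt a (w.left (IsLocalRing.closedPoint K))).toHom
  haveI : Mono E := (AlgSp.yon S).mono_of_mono_map inferInstance
  haveI : IsIso E.left :=
    @isIso_of_mono_field (↥(U.left.residueField (w.left (IsLocalRing.closedPoint K)))) _
      (Spec (CommRingCat.of K)) E.left (Over.mono_left_of_mono E) ⟨IsLocalRing.closedPoint K⟩
  haveI : IsIso ((Over.forget S).map E) := ‹IsIso E.left›
  haveI : IsIso E := isIso_of_reflects_iso E (Over.forget S)
  have : (AlgSp.FieldPt.ofPt a (w.left (IsLocalRing.closedPoint K))).toHom =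
      (AlgSp.yon S).map (inv E) ≫ ((AlgSp.yon S).map w ≫ a) := by
    rw [hfac, ← Category.assoc, ← Functor.map_comp, IsIso.inv_hom_id,
      CategoryTheory.Functor.map_id, Category.id_comp]
  rw [this]
  exact mono_comp _ _

/-- two field-valued points of a chart through the same point `u`, equal in `X`, agree when the
residue field point of `u` is a monomorphism. -/
lemma eq_of_mono_toHom_ofPt {U : Over S} (a : (AlgSp.yon S).obj U ⟶ X) {K : Type u} [Field K]
    (str : Spec (CommRingCat.of K) ⟶ S) (f g : Over.mk str ⟶ U) (u : ↥U.left)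
    (hf : f.left (IsLocalRing.closedPoint K) = u) (hg : g.left (IsLocalRing.closedPoint K) = u)
    (hm : Mono (AlgSp.FieldPt.ofPt a u).toHom)
    (h : (AlgSp.yon S).map f ≫ a = (AlgSp.yon S).map g ≫ a) : f = g := by
  obtain ⟨F, rfl⟩ := exists_factor_ptι a str f u hf
  obtain ⟨G, rfl⟩ := exists_factor_ptι a str g u hg
  have h' : (AlgSp.yon S).map F ≫ (AlgSp.FieldPt.ofPt a u).toHom =
      (AlgSp.yon S).map G ≫ (AlgSp.FieldPt.ofPt a u).toHom := by
    rw [toHom_ofPt', ← Category.assoc, ← Category.assoc, ← Functor.map_comp, ← Functor.map_comp]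
    exact h
  have := (cancel_mono _).1 h'
  rw [(AlgSp.yon S).map_injective this]

end Groth.Agent.Lib.Seat46.ElemNbhd
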