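import Groth.Agent.S10341
import Groth.Agent.S10360
import Groth.Agent.Lib.Seat46ElemNbhd
import Groth.Agent.Lib.Helper12Reduced

/-!
# Base changes of quasi-compact monomorphic field points to etale charts are preimmersions (seat 46)
-/

set_option autoImplicit false
universe u
open CategoryTheory CategoryTheory.Limits AlgebraicGeometry Topology TopologicalSpace

namespace Groth.Agent.Lib.Seat46.FieldPre

open Groth.Agent.Lib.Seat46.ElemNbhd Groth.Agent.Lib.Seat46.DecentChart
  Groth.Agent.Lib.Seat46.FieldQuot Groth.Agent.Lib.Seat46.UBFField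

/-- a monomorphism from a reduced one-point scheme is a preimmersion. -/
lemma isPreimmersion_of_mono_of_subsingleton {Z W : Scheme.{u}} (i : Z ⟶ W) [Mono i] [IsReduced Z]
    [Subsingleton ↥Z] (z : ↥Z) : IsPreimmersion i := by
  let j := Z.fromSpecResidueField z
  haveI : IsClosedImmersion j := isClosed_singleton_iff_isClosedImmersion.mp (by
    have : ({z} : Set ↥Z) = Set.univ := Set.eq_univ_of_forall fun y => Subsingleton.elim y z
    rw [this]; exact isClosed_univ)
  haveI : Surjective j := ⟨fun y => ⟨IsLocalRing.closedPoint _, Subsingleton.elim _ _⟩⟩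
  haveI : IsIso j := isIso_of_isClosedImmersion_of_surjective j
  have hji : j ≫ i = Spec.map (i.residueFieldMap z) ≫ W.fromSpecResidueField (i z) :=
    (Scheme.Hom.SpecMap_residueFieldMap_fromSpecResidueField i z).symm
  haveI : Mono (Spec.map (i.residueFieldMap z) ≫ W.fromSpecResidueField (i z)) := by
    rw [← hji]; infer_instance
  haveI : Mono (Spec.map (i.residueFieldMap z)) := mono_of_mono _ (W.fromSpecResidueField (i z))
  haveI : IsIso (Spec.map (i.residueFieldMap z)) :=
    @isIso_of_mono_field (↥(W.residueField (i z))) _ (Spec (Z.residueField z))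
      (Spec.map (i.residueFieldMap z)) inferInstance ⟨IsLocalRing.closedPoint _⟩
  have : i = inv j ≫ Spec.map (i.residueFieldMap z) ≫ W.fromSpecResidueField (i z) := by
    rw [← hji, IsIso.inv_hom_id_assoc]
  rw [this]
  infer_instance

/-- an injective map from a finite discrete space with no specializations among image points is an
embedding. -/
lemma isEmbedding_of_discrete {A B : Type*} [TopologicalSpace A] [TopologicalSpace B]
    [DiscreteTopology A] [Finite A] (f : A → B) (hinj : Function.Injective f)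
    (hsp : ∀ a a' : A, f a' ⤳ f a → a = a') : IsEmbedding f := by
  refine ⟨⟨?_⟩, hinj⟩
  rw [DiscreteTopology.eq_bot (α := A)]
  symm
  refine @eq_bot_of_singletons_open A (TopologicalSpace.induced f inferInstance) fun a => ?_
  rw [isOpen_induced_iff]
  refine ⟨(closure (f '' {a}ᶜ))ᶜ, isClosed_closure.isOpen_compl, ?_⟩
  ext a'
  simp only [Set.mem_preimage, Set.mem_compl_iff, Set.mem_singleton_iff]
  constructor
  · intro h
    by_contra hne
    exact h (subset_closure ⟨a', hne, rfl⟩)
  · rintro rfl h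
    have hcl : closure (f '' {a'}ᶜ) = ⋃ y ∈ f '' {a'}ᶜ, closure {y} := by
      conv_lhs => rw [← Set.biUnion_of_singleton (f '' {a'}ᶜ)]
      exact (Set.toFinite _).closure_biUnion _
    rw [hcl] at h
    obtain ⟨_, ⟨a'', ha'', rfl⟩, hmem⟩ := Set.mem_iUnion₂.1 h
    exact ha'' (hsp a' a'' (specializes_iff_mem_closure.2 hmem)).symm

variable {S : Scheme.{u}}

/-- **Base change of a quasi-compact monomorphic field point to an etale chart is a preimmersion.** -/
theorem isPreimmersion_of_mono_qc_fieldPt (X : AlgSp.Space S) (q : AlgSp.FieldPt X.obj)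
    (hm : Mono q.toHom) (hq : AlgSp.RepWith @QuasiCompact q.toHom) {V K : Over S}
    (b : (AlgSp.yon S).obj V ⟶ X.obj) (hb : AlgSp.RepWith @Etale b) (c : K ⟶ q.pt) (m : K ⟶ V)
    (sq : IsPullback ((AlgSp.yon S).map c) ((AlgSp.yon S).map m) q.toHom b) :
    IsPreimmersion m.left := by
  -- finiteness of fibres over `x`
  have hx : ∀ (V' : Over S) (b' : (AlgSp.yon S).obj V' ⟶ X.obj), IsAffine V'.left →
      AlgSp.RepWith @Etale b' → (AlgSp.Points.ofPt b' ⁻¹' {AlgSp.Points.mk q}).Finite := by
    intro V' b' hV' hb'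
    obtain ⟨R, s', fst, sqR⟩ := hb'.1 b'
    obtain ⟨t', rfl⟩ := (AlgSp.yon S).map_surjective fst
    exact ((Groth.Agent.S10360.result X (AlgSp.Points.mk q)).2 ⟨q, rfl, hm, hq⟩ V' b' hV' hb'
      R s' t' sqR).1
  haveI : Etale c.left := hb.2 q.toHom _ c sq.flip
  haveI : QuasiCompact m.left := hq.2 b _ m sq
  haveI : Mono ((AlgSp.yon S).map m) := by
    haveI := hm
    exact sq.mono_snd_of_mono
  haveI : Mono m := (AlgSp.yon S).mono_of_mono_map inferInstance
  haveI : Mono m.left := inferInstance
  haveI : IsReduced q.pt.left := inferInstanceAs (IsReduced (Spec (CommRingCat.of q.K)))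
  haveI : IsReduced K.left := Groth.Agent.Lib.Helper12.Reduced.isReduced_of_smooth c.left
  have hfib : ∀ w : ↥K.left, AlgSp.Points.ofPt b (m.left w) = AlgSp.Points.mk q := fun w =>
    range_subset_fibre_of_isPullback b q c m sq ⟨w, rfl⟩
  have hns : ∀ w w' : ↥K.left, m.left w' ⤳ m.left w → w = w' := fun w w' h =>
    m.left.injective (Groth.Agent.S10341.result X _ hx b hb _ _ (hfib w) (hfib w') h)
  rw [IsZariskiLocalAtTarget.iff_of_iSup_eq_top (P := @IsPreimmersion) _
    (iSup_affineOpens_eq_top V.left)]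
  intro V'
  have hV' : IsAffineOpen V'.1 := V'.2
  set K' := m.left ⁻¹ᵁ V'.1 with hK'
  haveI : CompactSpace ↥(K' : Scheme.{u}) :=
    isCompact_iff_compactSpace.mp (QuasiCompact.isCompact_preimage (f := m.left) _ V'.1.2
      hV'.isCompact)
  haveI : Etale (K'.ι ≫ c.left) := inferInstance
  haveI : IsFinite (K'.ι ≫ c.left) := (isAffine_isFinite_of_etale_compact (K := q.K) _).2
  obtain ⟨hfinK, hdiscK⟩ := finite_discrete_of_isFinite (K := q.K) (K'.ι ≫ c.left)
  haveI := hfinK
  haveI := hdiscK
  have hι : (m.left ∣_ V'.1) ≫ V'.1.ι = K'.ι ≫ m.left := morphismRestrict_ι m.left V'.1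
  haveI : Mono (m.left ∣_ V'.1) := by
    haveI : Mono ((m.left ∣_ V'.1) ≫ V'.1.ι) := by rw [hι]; infer_instance
    exact mono_of_mono _ V'.1.ι
  have hval : ∀ w : ↥(K' : Scheme.{u}), ((m.left ∣_ V'.1) w).1 = m.left w.1 := fun w => by
    simp
  haveI : SurjectiveOnStalks (m.left ∣_ V'.1) := by
    -- surjective on stalks: local on the source
    haveI : IsZariskiLocalAtSource @SurjectiveOnStalks := inferInstance
    rw [IsZariskiLocalAtSource.iff_of_iSup_eq_top (P := @SurjectiveOnStalks)
      (fun w : ↥(K' : Scheme.{u}) => (⟨{w}, isOpen_discrete _⟩ : (K' : Scheme.{u}).Opens))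
      (by
        ext w
        simp only [Opens.coe_iSup, Set.mem_iUnion, Opens.coe_mk, Set.mem_singleton_iff,
          Opens.coe_top, Set.mem_univ, iff_true]
        exact ⟨w, rfl⟩)]
    intro w
    set Ow : (K' : Scheme.{u}).Opens := ⟨{w}, isOpen_discrete _⟩
    haveI : Subsingleton ↥(Ow : Scheme.{u}) :=
      ⟨fun a b => Subtype.ext ((Set.mem_singleton_iff.1 a.2).trans (Set.mem_singleton_iff.1 b.2).symm)⟩
    haveI : IsPreimmersion (Ow.ι ≫ (m.left ∣_ V'.1)) :=
      isPreimmersion_of_mono_of_subsingleton _ ⟨w, rfl⟩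
    infer_instance
  refine ⟨isEmbedding_of_discrete _ (m.left ∣_ V'.1).injective fun w w' h => ?_⟩
  have h' : m.left w'.1 ⤳ m.left w.1 := by
    rw [← hval, ← hval]
    exact h.map continuous_subtype_val
  exact Subtype.ext (hns _ _ h')

end Groth.Agent.Lib.Seat46.FieldPre
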