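import Groth.Agent.S10175
import Groth.Agent.S10177
import Groth.Agent.Lib.Seat46FieldPre

/-!
# Fibres over quasi-compact monomorphic field points embed topologically (seat 46)
-/

set_option autoImplicit false
universe u
open CategoryTheory CategoryTheory.Limits AlgebraicGeometry Topology TopologicalSpace

namespace Groth.Agent.Lib.Seat46.FibreEmb

/-- a continuous map such that every open set is a preimage of an open set is inducing. -/
lemma isInducing_of_forall_open {A B : Type*} [TopologicalSpace A] [TopologicalSpace B] (f : A → B)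
    (hc : Continuous f) (h : ∀ O : Set A, IsOpen O → ∃ O' : Set B, IsOpen O' ∧ f ⁻¹' O' = O) :
    IsInducing f := by
  refine ⟨le_antisymm (continuous_iff_le_induced.1 hc) fun O hO => ?_⟩
  obtain ⟨O', hO', rfl⟩ := h O hO
  exact isOpen_induced_iff.2 ⟨O', hO', rfl⟩

/-- topological embeddings of schemes descend along open surjective base changes. -/
lemma isEmbedding_descend {T U U' T' : Scheme.{u}} (g : T ⟶ U) (e : U' ⟶ U) (p₁ : T' ⟶ T)
    (p₂ : T' ⟶ U') (sq : IsPullback p₁ p₂ g e) (hinj : Function.Injective g)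
    (he : IsOpenMap e) (hs : Function.Surjective e) (hp₂ : IsEmbedding p₂) : IsEmbedding g := by
  have hlift : ∀ (t : ↥T) (u' : ↥U'), g t = e u' → ∃ t' : ↥T', p₁ t' = t ∧ p₂ t' = u' := by
    intro t u' h
    obtain ⟨z, hz1, hz2⟩ := Scheme.Pullback.exists_preimage_pullback (f := g) (g := e) t u' h
    refine ⟨sq.isoPullback.inv z, ?_, ?_⟩
    · rw [← Scheme.Hom.comp_apply, sq.isoPullback_inv_fst]; exact hz1
    · rw [← Scheme.Hom.comp_apply, sq.isoPullback_inv_snd]; exact hz2
  refine ⟨isInducing_of_forall_open _ g.continuous fun O hO => ?_, hinj⟩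
  have hO' : IsOpen (p₁ ⁻¹' O) := hO.preimage p₁.continuous
  obtain ⟨O'', hO''o, hO''⟩ := hp₂.isInducing.isOpen_iff.1 hO'
  refine ⟨e '' O'', he _ hO''o, ?_⟩
  ext t
  constructor
  · rintro ⟨o, ho, hot⟩
    obtain ⟨t', ht1, ht2⟩ := hlift t o hot.symm
    have : t' ∈ p₁ ⁻¹' O := by rw [← hO'']; change p₂ t' ∈ O''; rw [ht2]; exact ho
    rw [← ht1]; exact this
  · intro ht
    obtain ⟨u', hu'⟩ := hs (g t)
    obtain ⟨t', ht1, ht2⟩ := hlift t u' hu'.symm
    have : t' ∈ p₂ ⁻¹' O'' := by rw [hO'']; change p₁ t' ∈ O; rw [ht1]; exact ht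
    exact ⟨u', by rw [← ht2]; exact this, hu'⟩

variable {S : Scheme.{u}}

/-- a monomorphism of sheaves is injective on points. -/
lemma injective_map_of_mono {F G : AlgSp.Sp S} (i : F ⟶ G) [Mono i] :
    Function.Injective (AlgSp.Points.map i) := by
  intro z₁ z₂ h
  have sq : IsPullback (𝟙 F) (𝟙 F) i i := IsKernelPair.id_of_mono i
  obtain ⟨p, hp1, hp2⟩ := Groth.Agent.S10175.exists_point_of_isPullback sq z₁ z₂ h
  rw [AlgSp.Points.map_id] at hp1 hp2
  exact hp1.symm.trans hp2

open Groth.Agent.Lib.Seat46.FieldPre in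
/-- **The fibre of a scheme over a quasi-compact monomorphic field point embeds topologically.** -/
theorem isEmbedding_of_fieldPt_pullback (Y : AlgSp.Space S) (r : AlgSp.FieldPt Y.obj)
    (hm : Mono r.toHom) (hq : AlgSp.RepWith @QuasiCompact r.toHom) {U T : Over S}
    (h : (AlgSp.yon S).obj U ⟶ Y.obj) (cT : T ⟶ r.pt) (g : T ⟶ U)
    (sqT : IsPullback ((AlgSp.yon S).map cT) ((AlgSp.yon S).map g) r.toHom h) :
    IsEmbedding g.left := by
  obtain ⟨V, b, hbE, hbS⟩ := Y.property.atlas
  obtain ⟨K, m, fstK, sqK⟩ := hq.1 b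
  obtain ⟨cK, rfl⟩ := (AlgSp.yon S).map_surjective fstK
  haveI : IsPreimmersion m.left := isPreimmersion_of_mono_qc_fieldPt Y r hm hq b hbE cK m sqK
  obtain ⟨U', e, fstU', sqU'⟩ := hbE.1 h
  obtain ⟨π, rfl⟩ := (AlgSp.yon S).map_surjective fstU'
  haveI : Etale e.left := hbE.2 h _ e sqU'
  haveI : Surjective e.left := hbS.2 h _ e sqU'
  haveI : Mono ((AlgSp.yon S).map g) := by
    haveI := hm
    exact sqT.mono_snd_of_mono
  haveI : Mono g := (AlgSp.yon S).mono_of_mono_map inferInstance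
  haveI : Mono g.left := inferInstance
  -- the scheme pullback `T' = T ×_U U'`
  let p₁ : pullback g e ⟶ T := pullback.fst g e
  let p₂ : pullback g e ⟶ U' := pullback.snd g e
  have sqL : IsPullback ((AlgSp.yon S).map p₁) ((AlgSp.yon S).map p₂) ((AlgSp.yon S).map g)
      ((AlgSp.yon S).map e) := (IsPullback.of_hasPullback g e).map (AlgSp.yon S)
  have cond : (AlgSp.yon S).map (p₁ ≫ cT) ≫ r.toHom = (AlgSp.yon S).map (p₂ ≫ π) ≫ b := by
    rw [Functor.map_comp, Functor.map_comp, Category.assoc, Category.assoc, sqT.w, sqU'.w,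
      ← Category.assoc, ← Category.assoc, sqL.w]
  obtain ⟨κ, hκ⟩ := (AlgSp.yon S).map_surjective (sqK.lift _ _ cond)
  have hκ1 : (AlgSp.yon S).map κ ≫ (AlgSp.yon S).map cK = (AlgSp.yon S).map (p₁ ≫ cT) := by
    rw [hκ, sqK.lift_fst]
  have hκ2 : (AlgSp.yon S).map κ ≫ (AlgSp.yon S).map m = (AlgSp.yon S).map (p₂ ≫ π) := by
    rw [hκ, sqK.lift_snd]
  have big : IsPullback ((AlgSp.yon S).map κ ≫ (AlgSp.yon S).map cK) ((AlgSp.yon S).map p₂)
      r.toHom ((AlgSp.yon S).map π ≫ b) := by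
    have := sqL.paste_horiz sqT
    rw [hκ1, Functor.map_comp, sqU'.w]
    exact this
  have sqκ : IsPullback ((AlgSp.yon S).map κ) ((AlgSp.yon S).map p₂) ((AlgSp.yon S).map m)
      ((AlgSp.yon S).map π) :=
    IsPullback.of_right big (by rw [hκ2, Functor.map_comp]) sqK
  have sqκ' : IsPullback κ p₂ m π :=
    IsPullback.of_map (AlgSp.yon S) (by
      apply (AlgSp.yon S).map_injective
      rw [Functor.map_comp, Functor.map_comp]; exact sqκ.w) sqκ
  have sqκ'' := sqκ'.map (Over.forget S)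
  haveI : IsPreimmersion p₂.left :=
    MorphismProperty.of_isPullback (P := @IsPreimmersion) sqκ'' ‹IsPreimmersion m.left›
  have sqS := (IsPullback.of_hasPullback g e).map (Over.forget S)
  exact isEmbedding_descend g.left e.left p₁.left p₂.left sqS g.left.injective
    e.left.isOpenMap e.left.surjective p₂.left.isEmbedding

end Groth.Agent.Lib.Seat46.FibreEmb
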