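import Mathlib
import Groth.Prelude.Def_AlgSp
import Groth.Prelude.Def_AlgSpDec
import Groth.Agent.S10176
import Groth.Agent.S10360
import Groth.Agent.Lib.Seat46BddLifts2
import Groth.Agent.Lib.Seat46DecentChart
import Groth.Agent.Lib.Seat45DecGen

/-!
# Decency from a dense open subscheme with quasi-compact generic points (seat 46)

`X` an algebraic space with an open immersion `j : h_{X'} ⟶ X` with dense image, `X'` a scheme with finitely many
irreducible components whose generic points are quasi-compact over `X`.  Then for every étale chart `U ⟶ X` with `U`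
affine the projection `U ×_X U ⟶ U` has a bounded number of geometric lifts, and `X` is decent.
-/

set_option autoImplicit false
universe u
open CategoryTheory CategoryTheory.Limits AlgebraicGeometry Topology TopologicalSpace

namespace Groth.Agent.Lib.Seat46.GenBdd

open Groth.Agent.Lib.Seat46.BddLifts

variable {S : Scheme.{u}}

lemma BLOn.mono {W V : Scheme.{u}} {g : W ⟶ V} {G : Set ↥V} {d n : ℕ} (h : BLOn d g G) (hdn : d ≤ n) :
    BLOn n g G := by
  intro Ω _ y hy z hz
  obtain ⟨i, j, hij, hzij⟩ := h Ω y hy (fun i => z (Fin.castLE (by omega) i)) (fun i => hz _)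
  exact ⟨_, _, fun h => hij (Fin.castLE_injective _ h), hzij⟩

section Generic

variable {X : AlgSp.Sp S} {X' U U' : Over S} (j : (AlgSp.yon S).obj X' ⟶ X) (φ : (AlgSp.yon S).obj U ⟶ X)
  (hφ : AlgSp.RepWith @Etale φ) (a' : U' ⟶ U) (φ' : U' ⟶ X')
  (sq : IsPullback ((AlgSp.yon S).map φ') ((AlgSp.yon S).map a') j φ)

include hφ sq in
/-- the bound over a point of `X'` whose residue field point is quasi-compact over `X`. -/
theorem exists_blOn_of_quasiCompact [IsAffine U.left] [Mono a'] (x' : ↥X'.left)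
    (hq : AlgSp.RepWith @QuasiCompact (AlgSp.FieldPt.ofPt j x').toHom) :
    ∃ d, BLOn d φ'.left {x'} := by
  obtain ⟨T, b, c', sqT⟩ := hq.1 φ
  obtain ⟨c, rfl⟩ := (AlgSp.yon S).map_surjective c'
  haveI : QuasiCompact b.left := hq.2 _ _ _ sqT
  haveI : CompactSpace ↥T.left := QuasiCompact.compactSpace_of_compactSpace b.left
  have hce : Etale c.left := hφ.2 _ _ _ sqT.flip
  obtain ⟨d, hd⟩ := @exists_bl_of_compact_etale (X'.left.residueField x') _ T.left c.left hce
    inferInstance
  refine ⟨d, ?_⟩
  intro Ω _ y hy z hz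
  obtain rfl : y (IsLocalRing.closedPoint Ω) = x' := hy
  -- factor `y` through the residue field
  let ybar : Spec (CommRingCat.of Ω) ⟶ Spec (X'.left.residueField (y (IsLocalRing.closedPoint Ω))) :=
    Spec.map (X'.left.descResidueField (Scheme.stalkClosedPointTo y))
  have hybar : ybar ≫ X'.left.fromSpecResidueField _ = y :=
    Scheme.descResidueField_stalkClosedPointTo_fromSpecResidueField Ω X'.left y
  let Ωo : Over S := Over.mk (y ≫ X'.hom)
  let ybo : Ωo ⟶ (AlgSp.FieldPt.ofPt j (y (IsLocalRing.closedPoint Ω))).pt :=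
    Over.homMk ybar (by
      change ybar ≫ X'.left.fromSpecResidueField _ ≫ X'.hom = y ≫ X'.hom
      rw [← Category.assoc, hybar])
  let zo : ∀ i, Ωo ⟶ U' := fun i => Over.homMk (z i) (by
    change z i ≫ U'.hom = y ≫ X'.hom
    rw [← Over.w φ', ← Category.assoc, hz i])
  have hzo : ∀ i, ybo ≫ Groth.Agent.Lib.Seat46.DecentChart.ptι j _ = zo i ≫ φ' := by
    intro i
    ext
    change ybar ≫ X'.left.fromSpecResidueField _ = z i ≫ φ'.left
    rw [hybar, hz i]
  have compat : ∀ i, (AlgSp.yon S).map ybo ≫ (AlgSp.FieldPt.ofPt j (y (IsLocalRing.closedPoint Ω))).toHom =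
      (AlgSp.yon S).map (zo i ≫ a') ≫ φ := by
    intro i
    rw [Groth.Agent.Lib.Seat46.DecentChart.toHom_ofPt', ← Category.assoc, ← Functor.map_comp, hzo i,
      Functor.map_comp, Functor.map_comp, Category.assoc, Category.assoc, sq.w]
  choose w' hw'1 hw'2 using fun i => sqT.exists_lift _ _ (compat i)
  choose w hw using fun i => (AlgSp.yon S).map_surjective (w' i)
  have hw1 : ∀ i, w i ≫ c = ybo := fun i => by
    apply (AlgSp.yon S).map_injective
    rw [Functor.map_comp, hw i, hw'1 i]
  have hw2 : ∀ i, w i ≫ b = zo i ≫ a' := fun i => by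
    apply (AlgSp.yon S).map_injective
    rw [Functor.map_comp, hw i, hw'2 i]
  obtain ⟨i, k, hik, hwik⟩ := hd Ω ybar trivial (fun i => (w i).left) (fun i => by
    have := congrArg (fun m => m.left) (hw1 i)
    exact this)
  refine ⟨i, k, hik, ?_⟩
  have h1 : w i = w k := by
    ext
    exact hwik
  have h2 : zo i ≫ a' = zo k ≫ a' := by rw [← hw2 i, ← hw2 k, h1]
  have h3 : zo i = zo k := (cancel_mono a').1 h2
  exact congrArg (fun m => m.left) h3

end Generic

section Top

/-- the set of generic points of irreducible components. -/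
def genPts (Y : Type*) [TopologicalSpace Y] : Set Y :=
  {y | ∃ T ∈ irreducibleComponents Y, IsGenericPoint y T}

lemma genPts_finite {Y : Type*} [TopologicalSpace Y] [T0Space Y] (h : (irreducibleComponents Y).Finite) :
    (genPts Y).Finite := by
  have : genPts Y ⊆ (fun y => closure {y}) ⁻¹' irreducibleComponents Y := by
    rintro y ⟨T, hT, hy⟩
    change closure {y} ∈ irreducibleComponents Y
    rw [hy.def]
    exact hT
  refine Set.Finite.subset (Set.Finite.preimage ?_ h) this
  intro y _ y' _ hyy'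
  exact (show IsGenericPoint y (closure {y'}) from hyy').eq (isGenericPoint_closure)

lemma genPts_inter_nonempty {Y : Type*} [TopologicalSpace Y] [QuasiSober Y] (O : Set Y) (hO : IsOpen O)
    (hne : O.Nonempty) : (O ∩ genPts Y).Nonempty := by
  obtain ⟨x, hx⟩ := hne
  obtain ⟨η, hη⟩ := QuasiSober.sober (isIrreducible_irreducibleComponent (x := x))
    isClosed_irreducibleComponent
  refine ⟨η, ?_, irreducibleComponent x, irreducibleComponent_mem_irreducibleComponents x, hη⟩
  exact (hη.specializes mem_irreducibleComponent).mem_open hO hx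

end Top

section Chart

variable {X : AlgSp.Sp S} {X' U U' : Over S} (j : (AlgSp.yon S).obj X' ⟶ X)
  (hj : AlgSp.RepWith @IsOpenImmersion j)
  (hfin : (irreducibleComponents ↥X'.left).Finite)
  (hqc : ∀ x' : ↥X'.left, (∃ T ∈ irreducibleComponents ↥X'.left, IsGenericPoint x' T) →
    AlgSp.RepWith @QuasiCompact (AlgSp.FieldPt.ofPt j x').toHom)
  (φ : (AlgSp.yon S).obj U ⟶ X)
  (hφ : AlgSp.RepWith @Etale φ) (a' : U' ⟶ U) (φ' : U' ⟶ X')
  (sq : IsPullback ((AlgSp.yon S).map φ') ((AlgSp.yon S).map a') j φ)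

include hj sq in
lemma isOpenImmersion_left : IsOpenImmersion a'.left := hj.2 _ _ _ sq

include hj sq in
lemma mono_of_sq : Mono a' := by
  haveI := isOpenImmersion_left j hj φ a' φ' sq
  exact (Over.forget S).mono_of_mono_map (inferInstanceAs (Mono a'.left))

include hj hfin hqc hφ sq in
/-- the bound for the open part of an affine étale chart over the dense open subscheme. -/
theorem exists_bl_openPart [IsAffine U.left] : ∃ n, BL n φ'.left := by
  haveI := isOpenImmersion_left j hj φ a' φ' sq
  haveI := mono_of_sq j hj φ a' φ' sq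
  haveI : Etale φ'.left := hφ.2 _ _ _ sq.flip
  haveI : IsSeparated φ'.left := by
    haveI : IsSeparated (φ'.left ≫ terminal.from X'.left) := by
      rw [show φ'.left ≫ terminal.from X'.left = a'.left ≫ terminal.from U.left from
        terminal.hom_ext _ _]
      infer_instance
    exact IsSeparated.of_comp φ'.left (terminal.from X'.left)
  haveI : Finite ↥(genPts ↥X'.left) := (genPts_finite hfin).to_subtype
  choose d hd using fun x' : ↥(genPts ↥X'.left) =>
    exists_blOn_of_quasiCompact j φ hφ a' φ' sq x'.1 (hqc x'.1 x'.2)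
  obtain ⟨n, hn⟩ := Finite.exists_le d
  refine ⟨n, bl_of_dense n φ'.left (genPts ↥X'.left)
    (fun O hO => genPts_inter_nonempty (O : Set ↥X'.left) O.2 hO) ?_⟩
  intro Ω _ y hy
  exact (BLOn.mono (hd ⟨_, hy⟩) (hn _)) Ω y rfl

end Chart

section Rel

variable {X : AlgSp.Sp S} {X' U U' R : Over S} (j : (AlgSp.yon S).obj X' ⟶ X)
  (hj : AlgSp.RepWith @IsOpenImmersion j)
  (hd : Dense (Set.range (AlgSp.Points.ofPt j)))
  (φ : (AlgSp.yon S).obj U ⟶ X)
  (hφ : AlgSp.RepWith @Etale φ) (a' : U' ⟶ U) (φ' : U' ⟶ X')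
  (sq : IsPullback ((AlgSp.yon S).map φ') ((AlgSp.yon S).map a') j φ)
  (s t : R ⟶ U) (sqR : IsPullback ((AlgSp.yon S).map t) ((AlgSp.yon S).map s) φ φ)

include hj hd hφ sq sqR in
/-- the bound passes from the open part of the chart to the projection of the relation. -/
theorem bl_rel [IsAffine U.left] (n : ℕ) (hn : BL n φ'.left) : BL n s.left := by
  haveI := isOpenImmersion_left j hj φ a' φ' sq
  haveI := mono_of_sq j hj φ a' φ' sq
  haveI : Etale s.left := hφ.2 _ _ _ sqR
  haveI : IsSeparated s.left :=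
    (Groth.Agent.Lib.Seat45.DecGen.isSeparated_left_of_isPullback (s := t) (t := s) sqR).2
  refine bl_of_dense n s.left (Set.range a'.left) ?_ ?_
  · intro O hO
    have hopen : IsOpen (AlgSp.Points.ofPt φ '' (O : Set ↥U.left)) :=
      Groth.Agent.S10176.isOpenMap_ofPt φ hφ _ O.2
    obtain ⟨x, ⟨u, hu, rfl⟩, ⟨x', hx'⟩⟩ := hd.inter_open_nonempty _ hopen (hO.image _)
    obtain ⟨y, -, hy⟩ := Groth.Agent.S10176.exists_point_of_isPullback_yon sq x' u hx'
    exact ⟨u, hu, y, hy⟩
  · intro Ω _ y hy z hz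
    have hsub : Set.range y ⊆ Set.range a'.left := by
      rw [range_eq_singleton, Set.singleton_subset_iff]
      exact hy
    let y' : Spec (CommRingCat.of Ω) ⟶ U'.left := IsOpenImmersion.lift a'.left y hsub
    have hy' : y' ≫ a'.left = y := IsOpenImmersion.lift_fac _ _ _
    let Ωo : Over S := Over.mk (y ≫ U.hom)
    let y'o : Ωo ⟶ U' := Over.homMk y' (by
      change y' ≫ U'.hom = y ≫ U.hom
      rw [← Over.w a', ← Category.assoc, hy'])
    let zo : ∀ i, Ωo ⟶ R := fun i => Over.homMk (z i) (by
      change z i ≫ R.hom = y ≫ U.hom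
      rw [← Over.w s, ← Category.assoc, hz i])
    have hzo : ∀ i, y'o ≫ a' = zo i ≫ s := by
      intro i
      ext
      change y' ≫ a'.left = z i ≫ s.left
      rw [hy', hz i]
    have compat : ∀ i, (AlgSp.yon S).map (y'o ≫ φ') ≫ j = (AlgSp.yon S).map (zo i ≫ t) ≫ φ := by
      intro i
      rw [Functor.map_comp, Category.assoc, sq.w, ← Category.assoc, ← Functor.map_comp, hzo i,
        Functor.map_comp, Functor.map_comp, Category.assoc, Category.assoc, sqR.w]
    choose v' hv'1 hv'2 using fun i => sq.exists_lift _ _ (compat i)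
    choose v hv using fun i => (AlgSp.yon S).map_surjective (v' i)
    have hv1 : ∀ i, v i ≫ φ' = y'o ≫ φ' := fun i => by
      apply (AlgSp.yon S).map_injective
      rw [Functor.map_comp, hv i, hv'1 i]
    have hv2 : ∀ i, v i ≫ a' = zo i ≫ t := fun i => by
      apply (AlgSp.yon S).map_injective
      rw [Functor.map_comp, hv i, hv'2 i]
    obtain ⟨i, k, hik, hvik⟩ := hn Ω (y' ≫ φ'.left) trivial (fun i => (v i).left) (fun i => by
      have := congrArg (fun m => m.left) (hv1 i)
      exact this)
    refine ⟨i, k, hik, ?_⟩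
    have h1 : v i = v k := by
      ext
      exact hvik
    have h2 : zo i ≫ t = zo k ≫ t := by rw [← hv2 i, ← hv2 k, h1]
    have h3 : z i ≫ t.left = z k ≫ t.left := congrArg (fun m => m.left) h2
    exact Groth.Agent.Lib.Seat45.DecGen.hom_ext_of_isPullback (s := t) (t := s) sqR _ _ h3
      ((hz i).trans (hz k).symm)

end Rel

section Main

variable (X : AlgSp.Space S) {X' : Over S} (j : (AlgSp.yon S).obj X' ⟶ X.obj)
  (hj : AlgSp.RepWith @IsOpenImmersion j)
  (hd : Dense (Set.range (AlgSp.Points.ofPt j)))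
  (hfin : (irreducibleComponents ↥X'.left).Finite)
  (hqc : ∀ x' : ↥X'.left, (∃ T ∈ irreducibleComponents ↥X'.left, IsGenericPoint x' T) →
    AlgSp.RepWith @QuasiCompact (AlgSp.FieldPt.ofPt j x').toHom)

include hj hd hfin hqc in
/-- **An algebraic space with a dense open subscheme having finitely many irreducible components, all of whose
generic points are quasi-compact over the space, is decent.** -/
theorem isDecent_of_dense_open : AlgSp.IsDecent X.obj := by
  intro x
  refine (Groth.Agent.S10360.result X x).1 ?_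
  intro U φ hU hφ R s t sqR
  haveI := hU
  obtain ⟨U', a', φ'', sq⟩ := hj.1 φ
  obtain ⟨φ', rfl⟩ := (AlgSp.yon S).map_surjective φ''
  obtain ⟨n, hn⟩ := exists_bl_openPart j hj hfin hqc φ hφ a' φ' sq
  have hs : BL n s.left := bl_rel j hj hd φ hφ a' φ' sq s t sqR n hn
  have hsfin : ∀ u : ↥U.left, (s.left ⁻¹' {u}).Finite := finite_fibre_of_bl s.left n hs
  have hU_fin : (AlgSp.Points.ofPt φ ⁻¹' {x}).Finite := by
    by_cases hne : (AlgSp.Points.ofPt φ ⁻¹' {x}).Nonempty
    · obtain ⟨u₀, hu₀⟩ := hne
      refine Set.Finite.subset ((hsfin u₀).image t.left) ?_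
      intro u hu
      have e : AlgSp.Points.ofPt φ u = AlgSp.Points.ofPt φ u₀ := by
        rw [Set.mem_preimage, Set.mem_singleton_iff] at hu hu₀
        rw [hu, hu₀]
      obtain ⟨r, hr1, hr2⟩ := Groth.Agent.S10176.exists_point_of_isPullback_yon sqR u u₀ e
      exact ⟨r, hr2, hr1⟩
    · rw [Set.not_nonempty_iff_eq_empty] at hne
      rw [hne]
      exact Set.finite_empty
  refine ⟨hU_fin, ?_⟩
  have : AlgSp.Points.ofPt ((AlgSp.yon S).map t ≫ φ) ⁻¹' {x} =
      s.left ⁻¹' (AlgSp.Points.ofPt φ ⁻¹' {x}) := by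
    ext r
    rw [Set.mem_preimage, Set.mem_preimage, Set.mem_preimage, sqR.w,
      Groth.Agent.S10176.ofPt_map_comp]
  rw [this]
  exact hU_fin.preimage' (fun u _ => hsfin u)

end Main

end Groth.Agent.Lib.Seat46.GenBdd
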