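import Mathlib
import Groth.Agent.Lib.Helper3IndEt
import Groth.Agent.Lib.Helper3EtRed

/-!
# Geometric reducedness passes to ind-étale algebras (seat 46)

For a field `k`, a field extension (or any `k`-algebra) `K`, a `k`-algebra `A` and an `A`-algebra `R`
through which every map from a finitely presented `A`-algebra factors via an étale `A`-algebra
(`Obj.Factor A R`, which holds for ind-étale algebras), `R ⊗[k] K` is reduced as soon as
`A ⊗[k] K` is.
-/

set_option autoImplicit false

namespace Groth.Agent.Lib.Seat46.IndEtRed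

open TensorProduct Groth.Agent.Lib.Helper3.IndEt

universe u

variable {k : Type u} [Field k] {K : Type u} [CommRing K] [Algebra k K]

section coords

variable {ι : Type*} (b : Module.Basis ι k K)
variable {E R : Type u} [CommRing E] [CommRing R] [Algebra k E] [Algebra k R]

/-- coordinates with respect to the base-changed basis are compatible with maps of the left
factor. -/
lemma repr_map (g : E →ₐ[k] R) (y : E ⊗[k] K) (i : ι) :
    (Algebra.TensorProduct.basis R b).repr (Algebra.TensorProduct.map g (AlgHom.id k K) y) i =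
      g ((Algebra.TensorProduct.basis E b).repr y i) := by
  induction y using TensorProduct.induction_on with
  | zero => simp
  | tmul e c =>
    simp only [Algebra.TensorProduct.map_tmul, AlgHom.coe_id, id_eq,
      Algebra.TensorProduct.basis_repr_tmul, Finsupp.smul_apply, Finsupp.mapRange_apply,
      smul_eq_mul, map_mul, AlgHom.commutes]
  | add x y hx hy => simp only [map_add, Finsupp.add_apply, hx, hy]

end coords

/-- the main step: reducedness of `R ⊗[k] K` from reducedness of `E ⊗[k] K` for all étale
`A`-algebras `E`. -/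
theorem isReduced_tensor_of_factor
    (A R : Type u) [CommRing A] [CommRing R] [Algebra k A] [Algebra A R] [Algebra k R]
    [IsScalarTower k A R] (H : Obj.Factor A R)
    (hE : ∀ (E : Type u) [CommRing E] [Algebra A E] [Algebra k E] [IsScalarTower k A E]
      [Algebra.Etale A E], IsReduced (E ⊗[k] K)) : IsReduced (R ⊗[k] K) := by
  classical
  let b := Module.Free.chooseBasis k K
  refine ⟨fun z hz => ?_⟩
  obtain ⟨n, hn⟩ := hz
  let bR := Algebra.TensorProduct.basis R b
  let c := bR.repr z
  let σ := c.support
  let ψ : MvPolynomial σ A →ₐ[A] R := MvPolynomial.aeval (fun j => c j)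
  obtain ⟨E, _, _, _, f, g, hfg⟩ := H (MvPolynomial σ A) ψ
  let _ : Algebra k E := ((algebraMap A E).comp (algebraMap k A)).toAlgebra
  have : IsScalarTower k A E := IsScalarTower.of_algebraMap_eq (fun _ => rfl)
  let gk : E →ₐ[k] R := g.restrictScalars k
  let G := Algebra.TensorProduct.map gk (AlgHom.id k K)
  let zE : E ⊗[k] K := ∑ j : σ, f (MvPolynomial.X j) ⊗ₜ[k] b j
  have hgf : ∀ j : σ, g (f (MvPolynomial.X j)) = c j := by
    intro j
    have := congrArg (fun φ : MvPolynomial σ A →ₐ[A] R => φ (MvPolynomial.X j)) hfg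
    simpa [ψ] using this
  have hGz : G zE = z := by
    have h1 : z = ∑ j : σ, c j ⊗ₜ[k] b j := by
      conv_lhs => rw [← bR.linearCombination_repr z, Finsupp.linearCombination_apply,
        Finsupp.sum, ← Finset.sum_coe_sort]
      refine Finset.sum_congr rfl (fun j _ => ?_)
      exact Algebra.TensorProduct.basis_repr_symm_apply' b _ _
    rw [h1]
    simp only [zE, map_sum, G, Algebra.TensorProduct.map_tmul, AlgHom.coe_id, id_eq]
    refine Finset.sum_congr rfl (fun j _ => ?_)
    change g (f (MvPolynomial.X j)) ⊗ₜ[k] b j = _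
    rw [hgf]
  -- kill the coordinates of `zE ^ n`
  let y := zE ^ n
  have hGy : G y = 0 := by rw [map_pow, hGz, hn]
  let cy := (Algebra.TensorProduct.basis E b).repr y
  have hcy : ∀ i, g (cy i) = 0 := by
    intro i
    change gk (cy i) = 0
    rw [← repr_map b gk y i, hGy]
    simp
  let I : Ideal E := Ideal.span ((cy.support.image cy : Finset E) : Set E)
  have hI : I.FG := ⟨cy.support.image cy, rfl⟩
  have : Algebra.FinitePresentation A (E ⧸ I) := Algebra.FinitePresentation.quotient hI
  have hker : ∀ x ∈ I, g x = 0 := by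
    intro x hx
    have : I ≤ RingHom.ker g.toRingHom := by
      rw [Ideal.span_le]
      intro x hx
      obtain ⟨i, -, rfl⟩ := Finset.mem_image.1 (Finset.mem_coe.1 hx)
      exact hcy i
    exact this hx
  let ψ' : (E ⧸ I) →ₐ[A] R := Ideal.Quotient.liftₐ I g hker
  obtain ⟨E', _, _, _, f', g', hfg'⟩ := H (E ⧸ I) ψ'
  let _ : Algebra k E' := ((algebraMap A E').comp (algebraMap k A)).toAlgebra
  have : IsScalarTower k A E' := IsScalarTower.of_algebraMap_eq (fun _ => rfl)
  let h : E →ₐ[A] E' := f'.comp (Ideal.Quotient.mkₐ A I)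
  have hg'h : ∀ x, g' (h x) = g x := by
    intro x
    have h0 : (g'.comp f') (Ideal.Quotient.mk I x) = ψ' (Ideal.Quotient.mk I x) := by rw [hfg']
    exact h0
  have hh : ∀ i, h (cy i) = 0 := by
    intro i
    by_cases hi : i ∈ cy.support
    · have : cy i ∈ I := Ideal.subset_span (Finset.mem_coe.2 (Finset.mem_image_of_mem _ hi))
      change f' (Ideal.Quotient.mk I (cy i)) = 0
      rw [Ideal.Quotient.eq_zero_iff_mem.2 this, map_zero]
    · rw [Finsupp.notMem_support_iff.1 hi, map_zero]
  let hk : E →ₐ[k] E' := h.restrictScalars k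
  let Hm := Algebra.TensorProduct.map hk (AlgHom.id k K)
  have hHy : Hm y = 0 := by
    apply (Algebra.TensorProduct.basis E' b).repr.injective
    ext i
    rw [repr_map b hk y i]
    have : hk (cy i) = 0 := hh i
    simpa using this
  have hred : IsReduced (E' ⊗[k] K) := hE E'
  have hHz : Hm zE = 0 := by
    apply IsReduced.eq_zero
    exact ⟨n, by rw [← map_pow]; exact hHy⟩
  let g'k : E' →ₐ[k] R := g'.restrictScalars k
  let G' := Algebra.TensorProduct.map g'k (AlgHom.id k K)
  have hcomp : ∀ w, G' (Hm w) = G w := by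
    intro w
    induction w using TensorProduct.induction_on with
    | zero => simp
    | tmul e d =>
      simp only [Hm, G', G, Algebra.TensorProduct.map_tmul, AlgHom.coe_id, id_eq]
      congr 1
      exact hg'h e
    | add x y hx hy => simp only [map_add, hx, hy]
  rw [← hGz, ← hcomp, hHz, map_zero]

/-- étale algebras over `A` stay geometrically reduced when `A` is. -/
theorem isReduced_tensor_of_etale (A E : Type u) [CommRing A] [CommRing E] [Algebra k A]
    [Algebra A E] [Algebra k E] [IsScalarTower k A E] [Algebra.Etale A E]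
    [IsReduced (A ⊗[k] K)] : IsReduced (E ⊗[k] K) := by
  have : IsReduced ((A ⊗[k] K) ⊗[A] E) :=
    Groth.Agent.Lib.Helper3.EtRed.isReduced_of_etale (A ⊗[k] K) ((A ⊗[k] K) ⊗[A] E)
  let e1 : (A ⊗[k] K) ⊗[A] E ≃ₐ[A] E ⊗[A] (A ⊗[k] K) := Algebra.TensorProduct.comm A _ _
  let e2 : E ⊗[A] (A ⊗[k] K) ≃ₐ[A] E ⊗[k] K := Algebra.TensorProduct.cancelBaseChange k A A E K
  let e : E ⊗[k] K →+* (A ⊗[k] K) ⊗[A] E :=
    (e1.symm : E ⊗[A] (A ⊗[k] K) →+* (A ⊗[k] K) ⊗[A] E).comp (e2.symm : E ⊗[k] K →+* _)
  refine isReduced_of_injective e ?_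
  exact e1.symm.injective.comp e2.symm.injective

/-- combination: if `A ⊗[k] K` is reduced and `R` is an `A`-algebra with the factorization property
then `R ⊗[k] K` is reduced. -/
theorem isReduced_tensor_of_factor_of_isReduced
    (A R : Type u) [CommRing A] [CommRing R] [Algebra k A] [Algebra A R] [Algebra k R]
    [IsScalarTower k A R] (H : Obj.Factor A R) [IsReduced (A ⊗[k] K)] :
    IsReduced (R ⊗[k] K) :=
  isReduced_tensor_of_factor A R H (fun E _ _ _ _ _ => isReduced_tensor_of_etale A E)

end Groth.Agent.Lib.Seat46.IndEtRed
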