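import Mathlib

/-!
# Finiteness of the set of irreducible components along dense maps and open embeddings (seat 46)
-/

set_option autoImplicit false
open Topology TopologicalSpace

namespace Groth.Agent.Lib.Seat46.IrrComp

variable {Y Z : Type*} [TopologicalSpace Y] [TopologicalSpace Z]

/-- a space with a continuous map with dense image from a space with finitely many irreducible components has finitely
many irreducible components. -/
theorem finite_of_denseRange {f : Y → Z} (hf : Continuous f) (hd : DenseRange f)
    (h : (irreducibleComponents Y).Finite) : (irreducibleComponents Z).Finite := by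
  classical
  refine Set.Finite.subset (h.image (fun T => closure (f '' T))) ?_
  intro C hC
  have hcov : C ⊆ ⋃₀ ↑(h.toFinset.image (fun T => closure (f '' T))) := by
    intro c _
    have h1 : c ∈ closure (Set.range f) := hd c
    have h2 : Set.range f = ⋃ T ∈ irreducibleComponents Y, f '' T := by
      rw [← Set.image_univ, ← sUnion_irreducibleComponents, Set.sUnion_eq_biUnion, Set.image_iUnion₂]
    rw [h2, h.closure_biUnion] at h1
    simp only [Set.mem_iUnion] at h1
    obtain ⟨T, hT, hcT⟩ := h1
    refine ⟨closure (f '' T), ?_, hcT⟩
    simp only [Finset.coe_image, Set.Finite.coe_toFinset]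
    exact ⟨T, hT, rfl⟩
  obtain ⟨W, hW, hCW⟩ := isIrreducible_iff_sUnion_isClosed.1 hC.1 _
    (fun W hW => by
      simp only [Finset.mem_image, Set.Finite.mem_toFinset] at hW
      obtain ⟨T, -, rfl⟩ := hW
      exact isClosed_closure) hcov
  simp only [Finset.mem_image, Set.Finite.mem_toFinset] at hW
  obtain ⟨T, hT, rfl⟩ := hW
  refine ⟨T, hT, ?_⟩
  have hirr : IsIrreducible (closure (f '' T)) := (hT.1.image f hf.continuousOn).closure
  exact (Set.Subset.antisymm hCW (hC.2 hirr hCW)).symm

/-- a space with an open embedding into a space with finitely many irreducible components has finitely many irreducible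
components. -/
theorem finite_of_isOpenEmbedding {f : Y → Z} (hf : IsOpenEmbedding f)
    (h : (irreducibleComponents Z).Finite) : (irreducibleComponents Y).Finite := by
  refine Set.Finite.subset (h.image (fun C => f ⁻¹' C)) ?_
  intro T hT
  obtain ⟨C, hC, hTC⟩ := exists_mem_irreducibleComponents_subset_of_isIrreducible (f '' T)
    (hT.1.image f hf.continuous.continuousOn)
  have hne : (C ∩ Set.range f).Nonempty := by
    obtain ⟨t, ht⟩ := hT.1.1
    exact ⟨f t, hTC ⟨t, ht, rfl⟩, t, rfl⟩
  have hpre := preimage_mem_irreducibleComponents hC hf hne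
  have hsub : T ⊆ f ⁻¹' C := Set.image_subset_iff.1 hTC
  exact ⟨C, hC, Set.Subset.antisymm (hT.2 hpre.1 hsub) hsub⟩

end Groth.Agent.Lib.Seat46.IrrComp
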