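import Mathlib
import Groth.Agent.S10422

/-!
# Algebra and topology behind "locally separated implies decent" (seat 46)
-/

set_option autoImplicit false
universe u
open TensorProduct

namespace Groth.Agent.Lib.Seat46.LocSepAlg

/-- the key algebraic fact of `S10422`, over an arbitrary base ring and for arbitrary ring maps
`θ n m : A ⊗ A → K n ⊗_k K m` with the expected values on pure tensors. -/
theorem key' (R₀ A k : Type u) [CommRing R₀] [CommRing A] [Algebra R₀ A] [Field k]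
    (K : ℕ → Type u) [∀ n, Field (K n)] [∀ n, Algebra A (K n)] [∀ n, Algebra k (K n)]
    (θ : ∀ n m, A ⊗[R₀] A →+* K n ⊗[k] K m)
    (hθ : ∀ n m a b, θ n m (a ⊗ₜ b) = algebraMap A (K n) a ⊗ₜ algebraMap A (K m) b)
    (c : A ⊗[R₀] A) (hc1 : Algebra.TensorProduct.lmul' (S := A) R₀ c = 1)
    (hc : ∀ n m, n ≠ m → ∀ q : PrimeSpectrum (K n ⊗[k] K m), θ n m c ∈ q.asIdeal) : False := by
  classical
  obtain ⟨Sf, rfl⟩ := TensorProduct.exists_finset c
  refine Groth.Agent.S10422.key A k K (∑ i ∈ Sf, i.1 ⊗ₜ[ℤ] i.2) ?_ ?_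
  · rw [map_sum] at hc1 ⊢
    rw [← hc1]
    refine Finset.sum_congr rfl fun i _ => ?_
    simp
  · intro n m hnm q
    have h := hc n m hnm q
    rw [map_sum] at h ⊢
    have : ∑ x ∈ Sf, Groth.Agent.S10422.theta A k K n m (x.1 ⊗ₜ[ℤ] x.2) =
        ∑ x ∈ Sf, θ n m (x.1 ⊗ₜ[R₀] x.2) :=
      Finset.sum_congr rfl fun i _ => by rw [Groth.Agent.S10422.theta_tmul, hθ]
    rw [this]
    exact h

/-- separating the complement of an open neighbourhood of the diagonal by a function. -/
theorem exists_separating {R₀ A : Type u} [CommRing R₀] [CommRing A] [Algebra R₀ A] {Y : Type*}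
    [TopologicalSpace Y] (J : Y → PrimeSpectrum (A ⊗[R₀] A)) (hJ : Topology.IsInducing J)
    (E : Set Y) (hE : IsOpen E)
    (hdiag : ∀ y : PrimeSpectrum A, ∃ e ∈ E,
      J e = PrimeSpectrum.comap (Algebra.TensorProduct.lmul' (S := A) R₀).toRingHom y) :
    ∃ c : A ⊗[R₀] A, Algebra.TensorProduct.lmul' (S := A) R₀ c = 1 ∧
      ∀ y, y ∉ E → c ∈ (J y).asIdeal := by
  obtain ⟨O, hO, hOE⟩ := hJ.isOpen_iff.1 hE
  have hsurj : Function.Surjective (Algebra.TensorProduct.lmul' (S := A) R₀).toRingHom := by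
    intro a
    exact ⟨a ⊗ₜ 1, by simp⟩
  have hempty : PrimeSpectrum.zeroLocus (PrimeSpectrum.vanishingIdeal Oᶜ : Set (A ⊗[R₀] A)) ∩
      PrimeSpectrum.zeroLocus (RingHom.ker (Algebra.TensorProduct.lmul' (S := A) R₀).toRingHom :
        Set (A ⊗[R₀] A)) = ∅ := by
    rw [PrimeSpectrum.zeroLocus_vanishingIdeal_eq_closure, hO.isClosed_compl.closure_eq,
      ← range_comap_of_surjective _ _ hsurj]
    ext z
    simp only [Set.mem_inter_iff, Set.mem_compl_iff, Set.mem_range, Set.mem_empty_iff_false,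
      iff_false, not_and, not_exists]
    rintro hz y rfl
    obtain ⟨e, heE, he⟩ := hdiag y
    apply hz
    rw [← he]
    have : e ∈ J ⁻¹' O := by rw [hOE]; exact heE
    exact this
  rw [← PrimeSpectrum.zeroLocus_sup, PrimeSpectrum.zeroLocus_empty_iff_eq_top] at hempty
  have h1 : (1 : A ⊗[R₀] A) ∈ PrimeSpectrum.vanishingIdeal Oᶜ ⊔
      RingHom.ker (Algebra.TensorProduct.lmul' (S := A) R₀).toRingHom := by
    rw [hempty]; trivial
  obtain ⟨c, hc, d, hd, hcd⟩ := Submodule.mem_sup.mp h1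
  refine ⟨c, ?_, fun y hy => ?_⟩
  · have : Algebra.TensorProduct.lmul' (S := A) R₀ (c + d) = 1 := by rw [hcd, map_one]
    rw [map_add] at this
    rw [RingHom.mem_ker] at hd
    change Algebra.TensorProduct.lmul' (S := A) R₀ d = 0 at hd
    rwa [hd, add_zero] at this
  · rw [PrimeSpectrum.mem_vanishingIdeal] at hc
    refine hc (J y) ?_
    intro hJy
    apply hy
    rw [← hOE]
    exact hJy

end Groth.Agent.Lib.Seat46.LocSepAlg
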