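import Mathlib
import Groth.Prelude.Def_AlgSp
import Groth.Prelude.Def_AlgSpDec
import Groth.Agent.S9920
import Groth.Agent.S10127
import Groth.Agent.S10412
import Groth.Agent.Lib.Seat46LocSepAlg
import Groth.Agent.Lib.Seat46FieldQuot
import Groth.Agent.Lib.Seat45EtField
import Groth.Agent.Lib.Seat83MonoPoint
import Groth.Agent.Lib.Helper12PullbackPts

/-!
# A locally separated algebraic space is decent (seat 46)
-/

set_option autoImplicit false
universe u
open CategoryTheory CategoryTheory.Limits AlgebraicGeometry TensorProduct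

namespace Groth.Agent.Lib.Seat46.LocSep

attribute [local instance] ULift.algebra'

section Cmp

variable (A : Type u) [CommRing A] {S : Scheme.{u}} (str : Spec (CommRingCat.of A) ⟶ S)

/-- the comparison `Spec A ×_S Spec A ⟶ Spec (A ⊗ A)`. -/
noncomputable def cmp : pullback str str ⟶ Spec (CommRingCat.of (A ⊗[ULift.{u} ℤ] A)) :=
  pullback.mapDesc str str (specULiftZIsTerminal.from S) ≫
    (pullback.congrHom (specULiftZIsTerminal.hom_ext _ _) (specULiftZIsTerminal.hom_ext _ _)).hom ≫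
    (pullbackSpecIso (ULift.{u} ℤ) A A).hom

instance : IsImmersion (cmp A str) := by
  unfold cmp
  infer_instance

lemma cmp_fst : cmp A str ≫ Spec.map (CommRingCat.ofHom
    (Algebra.TensorProduct.includeLeftRingHom : A →+* A ⊗[ULift.{u} ℤ] A)) =
    pullback.fst str str := by
  unfold cmp
  rw [Category.assoc, Category.assoc, pullbackSpecIso_hom_fst]
  simp only [pullback.mapDesc, pullback.congrHom_hom]
  erw [pullback.lift_fst, pullback.lift_fst_assoc]
  simp

lemma cmp_snd : cmp A str ≫ Spec.map (CommRingCat.ofHom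
    ((Algebra.TensorProduct.includeRight : A →ₐ[ULift.{u} ℤ] A ⊗[ULift.{u} ℤ] A) : A →+* _)) =
    pullback.snd str str := by
  unfold cmp
  rw [Category.assoc, Category.assoc, pullbackSpecIso_hom_snd]
  simp only [pullback.mapDesc, pullback.congrHom_hom]
  erw [pullback.lift_snd, pullback.lift_snd_assoc]
  simp

/-- morphisms into `Spec (A ⊗ A)` are determined by their two components. -/
lemma spec_tensor_hom_ext {T : Scheme.{u}} (f g : T ⟶ Spec (CommRingCat.of (A ⊗[ULift.{u} ℤ] A)))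
    (h1 : f ≫ Spec.map (CommRingCat.ofHom
      (Algebra.TensorProduct.includeLeftRingHom : A →+* A ⊗[ULift.{u} ℤ] A)) =
      g ≫ Spec.map (CommRingCat.ofHom Algebra.TensorProduct.includeLeftRingHom))
    (h2 : f ≫ Spec.map (CommRingCat.ofHom
      ((Algebra.TensorProduct.includeRight : A →ₐ[ULift.{u} ℤ] A ⊗[ULift.{u} ℤ] A) : A →+* _)) =
      g ≫ Spec.map (CommRingCat.ofHom
        ((Algebra.TensorProduct.includeRight : A →ₐ[ULift.{u} ℤ] A ⊗[ULift.{u} ℤ] A) : A →+* _))) :
    f = g := by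
  rw [← cancel_mono (pullbackSpecIso (ULift.{u} ℤ) A A).inv]
  apply pullback.hom_ext
  · rw [Category.assoc, Category.assoc, pullbackSpecIso_inv_fst]; exact h1
  · rw [Category.assoc, Category.assoc, pullbackSpecIso_inv_snd]; exact h2

end Cmp

section Main

variable {S : Scheme.{u}} {X : AlgSp.Sp S}

open Groth.Agent.Lib.Seat46.FieldQuot Groth.Agent.Lib.Seat46.LocSepAlg

/-- **Finite fibres on affine étale charts of a locally separated space.** -/
theorem finite_fibre (hX : AlgSp.IsLocallySeparatedSp X) (p : AlgSp.FieldPt X)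
    (A : Type u) [CommRing A] (str : Spec (CommRingCat.of A) ⟶ S)
    (φ : (AlgSp.yon S).obj (Over.mk str) ⟶ X) (hφ : AlgSp.RepWith @Etale φ)
    {W : Over S} (c : W ⟶ p.pt) (b : W ⟶ Over.mk str)
    (sq : IsPullback ((AlgSp.yon S).map c) ((AlgSp.yon S).map b) p.toHom φ) : Finite ↥W.left := by
  by_contra hfin
  haveI : Infinite ↥W.left := not_finite_iff_infinite.1 hfin
  obtain ⟨f⟩ : Nonempty (ℕ ↪ ↥W.left) := ⟨Infinite.natEmbedding _⟩
  -- the kernel pair
  obtain ⟨R, s, fstR, sqR⟩ := hφ.1 φ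
  obtain ⟨t, rfl⟩ := (AlgSp.yon S).map_surjective fstR
  haveI : Etale s.left := hφ.2 φ _ s sqR
  obtain ⟨e₀, he₀t, he₀s⟩ := exists_e sqR
  haveI : Etale e₀.left := by
    haveI : Etale (e₀.left ≫ s.left) := by
      rw [← Over.comp_left, he₀s]
      exact inferInstanceAs (Etale (𝟙 _))
    exact Etale.of_comp e₀.left s.left
  have hEopen : IsOpen (Set.range e₀.left) := e₀.left.isOpenMap.isOpen_range
  -- the immersion
  have hj : IsImmersion (prod.lift t s).left := Groth.Agent.S9920.property_of_repWith_diag hX sqR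
  have hι : ι s t = (prod.lift t s).left ≫ (Over.prodLeftIsoPullback _ _).hom := by
    apply pullback.hom_ext
    · rw [ι_fst, Category.assoc, Over.prodLeftIsoPullback_hom_fst, ← Over.comp_left, prod.lift_fst]
    · rw [ι_snd, Category.assoc, Over.prodLeftIsoPullback_hom_snd, ← Over.comp_left, prod.lift_snd]
  haveI : IsImmersion (ι s t) := by rw [hι]; infer_instance
  obtain ⟨J, hJ⟩ : ∃ J : R.left ⟶ Spec (CommRingCat.of (A ⊗[ULift.{u} ℤ] A)),
      J = ι s t ≫ cmp A str := ⟨_, rfl⟩
  haveI : IsImmersion J := by rw [hJ]; infer_instance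
  have hJl : J ≫ Spec.map (CommRingCat.ofHom
      (Algebra.TensorProduct.includeLeftRingHom : A →+* A ⊗[ULift.{u} ℤ] A)) = t.left := by
    rw [hJ, Category.assoc, cmp_fst]; exact ι_fst
  have hJr : J ≫ Spec.map (CommRingCat.ofHom
      ((Algebra.TensorProduct.includeRight : A →ₐ[ULift.{u} ℤ] A ⊗[ULift.{u} ℤ] A) : A →+* _)) =
      s.left := by
    rw [hJ, Category.assoc, cmp_snd]; exact ι_snd
  -- the residue fields of the points of the fibre
  let K : ℕ → Type u := fun n => ↥(W.left.residueField (f n))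
  let g : ∀ n, Spec (CommRingCat.of (K n)) ⟶ W.left := fun n => W.left.fromSpecResidueField (f n)
  have hg : ∀ n (z : ↥(Spec (CommRingCat.of (K n)))), (g n) z = f n := fun n z =>
    Scheme.fromSpecResidueField_apply (f n) z
  let cl : W.left ⟶ Spec (CommRingCat.of p.K) := c.left
  let bl : W.left ⟶ Spec (CommRingCat.of A) := b.left
  let ψ : ∀ n, CommRingCat.of p.K ⟶ CommRingCat.of (K n) := fun n => Spec.preimage (g n ≫ cl)
  let χ : ∀ n, CommRingCat.of A ⟶ CommRingCat.of (K n) := fun n => Spec.preimage (g n ≫ bl)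
  have hψ : ∀ n, Spec.map (ψ n) = g n ≫ cl := fun n => Spec.map_preimage _
  have hχ : ∀ n, Spec.map (χ n) = g n ≫ bl := fun n => Spec.map_preimage _
  letI instk : ∀ n, Algebra p.K (K n) := fun n => (ψ n).hom.toAlgebra
  letI instA : ∀ n, Algebra A (K n) := fun n => (χ n).hom.toAlgebra
  -- the products of two points of the fibre
  let pr₁ : ∀ n m, Spec (CommRingCat.of (K n ⊗[p.K] K m)) ⟶ Spec (CommRingCat.of (K n)) :=
    fun n m => Spec.map (CommRingCat.ofHom
      (Algebra.TensorProduct.includeLeftRingHom : K n →+* K n ⊗[p.K] K m))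
  let pr₂ : ∀ n m, Spec (CommRingCat.of (K n ⊗[p.K] K m)) ⟶ Spec (CommRingCat.of (K m)) :=
    fun n m => Spec.map (CommRingCat.ofHom
      ((Algebra.TensorProduct.includeRight : K m →ₐ[p.K] K n ⊗[p.K] K m) : K m →+* _))
  have hpr : ∀ n m, pr₁ n m ≫ g n ≫ cl = pr₂ n m ≫ g m ≫ cl := by
    intro n m
    rw [← hψ, ← hψ, ← Spec.map_comp, ← Spec.map_comp]
    congr 1
    ext x
    exact RingHom.congr_fun (Algebra.TensorProduct.includeLeftRingHom_comp_algebraMap
      (R := p.K) (A := K n) (B := K m)) x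
  let T : ℕ → ℕ → Over S := fun n m => Over.mk (pr₁ n m ≫ g n ≫ W.hom)
  let β₁ : ∀ n m, T n m ⟶ W := fun n m => Over.homMk (pr₁ n m ≫ g n) (Category.assoc _ _ _)
  have hw2 : ∀ n m, (pr₂ n m ≫ g m) ≫ W.hom = pr₁ n m ≫ g n ≫ W.hom := by
    intro n m
    have h := hpr n m
    have hc : cl ≫ p.pt.hom = W.hom := Over.w c
    calc (pr₂ n m ≫ g m) ≫ W.hom = (pr₂ n m ≫ g m ≫ cl) ≫ p.pt.hom := by
          rw [← hc]; simp only [Category.assoc]
      _ = (pr₁ n m ≫ g n ≫ cl) ≫ p.pt.hom := by rw [h]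
      _ = pr₁ n m ≫ g n ≫ W.hom := by rw [← hc]; simp only [Category.assoc]
  let β₂ : ∀ n m, T n m ⟶ W := fun n m => Over.homMk (pr₂ n m ≫ g m) (hw2 n m)
  have hβc : ∀ n m, β₁ n m ≫ c = β₂ n m ≫ c := by
    intro n m
    ext
    change (pr₁ n m ≫ g n) ≫ cl = (pr₂ n m ≫ g m) ≫ cl
    rw [Category.assoc, Category.assoc]
    exact hpr n m
  have hρ : ∀ n m, ∃ ρ : T n m ⟶ R, ρ ≫ t = β₁ n m ≫ b ∧ ρ ≫ s = β₂ n m ≫ b := fun n m =>
    exists_lift sqR _ _ (by
      rw [Functor.map_comp, Functor.map_comp, Category.assoc, Category.assoc, ← sq.w,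
        ← Category.assoc, ← Category.assoc, ← Functor.map_comp, ← Functor.map_comp, hβc])
  choose ρ hρt hρs using hρ
  -- the ring maps `A ⊗ A → K n ⊗ K m`
  let ρl : ∀ n m, Spec (CommRingCat.of (K n ⊗[p.K] K m)) ⟶ R.left := fun n m => (ρ n m).left
  let θ : ∀ n m, CommRingCat.of (A ⊗[ULift.{u} ℤ] A) ⟶ CommRingCat.of (K n ⊗[p.K] K m) :=
    fun n m => Spec.preimage (ρl n m ≫ J)
  have hθ0 : ∀ n m, Spec.map (θ n m) = ρl n m ≫ J := fun n m => Spec.map_preimage _
  have hθl : ∀ n m, CommRingCat.ofHom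
      (Algebra.TensorProduct.includeLeftRingHom : A →+* A ⊗[ULift.{u} ℤ] A) ≫ θ n m =
      χ n ≫ CommRingCat.ofHom
        (Algebra.TensorProduct.includeLeftRingHom : K n →+* K n ⊗[p.K] K m) := by
    intro n m
    apply Spec.map_injective
    rw [Spec.map_comp, Spec.map_comp, hθ0, Category.assoc, hJl, hχ]
    have h := congrArg (fun k => k.left) (hρt n m)
    simp only [Over.comp_left] at h
    rw [h]
    rfl
  have hθr : ∀ n m, CommRingCat.ofHom
      ((Algebra.TensorProduct.includeRight : A →ₐ[ULift.{u} ℤ] A ⊗[ULift.{u} ℤ] A) : A →+* _) ≫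
        θ n m =
      χ m ≫ CommRingCat.ofHom
        ((Algebra.TensorProduct.includeRight : K m →ₐ[p.K] K n ⊗[p.K] K m) : K m →+* _) := by
    intro n m
    apply Spec.map_injective
    rw [Spec.map_comp, Spec.map_comp, hθ0, Category.assoc, hJr, hχ]
    have h := congrArg (fun k => k.left) (hρs n m)
    simp only [Over.comp_left] at h
    rw [h]
    rfl
  have hθ : ∀ n m (a a' : A), (θ n m).hom (a ⊗ₜ a') =
      algebraMap A (K n) a ⊗ₜ algebraMap A (K m) a' := by
    intro n m a a'
    have h1 : (θ n m).hom (a ⊗ₜ 1) = algebraMap A (K n) a ⊗ₜ 1 :=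
      congrArg (fun h => h.hom a) (hθl n m)
    have h2 : (θ n m).hom (1 ⊗ₜ a') = 1 ⊗ₜ algebraMap A (K m) a' :=
      congrArg (fun h => h.hom a') (hθr n m)
    have h3 : a ⊗ₜ[ULift.{u} ℤ] a' = (a ⊗ₜ 1) * (1 ⊗ₜ a') := by
      rw [Algebra.TensorProduct.tmul_mul_tmul, mul_one, one_mul]
    rw [h3, map_mul, h1, h2, Algebra.TensorProduct.tmul_mul_tmul, mul_one, one_mul]
  -- the images avoid the diagonal
  have hdisj : ∀ n m, n ≠ m → ∀ τ : ↥(Spec (CommRingCat.of (K n ⊗[p.K] K m))),
      ρl n m τ ∉ Set.range e₀.left := by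
    rintro n m hnm τ ⟨u', hu'⟩
    have sqZ := IsPullback.of_hasPullback (ρ n m) e₀
    obtain ⟨z, hz1, -⟩ := Groth.Agent.Lib.Helper12.exists_preimage_of_isPullback
      (sqZ.map (Over.forget S)) τ u' hu'.symm
    have h1 : (pullback.fst (ρ n m) e₀ ≫ β₁ n m) ≫ b = pullback.snd (ρ n m) e₀ := by
      rw [Category.assoc, ← hρt, ← Category.assoc, pullback.condition, Category.assoc, he₀t,
        Category.comp_id]
    have h2 : (pullback.fst (ρ n m) e₀ ≫ β₂ n m) ≫ b = pullback.snd (ρ n m) e₀ := by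
      rw [Category.assoc, ← hρs, ← Category.assoc, pullback.condition, Category.assoc, he₀s,
        Category.comp_id]
    have h3 : pullback.fst (ρ n m) e₀ ≫ β₁ n m = pullback.fst (ρ n m) e₀ ≫ β₂ n m := by
      apply (AlgSp.yon S).map_injective
      apply sq.hom_ext
      · rw [← Functor.map_comp, ← Functor.map_comp, Category.assoc, Category.assoc, hβc]
      · rw [← Functor.map_comp, ← Functor.map_comp, h1, h2]
    have h4 := congrArg (fun k => k.left z) h3
    change (g n) (pr₁ n m ((pullback.fst (ρ n m) e₀).left z)) =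
      (g m) (pr₂ n m ((pullback.fst (ρ n m) e₀).left z)) at h4
    rw [hg, hg] at h4
    exact hnm (f.injective h4)
  -- the diagonal
  have he₀J : e₀.left ≫ J = Spec.map (CommRingCat.ofHom
      (Algebra.TensorProduct.lmul' (S := A) (ULift.{u} ℤ)).toRingHom) := by
    apply spec_tensor_hom_ext
    · rw [Category.assoc, hJl, ← Over.comp_left, he₀t, ← Spec.map_comp]
      have : CommRingCat.ofHom
          (Algebra.TensorProduct.includeLeftRingHom : A →+* A ⊗[ULift.{u} ℤ] A) ≫
          CommRingCat.ofHom (Algebra.TensorProduct.lmul' (S := A) (ULift.{u} ℤ)).toRingHom =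
          𝟙 _ := by
        ext x
        simp
      rw [this, Spec.map_id]
      rfl
    · rw [Category.assoc, hJr, ← Over.comp_left, he₀s, ← Spec.map_comp]
      have : CommRingCat.ofHom
          ((Algebra.TensorProduct.includeRight : A →ₐ[ULift.{u} ℤ] A ⊗[ULift.{u} ℤ] A) :
            A →+* _) ≫
          CommRingCat.ofHom (Algebra.TensorProduct.lmul' (S := A) (ULift.{u} ℤ)).toRingHom =
          𝟙 _ := by
        ext x
        simp
      rw [this, Spec.map_id]
      rfl
  obtain ⟨c₀, hc1, hc0⟩ := exists_separating (R₀ := ULift.{u} ℤ) (A := A) (fun r => J r)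
    J.isEmbedding.isInducing (Set.range e₀.left) hEopen (fun y => ⟨e₀.left y, ⟨y, rfl⟩, by
      change (e₀.left ≫ J) y = _
      rw [he₀J]
      rfl⟩)
  refine key' (ULift.{u} ℤ) A p.K K (fun n m => (θ n m).hom) hθ c₀ hc1 (fun n m hnm q => ?_)
  have h := hc0 (ρl n m q) (hdisj n m hnm q)
  have h' : J (ρl n m q) = PrimeSpectrum.comap (θ n m).hom q := by
    change (ρl n m ≫ J) q = _
    rw [← hθ0]
    rfl
  rw [h'] at h
  exact h

/-- finite fibres on arbitrary affine étale charts. -/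
theorem finite_fibre' (hX : AlgSp.IsLocallySeparatedSp X) (p : AlgSp.FieldPt X)
    (U : Over S) [IsAffine U.left] (φ : (AlgSp.yon S).obj U ⟶ X) (hφ : AlgSp.RepWith @Etale φ)
    {W : Over S} (c : W ⟶ p.pt) (b : W ⟶ U)
    (sq : IsPullback ((AlgSp.yon S).map c) ((AlgSp.yon S).map b) p.toHom φ) : Finite ↥W.left := by
  let str : Spec (CommRingCat.of ↑Γ(U.left, ⊤)) ⟶ S := U.left.isoSpec.inv ≫ U.hom
  let θ : Over.mk str ≅ U := Over.isoMk U.left.isoSpec.symm (by simp [str])
  have hθe : AlgSp.RepWith @Etale ((AlgSp.yon S).map θ.hom) :=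
    (AlgSp.repWith_yon_map_iff @Etale _).2 (by
      change Etale U.left.isoSpec.inv
      infer_instance)
  have hφ' : AlgSp.RepWith @Etale ((AlgSp.yon S).map θ.hom ≫ φ) :=
    (AlgSp.repWith_isMultiplicative (S := S) @Etale).comp_mem _ _ hθe hφ
  have sq' : IsPullback ((AlgSp.yon S).map c) ((AlgSp.yon S).map (b ≫ θ.inv)) p.toHom
      ((AlgSp.yon S).map θ.hom ≫ φ) := by
    refine IsPullback.of_iso sq (Iso.refl _) (Iso.refl _) ((AlgSp.yon S).mapIso θ.symm) (Iso.refl _)
      ?_ ?_ ?_ ?_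
    · simp
    · simp
    · simp
    · simp only [Iso.refl_hom, Category.comp_id, Functor.mapIso_hom, Iso.symm_hom]
      rw [← Category.assoc, ← Functor.map_comp, Iso.inv_hom_id, CategoryTheory.Functor.map_id,
        Category.id_comp]
  exact finite_fibre hX p ↑Γ(U.left, ⊤) str _ hφ' c (b ≫ θ.inv) sq'

/-- on a locally separated algebraic space every field point is quasi-compact. -/
theorem quasiCompact_fieldPt (hXa : AlgSp.IsAlgSpace X) (hX : AlgSp.IsLocallySeparatedSp X)
    (p : AlgSp.FieldPt X) : AlgSp.RepWith @QuasiCompact p.toHom := by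
  obtain ⟨U₀, φ₀, hφ₀e, hφ₀s⟩ := hXa.atlas
  have hrep := hXa.representable_from_yon p.toHom
  obtain ⟨T₀, i0, b'', sq⟩ := hrep φ₀
  obtain ⟨c₀, rfl⟩ := (AlgSp.yon S).map_surjective b''
  haveI := Groth.Agent.S10412Aux.descendsAlong_quasiCompact_fppf.{u}
  refine Groth.Agent.S10127.repWith_of_atlas @QuasiCompact p.toHom hrep φ₀ hφ₀e hφ₀s i0 _ sq ?_
  rw [IsZariskiLocalAtTarget.iff_of_openCover (P := @QuasiCompact) U₀.left.affineCover]
  intro i
  let Ui : Over S := Over.mk (U₀.left.affineCover.f i ≫ U₀.hom)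
  let ιi : Ui ⟶ U₀ := Over.homMk (U₀.left.affineCover.f i) rfl
  haveI : IsAffine Ui.left := inferInstanceAs (IsAffine (U₀.left.affineCover.X i))
  have hιe : AlgSp.RepWith @Etale ((AlgSp.yon S).map ιi) :=
    (AlgSp.repWith_yon_map_iff @Etale _).2 (by
      change Etale (U₀.left.affineCover.f i)
      infer_instance)
  have hφi : AlgSp.RepWith @Etale ((AlgSp.yon S).map ιi ≫ φ₀) :=
    (AlgSp.repWith_isMultiplicative (S := S) @Etale).comp_mem _ _ hιe hφ₀e
  have sqi := IsPullback.of_hasPullback i0 ιi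
  have big := ((sqi.map (AlgSp.yon S)).flip.paste_vert sq.flip).flip
  rw [← Functor.map_comp] at big
  haveI hfin : Finite ↥(pullback i0 ιi).left := finite_fibre' hX p Ui _ hφi _ _ big
  have sqS : IsPullback (pullback.fst i0 ιi).left (pullback.snd i0 ιi).left i0.left
      (U₀.left.affineCover.f i) := sqi.map (Over.forget S)
  haveI : CompactSpace ↥(pullback i0 ιi).left := Finite.compactSpace
  haveI : QuasiCompact (pullback.snd i0 ιi).left :=
    (HasAffineProperty.iff_of_isAffine (P := @QuasiCompact)).2 inferInstance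
  change QuasiCompact (pullback.snd i0.left (U₀.left.affineCover.f i))
  have h := sqS.isoPullback_hom_snd
  rw [← MorphismProperty.cancel_left_of_respectsIso @QuasiCompact sqS.isoPullback.hom, h]
  exact this

/-- **A locally separated algebraic space is decent.** -/
theorem isDecent_of_isLocallySeparatedSp (hXa : AlgSp.IsAlgSpace X)
    (hX : AlgSp.IsLocallySeparatedSp X) : AlgSp.IsDecent X := by
  refine Groth.Agent.Lib.Seat83.MonoPoint.isDecent_of_compact hXa (fun p R s t sqR => ?_)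
    (quasiCompact_fieldPt hXa hX)
  haveI : QuasiCompact s.left := (quasiCompact_fieldPt hXa hX p).2 _ _ s sqR
  haveI : CompactSpace ↥p.pt.left := inferInstanceAs (CompactSpace ↥(Spec (CommRingCat.of p.K)))
  exact QuasiCompact.compactSpace_of_compactSpace s.left

end Main

end Groth.Agent.Lib.Seat46.LocSep
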