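import Mathlib
import Groth.Prelude.Def_AlgSp
import Groth.Agent.S10212
import Groth.Agent.S10261
import Groth.Agent.S10176
import Groth.Agent.S10177
import Groth.Agent.S10555
import Groth.Agent.S10511
import Groth.Agent.Lib.Seat46AffQuot
import Groth.Agent.Lib.Seat46DecentChart
import Groth.Agent.Lib.Seat46UBFField
import Groth.Agent.Lib.Helper12ZarGlue
import Groth.Agent.Lib.Helper12ZarGlue2
import Groth.Agent.Lib.Helper12PullbackPts

/-!
# An algebraic space with a monomorphism to a scheme with discrete underlying space is a scheme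
(seat 46)
-/

set_option autoImplicit false
universe u
open CategoryTheory CategoryTheory.Limits AlgebraicGeometry

namespace Groth.Agent.Lib.Seat46.MonoDisc

lemma flat_of_isField_source {R T : Type u} [CommRing R] [CommRing T] (f : R →+* T)
    (hR : IsField R) : f.Flat := by
  algebraize [f]
  let _ := hR.toField
  have : Module.Free R T := Module.Free.of_divisionRing R T
  exact Module.Flat.of_free

/-- every morphism to the spectrum of a field is flat. -/
lemma flat_of_field {K : Type u} [Field K] {T : Scheme.{u}} (c : T ⟶ Spec (CommRingCat.of K)) :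
    Flat c := by
  rw [HasRingHomProperty.iff_of_source_openCover (P := @Flat) T.affineCover]
  intro i
  exact flat_of_isField_source _ Groth.Agent.Lib.Seat46.FieldQuot.isField_Γ_Spec

/-- fpqc descent: a quasi-compact scheme over a field whose kernel pair projection is étale is
étale over the field. -/
lemma etale_of_kernelPair {K : Type u} [Field K] {T T₂ : Scheme.{u}} [CompactSpace T]
    (c : T ⟶ Spec (CommRingCat.of K)) {π₁ π₂ : T₂ ⟶ T} (sq : IsPullback π₁ π₂ c c) [Etale π₁] :
    Etale c := by
  by_cases hT : Nonempty T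
  · haveI : Surjective c := ⟨fun z => by
      obtain ⟨t⟩ := hT
      exact ⟨t, Subsingleton.elim _ _⟩⟩
    haveI : Flat c := flat_of_field c
    haveI : QuasiCompact c :=
      (HasAffineProperty.iff_of_isAffine (P := @QuasiCompact)).2 inferInstance
    exact MorphismProperty.of_isPullback_of_descendsAlong (P := @Etale)
      (Q := @Surjective ⊓ @Flat ⊓ @QuasiCompact) sq ⟨⟨inferInstance, inferInstance⟩, inferInstance⟩
      inferInstance
  · haveI : IsEmpty T := not_nonempty_iff.1 hT
    infer_instance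

variable {S : Scheme.{u}}

open Groth.Agent.S10511Aux Groth.Agent.Lib.Seat46.AffQuot Groth.Agent.Lib.Seat46.FieldQuot
  Groth.Agent.Lib.Seat46.UBFField Groth.Agent.Lib.Seat46.DecentChart in
/-- **Local chart.** Let `f : X ⟶ h_Y` be a monomorphism from an algebraic space to a scheme with
discrete underlying space.  Every point of an étale chart of `X` lies in a representable open
subspace of `X`. -/
theorem exists_open_chart (Y : Over S) [DiscreteTopology ↥Y.left] {X : AlgSp.Sp S}
    (hX : AlgSp.IsAlgSpace X) (f : X ⟶ (AlgSp.yon S).obj Y) [Mono f] {U₀ : Over S}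
    (a₀ : (AlgSp.yon S).obj U₀ ⟶ X) (ha₀E : AlgSp.RepWith @Etale a₀) (u₀ : ↥U₀.left) :
    ∃ (M : Over S) (m : (AlgSp.yon S).obj M ⟶ X), AlgSp.RepWith @IsOpenImmersion m ∧
      AlgSp.Points.ofPt a₀ u₀ ∈ Set.range (AlgSp.Points.map m) := by
  obtain ⟨g₀, hg₀⟩ := (AlgSp.yon S).map_surjective (a₀ ≫ f)
  obtain ⟨y, hy⟩ : ∃ y, y = g₀.left u₀ := ⟨_, rfl⟩
  have hopen : IsOpen (g₀.left ⁻¹' {y}) := (isOpen_discrete {y}).preimage g₀.left.continuous
  obtain ⟨V, hV, hu₀V, hVsub⟩ := exists_isAffineOpen_mem_and_subset (x := u₀)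
    (U := ⟨_, hopen⟩) hy.symm
  haveI : IsAffine (ov U₀ V).left := hV
  have haE : AlgSp.RepWith @Etale ((AlgSp.yon S).map (ovι U₀ V) ≫ a₀) :=
    (AlgSp.repWith_isMultiplicative (S := S) @Etale).comp_mem _ _
      ((AlgSp.repWith_yon_map_iff @Etale _).2 (inferInstanceAs (Etale V.ι))) ha₀E
  obtain ⟨a, ha⟩ : ∃ a : (AlgSp.yon S).obj (ov U₀ V) ⟶ X,
      a = (AlgSp.yon S).map (ovι U₀ V) ≫ a₀ := ⟨_, rfl⟩
  rw [← ha] at haE
  obtain ⟨g, hg⟩ : ∃ g : ov U₀ V ⟶ Y, g = ovι U₀ V ≫ g₀ := ⟨_, rfl⟩
  have hag : a ≫ f = (AlgSp.yon S).map g := by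
    rw [ha, hg, Category.assoc, ← hg₀, Functor.map_comp]
  have hgy : ∀ u : ↥(ov U₀ V).left, g.left u = y := fun u => by
    rw [hg]
    exact hVsub u.2
  -- the kernel pair
  obtain ⟨R, s, fstR, sqR⟩ := haE.1 a
  obtain ⟨t, rfl⟩ := (AlgSp.yon S).map_surjective fstR
  haveI : Etale s.left := haE.2 a _ s sqR
  haveI : Etale t.left := haE.2 a _ t sqR.flip
  have sqY : IsPullback t s g g := by
    have h1 : IsPullback ((AlgSp.yon S).map t) ((AlgSp.yon S).map s) (a ≫ f) (a ≫ f) :=
      IsKernelPair.comp_of_mono sqR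
    rw [hag] at h1
    exact IsPullback.of_map (AlgSp.yon S) (by
      apply (AlgSp.yon S).map_injective
      rw [Functor.map_comp, Functor.map_comp]
      exact h1.w) h1
  have sqYS := sqY.map (Over.forget S)
  -- `R` is affine
  haveI : IsAffine R.left := by
    let Yy : Y.left.Opens := ⟨{y}, isOpen_discrete _⟩
    haveI : Subsingleton ↥Yy.toScheme := inferInstanceAs (Subsingleton ↥({y} : Set ↥Y.left))
    haveI : IsAffine Yy.toScheme := inferInstance
    have hr : Set.range g.left ⊆ Set.range Yy.ι := by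
      rintro _ ⟨u, rfl⟩
      rw [hgy u]
      exact ⟨⟨y, rfl⟩, rfl⟩
    have hfac : IsOpenImmersion.lift Yy.ι g.left hr ≫ Yy.ι = g.left :=
      IsOpenImmersion.lift_fac _ _ _
    have h2 : IsPullback t.left s.left (IsOpenImmersion.lift Yy.ι g.left hr)
        (IsOpenImmersion.lift Yy.ι g.left hr) := by
      apply IsKernelPair.cancel_right_of_mono (f₂ := Yy.ι)
      rw [hfac]
      exact sqYS
    haveI : IsAffineHom s.left :=
      MorphismProperty.of_isPullback (P := @IsAffineHom) h2 inferInstance
    exact isAffine_of_isAffineHom s.left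
  -- the fibre over `y`
  obtain ⟨κ, hκ, strκ, ιy, hcl, hιy'⟩ : ∃ (κ : Type u) (_ : Field κ)
      (strκ : Spec (CommRingCat.of κ) ⟶ S) (ιy : Over.mk strκ ⟶ Y),
      IsClosedImmersion ιy.left ∧ ∀ z, ιy.left z = y := by
    refine ⟨↥(Y.left.residueField y), inferInstance, Y.left.fromSpecResidueField y ≫ Y.hom,
      Over.homMk (Y.left.fromSpecResidueField y) rfl, ?_, fun z => ?_⟩
    · exact isClosed_singleton_iff_isClosedImmersion.1 (isClosed_discrete _)
    · have : Set.range (Y.left.fromSpecResidueField y) = {y} :=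
        Scheme.range_fromSpecResidueField y
      have h := Set.mem_range_self (f := (Y.left.fromSpecResidueField y)) z
      rw [this] at h
      exact h
  haveI := hcl
  have sqK : IsPullback (pullback.fst g ιy) (pullback.snd g ιy) g ιy := IsPullback.of_hasPullback g ιy
  obtain ⟨K, m, cK, sqK⟩ : ∃ (K : Over S) (m : K ⟶ ov U₀ V) (cK : K ⟶ Over.mk strκ), IsPullback m cK g ιy :=
    ⟨_, _, _, sqK⟩
  have sqKS := sqK.map (Over.forget S)
  haveI : IsClosedImmersion m.left :=
    MorphismProperty.of_isPullback (P := @IsClosedImmersion) sqKS.flip ‹IsClosedImmersion ιy.left›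
  haveI : Surjective m.left := ⟨fun u => by
    obtain ⟨z, hz, -⟩ := Groth.Agent.Lib.Helper12.exists_preimage_of_isPullback sqKS u
      (IsLocalRing.closedPoint κ) ((hgy u).trans (hιy' _).symm)
    exact ⟨z, hz⟩⟩
  haveI : IsAffine K.left := isAffine_of_isAffineHom m.left
  -- `K` is étale over the residue field
  haveI : Etale cK.left := by
    have sq₂ := IsPullback.of_hasPullback cK cK
    have hw : (pullback.fst cK cK ≫ m) ≫ g = (pullback.snd cK cK ≫ m) ≫ g := by
      rw [Category.assoc, Category.assoc, sqK.w, ← Category.assoc, ← Category.assoc,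
        pullback.condition]
    have h1 : sqY.lift (pullback.fst cK cK ≫ m) (pullback.snd cK cK ≫ m) hw ≫ t =
        pullback.fst cK cK ≫ m := sqY.lift_fst _ _ _
    have h2 : sqY.lift (pullback.fst cK cK ≫ m) (pullback.snd cK cK ≫ m) hw ≫ s =
        pullback.snd cK cK ≫ m := sqY.lift_snd _ _ _
    have big := isPullback_kernelPair_baseChange sqK.flip sqY sq₂ _ h1 h2
    have top := (IsPullback.of_bot big h1 sqK).map (Over.forget S)
    haveI : Etale (pullback.fst cK cK).left :=
      MorphismProperty.of_isPullback (P := @Etale) top ‹Etale t.left›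
    exact @etale_of_kernelPair κ _ _ _ _ cK.left _ _ (sq₂.map (Over.forget S))
      ‹Etale (pullback.fst cK cK).left›
  obtain ⟨-, hKfin⟩ := isAffine_isFinite_of_etale_compact (K := κ) cK.left
  haveI := hKfin
  obtain ⟨hKF, -⟩ := finite_discrete_of_isFinite (K := κ) cK.left
  haveI := hKF
  -- finiteness of `s`
  have sqS := (IsPullback.of_hasPullback m s).map (Over.forget S)
  haveI : Etale (pullback.fst m s).left :=
    MorphismProperty.of_isPullback (P := @Etale) sqS.flip ‹Etale s.left›
  haveI : IsClosedImmersion (pullback.snd m s).left :=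
    MorphismProperty.of_isPullback (P := @IsClosedImmersion) sqS ‹IsClosedImmersion m.left›
  haveI : CompactSpace ↥(pullback m s).left :=
    QuasiCompact.compactSpace_of_compactSpace (pullback.snd m s).left
  haveI : IsFinite ((pullback.fst m s).left ≫ cK.left) :=
    (isAffine_isFinite_of_etale_compact (K := κ) ((pullback.fst m s).left ≫ cK.left)).2
  haveI : IsFinite (pullback.fst m s).left := IsFinite.of_comp (pullback.fst m s).left cK.left
  haveI : IsFinite s.left :=
    isFinite_of_isFinite_baseChange s.left m.left (pullback.fst m s).left (pullback.snd m s).left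
      sqS.flip
  -- the quotient
  obtain ⟨M, c, m', hm', hmono, -, hcE, hcS⟩ := exists_mono_factor_affine a s t sqR
  haveI := hmono
  haveI := hcE
  haveI := hcS
  have hm'E : AlgSp.RepWith @Etale m' :=
    Groth.Agent.S10212.repWith_etale_of_comp_surjective_etale c m' (hX.representable_from_yon m')
      (by rw [hm']; exact haE)
  have hm'O : AlgSp.RepWith @IsOpenImmersion m' :=
    Groth.Agent.S10261.repWith_isOpenImmersion_of_mono (AlgSp.IsAlgSpace.yon_obj M) m'
      (fun W φ hφ => (AlgSp.repWith_isMultiplicative (S := S) @Etale).comp_mem φ m' hφ hm'E)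
  refine ⟨M, m', hm'O, AlgSp.Points.ofPt ((AlgSp.yon S).map c) ⟨u₀, hu₀V⟩, ?_⟩
  rw [AlgSp.Points.map_ofPt, hm', ha, Groth.Agent.S10176.ofPt_map_comp]
  rfl

open Groth.Agent.Lib.Helper12 in
/-- **An algebraic space with a monomorphism to a scheme with discrete underlying space is a
scheme.** -/
theorem isRepresentable_of_mono_discrete (Y : Over S) [DiscreteTopology ↥Y.left] {X : AlgSp.Sp S}
    (hX : AlgSp.IsAlgSpace X) (f : X ⟶ (AlgSp.yon S).obj Y) [Mono f] : X.obj.IsRepresentable := by
  obtain ⟨U₀, a₀, ha₀E, ha₀S⟩ := hX.atlas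
  have key := fun u => exists_open_chart Y hX f a₀ ha₀E u
  choose V m hmo hmem using key
  have hs : ZarGlue.JointlySurjective hmo := by
    intro T g t
    obtain ⟨u, hu⟩ := Groth.Agent.S10177.surjective_ofPt a₀ ha₀S (AlgSp.Points.ofPt g t)
    refine ⟨u, ZarGlue.mem_range_of_mem_range_map (m u) g _ _ ((hmo u).rep.isPullback g) t ?_⟩
    rw [← hu]
    exact hmem u
  obtain ⟨W₀, e₀, -, -, -⟩ := ZarGlue.exists_iso hmo hs
  exact ⟨W₀, ⟨AlgSp.representableByOfIso e₀⟩⟩

end Groth.Agent.Lib.Seat46.MonoDisc
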