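import Mathlib
import Groth.Agent.Lib.Seat46AffDescent
import Groth.Agent.Lib.Seat46QAffSch
import Groth.Agent.Lib.Helper12BaseLocal
import Groth.Agent.Lib.Helper12ZarGlue
import Groth.Agent.S9874
import Groth.Agent.S10531

/-!
# fpqc descent of quasi-affineness for algebraic spaces (seat 46)
-/

set_option autoImplicit false
universe u
open CategoryTheory CategoryTheory.Limits AlgebraicGeometry
open AlgSp

namespace Groth.Agent.Lib.Seat46.QAffDescent

open Groth.Agent.Lib.Seat46.AffDescent

variable {S : Scheme.{u}}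

/-- the comparison map for one member of the covering, with the scheme-level data needed to show
that it is an isomorphism / open immersion. -/
lemma exists_comparison {Z W : Over S} (hZ : IsAffine Z.left) (hW : IsAffine W.left)
    (c : W ⟶ Z) (hfl : Flat c.left) {F : AlgSp.Sp S} (π : F ⟶ (AlgSp.yon S).obj Z)
    {V : Over S} (v : V ⟶ W) (fstV : (AlgSp.yon S).obj V ⟶ F)
    (sq : IsPullback fstV ((AlgSp.yon S).map v) π ((AlgSp.yon S).map c))
    {U R T : Over S} (hU : IsAffine U.left) (hR : IsAffine R.left) (hT : IsAffine T.left)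
    (p : (AlgSp.yon S).obj U ⟶ F) (hpe : AlgSp.RepWith @Etale p)
    (hps : AlgSp.RepWith @Surjective p) (s t : R ⟶ U)
    (sqR : IsPullback ((AlgSp.yon S).map s) ((AlgSp.yon S).map t) p p)
    (i : T ⟶ Z) (q : U ⟶ T) (φ : F ⟶ (AlgSp.yon S).obj T)
    (hφ : p ≫ φ = (AlgSp.yon S).map q) (hφi : φ ≫ (AlgSp.yon S).map i = π)
    (hinj : Function.Injective q.left.appTop.hom)
    (hex : ∀ x, s.left.appTop.hom x = t.left.appTop.hom x → x ∈ Set.range q.left.appTop.hom) :
    ∃ (ψ : V ⟶ pullback i c) (UW RW : Scheme.{u}) (u : UW ⟶ V.left)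
      (q' : UW ⟶ (pullback i c).left) (s' t' : RW ⟶ UW), IsAffine (pullback i c).left ∧
      IsAffine UW ∧ Flat u ∧ Surjective u ∧ u ≫ ψ.left = q' ∧ s' ≫ u = t' ≫ u ∧
      Function.Injective q'.appTop.hom ∧
      (∀ y, s'.appTop.hom y = t'.appTop.hom y → y ∈ Set.range q'.appTop.hom) ∧
      IsPullback fstV ((AlgSp.yon S).map ψ) φ ((AlgSp.yon S).map (pullback.fst i c)) := by
  haveI := hZ; haveI := hW; haveI := hU; haveI := hR; haveI := hT; haveI := hfl
  obtain ⟨a, ha0⟩ : ∃ a : U ⟶ Z, q ≫ i = a := ⟨_, rfl⟩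
  have ha : (AlgSp.yon S).map a = p ≫ π := by
    rw [← ha0, Functor.map_comp, ← hφ, Category.assoc, hφi]
  have hst : s ≫ q = t ≫ q := by
    apply (AlgSp.yon S).map_injective
    rw [Functor.map_comp, Functor.map_comp, ← hφ, ← Category.assoc, sqR.w, Category.assoc]
  obtain ⟨r, hr⟩ : ∃ r : R ⟶ Z, s ≫ a = r := ⟨_, rfl⟩
  have hr' : t ≫ a = r := by rw [← hr, ← ha0, ← Category.assoc, ← hst, Category.assoc]
  -- the induced maps between the base changes
  let q' : pullback a c ⟶ pullback i c :=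
    pullback.lift (pullback.fst a c ≫ q) (pullback.snd a c)
      (by rw [Category.assoc, ha0, pullback.condition])
  have hq'1 : q' ≫ pullback.fst i c = pullback.fst a c ≫ q := pullback.lift_fst _ _ _
  have hq'2 : q' ≫ pullback.snd i c = pullback.snd a c := pullback.lift_snd _ _ _
  let s' : pullback r c ⟶ pullback a c :=
    pullback.lift (pullback.fst r c ≫ s) (pullback.snd r c)
      (by rw [Category.assoc, hr, pullback.condition])
  have hs'1 : s' ≫ pullback.fst a c = pullback.fst r c ≫ s := pullback.lift_fst _ _ _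
  have hs'2 : s' ≫ pullback.snd a c = pullback.snd r c := pullback.lift_snd _ _ _
  let t' : pullback r c ⟶ pullback a c :=
    pullback.lift (pullback.fst r c ≫ t) (pullback.snd r c)
      (by rw [Category.assoc, hr', pullback.condition])
  have ht'1 : t' ≫ pullback.fst a c = pullback.fst r c ≫ t := pullback.lift_fst _ _ _
  have ht'2 : t' ≫ pullback.snd a c = pullback.snd r c := pullback.lift_snd _ _ _
  clear_value q' s' t'
  -- the chart of `V`
  have huw : ((AlgSp.yon S).map (pullback.fst a c) ≫ p) ≫ π =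
      (AlgSp.yon S).map (pullback.snd a c) ≫ (AlgSp.yon S).map c := by
    rw [Category.assoc, ← ha, ← Functor.map_comp, ← Functor.map_comp, pullback.condition]
  obtain ⟨u, hu⟩ := (AlgSp.yon S).map_surjective (sq.lift _ _ huw)
  have hu1 : (AlgSp.yon S).map u ≫ fstV = (AlgSp.yon S).map (pullback.fst a c) ≫ p := by
    rw [hu, sq.lift_fst]
  have hu2 : u ≫ v = pullback.snd a c := by
    apply (AlgSp.yon S).map_injective
    rw [Functor.map_comp, hu, sq.lift_snd]
  have sqUV : IsPullback ((AlgSp.yon S).map (pullback.fst a c)) ((AlgSp.yon S).map u) p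
      fstV := by
    have outer := (IsPullback.of_hasPullback a c).map (AlgSp.yon S)
    rw [ha, ← hu2, Functor.map_comp] at outer
    exact IsPullback.of_bot outer hu1.symm sq
  have hue : Etale u.left := hpe.2 fstV _ u sqUV
  have hus : Surjective u.left := hps.2 fstV _ u sqUV
  have hstu : s' ≫ u = t' ≫ u := by
    apply (AlgSp.yon S).map_injective
    apply sq.hom_ext
    · rw [Functor.map_comp, Functor.map_comp, Category.assoc, Category.assoc, hu1,
        ← Functor.map_comp_assoc, ← Functor.map_comp_assoc, hs'1, ht'1,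
        Functor.map_comp_assoc, Functor.map_comp_assoc, sqR.w]
    · rw [← Functor.map_comp, ← Functor.map_comp, Category.assoc, Category.assoc, hu2, hs'2, ht'2]
  -- the comparison map
  obtain ⟨g₀, hg₀⟩ := (AlgSp.yon S).map_surjective (fstV ≫ φ)
  have hg₀i : g₀ ≫ i = v ≫ c := by
    apply (AlgSp.yon S).map_injective
    rw [Functor.map_comp, hg₀, Category.assoc, hφi, sq.w, Functor.map_comp]
  let ψ : V ⟶ pullback i c := pullback.lift g₀ v hg₀i
  have hψ1 : ψ ≫ pullback.fst i c = g₀ := pullback.lift_fst _ _ _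
  have hψ2 : ψ ≫ pullback.snd i c = v := pullback.lift_snd _ _ _
  clear_value ψ
  have huψ : u ≫ ψ = q' := by
    apply pullback.hom_ext
    · rw [Category.assoc, hψ1, hq'1]
      apply (AlgSp.yon S).map_injective
      rw [Functor.map_comp, hg₀, ← Category.assoc, hu1, Category.assoc, hφ, Functor.map_comp]
    · rw [Category.assoc, hψ2, hq'2, hu2]
  -- scheme-level squares
  have HT : IsPullback (pullback.fst i c).left (pullback.snd i c).left i.left c.left :=
    (IsPullback.of_hasPullback i c).map (Over.forget S)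
  have HU : IsPullback (pullback.fst a c).left (pullback.snd a c).left
      a.left c.left := (IsPullback.of_hasPullback a c).map (Over.forget S)
  have HR : IsPullback (pullback.fst r c).left (pullback.snd r c).left
      r.left c.left := (IsPullback.of_hasPullback r c).map (Over.forget S)
  haveI : IsAffine (pullback i c).left := isAffine_of_isPullback_affine HT
  haveI : IsAffine (pullback a c).left := isAffine_of_isPullback_affine HU
  haveI : IsAffine (pullback r c).left := isAffine_of_isPullback_affine HR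
  obtain ⟨hinj', hex'⟩ := Groth.Agent.Lib.Seat46.FlatEqSch.flat_eq_scheme c.left i.left
    a.left r.left q.left s.left t.left
    (by rw [← Over.comp_left, ha0]) (by rw [← Over.comp_left, hr])
    (by rw [← Over.comp_left, hr']) (by rw [← Over.comp_left, ← Over.comp_left, hst])
    HT HU HR q'.left s'.left t'.left
    (by rw [← Over.comp_left, ← Over.comp_left, hq'1])
    (by rw [← Over.comp_left, hq'2])
    (by rw [← Over.comp_left, ← Over.comp_left, hs'1])
    (by rw [← Over.comp_left, hs'2])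
    (by rw [← Over.comp_left, ← Over.comp_left, ht'1])
    (by rw [← Over.comp_left, ht'2]) hinj hex
  haveI : Flat u.left := inferInstance
  refine ⟨ψ, _, _, u.left, q'.left, s'.left, t'.left, inferInstance, inferInstance, inferInstance,
    hus, by rw [← Over.comp_left, huψ], by rw [← Over.comp_left, ← Over.comp_left, hstu],
    hinj', hex', ?_⟩
  have bot := (IsPullback.of_hasPullback i c).map (AlgSp.yon S)
  have outer : IsPullback fstV ((AlgSp.yon S).map ψ ≫ (AlgSp.yon S).map (pullback.snd i c))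
      (φ ≫ (AlgSp.yon S).map i) ((AlgSp.yon S).map c) := by
    rw [← Functor.map_comp, hψ2, hφi]
    exact sq
  refine IsPullback.of_bot outer ?_ bot
  rw [← Functor.map_comp, hψ1, hg₀]

/-- a sheaf over an affine scheme which is a scheme separated over the base after base change
along a standard fpqc covering is separated over the base. -/
lemma isSeparatedMor_of_standard' {Z : Over S} (hZ : IsAffine Z.left) {F : AlgSp.Sp S}
    (hF : AlgSp.IsAlgSpace F) (π : F ⟶ (AlgSp.yon S).obj Z) {m : ℕ}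
    (W : Fin m → Over S) (c : ∀ j, W j ⟶ Z) (hW : ∀ j, IsAffine (W j).left)
    (hfl : ∀ j, Flat (c j).left) (hsurj : ∀ z : ↥Z.left, ∃ j, z ∈ Set.range (c j).left)
    (V : Fin m → Over S) (v : ∀ j, V j ⟶ W j) (fstV : ∀ j, (AlgSp.yon S).obj (V j) ⟶ F)
    (hV : ∀ j, IsSeparated (v j).left)
    (sq : ∀ j, IsPullback (fstV j) ((AlgSp.yon S).map (v j)) π ((AlgSp.yon S).map (c j))) :
    AlgSp.IsSeparatedMor π := by
  refine ((Groth.Agent.S10535.result S)
    (fun j : ULift.{u} (Fin m) => (AlgSp.yon S).obj (W j.down))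
    (fun j => (AlgSp.yon S).map (c j.down)) (AlgSp.IsAlgSpace.yon_obj Z)
    (fun j => AlgSp.IsAlgSpace.yon_obj _) (isFpqcCover_standard hZ W c hW hfl hsurj) π hF
    (fun j => (AlgSp.yon S).obj (V j.down)) (fun j => (AlgSp.yon S).map (v j.down))
    (fun j => fstV j.down) (fun j => AlgSp.IsAlgSpace.yon_obj _) (fun j => sq j.down)).2 ?_
  intro j
  rw [AlgSp.isSeparatedMor_yon_map_iff]
  exact hV j.down

/-- **fpqc descent of quasi-affineness**: an algebraic space over an affine scheme `Z` whose base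
changes along a standard fpqc covering of `Z` are quasi-affine schemes is an open subspace of an
affine scheme over `Z` (and has quasi-compact space of points). -/
theorem exists_qaffine_rep {Z : Over S} (hZ : IsAffine Z.left) {F : AlgSp.Sp S}
    (hF : AlgSp.IsAlgSpace F) (π : F ⟶ (AlgSp.yon S).obj Z) {m : ℕ}
    (W : Fin m → Over S) (c : ∀ j, W j ⟶ Z) (hW : ∀ j, IsAffine (W j).left)
    (hfl : ∀ j, Flat (c j).left) (hsurj : ∀ z : ↥Z.left, ∃ j, z ∈ Set.range (c j).left)
    (V : Fin m → Over S) (v : ∀ j, V j ⟶ W j) (fstV : ∀ j, (AlgSp.yon S).obj (V j) ⟶ F)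
    (hV : ∀ j, (V j).left.IsQuasiAffine)
    (sq : ∀ j, IsPullback (fstV j) ((AlgSp.yon S).map (v j)) π ((AlgSp.yon S).map (c j))) :
    ∃ (T : Over S) (i : T ⟶ Z) (φ : F ⟶ (AlgSp.yon S).obj T), IsAffine T.left ∧
      AlgSp.RepWith @IsOpenImmersion φ ∧ φ ≫ (AlgSp.yon S).map i = π ∧
      CompactSpace (AlgSp.Points F) := by
  have hcpt : CompactSpace (AlgSp.Points F) :=
    compactSpace_points π W c hsurj V v fstV (fun j => by haveI := hV j; infer_instance) sq
  haveI := hcpt
  obtain ⟨U, p, hpe, hps, hU⟩ := exists_affine_atlas hF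
  have hsep := isSeparatedMor_of_standard' hZ hF π W c hW hfl hsurj V v fstV
    (fun j => by haveI := hV j; infer_instance) sq
  obtain ⟨R, t, fstR, sqR0⟩ := hpe.1 p
  obtain ⟨s, rfl⟩ := (AlgSp.yon S).map_surjective fstR
  have hR : IsAffine R.left := isAffine_of_isPullback_self hZ π hsep hU p s t sqR0
  obtain ⟨a, ha⟩ := (AlgSp.yon S).map_surjective (p ≫ π)
  have hsa : s ≫ a = t ≫ a := by
    apply (AlgSp.yon S).map_injective
    rw [Functor.map_comp, Functor.map_comp, ha, ← Category.assoc, sqR0.w, Category.assoc]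
  haveI := hZ
  obtain ⟨T₀, q₀, i₀, hT₀, hqi, hsq, hinj, hex⟩ :=
    Groth.Agent.Lib.Seat46.FlatEqSch.exists_affine_coeq s.left t.left a.left
      (by rw [← Over.comp_left, ← Over.comp_left, hsa])
  let T : Over S := Over.mk (i₀ ≫ Z.hom)
  let i : T ⟶ Z := Over.homMk i₀ rfl
  let q : U ⟶ T := Over.homMk q₀ (by
    show q₀ ≫ i₀ ≫ Z.hom = U.hom
    rw [← Category.assoc, hqi, Over.w a])
  have hq : s ≫ q = t ≫ q := Over.OverMorphism.ext hsq
  have hqi' : q ≫ i = a := Over.OverMorphism.ext hqi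
  have hT : IsAffine T.left := hT₀
  haveI : Epi p := Groth.Agent.S9927.epi_of_repWith p hpe hps
  obtain ⟨φ, hφ⟩ := exists_desc p s t sqR0 q hq
  have hφi : φ ≫ (AlgSp.yon S).map i = π := by
    rw [← cancel_epi p, ← Category.assoc, hφ, ← Functor.map_comp, hqi', ha]
  refine ⟨T, i, φ, hT, ?_, hφi, hcpt⟩
  choose ψ UW RW u q' s' t' hTW hUW hufl hus huψ hstu hinj' hex' hψsq using
    fun j => exists_comparison hZ (hW j) (c j) (hfl j) π (v j)
    (fstV j) (sq j) hU hR hT p hpe hps s t sqR0 i q φ hφ hφi hinj hex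
  have hψo : ∀ j, IsOpenImmersion (ψ j).left := by
    intro j
    haveI := hV j; haveI := hTW j; haveI := hUW j; haveI := hufl j; haveI := hus j
    exact Groth.Agent.Lib.Seat46.QAffSch.isOpenImmersion_of_flat_eq (u j) (ψ j).left (q' j)
      (s' j) (t' j) (huψ j) (hstu j) (hinj' j) (hex' j)
  have sqS : ∀ j, IsPullback (pullback.fst i (c j)).left (pullback.snd i (c j)).left i.left
      (c j).left := fun j => (IsPullback.of_hasPullback i (c j)).map (Over.forget S)
  have hcov : AlgSp.IsFpqcCover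
      (fun j : ULift.{u} (Fin m) => (AlgSp.yon S).obj (pullback i (c j.down)))
      (fun j => (AlgSp.yon S).map (pullback.fst i (c j.down))) := by
    refine isFpqcCover_standard hT (fun j => pullback i (c j)) (fun j => pullback.fst i (c j))
      ?_ ?_ ?_
    · intro j
      haveI := hW j
      exact isAffine_of_isPullback_affine (sqS j)
    · intro j
      exact MorphismProperty.of_isPullback (P := @Flat) (sqS j).flip (hfl j)
    · intro z
      obtain ⟨j, w, hw⟩ := hsurj (i.left z)
      obtain ⟨x, hx, -⟩ := Scheme.exists_preimage_of_isPullback (sqS j) z w hw.symm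
      exact ⟨j, x, hx⟩
  refine ((Groth.Agent.S10531.result S) _ _
    (AlgSp.IsAlgSpace.yon_obj T) (fun j => AlgSp.IsAlgSpace.yon_obj _) hcov φ hF
    (fun j => (AlgSp.yon S).obj (V j.down)) (fun j => (AlgSp.yon S).map (ψ j.down))
    (fun j => fstV j.down) (fun j => AlgSp.IsAlgSpace.yon_obj _) (fun j => hψsq j.down)).2 ?_
  intro j
  exact (AlgSp.repWith_yon_map_iff _ _).2 (hψo j.down)

/-- quasi-affine morphisms are stable under base change. -/
theorem isQuasiAffineMor_of_isPullback {X Y X' Y' : AlgSp.Sp S}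
    {f : X ⟶ Y} {g : Y' ⟶ Y} {fst : X' ⟶ X} {f' : X' ⟶ Y'} (sq : IsPullback fst f' f g)
    (hf : AlgSp.IsQuasiAffineMor f) : AlgSp.IsQuasiAffineMor f' := by
  intro Z hZ c
  obtain ⟨W, i, a, sqW, hW⟩ := hf hZ (c ≫ g)
  refine ⟨W, i, sq.lift a ((AlgSp.yon S).map i ≫ c) (by rw [sqW.w, Category.assoc]), ?_, hW⟩
  refine IsPullback.of_right ?_ (sq.lift_snd _ _ _) sq
  rw [sq.lift_fst]
  exact sqW

/-- the base change of `f` to an affine scheme is a quasi-affine scheme as soon as the base
changes of `f` to an fpqc covering are quasi-affine morphisms; moreover the representing scheme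
restricts, on the members of a standard fpqc covering of the affine scheme, to any representing
object of the corresponding base change of the given morphisms. -/
theorem exists_rep_of_fpqc_qaffine {ι : Type u} {Y : AlgSp.Sp S} (Yi : ι → AlgSp.Sp S)
    (g : ∀ i, Yi i ⟶ Y) (hY : AlgSp.IsAlgSpace Y) (hcov : AlgSp.IsFpqcCover Yi g)
    {X : AlgSp.Sp S} (f : X ⟶ Y) (hX : AlgSp.IsAlgSpace X) (Xi : ι → AlgSp.Sp S)
    (p : ∀ i, Xi i ⟶ Yi i) (q : ∀ i, Xi i ⟶ X) (sq : ∀ i, IsPullback (q i) (p i) f (g i))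
    (H : ∀ i, AlgSp.IsQuasiAffineMor (p i)) {Z : Over S} (hZ : IsAffine Z.left)
    (h : (AlgSp.yon S).obj Z ⟶ Y) :
    ∃ (T : Over S) (i₀ : T ⟶ Z) (fst : (AlgSp.yon S).obj T ⟶ X),
      IsPullback fst ((AlgSp.yon S).map i₀) f h ∧ T.left.IsQuasiAffine ∧
      ∃ (m : ℕ) (W : Fin m → Over S) (c : ∀ j, W j ⟶ Z), (∀ j, IsAffine (W j).left) ∧
        (∀ j, Flat (c j).left) ∧ (∀ z : ↥Z.left, ∃ j, z ∈ Set.range (c j).left) ∧
        ∀ j, ∃ (i : ι) (l : (AlgSp.yon S).obj (W j) ⟶ Yi i),
          ∀ (V : Over S) (v : V ⟶ W j) (fstV : (AlgSp.yon S).obj V ⟶ Xi i),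
            IsPullback fstV ((AlgSp.yon S).map v) (p i) l →
            ∃ g₀ : V ⟶ T, IsPullback g₀.left v.left i₀.left (c j).left := by
  have hF : AlgSp.IsAlgSpace (pullback f h) :=
    Groth.Agent.S9874.isAlgSpace_of_isPullback hY.diag hX (AlgSp.IsAlgSpace.yon_obj Z)
      (IsPullback.of_hasPullback f h)
  obtain ⟨m, W, c, hW, hfl, hsurj, hl⟩ := hcov.2 Z hZ h
  choose i l hl using hl
  choose V v fstV sqV hV using fun j => H (i j) (hW j) (l j)
  -- the squares over `Z`
  have hw : ∀ j, (fstV j ≫ q (i j)) ≫ f =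
      ((AlgSp.yon S).map (v j) ≫ (AlgSp.yon S).map (c j)) ≫ h := by
    intro j
    rw [Category.assoc, (sq (i j)).w, ← Category.assoc, (sqV j).w, Category.assoc, hl,
      Category.assoc]
  have sqF : ∀ j, IsPullback (pullback.lift _ _ (hw j)) ((AlgSp.yon S).map (v j))
      (pullback.snd f h) ((AlgSp.yon S).map (c j)) := by
    intro j
    have big : IsPullback (fstV j ≫ q (i j)) ((AlgSp.yon S).map (v j)) f
        ((AlgSp.yon S).map (c j) ≫ h) := by
      rw [← hl]
      exact (sqV j).paste_horiz (sq (i j))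
    refine IsPullback.of_right ?_ (pullback.lift_snd _ _ _) (IsPullback.of_hasPullback f h)
    rw [pullback.lift_fst]
    exact big
  obtain ⟨T₁, i₁, φ, hT₁, hφ, hφi, hcpt⟩ := exists_qaffine_rep hZ hF
    (pullback.snd f h) W c hW hfl hsurj V v _ hV sqF
  -- the open subscheme of `T₁` representing the base change
  obtain ⟨T, j₀, fst', sq'⟩ := hφ.1 (𝟙 ((AlgSp.yon S).obj T₁))
  have hj₀ : IsOpenImmersion j₀.left := hφ.2 _ fst' j₀ sq'
  haveI : IsIso fst' := sq'.isIso_fst_of_isIso
  have hfst' : fst' ≫ pullback.snd f h = (AlgSp.yon S).map (j₀ ≫ i₁) := by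
    rw [← hφi, ← Category.assoc, sq'.w, Category.comp_id, Functor.map_comp]
  have hTc : CompactSpace ↥T.left := by
    haveI := hcpt
    have hsurj' : Function.Surjective
        ((AlgSp.Points.schemeHomeo T).symm ∘ AlgSp.Points.map (inv fst')) :=
      (AlgSp.Points.schemeHomeo T).symm.surjective.comp
        (Groth.Agent.S10532.surjective_points_of_isIso (inv fst'))
    exact hsurj'.compactSpace ((AlgSp.Points.schemeHomeo T).symm.continuous.comp
      (AlgSp.Points.continuous_map _))
  have hTq : T.left.IsQuasiAffine := by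
    haveI := hT₁
    haveI := hTc
    exact Scheme.IsQuasiAffine.of_isImmersion j₀.left
  have sqT : IsPullback (fst' ≫ pullback.fst f h) ((AlgSp.yon S).map (j₀ ≫ i₁)) f h :=
    IsPullback.of_iso (IsPullback.of_hasPullback f h) (asIso fst').symm (Iso.refl _) (Iso.refl _)
      (Iso.refl _) (by simp) (by simp [← hfst']) (by simp) (by simp)
  refine ⟨T, j₀ ≫ i₁, fst' ≫ pullback.fst f h, sqT, hTq, m, W, c, hW, hfl, hsurj, fun j => ?_⟩
  refine ⟨i j, l j, fun V' v' fstV' sqV' => ?_⟩
  have big : IsPullback (fstV' ≫ q (i j)) ((AlgSp.yon S).map v') f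
      ((AlgSp.yon S).map (c j) ≫ h) := by
    rw [← hl]
    exact sqV'.paste_horiz (sq (i j))
  obtain ⟨g₀, hg₀⟩ := (AlgSp.yon S).map_surjective
    (sqT.lift (fstV' ≫ q (i j)) ((AlgSp.yon S).map v' ≫ (AlgSp.yon S).map (c j))
      (by rw [Category.assoc]; exact big.w))
  have hg₀2 : g₀ ≫ (j₀ ≫ i₁) = v' ≫ c j := by
    apply (AlgSp.yon S).map_injective
    rw [Functor.map_comp, hg₀, sqT.lift_snd, Functor.map_comp]
  have sqY : IsPullback ((AlgSp.yon S).map g₀) ((AlgSp.yon S).map v')
      ((AlgSp.yon S).map (j₀ ≫ i₁)) ((AlgSp.yon S).map (c j)) := by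
    refine IsPullback.of_right ?_ (by rw [← Functor.map_comp, ← Functor.map_comp, hg₀2]) sqT
    rw [hg₀, sqT.lift_fst]
    exact big
  exact ⟨g₀, (IsPullback.of_map (AlgSp.yon S) hg₀2 sqY).map (Over.forget S)⟩

/-- **fpqc descent for `RepWith P`**, `P` a class of quasi-affine morphisms. -/
theorem isLocalOnBase_fpqc_repWith_of_quasiAffine (P : MorphismProperty Scheme.{u})
    [IsZariskiLocalAtTarget P] [P.IsStableUnderBaseChange]
    [P.DescendsAlong (@Surjective ⊓ @Flat ⊓ @QuasiCompact)]
    (hPqa : ∀ {A B : Scheme.{u}} (k : A ⟶ B), P k → IsAffine B → A.IsQuasiAffine) :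
    AlgSp.IsLocalOnBase (AlgSp.IsFpqcCover (S := S)) (AlgSp.RepWith P) := by
  intro ι Y Yi g hY hYi hcov X f hX Xi p q hXi sq
  constructor
  · intro hf i
    exact (AlgSp.repWith_isStableUnderBaseChange P).of_isPullback (sq i) hf
  · intro H
    have Hqa : ∀ i, AlgSp.IsQuasiAffineMor (p i) := by
      intro i Z hZ l
      obtain ⟨V, v, fstV, sqV⟩ := (H i).1 l
      have hv : P v.left := (H i).2 l fstV v sqV
      exact ⟨V, v, fstV, sqV, hPqa _ hv hZ⟩
    refine Groth.Agent.Lib.Helper12.ZarGlue.repWith_of_affine P f (fun Z hZ h => ?_)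
    obtain ⟨T, i₀, fst, sqT, hT, m, W, c, hW, hfl, hsurj, hj⟩ :=
      exists_rep_of_fpqc_qaffine Yi g hY hcov f hX Xi p q sq Hqa hZ h
    refine ⟨T, i₀, fst, sqT, ?_⟩
    haveI := hZ
    refine Groth.Agent.Lib.Helper12.BaseLocal.of_standard_fpqc P i₀.left (fun j => (W j).left)
      (fun j => (c j).left) hW hfl hsurj (fun j => ?_)
    obtain ⟨i, l, hl⟩ := hj j
    obtain ⟨V, v, fstV, sqV⟩ := (H i).1 l
    have hv : P v.left := (H i).2 l fstV v sqV
    obtain ⟨g₀, hg₀⟩ := hl V v fstV sqV
    exact ⟨V.left, g₀.left, v.left, hg₀, hv⟩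

end Groth.Agent.Lib.Seat46.QAffDescent
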