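import Mathlib
import Groth.Prelude.Def_AlgSp3
import Groth.Agent.Lib.Seat46BddLifts3

/-!
# Separated locally quasi-finite spaces over a scheme: scheme-level preparations (seat 46)

* `isQuasiAffine_of_sep_lqf`: a quasi-compact scheme separated, locally quasi-finite and locally of finite type
  over an affine scheme is quasi-affine (Zariski's main theorem).
* the complement of the diagonal of an étale morphism of affine schemes over `S`, as an object of `Over S`.
-/

set_option autoImplicit false
universe u
open CategoryTheory CategoryTheory.Limits AlgebraicGeometry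

namespace Groth.Agent.Lib.Seat46.QfSchA

open Groth.Agent.Lib.Seat46.BddLifts

/-- **Zariski's main theorem**: quasi-compact + separated + locally quasi-finite + locally of finite type over an
affine scheme implies quasi-affine. -/
theorem isQuasiAffine_of_sep_lqf {A B : Scheme.{u}} (h : A ⟶ B) [IsAffine B] [CompactSpace ↥A]
    [IsSeparated h] [LocallyQuasiFinite h] [LocallyOfFiniteType h] : A.IsQuasiAffine := by
  haveI : QuasiCompact h := inferInstance
  haveI : IsAffine h.normalization := isAffine_of_isAffineHom h.fromNormalization
  exact Scheme.IsQuasiAffine.of_isImmersion h.toNormalization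

section OffDiagOver

variable {S : Scheme.{u}} {T T' : Over S} (e : T' ⟶ T) [Etale e.left] [IsSeparated e.left]

/-- the complement of the diagonal in `T' ×_T T'`, over `S`. -/
noncomputable def od : Over S :=
  Over.mk ((offDiag e.left).ι ≫ pullback.fst e.left e.left ≫ T'.hom)

/-- first projection. -/
noncomputable def pr0 : od e ⟶ T' :=
  Over.homMk ((offDiag e.left).ι ≫ pullback.fst e.left e.left) (by simp [od])

omit [Etale e.left] [IsSeparated e.left] in
lemma snd_hom : pullback.snd e.left e.left ≫ T'.hom = pullback.fst e.left e.left ≫ T'.hom := by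
  rw [← Over.w e, ← Category.assoc, ← Category.assoc, pullback.condition]

/-- second projection. -/
noncomputable def pr1 : od e ⟶ T' :=
  Over.homMk ((offDiag e.left).ι ≫ pullback.snd e.left e.left) (by
    simp only [od, Over.mk_left, Over.mk_hom, Category.assoc]
    rw [snd_hom])

lemma pr0_comp : pr0 e ≫ e = pr1 e ≫ e := by
  apply Over.OverMorphism.ext
  simp only [pr0, pr1, Over.comp_left, Over.homMk_left, Category.assoc]
  rw [pullback.condition]

instance : Etale (pr0 e).left := by
  show Etale ((offDiag e.left).ι ≫ pullback.fst e.left e.left)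
  infer_instance

instance : Etale (pr1 e).left := by
  show Etale ((offDiag e.left).ι ≫ pullback.snd e.left e.left)
  infer_instance

lemma isClosedImmersion_offDiag_ι : IsClosedImmersion (offDiag e.left).ι := by
  apply IsClosedImmersion.of_isPreimmersion
  rw [Scheme.Opens.range_ι]
  show IsClosed ((Set.range (pullback.diagonal e.left))ᶜ)
  rw [isClosed_compl_iff]
  exact (pullback.diagonal e.left).isOpenEmbedding.isOpen_range

lemma isAffine_od [IsAffine T'.left] [IsAffine T.left] : IsAffine (od e).left := by
  haveI := isClosedImmersion_offDiag_ι e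
  show IsAffine ((offDiag e.left : (pullback e.left e.left).Opens) : Scheme.{u})
  exact isAffine_of_isAffineHom (offDiag e.left).ι

omit [Etale e.left] in
lemma bl_pr0 (n : ℕ) (h : BL (n + 1) e.left) : BL n (pr0 e).left :=
  bl_offDiag e.left n h

lemma exists_lift_od {Ω : Type u} [Field Ω] (w : Spec (CommRingCat.of Ω) ⟶ S)
    (a b : Over.mk w ⟶ T') (hab : a ≫ e = b ≫ e) (hne : a ≠ b) :
    ∃ l : Over.mk w ⟶ od e, l ≫ pr0 e = a ∧ l ≫ pr1 e = b := by
  have hab' : a.left ≫ e.left = b.left ≫ e.left := by
    rw [← Over.comp_left, ← Over.comp_left, hab]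
  have hne' : a.left ≠ b.left := fun h => hne (Over.OverMorphism.ext h)
  obtain ⟨l, hl⟩ := exists_lift_offDiag e.left a.left b.left hab' hne'
  have h0 : l ≫ (offDiag e.left).ι ≫ pullback.fst e.left e.left = a.left := by
    rw [← Category.assoc, hl, pullback.lift_fst]
  have h1 : l ≫ (offDiag e.left).ι ≫ pullback.snd e.left e.left = b.left := by
    rw [← Category.assoc, hl, pullback.lift_snd]
  refine ⟨Over.homMk l ?_, ?_, ?_⟩
  · simp only [od, Over.mk_left, Over.mk_hom]
    rw [← Category.assoc, ← Category.assoc, Category.assoc l, h0]
    exact Over.w a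
  · apply Over.OverMorphism.ext
    exact h0
  · apply Over.OverMorphism.ext
    exact h1

end OffDiagOver

end Groth.Agent.Lib.Seat46.QfSchA
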