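import Mathlib
import Groth.Prelude.Def_AlgSp4
import Groth.Agent.S10175
import Groth.Agent.S10177
import Groth.Agent.S10194
import Groth.Agent.Lib.Helper12OpenSub
import Groth.Agent.Lib.Helper12OpenSub2
import Groth.Agent.Lib.Helper12LargestOpen
import Groth.Agent.Lib.Helper12ZarGlue
import Groth.Agent.Lib.Helper12ZarGlue2

/-!
# Separated locally quasi-finite spaces over a scheme: sheaf-level preparations (seat 46)

* `exists_common_rep`: two points of `P` with the same image in `X` are represented by field-valued points over a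
  common field having the same image.
* `exists_factor_of_mem`: a field-valued point whose point lies in an open subspace factors through it.
* `exists_union`: a family of open subschemes of a sheaf has a union which is a scheme.
-/

set_option autoImplicit false
universe u
open CategoryTheory CategoryTheory.Limits AlgebraicGeometry Opposite

namespace Groth.Agent.Lib.Seat46.QfSchB

open Groth.Agent.S13210 Groth.Agent.Lib.Helper12

variable {S : Scheme.{u}}

/-- two points with the same image are represented over a common field by sections with the same image. -/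
lemma exists_common_rep {P X : AlgSp.Sp S} (p2 : P ⟶ X) (p q : AlgSp.Points P)
    (h : AlgSp.Points.map p2 p = AlgSp.Points.map p2 q) :
    ∃ (Ω : Type u) (_ : Field Ω) (w : Spec (CommRingCat.of Ω) ⟶ S)
      (ξp ξq : (AlgSp.yon S).obj (Over.mk w) ⟶ P), ξp ≫ p2 = ξq ≫ p2 ∧
      AlgSp.Points.ofPt ξp (IsLocalRing.closedPoint Ω) = p ∧
      AlgSp.Points.ofPt ξq (IsLocalRing.closedPoint Ω) = q := by
  induction p using AlgSp.Points.ind with | h pp => ?_
  induction q using AlgSp.Points.ind with | h qq => ?_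
  obtain ⟨Ω, _, w, a, b, hab⟩ := AlgSp.Points.mk_eq_mk_iff.1 h
  have hab' : p2.hom.app _ (P.obj.map a.op pp.val) = p2.hom.app _ (P.obj.map b.op qq.val) := by
    have h1 := NatTrans.naturality_apply p2.hom a.op pp.val
    have h2 := NatTrans.naturality_apply p2.hom b.op qq.val
    rw [h1, h2]
    exact hab
  refine ⟨Ω, inferInstance, w, (yEquiv (Over.mk w) P).symm (P.obj.map a.op pp.val),
    (yEquiv (Over.mk w) P).symm (P.obj.map b.op qq.val), ?_, ?_, ?_⟩
  · rw [yEquiv_symm_comp, yEquiv_symm_comp, hab']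
  · have h1 := Groth.Agent.S10177.ofPt_closedPoint
      (⟨Ω, w, P.obj.map a.op pp.val⟩ : AlgSp.FieldPt P)
    exact h1.trans (Groth.Agent.S10175.mk_restrict pp w a)
  · have h1 := Groth.Agent.S10177.ofPt_closedPoint
      (⟨Ω, w, P.obj.map b.op qq.val⟩ : AlgSp.FieldPt P)
    exact h1.trans (Groth.Agent.S10175.mk_restrict qq w b)

/-- a field-valued point whose point lies in an open subspace factors through it. -/
lemma exists_factor_of_mem {A P : AlgSp.Sp S} (j : A ⟶ P) (hj : AlgSp.RepWith @IsOpenImmersion j)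
    {Ω : Type u} [Field Ω] (w : Spec (CommRingCat.of Ω) ⟶ S)
    (ξ : (AlgSp.yon S).obj (Over.mk w) ⟶ P)
    (h : AlgSp.Points.ofPt ξ (IsLocalRing.closedPoint Ω) ∈ Set.range (AlgSp.Points.map j)) :
    ∃ ξ' : (AlgSp.yon S).obj (Over.mk w) ⟶ A, ξ' ≫ j = ξ := by
  refine (Groth.Agent.S10194.exists_factor_iff j hj ξ).2 ?_
  rintro _ ⟨y, rfl⟩
  obtain ⟨t, rfl⟩ := (AlgSp.Points.schemeHomeo (Over.mk w)).surjective y
  have ht : t = IsLocalRing.closedPoint Ω :=
    @Subsingleton.elim ↥(Spec (CommRingCat.of Ω)) inferInstance _ _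
  have h1 : AlgSp.Points.map ξ (AlgSp.Points.schemeHomeo (Over.mk w) t) = AlgSp.Points.ofPt ξ t :=
    (AlgSp.Points.ofPt_eq_map_ofScheme ξ t).symm
  rw [h1, ht]
  exact h

/-- the union of a family of open subschemes of a sheaf is an open subscheme. -/
theorem exists_union {P : AlgSp.Sp S} {ι : Type u} (V : ι → Over S)
    (j : ∀ i, (AlgSp.yon S).obj (V i) ⟶ P) (hj : ∀ i, AlgSp.RepWith @IsOpenImmersion (j i)) :
    ∃ (W : Over S) (k : (AlgSp.yon S).obj W ⟶ P) (c : ∀ i, V i ⟶ W),
      AlgSp.RepWith @IsOpenImmersion k ∧ (∀ i, (AlgSp.yon S).map (c i) ≫ k = j i) ∧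
      (∀ i, IsOpenImmersion (c i).left) ∧
      Set.range (AlgSp.Points.map k) = ⋃ i, Set.range (AlgSp.Points.map (j i)) ∧
      ∀ x : ↥W.left, ∃ i, x ∈ Set.range (c i).left := by
  set O : Set (AlgSp.Points P) := ⋃ i, Set.range (AlgSp.Points.map (j i)) with hO
  have hOopen : IsOpen O := isOpen_iUnion fun i => OpenSub.isOpen_range_of_open (j i) (hj i)
  let incl := OpenSub.incl P O
  have hincl : AlgSp.RepWith @IsOpenImmersion incl := OpenSub.repWith_incl hOopen
  have hrincl : Set.range (AlgSp.Points.map incl) = O := OpenSub.range_map_incl _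
  have hinj : Function.Injective (AlgSp.Points.map incl) := LargestOpen.injective_map_of_open _ hincl
  have hsub : ∀ i, Set.range (AlgSp.Points.map (j i)) ⊆ Set.range (AlgSp.Points.map incl) := by
    intro i
    rw [hrincl]
    exact Set.subset_iUnion (fun i => Set.range (AlgSp.Points.map (j i))) i
  have hk : ∀ i, ∃ k : (AlgSp.yon S).obj (V i) ⟶ OpenSub.obj P O,
      k ≫ incl = j i ∧ AlgSp.RepWith @IsOpenImmersion k :=
    fun i => LargestOpen.factor_open incl hincl (j i) (hj i) (hsub i)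
  choose f hfj hf using hk
  have hs : ZarGlue.JointlySurjective hf := by
    intro T g t
    have hx : AlgSp.Points.map incl (AlgSp.Points.ofPt g t) ∈ O := hrincl.subset ⟨_, rfl⟩
    obtain ⟨i, a, ha⟩ := Set.mem_iUnion.1 hx
    refine ⟨i, ZarGlue.mem_range_of_mem_range_map (f i) g _ _ ((hf i).rep.isPullback g) t ?_⟩
    refine ⟨a, hinj ?_⟩
    rw [← AlgSp.Points.map_comp, hfj i, ha]
  obtain ⟨W₀, e₀, c, hc, hco⟩ := ZarGlue.exists_iso hf hs
  have hk : AlgSp.RepWith @IsOpenImmersion (e₀.hom ≫ incl) :=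
    (MorphismProperty.cancel_left_of_respectsIso (AlgSp.RepWith @IsOpenImmersion)
      e₀.hom incl).2 hincl
  have hck : ∀ i, (AlgSp.yon S).map (c i) ≫ e₀.hom ≫ incl = j i := by
    intro i
    rw [← Category.assoc, hc i, hfj i]
  have hrk : Set.range (AlgSp.Points.map (e₀.hom ≫ incl)) = O := by
    refine Eq.trans ?_ hrincl
    ext x
    constructor
    · rintro ⟨y, rfl⟩
      exact ⟨AlgSp.Points.map e₀.hom y, (AlgSp.Points.map_comp _ _ _).symm⟩
    · rintro ⟨y, rfl⟩
      refine ⟨AlgSp.Points.map e₀.inv y, ?_⟩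
      rw [← AlgSp.Points.map_comp, Iso.inv_hom_id_assoc]
  refine ⟨W₀, e₀.hom ≫ incl, c, hk, hck, hco, hrk, ?_⟩
  intro x
  have hkinj : Function.Injective (AlgSp.Points.map (e₀.hom ≫ incl)) :=
    LargestOpen.injective_map_of_open _ hk
  have hx : AlgSp.Points.map (e₀.hom ≫ incl) (AlgSp.Points.schemeHomeo W₀ x) ∈ O :=
    hrk.subset ⟨_, rfl⟩
  obtain ⟨i, a, ha⟩ := Set.mem_iUnion.1 hx
  obtain ⟨v, rfl⟩ := (AlgSp.Points.schemeHomeo (V i)).surjective a
  refine ⟨i, v, ?_⟩
  apply (AlgSp.Points.schemeHomeo W₀).injective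
  apply hkinj
  rw [← ha, ← AlgSp.Points.map_yon_map_apply, ← AlgSp.Points.map_comp, hck i]

/-- the union of two quasi-compact open subschemes of a sheaf is a quasi-compact open subscheme. -/
theorem exists_union₂ {P : AlgSp.Sp S} (V₁ V₂ : Over S) (j₁ : (AlgSp.yon S).obj V₁ ⟶ P)
    (j₂ : (AlgSp.yon S).obj V₂ ⟶ P) (h₁ : AlgSp.RepWith @IsOpenImmersion j₁)
    (h₂ : AlgSp.RepWith @IsOpenImmersion j₂) [CompactSpace ↥V₁.left] [CompactSpace ↥V₂.left] :
    ∃ (W : Over S) (k : (AlgSp.yon S).obj W ⟶ P), AlgSp.RepWith @IsOpenImmersion k ∧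
      CompactSpace ↥W.left ∧
      Set.range (AlgSp.Points.map k) =
        Set.range (AlgSp.Points.map j₁) ∪ Set.range (AlgSp.Points.map j₂) := by
  let V : ULift.{u} Bool → Over S := fun b => bif b.down then V₁ else V₂
  let j : ∀ b, (AlgSp.yon S).obj (V b) ⟶ P := fun b =>
    match b with
    | ⟨true⟩ => j₁
    | ⟨false⟩ => j₂
  have hj : ∀ b, AlgSp.RepWith @IsOpenImmersion (j b) := fun b =>
    match b with
    | ⟨true⟩ => h₁
    | ⟨false⟩ => h₂
  have hcpt : ∀ b, CompactSpace ↥(V b).left := fun b =>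
    match b with
    | ⟨true⟩ => (inferInstance : CompactSpace ↥V₁.left)
    | ⟨false⟩ => (inferInstance : CompactSpace ↥V₂.left)
  obtain ⟨W, k, c, hk, hck, hco, hrk, hsurj⟩ := exists_union V j hj
  refine ⟨W, k, hk, ?_, ?_⟩
  · rw [← isCompact_univ_iff]
    have hu : (Set.univ : Set ↥W.left) = ⋃ b, Set.range (c b).left := by
      ext x
      simp only [Set.mem_univ, Set.mem_iUnion, true_iff]
      exact hsurj x
    rw [hu]
    haveI : Finite (ULift.{u} Bool) := inferInstance
    refine isCompact_iUnion fun b => ?_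
    haveI := hcpt b
    exact isCompact_range (c b).left.continuous
  · rw [hrk]
    ext x
    simp only [Set.mem_iUnion, Set.mem_union]
    constructor
    · rintro ⟨⟨b⟩, hb⟩
      cases b
      · exact Or.inr hb
      · exact Or.inl hb
    · rintro (hx | hx)
      · exact ⟨⟨true⟩, hx⟩
      · exact ⟨⟨false⟩, hx⟩

end Groth.Agent.Lib.Seat46.QfSchB
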