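import Mathlib
import Groth.Prelude.Def_AlgSp4
import Groth.Agent.S10511
import Groth.Agent.Lib.Seat46QfSchB
import Groth.Agent.Lib.Seat46QAffDescent
import Groth.Agent.Lib.Seat43ImmDescent
import Groth.Agent.Lib.Seat45ZarQs

/-!
# Separated locally quasi-finite spaces over a scheme: the descent step (seat 46)

`exists_rep_of_saturated`: let `X → T` be a morphism from an algebraic space to an affine scheme, `T' → T` étale with
`T'` affine, `P = X ×_T T'`, and `U' ⊆ P` an open subspace which is a quasi-affine scheme and is the full preimage of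
an open subset `O ⊆ |X|` contained in the image of `|P|`.  Then the open subspace of `X` on `O` is a scheme.
-/

set_option autoImplicit false
universe u
open CategoryTheory CategoryTheory.Limits AlgebraicGeometry Opposite

namespace Groth.Agent.Lib.Seat46.QfSchC

open Groth.Agent.Lib.Helper12 Groth.Agent.S10511Aux

variable {S : Scheme.{u}}

/-- the fibre product of a quasi-affine scheme with an affine scheme over an affine scheme is quasi-affine. -/
lemma isQuasiAffine_pullback {A B Z : Over S} (u : A ⟶ B) (c : Z ⟶ B) (hA : A.left.IsQuasiAffine)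
    (hB : IsAffine B.left) (hZ : IsAffine Z.left) : (pullback u c).left.IsQuasiAffine := by
  have sq := (IsPullback.of_hasPullback u c).map (Over.forget S)
  have hc : IsAffineHom c.left := inferInstance
  have h1 : IsAffineHom (pullback.fst u c).left :=
    MorphismProperty.of_isPullback (P := @IsAffineHom) sq.flip hc
  exact Scheme.IsQuasiAffine.of_isAffineHom (pullback.fst u c).left

/-- a morphism from a quasi-affine scheme to an affine scheme is a quasi-affine morphism of sheaves. -/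
lemma isQuasiAffineMor_yon_map {A B : Over S} (u : A ⟶ B) (hA : A.left.IsQuasiAffine)
    (hB : IsAffine B.left) : AlgSp.IsQuasiAffineMor ((AlgSp.yon S).map u) := by
  intro Z hZ c
  obtain ⟨c', rfl⟩ := (AlgSp.yon S).map_surjective c
  exact ⟨pullback u c', pullback.snd u c', (AlgSp.yon S).map (pullback.fst u c'),
    (IsPullback.of_hasPullback u c').map (AlgSp.yon S), isQuasiAffine_pullback u c' hA hB hZ⟩

/-- **the descent step.** -/
theorem exists_rep_of_saturated {T T' : Over S} (hT : IsAffine T.left) (hT' : IsAffine T'.left)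
    (e : T' ⟶ T) [Etale e.left] {X P : AlgSp.Sp S} (hX : AlgSp.IsAlgSpace X)
    (f : X ⟶ (AlgSp.yon S).obj T) (p1 : P ⟶ (AlgSp.yon S).obj T') (p2 : P ⟶ X)
    (sq : IsPullback p2 p1 f ((AlgSp.yon S).map e)) (U' : Over S) (hU' : U'.left.IsQuasiAffine)
    (k : (AlgSp.yon S).obj U' ⟶ P) (hk : AlgSp.RepWith @IsOpenImmersion k)
    (O : Set (AlgSp.Points X)) (hO : IsOpen O)
    (hsat : Set.range (AlgSp.Points.map k) = AlgSp.Points.map p2 ⁻¹' O)
    (hsurj : O ⊆ Set.range (AlgSp.Points.map p2)) :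
    ∃ (W : Over S) (i : (AlgSp.yon S).obj W ⟶ X), AlgSp.RepWith @IsOpenImmersion i ∧
      Set.range (AlgSp.Points.map i) = O := by
  -- the open image of `T'` in `T`
  let V : T.left.Opens := ⟨Set.range e.left, e.left.isOpenMap.isOpen_range⟩
  let T₀ : Over S := ov T V
  let ι₀ : T₀ ⟶ T := ovι T V
  haveI : IsOpenImmersion ι₀.left := inferInstanceAs (IsOpenImmersion V.ι)
  have hrange : Set.range e.left ⊆ Set.range V.ι := by
    rw [Scheme.Opens.range_ι]
    exact subset_rfl
  let e₀l : T'.left ⟶ (V : Scheme.{u}) := IsOpenImmersion.lift V.ι e.left hrange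
  have he₀l : e₀l ≫ V.ι = e.left := IsOpenImmersion.lift_fac _ _ _
  let e₀ : T' ⟶ T₀ := Over.homMk e₀l (by
    show e₀l ≫ V.ι ≫ T.hom = T'.hom
    rw [← Category.assoc, he₀l]
    exact Over.w e)
  have he₀ : e₀ ≫ ι₀ = e := Over.OverMorphism.ext he₀l
  haveI : Etale e₀.left := by
    haveI : Etale (e₀l ≫ V.ι) := by rw [he₀l]; infer_instance
    exact Etale.of_comp e₀l V.ι
  haveI : Surjective e₀.left := ⟨fun v => by
    have hv : V.ι v ∈ Set.range e.left := by
      have h1 : V.ι v ∈ Set.range V.ι := ⟨v, rfl⟩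
      rw [Scheme.Opens.range_ι] at h1
      exact h1
    obtain ⟨t', ht'⟩ := hv
    refine ⟨t', V.ι.isOpenEmbedding.injective ?_⟩
    show V.ι (e₀l t') = V.ι v
    rw [← Scheme.Hom.comp_apply, he₀l, ht']⟩
  have hι₀ : AlgSp.RepWith @IsOpenImmersion ((AlgSp.yon S).map ι₀) :=
    (AlgSp.repWith_yon_map_iff _ _).2 inferInstance
  have hEt : AlgSp.RepWith @Etale ((AlgSp.yon S).map e₀) :=
    (AlgSp.repWith_yon_map_iff _ _).2 inferInstance
  have hSurj : AlgSp.RepWith @Surjective ((AlgSp.yon S).map e₀) :=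
    (AlgSp.repWith_yon_map_iff _ _).2 inferInstance
  haveI : Mono ((AlgSp.yon S).map ι₀) := LargestOpen.mono_of_open _ hι₀
  -- the open subspace `U` of `X`
  let iU := OpenSub.incl X O
  have hiU : AlgSp.RepWith @IsOpenImmersion iU := OpenSub.repWith_incl hO
  have hUalg : AlgSp.IsAlgSpace (OpenSub.obj X O) := OpenSub.isAlgSpace_obj hX hO
  have hriU : Set.range (AlgSp.Points.map iU) = O := OpenSub.range_map_incl _
  haveI : Mono iU := LargestOpen.mono_of_open _ hiU
  have hcomm : p1 ≫ (AlgSp.yon S).map e₀ ≫ (AlgSp.yon S).map ι₀ = p2 ≫ f := by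
    rw [← Functor.map_comp, he₀]
    exact sq.w.symm
  obtain ⟨f₀, hf₀⟩ := (Groth.Agent.S10194.exists_factor_iff ((AlgSp.yon S).map ι₀) hι₀ (iU ≫ f)).2 (by
    rintro _ ⟨y, rfl⟩
    have hy : AlgSp.Points.map iU y ∈ O := hriU.subset ⟨y, rfl⟩
    obtain ⟨p, hp⟩ := hsurj hy
    refine ⟨AlgSp.Points.map ((AlgSp.yon S).map e₀) (AlgSp.Points.map p1 p), ?_⟩
    rw [← AlgSp.Points.map_comp, ← AlgSp.Points.map_comp, hcomm, AlgSp.Points.map_comp, hp,
      ← AlgSp.Points.map_comp])
  obtain ⟨k', hk'⟩ := (Groth.Agent.S10194.exists_factor_iff iU hiU (k ≫ p2)).2 (by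
    rintro _ ⟨y, rfl⟩
    have h1 : AlgSp.Points.map k y ∈ Set.range (AlgSp.Points.map k) := ⟨y, rfl⟩
    rw [hsat] at h1
    rw [AlgSp.Points.map_comp]
    exact hriU.symm.subset h1)
  obtain ⟨u', hu'⟩ := (AlgSp.yon S).map_surjective (k ≫ p1)
  -- `U' = U ×_X P`
  have sqQ := IsPullback.of_hasPullback iU p2
  have hsnd : AlgSp.RepWith @IsOpenImmersion (pullback.snd iU p2) :=
    MorphismProperty.of_isPullback (P := AlgSp.RepWith @IsOpenImmersion) sqQ hiU
  have hrsnd : Set.range (AlgSp.Points.map (pullback.snd iU p2)) =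
      AlgSp.Points.map p2 ⁻¹' Set.range (AlgSp.Points.map iU) :=
    OpenSub.range_map_fst_of_isPullback sqQ.flip
  obtain ⟨ε, hε⟩ := OpenSub.iso_of_range_eq k hk (pullback.snd iU p2) hsnd (by
    rw [hsat, hrsnd, hriU])
  have hεfst : ε.hom ≫ pullback.fst iU p2 = k' := by
    rw [← cancel_mono iU, Category.assoc, pullback.condition, ← Category.assoc, hε, hk']
  have sq1 : IsPullback k' k iU p2 := IsPullback.of_iso_pullback ⟨by rw [hk']⟩ ε hεfst hε
  have sq2 : IsPullback k' (k ≫ p1) (iU ≫ f) ((AlgSp.yon S).map e) := sq1.paste_vert sq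
  have sq3 : IsPullback k' ((AlgSp.yon S).map u') f₀ ((AlgSp.yon S).map e₀) := by
    apply Groth.Agent.Lib.Seat45.ZarQs.isPullback_of_comp_mono' ((AlgSp.yon S).map ι₀)
    rw [hf₀, ← Functor.map_comp, he₀, hu']
    exact sq2
  -- descent
  have hT₀ := AlgSp.IsAlgSpace.yon_obj T₀
  have hcov := Groth.Agent.Lib.Seat43.ImmDescent.isFpqcCover_chart hT₀ T' ((AlgSp.yon S).map e₀) hEt hSurj
  have hqa : AlgSp.IsQuasiAffineMor ((AlgSp.yon S).map u') := isQuasiAffineMor_yon_map u' hU' hT'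
  have hrep : AlgSp.RepWith @IsSeparated f₀ :=
    ZarGlue.repWith_of_affine @IsSeparated f₀ (fun Z hZ g => by
      obtain ⟨TZ, i₀, fst, sqZ, hTZ, -⟩ :=
        Groth.Agent.Lib.Seat46.QAffDescent.exists_rep_of_fpqc_qaffine
          (fun _ : PUnit.{u + 1} => (AlgSp.yon S).obj T') (fun _ => (AlgSp.yon S).map e₀) hT₀ hcov f₀
          hUalg (fun _ => (AlgSp.yon S).obj U') (fun _ => (AlgSp.yon S).map u') (fun _ => k')
          (fun _ => sq3) (fun _ => hqa) hZ g
      exact ⟨TZ, i₀, fst, sqZ, (inferInstance : IsSeparated i₀.left)⟩)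
  obtain ⟨W, snd, fst, sqW⟩ := hrep.1 (𝟙 _)
  haveI : IsIso fst := sqW.isIso_fst_of_isIso
  refine ⟨W, fst ≫ iU, (MorphismProperty.cancel_left_of_respectsIso
    (AlgSp.RepWith @IsOpenImmersion) fst iU).2 hiU, ?_⟩
  refine Eq.trans ?_ hriU
  ext x
  constructor
  · rintro ⟨y, rfl⟩
    exact ⟨AlgSp.Points.map fst y, (AlgSp.Points.map_comp _ _ _).symm⟩
  · rintro ⟨y, rfl⟩
    refine ⟨AlgSp.Points.map (inv fst) y, ?_⟩
    rw [← AlgSp.Points.map_comp, IsIso.inv_hom_id_assoc]

end Groth.Agent.Lib.Seat46.QfSchC
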