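import Mathlib
import Groth.Prelude.Def_AlgSp4
import Groth.Agent.Lib.Seat46QfSchA
import Groth.Agent.Lib.Seat46QfSchC
import Groth.Agent.Lib.Helper12Proper
import Groth.Agent.Lib.Helper12LocPCases
import Groth.Agent.S9874
import Groth.Agent.S9908
import Groth.Agent.S10210

/-!
# Separated locally quasi-finite spaces over a scheme: the induction (seat 46)

`main`: let `X → T` be separated and locally quasi-finite with `T` affine, `T' → T` étale with `T'` affine, and `V'`
an open subspace of `X ×_T T'` which is a quasi-affine scheme.  Then the image of `V'` in `X` is a quasi-compact open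
subspace of `X` which is a scheme.  The proof is by induction on a bound for the number of geometric points in the
fibres of `T' → T`.
-/

set_option autoImplicit false
universe u
open CategoryTheory CategoryTheory.Limits AlgebraicGeometry Opposite

namespace Groth.Agent.Lib.Seat46.QfSchD

open Groth.Agent.Lib.Helper12 Groth.Agent.Lib.Seat46.BddLifts Groth.Agent.Lib.Seat46.QfSchA
  Groth.Agent.Lib.Seat46.QfSchB Groth.Agent.Lib.Seat46.QfSchC

variable {S : Scheme.{u}}

/-- an open subscheme with quasi-compact image is quasi-compact. -/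
lemma compactSpace_of_range_eq {X : AlgSp.Sp S} {W V : Over S} (i : (AlgSp.yon S).obj W ⟶ X)
    (hi : AlgSp.RepWith @IsOpenImmersion i) (g : (AlgSp.yon S).obj V ⟶ X) [CompactSpace ↥V.left]
    (h : Set.range (AlgSp.Points.map i) = Set.range (AlgSp.Points.map g)) : CompactSpace ↥W.left := by
  haveI : CompactSpace (AlgSp.Points ((AlgSp.yon S).obj V)) :=
    (AlgSp.Points.schemeHomeo V).compactSpace
  have hc : IsCompact (Set.range (AlgSp.Points.map i)) := by
    rw [h]
    exact isCompact_range (AlgSp.Points.continuous_map g)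
  have hemb : Topology.IsOpenEmbedding (AlgSp.Points.map i) :=
    Topology.IsOpenEmbedding.of_continuous_injective_isOpenMap (AlgSp.Points.continuous_map i)
      (LargestOpen.injective_map_of_open i hi) (OpenSub.isOpenMap_map_of_open i hi)
  haveI : CompactSpace (AlgSp.Points ((AlgSp.yon S).obj W)) := by
    rw [← isCompact_univ_iff, hemb.isInducing.isCompact_iff, Set.image_univ]
    exact hc
  exact (AlgSp.Points.schemeHomeo W).symm.compactSpace

/-- the preimage in `P = X ×_T T'` of the image of an open subspace `A` of `P` is the union of `A` and of its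
translate along the complement of the diagonal of `T' ×_T T'`. -/
lemma saturation {T T' : Over S} (e : T' ⟶ T) [Etale e.left] [IsSeparated e.left]
    {X P P1 : AlgSp.Sp S} (f : X ⟶ (AlgSp.yon S).obj T) (p1 : P ⟶ (AlgSp.yon S).obj T') (p2 : P ⟶ X)
    (sq : IsPullback p2 p1 f ((AlgSp.yon S).map e)) (a₁ : P1 ⟶ P)
    (b₁ : P1 ⟶ (AlgSp.yon S).obj (od e)) (sq1 : IsPullback a₁ b₁ p1 ((AlgSp.yon S).map (pr1 e)))
    (a₀ : P1 ⟶ P) (ha₀2 : a₀ ≫ p2 = a₁ ≫ p2) (ha₀1 : a₀ ≫ p1 = b₁ ≫ (AlgSp.yon S).map (pr0 e))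
    {A A1 : AlgSp.Sp S} (j : A ⟶ P) (hj : AlgSp.RepWith @IsOpenImmersion j) (j1 : A1 ⟶ P1)
    (c : A1 ⟶ A) (sqA : IsPullback j1 c a₁ j) :
    AlgSp.Points.map p2 ⁻¹' Set.range (AlgSp.Points.map (j ≫ p2)) =
      Set.range (AlgSp.Points.map j) ∪ Set.range (AlgSp.Points.map (j1 ≫ a₀)) := by
  ext q
  constructor
  · rintro ⟨v, hv⟩
    rw [AlgSp.Points.map_comp] at hv
    obtain ⟨Ω, _, w, ξp, ξq, hξ, hp, hq⟩ := exists_common_rep p2 (AlgSp.Points.map j v) q hv
    obtain ⟨ξv, hξv⟩ := exists_factor_of_mem j hj w ξp (by rw [hp]; exact ⟨v, rfl⟩)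
    obtain ⟨τp, hτp⟩ := (AlgSp.yon S).map_surjective (ξp ≫ p1)
    obtain ⟨τq, hτq⟩ := (AlgSp.yon S).map_surjective (ξq ≫ p1)
    have hτ : τq ≫ e = τp ≫ e := by
      apply (AlgSp.yon S).map_injective
      rw [Functor.map_comp, Functor.map_comp, hτp, hτq, Category.assoc, Category.assoc, ← sq.w,
        ← Category.assoc, ← Category.assoc, hξ]
    by_cases heq : τq = τp
    · left
      have h1 : ξq = ξp := sq.hom_ext hξ.symm (by rw [← hτq, ← hτp, heq])
      rw [← hq, h1, hp]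
      exact ⟨v, rfl⟩
    · right
      obtain ⟨l, hl0, hl1⟩ := exists_lift_od e w τq τp hτ heq
      have hw : ξp ≫ p1 = (AlgSp.yon S).map l ≫ (AlgSp.yon S).map (pr1 e) := by
        rw [← Functor.map_comp, hl1, hτp]
      obtain ⟨ζ, hζ1, hζb⟩ : ∃ ζ : (AlgSp.yon S).obj (Over.mk w) ⟶ P1,
          ζ ≫ a₁ = ξp ∧ ζ ≫ b₁ = (AlgSp.yon S).map l :=
        ⟨sq1.lift ξp _ hw, sq1.lift_fst _ _ _, sq1.lift_snd _ _ _⟩
      have hζ0 : ζ ≫ a₀ = ξq := by
        apply sq.hom_ext
        · rw [Category.assoc, ha₀2, ← Category.assoc, hζ1, hξ]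
        · rw [Category.assoc, ha₀1, ← Category.assoc, hζb, ← Functor.map_comp, hl0, hτq]
      obtain ⟨ζA, hζA⟩ : ∃ ζA : (AlgSp.yon S).obj (Over.mk w) ⟶ A1, ζA ≫ j1 = ζ :=
        ⟨sqA.lift ζ ξv (by rw [hζ1, hξv]), sqA.lift_fst _ _ _⟩
      refine ⟨AlgSp.Points.ofPt ζA (IsLocalRing.closedPoint Ω), ?_⟩
      rw [AlgSp.Points.map_ofPt, ← Category.assoc, hζA, hζ0, hq]
  · rintro (⟨v, rfl⟩ | ⟨v, rfl⟩)
    · exact ⟨v, AlgSp.Points.map_comp _ _ _⟩
    · refine ⟨AlgSp.Points.map c v, ?_⟩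
      rw [← AlgSp.Points.map_comp, ← AlgSp.Points.map_comp]
      have h1 : c ≫ j ≫ p2 = (j1 ≫ a₀) ≫ p2 := by
        rw [Category.assoc, ha₀2, ← Category.assoc, ← Category.assoc, sqA.w]
      rw [h1]

/-- **the induction.** -/
theorem main (n : ℕ) : ∀ {T T' : Over S} (_ : IsAffine T.left) (_ : IsAffine T'.left) (e : T' ⟶ T)
    (_ : Etale e.left) (_ : BL n e.left) {X P : AlgSp.Sp S} (_ : AlgSp.IsAlgSpace X)
    (f : X ⟶ (AlgSp.yon S).obj T) (_ : AlgSp.IsSeparatedMor f)
    (_ : AlgSp.LocP (@LocallyQuasiFinite ⊓ @LocallyOfFiniteType) f)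
    (p1 : P ⟶ (AlgSp.yon S).obj T') (p2 : P ⟶ X)
    (_ : IsPullback p2 p1 f ((AlgSp.yon S).map e)) (V' : Over S) (_ : V'.left.IsQuasiAffine)
    (j : (AlgSp.yon S).obj V' ⟶ P) (_ : AlgSp.RepWith @IsOpenImmersion j),
    ∃ (W : Over S) (i : (AlgSp.yon S).obj W ⟶ X), AlgSp.RepWith @IsOpenImmersion i ∧
      CompactSpace ↥W.left ∧
      Set.range (AlgSp.Points.map i) = Set.range (AlgSp.Points.map (j ≫ p2)) := by
  induction n with
  | zero =>
    intro T T' hT hT' e he hbl X P hX f hsep hqf p1 p2 sq V' hV' j hj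
    haveI := he
    haveI : IsEmpty ↥T'.left := isEmpty_of_bl_zero e.left hbl
    have hp2 : AlgSp.RepWith @IsOpenImmersion p2 :=
      MorphismProperty.of_isPullback (P := AlgSp.RepWith @IsOpenImmersion) sq.flip
        ((AlgSp.repWith_yon_map_iff _ _).2 inferInstance)
    exact ⟨V', j ≫ p2, (AlgSp.RepWith @IsOpenImmersion).comp_mem _ _ hj hp2,
      hV'.toCompactSpace, rfl⟩
  | succ n ih =>
    intro T T' hT hT' e he hbl X P hX f hsep hqf p1 p2 sq V' hV' j hj
    haveI := he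
    haveI := hT
    haveI := hT'
    haveI : IsSeparated e.left := inferInstance
    have hgood := LocPCases.good_lqf.{u}
    have hTalg := AlgSp.IsAlgSpace.yon_obj T
    have hT'alg := AlgSp.IsAlgSpace.yon_obj T'
    have hP : AlgSp.IsAlgSpace P :=
      Groth.Agent.S9874.isAlgSpace_of_isPullback hTalg.diag hX hT'alg sq
    have hsep1 : AlgSp.IsSeparatedMor p1 := Proper.isSeparatedMor_baseChange sq hsep
    have hqf1 : AlgSp.LocP (@LocallyQuasiFinite ⊓ @LocallyOfFiniteType) p1 :=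
      hgood.locP_baseChange hX hTalg hT'alg sq hqf
    have hod : IsAffine (od e).left := isAffine_od e
    -- the base change of `P` along the second projection of the off-diagonal part
    let a₁ := pullback.fst p1 ((AlgSp.yon S).map (pr1 e))
    let b₁ := pullback.snd p1 ((AlgSp.yon S).map (pr1 e))
    have sq1 : IsPullback a₁ b₁ p1 ((AlgSp.yon S).map (pr1 e)) := IsPullback.of_hasPullback _ _
    have hw0 : (a₁ ≫ p2) ≫ f = (b₁ ≫ (AlgSp.yon S).map (pr0 e)) ≫ (AlgSp.yon S).map e := by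
      rw [Category.assoc, sq.w, ← Category.assoc, sq1.w, Category.assoc, Category.assoc,
        ← Functor.map_comp, ← Functor.map_comp, pr0_comp]
    obtain ⟨a₀, ha₀2, ha₀1⟩ : ∃ a₀ : pullback p1 ((AlgSp.yon S).map (pr1 e)) ⟶ P,
        a₀ ≫ p2 = a₁ ≫ p2 ∧ a₀ ≫ p1 = b₁ ≫ (AlgSp.yon S).map (pr0 e) :=
      ⟨sq.lift _ _ hw0, sq.lift_fst _ _ _, sq.lift_snd _ _ _⟩
    have sq0 : IsPullback a₀ b₁ p1 ((AlgSp.yon S).map (pr0 e)) := by
      refine IsPullback.of_right ?_ ha₀1 sq
      rw [ha₀2, ← Functor.map_comp, pr0_comp, Functor.map_comp]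
      exact sq1.paste_horiz sq
    -- the translate of `V'`
    obtain ⟨u', hu'⟩ := (AlgSp.yon S).map_surjective (j ≫ p1)
    have hV1 : (pullback u' (pr1 e)).left.IsQuasiAffine :=
      isQuasiAffine_pullback u' (pr1 e) hV' hT' hod
    have sqV := (IsPullback.of_hasPullback u' (pr1 e)).map (AlgSp.yon S)
    have hwj : ((AlgSp.yon S).map (pullback.fst u' (pr1 e)) ≫ j) ≫ p1 =
        (AlgSp.yon S).map (pullback.snd u' (pr1 e)) ≫ (AlgSp.yon S).map (pr1 e) := by
      rw [Category.assoc, ← hu']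
      exact sqV.w
    obtain ⟨j1, hj1a, hj1b⟩ : ∃ j1 : (AlgSp.yon S).obj (pullback u' (pr1 e)) ⟶
        pullback p1 ((AlgSp.yon S).map (pr1 e)),
        j1 ≫ a₁ = (AlgSp.yon S).map (pullback.fst u' (pr1 e)) ≫ j ∧
        j1 ≫ b₁ = (AlgSp.yon S).map (pullback.snd u' (pr1 e)) :=
      ⟨sq1.lift _ _ hwj, sq1.lift_fst _ _ _, sq1.lift_snd _ _ _⟩
    have sqA : IsPullback j1 ((AlgSp.yon S).map (pullback.fst u' (pr1 e))) a₁ j := by
      refine IsPullback.of_right ?_ hj1a sq1.flip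
      rw [hj1b, ← hu']
      exact sqV.flip
    have hj1 : AlgSp.RepWith @IsOpenImmersion j1 :=
      MorphismProperty.of_isPullback (P := AlgSp.RepWith @IsOpenImmersion) sqA.flip hj
    -- induction hypothesis
    obtain ⟨W₁, i₁, hi₁, hW₁, hri₁⟩ := ih hT' hod (pr0 e) inferInstance (bl_pr0 e n hbl) hP p1
      hsep1 hqf1 b₁ a₀ sq0 (pullback u' (pr1 e)) hV1 j1 hj1
    -- the union
    haveI := hW₁
    haveI : CompactSpace ↥V'.left := hV'.toCompactSpace
    obtain ⟨U', k, hk, hU'c, hrk⟩ := exists_union₂ V' W₁ j i₁ hj hi₁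
    obtain ⟨ũ, hũ⟩ := (AlgSp.yon S).map_surjective (k ≫ p1)
    haveI : Mono k := LargestOpen.mono_of_open k hk
    have hsepk : AlgSp.IsSeparatedMor (k ≫ p1) :=
      Proper.isSeparatedMor_comp k p1 (Proper.isSeparatedMor_of_mono k) hsep1
    haveI : IsSeparated ũ.left := (AlgSp.isSeparatedMor_yon_map_iff ũ).1 (by rw [hũ]; exact hsepk)
    have hke : AlgSp.RepWith @Etale k := Groth.Agent.S10210.repWith_etale_of_isOpenImmersion hk
    have hlq : (@LocallyQuasiFinite ⊓ @LocallyOfFiniteType : MorphismProperty Scheme.{u}) ũ.left :=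
      hqf1 k (𝟙 _) ũ hke (AlgSp.repWith_id _ T') (by rw [hũ, Category.comp_id])
    haveI : LocallyQuasiFinite ũ.left := hlq.1
    haveI : LocallyOfFiniteType ũ.left := hlq.2
    haveI := hU'c
    have hU'qa : U'.left.IsQuasiAffine := isQuasiAffine_of_sep_lqf ũ.left
    have hsat := saturation e f p1 p2 sq a₁ b₁ sq1 a₀ ha₀2 ha₀1 j hj j1 _ sqA
    -- openness of the image
    have hp2o : AlgSp.RepWith @UniversallyOpen p2 :=
      MorphismProperty.of_isPullback (P := AlgSp.RepWith @UniversallyOpen) sq.flip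
        ((AlgSp.repWith_yon_map_iff _ _).2 inferInstance)
    have hjo : AlgSp.RepWith @UniversallyOpen j :=
      OpenSub.repWith_mono (fun _ _ g hg => by haveI : IsOpenImmersion g := hg; infer_instance) hj
    have hopen : IsOpen (Set.range (AlgSp.Points.map (j ≫ p2))) := by
      rw [← Set.image_univ]
      exact Groth.Agent.S9908.isOpenMap_map_of_repWith _
        ((AlgSp.RepWith @UniversallyOpen).comp_mem _ _ hjo hp2o) _ isOpen_univ
    obtain ⟨W, i, hi, hri⟩ := exists_rep_of_saturated hT hT' e hX f p1 p2 sq U' hU'qa k hk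
      (Set.range (AlgSp.Points.map (j ≫ p2))) hopen (by rw [hrk, hri₁, hsat]) (by
        rintro _ ⟨v, rfl⟩
        exact ⟨AlgSp.Points.map j v, (AlgSp.Points.map_comp _ _ _).symm⟩)
    exact ⟨W, i, hi, compactSpace_of_range_eq i hi (j ≫ p2) hri, hri⟩

end Groth.Agent.Lib.Seat46.QfSchD
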