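import Mathlib

/-!
# Seat47: a prime at which an algebra is quasi-finite is maximal in its fibre

`eq_of_le_of_under_eq_of_quasiFiniteAt`: for primes `P ≤ Q` of an `R`-algebra `S` lying over the same prime of
`R`, if `S` is quasi-finite over `R` at the SMALLER prime `P` then `P = Q`.  (Mathlib's
`Algebra.QuasiFiniteAt.eq_of_le_of_under_eq` asks for quasi-finiteness at the larger prime.)
-/

set_option autoImplicit false
set_option linter.style.haveILetI false

namespace Groth.Agent.Lib.Seat47.BiratAlg

open Polynomial

theorem eq_of_le_of_under_eq_of_quasiFiniteAt {R S : Type*} [CommRing R] [CommRing S] [Algebra R S]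
    {P Q : Ideal S} [P.IsPrime] [Q.IsPrime] (h₁ : P ≤ Q) (h₂ : P.under R = Q.under R)
    [Algebra.QuasiFiniteAt R P] : P = Q := by
  by_contra hne
  obtain ⟨x, hxQ, hxP⟩ : ∃ x ∈ Q, x ∉ P := by
    by_contra h
    push Not at h
    exact hne (le_antisymm h₁ h)
  let q := P.under R
  let := Localization.AtPrime.algebraOfLiesOver q P
  have hfin : Module.Finite q.ResidueField P.ResidueField := inferInstance
  have halg : IsAlgebraic q.ResidueField (algebraMap S P.ResidueField x) :=
    (Algebra.IsAlgebraic.of_finite q.ResidueField P.ResidueField).isAlgebraic _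
  letI : Algebra (R ⧸ q) P.ResidueField :=
    ((algebraMap q.ResidueField P.ResidueField).comp (algebraMap (R ⧸ q) q.ResidueField)).toAlgebra
  haveI : IsScalarTower (R ⧸ q) q.ResidueField P.ResidueField :=
    IsScalarTower.of_algebraMap_eq (fun _ => rfl)
  have halg' : IsAlgebraic (R ⧸ q) (algebraMap S P.ResidueField x) :=
    (IsFractionRing.isAlgebraic_iff (R ⧸ q) q.ResidueField P.ResidueField).2 halg
  obtain ⟨pbar, hp0, hp⟩ := halg'
  obtain ⟨p, rfl⟩ := Polynomial.map_surjective (Ideal.Quotient.mk q) Ideal.Quotient.mk_surjective pbar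
  have hmem : p.eval₂ (algebraMap R S) x ∈ P := by
    have hcomp : (algebraMap (R ⧸ q) P.ResidueField).comp (Ideal.Quotient.mk q) =
        (algebraMap S P.ResidueField).comp (algebraMap R S) := by
      ext r
      show algebraMap q.ResidueField P.ResidueField
        (algebraMap (R ⧸ q) q.ResidueField (Ideal.Quotient.mk q r)) =
          algebraMap S P.ResidueField (algebraMap R S r)
      rw [Ideal.algebraMap_quotient_residueField_mk,
        ← IsScalarTower.algebraMap_apply R q.ResidueField P.ResidueField,
        ← IsScalarTower.algebraMap_apply R S P.ResidueField]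
    rw [← Ideal.algebraMap_residueField_eq_zero, Polynomial.hom_eval₂, ← hcomp]
    rw [Polynomial.aeval_def, Polynomial.eval₂_map] at hp
    exact hp
  exact (Ideal.comap_lt_comap_of_root_mem_sdiff h₁ ⟨hxQ, hxP⟩ hp0 hmem).ne h₂

end Groth.Agent.Lib.Seat47.BiratAlg
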