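import Groth.Agent.Lib.Seat47BiratGen
import Groth.Agent.S9678
import Groth.Agent.S10242

/-!
# Seat47: a birational morphism of decent spaces restricts to an isomorphism of dense open subschemes
-/

set_option autoImplicit false
set_option linter.style.haveILetI false
universe u
open CategoryTheory CategoryTheory.Limits AlgebraicGeometry Topology

namespace Groth.Agent.Lib.Seat47.BiratDense

open Groth.Agent.Lib.Seat47.BiratSp Groth.Agent.Lib.Seat47.BiratTop Groth.Agent.Lib.Seat47.BiratGen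

variable {S : Scheme.{u}}

/-- a subset of the points of a decent space containing all generic points of irreducible components and stable
under nothing else is dense as soon as it is open: here for the range of an open chart. -/
theorem dense_of_forall_generic_mem {X : AlgSp.Space S} (hX : AlgSp.IsDecent X.obj)
    {W : Set (AlgSp.Points X.obj)}
    (h : ∀ x ∈ genericPoints (AlgSp.Points X.obj), x ∈ W) : Dense W := by
  haveI : T0Space (AlgSp.Points X.obj) := Groth.Agent.S10338.result X hX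
  haveI : QuasiSober (AlgSp.Points X.obj) := Groth.Agent.S10339.result X hX
  rw [dense_iff_inter_open]
  rintro O hO ⟨x, hx⟩
  obtain ⟨x₁, hx₁max, hx₁⟩ := Groth.Agent.Lib.Seat45.LocFinIrr.exists_maxPt_specializes x
  exact ⟨x₁, hx₁.mem_open hO hx, h x₁ ((mem_genericPoints_iff x₁).2 hx₁max)⟩

/-- restricting a morphism over `S` to open subschemes, packaged abstractly. -/
theorem exists_restrict {T T' : Over S} (g : T ⟶ T') (U : T.left.Opens) (V : T'.left.Opens)
    (hUV : U ≤ g.left ⁻¹ᵁ V) :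
    ∃ (TU TV : Over S) (ιU : TU ⟶ T) (ιV : TV ⟶ T') (gUV : TU ⟶ TV),
      IsOpenImmersion ιU.left ∧ IsOpenImmersion ιV.left ∧ Set.range ιU.left = (U : Set ↥T.left) ∧
        Set.range ιV.left = (V : Set ↥T'.left) ∧ gUV ≫ ιV = ιU ≫ g ∧
          (IsIso (g.left.resLE V U hUV) → IsIso gUV.left) := by
  have hw : g.left.resLE V U hUV ≫ (V.ι ≫ T'.hom) = U.ι ≫ T.hom := by
    rw [← Category.assoc, Scheme.Hom.resLE_comp_ι, Category.assoc, Over.w g]
  refine ⟨Over.mk (U.ι ≫ T.hom), Over.mk (V.ι ≫ T'.hom), Over.homMk U.ι rfl, Over.homMk V.ι rfl,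
    Over.homMk (g.left.resLE V U hUV) hw, ?_, ?_, ?_, ?_, ?_, ?_⟩
  · show IsOpenImmersion U.ι
    infer_instance
  · show IsOpenImmersion V.ι
    infer_instance
  · show Set.range U.ι = _
    exact Scheme.Opens.range_ι U
  · show Set.range V.ι = _
    exact Scheme.Opens.range_ι V
  · ext1
    show g.left.resLE V U hUV ≫ V.ι = U.ι ≫ g.left
    exact Scheme.Hom.resLE_comp_ι _ _
  · intro h
    exact h

theorem exists_dense_open_isIso {X Y : AlgSp.Space S} (f : X ⟶ Y)
    (hX : AlgSp.IsDecent X.obj) (hY : AlgSp.IsDecent Y.obj)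
    (hXf : (irreducibleComponents (AlgSp.Points X.obj)).Finite)
    (hYf : (irreducibleComponents (AlgSp.Points Y.obj)).Finite)
    (hf : W4stk3decentspacesp2.IsBirational f.hom)
    (h : (AlgSp.LocP @LocallyOfFiniteType f.hom ∧ AlgSp.EtaleLocally (fun T => IsReduced T) Y.obj) ∨
      AlgSp.LocP @LocallyOfFinitePresentation f.hom) :
    ∃ (U V : Over S) (a : (AlgSp.yon S).obj U ⟶ X.obj) (b : (AlgSp.yon S).obj V ⟶ Y.obj) (g : U ⟶ V),
      AlgSp.RepWith @IsOpenImmersion a ∧ AlgSp.RepWith @IsOpenImmersion b ∧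
        Dense (Set.range (AlgSp.Points.ofPt a)) ∧ Dense (Set.range (AlgSp.Points.ofPt b)) ∧
          a ≫ f.hom = (AlgSp.yon S).map g ≫ b ∧ IsIso g.left := by
  obtain ⟨Y', b₀, hb₀, hb₀d, -, -⟩ := (Groth.Agent.S10397.result Y).1 ⟨hY, hYf⟩
  obtain ⟨X'', j, g₀, hj, hc, hgen⟩ := exists_scheme_model f hX hXf b₀ hb₀
  obtain ⟨hbij, hiso⟩ := scheme_model_birational f hX hY hf b₀ hb₀ j g₀ hj hc hgen
  have hjE := isOpenEmbedding_ofPt j hj
  have hbE := isOpenEmbedding_ofPt b₀ hb₀
  have hjd : Dense (Set.range (AlgSp.Points.ofPt j)) := by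
    refine dense_of_forall_generic_mem hX (fun x hx => ?_)
    have hfx := hf.bijOn.mapsTo hx
    obtain ⟨v, hv⟩ := mem_of_mem_genericPoints_of_dense hYf hbE.isOpen_range hb₀d hfx
    obtain ⟨x'', hx'', -⟩ := hgen x hx v hv.symm
    exact ⟨x'', hx''⟩
  have hXfin : (irreducibleComponents ↥X''.left).Finite :=
    Groth.Agent.Lib.Seat46.IrrComp.finite_of_isOpenEmbedding hjE hXf
  have hYfin : (irreducibleComponents ↥Y'.left).Finite :=
    Groth.Agent.Lib.Seat46.IrrComp.finite_of_isOpenEmbedding hbE hYf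
  have hje : AlgSp.RepWith @Etale j := Groth.Agent.Lib.Helper12.OpenSub.repWith_mono
    (fun _ _ g hg => by haveI : IsOpenImmersion g := hg; infer_instance) hj
  have hbe : AlgSp.RepWith @Etale b₀ := Groth.Agent.Lib.Helper12.OpenSub.repWith_mono
    (fun _ _ g hg => by haveI : IsOpenImmersion g := hg; infer_instance) hb₀
  have hf' : (LocallyOfFiniteType g₀.left ∧ IsReduced Y'.left) ∨
      LocallyOfFinitePresentation g₀.left := by
    rcases h with ⟨h1, h2⟩ | h1
    · exact Or.inl ⟨h1 j b₀ g₀ hje hbe hc, Groth.Agent.S10242.isReduced_chart h2 b₀ hbe⟩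
    · exact Or.inr (h1 j b₀ g₀ hje hbe hc)
  obtain ⟨U, V, hUV, hUd, hVd, hUViso⟩ :=
    Groth.Agent.S9678.result g₀.left hXfin hYfin hbij hiso hf'
  obtain ⟨TU, TV, ιU, ιV, gUV, hιU, hιV, hrU, hrV, hcomm, hisoUV⟩ := exists_restrict g₀ U V hUV
  have hιU' : AlgSp.RepWith @IsOpenImmersion ((AlgSp.yon S).map ιU) :=
    (AlgSp.repWith_yon_map_iff @IsOpenImmersion _).2 hιU
  have hιV' : AlgSp.RepWith @IsOpenImmersion ((AlgSp.yon S).map ιV) :=
    (AlgSp.repWith_yon_map_iff @IsOpenImmersion _).2 hιV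
  refine ⟨TU, TV, (AlgSp.yon S).map ιU ≫ j, (AlgSp.yon S).map ιV ≫ b₀, gUV,
    (AlgSp.RepWith @IsOpenImmersion).comp_mem _ _ hιU' hj,
    (AlgSp.RepWith @IsOpenImmersion).comp_mem _ _ hιV' hb₀, ?_, ?_, ?_, hisoUV hUViso⟩
  · have e : Set.range (AlgSp.Points.ofPt ((AlgSp.yon S).map ιU ≫ j)) =
        AlgSp.Points.ofPt j '' (U : Set ↥X''.left) := by
      rw [← hrU, ← Set.range_comp]
      congr 1
      funext u
      exact Groth.Agent.S10176.ofPt_map_comp ιU j u
    rw [e]
    exact (DenseRange.dense_image (f := AlgSp.Points.ofPt j) hjd hjE.continuous hUd)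
  · have e : Set.range (AlgSp.Points.ofPt ((AlgSp.yon S).map ιV ≫ b₀)) =
        AlgSp.Points.ofPt b₀ '' (V : Set ↥Y'.left) := by
      rw [← hrV, ← Set.range_comp]
      congr 1
      funext u
      exact Groth.Agent.S10176.ofPt_map_comp ιV b₀ u
    rw [e]
    exact (DenseRange.dense_image (f := AlgSp.Points.ofPt b₀) hb₀d hbE.continuous hVd)
  · rw [Category.assoc, hc, ← Category.assoc, ← Category.assoc, ← Functor.map_comp,
      ← Functor.map_comp, hcomm]

end Groth.Agent.Lib.Seat47.BiratDense
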