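import Groth.Agent.Lib.Seat47BiratSp
import Groth.Agent.S10397
import Groth.Agent.S9677

/-!
# Seat47: scheme models of a birational morphism of decent algebraic spaces

For a birational `f : X ⟶ Y` of decent spaces with finitely many irreducible components and an open subscheme
`b : h_V ⟶ Y`, `exists_scheme_model` produces an open subscheme `X'' ⊆ f⁻¹(V)` of `X` containing every generic point
lying over `V`, with `g : X'' ⟶ V` inducing `f`; `g` is then a birational morphism of schemes in the sense of the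
scheme-level results `S9677`–`S9679`.
-/

set_option autoImplicit false
set_option linter.style.haveILetI false
universe u
open CategoryTheory CategoryTheory.Limits AlgebraicGeometry Topology

namespace Groth.Agent.Lib.Seat47.BiratGen

open Groth.Agent.Lib.Seat47.BiratSp Groth.Agent.Lib.Seat47.BiratTop

variable {S : Scheme.{u}}

/-- a scheme model of `f` over the open subscheme `V` of `Y`. -/
theorem exists_scheme_model {X Y : AlgSp.Space S} (f : X ⟶ Y) (hX : AlgSp.IsDecent X.obj)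
    (hXf : (irreducibleComponents (AlgSp.Points X.obj)).Finite)
    {V : Over S} (b : (AlgSp.yon S).obj V ⟶ Y.obj) (hb : AlgSp.RepWith @IsOpenImmersion b) :
    ∃ (X'' : Over S) (j : (AlgSp.yon S).obj X'' ⟶ X.obj) (g : X'' ⟶ V),
      AlgSp.RepWith @IsOpenImmersion j ∧ j ≫ f.hom = (AlgSp.yon S).map g ≫ b ∧
      ∀ x ∈ genericPoints (AlgSp.Points X.obj), ∀ v : ↥V.left,
        AlgSp.Points.map f.hom x = AlgSp.Points.ofPt b v →
          ∃ x'' : ↥X''.left, AlgSp.Points.ofPt j x'' = x ∧ g.left x'' = v := by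
  obtain ⟨X', j, hj, hd, -, -⟩ := (Groth.Agent.S10397.result X).1 ⟨hX, hXf⟩
  obtain ⟨X'', ι, g, hι, sq⟩ := exists_preimage b hb (j ≫ f.hom)
  haveI : IsOpenImmersion ι.left := hι
  have hιo : AlgSp.RepWith @IsOpenImmersion ((AlgSp.yon S).map ι) :=
    (AlgSp.repWith_yon_map_iff @IsOpenImmersion ι).2 hι
  refine ⟨X'', (AlgSp.yon S).map ι ≫ j, g, (AlgSp.RepWith @IsOpenImmersion).comp_mem _ _ hιo hj, ?_, ?_⟩
  · rw [Category.assoc, sq.w]
  · intro x hx v hv
    have hxj : x ∈ Set.range (AlgSp.Points.ofPt j) :=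
      mem_of_mem_genericPoints_of_dense hXf (isOpenEmbedding_ofPt j hj).isOpen_range hd hx
    obtain ⟨x', rfl⟩ := hxj
    obtain ⟨x'', h1, h2⟩ := Groth.Agent.S10176.exists_point_of_isPullback_yon sq v x' (by
      rw [← hv, AlgSp.Points.map_ofPt])
    exact ⟨x'', by rw [Groth.Agent.S10176.ofPt_map_comp, h2], h1⟩

/-- the scheme model of a birational morphism is birational: hypotheses of `S9677`–`S9679`. -/
theorem scheme_model_birational {X Y : AlgSp.Space S} (f : X ⟶ Y) (hX : AlgSp.IsDecent X.obj)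
    (hY : AlgSp.IsDecent Y.obj) (hf : W4stk3decentspacesp2.IsBirational f.hom)
    {V X'' : Over S} (b : (AlgSp.yon S).obj V ⟶ Y.obj) (hb : AlgSp.RepWith @IsOpenImmersion b)
    (j : (AlgSp.yon S).obj X'' ⟶ X.obj) (g : X'' ⟶ V) (hj : AlgSp.RepWith @IsOpenImmersion j)
    (hc : j ≫ f.hom = (AlgSp.yon S).map g ≫ b)
    (hgen : ∀ x ∈ genericPoints (AlgSp.Points X.obj), ∀ v : ↥V.left,
        AlgSp.Points.map f.hom x = AlgSp.Points.ofPt b v →
          ∃ x'' : ↥X''.left, AlgSp.Points.ofPt j x'' = x ∧ g.left x'' = v) :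
    Set.BijOn (fun x : ↥X''.left => g.left.base x) {x | closure {x} ∈ irreducibleComponents ↥X''.left}
      {y | closure {y} ∈ irreducibleComponents ↥V.left} ∧
    ∀ x : ↥X''.left, closure {x} ∈ irreducibleComponents ↥X''.left → IsIso (g.left.stalkMap x) := by
  haveI : T0Space (AlgSp.Points X.obj) := Groth.Agent.S10338.result X hX
  haveI : QuasiSober (AlgSp.Points X.obj) := Groth.Agent.S10339.result X hX
  haveI : T0Space (AlgSp.Points Y.obj) := Groth.Agent.S10338.result Y hY
  haveI : QuasiSober (AlgSp.Points Y.obj) := Groth.Agent.S10339.result Y hY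
  have hjE := isOpenEmbedding_ofPt j hj
  have hbE := isOpenEmbedding_ofPt b hb
  have hgenX : ∀ x : ↥X''.left, x ∈ genericPoints ↥X''.left ↔
      AlgSp.Points.ofPt j x ∈ genericPoints (AlgSp.Points X.obj) :=
    fun x => mem_genericPoints_iff_of_isOpenEmbedding hjE x
  have hgenV : ∀ v : ↥V.left, v ∈ genericPoints ↥V.left ↔
      AlgSp.Points.ofPt b v ∈ genericPoints (AlgSp.Points Y.obj) :=
    fun v => mem_genericPoints_iff_of_isOpenEmbedding hbE v
  have hfg : ∀ x : ↥X''.left, AlgSp.Points.map f.hom (AlgSp.Points.ofPt j x) =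
      AlgSp.Points.ofPt b (g.left x) := by
    intro x
    rw [AlgSp.Points.map_ofPt, hc, Groth.Agent.S10176.ofPt_map_comp]
  refine ⟨⟨?_, ?_, ?_⟩, ?_⟩
  · intro x hx
    have h1 := hf.bijOn.mapsTo ((hgenX x).1 hx)
    rw [hfg] at h1
    exact (hgenV _).2 h1
  · intro x₁ hx₁ x₂ hx₂ h
    have h' : g.left x₁ = g.left x₂ := h
    apply hjE.injective
    apply hf.bijOn.injOn ((hgenX x₁).1 hx₁) ((hgenX x₂).1 hx₂)
    rw [hfg, hfg, h']
  · intro v hv
    obtain ⟨x, hx, hxv⟩ := hf.bijOn.surjOn ((hgenV v).1 hv)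
    obtain ⟨x'', rfl, h2⟩ := hgen x hx v hxv
    exact ⟨x'', (hgenX x'').2 hx, h2⟩
  · intro x hx
    have hxg := (hgenX x).1 hx
    obtain ⟨U, V₁, a, b₁, g₁, u, ha, hb₁, hc₁, hu, hiso⟩ := hf.stalkIso _ hxg
    exact isIso_stalkMap_of_charts f.hom a b₁ g₁ j b g ha hb₁ hj hb hc₁ hc u x hu hiso

end Groth.Agent.Lib.Seat47.BiratGen
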