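import Mathlib
import Groth.Agent.Lib.Seat47BiratAlg

set_option autoImplicit false
universe u
open CategoryTheory CategoryTheory.Limits AlgebraicGeometry

namespace Groth.Agent.Lib.Seat47.BiratSch

/-- A point at which a morphism is quasi-finite (stalkwise) has no proper specialization inside its fibre. -/
theorem eq_of_specializes_of_quasiFiniteAt {A V : Scheme.{u}} (φ : A ⟶ V) {a₀ a' : A}
    (h : a₀ ⤳ a') (he : φ a₀ = φ a') (hq : φ.QuasiFiniteAt a₀) : a₀ = a' := by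
  obtain ⟨WV, hWV, hvWV, -⟩ := TopologicalSpace.Opens.isBasis_iff_nbhd.mp V.isBasis_affineOpens
    (TopologicalSpace.Opens.mem_top (φ a'))
  obtain ⟨WA, hWA, ha', hle⟩ := TopologicalSpace.Opens.isBasis_iff_nbhd.mp A.isBasis_affineOpens
    (show a' ∈ φ ⁻¹ᵁ WV from hvWV)
  have ha₀ : a₀ ∈ WA := h.mem_open WA.isOpen ha'
  have hqf := hq.quasiFiniteAt hWA hWV hle ha₀
  algebraize [(φ.appLE WV WA hle).hom]
  have hspec : (⟨a₀, ha₀⟩ : WA) ⤳ ⟨a', ha'⟩ := by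
    exact (Topology.IsInducing.subtypeVal.specializes_iff
      (x := (⟨a₀, ha₀⟩ : WA)) (y := ⟨a', ha'⟩)).1 h
  have hspec' : hWA.primeIdealOf ⟨a₀, ha₀⟩ ⤳ hWA.primeIdealOf ⟨a', ha'⟩ :=
    hspec.map hWA.isoSpec.hom.continuous
  have hle' : (hWA.primeIdealOf ⟨a₀, ha₀⟩).asIdeal ≤ (hWA.primeIdealOf ⟨a', ha'⟩).asIdeal :=
    (PrimeSpectrum.le_iff_specializes _ _).2 hspec'
  have h1 := IsAffineOpen.comap_primeIdealOf_appLE (f := φ) WV hWV WA hWA hle ha₀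
  have h2 := IsAffineOpen.comap_primeIdealOf_appLE (f := φ) WV hWV WA hWA hle ha'
  have hunder : (hWA.primeIdealOf ⟨a₀, ha₀⟩).asIdeal.under Γ(V, WV) =
      (hWA.primeIdealOf ⟨a', ha'⟩).asIdeal.under Γ(V, WV) := by
    have e1 := congrArg PrimeSpectrum.asIdeal h1
    have e2 := congrArg PrimeSpectrum.asIdeal h2
    have e3 : hWV.primeIdealOf ⟨φ a₀, hle ha₀⟩ = hWV.primeIdealOf ⟨φ a', hle ha'⟩ := by
      congr 1
      exact Subtype.ext he
    rw [e3] at e1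
    exact e1.trans e2.symm
  haveI : Algebra.QuasiFiniteAt Γ(V, WV) (hWA.primeIdealOf ⟨a₀, ha₀⟩).asIdeal := hqf
  have hPQ := Groth.Agent.Lib.Seat47.BiratAlg.eq_of_le_of_under_eq_of_quasiFiniteAt hle' hunder
  have hpt : hWA.primeIdealOf ⟨a₀, ha₀⟩ = hWA.primeIdealOf ⟨a', ha'⟩ := PrimeSpectrum.ext hPQ
  have e1 := hWA.fromSpec_primeIdealOf ⟨a₀, ha₀⟩
  have e2 := hWA.fromSpec_primeIdealOf ⟨a', ha'⟩
  rw [hpt] at e1
  exact e1.symm.trans e2

end Groth.Agent.Lib.Seat47.BiratSch
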