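import Mathlib
import Groth.Agent.Lib.Helper14IrrComp

/-!
# Seat47: generic points, open embeddings and dense opens (pure topology)
-/

set_option autoImplicit false
open Topology TopologicalSpace

namespace Groth.Agent.Lib.Seat47.BiratTop

variable {A B : Type*} [TopologicalSpace A] [TopologicalSpace B]

/-- In a sober space the generic points of irreducible components are the points without proper generizations. -/
theorem mem_genericPoints_iff [T0Space A] [QuasiSober A] (a : A) :
    a ∈ genericPoints A ↔ ∀ a' : A, a' ⤳ a → a' = a :=
  Groth.Agent.Lib.Helper14.closure_mem_irreducibleComponents_iff a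

/-- Generic points correspond along open embeddings. -/
theorem mem_genericPoints_iff_of_isOpenEmbedding [T0Space A] [QuasiSober A] [T0Space B] [QuasiSober B]
    {e : A → B} (he : IsOpenEmbedding e) (a : A) :
    a ∈ genericPoints A ↔ e a ∈ genericPoints B := by
  rw [mem_genericPoints_iff, mem_genericPoints_iff]
  constructor
  · intro h b' hb'
    have hmem : b' ∈ Set.range e := hb'.mem_open he.isOpen_range ⟨a, rfl⟩
    obtain ⟨a', rfl⟩ := hmem
    rw [h a' (he.isInducing.specializes_iff.1 hb')]
  · intro h a' ha'
    exact he.injective (h (e a') (ha'.map he.continuous))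

/-- With finitely many irreducible components, a dense open set contains all generic points. -/
theorem mem_of_mem_genericPoints_of_dense (hfin : (irreducibleComponents B).Finite) {O : Set B}
    (hO : IsOpen O) (hd : Dense O) {x : B} (hx : x ∈ genericPoints B) : x ∈ O := by
  classical
  set Z : Set B := closure {x} with hZ
  have hZmem : Z ∈ irreducibleComponents B := hx
  set R : Set (Set B) := irreducibleComponents B \ {Z} with hR
  have hRfin : R.Finite := hfin.subset Set.diff_subset
  have hclosed : IsClosed (⋃₀ R) := by
    rw [Set.sUnion_eq_biUnion]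
    exact hRfin.isClosed_biUnion (fun T hT => isClosed_of_mem_irreducibleComponents T hT.1)
  have hne : (⋃₀ R)ᶜ.Nonempty := by
    by_contra hempty
    rw [Set.not_nonempty_iff_eq_empty, Set.compl_empty_iff] at hempty
    have hsub : Z ⊆ ⋃₀ (↑hRfin.toFinset : Set (Set B)) := by
      rw [Set.Finite.coe_toFinset, hempty]
      exact Set.subset_univ _
    obtain ⟨T, hT, hZT⟩ := isIrreducible_iff_sUnion_isClosed.1 hZmem.1 hRfin.toFinset
      (fun T hT => by
        rw [Set.Finite.mem_toFinset] at hT
        exact isClosed_of_mem_irreducibleComponents T hT.1) hsub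
    rw [Set.Finite.mem_toFinset] at hT
    exact hT.2 (Set.Subset.antisymm (hZmem.2 hT.1.1 hZT) hZT)
  obtain ⟨w, hwO, hw⟩ := hd.inter_open_nonempty _ hclosed.isOpen_compl hne
  have hwZ : w ∈ Z := by
    have : w ∈ ⋃₀ irreducibleComponents B := by
      rw [sUnion_irreducibleComponents]
      trivial
    obtain ⟨T, hT, hwT⟩ := this
    by_cases hTZ : T = Z
    · rwa [← hTZ]
    · have hTR : T ∈ R := ⟨hT, hTZ⟩
      exact absurd (Set.mem_sUnion.2 ⟨T, hTR, hwT⟩) hwO
  exact (specializes_iff_mem_closure.2 hwZ).mem_open hO hw

end Groth.Agent.Lib.Seat47.BiratTop
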