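import Groth.Agent.Lib.Seat47BiratSch
import Groth.Agent.Lib.Seat47BiratTop
import Groth.Agent.Lib.Seat83GenLift
import Groth.Agent.Lib.Seat45LocFinIrr
import Groth.Agent.Lib.Seat46IrrComp
import Groth.Agent.Lib.Helper12LargestOpen
import Groth.Agent.Lib.Helper12OpenSub2
import Groth.Agent.S9928
import Groth.Agent.Lib.Helper3IrrTopB
import Groth.Agent.S10175
import Groth.Agent.S10176
import Groth.Agent.S10177
import Groth.Agent.S10194
import Groth.Agent.S10338
import Groth.Agent.S10339
import Groth.Prelude.Def_W4stk3decentspacesp2Birat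

/-!
# Seat47: birational morphisms of decent algebraic spaces — chart tools

* `exists_preimage`: the preimage of an open subscheme chart under a map from a scheme.
* `isOpenEmbedding_ofPt`: an open subscheme chart is an open embedding on points.
* `isIso_stalkMap_of_charts`: the "isomorphism on local rings" clause of birationality does not depend on the
  open subscheme charts chosen.
* `isIso_of_openImm_of_surjective`: an open immersion of sheaves which is surjective on points is an isomorphism.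
* `eq_of_map_eq_generic`: for a birational morphism of decent spaces, a generic point is the only point of its fibre.
-/

set_option autoImplicit false
set_option linter.style.haveILetI false
universe u
open CategoryTheory CategoryTheory.Limits AlgebraicGeometry Topology

namespace Groth.Agent.Lib.Seat47.BiratSp

variable {S : Scheme.{u}}

/-- the preimage of an open subscheme chart `b : h_V ⟶ Y` under `φ : h_A ⟶ Y`. -/
lemma exists_preimage {Y : AlgSp.Sp S} {V A : Over S} (b : (AlgSp.yon S).obj V ⟶ Y)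
    (hb : AlgSp.RepWith @IsOpenImmersion b) (φ : (AlgSp.yon S).obj A ⟶ Y) :
    ∃ (A' : Over S) (ι : A' ⟶ A) (g : A' ⟶ V), IsOpenImmersion ι.left ∧
      IsPullback ((AlgSp.yon S).map g) ((AlgSp.yon S).map ι) b φ := by
  obtain ⟨A', ι, g₀, sq⟩ := hb.1 φ
  obtain ⟨g, rfl⟩ := (AlgSp.yon S).map_surjective g₀
  exact ⟨A', ι, g, hb.2 φ _ ι sq, sq⟩

lemma injective_ofPt {Y : AlgSp.Sp S} {V : Over S} (b : (AlgSp.yon S).obj V ⟶ Y)
    (hb : AlgSp.RepWith @IsOpenImmersion b) : Function.Injective (AlgSp.Points.ofPt b) := by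
  intro v v' h
  rw [AlgSp.Points.ofPt_eq_map_ofScheme, AlgSp.Points.ofPt_eq_map_ofScheme b] at h
  exact (AlgSp.Points.schemeHomeo V).injective
    (Groth.Agent.Lib.Helper12.LargestOpen.injective_map_of_open b hb h)

/-- an open subscheme chart is an open embedding on points. -/
lemma isOpenEmbedding_ofPt {Y : AlgSp.Sp S} {V : Over S} (b : (AlgSp.yon S).obj V ⟶ Y)
    (hb : AlgSp.RepWith @IsOpenImmersion b) : IsOpenEmbedding (AlgSp.Points.ofPt b) :=
  IsOpenEmbedding.of_continuous_injective_isOpenMap (AlgSp.Points.continuous_ofPt b)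
    (injective_ofPt b hb)
    (Groth.Agent.S10176.isOpenMap_ofPt b
      (Groth.Agent.Lib.Helper12.OpenSub.repWith_mono
        (fun _ _ g hg => by haveI : IsOpenImmersion g := hg; infer_instance) hb))

/-- an open immersion of sheaves which is surjective on points is an isomorphism. -/
theorem isIso_of_openImm_of_surjective {X' X : AlgSp.Sp S} (j : X' ⟶ X)
    (hj : AlgSp.RepWith @IsOpenImmersion j) (hs : Function.Surjective (AlgSp.Points.map j)) :
    IsIso j := by
  obtain ⟨g, hg⟩ := (Groth.Agent.S10194.exists_factor_iff j hj (𝟙 X)).2 (by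
    intro x _
    exact hs x)
  haveI : Mono j := Groth.Agent.S9928.mono_of_repWith @IsOpenImmersion
    (fun X Y g hg => by haveI : IsOpenImmersion g := hg; infer_instance) j hj
  refine ⟨g, ?_, hg⟩
  rw [← cancel_mono j, Category.assoc, hg, Category.comp_id, Category.id_comp]

/-- postcomposing the cospan of a pullback square with a monomorphism. -/
lemma isPullback_comp_mono {C : Type*} [Category C] {P A B D E : C} {f : P ⟶ A} {g : P ⟶ B}
    {a : A ⟶ D} {b : B ⟶ D} (i : D ⟶ E) [Mono i] (h : IsPullback f g a b) :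
    IsPullback f g (a ≫ i) (b ≫ i) := by
  refine ⟨⟨by rw [← Category.assoc, h.w, Category.assoc]⟩, ⟨PullbackCone.IsLimit.mk _
    (fun c => h.lift c.fst c.snd (by
      rw [← cancel_mono i, Category.assoc, Category.assoc]
      exact c.condition)) ?_ ?_ ?_⟩⟩
  · intro c
    exact h.lift_fst _ _ _
  · intro c
    exact h.lift_snd _ _ _
  · intro c m h1 h2
    apply h.hom_ext
    · rw [h.lift_fst]
      exact h1
    · rw [h.lift_snd]
      exact h2

/-- The local ring clause of birationality does not depend on the open subscheme charts. -/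
theorem isIso_stalkMap_of_charts {X Y : AlgSp.Sp S} (f : X ⟶ Y)
    {U V U' V' : Over S} (a : (AlgSp.yon S).obj U ⟶ X) (b : (AlgSp.yon S).obj V ⟶ Y) (g : U ⟶ V)
    (a' : (AlgSp.yon S).obj U' ⟶ X) (b' : (AlgSp.yon S).obj V' ⟶ Y) (g' : U' ⟶ V')
    (ha : AlgSp.RepWith @IsOpenImmersion a) (hb : AlgSp.RepWith @IsOpenImmersion b)
    (ha' : AlgSp.RepWith @IsOpenImmersion a') (hb' : AlgSp.RepWith @IsOpenImmersion b')
    (hc : a ≫ f = (AlgSp.yon S).map g ≫ b) (hc' : a' ≫ f = (AlgSp.yon S).map g' ≫ b')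
    (u : ↥U.left) (u' : ↥U'.left) (hu : AlgSp.Points.ofPt a u = AlgSp.Points.ofPt a' u')
    (hiso : IsIso (g.left.stalkMap u)) : IsIso (g'.left.stalkMap u') := by
  obtain ⟨U'', ι', ι, hι', sqU⟩ := exists_preimage a ha a'
  haveI : IsOpenImmersion ι'.left := hι'
  haveI : IsOpenImmersion ι.left := ha'.2 a _ ι sqU.flip
  obtain ⟨V'', κ', κ, hκ', sqV⟩ := exists_preimage b hb b'
  haveI : IsOpenImmersion κ'.left := hκ'
  haveI : IsOpenImmersion κ.left := hb'.2 b _ κ sqV.flip
  have hw : (AlgSp.yon S).map (ι ≫ g) ≫ b = (AlgSp.yon S).map (ι' ≫ g') ≫ b' := by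
    rw [Functor.map_comp, Category.assoc, ← hc, ← Category.assoc, sqU.w, Category.assoc, hc',
      Functor.map_comp, Category.assoc]
  obtain ⟨g'', hg''⟩ := (AlgSp.yon S).map_surjective (sqV.lift _ _ hw)
  have e1 : ι ≫ g = g'' ≫ κ := by
    apply (AlgSp.yon S).map_injective
    rw [(AlgSp.yon S).map_comp g'' κ, hg'', sqV.lift_fst]
  have e2 : ι' ≫ g' = g'' ≫ κ' := by
    apply (AlgSp.yon S).map_injective
    rw [(AlgSp.yon S).map_comp g'' κ', hg'', sqV.lift_snd]
  obtain ⟨y, rfl, rfl⟩ := Groth.Agent.S10176.exists_point_of_isPullback_yon sqU u u' hu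
  haveI := hiso
  haveI hι1 : IsIso (ι.left.stalkMap y) := inferInstance
  haveI hι2 : IsIso (ι'.left.stalkMap y) := inferInstance
  haveI hκ1 : IsIso (κ.left.stalkMap (g''.left y)) := inferInstance
  haveI hκ2 : IsIso (κ'.left.stalkMap (g''.left y)) := inferInstance
  have h1 : IsIso ((ι ≫ g).left.stalkMap y) := by
    rw [Over.comp_left, Scheme.Hom.stalkMap_comp]
    exact IsIso.comp_isIso' hiso hι1
  rw [e1, Over.comp_left, Scheme.Hom.stalkMap_comp] at h1
  haveI := h1
  have h3 : IsIso (g''.left.stalkMap y) :=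
    @IsIso.of_isIso_comp_left _ _ _ _ _ (κ.left.stalkMap (g''.left y)) (g''.left.stalkMap y) hκ1 h1
  have h2 : IsIso ((g'' ≫ κ').left.stalkMap y) := by
    rw [Over.comp_left, Scheme.Hom.stalkMap_comp]
    exact IsIso.comp_isIso' hκ2 h3
  rw [← e2, Over.comp_left, Scheme.Hom.stalkMap_comp] at h2
  exact @IsIso.of_isIso_comp_right _ _ _ _ _ (g'.left.stalkMap (ι'.left y)) (ι'.left.stalkMap y) hι2 h2

/-- For a birational morphism of decent spaces, a generic point of `|X|` is the only point of its fibre. -/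
theorem eq_of_map_eq_generic {X Y : AlgSp.Space S} (f : X ⟶ Y) (hX : AlgSp.IsDecent X.obj)
    (hY : AlgSp.IsDecent Y.obj) (hf : W4stk3decentspacesp2.IsBirational f.hom)
    {x : AlgSp.Points X.obj} (hx : x ∈ genericPoints (AlgSp.Points X.obj)) {x' : AlgSp.Points X.obj}
    (h : AlgSp.Points.map f.hom x' = AlgSp.Points.map f.hom x) : x' = x := by
  haveI : T0Space (AlgSp.Points X.obj) := Groth.Agent.S10338.result X hX
  haveI : QuasiSober (AlgSp.Points X.obj) := Groth.Agent.S10339.result X hX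
  haveI : T0Space (AlgSp.Points Y.obj) := Groth.Agent.S10338.result Y hY
  haveI : QuasiSober (AlgSp.Points Y.obj) := Groth.Agent.S10339.result Y hY
  -- step 1: `x` specializes to `x'`
  have hspec : x ⤳ x' := by
    obtain ⟨x₁, hx₁max, hx₁⟩ := Groth.Agent.Lib.Seat45.LocFinIrr.exists_maxPt_specializes x'
    have hx₁g : x₁ ∈ genericPoints (AlgSp.Points X.obj) :=
      (Groth.Agent.Lib.Seat47.BiratTop.mem_genericPoints_iff x₁).2 hx₁max
    have hfx₁ := hf.bijOn.mapsTo hx₁g
    have hfx := hf.bijOn.mapsTo hx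
    have h1 : AlgSp.Points.map f.hom x₁ ⤳ AlgSp.Points.map f.hom x := by
      rw [← h]
      exact hx₁.map (AlgSp.Points.continuous_map f.hom)
    have h2 := (Groth.Agent.Lib.Seat47.BiratTop.mem_genericPoints_iff _).1 hfx _ h1
    rw [← hf.bijOn.injOn hx₁g hx h2]
    exact hx₁
  -- step 2: charts
  obtain ⟨U, V, a, b, g, u, ha, hb, hc, hu, hiso⟩ := hf.stalkIso x hx
  obtain ⟨A, c, hce, hcs⟩ := X.property.atlas
  obtain ⟨a', rfl⟩ := Groth.Agent.S10177.surjective_ofPt c hcs x'
  obtain ⟨a₀, ha₀, ha₀x⟩ :=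
    Groth.Agent.Lib.Seat83.GenLift.exists_generalization_lift X hX c hce a' x hspec
  obtain ⟨AV, ιV, φ, hιV, sq1⟩ := exists_preimage b hb (c ≫ f.hom)
  haveI : IsOpenImmersion ιV.left := hιV
  have hfu : AlgSp.Points.map f.hom x = AlgSp.Points.ofPt b (g.left u) := by
    rw [← hu, AlgSp.Points.map_ofPt, hc, Groth.Agent.S10176.ofPt_map_comp]
  obtain ⟨a'V, h1a', h2a'⟩ := Groth.Agent.S10176.exists_point_of_isPullback_yon sq1 (g.left u) a' (by
    rw [← hfu, ← h, AlgSp.Points.map_ofPt])
  obtain ⟨a₀V, h1a₀, h2a₀⟩ := Groth.Agent.S10176.exists_point_of_isPullback_yon sq1 (g.left u) a₀ (by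
    rw [← hfu, ← ha₀x, AlgSp.Points.map_ofPt])
  have hspecV : a₀V ⤳ a'V := by
    rw [← ιV.left.isOpenEmbedding.isInducing.specializes_iff, h2a', h2a₀]
    exact ha₀
  obtain ⟨A₂, ι₂, c₂, hι₂, sq2⟩ := exists_preimage a ha ((AlgSp.yon S).map ιV ≫ c)
  haveI : IsOpenImmersion ι₂.left := hι₂
  have hιVe : AlgSp.RepWith @Etale ((AlgSp.yon S).map ιV ≫ c) :=
    (AlgSp.RepWith @Etale).comp_mem _ _
      ((AlgSp.repWith_yon_map_iff @Etale ιV).2 (inferInstance : Etale ιV.left)) hce
  haveI hc₂e : Etale c₂.left := hιVe.2 a _ c₂ sq2.flip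
  obtain ⟨a₂, h1a₂, h2a₂⟩ := Groth.Agent.S10176.exists_point_of_isPullback_yon sq2 u a₀V (by
    rw [hu, Groth.Agent.S10176.ofPt_map_comp, h2a₀, ha₀x])
  haveI : Mono b := Groth.Agent.S9928.mono_of_repWith @IsOpenImmersion
    (fun X Y g hg => by haveI : IsOpenImmersion g := hg; infer_instance) b hb
  have heq : ι₂ ≫ φ = c₂ ≫ g := by
    apply (AlgSp.yon S).map_injective
    have e1 : (AlgSp.yon S).map (ι₂ ≫ φ) ≫ b =
        (AlgSp.yon S).map ι₂ ≫ (AlgSp.yon S).map ιV ≫ c ≫ f.hom := by
      rw [Functor.map_comp, Category.assoc, sq1.w]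
    have e2 : (AlgSp.yon S).map (c₂ ≫ g) ≫ b =
        (AlgSp.yon S).map ι₂ ≫ (AlgSp.yon S).map ιV ≫ c ≫ f.hom := by
      rw [Functor.map_comp, Category.assoc, ← hc, ← Category.assoc, sq2.w, Category.assoc,
        Category.assoc]
    rw [← cancel_mono b, e1, e2]
  -- quasi-finiteness of `φ` at `a₀V`
  have hqf : φ.left.QuasiFiniteAt a₀V := by
    rw [← h2a₂, ← Scheme.Hom.quasiFiniteAt_comp_iff_of_isOpenImmersion (f := ι₂.left)]
    have e : ι₂.left ≫ φ.left = c₂.left ≫ g.left := by
      rw [← Over.comp_left, ← Over.comp_left, heq]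
    rw [e]
    haveI : LocallyQuasiFinite c₂.left :=
      Groth.Agent.Lib.Helper3.IrrTop.locallyQuasiFinite_of_unramified c₂.left
    have hq1 : (c₂.left.stalkMap a₂).hom.QuasiFinite := c₂.left.quasiFiniteAt a₂
    have hq2 : (g.left.stalkMap (c₂.left a₂)).hom.QuasiFinite := by
      rw [h1a₂]
      haveI := hiso
      exact RingHom.QuasiFinite.of_finite (RingHom.Finite.of_surjective _
        (ConcreteCategory.bijective_of_isIso (g.left.stalkMap u)).2)
    show ((c₂.left ≫ g.left).stalkMap a₂).hom.QuasiFinite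
    rw [Scheme.Hom.stalkMap_comp]
    exact hq1.comp hq2
  have hfin := Groth.Agent.Lib.Seat47.BiratSch.eq_of_specializes_of_quasiFiniteAt φ.left hspecV
    (by rw [h1a₀, h1a']) hqf
  rw [← ha₀x, ← h2a₀, hfin, h2a']

end Groth.Agent.Lib.Seat47.BiratSp
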