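import Groth.Agent.Lib.Seat47BiratGen
import Groth.Agent.Lib.Helper4BirStalk

/-!
# Seat47: a birational morphism of decent spaces is an isomorphism over the local ring of a generic point
-/

set_option autoImplicit false
set_option linter.style.haveILetI false
universe u
open CategoryTheory CategoryTheory.Limits AlgebraicGeometry Topology

namespace Groth.Agent.Lib.Seat47.BiratStalk

open Groth.Agent.Lib.Seat47.BiratSp Groth.Agent.Lib.Seat47.BiratTop Groth.Agent.Lib.Seat47.BiratGen

variable {S : Scheme.{u}}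

theorem isIso_snd_specStalk {X Y : AlgSp.Space S} (f : X ⟶ Y)
    (hX : AlgSp.IsDecent X.obj) (hY : AlgSp.IsDecent Y.obj)
    (hXf : (irreducibleComponents (AlgSp.Points X.obj)).Finite)
    (hf : W4stk3decentspacesp2.IsBirational f.hom) {V : Over S} (b : (AlgSp.yon S).obj V ⟶ Y.obj)
    (hb : AlgSp.RepWith @IsOpenImmersion b) (v : ↥V.left)
    (hv : AlgSp.Points.ofPt b v ∈ genericPoints (AlgSp.Points Y.obj)) {P : AlgSp.Sp S} (fst : P ⟶ X.obj)
    (snd : P ⟶ (AlgSp.yon S).obj (Over.mk (V.left.fromSpecStalk v ≫ V.hom)))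
    (hP : IsPullback fst snd f.hom ((AlgSp.yon S).map (Over.homMk (V.left.fromSpecStalk v) rfl) ≫ b)) :
    IsIso snd := by
  haveI : T0Space (AlgSp.Points Y.obj) := Groth.Agent.S10338.result Y hY
  haveI : QuasiSober (AlgSp.Points Y.obj) := Groth.Agent.S10339.result Y hY
  obtain ⟨X'', j, g, hj, hc, hgen⟩ := exists_scheme_model f hX hXf b hb
  obtain ⟨hbij, hiso⟩ := scheme_model_birational f hX hY hf b hb j g hj hc hgen
  have hvg : v ∈ genericPoints ↥V.left :=
    (mem_genericPoints_iff_of_isOpenEmbedding (isOpenEmbedding_ofPt b hb) v).2 hv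
  have hS : IsIso (pullback.snd g.left (V.left.fromSpecStalk v)) :=
    Groth.Agent.Lib.Helper4.BirStalk.isIso_snd_fromSpecStalk g.left hbij hiso v hvg
  obtain ⟨σ, hσ⟩ : ∃ σ : Over.mk (V.left.fromSpecStalk v ≫ V.hom) ⟶ V,
      σ = Over.homMk (V.left.fromSpecStalk v) rfl := ⟨_, rfl⟩
  rw [← hσ] at hP
  have hσl : σ.left = V.left.fromSpecStalk v := by rw [hσ]; rfl
  have sqQ := IsPullback.of_hasPullback g σ
  have sqQ' := sqQ.map (Over.forget S)
  haveI hsl : IsIso (pullback.snd g σ).left := by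
    have hS' : IsIso (pullback.snd g.left σ.left) := by rw [hσl]; exact hS
    have e : sqQ'.isoPullback.hom ≫ pullback.snd g.left σ.left =
        (pullback.snd g σ).left := sqQ'.isoPullback_hom_snd
    rw [← e]
    exact IsIso.comp_isIso' inferInstance hS'
  haveI hsndQ : IsIso (pullback.snd g σ) := by
    haveI : IsIso ((Over.forget S).map (pullback.snd g σ)) := hsl
    exact isIso_of_reflects_iso _ (Over.forget S)
  have sqY := sqQ.map (AlgSp.yon S)
  haveI : Mono b := Groth.Agent.S9928.mono_of_repWith @IsOpenImmersion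
    (fun X Y g hg => by haveI : IsOpenImmersion g := hg; infer_instance) b hb
  have sqOuter := isPullback_comp_mono b sqY
  rw [← hc] at sqOuter
  obtain ⟨k, hk1, hk2⟩ : ∃ k : (AlgSp.yon S).obj (pullback g σ) ⟶ P,
      k ≫ fst = (AlgSp.yon S).map (pullback.fst g σ) ≫ j ∧
      k ≫ snd = (AlgSp.yon S).map (pullback.snd g σ) :=
    ⟨hP.lift ((AlgSp.yon S).map (pullback.fst g σ) ≫ j) ((AlgSp.yon S).map (pullback.snd g σ))
      (by rw [Category.assoc]; exact sqOuter.w), hP.lift_fst _ _ _, hP.lift_snd _ _ _⟩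
  have sqk : IsPullback k ((AlgSp.yon S).map (pullback.fst g σ)) fst j :=
    IsPullback.of_right (by rw [hk2]; exact sqOuter.flip) hk1 hP.flip
  have hko : AlgSp.RepWith @IsOpenImmersion k :=
    MorphismProperty.of_isPullback (P := AlgSp.RepWith @IsOpenImmersion) sqk.flip hj
  have hsurj : Function.Surjective (AlgSp.Points.map k) := by
    intro p
    obtain ⟨o₀, ho₀⟩ := (AlgSp.Points.schemeHomeo _).surjective (AlgSp.Points.map snd p)
    have h1 : AlgSp.Points.map f.hom (AlgSp.Points.map fst p) =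
        AlgSp.Points.ofPt b (σ.left o₀) := by
      rw [← AlgSp.Points.map_comp, hP.w, AlgSp.Points.map_comp, ← ho₀,
        ← Groth.Agent.S10176.ofPt_map_comp]
      exact (AlgSp.Points.ofPt_eq_map_ofScheme _ _).symm
    have h2 : σ.left o₀ = v := by
      rw [hσl]
      exact (mem_genericPoints_iff v).1 hvg _
        (Groth.Agent.Lib.Helper14.fromSpecStalk_specializes V.left v o₀)
    rw [h2] at h1
    obtain ⟨x, hx, hxv⟩ := hf.bijOn.surjOn hv
    have h3 : AlgSp.Points.map fst p = x :=
      eq_of_map_eq_generic f hX hY hf hx (h1.trans hxv.symm)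
    obtain ⟨x'', hx'', -⟩ := hgen x hx v hxv
    obtain ⟨q, hq, -⟩ := Groth.Agent.S10175.exists_point_of_isPullback sqk p
      (AlgSp.Points.schemeHomeo X'' x'') (by
        rw [h3, ← hx'']
        exact AlgSp.Points.ofPt_eq_map_ofScheme _ _)
    exact ⟨q, hq⟩
  haveI := isIso_of_openImm_of_surjective k hko hsurj
  have e : snd = inv k ≫ (AlgSp.yon S).map (pullback.snd g σ) := by
    rw [IsIso.eq_inv_comp, hk2]
  rw [e]
  infer_instance

end Groth.Agent.Lib.Seat47.BiratStalk
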