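import Mathlib
import Groth.Agent.S0083

/-!
# Seat47: closed immersions can be checked on a jointly surjective étale family
-/

set_option autoImplicit false
universe u
open CategoryTheory CategoryTheory.Limits AlgebraicGeometry TopologicalSpace

namespace Groth.Agent.Lib.Seat47.CIDescent

instance : MorphismProperty.DescendsAlong @IsClosedImmersion
    (@Surjective ⊓ @Flat ⊓ @QuasiCompact : MorphismProperty Scheme.{u}) :=
  Groth.Agent.S0083.result

/-- the open image of an étale morphism -/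
noncomputable def imageOpens {T₁ T : Scheme.{u}} (g : T₁ ⟶ T) [Etale g] : T.Opens :=
  ⟨Set.range g, g.isOpenMap.isOpen_range⟩

/-- if the base change of `e` along an étale `g` is a closed immersion, then `e` is a closed
immersion over the open image of `g`. -/
theorem isClosedImmersion_restrict_of_etale {E T T₁ E₁ : Scheme.{u}} (e : E ⟶ T) (g : T₁ ⟶ T)
    [Etale g] (e₁ : E₁ ⟶ T₁) (gE : E₁ ⟶ E) (hpb : IsPullback e₁ gE g e)
    (h : IsClosedImmersion e₁) : IsClosedImmersion (e ∣_ imageOpens g) := by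
  set O := imageOpens g with hO
  have hsub : Set.range g ⊆ Set.range O.ι := by
    rw [Scheme.Opens.range_ι]; exact subset_rfl
  let γ : T₁ ⟶ O.toScheme := IsOpenImmersion.lift O.ι g hsub
  have hγ : γ ≫ O.ι = g := IsOpenImmersion.lift_fac _ _ _
  haveI hγe : Etale γ := by
    have h3 : Etale (γ ≫ O.ι) := by rw [hγ]; infer_instance
    exact MorphismProperty.of_postcomp (W := @Etale) (W' := @Etale) γ O.ι inferInstance h3
  haveI hγs : Surjective γ := by
    constructor
    intro x
    obtain ⟨y, hy⟩ : (O.ι x) ∈ Set.range g := by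
      have := x.2
      exact this
    refine ⟨y, ?_⟩
    apply O.ι.isOpenEmbedding.injective
    rw [← Scheme.Hom.comp_apply, hγ, hy]
  -- the left square
  have hright : IsPullback (e ∣_ O) (e ⁻¹ᵁ O).ι O.ι e := isPullback_morphismRestrict e O
  have hw : e₁ ≫ γ ≫ O.ι = gE ≫ e := by rw [hγ]; exact hpb.w
  let γE : E₁ ⟶ (e ⁻¹ᵁ O).toScheme := hright.lift (e₁ ≫ γ) gE (by rw [Category.assoc]; exact hw)
  have hγE1 : γE ≫ (e ∣_ O) = e₁ ≫ γ := hright.lift_fst _ _ _
  have hγE2 : γE ≫ (e ⁻¹ᵁ O).ι = gE := hright.lift_snd _ _ _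
  have hleft : IsPullback e₁ γE γ (e ∣_ O) := by
    refine (IsPullback.of_right ?_ hγE1 hright.flip).flip
    rw [hγ, hγE2]
    exact hpb.flip
  exact MorphismProperty.of_isPullback_of_descendsAlong (P := @IsClosedImmersion)
    (Q := @Surjective ⊓ @Flat ⊓ @LocallyOfFinitePresentation) hleft
    ⟨⟨hγs, inferInstance⟩, inferInstance⟩ h

/-- closed immersions can be checked on a jointly surjective étale family. -/
theorem isClosedImmersion_of_etale_family {E T : Scheme.{u}} (e : E ⟶ T) {K : Type*}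
    (Tk Ek : K → Scheme.{u}) (g : ∀ k, Tk k ⟶ T) (ek : ∀ k, Ek k ⟶ Tk k) (gE : ∀ k, Ek k ⟶ E)
    (hpb : ∀ k, IsPullback (ek k) (gE k) (g k) e) [∀ k, Etale (g k)]
    (hsurj : ∀ t : T, ∃ k, t ∈ Set.range (g k)) (h : ∀ k, IsClosedImmersion (ek k)) :
    IsClosedImmersion e := by
  have hO : ⨆ k, imageOpens (g k) = ⊤ := by
    rw [eq_top_iff]
    intro t _
    obtain ⟨k, hk⟩ := hsurj t
    exact TopologicalSpace.Opens.mem_iSup.mpr ⟨k, hk⟩
  rw [IsZariskiLocalAtTarget.iff_of_iSup_eq_top (P := @IsClosedImmersion) _ hO]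
  intro k
  exact isClosedImmersion_restrict_of_etale e (g k) (ek k) (gE k) (hpb k) (h k)

end Groth.Agent.Lib.Seat47.CIDescent
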