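import Groth.Agent.S10176
import Groth.Agent.S10177

/-!
# Seat 47: chart diagrams for morphisms of algebraic spaces

`exists_chart_cover`: for a morphism `f : X ⟶ Y` of algebraic spaces and an étale chart `b : h_V ⟶ Y` there
is a chart diagram `a : h_U ⟶ X`, `h : U ⟶ V` with `a ≫ f = h_h ≫ b` such that `h_U ⟶ X ×_Y h_V` is
surjective on points (every compatible pair `(x, v)` is hit), and `a` is surjective when `b` is.
-/

set_option autoImplicit false

universe u

open CategoryTheory CategoryTheory.Limits AlgebraicGeometry Opposite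

namespace Groth.Agent.Lib.Seat47.Charts

variable {S : Scheme.{u}}

/-- chart diagram covering the fibre product `X ×_Y h_V`. -/
theorem exists_chart_cover {X Y : AlgSp.Space S} (f : X ⟶ Y) {V : Over S}
    (b : (AlgSp.yon S).obj V ⟶ Y.obj) (hbe : AlgSp.RepWith @Etale b) :
    ∃ (U : Over S) (a : (AlgSp.yon S).obj U ⟶ X.obj) (h : U ⟶ V),
      AlgSp.RepWith @Etale a ∧ a ≫ f.hom = (AlgSp.yon S).map h ≫ b ∧
      (∀ (x : AlgSp.Points X.obj) (v : ↥V.left),
        AlgSp.Points.map f.hom x = AlgSp.Points.ofPt b v →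
          ∃ u : ↥U.left, AlgSp.Points.ofPt a u = x ∧ h.left u = v) ∧
      (AlgSp.RepWith @Surjective b → AlgSp.RepWith @Surjective a) := by
  obtain ⟨U0, p0, hp0e, hp0s⟩ := X.property.atlas
  obtain ⟨U, snd, fst', sqU⟩ := hbe.1 (p0 ≫ f.hom)
  obtain ⟨α, rfl⟩ := (AlgSp.yon S).map_surjective fst'
  refine ⟨U, (AlgSp.yon S).map snd ≫ p0, α, ?_, ?_, ?_, ?_⟩
  · exact MorphismProperty.comp_mem _ _ _
      ((AlgSp.repWith_yon_map_iff _ _).2 (hbe.2 _ _ snd sqU)) hp0e
  · rw [Category.assoc, sqU.w]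
  · intro x v hxv
    obtain ⟨u0, rfl⟩ := Groth.Agent.S10177.surjective_ofPt p0 hp0s x
    rw [AlgSp.Points.map_ofPt] at hxv
    obtain ⟨y, hy1, hy2⟩ := Groth.Agent.S10176.exists_point_of_isPullback_yon sqU v u0 hxv.symm
    refine ⟨y, ?_, hy1⟩
    rw [Groth.Agent.S10176.ofPt_map_comp, hy2]
  · intro hbs
    exact MorphismProperty.comp_mem _ _ _
      ((AlgSp.repWith_yon_map_iff _ _).2 (hbs.2 _ _ snd sqU)) hp0s

end Groth.Agent.Lib.Seat47.Charts
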