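import Mathlib
import Groth.Prelude.Def_MoreMor
import Groth.Agent.Lib.Helper2Thick
import Groth.Agent.Lib.Helper2FormalEt

/-!
# First order thickenings of schemes: base change and affine normal form (seat 47)
-/

set_option autoImplicit false
universe u
open CategoryTheory CategoryTheory.Limits AlgebraicGeometry Opposite TopologicalSpace

namespace Groth.Agent.Lib.Seat47.Thk

open Groth.Agent.Lib.Helper2.Thick Groth.Agent.Lib.Helper2.FormalEt

/-- `Spec (A ⧸ I) ⟶ Spec A` with `I ^ 2 = 0` is a first order thickening. -/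
theorem fo_spec (A : Type u) [CommRing A] (I : Ideal A) (hI : I ^ 2 = ⊥) :
    MoreMor.IsFirstOrderThickening (Spec.map (CommRingCat.ofHom (Ideal.Quotient.mk I))) := by
  haveI : IsClosedImmersion (Spec.map (CommRingCat.ofHom (Ideal.Quotient.mk I))) :=
    IsClosedImmersion.spec_of_surjective _ Ideal.Quotient.mk_surjective
  refine ⟨⟨inferInstance, ⟨fun y => surj_specMap_mk A I hI y⟩⟩, ?_⟩
  apply Scheme.IdealSheafData.ext_of_isAffine
  rw [Scheme.IdealSheafData.ideal_mul, Scheme.IdealSheafData.ideal_bot, Pi.mul_apply,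
    Scheme.Hom.ker_apply, Pi.bot_apply, eq_bot_iff, Ideal.mul_le]
  intro x hx y hy
  rw [RingHom.mem_ker] at hx hy
  have nat := Scheme.ΓSpecIso_naturality (CommRingCat.ofHom (Ideal.Quotient.mk I))
  have hx' : (Ideal.Quotient.mk I) ((Scheme.ΓSpecIso (CommRingCat.of A)).hom x) = 0 := by
    have := congr($(nat).hom x)
    simp only [CommRingCat.hom_comp, RingHom.comp_apply] at this
    erw [hx, map_zero] at this
    exact this.symm
  have hy' : (Ideal.Quotient.mk I) ((Scheme.ΓSpecIso (CommRingCat.of A)).hom y) = 0 := by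
    have := congr($(nat).hom y)
    simp only [CommRingCat.hom_comp, RingHom.comp_apply] at this
    erw [hy, map_zero] at this
    exact this.symm
  rw [Ideal.Quotient.eq_zero_iff_mem] at hx' hy'
  have hxy : (Scheme.ΓSpecIso (CommRingCat.of A)).hom (x * y) = 0 := by
    rw [map_mul]
    have : (Scheme.ΓSpecIso (CommRingCat.of A)).hom x * (Scheme.ΓSpecIso (CommRingCat.of A)).hom y
        ∈ I ^ 2 := by rw [pow_two]; exact Ideal.mul_mem_mul hx' hy'
    rw [hI] at this
    exact this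
  rw [Ideal.mem_bot]
  have hinj : Function.Injective (Scheme.ΓSpecIso (CommRingCat.of A)).hom :=
    (ConcreteCategory.bijective_of_isIso (Scheme.ΓSpecIso (CommRingCat.of A)).hom).1
  exact hinj (by rw [hxy, map_zero])

/-- conversely the ideal has square zero if the kernel ideal sheaf has. -/
theorem sq_zero_of_spec (A : Type u) [CommRing A] (I : Ideal A)
    (h : (Spec.map (CommRingCat.ofHom (Ideal.Quotient.mk I))).ker *
      (Spec.map (CommRingCat.ofHom (Ideal.Quotient.mk I))).ker = ⊥) : I ^ 2 = ⊥ := by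
  haveI : IsClosedImmersion (Spec.map (CommRingCat.ofHom (Ideal.Quotient.mk I))) :=
    IsClosedImmersion.spec_of_surjective _ Ideal.Quotient.mk_surjective
  have h' := congr(($h).ideal ⟨⊤, isAffineOpen_top _⟩)
  rw [Scheme.IdealSheafData.ideal_mul, Scheme.IdealSheafData.ideal_bot, Pi.mul_apply,
    Scheme.Hom.ker_apply, Pi.bot_apply] at h'
  rw [eq_bot_iff, pow_two, Ideal.mul_le]
  intro a ha b hb
  have nat := Scheme.ΓSpecIso_inv_naturality (CommRingCat.ofHom (Ideal.Quotient.mk I))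
  have key : ∀ c ∈ I, (Scheme.ΓSpecIso (CommRingCat.of A)).inv c ∈
      RingHom.ker ((Spec.map (CommRingCat.ofHom (Ideal.Quotient.mk I))).app ⊤).hom := by
    intro c hc
    rw [RingHom.mem_ker]
    have := congr($(nat).hom c)
    simp only [CommRingCat.hom_comp, RingHom.comp_apply] at this
    refine Eq.trans this.symm ?_
    have hc0 : (Ideal.Quotient.mk I) c = 0 := Ideal.Quotient.eq_zero_iff_mem.mpr hc
    erw [hc0]
    exact map_zero _
  have hab : (Scheme.ΓSpecIso (CommRingCat.of A)).inv a * (Scheme.ΓSpecIso (CommRingCat.of A)).inv b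
      ∈ (⊥ : Ideal _) := by
    rw [← h']
    exact Ideal.mul_mem_mul (key a ha) (key b hb)
  rw [Ideal.mem_bot, ← map_mul] at hab
  rw [Ideal.mem_bot]
  have hinj : Function.Injective (Scheme.ΓSpecIso (CommRingCat.of A)).inv :=
    (ConcreteCategory.bijective_of_isIso (Scheme.ΓSpecIso (CommRingCat.of A)).inv).1
  exact hinj (by rw [hab, map_zero])

/-- first order thickenings are stable under base change -/
theorem fo_baseChange {X X' Y Y' : Scheme.{u}} (iX : X ⟶ X') (iY : Y ⟶ Y') (f : X ⟶ Y)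
    (f' : X' ⟶ Y') (hY : MoreMor.IsFirstOrderThickening iY) (hc : IsPullback iX f f' iY) :
    MoreMor.IsFirstOrderThickening iX := by
  have hY' : MoreMor.IsFiniteOrderThickening iY := ⟨hY.1, ⟨2, by rw [pow_two]; exact hY.2⟩⟩
  have : IsClosedImmersion iY := hY.1.1
  have : IsClosedImmersion iX :=
    MorphismProperty.of_isPullback (P := @IsClosedImmersion) hc.flip hY.1.1
  refine ⟨⟨inferInstance, MorphismProperty.of_isPullback (P := @Surjective) hc.flip hY.1.2⟩, ?_⟩
  have hn : iY.ker ^ 2 = ⊥ := by rw [pow_two]; exact hY.2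
  rw [← pow_two, eq_bot_iff]
  let ι := {V' : X'.affineOpens // ∃ U' : Y'.affineOpens, V'.1 ≤ f' ⁻¹ᵁ U'.1}
  refine Scheme.IdealSheafData.le_of_iSup_eq_top (ι := ι) (fun i => i.1) ?_ ?_
  · rw [eq_top_iff]
    intro x _
    obtain ⟨_, ⟨U, hU, rfl⟩, hxU, -⟩ :=
      Y'.isBasis_affineOpens.exists_subset_of_mem_open (Set.mem_univ (f' x)) isOpen_univ
    obtain ⟨_, ⟨V, hV, rfl⟩, hxV, hVU : V ≤ f' ⁻¹ᵁ U⟩ :=
      X'.isBasis_affineOpens.exists_subset_of_mem_open hxU (f' ⁻¹ᵁ U).isOpen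
    exact Opens.mem_iSup.mpr ⟨⟨⟨V, hV⟩, ⟨U, hU⟩, hVU⟩, hxV⟩
  · rintro ⟨⟨V', hV'⟩, ⟨U', hU'⟩, e⟩
    obtain ⟨hUT, hUY, hπ, -, hpo⟩ := fthick_data iX iY f f' hY' hc U' hU' V' hV' e
    have hker := ker_le_map hpo hπ
    have hn' : RingHom.ker (iY.appLE U' (iY ⁻¹ᵁ U') le_rfl).hom ^ 2 = ⊥ := by
      have := congr(($hn).ideal ⟨U', hU'⟩)
      rw [← Scheme.Hom.app_eq_appLE]
      simpa using this
    show (iX.ker ^ 2).ideal ⟨V', hV'⟩ ≤ (⊥ : X'.IdealSheafData).ideal ⟨V', hV'⟩
    rw [Scheme.IdealSheafData.ideal_pow, Scheme.IdealSheafData.ideal_bot, Pi.pow_apply,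
      Scheme.Hom.ker_apply]
    have h1 : RingHom.ker (iX.app V').hom ≤
        (RingHom.ker (iY.appLE U' (iY ⁻¹ᵁ U') le_rfl).hom).map (f'.appLE U' V' e).hom := by
      intro x hx
      apply hker
      rw [RingHom.mem_ker] at hx ⊢
      rw [Scheme.Hom.appLE, CommRingCat.hom_comp, RingHom.comp_apply, hx, map_zero]
    calc RingHom.ker (iX.app V').hom ^ 2
        ≤ ((RingHom.ker (iY.appLE U' (iY ⁻¹ᵁ U') le_rfl).hom).map (f'.appLE U' V' e).hom) ^ 2 :=
          Ideal.pow_right_mono h1 2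
      _ = ⊥ := by rw [← Ideal.map_pow, hn', Ideal.map_bot]
      _ ≤ _ := le_rfl

/-- a first order thickening composed with an isomorphism of the target -/
theorem fo_comp_iso {Z W W' : Scheme.{u}} (t : Z ⟶ W) (ht : MoreMor.IsFirstOrderThickening t)
    (e : W ≅ W') : MoreMor.IsFirstOrderThickening (t ≫ e.hom) := by
  refine fo_baseChange (t ≫ e.hom) t (𝟙 Z) e.inv ht ?_
  exact IsPullback.of_vert_isIso ⟨by simp⟩

/-- affine normal form of a first order thickening with affine target -/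
theorem fo_normalForm {Z W : Scheme.{u}} (t : Z ⟶ W) (ht : MoreMor.IsFirstOrderThickening t)
    [IsAffine W] :
    ∃ (A : CommRingCat.{u}) (I : Ideal A) (_ : I ^ 2 = ⊥) (eW : Spec A ≅ W)
      (eZ : Spec (.of (A ⧸ I)) ≅ Z),
      eZ.hom ≫ t = Spec.map (CommRingCat.ofHom (Ideal.Quotient.mk I)) ≫ eW.hom := by
  have h1 := fo_comp_iso t ht W.isoSpec
  haveI : IsClosedImmersion (t ≫ W.isoSpec.hom) := h1.1.1
  obtain ⟨I, e, he⟩ := IsClosedImmersion.Spec_iff.1 (inferInstance : IsClosedImmersion (t ≫ W.isoSpec.hom))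
  refine ⟨Γ(W, ⊤), I, ?_, W.isoSpec.symm, e.symm, ?_⟩
  · apply sq_zero_of_spec
    have h2 := h1.2
    rw [he, Scheme.Hom.ker_comp_of_isIso] at h2
    exact h2
  · rw [Iso.symm_hom, Iso.symm_hom, Iso.inv_comp_eq, ← Category.assoc, Iso.eq_comp_inv]
    exact he

end Groth.Agent.Lib.Seat47.Thk
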