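import Mathlib
import Groth.Prelude.Def_AlgSpInf
import Groth.Agent.Lib.Helper15AlgSpInf
import Groth.Agent.Lib.Seat47FamSheaf
import Groth.Agent.Lib.Seat47Thk

/-!
# Formally unramified / formally étale morphisms of fppf sheaves: lifting along arbitrary first
order thickenings of schemes (seat 47)
-/

set_option autoImplicit false
universe u
open CategoryTheory CategoryTheory.Limits AlgebraicGeometry Opposite TopologicalSpace

namespace Groth.Agent.Lib.Seat47.FEt

open Groth.Agent.Lib.Seat47.Thk Groth.Agent.Lib.Seat47.FamSheaf Groth.Agent.Lib.Helper15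

variable {S : Scheme.{u}}

/-- `Spec A` over `S` -/
noncomputable abbrev pT' (A : Type u) [CommRing A] (str : Spec (.of A) ⟶ S) : Over S := Over.mk str

/-- `Spec (A ⧸ I)` over `S` -/
noncomputable abbrev pT {A : Type u} [CommRing A] (I : Ideal A) (str : Spec (.of A) ⟶ S) : Over S :=
  Over.mk (Spec.map (CommRingCat.ofHom (Ideal.Quotient.mk I)) ≫ str)

/-- the closed immersion -/
noncomputable abbrev pj {A : Type u} [CommRing A] (I : Ideal A) (str : Spec (.of A) ⟶ S) :
    pT I str ⟶ pT' A str :=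
  Over.homMk (Spec.map (CommRingCat.ofHom (Ideal.Quotient.mk I))) rfl

lemma uniq_affine {F G : AlgSp.Sp S} {f : F ⟶ G} (hf : AlgSp.IsFormallyUnramifiedMor f)
    {A : Type u} [CommRing A] (I : Ideal A) (hI : I ^ 2 = ⊥) (str : Spec (.of A) ⟶ S)
    (l l' : (AlgSp.yon S).obj (pT' A str) ⟶ F)
    (h1 : (AlgSp.yon S).map (pj I str) ≫ l = (AlgSp.yon S).map (pj I str) ≫ l')
    (h2 : l ≫ f = l' ≫ f) : l = l' :=
  hf { A := A, I := I, sq_zero := hI, str := str, top := (AlgSp.yon S).map (pj I str) ≫ l,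
       bot := l ≫ f, comm := Category.assoc _ _ _ } l l' rfl rfl h1.symm h2.symm

lemma lift_affine {F G : AlgSp.Sp S} {f : F ⟶ G} (hf : AlgSp.IsFormallySmoothMor f)
    {A : Type u} [CommRing A] (I : Ideal A) (hI : I ^ 2 = ⊥) (str : Spec (.of A) ⟶ S)
    (top : (AlgSp.yon S).obj (pT I str) ⟶ F) (bot : (AlgSp.yon S).obj (pT' A str) ⟶ G)
    (comm : top ≫ f = (AlgSp.yon S).map (pj I str) ≫ bot) :
    ∃ l : (AlgSp.yon S).obj (pT' A str) ⟶ F, (AlgSp.yon S).map (pj I str) ≫ l = top ∧ l ≫ f = bot :=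
  hf { A := A, I := I, sq_zero := hI, str := str, top := top, bot := bot, comm := comm }

lemma uniqLift_affine {F G : AlgSp.Sp S} {f : F ⟶ G} (hf : AlgSp.IsFormallyEtaleMor f)
    {A : Type u} [CommRing A] (I : Ideal A) (hI : I ^ 2 = ⊥) (str : Spec (.of A) ⟶ S)
    (top : (AlgSp.yon S).obj (pT I str) ⟶ F) (bot : (AlgSp.yon S).obj (pT' A str) ⟶ G)
    (comm : top ≫ f = (AlgSp.yon S).map (pj I str) ≫ bot) :
    ∃! l : (AlgSp.yon S).obj (pT' A str) ⟶ F,
      (AlgSp.yon S).map (pj I str) ≫ l = top ∧ l ≫ f = bot :=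
  hf { A := A, I := I, sq_zero := hI, str := str, top := top, bot := bot, comm := comm }

/-- normal form over `S` of a first order thickening with affine target -/
lemma normalForm_over {Z W : Over S} (t : Z ⟶ W) (ht : MoreMor.IsFirstOrderThickening t.left)
    [IsAffine W.left] :
    ∃ (A : CommRingCat.{u}) (I : Ideal A) (_ : I ^ 2 = ⊥) (str : Spec (.of A) ⟶ S)
      (gW : pT' A str ≅ W) (gZ : pT I str ≅ Z), gZ.hom ≫ t = pj I str ≫ gW.hom := by
  obtain ⟨A, I, hI, eW, eZ, he⟩ := fo_normalForm t.left ht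
  refine ⟨A, I, hI, eW.hom ≫ W.hom, Over.isoMk eW rfl, Over.isoMk eZ ?_, ?_⟩
  · show eZ.hom ≫ Z.hom = Spec.map (CommRingCat.ofHom (Ideal.Quotient.mk I)) ≫ eW.hom ≫ W.hom
    rw [← Over.w t, ← Category.assoc, he, Category.assoc]
  · apply Over.OverMorphism.ext
    exact he

lemma uext_affine {F G : AlgSp.Sp S} {f : F ⟶ G} (hf : AlgSp.IsFormallyUnramifiedMor f)
    {Z W : Over S} (t : Z ⟶ W) (ht : MoreMor.IsFirstOrderThickening t.left) [IsAffine W.left]
    (l l' : (AlgSp.yon S).obj W ⟶ F)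
    (h1 : (AlgSp.yon S).map t ≫ l = (AlgSp.yon S).map t ≫ l') (h2 : l ≫ f = l' ≫ f) : l = l' := by
  obtain ⟨A, I, hI, str, gW, gZ, hg⟩ := normalForm_over t ht
  have key : (AlgSp.yon S).map gW.hom ≫ l = (AlgSp.yon S).map gW.hom ≫ l' := by
    apply uniq_affine hf I hI str
    · rw [← Category.assoc, ← Functor.map_comp, ← hg, Functor.map_comp, Category.assoc, h1,
        ← Category.assoc, ← Functor.map_comp, hg, Functor.map_comp, Category.assoc]
    · rw [Category.assoc, Category.assoc, h2]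
  exact (cancel_epi ((AlgSp.yon S).map gW.hom)).1 key

/-- the restricted thickening over an open of the target -/
noncomputable def resZ {Z W : Over S} (t : Z ⟶ W) (V : W.left.Opens) : Over S :=
  Over.mk ((t.left ⁻¹ᵁ V).ι ≫ Z.hom)

noncomputable def resW (W : Over S) (V : W.left.Opens) : Over S := Over.mk (V.ι ≫ W.hom)

noncomputable def resWι (W : Over S) (V : W.left.Opens) : resW W V ⟶ W := Over.homMk V.ι rfl

noncomputable def resZι {Z W : Over S} (t : Z ⟶ W) (V : W.left.Opens) : resZ t V ⟶ Z :=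
  Over.homMk (t.left ⁻¹ᵁ V).ι rfl

noncomputable def resT {Z W : Over S} (t : Z ⟶ W) (V : W.left.Opens) : resZ t V ⟶ resW W V :=
  Over.homMk (t.left ∣_ V) (by
    show (t.left ∣_ V) ≫ V.ι ≫ W.hom = (t.left ⁻¹ᵁ V).ι ≫ Z.hom
    rw [← Category.assoc, morphismRestrict_ι, Category.assoc, Over.w t])

/-- the covering family of affine opens of `W` -/
lemma affineOpens_cover (W : Over S) :
    Sieve.generate (Presieve.ofArrows
      (fun V : W.left.affineOpens => resW W V.1)
      (fun V : W.left.affineOpens => resWι W V.1)) ∈ AlgSp.J S W := by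
  refine generate_ofArrows_mem_J _ _
    (fun V => ⟨(inferInstance : Flat V.1.ι), (inferInstance : LocallyOfFinitePresentation V.1.ι)⟩)
    (fun w => ?_)
  obtain ⟨_, ⟨V, hV, rfl⟩, hwV, -⟩ :=
    W.left.isBasis_affineOpens.exists_subset_of_mem_open (Set.mem_univ w) isOpen_univ
  refine ⟨⟨V, hV⟩, ?_⟩
  show w ∈ Set.range (Scheme.Opens.ι V)
  rw [Scheme.Opens.range_ι]
  exact hwV

/-- the induced covering family of the source of a thickening -/
lemma affineOpens_cover_source {Z W : Over S} (t : Z ⟶ W) :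
    Sieve.generate (Presieve.ofArrows
      (fun V : W.left.affineOpens => resZ t V.1)
      (fun V : W.left.affineOpens => resZι t V.1)) ∈ AlgSp.J S Z := by
  refine generate_ofArrows_mem_J _ _
    (fun V => ⟨(inferInstance : Flat (t.left ⁻¹ᵁ V.1).ι),
      (inferInstance : LocallyOfFinitePresentation (t.left ⁻¹ᵁ V.1).ι)⟩)
    (fun z => ?_)
  obtain ⟨_, ⟨V, hV, rfl⟩, hwV, -⟩ :=
    W.left.isBasis_affineOpens.exists_subset_of_mem_open (Set.mem_univ (t.left z)) isOpen_univ
  refine ⟨⟨V, hV⟩, ?_⟩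
  show z ∈ Set.range (Scheme.Opens.ι (t.left ⁻¹ᵁ V))
  rw [Scheme.Opens.range_ι]
  exact hwV

lemma resT_comm {Z W : Over S} (t : Z ⟶ W) (V : W.left.Opens) :
    resT t V ≫ resWι W V = resZι t V ≫ t :=
  Over.OverMorphism.ext (morphismRestrict_ι _ _)

lemma resT_fo {Z W : Over S} (t : Z ⟶ W) (ht : MoreMor.IsFirstOrderThickening t.left)
    (V : W.left.Opens) : MoreMor.IsFirstOrderThickening (resT t V).left :=
  fo_baseChange (t.left ∣_ V) t.left (t.left ⁻¹ᵁ V).ι V.ι ht (isPullback_morphismRestrict t.left V)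

/-- lifting through the restricted thickening -/
lemma resT_lift {Z W : Over S} (t : Z ⟶ W) (V : W.left.Opens) {Z₀ : Over S}
    (a : Z₀ ⟶ resW W V) (c : Z₀ ⟶ Z) (h : a ≫ resWι W V = c ≫ t) :
    ∃ u : Z₀ ⟶ resZ t V, u ≫ resT t V = a ∧ u ≫ resZι t V = c := by
  have hpb := isPullback_morphismRestrict t.left V
  have hw : a.left ≫ V.ι = c.left ≫ t.left := congrArg CommaMorphism.left h
  refine ⟨Over.homMk (hpb.lift a.left c.left hw) ?_, ?_, ?_⟩
  · show hpb.lift a.left c.left hw ≫ (t.left ⁻¹ᵁ V).ι ≫ Z.hom = Z₀.hom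
    rw [← Category.assoc, hpb.lift_snd, Over.w c]
  · apply Over.OverMorphism.ext
    exact hpb.lift_fst _ _ _
  · apply Over.OverMorphism.ext
    exact hpb.lift_snd _ _ _

/-- uniqueness of lifts along arbitrary first order thickenings of schemes over `S` -/
theorem uext {F G : AlgSp.Sp S} {f : F ⟶ G} (hf : AlgSp.IsFormallyUnramifiedMor f)
    {Z W : Over S} (t : Z ⟶ W) (ht : MoreMor.IsFirstOrderThickening t.left)
    (l l' : (AlgSp.yon S).obj W ⟶ F)
    (h1 : (AlgSp.yon S).map t ≫ l = (AlgSp.yon S).map t ≫ l') (h2 : l ≫ f = l' ≫ f) : l = l' := by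
  apply sep _ _ (affineOpens_cover W)
  intro V
  haveI : IsAffine (resW W V.1).left := V.2
  apply uext_affine hf (resT t V.1) (resT_fo t ht V.1)
  · have e : ∀ m : (AlgSp.yon S).obj W ⟶ F,
        (AlgSp.yon S).map (resT t V.1) ≫ (AlgSp.yon S).map (resWι W V.1) ≫ m =
          (AlgSp.yon S).map (resZι t V.1) ≫ (AlgSp.yon S).map t ≫ m := by
      intro m
      rw [← Category.assoc, ← Functor.map_comp, resT_comm, Functor.map_comp, Category.assoc]
    exact (e l).trans ((congrArg _ h1).trans (e l').symm)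
  · show ((AlgSp.yon S).map (resWι W V.1) ≫ l) ≫ f = ((AlgSp.yon S).map (resWι W V.1) ≫ l') ≫ f
    rw [Category.assoc, Category.assoc, h2]

/-- pullback of a thickening along an arbitrary morphism to the target -/
noncomputable def pbZ {Z W : Over S} (t : Z ⟶ W) {Z' : Over S} (r : Z' ⟶ W) : Over S :=
  Over.mk (pullback.fst r.left t.left ≫ Z'.hom)

noncomputable def pbT {Z W : Over S} (t : Z ⟶ W) {Z' : Over S} (r : Z' ⟶ W) : pbZ t r ⟶ Z' :=
  Over.homMk (pullback.fst r.left t.left) rfl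

noncomputable def pbZι {Z W : Over S} (t : Z ⟶ W) {Z' : Over S} (r : Z' ⟶ W) : pbZ t r ⟶ Z :=
  Over.homMk (pullback.snd r.left t.left) (by
    show pullback.snd r.left t.left ≫ Z.hom = pullback.fst r.left t.left ≫ Z'.hom
    rw [← Over.w t, ← Category.assoc, ← pullback.condition, Category.assoc, Over.w r])

lemma pbT_comm {Z W : Over S} (t : Z ⟶ W) {Z' : Over S} (r : Z' ⟶ W) :
    pbT t r ≫ r = pbZι t r ≫ t :=
  Over.OverMorphism.ext pullback.condition

lemma pbT_fo {Z W : Over S} (t : Z ⟶ W) {Z' : Over S} (r : Z' ⟶ W)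
    (ht : MoreMor.IsFirstOrderThickening t.left) :
    MoreMor.IsFirstOrderThickening (pbT t r).left :=
  fo_baseChange (pullback.fst r.left t.left) t.left (pullback.snd r.left t.left) r.left ht
    (IsPullback.of_hasPullback r.left t.left)

/-- lifting into the pulled back thickening -/
lemma pbT_lift {Z W : Over S} (t : Z ⟶ W) {Z' : Over S} (r : Z' ⟶ W) {Z₀ : Over S}
    (a : Z₀ ⟶ Z') (c : Z₀ ⟶ Z) (h : a ≫ r = c ≫ t) :
    ∃ u : Z₀ ⟶ pbZ t r, u ≫ pbT t r = a ∧ u ≫ pbZι t r = c := by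
  have hw : a.left ≫ r.left = c.left ≫ t.left := congrArg CommaMorphism.left h
  refine ⟨Over.homMk (pullback.lift a.left c.left hw) ?_, ?_, ?_⟩
  · show pullback.lift a.left c.left hw ≫ pullback.fst r.left t.left ≫ Z'.hom = Z₀.hom
    rw [← Category.assoc, pullback.lift_fst, Over.w a]
  · apply Over.OverMorphism.ext
    exact pullback.lift_fst _ _ _
  · apply Over.OverMorphism.ext
    exact pullback.lift_snd _ _ _

/-- existence and uniqueness of lifts along arbitrary first order thickenings of schemes -/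
theorem eext {F G : AlgSp.Sp S} {f : F ⟶ G} (hf : AlgSp.IsFormallyEtaleMor f)
    {Z W : Over S} (t : Z ⟶ W) (ht : MoreMor.IsFirstOrderThickening t.left)
    (top : (AlgSp.yon S).obj Z ⟶ F) (bot : (AlgSp.yon S).obj W ⟶ G)
    (comm : top ≫ f = (AlgSp.yon S).map t ≫ bot) :
    ∃! l : (AlgSp.yon S).obj W ⟶ F, (AlgSp.yon S).map t ≫ l = top ∧ l ≫ f = bot := by
  obtain ⟨hfs, hfu⟩ := (isFormallyEtaleMor_iff f).1 hf
  have haff : ∀ V : W.left.affineOpens, ∃ lV : (AlgSp.yon S).obj (resW W V.1) ⟶ F,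
      (AlgSp.yon S).map (resT t V.1) ≫ lV = (AlgSp.yon S).map (resZι t V.1) ≫ top ∧
      lV ≫ f = (AlgSp.yon S).map (resWι W V.1) ≫ bot := by
    intro V
    haveI : IsAffine (resW W V.1).left := V.2
    obtain ⟨A, I, hI, str, gW, gZ, hg⟩ := normalForm_over (resT t V.1) (resT_fo t ht V.1)
    obtain ⟨l₀, h1, h2⟩ := lift_affine hfs I hI str
      ((AlgSp.yon S).map gZ.hom ≫ (AlgSp.yon S).map (resZι t V.1) ≫ top)
      ((AlgSp.yon S).map gW.hom ≫ (AlgSp.yon S).map (resWι W V.1) ≫ bot) (by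
        rw [Category.assoc, Category.assoc, comm]
        simp only [← Category.assoc, ← Functor.map_comp]
        rw [Category.assoc gZ.hom, ← resT_comm, ← Category.assoc, hg, Category.assoc])
    have hinv : resT t V.1 ≫ gW.inv = gZ.inv ≫ pj I str := by
      rw [Iso.comp_inv_eq, Category.assoc, ← hg, Iso.inv_hom_id_assoc]
    refine ⟨(AlgSp.yon S).map gW.inv ≫ l₀, ?_, ?_⟩
    · rw [← Category.assoc, ← Functor.map_comp, hinv, Functor.map_comp, Category.assoc, h1,
        ← Category.assoc, ← Functor.map_comp, Iso.inv_hom_id, CategoryTheory.Functor.map_id, Category.id_comp]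
    · rw [Category.assoc, h2, ← Category.assoc, ← Functor.map_comp, Iso.inv_hom_id,
        CategoryTheory.Functor.map_id, Category.id_comp]
  choose lV hlV1 hlV2 using haff
  have hstar : ∀ (V : W.left.affineOpens) (Z₀ : Over S) (a : Z₀ ⟶ resW W V.1) (c : Z₀ ⟶ Z),
      a ≫ resWι W V.1 = c ≫ t →
      (AlgSp.yon S).map a ≫ lV V = (AlgSp.yon S).map c ≫ top := by
    intro V Z₀ a c h
    obtain ⟨u, hu1, hu2⟩ := resT_lift t V.1 a c h
    rw [← hu1, Functor.map_comp, Category.assoc, hlV1, ← Category.assoc, ← Functor.map_comp, hu2]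
  obtain ⟨L, hL⟩ := glue _ _ (affineOpens_cover W) lV (by
    intro V V' Z' p q hpq
    apply uext hfu (pbT t (p ≫ resWι W V.1)) (pbT_fo t _ ht)
    · rw [← Category.assoc, ← Functor.map_comp, ← Category.assoc, ← Functor.map_comp,
        hstar V _ (pbT t (p ≫ resWι W V.1) ≫ p) (pbZι t (p ≫ resWι W V.1))
          (by rw [Category.assoc]; exact pbT_comm t _),
        hstar V' _ (pbT t (p ≫ resWι W V.1) ≫ q) (pbZι t (p ≫ resWι W V.1))
          (by rw [Category.assoc, ← hpq]; exact pbT_comm t _)]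
    · rw [Category.assoc, Category.assoc, hlV2, hlV2, ← Category.assoc, ← Category.assoc,
        ← Functor.map_comp, ← Functor.map_comp, hpq])
  have htL : (AlgSp.yon S).map t ≫ L = top := by
    apply sep _ _ (affineOpens_cover_source t)
    intro V
    rw [← Category.assoc, ← Functor.map_comp, ← resT_comm, Functor.map_comp, Category.assoc,
      hL, hlV1]
  have hLf : L ≫ f = bot := by
    apply sep _ _ (affineOpens_cover W)
    intro V
    rw [← Category.assoc, hL, hlV2]
  refine ⟨L, ⟨htL, hLf⟩, ?_⟩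
  rintro L' ⟨h1, h2⟩
  exact uext hfu t ht L' L (h1.trans htL.symm) (h2.trans hLf.symm)

end Groth.Agent.Lib.Seat47.FEt
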