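import Mathlib
import Groth.Prelude.Def_AlgSpInf
import Groth.Agent.Lib.Seat47FEt
import Groth.Agent.Lib.Seat47Charts

/-!
# Chart diagrams for deformation situations of algebraic spaces (seat 47)

For a thickening `iB : B ⟶ B'` of algebraic spaces, morphisms `X' ⟶ Y' ⟶ B'` and their base changes `X ⟶ Y ⟶ B`,
`exists_deformCharts` produces étale surjective scheme charts `U' ⟶ V' ⟶ W'` of `X' ⟶ Y' ⟶ B'` whose base changes
`U ⟶ V ⟶ W` along the thickening `W ⟶ W'` of schemes are étale surjective charts of `X ⟶ Y ⟶ B`, so that the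
scheme-level deformation lemmas (`Helper2Deform`, S1317–S1323, S1381–S1385) apply.

* `finOrder_of_forall_affineOpens`, `finThick_chart`: a finite order thickening of spaces gives finite order
  thickenings of schemes on all étale scheme charts.
* `exists_chart_pullback`: base change of a chart along the thickening.
-/

set_option autoImplicit false
universe u
open CategoryTheory CategoryTheory.Limits AlgebraicGeometry Opposite TopologicalSpace

namespace Groth.Agent.Lib.Seat47.DeformChart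

open Groth.Agent.Lib.Seat47.FEt

variable {S : Scheme.{u}}

/-- a thickening whose restriction over every affine open has `(n+1)`-st power of the ideal zero is a finite order
thickening -/
theorem finOrder_of_forall_affineOpens {Z W : Scheme.{u}} (t : Z ⟶ W) (ht : AlgSp.thick t) (n : ℕ)
    (h : ∀ V : W.affineOpens, AlgSp.powZero n (t ∣_ V.1)) : MoreMor.IsFiniteOrderThickening t := by
  haveI : IsClosedImmersion t := ht.1
  refine ⟨ht, n + 1, ?_⟩
  rw [← bot_eq_zero, eq_bot_iff]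
  refine Scheme.IdealSheafData.le_of_iSup_eq_top (ι := W.affineOpens) (fun V => V) ?_ ?_
  · rw [eq_top_iff]
    intro x _
    obtain ⟨_, ⟨V, hV, rfl⟩, hxV, -⟩ :=
      W.isBasis_affineOpens.exists_subset_of_mem_open (Set.mem_univ x) isOpen_univ
    exact Opens.mem_iSup.mpr ⟨⟨V, hV⟩, hxV⟩
  · intro V
    haveI : IsAffine V.1.toScheme := V.2
    have h1 := congr(($(h V)).ideal ⟨⊤, isAffineOpen_top _⟩)
    rw [Scheme.IdealSheafData.ideal_pow, Pi.pow_apply, Scheme.ker_morphismRestrict_ideal,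
      Scheme.IdealSheafData.ideal_bot, Pi.bot_apply] at h1
    have key : ∀ U : W.affineOpens, t.ker.ideal U ^ (n + 1) = ⊥ → U = V →
        (t.ker ^ (n + 1)).ideal V ≤ (⊥ : W.IdealSheafData).ideal V := by
      rintro U hU rfl
      rw [Scheme.IdealSheafData.ideal_pow, Pi.pow_apply, hU]
      exact bot_le
    exact key _ h1 (Subtype.ext (by simp))

/-- a finite order thickening of sheaves gives a finite order thickening of schemes on every étale scheme chart -/
theorem finThick_chart {B B' : AlgSp.Sp S} (iB : B ⟶ B') (hB : AlgSp.IsFinThickMor iB) {W W' : Over S}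
    (q' : (AlgSp.yon S).obj W' ⟶ B') (hq' : AlgSp.RepWith @Etale q') (q : (AlgSp.yon S).obj W ⟶ B)
    (jW : W ⟶ W') (hpb : IsPullback q ((AlgSp.yon S).map jW) iB q') :
    MoreMor.IsFiniteOrderThickening jW.left := by
  obtain ⟨n, hthick, hpow⟩ := hB
  have hth : AlgSp.thick jW.left := hthick.2 _ q jW hpb
  apply finOrder_of_forall_affineOpens jW.left hth n
  intro V
  have hVaff : IsAffine (resW W' V.1).left := V.2
  have hcV : AlgSp.RepWith @Etale ((AlgSp.yon S).map (resWι W' V.1) ≫ q') :=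
    MorphismProperty.comp_mem _ _ _
      ((AlgSp.repWith_yon_map_iff _ _).2 (show Etale V.1.ι from inferInstance)) hq'
  have hsq_over : IsPullback (resZι jW V.1) (resT jW V.1) jW (resWι W' V.1) := by
    refine IsPullback.of_map (Over.forget S) (resT_comm jW V.1).symm ?_
    exact (isPullback_morphismRestrict jW.left V.1).flip
  have hy := Functor.map_isPullback (AlgSp.yon S) hsq_over
  exact hpow _ _ (resT jW V.1) hVaff hcV (hy.paste_horiz hpb)

/-- base change of a chart along the thickening -/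
theorem exists_chart_pullback {B B' P P' : AlgSp.Sp S} (iB : B ⟶ B') (iP : P ⟶ P') (p : P ⟶ B)
    (p' : P' ⟶ B') (hP : IsPullback iP p p' iB) {W W' : Over S} (q : (AlgSp.yon S).obj W ⟶ B)
    (q' : (AlgSp.yon S).obj W' ⟶ B') (jW : W ⟶ W') (hW : IsPullback q ((AlgSp.yon S).map jW) iB q')
    {T' : Over S} (c' : (AlgSp.yon S).obj T' ⟶ P') (τ' : T' ⟶ W')
    (hc' : c' ≫ p' = (AlgSp.yon S).map τ' ≫ q')
    {T : Over S} (jT : T ⟶ T') (τ : T ⟶ W) (hT : IsPullback jT τ τ' jW) :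
    ∃ c : (AlgSp.yon S).obj T ⟶ P, c ≫ iP = (AlgSp.yon S).map jT ≫ c' ∧
      c ≫ p = (AlgSp.yon S).map τ ≫ q ∧ IsPullback ((AlgSp.yon S).map jT) c c' iP := by
  have hw : ((AlgSp.yon S).map jT ≫ c') ≫ p' = ((AlgSp.yon S).map τ ≫ q) ≫ iB := by
    rw [Category.assoc, hc', ← Category.assoc, ← Functor.map_comp, hT.w, Functor.map_comp,
      Category.assoc, Category.assoc, hW.w]
  refine ⟨hP.lift _ _ hw, hP.lift_fst _ _ hw, hP.lift_snd _ _ hw, ?_⟩
  have big : IsPullback ((AlgSp.yon S).map τ ≫ q) ((AlgSp.yon S).map jT) iB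
      ((AlgSp.yon S).map τ' ≫ q') := (hT.map (AlgSp.yon S)).flip.paste_horiz hW
  have := IsPullback.of_right (h₁₁ := hP.lift _ _ hw) (h₁₂ := p) (v₁₁ := (AlgSp.yon S).map jT)
    (v₁₂ := iP) (v₁₃ := iB) (h₂₁ := c') (h₂₂ := p') (by rw [hP.lift_snd, hc']; exact big)
    (hP.lift_fst _ _ hw) hP.flip
  exact this.flip

/-- Chart data for a deformation situation. -/
structure Charts {X X' Y Y' B B' : AlgSp.Space S} (iX : X ⟶ X') (iY : Y ⟶ Y') (iB : B ⟶ B')
    (f : X ⟶ Y) (f' : X' ⟶ Y') (g : Y ⟶ B) (g' : Y' ⟶ B') where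
  (U U' V V' W W' : Over S)
  a : (AlgSp.yon S).obj U ⟶ X.obj
  a' : (AlgSp.yon S).obj U' ⟶ X'.obj
  b : (AlgSp.yon S).obj V ⟶ Y.obj
  b' : (AlgSp.yon S).obj V' ⟶ Y'.obj
  q : (AlgSp.yon S).obj W ⟶ B.obj
  q' : (AlgSp.yon S).obj W' ⟶ B'.obj
  jU : U ⟶ U'
  jV : V ⟶ V'
  jW : W ⟶ W'
  φ : U ⟶ V
  φ' : U' ⟶ V'
  γ : V ⟶ W
  γ' : V' ⟶ W'
  hae : AlgSp.RepWith @Etale a
  has : AlgSp.RepWith @Surjective a
  ha'e : AlgSp.RepWith @Etale a'
  ha's : AlgSp.RepWith @Surjective a'
  hbe : AlgSp.RepWith @Etale b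
  hbs : AlgSp.RepWith @Surjective b
  hb'e : AlgSp.RepWith @Etale b'
  hb's : AlgSp.RepWith @Surjective b'
  hqe : AlgSp.RepWith @Etale q
  hqs : AlgSp.RepWith @Surjective q
  hq'e : AlgSp.RepWith @Etale q'
  hq's : AlgSp.RepWith @Surjective q'
  hac : a ≫ f.hom = (AlgSp.yon S).map φ ≫ b
  hbc : b ≫ g.hom = (AlgSp.yon S).map γ ≫ q
  ha'c : a' ≫ f'.hom = (AlgSp.yon S).map φ' ≫ b'
  hb'c : b' ≫ g'.hom = (AlgSp.yon S).map γ' ≫ q'
  hU : IsPullback jU.left (φ.left ≫ γ.left) (φ'.left ≫ γ'.left) jW.left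
  hV : IsPullback jV.left γ.left γ'.left jW.left
  hw : jU.left ≫ φ'.left = φ.left ≫ jV.left
  hW : IsPullback q ((AlgSp.yon S).map jW) iB.hom q'
  hthick : AlgSp.thick jW.left
  hXU : IsPullback ((AlgSp.yon S).map jU) a a' iX.hom
  hYV : IsPullback ((AlgSp.yon S).map jV) b b' iY.hom
  hfib' : ∀ (x : AlgSp.Points X'.obj) (v : ↥V'.left),
        AlgSp.Points.map f'.hom x = AlgSp.Points.ofPt b' v →
          ∃ u : ↥U'.left, AlgSp.Points.ofPt a' u = x ∧ φ'.left u = v

theorem exists_deformCharts {X X' Y Y' B B' : AlgSp.Space S} (iX : X ⟶ X') (iY : Y ⟶ Y') (iB : B ⟶ B')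
    (f : X ⟶ Y) (f' : X' ⟶ Y') (g : Y ⟶ B) (g' : Y' ⟶ B')
    (hcX : IsPullback iX.hom (f ≫ g).hom (f' ≫ g').hom iB.hom) (hcY : IsPullback iY.hom g.hom g'.hom iB.hom)
    (w : iX ≫ f' = f ≫ iY) (hB : AlgSp.IsThickMor iB.hom) :
    Nonempty (Charts iX iY iB f f' g g') := by
  obtain ⟨W', q', hq'e, hq's⟩ := B'.property.atlas
  obtain ⟨V', b', γ', hb'e, hb'c, -, hb's⟩ := Charts.exists_chart_cover g' q' hq'e
  obtain ⟨U', a', φ', ha'e, ha'c, hfib', ha's⟩ := Charts.exists_chart_cover f' b' hb'e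
  have hb's' := hb's hq's
  have ha's' := ha's hb's'
  obtain ⟨W, jW, q, hW⟩ := hB.1 q'
  have hthick : AlgSp.thick jW.left := hB.2 _ q jW hW
  have hqe : AlgSp.RepWith @Etale q := MorphismProperty.of_isPullback (P := AlgSp.RepWith @Etale) hW.flip hq'e
  have hqs : AlgSp.RepWith @Surjective q :=
    MorphismProperty.of_isPullback (P := AlgSp.RepWith @Surjective) hW.flip hq's
  -- `V`
  have pbV := IsPullback.of_hasPullback γ' jW
  obtain ⟨b, hb1, hb2, hYV⟩ := exists_chart_pullback iB.hom iY.hom g.hom g'.hom hcY q q' jW hW b' γ' hb'c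
    (pullback.fst γ' jW) (pullback.snd γ' jW) pbV
  have hbe : AlgSp.RepWith @Etale b := MorphismProperty.of_isPullback (P := AlgSp.RepWith @Etale) hYV hb'e
  have hbs : AlgSp.RepWith @Surjective b :=
    MorphismProperty.of_isPullback (P := AlgSp.RepWith @Surjective) hYV hb's'
  -- `U`
  have ha'c' : a' ≫ (f' ≫ g').hom = (AlgSp.yon S).map (φ' ≫ γ') ≫ q' := by
    rw [Functor.map_comp, Category.assoc, ← hb'c, ← Category.assoc, ← ha'c, Category.assoc]
    rfl
  have pbU := IsPullback.of_hasPullback (φ' ≫ γ') jW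
  obtain ⟨a, ha1, ha2, hXU⟩ := exists_chart_pullback iB.hom iX.hom (f ≫ g).hom (f' ≫ g').hom hcX q q' jW hW
    a' (φ' ≫ γ') ha'c' (pullback.fst (φ' ≫ γ') jW) (pullback.snd (φ' ≫ γ') jW) pbU
  have hae : AlgSp.RepWith @Etale a := MorphismProperty.of_isPullback (P := AlgSp.RepWith @Etale) hXU ha'e
  have has : AlgSp.RepWith @Surjective a :=
    MorphismProperty.of_isPullback (P := AlgSp.RepWith @Surjective) hXU ha's'
  have hwφ : (pullback.fst (φ' ≫ γ') jW ≫ φ') ≫ γ' = pullback.snd (φ' ≫ γ') jW ≫ jW := by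
    rw [Category.assoc]
    exact pbU.w
  let φ : pullback (φ' ≫ γ') jW ⟶ pullback γ' jW :=
    pullback.lift (pullback.fst (φ' ≫ γ') jW ≫ φ') (pullback.snd (φ' ≫ γ') jW) hwφ
  have hφ1 : φ ≫ pullback.fst γ' jW = pullback.fst (φ' ≫ γ') jW ≫ φ' := pullback.lift_fst _ _ _
  have hφ2 : φ ≫ pullback.snd γ' jW = pullback.snd (φ' ≫ γ') jW := pullback.lift_snd _ _ _
  have hac : a ≫ f.hom = (AlgSp.yon S).map φ ≫ b := by
    apply hcY.hom_ext
    · have hw' : iX.hom ≫ f'.hom = f.hom ≫ iY.hom := congrArg (fun m => m.hom) w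
      rw [Category.assoc, ← hw', ← Category.assoc, ha1, Category.assoc, ha'c, Category.assoc, hb1,
        ← Category.assoc, ← Category.assoc, ← Functor.map_comp, ← Functor.map_comp, hφ1]
    · have : a ≫ f.hom ≫ g.hom = a ≫ (f ≫ g).hom := rfl
      rw [Category.assoc, this, ha2, Category.assoc, hb2, ← Category.assoc, ← Functor.map_comp, hφ2]
  refine ⟨{
    U := pullback (φ' ≫ γ') jW, U' := U', V := pullback γ' jW, V' := V', W := W, W' := W'
    a := a, a' := a', b := b, b' := b', q := q, q' := q'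
    jU := pullback.fst (φ' ≫ γ') jW, jV := pullback.fst γ' jW, jW := jW
    φ := φ, φ' := φ', γ := pullback.snd γ' jW, γ' := γ'
    hae := hae, has := has, ha'e := ha'e, ha's := ha's', hbe := hbe, hbs := hbs, hb'e := hb'e, hb's := hb's'
    hqe := hqe, hqs := hqs, hq'e := hq'e, hq's := hq's
    hac := hac, hbc := hb2, ha'c := ha'c, hb'c := hb'c
    hU := ?_, hV := pbV.map (Over.forget S), hw := ?_, hW := hW, hthick := hthick, hXU := hXU, hYV := hYV
    hfib' := hfib' }⟩
  · have h1 := pbU.map (Over.forget S)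
    have e : φ.left ≫ (pullback.snd γ' jW).left = (pullback.snd (φ' ≫ γ') jW).left := by
      rw [← Over.comp_left, hφ2]
    rw [e]
    exact h1
  · rw [← Over.comp_left, ← Over.comp_left, hφ1]

end Groth.Agent.Lib.Seat47.DeformChart
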