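import Mathlib
import Groth.Agent.Lib.Seat47DeformChart
import Groth.Agent.Lib.Helper5FiberMor
import Groth.Agent.S9947

/-!
# Flatness in deformation situations of algebraic spaces: common steps (seat 47)
-/

set_option autoImplicit false
universe u
open CategoryTheory CategoryTheory.Limits AlgebraicGeometry

namespace Groth.Agent.Lib.Seat47.DeformFlat

open Groth.Agent.Lib.Seat47

variable {S : Scheme.{u}}

theorem flat_cases : (@Flat : MorphismProperty Scheme.{u}) = @LocallyOfFiniteType ∨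
      (@Flat : MorphismProperty Scheme.{u}) = @LocallyOfFinitePresentation ∨
      (@Flat : MorphismProperty Scheme.{u}) = @Flat ∨ (@Flat : MorphismProperty Scheme.{u}) = @Smooth ∨
      (@Flat : MorphismProperty Scheme.{u}) = @Etale ∨
      (∀ ⦃A B : Scheme.{u}⦄ (g : A ⟶ B), Flat g ↔ (LocallyQuasiFinite g ∧ LocallyOfFiniteType g)) ∨
      (∀ ⦃A B : Scheme.{u}⦄ (g : A ⟶ B), Flat g ↔ (LocallyOfFiniteType g ∧ FormallyUnramified g)) :=
  Or.inr (Or.inr (Or.inl rfl))

/-- if `f'` and `f' ≫ g'` are flat, then `g'` is flat at every point of the image of `f'`. -/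
theorem isFlatAtMor_of_locP_flat {X' Y' B' : AlgSp.Space S} (f' : X' ⟶ Y') (g' : Y' ⟶ B')
    (hf' : AlgSp.LocP @Flat f'.hom) (hflat : AlgSp.LocP @Flat (f' ≫ g').hom)
    (x' : AlgSp.Points X'.obj) : AlgSp.IsFlatAtMor g'.hom (AlgSp.Points.map f'.hom x') := by
  intro U₂ V₂ a₂ b₂ h₂ u₂ ha₂ hb₂ hc hpt
  obtain ⟨U, a, k, hae, hac, hfib, -⟩ := Charts.exists_chart_cover f' a₂ ha₂
  obtain ⟨u, -, hu2⟩ := hfib x' u₂ hpt.symm
  haveI : Flat k.left := hf' a a₂ k hae ha₂ hac
  haveI : Flat (k.left ≫ h₂.left) := by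
    refine hflat a b₂ (k ≫ h₂) hae hb₂ ?_
    rw [Functor.map_comp, Category.assoc, ← hc, ← Category.assoc, ← hac, Category.assoc]
    rfl
  have := Groth.Agent.Lib.Helper5.FiberMor.flat_of_comp k.left h₂.left u
    (Flat.stalkMap (k.left ≫ h₂.left) u) (Flat.stalkMap k.left u)
  rw [hu2] at this
  exact this

end Groth.Agent.Lib.Seat47.DeformFlat
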