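import Mathlib
import Groth.Agent.Lib.Seat47DeformFlat
import Groth.Agent.Lib.Seat45ChartsMor
import Groth.Agent.Lib.Helper3FibDimEt
import Groth.Agent.Lib.Helper3LocDimBC
import Groth.Agent.Lib.Helper12SrcLocal
import Groth.Agent.S10554

/-!
# Reading local properties of a deformation situation on its charts (seat 47)
-/

set_option autoImplicit false
universe u
open CategoryTheory CategoryTheory.Limits AlgebraicGeometry

namespace Groth.Agent.Lib.Seat47.DeformLocal

open Groth.Agent.Lib.Seat47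

variable {S : Scheme.{u}}

/-- the hypothesis on `P` of the one-chart criterion `S9947` -/
abbrev Cases (P : MorphismProperty Scheme.{u}) : Prop :=
  P = @LocallyOfFiniteType ∨ P = @LocallyOfFinitePresentation ∨ P = @Flat ∨ P = @Smooth ∨ P = @Etale ∨
    (∀ ⦃A B : Scheme.{u}⦄ (g : A ⟶ B), P g ↔ (LocallyQuasiFinite g ∧ LocallyOfFiniteType g)) ∨
    (∀ ⦃A B : Scheme.{u}⦄ (g : A ⟶ B), P g ↔ (LocallyOfFiniteType g ∧ FormallyUnramified g))

theorem cases_lft : Cases (@LocallyOfFiniteType : MorphismProperty Scheme.{u}) := Or.inl rfl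
theorem cases_lfp : Cases (@LocallyOfFinitePresentation : MorphismProperty Scheme.{u}) := Or.inr (Or.inl rfl)
theorem cases_flat : Cases (@Flat : MorphismProperty Scheme.{u}) := Or.inr (Or.inr (Or.inl rfl))
theorem cases_smooth : Cases (@Smooth : MorphismProperty Scheme.{u}) :=
  Or.inr (Or.inr (Or.inr (Or.inl rfl)))
theorem cases_etale : Cases (@Etale : MorphismProperty Scheme.{u}) :=
  Or.inr (Or.inr (Or.inr (Or.inr (Or.inl rfl))))
theorem cases_lqf : Cases (@LocallyQuasiFinite ⊓ @LocallyOfFiniteType : MorphismProperty Scheme.{u}) :=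
  Or.inr (Or.inr (Or.inr (Or.inr (Or.inr (Or.inl fun _ _ _ => Iff.rfl)))))
theorem cases_unram : Cases (@LocallyOfFiniteType ⊓ @FormallyUnramified : MorphismProperty Scheme.{u}) :=
  Or.inr (Or.inr (Or.inr (Or.inr (Or.inr (Or.inr fun _ _ _ => Iff.rfl)))))

/-- one-chart reading of `LocP P` -/
theorem locP_iff_of_chart (P : MorphismProperty Scheme.{u}) (hP : Cases P) {X Y : AlgSp.Space S} (f : X ⟶ Y)
    {U V : Over S} (a : (AlgSp.yon S).obj U ⟶ X.obj) (b : (AlgSp.yon S).obj V ⟶ Y.obj) (h : U ⟶ V)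
    (ha : AlgSp.RepWith @Etale a) (has : AlgSp.RepWith @Surjective a) (hb : AlgSp.RepWith @Etale b)
    (comm : a ≫ f.hom = (AlgSp.yon S).map h ≫ b) : AlgSp.LocP P f.hom ↔ P h.left :=
  ⟨fun hf => hf a b h ha hb comm, fun hh => Groth.Agent.S9947.result P hP f a b h ha has hb comm hh⟩

/-- one-chart reading of étaleness -/
theorem isEtaleMor_iff_of_chart {X Y : AlgSp.Space S} (f : X ⟶ Y)
    {U V : Over S} (a : (AlgSp.yon S).obj U ⟶ X.obj) (b : (AlgSp.yon S).obj V ⟶ Y.obj) (h : U ⟶ V)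
    (ha : AlgSp.RepWith @Etale a) (has : AlgSp.RepWith @Surjective a) (hb : AlgSp.RepWith @Etale b)
    (comm : a ≫ f.hom = (AlgSp.yon S).map h ≫ b) : AlgSp.IsEtaleMor f.hom ↔ Etale h.left := by
  rw [← locP_iff_of_chart @Etale cases_etale f a b h ha has hb comm]
  exact ⟨Groth.Agent.Lib.Helper12.SrcLocal.locP_etale_of_isEtaleMor f.hom,
    Groth.Agent.S10554.isEtaleMor_of_locP Y.property f.hom⟩

/-- one-chart reading of "relative dimension `d` at every point" -/
theorem forall_hasAtMor_fibreDim_iff_of_chart {X Y : AlgSp.Space S} (f : X ⟶ Y)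
    {U V : Over S} (a : (AlgSp.yon S).obj U ⟶ X.obj) (b : (AlgSp.yon S).obj V ⟶ Y.obj) (h : U ⟶ V)
    (ha : AlgSp.RepWith @Etale a) (has : AlgSp.RepWith @Surjective a) (hb : AlgSp.RepWith @Etale b)
    (comm : a ≫ f.hom = (AlgSp.yon S).map h ≫ b) (d : WithBot ℕ∞) :
    (∀ x, AlgSp.HasAtMor (fun _ _ h u => FlatMor.fibreDimAt h u = d) f.hom x) ↔
      ∀ u : ↥U.left, FlatMor.fibreDimAt h.left u = d := by
  have key : ∀ u : ↥U.left,
      AlgSp.HasAtMor (fun _ _ h u => FlatMor.fibreDimAt h u = d) f.hom (AlgSp.Points.ofPt a u) ↔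
        FlatMor.fibreDimAt h.left u = d :=
    fun u => Groth.Agent.Lib.Seat45.ChartsMor.hasAtMor_ofPt_iff
      (fun _ _ h u => FlatMor.fibreDimAt h u = d)
      (fun h h' a b _ _ comm u' => by
        rw [Groth.Agent.Lib.Helper3.FibDimEt.fibreDimAt_eq_of_etale_square h h' a b comm u'])
      X.property Y.property f.hom a b h ha hb comm u
  constructor
  · intro H u
    exact (key u).1 (H _)
  · intro H x
    obtain ⟨u, rfl⟩ := Groth.Agent.S10177.surjective_ofPt a has x
    exact (key u).2 (H u)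

section
variable {X X' Y Y' B B' : AlgSp.Space S} {iX : X ⟶ X'} {iY : Y ⟶ Y'} {iB : B ⟶ B'}
  {f : X ⟶ Y} {f' : X' ⟶ Y'} {g : Y ⟶ B} {g' : Y' ⟶ B'} (D : DeformChart.Charts iX iY iB f f' g g')

theorem locP_iff (P : MorphismProperty Scheme.{u}) (hP : Cases P) : AlgSp.LocP P f.hom ↔ P D.φ.left :=
  locP_iff_of_chart P hP f D.a D.b D.φ D.hae D.has D.hbe D.hac

theorem locP_iff' (P : MorphismProperty Scheme.{u}) (hP : Cases P) : AlgSp.LocP P f'.hom ↔ P D.φ'.left :=
  locP_iff_of_chart P hP f' D.a' D.b' D.φ' D.ha'e D.ha's D.hb'e D.ha'c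

theorem comp_comm' : D.a' ≫ (f' ≫ g').hom = (AlgSp.yon S).map (D.φ' ≫ D.γ') ≫ D.q' := by
  rw [Functor.map_comp, Category.assoc, ← D.hb'c, ← Category.assoc, ← D.ha'c, Category.assoc]
  rfl

theorem isPullback_top : IsPullback D.jU.left D.φ.left D.φ'.left D.jV.left :=
  IsPullback.of_bot D.hU D.hw D.hV

theorem thick_jV : MoreMor.IsThickening D.jV.left :=
  ⟨MorphismProperty.of_isPullback (P := @IsClosedImmersion) D.hV.flip D.hthick.1,
    MorphismProperty.of_isPullback (P := @Surjective) D.hV.flip D.hthick.2⟩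

theorem surjective_jU : Function.Surjective D.jU.left :=
  (MorphismProperty.of_isPullback (P := @Surjective) D.hU.flip D.hthick.2).surj

/-- relative dimension `d` everywhere can be read on either row of the chart diagram -/
theorem fibreDim_iff [LocallyOfFiniteType D.φ'.left] (d : WithBot ℕ∞) :
    (∀ u : ↥D.U.left, FlatMor.fibreDimAt D.φ.left u = d) ↔
      ∀ u' : ↥D.U'.left, FlatMor.fibreDimAt D.φ'.left u' = d := by
  have key : ∀ u : ↥D.U.left, FlatMor.fibreDimAt D.φ.left u = FlatMor.fibreDimAt D.φ'.left (D.jU.left u) :=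
    fun u => Groth.Agent.Lib.Helper3.LocDimBC.fibreDimAt_eq_of_isPullback D.φ'.left D.jV.left D.jU.left
      D.φ.left (isPullback_top D) u
  constructor
  · intro H u'
    obtain ⟨u, rfl⟩ := surjective_jU D u'
    rw [← key]
    exact H u
  · intro H u
    rw [key]
    exact H _

end

end Groth.Agent.Lib.Seat47.DeformLocal
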