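import Mathlib

/-!
# Reducedness near a reduced Cartier fibre (seat 47), algebra

Let `A` be a Noetherian ring, `π ∈ A` a nonzerodivisor with `A ⧸ (π)` reduced. Then every prime `p`
containing `π` has an element `g ∉ p` killing the nilradical, and all localizations at primes not
containing such a `g` are reduced.
-/

set_option autoImplicit false
universe u

namespace Groth.Agent.Lib.Seat47.DvrRedAlg

variable {A : Type*} [CommRing A]

/-- the nilradical is `π`-divisible. -/
theorem nilradical_le_smul (π : A) (hπ : ∀ x : A, π * x = 0 → x = 0)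
    (hred : IsReduced (A ⧸ Ideal.span {π})) :
    nilradical A ≤ Ideal.span {π} * nilradical A := by
  intro a ha
  have h1 : Ideal.Quotient.mk (Ideal.span {π}) a = 0 := by
    have : IsNilpotent (Ideal.Quotient.mk (Ideal.span {π}) a) :=
      IsNilpotent.map (mem_nilradical.1 ha) (Ideal.Quotient.mk (Ideal.span {π}))
    exact this.eq_zero
  rw [Ideal.Quotient.eq_zero_iff_mem, Ideal.mem_span_singleton] at h1
  obtain ⟨a₁, rfl⟩ := h1
  obtain ⟨n, hn⟩ := mem_nilradical.1 ha
  have h2 : a₁ ^ n = 0 := by
    rw [mul_pow] at hn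
    have : ∀ (m : ℕ) (z : A), π ^ m * z = 0 → z = 0 := by
      intro m
      induction m with
      | zero => intro z h; simpa using h
      | succ j ihj =>
        intro z h
        apply ihj
        apply hπ
        rw [← mul_assoc, ← pow_succ']
        exact h
    exact this _ _ hn
  exact Ideal.mul_mem_mul (Ideal.mem_span_singleton_self π) ⟨n, h2⟩

/-- an element outside `p` killing the nilradical. -/
theorem exists_smul_nilradical_eq_zero [IsNoetherianRing A] (π : A)
    (hπ : ∀ x : A, π * x = 0 → x = 0) (hred : IsReduced (A ⧸ Ideal.span {π}))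
    (p : Ideal A) [p.IsPrime] (hp : π ∈ p) :
    ∃ g : A, g ∉ p ∧ ∀ x ∈ nilradical A, g * x = 0 := by
  have hfg : (nilradical A).FG := IsNoetherian.noetherian _
  have hle : nilradical A ≤ p • nilradical A := by
    refine (nilradical_le_smul π hπ hred).trans ?_
    rw [smul_eq_mul]
    exact Ideal.mul_mono_left ((Ideal.span_singleton_le_iff_mem _).2 hp)
  -- Nakayama: some `1 + r`, `r ∈ p`, kills the nilradical
  obtain ⟨r, hr, hkill⟩ := Submodule.exists_sub_one_mem_and_smul_eq_zero_of_fg_of_le_smul
    p (nilradical A) hfg hle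
  refine ⟨r, ?_, fun x hx => ?_⟩
  · intro hrp
    have : (1 : A) ∈ p := by
      have := p.sub_mem hrp hr
      simpa using this
    exact (Ideal.IsPrime.ne_top ‹_›) ((Ideal.eq_top_iff_one _).2 this)
  · exact hkill x hx

/-- localizations at primes not containing an element that kills the nilradical are reduced. -/
theorem isReduced_of_isLocalization_atPrime (g : A) (hg : ∀ x ∈ nilradical A, g * x = 0)
    (q : Ideal A) [q.IsPrime] (hq : g ∉ q) (B : Type*) [CommRing B] [Algebra A B]
    [IsLocalization.AtPrime B q] : IsReduced B := by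
  constructor
  intro y hy
  obtain ⟨x, s, rfl⟩ := IsLocalization.exists_mk'_eq q.primeCompl y
  obtain ⟨n, hn⟩ := hy
  rw [← IsLocalization.mk'_pow, IsLocalization.mk'_eq_zero_iff] at hn
  obtain ⟨t, ht⟩ := hn
  have h1 : ((t : A) * x) ^ (n + 1) = 0 := by
    calc ((t : A) * x) ^ (n + 1) = (t : A) ^ n * x * ((t : A) * x ^ n) := by ring
      _ = 0 := by rw [ht, mul_zero]
  have h2 : g * (t * x) = 0 := hg _ ⟨_, h1⟩
  rw [IsLocalization.mk'_eq_zero_iff]
  refine ⟨⟨g * t, ?_⟩, ?_⟩
  · exact q.primeCompl.mul_mem hq t.2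
  · change g * t * x = 0
    rw [mul_assoc]; exact h2

end Groth.Agent.Lib.Seat47.DvrRedAlg
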