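import Mathlib
import Groth.Agent.Lib.Seat47DvrRedAlg

/-!
# Reducedness near a reduced special fibre over a DVR (seat 47), schemes

`f : V ⟶ Spec R` flat and locally of finite type over a discrete valuation ring, with reduced special
fibre.  Every point of the special fibre has an open neighbourhood all of whose stalks are reduced.
-/

set_option autoImplicit false
universe u
open CategoryTheory CategoryTheory.Limits AlgebraicGeometry TensorProduct

namespace Groth.Agent.Lib.Seat47.DvrRedSch

/-- ring-level statement: `R → A` flat, `A` Noetherian, `A ⊗_R κ` reduced. -/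
theorem exists_kill_nilradical (R : Type u) [CommRing R] [IsDomain R] [IsDiscreteValuationRing R]
    (A : Type u) [CommRing A] [Algebra R A] [Module.Flat R A] [IsNoetherianRing A]
    (hred : _root_.IsReduced (A ⊗[R] IsLocalRing.ResidueField R))
    (p : Ideal A) [p.IsPrime] (hp : (IsLocalRing.maximalIdeal R).map (algebraMap R A) ≤ p) :
    ∃ g : A, g ∉ p ∧ ∀ x ∈ nilradical A, g * x = 0 := by
  obtain ⟨ϖ, hϖ⟩ := IsDiscreteValuationRing.exists_irreducible R
  have hm : IsLocalRing.maximalIdeal R = Ideal.span {ϖ} := hϖ.maximalIdeal_eq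
  have hmap : (IsLocalRing.maximalIdeal R).map (algebraMap R A) = Ideal.span {algebraMap R A ϖ} := by
    rw [hm, Ideal.map_span, Set.image_singleton]
  refine Groth.Agent.Lib.Seat47.DvrRedAlg.exists_smul_nilradical_eq_zero (algebraMap R A ϖ) ?_ ?_ p ?_
  · intro x hx
    have hreg : IsSMulRegular A ϖ :=
      Module.Flat.isSMulRegular_of_nonZeroDivisors (mem_nonZeroDivisors_of_ne_zero hϖ.ne_zero)
    apply hreg
    simp only [smul_zero]
    rw [Algebra.smul_def]
    exact hx
  · rw [← hmap]
    let e := Algebra.TensorProduct.quotIdealMapEquivTensorQuot A (IsLocalRing.maximalIdeal R)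
    haveI : _root_.IsReduced (A ⊗[R] (R ⧸ IsLocalRing.maximalIdeal R)) := hred
    exact isReduced_of_injective e.toRingEquiv.toRingHom e.injective
  · apply hp
    rw [hmap]
    exact Ideal.mem_span_singleton_self _

/-- Every point of a reduced special fibre of a flat, locally of finite type scheme over a discrete valuation
ring has an open neighbourhood with reduced stalks. -/
theorem exists_open_isReduced_stalk (R : Type u) [CommRing R] [IsDomain R] [IsDiscreteValuationRing R]
    {V : Scheme.{u}} (f : V ⟶ Spec (CommRingCat.of R)) [Flat f] [LocallyOfFiniteType f]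
    [IsReduced (pullback f (Spec.map (CommRingCat.ofHom (IsLocalRing.residue R))))]
    (v : V) (hv : f v = IsLocalRing.closedPoint R) :
    ∃ N : V.Opens, v ∈ N ∧ ∀ w ∈ N, _root_.IsReduced (V.presheaf.stalk w) := by
  haveI : IsLocallyNoetherian V := LocallyOfFiniteType.isLocallyNoetherian f
  obtain ⟨_, ⟨V', hV', rfl⟩, hvV', -⟩ :=
    V.isBasis_affineOpens.exists_subset_of_mem_open (Set.mem_univ v) isOpen_univ
  haveI : IsNoetherianRing Γ(V, V') := IsLocallyNoetherian.component_noetherian ⟨V', hV'⟩
  let φ : CommRingCat.of R ⟶ Γ(V, V') :=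
    (Scheme.ΓSpecIso (CommRingCat.of R)).inv ≫ f.appLE ⊤ V' le_top
  have hcomp : hV'.fromSpec ≫ f = Spec.map φ := by
    rw [Spec.map_comp, ← IsAffineOpen.SpecMap_appLE_fromSpec f (isAffineOpen_top _) hV' le_top,
      IsAffineOpen.fromSpec_top, Scheme.isoSpec_Spec_inv]
  letI : Algebra R Γ(V, V') := φ.hom.toAlgebra
  have hφ : φ = CommRingCat.ofHom (algebraMap R Γ(V, V')) := rfl
  haveI : Flat (Spec.map φ) := hcomp ▸ inferInstance
  haveI : Module.Flat R Γ(V, V') := by
    have := (Flat.SpecMap_iff (f := φ)).1 inferInstance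
    exact this
  -- the special fibre of the affine piece is reduced
  have hred : _root_.IsReduced (Γ(V, V') ⊗[R] IsLocalRing.ResidueField R) := by
    let g := Spec.map (CommRingCat.ofHom (IsLocalRing.residue R))
    haveI : IsReduced (pullback hV'.fromSpec (pullback.fst f g)) :=
      isReduced_of_isOpenImmersion (pullback.snd hV'.fromSpec (pullback.fst f g))
    haveI : IsReduced (pullback (hV'.fromSpec ≫ f) g) :=
      isReduced_of_isOpenImmersion (pullbackRightPullbackFstIso f g hV'.fromSpec).inv
    haveI : IsReduced (pullback (Spec.map (CommRingCat.ofHom (algebraMap R ↑Γ(V, V'))))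
        (Spec.map (CommRingCat.ofHom (algebraMap R (IsLocalRing.ResidueField R))))) := by
      change IsReduced (pullback (Spec.map φ) g)
      rw [← hcomp]; infer_instance
    haveI : IsReduced (Spec (CommRingCat.of (Γ(V, V') ⊗[R] IsLocalRing.ResidueField R))) :=
      isReduced_of_isOpenImmersion (pullbackSpecIso R Γ(V, V') (IsLocalRing.ResidueField R)).inv
    exact (affine_isReduced_iff (CommRingCat.of (Γ(V, V') ⊗[R] IsLocalRing.ResidueField R))).1
      inferInstance
  let p := hV'.primeIdealOf ⟨v, hvV'⟩
  have hpv : hV'.fromSpec p = v := hV'.fromSpec_primeIdealOf ⟨v, hvV'⟩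
  have hp : (IsLocalRing.maximalIdeal R).map (algebraMap R Γ(V, V')) ≤ p.asIdeal := by
    rw [Ideal.map_le_iff_le_comap]
    have h1 : Spec.map φ p = IsLocalRing.closedPoint R := by
      rw [← hcomp, Scheme.Hom.comp_apply, hpv, hv]
    have h2 : (Spec.map φ p).asIdeal = (IsLocalRing.closedPoint R).asIdeal := by rw [h1]
    intro r hr
    have : r ∈ (Spec.map φ p).asIdeal := by rw [h2]; exact hr
    exact this
  obtain ⟨g, hgp, hg⟩ := exists_kill_nilradical R Γ(V, V') hred p.asIdeal hp
  refine ⟨V.basicOpen g, ?_, ?_⟩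
  · have : p ∈ hV'.fromSpec ⁻¹ᵁ V.basicOpen g := by
      rw [hV'.fromSpec_preimage_basicOpen]
      exact hgp
    rw [← hpv]
    exact this
  · intro w hw
    have hwV' : w ∈ V' := V.basicOpen_le g hw
    let q := hV'.primeIdealOf ⟨w, hwV'⟩
    have hqw : hV'.fromSpec q = w := hV'.fromSpec_primeIdealOf ⟨w, hwV'⟩
    have hgq : g ∉ q.asIdeal := by
      have : q ∈ hV'.fromSpec ⁻¹ᵁ V.basicOpen g := by
        change hV'.fromSpec q ∈ V.basicOpen g
        rw [hqw]; exact hw
      rw [hV'.fromSpec_preimage_basicOpen] at this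
      exact this
    letI := V.presheaf.algebra_section_stalk ⟨w, hwV'⟩
    haveI := hV'.isLocalization_stalk ⟨w, hwV'⟩
    exact Groth.Agent.Lib.Seat47.DvrRedAlg.isReduced_of_isLocalization_atPrime g hg q.asIdeal hgq
      (V.presheaf.stalk w)

end Groth.Agent.Lib.Seat47.DvrRedSch
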