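import Groth.Agent.S10561
import Groth.Agent.S9874
import Groth.Agent.Lib.Helper15PtsTop
import Groth.Agent.Lib.Helper15SmLoc
import Groth.Agent.Lib.Helper15LocEss
import Groth.Prelude.Def_AlgSpDec

/-!
# Seat47: geometrically reduced fibres of a morphism of algebraic spaces at a point

Helper lemmas on field-valued points (`toHom` of a restricted field point, change of
representative through a common field extension) and the descent step: the fibre over a field
`k'` is reduced as soon as the fibre over a bigger field is.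
-/

set_option autoImplicit false
universe u
open CategoryTheory CategoryTheory.Limits AlgebraicGeometry Opposite

namespace Groth.Agent.Lib.Seat47.GeomRedFibre

variable {S : Scheme.{u}}

/-- `h_g ≫ p.toHom` is the morphism defined by the restricted section. -/
theorem yon_map_comp_toHom {F : AlgSp.Sp S} (p : AlgSp.FieldPt F) {Y : Over S} (g : Y ⟶ p.pt) :
    (AlgSp.yon S).map g ≫ p.toHom = (AlgSp.J S).uliftYonedaEquiv.symm (F.obj.map g.op p.val) := by
  apply (AlgSp.J S).uliftYonedaEquiv.injective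
  rw [GrothendieckTopology.uliftYonedaEquiv_comp,
    GrothendieckTopology.uliftYonedaEquiv_uliftYoneda_map, Equiv.apply_symm_apply]
  exact AlgSp.FieldPt.toHom_app p g

/-- the field point obtained by restricting `k` along a field extension `φ`. -/
noncomputable def ext {F : AlgSp.Sp S} (k : AlgSp.FieldPt F) {k' : Type u} [Field k'] (φ : k.K →+* k') :
    AlgSp.FieldPt F where
  K := k'
  str := Spec.map (CommRingCat.ofHom φ) ≫ k.str
  val := F.obj.map (Over.homMk (Spec.map (CommRingCat.ofHom φ)) rfl :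
    Over.mk (Spec.map (CommRingCat.ofHom φ) ≫ k.str) ⟶ k.pt).op k.val

theorem ext_toHom {F : AlgSp.Sp S} (k : AlgSp.FieldPt F) {k' : Type u} [Field k']
    (φ : k.K →+* k') :
    (ext k φ).toHom = (AlgSp.yon S).map (Over.homMk (Spec.map (CommRingCat.ofHom φ)) rfl :
      Over.mk (Spec.map (CommRingCat.ofHom φ) ≫ k.str) ⟶ k.pt) ≫ k.toHom := by
  rw [yon_map_comp_toHom]
  rfl

theorem mk_ext {F : AlgSp.Sp S} (k : AlgSp.FieldPt F) {k' : Type u} [Field k']
    (φ : k.K →+* k') : AlgSp.Points.mk (ext k φ) = AlgSp.Points.mk k := by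
  refine AlgSp.Points.sound ⟨(ext k φ).K, inferInstance, (ext k φ).str, 𝟙 (ext k φ).pt,
    (Over.homMk (Spec.map (CommRingCat.ofHom φ)) rfl : (ext k φ).pt ⟶ k.pt), ?_⟩
  rw [op_id, Functor.map_id_apply]
  rfl

theorem isSurjectiveMor_yon_map {V W : Over S} (h : V ⟶ W) (hs : Function.Surjective h.left) :
    AlgSp.IsSurjectiveMor ((AlgSp.yon S).map h) := by
  intro x
  obtain ⟨v, hv⟩ := hs (AlgSp.Points.toScheme W x)
  refine ⟨AlgSp.Points.ofScheme V v, ?_⟩
  rw [Groth.Agent.Lib.Helper15LocEss.points_map_yon_ofScheme, hv, AlgSp.Points.ofScheme_toScheme]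

/-- change of representative and descent along a field extension: if all the fibres of `f` over
extensions of `k₀` are reduced and `k` is equivalent to `k₀`, then all the fibres over extensions of
`k` are reduced. -/
theorem reduced_of_rel {X Y : AlgSp.Space S} (f : X ⟶ Y) (k₀ k : AlgSp.FieldPt Y.obj)
    (hrel : AlgSp.FieldPt.Rel k₀ k)
    (h₀ : ∀ (k' : Type u) [Field k'] (φ : k₀.K →+* k') (Xk' : AlgSp.Sp S) (a : Xk' ⟶ X.obj)
      (b : Xk' ⟶ (AlgSp.yon S).obj (Over.mk (Spec.map (CommRingCat.ofHom φ) ≫ k₀.str))),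
      IsPullback a b f.hom ((AlgSp.yon S).map (Over.homMk (Spec.map (CommRingCat.ofHom φ)) rfl :
        Over.mk (Spec.map (CommRingCat.ofHom φ) ≫ k₀.str) ⟶ k₀.pt) ≫ k₀.toHom) →
      AlgSp.EtaleLocally (fun U => IsReduced U) Xk')
    (k' : Type u) [Field k'] (φ : k.K →+* k') (Xk' : AlgSp.Sp S) (a : Xk' ⟶ X.obj)
    (b : Xk' ⟶ (AlgSp.yon S).obj (Over.mk (Spec.map (CommRingCat.ofHom φ) ≫ k.str)))
    (sq : IsPullback a b f.hom ((AlgSp.yon S).map (Over.homMk (Spec.map (CommRingCat.ofHom φ)) rfl :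
      Over.mk (Spec.map (CommRingCat.ofHom φ) ≫ k.str) ⟶ k.pt) ≫ k.toHom)) :
    AlgSp.EtaleLocally (fun U => IsReduced U) Xk' := by
  obtain ⟨Ω, _, w, α, β, hαβ⟩ := hrel
  let ψ₀ : k₀.K →+* Ω := (Spec.preimage α.left).hom
  let ψ : k.K →+* Ω := (Spec.preimage β.left).hom
  have hψ₀ : Spec.map (CommRingCat.ofHom ψ₀) = α.left := Spec.map_preimage α.left
  have hψ : Spec.map (CommRingCat.ofHom ψ) = β.left := Spec.map_preimage β.left
  obtain ⟨Ω', _, i₁, i₂, hi⟩ := AlgSp.FieldPt.exists_amalgamation ψ φ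
  let φ₀ : k₀.K →+* Ω' := i₁.comp ψ₀
  have hα : α.left ≫ k₀.str = w := Over.w α
  have hβ : β.left ≫ k.str = w := Over.w β
  have e₀ : Spec.map (CommRingCat.ofHom φ₀) = Spec.map (CommRingCat.ofHom i₁) ≫ α.left := by
    rw [← hψ₀, ← Spec.map_comp]
    rfl
  have e₁ : Spec.map (CommRingCat.ofHom i₂) ≫ Spec.map (CommRingCat.ofHom φ) =
      Spec.map (CommRingCat.ofHom i₁) ≫ β.left := by
    rw [← hψ, ← Spec.map_comp, ← Spec.map_comp]
    congr 1
    exact CommRingCat.hom_ext hi.symm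
  let T₀ : Over S := Over.mk (Spec.map (CommRingCat.ofHom φ₀) ≫ k₀.str)
  let T : Over S := Over.mk (Spec.map (CommRingCat.ofHom φ) ≫ k.str)
  let γ : T₀ ⟶ T := Over.homMk (Spec.map (CommRingCat.ofHom i₂)) (by
    show Spec.map (CommRingCat.ofHom i₂) ≫ Spec.map (CommRingCat.ofHom φ) ≫ k.str =
      Spec.map (CommRingCat.ofHom φ₀) ≫ k₀.str
    rw [← Category.assoc, e₁, e₀, Category.assoc, Category.assoc, hα, hβ])
  let δ : T₀ ⟶ Over.mk w := Over.homMk (Spec.map (CommRingCat.ofHom i₁)) (by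
    show Spec.map (CommRingCat.ofHom i₁) ≫ w = Spec.map (CommRingCat.ofHom φ₀) ≫ k₀.str
    rw [e₀, Category.assoc, hα])
  let j₀ : T₀ ⟶ k₀.pt := Over.homMk (Spec.map (CommRingCat.ofHom φ₀)) rfl
  let j : T ⟶ k.pt := Over.homMk (Spec.map (CommRingCat.ofHom φ)) rfl
  have hγj : γ ≫ j = δ ≫ β := Over.OverMorphism.ext e₁
  have hj₀ : j₀ = δ ≫ α := Over.OverMorphism.ext e₀
  have hrel' : (AlgSp.yon S).map α ≫ k₀.toHom = (AlgSp.yon S).map β ≫ k.toHom := by
    rw [yon_map_comp_toHom, yon_map_comp_toHom, hαβ]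
  have hbot : (AlgSp.yon S).map γ ≫ (AlgSp.yon S).map j ≫ k.toHom =
      (AlgSp.yon S).map j₀ ≫ k₀.toHom := by
    rw [← Category.assoc, ← Functor.map_comp, hγj, Functor.map_comp, Category.assoc, ← hrel',
      ← Category.assoc, ← Functor.map_comp, ← hj₀]
  have sqP := IsPullback.of_hasPullback b ((AlgSp.yon S).map γ)
  have big : IsPullback (pullback.fst b ((AlgSp.yon S).map γ) ≫ a)
      (pullback.snd b ((AlgSp.yon S).map γ)) f.hom ((AlgSp.yon S).map j₀ ≫ k₀.toHom) := by
    have h := sqP.paste_horiz sq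
    rw [hbot] at h
    exact h
  have hred := h₀ Ω' φ₀ _ _ _ big
  have hXk' : AlgSp.IsAlgSpace Xk' :=
    Groth.Agent.S9874.isAlgSpace_of_isPullback Y.property.diag X.property
      (AlgSp.IsAlgSpace.yon_obj T) sq
  have hP : AlgSp.IsAlgSpace (pullback b ((AlgSp.yon S).map γ)) :=
    Groth.Agent.S9874.isAlgSpace_of_isPullback (AlgSp.IsAlgSpace.yon_obj T).diag hXk'
      (AlgSp.IsAlgSpace.yon_obj T₀) sqP
  have hflat : Flat γ.left := by
    show Flat (Spec.map (CommRingCat.ofHom i₂))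
    rw [HasRingHomProperty.Spec_iff (P := @Flat)]
    letI := i₂.toAlgebra
    exact (inferInstance : Module.Flat k' Ω')
  have hsurj : Function.Surjective γ.left := by
    intro x
    refine ⟨(default : PrimeSpectrum Ω'), ?_⟩
    exact Subsingleton.elim (α := PrimeSpectrum k') _ _
  have h1 : AlgSp.LocP @Flat (pullback.fst b ((AlgSp.yon S).map γ)) :=
    Groth.Agent.Lib.Helper15PtsTop.bcStable_flat (AlgSp.IsAlgSpace.yon_obj T₀)
      (AlgSp.IsAlgSpace.yon_obj T) hP hXk' ((AlgSp.yon S).map γ) b _ _ sqP.flip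
      (Groth.Agent.Lib.Helper15LocEss.locP_yon_map_of_flat γ hflat)
  have h2 : AlgSp.IsSurjectiveMor (pullback.fst b ((AlgSp.yon S).map γ)) :=
    Groth.Agent.Lib.Helper15SmLoc.bcStable_isSurjectiveMor (AlgSp.IsAlgSpace.yon_obj T₀)
      (AlgSp.IsAlgSpace.yon_obj T) hP hXk' ((AlgSp.yon S).map γ) b _ _ sqP.flip
      (isSurjectiveMor_yon_map γ hsurj)
  exact Groth.Agent.S10561.result (X := ⟨_, hP⟩) (Y := ⟨Xk', hXk'⟩)
    (ObjectProperty.homMk (pullback.fst b ((AlgSp.yon S).map γ))) h1 h2 hred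

end Groth.Agent.Lib.Seat47.GeomRedFibre
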