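import Mathlib
import Groth.Agent.S9908
import Groth.Agent.S10175
import Groth.Agent.Lib.Helper6SepCl
import Groth.Agent.Lib.Seat47GeomRedFibre
import Groth.Prelude.Def_AlgSpDec

/-!
# Seat47: connected components of the points of a base change along a geometrically connected,
universally open morphism of schemes

`connectedComponentsMap_bijective`: for `γ : T' ⟶ T` a morphism of schemes over `S` which is
universally open and geometrically connected and any sheaf `X` over `h_T`, the projection
`X ×_{h_T} h_{T'} ⟶ X` induces a bijection on connected components of spaces of points.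
Applied to `Spec K ⟶ Spec k` for a separably closed field `k`.
-/

set_option autoImplicit false
universe u
open CategoryTheory CategoryTheory.Limits AlgebraicGeometry Opposite

namespace Groth.Agent.Lib.Seat47.GeomConnFibre

variable {S : Scheme.{u}}

/-- every point of `h_{Spec K}` maps to the class of the field point. -/
theorem map_toHom_eq {F : AlgSp.Sp S} (ξ : AlgSp.FieldPt F) (q : AlgSp.Points ((AlgSp.yon S).obj ξ.pt)) :
    AlgSp.Points.map ξ.toHom q = AlgSp.Points.mk ξ := by
  rw [← AlgSp.Points.ofScheme_toScheme ξ.pt q, AlgSp.Points.map_ofPt, Category.id_comp]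
  exact AlgSp.Points.ofPt_toHom ξ _

section

variable {T T' : Over S} (γ : T' ⟶ T) [UniversallyOpen γ.left] [GeometricallyConnected γ.left]
  {X X' : AlgSp.Sp S} {b : X ⟶ (AlgSp.yon S).obj T} {b' : X' ⟶ (AlgSp.yon S).obj T'} {pr : X' ⟶ X}
  (sq : IsPullback pr b' b ((AlgSp.yon S).map γ))
include sq

theorem isOpenMap_pr : IsOpenMap (AlgSp.Points.map pr) := by
  apply Groth.Agent.S9908.isOpenMap_map_of_repWith
  have h : AlgSp.RepWith @UniversallyOpen ((AlgSp.yon S).map γ) :=
    (AlgSp.repWith_yon_map_iff @UniversallyOpen γ).mpr inferInstance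
  exact MorphismProperty.of_isPullback sq.flip h

theorem isConnected_fibre (x : AlgSp.Points X) : IsConnected (AlgSp.Points.map pr ⁻¹' {x}) := by
  induction x using AlgSp.Points.ind with | h ξ => ?_
  obtain ⟨l, hl⟩ := (AlgSp.yon S).map_surjective (ξ.toHom ≫ b)
  have sqO := IsPullback.of_hasPullback l γ
  have sqY := sqO.map (AlgSp.yon S)
  let ζ : (AlgSp.yon S).obj (pullback l γ) ⟶ X' :=
    sq.lift ((AlgSp.yon S).map (pullback.fst l γ) ≫ ξ.toHom) ((AlgSp.yon S).map (pullback.snd l γ))
      (by rw [Category.assoc, ← hl, sqY.w])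
  have hζ1 : ζ ≫ pr = (AlgSp.yon S).map (pullback.fst l γ) ≫ ξ.toHom := sq.lift_fst _ _ _
  have hζ2 : ζ ≫ b' = (AlgSp.yon S).map (pullback.snd l γ) := sq.lift_snd _ _ _
  have left : IsPullback ζ ((AlgSp.yon S).map (pullback.fst l γ)) pr ξ.toHom := by
    refine IsPullback.of_right ?_ hζ1 sq.flip
    rw [hζ2, ← hl]
    exact sqY.flip
  haveI : ConnectedSpace (pullback l γ).left :=
    GeometricallyConnected.geometrically_connectedSpace (f := γ.left) l.left
      (pullback.snd l γ).left (pullback.fst l γ).left ((sqO.flip).map (Over.forget S))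
  haveI : ConnectedSpace (AlgSp.Points ((AlgSp.yon S).obj (pullback l γ))) :=
    (AlgSp.Points.schemeHomeo (pullback l γ)).surjective.connectedSpace
      (AlgSp.Points.schemeHomeo (pullback l γ)).continuous
  have hfib : AlgSp.Points.map pr ⁻¹' {AlgSp.Points.mk ξ} = Set.range (AlgSp.Points.map ζ) := by
    ext z
    constructor
    · intro hz
      have e : AlgSp.Points.map pr z = AlgSp.Points.map ξ.toHom
          (AlgSp.Points.ofScheme ξ.pt (IsLocalRing.closedPoint ξ.K)) := by
        rw [map_toHom_eq]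
        exact hz
      obtain ⟨p, hp1, -⟩ := Groth.Agent.S10175.exists_point_of_isPullback left z _ e
      exact ⟨p, hp1⟩
    · rintro ⟨p, rfl⟩
      show AlgSp.Points.map pr (AlgSp.Points.map ζ p) = AlgSp.Points.mk ξ
      rw [← AlgSp.Points.map_comp, hζ1, AlgSp.Points.map_comp, map_toHom_eq]
  rw [hfib]
  exact isConnected_range (AlgSp.Points.continuous_map ζ)

theorem connectedComponentsMap_bijective :
    Function.Bijective (Continuous.connectedComponentsMap (AlgSp.Points.continuous_map pr)) := by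
  have hfib := isConnected_fibre γ sq
  have hsurj : Function.Surjective (AlgSp.Points.map pr) := fun x => by
    obtain ⟨a, ha⟩ := (hfib x).nonempty
    exact ⟨a, ha⟩
  have hco : Topology.IsCoinducing (AlgSp.Points.map pr) :=
    ((isOpenMap_pr γ sq).isQuotientMap (AlgSp.Points.continuous_map pr) hsurj).isCoinducing
  exact hco.connectedComponentsMap_bijective hfib

theorem card_connectedComponents_eq :
    ENat.card (_root_.ConnectedComponents (AlgSp.Points X')) =
      ENat.card (_root_.ConnectedComponents (AlgSp.Points X)) :=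
  ENat.card_congr (Equiv.ofBijective _ (connectedComponentsMap_bijective γ sq))

end

/-- the fibre over `T'` and the fibre over `T` of a morphism of sheaves have the same number of
connected components, for `γ : T' ⟶ T` universally open and geometrically connected. -/
theorem card_eq_of_isPullback_comp {X Y : AlgSp.Sp S} (f : X ⟶ Y) {T T' : Over S} (γ : T' ⟶ T)
    [UniversallyOpen γ.left] [GeometricallyConnected γ.left] (t : (AlgSp.yon S).obj T ⟶ Y)
    {F P : AlgSp.Sp S} {a₁ : F ⟶ X} {b₁ : F ⟶ (AlgSp.yon S).obj T} (sq₁ : IsPullback a₁ b₁ f t)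
    {a : P ⟶ X} {b : P ⟶ (AlgSp.yon S).obj T'}
    (big : IsPullback a b f ((AlgSp.yon S).map γ ≫ t)) :
    ENat.card (_root_.ConnectedComponents (AlgSp.Points P)) =
      ENat.card (_root_.ConnectedComponents (AlgSp.Points F)) := by
  have hw : a ≫ f = (b ≫ (AlgSp.yon S).map γ) ≫ t := by
    rw [Category.assoc]
    exact big.w
  have h1 : sq₁.lift a (b ≫ (AlgSp.yon S).map γ) hw ≫ a₁ = a := sq₁.lift_fst _ _ _
  have h2 : sq₁.lift a (b ≫ (AlgSp.yon S).map γ) hw ≫ b₁ = b ≫ (AlgSp.yon S).map γ :=
    sq₁.lift_snd _ _ _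
  have left : IsPullback (sq₁.lift a (b ≫ (AlgSp.yon S).map γ) hw) b b₁ ((AlgSp.yon S).map γ) := by
    refine IsPullback.of_right ?_ h2 sq₁
    rw [h1]
    exact big
  exact card_connectedComponents_eq γ left

/-- a morphism `Spec Ω ⟶ Spec k` with `k` separably closed is universally open and geometrically
connected. -/
theorem univOpen_geomConn_of_isSepClosed {k Ω : Type u} [Field k] [Field Ω] [IsSepClosed k]
    (m : Spec (CommRingCat.of Ω) ⟶ Spec (CommRingCat.of k)) :
    UniversallyOpen m ∧ GeometricallyConnected m := by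
  letI : Algebra k Ω := (Spec.preimage m).hom.toAlgebra
  have hm : m = Spec.map (CommRingCat.ofHom (algebraMap k Ω)) := (Spec.map_preimage m).symm
  rw [hm]
  haveI := Groth.Agent.Lib.Helper6.SepCl.geometricallyIrreducible_specMap_of_isSepClosed k Ω
  exact ⟨inferInstance,
    Groth.Agent.Lib.Helper6.SepCl.geometricallyConnected_of_geometricallyIrreducible _⟩

/-- the number of connected components of the fibre of `f` over a separably closed field point
only depends on the class of the point. -/
theorem card_connectedComponents_fibre_eq_of_rel {X Y : AlgSp.Sp S} (f : X ⟶ Y)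
    (k₁ k₂ : AlgSp.FieldPt Y) [IsSepClosed k₁.K] [IsSepClosed k₂.K] (hrel : AlgSp.FieldPt.Rel k₁ k₂)
    {F₁ F₂ : AlgSp.Sp S} {a₁ : F₁ ⟶ X} {b₁ : F₁ ⟶ (AlgSp.yon S).obj k₁.pt}
    (sq₁ : IsPullback a₁ b₁ f k₁.toHom)
    {a₂ : F₂ ⟶ X} {b₂ : F₂ ⟶ (AlgSp.yon S).obj k₂.pt} (sq₂ : IsPullback a₂ b₂ f k₂.toHom) :
    ENat.card (_root_.ConnectedComponents (AlgSp.Points F₁)) =
      ENat.card (_root_.ConnectedComponents (AlgSp.Points F₂)) := by
  obtain ⟨Ω, _, w, α, β, hαβ⟩ := hrel
  have hrel' : (AlgSp.yon S).map α ≫ k₁.toHom = (AlgSp.yon S).map β ≫ k₂.toHom := by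
    rw [Groth.Agent.Lib.Seat47.GeomRedFibre.yon_map_comp_toHom,
      Groth.Agent.Lib.Seat47.GeomRedFibre.yon_map_comp_toHom, hαβ]
  obtain ⟨hα1, hα2⟩ := univOpen_geomConn_of_isSepClosed (k := k₁.K) (Ω := Ω) α.left
  obtain ⟨hβ1, hβ2⟩ := univOpen_geomConn_of_isSepClosed (k := k₂.K) (Ω := Ω) β.left
  obtain ⟨P, a, b, big⟩ : ∃ (P : AlgSp.Sp S) (a : P ⟶ X) (b : P ⟶ (AlgSp.yon S).obj (Over.mk w)),
      IsPullback a b f ((AlgSp.yon S).map α ≫ k₁.toHom) :=
    ⟨_, _, _, IsPullback.of_hasPullback f ((AlgSp.yon S).map α ≫ k₁.toHom)⟩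
  have e1 := card_eq_of_isPullback_comp f α k₁.toHom sq₁ big
  rw [hrel'] at big
  have e2 := card_eq_of_isPullback_comp f β k₂.toHom sq₂ big
  rw [← e1, ← e2]

end Groth.Agent.Lib.Seat47.GeomConnFibre
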