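import Mathlib
import Groth.Agent.Lib.Seat47GeomConnFibre
import Groth.Agent.Lib.Helper6SepCl2

/-!
# Seat47: connected components of points of fibre products (general form) and products with
`h_T` over a terminal `h_{S}`

* `connectedComponentsMap_bijective_of_fibres`: a base change `P ⟶ Y` of `p : X ⟶ B` which is open
  on points and all of whose "field fibres" `X ×_B Spec L` are connected is bijective on connected
  components.
* `isPullback_prod_map`: `X × h_{T''} ⟶ X × h_{T'}` is the base change of `h_g`.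
* `surjective_of_isPullback_yon_map`.
-/

set_option autoImplicit false
universe u
open CategoryTheory CategoryTheory.Limits AlgebraicGeometry Opposite

namespace Groth.Agent.Lib.Seat47.GeomConnProd

open Groth.Agent.Lib.Seat47.GeomConnFibre

variable {S : Scheme.{u}}

theorem isConnected_fibre_of_fibres {X B Y P : AlgSp.Sp S} {p : X ⟶ B} {g : Y ⟶ B} {fst : P ⟶ X}
    {snd : P ⟶ Y} (sq : IsPullback fst snd p g)
    (hfib : ∀ ξ : AlgSp.FieldPt Y, ∃ (Q : AlgSp.Sp S) (u : Q ⟶ X) (v : Q ⟶ (AlgSp.yon S).obj ξ.pt),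
      IsPullback u v p (ξ.toHom ≫ g) ∧ ConnectedSpace (AlgSp.Points Q)) (y : AlgSp.Points Y) :
    IsConnected (AlgSp.Points.map snd ⁻¹' {y}) := by
  induction y using AlgSp.Points.ind with | h ξ => ?_
  obtain ⟨Q, u, v, hQ, hconn⟩ := hfib ξ
  have hw : u ≫ p = (v ≫ ξ.toHom) ≫ g := by
    rw [Category.assoc]
    exact hQ.w
  have h1 : sq.lift u (v ≫ ξ.toHom) hw ≫ fst = u := sq.lift_fst _ _ _
  have h2 : sq.lift u (v ≫ ξ.toHom) hw ≫ snd = v ≫ ξ.toHom := sq.lift_snd _ _ _
  have left : IsPullback (sq.lift u (v ≫ ξ.toHom) hw) v snd ξ.toHom := by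
    refine IsPullback.of_right ?_ h2 sq
    rw [h1]
    exact hQ
  have hfibre : AlgSp.Points.map snd ⁻¹' {AlgSp.Points.mk ξ} =
      Set.range (AlgSp.Points.map (sq.lift u (v ≫ ξ.toHom) hw)) := by
    ext z
    constructor
    · intro hz
      have e : AlgSp.Points.map snd z = AlgSp.Points.map ξ.toHom
          (AlgSp.Points.ofScheme ξ.pt (IsLocalRing.closedPoint ξ.K)) := by
        rw [map_toHom_eq]
        exact hz
      obtain ⟨q, hq1, -⟩ := Groth.Agent.S10175.exists_point_of_isPullback left z _ e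
      exact ⟨q, hq1⟩
    · rintro ⟨q, rfl⟩
      show AlgSp.Points.map snd (AlgSp.Points.map _ q) = AlgSp.Points.mk ξ
      rw [← AlgSp.Points.map_comp, h2, AlgSp.Points.map_comp, map_toHom_eq]
  rw [hfibre]
  exact isConnected_range (AlgSp.Points.continuous_map _)

theorem connectedComponentsMap_bijective_of_fibres {X B Y P : AlgSp.Sp S} {p : X ⟶ B} {g : Y ⟶ B}
    {fst : P ⟶ X} {snd : P ⟶ Y} (sq : IsPullback fst snd p g)
    (hopen : IsOpenMap (AlgSp.Points.map snd))
    (hfib : ∀ ξ : AlgSp.FieldPt Y, ∃ (Q : AlgSp.Sp S) (u : Q ⟶ X) (v : Q ⟶ (AlgSp.yon S).obj ξ.pt),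
      IsPullback u v p (ξ.toHom ≫ g) ∧ ConnectedSpace (AlgSp.Points Q)) :
    Function.Bijective (Continuous.connectedComponentsMap (AlgSp.Points.continuous_map snd)) := by
  have hf := isConnected_fibre_of_fibres sq hfib
  have hsurj : Function.Surjective (AlgSp.Points.map snd) := fun x => by
    obtain ⟨a, ha⟩ := (hf x).nonempty
    exact ⟨a, ha⟩
  have hco : Topology.IsCoinducing (AlgSp.Points.map snd) :=
    (hopen.isQuotientMap (AlgSp.Points.continuous_map snd) hsurj).isCoinducing
  exact hco.connectedComponentsMap_bijective hf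

/-- the terminal sheaf `h_S`. -/
noncomputable def isTerminal_yon_mkId : IsTerminal ((AlgSp.yon S).obj (Over.mk (𝟙 S))) :=
  IsTerminal.isTerminalObj (AlgSp.yon S) _ Over.mkIdTerminal

/-- `X × h_{T''} ⟶ X × h_{T'}` is the base change of `h_g`. -/
theorem isPullback_prod_map (X : AlgSp.Sp S) {T' T'' : Over S} (g : T'' ⟶ T') :
    IsPullback (Limits.prod.map (𝟙 X) ((AlgSp.yon S).map g)) Limits.prod.snd Limits.prod.snd
      ((AlgSp.yon S).map g) := by
  have hpt := isTerminal_yon_mkId (S := S)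
  have hright : IsPullback (Limits.prod.fst : X ⨯ (AlgSp.yon S).obj T' ⟶ X) Limits.prod.snd
      (hpt.from _) (hpt.from _) := IsPullback.of_is_product' (prodIsProd _ _) hpt
  have hbig : IsPullback (Limits.prod.fst : X ⨯ (AlgSp.yon S).obj T'' ⟶ X) Limits.prod.snd
      (hpt.from _) (hpt.from _) := IsPullback.of_is_product' (prodIsProd _ _) hpt
  refine IsPullback.of_right ?_ (Limits.prod.map_snd _ _) hright
  rw [Limits.prod.map_fst, Category.comp_id,
    show (AlgSp.yon S).map g ≫ hpt.from ((AlgSp.yon S).obj T') = hpt.from _ from hpt.hom_ext _ _]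
  exact hbig

/-- a base change of `h_γ` with `γ` surjective is surjective on points. -/
theorem surjective_of_isPullback_yon_map {T T' : Over S} (γ : T' ⟶ T)
    (hs : Function.Surjective γ.left) {X X' : AlgSp.Sp S} {b : X ⟶ (AlgSp.yon S).obj T}
    {b' : X' ⟶ (AlgSp.yon S).obj T'} {pr : X' ⟶ X} (sq : IsPullback pr b' b ((AlgSp.yon S).map γ)) :
    Function.Surjective (AlgSp.Points.map pr) := by
  intro x
  obtain ⟨t', ht'⟩ := Groth.Agent.Lib.Seat47.GeomRedFibre.isSurjectiveMor_yon_map γ hs
    (AlgSp.Points.map b x)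
  obtain ⟨p, hp1, -⟩ := Groth.Agent.S10175.exists_point_of_isPullback sq x t' ht'.symm
  exact ⟨p, hp1⟩

/-- for `γ` universally open and geometrically connected, connectedness goes up along the base
change of `h_γ`. -/
theorem connectedSpace_of_isPullback_yon_map {T T' : Over S} (γ : T' ⟶ T) [UniversallyOpen γ.left]
    [GeometricallyConnected γ.left] {X X' : AlgSp.Sp S} {b : X ⟶ (AlgSp.yon S).obj T}
    {b' : X' ⟶ (AlgSp.yon S).obj T'} {pr : X' ⟶ X} (sq : IsPullback pr b' b ((AlgSp.yon S).map γ))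
    [ConnectedSpace (AlgSp.Points X)] : ConnectedSpace (AlgSp.Points X') := by
  have h := Groth.Agent.Lib.Helper6.SepCl.isConnected_preimage_of_isOpenMap
    (AlgSp.Points.continuous_map pr) (isOpenMap_pr γ sq) (isConnected_fibre γ sq) isConnected_univ
  rw [Set.preimage_univ] at h
  exact connectedSpace_iff_univ.mpr h

end Groth.Agent.Lib.Seat47.GeomConnProd
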