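import Mathlib
import Groth.Prelude.Def_AlgSp4
import Groth.Agent.Lib.Seat47DvrRedSch
import Groth.Agent.Lib.Seat47GeomConnProd
import Groth.Agent.Lib.Seat45EtRed
import Groth.Agent.S10176
import Groth.Agent.S10177
import Groth.Agent.S10242

/-!
# Proper flat spaces over a DVR with reduced special fibre (seat 47)

* `exists_chart`: the chart of a base change `X' = X ×_{h_S} h_{T'}` induced by a chart of `X`;
* `redLocus`: the open locus of a scheme where the stalks are reduced in a neighbourhood; it is compatible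
  with étale maps and hence saturated for étale charts;
* `isOpenImmersion_generic`: `Spec K → Spec R` is an open immersion for a DVR;
* `isReduced_chart_of_special`: the main argument.
-/

set_option autoImplicit false
universe u
open CategoryTheory CategoryTheory.Limits AlgebraicGeometry Topology TopologicalSpace
open AlgSp

namespace Groth.Agent.Lib.Seat47.DvrRedSp

open Groth.Agent.Lib.Seat47.GeomConnProd (isTerminal_yon_mkId)

variable {S : Scheme.{u}}

/-- the base change `U ×_S T'` as a scheme over `S`. -/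
noncomputable abbrev bcOver (U T' : Over S) : Over S := Over.mk (pullback.fst U.hom T'.hom ≫ U.hom)

/-- the projection to `U`. -/
noncomputable abbrev bcPr (U T' : Over S) : bcOver U T' ⟶ U :=
  Over.homMk (pullback.fst U.hom T'.hom) rfl

/-- the projection to `T'`. -/
noncomputable abbrev bcQ (U T' : Over S) : bcOver U T' ⟶ T' :=
  Over.homMk (pullback.snd U.hom T'.hom) (pullback.condition (f := U.hom) (g := T'.hom)).symm

/-- the structure map to the terminal object of `Over S`. -/
abbrev toT (U : Over S) : U ⟶ Over.mk (𝟙 S) := Over.homMk U.hom (Category.comp_id _)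

lemma isPullback_over (U T' : Over S) :
    IsPullback (bcQ U T') (bcPr U T') (toT T') (toT U) := by
  refine IsPullback.of_map (Over.forget _) (Over.mkIdTerminal.hom_ext _ _) ?_
  exact (IsPullback.of_hasPullback U.hom T'.hom).flip

/-- the chart of a base change induced by a chart. -/
theorem exists_chart {X X' : AlgSp.Sp S} (s : X ⟶ (AlgSp.yon S).obj (Over.mk (𝟙 S))) {T' : Over S}
    (fst : X' ⟶ X) (snd : X' ⟶ (AlgSp.yon S).obj T')
    (sq : IsPullback fst snd s ((AlgSp.yon S).map (toT T'))) {U : Over S}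
    (a : (AlgSp.yon S).obj U ⟶ X) :
    ∃ a' : (AlgSp.yon S).obj (bcOver U T') ⟶ X',
      IsPullback a' ((AlgSp.yon S).map (bcPr U T')) fst a := by
  have hpt := isTerminal_yon_mkId (S := S)
  have hbig := (isPullback_over U T').map (AlgSp.yon S)
  have e2 : (AlgSp.yon S).map (toT U) = a ≫ s := hpt.hom_ext _ _
  let a' := sq.lift ((AlgSp.yon S).map (bcPr U T') ≫ a) ((AlgSp.yon S).map (bcQ U T'))
    (hpt.hom_ext _ _)
  refine ⟨a', ?_⟩
  have h3 : (AlgSp.yon S).map (bcQ U T') = a' ≫ snd := (sq.lift_snd _ _ _).symm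
  rw [e2, h3] at hbig
  exact IsPullback.of_right hbig (sq.lift_fst _ _ _) sq.flip

/-- the locus where a scheme has reduced stalks on a neighbourhood. -/
def redLocus (U : Scheme.{u}) : Set U :=
  {u | ∃ N : U.Opens, u ∈ N ∧ ∀ w ∈ N, _root_.IsReduced (U.presheaf.stalk w)}

lemma isOpen_redLocus (U : Scheme.{u}) : IsOpen (redLocus U) := by
  rw [isOpen_iff_forall_mem_open]
  rintro u ⟨N, huN, hN⟩
  exact ⟨N, fun w hw => ⟨N, hw, hN⟩, N.isOpen, huN⟩

lemma mem_redLocus_iff_of_etale {R U : Scheme.{u}} (g : R ⟶ U) [Etale g] (r : R) :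
    r ∈ redLocus R ↔ g r ∈ redLocus U := by
  constructor
  · rintro ⟨N, hrN, hN⟩
    refine ⟨⟨g '' N, g.isOpenMap _ N.isOpen⟩, ⟨r, hrN, rfl⟩, ?_⟩
    rintro _ ⟨w, hw, rfl⟩
    exact (Groth.Agent.Lib.Seat45.EtRed.isReduced_stalk_iff_of_etale g w).1 (hN w hw)
  · rintro ⟨N, hrN, hN⟩
    exact ⟨g ⁻¹ᵁ N, hrN, fun w hw =>
      (Groth.Agent.Lib.Seat45.EtRed.isReduced_stalk_iff_of_etale g w).2 (hN _ hw)⟩

lemma isReduced_of_redLocus_eq_univ {U : Scheme.{u}} (h : redLocus U = Set.univ) : IsReduced U := by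
  haveI : ∀ u : U, _root_.IsReduced (U.presheaf.stalk u) := fun u => by
    obtain ⟨N, huN, hN⟩ := (h ▸ Set.mem_univ u : u ∈ redLocus U)
    exact hN u huN
  exact isReduced_of_isReduced_stalk U

/-- the reduced locus of an étale chart is saturated. -/
lemma mem_redLocus_of_ofPt_eq {F : AlgSp.Sp S} {U : Over S} (a : (AlgSp.yon S).obj U ⟶ F)
    (ha : AlgSp.RepWith @Etale a) {u u' : ↥U.left}
    (e : AlgSp.Points.ofPt a u = AlgSp.Points.ofPt a u') (hu : u ∈ redLocus U.left) :
    u' ∈ redLocus U.left := by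
  obtain ⟨W, w, pr', sq⟩ := ha.1 a
  obtain ⟨pr, rfl⟩ := (AlgSp.yon S).map_surjective pr'
  haveI : Etale w.left := ha.2 a _ w sq
  haveI : Etale pr.left := ha.2 a _ pr sq.flip
  obtain ⟨y, hy1, hy2⟩ := Groth.Agent.S10176.exists_point_of_isPullback_yon sq u u' e
  rw [← hy2, ← mem_redLocus_iff_of_etale, mem_redLocus_iff_of_etale pr.left, hy1]
  exact hu

/-- the image of the complement of the reduced locus is closed. -/
lemma isClosed_image_compl_redLocus {F : AlgSp.Sp S} {U : Over S} (a : (AlgSp.yon S).obj U ⟶ F)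
    (hae : AlgSp.RepWith @Etale a) (has : AlgSp.RepWith @Surjective a) :
    IsClosed (AlgSp.Points.ofPt a '' (redLocus U.left)ᶜ) := by
  have : AlgSp.Points.ofPt a '' (redLocus U.left)ᶜ = (AlgSp.Points.ofPt a '' redLocus U.left)ᶜ := by
    ext x
    constructor
    · rintro ⟨u, hu, rfl⟩ ⟨u', hu', e⟩
      exact hu (mem_redLocus_of_ofPt_eq a hae e hu')
    · intro hx
      obtain ⟨u, rfl⟩ := Groth.Agent.S10177.surjective_ofPt a has x
      exact ⟨u, fun hu => hx ⟨u, hu, rfl⟩, rfl⟩
  rw [this, isClosed_compl_iff]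
  exact Groth.Agent.S10176.isOpenMap_ofPt a hae _ (isOpen_redLocus _)

/-- `Spec K → Spec R` is an open immersion for a discrete valuation ring. -/
theorem isOpenImmersion_generic (R : Type u) [CommRing R] [IsDomain R] [IsDiscreteValuationRing R] :
    IsOpenImmersion (Spec.map (CommRingCat.ofHom (algebraMap R (FractionRing R)))) := by
  obtain ⟨ϖ, hϖ⟩ := IsDiscreteValuationRing.exists_irreducible R
  haveI : IsLocalization (nonZeroDivisors R) (Localization.Away ϖ) := by
    refine IsLocalization.of_le_of_exists_dvd (Submonoid.powers ϖ) (nonZeroDivisors R) ?_ ?_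
    · rintro _ ⟨n, rfl⟩
      exact pow_mem (mem_nonZeroDivisors_of_ne_zero hϖ.ne_zero) n
    · intro r hr
      obtain ⟨n, v, hv⟩ := IsDiscreteValuationRing.eq_unit_mul_pow_irreducible
        (nonZeroDivisors.ne_zero hr) hϖ
      refine ⟨ϖ ^ n, ⟨n, rfl⟩, ⟨↑v⁻¹, ?_⟩⟩
      rw [hv, mul_comm (↑v : R), mul_assoc, Units.mul_inv, mul_one]
  let e : Localization.Away ϖ ≃ₐ[R] FractionRing R :=
    IsLocalization.algEquiv (nonZeroDivisors R) _ _
  haveI : IsLocalization.Away ϖ (FractionRing R) :=
    IsLocalization.isLocalization_of_algEquiv (Submonoid.powers ϖ) e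
  exact IsOpenImmersion.of_isLocalization ϖ

end Groth.Agent.Lib.Seat47.DvrRedSp
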