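import Groth.Agent.Lib.Seat47FEt6
import Groth.Agent.Lib.Helper12SrcLocal
import Groth.Agent.Lib.Helper15PtsTop
import Groth.Agent.S10262
import Groth.Agent.S10176
import Groth.Agent.S9906
import Groth.Agent.S9927
import Groth.Prelude.Def_AlgSpSub

/-!
# Seat47: elementary distinguished squares are pushouts (sheaf-level glueing)

`existsUnique_desc`: for an elementary distinguished square `(j : U ⟶ W, f : V ⟶ W)` of algebraic
spaces with `P = U ×_W V`, morphisms `a : U ⟶ Z`, `b : V ⟶ Z` into any sheaf `Z` which agree on `P`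
glue uniquely to a morphism `W ⟶ Z`.
-/

set_option autoImplicit false
universe u
open CategoryTheory CategoryTheory.Limits AlgebraicGeometry TopologicalSpace
open AlgSp

namespace Groth.Agent.Lib.Seat47.ElemDist

open Groth.Agent.Lib.Seat47.FEt Groth.Agent.Lib.Seat47.FamSheaf
open Groth.Agent.S9900

variable {S : Scheme.{u}}

/-- a point of the base of a represented pullback lies in the image of the pulled back morphism as
soon as its point of the target lies in the image of the morphism. -/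
lemma mem_range_of_isPullback {F G : AlgSp.Sp S} {f : F ⟶ G} {T W : Over S}
    {b : (AlgSp.yon S).obj T ⟶ G} {fst : (AlgSp.yon S).obj W ⟶ F} {snd : W ⟶ T}
    (sq : IsPullback fst ((AlgSp.yon S).map snd) f b) (t : ↥T.left)
    (h : AlgSp.Points.ofPt b t ∈ Set.range (AlgSp.Points.map f)) : t ∈ Set.range snd.left := by
  obtain ⟨z, hz⟩ := h
  rw [AlgSp.Points.ofPt_eq_map_ofScheme] at hz
  obtain ⟨p, -, hp2⟩ := Groth.Agent.S10175.exists_point_of_isPullback sq z _ hz
  obtain ⟨y, rfl⟩ := (AlgSp.Points.schemeHomeo W).surjective p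
  refine ⟨y, ?_⟩
  apply (AlgSp.Points.schemeHomeo T).injective
  rw [← AlgSp.Points.map_yon_map_apply]
  exact hp2

/-- a field valued point of `G` whose point lies in the image of a closed subspace factors through
it. -/
lemma exists_factor_residueField {F G : AlgSp.Sp S} (i : F ⟶ G)
    (hi : AlgSp.RepWith @IsClosedImmersion i) {T₀ : Over S} (ω : (AlgSp.yon S).obj T₀ ⟶ G)
    (t : ↥T₀.left) (h : AlgSp.Points.ofPt ω t ∈ Set.range (AlgSp.Points.map i)) :
    ∃ τ : (AlgSp.yon S).obj (Over.mk (T₀.left.fromSpecResidueField t ≫ T₀.hom)) ⟶ F,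
      τ ≫ i = (AlgSp.yon S).map (Over.homMk (T₀.left.fromSpecResidueField t) rfl :
        Over.mk (T₀.left.fromSpecResidueField t ≫ T₀.hom) ⟶ T₀) ≫ ω := by
  set κ : Over S := Over.mk (T₀.left.fromSpecResidueField t ≫ T₀.hom) with hκ
  set κt : κ ⟶ T₀ := Over.homMk (T₀.left.fromSpecResidueField t) rfl with hκt
  obtain ⟨C, c, fstC, sqC⟩ := hi.1 ((AlgSp.yon S).map κt ≫ ω)
  haveI : IsClosedImmersion c.left := hi.2 _ fstC c sqC
  have hsurj : Surjective c.left := by
    constructor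
    intro pt
    apply mem_range_of_isPullback sqC pt
    rw [Groth.Agent.S10176.ofPt_map_comp]
    have : κt.left pt = t := Scheme.fromSpecResidueField_apply t pt
    rw [this]
    exact h
  haveI : IsReduced κ.left := by
    show IsReduced (Spec (T₀.left.residueField t))
    infer_instance
  haveI : IsIso c.left := isIso_of_isClosedImmersion_of_surjective c.left
  haveI : IsIso c := by
    haveI : IsIso ((Over.forget S).map c) := ‹IsIso c.left›
    exact isIso_of_reflects_iso c (Over.forget S)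
  refine ⟨(AlgSp.yon S).map (inv c) ≫ fstC, ?_⟩
  rw [Category.assoc, sqC.w, ← Category.assoc, ← Functor.map_comp, IsIso.inv_hom_id,
    CategoryTheory.Functor.map_id, Category.id_comp]

section Main

variable {U V W P : AlgSp.Sp S} {j : U ⟶ W} {f : V ⟶ W} {p : P ⟶ U} {q : P ⟶ V}
  {Z : AlgSp.Sp S} {a : U ⟶ Z} {b : V ⟶ Z}

lemma mono_of_openImmersion {A B : AlgSp.Sp S} (k : A ⟶ B)
    (hk : AlgSp.RepWith @IsOpenImmersion k) : Mono k :=
  Groth.Agent.S9928.mono_of_repWith @IsOpenImmersion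
    (fun X Y g hg => by haveI : IsOpenImmersion g := hg; infer_instance) k hk

/-- compatibility on `U ×_W V` -/
lemma compat_UV (hP : IsPullback p q j f) (hab : p ≫ a = q ≫ b) {T₀ : Over S}
    (x : (AlgSp.yon S).obj T₀ ⟶ U) (y : (AlgSp.yon S).obj T₀ ⟶ V) (h : x ≫ j = y ≫ f) :
    x ≫ a = y ≫ b := by
  rw [← hP.lift_fst x y h, Category.assoc, hab, ← Category.assoc, hP.lift_snd]

/-- compatibility on `V ×_W V`: this is where the elementary distinguished square is used. -/
lemma compat_VV (hV : AlgSp.IsAlgSpace V) (hW : AlgSp.IsAlgSpace W)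
    (hsq : AlgSp.IsElemDistSq j f) (hP : IsPullback p q j f) (hab : p ≫ a = q ≫ b) {T₀ : Over S}
    (y y' : (AlgSp.yon S).obj T₀ ⟶ V) (h : y ≫ f = y' ≫ f) : y ≫ b = y' ≫ b := by
  obtain ⟨hj, hf, T, P', i, p₁, p₂, hT, sqT, hp₁⟩ := hsq
  haveI := hp₁
  have hf' : AlgSp.LocP (@LocallyOfFiniteType ⊓ @FormallyUnramified) f :=
    Groth.Agent.Lib.Helper15PtsTop.locP_mono (fun A B g (hg : Etale g) =>
      ⟨(inferInstance : LocallyOfFiniteType g), (inferInstance : FormallyUnramified g)⟩)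
      (Groth.Agent.Lib.Helper12.SrcLocal.locP_etale_of_isEtaleMor f hf)
  -- the equaliser locus
  obtain ⟨E, ε, hE⟩ := exists_isEqLocus hV.diag y y'
  haveI hεo : IsOpenImmersion ε.left :=
    Groth.Agent.S10262.isOpenImmersion_of_isEqLocus_unramified hV hW f hf' h hE
  -- the preimage of `U`
  obtain ⟨T₂, τ, ωU, sq₂⟩ := hj.1 (y ≫ f)
  haveI hτo : IsOpenImmersion τ.left := hj.2 _ ωU τ sq₂
  -- the two opens cover
  have hcover : ∀ t : ↥T₀.left, t ∈ Set.range ε.left ∨ t ∈ Set.range τ.left := by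
    intro t
    by_cases ht : AlgSp.Points.ofPt (y ≫ f) t ∈ Set.range (AlgSp.Points.map j)
    · exact Or.inr (mem_range_of_isPullback sq₂ t ht)
    · left
      have ht' : AlgSp.Points.ofPt (y ≫ f) t ∈ Set.range (AlgSp.Points.map i) := by
        rw [hT.2.1]; exact ht
      let κ : Over S := Over.mk (T₀.left.fromSpecResidueField t ≫ T₀.hom)
      let κt : κ ⟶ T₀ := Over.homMk (T₀.left.fromSpecResidueField t) rfl
      obtain ⟨τh, hτh⟩ : ∃ τ : (AlgSp.yon S).obj κ ⟶ T,
          τ ≫ i = (AlgSp.yon S).map κt ≫ (y ≫ f) :=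
        exists_factor_residueField i hT.1 (y ≫ f) t ht'
      have h1 : τh ≫ i = ((AlgSp.yon S).map κt ≫ y) ≫ f := by rw [hτh, Category.assoc]
      have h2 : τh ≫ i = ((AlgSp.yon S).map κt ≫ y') ≫ f := by
        rw [hτh, Category.assoc, h]
      have hz : sqT.lift τh _ h1 = sqT.lift τh _ h2 := by
        rw [← cancel_mono p₁, sqT.lift_fst, sqT.lift_fst]
      have hyy : (AlgSp.yon S).map κt ≫ y = (AlgSp.yon S).map κt ≫ y' := by
        rw [← sqT.lift_snd τh _ h1, hz, sqT.lift_snd]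
      obtain ⟨t', ht'⟩ := (hE.2 κ κt).1 hyy
      have hpt : Nonempty ↥κ.left := by
        show Nonempty ↥(Spec (T₀.left.residueField t))
        infer_instance
      obtain ⟨pt⟩ := hpt
      refine ⟨t'.left pt, ?_⟩
      have h3 : (t'.left ≫ ε.left) pt = κt.left pt := by
        rw [← Over.comp_left, ht']
      rw [Scheme.Hom.comp_apply] at h3
      rw [h3]
      exact Scheme.fromSpecResidueField_apply t pt
  -- separation on the cover
  let Wk : Bool → Over S := fun k => if k then E else T₂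
  let g : ∀ k, Wk k ⟶ T₀ := fun k => match k with
    | true => ε
    | false => τ
  have hcov : Sieve.generate (Presieve.ofArrows Wk g) ∈ AlgSp.J S T₀ := by
    refine generate_ofArrows_mem_J Wk g (fun k => ?_) (fun t => ?_)
    · cases k
      · exact ⟨(inferInstance : Flat τ.left), (inferInstance : LocallyOfFinitePresentation τ.left)⟩
      · exact ⟨(inferInstance : Flat ε.left), (inferInstance : LocallyOfFinitePresentation ε.left)⟩
    · rcases hcover t with ht | ht
      · exact ⟨true, ht⟩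
      · exact ⟨false, ht⟩
  apply sep Wk g hcov
  intro k
  cases k
  · -- on the preimage of `U`
    show (AlgSp.yon S).map τ ≫ y ≫ b = (AlgSp.yon S).map τ ≫ y' ≫ b
    have e1 : ωU ≫ j = ((AlgSp.yon S).map τ ≫ y) ≫ f := by rw [sq₂.w, Category.assoc]
    have e2 : ωU ≫ j = ((AlgSp.yon S).map τ ≫ y') ≫ f := by rw [sq₂.w, Category.assoc, h]
    have r1 := compat_UV hP hab ωU _ e1
    have r2 := compat_UV hP hab ωU _ e2
    rw [← Category.assoc, ← r1, r2, Category.assoc]
  · -- on the equaliser locus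
    show (AlgSp.yon S).map ε ≫ y ≫ b = (AlgSp.yon S).map ε ≫ y' ≫ b
    rw [← Category.assoc, hE.eq, Category.assoc]

/-- morphisms out of an elementary distinguished square glue uniquely. -/
theorem existsUnique_desc (hU : AlgSp.IsAlgSpace U) (hV : AlgSp.IsAlgSpace V)
    (hW : AlgSp.IsAlgSpace W) (hsq : AlgSp.IsElemDistSq j f) (hP : IsPullback p q j f)
    (hab : p ≫ a = q ≫ b) : ∃! c : W ⟶ Z, j ≫ c = a ∧ f ≫ c = b := by
  have hj := hsq.1
  have hf := hsq.2.1
  haveI := mono_of_openImmersion j hj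
  have cUU : ∀ {T₀ : Over S} (x x' : (AlgSp.yon S).obj T₀ ⟶ U), x ≫ j = x' ≫ j →
      x ≫ a = x' ≫ a := by
    intro T₀ x x' h
    rw [(cancel_mono j).1 h]
  have cUV := @compat_UV S U V W P j f p q Z a b hP hab
  have cVV := @compat_VV S U V W P j f p q Z a b hV hW hsq hP hab
  -- atlases
  obtain ⟨A, e, hee, hes⟩ := hW.atlas
  haveI hepi : Epi e := Groth.Agent.S9927.epi_of_repWith e hee hes
  obtain ⟨AU, ιU, u₁, sqU⟩ := hj.1 e
  haveI hιo : IsOpenImmersion ιU.left := hj.2 _ u₁ ιU sqU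
  obtain ⟨AV, v₀, hv₀e, hv₀s⟩ := hV.atlas
  have hvf : AlgSp.RepWith @Etale (v₀ ≫ f) := hf v₀ hv₀e
  obtain ⟨B, βA, βV, sqB⟩ := hvf.1 e
  haveI hβe : Etale βA.left := hvf.2 _ βV βA sqB
  -- `u₁` and `βV ≫ v₀` are epimorphisms
  have hu₁e : AlgSp.RepWith @Etale u₁ :=
    MorphismProperty.of_isPullback (P := AlgSp.RepWith @Etale) sqU.flip hee
  have hu₁s : AlgSp.RepWith @Surjective u₁ :=
    MorphismProperty.of_isPullback (P := AlgSp.RepWith @Surjective) sqU.flip hes
  haveI : Epi u₁ := Groth.Agent.S9927.epi_of_repWith u₁ hu₁e hu₁s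
  have hβVe : AlgSp.RepWith @Etale βV :=
    MorphismProperty.of_isPullback (P := AlgSp.RepWith @Etale) sqB.flip hee
  have hβVs : AlgSp.RepWith @Surjective βV :=
    MorphismProperty.of_isPullback (P := AlgSp.RepWith @Surjective) sqB.flip hes
  haveI : Epi βV := Groth.Agent.S9927.epi_of_repWith βV hβVe hβVs
  haveI : Epi v₀ := Groth.Agent.S9927.epi_of_repWith v₀ hv₀e hv₀s
  -- the cover of the atlas
  have hcoverA : ∀ x : ↥A.left, x ∈ Set.range ιU.left ∨ x ∈ Set.range βA.left := by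
    intro x
    by_cases hx : AlgSp.Points.ofPt e x ∈ Set.range (AlgSp.Points.map j)
    · exact Or.inl (mem_range_of_isPullback sqU x hx)
    · right
      obtain ⟨-, -, T, P', i, p₁, p₂, hT, sqT, hp₁⟩ := hsq
      haveI := hp₁
      have hx' : AlgSp.Points.ofPt e x ∈ Set.range (AlgSp.Points.map i) := by
        rw [hT.2.1]; exact hx
      obtain ⟨τ, hτ⟩ := hx'
      obtain ⟨y', hy'⟩ := Groth.Agent.S9906.surjective_map_of_repWith v₀ hv₀s
        (AlgSp.Points.map p₂ (AlgSp.Points.map (inv p₁) τ))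
      apply mem_range_of_isPullback sqB x
      refine ⟨y', ?_⟩
      rw [AlgSp.Points.map_comp, hy', ← AlgSp.Points.map_comp, ← sqT.w, AlgSp.Points.map_comp,
        ← AlgSp.Points.map_comp (inv p₁) p₁, IsIso.inv_hom_id, AlgSp.Points.map_id, hτ]
  let Wk : Bool → Over S := fun k => if k then AU else B
  let g : ∀ k, Wk k ⟶ A := fun k => match k with
    | true => ιU
    | false => βA
  let l : ∀ k, (AlgSp.yon S).obj (Wk k) ⟶ Z := fun k => match k with
    | true => u₁ ≫ a
    | false => βV ≫ v₀ ≫ b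
  have hflat : ∀ k, Flat (g k).left ∧ LocallyOfFinitePresentation (g k).left := by
    intro k
    cases k
    · exact ⟨(inferInstance : Flat βA.left), (inferInstance : LocallyOfFinitePresentation βA.left)⟩
    · exact ⟨(inferInstance : Flat ιU.left), (inferInstance : LocallyOfFinitePresentation ιU.left)⟩
  have hcovA : Sieve.generate (Presieve.ofArrows Wk g) ∈ AlgSp.J S A := by
    refine generate_ofArrows_mem_J Wk g hflat (fun x => ?_)
    rcases hcoverA x with hx | hx
    · exact ⟨true, hx⟩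
    · exact ⟨false, hx⟩
  -- the general compatibility
  have hcompat : ∀ (k m : Bool) (T₁ : Over S) (γ₁ : T₁ ⟶ Wk k) (γ₂ : T₁ ⟶ Wk m),
      (AlgSp.yon S).map γ₁ ≫ (AlgSp.yon S).map (g k) ≫ e =
        (AlgSp.yon S).map γ₂ ≫ (AlgSp.yon S).map (g m) ≫ e →
      (AlgSp.yon S).map γ₁ ≫ l k = (AlgSp.yon S).map γ₂ ≫ l m := by
    intro k m T₁ γ₁ γ₂ hγ
    cases k <;> cases m
    · -- B, B
      show (AlgSp.yon S).map γ₁ ≫ βV ≫ v₀ ≫ b = (AlgSp.yon S).map γ₂ ≫ βV ≫ v₀ ≫ b
      have := cVV ((AlgSp.yon S).map γ₁ ≫ βV ≫ v₀) ((AlgSp.yon S).map γ₂ ≫ βV ≫ v₀) (by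
        have h' : (AlgSp.yon S).map γ₁ ≫ (AlgSp.yon S).map βA ≫ e =
          (AlgSp.yon S).map γ₂ ≫ (AlgSp.yon S).map βA ≫ e := hγ
        rw [← sqB.w] at h'
        simpa only [Category.assoc] using h')
      simpa only [Category.assoc] using this
    · -- B, U
      show (AlgSp.yon S).map γ₁ ≫ βV ≫ v₀ ≫ b = (AlgSp.yon S).map γ₂ ≫ u₁ ≫ a
      have := cUV ((AlgSp.yon S).map γ₂ ≫ u₁) ((AlgSp.yon S).map γ₁ ≫ βV ≫ v₀) (by
        have h' : (AlgSp.yon S).map γ₁ ≫ (AlgSp.yon S).map βA ≫ e =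
          (AlgSp.yon S).map γ₂ ≫ (AlgSp.yon S).map ιU ≫ e := hγ
        rw [← sqB.w, ← sqU.w] at h'
        simpa only [Category.assoc] using h'.symm)
      simpa only [Category.assoc] using this.symm
    · -- U, B
      show (AlgSp.yon S).map γ₁ ≫ u₁ ≫ a = (AlgSp.yon S).map γ₂ ≫ βV ≫ v₀ ≫ b
      have := cUV ((AlgSp.yon S).map γ₁ ≫ u₁) ((AlgSp.yon S).map γ₂ ≫ βV ≫ v₀) (by
        have h' : (AlgSp.yon S).map γ₁ ≫ (AlgSp.yon S).map ιU ≫ e =
          (AlgSp.yon S).map γ₂ ≫ (AlgSp.yon S).map βA ≫ e := hγ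
        rw [← sqB.w, ← sqU.w] at h'
        simpa only [Category.assoc] using h')
      simpa only [Category.assoc] using this
    · -- U, U
      show (AlgSp.yon S).map γ₁ ≫ u₁ ≫ a = (AlgSp.yon S).map γ₂ ≫ u₁ ≫ a
      have := cUU ((AlgSp.yon S).map γ₁ ≫ u₁) ((AlgSp.yon S).map γ₂ ≫ u₁) (by
        have h' : (AlgSp.yon S).map γ₁ ≫ (AlgSp.yon S).map ιU ≫ e =
          (AlgSp.yon S).map γ₂ ≫ (AlgSp.yon S).map ιU ≫ e := hγ
        rw [← sqU.w] at h'
        simpa only [Category.assoc] using h')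
      simpa only [Category.assoc] using this
  -- glue over the atlas
  obtain ⟨L, hL⟩ := glue Wk g hcovA l (fun k m T₁ γ₁ γ₂ hγ => hcompat k m T₁ γ₁ γ₂ (by
    rw [← Category.assoc, ← Category.assoc, ← Functor.map_comp, ← Functor.map_comp, hγ]))
  -- descend along the atlas
  have hdesc : ∀ (T₀ : Over S) (α₁ α₂ : T₀ ⟶ A),
      (AlgSp.yon S).map α₁ ≫ e = (AlgSp.yon S).map α₂ ≫ e →
      (AlgSp.yon S).map α₁ ≫ L = (AlgSp.yon S).map α₂ ≫ L := by
    intro T₀ α₁ α₂ hα
    -- first cover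
    have hcov₁ : Sieve.generate (Presieve.ofArrows (fun k => pbZ (g k) α₁)
        (fun k => pbT (g k) α₁)) ∈ AlgSp.J S T₀ := by
      refine generate_ofArrows_mem_J _ _ (fun k => ?_) (fun t => ?_)
      · haveI := (hflat k).1
        haveI := (hflat k).2
        exact ⟨(inferInstance : Flat (pullback.fst α₁.left (g k).left)),
          (inferInstance : LocallyOfFinitePresentation (pullback.fst α₁.left (g k).left))⟩
      · have hx : ∃ k, α₁.left t ∈ Set.range (g k).left := by
          rcases hcoverA (α₁.left t) with hx | hx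
          · exact ⟨true, hx⟩
          · exact ⟨false, hx⟩
        obtain ⟨k, x, hx⟩ := hx
        obtain ⟨z, hz1, -⟩ := Scheme.Pullback.exists_preimage_pullback t x hx.symm
        exact ⟨k, z, hz1⟩
    apply sep _ _ hcov₁
    intro k
    -- second cover
    have hcov₂ : Sieve.generate (Presieve.ofArrows (fun m => pbZ (g m) (pbT (g k) α₁ ≫ α₂))
        (fun m => pbT (g m) (pbT (g k) α₁ ≫ α₂))) ∈ AlgSp.J S (pbZ (g k) α₁) := by
      refine generate_ofArrows_mem_J _ _ (fun m => ?_) (fun t => ?_)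
      · haveI := (hflat m).1
        haveI := (hflat m).2
        exact ⟨(inferInstance : Flat (pullback.fst (pbT (g k) α₁ ≫ α₂).left (g m).left)),
          (inferInstance : LocallyOfFinitePresentation
            (pullback.fst (pbT (g k) α₁ ≫ α₂).left (g m).left))⟩
      · have hx : ∃ m, (pbT (g k) α₁ ≫ α₂).left t ∈ Set.range (g m).left := by
          rcases hcoverA ((pbT (g k) α₁ ≫ α₂).left t) with hx | hx
          · exact ⟨true, hx⟩
          · exact ⟨false, hx⟩
        obtain ⟨m, x, hx⟩ := hx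
        obtain ⟨z, hz1, -⟩ := Scheme.Pullback.exists_preimage_pullback t x hx.symm
        exact ⟨m, z, hz1⟩
    apply sep _ _ hcov₂
    intro m
    set r₁ := pbT (g k) α₁
    set r₂ := pbT (g m) (r₁ ≫ α₂)
    have e1 : (AlgSp.yon S).map r₂ ≫ (AlgSp.yon S).map r₁ ≫ (AlgSp.yon S).map α₁ ≫ L =
        (AlgSp.yon S).map (r₂ ≫ pbZι (g k) α₁) ≫ l k := by
      rw [← hL k, ← Category.assoc ((AlgSp.yon S).map r₁), ← Functor.map_comp, pbT_comm,
        Functor.map_comp, Functor.map_comp, Category.assoc, Category.assoc]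
    have e2 : (AlgSp.yon S).map r₂ ≫ (AlgSp.yon S).map r₁ ≫ (AlgSp.yon S).map α₂ ≫ L =
        (AlgSp.yon S).map (pbZι (g m) (r₁ ≫ α₂)) ≫ l m := by
      rw [← hL m, ← Category.assoc ((AlgSp.yon S).map r₁), ← Functor.map_comp,
        ← Category.assoc ((AlgSp.yon S).map r₂), ← Functor.map_comp, pbT_comm,
        Functor.map_comp, Category.assoc]
    rw [e1, e2]
    apply hcompat
    rw [← Category.assoc, ← Functor.map_comp, Category.assoc, ← pbT_comm,
      ← Category.assoc ((AlgSp.yon S).map (pbZι (g m) (r₁ ≫ α₂))), ← Functor.map_comp,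
      ← pbT_comm, Functor.map_comp, Functor.map_comp, Functor.map_comp, Functor.map_comp,
      Category.assoc, Category.assoc, Category.assoc, Category.assoc, hα]
  obtain ⟨c, hc⟩ := Groth.Agent.Lib.Helper9.ToposLike.exists_desc_of_epi e hepi L (by
    intro W' a₁ a₂ ha
    apply hom_ext_yon
    intro T₀ x
    obtain ⟨α₁, hα₁⟩ := (AlgSp.yon S).map_surjective (x ≫ a₁)
    obtain ⟨α₂, hα₂⟩ := (AlgSp.yon S).map_surjective (x ≫ a₂)
    rw [← Category.assoc, ← Category.assoc, ← hα₁, ← hα₂]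
    apply hdesc
    rw [hα₁, hα₂, Category.assoc, Category.assoc, ha])
  have hjc : j ≫ c = a := by
    rw [← cancel_epi u₁, ← Category.assoc, sqU.w, Category.assoc, hc]
    exact hL true
  have hfc : f ≫ c = b := by
    rw [← cancel_epi v₀, ← cancel_epi βV]
    have h1 : βV ≫ v₀ ≫ f ≫ c = (AlgSp.yon S).map βA ≫ L := by
      rw [← hc, ← Category.assoc, ← Category.assoc, Category.assoc βV, sqB.w, Category.assoc]
    rw [h1]
    exact hL false
  refine ⟨c, ⟨hjc, hfc⟩, ?_⟩
  rintro c' ⟨h1, h2⟩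
  rw [← cancel_epi e]
  apply sep Wk g hcovA
  intro k
  cases k
  · show (AlgSp.yon S).map βA ≫ e ≫ c' = (AlgSp.yon S).map βA ≫ e ≫ c
    rw [← Category.assoc, ← sqB.w, Category.assoc, Category.assoc, h2, ← Category.assoc (AlgSp.yon S |>.map βA),
      ← sqB.w, Category.assoc, Category.assoc, hfc]
  · show (AlgSp.yon S).map ιU ≫ e ≫ c' = (AlgSp.yon S).map ιU ≫ e ≫ c
    rw [← Category.assoc, ← sqU.w, Category.assoc, h1, ← Category.assoc, ← sqU.w, Category.assoc,
      hjc]

end Main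

end Groth.Agent.Lib.Seat47.ElemDist
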