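import Groth.Agent.Lib.Seat47ElemDist
import Groth.Agent.Lib.Seat47CIDescent

/-!
# Seat47: separatedness can be checked on an elementary distinguished square
-/

set_option autoImplicit false
universe u
open CategoryTheory CategoryTheory.Limits AlgebraicGeometry TopologicalSpace
open AlgSp

namespace Groth.Agent.Lib.Seat47.ElemDistSep

open Groth.Agent.Lib.Seat47.FEt Groth.Agent.Lib.Seat47.FamSheaf
open Groth.Agent.S9900 Groth.Agent.S13210 Groth.Agent.Lib.Seat47.ElemDist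
open Groth.Agent.Lib.Seat47.CIDescent

variable {S : Scheme.{u}}

lemma isEqLocus_symm {F : AlgSp.Sp S} {T E : Over S} {a b : (AlgSp.yon S).obj T ⟶ F} {ε : E ⟶ T}
    (h : IsEqLocus a b ε) : IsEqLocus b a ε :=
  ⟨h.1, fun T' t => ⟨fun e => (h.2 T' t).1 e.symm, fun e => ((h.2 T' t).2 e).symm⟩⟩

/-- the equaliser locus of two points with the same image under a separated morphism is a closed
immersion. -/
lemma isClosedImmersion_of_isSeparatedMor {F G : AlgSp.Sp S} (h : F ⟶ G)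
    (hs : AlgSp.IsSeparatedMor h) {T E : Over S} (x x' : (AlgSp.yon S).obj T ⟶ F)
    (hh : x ≫ h = x' ≫ h) {ε : E ⟶ T} (he : IsEqLocus x x' ε) : IsClosedImmersion ε.left := by
  have he' : IsEqLocus (pullback.lift x x' hh ≫ pullback.fst h h)
      (pullback.lift x x' hh ≫ pullback.snd h h) ε := by
    rw [pullback.lift_fst, pullback.lift_snd]; exact he
  exact hs.2 _ _ ε (he'.isPullback_diagonal h (pullback.lift x x' hh))

lemma isEqLocus_of_comp_mono {F G : AlgSp.Sp S} (j : F ⟶ G) [Mono j] {T E : Over S}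
    {x x' : (AlgSp.yon S).obj T ⟶ F} {ε : E ⟶ T} (h : IsEqLocus (x ≫ j) (x' ≫ j) ε) :
    IsEqLocus x x' ε :=
  ⟨h.1, fun T' t => by
    rw [← h.2 T' t, ← Category.assoc, ← Category.assoc, cancel_mono]⟩

/-- the equaliser locus of `x ≫ s₁` and `y ≫ s₂` is the pullback of the comparison map
`F₁ ×_X F₂ ⟶ F₁ ×_Y F₂` along `(x, y)`. -/
lemma isPullback_eqLocus {F₁ F₂ X Y PX PY : AlgSp.Sp S} (s₁ : F₁ ⟶ X) (s₂ : F₂ ⟶ X) (g : X ⟶ Y)
    (π₁ : PX ⟶ F₁) (π₂ : PX ⟶ F₂) (hPX : IsPullback π₁ π₂ s₁ s₂)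
    (ρ₁ : PY ⟶ F₁) (ρ₂ : PY ⟶ F₂) (hPY : IsPullback ρ₁ ρ₂ (s₁ ≫ g) (s₂ ≫ g))
    (c : PX ⟶ PY) (hc₁ : c ≫ ρ₁ = π₁) (hc₂ : c ≫ ρ₂ = π₂)
    {T E : Over S} (x : (AlgSp.yon S).obj T ⟶ F₁) (y : (AlgSp.yon S).obj T ⟶ F₂)
    (h : x ≫ s₁ ≫ g = y ≫ s₂ ≫ g) {ε : E ⟶ T} (he : IsEqLocus (x ≫ s₁) (y ≫ s₂) ε) :
    ∃ z : (AlgSp.yon S).obj E ⟶ PX, IsPullback z ((AlgSp.yon S).map ε) c (hPY.lift x y h) := by
  haveI : Mono ε := he.1
  have hz : ((AlgSp.yon S).map ε ≫ x) ≫ s₁ = ((AlgSp.yon S).map ε ≫ y) ≫ s₂ := by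
    rw [Category.assoc, Category.assoc]; exact he.eq
  refine ⟨hPX.lift _ _ hz, ?_⟩
  have hw : hPX.lift _ _ hz ≫ c = (AlgSp.yon S).map ε ≫ hPY.lift x y h := by
    apply hPY.hom_ext
    · rw [Category.assoc, hc₁, hPX.lift_fst, Category.assoc, hPY.lift_fst]
    · rw [Category.assoc, hc₂, hPX.lift_snd, Category.assoc, hPY.lift_snd]
  refine isPullback_of_yon hw ?_
  intro T' b' c' hbc
  obtain ⟨t, rfl⟩ := (AlgSp.yon S).map_surjective c'
  have h1 : b' ≫ π₁ = (AlgSp.yon S).map t ≫ x := by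
    have := congrArg (fun m => m ≫ ρ₁) hbc
    simpa only [Category.assoc, hc₁, hPY.lift_fst] using this
  have h2 : b' ≫ π₂ = (AlgSp.yon S).map t ≫ y := by
    have := congrArg (fun m => m ≫ ρ₂) hbc
    simpa only [Category.assoc, hc₂, hPY.lift_snd] using this
  have h3 : (AlgSp.yon S).map t ≫ x ≫ s₁ = (AlgSp.yon S).map t ≫ y ≫ s₂ := by
    rw [← Category.assoc, ← h1, ← Category.assoc, ← h2, Category.assoc, Category.assoc, hPX.w]
  obtain ⟨t', rfl⟩ := (he.2 T' t).1 h3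
  refine ⟨(AlgSp.yon S).map t', ⟨?_, ((AlgSp.yon S).map_comp t' ε).symm⟩, ?_⟩
  · apply hPX.hom_ext
    · rw [Category.assoc, hPX.lift_fst, h1, Functor.map_comp, Category.assoc]
    · rw [Category.assoc, hPX.lift_snd, h2, Functor.map_comp, Category.assoc]
  · rintro a' ⟨-, ha'⟩
    obtain ⟨s, rfl⟩ := (AlgSp.yon S).map_surjective a'
    congr 1
    rw [← cancel_mono ε]
    apply (AlgSp.yon S).map_injective
    rw [Functor.map_comp]
    exact ha'

section Main

variable {U V X Y PX PY QX QY : AlgSp.Sp S} {g : X ⟶ Y} {j : U ⟶ X} {f : V ⟶ X}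

/-- the pullbacks of `j` and of an atlas of `V` along any point of `X` cover. -/
lemma cover_of_isElemDistSq (hsq : AlgSp.IsElemDistSq j f) {AV : Over S}
    (v₀ : (AlgSp.yon S).obj AV ⟶ V) (hv₀s : AlgSp.RepWith @Surjective v₀)
    {T TU TV : Over S} (a : (AlgSp.yon S).obj T ⟶ X)
    {aU : (AlgSp.yon S).obj TU ⟶ U} {τU : TU ⟶ T} (sqU : IsPullback aU ((AlgSp.yon S).map τU) j a)
    {βV : (AlgSp.yon S).obj TV ⟶ (AlgSp.yon S).obj AV} {τV : TV ⟶ T}
    (sqV : IsPullback βV ((AlgSp.yon S).map τV) (v₀ ≫ f) a) (t : ↥T.left) :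
    t ∈ Set.range τU.left ∨ t ∈ Set.range τV.left := by
  by_cases hx : AlgSp.Points.ofPt a t ∈ Set.range (AlgSp.Points.map j)
  · exact Or.inl (mem_range_of_isPullback sqU t hx)
  · right
    obtain ⟨-, -, T₀, P', i, p₁, p₂, hT, sqT, hp₁⟩ := hsq
    haveI := hp₁
    have hx' : AlgSp.Points.ofPt a t ∈ Set.range (AlgSp.Points.map i) := by
      rw [hT.2.1]; exact hx
    obtain ⟨τ, hτ⟩ := hx'
    obtain ⟨y', hy'⟩ := Groth.Agent.S9906.surjective_map_of_repWith v₀ hv₀s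
      (AlgSp.Points.map p₂ (AlgSp.Points.map (inv p₁) τ))
    apply mem_range_of_isPullback sqV t
    refine ⟨y', ?_⟩
    rw [AlgSp.Points.map_comp, hy', ← AlgSp.Points.map_comp, ← sqT.w, AlgSp.Points.map_comp,
      ← AlgSp.Points.map_comp (inv p₁) p₁, IsIso.inv_hom_id, AlgSp.Points.map_id, hτ]

/-- one stage of the reduction: the second point may be assumed to factor through `U` or `V`. -/
lemma stage (hV : AlgSp.IsAlgSpace V) (hsq : AlgSp.IsElemDistSq j f)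
    {F : AlgSp.Sp S} (s : F ⟶ X)
    (HU : ∀ {T' E' : Over S} (x : (AlgSp.yon S).obj T' ⟶ F) (y : (AlgSp.yon S).obj T' ⟶ U),
      (x ≫ s) ≫ g = (y ≫ j) ≫ g → ∀ (ε : E' ⟶ T'), IsEqLocus (x ≫ s) (y ≫ j) ε →
        IsClosedImmersion ε.left)
    (HV : ∀ {T' E' : Over S} (x : (AlgSp.yon S).obj T' ⟶ F) (y : (AlgSp.yon S).obj T' ⟶ V),
      (x ≫ s) ≫ g = (y ≫ f) ≫ g → ∀ (ε : E' ⟶ T'), IsEqLocus (x ≫ s) (y ≫ f) ε →
        IsClosedImmersion ε.left)
    {T' E' : Over S} (x : (AlgSp.yon S).obj T' ⟶ F) (b' : (AlgSp.yon S).obj T' ⟶ X)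
    (h : (x ≫ s) ≫ g = b' ≫ g) (ε : E' ⟶ T') (he : IsEqLocus (x ≫ s) b' ε) :
    IsClosedImmersion ε.left := by
  have hj := hsq.1
  have hf := hsq.2.1
  obtain ⟨AV, v₀, hv₀e, hv₀s⟩ := hV.atlas
  have hvf : AlgSp.RepWith @Etale (v₀ ≫ f) := hf v₀ hv₀e
  obtain ⟨TU, τU, bU, sqU⟩ := hj.1 b'
  haveI hτUo : IsOpenImmersion τU.left := hj.2 _ bU τU sqU
  obtain ⟨TV, τV, βV, sqV⟩ := hvf.1 b'
  haveI hτVe : Etale τV.left := hvf.2 _ βV τV sqV
  have hcover := cover_of_isElemDistSq hsq v₀ hv₀s b' sqU sqV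
  -- the two base changes
  have h1 : IsClosedImmersion (pullback.snd ε τU).left := by
    have he1 := Groth.Agent.S10262.isEqLocus_pullback_snd he τU
    rw [← sqU.w, ← Category.assoc] at he1
    refine HU ((AlgSp.yon S).map τU ≫ x) bU ?_ _ he1
    have h' : x ≫ s ≫ g = b' ≫ g := by simpa only [Category.assoc] using h
    have hw : (bU ≫ j) ≫ g = (AlgSp.yon S).map τU ≫ b' ≫ g := by
      rw [sqU.w, Category.assoc]
    simp only [Category.assoc] at hw ⊢
    rw [h', hw]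
  have h2 : IsClosedImmersion (pullback.snd ε τV).left := by
    have he2 := Groth.Agent.S10262.isEqLocus_pullback_snd he τV
    rw [← sqV.w, ← Category.assoc, ← Category.assoc βV] at he2
    refine HV ((AlgSp.yon S).map τV ≫ x) (βV ≫ v₀) ?_ _ he2
    have h' : x ≫ s ≫ g = b' ≫ g := by simpa only [Category.assoc] using h
    have hw : (βV ≫ v₀ ≫ f) ≫ g = (AlgSp.yon S).map τV ≫ b' ≫ g := by
      rw [sqV.w, Category.assoc]
    simp only [Category.assoc] at hw ⊢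
    rw [h', hw]
  -- descent
  let Tk : Bool → Scheme.{u} := fun k => if k then TU.left else TV.left
  let Ek : Bool → Scheme.{u} := fun k => if k then (pullback ε τU).left else (pullback ε τV).left
  let gk : ∀ k, Tk k ⟶ T'.left := fun k => match k with
    | true => τU.left
    | false => τV.left
  let ek : ∀ k, Ek k ⟶ Tk k := fun k => match k with
    | true => (pullback.snd ε τU).left
    | false => (pullback.snd ε τV).left
  let gE : ∀ k, Ek k ⟶ E'.left := fun k => match k with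
    | true => (pullback.fst ε τU).left
    | false => (pullback.fst ε τV).left
  haveI : ∀ k, Etale (gk k) := by
    intro k
    cases k
    · exact hτVe
    · exact (inferInstance : Etale τU.left)
  refine isClosedImmersion_of_etale_family ε.left Tk Ek gk ek gE ?_ ?_ ?_
  · intro k
    cases k
    · exact ((IsPullback.of_hasPullback ε τV).map (Over.forget S)).flip
    · exact ((IsPullback.of_hasPullback ε τU).map (Over.forget S)).flip
  · intro t
    rcases hcover t with ht | ht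
    · exact ⟨true, ht⟩
    · exact ⟨false, ht⟩
  · intro k
    cases k
    · exact h2
    · exact h1

variable {pX : PX ⟶ U} {qX : PX ⟶ V} {pY : PY ⟶ U} {qY : PY ⟶ V} {c : PX ⟶ PY}
  {rX₁ rX₂ : QX ⟶ V} {rY₁ rY₂ : QY ⟶ V} {d : QX ⟶ QY}

/-- the mixed case -/
lemma closed_UV (hj : AlgSp.RepWith @IsOpenImmersion j) (hUs : AlgSp.IsSeparatedMor (j ≫ g))
    (hPX : IsPullback pX qX j f) (hPY : IsPullback pY qY (j ≫ g) (f ≫ g))
    (hc₁ : c ≫ pY = pX) (hc₂ : c ≫ qY = qX) (hcl : AlgSp.IsClosedMor c)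
    {T' E' : Over S} (x : (AlgSp.yon S).obj T' ⟶ U) (y : (AlgSp.yon S).obj T' ⟶ V)
    (h : (x ≫ j) ≫ g = (y ≫ f) ≫ g) (ε : E' ⟶ T') (he : IsEqLocus (x ≫ j) (y ≫ f) ε) :
    IsClosedImmersion ε.left := by
  haveI : Mono ε := he.1
  haveI := mono_of_openImmersion j hj
  have h' : x ≫ j ≫ g = y ≫ f ≫ g := by simpa only [Category.assoc] using h
  obtain ⟨z, sqc⟩ := isPullback_eqLocus j f g pX qX hPX pY qY hPY c hc₁ hc₂ x y h' he
  -- the range is closed
  have hrange : Set.range ε.left =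
      AlgSp.Points.ofPt (hPY.lift x y h') ⁻¹' Set.range (AlgSp.Points.map c) := by
    ext t
    constructor
    · rintro ⟨e, rfl⟩
      refine ⟨AlgSp.Points.ofPt z e, ?_⟩
      rw [AlgSp.Points.map_ofPt, sqc.w, Groth.Agent.S10176.ofPt_map_comp]
    · intro ht
      exact mem_range_of_isPullback sqc t ht
  have hclosed : IsClosed (Set.range ε.left) := by
    rw [hrange]
    exact (hcl.isClosed_range).preimage (AlgSp.Points.continuous_ofPt _)
  -- the preimage of `U`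
  obtain ⟨T₁, τ, y₁, sq₁⟩ := hj.1 (y ≫ f)
  haveI hτo : IsOpenImmersion τ.left := hj.2 _ y₁ τ sq₁
  haveI hτmono : Mono τ := by
    constructor
    intro Z a b hab
    apply Over.OverMorphism.ext
    have := congrArg CommaMorphism.left hab
    exact (cancel_mono τ.left).1 this
  have hcond : ((AlgSp.yon S).map ε ≫ x) ≫ j = (AlgSp.yon S).map ε ≫ (y ≫ f) := by
    rw [Category.assoc]; exact he.eq
  obtain ⟨ε₁, hε₁⟩ := (AlgSp.yon S).map_surjective (sq₁.lift _ _ hcond)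
  have hε₁τ : ε₁ ≫ τ = ε := by
    apply (AlgSp.yon S).map_injective
    rw [Functor.map_comp, hε₁, sq₁.lift_snd]
  have hε₁y : (AlgSp.yon S).map ε₁ ≫ y₁ = (AlgSp.yon S).map ε ≫ x := by
    rw [hε₁, sq₁.lift_fst]
  haveI : Mono ε₁ := by
    haveI : Mono (ε₁ ≫ τ) := by rw [hε₁τ]; infer_instance
    exact mono_of_mono ε₁ τ
  have he₁ : IsEqLocus ((AlgSp.yon S).map τ ≫ x) y₁ ε₁ := by
    refine ⟨inferInstance, fun T'' t => ⟨fun ht => ?_, ?_⟩⟩
    · have h3 : (AlgSp.yon S).map (t ≫ τ) ≫ x ≫ j = (AlgSp.yon S).map (t ≫ τ) ≫ y ≫ f := by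
        have := congrArg (fun m => m ≫ j) ht
        simp only [Category.assoc] at this
        rw [Functor.map_comp, Category.assoc, this, sq₁.w, Category.assoc]
      obtain ⟨t', ht'⟩ := (he.2 T'' (t ≫ τ)).1 h3
      refine ⟨t', ?_⟩
      rw [← cancel_mono τ, Category.assoc, hε₁τ, ht']
    · rintro ⟨t', rfl⟩
      rw [Functor.map_comp, Category.assoc, Category.assoc, ← Category.assoc ((AlgSp.yon S).map ε₁),
        ← Functor.map_comp, hε₁τ, hε₁y]
  have hsep : ((AlgSp.yon S).map τ ≫ x) ≫ j ≫ g = y₁ ≫ j ≫ g := by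
    rw [← Category.assoc y₁, sq₁.w]
    simp only [Category.assoc]
    rw [h']
  haveI : IsClosedImmersion ε₁.left :=
    isClosedImmersion_of_isSeparatedMor (j ≫ g) hUs _ _ hsep he₁
  have hfac : ε.left = ε₁.left ≫ τ.left := by rw [← Over.comp_left, hε₁τ]
  haveI : IsPreimmersion ε.left := by rw [hfac]; infer_instance
  exact IsClosedImmersion.of_isPreimmersion ε.left hclosed

/-- separatedness can be checked on an elementary distinguished square. -/
theorem isSeparatedMor_of_isElemDistSq (hV : AlgSp.IsAlgSpace V) (hX : AlgSp.IsAlgSpace X)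
    (hsq : AlgSp.IsElemDistSq j f)
    (hUs : AlgSp.IsSeparatedMor (j ≫ g)) (hVs : AlgSp.IsSeparatedMor (f ≫ g))
    (hPX : IsPullback pX qX j f) (hPY : IsPullback pY qY (j ≫ g) (f ≫ g))
    (hc₁ : c ≫ pY = pX) (hc₂ : c ≫ qY = qX) (hcl : AlgSp.IsClosedMor c)
    (hQX : IsPullback rX₁ rX₂ f f) (hQY : IsPullback rY₁ rY₂ (f ≫ g) (f ≫ g))
    (hd₁ : d ≫ rY₁ = rX₁) (hd₂ : d ≫ rY₂ = rX₂)
    (hdcl : AlgSp.RepWith @IsClosedImmersion d) : AlgSp.IsSeparatedMor g := by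
  have hj := hsq.1
  haveI := mono_of_openImmersion j hj
  -- the basic cases
  have CUU : ∀ {T' E' : Over S} (x y : (AlgSp.yon S).obj T' ⟶ U),
      (x ≫ j) ≫ g = (y ≫ j) ≫ g → ∀ (ε : E' ⟶ T'), IsEqLocus (x ≫ j) (y ≫ j) ε →
        IsClosedImmersion ε.left := by
    intro T' E' x y h ε he
    exact isClosedImmersion_of_isSeparatedMor (j ≫ g) hUs x y
      (by simpa only [Category.assoc] using h) (isEqLocus_of_comp_mono j he)
  have CUV : ∀ {T' E' : Over S} (x : (AlgSp.yon S).obj T' ⟶ U) (y : (AlgSp.yon S).obj T' ⟶ V),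
      (x ≫ j) ≫ g = (y ≫ f) ≫ g → ∀ (ε : E' ⟶ T'), IsEqLocus (x ≫ j) (y ≫ f) ε →
        IsClosedImmersion ε.left :=
    fun x y h ε he => closed_UV hj hUs hPX hPY hc₁ hc₂ hcl x y h ε he
  have CVU : ∀ {T' E' : Over S} (x : (AlgSp.yon S).obj T' ⟶ V) (y : (AlgSp.yon S).obj T' ⟶ U),
      (x ≫ f) ≫ g = (y ≫ j) ≫ g → ∀ (ε : E' ⟶ T'), IsEqLocus (x ≫ f) (y ≫ j) ε →
        IsClosedImmersion ε.left :=
    fun x y h ε he => CUV y x h.symm ε (isEqLocus_symm he)
  have CVV : ∀ {T' E' : Over S} (x y : (AlgSp.yon S).obj T' ⟶ V),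
      (x ≫ f) ≫ g = (y ≫ f) ≫ g → ∀ (ε : E' ⟶ T'), IsEqLocus (x ≫ f) (y ≫ f) ε →
        IsClosedImmersion ε.left := by
    intro T' E' x y h ε he
    have h' : x ≫ f ≫ g = y ≫ f ≫ g := by simpa only [Category.assoc] using h
    obtain ⟨z, sqd⟩ := isPullback_eqLocus f f g rX₁ rX₂ hQX rY₁ rY₂ hQY d hd₁ hd₂ x y h' he
    exact hdcl.2 _ z ε sqd
  -- first stage
  have GU := @stage S U V X Y g j f hV hsq U j CUU CUV
  have GV := @stage S U V X Y g j f hV hsq V f CVU CVV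
  -- second stage
  have G := @stage S U V X Y g j f hV hsq X (𝟙 X)
    (fun {T' E'} x y h ε he => by
      rw [Category.comp_id] at h he
      exact GU y x h.symm ε (isEqLocus_symm he))
    (fun {T' E'} x y h ε he => by
      rw [Category.comp_id] at h he
      exact GV y x h.symm ε (isEqLocus_symm he))
  -- conclusion
  refine MorphismProperty.relative.of_exists (fun T c' => ?_)
  obtain ⟨E, ε, he⟩ := exists_isEqLocus hX.diag (c' ≫ pullback.fst g g) (c' ≫ pullback.snd g g)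
  refine ⟨E, _, ε, he.isPullback_diagonal g c', ?_⟩
  have he' : IsEqLocus ((c' ≫ pullback.fst g g) ≫ 𝟙 X) (c' ≫ pullback.snd g g) ε := by
    rw [Category.comp_id]; exact he
  refine G (c' ≫ pullback.fst g g) (c' ≫ pullback.snd g g) ?_ ε he'
  rw [Category.comp_id, Category.assoc, Category.assoc, pullback.condition]

end Main

end Groth.Agent.Lib.Seat47.ElemDistSep
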