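import Groth.Agent.Lib.Seat46ElemNbhd

/-!
# Residue fields along morphisms of elementary étale neighbourhoods (seat 47)

If `g : (U', u') ⟶ (U, u)` is a morphism of charts of `X` and the residue field point of `u'` is a
monomorphism into `X`, the residue field extension `κ(u) → κ(u')` is trivial.
-/

set_option autoImplicit false
universe u
open CategoryTheory CategoryTheory.Limits AlgebraicGeometry

namespace Groth.Agent.Lib.Seat47.ElemNbhdRes

open Groth.Agent.Lib.Seat46.ElemNbhd Groth.Agent.Lib.Seat46.DecentChart

variable {S : Scheme.{u}} {X : AlgSp.Sp S}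

theorem bijective_residueField_map_of_mono {U U' : Over S}
    (a : (AlgSp.yon S).obj U ⟶ X) (a' : (AlgSp.yon S).obj U' ⟶ X) (g : U' ⟶ U) (u' : ↥U'.left)
    (hg : (AlgSp.yon S).map g ≫ a = a') (hm' : Mono (AlgSp.FieldPt.ofPt a' u').toHom) :
    Function.Bijective (IsLocalRing.ResidueField.map (g.left.stalkMap u').hom) := by
  have hu : (ptι a' u' ≫ g).left (IsLocalRing.closedPoint ↥(U'.left.residueField u')) =
      g.left u' := by
    simp only [Over.comp_left, Scheme.Hom.comp_apply]
    congr 1
    exact Scheme.fromSpecResidueField_apply _ _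
  obtain ⟨F, hF⟩ := exists_factor_ptι a (AlgSp.FieldPt.ofPt a' u').str (ptι a' u' ≫ g)
    (g.left u') hu
  have hfac : (AlgSp.FieldPt.ofPt a' u').toHom =
      (AlgSp.yon S).map F ≫ (AlgSp.FieldPt.ofPt a (g.left u')).toHom := by
    rw [toHom_ofPt' a, ← Category.assoc, ← Functor.map_comp, hF, Functor.map_comp, Category.assoc,
      hg, toHom_ofPt' a']
  haveI : Mono ((AlgSp.yon S).map F) := by
    haveI : Mono ((AlgSp.yon S).map F ≫ (AlgSp.FieldPt.ofPt a (g.left u')).toHom) := by
      rw [← hfac]; exact hm'
    exact mono_of_mono _ (AlgSp.FieldPt.ofPt a (g.left u')).toHom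
  haveI : Mono F := (AlgSp.yon S).mono_of_mono_map inferInstance
  obtain ⟨F', hF'⟩ : ∃ F' : Spec (U'.left.residueField u') ⟶
      Spec (U.left.residueField (g.left u')), F' = F.left := ⟨_, rfl⟩
  haveI : Mono F' := by rw [hF']; exact Over.mono_left_of_mono F
  haveI : Nonempty ↥(Spec (U'.left.residueField u')) := ⟨IsLocalRing.closedPoint _⟩
  haveI hiso : IsIso F' :=
    isIso_of_mono_field (K := ↥(U.left.residueField (g.left u'))) F'
  have hFl : F' = Spec.map (g.left.residueFieldMap u') := by
    rw [← cancel_mono (U.left.fromSpecResidueField (g.left u')),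
      Scheme.Hom.SpecMap_residueFieldMap_fromSpecResidueField, hF']
    have := congrArg (fun k => k.left) hF
    simp only [Over.comp_left, Over.homMk_left] at this
    exact this
  rw [hFl, isIso_SpecMap_iff] at hiso
  exact hiso

end Groth.Agent.Lib.Seat47.ElemNbhdRes
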