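import Mathlib
import Groth.Prelude.Def_EssEt

/-!
# Stalk maps of étale morphisms are essentially étale (seat 47)

* `isEssentiallyEtale_of_isLocalization` : for an étale algebra `A → A'`, a prime `q` of `A'` over
  `p`, the local algebra `A_p → A'_q` is essentially étale in the sense of `EGA4loc`.
* `isEssentiallyEtale_stalkMap` : the stalk map of an étale morphism of schemes is essentially
  étale.
-/

set_option autoImplicit false
universe u

namespace Groth.Agent.Lib.Seat47.EssEtStalk

open TensorProduct IsLocalRing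

set_option maxHeartbeats 800000 in
theorem isEssentiallyEtale_of_isLocalization
    (A A' O O' : Type u) [CommRing A] [CommRing A'] [CommRing O] [CommRing O']
    [Algebra A A'] [Algebra.Etale A A'] [Algebra A O] [Algebra A' O'] [Algebra O O'] [Algebra A O']
    [IsScalarTower A O O'] [IsScalarTower A A' O'] [IsLocalRing O] [IsLocalRing O']
    [IsLocalHom (algebraMap O O')]
    (p : Ideal A) [p.IsPrime] (q : Ideal A') [q.IsPrime]
    [IsLocalization.AtPrime O p] [IsLocalization.AtPrime O' q] :
    EGA4loc.IsEssentiallyEtale O O' := by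
  classical
  letI : Algebra A' (O ⊗[A] A') := Algebra.TensorProduct.rightAlgebra
  haveI hC : IsLocalization (Algebra.algebraMapSubmonoid A' p.primeCompl) (O ⊗[A] A') :=
    IsLocalization.tensorRight (S := A') O p.primeCompl
  let μ : (O ⊗[A] A') →ₐ[O] O' :=
    Algebra.TensorProduct.lift (Algebra.ofId O O') (IsScalarTower.toAlgHom A A' O')
      (fun _ _ => Commute.all _ _)
  have hμr : ∀ a' : A', μ (algebraMap A' (O ⊗[A] A') a') = algebraMap A' O' a' := by
    intro a'
    change μ ((1 : O) ⊗ₜ[A] a') = _
    simp [μ]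
  let Q : Ideal (O ⊗[A] A') := (maximalIdeal O').comap μ.toRingHom
  haveI : Q.IsPrime := Ideal.comap_isPrime _ _
  have hQq : Q.comap (algebraMap A' (O ⊗[A] A')) = q := by
    rw [Ideal.comap_comap]
    have : μ.toRingHom.comp (algebraMap A' (O ⊗[A] A')) = algebraMap A' O' := by
      ext a'; exact hμr a'
    rw [this]
    exact IsLocalization.AtPrime.comap_maximalIdeal O' q
  have hQO : Q.comap (algebraMap O (O ⊗[A] A')) = maximalIdeal O := by
    rw [Ideal.comap_comap]
    have : μ.toRingHom.comp (algebraMap O (O ⊗[A] A')) = algebraMap O O' := by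
      ext x; exact μ.commutes x
    rw [this]
    exact ((IsLocalRing.local_hom_TFAE (algebraMap O O')).out 0 4).1
      (inferInstance : IsLocalHom (algebraMap O O'))
  haveI hT : IsLocalization.AtPrime (Localization.AtPrime Q) q := by
    have := IsLocalization.isLocalization_isLocalization_atPrime_isLocalization
      (Algebra.algebraMapSubmonoid A' p.primeCompl) (Localization.AtPrime Q) Q
    simpa only [hQq] using this
  let e : O' ≃ₐ[A'] Localization.AtPrime Q :=
    IsLocalization.algEquiv q.primeCompl O' (Localization.AtPrime Q)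
  have hcomm : ∀ x : O, e (algebraMap O O' x) = algebraMap O (Localization.AtPrime Q) x := by
    intro x
    have key : (e.toAlgHom.toRingHom.comp (algebraMap O O')) =
        (algebraMap O (Localization.AtPrime Q)) := by
      apply IsLocalization.ringHom_ext p.primeCompl
      ext a
      simp only [RingHom.comp_apply]
      rw [← IsScalarTower.algebraMap_apply A O O', IsScalarTower.algebraMap_apply A A' O']
      change e (algebraMap A' O' (algebraMap A A' a)) = _
      rw [e.commutes]
      rw [IsScalarTower.algebraMap_apply A' (O ⊗[A] A') (Localization.AtPrime Q),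
        IsScalarTower.algebraMap_apply O (O ⊗[A] A') (Localization.AtPrime Q)]
      congr 1
      change (1 : O) ⊗ₜ[A] (algebraMap A A' a) = (algebraMap A O a) ⊗ₜ[A] (1 : A')
      rw [Algebra.algebraMap_eq_smul_one, Algebra.algebraMap_eq_smul_one, TensorProduct.smul_tmul]
    exact congrArg (fun f => f x) key
  refine ⟨O ⊗[A] A', inferInstance, inferInstance, Q, inferInstance, inferInstance, hQO,
    ⟨AlgEquiv.ofRingEquiv (f := e.toRingEquiv) hcomm⟩⟩

open AlgebraicGeometry CategoryTheory in
set_option maxHeartbeats 800000 in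
/-- the stalk map of an étale morphism of schemes is essentially étale. -/
theorem isEssentiallyEtale_stalkMap {X Y : Scheme.{u}} (g : Y ⟶ X) [Etale g] (y : Y) :
    letI := (g.stalkMap y).hom.toAlgebra
    EGA4loc.IsEssentiallyEtale (X.presheaf.stalk (g y)) (Y.presheaf.stalk y) := by
  letI := (g.stalkMap y).hom.toAlgebra
  obtain ⟨_, ⟨U, hU, rfl⟩, hyU, -⟩ :=
    X.isBasis_affineOpens.exists_subset_of_mem_open (Set.mem_univ (g y)) isOpen_univ
  obtain ⟨_, ⟨V, hV, rfl⟩, hyV, hVU⟩ :=
    Y.isBasis_affineOpens.exists_subset_of_mem_open (show y ∈ (g ⁻¹ᵁ U : Set Y) from hyU)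
      (g ⁻¹ᵁ U).2
  letI : Algebra Γ(X, U) Γ(Y, V) := (g.appLE U V hVU).hom.toAlgebra
  haveI : Algebra.Etale Γ(X, U) Γ(Y, V) := Etale.etale_appLE g hU hV hVU
  letI := X.presheaf.algebra_section_stalk ⟨g y, hyU⟩
  letI := Y.presheaf.algebra_section_stalk ⟨y, hyV⟩
  letI : Algebra Γ(X, U) (Y.presheaf.stalk y) :=
    ((g.stalkMap y).hom.comp (algebraMap Γ(X, U) (X.presheaf.stalk (g y)))).toAlgebra
  haveI : IsScalarTower Γ(X, U) (X.presheaf.stalk (g y)) (Y.presheaf.stalk y) :=
    IsScalarTower.of_algebraMap_eq' rfl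
  haveI : IsScalarTower Γ(X, U) Γ(Y, V) (Y.presheaf.stalk y) := by
    refine IsScalarTower.of_algebraMap_eq fun a => ?_
    change (g.stalkMap y).hom (X.presheaf.germ U (g y) hyU a) =
      Y.presheaf.germ V y hyV ((g.appLE U V hVU).hom a)
    rw [Scheme.Hom.appLE]
    erw [Scheme.Hom.germ_stalkMap_apply g U y hyU a]
    simp only [CommRingCat.hom_comp, RingHom.comp_apply]
    exact (TopCat.Presheaf.germ_res_apply Y.presheaf (homOfLE hVU) y hyV _).symm
  haveI : IsLocalHom (algebraMap (X.presheaf.stalk (g y)) (Y.presheaf.stalk y)) :=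
    inferInstanceAs (IsLocalHom (g.stalkMap y).hom)
  haveI := hU.isLocalization_stalk ⟨g y, hyU⟩
  haveI := hV.isLocalization_stalk ⟨y, hyV⟩
  exact isEssentiallyEtale_of_isLocalization Γ(X, U) Γ(Y, V) (X.presheaf.stalk (g y))
    (Y.presheaf.stalk y) (hU.primeIdealOf ⟨g y, hyU⟩).asIdeal (hV.primeIdealOf ⟨y, hyV⟩).asIdeal

end Groth.Agent.Lib.Seat47.EssEtStalk
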