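import Mathlib.AlgebraicGeometry.Sites.Etale
import Mathlib.AlgebraicGeometry.Morphisms.Etale

/-!
# Seat 47: properties of morphisms of schemes that are local at the target for the étale precoverage

Two basic consequences of `P.IsLocalAtTarget Scheme.etalePrecoverage`:
* `P` is stable under base change along étale morphisms;
* `P` descends along surjective étale base change.
-/

set_option autoImplicit false

universe u

open CategoryTheory CategoryTheory.Limits AlgebraicGeometry

namespace Groth.Agent.Lib.Seat47.EtLoc

variable (P : MorphismProperty Scheme.{u}) [P.IsLocalAtTarget Scheme.etalePrecoverage]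

/-- the two-member étale cover `{𝟙 Y, g}` of `Y` for an étale `g : U ⟶ Y`. -/
noncomputable def coverOfEtale {U Y : Scheme.{u}} (g : U ⟶ Y) [Etale g] :
    Scheme.Cover.{u} (Scheme.precoverage @Etale) Y :=
  Scheme.Cover.mkOfCovers (Option PUnit.{u + 1}) (fun i => Option.rec Y (fun _ => U) i)
    (fun i => Option.rec (motive := fun i => (Option.rec Y (fun _ => U) i : Scheme.{u}) ⟶ Y)
      (𝟙 Y) (fun _ => g) i)
    (fun y => ⟨none, y, rfl⟩)
    (fun i => by
      cases i with
      | none => exact (inferInstance : Etale (𝟙 Y))
      | some _ => exact (inferInstance : Etale g))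

/-- the one-member étale cover `{g}` of `Y` for a surjective étale `g : U ⟶ Y`. -/
noncomputable def coverOfEtaleSurj {U Y : Scheme.{u}} (g : U ⟶ Y) [Etale g] [Surjective g] :
    Scheme.Cover.{u} (Scheme.precoverage @Etale) Y :=
  Scheme.Cover.mkOfCovers PUnit.{u + 1} (fun _ => U) (fun _ => g)
    (fun y => by
      obtain ⟨x, hx⟩ := Surjective.surj (f := g) y
      exact ⟨PUnit.unit, x, hx⟩)
    (fun _ => (inferInstance : Etale g))

/-- `P` is stable under base change along étale morphisms. -/
theorem of_isPullback_etale {X Y U W : Scheme.{u}} {f : X ⟶ Y} {g : U ⟶ Y} [Etale g]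
    {fst : W ⟶ X} {snd : W ⟶ U} (h : IsPullback fst snd f g) (hf : P f) : P snd :=
  MorphismProperty.IsLocalAtTarget.of_isPullback (P := P) (K := Scheme.etalePrecoverage)
    (coverOfEtale g) (i := some PUnit.unit) h hf

/-- `P` descends along surjective étale base change. -/
theorem descend_etale_surj {X Y U W : Scheme.{u}} {f : X ⟶ Y} {g : U ⟶ Y} [Etale g] [Surjective g]
    {fst : W ⟶ X} {snd : W ⟶ U} (h : IsPullback fst snd f g) (hsnd : P snd) : P f := by
  refine MorphismProperty.IsLocalAtTarget.of_zeroHypercover (P := P) (K := Scheme.etalePrecoverage)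
    (coverOfEtaleSurj g) (fun _ => ?_)
  have : HasPullback f g := h.hasPullback
  change P (pullback.snd f g)
  rw [← P.cancel_left_of_respectsIso h.isoPullback.hom, h.isoPullback_hom_snd]
  exact hsnd

end Groth.Agent.Lib.Seat47.EtLoc
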