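import Mathlib
import Groth.Prelude.Def_AlgSpInf
import Groth.Agent.Lib.Seat47FEt
import Groth.Agent.S1489

/-!
# Formally étale / unramified: schemes versus sheaves, representable morphisms (seat 47)
-/

set_option autoImplicit false
universe u
open CategoryTheory CategoryTheory.Limits AlgebraicGeometry Opposite TopologicalSpace

namespace Groth.Agent.Lib.Seat47.FEt

open Groth.Agent.Lib.Seat47.Thk Groth.Agent.Lib.Seat47.FamSheaf Groth.Agent.Lib.Helper15

variable {S : Scheme.{u}}

/-- scheme-level uniqueness of infinitesimal lifts -/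
def LiftUniq {X Y : Scheme.{u}} (f : X ⟶ Y) : Prop :=
  ∀ (A : Type u) [CommRing A] (I : Ideal A), I ^ 2 = ⊥ → ∀ (l l' : Spec (.of A) ⟶ X),
    Spec.map (CommRingCat.ofHom (Ideal.Quotient.mk I)) ≫ l =
      Spec.map (CommRingCat.ofHom (Ideal.Quotient.mk I)) ≫ l' → l ≫ f = l' ≫ f → l = l'

theorem formallyUnramified_of_liftUniq {X Y : Scheme.{u}} (f : X ⟶ Y) (H : LiftUniq f) :
    FormallyUnramified f := by
  refine ⟨fun {U hU V hV hVU} ↦ ?_⟩
  let := (f.appLE U V hVU).hom.toAlgebra
  refine Algebra.FormallyUnramified.iff_comp_injective.mpr fun R _ _ I hI g₁ g₂ hg₁g₂ ↦ ?_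
  have hg₁ : f.appLE U V hVU ≫ CommRingCat.ofHom g₁ = CommRingCat.ofHom (algebraMap _ R) :=
    CommRingCat.hom_ext g₁.comp_algebraMap
  have hg₂ : f.appLE U V hVU ≫ CommRingCat.ofHom g₂ = CommRingCat.ofHom (algebraMap _ R) :=
    CommRingCat.hom_ext g₂.comp_algebraMap
  have := H R I hI
    (Spec.map (CommRingCat.ofHom g₁) ≫ hV.fromSpec) (Spec.map (CommRingCat.ofHom g₂) ≫ hV.fromSpec)
    (by
      rw [← Category.assoc, ← Category.assoc, ← Spec.map_comp, ← Spec.map_comp]
      congr 2
      ext x
      exact congr($hg₁g₂ x))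
    (by simp only [Category.assoc, ← hU.SpecMap_appLE_fromSpec f hV hVU, ← Spec.map_comp_assoc, *])
  rw [cancel_mono, Spec.map_inj] at this
  exact AlgHom.ext fun x ↦ congr($this x)

theorem liftUniq_of_formallyUnramified {X Y : Scheme.{u}} (f : X ⟶ Y) [FormallyUnramified f] :
    LiftUniq f := by
  intro A _ I hI l l' h1 h2
  haveI : IsClosedImmersion (Spec.map (CommRingCat.ofHom (Ideal.Quotient.mk I))) :=
    IsClosedImmersion.spec_of_surjective _ Ideal.Quotient.mk_surjective
  exact FormallyUnramified.hom_ext (Spec.map (CommRingCat.ofHom (Ideal.Quotient.mk I)))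
    (Groth.Agent.Lib.Helper2.FormalEt.spec_nilpotent A I hI) f h1 h2

/-- for a morphism of schemes over `S`: `h_g` is formally unramified (lifting sense) iff `g` is
formally unramified. -/
theorem isFormallyUnramifiedMor_yon_map_iff {U V : Over S} (h : U ⟶ V) :
    AlgSp.IsFormallyUnramifiedMor ((AlgSp.yon S).map h) ↔ FormallyUnramified h.left := by
  constructor
  · intro hmor
    apply formallyUnramified_of_liftUniq
    intro A _ I hI l l' h1 h2
    have hstr : l' ≫ U.hom = l ≫ U.hom := by
      rw [← Over.w h, ← Category.assoc, ← h2, Category.assoc]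
    let lam : pT' A (l ≫ U.hom) ⟶ U := Over.homMk l rfl
    let lam' : pT' A (l ≫ U.hom) ⟶ U := Over.homMk l' hstr
    have key : (AlgSp.yon S).map lam = (AlgSp.yon S).map lam' := by
      apply uniq_affine hmor I hI (l ≫ U.hom)
      · rw [← Functor.map_comp, ← Functor.map_comp]
        congr 1
        apply Over.OverMorphism.ext
        exact h1
      · rw [← Functor.map_comp, ← Functor.map_comp]
        congr 1
        apply Over.OverMorphism.ext
        exact h2
    have := (AlgSp.yon S).map_injective key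
    exact congrArg CommaMorphism.left this
  · intro hh sq l l' h1 h2 h1' h2'
    obtain ⟨lam, rfl⟩ := (AlgSp.yon S).map_surjective l
    obtain ⟨lam', rfl⟩ := (AlgSp.yon S).map_surjective l'
    have e1 : sq.j ≫ lam = sq.j ≫ lam' := by
      apply (AlgSp.yon S).map_injective
      rw [Functor.map_comp, Functor.map_comp, h1, h1']
    have e2 : lam ≫ h = lam' ≫ h := by
      apply (AlgSp.yon S).map_injective
      rw [Functor.map_comp, Functor.map_comp, h2, h2']
    have := liftUniq_of_formallyUnramified h.left sq.A sq.I sq.sq_zero lam.left lam'.left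
      (congrArg CommaMorphism.left e1) (congrArg CommaMorphism.left e2)
    congr 1
    apply Over.OverMorphism.ext
    exact this

/-- for a morphism of schemes over `S`: `h_g` is formally étale (lifting sense) iff `g` is. -/
theorem isFormallyEtaleMor_yon_map_iff {U V : Over S} (h : U ⟶ V) :
    AlgSp.IsFormallyEtaleMor ((AlgSp.yon S).map h) ↔ MoreMor.IsFormallyEtaleHom h.left := by
  constructor
  · intro hmor A _ I hI a b w
    have hstr : a ≫ U.hom = Spec.map (CommRingCat.ofHom (Ideal.Quotient.mk I)) ≫ b ≫ V.hom := by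
      rw [← Over.w h, ← Category.assoc, ← w, Category.assoc]
    let tau : pT I (b ≫ V.hom) ⟶ U := Over.homMk a hstr
    let beta : pT' A (b ≫ V.hom) ⟶ V := Over.homMk b rfl
    have hcomm : tau ≫ h = pj I (b ≫ V.hom) ≫ beta := by
      apply Over.OverMorphism.ext
      exact w.symm
    obtain ⟨l, ⟨hl1, hl2⟩, hl3⟩ := uniqLift_affine hmor I hI (b ≫ V.hom)
      ((AlgSp.yon S).map tau) ((AlgSp.yon S).map beta)
      (by rw [← Functor.map_comp, ← Functor.map_comp, hcomm])
    obtain ⟨lam, rfl⟩ := (AlgSp.yon S).map_surjective l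
    have e1 : pj I (b ≫ V.hom) ≫ lam = tau := by
      apply (AlgSp.yon S).map_injective
      rw [Functor.map_comp]
      exact hl1
    have e2 : lam ≫ h = beta := by
      apply (AlgSp.yon S).map_injective
      rw [Functor.map_comp]
      exact hl2
    refine ⟨lam.left, ⟨congrArg CommaMorphism.left e1, congrArg CommaMorphism.left e2⟩, ?_⟩
    rintro l₀ ⟨h1, h2⟩
    have hl₀ : l₀ ≫ U.hom = b ≫ V.hom := by
      rw [← Over.w h, ← Category.assoc, h2]
    let lam₀ : pT' A (b ≫ V.hom) ⟶ U := Over.homMk l₀ hl₀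
    have := hl3 ((AlgSp.yon S).map lam₀) ⟨by
      show (AlgSp.yon S).map (pj I (b ≫ V.hom)) ≫ (AlgSp.yon S).map lam₀ = (AlgSp.yon S).map tau
      rw [← Functor.map_comp]
      congr 1
      apply Over.OverMorphism.ext
      exact h1, by
      show (AlgSp.yon S).map lam₀ ≫ (AlgSp.yon S).map h = (AlgSp.yon S).map beta
      rw [← Functor.map_comp]
      congr 1
      apply Over.OverMorphism.ext
      exact h2⟩
    have := (AlgSp.yon S).map_injective this
    exact congrArg CommaMorphism.left this
  · intro hh sq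
    obtain ⟨tau, htau⟩ := (AlgSp.yon S).map_surjective sq.top
    obtain ⟨beta, hbeta⟩ := (AlgSp.yon S).map_surjective sq.bot
    have hcomm : tau ≫ h = sq.j ≫ beta := by
      apply (AlgSp.yon S).map_injective
      rw [Functor.map_comp, Functor.map_comp, htau, hbeta]
      exact sq.comm
    obtain ⟨l₀, ⟨h1, h2⟩, h3⟩ := hh sq.A sq.I sq.sq_zero tau.left beta.left
      (congrArg CommaMorphism.left hcomm).symm
    have hl₀ : l₀ ≫ U.hom = sq.str := by
      rw [← Over.w h, ← Category.assoc, h2]
      exact Over.w beta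
    let lam : sq.ptT' ⟶ U := Over.homMk l₀ hl₀
    refine ⟨(AlgSp.yon S).map lam, ⟨?_, ?_⟩, ?_⟩
    · rw [← htau, ← Functor.map_comp]
      congr 1
      apply Over.OverMorphism.ext
      exact h1
    · rw [← hbeta, ← Functor.map_comp]
      congr 1
      apply Over.OverMorphism.ext
      exact h2
    · rintro l' ⟨h1', h2'⟩
      obtain ⟨lam', rfl⟩ := (AlgSp.yon S).map_surjective l'
      have e1 : sq.j ≫ lam' = tau := by
        apply (AlgSp.yon S).map_injective
        rw [Functor.map_comp, h1', htau]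
      have e2 : lam' ≫ h = beta := by
        apply (AlgSp.yon S).map_injective
        rw [Functor.map_comp, h2', hbeta]
      have := h3 lam'.left ⟨congrArg CommaMorphism.left e1, congrArg CommaMorphism.left e2⟩
      congr 1
      apply Over.OverMorphism.ext
      exact this

/-- formal étaleness can be checked after base change to the test objects -/
theorem isFormallyEtaleMor_of_forall_pullback {F G : AlgSp.Sp S} (a : F ⟶ G)
    (H : ∀ sq : AlgSp.InfSq a, ∃ (P : AlgSp.Sp S) (fst : P ⟶ F)
      (snd : P ⟶ (AlgSp.yon S).obj sq.ptT'), IsPullback fst snd a sq.bot ∧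
        AlgSp.IsFormallyEtaleMor snd) : AlgSp.IsFormallyEtaleMor a := by
  intro sq
  obtain ⟨P, fst, snd, hpb, hsnd⟩ := H sq
  obtain ⟨l₀, ⟨h1', h2'⟩, huniq⟩ := uniqLift_affine hsnd sq.I sq.sq_zero sq.str
    (hpb.lift sq.top ((AlgSp.yon S).map sq.j) sq.comm) (𝟙 _)
    (by rw [hpb.lift_snd, Category.comp_id])
  refine ⟨l₀ ≫ fst, ⟨?_, ?_⟩, ?_⟩
  · rw [← Category.assoc, h1', hpb.lift_fst]
  · rw [Category.assoc, hpb.w, ← Category.assoc, h2', Category.id_comp]
  · rintro l' ⟨e1, e2⟩
    have hl' : hpb.lift l' (𝟙 _) (by rw [e2, Category.id_comp]) = l₀ := by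
      apply huniq
      refine ⟨?_, hpb.lift_snd _ _ _⟩
      show (AlgSp.yon S).map sq.j ≫ hpb.lift l' (𝟙 _) _ =
        hpb.lift sq.top ((AlgSp.yon S).map sq.j) sq.comm
      apply hpb.hom_ext
      · rw [Category.assoc, hpb.lift_fst, hpb.lift_fst, e1]
      · rw [Category.assoc, hpb.lift_snd, hpb.lift_snd, Category.comp_id]
    rw [← hl', hpb.lift_fst]

/-- formal unramifiedness can be checked after base change to the test objects -/
theorem isFormallyUnramifiedMor_of_forall_pullback {F G : AlgSp.Sp S} (a : F ⟶ G)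
    (H : ∀ sq : AlgSp.InfSq a, ∃ (P : AlgSp.Sp S) (fst : P ⟶ F)
      (snd : P ⟶ (AlgSp.yon S).obj sq.ptT'), IsPullback fst snd a sq.bot ∧
        AlgSp.IsFormallyUnramifiedMor snd) : AlgSp.IsFormallyUnramifiedMor a := by
  intro sq l l' e1 e2 e1' e2'
  obtain ⟨P, fst, snd, hpb, hsnd⟩ := H sq
  have key : hpb.lift l (𝟙 _) (by rw [e2, Category.id_comp]) =
      hpb.lift l' (𝟙 _) (by rw [e2', Category.id_comp]) := by
    apply uniq_of_unramified sq hsnd
    · apply hpb.hom_ext
      · rw [Category.assoc, Category.assoc, hpb.lift_fst, hpb.lift_fst, e1, e1']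
      · rw [Category.assoc, Category.assoc, hpb.lift_snd, hpb.lift_snd]
    · rw [hpb.lift_snd, hpb.lift_snd]
  have := congrArg (· ≫ fst) key
  simpa only [hpb.lift_fst] using this

/-- a representable étale morphism of sheaves is formally étale -/
theorem isFormallyEtaleMor_of_repWith_etale {F G : AlgSp.Sp S} (a : F ⟶ G)
    (ha : AlgSp.RepWith @Etale a) : AlgSp.IsFormallyEtaleMor a := by
  apply isFormallyEtaleMor_of_forall_pullback
  intro sq
  obtain ⟨E, e, pF, hpb⟩ := ha.1 sq.bot
  haveI : Etale e.left := ha.2 sq.bot pF e hpb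
  refine ⟨_, pF, (AlgSp.yon S).map e, hpb, ?_⟩
  rw [isFormallyEtaleMor_yon_map_iff]
  exact ((Groth.Agent.S1489.result e.left).1 inferInstance).2

/-- a representable formally unramified morphism of sheaves is formally unramified -/
theorem isFormallyUnramifiedMor_of_repWith {F G : AlgSp.Sp S} (a : F ⟶ G)
    (ha : AlgSp.RepWith @FormallyUnramified a) : AlgSp.IsFormallyUnramifiedMor a := by
  apply isFormallyUnramifiedMor_of_forall_pullback
  intro sq
  obtain ⟨E, e, pF, hpb⟩ := ha.1 sq.bot
  haveI : FormallyUnramified e.left := ha.2 sq.bot pF e hpb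
  refine ⟨_, pF, (AlgSp.yon S).map e, hpb, ?_⟩
  rw [isFormallyUnramifiedMor_yon_map_iff]
  infer_instance

end Groth.Agent.Lib.Seat47.FEt
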