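import Mathlib
import Groth.Prelude.Def_AlgSpInf
import Groth.Agent.Lib.Seat47FEt2

/-!
# Étale localisation on the source for formally unramified morphisms of sheaves (seat 47)
-/

set_option autoImplicit false
universe u
open CategoryTheory CategoryTheory.Limits AlgebraicGeometry Opposite TopologicalSpace

namespace Groth.Agent.Lib.Seat47.FEt

open Groth.Agent.Lib.Seat47.Thk Groth.Agent.Lib.Seat47.FamSheaf Groth.Agent.Lib.Helper15

variable {S : Scheme.{u}}

/-- a single flat, locally finitely presented, surjective morphism generates a covering sieve -/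
lemma single_cover {E W : Over S} (e : E ⟶ W) [Flat e.left] [LocallyOfFinitePresentation e.left]
    [Surjective e.left] :
    Sieve.generate (Presieve.ofArrows (fun _ : Unit => E) (fun _ => e)) ∈ AlgSp.J S W :=
  generate_ofArrows_mem_J _ _ (fun _ => ⟨inferInstance, inferInstance⟩)
    (fun w => ⟨(), e.left.surjective w⟩)

/-- `Spec (A ⧸ I) ⟶ Spec A` as a first order thickening, for a lifting square -/
lemma fo_sq_j {F G : AlgSp.Sp S} {f : F ⟶ G} (sq : AlgSp.InfSq f) :
    MoreMor.IsFirstOrderThickening sq.j.left :=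
  fo_spec sq.A sq.I sq.sq_zero

/-- If `a` is representable, étale and surjective and `a ≫ b` is formally unramified then `b` is
formally unramified. -/
theorem isFormallyUnramifiedMor_of_comp_etale_surj {F G H : AlgSp.Sp S} (a : F ⟶ G) (b : G ⟶ H)
    (ha : AlgSp.RepWith @Etale a) (ha' : AlgSp.RepWith @Surjective a)
    (hab : AlgSp.IsFormallyUnramifiedMor (a ≫ b)) : AlgSp.IsFormallyUnramifiedMor b := by
  have haet := isFormallyEtaleMor_of_repWith_etale a ha
  intro sq l l' h1 h2 h1' h2'
  obtain ⟨E, e, pF, hpb⟩ := ha.1 l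
  haveI : Etale e.left := ha.2 l pF e hpb
  haveI : Surjective e.left := ha'.2 l pF e hpb
  have hfo := pbT_fo sq.j e (fo_sq_j sq)
  have hrew : ∀ m : (AlgSp.yon S).obj sq.ptT' ⟶ G,
      (AlgSp.yon S).map (pbT sq.j e) ≫ (AlgSp.yon S).map e ≫ m =
        (AlgSp.yon S).map (pbZι sq.j e) ≫ (AlgSp.yon S).map sq.j ≫ m := by
    intro m
    rw [← Category.assoc, ← Functor.map_comp, pbT_comm, Functor.map_comp, Category.assoc]
  obtain ⟨m', ⟨hm1, hm2⟩, -⟩ := eext haet (pbT sq.j e) hfo
    ((AlgSp.yon S).map (pbT sq.j e) ≫ pF) ((AlgSp.yon S).map e ≫ l') (by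
      rw [Category.assoc, hpb.w, hrew, hrew, h1, h1'])
  have hmm : pF = m' := by
    apply uext hab (pbT sq.j e) hfo
    · exact hm1.symm
    · rw [← Category.assoc, ← Category.assoc, hpb.w, hm2, Category.assoc, Category.assoc, h2, h2']
  have key : (AlgSp.yon S).map e ≫ l = (AlgSp.yon S).map e ≫ l' := by
    rw [← hpb.w, hmm, hm2]
  exact sep _ _ (single_cover e) l l' (fun _ => key)

end Groth.Agent.Lib.Seat47.FEt
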