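import Mathlib
import Groth.Prelude.Def_AlgSpInf
import Groth.Agent.Lib.Seat47FEt3
import Groth.Agent.Lib.Seat47LiftCover

/-!
# Étale localisation on the source for formally étale morphisms of sheaves (seat 47)
-/

set_option autoImplicit false
universe u
open CategoryTheory CategoryTheory.Limits AlgebraicGeometry Opposite TopologicalSpace

namespace Groth.Agent.Lib.Seat47.FEt

open Groth.Agent.Lib.Seat47.Thk Groth.Agent.Lib.Seat47.FamSheaf Groth.Agent.Lib.Helper15
open Groth.Agent.Lib.Seat47.LiftCover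

variable {S : Scheme.{u}}

section Restrict

variable {A B : Type u} [CommRing A] [CommRing B] (I : Ideal A) (str : Spec (.of A) ⟶ S)
  (φ : A →+* B)

/-- `Spec B` over `S` -/
noncomputable abbrev rW : Over S := pT' B (Spec.map (CommRingCat.ofHom φ) ≫ str)

/-- `Spec (B ⧸ I B)` over `S` -/
noncomputable abbrev rT : Over S := pT (I.map φ) (Spec.map (CommRingCat.ofHom φ) ≫ str)

/-- `Spec B ⟶ Spec A` over `S` -/
noncomputable def rg : rW str φ ⟶ pT' A str := Over.homMk (Spec.map (CommRingCat.ofHom φ)) rfl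

lemma spec_quot_comm :
    Spec.map (CommRingCat.ofHom (Ideal.quotientMap (I.map φ) φ Ideal.le_comap_map)) ≫
      Spec.map (CommRingCat.ofHom (Ideal.Quotient.mk I)) =
    Spec.map (CommRingCat.ofHom (Ideal.Quotient.mk (I.map φ))) ≫
      Spec.map (CommRingCat.ofHom φ) := by
  rw [← Spec.map_comp, ← Spec.map_comp, ← CommRingCat.ofHom_comp, ← CommRingCat.ofHom_comp,
    Ideal.quotientMap_comp_mk]

/-- `Spec (B ⧸ I B) ⟶ Spec (A ⧸ I)` over `S` -/
noncomputable def rρ : rT I str φ ⟶ pT I str :=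
  Over.homMk (Spec.map (CommRingCat.ofHom (Ideal.quotientMap (I.map φ) φ Ideal.le_comap_map))) (by
    show Spec.map (CommRingCat.ofHom (Ideal.quotientMap (I.map φ) φ Ideal.le_comap_map)) ≫
      Spec.map (CommRingCat.ofHom (Ideal.Quotient.mk I)) ≫ str =
      Spec.map (CommRingCat.ofHom (Ideal.Quotient.mk (I.map φ))) ≫
        Spec.map (CommRingCat.ofHom φ) ≫ str
    rw [← Category.assoc, spec_quot_comm, Category.assoc])

lemma r_comm : pj (I.map φ) (Spec.map (CommRingCat.ofHom φ) ≫ str) ≫ rg str φ =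
    rρ I str φ ≫ pj I str :=
  Over.OverMorphism.ext (spec_quot_comm I φ).symm

lemma r_sq_zero (hI : I ^ 2 = ⊥) : (I.map φ) ^ 2 = ⊥ := by
  rw [← Ideal.map_pow, hI, Ideal.map_bot]

lemma r_lift {Z₀ : Over S} (a₀ : Z₀ ⟶ rW str φ) (c₀ : Z₀ ⟶ pT I str)
    (h : a₀ ≫ rg str φ = c₀ ≫ pj I str) :
    ∃ u : Z₀ ⟶ rT I str φ, u ≫ pj (I.map φ) (Spec.map (CommRingCat.ofHom φ) ≫ str) = a₀ ∧
      u ≫ rρ I str φ = c₀ := by
  have hpb := isPullback_quotient φ I
  have hw : a₀.left ≫ Spec.map (CommRingCat.ofHom φ) =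
      c₀.left ≫ Spec.map (CommRingCat.ofHom (Ideal.Quotient.mk I)) :=
    congrArg CommaMorphism.left h
  refine ⟨Over.homMk (hpb.lift a₀.left c₀.left hw) ?_, ?_, ?_⟩
  · show hpb.lift a₀.left c₀.left hw ≫ (Spec.map (CommRingCat.ofHom (Ideal.Quotient.mk (I.map φ))) ≫
      Spec.map (CommRingCat.ofHom φ) ≫ str) = Z₀.hom
    rw [← Category.assoc, hpb.lift_fst]
    exact Over.w a₀
  · apply Over.OverMorphism.ext
    exact hpb.lift_fst _ _ _
  · apply Over.OverMorphism.ext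
    exact hpb.lift_snd _ _ _

end Restrict

/-- If `a` is representable, étale and surjective and `a ≫ b` is formally étale then `b` is
formally étale. -/
theorem isFormallyEtaleMor_of_comp_etale_surj {F G H : AlgSp.Sp S} (a : F ⟶ G) (b : G ⟶ H)
    (ha : AlgSp.RepWith @Etale a) (ha' : AlgSp.RepWith @Surjective a)
    (hab : AlgSp.IsFormallyEtaleMor (a ≫ b)) : AlgSp.IsFormallyEtaleMor b := by
  obtain ⟨habs, habu⟩ := (isFormallyEtaleMor_iff _).1 hab
  have hbu := isFormallyUnramifiedMor_of_comp_etale_surj a b ha ha' habu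
  rw [isFormallyEtaleMor_iff]
  refine ⟨?_, hbu⟩
  intro sq
  obtain ⟨E, e, pF, hpb⟩ := ha.1 sq.top
  haveI : Etale e.left := ha.2 sq.top pF e hpb
  haveI : Surjective e.left := ha'.2 sq.top pF e hpb
  have hloc : ∀ t : ↥(Spec (CommRingCat.of (sq.A ⧸ sq.I))),
      ∃ (B : CommRingCat.{u}) (φ : CommRingCat.of sq.A ⟶ B), Etale (Spec.map φ) ∧
      (∃ σ : Spec (.of (B ⧸ sq.I.map φ.hom)) ⟶ E.left,
        σ ≫ e.left = Spec.map (CommRingCat.ofHom
          (Ideal.quotientMap (sq.I.map φ.hom) φ.hom Ideal.le_comap_map))) ∧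
      (t ∈ Set.range (Spec.map (CommRingCat.ofHom
          (Ideal.quotientMap (sq.I.map φ.hom) φ.hom Ideal.le_comap_map)))) := by
    intro t
    obtain ⟨x, rfl⟩ := e.left.surjective t
    exact exists_etale_lift_nhd' sq.I sq.sq_zero e.left x
  choose B φ hφet hσ ht using hloc
  choose σ hσ using hσ
  -- the data over each member
  let J := fun t => sq.I.map (φ t).hom
  have hJ : ∀ t, J t ^ 2 = ⊥ := fun t => r_sq_zero sq.I (φ t).hom sq.sq_zero
  let Wk := fun t => rW sq.str (φ t).hom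
  let Tk := fun t => rT sq.I sq.str (φ t).hom
  let gk : ∀ t, Wk t ⟶ sq.ptT' := fun t => rg sq.str (φ t).hom
  let ρk : ∀ t, Tk t ⟶ sq.ptT := fun t => rρ sq.I sq.str (φ t).hom
  let jk : ∀ t, Tk t ⟶ Wk t := fun t => pj (J t) (Spec.map (CommRingCat.ofHom (φ t).hom) ≫ sq.str)
  have hcomm : ∀ t, jk t ≫ gk t = ρk t ≫ sq.j := fun t => r_comm sq.I sq.str (φ t).hom
  let sk : ∀ t, Tk t ⟶ E := fun t => Over.homMk (σ t) (by
    show σ t ≫ E.hom = (Tk t).hom
    rw [← Over.w e, ← Category.assoc, hσ t]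
    exact Over.w (ρk t))
  have hsk : ∀ t, sk t ≫ e = ρk t := fun t => Over.OverMorphism.ext (hσ t)
  -- local solutions for `a ≫ b`
  have hm : ∀ t, ∃ m : (AlgSp.yon S).obj (Wk t) ⟶ F,
      (AlgSp.yon S).map (jk t) ≫ m = (AlgSp.yon S).map (sk t) ≫ pF ∧
      m ≫ a ≫ b = (AlgSp.yon S).map (gk t) ≫ sq.bot := by
    intro t
    obtain ⟨m, hm, -⟩ := uniqLift_affine hab (J t) (hJ t)
      (Spec.map (CommRingCat.ofHom (φ t).hom) ≫ sq.str)
      ((AlgSp.yon S).map (sk t) ≫ pF) ((AlgSp.yon S).map (gk t) ≫ sq.bot) (by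
        rw [Category.assoc, ← Category.assoc pF, hpb.w, Category.assoc, ← Category.assoc,
          ← Functor.map_comp, hsk t, sq.comm, ← Category.assoc, ← Functor.map_comp,
          ← hcomm t, Functor.map_comp, Category.assoc])
    exact ⟨m, hm⟩
  choose m hm1 hm2 using hm
  obtain ⟨l, hl⟩ : ∃ l : ∀ t, (AlgSp.yon S).obj (Wk t) ⟶ G, ∀ t, l t = m t ≫ a :=
    ⟨fun t => m t ≫ a, fun _ => rfl⟩
  have hl1 : ∀ t, (AlgSp.yon S).map (jk t) ≫ l t = (AlgSp.yon S).map (ρk t) ≫ sq.top := by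
    intro t
    rw [hl t, ← Category.assoc, hm1 t, Category.assoc, hpb.w, ← Category.assoc,
      ← Functor.map_comp, hsk t]
  have hl2 : ∀ t, l t ≫ b = (AlgSp.yon S).map (gk t) ≫ sq.bot := by
    intro t
    rw [hl t, Category.assoc, hm2 t]
  -- the key compatibility
  have hstar : ∀ t (Z₀ : Over S) (a₀ : Z₀ ⟶ Wk t) (c₀ : Z₀ ⟶ sq.ptT),
      a₀ ≫ gk t = c₀ ≫ sq.j → (AlgSp.yon S).map a₀ ≫ l t = (AlgSp.yon S).map c₀ ≫ sq.top := by
    intro t Z₀ a₀ c₀ h
    obtain ⟨u, hu1, hu2⟩ := r_lift sq.I sq.str (φ t).hom a₀ c₀ h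
    rw [← hu1, Functor.map_comp, Category.assoc, hl1 t, ← Category.assoc, ← Functor.map_comp, hu2]
  -- covering families
  have hcovW : Sieve.generate (Presieve.ofArrows Wk gk) ∈ AlgSp.J S sq.ptT' := by
    refine generate_ofArrows_mem_J _ _ (fun t => ?_) (fun y => ?_)
    · haveI : Etale (Spec.map (CommRingCat.ofHom (φ t).hom)) := hφet t
      exact ⟨(inferInstance : Flat (Spec.map (CommRingCat.ofHom (φ t).hom))),
        (inferInstance : LocallyOfFinitePresentation (Spec.map (CommRingCat.ofHom (φ t).hom)))⟩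
    · obtain ⟨y₀, rfl⟩ := Groth.Agent.Lib.Helper2.FormalEt.surj_specMap_mk sq.A sq.I sq.sq_zero y
      obtain ⟨z, hz⟩ := ht y₀
      refine ⟨y₀, ⟨Spec.map (CommRingCat.ofHom (Ideal.Quotient.mk (J y₀))) z, ?_⟩⟩
      show (Spec.map (CommRingCat.ofHom (φ y₀).hom))
        (Spec.map (CommRingCat.ofHom (Ideal.Quotient.mk (J y₀))) z) = _
      have h5 := congr($(spec_quot_comm sq.I (φ y₀).hom) z)
      rw [Scheme.Hom.comp_apply, Scheme.Hom.comp_apply, hz] at h5
      exact h5.symm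
  have hcovT : Sieve.generate (Presieve.ofArrows Tk ρk) ∈ AlgSp.J S sq.ptT := by
    refine generate_ofArrows_mem_J _ _ (fun t => ?_) (fun y₀ => ⟨y₀, ht y₀⟩)
    haveI : Etale (Spec.map (CommRingCat.ofHom (φ t).hom)) := hφet t
    haveI : Etale (Spec.map (CommRingCat.ofHom
        (Ideal.quotientMap (sq.I.map (φ t).hom) (φ t).hom Ideal.le_comap_map))) :=
      MorphismProperty.of_isPullback (P := @Etale) (isPullback_quotient (φ t).hom sq.I)
        inferInstance
    exact ⟨(inferInstance : Flat (Spec.map (CommRingCat.ofHom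
        (Ideal.quotientMap (sq.I.map (φ t).hom) (φ t).hom Ideal.le_comap_map)))),
      (inferInstance : LocallyOfFinitePresentation (Spec.map (CommRingCat.ofHom
        (Ideal.quotientMap (sq.I.map (φ t).hom) (φ t).hom Ideal.le_comap_map))))⟩
  -- glue
  obtain ⟨L, hL⟩ := glue Wk gk hcovW l (by
    intro t t' Z' p q hpq
    apply uext hbu (pbT sq.j (p ≫ gk t)) (pbT_fo sq.j _ (fo_sq_j sq))
    · rw [← Category.assoc, ← Functor.map_comp, ← Category.assoc, ← Functor.map_comp,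
        hstar t _ (pbT sq.j (p ≫ gk t) ≫ p) (pbZι sq.j (p ≫ gk t))
          (by rw [Category.assoc]; exact pbT_comm sq.j _),
        hstar t' _ (pbT sq.j (p ≫ gk t) ≫ q) (pbZι sq.j (p ≫ gk t))
          (by rw [Category.assoc, ← hpq]; exact pbT_comm sq.j _)]
    · rw [Category.assoc, Category.assoc, hl2, hl2, ← Category.assoc, ← Category.assoc,
        ← Functor.map_comp, ← Functor.map_comp, hpq])
  refine ⟨L, ?_, ?_⟩
  · apply sep Tk ρk hcovT
    intro t
    rw [← hl1 t, ← hL t, ← Category.assoc, ← Functor.map_comp, ← hcomm t, Functor.map_comp,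
      Category.assoc]
  · apply sep Wk gk hcovW
    intro t
    rw [← Category.assoc, hL t, hl2 t]

end Groth.Agent.Lib.Seat47.FEt
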