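import Mathlib
import Groth.Prelude.Def_AlgSpInf
import Groth.Agent.Lib.Seat47FEt4
import Groth.Agent.Lib.Seat47Charts

/-!
# Formally étale morphisms of algebraic spaces on charts (seat 47)
-/

set_option autoImplicit false
universe u
open CategoryTheory CategoryTheory.Limits AlgebraicGeometry Opposite TopologicalSpace

namespace Groth.Agent.Lib.Seat47.FEt

open Groth.Agent.Lib.Seat47.Thk Groth.Agent.Lib.Seat47.FamSheaf Groth.Agent.Lib.Helper15

variable {S : Scheme.{u}}

/-- one chart criterion for formal étaleness -/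
theorem one_chart_etale {F G : AlgSp.Sp S} (f : F ⟶ G) (U V : Over S)
    (a : (AlgSp.yon S).obj U ⟶ F) (b : (AlgSp.yon S).obj V ⟶ G) (h : U ⟶ V)
    (ha : AlgSp.RepWith @Etale a) (has : AlgSp.RepWith @Surjective a)
    (hb : AlgSp.RepWith @Etale b) (w : a ≫ f = (AlgSp.yon S).map h ≫ b)
    (hh : MoreMor.IsFormallyEtaleHom h.left) : AlgSp.IsFormallyEtaleMor f := by
  apply isFormallyEtaleMor_of_comp_etale_surj a f ha has
  rw [w]
  apply isFormallyEtaleMor_comp
  · exact (isFormallyEtaleMor_yon_map_iff h).2 hh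
  · exact isFormallyEtaleMor_of_repWith_etale b hb

/-- a formally étale morphism is formally étale on all charts -/
theorem locP_of_isFormallyEtaleMor {F G : AlgSp.Sp S} (f : F ⟶ G)
    (hf : AlgSp.IsFormallyEtaleMor f) : AlgSp.LocP @MoreMor.IsFormallyEtaleHom f := by
  intro U V a b h ha hb w
  rw [← isFormallyEtaleMor_yon_map_iff]
  have hbet := isFormallyEtaleMor_of_repWith_etale b hb
  have hbu := ((isFormallyEtaleMor_iff b).1 hbet).2
  have hcomp : AlgSp.IsFormallyEtaleMor ((AlgSp.yon S).map h ≫ b) := by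
    rw [← w]
    exact isFormallyEtaleMor_comp a f (isFormallyEtaleMor_of_repWith_etale a ha) hf
  obtain ⟨hs, hu⟩ := (isFormallyEtaleMor_iff _).1 hcomp
  rw [isFormallyEtaleMor_iff]
  exact ⟨isFormallySmoothMor_of_comp _ b hbu hs, isFormallyUnramifiedMor_of_comp _ b hu⟩

/-- formal étaleness of a morphism of algebraic spaces from one atlas diagram -/
theorem isFormallyEtaleMor_of_locP {X Y : AlgSp.Space S} (f : X ⟶ Y)
    (hloc : AlgSp.LocP @MoreMor.IsFormallyEtaleHom f.hom) : AlgSp.IsFormallyEtaleMor f.hom := by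
  obtain ⟨V, b, hbe, hbs⟩ := Y.property.atlas
  obtain ⟨U, a, h, hae, w, -, has⟩ := Groth.Agent.Lib.Seat47.Charts.exists_chart_cover f b hbe
  exact one_chart_etale f.hom U V a b h hae (has hbs) hbe w (hloc a b h hae hbe w)

end Groth.Agent.Lib.Seat47.FEt
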