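import Mathlib
import Groth.Prelude.Def_AlgSpInf
import Groth.Agent.Lib.Seat47FEt4
import Groth.Agent.Lib.Helper9QuotSh
import Groth.Agent.S9885

/-!
# Lifting along first order thickenings of algebraic spaces (seat 47)
-/

set_option autoImplicit false
universe u
open CategoryTheory CategoryTheory.Limits AlgebraicGeometry Opposite TopologicalSpace

namespace Groth.Agent.Lib.Seat47.FEt

open Groth.Agent.Lib.Seat47.Thk Groth.Agent.Lib.Seat47.FamSheaf Groth.Agent.Lib.Helper15

variable {S : Scheme.{u}}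

lemma yE_comp {T : Over S} {P Q : AlgSp.Sp S} (a : (AlgSp.yon S).obj T ⟶ P) (m : P ⟶ Q) :
    yE T Q (a ≫ m) = m.hom.app (op T) (yE T P a) :=
  (AlgSp.J S).uliftYonedaEquiv_comp a m

/-- two maps of sheaves that agree on all points with values in schemes are equal -/
lemma hom_ext_yon {F G : AlgSp.Sp S} (f g : F ⟶ G)
    (h : ∀ (T : Over S) (x : (AlgSp.yon S).obj T ⟶ F), x ≫ f = x ≫ g) : f = g := by
  apply Sheaf.hom_ext
  ext T s
  have h1 := h T.unop ((yE T.unop F).symm s)
  have h2 := congrArg (yE T.unop G) h1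
  rw [yE_comp, yE_comp, Equiv.apply_symm_apply] at h2
  exact h2

/-- a thickening which is of first order over every affine open of the target is of first order -/
theorem fo_of_forall_affineOpens {Z W : Scheme.{u}} (t : Z ⟶ W) (ht : AlgSp.thick t)
    (h : ∀ V : W.affineOpens, AlgSp.sqZero (t ∣_ V.1)) : MoreMor.IsFirstOrderThickening t := by
  haveI : IsClosedImmersion t := ht.1
  refine ⟨ht, ?_⟩
  rw [eq_bot_iff]
  refine Scheme.IdealSheafData.le_of_iSup_eq_top (ι := W.affineOpens) (fun V => V) ?_ ?_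
  · rw [eq_top_iff]
    intro x _
    obtain ⟨_, ⟨V, hV, rfl⟩, hxV, -⟩ :=
      W.isBasis_affineOpens.exists_subset_of_mem_open (Set.mem_univ x) isOpen_univ
    exact Opens.mem_iSup.mpr ⟨⟨V, hV⟩, hxV⟩
  · intro V
    haveI : IsAffine V.1.toScheme := V.2
    have h1 := congr(($(h V)).ideal ⟨⊤, isAffineOpen_top _⟩)
    rw [Scheme.IdealSheafData.ideal_mul, Pi.mul_apply, Scheme.ker_morphismRestrict_ideal,
      Scheme.IdealSheafData.ideal_bot, Pi.bot_apply] at h1
    have key : ∀ U : W.affineOpens, t.ker.ideal U * t.ker.ideal U = ⊥ → U = V →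
        (t.ker * t.ker).ideal V ≤ (⊥ : W.IdealSheafData).ideal V := by
      rintro U hU rfl
      rw [Scheme.IdealSheafData.ideal_mul, Pi.mul_apply, hU]
      exact bot_le
    exact key _ h1 (Subtype.ext (by simp))

/-- existence and uniqueness of lifts for a formally étale morphism of sheaves along a first order
thickening of sheaves whose target has an étale atlas. -/
theorem existsUnique_of_foThick {F G T T' : AlgSp.Sp S} (f : F ⟶ G)
    (hf : AlgSp.IsFormallyEtaleMor f) (hT' : AlgSp.IsAlgSpace T') (j : T ⟶ T')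
    (hj : AlgSp.IsFOThickMor j) (a : T ⟶ F) (b : T' ⟶ G) (w : a ≫ f = j ≫ b)
    (huniq : ∀ l l' : T' ⟶ F, j ≫ l = j ≫ l' → l ≫ f = l' ≫ f → l = l') :
    ∃! l : T' ⟶ F, j ≫ l = a ∧ l ≫ f = b := by
  have hfu := ((isFormallyEtaleMor_iff f).1 hf).2
  obtain ⟨W, c, hce, hcs⟩ := hT'.atlas
  haveI : Sheaf.IsLocallySurjective c :=
    Groth.Agent.S9885.isLocallySurjective_of_repWith c
      ⟨hce.1, fun _ _ g fst snd h => by
        haveI : Etale snd.left := hce.2 g fst snd h
        exact (inferInstance : Flat snd.left)⟩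
      ⟨hce.1, fun _ _ g fst snd h => by
        haveI : Etale snd.left := hce.2 g fst snd h
        exact (inferInstance : LocallyOfFinitePresentation snd.left)⟩
      hcs
  haveI hc_epi : Epi c := inferInstance
  obtain ⟨Z, t, pT, hpb⟩ := hj.1.1 c
  have hthick : AlgSp.thick t.left := hj.1.2 _ pT t hpb
  haveI hpT_epi : Epi pT := Groth.Agent.Lib.Helper9.ToposLike.epi_of_isPullback hpb hc_epi
  -- first order
  have hfo : MoreMor.IsFirstOrderThickening t.left := by
    apply fo_of_forall_affineOpens t.left hthick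
    intro V
    have hVaff : IsAffine (resW W V.1).left := V.2
    have hcV : AlgSp.RepWith @Etale ((AlgSp.yon S).map (resWι W V.1) ≫ c) :=
      MorphismProperty.comp_mem _ _ _
        ((AlgSp.repWith_yon_map_iff _ _).2 (show Etale V.1.ι from inferInstance)) hce
    have hsq_over : IsPullback (resZι t V.1) (resT t V.1) t (resWι W V.1) := by
      refine IsPullback.of_map (Over.forget S) (resT_comm t V.1).symm ?_
      exact (isPullback_morphismRestrict t.left V.1).flip
    have hy := Functor.map_isPullback (AlgSp.yon S) hsq_over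
    exact hj.2 _ _ (resT t V.1) hVaff hcV (hy.paste_horiz hpb)
  -- the lift over the atlas
  obtain ⟨m, ⟨hm1, hm2⟩, -⟩ := eext hf t hfo (pT ≫ a) (c ≫ b) (by
    rw [Category.assoc, w, ← Category.assoc, hpb.w, Category.assoc])
  -- descent along the atlas
  have hdesc : ∀ (T₀ : Over S) (α₁ α₂ : T₀ ⟶ W),
      (AlgSp.yon S).map α₁ ≫ c = (AlgSp.yon S).map α₂ ≫ c →
      (AlgSp.yon S).map α₁ ≫ m = (AlgSp.yon S).map α₂ ≫ m := by
    intro T₀ α₁ α₂ hα
    have hcond : ((AlgSp.yon S).map (pbZι t α₁) ≫ pT) ≫ j =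
        (AlgSp.yon S).map (pbT t α₁ ≫ α₂) ≫ c := by
      rw [Category.assoc, hpb.w, ← Category.assoc, ← Functor.map_comp, ← pbT_comm,
        Functor.map_comp, Category.assoc, hα, Functor.map_comp, Category.assoc]
    apply uext hfu (pbT t α₁) (pbT_fo t α₁ hfo)
    · have e1 : (AlgSp.yon S).map (pbT t α₁) ≫ (AlgSp.yon S).map α₁ ≫ m =
          (AlgSp.yon S).map (pbZι t α₁) ≫ pT ≫ a := by
        rw [← Category.assoc, ← Functor.map_comp, pbT_comm, Functor.map_comp, Category.assoc, hm1]
      have e2 : (AlgSp.yon S).map (pbT t α₁) ≫ (AlgSp.yon S).map α₂ ≫ m =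
          (AlgSp.yon S).map (pbZι t α₁) ≫ pT ≫ a := by
        rw [← Category.assoc, ← Functor.map_comp, ← hpb.lift_snd _ _ hcond, Category.assoc, hm1,
          ← Category.assoc, hpb.lift_fst, Category.assoc]
      rw [e1, e2]
    · rw [Category.assoc, Category.assoc, hm2, ← Category.assoc, ← Category.assoc, hα]
  obtain ⟨L, hL⟩ := Groth.Agent.Lib.Helper9.ToposLike.exists_desc_of_epi c hc_epi m (by
    intro W' a₁ a₂ ha
    apply hom_ext_yon
    intro T₀ x
    obtain ⟨α₁, hα₁⟩ := (AlgSp.yon S).map_surjective (x ≫ a₁)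
    obtain ⟨α₂, hα₂⟩ := (AlgSp.yon S).map_surjective (x ≫ a₂)
    rw [← Category.assoc, ← Category.assoc, ← hα₁, ← hα₂]
    apply hdesc
    rw [hα₁, hα₂, Category.assoc, Category.assoc, ha])
  have hjL : j ≫ L = a := by
    rw [← cancel_epi pT, ← Category.assoc, hpb.w, Category.assoc, hL, hm1]
  have hLf : L ≫ f = b := by
    rw [← cancel_epi c, ← Category.assoc, hL, hm2]
  refine ⟨L, ⟨hjL, hLf⟩, ?_⟩
  rintro L' ⟨h1, h2⟩
  exact huniq L' L (h1.trans hjL.symm) (h2.trans hLf.symm)

end Groth.Agent.Lib.Seat47.FEt
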