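import Groth.Agent.Lib.Seat47FEt6

/-!
# Seat47: base change of first order thickenings of algebraic spaces

* `sqZero_of_flat_surjective`: flat descent of the square-zero condition (commutative square form).
* `fo_of_repWith_etale`: the pullback of a first order thickening of sheaves along a representable
  étale chart is a first order thickening of schemes.
* `isFOThickMor_of_isPullback`: first order thickenings are stable under arbitrary base change
  (the target of the thickening has to be an algebraic space).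
-/

set_option autoImplicit false
universe u
open CategoryTheory CategoryTheory.Limits AlgebraicGeometry TopologicalSpace
open AlgSp

namespace Groth.Agent.Lib.Seat47.FOBC

open Groth.Agent.Lib.Seat47.FEt

/-- injectivity of the stalk maps of a flat morphism -/
lemma stalkMap_injective {X Y : Scheme.{u}} (f : X ⟶ Y) [Flat f] (x : X) :
    Function.Injective (f.stalkMap x).hom := by
  algebraize [(f.stalkMap x).hom]
  have : Module.FaithfullyFlat (Y.presheaf.stalk (f x)) (X.presheaf.stalk x) :=
    @Module.FaithfullyFlat.of_flat_of_isLocalHom _ _ _ _ _ _ _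
      (Flat.stalkMap f x) (f.toLRSHom.prop x)
  exact ‹RingHom.FaithfullyFlat _›.injective

/-- a section of the target killed by a flat surjective morphism on affine opens is zero -/
lemma eq_zero_of_flat_surjective {W W' : Scheme.{u}} (g : W' ⟶ W) [Flat g] [Surjective g]
    (U : W.Opens) (x : Γ(W, U))
    (h : ∀ (V' : W'.affineOpens) (e : V'.1 ≤ g ⁻¹ᵁ U), (g.appLE U V'.1 e).hom x = 0) : x = 0 := by
  apply TopCat.Presheaf.section_ext W.sheaf U x 0
  intro w hw
  change W.presheaf.germ U w hw x = W.presheaf.germ U w hw 0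
  rw [map_zero]
  obtain ⟨y, rfl⟩ := ‹Surjective g›.surj w
  apply stalkMap_injective g y
  rw [map_zero]
  erw [Scheme.Hom.germ_stalkMap_apply g U y hw x]
  obtain ⟨_, ⟨V', hV', rfl⟩, hyV', hV'U : V' ≤ g ⁻¹ᵁ U⟩ :=
    W'.isBasis_affineOpens.exists_subset_of_mem_open (show y ∈ ((g ⁻¹ᵁ U : W'.Opens) : Set W') from hw)
      (g ⁻¹ᵁ U).isOpen
  have h1 := h ⟨V', hV'⟩ hV'U
  rw [← TopCat.Presheaf.germ_res_apply W'.presheaf (homOfLE hV'U) y hyV']
  have : (W'.presheaf.map (homOfLE hV'U).op).hom ((g.app U).hom x) = (g.appLE U V' hV'U).hom x := by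
    rw [Scheme.Hom.appLE]; rfl
  erw [this, h1, map_zero]

/-- flat descent of the square-zero condition: in a commutative square with `g` flat and surjective,
if the kernel of `t'` has square zero, so does the kernel of `t`. -/
theorem sqZero_of_flat_surjective {Z W Z' W' : Scheme.{u}} (t : Z ⟶ W) (t' : Z' ⟶ W')
    (g : W' ⟶ W) (gZ : Z' ⟶ Z) (w : t' ≫ g = gZ ≫ t) [Flat g] [Surjective g]
    [QuasiCompact t] [QuasiCompact t']
    (h' : AlgSp.sqZero t') : AlgSp.sqZero t := by
  show t.ker * t.ker = ⊥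
  rw [eq_bot_iff, Scheme.IdealSheafData.le_def]
  intro U
  rw [Scheme.IdealSheafData.ideal_mul, Pi.mul_apply, Scheme.IdealSheafData.ideal_bot, Pi.bot_apply,
    Scheme.Hom.ker_apply]
  intro x hx
  rw [Ideal.mem_bot]
  apply eq_zero_of_flat_surjective g U.1 x
  intro V' e
  have hle : (RingHom.ker (t.app U.1).hom).map (g.appLE U.1 V'.1 e).hom ≤
      RingHom.ker (t'.app V'.1).hom := by
    rw [Ideal.map_le_iff_le_comap]
    intro y hy
    rw [Ideal.mem_comap, RingHom.mem_ker]
    rw [RingHom.mem_ker] at hy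
    have key : ∀ (φ : Z' ⟶ W) (_ : φ = gZ ≫ t) (e' : t' ⁻¹ᵁ V'.1 ≤ φ ⁻¹ᵁ U.1),
        (φ.appLE U.1 (t' ⁻¹ᵁ V'.1) e').hom y = 0 := by
      rintro _ rfl e'
      rw [Scheme.Hom.comp_appLE, CommRingCat.hom_comp, RingHom.comp_apply, hy, map_zero]
    have h2 := Scheme.Hom.appLE_comp_appLE t' g U.1 V'.1 (t' ⁻¹ᵁ V'.1) e le_rfl
    have h3 := key (t' ≫ g) w (by
      intro z hz
      exact e hz)
    rw [← h2, CommRingCat.hom_comp, RingHom.comp_apply, Scheme.Hom.appLE_eq_app] at h3
    exact h3
  have h0 : RingHom.ker (t'.app V'.1).hom * RingHom.ker (t'.app V'.1).hom = ⊥ := by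
    have := congr(($h').ideal V')
    rw [Scheme.IdealSheafData.ideal_mul, Pi.mul_apply, Scheme.IdealSheafData.ideal_bot,
      Pi.bot_apply, Scheme.Hom.ker_apply] at this
    exact this
  have hmem : (g.appLE U.1 V'.1 e).hom x ∈
      RingHom.ker (t'.app V'.1).hom * RingHom.ker (t'.app V'.1).hom := by
    have := Ideal.mem_map_of_mem (g.appLE U.1 V'.1 e).hom hx
    rw [Ideal.map_mul] at this
    exact Ideal.mul_mono hle hle this
  rw [h0, Ideal.mem_bot] at hmem
  exact hmem

variable {S : Scheme.{u}}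

/-- the pullback of a first order thickening of sheaves along a representable étale chart from a
scheme is a first order thickening of schemes -/
theorem fo_of_repWith_etale {T T' : AlgSp.Sp S} (j : T ⟶ T') (hj : AlgSp.IsFOThickMor j)
    {W Z : Over S} (c : (AlgSp.yon S).obj W ⟶ T') (hce : AlgSp.RepWith @Etale c)
    (t : Z ⟶ W) (pT : (AlgSp.yon S).obj Z ⟶ T)
    (hpb : IsPullback pT ((AlgSp.yon S).map t) j c) :
    MoreMor.IsFirstOrderThickening t.left := by
  have hthick : AlgSp.thick t.left := hj.1.2 _ pT t hpb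
  apply fo_of_forall_affineOpens t.left hthick
  intro V
  have hVaff : IsAffine (resW W V.1).left := V.2
  have hcV : AlgSp.RepWith @Etale ((AlgSp.yon S).map (resWι W V.1) ≫ c) :=
    MorphismProperty.comp_mem _ _ _
      ((AlgSp.repWith_yon_map_iff _ _).2 (show Etale V.1.ι from inferInstance)) hce
  have hsq_over : IsPullback (resZι t V.1) (resT t V.1) t (resWι W V.1) := by
    refine IsPullback.of_map (Over.forget S) (resT_comm t V.1).symm ?_
    exact (isPullback_morphismRestrict t.left V.1).flip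
  have hy := Functor.map_isPullback (AlgSp.yon S) hsq_over
  exact hj.2 _ _ (resT t V.1) hVaff hcV (hy.paste_horiz hpb)

/-- first order thickenings (with target an algebraic space) are stable under arbitrary base
change -/
theorem isFOThickMor_of_isPullback {F F' G G' : AlgSp.Sp S} {p : F ⟶ G} {iF : F ⟶ F'}
    {i : G ⟶ G'} {b : F' ⟶ G'} (sq : IsPullback p iF i b) (hi : AlgSp.IsFOThickMor i)
    (hG' : AlgSp.IsAlgSpace G') : AlgSp.IsFOThickMor iF := by
  have hthk : AlgSp.RepWith AlgSp.thick iF := (AlgSp.RepWith AlgSp.thick).of_isPullback sq hi.1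
  refine ⟨hthk, ?_⟩
  intro V Wv bV fst snd hV hbV hpb
  obtain ⟨U, c, hce, hcs⟩ := hG'.atlas
  obtain ⟨ZU, tU, pU, hpbU⟩ := hi.1.1 c
  have hfoU : MoreMor.IsFirstOrderThickening tU.left := fo_of_repWith_etale i hi c hce tU pU hpbU
  obtain ⟨V', g, q, hq⟩ := hce.1 (bV ≫ b)
  have hge : Etale g.left := hce.2 _ q g hq
  have hgs : Surjective g.left := hcs.2 _ q g hq
  obtain ⟨q', rfl⟩ := (AlgSp.yon S).map_surjective q
  have hfo' := pbT_fo tU q' hfoU
  have hbig : IsPullback (fst ≫ p) ((AlgSp.yon S).map snd) i (bV ≫ b) := hpb.paste_horiz sq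
  have hcond : ((AlgSp.yon S).map (pbZι tU q') ≫ pU) ≫ i =
      (AlgSp.yon S).map (pbT tU q' ≫ g) ≫ (bV ≫ b) := by
    rw [Category.assoc, hpbU.w, ← Category.assoc, ← Functor.map_comp, ← pbT_comm,
      Functor.map_comp, Category.assoc, hq.w, Functor.map_comp, Category.assoc]
  obtain ⟨gZ, hgZ⟩ := (AlgSp.yon S).map_surjective (hbig.lift _ _ hcond)
  have hcomm : pbT tU q' ≫ g = gZ ≫ snd := by
    apply (AlgSp.yon S).map_injective
    rw [(AlgSp.yon S).map_comp gZ snd, hgZ, hbig.lift_snd]
  have hcomm' : (pbT tU q').left ≫ g.left = gZ.left ≫ snd.left :=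
    congrArg CommaMorphism.left hcomm
  haveI : Flat g.left := inferInstance
  haveI := hgs
  have hsnd_thick : AlgSp.thick snd.left := hthk.2 _ fst snd hpb
  haveI : IsClosedImmersion snd.left := hsnd_thick.1
  haveI : IsClosedImmersion (pbT tU q').left := hfo'.1.1
  exact sqZero_of_flat_surjective snd.left (pbT tU q').left g.left gZ.left hcomm' hfo'.2

end Groth.Agent.Lib.Seat47.FOBC
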