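import Mathlib
import Groth.Agent.Lib.Helper12BaseLocal

/-!
# Étale charts of the fibres of a morphism of algebraic spaces (seat 47)

`exists_fibre_chart`: for `φ : F ⟶ G` with a chart diagram `a : h_U ⟶ F`, `q : h_W ⟶ G`, `g₀ : U ⟶ W`, a scheme
`T` over `W` and the base change `F_T` of `φ` along `h_T ⟶ h_W ⟶ G`, the scheme `U ×_W T` is étale over `F_T`.
-/

set_option autoImplicit false
universe u

open CategoryTheory CategoryTheory.Limits AlgebraicGeometry

namespace Groth.Agent.Lib.Seat47.FibChartSp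

variable {S : Scheme.{u}}

theorem exists_fibre_chart {F G : AlgSp.Sp S} (hF : AlgSp.IsAlgSpace F) (hG : AlgSp.IsAlgSpace G)
    (φ : F ⟶ G) {U W : Over S} (a : (AlgSp.yon S).obj U ⟶ F) (q : (AlgSp.yon S).obj W ⟶ G)
    (g₀ : U ⟶ W) (ha : AlgSp.RepWith @Etale a) (hq : AlgSp.RepWith @Etale q)
    (hc : a ≫ φ = (AlgSp.yon S).map g₀ ≫ q)
    {T : Over S} (ι : T ⟶ W) {Fz : AlgSp.Sp S} (pF : Fz ⟶ F) (qF : Fz ⟶ (AlgSp.yon S).obj T)
    (hpb : IsPullback pF qF φ ((AlgSp.yon S).map ι ≫ q))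
    {UT : Over S} (p₁ : UT ⟶ U) (p₂ : UT ⟶ T) (hU : IsPullback p₁ p₂ g₀ ι) :
    ∃ c : (AlgSp.yon S).obj UT ⟶ Fz, c ≫ pF = (AlgSp.yon S).map p₁ ≫ a ∧
      c ≫ qF = (AlgSp.yon S).map p₂ ∧ AlgSp.RepWith @Etale c := by
  have hL : AlgSp.RepWith @Etale (pullback.lift a ((AlgSp.yon S).map g₀) hc) :=
    Groth.Agent.Lib.Helper12.BaseLocal.repWith_etale_lift hF hG φ a q g₀ ha hq hc
  let m : Fz ⟶ pullback φ q := pullback.lift pF (qF ≫ (AlgSp.yon S).map ι)
    (by rw [hpb.w, Category.assoc])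
  have hm1 : m ≫ pullback.fst φ q = pF := pullback.lift_fst _ _ _
  have hm2 : m ≫ pullback.snd φ q = qF ≫ (AlgSp.yon S).map ι := pullback.lift_snd _ _ _
  have sqR : IsPullback m qF (pullback.snd φ q) ((AlgSp.yon S).map ι) := by
    refine IsPullback.of_right ?_ hm2 (IsPullback.of_hasPullback φ q)
    rw [hm1]
    exact hpb
  have hw : ((AlgSp.yon S).map p₁ ≫ a) ≫ φ = (AlgSp.yon S).map p₂ ≫ (AlgSp.yon S).map ι ≫ q := by
    rw [Category.assoc, hc, ← Category.assoc, ← Functor.map_comp, hU.w, Functor.map_comp,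
      Category.assoc]
  refine ⟨hpb.lift _ _ hw, hpb.lift_fst _ _ hw, hpb.lift_snd _ _ hw, ?_⟩
  have sqT : IsPullback ((AlgSp.yon S).map p₁) (hpb.lift _ _ hw)
      (pullback.lift a ((AlgSp.yon S).map g₀) hc) m := by
    refine IsPullback.of_bot ?_ ?_ sqR
    · rw [hpb.lift_snd, pullback.lift_snd]
      exact hU.map (AlgSp.yon S)
    · apply pullback.hom_ext
      · rw [Category.assoc, Category.assoc, pullback.lift_fst, hm1, hpb.lift_fst]
      · rw [Category.assoc, Category.assoc, pullback.lift_snd, hm2, ← Category.assoc, hpb.lift_snd,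
          ← Functor.map_comp, ← Functor.map_comp, hU.w]
  exact MorphismProperty.of_isPullback (P := AlgSp.RepWith @Etale) sqT hL

end Groth.Agent.Lib.Seat47.FibChartSp
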