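import Mathlib
import Groth.Agent.Lib.Helper3FibCritSch

/-!
# Fibrewise criterion of flatness for locally Noetherian schemes (seat 47)

* `flat_stalkMap_of_flat_of_fibre_noeth`: `f : X → Y` over `S`, all locally Noetherian, `X → S` flat at `x`
  and the map of fibres over the image of `x` flat; then `f` is flat at `x`.
* `flat_stalkMap_of_isPullback`: the same with the fibres given by arbitrary pullback squares.
-/

set_option autoImplicit false
set_option linter.unusedVariables false
set_option linter.unusedSectionVars false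
set_option linter.style.haveILetI false

open CategoryTheory CategoryTheory.Limits AlgebraicGeometry TensorProduct

universe u

namespace Groth.Agent.Lib.Seat47.FibNoeth

open Groth.Agent.Lib.Helper3.EtGUSch Groth.Agent.Lib.Helper3.FibEtSch
  Groth.Agent.Lib.Helper3.FibChart Groth.Agent.Lib.Helper3.FibCritA
  Groth.Agent.Lib.Helper3.FibCritD

set_option maxHeartbeats 3200000 in
/-- **Flat fibre criterion, locally Noetherian, pointwise form.** -/
theorem flat_stalkMap_of_flat_of_fibre_noeth {X Y S : Scheme.{u}} (f : X ⟶ Y) (g : Y ⟶ S)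
    [IsLocallyNoetherian X] [IsLocallyNoetherian Y] [IsLocallyNoetherian S]
    (x : X) (s : S) (hxs : (f ≫ g) x = s)
    (hflat : ((f ≫ g).stalkMap x).hom.Flat)
    (hfib : Flat (CohIII.fiberMapOver f (f ≫ g) g rfl s)) :
    (f.stalkMap x).hom.Flat := by
  subst hxs
  -- charts
  obtain ⟨S₀, hS₀, W, hW, hWS, hfxW, -⟩ := exists_affine_nhds g (f x) ⊤ trivial
  obtain ⟨V, hV, hxV, hVle⟩ := TopologicalSpace.Opens.isBasis_iff_nbhd.mp X.isBasis_affineOpens
    (show x ∈ (⊤ : X.Opens) ⊓ f ⁻¹ᵁ W from ⟨trivial, hfxW⟩)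
  have hVW : V ≤ f ⁻¹ᵁ W := hVle.trans inf_le_right
  have hVS : V ≤ (f ≫ g) ⁻¹ᵁ S₀ := fun z hz => hWS (hVW hz)
  let A := Γ(S, S₀)
  let B := Γ(Y, W)
  let C := Γ(X, V)
  letI algAB : Algebra A B := (g.appLE S₀ W hWS).hom.toAlgebra
  letI algBC : Algebra B C := (f.appLE W V hVW).hom.toAlgebra
  letI algAC : Algebra A C := ((f ≫ g).appLE S₀ V hVS).hom.toAlgebra
  haveI : IsScalarTower A B C := by
    refine IsScalarTower.of_algebraMap_eq' ?_
    show ((f ≫ g).appLE S₀ V hVS).hom = (f.appLE W V hVW).hom.comp (g.appLE S₀ W hWS).hom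
    rw [← CommRingCat.hom_comp, Scheme.Hom.appLE_comp_appLE]
  have hsS₀ : (f ≫ g) x ∈ S₀ := hVS hxV
  let p : Spec Γ(S, S₀) := hS₀.primeIdealOf ⟨(f ≫ g) x, hsS₀⟩
  let q : Spec Γ(X, V) := hV.primeIdealOf ⟨x, hxV⟩
  have hP : q.asIdeal.under A = p.asIdeal :=
    congr($(IsAffineOpen.comap_primeIdealOf_appLE S₀ hS₀ V hV hVS hxV).1)
  -- Noetherianity
  haveI : IsNoetherianRing A := IsLocallyNoetherian.component_noetherian ⟨S₀, hS₀⟩
  haveI : IsNoetherianRing B := IsLocallyNoetherian.component_noetherian ⟨W, hW⟩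
  haveI : IsNoetherianRing C := IsLocallyNoetherian.component_noetherian ⟨V, hV⟩
  -- flatness
  have hflat' : Module.Flat A (LocalizedModule q.asIdeal.primeCompl C) :=
    (Groth.Agent.S0386.flat_stalkMap_iff_localizedModule S₀ hS₀ V hV hVS hxV).mp hflat
  -- the chart of the fibre map
  have hfib' : Flat ((((f ≫ g).fiberι ((f ≫ g) x)) ⁻¹ᵁ (⊤ : X.Opens)).ι ≫
      CohIII.fiberMapOver f (f ≫ g) g rfl ((f ≫ g) x)) := by
    haveI := hfib
    infer_instance
  have h4 := ringHom_fibre_chart (P := @Flat) (Q := @RingHom.Flat) f g hS₀ hW hV hWS hVW hVS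
    x hxV ⊤ le_top hfib'
  let ρ₁ : B ⊗[A] p.asIdeal.ResidueField →ₐ[A] C ⊗[A] p.asIdeal.ResidueField :=
    Algebra.TensorProduct.map (IsScalarTower.toAlgHom A B C) (AlgHom.id A p.asIdeal.ResidueField)
  have h4' : ρ₁.toRingHom.Flat := h4
  -- convert to the `κ`-left convention
  have h5 : (fiberMap (B := B) (C := C) p.asIdeal).toRingHom.Flat := by
    have hc : (fiberMap (B := B) (C := C) p.asIdeal).toRingHom =
        ((Algebra.TensorProduct.comm A C p.asIdeal.ResidueField).toAlgHom.toRingHom.comp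
          ρ₁.toRingHom).comp
          (Algebra.TensorProduct.comm A p.asIdeal.ResidueField B).toAlgHom.toRingHom := by
      apply RingHom.ext
      intro z
      induction z using TensorProduct.induction_on with
      | zero => simp
      | add a b ha hb => rw [map_add, map_add, ha, hb]
      | tmul a b => rfl
    rw [hc]
    refine RingHom.Flat.comp ?_ (RingHom.Flat.comp h4' ?_)
    · exact RingHom.Flat.of_bijective
        (Algebra.TensorProduct.comm A p.asIdeal.ResidueField B).bijective
    · exact RingHom.Flat.of_bijective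
        (Algebra.TensorProduct.comm A C p.asIdeal.ResidueField).bijective
  -- ring lemma
  have h6 : Module.Flat B (LocalizedModule q.asIdeal.primeCompl C) :=
    flat_localizedModule_of_fiberMap_flat_noeth (A := A) (B := B) (C := C) p.asIdeal h5 q.asIdeal hP
      hflat'
  exact (Groth.Agent.S0386.flat_stalkMap_iff_localizedModule W hW V hV hVW hxV).mpr h6

/-- The same with the two fibres given by arbitrary pullback squares over the residue field. -/
theorem flat_stalkMap_of_isPullback {X Y S : Scheme.{u}} (f : X ⟶ Y) (g : Y ⟶ S)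
    [IsLocallyNoetherian X] [IsLocallyNoetherian Y] [IsLocallyNoetherian S]
    (x : X) (s : S) (hxs : (f ≫ g) x = s)
    (hflat : ((f ≫ g).stalkMap x).hom.Flat)
    {Xs Ys : Scheme.{u}} (pX : Xs ⟶ X) (qX : Xs ⟶ Spec (S.residueField s))
    (pY : Ys ⟶ Y) (qY : Ys ⟶ Spec (S.residueField s)) (φ : Xs ⟶ Ys)
    (hX : IsPullback pX qX (f ≫ g) (S.fromSpecResidueField s))
    (hY : IsPullback pY qY g (S.fromSpecResidueField s))
    (h1 : φ ≫ pY = pX ≫ f) (h2 : φ ≫ qY = qX) (hφ : Flat φ) :
    (f.stalkMap x).hom.Flat := by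
  refine flat_stalkMap_of_flat_of_fibre_noeth f g x s hxs hflat ?_
  let FM : pullback (f ≫ g) (S.fromSpecResidueField s) ⟶ pullback g (S.fromSpecResidueField s) :=
    CohIII.fiberMapOver f (f ≫ g) g rfl s
  have hF1 : FM ≫ pullback.fst g (S.fromSpecResidueField s) =
      pullback.fst (f ≫ g) (S.fromSpecResidueField s) ≫ f := pullback.lift_fst _ _ _
  have hF2 : FM ≫ pullback.snd g (S.fromSpecResidueField s) =
      pullback.snd (f ≫ g) (S.fromSpecResidueField s) :=
    (pullback.lift_snd _ _ _).trans (Category.comp_id _)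
  have e : hX.isoPullback.hom ≫ FM = φ ≫ hY.isoPullback.hom := by
    apply pullback.hom_ext
    · rw [Category.assoc, Category.assoc, IsPullback.isoPullback_hom_fst, h1, hF1,
        ← Category.assoc, IsPullback.isoPullback_hom_fst]
    · rw [Category.assoc, Category.assoc, IsPullback.isoPullback_hom_snd, h2, hF2,
        IsPullback.isoPullback_hom_snd]
  have h3 : Flat (hX.isoPullback.hom ≫ FM) := by
    rw [e]
    infer_instance
  exact (MorphismProperty.cancel_left_of_respectsIso @Flat hX.isoPullback.hom FM).1 h3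

end Groth.Agent.Lib.Seat47.FibNoeth
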