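import Mathlib
import Groth.Agent.Lib.Helper12FieldBC
import Groth.Agent.Lib.Helper6FinLevel
import Groth.Agent.Lib.Helper6GalAct
import Groth.Agent.Lib.Helper6RelGal
import Groth.Agent.Lib.Seat47GeomConnProd
import Groth.Agent.S10176
import Groth.Agent.S10177

/-!
# Seat47: translation between base change of `k`-schemes (`Curv2.bc`, `bcTower`, `galAct`) and
base change of sheaves over `Spec k` (`X ⨯ h_{Spec K}`), through an étale chart.
-/

set_option autoImplicit false
universe u
open CategoryTheory CategoryTheory.Limits AlgebraicGeometry Opposite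

namespace Groth.Agent.Lib.Seat47.FieldBCTrans

open Groth.Agent.Lib.Helper12.FieldBC Groth.Agent.Lib.Helper6.SepCl Groth.Agent.Lib.Helper6.FinLevel

variable {k : Type u} [Field k]

section Tower

variable (E : Type u) [Field E] [Algebra k E] (K : Type u) [Field K] [Algebra E K]
  [Algebra k K] [IsScalarTower k E K]

/-- `Spec K ⟶ Spec E` over `Spec k`. -/
noncomputable def ptMap : ptK k K ⟶ ptK k E :=
  Over.homMk (Spec.map (CommRingCat.ofHom (algebraMap E K))) (by
    show Spec.map (CommRingCat.ofHom (algebraMap E K)) ≫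
      Spec.map (CommRingCat.ofHom (algebraMap k E)) = Spec.map (CommRingCat.ofHom (algebraMap k K))
    rw [← Spec.map_comp, ← CommRingCat.ofHom_comp, ← IsScalarTower.algebraMap_eq])

@[simp] theorem ptMap_left :
    (ptMap (k := k) E K).left = Spec.map (CommRingCat.ofHom (algebraMap E K)) := rfl

variable (U : Over (Spec (CommRingCat.of k)))

/-- `U_K ⟶ U_E` over `Spec k`. -/
noncomputable def towerOver : bcOver U K ⟶ bcOver U E :=
  Over.homMk (bcTower k U.left E K) (by
    show bcTower k U.left E K ≫ (Curv2.bcFst k U.left E ≫ U.hom) = Curv2.bcFst k U.left K ≫ U.hom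
    rw [← Category.assoc, bcTower_fst])

@[simp] theorem towerOver_left : (towerOver E K U).left = bcTower k U.left E K := rfl

theorem towerOver_bcPr : towerOver E K U ≫ bcPr U E = bcPr U K := by
  apply Over.OverMorphism.ext
  exact bcTower_fst k U.left E K

theorem towerOver_bcQ : towerOver E K U ≫ bcQ U E = bcQ U K ≫ ptMap E K := by
  apply Over.OverMorphism.ext
  exact bcTower_snd k U.left E K

variable {X : AlgSp.Sp (Spec (CommRingCat.of k))} {U}
  (a : (AlgSp.yon _).obj U ⟶ X)

theorem chartK_tower :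
    (AlgSp.yon _).map (towerOver E K U) ≫ chartK a E =
      chartK a K ≫ Limits.prod.map (𝟙 X) ((AlgSp.yon _).map (ptMap E K)) := by
  apply Limits.prod.hom_ext
  · rw [Category.assoc, Category.assoc, prod.lift_fst, Limits.prod.map_fst, Category.comp_id,
      prod.lift_fst, ← Category.assoc, ← Functor.map_comp, towerOver_bcPr]
  · rw [Category.assoc, Category.assoc, prod.lift_snd, Limits.prod.map_snd, ← Category.assoc,
      prod.lift_snd, ← Functor.map_comp, ← Functor.map_comp, towerOver_bcQ]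

theorem isPullback_tower :
    IsPullback (chartK a K) ((AlgSp.yon _).map (towerOver E K U))
      (Limits.prod.map (𝟙 X) ((AlgSp.yon _).map (ptMap E K))) (chartK a E) := by
  refine IsPullback.of_bot ?_ (chartK_tower E K a).symm (isPullback_chartK a E)
  rw [← Functor.map_comp, towerOver_bcPr, Limits.prod.map_fst, Category.comp_id]
  exact isPullback_chartK a K

end Tower

section Gal

variable (K : Type u) [Field K] [Algebra k K] (U : Over (Spec (CommRingCat.of k)))
  (σ : K ≃ₐ[k] K)

/-- the automorphism `Spec σ` of `Spec K` over `Spec k`. -/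
noncomputable def ptGal : ptK k K ⟶ ptK k K :=
  Over.homMk (Spec.map (CommRingCat.ofHom (σ : K ≃ₐ[k] K).toRingHom)) (by
    show Spec.map (CommRingCat.ofHom (σ : K ≃ₐ[k] K).toRingHom) ≫
      Spec.map (CommRingCat.ofHom (algebraMap k K)) = Spec.map (CommRingCat.ofHom (algebraMap k K))
    rw [← Spec.map_comp, ← CommRingCat.ofHom_comp]
    congr 2
    ext x
    exact σ.commutes x)

@[simp] theorem ptGal_left :
    (ptGal K σ).left = Spec.map (CommRingCat.ofHom (σ : K ≃ₐ[k] K).toRingHom) := rfl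

/-- the Galois action on `U_K`, over `Spec k`. -/
noncomputable def galOver : bcOver U K ⟶ bcOver U K :=
  Over.homMk (Curv2.galAct k U.left K σ) (by
    show Curv2.galAct k U.left K σ ≫ (Curv2.bcFst k U.left K ≫ U.hom) =
      Curv2.bcFst k U.left K ≫ U.hom
    rw [← Category.assoc, Groth.Agent.Lib.Helper6.GalAct.galAct_fst])

@[simp] theorem galOver_left : (galOver K U σ).left = Curv2.galAct k U.left K σ := rfl

theorem galOver_bcPr : galOver K U σ ≫ bcPr U K = bcPr U K := by
  apply Over.OverMorphism.ext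
  exact Groth.Agent.Lib.Helper6.GalAct.galAct_fst k U.left K σ

theorem galOver_bcQ (g : ptK k K ⟶ ptK k K)
    (hg : g.left = Spec.map (CommRingCat.ofHom (σ : K ≃ₐ[k] K).toRingHom)) :
    galOver K U σ ≫ bcQ U K = bcQ U K ≫ g := by
  apply Over.OverMorphism.ext
  rw [Over.comp_left, Over.comp_left, hg]
  exact Groth.Agent.Lib.Helper6.GalAct.galAct_snd k U.left K σ

variable {X : AlgSp.Sp (Spec (CommRingCat.of k))} {U}
  (a : (AlgSp.yon _).obj U ⟶ X)

theorem chartK_gal (g : ptK k K ⟶ ptK k K)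
    (hg : g.left = Spec.map (CommRingCat.ofHom (σ : K ≃ₐ[k] K).toRingHom)) :
    (AlgSp.yon _).map (galOver K U σ) ≫ chartK a K =
      chartK a K ≫ Limits.prod.map (𝟙 X) ((AlgSp.yon _).map g) := by
  apply Limits.prod.hom_ext
  · rw [Category.assoc, Category.assoc, prod.lift_fst, Limits.prod.map_fst, Category.comp_id,
      prod.lift_fst, ← Category.assoc, ← Functor.map_comp, galOver_bcPr]
  · rw [Category.assoc, Category.assoc, prod.lift_snd, Limits.prod.map_snd, ← Category.assoc,
      prod.lift_snd, ← Functor.map_comp, ← Functor.map_comp, galOver_bcQ K U σ g hg]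

/-- the chart `a_K` intertwines the Galois actions. -/
theorem map_ofPt_chartK_gal (g : ptK k K ⟶ ptK k K)
    (hg : g.left = Spec.map (CommRingCat.ofHom (σ : K ≃ₐ[k] K).toRingHom))
    (w : ↥(bcOver U K).left) :
    AlgSp.Points.map (Limits.prod.map (𝟙 X) ((AlgSp.yon _).map g))
        (AlgSp.Points.ofPt (chartK a K) w) =
      AlgSp.Points.ofPt (chartK a K) (Curv2.galAct k U.left K σ w) := by
  rw [AlgSp.Points.map_ofPt, ← chartK_gal K σ a g hg, Groth.Agent.S10176.ofPt_map_comp]
  rfl

end Gal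

section Points

variable {S : Scheme.{u}}

/-- lifting points through a cartesian square of charts. -/
theorem exists_of_isPullback_chart {F G : AlgSp.Sp S} {V W : Over S}
    {c : (AlgSp.yon S).obj V ⟶ F} {d : (AlgSp.yon S).obj W ⟶ G} {m : V ⟶ W} {π : F ⟶ G}
    (sq : IsPullback c ((AlgSp.yon S).map m) π d) (z : AlgSp.Points F) (n : ↥W.left)
    (e : AlgSp.Points.map π z = AlgSp.Points.ofPt d n) :
    ∃ w : ↥V.left, AlgSp.Points.ofPt c w = z ∧ m.left w = n := by
  rw [AlgSp.Points.ofPt_eq_map_ofScheme] at e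
  obtain ⟨p, hp1, hp2⟩ := Groth.Agent.S10175.exists_point_of_isPullback sq z _ e
  obtain ⟨w, rfl⟩ := (AlgSp.Points.schemeHomeo V).surjective p
  refine ⟨w, ?_, ?_⟩
  · rw [AlgSp.Points.ofPt_eq_map_ofScheme]
    exact hp1
  · apply (AlgSp.Points.schemeHomeo W).injective
    rw [← AlgSp.Points.map_yon_map_apply]
    exact hp2

end Points

section TowerPoints

variable (E : Type u) [Field E] [Algebra k E] (K : Type u) [Field K] [Algebra E K]
  [Algebra k K] [IsScalarTower k E K]
  {X : AlgSp.Sp (Spec (CommRingCat.of k))} {U : Over (Spec (CommRingCat.of k))}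
  (a : (AlgSp.yon _).obj U ⟶ X)

/-- the charts intertwine the tower projections. -/
theorem map_ofPt_chartK_tower (w : ↥(bcOver U K).left) :
    AlgSp.Points.map (Limits.prod.map (𝟙 X) ((AlgSp.yon _).map (ptMap E K)))
        (AlgSp.Points.ofPt (chartK a K) w) =
      AlgSp.Points.ofPt (chartK a E) (bcTower k U.left E K w) := by
  rw [AlgSp.Points.map_ofPt, ← chartK_tower E K a, Groth.Agent.S10176.ofPt_map_comp]
  rfl

theorem exists_lift_tower (z : AlgSp.Points (X ⨯ (AlgSp.yon _).obj (ptK k K)))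
    (n : ↥(bcOver U E).left)
    (e : AlgSp.Points.map (Limits.prod.map (𝟙 X) ((AlgSp.yon _).map (ptMap E K))) z =
      AlgSp.Points.ofPt (chartK a E) n) :
    ∃ w : ↥(bcOver U K).left, AlgSp.Points.ofPt (chartK a K) w = z ∧
      bcTower k U.left E K w = n :=
  exists_of_isPullback_chart (isPullback_tower E K a) z n e

end TowerPoints

section FstPoints

variable (K : Type u) [Field K] [Algebra k K]
  {X : AlgSp.Sp (Spec (CommRingCat.of k))} {U : Over (Spec (CommRingCat.of k))}
  (a : (AlgSp.yon _).obj U ⟶ X)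

theorem map_fst_ofPt_chartK (w : ↥(bcOver U K).left) :
    AlgSp.Points.map (Limits.prod.fst : X ⨯ (AlgSp.yon _).obj (ptK k K) ⟶ X)
        (AlgSp.Points.ofPt (chartK a K) w) =
      AlgSp.Points.ofPt a (Curv2.bcFst k U.left K w) := by
  rw [AlgSp.Points.map_ofPt, prod.lift_fst, Groth.Agent.S10176.ofPt_map_comp]
  rfl

theorem exists_lift_fst (z : AlgSp.Points (X ⨯ (AlgSp.yon _).obj (ptK k K))) (u : ↥U.left)
    (e : AlgSp.Points.map (Limits.prod.fst : X ⨯ (AlgSp.yon _).obj (ptK k K) ⟶ X) z =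
      AlgSp.Points.ofPt a u) :
    ∃ w : ↥(bcOver U K).left, AlgSp.Points.ofPt (chartK a K) w = z ∧
      Curv2.bcFst k U.left K w = u :=
  exists_of_isPullback_chart (isPullback_chartK a K) z u e

end FstPoints

section OpenClosed

variable {S : Scheme.{u}}

/-- a base change of `h_γ`, `γ` universally open, is open on points. -/
theorem isOpenMap_pr' {T T' : Over S} (γ : T' ⟶ T) [UniversallyOpen γ.left]
    {X X' : AlgSp.Sp S} {b : X ⟶ (AlgSp.yon S).obj T} {b' : X' ⟶ (AlgSp.yon S).obj T'}
    {pr : X' ⟶ X} (sq : IsPullback pr b' b ((AlgSp.yon S).map γ)) :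
    IsOpenMap (AlgSp.Points.map pr) := by
  apply Groth.Agent.S9908.isOpenMap_map_of_repWith
  have h : AlgSp.RepWith @UniversallyOpen ((AlgSp.yon S).map γ) :=
    (AlgSp.repWith_yon_map_iff @UniversallyOpen γ).mpr inferInstance
  exact MorphismProperty.of_isPullback sq.flip h

/-- a representable universally closed map of sheaves is closed on points. -/
theorem isClosedMap_map_of_repWith {F G : AlgSp.Sp S} (f : F ⟶ G)
    (hf : AlgSp.RepWith @UniversallyClosed f) : IsClosedMap (AlgSp.Points.map f) := by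
  intro A hA
  rw [← isOpen_compl_iff, AlgSp.Points.isOpen_iff]
  intro T c
  obtain ⟨W, w, pr', sq⟩ := hf.1 c
  haveI : UniversallyClosed w.left := hf.2 c _ w sq
  rw [Set.preimage_compl, Groth.Agent.S9908.preimage_ofPt_map_image sq A, isOpen_compl_iff]
  exact w.left.isClosedMap _ (hA.preimage (AlgSp.Points.continuous_ofPt pr'))

/-- a base change of `h_γ`, `γ` universally closed, is closed on points. -/
theorem isClosedMap_pr' {T T' : Over S} (γ : T' ⟶ T) [UniversallyClosed γ.left]
    {X X' : AlgSp.Sp S} {b : X ⟶ (AlgSp.yon S).obj T} {b' : X' ⟶ (AlgSp.yon S).obj T'}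
    {pr : X' ⟶ X} (sq : IsPullback pr b' b ((AlgSp.yon S).map γ)) :
    IsClosedMap (AlgSp.Points.map pr) := by
  apply isClosedMap_map_of_repWith
  have h : AlgSp.RepWith @UniversallyClosed ((AlgSp.yon S).map γ) :=
    (AlgSp.repWith_yon_map_iff @UniversallyClosed γ).mpr inferInstance
  exact MorphismProperty.of_isPullback sq.flip h

end OpenClosed

section Trans

open Groth.Agent.Lib.Seat47.GeomConnProd Groth.Agent.Lib.Seat47.GeomConnFibre

variable (K : Type u) [Field K] [Algebra k K]
  (X : AlgSp.Sp (Spec (CommRingCat.of k)))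

/-- `X_K ⟶ X` as a base change of `h_{Spec K} ⟶ h_{Spec k}`. -/
theorem exists_fst_sq :
    ∃ γ : ptK k K ⟶ Over.mk (𝟙 (Spec (CommRingCat.of k))),
      γ.left = Spec.map (CommRingCat.ofHom (algebraMap k K)) ∧
      IsPullback (Limits.prod.fst : X ⨯ (AlgSp.yon _).obj (ptK k K) ⟶ X) Limits.prod.snd
        ((isTerminal_yon_mkId (S := Spec (CommRingCat.of k))).from X) ((AlgSp.yon _).map γ) := by
  refine ⟨Over.mkIdTerminal.from _, by simp, ?_⟩
  have h := IsPullback.of_is_product' (prodIsProd X ((AlgSp.yon (Spec (CommRingCat.of k))).obj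
    (ptK k K))) (isTerminal_yon_mkId (S := Spec (CommRingCat.of k)))
  rwa [show (isTerminal_yon_mkId (S := Spec (CommRingCat.of k))).from
      ((AlgSp.yon (Spec (CommRingCat.of k))).obj (ptK k K)) =
    (AlgSp.yon _).map (Over.mkIdTerminal.from _) from
      (isTerminal_yon_mkId (S := Spec (CommRingCat.of k))).hom_ext _ _] at h

theorem isOpenMap_fst :
    IsOpenMap (AlgSp.Points.map (Limits.prod.fst : X ⨯ (AlgSp.yon _).obj (ptK k K) ⟶ X)) := by
  obtain ⟨γ, hγ, sq⟩ := exists_fst_sq K X
  have h0 : UniversallyOpen (Spec.map (CommRingCat.ofHom (algebraMap k K))) := inferInstance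
  haveI : UniversallyOpen γ.left := by rw [hγ]; exact h0
  exact isOpenMap_pr' γ sq

theorem surjective_fst :
    Function.Surjective
      (AlgSp.Points.map (Limits.prod.fst : X ⨯ (AlgSp.yon _).obj (ptK k K) ⟶ X)) := by
  obtain ⟨γ, hγ, sq⟩ := exists_fst_sq K X
  have hs : Function.Surjective γ.left := by
    rw [hγ]
    intro x
    refine ⟨(default : PrimeSpectrum K), ?_⟩
    exact Subsingleton.elim (α := PrimeSpectrum k) _ _
  exact surjective_of_isPullback_yon_map γ hs sq

variable {X} {U : Over (Spec (CommRingCat.of k))} (a : (AlgSp.yon _).obj U ⟶ X)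
  (has : AlgSp.RepWith @Surjective a)
include has

/-- the Galois group acts transitively on the fibres of `|X_K| ⟶ |X|`. -/
theorem exists_gal_of_fst_eq [Normal k K]
    (z z' : AlgSp.Points (X ⨯ (AlgSp.yon _).obj (ptK k K)))
    (h : AlgSp.Points.map (Limits.prod.fst : X ⨯ (AlgSp.yon _).obj (ptK k K) ⟶ X) z =
      AlgSp.Points.map (Limits.prod.fst : X ⨯ (AlgSp.yon _).obj (ptK k K) ⟶ X) z') :
    ∃ σ : K ≃ₐ[k] K, AlgSp.Points.map
      (Limits.prod.map (𝟙 X) ((AlgSp.yon _).map (ptGal K σ))) z = z' := by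
  obtain ⟨u, hu⟩ := Groth.Agent.S10177.surjective_ofPt a has
    (AlgSp.Points.map (Limits.prod.fst : X ⨯ (AlgSp.yon _).obj (ptK k K) ⟶ X) z)
  obtain ⟨w, hw1, hw2⟩ := exists_lift_fst K a z u hu.symm
  obtain ⟨w', hw1', hw2'⟩ := exists_lift_fst K a z' u (h ▸ hu.symm)
  obtain ⟨σ, hσ⟩ := Groth.Agent.Lib.Helper6.GalAct.exists_galAct_eq k U.left K w w'
    (hw2.trans hw2'.symm)
  refine ⟨σ, ?_⟩
  rw [← hw1, map_ofPt_chartK_gal K σ a _ rfl, hσ, hw1']

/-- the automorphisms fixing `E` act transitively on the fibres of `|X_K| ⟶ |X_E|`. -/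
theorem exists_gal_of_tower_eq (E : Type u) [Field E] [Algebra k E] [Algebra E K]
    [IsScalarTower k E K] [Normal E K]
    (z z' : AlgSp.Points (X ⨯ (AlgSp.yon _).obj (ptK k K)))
    (h : AlgSp.Points.map (Limits.prod.map (𝟙 X) ((AlgSp.yon _).map (ptMap E K))) z =
      AlgSp.Points.map (Limits.prod.map (𝟙 X) ((AlgSp.yon _).map (ptMap E K))) z') :
    ∃ σ : K ≃ₐ[k] K, (∀ e : E, σ (algebraMap E K e) = algebraMap E K e) ∧
      AlgSp.Points.map (Limits.prod.map (𝟙 X) ((AlgSp.yon _).map (ptGal K σ))) z = z' := by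
  obtain ⟨n, hn⟩ := Groth.Agent.S10177.surjective_ofPt (chartK a E) (repWith_chartK _ a has E)
    (AlgSp.Points.map (Limits.prod.map (𝟙 X) ((AlgSp.yon _).map (ptMap E K))) z)
  obtain ⟨w, hw1, hw2⟩ := exists_lift_tower E K a z n hn.symm
  obtain ⟨w', hw1', hw2'⟩ := exists_lift_tower E K a z' n (h ▸ hn.symm)
  obtain ⟨σ, hσE, hσ⟩ := Groth.Agent.Lib.Helper6.RelGal.exists_galAct_eq_of_bcTower k U.left E K
    w w' (hw2.trans hw2'.symm)
  refine ⟨σ, hσE, ?_⟩
  rw [← hw1, map_ofPt_chartK_gal K σ a _ rfl, hσ, hw1']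

end Trans

end Groth.Agent.Lib.Seat47.FieldBCTrans
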