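import Mathlib
import Groth.Agent.Lib.Seat47FieldBCTrans

/-!
# Seat47: the topology of `|X_K|` (`X` an algebraic space over `k`, `K/k` algebraic) comes from the
finite levels; connectedness of `|X_K|` from the finite levels.
-/

set_option autoImplicit false
universe u
open CategoryTheory CategoryTheory.Limits AlgebraicGeometry Opposite

namespace Groth.Agent.Lib.Seat47.FieldBCFinLevel

open Groth.Agent.Lib.Helper12.FieldBC Groth.Agent.Lib.Seat47.FieldBCTrans
  Groth.Agent.Lib.Helper6.SepCl

variable {k : Type u} [Field k] (K : Type u) [Field K] [Algebra k K]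

/-- the projection `|X_K| ⟶ |X_E|`. -/
noncomputable abbrev piE (X : AlgSp.Sp (Spec (CommRingCat.of k))) (E : IntermediateField k K) :
    AlgSp.Points (X ⨯ (AlgSp.yon (Spec (CommRingCat.of k))).obj (ptK k K)) →
      AlgSp.Points (X ⨯ (AlgSp.yon (Spec (CommRingCat.of k))).obj (ptK k E)) :=
  AlgSp.Points.map (Limits.prod.map (𝟙 X) ((AlgSp.yon (Spec (CommRingCat.of k))).map
    (ptMap (k := k) E K)))

theorem isOpenMap_piE (X : AlgSp.Sp (Spec (CommRingCat.of k))) (E : IntermediateField k K) :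
    IsOpenMap (piE K X E) := by
  haveI : UniversallyOpen (ptMap (k := k) E K).left :=
    (inferInstance : UniversallyOpen (Spec.map (CommRingCat.ofHom (algebraMap E K))))
  exact isOpenMap_pr' _ (Groth.Agent.Lib.Seat47.GeomConnProd.isPullback_prod_map X
    (ptMap (k := k) E K))

theorem isClosedMap_piE [Algebra.IsAlgebraic k K] (X : AlgSp.Sp (Spec (CommRingCat.of k)))
    (E : IntermediateField k K) : IsClosedMap (piE K X E) := by
  haveI : IsIntegralHom (Spec.map (CommRingCat.ofHom (algebraMap E K))) := by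
    rw [IsIntegralHom.SpecMap_iff]
    exact Algebra.IsIntegral.isIntegral (R := E) (A := K)
  haveI : UniversallyClosed (ptMap (k := k) E K).left :=
    (inferInstance : UniversallyClosed (Spec.map (CommRingCat.ofHom (algebraMap E K))))
  exact isClosedMap_pr' _ (Groth.Agent.Lib.Seat47.GeomConnProd.isPullback_prod_map X
    (ptMap (k := k) E K))

theorem surjective_piE (X : AlgSp.Sp (Spec (CommRingCat.of k))) (E : IntermediateField k K) :
    Function.Surjective (piE K X E) := by
  have hs : Function.Surjective (ptMap (k := k) E K).left := by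
    intro x
    refine ⟨(default : PrimeSpectrum K), ?_⟩
    exact Subsingleton.elim (α := PrimeSpectrum E) _ _
  exact Groth.Agent.Lib.Seat47.GeomConnProd.surjective_of_isPullback_yon_map _ hs
    (Groth.Agent.Lib.Seat47.GeomConnProd.isPullback_prod_map X (ptMap (k := k) E K))

/-- the topology of `|X_K|`, `K/k` algebraic, comes from the finite levels. -/
theorem exists_finite_level_nhds [Algebra.IsAlgebraic k K]
    (X : AlgSp.Space (Spec (CommRingCat.of k)))
    (u : AlgSp.Points (X.obj ⨯ (AlgSp.yon (Spec (CommRingCat.of k))).obj (ptK k K)))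
    (O : Set (AlgSp.Points (X.obj ⨯ (AlgSp.yon (Spec (CommRingCat.of k))).obj (ptK k K))))
    (hO : IsOpen O) (hu : u ∈ O) :
    ∃ E : IntermediateField k K, FiniteDimensional k E ∧
      ∃ N : Set (AlgSp.Points (X.obj ⨯ (AlgSp.yon (Spec (CommRingCat.of k))).obj (ptK k E))),
        IsOpen N ∧ piE K X.obj E u ∈ N ∧ piE K X.obj E ⁻¹' N ⊆ O := by
  obtain ⟨U, a, hae, has⟩ := X.property.atlas
  have hcs : AlgSp.RepWith @Surjective (chartK a K) := repWith_chartK _ a has K
  obtain ⟨w, rfl⟩ := Groth.Agent.S10177.surjective_ofPt (chartK a K) hcs u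
  let c : ↥(Curv2.bc k U.left K) → AlgSp.Points (X.obj ⨯ (AlgSp.yon (Spec (CommRingCat.of k))).obj
    (ptK k K)) := AlgSp.Points.ofPt (chartK a K)
  have hcont : Continuous c := AlgSp.Points.continuous_ofPt (chartK a K)
  obtain ⟨E, hE, N', hN', hwN', hN'O⟩ :=
    Groth.Agent.Lib.Helper6.FinLevel.exists_finite_level_nhds k U.left K w (c ⁻¹' O)
      (hO.preimage hcont) hu
  have hce : AlgSp.RepWith @Etale (chartK a E) := repWith_chartK _ a hae E
  let cE : ↥(Curv2.bc k U.left E) → AlgSp.Points (X.obj ⨯ (AlgSp.yon (Spec (CommRingCat.of k))).obj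
    (ptK k E)) := AlgSp.Points.ofPt (chartK a E)
  have hopenE : IsOpenMap cE := Groth.Agent.S10176.isOpenMap_ofPt (chartK a E) hce
  refine ⟨E, hE, cE '' N', hopenE _ hN', ?_, ?_⟩
  · exact ⟨_, hwN', (map_ofPt_chartK_tower E K a w).symm⟩
  · rintro z ⟨n', hn', hz⟩
    obtain ⟨w', hw'1, hw'2⟩ := exists_lift_tower E K a z n' hz.symm
    rw [← hw'1]
    apply hN'O
    show bcTower k U.left E K w' ∈ N'
    rw [hw'2]
    exact hn'

/-- connectedness of `|X_K|` from the finite levels. -/
theorem connectedSpace_of_forall_finite [Algebra.IsAlgebraic k K]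
    (X : AlgSp.Space (Spec (CommRingCat.of k)))
    (h : ∀ E : IntermediateField k K, FiniteDimensional k E →
      ConnectedSpace (AlgSp.Points (X.obj ⨯ (AlgSp.yon (Spec (CommRingCat.of k))).obj (ptK k E)))) :
    ConnectedSpace (AlgSp.Points (X.obj ⨯ (AlgSp.yon (Spec (CommRingCat.of k))).obj (ptK k K))) := by
  haveI h0 := h ⊥ inferInstance
  haveI : Nonempty (AlgSp.Points (X.obj ⨯ (AlgSp.yon (Spec (CommRingCat.of k))).obj (ptK k K))) := by
    obtain ⟨x0⟩ := (inferInstance : Nonempty (AlgSp.Points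
      (X.obj ⨯ (AlgSp.yon (Spec (CommRingCat.of k))).obj (ptK k (⊥ : IntermediateField k K)))))
    obtain ⟨x', -⟩ := surjective_piE K X.obj ⊥ x0
    exact ⟨x'⟩
  haveI : PreconnectedSpace
      (AlgSp.Points (X.obj ⨯ (AlgSp.yon (Spec (CommRingCat.of k))).obj (ptK k K))) := by
    rw [preconnectedSpace_iff_clopen]
    intro O hO
    by_contra hcon
    rw [not_or] at hcon
    obtain ⟨hne, hnu⟩ := hcon
    obtain ⟨u, hu⟩ := Set.nonempty_iff_ne_empty.mpr hne
    obtain ⟨v, hv⟩ := (Set.ne_univ_iff_exists_notMem O).mp hnu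
    obtain ⟨E, hE, N, hN, huN, hNO⟩ := exists_finite_level_nhds K X u O hO.isOpen hu
    haveI := h E hE
    have hV : IsClopen (piE K X.obj E '' Oᶜ) :=
      ⟨isClosedMap_piE K X.obj E _ hO.compl.isClosed, isOpenMap_piE K X.obj E _ hO.compl.isOpen⟩
    rcases isClopen_iff.mp hV with h0 | h1
    · rw [Set.image_eq_empty] at h0
      exact (h0 ▸ hv : v ∈ (∅ : Set _))
    · have hx : piE K X.obj E u ∈ piE K X.obj E '' Oᶜ := h1 ▸ Set.mem_univ _
      obtain ⟨v', hv', hvx⟩ := hx
      exact hv' (hNO (by rw [Set.mem_preimage, hvx]; exact huN))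
  exact ConnectedSpace.mk inferInstance

end Groth.Agent.Lib.Seat47.FieldBCFinLevel
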