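import Mathlib
import Groth.Agent.Lib.Seat47FieldBCTrans
import Groth.Agent.Lib.Helper6GalAct2

/-!
# Seat47: a quasi-compact open of `|X_K|` (`X` an algebraic space over `k`, `K/k` algebraic) is
stable under the automorphisms fixing a suitable finite subextension.
-/

set_option autoImplicit false
universe u
open CategoryTheory CategoryTheory.Limits AlgebraicGeometry Opposite

namespace Groth.Agent.Lib.Seat47.FieldBCStab

open Groth.Agent.Lib.Helper12.FieldBC Groth.Agent.Lib.Seat47.FieldBCTrans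

variable {k : Type u} [Field k] (K : Type u) [Field K] [Algebra k K]

theorem eq_ptGal (σ : K ≃ₐ[k] K) (g : ptK k K ⟶ ptK k K)
    (hg : g.left = Spec.map (CommRingCat.ofHom (σ : K ≃ₐ[k] K).toRingHom)) : g = ptGal K σ :=
  Over.OverMorphism.ext hg

theorem exists_finite_stabilizer [Algebra.IsAlgebraic k K]
    (X : AlgSp.Space (Spec (CommRingCat.of k)))
    (V : Set (AlgSp.Points (X.obj ⨯ (AlgSp.yon (Spec (CommRingCat.of k))).obj (ptK k K))))
    (hV : IsOpen V) (hVc : IsCompact V) :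
    ∃ E : IntermediateField k K, FiniteDimensional k E ∧
      ∀ σ : K ≃ₐ[k] K, (∀ x : K, x ∈ E → σ x = x) →
        AlgSp.Points.map (Limits.prod.map (𝟙 X.obj)
          ((AlgSp.yon (Spec (CommRingCat.of k))).map (ptGal K σ))) '' V = V := by
  classical
  obtain ⟨U, a, hae, has⟩ := X.property.atlas
  have hce : AlgSp.RepWith @Etale (chartK a K) := repWith_chartK _ a hae K
  have hcs : AlgSp.RepWith @Surjective (chartK a K) := repWith_chartK _ a has K
  have hopenc := Groth.Agent.S10176.isOpenMap_ofPt (chartK a K) hce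
  have hsurjc := Groth.Agent.S10177.surjective_ofPt (chartK a K) hcs
  have hcont := AlgSp.Points.continuous_ofPt (chartK a K)
  let c : ↥(Curv2.bc k U.left K) → AlgSp.Points (X.obj ⨯ (AlgSp.yon (Spec (CommRingCat.of k))).obj
    (ptK k K)) := AlgSp.Points.ofPt (chartK a K)
  have hopenc : IsOpenMap c := hopenc
  have hsurjc : Function.Surjective c := hsurjc
  have hcont : Continuous c := hcont
  let VU : Set ↥(Curv2.bc k U.left K) := c ⁻¹' V
  have hVU : IsOpen VU := hV.preimage hcont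
  let I := {W : (Curv2.bc k U.left K).affineOpens // (W.1 : Set ↥(Curv2.bc k U.left K)) ⊆ VU}
  have hcover : V ⊆ ⋃ W : I, c '' (W.1.1 : Set ↥(Curv2.bc k U.left K)) := by
    intro v hv
    obtain ⟨w, rfl⟩ := hsurjc v
    obtain ⟨_, ⟨W, hW, rfl⟩, hwW, hWV⟩ := (Scheme.isBasis_affineOpens (Curv2.bc k U.left K)).exists_subset_of_mem_open
      (show w ∈ VU from hv) hVU
    exact Set.mem_iUnion.mpr ⟨⟨⟨W, hW⟩, hWV⟩, ⟨w, hwW, rfl⟩⟩
  obtain ⟨t, ht⟩ := hVc.elim_finite_subcover
    (fun W : I => c '' (W.1.1 : Set ↥(Curv2.bc k U.left K)))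
    (fun W => hopenc _ W.1.1.isOpen) hcover
  have hstab : ∀ W : I, ∃ E : IntermediateField k K, FiniteDimensional k E ∧
      ∀ σ : K ≃ₐ[k] K, (∀ x : K, x ∈ E → σ x = x) →
        (Curv2.galAct k U.left K σ) '' (W.1.1 : Set _) = (W.1.1 : Set _) := fun W =>
    Groth.Agent.Lib.Helper6.GalAct.exists_finite_stabilizer k U.left K _ W.1.1.isOpen
      W.1.2.isCompact
  choose E hEfd hE using hstab
  refine ⟨⨆ W ∈ t, E W, IntermediateField.finiteDimensional_iSup_of_finset' fun W _ => hEfd W, ?_⟩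
  intro σ hσ
  let A : Set ↥(Curv2.bc k U.left K) := ⋃ W ∈ t, (W.1.1 : Set _)
  have hA1 : c '' A = V := by
    apply Set.Subset.antisymm
    · rintro _ ⟨w, hw, rfl⟩
      obtain ⟨W, hWt, hwW⟩ := Set.mem_iUnion₂.mp hw
      exact W.2 hwW
    · intro v hv
      obtain ⟨W, hWt, w, hwW, rfl⟩ := Set.mem_iUnion₂.mp (ht hv)
      exact ⟨w, Set.mem_iUnion₂.mpr ⟨W, hWt, hwW⟩, rfl⟩
  have hA2 : (Curv2.galAct k U.left K σ) '' A = A := by
    show (Curv2.galAct k U.left K σ) '' (⋃ W ∈ t, (W.1.1 : Set _)) = ⋃ W ∈ t, (W.1.1 : Set _)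
    rw [Set.image_iUnion₂]
    refine Set.iUnion₂_congr fun W hWt => ?_
    refine hE W σ fun x hx => hσ x ?_
    exact (le_iSup₂ (f := fun W (_ : W ∈ t) => E W) W hWt) hx
  rw [← hA1, ← Set.image_comp]
  have hcomp : AlgSp.Points.map (Limits.prod.map (𝟙 X.obj)
      ((AlgSp.yon (Spec (CommRingCat.of k))).map (ptGal K σ))) ∘ c =
      c ∘ (Curv2.galAct k U.left K σ) := by
    funext w
    exact map_ofPt_chartK_gal K σ a _ rfl w
  rw [hcomp, Set.image_comp, hA2]

end Groth.Agent.Lib.Seat47.FieldBCStab
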