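import Mathlib
import Groth.Agent.Lib.Seat47FieldBCTrans

/-!
# Seat47: field base change relative to a point `Spec k ⟶ S` of an arbitrary base

`Z ⟶ h_{Spec k}` a sheaf over a `k`-point of `S`.  For field extensions `E/k` the fibre products
`Z_E = Z ×_{h_{Spec k}} h_{Spec E}`, their charts `W_E = Curv2.bc k W E`, the tower maps and the
statement that the topology of `|Z_K|`, `K/k` algebraic, comes from the finite levels; connectedness of
`|Z_K|` from connectedness of the finite levels.
-/

set_option autoImplicit false
universe u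
open CategoryTheory CategoryTheory.Limits AlgebraicGeometry Opposite

namespace Groth.Agent.Lib.Seat47.RelFieldBC

open Groth.Agent.Lib.Helper6.SepCl Groth.Agent.Lib.Helper6.FinLevel
  Groth.Agent.Lib.Seat47.FieldBCTrans

variable {S : Scheme.{u}} {k : Type u} [Field k] (str : Spec (CommRingCat.of k) ⟶ S)

/-- `Spec E` over `S`. -/
noncomputable abbrev ptR (E : Type u) [Field E] [Algebra k E] : Over S :=
  Over.mk (Spec.map (CommRingCat.ofHom (algebraMap k E)) ≫ str)

/-- `Spec E ⟶ Spec k` over `S`. -/
noncomputable abbrev ptBase (E : Type u) [Field E] [Algebra k E] : ptR str E ⟶ Over.mk str :=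
  Over.homMk (Spec.map (CommRingCat.ofHom (algebraMap k E))) rfl

section Tower

variable (E : Type u) [Field E] [Algebra k E] (K : Type u) [Field K] [Algebra E K]
  [Algebra k K] [IsScalarTower k E K]

/-- `Spec K ⟶ Spec E` over `S`. -/
noncomputable def ptMapR : ptR str K ⟶ ptR str E :=
  Over.homMk (Spec.map (CommRingCat.ofHom (algebraMap E K))) (by
    show Spec.map (CommRingCat.ofHom (algebraMap E K)) ≫
      (Spec.map (CommRingCat.ofHom (algebraMap k E)) ≫ str) =
        Spec.map (CommRingCat.ofHom (algebraMap k K)) ≫ str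
    rw [← Category.assoc, ← Spec.map_comp, ← CommRingCat.ofHom_comp,
      ← IsScalarTower.algebraMap_eq])

@[simp] theorem ptMapR_left :
    (ptMapR str E K).left = Spec.map (CommRingCat.ofHom (algebraMap E K)) := rfl

theorem ptMapR_ptBase : ptMapR str E K ≫ ptBase str E = ptBase str K := by
  apply Over.OverMorphism.ext
  show Spec.map (CommRingCat.ofHom (algebraMap E K)) ≫
      Spec.map (CommRingCat.ofHom (algebraMap k E)) = Spec.map (CommRingCat.ofHom (algebraMap k K))
  rw [← Spec.map_comp, ← CommRingCat.ofHom_comp, ← IsScalarTower.algebraMap_eq]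

end Tower

section Charts

variable (X : Scheme.{u}) [X.Over (Spec (CommRingCat.of k))]

/-- the `k`-scheme `X` over `S`. -/
noncomputable abbrev wOver : Over S := Over.mk ((X ↘ Spec (CommRingCat.of k)) ≫ str)

/-- its structure map to `Spec k`, over `S`. -/
noncomputable abbrev wT : wOver str X ⟶ Over.mk str :=
  Over.homMk (X ↘ Spec (CommRingCat.of k)) rfl

/-- `X_E` over `S`. -/
noncomputable abbrev bcOverR (E : Type u) [Field E] [Algebra k E] : Over S :=
  Over.mk (Curv2.bcFst k X E ≫ (X ↘ Spec (CommRingCat.of k)) ≫ str)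

/-- `X_E ⟶ X` over `S`. -/
noncomputable abbrev bcPrR (E : Type u) [Field E] [Algebra k E] : bcOverR str X E ⟶ wOver str X :=
  Over.homMk (Curv2.bcFst k X E) rfl

/-- `X_E ⟶ Spec E` over `S`. -/
noncomputable abbrev bcQR (E : Type u) [Field E] [Algebra k E] : bcOverR str X E ⟶ ptR str E :=
  Over.homMk (Curv2.bcSnd k X E) (by
    show Curv2.bcSnd k X E ≫ (Spec.map (CommRingCat.ofHom (algebraMap k E)) ≫ str) =
      Curv2.bcFst k X E ≫ (X ↘ Spec (CommRingCat.of k)) ≫ str
    rw [← Category.assoc, ← Category.assoc]
    congr 1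
    exact (pullback.condition (f := X ↘ Spec (CommRingCat.of k))
      (g := Spec.map (CommRingCat.ofHom (algebraMap k E)))).symm)

lemma isPullback_overR (E : Type u) [Field E] [Algebra k E] :
    IsPullback (bcQR str X E) (bcPrR str X E) (ptBase str E) (wT str X) := by
  refine IsPullback.of_map (Over.forget _) ?_ ?_
  · apply Over.OverMorphism.ext
    exact (pullback.condition (f := X ↘ Spec (CommRingCat.of k))
      (g := Spec.map (CommRingCat.ofHom (algebraMap k E)))).symm
  · exact (IsPullback.of_hasPullback (X ↘ Spec (CommRingCat.of k))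
      (Spec.map (CommRingCat.ofHom (algebraMap k E)))).flip

section TowerCharts

variable (E : Type u) [Field E] [Algebra k E] (K : Type u) [Field K] [Algebra E K]
  [Algebra k K] [IsScalarTower k E K]

/-- `X_K ⟶ X_E` over `S`. -/
noncomputable def towerOverR : bcOverR str X K ⟶ bcOverR str X E :=
  Over.homMk (bcTower k X E K) (by
    show bcTower k X E K ≫ (Curv2.bcFst k X E ≫ (X ↘ Spec (CommRingCat.of k)) ≫ str) =
      Curv2.bcFst k X K ≫ (X ↘ Spec (CommRingCat.of k)) ≫ str
    rw [← Category.assoc, bcTower_fst])

@[simp] theorem towerOverR_left : (towerOverR str X E K).left = bcTower k X E K := rfl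

theorem towerOverR_bcPr : towerOverR str X E K ≫ bcPrR str X E = bcPrR str X K := by
  apply Over.OverMorphism.ext
  exact bcTower_fst k X E K

theorem towerOverR_bcQ :
    towerOverR str X E K ≫ bcQR str X E = bcQR str X K ≫ ptMapR str E K := by
  apply Over.OverMorphism.ext
  exact bcTower_snd k X E K

end TowerCharts

end Charts

section Sheaf

variable {Z : AlgSp.Sp S} (π : Z ⟶ (AlgSp.yon S).obj (Over.mk str))

/-- `Z_E`. -/
noncomputable abbrev ZE (E : Type u) [Field E] [Algebra k E] : AlgSp.Sp S :=
  pullback π ((AlgSp.yon S).map (ptBase str E))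

section TowerSheaf

variable (E : Type u) [Field E] [Algebra k E] (K : Type u) [Field K] [Algebra E K]
  [Algebra k K] [IsScalarTower k E K]

/-- `Z_K ⟶ Z_E`. -/
noncomputable def piER : ZE str π K ⟶ ZE str π E :=
  pullback.lift (pullback.fst _ _) (pullback.snd _ _ ≫ (AlgSp.yon S).map (ptMapR str E K)) (by
    rw [Category.assoc, ← Functor.map_comp, ptMapR_ptBase]
    exact pullback.condition)

theorem piER_fst : piER str π E K ≫ pullback.fst _ _ = pullback.fst _ _ := pullback.lift_fst _ _ _

theorem piER_snd : piER str π E K ≫ pullback.snd _ _ =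
    pullback.snd _ _ ≫ (AlgSp.yon S).map (ptMapR str E K) := pullback.lift_snd _ _ _

theorem isPullback_piER :
    IsPullback (piER str π E K) (pullback.snd _ _) (pullback.snd _ _)
      ((AlgSp.yon S).map (ptMapR str E K)) := by
  refine IsPullback.of_right ?_ (piER_snd str π E K)
    (IsPullback.of_hasPullback π ((AlgSp.yon S).map (ptBase str E)))
  rw [piER_fst, ← Functor.map_comp, ptMapR_ptBase]
  exact IsPullback.of_hasPullback π ((AlgSp.yon S).map (ptBase str K))

end TowerSheaf

variable (X : Scheme.{u}) [X.Over (Spec (CommRingCat.of k))]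
  (a : (AlgSp.yon S).obj (wOver str X) ⟶ Z) (ha : (AlgSp.yon S).map (wT str X) = a ≫ π)

/-- the chart of `Z_E` induced by a chart of `Z`. -/
noncomputable def chartR (E : Type u) [Field E] [Algebra k E] :
    (AlgSp.yon S).obj (bcOverR str X E) ⟶ ZE str π E :=
  pullback.lift ((AlgSp.yon S).map (bcPrR str X E) ≫ a) ((AlgSp.yon S).map (bcQR str X E)) (by
    rw [Category.assoc, ← ha, ← Functor.map_comp, ← Functor.map_comp, (isPullback_overR str X E).w])

theorem chartR_fst (E : Type u) [Field E] [Algebra k E] :
    chartR str π X a ha E ≫ pullback.fst _ _ = (AlgSp.yon S).map (bcPrR str X E) ≫ a :=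
  pullback.lift_fst _ _ _

theorem chartR_snd (E : Type u) [Field E] [Algebra k E] :
    chartR str π X a ha E ≫ pullback.snd _ _ = (AlgSp.yon S).map (bcQR str X E) :=
  pullback.lift_snd _ _ _

/-- the chart `a_E` is the base change of `a` along `Z_E ⟶ Z`. -/
theorem isPullback_chartR (E : Type u) [Field E] [Algebra k E] :
    IsPullback (chartR str π X a ha E) ((AlgSp.yon S).map (bcPrR str X E))
      (pullback.fst π ((AlgSp.yon S).map (ptBase str E))) a := by
  have hbig := (isPullback_overR str X E).map (AlgSp.yon S)
  rw [ha, ← chartR_snd str π X a ha E] at hbig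
  exact IsPullback.of_right hbig (chartR_fst str π X a ha E)
    (IsPullback.of_hasPullback π ((AlgSp.yon S).map (ptBase str E))).flip

lemma repWith_chartR (P : MorphismProperty Scheme.{u}) [P.IsStableUnderBaseChange]
    (hP : AlgSp.RepWith P a) (E : Type u) [Field E] [Algebra k E] :
    AlgSp.RepWith P (chartR str π X a ha E) :=
  MorphismProperty.of_isPullback (P := AlgSp.RepWith P) (isPullback_chartR str π X a ha E).flip hP

section TowerChartSheaf

variable (E : Type u) [Field E] [Algebra k E] (K : Type u) [Field K] [Algebra E K]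
  [Algebra k K] [IsScalarTower k E K]

theorem chartR_tower :
    (AlgSp.yon S).map (towerOverR str X E K) ≫ chartR str π X a ha E =
      chartR str π X a ha K ≫ piER str π E K := by
  apply pullback.hom_ext
  · rw [Category.assoc, Category.assoc, chartR_fst, piER_fst, chartR_fst, ← Category.assoc,
      ← Functor.map_comp, towerOverR_bcPr]
  · rw [Category.assoc, Category.assoc, chartR_snd, piER_snd, ← Category.assoc, chartR_snd,
      ← Functor.map_comp, ← Functor.map_comp, towerOverR_bcQ]

theorem isPullback_towerR :
    IsPullback (chartR str π X a ha K) ((AlgSp.yon S).map (towerOverR str X E K))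
      (piER str π E K) (chartR str π X a ha E) := by
  refine IsPullback.of_bot ?_ (chartR_tower str π X a ha E K).symm (isPullback_chartR str π X a ha E)
  rw [← Functor.map_comp, towerOverR_bcPr, piER_fst]
  exact isPullback_chartR str π X a ha K

theorem map_ofPt_chartR_tower (w : ↥(bcOverR str X K).left) :
    AlgSp.Points.map (piER str π E K) (AlgSp.Points.ofPt (chartR str π X a ha K) w) =
      AlgSp.Points.ofPt (chartR str π X a ha E) (bcTower k X E K w) := by
  rw [AlgSp.Points.map_ofPt, ← chartR_tower str π X a ha E K, Groth.Agent.S10176.ofPt_map_comp]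
  rfl

theorem exists_lift_towerR (z : AlgSp.Points (ZE str π K)) (n : ↥(bcOverR str X E).left)
    (e : AlgSp.Points.map (piER str π E K) z = AlgSp.Points.ofPt (chartR str π X a ha E) n) :
    ∃ w : ↥(bcOverR str X K).left, AlgSp.Points.ofPt (chartR str π X a ha K) w = z ∧
      bcTower k X E K w = n :=
  exists_of_isPullback_chart (isPullback_towerR str π X a ha E K) z n e

end TowerChartSheaf

end Sheaf

end Groth.Agent.Lib.Seat47.RelFieldBC
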