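import Mathlib
import Groth.Agent.Lib.Seat47RelFieldBC

/-!
# Seat47: the topology of `|Z_K|` (`Z ⟶ h_{Spec k}` over an arbitrary base, `K/k` algebraic) comes from
the finite levels; connectedness of `|Z_K|` from the finite levels.
-/

set_option autoImplicit false
universe u
open CategoryTheory CategoryTheory.Limits AlgebraicGeometry Opposite

namespace Groth.Agent.Lib.Seat47.RelFinLevel

open Groth.Agent.Lib.Seat47.RelFieldBC Groth.Agent.Lib.Seat47.FieldBCTrans
  Groth.Agent.Lib.Helper6.SepCl

variable {S : Scheme.{u}} {k : Type u} [Field k] (str : Spec (CommRingCat.of k) ⟶ S)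
  (K : Type u) [Field K] [Algebra k K]
  {Z : AlgSp.Sp S} (π : Z ⟶ (AlgSp.yon S).obj (Over.mk str))

theorem isOpenMap_piER (E : IntermediateField k K) :
    IsOpenMap (AlgSp.Points.map (piER str π E K)) := by
  haveI : UniversallyOpen (ptMapR str E K).left :=
    (inferInstance : UniversallyOpen (Spec.map (CommRingCat.ofHom (algebraMap E K))))
  exact isOpenMap_pr' _ (isPullback_piER str π E K)

theorem isClosedMap_piER [Algebra.IsAlgebraic k K] (E : IntermediateField k K) :
    IsClosedMap (AlgSp.Points.map (piER str π E K)) := by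
  haveI : IsIntegralHom (Spec.map (CommRingCat.ofHom (algebraMap E K))) := by
    rw [IsIntegralHom.SpecMap_iff]
    exact Algebra.IsIntegral.isIntegral (R := E) (A := K)
  haveI : UniversallyClosed (ptMapR str E K).left :=
    (inferInstance : UniversallyClosed (Spec.map (CommRingCat.ofHom (algebraMap E K))))
  exact isClosedMap_pr' _ (isPullback_piER str π E K)

theorem surjective_piER (E : IntermediateField k K) :
    Function.Surjective (AlgSp.Points.map (piER str π E K)) := by
  have hs : Function.Surjective (ptMapR str E K).left := by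
    intro x
    refine ⟨(default : PrimeSpectrum K), ?_⟩
    exact Subsingleton.elim (α := PrimeSpectrum E) _ _
  exact Groth.Agent.Lib.Seat47.GeomConnProd.surjective_of_isPullback_yon_map _ hs
    (isPullback_piER str π E K)

variable (X : Scheme.{u}) [X.Over (Spec (CommRingCat.of k))]
  (a : (AlgSp.yon S).obj (wOver str X) ⟶ Z) (ha : (AlgSp.yon S).map (wT str X) = a ≫ π)

include ha

/-- the topology of `|Z_K|`, `K/k` algebraic, comes from the finite levels. -/
theorem exists_finite_level_nhdsR [Algebra.IsAlgebraic k K]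
    (hae : AlgSp.RepWith @Etale a) (has : AlgSp.RepWith @Surjective a)
    (u : AlgSp.Points (ZE str π K)) (O : Set (AlgSp.Points (ZE str π K)))
    (hO : IsOpen O) (hu : u ∈ O) :
    ∃ E : IntermediateField k K, FiniteDimensional k E ∧
      ∃ N : Set (AlgSp.Points (ZE str π E)),
        IsOpen N ∧ AlgSp.Points.map (piER str π E K) u ∈ N ∧
          AlgSp.Points.map (piER str π E K) ⁻¹' N ⊆ O := by
  have hcs : AlgSp.RepWith @Surjective (chartR str π X a ha K) := repWith_chartR str π X a ha _ has K
  obtain ⟨w, rfl⟩ := Groth.Agent.S10177.surjective_ofPt (chartR str π X a ha K) hcs u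
  let c : ↥(Curv2.bc k X K) → AlgSp.Points (ZE str π K) :=
    AlgSp.Points.ofPt (chartR str π X a ha K)
  have hcont : Continuous c := AlgSp.Points.continuous_ofPt (chartR str π X a ha K)
  obtain ⟨E, hE, N', hN', hwN', hN'O⟩ :=
    Groth.Agent.Lib.Helper6.FinLevel.exists_finite_level_nhds k X K w (c ⁻¹' O)
      (hO.preimage hcont) hu
  have hce : AlgSp.RepWith @Etale (chartR str π X a ha E) := repWith_chartR str π X a ha _ hae E
  let cE : ↥(Curv2.bc k X E) → AlgSp.Points (ZE str π E) :=
    AlgSp.Points.ofPt (chartR str π X a ha E)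
  have hopenE : IsOpenMap cE := Groth.Agent.S10176.isOpenMap_ofPt (chartR str π X a ha E) hce
  refine ⟨E, hE, cE '' N', hopenE _ hN', ?_, ?_⟩
  · exact ⟨_, hwN', (map_ofPt_chartR_tower str π X a ha E K w).symm⟩
  · rintro z ⟨n', hn', hz⟩
    obtain ⟨w', hw'1, hw'2⟩ := exists_lift_towerR str π X a ha E K z n' hz.symm
    rw [← hw'1]
    apply hN'O
    show bcTower k X E K w' ∈ N'
    rw [hw'2]
    exact hn'

/-- connectedness of `|Z_K|` from the finite levels. -/
theorem connectedSpace_of_forall_finiteR [Algebra.IsAlgebraic k K]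
    (hae : AlgSp.RepWith @Etale a) (has : AlgSp.RepWith @Surjective a)
    (h : ∀ E : IntermediateField k K, FiniteDimensional k E →
      ConnectedSpace (AlgSp.Points (ZE str π E))) :
    ConnectedSpace (AlgSp.Points (ZE str π K)) := by
  haveI h0 := h ⊥ inferInstance
  haveI : Nonempty (AlgSp.Points (ZE str π K)) := by
    obtain ⟨x0⟩ := (inferInstance : Nonempty (AlgSp.Points
      (ZE str π (⊥ : IntermediateField k K))))
    obtain ⟨x', -⟩ := surjective_piER str K π ⊥ x0
    exact ⟨x'⟩
  haveI : PreconnectedSpace (AlgSp.Points (ZE str π K)) := by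
    rw [preconnectedSpace_iff_clopen]
    intro O hO
    by_contra hcon
    rw [not_or] at hcon
    obtain ⟨hne, hnu⟩ := hcon
    obtain ⟨u, hu⟩ := Set.nonempty_iff_ne_empty.mpr hne
    obtain ⟨v, hv⟩ := (Set.ne_univ_iff_exists_notMem O).mp hnu
    obtain ⟨E, hE, N, hN, huN, hNO⟩ :=
      exists_finite_level_nhdsR str K π X a ha hae has u O hO.isOpen hu
    haveI := h E hE
    have hV : IsClopen (AlgSp.Points.map (piER str π E K) '' Oᶜ) :=
      ⟨isClosedMap_piER str K π E _ hO.compl.isClosed,
        isOpenMap_piER str K π E _ hO.compl.isOpen⟩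
    rcases isClopen_iff.mp hV with h0 | h1
    · rw [Set.image_eq_empty] at h0
      exact (h0 ▸ hv : v ∈ (∅ : Set _))
    · have hx : AlgSp.Points.map (piER str π E K) u ∈
          AlgSp.Points.map (piER str π E K) '' Oᶜ := h1 ▸ Set.mem_univ _
      obtain ⟨v', hv', hvx⟩ := hx
      exact hv' (hNO (by rw [Set.mem_preimage, hvx]; exact huN))
  exact ConnectedSpace.mk inferInstance

end Groth.Agent.Lib.Seat47.RelFinLevel
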