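import Mathlib
import Groth.Agent.Lib.Seat47RelFinLevel
import Groth.Agent.Lib.Seat47GeomConnFibre

/-!
# Seat47: connectedness of fibres of a morphism of sheaves over field points, transfer lemmas

* `connectedSpace_of_point_map`: if `θ : T₁ ⟶ T₂` is surjective and `t₁ = h_θ ≫ t₂`, then connectedness of the
  fibre over `t₁` implies connectedness of the fibre over `t₂`;
* `isPullback_ZE`: the relative base change `Z_E` of the fibre `Z` over a `k`-point is the fibre over the `E`-point.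
-/

set_option autoImplicit false
universe u
open CategoryTheory CategoryTheory.Limits AlgebraicGeometry Opposite

namespace Groth.Agent.Lib.Seat47.GeomConnNbhd

open Groth.Agent.Lib.Seat47.RelFieldBC

variable {S : Scheme.{u}}

/-- connectedness of fibres goes down along a surjective map of base points. -/
theorem connectedSpace_of_point_map {X Y : AlgSp.Sp S} (f : X ⟶ Y) {T₁ T₂ : Over S} (θ : T₁ ⟶ T₂)
    (hθ : Function.Surjective θ.left) (t₂ : (AlgSp.yon S).obj T₂ ⟶ Y)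
    (t₁ : (AlgSp.yon S).obj T₁ ⟶ Y) (ht : (AlgSp.yon S).map θ ≫ t₂ = t₁) {P₁ P₂ : AlgSp.Sp S}
    {a₁ : P₁ ⟶ X} {b₁ : P₁ ⟶ (AlgSp.yon S).obj T₁}
    (sq₁ : IsPullback a₁ b₁ f t₁)
    {a₂ : P₂ ⟶ X} {b₂ : P₂ ⟶ (AlgSp.yon S).obj T₂} (sq₂ : IsPullback a₂ b₂ f t₂)
    [ConnectedSpace (AlgSp.Points P₁)] : ConnectedSpace (AlgSp.Points P₂) := by
  subst ht
  have hw : a₁ ≫ f = (b₁ ≫ (AlgSp.yon S).map θ) ≫ t₂ := by
    rw [Category.assoc]
    exact sq₁.w
  have h1 : sq₂.lift a₁ (b₁ ≫ (AlgSp.yon S).map θ) hw ≫ a₂ = a₁ := sq₂.lift_fst _ _ _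
  have h2 : sq₂.lift a₁ (b₁ ≫ (AlgSp.yon S).map θ) hw ≫ b₂ = b₁ ≫ (AlgSp.yon S).map θ :=
    sq₂.lift_snd _ _ _
  have left : IsPullback (sq₂.lift a₁ (b₁ ≫ (AlgSp.yon S).map θ) hw) b₁ b₂
      ((AlgSp.yon S).map θ) := by
    refine IsPullback.of_right ?_ h2 sq₂
    rw [h1]
    exact sq₁
  have hs := Groth.Agent.Lib.Seat47.GeomConnProd.surjective_of_isPullback_yon_map θ hθ left
  exact hs.connectedSpace (AlgSp.Points.continuous_map _)

/-- the relative base change of a fibre is a fibre. -/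
theorem isPullback_ZE {X Y : AlgSp.Sp S} (f : X ⟶ Y) {k : Type u} [Field k]
    (str : Spec (CommRingCat.of k) ⟶ S) (t₀ : (AlgSp.yon S).obj (Over.mk str) ⟶ Y)
    (E : Type u) [Field E] [Algebra k E] :
    IsPullback (pullback.fst (pullback.snd f t₀) ((AlgSp.yon S).map (ptBase str E)) ≫
        pullback.fst f t₀) (pullback.snd (pullback.snd f t₀) ((AlgSp.yon S).map (ptBase str E))) f
      ((AlgSp.yon S).map (ptBase str E) ≫ t₀) :=
  IsPullback.paste_horiz
    (IsPullback.of_hasPullback (pullback.snd f t₀) ((AlgSp.yon S).map (ptBase str E)))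
    (IsPullback.of_hasPullback f t₀)

end Groth.Agent.Lib.Seat47.GeomConnNbhd
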