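import Mathlib
import Groth.Agent.Lib.Seat47GeomConnNbhd
import Groth.Agent.S9874

/-!
# Seat47: connectedness of a geometric fibre from the finite separable levels
-/

set_option autoImplicit false
universe u
open CategoryTheory CategoryTheory.Limits AlgebraicGeometry Opposite

namespace Groth.Agent.Lib.Seat47.GeomConnNbhd

open Groth.Agent.Lib.Seat47.RelFieldBC

variable {S : Scheme.{u}}

/-- the fibre of `f` over an algebraically closed extension `K` of `k` is connected as soon as the fibres over
the finite subextensions of the separable closure of `k` in `K` are. -/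
theorem connectedSpace_fibre_of_finite_levels {X Y : AlgSp.Space S} (f : X ⟶ Y) {k : Type u} [Field k]
    (str : Spec (CommRingCat.of k) ⟶ S) (t₀ : (AlgSp.yon S).obj (Over.mk str) ⟶ Y.obj)
    (K : Type u) [Field K] [IsAlgClosed K] [Algebra k K]
    (hfin : ∀ E : IntermediateField k (separableClosure k K), FiniteDimensional k E →
      ConnectedSpace (AlgSp.Points (ZE str (pullback.snd f.hom t₀) E))) :
    ConnectedSpace (AlgSp.Points (ZE str (pullback.snd f.hom t₀) K)) := by
  have hZ : AlgSp.IsAlgSpace (pullback f.hom t₀) :=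
    Groth.Agent.S9874.isAlgSpace_of_isPullback Y.property.diag X.property
      (AlgSp.IsAlgSpace.yon_obj _) (IsPullback.of_hasPullback f.hom t₀)
  obtain ⟨W, aW, haWe, haWs⟩ := hZ.atlas
  obtain ⟨wT', hwT'⟩ := (AlgSp.yon S).map_surjective (aW ≫ pullback.snd f.hom t₀)
  letI : W.left.Over (Spec (CommRingCat.of k)) := ⟨wT'.left⟩
  have hWhom : (W.left ↘ Spec (CommRingCat.of k)) ≫ str = W.hom := Over.w wT'
  let isoW : wOver str W.left ≅ W := Over.isoMk (Iso.refl _) (by
    show 𝟙 _ ≫ W.hom = (W.left ↘ Spec (CommRingCat.of k)) ≫ str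
    rw [Category.id_comp, hWhom])
  let a : (AlgSp.yon S).obj (wOver str W.left) ⟶ pullback f.hom t₀ :=
    (AlgSp.yon S).map isoW.hom ≫ aW
  have ha : (AlgSp.yon S).map (wT str W.left) = a ≫ pullback.snd f.hom t₀ := by
    rw [Category.assoc, ← hwT', ← Functor.map_comp]
    congr 1
  have hae : AlgSp.RepWith @Etale a :=
    (MorphismProperty.cancel_left_of_respectsIso (AlgSp.RepWith @Etale)
      ((AlgSp.yon S).map isoW.hom) aW).2 haWe
  have has : AlgSp.RepWith @Surjective a :=
    (MorphismProperty.cancel_left_of_respectsIso (AlgSp.RepWith @Surjective)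
      ((AlgSp.yon S).map isoW.hom) aW).2 haWs
  -- the separable closure level
  haveI : IsSepClosed (separableClosure k K) :=
    (inferInstance : IsSepClosure k (separableClosure k K)).sep_closed
  haveI : Algebra.IsAlgebraic k (separableClosure k K) := inferInstance
  haveI hks : ConnectedSpace (AlgSp.Points (ZE str (pullback.snd f.hom t₀) (separableClosure k K))) :=
    Groth.Agent.Lib.Seat47.RelFinLevel.connectedSpace_of_forall_finiteR str (separableClosure k K)
      (pullback.snd f.hom t₀) W.left a ha hae has hfin
  obtain ⟨h1, h2⟩ := Groth.Agent.Lib.Seat47.GeomConnFibre.univOpen_geomConn_of_isSepClosed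
    (k := separableClosure k K) (Ω := K) (ptMapR str (separableClosure k K) K).left
  exact Groth.Agent.Lib.Seat47.GeomConnProd.connectedSpace_of_isPullback_yon_map
    (ptMapR str (separableClosure k K) K)
    (isPullback_piER str (pullback.snd f.hom t₀) (separableClosure k K) K)

end Groth.Agent.Lib.Seat47.GeomConnNbhd
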