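import Mathlib
import Groth.Agent.Lib.Seat47RelFieldBC
import Groth.Agent.Lib.Helper20EtResExtSch

/-!
# Seat47: étale neighbourhoods of a geometric point with prescribed finite separable residue field,
packaged over a base scheme `S`.
-/

set_option autoImplicit false
universe u
open CategoryTheory CategoryTheory.Limits AlgebraicGeometry Opposite

namespace Groth.Agent.Lib.Seat47.GeomConnNbhd

open Groth.Agent.Lib.Seat47.RelFieldBC

variable {S : Scheme.{u}}

/-- scheme-level key equation. -/
theorem exists_nbhd_scheme (V₀ : Scheme.{u}) (v : V₀) (E : Type u) [Field E]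
    [Algebra (V₀.residueField v) E] [FiniteDimensional (V₀.residueField v) E]
    [Algebra.IsSeparable (V₀.residueField v) E]
    (K : Type u) [Field K] [IsSepClosed K] (cl : Spec (CommRingCat.of K) ⟶ V₀)
    (hcl : cl (IsLocalRing.closedPoint K) = v) :
    ∃ (V : Scheme.{u}) (g : V ⟶ V₀) (w : V) (l : Spec (CommRingCat.of K) ⟶ V)
      (m : Spec (V.residueField w) ⟶ Spec (CommRingCat.of E)),
      Etale g ∧ l ≫ g = cl ∧ l (IsLocalRing.closedPoint K) = w ∧
        m ≫ Spec.map (CommRingCat.ofHom (algebraMap (V₀.residueField v) E)) ≫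
          V₀.fromSpecResidueField v = V.fromSpecResidueField w ≫ g := by
  obtain ⟨U, g, u, hu, hg, e, he⟩ :=
    Groth.Agent.Lib.Helper20.EtResExt.exists_etale_nbhd_residueField_equiv V₀ v E
  haveI := hg
  have hx : g u = cl default := by
    rw [hu, ← hcl]
    congr 1
    exact Subsingleton.elim _ _
  obtain ⟨l, hl1, hl2⟩ := Scheme.exists_fac_of_etale_of_isSepClosed g cl u hx
  let ee : U.residueField u ⟶ CommRingCat.of E := CommRingCat.ofHom (e : U.residueField u →+* E)
  let ee' : CommRingCat.of E ⟶ U.residueField u :=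
    CommRingCat.ofHom (e.symm : E →+* U.residueField u)
  have h2 : ee ≫ ee' = 𝟙 _ := by
    ext x
    exact e.symm_apply_apply x
  have h1 : CommRingCat.ofHom (algebraMap (V₀.residueField v) E) =
      ((V₀.residueFieldCongr hu).inv ≫ g.residueFieldMap u) ≫ ee := by
    ext1
    exact he.symm
  refine ⟨U, g, u, l, Spec.map ee', hg, hl1, ?_, ?_⟩
  · rw [← hl2]
    congr 1
    exact Subsingleton.elim _ _
  · rw [h1, Spec.map_comp, ← Category.assoc, ← Category.assoc, ← Spec.map_comp, h2, Spec.map_id,
      Category.id_comp, Spec.map_comp, Category.assoc]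
    have h3 : Spec.map (V₀.residueFieldCongr hu).inv ≫ V₀.fromSpecResidueField v =
        V₀.fromSpecResidueField (g u) := by
      subst hu
      simp
    rw [h3, Scheme.Hom.SpecMap_residueFieldMap_fromSpecResidueField]

end Groth.Agent.Lib.Seat47.GeomConnNbhd
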