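import Mathlib
import Groth.Prelude.Def_AlgSp4
import Groth.Agent.S10242
import Groth.Agent.S10177
import Groth.Agent.S13210

/-!
# Seat47: reducedness of fibres of a morphism of algebraic spaces through a chart

* `exists_chart_rel`: the chart of a base change `P' = P ×_{h_V} h_{T'}` induced by a chart of `P`;
* `etaleLocally_reduced_iff`: for `f : X ⟶ Y`, a chart `h_V ⟶ Y`, an étale surjective chart `U` of `X ×_Y h_V`
  and `γ : T' ⟶ V`, the fibre product `X ×_Y h_{T'}` is reduced iff the scheme `U ×_V T'` is;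
* `mk_fieldPt_eq_ofPt`: the class of the field point defined by `s : Spec K ⟶ V` and `a : h_V ⟶ F`.
-/

set_option autoImplicit false
universe u
open CategoryTheory CategoryTheory.Limits AlgebraicGeometry Opposite

namespace Groth.Agent.Lib.Seat47.GeomRedConstr

variable {S : Scheme.{u}}

/-- the chart of a base change over a scheme base. -/
theorem exists_chart_rel {P P' : AlgSp.Sp S} {V T' : Over S} (π : P ⟶ (AlgSp.yon S).obj V)
    (γ : T' ⟶ V) (fst : P' ⟶ P) (snd : P' ⟶ (AlgSp.yon S).obj T')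
    (sq : IsPullback fst snd π ((AlgSp.yon S).map γ)) {U : Over S}
    (p : (AlgSp.yon S).obj U ⟶ P) (g : U ⟶ V) (hg : (AlgSp.yon S).map g = p ≫ π) :
    ∃ p' : (AlgSp.yon S).obj (Over.mk (pullback.fst g.left γ.left ≫ U.hom)) ⟶ P',
      IsPullback p' ((AlgSp.yon S).map (Over.homMk (pullback.fst g.left γ.left) rfl :
        Over.mk (pullback.fst g.left γ.left ≫ U.hom) ⟶ U)) fst p := by
  let bcPr : Over.mk (pullback.fst g.left γ.left ≫ U.hom) ⟶ U :=
    Over.homMk (pullback.fst g.left γ.left) rfl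
  let bcQ : Over.mk (pullback.fst g.left γ.left ≫ U.hom) ⟶ T' :=
    Over.homMk (pullback.snd g.left γ.left) (by
      show pullback.snd g.left γ.left ≫ T'.hom = pullback.fst g.left γ.left ≫ U.hom
      rw [← Over.w γ, ← Over.w g, ← Category.assoc, ← Category.assoc, pullback.condition])
  have hov : IsPullback bcQ bcPr γ g := by
    refine IsPullback.of_map (Over.forget _) ?_ ?_
    · apply Over.OverMorphism.ext
      exact (pullback.condition (f := g.left) (g := γ.left)).symm
    · exact (IsPullback.of_hasPullback g.left γ.left).flip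
  have hbig := hov.map (AlgSp.yon S)
  let p' := sq.lift ((AlgSp.yon S).map bcPr ≫ p) ((AlgSp.yon S).map bcQ) (by
    rw [Category.assoc, ← hg, ← Functor.map_comp, ← Functor.map_comp, hov.w])
  refine ⟨p', ?_⟩
  have h3 : (AlgSp.yon S).map bcQ = p' ≫ snd := (sq.lift_snd _ _ _).symm
  rw [hg, h3] at hbig
  exact IsPullback.of_right hbig (sq.lift_fst _ _ _) sq.flip

/-- reducedness of a fibre product through a chart. -/
theorem etaleLocally_reduced_iff {X Y : AlgSp.Space S} (f : X ⟶ Y) {V : Over S}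
    (a : (AlgSp.yon S).obj V ⟶ Y.obj) {U : Over S}
    (p : (AlgSp.yon S).obj U ⟶ pullback f.hom a) (hpe : AlgSp.RepWith @Etale p)
    (hps : AlgSp.RepWith @Surjective p) (g : U ⟶ V)
    (hg : (AlgSp.yon S).map g = p ≫ pullback.snd f.hom a) {T' : Over S} (γ : T' ⟶ V)
    (t' : (AlgSp.yon S).obj T' ⟶ Y.obj) (ht' : (AlgSp.yon S).map γ ≫ a = t')
    {X' : AlgSp.Sp S} (a' : X' ⟶ X.obj) (b' : X' ⟶ (AlgSp.yon S).obj T')
    (sq : IsPullback a' b' f.hom t') :
    AlgSp.EtaleLocally (fun U => IsReduced U) X' ↔ IsReduced (pullback g.left γ.left) := by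
  subst ht'
  have sqP := IsPullback.of_hasPullback f.hom a
  have hw : a' ≫ f.hom = (b' ≫ (AlgSp.yon S).map γ) ≫ a := by
    rw [Category.assoc]
    exact sq.w
  have h1 : sqP.lift a' (b' ≫ (AlgSp.yon S).map γ) hw ≫ pullback.fst f.hom a = a' :=
    sqP.lift_fst _ _ _
  have h2 : sqP.lift a' (b' ≫ (AlgSp.yon S).map γ) hw ≫ pullback.snd f.hom a =
      b' ≫ (AlgSp.yon S).map γ := sqP.lift_snd _ _ _
  have left : IsPullback (sqP.lift a' (b' ≫ (AlgSp.yon S).map γ) hw) b' (pullback.snd f.hom a)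
      ((AlgSp.yon S).map γ) := by
    refine IsPullback.of_right ?_ h2 sqP
    rw [h1]
    exact sq
  obtain ⟨p', sqp'⟩ := exists_chart_rel (pullback.snd f.hom a) γ _ b' left p g hg
  have hp'e : AlgSp.RepWith @Etale p' :=
    MorphismProperty.of_isPullback (P := AlgSp.RepWith @Etale) sqp'.flip hpe
  have hp's : AlgSp.RepWith @Surjective p' :=
    MorphismProperty.of_isPullback (P := AlgSp.RepWith @Surjective) sqp'.flip hps
  constructor
  · intro h
    exact Groth.Agent.S10242.isReduced_chart h p' hp'e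
  · intro h
    exact ⟨_, p', hp'e, hp's, h⟩

open Groth.Agent.S13210 in
/-- the field point defined by `s : Spec K ⟶ V` and `a : h_V ⟶ F`. -/
noncomputable def fieldPtOfHom {F : AlgSp.Sp S} {V : Over S} (a : (AlgSp.yon S).obj V ⟶ F)
    (K : Type u) [Field K] (s : Spec (CommRingCat.of K) ⟶ V.left) : AlgSp.FieldPt F :=
  ⟨K, s ≫ V.hom, yEquiv _ F ((AlgSp.yon S).map (Over.homMk s rfl : Over.mk (s ≫ V.hom) ⟶ V) ≫ a)⟩

open Groth.Agent.S13210 in
theorem fieldPtOfHom_toHom {F : AlgSp.Sp S} {V : Over S} (a : (AlgSp.yon S).obj V ⟶ F)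
    (K : Type u) [Field K] (s : Spec (CommRingCat.of K) ⟶ V.left) :
    (fieldPtOfHom a K s).toHom =
      (AlgSp.yon S).map (Over.homMk s rfl : Over.mk (s ≫ V.hom) ⟶ V) ≫ a :=
  (yEquiv _ F).symm_apply_apply _

open Groth.Agent.S13210 in
theorem mk_fieldPtOfHom {F : AlgSp.Sp S} {V : Over S} (a : (AlgSp.yon S).obj V ⟶ F)
    (K : Type u) [Field K] (s : Spec (CommRingCat.of K) ⟶ V.left) :
    AlgSp.Points.mk (fieldPtOfHom a K s) = AlgSp.Points.ofPt a (s (IsLocalRing.closedPoint K)) := by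
  have h0 := Groth.Agent.S10177.ofPt_closedPoint (fieldPtOfHom a K s)
  rw [← h0]
  have h1 := Groth.Agent.S10176.ofPt_map_comp (Over.homMk s rfl : Over.mk (s ≫ V.hom) ⟶ V) a
    (IsLocalRing.closedPoint K)
  show AlgSp.Points.ofPt ((yEquiv (Over.mk (s ≫ V.hom)) F).symm (yEquiv (Over.mk (s ≫ V.hom)) F
    ((AlgSp.yon S).map (Over.homMk s rfl : Over.mk (s ≫ V.hom) ⟶ V) ≫ a)))
      (IsLocalRing.closedPoint K) = _
  rw [Equiv.symm_apply_apply]
  exact h1

end Groth.Agent.Lib.Seat47.GeomRedConstr
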