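import Groth.Agent.Lib.Seat52ValRG
import Mathlib.RingTheory.EssentialFiniteness
import Mathlib.RingTheory.FiniteType
import Mathlib.Algebra.Module.FinitePresentation
import Mathlib.RingTheory.Localization.BaseChange

/-!
# helper52: finite torsion-free modules over (essentially) finite type algebras over a valuation
ring are finitely presented (Raynaud–Gruson, valuation ring case).
-/

set_option autoImplicit false
set_option linter.style.haveILetI false
set_option linter.unusedSectionVars false
universe u

namespace Groth.Agent.Lib.Seat52.ValFP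

open MvPolynomial

section

variable {A : Type u} [CommRing A] [IsDomain A] [ValuationRing A]

/-- componentwise application of a ring hom, as a semilinear map -/
noncomputable def compS {P B₀ : Type*} [CommRing P] [CommRing B₀] (φ : P →+* B₀) (s : ℕ) :
    (Fin s → P) →ₛₗ[φ] (Fin s → B₀) where
  toFun x j := φ (x j)
  map_add' x y := by ext j; simp
  map_smul' c x := by ext j; simp

lemma compS_surjective {P B₀ : Type*} [CommRing P] [CommRing B₀] (φ : P →+* B₀)
    (hφ : Function.Surjective φ) (s : ℕ) : Function.Surjective (compS φ s) := by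
  intro y
  choose x hx using fun j => hφ (y j)
  exact ⟨x, funext hx⟩

/-- finite type case -/
theorem fp_of_finiteType {B₀ M₀ : Type u} [CommRing B₀] [Algebra A B₀] [Algebra.FiniteType A B₀]
    [AddCommGroup M₀] [Module B₀ M₀] [Module A M₀] [IsScalarTower A B₀ M₀] [Module.Finite B₀ M₀]
    (htf : ∀ (a : A) (x : M₀), a ≠ 0 → a • x = 0 → x = 0) : Module.FinitePresentation B₀ M₀ := by
  classical
  obtain ⟨m, φ, hφ⟩ := Algebra.FiniteType.iff_quotient_mvPolynomial''.mp
    (inferInstance : Algebra.FiniteType A B₀)
  obtain ⟨s, π₀, hπ₀⟩ := Module.Finite.exists_fin' B₀ M₀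
  haveI : RingHomSurjective (φ : MvPolynomial (Fin m) A →+* B₀) := ⟨hφ⟩
  set Φ := compS (φ : MvPolynomial (Fin m) A →+* B₀) s with hΦ
  have hΦs : Function.Surjective Φ := compS_surjective _ hφ s
  set N : Submodule (MvPolynomial (Fin m) A) (Fin s → MvPolynomial (Fin m) A) :=
    (LinearMap.ker π₀).comap Φ with hN
  have hsat : ∀ a : A, a ≠ 0 → ∀ x : Fin s → MvPolynomial (Fin m) A,
      (C a : MvPolynomial (Fin m) A) • x ∈ N → x ∈ N := by
    intro a ha x hx
    rw [hN, Submodule.mem_comap, LinearMap.mem_ker] at hx ⊢
    rw [map_smulₛₗ, map_smul] at hx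
    have h1 : ((φ : MvPolynomial (Fin m) A →+* B₀) (C a)) = algebraMap A B₀ a := by
      change φ (C a) = _
      rw [← MvPolynomial.algebraMap_eq, φ.commutes]
    rw [h1, algebraMap_smul] at hx
    exact htf a _ ha hx
  have hfg : N.FG := ValRG.fg_of_saturated A m s N hsat
  have hker : (LinearMap.ker π₀).FG := by
    have := hfg.map Φ
    rwa [hN, Submodule.map_comap_eq_of_surjective hΦs] at this
  exact Module.finitePresentation_of_surjective π₀ hπ₀ hker

/-- essentially finite type case -/
theorem fp_of_essFiniteType {B M : Type u} [CommRing B] [Algebra A B] [Algebra.EssFiniteType A B]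
    [AddCommGroup M] [Module B M] [Module A M] [IsScalarTower A B M] [Module.Finite B M]
    (htf : ∀ (a : A) (x : M), a ≠ 0 → a • x = 0 → x = 0) : Module.FinitePresentation B M := by
  classical
  let B₀ := Algebra.EssFiniteType.subalgebra A B
  let T := Algebra.EssFiniteType.submonoid A B
  obtain ⟨G, hG⟩ := (Module.Finite.fg_top : (⊤ : Submodule B M).FG)
  let M₀ : Submodule B₀ M := Submodule.span B₀ (G : Set M)
  haveI : Module.Finite B₀ M₀ := Module.Finite.span_of_finite B₀ G.finite_toSet
  have htf₀ : ∀ (a : A) (x : M₀), a ≠ 0 → a • x = 0 → x = 0 := by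
    intro a x ha hx
    apply Subtype.ext
    apply htf a x.1 ha
    have := congrArg Subtype.val hx
    simpa using this
  haveI : Module.FinitePresentation B₀ M₀ := fp_of_finiteType htf₀
  let f : M₀ →ₗ[B₀] M := M₀.subtype
  have hunit : ∀ t : T, IsUnit (algebraMap B₀ B t.1) := fun t => t.2
  haveI : IsLocalizedModule T f := by
    refine IsLocalizedModule.mk ?_ ?_ ?_
    · intro t
      obtain ⟨u, hu⟩ := hunit t
      rw [Module.End.isUnit_iff]
      constructor
      · intro x y hxy
        simp only [Module.algebraMap_end_apply] at hxy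
        have h2 : (algebraMap B₀ B t.1) • x = (algebraMap B₀ B t.1) • y := by
          rw [algebraMap_smul, algebraMap_smul]; exact hxy
        rw [← hu] at h2
        have := congrArg (fun z => (↑u⁻¹ : B) • z) h2
        simpa [smul_smul] using this
      · intro y
        refine ⟨(↑u⁻¹ : B) • y, ?_⟩
        simp only [Module.algebraMap_end_apply]
        rw [← algebraMap_smul B (t.1 : B₀), ← hu, smul_smul]
        simp
    · intro y
      have hy : y ∈ Submodule.span B (G : Set M) := by rw [hG]; trivial
      induction hy using Submodule.span_induction with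
      | mem g hg => exact ⟨(⟨g, Submodule.subset_span hg⟩, 1), by simp [f]⟩
      | zero => exact ⟨(0, 1), by simp⟩
      | add y₁ y₂ _ _ h₁ h₂ =>
        obtain ⟨⟨x₁, t₁⟩, h₁⟩ := h₁
        obtain ⟨⟨x₂, t₂⟩, h₂⟩ := h₂
        refine ⟨((t₂ : B₀) • x₁ + (t₁ : B₀) • x₂, t₁ * t₂), ?_⟩
        simp only [Submonoid.smul_def] at h₁ h₂ ⊢
        rw [map_add, map_smul, map_smul, ← h₁, ← h₂, smul_add, Submonoid.coe_mul]
        congr 1
        · rw [mul_comm, mul_smul]
        · rw [mul_smul]
      | smul b y _ h =>
        obtain ⟨⟨x, t⟩, h⟩ := h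
        obtain ⟨⟨c, t'⟩, hb⟩ := IsLocalization.surj T b
        refine ⟨(c • x, t' * t), ?_⟩
        simp only [Submonoid.smul_def] at h ⊢
        rw [map_smul, ← h, Submonoid.coe_mul]
        rw [← algebraMap_smul B ((t' : B₀) * (t : B₀)), ← algebraMap_smul B c,
          ← algebraMap_smul B (t : B₀), smul_smul, smul_smul, ← hb, map_mul]
        congr 1
        ring
    · intro x₁ x₂ h
      have h' : x₁ = x₂ := Subtype.ext (by simpa [f] using h)
      exact ⟨1, by rw [h']⟩
  exact FinitePresentation.of_isBaseChange f
    ((isLocalizedModule_iff_isBaseChange T B f).mp inferInstance)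

end

end Groth.Agent.Lib.Seat52.ValFP
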