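import Mathlib
import Groth.Agent.Lib.Seat52ValFP

/-!
# helper69: reducedness of flat finite type algebras over a valuation ring (ring level)

`R` a valuation ring (domain) with maximal ideal `m`, `B` a flat `R`-algebra of finite type with
`B/mB` reduced, `p` a prime of `R`.  Then there is `r ∈ 1 + mB` with `r · √(pB) ⊆ pB`
(`exists_one_add_mul_radical_le`): the nilradical of `B/pB` is finitely generated (Raynaud–Gruson over
valuation rings, helper52) and equal to `m` times itself, so Nakayama applies.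
-/

set_option autoImplicit false
set_option linter.style.haveILetI false
universe u

namespace Groth.Agent.Lib.Seat69.ValRedFib

open IsLocalRing

section Val

variable {R : Type u} [CommRing R] [IsDomain R] [ValuationRing R]

/-- an element of the extension of an ideal `I` of a valuation ring is a multiple of the image of
an element of `I` -/
theorem exists_dvd_of_mem_map {B : Type*} [CommRing B] [Algebra R B]
    (I : Ideal R) {y : B} (hy : y ∈ I.map (algebraMap R B)) :
    ∃ a ∈ I, algebraMap R B a ∣ y := by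
  rw [Ideal.map] at hy
  induction hy using Submodule.span_induction with
  | mem y hy =>
    obtain ⟨a, ha, rfl⟩ := hy
    exact ⟨a, ha, dvd_rfl⟩
  | zero => exact ⟨0, I.zero_mem, dvd_zero _⟩
  | add y₁ y₂ _ _ h₁ h₂ =>
    obtain ⟨a₁, ha₁, d₁⟩ := h₁
    obtain ⟨a₂, ha₂, d₂⟩ := h₂
    rcases ValuationRing.dvd_total a₁ a₂ with h | h
    · exact ⟨a₁, ha₁, dvd_add d₁ ((map_dvd (algebraMap R B) h).trans d₂)⟩
    · exact ⟨a₂, ha₂, dvd_add ((map_dvd (algebraMap R B) h).trans d₁) d₂⟩
  | smul c y _ h =>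
    obtain ⟨a, ha, d⟩ := h
    exact ⟨a, ha, Dvd.dvd.mul_left d c⟩

variable {B : Type u} [CommRing B] [Algebra R B]

/-- torsion-freeness modulo a prime `p` of the valuation ring. -/
theorem mem_map_of_mul_mem_map [Module.Flat R B] (p : Ideal R) [p.IsPrime] {a : R} (ha : a ∉ p)
    {b : B} (h : algebraMap R B a * b ∈ p.map (algebraMap R B)) : b ∈ p.map (algebraMap R B) := by
  obtain ⟨π, hπ, b', hb'⟩ := exists_dvd_of_mem_map p h
  -- `a ∣ π`
  have hdiv : a ∣ π := by
    rcases ValuationRing.dvd_total a π with h1 | h1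
    · exact h1
    · exact absurd (p.mem_of_dvd h1 hπ) ha  -- placeholder
  obtain ⟨π', rfl⟩ := hdiv
  have hπ' : π' ∈ p := (Ideal.IsPrime.mem_or_mem ‹p.IsPrime› hπ).resolve_left ha
  have ha0 : a ≠ 0 := fun h0 => ha (h0 ▸ p.zero_mem)
  have h1 : algebraMap R B a * (b - algebraMap R B π' * b') = 0 := by
    rw [mul_sub, hb', map_mul]; ring
  have htf : Module.IsTorsionFree R B := inferInstance
  have h2 : b - algebraMap R B π' * b' = 0 := by
    have h3 : a • (b - algebraMap R B π' * b') = 0 := by rw [Algebra.smul_def]; exact h1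
    exact (smul_eq_zero.mp h3).resolve_left ha0
  rw [sub_eq_zero] at h2
  rw [h2]
  exact Ideal.mul_mem_right _ _ (Ideal.mem_map_of_mem _ hπ')

/-- **Key ring lemma.** `B` flat of finite type over the valuation ring `R`, `B/mB` reduced,
`p` a prime of `R`: some `r ∈ 1 + mB` kills `√(pB)/pB`. -/
theorem exists_one_add_mul_radical_le [Module.Flat R B] [Algebra.FiniteType R B]
    (hred : ∀ b : B, b ∈ ((maximalIdeal R).map (algebraMap R B)).radical →
      b ∈ (maximalIdeal R).map (algebraMap R B))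
    (p : Ideal R) [hp : p.IsPrime] :
    ∃ r : B, r - 1 ∈ (maximalIdeal R).map (algebraMap R B) ∧
      ∀ c ∈ (p.map (algebraMap R B)).radical, r * c ∈ p.map (algebraMap R B) := by
  classical
  set pB : Ideal B := p.map (algebraMap R B) with hpB
  set mB : Ideal B := (maximalIdeal R).map (algebraMap R B) with hmB
  have hpm : pB ≤ mB := Ideal.map_mono (IsLocalRing.le_maximalIdeal hp.ne_top)
  haveI : IsDomain (R ⧸ p) := Ideal.Quotient.isDomain p
  haveI : ValuationRing (R ⧸ p) :=
    Function.Surjective.valuationRing (Ideal.Quotient.mk p) Ideal.Quotient.mk_surjective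
  haveI : Algebra.FiniteType R (B ⧸ pB) :=
    Algebra.FiniteType.of_surjective (Ideal.Quotient.mkₐ R pB) Ideal.Quotient.mk_surjective
  haveI : Algebra.FiniteType (R ⧸ p) (B ⧸ pB) :=
    Algebra.FiniteType.of_restrictScalars_finiteType R (R ⧸ p) (B ⧸ pB)
  set N : Ideal (B ⧸ pB) := nilradical (B ⧸ pB) with hN
  have hmkN : ∀ b : B, Ideal.Quotient.mk pB b ∈ N ↔ b ∈ pB.radical := by
    intro b
    rw [hN, mem_nilradical]
    constructor
    · rintro ⟨n, hn⟩
      refine ⟨n, ?_⟩
      rw [← map_pow] at hn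
      exact Ideal.Quotient.eq_zero_iff_mem.mp hn
    · rintro ⟨n, hn⟩
      refine ⟨n, ?_⟩
      rw [← map_pow]
      exact Ideal.Quotient.eq_zero_iff_mem.mpr hn
  -- torsion-freeness of `C/N` over `R/p`
  have htf : ∀ (a : R ⧸ p) (x : (B ⧸ pB) ⧸ N), a ≠ 0 → a • x = 0 → x = 0 := by
    intro a x ha hx
    obtain ⟨a₀, rfl⟩ := Ideal.Quotient.mk_surjective a
    obtain ⟨c, rfl⟩ := Ideal.Quotient.mk_surjective x
    obtain ⟨b, rfl⟩ := Ideal.Quotient.mk_surjective c
    have ha₀ : a₀ ∉ p := fun h => ha (Ideal.Quotient.eq_zero_iff_mem.mpr h)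
    have h1 : (Ideal.Quotient.mk p a₀) • (Ideal.Quotient.mk N (Ideal.Quotient.mk pB b)) =
        Ideal.Quotient.mk N (Ideal.Quotient.mk pB (algebraMap R B a₀ * b)) := by
      rw [Algebra.smul_def]
      rfl
    rw [h1, Ideal.Quotient.eq_zero_iff_mem, hmkN] at hx
    rw [Ideal.Quotient.eq_zero_iff_mem, hmkN]
    obtain ⟨n, hn⟩ := hx
    refine ⟨n, ?_⟩
    rw [mul_pow, ← map_pow] at hn
    exact mem_map_of_mul_mem_map p (fun h => ha₀ (hp.mem_of_pow_mem n h)) hn
  haveI : Module.FinitePresentation (B ⧸ pB) ((B ⧸ pB) ⧸ N) :=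
    Groth.Agent.Lib.Seat52.ValFP.fp_of_finiteType (A := R ⧸ p) (B₀ := B ⧸ pB)
      (M₀ := (B ⧸ pB) ⧸ N) htf
  have hNfg : (N : Submodule (B ⧸ pB) (B ⧸ pB)).FG := by
    have h1 := Module.FinitePresentation.fg_ker (Submodule.mkQ (N : Submodule (B ⧸ pB) (B ⧸ pB)))
      (Submodule.mkQ_surjective _)
    rwa [Submodule.ker_mkQ] at h1
  set I : Ideal (B ⧸ pB) := mB.map (Ideal.Quotient.mk pB) with hI
  have hle : (N : Submodule (B ⧸ pB) (B ⧸ pB)) ≤ I • (N : Submodule (B ⧸ pB) (B ⧸ pB)) := by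
    intro x hx
    obtain ⟨b, rfl⟩ := Ideal.Quotient.mk_surjective x
    have hb : b ∈ pB.radical := (hmkN b).mp hx
    have hbm : b ∈ mB := hred b (Ideal.radical_mono hpm hb)
    obtain ⟨a, ha, b', rfl⟩ := exists_dvd_of_mem_map _ hbm
    by_cases hap : a ∈ p
    · have : algebraMap R B a * b' ∈ pB := Ideal.mul_mem_right _ _ (Ideal.mem_map_of_mem _ hap)
      rw [Ideal.Quotient.eq_zero_iff_mem.mpr this]
      exact Submodule.zero_mem _
    · obtain ⟨n, hn⟩ := hb
      rw [mul_pow, ← map_pow] at hn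
      have hb' : b' ^ n ∈ pB :=
        mem_map_of_mul_mem_map p (fun h => hap (hp.mem_of_pow_mem n h)) hn
      have hb'N : Ideal.Quotient.mk pB b' ∈ N := (hmkN b').mpr ⟨n, hb'⟩
      have haI : Ideal.Quotient.mk pB (algebraMap R B a) ∈ I :=
        Ideal.mem_map_of_mem _ (Ideal.mem_map_of_mem _ ha)
      rw [map_mul]
      exact Submodule.smul_mem_smul haI hb'N
  obtain ⟨r', hr'1, hr'2⟩ :=
    Submodule.exists_sub_one_mem_and_smul_eq_zero_of_fg_of_le_smul I _ hNfg hle
  obtain ⟨r, rfl⟩ := Ideal.Quotient.mk_surjective r'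
  refine ⟨r, ?_, ?_⟩
  · have h1 : Ideal.Quotient.mk pB (r - 1) ∈ I := by rwa [map_sub, map_one]
    obtain ⟨y, hy, hy2⟩ :=
      (Ideal.mem_map_iff_of_surjective _ Ideal.Quotient.mk_surjective).mp h1
    have h2 : r - 1 - y ∈ pB := by
      rw [← Ideal.Quotient.eq_zero_iff_mem, map_sub, hy2, sub_self]
    have h3 : r - 1 = (r - 1 - y) + y := by ring
    rw [h3]
    exact mB.add_mem (hpm h2) hy
  · intro c hc
    have h1 := hr'2 (Ideal.Quotient.mk pB c) ((hmkN c).mpr hc)
    rw [smul_eq_mul, ← map_mul] at h1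
    exact Ideal.Quotient.eq_zero_iff_mem.mp h1

end Val

section Loc

/-- If `s · √I ⊆ I` and `s` becomes a unit in the localization `S` of `B`, then `I S` is radical. -/
theorem mem_map_of_mem_radical_map {B S : Type*} [CommRing B] [CommRing S] [Algebra B S]
    (M : Submonoid B) [IsLocalization M S] (I : Ideal B) (s : B)
    (hs : IsUnit (algebraMap B S s)) (h : ∀ c ∈ I.radical, s * c ∈ I)
    (y : S) (hy : y ∈ (I.map (algebraMap B S)).radical) : y ∈ I.map (algebraMap B S) := by
  obtain ⟨b, t, rfl⟩ := IsLocalization.exists_mk'_eq M y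
  obtain ⟨n, hn⟩ := hy
  have h1 : algebraMap B S (b ^ n) ∈ I.map (algebraMap B S) := by
    have h2 : algebraMap B S (b ^ n) =
        (IsLocalization.mk' S b t) ^ n * algebraMap B S ((t : B) ^ n) := by
      rw [map_pow, map_pow, ← mul_pow, IsLocalization.mk'_spec]
    rw [h2]
    exact Ideal.mul_mem_right _ _ hn
  rw [IsLocalization.mem_map_algebraMap_iff M S] at h1
  obtain ⟨⟨i, u⟩, hiu⟩ := h1
  rw [← map_mul, IsLocalization.eq_iff_exists M S] at hiu
  obtain ⟨v, hv⟩ := hiu
  -- `w = v * u`, `w * b^n ∈ I`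
  set w : B := (v : B) * (u : B) with hw
  have hwM : w ∈ M := M.mul_mem v.2 u.2
  have h3 : w * b ^ n ∈ I := by
    have : w * b ^ n = (v : B) * (b ^ n * (u : B)) := by rw [hw]; ring
    rw [this, hv]
    exact Ideal.mul_mem_left _ _ i.2
  have h4 : w * b ∈ I.radical := by
    refine ⟨n + 1, ?_⟩
    have : (w * b) ^ (n + 1) = (w ^ n * b) * (w * b ^ n) := by ring
    rw [this]
    exact Ideal.mul_mem_left _ _ h3
  have h5 : s * (w * b) ∈ I := h _ h4
  have h6 : algebraMap B S s * (algebraMap B S w * algebraMap B S b) ∈ I.map (algebraMap B S) := by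
    rw [← map_mul, ← map_mul]
    exact Ideal.mem_map_of_mem _ h5
  have hwu : IsUnit (algebraMap B S w) := IsLocalization.map_units S ⟨w, hwM⟩
  have h7 : algebraMap B S b ∈ I.map (algebraMap B S) := by
    have h8 := (Ideal.unit_mul_mem_iff_mem _ hs).mp h6
    exact (Ideal.unit_mul_mem_iff_mem _ hwu).mp h8
  rw [← IsLocalization.mk'_spec' S b t] at h7
  exact (Ideal.unit_mul_mem_iff_mem _ (IsLocalization.map_units S t)).mp h7

variable {R : Type u} [CommRing R] {B : Type u} [CommRing B] [Algebra R B]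

/-- If `pB` is radical then the fibre ring `κ(p) ⊗ B` is reduced. -/
theorem isReduced_fiber_of_radical (p : Ideal R) [p.IsPrime]
    (h : ∀ c ∈ (p.map (algebraMap R B)).radical, c ∈ p.map (algebraMap R B)) :
    IsReduced (p.Fiber B) := by
  let Sp := Localization (Algebra.algebraMapSubmonoid B p.primeCompl)
  let pS := p.map (algebraMap R B)
  letI : Algebra B (p.Fiber B) := Algebra.TensorProduct.rightAlgebra
  let e : p.Fiber B ≃ₐ[B] Sp ⧸ pS.map (algebraMap B Sp) := Ideal.Fiber.algEquivAux₁ p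
  have hrad : (pS.map (algebraMap B Sp)).IsRadical := by
    intro y hy
    refine mem_map_of_mem_radical_map (Algebra.algebraMapSubmonoid B p.primeCompl) pS 1 ?_ ?_ y hy
    · rw [map_one]; exact isUnit_one
    · intro c hc; rw [one_mul]; exact h c hc
  haveI : IsReduced (Sp ⧸ pS.map (algebraMap B Sp)) :=
    (Ideal.isRadical_iff_quotient_reduced _).mp hrad
  exact isReduced_of_injective e.toRingEquiv.toRingHom e.injective

/-- If the fibre ring `κ(m) ⊗ B` over a maximal ideal `m` is reduced then `mB` is radical. -/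
theorem mem_map_of_mem_radical_of_isReduced_fiber (m : Ideal R) [hm : m.IsMaximal]
    [IsReduced (m.Fiber B)] (b : B) (hb : b ∈ (m.map (algebraMap R B)).radical) :
    b ∈ m.map (algebraMap R B) := by
  let Sp := Localization (Algebra.algebraMapSubmonoid B m.primeCompl)
  let mS := m.map (algebraMap R B)
  letI : Algebra B (m.Fiber B) := Algebra.TensorProduct.rightAlgebra
  let e : m.Fiber B ≃ₐ[B] Sp ⧸ mS.map (algebraMap B Sp) := Ideal.Fiber.algEquivAux₁ m
  haveI : IsReduced (Sp ⧸ mS.map (algebraMap B Sp)) :=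
    isReduced_of_injective e.symm.toRingEquiv.toRingHom e.symm.injective
  have hrad : (mS.map (algebraMap B Sp)).IsRadical :=
    (Ideal.isRadical_iff_quotient_reduced _).mpr inferInstance
  obtain ⟨n, hn⟩ := hb
  have h1 : algebraMap B Sp b ∈ mS.map (algebraMap B Sp) := by
    apply hrad
    refine ⟨n, ?_⟩
    rw [← map_pow]
    exact Ideal.mem_map_of_mem _ hn
  rw [IsLocalization.mem_map_algebraMap_iff (Algebra.algebraMapSubmonoid B m.primeCompl) Sp] at h1
  obtain ⟨⟨i, u⟩, hiu⟩ := h1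
  rw [← map_mul, IsLocalization.eq_iff_exists (Algebra.algebraMapSubmonoid B m.primeCompl) Sp] at hiu
  obtain ⟨v, hv⟩ := hiu
  obtain ⟨tv, htv, htv2⟩ := v.2
  obtain ⟨tu, htu, htu2⟩ := u.2
  -- `tv tu` is a unit mod `m`
  have h2 : algebraMap R B (tv * tu) * b ∈ mS := by
    have : algebraMap R B (tv * tu) * b = (v : B) * (b * (u : B)) := by
      rw [map_mul, htv2, htu2]; ring
    rw [this, hv]
    exact Ideal.mul_mem_left _ _ i.2
  have h3 : tv * tu ∉ m := fun h => (hm.isPrime.mem_or_mem h).elim htv htu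
  obtain ⟨c, d, hd, hcd⟩ := hm.exists_inv h3
  -- `c * (tv * tu) + d = 1`, `d ∈ m`
  have h4 : b = algebraMap R B c * (algebraMap R B (tv * tu) * b) + algebraMap R B d * b := by
    rw [← mul_assoc, ← map_mul, ← add_mul, ← map_add, hcd, map_one, one_mul]
  rw [h4]
  exact mS.add_mem (Ideal.mul_mem_left _ _ h2) (Ideal.mul_mem_right _ _ (Ideal.mem_map_of_mem _ hd))

end Loc

end Groth.Agent.Lib.Seat69.ValRedFib
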