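import Mathlib
import Groth.Agent.Lib.Helper10DVRFibre6
import Groth.Agent.Lib.Seat69ValRedFib

/-!
# helper69: proper flat schemes over a valuation ring with reduced special fibre

`f : X ⟶ Spec R` proper and flat, `R` a valuation ring, special fibre reduced.  Then for every affine
open `U` of `X` and every prime `p` of `R` the ideal `p Γ(X,U)` is radical (`radical_pU_le`); hence
`X` and all fibres are reduced (`main`).
-/

set_option autoImplicit false
set_option linter.style.haveILetI false
universe u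

namespace Groth.Agent.Lib.Seat69.ValRedFibSch

open AlgebraicGeometry CategoryTheory CategoryTheory.Limits TopologicalSpace Opposite IsLocalRing
open Groth.Agent.Lib.Helper10.DVRFibre

section General

variable {R : Type u} [CommRing R] {X : Scheme.{u}} (f : X ⟶ Spec (CommRingCat.of R))

/-- the ideal `p Γ(X, U)` -/
noncomputable def pU (p : Ideal R) (U : X.Opens) : Ideal Γ(X, U) := p.map (phi f U)

/-- the ring map `R → O_{X,x}` -/
noncomputable def psi (x : X) : R →+* X.presheaf.stalk x :=
  (X.presheaf.germ ⊤ x trivial).hom.comp (phi f ⊤)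

theorem germ_comp_phi {U : X.Opens} {x : X} (hx : x ∈ U) :
    (X.presheaf.germ U x hx).hom.comp (phi f U) = psi f x := by
  ext r
  simp only [RingHom.comp_apply, psi]
  rw [phi_apply, phi_apply]
  erw [TopCat.Presheaf.germ_res_apply, TopCat.Presheaf.germ_res_apply]

/-- the ideal `p O_{X,x}` -/
noncomputable def pStalk (p : Ideal R) (x : X) : Ideal (X.presheaf.stalk x) := p.map (psi f x)

theorem map_germ_pU (p : Ideal R) {U : X.Opens} {x : X} (hx : x ∈ U) :
    (pU f p U).map (X.presheaf.germ U x hx).hom = pStalk f p x := by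
  rw [pU, pStalk, Ideal.map_map, germ_comp_phi]

/-- `x ∈ D(φ_U(a))` implies `a ∉ f x`. -/
theorem notMem_of_mem_basicOpen_phi {U : X.Opens} {x : X} {a : R}
    (h : x ∈ X.basicOpen (phi f U a)) : a ∉ (show PrimeSpectrum R from f x).asIdeal := by
  set t : Γ(X, ⊤) := f.appTop ((Scheme.ΓSpecIso (CommRingCat.of R)).inv a) with ht
  have h0 : phi f U a = X.presheaf.map (homOfLE (le_top : U ≤ ⊤)).op t := rfl
  have h1 : x ∈ X.basicOpen t := by
    have := X.basicOpen_res t (homOfLE (le_top : U ≤ ⊤)).op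
    rw [← h0] at this
    rw [this] at h
    exact h.2
  have h2 : X.basicOpen t = f ⁻¹ᵁ ((Spec (CommRingCat.of R)).basicOpen
      ((Scheme.ΓSpecIso (CommRingCat.of R)).inv a)) :=
    (Scheme.preimage_basicOpen f _).symm
  have h3 : (Spec (CommRingCat.of R)).basicOpen ((Scheme.ΓSpecIso (CommRingCat.of R)).inv a)
      = PrimeSpectrum.basicOpen a := basicOpen_eq_of_affine (R := CommRingCat.of R) a
  rw [h2, h3] at h1
  exact h1

theorem phi_finiteType [LocallyOfFiniteType f] {U : X.Opens} (hU : IsAffineOpen U) :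
    (phi f U).FiniteType := by
  have h1 : (f.appLE ⊤ U le_top).hom.FiniteType :=
    HasRingHomProperty.appLE (P := @LocallyOfFiniteType) f inferInstance
      ⟨⊤, isAffineOpen_top _⟩ ⟨U, hU⟩ le_top
  have h2 : (Scheme.ΓSpecIso (CommRingCat.of R)).inv.hom.FiniteType :=
    RingHom.FiniteType.of_surjective _
      (ConcreteCategory.bijective_of_isIso (Scheme.ΓSpecIso (CommRingCat.of R)).inv).2
  exact RingHom.FiniteType.comp h1 h2

end General

section Val

variable {R : Type u} [CommRing R] [IsLocalRing R] {X : Scheme.{u}}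
  (f : X ⟶ Spec (CommRingCat.of R))

/-- reducedness of the special fibre, on an affine open -/
theorem radical_mU_le (hred : IsReduced (f.fiber (closedPoint R))) {U : X.Opens}
    (hU : IsAffineOpen U) :
    ∀ b ∈ (pU f (maximalIdeal R) U).radical, b ∈ pU f (maximalIdeal R) U := by
  letI : Algebra R Γ(X, U) := (phi f U).toAlgebra
  haveI := hred
  have h1 : IsReduced ((hU.fromSpec ≫ f).fiber (closedPoint R)) :=
    isReduced_fiber_fromSpec f hU _
  rw [fromSpec_comp] at h1
  haveI := h1
  haveI : _root_.IsReduced ((closedPoint R).asIdeal.Fiber Γ(X, U)) :=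
    isReduced_fiber_ring Γ(X, U) (closedPoint R)
  haveI : _root_.IsReduced ((maximalIdeal R).Fiber Γ(X, U)) :=
    ‹_root_.IsReduced ((closedPoint R).asIdeal.Fiber Γ(X, U))›
  intro b hb
  exact Groth.Agent.Lib.Seat69.ValRedFib.mem_map_of_mem_radical_of_isReduced_fiber
    (maximalIdeal R) b hb

end Val

section Main

variable {R : Type u} [CommRing R] [IsDomain R] [ValuationRing R] {X : Scheme.{u}}
  (f : X ⟶ Spec (CommRingCat.of R))

/-- **Main ring-level consequence.** For every affine open `U` and every prime `p` of `R`, the ideal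
`p Γ(X,U)` is radical. -/
theorem radical_pU_le [IsProper f] [Flat f] (hred : IsReduced (f.fiber (closedPoint R)))
    (p : Ideal R) [p.IsPrime] {U : X.Opens} (hU : IsAffineOpen U) :
    ∀ c ∈ (pU f p U).radical, c ∈ pU f p U := by
  classical
  -- the good open set
  let G : Set X := {x | ∃ (V : X.Opens) (_ : IsAffineOpen V) (s : Γ(X, V)),
    x ∈ X.basicOpen s ∧ ∀ c ∈ (pU f p V).radical, s * c ∈ pU f p V}
  have hGopen : IsOpen G := by
    rw [isOpen_iff_forall_mem_open]
    rintro x ⟨V, hV, s, hxs, hs⟩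
    exact ⟨X.basicOpen s, fun y hy => ⟨V, hV, s, hy, hs⟩, (X.basicOpen s).isOpen, hxs⟩
  have hGm : ∀ x : X, f x = closedPoint R → x ∈ G := by
    intro x hx
    obtain ⟨V, hV, hxV⟩ := exists_affineOpen_mem x
    letI : Algebra R Γ(X, V) := (phi f V).toAlgebra
    haveI : Module.Flat R Γ(X, V) := phi_flat f hV
    haveI : Algebra.FiniteType R Γ(X, V) := phi_finiteType f hV
    obtain ⟨r, hr1, hr2⟩ := Groth.Agent.Lib.Seat69.ValRedFib.exists_one_add_mul_radical_le
      (R := R) (B := Γ(X, V)) (radical_mU_le f hred hV) p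
    refine ⟨V, hV, r, ?_, hr2⟩
    rw [Scheme.mem_basicOpen _ _ _ hxV]
    have h1 : X.presheaf.germ V x hxV (r - 1) ∈ maximalIdeal (X.presheaf.stalk x) := by
      have h2 : (pU f (maximalIdeal R) V).map (X.presheaf.germ V x hxV).hom ≤
          maximalIdeal (X.presheaf.stalk x) := by
        rw [map_germ_pU, pStalk, Ideal.map_le_iff_le_comap]
        intro a ha
        rw [Ideal.mem_comap, mem_maximalIdeal, mem_nonunits_iff]
        intro hu
        rw [← germ_comp_phi f hxV] at hu
        have h3 : x ∈ X.basicOpen (phi f V a) := (Scheme.mem_basicOpen _ _ _ hxV).mpr hu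
        have h4 := notMem_of_mem_basicOpen_phi f h3
        rw [hx] at h4
        exact h4 ha
      exact h2 (Ideal.mem_map_of_mem _ hr1)
    have h5 : X.presheaf.germ V x hxV r = X.presheaf.germ V x hxV (r - 1) + 1 := by
      rw [map_sub, map_one]; ring
    rw [h5]
    by_contra hnu
    have h6 : X.presheaf.germ V x hxV (r - 1) + 1 ∈ maximalIdeal (X.presheaf.stalk x) := hnu
    have h7 : (1 : X.presheaf.stalk x) ∈ maximalIdeal (X.presheaf.stalk x) := by
      have := (maximalIdeal (X.presheaf.stalk x)).sub_mem h6 h1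
      simp at this
    exact (Ideal.ne_top_iff_one _).mp (maximalIdeal.isMaximal _).ne_top h7
  have hG : ∀ x : X, x ∈ G := by
    by_contra hne
    push Not at hne
    obtain ⟨x, hx⟩ := hne
    have hcl : IsClosed Gᶜ := hGopen.isClosed_compl
    have hcl2 : IsClosed (f '' Gᶜ) := f.isClosedMap _ hcl
    have h1 : (closedPoint R) ∈ f '' Gᶜ := by
      have h2 : (show PrimeSpectrum R from f x) ⤳ closedPoint R := specializes_closedPoint _
      exact h2.mem_closed hcl2 ⟨x, hx, rfl⟩
    obtain ⟨x0, hx0, hfx0⟩ := h1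
    exact hx0 (hGm x0 hfx0)
  -- conclusion
  intro c hc
  rw [hU.mem_ideal_iff]
  intro x hxU
  rw [map_germ_pU]
  obtain ⟨V, hV, s, hxs, hs⟩ := hG x
  have hxV : x ∈ V := X.basicOpen_le s hxs
  letI := X.presheaf.algebra_section_stalk ⟨x, hxV⟩
  haveI := hV.isLocalization_stalk ⟨x, hxV⟩
  have hsu : IsUnit (algebraMap Γ(X, V) (X.presheaf.stalk x) s) :=
    (Scheme.mem_basicOpen _ _ _ hxV).mp hxs
  have hrad := Groth.Agent.Lib.Seat69.ValRedFib.mem_map_of_mem_radical_map
    (S := X.presheaf.stalk x) (hV.primeIdealOf ⟨x, hxV⟩).asIdeal.primeCompl (pU f p V) s hsu hs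
  have hmap : (pU f p V).map (algebraMap Γ(X, V) (X.presheaf.stalk x)) = pStalk f p x :=
    map_germ_pU f p hxV
  rw [hmap] at hrad
  apply hrad
  obtain ⟨n, hn⟩ := hc
  refine ⟨n, ?_⟩
  rw [← map_pow, ← map_germ_pU f p hxU]
  exact Ideal.mem_map_of_mem _ hn

/-- **Main theorem** (S0438). -/
theorem main [IsProper f] [Flat f] (hred : IsReduced (f.fiber (closedPoint R))) :
    IsReduced X ∧ ∀ s : ↑(Spec (CommRingCat.of R)), IsReduced (f.fiber s) := by
  refine ⟨?_, ?_⟩
  · apply isReduced_of_forall_exists_affine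
    intro x
    obtain ⟨U, hU, hxU⟩ := exists_affineOpen_mem x
    refine ⟨U, hU, hxU, ⟨fun c hc => ?_⟩⟩
    have h1 := radical_pU_le f hred ⊥ hU
    have h2 : pU f ⊥ U = ⊥ := Ideal.map_bot
    rw [h2] at h1
    obtain ⟨n, hn⟩ := hc
    exact (Ideal.mem_bot).mp (h1 c ⟨n, by rw [hn]; exact Ideal.zero_mem _⟩)
  · intro y
    apply isReduced_fiber_of_forall_exists_affine f (show PrimeSpectrum R from y)
    intro x
    obtain ⟨U, hU, hxU⟩ := exists_affineOpen_mem x
    refine ⟨U, hU, hxU, ?_⟩
    letI : Algebra R Γ(X, U) := (phi f U).toAlgebra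
    exact Groth.Agent.Lib.Seat69.ValRedFib.isReduced_fiber_of_radical
      (show PrimeSpectrum R from y).asIdeal
      (radical_pU_le f hred (show PrimeSpectrum R from y).asIdeal hU)

end Main

end Groth.Agent.Lib.Seat69.ValRedFibSch
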