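import Mathlib
import Groth.Agent.Lib.Seat69ValRedFibSch
import Groth.Agent.Lib.Seat47DvrRedAlg

/-!
# Seat47: flat, locally of finite type schemes over a valuation ring with reduced special fibre

* `exists_open_isReduced_stalk_val`: every point of the special fibre has an open neighbourhood with reduced
  stalks (no properness), from helper69's ring lemma;
* `isReduced_pullback_fractionRing_of_isReduced`: the generic fibre of a reduced scheme over a domain is reduced.
-/

set_option autoImplicit false
universe u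
open CategoryTheory CategoryTheory.Limits AlgebraicGeometry TensorProduct IsLocalRing

namespace Groth.Agent.Lib.Seat47.ValRedSch

open Groth.Agent.Lib.Helper10.DVRFibre Groth.Agent.Lib.Seat69.ValRedFibSch

/-- points of a reduced special fibre have neighbourhoods with reduced stalks. -/
theorem exists_open_isReduced_stalk_val {R : Type u} [CommRing R] [IsDomain R] [ValuationRing R]
    {X : Scheme.{u}} (f : X ⟶ Spec (CommRingCat.of R)) [Flat f] [LocallyOfFiniteType f]
    (hred : IsReduced (f.fiber (closedPoint R))) (x : X) (hx : f x = closedPoint R) :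
    ∃ N : X.Opens, x ∈ N ∧ ∀ w ∈ N, _root_.IsReduced (X.presheaf.stalk w) := by
  obtain ⟨V, hV, hxV⟩ := exists_affineOpen_mem x
  letI : Algebra R Γ(X, V) := (phi f V).toAlgebra
  haveI : Module.Flat R Γ(X, V) := phi_flat f hV
  haveI : Algebra.FiniteType R Γ(X, V) := phi_finiteType f hV
  obtain ⟨r, hr1, hr2⟩ := Groth.Agent.Lib.Seat69.ValRedFib.exists_one_add_mul_radical_le
    (R := R) (B := Γ(X, V)) (radical_mU_le f hred hV) ⊥
  have hkill : ∀ c ∈ nilradical Γ(X, V), r * c = 0 := by
    intro c hc
    have h1 : c ∈ ((⊥ : Ideal R).map (algebraMap R Γ(X, V))).radical := by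
      rw [Ideal.map_bot]
      exact hc
    have h2 := hr2 c h1
    rw [Ideal.map_bot] at h2
    exact h2
  have hxr : x ∈ X.basicOpen r := by
    rw [Scheme.mem_basicOpen _ _ _ hxV]
    have h1 : X.presheaf.germ V x hxV (r - 1) ∈ maximalIdeal (X.presheaf.stalk x) := by
      have h2 : (pU f (maximalIdeal R) V).map (X.presheaf.germ V x hxV).hom ≤
          maximalIdeal (X.presheaf.stalk x) := by
        rw [map_germ_pU, pStalk, Ideal.map_le_iff_le_comap]
        intro a ha
        rw [Ideal.mem_comap, mem_maximalIdeal, mem_nonunits_iff]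
        intro hu
        rw [← germ_comp_phi f hxV] at hu
        have h3 : x ∈ X.basicOpen (phi f V a) := (Scheme.mem_basicOpen _ _ _ hxV).mpr hu
        have h4 := notMem_of_mem_basicOpen_phi f h3
        rw [hx] at h4
        exact h4 ha
      exact h2 (Ideal.mem_map_of_mem _ hr1)
    have h5 : X.presheaf.germ V x hxV r = X.presheaf.germ V x hxV (r - 1) + 1 := by
      rw [map_sub, map_one]; ring
    rw [h5]
    by_contra hnu
    have h6 : X.presheaf.germ V x hxV (r - 1) + 1 ∈ maximalIdeal (X.presheaf.stalk x) := hnu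
    have h7 : (1 : X.presheaf.stalk x) ∈ maximalIdeal (X.presheaf.stalk x) := by
      have := (maximalIdeal (X.presheaf.stalk x)).sub_mem h6 h1
      simp at this
    exact (Ideal.ne_top_iff_one _).mp (maximalIdeal.isMaximal _).ne_top h7
  refine ⟨X.basicOpen r, hxr, ?_⟩
  intro w hw
  have hwV : w ∈ V := X.basicOpen_le r hw
  let q := hV.primeIdealOf ⟨w, hwV⟩
  have hqw : hV.fromSpec q = w := hV.fromSpec_primeIdealOf ⟨w, hwV⟩
  have hrq : r ∉ q.asIdeal := by
    have : q ∈ hV.fromSpec ⁻¹ᵁ X.basicOpen r := by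
      change hV.fromSpec q ∈ X.basicOpen r
      rw [hqw]; exact hw
    rw [hV.fromSpec_preimage_basicOpen] at this
    exact this
  letI := X.presheaf.algebra_section_stalk ⟨w, hwV⟩
  haveI := hV.isLocalization_stalk ⟨w, hwV⟩
  exact Groth.Agent.Lib.Seat47.DvrRedAlg.isReduced_of_isLocalization_atPrime r hkill q.asIdeal hrq
    (X.presheaf.stalk w)

/-- the generic fibre of a reduced scheme over a domain is reduced. -/
theorem isReduced_pullback_fractionRing_of_isReduced {A : Type u} [CommRing A] [IsDomain A]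
    (K : Type u) [Field K] [Algebra A K] [IsFractionRing A K] {X' : Scheme.{u}}
    (f' : X' ⟶ Spec (CommRingCat.of A)) [IsReduced X'] :
    IsReduced (pullback f' (Spec.map (CommRingCat.ofHom (algebraMap A K)))) := by
  let 𝒱 := X'.affineOpenCover
  let 𝒰 := Scheme.Pullback.openCoverOfLeft 𝒱.openCover f'
    (Spec.map (CommRingCat.ofHom (algebraMap A K)))
  haveI : ∀ i, IsReduced (𝒰.X i) := by
    intro i
    show IsReduced (pullback (𝒱.f i ≫ f')
      (Spec.map (CommRingCat.ofHom (algebraMap A K))))
    obtain ⟨φ, hφ⟩ : ∃ φ : CommRingCat.of A ⟶ 𝒱.X i, Spec.map φ = 𝒱.f i ≫ f' :=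
      ⟨Spec.preimage (𝒱.f i ≫ f'), Spec.map_preimage _⟩
    rw [← hφ]
    letI : Algebra A (𝒱.X i) := φ.hom.toAlgebra
    haveI : IsReduced (Spec (𝒱.X i)) :=
      isReduced_of_isOpenImmersion (𝒱.f i)
    haveI : _root_.IsReduced (𝒱.X i) := (affine_isReduced_iff _).1 inferInstance
    haveI : _root_.IsReduced ((𝒱.X i) ⊗[A] K) :=
      isReduced_localizationPreserves
        (Algebra.algebraMapSubmonoid (𝒱.X i) (nonZeroDivisors A)) _ inferInstance
    have hφ' : φ = CommRingCat.ofHom (algebraMap A (𝒱.X i)) := rfl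
    rw [hφ']
    exact isReduced_of_isOpenImmersion (pullbackSpecIso A (𝒱.X i) K).hom
  exact IsReduced.of_openCover _ 𝒰

end Groth.Agent.Lib.Seat47.ValRedSch
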