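import Mathlib
import Groth.Agent.Lib.Helper6GeomRedConstr
import Groth.Agent.Lib.Helper3FlatFibDim
import Groth.Agent.Lib.Seat69ValRedFibSch

/-!
# helper69: the geometrically reduced fibre locus of a proper flat morphism is stable under
generalization, hence open when the morphism is of finite presentation (S0435).
-/

set_option autoImplicit false
set_option linter.style.haveILetI false
universe u

namespace Groth.Agent.Lib.Seat69.GeomRedOpen

open AlgebraicGeometry CategoryTheory CategoryTheory.Limits TopologicalSpace Opposite IsLocalRing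
open Groth.Agent.Lib.Helper6.GeomRedConstr

/-- A field valued point `s : Spec K ⟶ Y` whose image generalizes `y` extends to a valuation subring
of `K` with closed point mapping to `y`. -/
theorem exists_valuationSubring_of_specializes {Y : Scheme.{u}} {K : Type u} [Field K]
    (s : Spec (CommRingCat.of K) ⟶ Y) {y : Y} (h : s (closedPoint K) ⤳ y) :
    ∃ (A : ValuationSubring K) (g : Spec (CommRingCat.of A) ⟶ Y),
      Spec.map (CommRingCat.ofHom (algebraMap A K)) ≫ g = s ∧ g (closedPoint A) = y := by
  let φ : Y.presheaf.stalk y ⟶ CommRingCat.of K :=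
    Y.presheaf.stalkSpecializes h ≫ Scheme.stalkClosedPointTo s
  obtain ⟨A, hA, hA_local⟩ := exists_factor_valuationRing φ.hom
  let ψ : Y.presheaf.stalk y ⟶ CommRingCat.of A :=
    CommRingCat.ofHom (φ.hom.codRestrict _ hA)
  refine ⟨A, Spec.map ψ ≫ Y.fromSpecStalk y, ?_, ?_⟩
  · have h1 : ψ ≫ CommRingCat.ofHom (algebraMap A K) = φ := rfl
    rw [← Spec.map_comp_assoc, h1, Spec.map_comp_assoc,
      Scheme.SpecMap_stalkSpecializes_fromSpecStalk h, Scheme.Spec_stalkClosedPointTo_fromSpecStalk]
  · have h2 : Spec.map ψ (closedPoint A) = closedPoint (Y.presheaf.stalk y) :=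
      comap_closedPoint (S := A) (φ.hom.codRestrict A.toSubring hA)
    change (Y.fromSpecStalk y) (Spec.map ψ (closedPoint A)) = y
    rw [h2, Y.fromSpecStalk_closedPoint]

/-- base change of `f'` along `Spec (Frac A) ⟶ Spec A` is the generic fibre. -/
theorem isReduced_pullback_fractionRing {A : Type u} [CommRing A] [IsDomain A] (K : Type u)
    [Field K] [Algebra A K] [IsFractionRing A K] {X' : Scheme.{u}}
    (f' : X' ⟶ Spec (CommRingCat.of A))
    (h : IsReduced (f'.fiber (⟨⊥, Ideal.isPrime_bot⟩ : PrimeSpectrum A))) :
    IsReduced (pullback f' (Spec.map (CommRingCat.ofHom (algebraMap A K)))) := by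
  let η : PrimeSpectrum A := ⟨⊥, Ideal.isPrime_bot⟩
  let κ := η.asIdeal.ResidueField
  haveI : IsFractionRing A κ := inferInstanceAs (IsFractionRing A (⊥ : Ideal A).ResidueField)
  let ψ : κ ≃ₐ[A] K := IsLocalization.algEquiv (nonZeroDivisors A) κ K
  let t := (Spec (CommRingCat.of A)).fromSpecResidueField η
  let e : Spec (CommRingCat.of K) ⟶ Spec ((Spec (CommRingCat.of A)).residueField η) :=
    Spec.map (CommRingCat.ofHom ψ.toRingEquiv.toRingHom) ≫
      Spec.map (Scheme.Spec.residueFieldIso (CommRingCat.of A) η).hom
  haveI : IsIso (Spec.map (CommRingCat.ofHom ψ.toRingEquiv.toRingHom)) := by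
    haveI : IsIso (CommRingCat.ofHom ψ.toRingEquiv.toRingHom) :=
      (ψ.toRingEquiv.toCommRingCatIso).isIso_hom
    infer_instance
  haveI : IsIso e := by dsimp only [e]; infer_instance
  have he : e ≫ t = Spec.map (CommRingCat.ofHom (algebraMap A K)) := by
    dsimp only [e, t]
    rw [← Scheme.Spec.map_residueFieldIso_inv_eq_fromSpecResidueField (CommRingCat.of A) η,
      Category.assoc, ← Spec.map_comp_assoc (Scheme.Spec.residueFieldIso (CommRingCat.of A) η).inv,
      Iso.inv_hom_id, Spec.map_id, Category.id_comp, ← Spec.map_comp, ← CommRingCat.ofHom_comp]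
    congr 2
    ext a
    exact ψ.commutes a
  let m : pullback f' (Spec.map (CommRingCat.ofHom (algebraMap A K))) ⟶ pullback f' t :=
    pullback.map _ _ _ _ (𝟙 _) e (𝟙 _) (by rw [Category.comp_id, Category.id_comp])
      (by rw [Category.comp_id, he])
  haveI : IsIso m := by dsimp only [m]; infer_instance
  haveI : IsReduced (pullback f' t) := h
  exact isReduced_of_isOpenImmersion m

/-- For a proper flat morphism the locus of geometrically reduced fibres is stable under
generalization (valuation rings + S0438). -/
theorem stableUnderGeneralization_GR {X Y : Scheme.{u}} (f : X ⟶ Y) [IsProper f] [Flat f] :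
    StableUnderGeneralization (GR f) := by
  intro y y' h hy
  rw [mem_GR_iff] at hy ⊢
  rintro ⟨K, _, s, hs, hnr⟩
  apply hnr
  have h' : s (closedPoint K) ⤳ y := by
    have e := hs (show ↥(Spec (CommRingCat.of K)) from closedPoint K)
    exact e ▸ h
  obtain ⟨A, g, hg1, hg2⟩ := exists_valuationSubring_of_specializes s h'
  have hpb : IsPullback (pullback.fst f g) (pullback.snd f g) f g := IsPullback.of_hasPullback f g
  have hGR : GR (pullback.snd f g) = g ⁻¹' GR f := GR_eq_preimage hpb
  let c : ↥(Spec (CommRingCat.of A)) := closedPoint A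
  have hgc : g c = y := hg2
  have hc : c ∈ GR (pullback.snd f g) := by
    rw [hGR]
    show g c ∈ GR f
    rw [hgc, mem_GR_iff]
    exact hy
  have hred : IsReduced ((pullback.snd f g).fiber c) := by
    by_contra hcon
    rw [mem_GR_iff] at hc
    exact hc ⟨_, inferInstance,
      (Spec (CommRingCat.of A)).fromSpecResidueField c,
      fun p => Scheme.fromSpecResidueField_apply _ _, hcon⟩
  have hmain := Groth.Agent.Lib.Seat69.ValRedFibSch.main (pullback.snd f g) hred
  have h1 := isReduced_pullback_fractionRing K (pullback.snd f g)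
    (hmain.2 (⟨⊥, Ideal.isPrime_bot⟩ : PrimeSpectrum A))
  have h2 := (isReduced_pullback_iff_of_isPullback hpb
    (Spec.map (CommRingCat.ofHom (algebraMap A K)))).mp h1
  rwa [hg1] at h2

/-- **S0435.** For a flat proper morphism of finite presentation the locus of geometrically reduced
fibres is open. -/
theorem isOpen_GR {X Y : Scheme.{u}} (f : X ⟶ Y) [Flat f] [IsProper f]
    [LocallyOfFinitePresentation f] : IsOpen (GR f) :=
  Groth.Agent.Lib.Helper3.FlatFibDim.isOpen_of_isLocallyConstructible_of_stableUnderGeneralization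
    (isLocallyConstructible_GR f) (stableUnderGeneralization_GR f)

end Groth.Agent.Lib.Seat69.GeomRedOpen
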