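import Mathlib
import Groth.Agent.Lib.Seat47ValRedSch
import Groth.Agent.Lib.Seat47DvrRedSp
import Groth.Agent.Lib.Seat47GeomRedConstr
import Groth.Agent.Lib.Seat69GeomRedOpen

/-!
# Seat47: geometrically reduced fibres of a flat, universally closed morphism of algebraic spaces, read on a chart,
are stable under generalization (valuation rings).
-/

set_option autoImplicit false
universe u
open CategoryTheory CategoryTheory.Limits AlgebraicGeometry Opposite IsLocalRing

namespace Groth.Agent.Lib.Seat47.ValRedSp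

open Groth.Agent.Lib.Seat47.DvrRedSp Groth.Agent.Lib.Helper6.GeomRedConstr

variable {S : Scheme.{u}}

/-- the chart of a base change over a scheme base, with its structure map. -/
theorem exists_chart_rel' {P P' : AlgSp.Sp S} {V T' : Over S} (π : P ⟶ (AlgSp.yon S).obj V)
    (γ : T' ⟶ V) (fst : P' ⟶ P) (snd : P' ⟶ (AlgSp.yon S).obj T')
    (sq : IsPullback fst snd π ((AlgSp.yon S).map γ)) {U : Over S}
    (p : (AlgSp.yon S).obj U ⟶ P) (g : U ⟶ V) (hg : (AlgSp.yon S).map g = p ≫ π) :
    ∃ (p' : (AlgSp.yon S).obj (Over.mk (pullback.fst g.left γ.left ≫ U.hom)) ⟶ P')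
      (g' : Over.mk (pullback.fst g.left γ.left ≫ U.hom) ⟶ T'),
      IsPullback p' ((AlgSp.yon S).map (Over.homMk (pullback.fst g.left γ.left) rfl :
        Over.mk (pullback.fst g.left γ.left ≫ U.hom) ⟶ U)) fst p ∧
      g'.left = pullback.snd g.left γ.left ∧ (AlgSp.yon S).map g' = p' ≫ snd := by
  let bcPr : Over.mk (pullback.fst g.left γ.left ≫ U.hom) ⟶ U :=
    Over.homMk (pullback.fst g.left γ.left) rfl
  let bcQ : Over.mk (pullback.fst g.left γ.left ≫ U.hom) ⟶ T' :=
    Over.homMk (pullback.snd g.left γ.left) (by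
      show pullback.snd g.left γ.left ≫ T'.hom = pullback.fst g.left γ.left ≫ U.hom
      rw [← Over.w γ, ← Over.w g, ← Category.assoc, ← Category.assoc, pullback.condition])
  have hov : IsPullback bcQ bcPr γ g := by
    refine IsPullback.of_map (Over.forget _) ?_ ?_
    · apply Over.OverMorphism.ext
      exact (pullback.condition (f := g.left) (g := γ.left)).symm
    · exact (IsPullback.of_hasPullback g.left γ.left).flip
  have hbig := hov.map (AlgSp.yon S)
  let p' := sq.lift ((AlgSp.yon S).map bcPr ≫ p) ((AlgSp.yon S).map bcQ) (by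
    rw [Category.assoc, ← hg, ← Functor.map_comp, ← Functor.map_comp, hov.w])
  have h3 : (AlgSp.yon S).map bcQ = p' ≫ snd := (sq.lift_snd _ _ _).symm
  refine ⟨p', bcQ, ?_, rfl, h3⟩
  rw [hg, h3] at hbig
  exact IsPullback.of_right hbig (sq.lift_fst _ _ _) sq.flip

/-- a chart of a space with closed structure map to the spectrum of a local ring is reduced as soon as the points over
the closed point have neighbourhoods with reduced stalks. -/
theorem isReduced_chart_of_special {A : Type u} [CommRing A] [IsLocalRing A]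
    (str : Spec (CommRingCat.of A) ⟶ S) {X' : AlgSp.Sp S}
    (s' : X' ⟶ (AlgSp.yon S).obj (Over.mk str)) (hcl : IsClosedMap (AlgSp.Points.map s'))
    {U' : Over S} (p' : (AlgSp.yon S).obj U' ⟶ X') (hpe : AlgSp.RepWith @Etale p')
    (hps : AlgSp.RepWith @Surjective p') (g' : U' ⟶ Over.mk str)
    (hg' : (AlgSp.yon S).map g' = p' ≫ s')
    (hsp : ∀ u : ↥U'.left, g'.left u = closedPoint A → u ∈ redLocus U'.left) :
    IsReduced U'.left := by
  apply isReduced_of_redLocus_eq_univ
  by_contra hne
  obtain ⟨u₀, hu₀⟩ : ∃ u₀, u₀ ∉ redLocus U'.left := by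
    by_contra h
    push_neg at h
    exact hne (Set.eq_univ_of_forall h)
  have hZ := isClosed_image_compl_redLocus p' hpe hps
  have hC' : IsClosed ((AlgSp.Points.schemeHomeo (Over.mk str)) ⁻¹'
      (AlgSp.Points.map s' '' (AlgSp.Points.ofPt p' '' (redLocus U'.left)ᶜ))) :=
    (hcl _ hZ).preimage (AlgSp.Points.schemeHomeo _).continuous
  have key : ∀ u : ↥U'.left, AlgSp.Points.map s' (AlgSp.Points.ofPt p' u) =
      AlgSp.Points.schemeHomeo (Over.mk str) (g'.left u) := by
    intro u
    rw [AlgSp.Points.map_ofPt]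
    have : p' ≫ s' = (AlgSp.yon S).map g' ≫ 𝟙 _ := by rw [Category.comp_id, hg']
    rw [this, Groth.Agent.S10176.ofPt_map_comp]
    rfl
  have h1 : g'.left u₀ ∈ ((AlgSp.Points.schemeHomeo (Over.mk str)) ⁻¹'
      (AlgSp.Points.map s' '' (AlgSp.Points.ofPt p' '' (redLocus U'.left)ᶜ))) :=
    ⟨AlgSp.Points.ofPt p' u₀, ⟨u₀, hu₀, rfl⟩, key u₀⟩
  have h2 : closedPoint A ∈ ((AlgSp.Points.schemeHomeo (Over.mk str)) ⁻¹'
      (AlgSp.Points.map s' '' (AlgSp.Points.ofPt p' '' (redLocus U'.left)ᶜ))) :=
    (IsLocalRing.specializes_closedPoint (g'.left u₀)).mem_closed hC' h1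
  obtain ⟨_, ⟨u₁, hu₁, rfl⟩, e⟩ := h2
  rw [key] at e
  have e' : g'.left u₁ = closedPoint A := (AlgSp.Points.schemeHomeo _).injective e
  exact hu₁ (hsp u₁ e')

/-- For a flat, locally of finite type, universally closed morphism of algebraic spaces, the locus of
geometrically reduced fibres, read on a chart, is stable under generalization. -/
theorem stableUnderGeneralization_GR_chart {X Y : AlgSp.Space S} (f : X ⟶ Y)
    (hfl : AlgSp.LocP @Flat f.hom) (hlft : AlgSp.LocP @LocallyOfFiniteType f.hom)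
    (hcl : AlgSp.IsUnivClosedMor f.hom) {V : Over S} (a : (AlgSp.yon S).obj V ⟶ Y.obj)
    (ha : AlgSp.RepWith @Etale a) {U : Over S} (p : (AlgSp.yon S).obj U ⟶ pullback f.hom a)
    (hpe : AlgSp.RepWith @Etale p) (hps : AlgSp.RepWith @Surjective p) (g : U ⟶ V)
    (hg : (AlgSp.yon S).map g = p ≫ pullback.snd f.hom a) :
    StableUnderGeneralization (GR g.left) := by
  have hfst : AlgSp.RepWith @Etale (pullback.fst f.hom a) :=
    MorphismProperty.of_isPullback (P := AlgSp.RepWith @Etale)
      (IsPullback.of_hasPullback f.hom a).flip ha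
  have hcomm : (p ≫ pullback.fst f.hom a) ≫ f.hom = (AlgSp.yon S).map g ≫ a := by
    rw [Category.assoc, pullback.condition, ← Category.assoc, hg]
  haveI : Flat g.left :=
    hfl (p ≫ pullback.fst f.hom a) a g ((AlgSp.RepWith @Etale).comp_mem _ _ hpe hfst) ha hcomm
  haveI : LocallyOfFiniteType g.left :=
    hlft (p ≫ pullback.fst f.hom a) a g ((AlgSp.RepWith @Etale).comp_mem _ _ hpe hfst) ha hcomm
  intro y y' h hy
  rw [mem_GR_iff] at hy ⊢
  rintro ⟨K, _, s, hs, hnr⟩
  apply hnr
  have h' : s (closedPoint K) ⤳ y := by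
    have e := hs (show ↥(Spec (CommRingCat.of K)) from closedPoint K)
    exact e ▸ h
  obtain ⟨A, hA, hg1, hg2⟩ :=
    Groth.Agent.Lib.Seat69.GeomRedOpen.exists_valuationSubring_of_specializes s h'
  have hpb : IsPullback (pullback.fst g.left hA) (pullback.snd g.left hA) g.left hA :=
    IsPullback.of_hasPullback g.left hA
  have hGR : GR (pullback.snd g.left hA) = hA ⁻¹' GR g.left := GR_eq_preimage hpb
  let c : ↥(Spec (CommRingCat.of A)) := closedPoint A
  have hgc : hA c = y := hg2
  have hc : c ∈ GR (pullback.snd g.left hA) := by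
    rw [hGR]
    show hA c ∈ GR g.left
    rw [hgc, mem_GR_iff]
    exact hy
  have hred : IsReduced ((pullback.snd g.left hA).fiber c) := by
    by_contra hcon
    rw [mem_GR_iff] at hc
    exact hc ⟨_, inferInstance,
      (Spec (CommRingCat.of A)).fromSpecResidueField c,
      fun p => Scheme.fromSpecResidueField_apply _ _, hcon⟩
  -- the algebraic space over `Spec A` and its chart
  let hO : Over.mk (hA ≫ V.hom) ⟶ V := Over.homMk hA rfl
  have sqP := IsPullback.of_hasPullback f.hom a
  have sqA := IsPullback.of_hasPullback f.hom ((AlgSp.yon S).map hO ≫ a)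
  have hw : pullback.fst f.hom ((AlgSp.yon S).map hO ≫ a) ≫ f.hom =
      (pullback.snd f.hom ((AlgSp.yon S).map hO ≫ a) ≫ (AlgSp.yon S).map hO) ≫ a := by
    rw [Category.assoc]
    exact sqA.w
  have h1 : sqP.lift _ _ hw ≫ pullback.fst f.hom a = pullback.fst f.hom _ := sqP.lift_fst _ _ _
  have h2 : sqP.lift _ _ hw ≫ pullback.snd f.hom a =
      pullback.snd f.hom ((AlgSp.yon S).map hO ≫ a) ≫ (AlgSp.yon S).map hO := sqP.lift_snd _ _ _
  have left : IsPullback (sqP.lift _ _ hw) (pullback.snd f.hom ((AlgSp.yon S).map hO ≫ a))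
      (pullback.snd f.hom a) ((AlgSp.yon S).map hO) := by
    refine IsPullback.of_right ?_ h2 sqP
    rw [h1]
    exact sqA
  obtain ⟨p', g', sqp', hg'l, hg'⟩ := exists_chart_rel' (pullback.snd f.hom a) hO _ _ left p g hg
  have hp'e : AlgSp.RepWith @Etale p' :=
    MorphismProperty.of_isPullback (P := AlgSp.RepWith @Etale) sqp'.flip hpe
  have hp's : AlgSp.RepWith @Surjective p' :=
    MorphismProperty.of_isPullback (P := AlgSp.RepWith @Surjective) sqp'.flip hps
  have hclA : IsClosedMap (AlgSp.Points.map (pullback.snd f.hom ((AlgSp.yon S).map hO ≫ a))) :=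
    hcl (AlgSp.IsAlgSpace.yon_obj _) ((AlgSp.yon S).map hO ≫ a) _ _ sqA
  haveI hUA : IsReduced (pullback g.left hA) := by
    refine isReduced_chart_of_special (hA ≫ V.hom) _ hclA p' hp'e hp's g' hg' ?_
    intro u hu
    rw [hg'l] at hu
    obtain ⟨N, huN, hN⟩ := Groth.Agent.Lib.Seat47.ValRedSch.exists_open_isReduced_stalk_val
      (pullback.snd g.left hA) hred u hu
    exact ⟨N, huN, hN⟩
  have h3 := Groth.Agent.Lib.Seat47.ValRedSch.isReduced_pullback_fractionRing_of_isReduced K
    (pullback.snd g.left hA)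
  have h4 := (isReduced_pullback_iff_of_isPullback hpb
    (Spec.map (CommRingCat.ofHom (algebraMap A K)))).mp h3
  rwa [hg1] at h4

end Groth.Agent.Lib.Seat47.ValRedSp
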