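import Mathlib
import Groth.Agent.Lib.Seat47ValRedSp
import Groth.Agent.Lib.Helper3FlatFibDim
import Groth.Agent.S10686

/-!
# Seat47: the locus of geometrically reduced fibres of a morphism of algebraic spaces, read on an affine chart
-/

set_option autoImplicit false
universe u
open CategoryTheory CategoryTheory.Limits AlgebraicGeometry Opposite

namespace Groth.Agent.Lib.Seat47.GeomRedOpen

open Groth.Agent.Lib.Helper6.GeomRedConstr

variable {S : Scheme.{u}}

/-- the preimage in a chart `V` of the locus of geometrically reduced fibres of `f : X ⟶ Y` is the locus of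
geometrically reduced fibres of `U ⟶ V`, `U` an étale surjective chart of `X ×_Y h_V`. -/
theorem preimage_eq_GR {X Y : AlgSp.Space S} (f : X ⟶ Y) {V : Over S}
    (a : (AlgSp.yon S).obj V ⟶ Y.obj) {U : Over S} (p : (AlgSp.yon S).obj U ⟶ pullback f.hom a)
    (hpe : AlgSp.RepWith @Etale p) (hps : AlgSp.RepWith @Surjective p) (g : U ⟶ V)
    (hg : (AlgSp.yon S).map g = p ≫ pullback.snd f.hom a) :
    (AlgSp.Points.ofPt a) ⁻¹' {y : AlgSp.Points Y.obj | ∀ (k : AlgSp.FieldPt Y.obj),
      AlgSp.Points.mk k = y →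
        ∀ (k' : Type u) [Field k'] (φ : k.K →+* k') (Xk' : AlgSp.Sp S) (a : Xk' ⟶ X.obj)
          (b : Xk' ⟶ (AlgSp.yon S).obj (Over.mk (Spec.map (CommRingCat.ofHom φ) ≫ k.str))),
          IsPullback a b f.hom ((AlgSp.yon S).map (Over.homMk (Spec.map (CommRingCat.ofHom φ)) rfl :
            Over.mk (Spec.map (CommRingCat.ofHom φ) ≫ k.str) ⟶ k.pt) ≫ k.toHom) →
          AlgSp.EtaleLocally (fun U => IsReduced U) Xk'} = GR g.left := by
  ext v
  rw [Set.mem_preimage, Set.mem_setOf_eq, mem_GR_iff]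
  constructor
  · rintro hA ⟨K, _, s, hs, hnr⟩
    apply hnr
    have hq : AlgSp.Points.mk (Groth.Agent.Lib.Seat47.GeomRedConstr.fieldPtOfHom a K s) =
        AlgSp.Points.ofPt a v := by
      rw [Groth.Agent.Lib.Seat47.GeomRedConstr.mk_fieldPtOfHom, hs]
    have sq0 := IsPullback.of_hasPullback f.hom ((AlgSp.yon S).map
      (Over.homMk (Spec.map (CommRingCat.ofHom (RingHom.id K))) rfl :
        Over.mk (Spec.map (CommRingCat.ofHom (RingHom.id K)) ≫
          (Groth.Agent.Lib.Seat47.GeomRedConstr.fieldPtOfHom a K s).str) ⟶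
          (Groth.Agent.Lib.Seat47.GeomRedConstr.fieldPtOfHom a K s).pt) ≫
        (Groth.Agent.Lib.Seat47.GeomRedConstr.fieldPtOfHom a K s).toHom)
    have hred := hA (Groth.Agent.Lib.Seat47.GeomRedConstr.fieldPtOfHom a K s) hq K (RingHom.id K)
      _ _ _ sq0
    let γ : Over.mk (Spec.map (CommRingCat.ofHom (RingHom.id K)) ≫
        (Groth.Agent.Lib.Seat47.GeomRedConstr.fieldPtOfHom a K s).str) ⟶ V :=
      (Over.homMk (Spec.map (CommRingCat.ofHom (RingHom.id K))) rfl :
        Over.mk (Spec.map (CommRingCat.ofHom (RingHom.id K)) ≫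
          (Groth.Agent.Lib.Seat47.GeomRedConstr.fieldPtOfHom a K s).str) ⟶
          (Groth.Agent.Lib.Seat47.GeomRedConstr.fieldPtOfHom a K s).pt) ≫
        (Over.homMk s rfl : Over.mk (s ≫ V.hom) ⟶ V)
    have ht' : (AlgSp.yon S).map γ ≫ a = (AlgSp.yon S).map
      (Over.homMk (Spec.map (CommRingCat.ofHom (RingHom.id K))) rfl :
        Over.mk (Spec.map (CommRingCat.ofHom (RingHom.id K)) ≫
          (Groth.Agent.Lib.Seat47.GeomRedConstr.fieldPtOfHom a K s).str) ⟶
          (Groth.Agent.Lib.Seat47.GeomRedConstr.fieldPtOfHom a K s).pt) ≫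
        (Groth.Agent.Lib.Seat47.GeomRedConstr.fieldPtOfHom a K s).toHom := by
      rw [Groth.Agent.Lib.Seat47.GeomRedConstr.fieldPtOfHom_toHom, Functor.map_comp, Category.assoc]
      rfl
    have h1 := (Groth.Agent.Lib.Seat47.GeomRedConstr.etaleLocally_reduced_iff f a p hpe hps g hg γ _ ht'
      _ _ sq0).1 hred
    have hγ : γ.left = s := by
      show Spec.map (CommRingCat.ofHom (RingHom.id K)) ≫ s = s
      have : CommRingCat.ofHom (RingHom.id K) = 𝟙 (CommRingCat.of K) := rfl
      rw [this, Spec.map_id, Category.id_comp]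
    rw [hγ] at h1
    exact h1
  · intro hnr
    have tfae := Groth.Agent.S10686.result f (AlgSp.Points.ofPt a v)
    have h12 := tfae.out 0 1
    apply h12.1
    refine ⟨AlgSp.FieldPt.ofPt a v, rfl, ?_⟩
    intro k' _ φ Xk' a' b' sq
    let γ : Over.mk (Spec.map (CommRingCat.ofHom φ) ≫ (AlgSp.FieldPt.ofPt a v).str) ⟶ V :=
      (Over.homMk (Spec.map (CommRingCat.ofHom φ)) rfl :
        Over.mk (Spec.map (CommRingCat.ofHom φ) ≫ (AlgSp.FieldPt.ofPt a v).str) ⟶
          (AlgSp.FieldPt.ofPt a v).pt) ≫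
        (Over.homMk (V.left.fromSpecResidueField v) rfl : (AlgSp.FieldPt.ofPt a v).pt ⟶ V)
    have ht' : (AlgSp.yon S).map γ ≫ a = (AlgSp.yon S).map
        (Over.homMk (Spec.map (CommRingCat.ofHom φ)) rfl :
          Over.mk (Spec.map (CommRingCat.ofHom φ) ≫ (AlgSp.FieldPt.ofPt a v).str) ⟶
            (AlgSp.FieldPt.ofPt a v).pt) ≫ (AlgSp.FieldPt.ofPt a v).toHom := by
      rw [AlgSp.FieldPt.toHom_ofPt, Functor.map_comp, Category.assoc]
    rw [Groth.Agent.Lib.Seat47.GeomRedConstr.etaleLocally_reduced_iff f a p hpe hps g hg γ _ ht'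
      a' b' sq]
    by_contra hcon
    refine hnr ⟨k', inferInstance, γ.left, fun x => ?_, hcon⟩
    show (Spec.map (CommRingCat.ofHom φ) ≫ V.left.fromSpecResidueField v) x = v
    rw [Scheme.Hom.comp_apply]
    exact Scheme.fromSpecResidueField_apply _ _

end Groth.Agent.Lib.Seat47.GeomRedOpen
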