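import Groth.Prelude.Def_AlgSpOX
import Groth.Agent.S10176
import Groth.Agent.S10242

/-!
# Global sections of the structure sheaf of an algebraic space (seat 47)

Working with `AlgSp.gsectEt (AlgSp.OEt X)` componentwise: the value `val f E ∈ Γ(E, ⊤)` of a global
section on an étale chart, compatibility with morphisms of charts, non-vanishing loci in `|X|`.
-/

set_option autoImplicit false
set_option backward.isDefEq.respectTransparency false
universe u
open CategoryTheory CategoryTheory.Limits AlgebraicGeometry Opposite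

namespace Groth.Agent.Lib.Seat47.GsectEt

variable {S : Scheme.{u}} {X : AlgSp.Sp S}

/-- the value of a global function on an étale chart. -/
noncomputable def val (f : ↥(AlgSp.gsectEt (AlgSp.OEt X))) (E : AlgSp.EtOver X) :
    Γ(E.obj.left.left, ⊤) :=
  ((limit.π (AlgSp.OEt X).obj (op E)) f).down

lemma ext {f g : ↥(AlgSp.gsectEt (AlgSp.OEt X))} (h : ∀ E, val f E = val g E) : f = g := by
  apply Concrete.limit_ext
  intro j
  exact ULift.ext _ _ (h j.unop)

@[simp] lemma val_zero (E : AlgSp.EtOver X) : val (0 : ↥(AlgSp.gsectEt (AlgSp.OEt X))) E = 0 := by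
  unfold val; rw [map_zero]; rfl

@[simp] lemma val_one (E : AlgSp.EtOver X) : val (1 : ↥(AlgSp.gsectEt (AlgSp.OEt X))) E = 1 := by
  unfold val; rw [map_one]; rfl

lemma val_mul (f g : ↥(AlgSp.gsectEt (AlgSp.OEt X))) (E : AlgSp.EtOver X) :
    val (f * g) E = val f E * val g E := by
  unfold val; rw [map_mul]; rfl

lemma val_add (f g : ↥(AlgSp.gsectEt (AlgSp.OEt X))) (E : AlgSp.EtOver X) :
    val (f + g) E = val f E + val g E := by
  unfold val; rw [map_add]; rfl

lemma val_pow (f : ↥(AlgSp.gsectEt (AlgSp.OEt X))) (n : ℕ) (E : AlgSp.EtOver X) :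
    val (f ^ n) E = val f E ^ n := by
  unfold val; rw [map_pow]; rfl

lemma val_map (f : ↥(AlgSp.gsectEt (AlgSp.OEt X))) {E E' : AlgSp.EtOver X} (g : E ⟶ E') :
    g.hom.left.left.appTop.hom (val f E') = val f E := by
  have h := limit.w (AlgSp.OEt X).obj g.op
  have h2 := congrArg (fun k => (k.hom f).down) h
  simp only [CommRingCat.hom_comp, RingHom.comp_apply] at h2
  rw [AlgSp.OEt_map] at h2
  exact h2

lemma mem_basicOpen_map (f : ↥(AlgSp.gsectEt (AlgSp.OEt X))) {E E' : AlgSp.EtOver X} (g : E ⟶ E')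
    (u : ↥E.obj.left.left) :
    u ∈ E.obj.left.left.basicOpen (val f E) ↔
      g.hom.left.left u ∈ E'.obj.left.left.basicOpen (val f E') := by
  rw [← val_map f g]
  change _ ↔ u ∈ g.hom.left.left ⁻¹ᵁ (E'.obj.left.left.basicOpen (val f E'))
  rw [Scheme.preimage_basicOpen]
  rfl

/-- the non-vanishing locus of a global function in the space of points. -/
def nonvanishing (f : ↥(AlgSp.gsectEt (AlgSp.OEt X))) : Set (AlgSp.Points X) :=
  ⋃ E : AlgSp.EtOver X, AlgSp.Points.ofPt E.obj.hom ''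
    (E.obj.left.left.basicOpen (val f E) : Set ↥E.obj.left.left)

lemma isOpen_nonvanishing (f : ↥(AlgSp.gsectEt (AlgSp.OEt X))) : IsOpen (nonvanishing f) :=
  isOpen_iUnion fun E =>
    Groth.Agent.S10176.isOpenMap_ofPt E.obj.hom E.property _
      (E.obj.left.left.basicOpen (val f E)).2

/-- two points of charts with the same image come from a common refinement. -/
lemma exists_common {E₁ E₂ : AlgSp.EtOver X} (u₁ : ↥E₁.obj.left.left) (u₂ : ↥E₂.obj.left.left)
    (h : AlgSp.Points.ofPt E₁.obj.hom u₁ = AlgSp.Points.ofPt E₂.obj.hom u₂) :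
    ∃ (E₃ : AlgSp.EtOver X) (g₁ : E₃ ⟶ E₁) (g₂ : E₃ ⟶ E₂) (u₃ : ↥E₃.obj.left.left),
      g₁.hom.left.left u₃ = u₁ ∧ g₂.hom.left.left u₃ = u₂ := by
  obtain ⟨W, w, pr', sq⟩ := E₁.property.1 E₂.obj.hom
  obtain ⟨pr, rfl⟩ := (AlgSp.yon S).map_surjective pr'
  obtain ⟨y, hy1, hy2⟩ := Groth.Agent.S10176.exists_point_of_isPullback_yon sq u₁ u₂ h
  have hW : AlgSp.RepWith @Etale ((AlgSp.yon S).map pr ≫ E₁.obj.hom) := by
    haveI : Etale pr.left := E₂.property.2 E₁.obj.hom _ pr sq.flip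
    have h1 : AlgSp.RepWith @Etale ((AlgSp.yon S).map pr) :=
      (AlgSp.repWith_yon_map_iff @Etale pr).2 ‹_›
    exact (AlgSp.repWith_isMultiplicative (S := S) @Etale).comp_mem _ _ h1 E₁.property
  refine ⟨AlgSp.EtOver.mk _ hW, AlgSp.EtOver.homMk pr rfl, AlgSp.EtOver.homMk w sq.w.symm, y,
    hy1, hy2⟩

lemma mem_nonvanishing_iff (f : ↥(AlgSp.gsectEt (AlgSp.OEt X))) (E : AlgSp.EtOver X)
    (u : ↥E.obj.left.left) :
    AlgSp.Points.ofPt E.obj.hom u ∈ nonvanishing f ↔ u ∈ E.obj.left.left.basicOpen (val f E) := by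
  constructor
  · intro h
    obtain ⟨_, ⟨E', rfl⟩, u', hu', he⟩ := h
    obtain ⟨E₃, g₁, g₂, u₃, h1, h2⟩ := exists_common u' u he
    rw [← h2, ← mem_basicOpen_map f g₂, mem_basicOpen_map f g₁, h1]
    exact hu'
  · intro h
    exact Set.mem_iUnion.2 ⟨E, u, h, rfl⟩

lemma nonvanishing_mul (f g : ↥(AlgSp.gsectEt (AlgSp.OEt X))) :
    nonvanishing (f * g) = nonvanishing f ∩ nonvanishing g := by
  ext x
  constructor
  · rintro ⟨_, ⟨E, rfl⟩, u, hu, rfl⟩
    rw [SetLike.mem_coe, val_mul, Scheme.basicOpen_mul] at hu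
    exact ⟨(mem_nonvanishing_iff f E u).2 hu.1, (mem_nonvanishing_iff g E u).2 hu.2⟩
  · rintro ⟨⟨_, ⟨E, rfl⟩, u, hu, rfl⟩, hg⟩
    rw [mem_nonvanishing_iff] at hg
    refine (mem_nonvanishing_iff (f * g) E u).2 ?_
    rw [val_mul, Scheme.basicOpen_mul]
    exact ⟨hu, hg⟩

lemma nonvanishing_eq_empty_iff (hX : AlgSp.IsReducedSp X) (f : ↥(AlgSp.gsectEt (AlgSp.OEt X))) :
    nonvanishing f = ∅ ↔ f = 0 := by
  constructor
  · intro h
    apply ext
    intro E
    haveI : IsReduced E.obj.left.left := Groth.Agent.S10242.isReduced_chart hX E.obj.hom E.property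
    rw [val_zero, ← AlgebraicGeometry.basicOpen_eq_bot_iff]
    ext u
    simp only [TopologicalSpace.Opens.coe_bot, Set.mem_empty_iff_false, iff_false]
    intro hu
    have : AlgSp.Points.ofPt E.obj.hom u ∈ nonvanishing f := (mem_nonvanishing_iff f E u).2 hu
    rw [h] at this
    exact this
  · rintro rfl
    ext x
    simp only [Set.mem_empty_iff_false, iff_false]
    rintro ⟨_, ⟨E, rfl⟩, u, hu, rfl⟩
    rw [SetLike.mem_coe, val_zero, Scheme.basicOpen_zero] at hu
    exact hu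

end Groth.Agent.Lib.Seat47.GsectEt
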