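import Groth.Agent.Lib.Seat47GsectEt

/-!
# Global sections of the structure sheaf of an algebraic space, II (seat 47)

* `valHom E` : evaluation on a chart as a ring homomorphism.
* `mk` : the global function defined by a compatible family of functions on all charts.
-/

set_option autoImplicit false
set_option backward.isDefEq.respectTransparency false
universe u
open CategoryTheory CategoryTheory.Limits AlgebraicGeometry Opposite

namespace Groth.Agent.Lib.Seat47.GsectEt

variable {S : Scheme.{u}} {X : AlgSp.Sp S}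

/-- evaluation on a chart as a ring homomorphism. -/
noncomputable def valHom (E : AlgSp.EtOver X) :
    ↥(AlgSp.gsectEt (AlgSp.OEt X)) →+* Γ(E.obj.left.left, ⊤) :=
  (ULift.ringEquiv : ULift.{u + 1} Γ(E.obj.left.left, ⊤) ≃+* Γ(E.obj.left.left, ⊤)).toRingHom.comp
    (limit.π (AlgSp.OEt X).obj (op E)).hom

lemma valHom_apply (E : AlgSp.EtOver X) (f : ↥(AlgSp.gsectEt (AlgSp.OEt X))) :
    valHom E f = val f E := rfl

/-- the global function defined by a compatible family. -/
theorem exists_val_eq (s : ∀ E : AlgSp.EtOver X, Γ(E.obj.left.left, ⊤))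
    (hs : ∀ {E E' : AlgSp.EtOver X} (g : E ⟶ E'), g.hom.left.left.appTop.hom (s E') = s E) :
    ∃ y : ↥(AlgSp.gsectEt (AlgSp.OEt X)), ∀ E, val y E = s E := by
  let F := (AlgSp.OEt X).obj
  have hlim := isLimitOfPreserves (forget CommRingCat) (limit.isLimit F)
  let sec : (F ⋙ forget CommRingCat).sections :=
    ⟨fun j => (ULift.up (s j.unop) : ULift.{u + 1} Γ(j.unop.obj.left.left, ⊤)), by
      intro j j' g
      obtain ⟨j⟩ := j
      obtain ⟨j'⟩ := j'
      obtain ⟨g, rfl⟩ : ∃ g' : j' ⟶ j, g'.op = g := ⟨g.unop, rfl⟩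
      change (AlgSp.OEt X).obj.map g.op (ULift.up (s j)) = ULift.up (s j')
      rw [AlgSp.OEt_map]
      exact congrArg ULift.up (hs g)⟩
  refine ⟨(Types.isLimitEquivSections hlim).symm sec, fun E => ?_⟩
  have := Types.isLimitEquivSections_symm_apply hlim sec (op E)
  exact congrArg ULift.down this

end Groth.Agent.Lib.Seat47.GsectEt
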