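import Groth.Agent.Lib.Seat47FOBC

/-!
# Seat47: scheme-level lemmas on kernels for first order infinitesimal neighbourhoods

* `sq_ker_le`: if `ι : Y₀ ⟶ Y` is a closed immersion with square zero kernel and `ι ≫ ρ` kills
  `s.ker`, then `ρ` kills `s.ker * s.ker`.
* `fo_of_ker_sq_le`: for closed subschemes `W ⊆ Wn ⊆ V` with `I_W ^ 2 ≤ I_Wn`, the inclusion
  `W ⟶ Wn` is a first order thickening.
* `ker_eq_bot_of_flat_surjective`: a flat surjective morphism has trivial kernel.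
-/

set_option autoImplicit false
universe u
open CategoryTheory CategoryTheory.Limits AlgebraicGeometry TopologicalSpace

namespace Groth.Agent.Lib.Seat47.InfNbhd

open Groth.Agent.Lib.Seat47.FOBC

/-- a section vanishing on all affine opens is zero -/
lemma eq_zero_of_forall_affine {Y : Scheme.{u}} (U : Y.Opens) (z : Γ(Y, U))
    (h : ∀ (V' : Y.affineOpens) (e : V'.1 ≤ U), (Y.presheaf.map (homOfLE e).op).hom z = 0) :
    z = 0 := by
  apply TopCat.Presheaf.section_ext Y.sheaf U z 0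
  intro y hy
  change Y.presheaf.germ U y hy z = Y.presheaf.germ U y hy 0
  rw [map_zero]
  obtain ⟨_, ⟨V', hV', rfl⟩, hyV', hV'U : V' ≤ U⟩ :=
    Y.isBasis_affineOpens.exists_subset_of_mem_open (show y ∈ (U : Set Y) from hy) U.isOpen
  rw [← TopCat.Presheaf.germ_res_apply Y.presheaf (homOfLE hV'U) y hyV']
  erw [h ⟨V', hV'⟩ hV'U, map_zero]

/-- a flat surjective morphism has trivial kernel -/
theorem ker_eq_bot_of_flat_surjective {X Y : Scheme.{u}} (g : X ⟶ Y) [Flat g] [Surjective g] :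
    g.ker = ⊥ := by
  rw [eq_bot_iff, Scheme.IdealSheafData.le_def]
  intro U x hx
  have hx' : (g.app U.1).hom x = 0 := g.ideal_ker_le U hx
  rw [Scheme.IdealSheafData.ideal_bot, Pi.bot_apply, Ideal.mem_bot]
  apply eq_zero_of_flat_surjective g U.1 x
  intro V' e
  rw [Scheme.Hom.appLE, CommRingCat.hom_comp, RingHom.comp_apply, hx', map_zero]

/-- if `ι : Y₀ ⟶ Y` is a closed immersion with square zero kernel and the kernel of `s` dies on
`Y₀`, then the square of the kernel of `s` dies on `Y`. -/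
theorem sq_ker_le {Y₀ Y V W : Scheme.{u}} (ι : Y₀ ⟶ Y) (ρ : Y ⟶ V) (s : W ⟶ V)
    [IsClosedImmersion ι] (hι : ι.ker * ι.ker = ⊥) (h : s.ker ≤ (ι ≫ ρ).ker) :
    s.ker * s.ker ≤ ρ.ker := by
  refine Scheme.IdealSheafData.le_ofIdeals_iff.2 ?_
  intro Ω
  rw [Scheme.IdealSheafData.ideal_mul, Pi.mul_apply, Ideal.mul_le]
  intro x hx y hy
  rw [RingHom.mem_ker]
  have hx' : ((ι ≫ ρ).app Ω.1).hom x = 0 := (ι ≫ ρ).ideal_ker_le Ω (h Ω hx)
  have hy' : ((ι ≫ ρ).app Ω.1).hom y = 0 := (ι ≫ ρ).ideal_ker_le Ω (h Ω hy)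
  apply eq_zero_of_forall_affine
  intro Ω' e
  have hres : ∀ z : Γ(V, Ω.1), (Y.presheaf.map (homOfLE e).op).hom ((ρ.app Ω.1).hom z) =
      (ρ.appLE Ω.1 Ω'.1 e).hom z := by
    intro z
    rw [Scheme.Hom.appLE]; rfl
  rw [hres, map_mul]
  have key : ∀ z : Γ(V, Ω.1), ((ι ≫ ρ).app Ω.1).hom z = 0 →
      (ρ.appLE Ω.1 Ω'.1 e).hom z ∈ ι.ker.ideal Ω' := by
    intro z hz
    rw [Scheme.Hom.ker_apply, RingHom.mem_ker]
    have e' : ι ⁻¹ᵁ Ω'.1 ≤ (ι ≫ ρ) ⁻¹ᵁ Ω.1 := fun w hw => e hw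
    have h1 : ((ι ≫ ρ).appLE Ω.1 (ι ⁻¹ᵁ Ω'.1) e').hom z = 0 := by
      rw [Scheme.Hom.appLE, CommRingCat.hom_comp, RingHom.comp_apply, hz, map_zero]
    have h2 := Scheme.Hom.appLE_comp_appLE ι ρ Ω.1 Ω'.1 (ι ⁻¹ᵁ Ω'.1) e le_rfl
    rw [← h2, CommRingCat.hom_comp, RingHom.comp_apply, Scheme.Hom.appLE_eq_app] at h1
    exact h1
  have hmem : (ρ.appLE Ω.1 Ω'.1 e).hom x * (ρ.appLE Ω.1 Ω'.1 e).hom y ∈
      ι.ker.ideal Ω' * ι.ker.ideal Ω' := Ideal.mul_mem_mul (key x hx') (key y hy')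
  have h0 : ι.ker.ideal Ω' * ι.ker.ideal Ω' = ⊥ := by
    have := congr(($hι).ideal Ω')
    rw [Scheme.IdealSheafData.ideal_mul, Pi.mul_apply, Scheme.IdealSheafData.ideal_bot,
      Pi.bot_apply] at this
    exact this
  rw [h0, Ideal.mem_bot] at hmem
  exact hmem

/-- for closed subschemes `W ⊆ Wn ⊆ V` with `I_W ^ 2 ≤ I_Wn`, the inclusion `W ⟶ Wn` is a first
order thickening. -/
theorem fo_of_ker_sq_le {W Wn V : Scheme.{u}} (s : W ⟶ V) (sn : Wn ⟶ V) (m : W ⟶ Wn)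
    [IsClosedImmersion s] [IsClosedImmersion sn] (hm : m ≫ sn = s)
    (h : s.ker * s.ker ≤ sn.ker) : MoreMor.IsFirstOrderThickening m := by
  haveI : IsClosedImmersion m := by
    have : IsClosedImmersion (m ≫ sn) := by rw [hm]; infer_instance
    exact IsClosedImmersion.of_comp m sn
  have hsq : m.ker * m.ker = ⊥ := by
    rw [eq_bot_iff]
    -- the affine opens `sn ⁻¹ᵁ Ω` of `Wn`
    let Uf : V.affineOpens → Wn.affineOpens := fun Ω => ⟨sn ⁻¹ᵁ Ω.1, Ω.2.preimage sn⟩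
    refine Scheme.IdealSheafData.le_of_iSup_eq_top Uf ?_ ?_
    · rw [eq_top_iff]
      intro w _
      obtain ⟨_, ⟨Ω, hΩ, rfl⟩, hw, -⟩ :=
        V.isBasis_affineOpens.exists_subset_of_mem_open (Set.mem_univ (sn w)) isOpen_univ
      exact TopologicalSpace.Opens.mem_iSup.mpr ⟨⟨Ω, hΩ⟩, hw⟩
    · intro Ω
      rw [Scheme.IdealSheafData.ideal_mul, Pi.mul_apply, Scheme.IdealSheafData.ideal_bot,
        Pi.bot_apply, Ideal.mul_le]
      intro x hx y hy
      rw [Ideal.mem_bot]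
      rw [Scheme.Hom.ker_apply, RingHom.mem_ker] at hx hy
      obtain ⟨x', rfl⟩ := sn.app_surjective Ω.1 Ω.2 x
      obtain ⟨y', rfl⟩ := sn.app_surjective Ω.1 Ω.2 y
      have key : ∀ z : Γ(V, Ω.1), (m.app (sn ⁻¹ᵁ Ω.1)).hom ((sn.app Ω.1).hom z) = 0 →
          z ∈ s.ker.ideal Ω := by
        intro z hz
        rw [Scheme.Hom.ker_apply, RingHom.mem_ker]
        have : ∀ (φ : W ⟶ V) (_ : φ = m ≫ sn), (φ.app Ω.1).hom z = 0 := by
          rintro _ rfl
          rw [Scheme.Hom.comp_app]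
          exact hz
        exact this s hm.symm
      have hxy : x' * y' ∈ sn.ker.ideal Ω := by
        apply h Ω
        rw [Scheme.IdealSheafData.ideal_mul, Pi.mul_apply]
        exact Ideal.mul_mem_mul (key x' hx) (key y' hy)
      rw [Scheme.Hom.ker_apply, RingHom.mem_ker, map_mul] at hxy
      exact hxy
  refine ⟨⟨inferInstance, ?_⟩, hsq⟩
  -- surjectivity from the support of the kernel
  have hsupp : m.ker.support = ⊤ := by
    have := congrArg Scheme.IdealSheafData.support hsq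
    rw [Scheme.IdealSheafData.support_mul, sup_idem, Scheme.IdealSheafData.support_bot] at this
    exact this
  have hrange : (m.ker.support : Set Wn) = closure (Set.range m) := m.support_ker
  rw [hsupp, m.isClosedEmbedding.isClosed_range.closure_eq] at hrange
  constructor
  intro w
  have : w ∈ Set.range m := by rw [← hrange]; trivial
  exact this

end Groth.Agent.Lib.Seat47.InfNbhd
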