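import Groth.Agent.Lib.Seat47Rel

/-!
# Seat47: universal first order thickenings, affine test objects
-/

set_option autoImplicit false
universe u
open CategoryTheory CategoryTheory.Limits AlgebraicGeometry TopologicalSpace
open AlgSp

namespace Groth.Agent.Lib.Seat47.UFO

open Groth.Agent.Lib.Seat47.FEt Groth.Agent.Lib.Seat47.Thk Groth.Agent.Lib.Seat47.FOBC

variable {S : Scheme.{u}}

/-- the affine test property (3) of universal first order thickenings -/
def AffUniv {Z Z' X : AlgSp.Sp S} (h : Z ⟶ X) (i : Z ⟶ Z') (h' : Z' ⟶ X) : Prop :=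
  ∀ (T T' : Over S) (j : T ⟶ T'), IsAffine T'.left → AlgSp.IsFOThickMor ((AlgSp.yon S).map j) →
    ∀ (a : (AlgSp.yon S).obj T ⟶ Z) (b : (AlgSp.yon S).obj T' ⟶ X),
      (AlgSp.yon S).map j ≫ b = a ≫ h →
      ∃! a' : (AlgSp.yon S).obj T' ⟶ Z', (AlgSp.yon S).map j ≫ a' = a ≫ i ∧ a' ≫ h' = b

/-- the second structure morphism of a first order thickening `(i, h')` over `X` with the
universal property for affine test thickenings is formally unramified. -/
theorem unramified_of_affUniv {Z Z' X : AlgSp.Sp S} (hZ' : AlgSp.IsAlgSpace Z') (h : Z ⟶ X)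
    (i : Z ⟶ Z') (h' : Z' ⟶ X) (hi : AlgSp.IsFOThickMor i) (hcomp : i ≫ h' = h)
    (HU : AffUniv h i h') :
    AlgSp.IsFormallyUnramifiedMor h' := by
  intro sq l l' hl1 hl2 hl'1 hl'2
  -- the pullback of `i` along `l`
  obtain ⟨T₁, t₁, a₁, hpb₁⟩ := hi.1.1 l
  have hfo₁ : AlgSp.IsFOThickMor ((AlgSp.yon S).map t₁) := isFOThickMor_of_isPullback hpb₁ hi hZ'
  have haff : IsAffine sq.ptT'.left := by
    show IsAffine (Spec (.of sq.A)); infer_instance
  have hfo₁' : MoreMor.IsFirstOrderThickening t₁.left :=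
    AlgSp.isFirstOrderThickening_of_isFOThickMor_yon_map haff hfo₁
  let t₁l : T₁.left ⟶ Spec (.of sq.A) := t₁.left
  haveI : IsClosedImmersion t₁l := hfo₁'.1.1
  obtain ⟨K, e, he⟩ := IsClosedImmersion.Spec_iff.1 (inferInstance : IsClosedImmersion t₁l)
  have hK : K ^ 2 = ⊥ := by
    apply sq_zero_of_spec
    have h2 : t₁l.ker * t₁l.ker = ⊥ := hfo₁'.2
    rw [he, Scheme.Hom.ker_comp_of_isIso] at h2
    exact h2
  have hJ : sq.I ^ 2 = ⊥ := sq.sq_zero
  -- `Spec (A ⧸ K)` maps to `Z`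
  have hε : e.inv ≫ T₁.hom = (pT K sq.str).hom := by
    show e.inv ≫ T₁.hom = Spec.map (CommRingCat.ofHom (Ideal.Quotient.mk K)) ≫ sq.str
    have := Over.w t₁
    have h3 : t₁l ≫ sq.str = T₁.hom := this
    rw [← h3, he, Category.assoc, Iso.inv_hom_id_assoc]
  let ε : pT K sq.str ⟶ T₁ := Over.homMk e.inv hε
  have hεt : ε ≫ t₁ = pj K sq.str := by
    apply Over.OverMorphism.ext
    show e.inv ≫ t₁l = Spec.map (CommRingCat.ofHom (Ideal.Quotient.mk K))
    rw [he, Iso.inv_hom_id_assoc]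
  let a₁' : (AlgSp.yon S).obj (pT K sq.str) ⟶ Z := (AlgSp.yon S).map ε ≫ a₁
  have ha₁' : a₁' ≫ i = (AlgSp.yon S).map (pj K sq.str) ≫ l := by
    show ((AlgSp.yon S).map ε ≫ a₁) ≫ i = _
    rw [Category.assoc, hpb₁.w, ← Category.assoc, ← Functor.map_comp, hεt]
  -- the auxiliary thickenings
  have HJK_J : sq.I * K ≤ sq.I := Ideal.mul_le_left
  have HJK_K : sq.I * K ≤ K := Ideal.mul_le_right
  have HJ_S : sq.I ≤ sq.I ⊔ K := le_sup_left
  have HK_S : K ≤ sq.I ⊔ K := le_sup_right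
  have HJK_S : sq.I * K ≤ sq.I ⊔ K := HJK_J.trans HJ_S
  have hj_eq : pj sq.I sq.str = sq.j := rfl
  -- Step 1: `l` and `l'` agree on `T'' = Spec (A ⧸ J K)`
  have step1 : (AlgSp.yon S).map (pj (sq.I * K) sq.str) ≫ l =
      (AlgSp.yon S).map (pj (sq.I * K) sq.str) ≫ l' := by
    have hfo₀ : AlgSp.IsFOThickMor ((AlgSp.yon S).map (pf HJK_S sq.str)) :=
      isFOThickMor_yon_map _ (pf_fo HJK_S (sup_sq_le sq.I K hJ hK) sq.str)
    let a₀ : (AlgSp.yon S).obj (pT (sq.I ⊔ K) sq.str) ⟶ Z := (AlgSp.yon S).map (pf HK_S sq.str) ≫ a₁'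
    let b₀ : (AlgSp.yon S).obj (pT (sq.I * K) sq.str) ⟶ X :=
      (AlgSp.yon S).map (pj (sq.I * K) sq.str) ≫ sq.bot
    have e1 : (AlgSp.yon S).map (pf HJK_S sq.str) ≫ (AlgSp.yon S).map (pj (sq.I * K) sq.str) ≫ l =
        a₀ ≫ i := by
      show _ = ((AlgSp.yon S).map (pf HK_S sq.str) ≫ a₁') ≫ i
      rw [Category.assoc, ha₁', ← Category.assoc, ← Functor.map_comp, pf_pj, ← Category.assoc,
        ← Functor.map_comp, pf_pj]
    have e2 : (AlgSp.yon S).map (pf HJK_S sq.str) ≫ (AlgSp.yon S).map (pj (sq.I * K) sq.str) ≫ l' =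
        a₀ ≫ i := by
      rw [← e1, ← Category.assoc, ← Functor.map_comp, pf_pj, ← Category.assoc,
        ← Functor.map_comp, pf_pj, ← pf_pj HJ_S, Functor.map_comp, Category.assoc, Category.assoc,
        hj_eq, hl1, hl'1]
    have hc : (AlgSp.yon S).map (pf HJK_S sq.str) ≫ b₀ = a₀ ≫ h := by
      show (AlgSp.yon S).map (pf HJK_S sq.str) ≫ (AlgSp.yon S).map (pj (sq.I * K) sq.str) ≫ sq.bot = _
      rw [← hl2, ← Category.assoc, ← Category.assoc, Category.assoc ((AlgSp.yon S).map _), e1,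
        Category.assoc, hcomp]
    obtain ⟨c, -, hcu⟩ := HU _ _ (pf HJK_S sq.str)
      (show IsAffine (Spec (.of (sq.A ⧸ sq.I * K))) from inferInstance) hfo₀ a₀ b₀ hc
    rw [hcu _ ⟨e1, by rw [Category.assoc, hl2]⟩, hcu _ ⟨e2, by rw [Category.assoc, hl'2]⟩]
  -- Step 2
  have hfoK : AlgSp.IsFOThickMor ((AlgSp.yon S).map (pj K sq.str)) :=
    isFOThickMor_yon_map _ (fo_spec sq.A K hK)
  have e1 : (AlgSp.yon S).map (pj K sq.str) ≫ l = a₁' ≫ i := ha₁'.symm
  have e2 : (AlgSp.yon S).map (pj K sq.str) ≫ l' = a₁' ≫ i := by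
    rw [ha₁', ← pf_pj HJK_K, Functor.map_comp, Category.assoc, Category.assoc, step1]
  have hc : (AlgSp.yon S).map (pj K sq.str) ≫ sq.bot = a₁' ≫ h := by
    rw [← hl2, ← Category.assoc, e1, Category.assoc, hcomp]
  obtain ⟨c, -, hcu⟩ := HU _ _ (pj K sq.str) haff hfoK a₁' sq.bot hc
  rw [hcu _ ⟨e1, hl2⟩, hcu _ ⟨e2, hl'2⟩]


/-- (3) ⇒ (1): a first order thickening over `X` with the universal property for affine test
thickenings is a universal first order thickening. -/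
theorem isUnivFOThick_of_affUniv {Z Z' X : AlgSp.Sp S} (hZ' : AlgSp.IsAlgSpace Z') (h : Z ⟶ X)
    (i : Z ⟶ Z') (h' : Z' ⟶ X) (hi : AlgSp.IsFOThickMor i) (hcomp : i ≫ h' = h)
    (HU : AffUniv h i h') : AlgSp.IsUnivFOThick h i h' := by
  have hfu := unramified_of_affUniv hZ' h i h' hi hcomp HU
  refine ⟨hi, hcomp, ?_⟩
  intro T T' hT hT' j a b hj w
  have w' : (a ≫ i) ≫ h' = j ≫ b := by rw [Category.assoc, hcomp, w]
  exact Groth.Agent.Lib.Seat47.Rel.existsUnique_of_foThick_rel i h' hfu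
    (fun {A} _ I hI str a₀ bot hcomm => by
      obtain ⟨l, hl, -⟩ := HU _ _ (pj I str)
        (show IsAffine (Spec (.of A)) from inferInstance)
        (isFOThickMor_yon_map _ (fo_spec A I hI)) a₀ bot (by
          rw [← hcomm, Category.assoc, hcomp])
      exact ⟨l, hl⟩) hT' j hj a b w'

end Groth.Agent.Lib.Seat47.UFO
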