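import Groth.Agent.Lib.Seat47InfNbhd
import Groth.Agent.Lib.Seat47UFO2
import Groth.Agent.Lib.Helper12LargestOpen

/-!
# Seat47: first order infinitesimal neighbourhoods of closed subspaces

* `ker_eq_sq_of_chart`: the chart condition of `AlgSp.IsInfNbhd 1` holds on all (not necessarily
  affine) étale scheme charts.
* `isFOThickMor_of_atlas`: a representable closed immersion which is a first order thickening on
  one atlas is a first order thickening.
* `isFOThickMor_of_isInfNbhd`: `Z ⟶ Z₁` is a first order thickening.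
* `isUnivFOThick_of_isInfNbhd`: `(Z ⟶ Z₁, Z₁ ⟶ X)` is a universal first order thickening of `Z`
  over `X`.
-/

set_option autoImplicit false
universe u
open CategoryTheory CategoryTheory.Limits AlgebraicGeometry TopologicalSpace
open AlgSp

namespace Groth.Agent.Lib.Seat47.InfNbhd

open Groth.Agent.Lib.Seat47.FEt Groth.Agent.Lib.Seat47.Thk Groth.Agent.Lib.Seat47.FOBC
open Groth.Agent.Lib.Seat47.UFO

variable {S : Scheme.{u}}

/-- the chart condition of `IsInfNbhd 1` on arbitrary étale scheme charts -/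
theorem ker_eq_sq_of_chart {Z Zn X : AlgSp.Sp S} {i : Z ⟶ X} {j : Z ⟶ Zn} {k : Zn ⟶ X}
    (hN : AlgSp.IsInfNbhd 1 i j k) {V W Wn : Over S} (b : (AlgSp.yon S).obj V ⟶ X)
    (hb : AlgSp.RepWith @Etale b)
    (fst : (AlgSp.yon S).obj W ⟶ Z) (snd : W ⟶ V) (fstn : (AlgSp.yon S).obj Wn ⟶ Zn)
    (sndn : Wn ⟶ V)
    (hpb : IsPullback fst ((AlgSp.yon S).map snd) i b)
    (hpbn : IsPullback fstn ((AlgSp.yon S).map sndn) k b) :
    sndn.left.ker = snd.left.ker * snd.left.ker := by
  haveI : IsClosedImmersion snd.left := hN.2.1.2 _ fst snd hpb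
  haveI : IsClosedImmersion sndn.left := hN.2.2.1.2 _ fstn sndn hpbn
  refine Scheme.IdealSheafData.ext_of_iSup_eq_top (fun Ω : V.left.affineOpens => Ω) ?_ ?_
  · rw [eq_top_iff]
    intro v _
    obtain ⟨_, ⟨Ω, hΩ, rfl⟩, hv, -⟩ :=
      V.left.isBasis_affineOpens.exists_subset_of_mem_open (Set.mem_univ v) isOpen_univ
    exact TopologicalSpace.Opens.mem_iSup.mpr ⟨⟨Ω, hΩ⟩, hv⟩
  · intro Ω
    have hVaff : IsAffine (resW V Ω.1).left := Ω.2
    haveI : IsAffine (Ω.1 : Scheme.{u}) := Ω.2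
    have hcV : AlgSp.RepWith @Etale ((AlgSp.yon S).map (resWι V Ω.1) ≫ b) :=
      MorphismProperty.comp_mem _ _ _
        ((AlgSp.repWith_yon_map_iff _ _).2 (show Etale Ω.1.ι from inferInstance)) hb
    have hsq : ∀ {Y : Over S} (t : Y ⟶ V),
        IsPullback (resZι t Ω.1) (resT t Ω.1) t (resWι V Ω.1) := by
      intro Y t
      refine IsPullback.of_map (Over.forget S) (resT_comm t Ω.1).symm ?_
      exact (isPullback_morphismRestrict t.left Ω.1).flip
    have h1 := hN.2.2.2 ((AlgSp.yon S).map (resWι V Ω.1) ≫ b)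
      ((AlgSp.yon S).map (resZι snd Ω.1) ≫ fst) (resT snd Ω.1)
      ((AlgSp.yon S).map (resZι sndn Ω.1) ≫ fstn) (resT sndn Ω.1) hVaff hcV
      ((Functor.map_isPullback (AlgSp.yon S) (hsq snd)).paste_horiz hpb)
      ((Functor.map_isPullback (AlgSp.yon S) (hsq sndn)).paste_horiz hpbn)
    have h1' : (sndn.left ∣_ Ω.1).ker = (snd.left ∣_ Ω.1).ker ^ (1 + 1) := h1
    have h2 := congr(($h1').ideal ⟨⊤, isAffineOpen_top _⟩)
    rw [Scheme.IdealSheafData.ideal_pow, Pi.pow_apply,
      Scheme.ker_morphismRestrict_ideal, Scheme.ker_morphismRestrict_ideal] at h2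
    have key : ∀ Ω' : V.left.affineOpens, Ω' = Ω →
        sndn.left.ker.ideal Ω' = snd.left.ker.ideal Ω' ^ (1 + 1) →
        sndn.left.ker.ideal Ω = (snd.left.ker * snd.left.ker).ideal Ω := by
      rintro _ rfl h
      rw [h, Scheme.IdealSheafData.ideal_mul, Pi.mul_apply, pow_two]
    exact key _ (Subtype.ext (by simp)) h2

/-- a representable closed immersion which is a first order thickening over one atlas of the
target is a first order thickening. -/
theorem isFOThickMor_of_atlas {G G' : AlgSp.Sp S} (i : G ⟶ G')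
    (hci : AlgSp.RepWith @IsClosedImmersion i)
    {U ZU : Over S} (c : (AlgSp.yon S).obj U ⟶ G') (hce : AlgSp.RepWith @Etale c)
    (hcs : AlgSp.RepWith @Surjective c)
    (tU : ZU ⟶ U) (pU : (AlgSp.yon S).obj ZU ⟶ G)
    (hpbU : IsPullback pU ((AlgSp.yon S).map tU) i c)
    (hfoU : MoreMor.IsFirstOrderThickening tU.left) : AlgSp.IsFOThickMor i := by
  -- the common construction
  have main : ∀ ⦃V Wv : Over S⦄ (bV : (AlgSp.yon S).obj V ⟶ G') (fst : (AlgSp.yon S).obj Wv ⟶ G)
      (snd : Wv ⟶ V), IsPullback fst ((AlgSp.yon S).map snd) i bV →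
      ∃ (V' Z' : Over S) (g : V' ⟶ V) (t' : Z' ⟶ V') (gZ : Z' ⟶ Wv),
        Etale g.left ∧ Surjective g.left ∧ MoreMor.IsFirstOrderThickening t'.left ∧
        t'.left ≫ g.left = gZ.left ≫ snd.left := by
    intro V Wv bV fst snd hpb
    obtain ⟨V', g, q, hq⟩ := hce.1 bV
    have hge : Etale g.left := hce.2 _ q g hq
    have hgs : Surjective g.left := hcs.2 _ q g hq
    obtain ⟨q', rfl⟩ := (AlgSp.yon S).map_surjective q
    have hfo' := pbT_fo tU q' hfoU
    have hcond : ((AlgSp.yon S).map (pbZι tU q') ≫ pU) ≫ i =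
        (AlgSp.yon S).map (pbT tU q' ≫ g) ≫ bV := by
      rw [Category.assoc, hpbU.w, ← Category.assoc, ← Functor.map_comp, ← pbT_comm,
        Functor.map_comp, Category.assoc, hq.w, Functor.map_comp, Category.assoc]
    obtain ⟨gZ, hgZ⟩ := (AlgSp.yon S).map_surjective (hpb.lift _ _ hcond)
    have hcomm : pbT tU q' ≫ g = gZ ≫ snd := by
      apply (AlgSp.yon S).map_injective
      rw [(AlgSp.yon S).map_comp gZ snd, hgZ, hpb.lift_snd]
    exact ⟨V', _, g, pbT tU q', gZ, hge, hgs, hfo', congrArg CommaMorphism.left hcomm⟩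
  have hthk : AlgSp.RepWith AlgSp.thick i := by
    refine ⟨hci.1, fun {V Wv} bV fst snd hpb => ⟨hci.2 bV fst snd hpb, ?_⟩⟩
    obtain ⟨V', Z', g, t', gZ, hge, hgs, hfo', hcomm⟩ := main bV fst snd hpb
    constructor
    intro v
    obtain ⟨v', rfl⟩ := hgs.surj v
    obtain ⟨z, rfl⟩ := hfo'.1.2.surj v'
    refine ⟨gZ.left z, ?_⟩
    show (gZ.left ≫ snd.left) z = (t'.left ≫ g.left) z
    rw [hcomm]
  refine ⟨hthk, ?_⟩
  intro V Wv bV fst snd hV hbV hpb
  obtain ⟨V', Z', g, t', gZ, hge, hgs, hfo', hcomm⟩ := main bV fst snd hpb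
  haveI : Flat g.left := inferInstance
  haveI := hgs
  have hsnd_thick : AlgSp.thick snd.left := hthk.2 _ fst snd hpb
  haveI : IsClosedImmersion snd.left := hsnd_thick.1
  haveI : IsClosedImmersion t'.left := hfo'.1.1
  exact sqZero_of_flat_surjective snd.left t'.left g.left gZ.left hcomm hfo'.2

section Main

variable {Z Z₁ X : AlgSp.Sp S} {i : Z ⟶ X} {j : Z ⟶ Z₁} {k : Z₁ ⟶ X}

lemma mono_of_closedImmersion {A B : AlgSp.Sp S} (k : A ⟶ B)
    (hk : AlgSp.RepWith @IsClosedImmersion k) : Mono k :=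
  Groth.Agent.S9928.mono_of_repWith @IsClosedImmersion
    (fun X Y g hg => by haveI : IsClosedImmersion g := hg; infer_instance) k hk

/-- `Z ⟶ Z₁` is a first order thickening -/
theorem isFOThickMor_of_isInfNbhd (hX : AlgSp.IsAlgSpace X) (hN : AlgSp.IsInfNbhd 1 i j k) :
    AlgSp.IsFOThickMor j := by
  have hjk := hN.1
  have hc := hN.2.1
  have hk := hN.2.2.1
  haveI := mono_of_closedImmersion k hk
  have hcj : AlgSp.RepWith @IsClosedImmersion j :=
    MorphismProperty.of_isPullback (P := AlgSp.RepWith @IsClosedImmersion)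
      (Groth.Agent.Lib.Helper12.LargestOpen.isPullback_id_of_mono j k) (hjk ▸ hc)
  obtain ⟨V, bV, hbe, hbs⟩ := hX.atlas
  obtain ⟨W, snd, fst, hpb⟩ := hc.1 bV
  obtain ⟨Wn, sndn, fstn, hpbn⟩ := hk.1 bV
  haveI : IsClosedImmersion snd.left := hc.2 _ fst snd hpb
  haveI : IsClosedImmersion sndn.left := hk.2 _ fstn sndn hpbn
  have hker := ker_eq_sq_of_chart hN bV hbe fst snd fstn sndn hpb hpbn
  have hcond : (fst ≫ j) ≫ k = (AlgSp.yon S).map snd ≫ bV := by
    rw [Category.assoc, hjk, hpb.w]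
  obtain ⟨m, hm⟩ := (AlgSp.yon S).map_surjective (hpbn.lift _ _ hcond)
  have hms : m ≫ sndn = snd := by
    apply (AlgSp.yon S).map_injective
    rw [Functor.map_comp, hm, hpbn.lift_snd]
  have hmf : (AlgSp.yon S).map m ≫ fstn = fst ≫ j := by rw [hm, hpbn.lift_fst]
  have hleft : IsPullback fst ((AlgSp.yon S).map m) j fstn := by
    refine IsPullback.of_bot ?_ hmf.symm hpbn
    rw [← Functor.map_comp, hms, hjk]
    exact hpb
  have hfo : MoreMor.IsFirstOrderThickening m.left :=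
    fo_of_ker_sq_le snd.left sndn.left m.left (congrArg CommaMorphism.left hms) hker.ge
  have hfe : AlgSp.RepWith @Etale fstn :=
    MorphismProperty.of_isPullback (P := AlgSp.RepWith @Etale) hpbn.flip hbe
  have hfs : AlgSp.RepWith @Surjective fstn :=
    MorphismProperty.of_isPullback (P := AlgSp.RepWith @Surjective) hpbn.flip hbs
  exact isFOThickMor_of_atlas j hcj fstn hfe hfs m fst hleft hfo

/-- the affine universal property of the first order infinitesimal neighbourhood -/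
theorem affUniv_of_isInfNbhd (hX : AlgSp.IsAlgSpace X) (hN : AlgSp.IsInfNbhd 1 i j k) :
    AffUniv i j k := by
  have hjk := hN.1
  have hc := hN.2.1
  have hk := hN.2.2.1
  haveI := mono_of_closedImmersion k hk
  intro T T' t hT' hfo a b w
  have hfot : MoreMor.IsFirstOrderThickening t.left :=
    AlgSp.isFirstOrderThickening_of_isFOThickMor_yon_map hT' hfo
  -- it suffices to find `a'` with `a' ≫ k = b`
  suffices h : ∃ a' : (AlgSp.yon S).obj T' ⟶ Z₁, a' ≫ k = b by
    obtain ⟨a', ha'⟩ := h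
    refine ⟨a', ⟨?_, ha'⟩, fun a'' h'' => ?_⟩
    · rw [← cancel_mono k, Category.assoc, ha', Category.assoc, hjk, w]
    · rw [← cancel_mono k, ha', h''.2]
  obtain ⟨W₁, s₁, f₁, hpb₁⟩ := hk.1 b
  haveI : IsClosedImmersion s₁.left := hk.2 _ f₁ s₁ hpb₁
  suffices hiso : IsIso s₁.left by
    haveI : IsIso s₁ := by
      haveI : IsIso ((Over.forget S).map s₁) := hiso
      exact isIso_of_reflects_iso s₁ (Over.forget S)
    refine ⟨(AlgSp.yon S).map (inv s₁) ≫ f₁, ?_⟩
    rw [Category.assoc, hpb₁.w, ← Category.assoc, ← Functor.map_comp, IsIso.inv_hom_id,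
      CategoryTheory.Functor.map_id, Category.id_comp]
  rw [IsClosedImmersion.isIso_iff_ker_eq_bot, eq_bot_iff]
  -- the atlas
  obtain ⟨V, bV, hbe, hbs⟩ := hX.atlas
  obtain ⟨T'', g, q, hq⟩ := hbe.1 b
  haveI hge : Etale g.left := hbe.2 _ q g hq
  haveI hgs : Surjective g.left := hbs.2 _ q g hq
  obtain ⟨q', rfl⟩ := (AlgSp.yon S).map_surjective q
  obtain ⟨W, snd, fst, hpb⟩ := hc.1 bV
  obtain ⟨Wn, sndn, fstn, hpbn⟩ := hk.1 bV
  haveI : IsClosedImmersion snd.left := hc.2 _ fst snd hpb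
  haveI : IsClosedImmersion sndn.left := hk.2 _ fstn sndn hpbn
  have hker := ker_eq_sq_of_chart hN bV hbe fst snd fstn sndn hpb hpbn
  have hfo'' := pbT_fo t g hfot
  haveI : IsClosedImmersion (pbT t g).left := hfo''.1.1
  have hcond : ((AlgSp.yon S).map (pbZι t g) ≫ a) ≫ i =
      (AlgSp.yon S).map (pbT t g ≫ q') ≫ bV := by
    rw [Category.assoc, ← w, ← Category.assoc, ← Functor.map_comp, ← pbT_comm,
      Functor.map_comp, Category.assoc, ← hq.w, Functor.map_comp, Category.assoc]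
  obtain ⟨μ, hμ⟩ := (AlgSp.yon S).map_surjective (hpb.lift _ _ hcond)
  have hμs : μ ≫ snd = pbT t g ≫ q' := by
    apply (AlgSp.yon S).map_injective
    rw [Functor.map_comp, hμ, hpb.lift_snd]
  have hle : snd.left.ker ≤ ((pbT t g).left ≫ q'.left).ker := by
    have e : (pbT t g).left ≫ q'.left = μ.left ≫ snd.left :=
      (congrArg CommaMorphism.left hμs).symm
    rw [e]
    exact Scheme.Hom.le_ker_comp _ _
  have hK := sq_ker_le (pbT t g).left q'.left snd.left hfo''.2 hle
  have hK' : sndn.left.ker ≤ q'.left.ker := hker ▸ hK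
  let lam : T''.left ⟶ Wn.left := IsClosedImmersion.lift sndn.left q'.left hK'
  have hlam : lam ≫ sndn.left = q'.left := IsClosedImmersion.lift_fac _ _ _
  let lam' : T'' ⟶ Wn := Over.homMk lam (by
    rw [← Over.w sndn, ← Category.assoc, hlam, Over.w q'])
  have hlam' : lam' ≫ sndn = q' := Over.OverMorphism.ext hlam
  have hcond2 : ((AlgSp.yon S).map lam' ≫ fstn) ≫ k = (AlgSp.yon S).map g ≫ b := by
    rw [Category.assoc, hpbn.w, ← Category.assoc, ← Functor.map_comp, hlam', hq.w]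
  obtain ⟨σ, hσ⟩ := (AlgSp.yon S).map_surjective (hpb₁.lift _ _ hcond2)
  have hσs : σ ≫ s₁ = g := by
    apply (AlgSp.yon S).map_injective
    rw [Functor.map_comp, hσ, hpb₁.lift_snd]
  have e : σ.left ≫ s₁.left = g.left := congrArg CommaMorphism.left hσs
  calc s₁.left.ker ≤ (σ.left ≫ s₁.left).ker := Scheme.Hom.le_ker_comp _ _
    _ = g.left.ker := by rw [e]
    _ = ⊥ := ker_eq_bot_of_flat_surjective g.left

/-- the first order infinitesimal neighbourhood is a universal first order thickening -/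
theorem isUnivFOThick_of_isInfNbhd (hX : AlgSp.IsAlgSpace X) (hZ₁ : AlgSp.IsAlgSpace Z₁)
    (hN : AlgSp.IsInfNbhd 1 i j k) : AlgSp.IsUnivFOThick i j k :=
  isUnivFOThick_of_affUniv hZ₁ i j k (isFOThickMor_of_isInfNbhd hX hN) hN.1
    (affUniv_of_isInfNbhd hX hN)

end Main

end Groth.Agent.Lib.Seat47.InfNbhd
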