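import Groth.Agent.Lib.Seat47LciSrc
import Groth.Agent.Lib.Helper12LocPGen
import Groth.Agent.Lib.Helper12BaseLocal

set_option autoImplicit false
universe u
open CategoryTheory CategoryTheory.Limits AlgebraicGeometry
open AlgSp

/-!
# Seat47: flat base change and fpqc descent for `AlgSp.LocP P`, `P` only stable under flat base
change (e.g. local complete intersection morphisms)
-/

namespace Groth.Agent.Lib.Seat47.LciBase

open Opposite MorphismProperty

variable {S : Scheme.{u}}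

/-- `LocP P` is stable under flat base change when `P` is stable under flat base change of
schemes. -/
lemma locP_flat_baseChange (P : MorphismProperty Scheme.{u})
    [P.IsStableUnderComposition]
    (hfbc : ∀ {A B A' B' : Scheme.{u}} {f : A ⟶ B} {g : B' ⟶ B} {f' : A' ⟶ B'} {g' : A' ⟶ A},
      IsPullback g' f' f g → Flat g → P f → P f')
    (hEt : ∀ {A B : Scheme.{u}} (g : A ⟶ B), Etale g → P g)
    (hsrc : ∀ {A B C : Scheme.{u}} (e : A ⟶ B) (k : B ⟶ C) [Etale e] [Surjective e],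
      P (e ≫ k) → P k)
    (hcancel : ∀ {A B C : Scheme.{u}} (u : A ⟶ B) (k : B ⟶ C), Etale k → P (u ≫ k) → P u)
    [P.DescendsAlong (@Surjective ⊓ @Flat ⊓ @LocallyOfFinitePresentation)]
    {X Y X' Y' : AlgSp.Sp S} (hX : AlgSp.IsAlgSpace X) (hY : AlgSp.IsAlgSpace Y)
    (hY' : AlgSp.IsAlgSpace Y') {f : X ⟶ Y} {g : Y' ⟶ Y} {fst : X' ⟶ X} {f' : X' ⟶ Y'}
    (sq : IsPullback fst f' f g) (hg : AlgSp.LocP @Flat g) (hf : AlgSp.LocP P f) :
    AlgSp.LocP P f' := by
  obtain ⟨V, q, hqe, hqs⟩ := hY.atlas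
  obtain ⟨V0, b0, hb0e, hb0s⟩ := hY'.atlas
  obtain ⟨V'', π, κ', sqV⟩ := hqe.1 (b0 ≫ g)
  obtain ⟨κ, rfl⟩ := (AlgSp.yon S).map_surjective κ'
  haveI : Etale π.left := hqe.2 _ _ π sqV
  haveI : Surjective π.left := hqs.2 _ _ π sqV
  have hpe : AlgSp.RepWith @Etale ((AlgSp.yon S).map π ≫ b0) :=
    (AlgSp.RepWith @Etale).comp_mem _ _ ((AlgSp.repWith_yon_map_iff _ _).2 inferInstance) hb0e
  have hps : AlgSp.RepWith @Surjective ((AlgSp.yon S).map π ≫ b0) :=
    (AlgSp.RepWith @Surjective).comp_mem _ _ ((AlgSp.repWith_yon_map_iff _ _).2 inferInstance) hb0s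
  have hκfl : Flat κ.left := hg ((AlgSp.yon S).map π ≫ b0) q κ hpe hqe (by
    rw [Category.assoc]; exact sqV.w.symm)
  refine Groth.Agent.Lib.Helper12.LocPGen.locP_of_target_cover' P hcancel f' V'' ((AlgSp.yon S).map π ≫ b0) hpe hps
    (pullback.fst f' ((AlgSp.yon S).map π ≫ b0)) (pullback.snd f' ((AlgSp.yon S).map π ≫ b0))
    (IsPullback.of_hasPullback _ _) ?_
  -- the chart of `X ×_Y V`
  have hXV : AlgSp.IsAlgSpace (pullback f q) :=
    Groth.Agent.S9874.isAlgSpace_of_isPullback hY.diag hX (AlgSp.IsAlgSpace.yon_obj V)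
      (IsPullback.of_hasPullback f q)
  obtain ⟨U, u, hue, hus⟩ := hXV.atlas
  obtain ⟨h, hh⟩ := (AlgSp.yon S).map_surjective (u ≫ pullback.snd f q)
  have hpr1 : AlgSp.RepWith @Etale (pullback.fst f q) :=
    MorphismProperty.of_isPullback (P := AlgSp.RepWith @Etale)
      (IsPullback.of_hasPullback f q).flip hqe
  have hPh : P h.left := hf (u ≫ pullback.fst f q) q h
    ((AlgSp.RepWith @Etale).comp_mem _ _ hue hpr1) hqe
    (by rw [Category.assoc, pullback.condition, ← Category.assoc, ← hh])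
  -- the map `Q ⟶ X ×_Y V`
  have hw : (pullback.fst f' ((AlgSp.yon S).map π ≫ b0) ≫ fst) ≫ f =
      (pullback.snd f' ((AlgSp.yon S).map π ≫ b0) ≫ (AlgSp.yon S).map κ) ≫ q := by
    rw [Category.assoc, sq.w, ← Category.assoc, pullback.condition, Category.assoc, Category.assoc,
      Category.assoc, sqV.w]
  obtain ⟨ρ, hρ⟩ : ∃ ρ : pullback f' ((AlgSp.yon S).map π ≫ b0) ⟶ pullback f q,
      ρ = pullback.lift (pullback.fst f' ((AlgSp.yon S).map π ≫ b0) ≫ fst)
        (pullback.snd f' ((AlgSp.yon S).map π ≫ b0) ≫ (AlgSp.yon S).map κ) hw := ⟨_, rfl⟩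
  have hρ1 : ρ ≫ pullback.fst f q = pullback.fst f' ((AlgSp.yon S).map π ≫ b0) ≫ fst := by
    rw [hρ, pullback.lift_fst]
  have hρ2 : ρ ≫ pullback.snd f q =
      pullback.snd f' ((AlgSp.yon S).map π ≫ b0) ≫ (AlgSp.yon S).map κ := by
    rw [hρ, pullback.lift_snd]
  have big : IsPullback (pullback.fst f' ((AlgSp.yon S).map π ≫ b0) ≫ fst)
      (pullback.snd f' ((AlgSp.yon S).map π ≫ b0)) f (((AlgSp.yon S).map π ≫ b0) ≫ g) :=
    (IsPullback.of_hasPullback f' ((AlgSp.yon S).map π ≫ b0)).paste_horiz sq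
  have sqρ : IsPullback ρ (pullback.snd f' ((AlgSp.yon S).map π ≫ b0)) (pullback.snd f q)
      ((AlgSp.yon S).map κ) := by
    refine IsPullback.of_right ?_ hρ2 (IsPullback.of_hasPullback f q)
    rw [hρ1, sqV.w, ← Category.assoc]
    exact big
  -- the chart of `Q`
  have sqκ : IsPullback ((AlgSp.yon S).map (pullback.fst h κ))
      ((AlgSp.yon S).map (pullback.snd h κ)) ((AlgSp.yon S).map h) ((AlgSp.yon S).map κ) :=
    (IsPullback.of_hasPullback h κ).map (AlgSp.yon S)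
  have hw' : ((AlgSp.yon S).map (pullback.fst h κ) ≫ u) ≫ pullback.snd f q =
      (AlgSp.yon S).map (pullback.snd h κ) ≫ (AlgSp.yon S).map κ := by
    rw [Category.assoc, ← hh, sqκ.w]
  obtain ⟨φ, hφ⟩ : ∃ φ : (AlgSp.yon S).obj (pullback h κ) ⟶
      pullback f' ((AlgSp.yon S).map π ≫ b0),
      φ = sqρ.lift ((AlgSp.yon S).map (pullback.fst h κ) ≫ u)
        ((AlgSp.yon S).map (pullback.snd h κ)) hw' := ⟨_, rfl⟩
  have hφ1 : φ ≫ ρ = (AlgSp.yon S).map (pullback.fst h κ) ≫ u := by rw [hφ, sqρ.lift_fst]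
  have hφ2 : φ ≫ pullback.snd f' ((AlgSp.yon S).map π ≫ b0) =
      (AlgSp.yon S).map (pullback.snd h κ) := by rw [hφ, sqρ.lift_snd]
  have left : IsPullback φ ((AlgSp.yon S).map (pullback.fst h κ)) ρ u := by
    refine IsPullback.of_right ?_ hφ1 sqρ.flip
    rw [hφ2, ← hh]
    exact sqκ.flip
  have hφe : AlgSp.RepWith @Etale φ :=
    MorphismProperty.of_isPullback (P := AlgSp.RepWith @Etale) left.flip hue
  have hφs : AlgSp.RepWith @Surjective φ :=
    MorphismProperty.of_isPullback (P := AlgSp.RepWith @Surjective) left.flip hus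
  refine Groth.Agent.S9950.locP_of_source_cover P hsrc _ φ hφe hφs ?_
  rw [hφ2]
  refine Groth.Agent.Lib.Helper12.LocPGen.locP_yon_map_of P hEt hcancel _ ?_
  exact hfbc ((IsPullback.of_hasPullback h κ).map (Over.forget S)) hκfl hPh


/-- the chart computation in fpqc descent: for a chart diagram `(a, b, hh)` of `f`, a scheme `W`
over `V` and a lift `l : h_W ⟶ Y i` of `h_W ⟶ h_V ⟶ Y`, if the base change of `p i` along `l` has
`P` étale locally, then the base change of `hh` along `W ⟶ V` has `P`. -/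
lemma chart_of_lift (P : MorphismProperty Scheme.{u})
    {Y Yi X Xi : AlgSp.Sp S} (g : Yi ⟶ Y) (hY : AlgSp.IsAlgSpace Y) (f : X ⟶ Y)
    (hX : AlgSp.IsAlgSpace X) (p : Xi ⟶ Yi) (q : Xi ⟶ X) (sq : IsPullback q p f g)
    {U V : Over S} (a : (AlgSp.yon S).obj U ⟶ X) (b : (AlgSp.yon S).obj V ⟶ Y) (hh : U ⟶ V)
    (ha : AlgSp.RepWith @Etale a) (hb : AlgSp.RepWith @Etale b)
    (hcomm : a ≫ f = (AlgSp.yon S).map hh ≫ b)
    {W : Over S} (c' : W ⟶ V) (l : (AlgSp.yon S).obj W ⟶ Yi)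
    (hl : l ≫ g = (AlgSp.yon S).map c' ≫ b)
    (hLoc : AlgSp.LocP P (pullback.snd p l)) : P (pullback.snd hh c').left := by
  have hφ := Groth.Agent.Lib.Helper12.BaseLocal.repWith_etale_lift hX hY f a b hh ha hb hcomm
  obtain ⟨φ, hφdef⟩ : ∃ φ : (AlgSp.yon S).obj U ⟶ pullback f b,
      φ = pullback.lift a ((AlgSp.yon S).map hh) hcomm := ⟨_, rfl⟩
  rw [← hφdef] at hφ
  have hφ2 : φ ≫ pullback.snd f b = (AlgSp.yon S).map hh := by rw [hφdef, pullback.lift_snd]
  have big1 : IsPullback (pullback.fst p l ≫ q) (pullback.snd p l) f (l ≫ g) :=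
    (IsPullback.of_hasPullback p l).paste_horiz sq
  rw [hl] at big1
  have hwμ : (pullback.fst p l ≫ q) ≫ f =
      (pullback.snd p l ≫ (AlgSp.yon S).map c') ≫ b := by
    rw [Category.assoc _ _ b]; exact big1.w
  obtain ⟨μ, hμ⟩ : ∃ μ : pullback p l ⟶ pullback f b,
      μ = pullback.lift _ _ hwμ := ⟨_, rfl⟩
  have hμ1 : μ ≫ pullback.fst f b = pullback.fst p l ≫ q := by rw [hμ, pullback.lift_fst]
  have hμ2 : μ ≫ pullback.snd f b = pullback.snd p l ≫ (AlgSp.yon S).map c' := by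
    rw [hμ, pullback.lift_snd]
  have sqM : IsPullback μ (pullback.snd p l) (pullback.snd f b)
      ((AlgSp.yon S).map c') := by
    refine IsPullback.of_right ?_ hμ2 (IsPullback.of_hasPullback f b)
    rw [hμ1]
    exact big1
  have hwα : ((AlgSp.yon S).map (pullback.fst hh c') ≫ φ) ≫ pullback.snd f b =
      (AlgSp.yon S).map (pullback.snd hh c') ≫ (AlgSp.yon S).map c' := by
    rw [Category.assoc, hφ2, ← Functor.map_comp, ← Functor.map_comp, pullback.condition]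
  obtain ⟨α, hα⟩ : ∃ α : (AlgSp.yon S).obj (pullback hh c') ⟶ pullback p l,
      α = sqM.lift _ _ hwα := ⟨_, rfl⟩
  have hα1 : α ≫ μ = (AlgSp.yon S).map (pullback.fst hh c') ≫ φ := by
    rw [hα, sqM.lift_fst]
  have hα2 : α ≫ pullback.snd p l = (AlgSp.yon S).map (pullback.snd hh c') := by
    rw [hα, sqM.lift_snd]
  have sqα : IsPullback α ((AlgSp.yon S).map (pullback.fst hh c')) μ φ := by
    refine IsPullback.of_right ?_ hα1 sqM.flip
    rw [hα2, hφ2]
    exact ((IsPullback.of_hasPullback hh c').map (AlgSp.yon S)).flip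
  have hαe : AlgSp.RepWith @Etale α :=
    MorphismProperty.of_isPullback (P := AlgSp.RepWith @Etale) sqα.flip hφ
  exact hLoc α (𝟙 _) (pullback.snd hh c') hαe (AlgSp.repWith_id _ _)
    (by rw [hα2, Category.comp_id])

/-- refinement of one member of a standard fpqc covering through an étale atlas of
`Y i ×_Y Z`: finitely many affine schemes, flat over `Z` and étale over `Y i`, whose images in `Z`
cover the image of `W`. -/
lemma exists_refinement {Y Yi : AlgSp.Sp S} (g : Yi ⟶ Y) (hY : AlgSp.IsAlgSpace Y)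
    (hYi : AlgSp.IsAlgSpace Yi) (hg : AlgSp.LocP @Flat g)
    {Zo : Over S} (z : (AlgSp.yon S).obj Zo ⟶ Y) (hz : AlgSp.RepWith @Etale z)
    {W : Over S} [CompactSpace ↥W.left] (c : W ⟶ Zo) (l : (AlgSp.yon S).obj W ⟶ Yi)
    (hl : l ≫ g = (AlgSp.yon S).map c ≫ z) :
    ∃ (n : ℕ) (A : Fin n → Over S) (κ : ∀ k, A k ⟶ Zo) (τ' : ∀ k, (AlgSp.yon S).obj (A k) ⟶ Yi),
      (∀ k, IsAffine (A k).left) ∧ (∀ k, Flat (κ k).left) ∧
      (∀ k, AlgSp.RepWith @Etale (τ' k)) ∧ (∀ k, τ' k ≫ g = (AlgSp.yon S).map (κ k) ≫ z) ∧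
      (∀ w : ↥W.left, ∃ k, c.left w ∈ Set.range (κ k).left) := by
  classical
  have hT : AlgSp.IsAlgSpace (pullback g z) :=
    Groth.Agent.S9874.isAlgSpace_of_isPullback hY.diag hYi (AlgSp.IsAlgSpace.yon_obj Zo)
      (IsPullback.of_hasPullback g z)
  obtain ⟨T₁, t, hte, hts⟩ := hT.atlas
  obtain ⟨κ₀, hκ₀⟩ := (AlgSp.yon S).map_surjective (t ≫ pullback.snd g z)
  have hfst : AlgSp.RepWith @Etale (pullback.fst g z) :=
    MorphismProperty.of_isPullback (P := AlgSp.RepWith @Etale)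
      (IsPullback.of_hasPullback g z).flip hz
  have hτ₀e : AlgSp.RepWith @Etale (t ≫ pullback.fst g z) :=
    (AlgSp.RepWith @Etale).comp_mem _ _ hte hfst
  have hτ₀ : (t ≫ pullback.fst g z) ≫ g = (AlgSp.yon S).map κ₀ ≫ z := by
    rw [Category.assoc, pullback.condition, ← Category.assoc, ← hκ₀]
  haveI hκ₀fl : Flat κ₀.left := hg (t ≫ pullback.fst g z) z κ₀ hτ₀e hz hτ₀
  -- the pullback of the atlas to `W`
  obtain ⟨W'', π, τ'', sqW⟩ := hte.1 (pullback.lift l ((AlgSp.yon S).map c) hl)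
  obtain ⟨τ, rfl⟩ := (AlgSp.yon S).map_surjective τ''
  haveI : Etale π.left := hte.2 _ _ π sqW
  haveI : Surjective π.left := hts.2 _ _ π sqW
  have hτκ : τ ≫ κ₀ = π ≫ c := by
    apply (AlgSp.yon S).map_injective
    rw [Functor.map_comp, Functor.map_comp, hκ₀, ← Category.assoc, sqW.w, Category.assoc,
      pullback.lift_snd]
  have hτκ' : ∀ w'' : ↥W''.left, κ₀.left (τ.left w'') = c.left (π.left w'') := by
    intro w''
    have := congrArg (fun m => (m.left : W''.left ⟶ Zo.left) w'') hτκ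
    simpa only [Over.comp_left, Scheme.Hom.comp_apply] using this
  -- affine neighbourhoods
  have hex : ∀ x : ↥T₁.left, ∃ Ax : T₁.left.Opens, IsAffineOpen Ax ∧ x ∈ Ax := by
    intro x
    obtain ⟨_, ⟨Ax, hAx, rfl⟩, hxA, -⟩ :=
      T₁.left.isBasis_affineOpens.exists_subset_of_mem_open (Set.mem_univ x) isOpen_univ
    exact ⟨Ax, hAx, hxA⟩
  choose Ax hAx hxAx using hex
  -- the open cover of `W`
  have hopen : ∀ x : ↥T₁.left, IsOpen (π.left '' (τ.left ⁻¹' (Ax x : Set ↥T₁.left))) := fun x =>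
    π.left.isOpenMap _ ((Ax x).2.preimage τ.left.continuous)
  have hcov : (Set.univ : Set ↥W.left) ⊆
      ⋃ x : ↥T₁.left, π.left '' (τ.left ⁻¹' (Ax x : Set ↥T₁.left)) := by
    intro w _
    obtain ⟨w'', rfl⟩ := π.left.surjective w
    exact Set.mem_iUnion.2 ⟨τ.left w'', w'', hxAx _, rfl⟩
  obtain ⟨F, hF⟩ := isCompact_univ.elim_finite_subcover _ hopen hcov
  let e := F.equivFin
  let xs : Fin F.card → ↥T₁.left := fun k => (e.symm k : ↥T₁.left)
  let ι' : ∀ k : Fin F.card, Over.mk ((Ax (xs k)).ι ≫ T₁.hom) ⟶ T₁ :=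
    fun k => Over.homMk (Ax (xs k)).ι rfl
  refine ⟨F.card, fun k => Over.mk ((Ax (xs k)).ι ≫ T₁.hom), fun k => ι' k ≫ κ₀,
    fun k => (AlgSp.yon S).map (ι' k) ≫ t ≫ pullback.fst g z, ?_, ?_, ?_, ?_, ?_⟩
  · intro k
    exact hAx (xs k)
  · intro k
    show Flat ((Ax (xs k)).ι ≫ κ₀.left)
    infer_instance
  · intro k
    refine (AlgSp.RepWith @Etale).comp_mem _ _ ?_ hτ₀e
    refine (AlgSp.repWith_yon_map_iff @Etale _).2 ?_
    show Etale (Ax (xs k)).ι
    infer_instance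
  · intro k
    rw [Category.assoc, Category.assoc, ← Category.assoc t, hτ₀, Functor.map_comp, Category.assoc]
  · intro w
    have hw := hF (Set.mem_univ w)
    simp only [Set.mem_iUnion] at hw
    obtain ⟨x, hxF, w'', hw''A, rfl⟩ := hw
    refine ⟨e ⟨x, hxF⟩, ?_⟩
    have hxs : xs (e ⟨x, hxF⟩) = x := by
      show ((e.symm (e ⟨x, hxF⟩) : F) : ↥T₁.left) = x
      rw [Equiv.symm_apply_apply]
    refine ⟨⟨τ.left w'', by rw [hxs]; exact hw''A⟩, ?_⟩
    show κ₀.left ((Ax (xs (e ⟨x, hxF⟩))).ι _) = _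
    rw [← hτκ' w'']
    rfl

/-- `LocP P` is fpqc local on the base (the descent direction), for `P` stable under flat base
change only. -/
lemma locP_of_fpqcCover_base' (P : MorphismProperty Scheme.{u})
    [P.IsStableUnderComposition]
    (hfbc : ∀ {A B A' B' : Scheme.{u}} {f : A ⟶ B} {g : B' ⟶ B} {f' : A' ⟶ B'} {g' : A' ⟶ A},
      IsPullback g' f' f g → Flat g → P f → P f')
    (hEt : ∀ {A B : Scheme.{u}} (g : A ⟶ B), Etale g → P g)
    (hsrc : ∀ {A B C : Scheme.{u}} (e : A ⟶ B) (k : B ⟶ C) [Etale e] [Surjective e],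
      P (e ≫ k) → P k)
    (hcancel : ∀ {A B C : Scheme.{u}} (u : A ⟶ B) (k : B ⟶ C), Etale k → P (u ≫ k) → P u)
    [P.DescendsAlong (@Surjective ⊓ @Flat ⊓ @LocallyOfFinitePresentation)]
    [P.DescendsAlong (@Surjective ⊓ @Flat ⊓ @QuasiCompact)] [IsZariskiLocalAtTarget P]
    {ι : Type u} {Y : AlgSp.Sp S} (Yi : ι → AlgSp.Sp S) (g : ∀ i, Yi i ⟶ Y)
    (hY : AlgSp.IsAlgSpace Y) (hYi : ∀ i, AlgSp.IsAlgSpace (Yi i))
    (hcov : AlgSp.IsFpqcCover Yi g) {X : AlgSp.Sp S} (f : X ⟶ Y) (hX : AlgSp.IsAlgSpace X)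
    (Xi : ι → AlgSp.Sp S) (p : ∀ i, Xi i ⟶ Yi i) (q : ∀ i, Xi i ⟶ X)
    (hXi : ∀ i, AlgSp.IsAlgSpace (Xi i)) (sq : ∀ i, IsPullback (q i) (p i) f (g i))
    (H : ∀ i, AlgSp.LocP P (p i)) : AlgSp.LocP P f := by
  intro U V a b hh ha hb hcomm
  rw [IsZariskiLocalAtTarget.iff_of_openCover (P := P) V.left.affineCover]
  intro k
  obtain ⟨ζ, hζ⟩ : ∃ ζ : V.left.affineCover.X k ⟶ V.left, ζ = V.left.affineCover.f k := ⟨_, rfl⟩
  show P (pullback.snd hh.left (V.left.affineCover.f k))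
  rw [← hζ]
  let Zo : Over S := Over.mk (ζ ≫ V.hom)
  let ζ' : Zo ⟶ V := Over.homMk ζ rfl
  have hZa : IsAffine Zo.left := by
    show IsAffine (V.left.affineCover.X k)
    infer_instance
  haveI : IsOpenImmersion ζ := by rw [hζ]; infer_instance
  have hzE : AlgSp.RepWith @Etale ((AlgSp.yon S).map ζ' ≫ b) := by
    refine (AlgSp.RepWith @Etale).comp_mem _ _ ((AlgSp.repWith_yon_map_iff @Etale _).2 ?_) hb
    show Etale ζ
    infer_instance
  obtain ⟨m, W', c, hW'a, hcfl, hcs, hl⟩ := hcov.2 Zo hZa ((AlgSp.yon S).map ζ' ≫ b)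
  haveI : IsAffine (V.left.affineCover.X k) := hZa
  -- refine each member
  have href : ∀ j : Fin m, ∃ (n : ℕ) (A : Fin n → Over S) (κ : ∀ k, A k ⟶ Zo),
      (∀ k, IsAffine (A k).left) ∧ (∀ k, Flat (κ k).left) ∧
      (∀ k, P (pullback.snd hh (κ k ≫ ζ')).left) ∧
      (∀ w : ↥(W' j).left, ∃ k, (c j).left w ∈ Set.range (κ k).left) := by
    intro j
    obtain ⟨i, l, hl⟩ := hl j
    haveI : IsAffine (W' j).left := hW'a j
    obtain ⟨n, A, κ, τ', hAa, hκfl, hτ'e, hτ', hsurj⟩ :=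
      exists_refinement (g i) hY (hYi i) (hcov.1 i) ((AlgSp.yon S).map ζ' ≫ b) hzE (c j) l hl
    refine ⟨n, A, κ, hAa, hκfl, fun k' => ?_, hsurj⟩
    have hflat : AlgSp.LocP @Flat (τ' k') :=
      Groth.Agent.S9947.locP_of_repWith_etale @Flat
        (fun g hg => by haveI := hg; infer_instance) (τ' k') (hτ'e k')
    have hLoc : AlgSp.LocP P (pullback.snd (p i) (τ' k')) :=
      locP_flat_baseChange P hfbc hEt hsrc hcancel (hXi i) (hYi i)
        (AlgSp.IsAlgSpace.yon_obj (A k')) (IsPullback.of_hasPullback (p i) (τ' k')) hflat (H i)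
    refine chart_of_lift P (g i) hY f hX (p i) (q i) (sq i) a b hh ha hb hcomm (κ k' ≫ ζ') (τ' k')
      ?_ hLoc
    rw [hτ' k', Functor.map_comp, Category.assoc]
  choose n A κ hAa hκfl hP hsurj using href
  -- the combined standard covering
  let e := @finSigmaFinEquiv m n
  refine Groth.Agent.Lib.Helper12.BaseLocal.of_standard_fpqc P (pullback.snd hh.left ζ)
    (fun r => (A (e.symm r).1 (e.symm r).2).left)
    (fun r => (κ (e.symm r).1 (e.symm r).2).left) (fun r => hAa _ _) (fun r => hκfl _ _)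
    ?_ (fun r => ?_)
  · intro z
    obtain ⟨j, w, hw⟩ := hcs z
    obtain ⟨k', hk'⟩ := hsurj j w
    refine ⟨e ⟨j, k'⟩, ?_⟩
    rw [Equiv.symm_apply_apply, ← hw]
    exact hk'
  · -- the scheme `N = U ×_V A`
    set j := (e.symm r).1
    set k' := (e.symm r).2
    have hsqN : IsPullback (pullback.fst hh (κ j k' ≫ ζ')).left
        (pullback.snd hh (κ j k' ≫ ζ')).left hh.left ((κ j k').left ≫ ζ) :=
      (IsPullback.of_hasPullback hh (κ j k' ≫ ζ')).map (Over.forget S)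
    have hwN : (pullback.fst hh (κ j k' ≫ ζ')).left ≫ hh.left =
        ((pullback.snd hh (κ j k' ≫ ζ')).left ≫ (κ j k').left) ≫ ζ := by
      rw [Category.assoc]; exact hsqN.w
    refine ⟨(pullback hh (κ j k' ≫ ζ')).left,
      pullback.lift (pullback.fst hh (κ j k' ≫ ζ')).left
        ((pullback.snd hh (κ j k' ≫ ζ')).left ≫ (κ j k').left) hwN,
      (pullback.snd hh (κ j k' ≫ ζ')).left, ?_, hP j k'⟩
    refine IsPullback.of_right ?_ (pullback.lift_snd _ _ _) (IsPullback.of_hasPullback hh.left ζ)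
    rw [pullback.lift_fst]
    exact hsqN

end Groth.Agent.Lib.Seat47.LciBase
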