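import Groth.Agent.Lib.Seat47LciSrc
import Groth.Agent.Lib.Helper20SmoothSec
import Groth.Agent.Lib.Helper15LocQProps
import Groth.Agent.S10667

/-!
# Seat47: local complete intersection morphisms are smooth local on the source, and
`AlgSp.IsLCIMor` is smooth local on the source-and-target

* `lciM_of_smooth_cover_source`: if `e` is smooth surjective and `e ≫ k` is lci then `k` is lci
  (via étale-local sections of smooth morphisms and étale locality on the source).
* `isSmoothLocalST_isLCIMor : AlgSp.IsSmoothLocalST AlgSp.IsLCIMor`.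
-/

set_option autoImplicit false
universe u
open CategoryTheory CategoryTheory.Limits AlgebraicGeometry

namespace Groth.Agent.Lib.Seat47.LciSmLocal

open Groth.Agent.Lib.Seat31.LciHom Groth.Agent.Lib.Seat47.LciSp

/-- lci is smooth local on the source. -/
theorem lciM_of_smooth_cover_source {A B C : Scheme.{u}} (e : A ⟶ B) (k : B ⟶ C) [Smooth e]
    [Surjective e] (h : LciM (e ≫ k)) : LciM k := by
  choose a ha using fun b : B => ‹Surjective e›.surj b
  choose S' g s' hg hgs hh using fun b : B =>
    Groth.Agent.Lib.Helper20.SmoothSec.exists_etale_section_of_smooth e (a b)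
  choose σ hσ using hh
  haveI : ∀ b, Etale (g b) := hg
  haveI : Etale (Sigma.desc g) := IsZariskiLocalAtSource.sigmaDesc (P := @Etale) hg
  haveI : Surjective (Sigma.desc g) := by
    refine ⟨fun b => ⟨(Sigma.ι S' b) (s' b), ?_⟩⟩
    rw [← Scheme.Hom.comp_apply, Sigma.ι_desc, hgs, ha]
  apply Groth.Agent.Lib.Seat47.LciSrc.lciM_of_etale_cover_source (Sigma.desc g) k
  have e1 : Sigma.desc g ≫ k = Sigma.desc (fun b => g b ≫ k) := by
    apply Sigma.hom_ext
    intro b
    rw [Sigma.ι_desc_assoc, Sigma.ι_desc]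
  rw [e1]
  refine IsZariskiLocalAtSource.sigmaDesc (P := LciM) (fun b => ?_)
  rw [← hσ b, Category.assoc]
  refine lciM_comp (lciM_of_comp_smooth (σ b) e ?_) h
  rw [hσ b]
  exact lciM_of_smooth (g b)

instance lciM_isLocalAtSource_smooth :
    MorphismProperty.IsLocalAtSource (LciM : MorphismProperty Scheme.{u})
      (Scheme.precoverage @Smooth) :=
  Groth.Agent.Lib.Helper12.SmSrcLocal.isLocalAtSource_smooth_of_single _
    (fun e k he hk => by haveI := he; exact lciM_comp (lciM_of_smooth e) hk)
    (fun e k he hs h => by haveI := he; haveI := hs; exact lciM_of_smooth_cover_source e k h)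

theorem lci_eq_lciM : (AlgSp.lci : MorphismProperty Scheme.{u}) = LciM := by
  ext X Y f
  exact lci_iff_lciM f

variable {S : Scheme.{u}}

theorem isLCIMor_eq : (AlgSp.IsLCIMor : MorphismProperty (AlgSp.Sp S)) = AlgSp.LocP LciM := by
  unfold AlgSp.IsLCIMor
  rw [lci_eq_lciM]

theorem locP_lciM_comp {X Y Z : AlgSp.Sp S} (hY : AlgSp.IsAlgSpace Y) (hZ : AlgSp.IsAlgSpace Z)
    (a : X ⟶ Y) (b : Y ⟶ Z) (ha : AlgSp.LocP LciM a) (hb : AlgSp.LocP LciM b) :
    AlgSp.LocP LciM (a ≫ b) :=
  Groth.Agent.Lib.Helper12.LocPGen.locP_comp LciM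
    (fun e k _ _ h => Groth.Agent.Lib.Seat47.LciSrc.lciM_of_etale_cover_source e k h) hY hZ a b ha hb

/-- being a local complete intersection morphism of algebraic spaces is smooth local on the
source-and-target. -/
theorem isSmoothLocalST_isLCIMor : AlgSp.IsSmoothLocalST (AlgSp.IsLCIMor (S := S)) := by
  have hbase : AlgSp.IsLocalOnBase (AlgSp.IsFpqcCover (S := S)) (AlgSp.LocP LciM) := by
    rw [← isLCIMor_eq]
    exact Groth.Agent.S10667.result
  rw [isLCIMor_eq]
  exact Groth.Agent.S10567.result _
    ((Groth.Agent.S10580.result S LciM).2.2.1 inferInstance)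
    (Groth.Agent.Lib.Helper15LocQProps.isLocalOnBase_sm_of_fppf _
      (Groth.Agent.Lib.Helper15DiagDescent.isLocalOnBase_fppf_of_fpqc _ hbase))
    (fun _ Y Z f g hf hg => locP_lciM_comp Y.property Z.property f.hom g.hom hf
      (Groth.Agent.Lib.Helper15PtsTop.locP_mono
        (fun _ _ k hk => by haveI : Smooth k := hk; exact lciM_of_smooth k) hg))

end Groth.Agent.Lib.Seat47.LciSmLocal
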