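import Groth.Agent.Lib.Seat7KosLocSch
import Groth.Agent.Lib.Seat47LciSmLocal
import Groth.Agent.Lib.Seat45GenFin2
import Groth.Agent.Lib.Seat45BaseChange3
import Groth.Agent.S9947
import Groth.Agent.S10175
import Groth.Agent.S10176
import Groth.Agent.Lib.Helper12OpenSub2

/-!
# Seat47: the Koszul (lci) locus of a morphism of algebraic spaces, read on charts

* `locPNear_lci_ofPt_iff`: for a chart diagram `(a, b, k)` of `f : X ⟶ Y` and a point `u` of the source chart,
  `f` is Koszul near the image of `u` (`AlgSp.LocPNear AlgSp.lci`) iff `u` lies in the scheme-level Koszul locus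
  `Seat7.KosLocSch.kosLocus k.left`.
* `locPNear_lci_baseChange_iff`: base change of the Koszul locus for `X ⟶ Y` over `Z` with `X`, `Y` flat and locally
  of finite presentation over `Z` (via helper45's base-change chart diagrams and helper7's `kosLocus_baseChange`).
* `isOpen_locPNear`, `isLCIMor_iff_forall_locPNear`.
-/

set_option autoImplicit false
universe u
open CategoryTheory CategoryTheory.Limits AlgebraicGeometry

namespace Groth.Agent.Lib.Seat47.KosLocSp

open Groth.Agent.Lib.Seat31.LciHom Groth.Agent.Lib.Seat47.LciSp Groth.Agent.Lib.Seat7.KosLocSch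
  Groth.Agent.Lib.Helper12

variable {S : Scheme.{u}}

/-- `LciM` for the composite with an open immersion only depends on its range. -/
theorem lciM_opensRange_ι_comp {A B C : Scheme.{u}} (ι : A ⟶ B) [IsOpenImmersion ι] (k : B ⟶ C)
    (h : LciM (ι ≫ k)) : LciM (ι.opensRange.ι ≫ k) := by
  have e : ι.opensRange.ι ≫ k = ι.isoOpensRange.inv ≫ (ι ≫ k) := by
    rw [← Category.assoc, Scheme.Hom.isoOpensRange_inv_comp]
  rw [e]
  exact (MorphismProperty.cancel_left_of_respectsIso LciM _ _).2 h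

/-- One-chart reading of "Koszul near a point". -/
theorem locPNear_lci_ofPt_iff {X Y : AlgSp.Sp S} (hY : AlgSp.IsAlgSpace Y) (f : X ⟶ Y)
    {U V : Over S} (a : (AlgSp.yon S).obj U ⟶ X) (b : (AlgSp.yon S).obj V ⟶ Y) (k : U ⟶ V)
    (hae : AlgSp.RepWith @Etale a) (hbe : AlgSp.RepWith @Etale b)
    (hak : a ≫ f = (AlgSp.yon S).map k ≫ b) (u : ↥U.left) :
    AlgSp.LocPNear AlgSp.lci f (AlgSp.Points.ofPt a u) ↔ u ∈ kosLocus k.left := by
  rw [mem_kosLocus_iff_exists_lciM]
  constructor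
  · rintro ⟨W, j, hj, ⟨w, hw⟩, hL⟩
    obtain ⟨U₀, ι, a₀, sq⟩ := hj.1 a
    haveI hι : IsOpenImmersion ι.left := hj.2 a a₀ ι sq
    have ha₀ : AlgSp.RepWith @Etale a₀ :=
      MorphismProperty.of_isPullback (P := AlgSp.RepWith @Etale) sq.flip hae
    have hc : a₀ ≫ (j ≫ f) = (AlgSp.yon S).map (ι ≫ k) ≫ b := by
      rw [← Category.assoc, sq.w, Category.assoc, hak, Functor.map_comp, Category.assoc]
    have h1 : AlgSp.lci (ι ≫ k).left := hL a₀ b (ι ≫ k) ha₀ hbe hc
    rw [lci_iff_lciM, Over.comp_left] at h1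
    obtain ⟨p, hp1, hp2⟩ := Groth.Agent.S10175.exists_point_of_isPullback sq w
      (AlgSp.Points.ofScheme U u) (by rw [hw, AlgSp.Points.ofPt_eq_map_ofScheme])
    obtain ⟨u₀, rfl⟩ := (AlgSp.Points.schemeHomeo U₀).surjective p
    have hu₀ : ι.left u₀ = u := by
      apply (AlgSp.Points.schemeHomeo U).injective
      rw [← AlgSp.Points.map_yon_map_apply]
      exact hp2
    exact ⟨ι.left.opensRange, ⟨u₀, hu₀⟩, lciM_opensRange_ι_comp ι.left k.left h1⟩
  · rintro ⟨W₀, hu, hW₀⟩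
    let U₀ : Over S := Over.mk (W₀.ι ≫ U.hom)
    let ι : U₀ ⟶ U := Over.homMk W₀.ι rfl
    have hιe : AlgSp.RepWith @Etale ((AlgSp.yon S).map ι) :=
      (AlgSp.repWith_yon_map_iff @Etale ι).2 (show Etale W₀.ι from inferInstance)
    have ha₀e : AlgSp.RepWith @Etale ((AlgSp.yon S).map ι ≫ a) :=
      (AlgSp.RepWith @Etale).comp_mem _ _ hιe hae
    obtain ⟨hW, p, hp, hpe, hps⟩ :=
      Groth.Agent.Lib.Seat45.GenFin.exists_chart_onto_image ((AlgSp.yon S).map ι ≫ a) ha₀e
    refine ⟨OpenSub.obj X _, OpenSub.incl X _, OpenSub.repWith_incl hW, ?_, ?_⟩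
    · rw [OpenSub.range_map_incl]
      refine ⟨(⟨u, hu⟩ : ↥W₀), ?_⟩
      exact Groth.Agent.S10176.ofPt_map_comp ι a (⟨u, hu⟩ : ↥W₀)
    · rw [Groth.Agent.Lib.Seat47.LciSmLocal.lci_eq_lciM]
      have hc : p ≫ (OpenSub.incl X _ ≫ f) = (AlgSp.yon S).map (ι ≫ k) ≫ b := by
        rw [← Category.assoc, hp, Category.assoc, hak, Functor.map_comp, Category.assoc]
      refine Groth.Agent.S9947.locP_of_chart LciM
        (fun g hg => by haveI := hg; exact lciM_of_smooth g)
        (fun e k _ _ h => Groth.Agent.Lib.Seat47.LciSrc.lciM_of_etale_cover_source e k h)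
        (fun m r hr h => by haveI := hr; exact lciM_of_comp_smooth m r h)
        hY _ p b (ι ≫ k) hpe hps hbe hc ?_
      rw [Over.comp_left]
      exact hW₀

/-- Base change for the Koszul locus of `X ⟶ Y` over `Z`, with `X/Z` and `Y/Z` flat and locally of finite
presentation. -/
theorem locPNear_lci_baseChange_iff {X Y Z X' Y' Z' : AlgSp.Sp S} (hX : AlgSp.IsAlgSpace X)
    (hY : AlgSp.IsAlgSpace Y) (hZ : AlgSp.IsAlgSpace Z) (hY' : AlgSp.IsAlgSpace Y')
    (hZ' : AlgSp.IsAlgSpace Z')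
    {f : X ⟶ Y} {h : Y ⟶ Z} {g : Z' ⟶ Z} {f' : X' ⟶ Y'} {h' : Y' ⟶ Z'} {pX : X' ⟶ X} {pY : Y' ⟶ Y}
    (sq1 : IsPullback pY h' h g) (sq2 : IsPullback pX f' f pY)
    (hfp : AlgSp.LocP @LocallyOfFinitePresentation (f ≫ h)) (hfl : AlgSp.LocP @Flat (f ≫ h))
    (hqp : AlgSp.LocP @LocallyOfFinitePresentation h) (hqf : AlgSp.LocP @Flat h)
    (x' : AlgSp.Points X') :
    AlgSp.LocPNear AlgSp.lci f' x' ↔ AlgSp.LocPNear AlgSp.lci f (AlgSp.Points.map pX x') := by
  obtain ⟨V, W, V', W', b, c, g₀, b', c', g₀', βV, βW, hbe, hbs, hce, hcs, hb'e, hb's, hc'e, hc's,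
    hbc, hb'c', hb'g, hc'g, sqV⟩ :=
    Groth.Agent.Lib.Seat45.BaseChange.exists_baseChange_atlas_diagram hY hZ hZ' sq1
  obtain ⟨U, U', a, k, a', k', α, hae, ha'e, hak, ha'k', ha'α, sqU, -, hlift'⟩ :=
    Groth.Agent.Lib.Seat45.BaseChange.exists_baseChange_diagram_over hX hY sq2 b b' βV hbe hb'e hb'g
  obtain ⟨v', hv'⟩ := Groth.Agent.S10177.surjective_ofPt b' hb's (AlgSp.Points.map f' x')
  obtain ⟨u', rfl, -⟩ := hlift' x' v' hv'.symm
  have hcomp : a ≫ (f ≫ h) = (AlgSp.yon S).map (k ≫ g₀) ≫ c := by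
    rw [← Category.assoc, hak, Category.assoc, hbc, Functor.map_comp, Category.assoc]
  haveI : LocallyOfFinitePresentation (k.left ≫ g₀.left) := by
    have := hfp a c (k ≫ g₀) hae hce hcomp
    rwa [Over.comp_left] at this
  haveI : Flat (k.left ≫ g₀.left) := by
    have := hfl a c (k ≫ g₀) hae hce hcomp
    rwa [Over.comp_left] at this
  haveI : LocallyOfFinitePresentation g₀.left := hqp b c g₀ hbe hce hbc
  haveI : Flat g₀.left := hqf b c g₀ hbe hce hbc
  have h1 : AlgSp.Points.map pX (AlgSp.Points.ofPt a' u') = AlgSp.Points.ofPt a (α.left u') := by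
    rw [AlgSp.Points.map_ofPt, ha'α, Groth.Agent.S10176.ofPt_map_comp]
  rw [h1, locPNear_lci_ofPt_iff hY' f' a' b' k' ha'e hb'e ha'k',
    locPNear_lci_ofPt_iff hY f a b k hae hbe hak]
  have sqV' := sqV.map (Over.forget S)
  have sqU' := sqU.map (Over.forget S)
  have key := kosLocus_baseChange k.left g₀.left βW.left βV.left g₀'.left sqV' α.left k'.left
    (sqU'.paste_vert sqV') sqU'.w
  exact Set.ext_iff.1 key u'

/-- The set of points near which a morphism is Koszul is open. -/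
theorem isOpen_locPNear {X Y : AlgSp.Sp S} (P : MorphismProperty Scheme.{u}) (f : X ⟶ Y) :
    IsOpen {x | AlgSp.LocPNear P f x} := by
  rw [isOpen_iff_forall_mem_open]
  rintro x ⟨W, j, hj, hx, hL⟩
  refine ⟨Set.range (AlgSp.Points.map j), ?_, ?_, hx⟩
  · rintro y hy
    exact ⟨W, j, hj, hy, hL⟩
  · exact Groth.Agent.Lib.Helper12.OpenSub.isOpen_range_of_open j hj

/-- A morphism of algebraic spaces is Koszul iff it is Koszul near every point. -/
theorem isLCIMor_iff_forall_locPNear {X Y : AlgSp.Sp S} (hY : AlgSp.IsAlgSpace Y) (f : X ⟶ Y) :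
    AlgSp.IsLCIMor f ↔ ∀ x, AlgSp.LocPNear AlgSp.lci f x := by
  constructor
  · intro H x
    refine ⟨X, 𝟙 X, (AlgSp.RepWith @IsOpenImmersion).id_mem X, ⟨x, AlgSp.Points.map_id x⟩, ?_⟩
    rw [Category.id_comp]
    exact H
  · intro H U V a b k ha hb hc
    rw [lci_iff_lciM]
    have hmem : ∀ u : ↥U.left, u ∈ kosLocus k.left := fun u =>
      (locPNear_lci_ofPt_iff hY f a b k ha hb hc u).1 (H _)
    choose W hW hL using fun u => (mem_kosLocus_iff_exists_lciM k.left u).1 (hmem u)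
    refine IsZariskiLocalAtSource.of_iSup_eq_top (P := LciM) W ?_ hL
    rw [eq_top_iff]
    intro u _
    exact TopologicalSpace.Opens.mem_iSup.2 ⟨u, hW u⟩

end Groth.Agent.Lib.Seat47.KosLocSp
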