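import Groth.Agent.Lib.Seat7LciDescent
import Groth.Agent.Lib.Seat31LciBridge
import Groth.Agent.Lib.Seat40RegImmBC
import Groth.Agent.Lib.Helper5RegImm2

/-!
# Seat7: an immersion which is an lci morphism is a Koszul-regular immersion; fpqc descent of
Koszul-regular immersions

* `isKoszulRegularIdeal_ker_of_lciH`: the kernel of a surjective lci ring map is a Koszul-regular
  ideal;
* `isRegularImmersion_of_lciM`: an immersion which is lci (affine-local form) is a Koszul-regular
  immersion;
* `isRegularImmersion_of_isPullback`: Koszul-regular immersions descend along flat surjective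
  quasi-compact base change.
-/

set_option autoImplicit false
universe u

namespace Groth.Agent.Lib.Seat7.RegImmDescent

open CategoryTheory CategoryTheory.Limits AlgebraicGeometry
open Groth.Agent.Lib.Seat31.LciHom Groth.Agent.Lib.Seat31.KR Groth.Agent.Lib.Seat7.LciDescent

/-- the kernel of a surjective lci ring map is a Koszul-regular ideal. -/
theorem isKoszulRegularIdeal_ker_of_lciH {A B : Type u} [CommRing A] [CommRing B] (ψ : A →+* B)
    (hψ : Function.Surjective ψ) (h : LciH ψ) : LCI.IsKoszulRegularIdeal (RingHom.ker ψ) := by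
  letI := ψ.toAlgebra
  obtain ⟨-, n, α, hα, hK⟩ := (h : LCI.IsLCI A B)
  let e := MvPolynomial.isEmptyAlgEquiv A (Fin 0)
  let β : MvPolynomial (Fin 0) A →ₐ[A] B := (Algebra.ofId A B).comp e.toAlgHom
  have hβ : Function.Surjective β := (show Function.Surjective (Algebra.ofId A B) from hψ).comp
    e.surjective
  have hKβ := Groth.Agent.S9269.ker_of_other_presentation A B n 0 α hα β hβ hK
  apply isKoszulRegularIdeal_of_map_ringEquiv e.symm.toRingEquiv
  convert hKβ using 1
  rw [Ideal.map_comap_of_equiv]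
  exact RingHom.comap_ker ψ (e.toAlgHom.toRingHom)

/-- an immersion which is an lci morphism is a Koszul-regular immersion. -/
theorem isRegularImmersion_of_lciM {Z X : Scheme.{u}} (i : Z ⟶ X) [IsImmersion i]
    (h : LciM i) : RegImm.IsRegularImmersion .koszul i := by
  refine ⟨inferInstance, fun z => ?_⟩
  have hz : i z ∈ i.coborderRange := subset_coborder ⟨z, rfl⟩
  suffices key : ∀ U : X.Opens, IsAffineOpen U → i z ∈ U → U ≤ i.coborderRange →
      RegImm.IsRegularImmersionAt .koszul i z by
    obtain ⟨_, ⟨U₀, hU₀ : IsAffineOpen U₀, rfl⟩, hzU, hle⟩ :=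
      X.isBasis_affineOpens.exists_subset_of_mem_open hz i.coborderRange.2
    exact key U₀ hU₀ hzU hle
  intro U hU hzU hle
  have hcl : IsClosedImmersion (i ∣_ U) :=
    Groth.Agent.Lib.Helper5.RegImm.isClosedImmersion_morphismRestrict_of_le_coborderRange i U hle
  have : IsAffine (U : Scheme.{u}) := hU
  have haff : IsAffineOpen (i ⁻¹ᵁ U) := by
    have : IsAffineHom (i ∣_ U) := inferInstance
    exact isAffine_of_isAffineHom (i ∣_ U)
  have hsurj : Function.Surjective (i.app U).hom := by
    have h1 : Function.Surjective ((i ∣_ U).app ⊤).hom :=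
      Scheme.Hom.app_surjective (i ∣_ U) ⊤ (isAffineOpen_top _)
    have h1' := (congrArg (fun φ => Function.Surjective φ.hom) (morphismRestrict_app i U ⊤)).mp h1
    have h1'' : Function.Surjective
        ((Z.presheaf.map (eqToHom (image_morphismRestrict_preimage i U ⊤)).op).hom ∘
          (i.app (U.ι ''ᵁ ⊤)).hom) := h1'
    have h3 : Function.Surjective (i.app (U.ι ''ᵁ ⊤)).hom :=
      Function.Surjective.of_comp_left h1'' (ConcreteCategory.bijective_of_isIso
        (Z.presheaf.map (eqToHom (image_morphismRestrict_preimage i U ⊤)).op)).1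
    have h4 : ∀ (W' : X.Opens), W' = U → Function.Surjective (i.app W').hom →
        Function.Surjective (i.app U).hom := by
      rintro W' rfl hs
      exact hs
    exact h4 _ (Scheme.Opens.ι_image_top U) h3
  have hlci : LciH (i.app U).hom := by
    rw [Scheme.Hom.app_eq_appLE]
    exact (HasRingHomProperty.iff_appLE (P := LciM)).1 h ⟨U, hU⟩ ⟨i ⁻¹ᵁ U, haff⟩ le_rfl
  have hKR := isKoszulRegularIdeal_ker_of_lciH _ hsurj hlci
  -- the prime of `i z`
  have hIle : RingHom.ker (i.app U).hom ≤ (hU.primeIdealOf ⟨i z, hzU⟩).asIdeal := by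
    intro a ha
    by_contra hne
    have hmem : i z ∈ X.basicOpen a :=
      (mem_basicOpen_iff_notMem_primeIdealOf hU (i z) hzU a).2 hne
    have hmem' : z ∈ i ⁻¹ᵁ X.basicOpen a := hmem
    rw [Scheme.preimage_basicOpen, RingHom.mem_ker.1 ha] at hmem'
    simp at hmem'
  obtain ⟨g, hg, l, hl, hspan⟩ := hKR _ hIle
  have hU' : IsAffineOpen (X.basicOpen g) := hU.basicOpen g
  have hzU' : i z ∈ X.basicOpen g := (mem_basicOpen_iff_notMem_primeIdealOf hU (i z) hzU g).2 hg
  have hU'U : X.basicOpen g ≤ U := X.basicOpen_le g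
  haveI hloc : IsLocalization.Away g Γ(X, X.basicOpen g) := hU.isLocalization_basicOpen g
  let e : Localization.Away g ≃ₐ[Γ(X, U)] Γ(X, X.basicOpen g) :=
    IsLocalization.algEquiv (Submonoid.powers g) _ _
  obtain ⟨l', hl', hspan'⟩ :=
    Groth.Agent.Lib.Seat7.KRDescentB.KChart.exists_list_of_algEquiv e _ l hl hspan
  have hpb : IsPullback (𝟙 Z) i i (𝟙 X) := IsPullback.of_horiz_isIso ⟨by simp⟩
  obtain ⟨hcl', hker'⟩ := Groth.Agent.Lib.Seat40.RegImmBC.ker_app_of_isPullback i (𝟙 X) i (𝟙 Z)
    hpb ⟨U, hU⟩ ⟨X.basicOpen g, hU'⟩ hU'U hcl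
  refine ⟨⟨X.basicOpen g, hU'⟩, hzU', hcl', l', hl', ?_⟩
  rw [hker']
  change _ = Ideal.span {x | x ∈ l'}
  rw [← hspan']
  congr 1

/-- **fpqc descent** of Koszul-regular immersions. -/
theorem isRegularImmersion_of_isPullback {X Y X' Y' : Scheme.{u}} (i : Y ⟶ X) [IsImmersion i]
    (g : X' ⟶ X) [Flat g] [Surjective g] [QuasiCompact g]
    (i' : Y' ⟶ X') (g' : Y' ⟶ Y) (hsq : IsPullback g' i' i g)
    (hi' : RegImm.IsRegularImmersion .koszul i') : RegImm.IsRegularImmersion .koszul i :=
  isRegularImmersion_of_lciM i (lciM_of_isPullback i i' g' g hsq (lciM_of_regImm i' hi'))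

end Groth.Agent.Lib.Seat7.RegImmDescent
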