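import Groth.Agent.Lib.Seat47LciSp
import Groth.Agent.Lib.Seat7RegImmDescent

set_option autoImplicit false
universe u
open CategoryTheory CategoryTheory.Limits AlgebraicGeometry

/-!
# Seat47: an immersion of an étale chart of an lci morphism into a smooth space is Koszul-regular
-/

namespace Groth.Agent.Lib.Seat47.LciImm

open Groth.Agent.Lib.Seat31.LciHom Groth.Agent.Lib.Seat47.LciSp

variable {S : Scheme.{u}}

/-- Let `f : X ⟶ Y` be lci, `g : P ⟶ Y` smooth, `e : U ⟶ X` étale and `i : U ⟶ P` a representable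
immersion with `i ≫ g = e ≫ f`, where `Y` is an algebraic space.  Then `i` is a Koszul-regular
immersion. -/
theorem isRegImmMor_of_lci {X Y P U : AlgSp.Sp S} (hY : AlgSp.IsAlgSpace Y) (f : X ⟶ Y) (g : P ⟶ Y)
    (e : U ⟶ X) (i : U ⟶ P) (hc : i ≫ g = e ≫ f) (hf : AlgSp.IsLCIMor f)
    (hg : AlgSp.LocP @Smooth g) (he : AlgSp.IsEtaleMor e)
    (hi : AlgSp.RepWith @IsImmersion i) : AlgSp.IsRegImmMor RegImm.Kind.koszul i := by
  refine ⟨hi.1, fun V W b fst snd hb sq => ?_⟩
  haveI himm : IsImmersion snd.left := hi.2 b fst snd sq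
  -- `W ⟶ U ⟶ X` is étale
  have hfst : AlgSp.RepWith @Etale fst :=
    MorphismProperty.of_isPullback (P := AlgSp.RepWith @Etale) sq.flip hb
  have hfe : AlgSp.RepWith @Etale (fst ≫ e) := he fst hfst
  -- the atlas of `Y`
  obtain ⟨Y₀, c, hce, hcs⟩ := hY.atlas
  obtain ⟨V', v, gW, sqV⟩ := hce.1 (b ≫ g)
  haveI hve : Etale v.left := hce.2 _ gW v sqV
  haveI hvs : Surjective v.left := hcs.2 _ gW v sqV
  obtain ⟨g', hg'⟩ := (AlgSp.yon S).map_surjective gW
  subst hg'
  have hvb : AlgSp.RepWith @Etale ((AlgSp.yon S).map v ≫ b) :=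
    (AlgSp.RepWith @Etale).comp_mem _ _ ((AlgSp.repWith_yon_map_iff @Etale v).2 hve) hb
  haveI hg's : Smooth g'.left := hg ((AlgSp.yon S).map v ≫ b) c g' hvb hce (by
    rw [Category.assoc]; exact sqV.w.symm)
  -- the base change of `snd`
  have sqU := IsPullback.of_hasPullback snd v
  have sqU' := sqU.map (Over.forget S)
  haveI : Etale (pullback.fst snd v).left :=
    MorphismProperty.of_isPullback (P := @Etale) sqU'.flip hve
  have hfa : AlgSp.RepWith @Etale ((AlgSp.yon S).map (pullback.fst snd v) ≫ fst ≫ e) :=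
    (AlgSp.RepWith @Etale).comp_mem _ _
      ((AlgSp.repWith_yon_map_iff @Etale _).2 inferInstance) hfe
  have hk : AlgSp.lci (pullback.snd snd v ≫ g').left :=
    hf ((AlgSp.yon S).map (pullback.fst snd v) ≫ fst ≫ e) c (pullback.snd snd v ≫ g') hfa hce (by
      rw [Category.assoc, Category.assoc, ← hc, ← Category.assoc fst, sq.w, Category.assoc,
        ← Category.assoc, ← Functor.map_comp, sqU.w, Functor.map_comp, Category.assoc, ← sqV.w,
        Functor.map_comp, Category.assoc])
  have hk' : LciM ((pullback.snd snd v).left ≫ g'.left) := (lci_iff_lciM _).1 hk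
  have h1 : LciM (pullback.snd snd v).left := lciM_of_comp_smooth _ g'.left hk'
  have h2 : LciM snd.left :=
    @lciM_of_isPullback_etale_surjective _ _ _ _ _ _ _ _ sqU'.flip hve hvs h1
  exact Groth.Agent.Lib.Seat7.RegImmDescent.isRegularImmersion_of_lciM snd.left h2

end Groth.Agent.Lib.Seat47.LciImm
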