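import Mathlib

/-!
# fpqc descent for affine-local morphism properties that are not stable under base change (Seat7)

Mathlib's `HasRingHomProperty.descendsAlong_flat` requires the morphism property to be stable
under arbitrary base change. Here we replace that hypothesis by multiplicativity
(which gives stability under base change along local isomorphisms).
-/

set_option autoImplicit false
universe u
open CategoryTheory CategoryTheory.Limits AlgebraicGeometry MorphismProperty

namespace Groth.Agent.Lib.Seat7.LocalDescent

variable {P : MorphismProperty Scheme.{u}}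

/-- A multiplicative property that is Zariski-local at source and target is stable under base
change along local isomorphisms. -/
theorem pullback_fst_of_isLocalIso [IsZariskiLocalAtSource P] [IsZariskiLocalAtTarget P]
    [P.IsMultiplicative] {T X W : Scheme.{u}} (q : T ⟶ X) [IsLocalIso q]
    (h' : W ⟶ X) (H : P h') : P (pullback.fst q h') := by
  have key := fun t : T => IsLocalIso.exists_isOpenImmersion (f := q) t
  choose V hV hVoi using key
  let U : ↥(pullback q h') → (pullback q h').Opens :=
    fun z => (pullback.fst q h') ⁻¹ᵁ (V (pullback.fst q h' z))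
  have hU : iSup U = ⊤ := by
    rw [eq_top_iff]
    intro z _
    exact TopologicalSpace.Opens.mem_iSup.2 ⟨z, hV _⟩
  rw [IsZariskiLocalAtSource.iff_of_iSup_eq_top (P := P) U hU]
  intro z
  have e : (U z).ι ≫ pullback.fst q h' =
      (pullback.fst q h' ∣_ V (pullback.fst q h' z)) ≫ (V (pullback.fst q h' z)).ι :=
    (morphismRestrict_ι _ _).symm
  rw [e]
  apply MorphismProperty.comp_mem
  · haveI := hVoi (pullback.fst q h' z)
    refine IsZariskiLocalAtTarget.of_isPullback (P := P) (f := h')
      (iY := (V (pullback.fst q h' z)).ι ≫ q) (iX := (U z).ι ≫ pullback.snd q h') ?_ H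
    exact (isPullback_morphismRestrict (pullback.fst q h') (V (pullback.fst q h' z))).flip.paste_horiz
      (IsPullback.of_hasPullback q h').flip
  · exact IsZariskiLocalAtSource.of_isOpenImmersion _

/-- **fpqc descent** for an affine-local multiplicative property whose ring-theoretic counterpart
codescends along faithfully flat ring maps. -/
theorem descendsAlong_of_codescendsAlong
    {Q : ∀ {R S : Type u} [CommRing R] [CommRing S], (R →+* S) → Prop}
    [HasRingHomProperty P Q] [P.IsMultiplicative]
    (hQ : RingHom.CodescendsAlong Q RingHom.FaithfullyFlat) :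
    P.DescendsAlong (@Surjective ⊓ @Flat ⊓ @QuasiCompact) := by
  apply IsZariskiLocalAtTarget.descendsAlong
  intro R X Y f g hf h
  wlog hX : ∃ T, X = Spec T generalizing X
  · have _ : CompactSpace X := by simpa [← quasiCompact_iff_compactSpace f] using hf.2
    obtain ⟨Y', p, hsurj, hP', hY'⟩ := X.exists_hom_isAffine_of_isZariskiLocalAtSource @IsLocalIso
    haveI hli : IsLocalIso p := hP'
    haveI hsp : Surjective p := hsurj
    refine this (f := (Y'.isoSpec.inv ≫ p) ≫ f) ?_ ?_ ⟨_, rfl⟩
    · haveI hsf : Surjective f := hf.1.1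
      haveI hff : Flat f := hf.1.2
      haveI hfp : Flat p := IsLocalIso.le_of_isZariskiLocalAtSource @Flat _ _ p hP'
      exact ⟨⟨inferInstance, inferInstance⟩, inferInstance⟩
    · rw [← pullbackRightPullbackFstIso_inv_fst f g _, P.cancel_left_of_respectsIso]
      haveI hli1 : IsLocalIso Y'.isoSpec.inv := ⟨fun x => ⟨⊤, trivial, inferInstance⟩⟩
      haveI hli2 : IsLocalIso (Y'.isoSpec.inv ≫ p) :=
        MorphismProperty.comp_mem _ _ _ hli1 hP'
      exact pullback_fst_of_isLocalIso _ _ h
  obtain ⟨T, rfl⟩ := hX
  obtain ⟨φ, rfl⟩ := Spec.map_surjective f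
  wlog hY : ∃ S, Y = Spec S generalizing Y
  · rw [IsZariskiLocalAtSource.iff_of_openCover (P := P) Y.affineCover]
    intro i
    have heq : pullback.fst (Spec.map φ) (Y.affineCover.f i ≫ g) =
        pullback.map _ _ _ _ (𝟙 _) (Y.affineCover.f i) (𝟙 _) (by simp) (by simp) ≫
          pullback.fst (Spec.map φ) g := (pullback.lift_fst _ _ _).symm
    exact this _ (heq ▸ AlgebraicGeometry.IsZariskiLocalAtSource.comp h _) ⟨_, rfl⟩
  obtain ⟨S, rfl⟩ := hY
  refine of_pullback_fst_Spec_of_codescendsAlong (P := P) (P' := @Surjective ⊓ @Flat)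
    (Q := Q) (Q' := RingHom.FaithfullyFlat) hQ ?_ ?_ hf.1 h
  · intro R S f ⟨hf₁, hf₂⟩
    rw [RingHom.FaithfullyFlat.iff_flat_and_comap_surjective]
    refine ⟨?_, (Spec.map f).surjective⟩
    rwa [HasRingHomProperty.Spec_iff (P := @Flat)] at hf₂
  · intro R S f
    exact HasRingHomProperty.Spec_iff (P := P)

end Groth.Agent.Lib.Seat7.LocalDescent
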