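import Groth.Agent.Lib.Seat7KRDescentD
import Groth.Agent.Lib.Seat31LciProp
import Groth.Agent.Lib.Seat7LocalDescent
import Groth.Agent.S9269

/-!
# Seat7: fpqc descent of local complete intersection morphisms

* `isKoszulRegularIdeal_of_map_ringEquiv`: Koszul-regular ideals are transported by ring
  isomorphisms;
* `isLCI_of_tensorProduct`: if `S` is faithfully flat over `R` and `S ⊗[R] T` is a local complete
  intersection over `S`, then `T` is a local complete intersection over `R`;
* `lciH_codescendsAlong_faithfullyFlat`, `lciM_descendsAlong`.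
-/

set_option autoImplicit false
universe u

namespace Groth.Agent.Lib.Seat7.LciDescent

open Groth.Agent.Lib.Seat7.KRDescentD Groth.Agent.Lib.Seat31.LciHom
open scoped TensorProduct

/-- Koszul-regular ideals are transported by ring isomorphisms. -/
theorem isKoszulRegularIdeal_of_map_ringEquiv {B B' : Type u} [CommRing B] [CommRing B']
    (ρ : B ≃+* B') (J : Ideal B)
    (h : LCI.IsKoszulRegularIdeal (J.map (ρ : B →+* B'))) : LCI.IsKoszulRegularIdeal J := by
  letI : Algebra B B' := (ρ : B →+* B').toAlgebra
  haveI : Module.FaithfullyFlat B B' :=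
    (RingHom.FaithfullyFlat.of_bijective ρ.bijective : (ρ : B →+* B').FaithfullyFlat)
  exact isKoszulRegularIdeal_of_faithfullyFlat B B' J h

attribute [local instance] Algebra.TensorProduct.rightAlgebra in
/-- **Faithfully flat descent of local complete intersection algebras.** -/
theorem isLCI_of_tensorProduct {R S T : Type u} [CommRing R] [CommRing S] [CommRing T]
    [Algebra R S] [Algebra R T] [Module.FaithfullyFlat R S] (h : LCI.IsLCI S (S ⊗[R] T)) :
    LCI.IsLCI R T := by
  obtain ⟨hft, m, γ, hγ, hKγ⟩ := h
  haveI := hft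
  have hftR : Algebra.FiniteType R T := .of_finiteType_tensorProduct_of_faithfullyFlat S
  refine ⟨hftR, ?_⟩
  obtain ⟨n, f, hf⟩ := Algebra.FiniteType.iff_quotient_mvPolynomial''.1 hftR
  refine ⟨n, f, hf, ?_⟩
  haveI : Module.FaithfullyFlat (MvPolynomial (Fin n) R) (S ⊗[R] MvPolynomial (Fin n) R) :=
    .of_linearEquiv _ _ (Algebra.TensorProduct.commRight _ _ _).symm.toLinearEquiv
  let fS := Algebra.TensorProduct.map (.id S S) f
  have hfS : Function.Surjective fS := Algebra.FiniteType.baseChangeAux_surj S hf
  have hker : (RingHom.ker f.toRingHom).map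
      (algebraMap (MvPolynomial (Fin n) R) (S ⊗[R] MvPolynomial (Fin n) R)) = RingHom.ker fS :=
    (Algebra.TensorProduct.lTensor_ker f hf).symm
  apply isKoszulRegularIdeal_of_faithfullyFlat (MvPolynomial (Fin n) R)
    (S ⊗[R] MvPolynomial (Fin n) R)
  rw [hker]
  let e := MvPolynomial.algebraTensorAlgEquiv (σ := Fin n) R S
  let β : MvPolynomial (Fin n) S →ₐ[S] S ⊗[R] T := fS.comp e.symm.toAlgHom
  have hβ : Function.Surjective β := hfS.comp e.symm.surjective
  have hKβ := Groth.Agent.S9269.ker_of_other_presentation S (S ⊗[R] T) m n γ hγ β hβ hKγ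
  apply isKoszulRegularIdeal_of_map_ringEquiv e.toRingEquiv
  convert hKβ using 1
  rw [Ideal.map_comap_of_equiv]
  exact RingHom.comap_ker fS.toRingHom (e.symm.toAlgHom.toRingHom)

theorem lciH_codescendsAlong_faithfullyFlat :
    RingHom.CodescendsAlong @LciH RingHom.FaithfullyFlat := by
  refine .mk _ lciH_isLocal.respectsIso fun R S T _ _ _ _ _ h h' => ?_
  rw [RingHom.faithfullyFlat_algebraMap_iff] at h
  rw [lciH_algebraMap_iff] at h' ⊢
  exact isLCI_of_tensorProduct h'

section Scheme

open AlgebraicGeometry CategoryTheory CategoryTheory.Limits MorphismProperty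

instance : MorphismProperty.ContainsIdentities (LciM.{u}) :=
  HasRingHomProperty.containsIdentities (P := LciM)
    lciH_holdsForLocalizationAway.containsIdentities

instance : MorphismProperty.IsMultiplicative (LciM.{u}) where
  comp_mem := (inferInstance : MorphismProperty.IsStableUnderComposition (LciM.{u})).comp_mem

/-- **fpqc descent** for local complete intersection morphisms. -/
instance lciM_descendsAlong :
    MorphismProperty.DescendsAlong (LciM.{u}) (@Surjective ⊓ @Flat ⊓ @QuasiCompact) :=
  Groth.Agent.Lib.Seat7.LocalDescent.descendsAlong_of_codescendsAlong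
    lciH_codescendsAlong_faithfullyFlat

theorem lciM_of_isPullback {X S X' S' : Scheme.{u}} (f : X ⟶ S) (f' : X' ⟶ S')
    (g' : X' ⟶ X) (g : S' ⟶ S) [Flat g] [Surjective g] [QuasiCompact g]
    (hc : IsPullback g' f' f g) (hf' : LciM f') : LciM f :=
  MorphismProperty.of_isPullback_of_descendsAlong (P := LciM)
    (Q := @Surjective ⊓ @Flat ⊓ @QuasiCompact) hc.flip
    ⟨⟨inferInstance, inferInstance⟩, inferInstance⟩ hf'

end Scheme

end Groth.Agent.Lib.Seat7.LciDescent
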