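import Groth.Agent.Lib.Seat31LciEtale
import Groth.Agent.Lib.Seat7LciDescent
import Groth.Agent.Lib.Helper12LargestOpen
import Groth.Agent.S9947
import Groth.Agent.S9729
import Groth.Agent.S8662
import Groth.Prelude.Def_AlgSpMor6

set_option autoImplicit false
universe u
open CategoryTheory CategoryTheory.Limits AlgebraicGeometry

/-!
# Seat47: local complete intersection morphisms of algebraic spaces

* `lciM_of_comp_smooth` : scheme level, `h ≫ g` lci with `g` smooth implies `h` lci (S9729).
* `lciM_of_isPullback_etale_surjective` : étale descent (on the base) for lci morphisms of schemes.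
* `isLCIMor_of_comp_smooth` : `f ≫ q` lci with `q` smooth implies `f` lci, for sheaves whose
  target `Z` of `q` is an algebraic space.
-/

namespace Groth.Agent.Lib.Seat47.LciSp

open Groth.Agent.Lib.Seat31.LciHom

/-- `AlgSp.lci` is the morphism property `LciM`. -/
theorem lci_iff_lciM {X Y : Scheme.{u}} (f : X ⟶ Y) : AlgSp.lci f ↔ LciM f :=
  forall_isKoszulAt_iff_lciM f

/-- cancellation of a smooth morphism on the right. -/
theorem lciM_of_comp_smooth {X Y Z : Scheme.{u}} (h : X ⟶ Y) (g : Y ⟶ Z) [Smooth g]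
    (hc : LciM (h ≫ g)) : LciM h :=
  lciM_of_forall_isKoszulAt h
    (Groth.Agent.S9729.result h g (isKoszulAt_of_lciM (h ≫ g) hc))

/-- étale descent on the base for lci morphisms. -/
theorem lciM_of_isPullback_etale_surjective {A X Y Z : Scheme.{u}} {fst : A ⟶ X} {snd : A ⟶ Y}
    {f : X ⟶ Z} {g : Y ⟶ Z} (sq : IsPullback fst snd f g) [Etale f] [Surjective f]
    (h : LciM fst) : LciM g :=
  MorphismProperty.of_isPullback_of_descendsAlong (P := LciM)
    (Q := @Surjective ⊓ @Flat ⊓ @LocallyOfFinitePresentation) sq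
    ⟨⟨inferInstance, inferInstance⟩, inferInstance⟩ h

variable {S : Scheme.{u}}

/-- If `f ≫ q` is a local complete intersection morphism and `q` is smooth, with target an
algebraic space, then `f` is a local complete intersection morphism. -/
theorem isLCIMor_of_comp_smooth {X Y Z : AlgSp.Sp S} (hZ : AlgSp.IsAlgSpace Z) (f : X ⟶ Y)
    (q : Y ⟶ Z) (hq : AlgSp.LocP @Smooth q) (hp : AlgSp.IsLCIMor (f ≫ q)) :
    AlgSp.IsLCIMor f := by
  intro U V a b h ha hb hcomm
  obtain ⟨W, c, hce, hcs⟩ := hZ.atlas
  obtain ⟨V', v, gW, sq⟩ := hce.1 (b ≫ q)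
  haveI hve : Etale v.left := hce.2 _ gW v sq
  haveI hvs : Surjective v.left := hcs.2 _ gW v sq
  obtain ⟨g', hg'⟩ := (AlgSp.yon S).map_surjective gW
  subst hg'
  -- the chart of `q`
  have hvb : AlgSp.RepWith @Etale ((AlgSp.yon S).map v ≫ b) :=
    (AlgSp.RepWith @Etale).comp_mem _ _ ((AlgSp.repWith_yon_map_iff @Etale v).2 hve) hb
  haveI hg's : Smooth g'.left := hq ((AlgSp.yon S).map v ≫ b) c g' hvb hce (by
    rw [Category.assoc]; exact sq.w.symm)
  -- the base change of `h`
  have sqU := IsPullback.of_hasPullback h v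
  have sqU' := sqU.map (Over.forget S)
  haveI : Etale (pullback.fst h v).left :=
    MorphismProperty.of_isPullback (P := @Etale) sqU'.flip hve
  have hfa : AlgSp.RepWith @Etale ((AlgSp.yon S).map (pullback.fst h v) ≫ a) :=
    (AlgSp.RepWith @Etale).comp_mem _ _
      ((AlgSp.repWith_yon_map_iff @Etale _).2 inferInstance) ha
  -- the chart of `f ≫ q`
  have hk : AlgSp.lci (pullback.snd h v ≫ g').left :=
    hp ((AlgSp.yon S).map (pullback.fst h v) ≫ a) c (pullback.snd h v ≫ g') hfa hce (by
      rw [Category.assoc, ← Category.assoc a, hcomm, Category.assoc, ← Category.assoc,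
        ← Functor.map_comp, sqU.w, Functor.map_comp, Category.assoc, ← sq.w, Functor.map_comp,
        Category.assoc])
  have hk' : LciM ((pullback.snd h v).left ≫ g'.left) := (lci_iff_lciM _).1 hk
  have h1 : LciM (pullback.snd h v).left := lciM_of_comp_smooth _ g'.left hk'
  exact (lci_iff_lciM _).2
    (@lciM_of_isPullback_etale_surjective _ _ _ _ _ _ _ _ sqU'.flip hve hvs h1)

end Groth.Agent.Lib.Seat47.LciSp
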