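import Mathlib
import Groth.Agent.Lib.Seat47LiftCover

/-!
# Lifting standard étale algebras along an arbitrary ideal (seat 47)

General-ideal versions of `Seat47StdEt.exists_lift_standardEtale` and
`Seat47LiftCover.exists_etale_lift_nhd'` (no square-zero hypothesis): the derivative of the lifted
monic polynomial is inverted as well.
-/

set_option autoImplicit false
universe u

namespace Groth.Agent.Lib.Seat47.StdEtGen

open Polynomial

/-- A standard étale algebra `C` over `A ⧸ I` is the reduction of a standard étale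
algebra `B` over `A`, in the weak sense that there are compatible ring maps `C ⟶ B ⧸ I B` and
`B ⟶ C`. -/
theorem exists_lift_standardEtale {A : Type u} [CommRing A] (I : Ideal A)
    (C : Type u) [CommRing C] [Algebra (A ⧸ I) C] [Algebra.IsStandardEtale (A ⧸ I) C] :
    ∃ (B : Type u) (_ : CommRing B) (φ : A →+* B), φ.Etale ∧
      (∃ χ : C →+* B ⧸ I.map φ, χ.comp (algebraMap (A ⧸ I) C) =
        Ideal.quotientMap (I.map φ) φ Ideal.le_comap_map) ∧
      (∃ ζ : B →+* C, ζ.comp φ = (algebraMap (A ⧸ I) C).comp (Ideal.Quotient.mk I)) := by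
  classical
  obtain ⟨Pb⟩ := (Algebra.IsStandardEtale.nonempty_standardEtalePresentation :
    Nonempty (StandardEtalePresentation (A ⧸ I) C))
  have hπ : Function.Surjective (Ideal.Quotient.mk I) := Ideal.Quotient.mk_surjective
  obtain ⟨f, hf_map, -, hf_monic⟩ := Polynomial.lifts_and_natDegree_eq_and_monic
    (Polynomial.mem_lifts_of_surjective hπ Pb.f) Pb.monic_f
  obtain ⟨g₀, hg₀⟩ := Polynomial.map_surjective (Ideal.Quotient.mk I) hπ Pb.g
  obtain ⟨q₁, q₂, n, hcond⟩ := Pb.cond
  let P : StandardEtalePair A := ⟨f, hf_monic, derivative f * g₀, ⟨g₀, 0, 1, by ring⟩⟩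
  have hPf : P.f = f := rfl
  have hPg : P.g = derivative f * g₀ := rfl
  refine ⟨P.Ring, inferInstance, algebraMap A P.Ring, ?_, ?_, ?_⟩
  · exact RingHom.etale_algebraMap.2 inferInstance
  · -- the map `C ⟶ B ⧸ I B`
    let Q := P.Ring ⧸ I.map (algebraMap A P.Ring)
    let qm : A ⧸ I →+* Q := Ideal.quotientMap (I.map (algebraMap A P.Ring)) (algebraMap A P.Ring)
      Ideal.le_comap_map
    letI : Algebra (A ⧸ I) Q := qm.toAlgebra
    haveI : IsScalarTower A (A ⧸ I) Q := IsScalarTower.of_algebraMap_eq' (by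
      ext a
      show (Ideal.Quotient.mk _) (algebraMap A P.Ring a) = qm (Ideal.Quotient.mk I a)
      rw [Ideal.quotientMap_mk])
    let xb : Q := Ideal.Quotient.mkₐ A (I.map (algebraMap A P.Ring)) P.X
    have hmap : Pb.P.HasMap xb := by
      constructor
      · have h1 : aeval xb Pb.f = aeval xb f := by
          rw [← hf_map, ← Ideal.Quotient.algebraMap_eq, Polynomial.aeval_map_algebraMap]
        rw [h1, Polynomial.aeval_algHom_apply, ← hPf, P.hasMap_X.1, map_zero]
      · have h1 : aeval xb Pb.g = aeval xb g₀ := by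
          rw [← hg₀, ← Ideal.Quotient.algebraMap_eq, Polynomial.aeval_map_algebraMap]
        rw [h1, Polynomial.aeval_algHom_apply]
        have h2 : IsUnit (aeval P.X (derivative f * g₀)) := by
          rw [← hPg]; exact P.hasMap_X.2
        rw [map_mul] at h2
        exact (isUnit_of_mul_isUnit_right h2).map _
    let χ₀ : C →ₐ[A ⧸ I] Q := (Pb.P.lift xb hmap).comp Pb.equivRing.toAlgHom
    refine ⟨χ₀.toRingHom, ?_⟩
    exact χ₀.comp_algebraMap
  · -- the map `B ⟶ C`
    letI : Algebra A C := ((algebraMap (A ⧸ I) C).comp (Ideal.Quotient.mk I)).toAlgebra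
    haveI : IsScalarTower A (A ⧸ I) C := IsScalarTower.of_algebraMap_eq' rfl
    have hmap' : P.HasMap Pb.x := by
      constructor
      · have h1 : aeval Pb.x P.f = aeval Pb.x Pb.f := by
          rw [hPf, ← hf_map, ← Ideal.Quotient.algebraMap_eq, Polynomial.aeval_map_algebraMap]
        rw [h1]
        exact Pb.hasMap.1
      · have h1 : aeval Pb.x g₀ = aeval Pb.x Pb.g := by
          rw [← hg₀, ← Ideal.Quotient.algebraMap_eq, Polynomial.aeval_map_algebraMap]
        have h2 : aeval Pb.x (derivative f) = aeval Pb.x (derivative Pb.f) := by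
          rw [← hf_map, Polynomial.derivative_map, ← Ideal.Quotient.algebraMap_eq,
            Polynomial.aeval_map_algebraMap]
        have h3 : IsUnit (aeval Pb.x (derivative Pb.f)) := by
          have h4 := congrArg (aeval Pb.x) hcond
          rw [map_add, map_mul, map_mul, Pb.hasMap.1, zero_mul, add_zero, map_pow] at h4
          have h5 : IsUnit (aeval Pb.x (derivative Pb.f) * aeval Pb.x q₁) := by
            rw [h4]; exact Pb.hasMap.2.pow n
          exact isUnit_of_mul_isUnit_left h5
        rw [hPg, map_mul, h1, h2]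
        exact h3.mul Pb.hasMap.2
    refine ⟨(P.lift Pb.x hmap').toRingHom, ?_⟩
    exact (P.lift Pb.x hmap').comp_algebraMap

open CategoryTheory CategoryTheory.Limits AlgebraicGeometry Opposite TopologicalSpace in
/-- Let `e : E ⟶ Spec (A ⧸ I)` be étale and `x` a point of `E`.  There is an étale `A`-algebra `B`
such that `Spec (B ⧸ I B)` maps to `E` over `Spec (A ⧸ I)` and the image of `Spec (B ⧸ I B)` in
`Spec (A ⧸ I)` contains `e x`. -/
theorem exists_etale_lift_nhd {A : Type u} [CommRing A] (I : Ideal A)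
    {E : Scheme.{u}} (e : E ⟶ Spec (.of (A ⧸ I))) [Etale e] (x : E) :
    ∃ (B : CommRingCat.{u}) (φ : CommRingCat.of A ⟶ B), Etale (Spec.map φ) ∧
      (∃ σ : Spec (.of (B ⧸ I.map φ.hom)) ⟶ E,
        σ ≫ e = Spec.map (CommRingCat.ofHom
          (Ideal.quotientMap (I.map φ.hom) φ.hom Ideal.le_comap_map))) ∧
      (e x ∈ Set.range (Spec.map (CommRingCat.ofHom
          (Ideal.quotientMap (I.map φ.hom) φ.hom Ideal.le_comap_map)))) := by
  obtain ⟨_, ⟨U, hU, rfl⟩, hxU, -⟩ :=
    E.isBasis_affineOpens.exists_subset_of_mem_open (Set.mem_univ x) isOpen_univ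
  let ψ₀ : CommRingCat.of (A ⧸ I) ⟶ Γ(E, U) := Spec.preimage (hU.fromSpec ≫ e)
  have hψ₀ : Spec.map ψ₀ = hU.fromSpec ≫ e := Spec.map_preimage _
  haveI : Etale (Spec.map ψ₀) := by rw [hψ₀]; infer_instance
  have hψ₀et : ψ₀.hom.Etale := (HasRingHomProperty.Spec_iff (P := @Etale)).1 inferInstance
  algebraize [ψ₀.hom]
  let q : PrimeSpectrum Γ(E, U) := hU.primeIdealOf ⟨x, hxU⟩
  have hq : hU.fromSpec q = x := hU.fromSpec_primeIdealOf ⟨x, hxU⟩
  haveI : Algebra.IsEtaleAt (A ⧸ I) q.asIdeal :=
    Algebra.FormallyEtale.comp (A ⧸ I) Γ(E, U) (Localization.AtPrime q.asIdeal)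
  obtain ⟨fe, hfe, hstd⟩ := Algebra.IsEtaleAt.exists_isStandardEtale (R := A ⧸ I) q.asIdeal
  obtain ⟨B, hB, φ, hφ, ⟨χ, hχ⟩, ⟨ζ, hζ⟩⟩ :=
    exists_lift_standardEtale I (Localization.Away fe)
  have htower : algebraMap (A ⧸ I) (Localization.Away fe) =
      (algebraMap Γ(E, U) (Localization.Away fe)).comp ψ₀.hom :=
    IsScalarTower.algebraMap_eq (A ⧸ I) Γ(E, U) (Localization.Away fe)
  refine ⟨CommRingCat.of B, CommRingCat.ofHom φ,
    (HasRingHomProperty.Spec_iff (P := @Etale)).2 hφ, ⟨?_, ?_⟩, ?_⟩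
  · exact Spec.map (CommRingCat.ofHom χ) ≫
      Spec.map (CommRingCat.ofHom (algebraMap Γ(E, U) (Localization.Away fe))) ≫ hU.fromSpec
  · rw [Category.assoc, Category.assoc, ← hψ₀, ← Spec.map_comp, ← Spec.map_comp]
    congr 1
    show _ = CommRingCat.ofHom (Ideal.quotientMap (I.map φ) φ Ideal.le_comap_map)
    rw [← hχ, htower]
    rfl
  · obtain ⟨q', hq'⟩ : q ∈ Set.range (PrimeSpectrum.comap
        (algebraMap Γ(E, U) (Localization.Away fe))) := by
      rw [PrimeSpectrum.localization_away_comap_range (Localization.Away fe) fe]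
      exact hfe
    -- the induced map `B ⧸ I B ⟶ C`
    let ζb : B ⧸ I.map φ →+* Localization.Away fe := Ideal.Quotient.lift (I.map φ) ζ (by
      intro b hb
      have hle : I.map φ ≤ RingHom.ker ζ := by
        rw [Ideal.map_le_iff_le_comap]
        intro a ha
        rw [Ideal.mem_comap, RingHom.mem_ker]
        have := congr($hζ a)
        simp only [RingHom.comp_apply] at this
        rw [this, Ideal.Quotient.eq_zero_iff_mem.2 ha, map_zero]
      exact hle hb)
    have hζb : ζb.comp (Ideal.quotientMap (I.map φ) φ Ideal.le_comap_map) =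
        algebraMap (A ⧸ I) (Localization.Away fe) := by
      ext a
      have := congr($hζ a)
      simpa [ζb] using this
    refine ⟨Spec.map (CommRingCat.ofHom ζb) q', ?_⟩
    have h1 : Spec.map (CommRingCat.ofHom ζb) ≫ Spec.map (CommRingCat.ofHom
          (Ideal.quotientMap (I.map φ) φ Ideal.le_comap_map)) =
        Spec.map (CommRingCat.ofHom (algebraMap Γ(E, U) (Localization.Away fe))) ≫
          Spec.map ψ₀ := by
      rw [← Spec.map_comp, ← Spec.map_comp]
      congr 1
      rw [← CommRingCat.ofHom_comp, hζb, htower]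
      rfl
    have h2 := congr($h1 q')
    rw [Scheme.Hom.comp_apply, Scheme.Hom.comp_apply] at h2
    refine h2.trans ?_
    have h3 : (Spec.map (CommRingCat.ofHom (algebraMap Γ(E, U) (Localization.Away fe)))) q' = q :=
      hq'
    rw [h3, hψ₀, Scheme.Hom.comp_apply, hq]


end Groth.Agent.Lib.Seat47.StdEtGen
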