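import Groth.Agent.Lib.Seat47LciSp
import Groth.Agent.Lib.Seat47StdEtGen
import Groth.Agent.Lib.Seat47CIDescent
import Groth.Agent.Lib.Helper20EtSrc

set_option autoImplicit false
universe u
open CategoryTheory CategoryTheory.Limits AlgebraicGeometry TopologicalSpace

/-!
# Seat47: local complete intersection morphisms are étale local on the source

* `of_etale_family` : a property of morphisms that is Zariski local on the target and satisfies
  fppf descent can be checked on a jointly surjective étale family of the target.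
* `lciM_of_etale_cover_source` : if `e` is étale surjective and `e ≫ k` is lci then `k` is lci.
-/

namespace Groth.Agent.Lib.Seat47.LciSrc

open Groth.Agent.Lib.Seat31.LciHom Groth.Agent.Lib.Seat47.CIDescent Groth.Agent.Lib.Seat47.LciSp

section Generic

variable (P : MorphismProperty Scheme.{u}) [IsZariskiLocalAtTarget P]
  [P.DescendsAlong (@Surjective ⊓ @Flat ⊓ @LocallyOfFinitePresentation)]

/-- if the base change of `e` along an étale `g` has `P`, then `e` has `P` over the open image
of `g`. -/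
theorem restrict_of_etale {E T T₁ E₁ : Scheme.{u}} (e : E ⟶ T) (g : T₁ ⟶ T)
    [Etale g] (e₁ : E₁ ⟶ T₁) (gE : E₁ ⟶ E) (hpb : IsPullback e₁ gE g e)
    (h : P e₁) : P (e ∣_ imageOpens g) := by
  set O := imageOpens g with hO
  have hsub : Set.range g ⊆ Set.range O.ι := by
    rw [Scheme.Opens.range_ι]; exact subset_rfl
  let γ : T₁ ⟶ O.toScheme := IsOpenImmersion.lift O.ι g hsub
  have hγ : γ ≫ O.ι = g := IsOpenImmersion.lift_fac _ _ _
  haveI hγe : Etale γ := by
    have h3 : Etale (γ ≫ O.ι) := by rw [hγ]; infer_instance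
    exact MorphismProperty.of_postcomp (W := @Etale) (W' := @Etale) γ O.ι inferInstance h3
  haveI hγs : Surjective γ := by
    constructor
    intro x
    obtain ⟨y, hy⟩ : (O.ι x) ∈ Set.range g := by
      have := x.2
      exact this
    refine ⟨y, ?_⟩
    apply O.ι.isOpenEmbedding.injective
    rw [← Scheme.Hom.comp_apply, hγ, hy]
  have hright : IsPullback (e ∣_ O) (e ⁻¹ᵁ O).ι O.ι e := isPullback_morphismRestrict e O
  have hw : e₁ ≫ γ ≫ O.ι = gE ≫ e := by rw [hγ]; exact hpb.w
  let γE : E₁ ⟶ (e ⁻¹ᵁ O).toScheme := hright.lift (e₁ ≫ γ) gE (by rw [Category.assoc]; exact hw)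
  have hγE1 : γE ≫ (e ∣_ O) = e₁ ≫ γ := hright.lift_fst _ _ _
  have hγE2 : γE ≫ (e ⁻¹ᵁ O).ι = gE := hright.lift_snd _ _ _
  have hleft : IsPullback e₁ γE γ (e ∣_ O) := by
    refine (IsPullback.of_right ?_ hγE1 hright.flip).flip
    rw [hγ, hγE2]
    exact hpb.flip
  exact MorphismProperty.of_isPullback_of_descendsAlong (P := P)
    (Q := @Surjective ⊓ @Flat ⊓ @LocallyOfFinitePresentation) hleft
    ⟨⟨hγs, inferInstance⟩, inferInstance⟩ h

/-- `P` can be checked on an étale family of the target together with one open subscheme, jointly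
covering the target. -/
theorem of_etale_family {E T : Scheme.{u}} (e : E ⟶ T) {K : Type*}
    (Tk Ek : K → Scheme.{u}) (g : ∀ k, Tk k ⟶ T) (ek : ∀ k, Ek k ⟶ Tk k) (gE : ∀ k, Ek k ⟶ E)
    (hpb : ∀ k, IsPullback (ek k) (gE k) (g k) e) [∀ k, Etale (g k)]
    (U₀ : T.Opens) (hU₀ : P (e ∣_ U₀))
    (hsurj : ∀ t : T, t ∈ U₀ ∨ ∃ k, t ∈ Set.range (g k)) (h : ∀ k, P (ek k)) :
    P e := by
  let O : Option K → T.Opens := fun o => o.elim U₀ (fun k => imageOpens (g k))
  have hO : ⨆ o, O o = ⊤ := by
    rw [eq_top_iff]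
    intro t _
    rcases hsurj t with ht | ⟨k, hk⟩
    · exact TopologicalSpace.Opens.mem_iSup.mpr ⟨none, ht⟩
    · exact TopologicalSpace.Opens.mem_iSup.mpr ⟨some k, hk⟩
  rw [IsZariskiLocalAtTarget.iff_of_iSup_eq_top (P := P) _ hO]
  intro o
  cases o with
  | none => exact hU₀
  | some k => exact restrict_of_etale P e (g k) (ek k) (gE k) (hpb k) (h k)

end Generic

/-- the closed immersion case: if `e` is étale surjective onto `Spec (A ⧸ I)` and the composite
with `Spec (A ⧸ I) ⟶ Spec A` is lci, then `Spec (A ⧸ I) ⟶ Spec A` is lci. -/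
theorem lciM_specMap_mk_of_etale_cover {A : Type u} [CommRing A] (I : Ideal A) {E : Scheme.{u}}
    (e : E ⟶ Spec (.of (A ⧸ I))) [Etale e] [Surjective e]
    (h : LciM (e ≫ Spec.map (CommRingCat.ofHom (Ideal.Quotient.mk I)))) :
    LciM (Spec.map (CommRingCat.ofHom (Ideal.Quotient.mk I))) := by
  set i := Spec.map (CommRingCat.ofHom (Ideal.Quotient.mk I)) with hi
  haveI : IsClosedImmersion i :=
    IsClosedImmersion.spec_of_surjective _ Ideal.Quotient.mk_surjective
  choose B φ hφ hσex hx using fun x : E => StdEtGen.exists_etale_lift_nhd I e x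
  choose σ hσ using hσex
  let U₀ : (Spec (CommRingCat.of A)).Opens :=
    ⟨(Set.range i)ᶜ, i.isClosedEmbedding.isClosed_range.isOpen_compl⟩
  haveI hφ' : ∀ x, Etale (Spec.map (φ x)) := hφ
  refine of_etale_family LciM i (fun x => Spec (B x))
    (fun x => Spec (.of (B x ⧸ I.map (φ x).hom))) (fun x => Spec.map (φ x))
    (fun x => Spec.map (CommRingCat.ofHom (Ideal.Quotient.mk (I.map (φ x).hom))))
    (fun x => Spec.map (CommRingCat.ofHom
      (Ideal.quotientMap (I.map (φ x).hom) (φ x).hom Ideal.le_comap_map)))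
    (fun x => LiftCover.isPullback_quotient (φ x).hom I) U₀ ?_ ?_ ?_
  · -- over the complement of the image the source is empty
    haveI : IsEmpty ↥((i ⁻¹ᵁ U₀).toScheme) := by
      constructor
      rintro ⟨y, hy⟩
      exact hy ⟨y, rfl⟩
    exact lciM_of_isOpenImmersion _
  · intro t
    by_cases ht : t ∈ Set.range i
    · right
      obtain ⟨b, rfl⟩ := ht
      obtain ⟨x, rfl⟩ := e.surjective b
      obtain ⟨z, hz⟩ := hx x
      refine ⟨x, Spec.map (CommRingCat.ofHom (Ideal.Quotient.mk (I.map (φ x).hom))) z, ?_⟩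
      have hw := (LiftCover.isPullback_quotient (φ x).hom I).w
      have hwz := congr($hw z)
      rw [Scheme.Hom.comp_apply, Scheme.Hom.comp_apply] at hwz
      rw [← hz]
      exact hwz
    · left
      exact ht
  · intro x
    have sq := LiftCover.isPullback_quotient (φ x).hom I
    -- `σ x` is étale
    haveI h1 : Etale (Spec.map (CommRingCat.ofHom
        (Ideal.quotientMap (I.map (φ x).hom) (φ x).hom Ideal.le_comap_map))) :=
      MorphismProperty.of_isPullback (P := @Etale) sq (hφ' x)
    haveI h2 : Etale (σ x ≫ e) := by rw [hσ x]; exact h1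
    haveI h3 : Etale (σ x) :=
      MorphismProperty.of_postcomp (W := @Etale) (W' := @Etale) (σ x) e inferInstance h2
    have h4 : LciM (σ x ≫ e ≫ i) := lciM_comp (lciM_of_smooth (σ x)) h
    rw [← Category.assoc, hσ x, ← sq.w] at h4
    exact lciM_of_comp_etale _ (Spec.map (φ x)) h4

/-- the affine case. -/
theorem lciM_specMap_of_etale_cover {R B₀ : CommRingCat.{u}} (φ : R ⟶ B₀) {E : Scheme.{u}}
    (e : E ⟶ Spec B₀) [Etale e] [Surjective e] (h : LciM (e ≫ Spec.map φ)) :
    LciM (Spec.map φ) := by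
  haveI : LocallyOfFiniteType (e ≫ Spec.map φ) := locallyOfFiniteType_of_lciM _ h
  have hlft : LocallyOfFiniteType (Spec.map φ) :=
    Groth.Agent.Lib.Helper20.EtSrc.locallyOfFiniteType_of_etale_cover_source e (Spec.map φ)
  have hft : φ.hom.FiniteType := (HasRingHomProperty.Spec_iff (P := @LocallyOfFiniteType)).1 hlft
  algebraize [φ.hom]
  obtain ⟨n, f, hf⟩ := Algebra.FiniteType.iff_quotient_mvPolynomial''.1
    (show Algebra.FiniteType R B₀ from hft)
  let I : Ideal (MvPolynomial (Fin n) R) := RingHom.ker f.toRingHom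
  let ρ : MvPolynomial (Fin n) R ⧸ I ≃+* B₀ := RingHom.quotientKerEquivOfSurjective hf
  let r : Spec B₀ ⟶ Spec (.of (MvPolynomial (Fin n) R ⧸ I)) :=
    Spec.map (CommRingCat.ofHom (ρ : MvPolynomial (Fin n) R ⧸ I →+* B₀))
  haveI : IsIso (CommRingCat.ofHom (ρ : MvPolynomial (Fin n) R ⧸ I →+* B₀)) :=
    (ConcreteCategory.isIso_iff_bijective _).2 ρ.bijective
  haveI : IsIso r := inferInstanceAs (IsIso (Spec.map _))
  let i := Spec.map (CommRingCat.ofHom (Ideal.Quotient.mk I))
  let π : Spec (.of (MvPolynomial (Fin n) R)) ⟶ Spec R :=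
    Spec.map (CommRingCat.ofHom (algebraMap R (MvPolynomial (Fin n) R)))
  haveI : Smooth π := by
    refine (HasRingHomProperty.Spec_iff (P := @Smooth)).2 ?_
    exact RingHom.smooth_algebraMap.2 ⟨inferInstance, inferInstance⟩
  have hfac : Spec.map φ = r ≫ i ≫ π := by
    rw [← Spec.map_comp, ← Spec.map_comp]
    congr 1
    ext a
    show φ.hom a = ρ (Ideal.Quotient.mk I (algebraMap R (MvPolynomial (Fin n) R) a))
    have : ρ (Ideal.Quotient.mk I (algebraMap R (MvPolynomial (Fin n) R) a)) =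
        f (algebraMap R (MvPolynomial (Fin n) R) a) := rfl
    rw [this, f.commutes]
    rfl
  rw [hfac] at h ⊢
  have h1 : LciM ((e ≫ r) ≫ i) := by
    refine lciM_of_comp_smooth _ π ?_
    simpa only [Category.assoc] using h
  have h2 : LciM i := lciM_specMap_mk_of_etale_cover I (e ≫ r) h1
  exact lciM_comp (lciM_of_smooth r) (lciM_comp h2 (lciM_of_smooth π))

/-- **lci morphisms are étale local on the source**: if `e` is étale and surjective and `e ≫ k`
is a local complete intersection morphism, then so is `k`. -/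
theorem lciM_of_etale_cover_source {A B C : Scheme.{u}} (e : A ⟶ B) (k : B ⟶ C) [Etale e]
    [Surjective e] (h : LciM (e ≫ k)) : LciM k := by
  rw [IsZariskiLocalAtTarget.iff_of_iSup_eq_top (P := LciM) _ (iSup_affineOpens_eq_top C)]
  intro V
  have hV : LciM ((e ≫ k) ∣_ V.1) := IsZariskiLocalAtTarget.restrict h V.1
  rw [morphismRestrict_comp] at hV
  rw [IsZariskiLocalAtSource.iff_of_iSup_eq_top (P := LciM) _
    (iSup_affineOpens_eq_top (k ⁻¹ᵁ V.1).toScheme)]
  intro U
  haveI : IsAffine (V.1 : Scheme.{u}) := V.2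
  haveI : IsAffine (U.1 : Scheme.{u}) := U.2
  set e₁ := e ∣_ (k ⁻¹ᵁ V.1) with he₁
  haveI : Etale e₁ := IsZariskiLocalAtTarget.restrict (P := @Etale) inferInstance _
  haveI : Surjective e₁ := IsZariskiLocalAtTarget.restrict (P := @Surjective) inferInstance _
  set e₂ := e₁ ∣_ U.1 with he₂
  haveI : Etale e₂ := IsZariskiLocalAtTarget.restrict (P := @Etale) inferInstance _
  haveI : Surjective e₂ := IsZariskiLocalAtTarget.restrict (P := @Surjective) inferInstance _
  set k₂ := U.1.ι ≫ (k ∣_ V.1) with hk₂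
  have h2 : LciM (e₂ ≫ k₂) := by
    rw [hk₂, ← Category.assoc, he₂, morphismRestrict_ι, Category.assoc]
    exact lciM_comp (lciM_of_isOpenImmersion _) hV
  -- pass to `Spec`
  have hnat := Scheme.isoSpec_hom_naturality k₂
  have h3 : LciM ((e₂ ≫ (U.1 : Scheme.{u}).isoSpec.hom) ≫ Spec.map k₂.appTop) := by
    rw [Category.assoc, hnat, ← Category.assoc]
    exact lciM_comp h2 (lciM_of_isOpenImmersion _)
  have h4 : LciM (Spec.map k₂.appTop) := lciM_specMap_of_etale_cover _ _ h3
  have h5 : k₂ = (U.1 : Scheme.{u}).isoSpec.hom ≫ Spec.map k₂.appTop ≫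
      (V.1 : Scheme.{u}).isoSpec.inv := by
    rw [← Category.assoc, hnat, Category.assoc, Iso.hom_inv_id, Category.comp_id]
  rw [h5]
  exact lciM_comp (lciM_of_isOpenImmersion _) (lciM_comp h4 (lciM_of_isOpenImmersion _))

end Groth.Agent.Lib.Seat47.LciSrc
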