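import Mathlib

/-!
# Divisibility from integral equations in integrally closed domains (seat 47)

* `exists_monic_eval_scaleRoots` : if `a / b` is integral over the domain `R`, there is a monic `p`
  with `eval a (p.scaleRoots b) = 0`.
* `dvd_of_eval_scaleRoots_eq_zero` : in an integrally closed domain, `eval a (p.scaleRoots b) = 0`
  with `p` monic and `b ≠ 0` forces `b ∣ a`.
* `isDomain_isIntegrallyClosed_of_faithfullyFlat` : normal domains descend along injective ring maps
  `A → B` with `bB ∩ A = bA` (e.g. faithfully flat).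
-/

set_option autoImplicit false
universe u

namespace Groth.Agent.Lib.Seat47.NormalDiv

open Polynomial

theorem exists_monic_eval_scaleRoots {R : Type*} [CommRing R] [IsDomain R] {K : Type*} [Field K]
    [Algebra R K] [IsFractionRing R K] (a b : R) (hb : b ≠ 0)
    (h : IsIntegral R (algebraMap R K a / algebraMap R K b)) :
    ∃ p : R[X], p.Monic ∧ eval a (p.scaleRoots b) = 0 := by
  obtain ⟨p, hp, hroot⟩ := h
  refine ⟨p, hp, ?_⟩
  have hinj : Function.Injective (algebraMap R K) := IsFractionRing.injective R K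
  have h1 := scaleRoots_eval₂_eq_zero_of_eval₂_div_eq_zero hinj hroot
    (mem_nonZeroDivisors_of_ne_zero hb)
  apply hinj
  rw [map_zero, ← h1, eval₂_at_apply]

theorem dvd_of_eval_scaleRoots_eq_zero {R : Type*} [CommRing R] [IsDomain R] [IsIntegrallyClosed R]
    (a b : R) (hb : b ≠ 0) (p : R[X]) (hp : p.Monic) (h : eval a (p.scaleRoots b) = 0) : b ∣ a := by
  let K := FractionRing R
  have hinj : Function.Injective (algebraMap R K) := IsFractionRing.injective R K
  have hb' : algebraMap R K b ≠ 0 := fun h0 => hb (hinj (by rw [h0, map_zero]))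
  have hint : IsIntegral R (algebraMap R K a / algebraMap R K b) := by
    refine ⟨p, hp, ?_⟩
    have h1 := scaleRoots_eval₂_mul (p := p) (algebraMap R K)
      (algebraMap R K a / algebraMap R K b) b
    rw [mul_div_cancel₀ _ hb', eval₂_at_apply, h, map_zero] at h1
    exact (mul_eq_zero.1 h1.symm).resolve_left (pow_ne_zero _ hb')
  obtain ⟨y, hy⟩ := IsIntegrallyClosed.isIntegral_iff.1 hint
  refine ⟨y, hinj ?_⟩
  rw [map_mul, hy, mul_div_cancel₀ _ hb']

/-- descent of "normal domain" along an injective ring map with `bB ∩ A = bA`. -/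
theorem isDomain_isIntegrallyClosed_descent {A B : Type*} [CommRing A] [CommRing B] [IsDomain B]
    [IsIntegrallyClosed B] (φ : A →+* B) (hinj : Function.Injective φ)
    (hdiv : ∀ a b : A, φ b ∣ φ a → b ∣ a) :
    IsDomain A ∧ IsIntegrallyClosed A := by
  haveI : IsDomain A := hinj.isDomain φ
  refine ⟨inferInstance, ?_⟩
  rw [isIntegrallyClosed_iff (FractionRing A)]
  intro x hx
  obtain ⟨a, b, hb, rfl⟩ := IsFractionRing.div_surjective (A := A) x
  have hb0 : b ≠ 0 := nonZeroDivisors.ne_zero hb
  obtain ⟨p, hp, hroot⟩ := exists_monic_eval_scaleRoots a b hb0 hx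
  have hφb : φ b ≠ 0 := fun h0 => hb0 (hinj (by rw [h0, map_zero]))
  have h2 : eval (φ a) ((p.map φ).scaleRoots (φ b)) = 0 := by
    rw [← map_scaleRoots p b φ (by rw [hp.leadingCoeff, map_one]; exact one_ne_zero), eval_map,
      eval₂_at_apply, hroot, map_zero]
  obtain ⟨y, hy⟩ := hdiv a b (dvd_of_eval_scaleRoots_eq_zero (φ a) (φ b) hφb _ (hp.map φ) h2)
  refine ⟨y, ?_⟩
  rw [hy, map_mul, mul_div_cancel_left₀]
  exact fun h0 => hb0 (IsFractionRing.injective A (FractionRing A) (by rw [h0, map_zero]))

end Groth.Agent.Lib.Seat47.NormalDiv
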