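import Groth.Agent.Lib.Seat47EssEtStalk
import Groth.Agent.Lib.Seat47NormalDiv
import Groth.Agent.Lib.Helper3EtNormal

/-!
# Normality along étale morphisms of schemes, stalkwise (seat 47)

* `normal_stalk_of_etale` : ascent of "the stalk is a normal domain" along an étale morphism.
* `normal_stalk_descent` : descent along an étale (flat) morphism.
* `exists_mul_eq_of_forall_germ_dvd` : gluing stalkwise divisibility `b ∣ a` to a global quotient
  on a reduced scheme when `D(b)` is dense.
-/

set_option autoImplicit false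
universe u
open CategoryTheory AlgebraicGeometry TopologicalSpace

namespace Groth.Agent.Lib.Seat47.NormalEt

theorem normal_stalk_of_etale {T X : Scheme.{u}} (f : T ⟶ X) [Etale f] (t : T)
    (h : IsDomain (X.presheaf.stalk (f t)) ∧ IsIntegrallyClosed (X.presheaf.stalk (f t))) :
    IsDomain (T.presheaf.stalk t) ∧ IsIntegrallyClosed (T.presheaf.stalk t) := by
  obtain ⟨hd, hic⟩ := h
  letI := (f.stalkMap t).hom.toAlgebra
  obtain ⟨C, _, _, Q, _, hEt, -, ⟨e⟩⟩ :=
    Groth.Agent.Lib.Seat47.EssEtStalk.isEssentiallyEtale_stalkMap f t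
  obtain ⟨hd', hic'⟩ :=
    Groth.Agent.Lib.Helper3.EtNormal.isDomain_and_isIntegrallyClosed_localization
      (X.presheaf.stalk (f t)) C Q
  exact ⟨e.toRingEquiv.toMulEquiv.isDomain_iff.mpr hd', IsIntegrallyClosed.of_equiv e.symm.toRingEquiv⟩

theorem normal_stalk_descent {T X : Scheme.{u}} (f : T ⟶ X) [Flat f] (t : T)
    (h : IsDomain (T.presheaf.stalk t) ∧ IsIntegrallyClosed (T.presheaf.stalk t)) :
    IsDomain (X.presheaf.stalk (f t)) ∧ IsIntegrallyClosed (X.presheaf.stalk (f t)) := by
  obtain ⟨hd, hic⟩ := h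
  letI := (f.stalkMap t).hom.toAlgebra
  haveI : Module.Flat (X.presheaf.stalk (f t)) (T.presheaf.stalk t) := Flat.stalkMap f t
  haveI : IsLocalHom (algebraMap (X.presheaf.stalk (f t)) (T.presheaf.stalk t)) :=
    inferInstanceAs (IsLocalHom (f.stalkMap t).hom)
  haveI : Module.FaithfullyFlat (X.presheaf.stalk (f t)) (T.presheaf.stalk t) :=
    Module.FaithfullyFlat.of_flat_of_isLocalHom
  refine Groth.Agent.Lib.Seat47.NormalDiv.isDomain_isIntegrallyClosed_descent
    (algebraMap (X.presheaf.stalk (f t)) (T.presheaf.stalk t))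
    (FaithfulSMul.algebraMap_injective _ _) ?_
  intro a b hab
  have h1 : a ∈ ((Ideal.span {b}).map (algebraMap (X.presheaf.stalk (f t))
      (T.presheaf.stalk t))).comap (algebraMap _ _) := by
    rw [Ideal.mem_comap, Ideal.map_span, Set.image_singleton]
    exact Ideal.mem_span_singleton.2 hab
  rw [Ideal.comap_map_eq_self_of_faithfullyFlat] at h1
  exact Ideal.mem_span_singleton.1 h1

/-- on a reduced scheme, a function killed by a function with dense non-vanishing locus is zero. -/
theorem eq_zero_of_mul_eq_zero_of_dense {E : Scheme.{u}} [IsReduced E] (b : Γ(E, ⊤))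
    (hb : Dense (E.basicOpen b : Set E)) {V : E.Opens} (s : Γ(E, V))
    (h : (E.presheaf.map (homOfLE le_top).op b) * s = 0) : s = 0 := by
  rw [← AlgebraicGeometry.basicOpen_eq_bot_iff]
  have h1 : E.basicOpen ((E.presheaf.map (homOfLE (le_top : V ≤ ⊤)).op b) * s) = ⊥ := by
    rw [h, Scheme.basicOpen_zero]
  rw [Scheme.basicOpen_mul, Scheme.basicOpen_res] at h1
  by_contra hne
  obtain ⟨x, hx⟩ : (E.basicOpen s : Set E).Nonempty := by
    rw [Set.nonempty_iff_ne_empty]
    intro h0
    exact hne (Opens.ext h0)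
  obtain ⟨y, hy1, hy2⟩ := hb.inter_open_nonempty _ (E.basicOpen s).2 ⟨x, hx⟩
  have : y ∈ (V ⊓ E.basicOpen b) ⊓ E.basicOpen s :=
    ⟨⟨E.basicOpen_le s hy1, hy2⟩, hy1⟩
  rw [h1] at this
  exact this

set_option maxHeartbeats 800000 in
/-- gluing stalkwise divisibility. -/
theorem exists_mul_eq_of_forall_germ_dvd {E : Scheme.{u}} [IsReduced E] (a b : Γ(E, ⊤))
    (hb : Dense (E.basicOpen b : Set E))
    (h : ∀ x : E, E.presheaf.germ ⊤ x trivial b ∣ E.presheaf.germ ⊤ x trivial a) :
    ∃ s : Γ(E, ⊤), b * s = a := by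
  -- local solutions on affine opens
  have hloc : ∀ V : E.affineOpens, ∃ s : Γ(E, V.1),
      (E.presheaf.map (homOfLE le_top).op b) * s = E.presheaf.map (homOfLE le_top).op a := by
    intro V
    have hmem : E.presheaf.map (homOfLE (le_top : V.1 ≤ ⊤)).op a ∈
        Ideal.span {E.presheaf.map (homOfLE (le_top : V.1 ≤ ⊤)).op b} := by
      rw [V.2.mem_ideal_iff]
      intro x hx
      rw [Ideal.map_span, Set.image_singleton]
      erw [TopCat.Presheaf.germ_res_apply, TopCat.Presheaf.germ_res_apply]
      exact Ideal.mem_span_singleton.2 (h x)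
    obtain ⟨s, hs⟩ := Ideal.mem_span_singleton.1 hmem
    exact ⟨s, hs.symm⟩
  choose sf hsf using hloc
  have hcompat : TopCat.Presheaf.IsCompatible E.presheaf (fun V : E.affineOpens => V.1) sf := by
    intro V W
    have key : ∀ (V W : E.affineOpens),
        (E.presheaf.map (homOfLE le_top).op b) *
          (E.presheaf.map (Opens.infLELeft V.1 W.1).op (sf V)) =
        E.presheaf.map (homOfLE (le_top : V.1 ⊓ W.1 ≤ ⊤)).op a := by
      intro V W
      have := congrArg (E.presheaf.map (Opens.infLELeft V.1 W.1).op) (hsf V)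
      rw [map_mul] at this
      simp only [← ConcreteCategory.comp_apply, ← Functor.map_comp] at this
      exact this
    have key' : (E.presheaf.map (homOfLE le_top).op b) *
          (E.presheaf.map (Opens.infLERight V.1 W.1).op (sf W)) =
        E.presheaf.map (homOfLE (le_top : V.1 ⊓ W.1 ≤ ⊤)).op a := by
      have := congrArg (E.presheaf.map (Opens.infLERight V.1 W.1).op) (hsf W)
      rw [map_mul] at this
      simp only [← ConcreteCategory.comp_apply, ← Functor.map_comp] at this
      exact this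
    have hz := eq_zero_of_mul_eq_zero_of_dense b hb
      (E.presheaf.map (Opens.infLELeft V.1 W.1).op (sf V) -
        E.presheaf.map (Opens.infLERight V.1 W.1).op (sf W))
      (by rw [mul_sub, key V W, key', sub_self])
    exact sub_eq_zero.1 hz
  have hcover : (⊤ : E.Opens) ≤ ⨆ V : E.affineOpens, V.1 := by
    rw [iSup_affineOpens_eq_top]
  obtain ⟨s', hs, -⟩ := E.sheaf.existsUnique_gluing' (fun V : E.affineOpens => V.1) ⊤
    (fun V => homOfLE le_top) hcover sf hcompat
  obtain ⟨s, rfl⟩ : ∃ s : Γ(E, ⊤), s = s' := ⟨s', rfl⟩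
  refine ⟨s, ?_⟩
  apply E.sheaf.eq_of_locally_eq' (fun V : E.affineOpens => V.1) ⊤ (fun V => homOfLE le_top) hcover
  intro V
  change E.presheaf.map _ (b * s) = E.presheaf.map _ a
  rw [map_mul]
  have := hs V
  change E.presheaf.map _ s = sf V at this
  rw [this]
  exact hsf V

end Groth.Agent.Lib.Seat47.NormalEt
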