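import Groth.Agent.Lib.Seat40RegImmComp
import Groth.Agent.Lib.Seat40KindAx
import Groth.Agent.S2104
import Groth.Agent.S2105
import Groth.Agent.S8654

/-!
# Seat47: composition of `H_1`-regular and quasi-regular immersions of schemes

* `SeqComp k₁ k₂ k₃`: the ring-level statement "a sequence of kind `k₁` followed by lifts of a
  sequence of kind `k₂` in the quotient is of kind `k₃`".
* `seqComp_h1`, `seqComp_quasi`, `seqComp_koszul`.
* `isRegularImmersion_comp`: the composition of an (outer) immersion of kind `k₁` and an (inner)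
  immersion of kind `k₂` is an immersion of kind `k₃`.
-/

set_option autoImplicit false
universe u

namespace Groth.Agent.Lib.Seat47.RegImmComp

open CategoryTheory CategoryTheory.Limits AlgebraicGeometry
open Groth.Agent.Lib.Seat40

/-- the ring-level composition statement for kinds of sequences. -/
def SeqComp (k₁ k₂ k₃ : RegImm.Kind) : Prop :=
  ∀ {A B : Type u} [CommRing A] [CommRing B] (α : A →+* B), Function.Surjective α →
    ∀ (f L : List A), RingHom.ker α = Ideal.ofList f → k₁.Seq A f → k₂.Seq B (L.map α) →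
      k₃.Seq A (f ++ L)

section Seq

variable {A B : Type u} [CommRing A] [CommRing B]

omit [CommRing A] in
lemma get_append_cast (f L : List A) (i : Fin (f.length + L.length)) :
    (f ++ L).get (Fin.cast (List.length_append (as := f) (bs := L)).symm i) =
      Fin.append f.get L.get i := by
  refine Fin.addCases (fun a => ?_) (fun b => ?_) i
  · rw [Fin.append_left]
    simp [List.getElem_append_left]
  · rw [Fin.append_right]
    simp [List.getElem_append_right]

/-- the quotient by the ideal of the list `f` is the target of a surjection with that kernel. -/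
noncomputable def quotEquiv (α : A →+* B) (hα : Function.Surjective α) (f : List A)
    (hker : RingHom.ker α = Ideal.ofList f) :
    (A ⧸ Ideal.span (Set.range f.get)) ≃+* B :=
  (Ideal.quotEquivOfEq (by rw [hker, KindAx.span_range_get])).trans
    (RingHom.quotientKerEquivOfSurjective hα)

lemma quotEquiv_mk (α : A →+* B) (hα : Function.Surjective α) (f : List A)
    (hker : RingHom.ker α = Ideal.ofList f) (a : A) :
    quotEquiv α hα f hker (Ideal.Quotient.mk _ a) = α a := by
  simp [quotEquiv]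

lemma h1_mk_of_map (α : A →+* B) (hα : Function.Surjective α) (f L : List A)
    (hker : RingHom.ker α = Ideal.ofList f) (hL : CAlgX.IsH1Regular (L.map α).get) :
    CAlgX.IsH1Regular
      (fun j => Ideal.Quotient.mk (Ideal.span (Set.range f.get)) (L.get j)) := by
  set e := quotEquiv α hα f hker with he
  have hflat : (e.symm.toRingHom).Flat :=
    RingHom.Flat.of_bijective (f := e.symm.toRingHom) e.symm.bijective
  have h1 := RegSeqFlat.h1_of_flat_fun e.symm.toRingHom hflat _ hL
  refine RegSeqFlat.h1_congr (List.length_map (as := L) α) _ _ (fun i => ?_) h1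
  have : (L.map α).get i = α (L.get (Fin.cast (List.length_map (as := L) α) i)) := by simp
  rw [this, ← quotEquiv_mk α hα f hker]
  simp [he]

theorem h1_append_list (α : A →+* B) (hα : Function.Surjective α) (f L : List A)
    (hker : RingHom.ker α = Ideal.ofList f) (hf : CAlgX.IsH1Regular f.get)
    (hL : CAlgX.IsH1Regular (L.map α).get) : CAlgX.IsH1Regular (f ++ L).get := by
  have h := Groth.Agent.S2105.result f.get L.get hf (h1_mk_of_map α hα f L hker hL)
  exact RegSeqFlat.h1_congr (List.length_append (as := f) (bs := L)).symm _ _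
    (get_append_cast f L) h

theorem quasi_append_list (α : A →+* B) (hα : Function.Surjective α) (f L : List A)
    (hker : RingHom.ker α = Ideal.ofList f) (hf : CAlgX.IsQuasiRegular f.get)
    (hL : CAlgX.IsH1Regular (L.map α).get) : CAlgX.IsQuasiRegular (f ++ L).get := by
  have h := Groth.Agent.S2104.result f.get L.get hf (h1_mk_of_map α hα f L hker hL)
  exact RegSeqFlat.quasi_congr (List.length_append (as := f) (bs := L)).symm _ _
    (get_append_cast f L) h

end Seq

theorem seqComp_h1 : SeqComp.{u} .h1 .h1 .h1 :=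
  fun α hα f L hker hf hL => h1_append_list α hα f L hker hf hL

theorem seqComp_quasi : SeqComp.{u} .quasi .h1 .quasi :=
  fun α hα f L hker hf hL => quasi_append_list α hα f L hker hf hL

section Scheme

variable {X Y Z : Scheme.{u}}

/-- the local statement: composition of regular immersions of given kinds at a point -/
theorem comp_at {k₁ k₂ k₃ : RegImm.Kind} (hc : SeqComp.{u} k₁ k₂ k₃)
    (i : Y ⟶ X) (j : Z ⟶ Y) [IsImmersion i] (z : Z)
    (U : X.affineOpens) (hU : i (j z) ∈ U.1) (hcl : IsClosedImmersion (i ∣_ U.1))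
    (rs : List Γ(X, U.1)) (hrs : k₁.Seq Γ(X, U.1) rs)
    (hker : RingHom.ker (i.app U.1).hom = Ideal.ofList rs)
    (V : Y.affineOpens) (hV : j z ∈ V.1) (hclV : IsClosedImmersion (j ∣_ V.1))
    (ss : List Γ(Y, V.1)) (hss : k₂.Seq Γ(Y, V.1) ss)
    (hkerV : RingHom.ker (j.app V.1).hom = Ideal.ofList ss) :
    ∃ W : X.affineOpens, (j ≫ i) z ∈ W.1 ∧ IsClosedImmersion ((j ≫ i) ∣_ W.1) ∧
      ∃ ts : List Γ(X, W.1), k₃.Seq Γ(X, W.1) ts ∧
        RingHom.ker ((j ≫ i).app W.1).hom = Ideal.ofList ts := by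
  -- an open of `X` cutting out `V`
  obtain ⟨W', hW'o, hW'⟩ := i.isEmbedding.isInducing.isOpen_iff.1 V.1.2
  have hxW' : i (j z) ∈ W' := by
    have : j z ∈ i ⁻¹' W' := by rw [hW']; exact hV
    exact this
  obtain ⟨_, ⟨W0, hW0 : IsAffineOpen W0, rfl⟩, hzW, hWle⟩ :=
    X.isBasis_affineOpens.exists_subset_of_mem_open (⟨hxW', hU⟩ : i (j z) ∈ W' ∩ U.1.1)
      (hW'o.inter U.1.2)
  let W : X.affineOpens := ⟨W0, hW0⟩
  have hWU : W.1 ≤ U.1 := fun x hx => (hWle hx).2
  obtain ⟨hclW, rs', hlen, hrs', hkerW⟩ :=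
    RegImmComp.shrink i k₁ U W hWU hcl rs hrs hker (j z) hzW
  haveI : IsAffine W.1 := W.2
  have hV'aff : IsAffineOpen (i ⁻¹ᵁ W.1) := isAffine_of_isAffineHom (i ∣_ W.1)
  let V' : Y.affineOpens := ⟨i ⁻¹ᵁ W.1, hV'aff⟩
  have hV'V : V'.1 ≤ V.1 := by
    intro y hy
    have h1 : i y ∈ W' := (hWle hy).1
    have : y ∈ i ⁻¹' W' := h1
    rw [hW'] at this
    exact this
  obtain ⟨hclV', ss', hlen', hss', hkerV'⟩ :=
    RegImmComp.shrink j k₂ V V' hV'V hclV ss hss hkerV z hzW
  refine ⟨W, hzW, ?_, ?_⟩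
  · rw [morphismRestrict_comp]
    haveI h1 : IsClosedImmersion (j ∣_ i ⁻¹ᵁ W.1) := hclV'
    haveI h2 : IsClosedImmersion (i ∣_ W.1) := hclW
    exact MorphismProperty.comp_mem (W := @IsClosedImmersion) _ _ h1 h2
  · set α : Γ(X, W.1) →+* Γ(Y, i ⁻¹ᵁ W.1) := (i.app W.1).hom with hα
    set β : Γ(Y, i ⁻¹ᵁ W.1) →+* Γ(Z, j ⁻¹ᵁ (i ⁻¹ᵁ W.1)) := (j.app (i ⁻¹ᵁ W.1)).hom with hβ
    have hαs : Function.Surjective α := RegImmComp.app_surjective_of_restrict i W.1 W.2 hclW
    obtain ⟨ts, hts⟩ := List.map_surjective_iff.2 hαs ss'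
    refine ⟨rs' ++ ts, ?_, ?_⟩
    · refine hc α hαs rs' ts hkerW hrs' ?_
      rw [hts]
      exact hss'
    · have hmem : ∀ x, x ∈ RingHom.ker ((j ≫ i).app W.1).hom ↔ x ∈ (RingHom.ker β).comap α := by
        intro x
        rw [RingHom.mem_ker, Ideal.mem_comap, RingHom.mem_ker, Scheme.Hom.comp_app]
        rfl
      ext x
      rw [hmem x, hkerV', ← hts, RegImmBC.ofList_map,
        Ideal.comap_map_of_surjective' α hαs, hkerW, Ideal.ofList_append, sup_comm]

/-- composition of regular immersions of given kinds. -/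
theorem isRegularImmersion_comp {k₁ k₂ k₃ : RegImm.Kind} (hc : SeqComp.{u} k₁ k₂ k₃)
    (i : Y ⟶ X) (j : Z ⟶ Y)
    (hi : RegImm.IsRegularImmersion k₁ i) (hj : RegImm.IsRegularImmersion k₂ j) :
    RegImm.IsRegularImmersion k₃ (j ≫ i) := by
  obtain ⟨himm, hpi⟩ := hi
  obtain ⟨hjmm, hpj⟩ := hj
  have := himm
  have := hjmm
  refine ⟨inferInstance, fun z => ?_⟩
  obtain ⟨U, hU, hcl, rs, hrs, hker⟩ := hpi (j z)
  obtain ⟨V, hV, hclV, ss, hss, hkerV⟩ := hpj z
  obtain ⟨W, hW, hclW, ts, hts, hkerW⟩ :=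
    comp_at hc i j z U hU hcl rs hrs hker V hV hclV ss hss hkerV
  exact ⟨W, hW, hclW, ts, hts, hkerW⟩

theorem isRegularImmersion_comp_h1 (i : Y ⟶ X) (j : Z ⟶ Y)
    (hi : RegImm.IsRegularImmersion .h1 i) (hj : RegImm.IsRegularImmersion .h1 j) :
    RegImm.IsRegularImmersion .h1 (j ≫ i) :=
  isRegularImmersion_comp seqComp_h1 i j hi hj

theorem isRegularImmersion_comp_quasi (i : Y ⟶ X) (j : Z ⟶ Y)
    (hi : RegImm.IsRegularImmersion .quasi i) (hj : RegImm.IsRegularImmersion .h1 j) :
    RegImm.IsRegularImmersion .quasi (j ≫ i) :=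
  isRegularImmersion_comp seqComp_quasi i j hi hj

end Scheme

end Groth.Agent.Lib.Seat47.RegImmComp
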