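import Groth.Agent.Lib.Seat7RegImmFpqc

/-!
# Seat47: descent of Koszul-regular, `H_1`-regular and quasi-regular immersions along flat
surjective universally open morphisms (no quasi-compactness)

`isRegularImmersion_of_isPullback_open`: if `i : Y ⟶ X` is an immersion, `g : X' ⟶ X` is flat,
surjective and universally open (e.g. étale surjective, or fppf), and the base change of `i` along
`g` is a regular immersion of kind `k ≠ regular`, then so is `i`.
-/

set_option autoImplicit false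
universe u

namespace Groth.Agent.Lib.Seat47.RegImmEtDescent

open CategoryTheory CategoryTheory.Limits AlgebraicGeometry
open Groth.Agent.Lib.Seat7.LocK Groth.Agent.Lib.Seat7.RegImmLocal
  Groth.Agent.Lib.Seat40.RegImmBC

/-- a compact open of the source inside `g⁻¹ U` mapping onto the affine open `U`. -/
theorem exists_compact_opens_onto {X X' : Scheme.{u}} (g : X' ⟶ X) [Surjective g]
    [UniversallyOpen g] (U : X.Opens) (hU : IsAffineOpen U) :
    ∃ K : X'.Opens, IsCompact (K : Set X') ∧ K ≤ g ⁻¹ᵁ U ∧ ∀ x ∈ U, ∃ x' ∈ K, g x' = x := by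
  choose x' hx' using fun x : X => ‹Surjective g›.surj x
  have hex : ∀ x : U, ∃ W : X'.Opens, IsAffineOpen W ∧ x' x ∈ W ∧ W ≤ g ⁻¹ᵁ U := by
    intro x
    have hmem : x' x ∈ g ⁻¹ᵁ U := by
      show g (x' x) ∈ U
      rw [hx']
      exact x.2
    obtain ⟨_, ⟨W, hW : IsAffineOpen W, rfl⟩, hxW, hWle⟩ :=
      X'.isBasis_affineOpens.exists_subset_of_mem_open hmem (g ⁻¹ᵁ U).2
    exact ⟨W, hW, hxW, hWle⟩
  choose W hWa hWx hWle using hex
  obtain ⟨t, ht⟩ := hU.isCompact.elim_finite_subcover (fun x : U => g '' (W x : Set X'))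
    (fun x => g.isOpenMap _ (W x).2)
    (fun x hx => Set.mem_iUnion.2 ⟨⟨x, hx⟩, x' x, hWx _, hx' x⟩)
  refine ⟨⨆ x ∈ t, W x, ?_, ?_, ?_⟩
  · have : ((⨆ x ∈ t, W x : X'.Opens) : Set X') = ⋃ x ∈ t, (W x : Set X') := by
      simp
    rw [this]
    exact t.finite_toSet.isCompact_biUnion (fun x _ => (hWa x).isCompact)
  · exact iSup₂_le fun x _ => hWle x
  · intro x hx
    obtain ⟨y, hy⟩ := Set.mem_iUnion.1 (ht hx)
    obtain ⟨hyt, hy⟩ := Set.mem_iUnion.1 hy
    obtain ⟨x'', hx''W, rfl⟩ := hy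
    exact ⟨x'', TopologicalSpace.Opens.mem_iSup.2 ⟨y, TopologicalSpace.Opens.mem_iSup.2 ⟨hyt, hx''W⟩⟩,
      rfl⟩

theorem isRegularImmersion_of_isPullback_open {X Y X' Y' : Scheme.{u}} (i : Y ⟶ X) [IsImmersion i]
    (g : X' ⟶ X) [Flat g] [Surjective g] [UniversallyOpen g]
    (i' : Y' ⟶ X') (g' : Y' ⟶ Y) (hsq : IsPullback g' i' i g) (k : RegImm.Kind)
    (hk : k ≠ .regular) (hi' : RegImm.IsRegularImmersion k i') :
    RegImm.IsRegularImmersion k i := by
  refine ⟨inferInstance, fun z => ?_⟩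
  have hz : i z ∈ i.coborderRange := subset_coborder ⟨z, rfl⟩
  obtain ⟨_, ⟨U, hU : IsAffineOpen U, rfl⟩, hzU, hle⟩ :=
      X.isBasis_affineOpens.exists_subset_of_mem_open hz i.coborderRange.2
  have hcl : IsClosedImmersion (i ∣_ U) :=
    Groth.Agent.Lib.Helper5.RegImm.isClosedImmersion_morphismRestrict_of_le_coborderRange i U hle
  -- a compact open mapping onto `U`
  obtain ⟨K, hKc, hKle, hKsurj⟩ := exists_compact_opens_onto g U hU
  haveI : CompactSpace ((K : X'.Opens) : Scheme.{u}) := isCompact_iff_compactSpace.1 hKc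
  obtain ⟨W, p, hpsurj, hp, hW⟩ :=
    Scheme.exists_hom_isAffine_of_isZariskiLocalAtSource @IsLocalIso (K : Scheme.{u})
  haveI : Flat p := IsLocalIso.le_of_isZariskiLocalAtSource @Flat _ _ p hp
  let q' : W ⟶ X' := p ≫ K.ι
  let q : W ⟶ X := q' ≫ g
  haveI : Flat q' := inferInstanceAs (Flat (p ≫ K.ι))
  haveI : Flat q := inferInstanceAs (Flat (q' ≫ g))
  have hbig : IsPullback (pullback.fst i' q' ≫ g') (pullback.snd i' q') i q :=
    (IsPullback.of_hasPullback i' q').paste_horiz hsq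
  have hiW : RegImm.IsRegularImmersion k (pullback.snd i' q') :=
    Groth.Agent.Lib.Seat40.RegImmBC.isRegularImmersion_of_isPullback i' q' _ _
      (IsPullback.of_hasPullback i' q') k hi'
  have hleW : (⊤ : W.Opens) ≤ q ⁻¹ᵁ U := by
    intro w _
    exact hKle (p w).2
  obtain ⟨hclW, hkerW⟩ := ker_app_of_isPullback i q _ _ hbig ⟨U, hU⟩ ⟨⊤, isAffineOpen_top W⟩
    hleW hcl
  have hlocW := locK_ker_of_regImm k _ hiW.2 ⊤ (isAffineOpen_top W) hclW
  rw [hkerW] at hlocW
  -- faithful flatness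
  have hff : (q.appLE U ⊤ hleW).hom.FaithfullyFlat := by
    rw [RingHom.FaithfullyFlat.iff_flat_and_comap_surjective]
    refine ⟨HasRingHomProperty.appLE (P := @Flat) q inferInstance ⟨U, hU⟩
      ⟨⊤, isAffineOpen_top W⟩ hleW, ?_⟩
    intro 𝔭
    obtain ⟨⟨x, hx⟩, rfl⟩ := exists_primeIdealOf_eq hU 𝔭
    obtain ⟨x', hx'K, rfl⟩ := hKsurj x hx
    obtain ⟨w, hw⟩ := hpsurj.surj (⟨x', hx'K⟩ : ↥K)
    refine ⟨(isAffineOpen_top W).primeIdealOf ⟨w, trivial⟩, ?_⟩
    have h1 := IsAffineOpen.comap_primeIdealOf_appLE (f := q) U hU ⊤ (isAffineOpen_top W) hleW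
      (x := w) trivial
    rw [h1]
    congr 2
    change g (K.ι (p w)) = g x'
    rw [hw]
    rfl
  have hloc := locK_of_faithfullyFlat k hk _ hff _ hlocW
  exact regImmAt_of_locK k i U hU hcl hloc z hzU

end Groth.Agent.Lib.Seat47.RegImmEtDescent
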