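import Groth.Agent.Lib.Seat47RegImmEtDescent
import Groth.Agent.Lib.Seat43ImmDescent
import Groth.Prelude.Def_AlgSpMor6

/-!
# Seat47: flat base change of regular immersions of algebraic spaces

* `repWith_immersion_of_regImmMor`: a regular immersion of algebraic spaces (in the sense of
  `AlgSp.IsRegImmMor`) is representable by immersions.
* `regImmMor_flat_baseChange`: for the kinds Koszul, `H_1`, quasi, a flat base change of a regular
  immersion of algebraic spaces is a regular immersion of the same kind.
-/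

set_option autoImplicit false
universe u

namespace Groth.Agent.Lib.Seat47.RegImmFlatBC

open CategoryTheory CategoryTheory.Limits AlgebraicGeometry

variable {S : Scheme.{u}}

/-- a regular immersion of algebraic spaces is representable by immersions. -/
theorem repWith_immersion_of_regImmMor (k : RegImm.Kind) {Z X : AlgSp.Space S} (i : Z ⟶ X)
    (hi : AlgSp.IsRegImmMor k i.hom) : AlgSp.RepWith @IsImmersion i.hom := by
  obtain ⟨U, a, hae, has⟩ := X.property.atlas
  have sqU := hi.1.isPullback a
  have hregU : RegImm.IsRegularImmersion k (hi.1.snd a).left := hi.2 a _ _ hae sqU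
  haveI : IsImmersion (hi.1.snd a).left := hregU.1
  exact Groth.Agent.Lib.Seat43.ImmDescent.repWith_immersion_of_chart i U a hae has _
    (hi.1.snd a) (hi.1.fst a) sqU

/-- flat base change of regular immersions of algebraic spaces (kinds Koszul, `H_1`, quasi). -/
theorem regImmMor_flat_baseChange (k : RegImm.Kind) (hk : k ≠ .regular)
    {Z X X' P : AlgSp.Space S} (i : Z ⟶ X) (g : X' ⟶ X)
    (hi : AlgSp.IsRegImmMor k i.hom) (hg : AlgSp.LocP @Flat g.hom)
    (fst : P ⟶ Z) (i' : P ⟶ X') (sq : IsPullback fst.hom i'.hom i.hom g.hom) :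
    AlgSp.IsRegImmMor k i'.hom := by
  obtain ⟨U, a, hae, has⟩ := X.property.atlas
  have sqU := hi.1.isPullback a
  have hregU : RegImm.IsRegularImmersion k (hi.1.snd a).left := hi.2 a _ _ hae sqU
  have himm : AlgSp.RepWith @IsImmersion i.hom := repWith_immersion_of_regImmMor k i hi
  have himm' : AlgSp.RepWith @IsImmersion i'.hom :=
    MorphismProperty.of_isPullback (P := AlgSp.RepWith @IsImmersion) sq himm
  refine ⟨himm'.1, ?_⟩
  intro V' W' b' fst' snd' hb' sq'
  haveI : IsImmersion snd'.left := himm'.2 b' fst' snd' sq'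
  -- the étale cover `V''` of `V'`
  obtain ⟨V'', π, κ', sqV⟩ := hae.1 (b' ≫ g.hom)
  obtain ⟨κ, rfl⟩ := (AlgSp.yon S).map_surjective κ'
  haveI : Etale π.left := hae.2 _ _ π sqV
  haveI : Surjective π.left := has.2 _ _ π sqV
  have hpe : AlgSp.RepWith @Etale ((AlgSp.yon S).map π ≫ b') :=
    (AlgSp.RepWith @Etale).comp_mem _ _ ((AlgSp.repWith_yon_map_iff _ _).2 inferInstance) hb'
  have hκfl : Flat κ.left := hg ((AlgSp.yon S).map π ≫ b') a κ hpe hae (by
    rw [Category.assoc]; exact sqV.w.symm)
  -- `W'' = W' ×_{V'} V''`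
  have sqO : IsPullback (pullback.fst snd' π) (pullback.snd snd' π) snd' π :=
    IsPullback.of_hasPullback _ _
  have sqY := sqO.map (AlgSp.yon S)
  have big : IsPullback (((AlgSp.yon S).map (pullback.fst snd' π) ≫ fst') ≫ fst.hom)
      ((AlgSp.yon S).map (pullback.snd snd' π)) i.hom ((AlgSp.yon S).map κ ≫ a) := by
    have h := (sqY.paste_horiz sq').paste_horiz sq
    rw [Category.assoc _ b' g.hom, ← sqV.w] at h
    exact h
  -- the lift to `Z_U`
  obtain ⟨m, hm⟩ : ∃ m : (AlgSp.yon S).obj (pullback snd' π) ⟶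
      (AlgSp.yon S).obj (hi.1.pullback a),
      m = sqU.lift _ ((AlgSp.yon S).map (pullback.snd snd' π) ≫ (AlgSp.yon S).map κ)
        (by rw [Category.assoc]; exact big.w) := ⟨_, rfl⟩
  have hm1 : m ≫ hi.1.fst a =
      ((AlgSp.yon S).map (pullback.fst snd' π) ≫ fst') ≫ fst.hom := by
    rw [hm, sqU.lift_fst]
  have hm2 : m ≫ (AlgSp.yon S).map (hi.1.snd a) =
      (AlgSp.yon S).map (pullback.snd snd' π) ≫ (AlgSp.yon S).map κ := by
    rw [hm, sqU.lift_snd]
  have sqm : IsPullback m ((AlgSp.yon S).map (pullback.snd snd' π))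
      ((AlgSp.yon S).map (hi.1.snd a)) ((AlgSp.yon S).map κ) := by
    refine IsPullback.of_right ?_ hm2 sqU
    rw [hm1]
    exact big
  obtain ⟨m', rfl⟩ := (AlgSp.yon S).map_surjective m
  have sqS : IsPullback m'.left (pullback.snd snd' π).left (hi.1.snd a).left κ.left := by
    have h := IsPullback.of_map (AlgSp.yon S) (by
      apply (AlgSp.yon S).map_injective
      rw [Functor.map_comp, Functor.map_comp]
      exact hm2) sqm
    exact h.map (Over.forget S)
  have hreg'' : RegImm.IsRegularImmersion k (pullback.snd snd' π).left :=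
    Groth.Agent.Lib.Seat40.RegImmBC.isRegularImmersion_of_isPullback (hi.1.snd a).left κ.left
      (pullback.snd snd' π).left m'.left sqS k hregU
  -- descend along `π`
  have sqD : IsPullback (pullback.fst snd' π).left (pullback.snd snd' π).left snd'.left π.left :=
    sqO.map (Over.forget S)
  exact Groth.Agent.Lib.Seat47.RegImmEtDescent.isRegularImmersion_of_isPullback_open snd'.left
    π.left (pullback.snd snd' π).left (pullback.fst snd' π).left sqD k hk hreg''

end Groth.Agent.Lib.Seat47.RegImmFlatBC
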