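import Groth.Agent.Lib.Seat47RegImmComp
import Groth.Prelude.Def_AlgSpMor6

/-!
# Seat47: composition of regular immersions of algebraic spaces
-/

set_option autoImplicit false
universe u

namespace Groth.Agent.Lib.Seat47.RegImmSp

open CategoryTheory CategoryTheory.Limits AlgebraicGeometry

variable {S : Scheme.{u}}

/-- composition of regular immersions of algebraic spaces, from the scheme-level statement. -/
theorem regImmMor_comp {k₁ k₂ k₃ : RegImm.Kind}
    (hcomp : ∀ {X Y Z : Scheme.{u}} (i : Y ⟶ X) (j : Z ⟶ Y), RegImm.IsRegularImmersion k₁ i →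
      RegImm.IsRegularImmersion k₂ j → RegImm.IsRegularImmersion k₃ (j ≫ i))
    {Z Y X : AlgSp.Sp S} (i : Z ⟶ Y) (j : Y ⟶ X) (hi : AlgSp.IsRegImmMor k₂ i)
    (hj : AlgSp.IsRegImmMor k₁ j) : AlgSp.IsRegImmMor k₃ (i ≫ j) := by
  refine ⟨MorphismProperty.comp_mem _ _ _ hi.1 hj.1, ?_⟩
  intro V W b fst snd hb sq
  have sqj : IsPullback (hj.1.fst b) ((AlgSp.yon S).map (hj.1.snd b)) j b := hj.1.isPullback b
  let l : (AlgSp.yon S).obj W ⟶ (AlgSp.yon S).obj (hj.1.pullback b) :=
    sqj.lift (fst ≫ i) ((AlgSp.yon S).map snd) (by rw [Category.assoc]; exact sq.w)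
  have h1 : l ≫ hj.1.fst b = fst ≫ i := sqj.lift_fst _ _ _
  have h2 : l ≫ (AlgSp.yon S).map (hj.1.snd b) = (AlgSp.yon S).map snd := sqj.lift_snd _ _ _
  obtain ⟨l', hl'⟩ := (AlgSp.yon S).map_surjective l
  have sqi : IsPullback fst ((AlgSp.yon S).map l') i (hj.1.fst b) := by
    rw [hl']
    refine IsPullback.of_bot ?_ h1.symm sqj
    rw [h2]
    exact sq
  have hfe : AlgSp.RepWith @Etale (hj.1.fst b) :=
    MorphismProperty.of_isPullback (P := AlgSp.RepWith @Etale) sqj.flip hb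
  have hi' : RegImm.IsRegularImmersion k₂ l'.left := hi.2 (hj.1.fst b) fst l' hfe sqi
  have hj' : RegImm.IsRegularImmersion k₁ (hj.1.snd b).left := hj.2 b (hj.1.fst b) (hj.1.snd b) hb sqj
  have hsnd : snd = l' ≫ hj.1.snd b := by
    apply (AlgSp.yon S).map_injective
    rw [Functor.map_comp, hl', h2]
  show RegImm.IsRegularImmersion k₃ snd.left
  rw [hsnd]
  exact hcomp _ _ hj' hi'

end Groth.Agent.Lib.Seat47.RegImmSp
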