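import Groth.Agent.Lib.Seat47UFO
import Groth.Agent.S10624

/-!
# Seat47: relative lifting along first order thickenings

Relative versions (for a pair `i₀ : F₀ ⟶ F`, `f : F ⟶ G`) of `FEt.eext` and
`FEt.existsUnique_of_foThick`: if `f` is formally unramified and lifts exist for affine first
order thickenings in normal form whenever the top arrow belongs to a class `𝒜` closed under
precomposition, then they exist (uniquely) for all first order thickenings.
-/

set_option autoImplicit false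
universe u
open CategoryTheory CategoryTheory.Limits AlgebraicGeometry Opposite TopologicalSpace
open AlgSp

namespace Groth.Agent.Lib.Seat47.Rel

open Groth.Agent.Lib.Seat47.FEt Groth.Agent.Lib.Seat47.FamSheaf Groth.Agent.Lib.Seat47.FOBC
open Groth.Agent.Lib.Helper15

variable {S : Scheme.{u}}

/-- relative existence and uniqueness of lifts along arbitrary first order thickenings of schemes -/
theorem eext_rel {F G : AlgSp.Sp S} {f : F ⟶ G} (hfu : AlgSp.IsFormallyUnramifiedMor f)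
    (𝒜 : ∀ ⦃Z₀ : Over S⦄, ((AlgSp.yon S).obj Z₀ ⟶ F) → Prop)
    (h𝒜 : ∀ ⦃Z₀ Z₁ : Over S⦄ (c : Z₁ ⟶ Z₀) (top : (AlgSp.yon S).obj Z₀ ⟶ F),
      𝒜 top → 𝒜 ((AlgSp.yon S).map c ≫ top))
    (HA : ∀ {A : Type u} [CommRing A] (I : Ideal A) (_ : I ^ 2 = ⊥) (str : Spec (.of A) ⟶ S)
      (top : (AlgSp.yon S).obj (pT I str) ⟶ F) (bot : (AlgSp.yon S).obj (pT' A str) ⟶ G),
      𝒜 top → top ≫ f = (AlgSp.yon S).map (pj I str) ≫ bot →
      ∃ l : (AlgSp.yon S).obj (pT' A str) ⟶ F, (AlgSp.yon S).map (pj I str) ≫ l = top ∧ l ≫ f = bot)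
    {Z W : Over S} (t : Z ⟶ W) (ht : MoreMor.IsFirstOrderThickening t.left)
    (top : (AlgSp.yon S).obj Z ⟶ F) (bot : (AlgSp.yon S).obj W ⟶ G) (htop : 𝒜 top)
    (comm : top ≫ f = (AlgSp.yon S).map t ≫ bot) :
    ∃! l : (AlgSp.yon S).obj W ⟶ F, (AlgSp.yon S).map t ≫ l = top ∧ l ≫ f = bot := by
  have haff : ∀ V : W.left.affineOpens, ∃ lV : (AlgSp.yon S).obj (resW W V.1) ⟶ F,
      (AlgSp.yon S).map (resT t V.1) ≫ lV = (AlgSp.yon S).map (resZι t V.1) ≫ top ∧
      lV ≫ f = (AlgSp.yon S).map (resWι W V.1) ≫ bot := by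
    intro V
    haveI : IsAffine (resW W V.1).left := V.2
    obtain ⟨A, I, hI, str, gW, gZ, hg⟩ := normalForm_over (resT t V.1) (resT_fo t ht V.1)
    obtain ⟨l₀, h1, h2⟩ := HA I hI str
      ((AlgSp.yon S).map gZ.hom ≫ (AlgSp.yon S).map (resZι t V.1) ≫ top)
      ((AlgSp.yon S).map gW.hom ≫ (AlgSp.yon S).map (resWι W V.1) ≫ bot)
      (h𝒜 _ _ (h𝒜 _ _ htop)) (by
        rw [Category.assoc, Category.assoc, comm]
        simp only [← Category.assoc, ← Functor.map_comp]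
        rw [Category.assoc gZ.hom, ← resT_comm, ← Category.assoc, hg, Category.assoc])
    have hinv : resT t V.1 ≫ gW.inv = gZ.inv ≫ pj I str := by
      rw [Iso.comp_inv_eq, Category.assoc, ← hg, Iso.inv_hom_id_assoc]
    refine ⟨(AlgSp.yon S).map gW.inv ≫ l₀, ?_, ?_⟩
    · rw [← Category.assoc, ← Functor.map_comp, hinv, Functor.map_comp, Category.assoc, h1,
        ← Category.assoc, ← Functor.map_comp, Iso.inv_hom_id, CategoryTheory.Functor.map_id, Category.id_comp]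
    · rw [Category.assoc, h2, ← Category.assoc, ← Functor.map_comp, Iso.inv_hom_id,
        CategoryTheory.Functor.map_id, Category.id_comp]
  choose lV hlV1 hlV2 using haff
  have hstar : ∀ (V : W.left.affineOpens) (Z₀ : Over S) (a : Z₀ ⟶ resW W V.1) (c : Z₀ ⟶ Z),
      a ≫ resWι W V.1 = c ≫ t →
      (AlgSp.yon S).map a ≫ lV V = (AlgSp.yon S).map c ≫ top := by
    intro V Z₀ a c h
    obtain ⟨u, hu1, hu2⟩ := resT_lift t V.1 a c h
    rw [← hu1, Functor.map_comp, Category.assoc, hlV1, ← Category.assoc, ← Functor.map_comp, hu2]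
  obtain ⟨L, hL⟩ := glue _ _ (affineOpens_cover W) lV (by
    intro V V' Z' p q hpq
    apply uext hfu (pbT t (p ≫ resWι W V.1)) (pbT_fo t _ ht)
    · rw [← Category.assoc, ← Functor.map_comp, ← Category.assoc, ← Functor.map_comp,
        hstar V _ (pbT t (p ≫ resWι W V.1) ≫ p) (pbZι t (p ≫ resWι W V.1))
          (by rw [Category.assoc]; exact pbT_comm t _),
        hstar V' _ (pbT t (p ≫ resWι W V.1) ≫ q) (pbZι t (p ≫ resWι W V.1))
          (by rw [Category.assoc, ← hpq]; exact pbT_comm t _)]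
    · rw [Category.assoc, Category.assoc, hlV2, hlV2, ← Category.assoc, ← Category.assoc,
        ← Functor.map_comp, ← Functor.map_comp, hpq])
  have htL : (AlgSp.yon S).map t ≫ L = top := by
    apply sep _ _ (affineOpens_cover_source t)
    intro V
    rw [← Category.assoc, ← Functor.map_comp, ← resT_comm, Functor.map_comp, Category.assoc,
      hL, hlV1]
  have hLf : L ≫ f = bot := by
    apply sep _ _ (affineOpens_cover W)
    intro V
    rw [← Category.assoc, hL, hlV2]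
  refine ⟨L, ⟨htL, hLf⟩, ?_⟩
  rintro L' ⟨h1, h2⟩
  exact uext hfu t ht L' L (h1.trans htL.symm) (h2.trans hLf.symm)

/-- relative existence and uniqueness of lifts along first order thickenings of sheaves whose
target has an étale atlas. -/
theorem existsUnique_of_foThick_rel {F₀ F G T T' : AlgSp.Sp S} (i₀ : F₀ ⟶ F) (f : F ⟶ G)
    (hfu : AlgSp.IsFormallyUnramifiedMor f)
    (HA : ∀ {A : Type u} [CommRing A] (I : Ideal A) (_ : I ^ 2 = ⊥) (str : Spec (.of A) ⟶ S)
      (a : (AlgSp.yon S).obj (pT I str) ⟶ F₀) (bot : (AlgSp.yon S).obj (pT' A str) ⟶ G),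
      (a ≫ i₀) ≫ f = (AlgSp.yon S).map (pj I str) ≫ bot →
      ∃ l : (AlgSp.yon S).obj (pT' A str) ⟶ F,
        (AlgSp.yon S).map (pj I str) ≫ l = a ≫ i₀ ∧ l ≫ f = bot)
    (hT' : AlgSp.IsAlgSpace T') (j : T ⟶ T')
    (hj : AlgSp.IsFOThickMor j) (a : T ⟶ F₀) (b : T' ⟶ G) (w : (a ≫ i₀) ≫ f = j ≫ b) :
    ∃! l : T' ⟶ F, j ≫ l = a ≫ i₀ ∧ l ≫ f = b := by
  obtain ⟨W, c, hce, hcs⟩ := hT'.atlas
  haveI : Sheaf.IsLocallySurjective c :=
    Groth.Agent.S9885.isLocallySurjective_of_repWith c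
      ⟨hce.1, fun _ _ g fst snd h => by
        haveI : Etale snd.left := hce.2 g fst snd h
        exact (inferInstance : Flat snd.left)⟩
      ⟨hce.1, fun _ _ g fst snd h => by
        haveI : Etale snd.left := hce.2 g fst snd h
        exact (inferInstance : LocallyOfFinitePresentation snd.left)⟩
      hcs
  haveI hc_epi : Epi c := inferInstance
  obtain ⟨Z, t, pT, hpb⟩ := hj.1.1 c
  haveI hpT_epi : Epi pT := Groth.Agent.Lib.Helper9.ToposLike.epi_of_isPullback hpb hc_epi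
  have hfo : MoreMor.IsFirstOrderThickening t.left := fo_of_repWith_etale j hj c hce t pT hpb
  -- the lift over the atlas
  obtain ⟨m, ⟨hm1, hm2⟩, -⟩ := eext_rel hfu
    (fun Z₀ top => ∃ a₀ : (AlgSp.yon S).obj Z₀ ⟶ F₀, top = a₀ ≫ i₀)
    (fun Z₀ Z₁ c top ⟨a₀, h₀⟩ => ⟨(AlgSp.yon S).map c ≫ a₀, by rw [h₀, Category.assoc]⟩)
    (fun I hI str top bot ⟨a₀, h₀⟩ hcomm => by
      subst h₀
      exact HA I hI str a₀ bot hcomm)
    t hfo (pT ≫ a ≫ i₀) (c ≫ b) ⟨pT ≫ a, by rw [Category.assoc]⟩ (by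
      rw [Category.assoc, Category.assoc, ← Category.assoc a, w, ← Category.assoc, hpb.w,
        Category.assoc])
  -- descent along the atlas
  have hdesc : ∀ (T₀ : Over S) (α₁ α₂ : T₀ ⟶ W),
      (AlgSp.yon S).map α₁ ≫ c = (AlgSp.yon S).map α₂ ≫ c →
      (AlgSp.yon S).map α₁ ≫ m = (AlgSp.yon S).map α₂ ≫ m := by
    intro T₀ α₁ α₂ hα
    have hcond : ((AlgSp.yon S).map (pbZι t α₁) ≫ pT) ≫ j =
        (AlgSp.yon S).map (pbT t α₁ ≫ α₂) ≫ c := by
      rw [Category.assoc, hpb.w, ← Category.assoc, ← Functor.map_comp, ← pbT_comm,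
        Functor.map_comp, Category.assoc, hα, Functor.map_comp, Category.assoc]
    apply uext hfu (pbT t α₁) (pbT_fo t α₁ hfo)
    · have e1 : (AlgSp.yon S).map (pbT t α₁) ≫ (AlgSp.yon S).map α₁ ≫ m =
          (AlgSp.yon S).map (pbZι t α₁) ≫ pT ≫ a ≫ i₀ := by
        rw [← Category.assoc, ← Functor.map_comp, pbT_comm, Functor.map_comp, Category.assoc, hm1]
      have e2 : (AlgSp.yon S).map (pbT t α₁) ≫ (AlgSp.yon S).map α₂ ≫ m =
          (AlgSp.yon S).map (pbZι t α₁) ≫ pT ≫ a ≫ i₀ := by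
        rw [← Category.assoc, ← Functor.map_comp, ← hpb.lift_snd _ _ hcond, Category.assoc, hm1,
          ← Category.assoc, hpb.lift_fst, Category.assoc]
      rw [e1, e2]
    · rw [Category.assoc, Category.assoc, hm2, ← Category.assoc, ← Category.assoc, hα]
  obtain ⟨L, hL⟩ := Groth.Agent.Lib.Helper9.ToposLike.exists_desc_of_epi c hc_epi m (by
    intro W' a₁ a₂ ha
    apply hom_ext_yon
    intro T₀ x
    obtain ⟨α₁, hα₁⟩ := (AlgSp.yon S).map_surjective (x ≫ a₁)
    obtain ⟨α₂, hα₂⟩ := (AlgSp.yon S).map_surjective (x ≫ a₂)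
    rw [← Category.assoc, ← Category.assoc, ← hα₁, ← hα₂]
    apply hdesc
    rw [hα₁, hα₂, Category.assoc, Category.assoc, ha])
  have hjL : j ≫ L = a ≫ i₀ := by
    rw [← cancel_epi pT, ← Category.assoc, hpb.w, Category.assoc, hL, hm1]
  have hLf : L ≫ f = b := by
    rw [← cancel_epi c, ← Category.assoc, hL, hm2]
  refine ⟨L, ⟨hjL, hLf⟩, ?_⟩
  rintro L' ⟨h1, h2⟩
  exact Groth.Agent.S10624.uniq_of_foThick f hfu hT' j hj L' L (h1.trans hjL.symm)
    (h2.trans hLf.symm)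

end Groth.Agent.Lib.Seat47.Rel
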