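import Groth.Agent.Lib.Seat47UFO2
import Groth.Agent.S9906

/-!
# Seat47: étale-local construction of relative lifts

* `glue_etale_local`: glue local solutions of a lifting problem over an étale covering of an affine
  first order thickening (the target map being formally unramified).
* `exists_lift_of_etale_cover`: descent of the relative lifting property along an étale surjective
  chart.
-/

set_option autoImplicit false
universe u
open CategoryTheory CategoryTheory.Limits AlgebraicGeometry Opposite TopologicalSpace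
open AlgSp

namespace Groth.Agent.Lib.Seat47.Rel

open Groth.Agent.Lib.Seat47.FEt Groth.Agent.Lib.Seat47.FamSheaf Groth.Agent.Lib.Seat47.FOBC
open Groth.Agent.Lib.Seat47.Thk Groth.Agent.Lib.Seat47.LiftCover
open Groth.Agent.Lib.Helper15

variable {S : Scheme.{u}}

/-- glue local solutions over an étale covering of an affine first order thickening -/
theorem glue_etale_local {G H : AlgSp.Sp S} (b : G ⟶ H) (hbu : AlgSp.IsFormallyUnramifiedMor b)
    {A : Type u} [CommRing A] (I : Ideal A) (hI : I ^ 2 = ⊥) (str : Spec (.of A) ⟶ S)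
    (top : (AlgSp.yon S).obj (pT I str) ⟶ G) (bot : (AlgSp.yon S).obj (pT' A str) ⟶ H)
    (B : ↥(Spec (CommRingCat.of (A ⧸ I))) → CommRingCat.{u})
    (φ : ∀ t, CommRingCat.of A ⟶ B t)
    (hφet : ∀ t, Etale (Spec.map (φ t)))
    (ht : ∀ t, t ∈ Set.range (Spec.map (CommRingCat.ofHom
          (Ideal.quotientMap (I.map (φ t).hom) (φ t).hom Ideal.le_comap_map))))
    (l : ∀ t, (AlgSp.yon S).obj (rW str (φ t).hom) ⟶ G)
    (hl1 : ∀ t, (AlgSp.yon S).map
        (pj (I.map (φ t).hom) (Spec.map (CommRingCat.ofHom (φ t).hom) ≫ str)) ≫ l t =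
      (AlgSp.yon S).map (rρ I str (φ t).hom) ≫ top)
    (hl2 : ∀ t, l t ≫ b = (AlgSp.yon S).map (rg str (φ t).hom) ≫ bot) :
    ∃ L : (AlgSp.yon S).obj (pT' A str) ⟶ G,
      (AlgSp.yon S).map (pj I str) ≫ L = top ∧ L ≫ b = bot := by
  let J := fun t => I.map (φ t).hom
  let Wk := fun t => rW str (φ t).hom
  let Tk := fun t => rT I str (φ t).hom
  let gk : ∀ t, Wk t ⟶ pT' A str := fun t => rg str (φ t).hom
  let ρk : ∀ t, Tk t ⟶ pT I str := fun t => rρ I str (φ t).hom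
  let jk : ∀ t, Tk t ⟶ Wk t := fun t => pj (J t) (Spec.map (CommRingCat.ofHom (φ t).hom) ≫ str)
  have hcomm : ∀ t, jk t ≫ gk t = ρk t ≫ pj I str := fun t => r_comm I str (φ t).hom
  have hfoj : MoreMor.IsFirstOrderThickening (pj I str).left := fo_spec A I hI
  have hstar : ∀ t (Z₀ : Over S) (a₀ : Z₀ ⟶ Wk t) (c₀ : Z₀ ⟶ pT I str),
      a₀ ≫ gk t = c₀ ≫ pj I str → (AlgSp.yon S).map a₀ ≫ l t = (AlgSp.yon S).map c₀ ≫ top := by
    intro t Z₀ a₀ c₀ h
    obtain ⟨u, hu1, hu2⟩ := r_lift I str (φ t).hom a₀ c₀ h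
    rw [← hu1, Functor.map_comp, Category.assoc, hl1 t, ← Category.assoc, ← Functor.map_comp, hu2]
  have hcovW : Sieve.generate (Presieve.ofArrows Wk gk) ∈ AlgSp.J S (pT' A str) := by
    refine generate_ofArrows_mem_J _ _ (fun t => ?_) (fun y => ?_)
    · haveI : Etale (Spec.map (CommRingCat.ofHom (φ t).hom)) := hφet t
      exact ⟨(inferInstance : Flat (Spec.map (CommRingCat.ofHom (φ t).hom))),
        (inferInstance : LocallyOfFinitePresentation (Spec.map (CommRingCat.ofHom (φ t).hom)))⟩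
    · obtain ⟨y₀, rfl⟩ := Groth.Agent.Lib.Helper2.FormalEt.surj_specMap_mk A I hI y
      obtain ⟨z, hz⟩ := ht y₀
      refine ⟨y₀, ⟨Spec.map (CommRingCat.ofHom (Ideal.Quotient.mk (J y₀))) z, ?_⟩⟩
      show (Spec.map (CommRingCat.ofHom (φ y₀).hom))
        (Spec.map (CommRingCat.ofHom (Ideal.Quotient.mk (J y₀))) z) = _
      have h5 := congr($(spec_quot_comm I (φ y₀).hom) z)
      rw [Scheme.Hom.comp_apply, Scheme.Hom.comp_apply, hz] at h5
      exact h5.symm
  have hcovT : Sieve.generate (Presieve.ofArrows Tk ρk) ∈ AlgSp.J S (pT I str) := by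
    refine generate_ofArrows_mem_J _ _ (fun t => ?_) (fun y₀ => ⟨y₀, ht y₀⟩)
    haveI : Etale (Spec.map (CommRingCat.ofHom (φ t).hom)) := hφet t
    haveI : Etale (Spec.map (CommRingCat.ofHom
        (Ideal.quotientMap (I.map (φ t).hom) (φ t).hom Ideal.le_comap_map))) :=
      MorphismProperty.of_isPullback (P := @Etale) (isPullback_quotient (φ t).hom I)
        inferInstance
    exact ⟨(inferInstance : Flat (Spec.map (CommRingCat.ofHom
        (Ideal.quotientMap (I.map (φ t).hom) (φ t).hom Ideal.le_comap_map)))),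
      (inferInstance : LocallyOfFinitePresentation (Spec.map (CommRingCat.ofHom
        (Ideal.quotientMap (I.map (φ t).hom) (φ t).hom Ideal.le_comap_map))))⟩
  obtain ⟨L, hL⟩ := glue Wk gk hcovW l (by
    intro t t' Z' p q hpq
    apply uext hbu (pbT (pj I str) (p ≫ gk t)) (pbT_fo (pj I str) _ hfoj)
    · rw [← Category.assoc, ← Functor.map_comp, ← Category.assoc, ← Functor.map_comp,
        hstar t _ (pbT (pj I str) (p ≫ gk t) ≫ p) (pbZι (pj I str) (p ≫ gk t))
          (by rw [Category.assoc]; exact pbT_comm (pj I str) _),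
        hstar t' _ (pbT (pj I str) (p ≫ gk t) ≫ q) (pbZι (pj I str) (p ≫ gk t))
          (by rw [Category.assoc, ← hpq]; exact pbT_comm (pj I str) _)]
    · rw [Category.assoc, Category.assoc, hl2, hl2, ← Category.assoc, ← Category.assoc,
        ← Functor.map_comp, ← Functor.map_comp, hpq])
  refine ⟨L, ?_, ?_⟩
  · apply sep Tk ρk hcovT
    intro t
    rw [← hl1 t, ← hL t, ← Category.assoc, ← Functor.map_comp, ← hcomm t, Functor.map_comp,
      Category.assoc]
  · apply sep Wk gk hcovW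
    intro t
    rw [← Category.assoc, hL t, hl2 t]

/-- descent of the relative lifting property along an étale surjective chart -/
theorem exists_lift_of_etale_cover {F₀' F' F₀ G H : AlgSp.Sp S}
    (i₀' : F₀' ⟶ F') (i₀ : F₀ ⟶ G) (e₀ : F₀' ⟶ F₀) (e₁ : F' ⟶ G) (b : G ⟶ H)
    (hsq : i₀' ≫ e₁ = e₀ ≫ i₀) (hbu : AlgSp.IsFormallyUnramifiedMor b)
    {Z₂ : Over S} (q : (AlgSp.yon S).obj Z₂ ⟶ F₀') (hqe : AlgSp.RepWith @Etale (q ≫ e₀))
    (hqs : AlgSp.RepWith @Surjective (q ≫ e₀))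
    (HA' : ∀ {A : Type u} [CommRing A] (I : Ideal A) (_ : I ^ 2 = ⊥) (str : Spec (.of A) ⟶ S)
      (a : (AlgSp.yon S).obj (pT I str) ⟶ F₀') (bot : (AlgSp.yon S).obj (pT' A str) ⟶ H),
      (a ≫ i₀') ≫ e₁ ≫ b = (AlgSp.yon S).map (pj I str) ≫ bot →
      ∃ l : (AlgSp.yon S).obj (pT' A str) ⟶ F',
        (AlgSp.yon S).map (pj I str) ≫ l = a ≫ i₀' ∧ l ≫ e₁ ≫ b = bot)
    {A : Type u} [CommRing A] (I : Ideal A) (hI : I ^ 2 = ⊥) (str : Spec (.of A) ⟶ S)
    (a : (AlgSp.yon S).obj (pT I str) ⟶ F₀) (bot : (AlgSp.yon S).obj (pT' A str) ⟶ H)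
    (hcomm0 : (a ≫ i₀) ≫ b = (AlgSp.yon S).map (pj I str) ≫ bot) :
    ∃ l : (AlgSp.yon S).obj (pT' A str) ⟶ G,
      (AlgSp.yon S).map (pj I str) ≫ l = a ≫ i₀ ∧ l ≫ b = bot := by
  obtain ⟨E, e, pF, hpb⟩ := hqe.1 a
  haveI : Etale e.left := hqe.2 a pF e hpb
  haveI : Surjective e.left := hqs.2 a pF e hpb
  have hloc : ∀ t : ↥(Spec (CommRingCat.of (A ⧸ I))),
      ∃ (B : CommRingCat.{u}) (φ : CommRingCat.of A ⟶ B), Etale (Spec.map φ) ∧
      (∃ σ : Spec (.of (B ⧸ I.map φ.hom)) ⟶ E.left,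
        σ ≫ e.left = Spec.map (CommRingCat.ofHom
          (Ideal.quotientMap (I.map φ.hom) φ.hom Ideal.le_comap_map))) ∧
      (t ∈ Set.range (Spec.map (CommRingCat.ofHom
          (Ideal.quotientMap (I.map φ.hom) φ.hom Ideal.le_comap_map)))) := by
    intro t
    obtain ⟨x, rfl⟩ := e.left.surjective t
    exact exists_etale_lift_nhd' I hI e.left x
  choose B φ hφet hσ ht using hloc
  choose σ hσ using hσ
  let J := fun t => I.map (φ t).hom
  have hJ : ∀ t, J t ^ 2 = ⊥ := fun t => r_sq_zero I (φ t).hom hI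
  let Wk := fun t => rW str (φ t).hom
  let Tk := fun t => rT I str (φ t).hom
  let gk : ∀ t, Wk t ⟶ pT' A str := fun t => rg str (φ t).hom
  let ρk : ∀ t, Tk t ⟶ pT I str := fun t => rρ I str (φ t).hom
  let jk : ∀ t, Tk t ⟶ Wk t := fun t => pj (J t) (Spec.map (CommRingCat.ofHom (φ t).hom) ≫ str)
  have hcomm : ∀ t, jk t ≫ gk t = ρk t ≫ pj I str := fun t => r_comm I str (φ t).hom
  let sk : ∀ t, Tk t ⟶ E := fun t => Over.homMk (σ t) (by
    show σ t ≫ E.hom = (Tk t).hom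
    rw [← Over.w e, ← Category.assoc, hσ t]
    exact Over.w (ρk t))
  have hsk : ∀ t, sk t ≫ e = ρk t := fun t => Over.OverMorphism.ext (hσ t)
  have hm : ∀ t, ∃ m : (AlgSp.yon S).obj (Wk t) ⟶ F',
      (AlgSp.yon S).map (jk t) ≫ m = ((AlgSp.yon S).map (sk t) ≫ pF ≫ q) ≫ i₀' ∧
      m ≫ e₁ ≫ b = (AlgSp.yon S).map (gk t) ≫ bot := by
    intro t
    exact HA' (J t) (hJ t) (Spec.map (CommRingCat.ofHom (φ t).hom) ≫ str)
      ((AlgSp.yon S).map (sk t) ≫ pF ≫ q) ((AlgSp.yon S).map (gk t) ≫ bot) (by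
        calc (((AlgSp.yon S).map (sk t) ≫ pF ≫ q) ≫ i₀') ≫ e₁ ≫ b
            = (AlgSp.yon S).map (sk t) ≫ (pF ≫ q ≫ e₀) ≫ i₀ ≫ b := by
              simp only [Category.assoc]
              rw [← Category.assoc i₀', hsq, Category.assoc]
          _ = (AlgSp.yon S).map (sk t) ≫ ((AlgSp.yon S).map e ≫ a) ≫ i₀ ≫ b := by rw [hpb.w]
          _ = (AlgSp.yon S).map (sk t ≫ e) ≫ (a ≫ i₀) ≫ b := by
              rw [Functor.map_comp]; simp only [Category.assoc]
          _ = (AlgSp.yon S).map (ρk t ≫ pj I str) ≫ bot := by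
              rw [hsk t, hcomm0, Functor.map_comp, Category.assoc]
          _ = (AlgSp.yon S).map (jk t) ≫ (AlgSp.yon S).map (gk t) ≫ bot := by
              rw [← hcomm t, Functor.map_comp, Category.assoc])
  choose m hm1 hm2 using hm
  refine glue_etale_local b hbu I hI str (a ≫ i₀) bot B φ hφet ht (fun t => m t ≫ e₁) ?_ ?_
  · intro t
    calc (AlgSp.yon S).map (jk t) ≫ m t ≫ e₁
        = (((AlgSp.yon S).map (sk t) ≫ pF ≫ q) ≫ i₀') ≫ e₁ := by
          rw [← Category.assoc, hm1 t]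
      _ = (AlgSp.yon S).map (sk t) ≫ (pF ≫ q ≫ e₀) ≫ i₀ := by
          simp only [Category.assoc]
          rw [hsq]
      _ = (AlgSp.yon S).map (sk t) ≫ ((AlgSp.yon S).map e ≫ a) ≫ i₀ := by rw [hpb.w]
      _ = (AlgSp.yon S).map (sk t ≫ e) ≫ a ≫ i₀ := by
          rw [Functor.map_comp]; simp only [Category.assoc]
      _ = (AlgSp.yon S).map (rρ I str (φ t).hom) ≫ a ≫ i₀ := by rw [hsk t]
  · intro t
    rw [Category.assoc, hm2 t]

end Groth.Agent.Lib.Seat47.Rel
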