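import Mathlib
import Groth.Prelude.Def_Curv2
import Groth.Prelude.Def_AlgSpDec

/-!
# Seat47: `Spec κ(x) ⟶ X ⟶ Spec k` is `Spec` of `Curv2.resMap`
-/

set_option autoImplicit false
universe u
open CategoryTheory CategoryTheory.Limits AlgebraicGeometry Opposite

namespace Groth.Agent.Lib.Seat47.ResMap

theorem fromSpecResidueField_comp (k : Type u) [Field k] (X : Scheme.{u})
    [X.Over (Spec (CommRingCat.of k))] (x : X) :
    X.fromSpecResidueField x ≫ (X ↘ Spec (CommRingCat.of k)) =
      Spec.map (CommRingCat.ofHom (Curv2.resMap k X x)) := by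
  apply ext_of_isAffine
  have hφ : CommRingCat.ofHom (Curv2.resMap k X x) =
      (Scheme.ΓSpecIso (CommRingCat.of k)).inv ≫ (X ↘ Spec (CommRingCat.of k)).appTop ≫
        X.presheaf.germ ⊤ x trivial ≫ X.residue x := rfl
  rw [hφ]
  simp only [Scheme.Hom.comp_appTop, Scheme.fromSpecResidueField, Scheme.fromSpecStalk_appTop,
    Category.assoc]
  rw [← cancel_epi (Scheme.ΓSpecIso (CommRingCat.of k)).inv, ← Scheme.ΓSpecIso_inv_naturality]
  simp only [Category.assoc]
  congr 3
  rw [Scheme.ΓSpecIso_inv_naturality]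
  congr 1

/-- a field point with the same field and an equal structure morphism. -/
theorem exists_val_of_str_eq {S : Scheme.{u}} {F : AlgSp.Sp S} (q : AlgSp.FieldPt F)
    (str' : Spec (CommRingCat.of q.K) ⟶ S) (h : str' = q.str) :
    ∃ v, AlgSp.Points.mk (⟨q.K, str', v⟩ : AlgSp.FieldPt F) = AlgSp.Points.mk q := by
  subst h
  exact ⟨q.val, rfl⟩

end Groth.Agent.Lib.Seat47.ResMap
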