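import Mathlib
import Groth.Prelude.Def_AlgSpInf
import Groth.Agent.Lib.Helper12OpenSub2
import Groth.Agent.S9928
import Groth.Agent.S9874
import Groth.Agent.S10174

/-!
# Topological properties and morphisms of thickenings of algebraic spaces (seat 47)

* `mono_of_thick`: a thickening is a monomorphism of sheaves.
* `HomeoLike`, `homeoLike_of_thick`: thickenings are homeomorphisms on points.
* `transfer`: a commutative square whose horizontal maps are homeomorphisms on points transfers topological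
  properties of the vertical maps.
* `exists_square_of_target` / `exists_square_of_source`: base changes of `f'` and of `f` (for a morphism of
  thickenings `(f, f')`) are related by such squares.
-/

set_option autoImplicit false
universe u
open CategoryTheory CategoryTheory.Limits AlgebraicGeometry

namespace Groth.Agent.Lib.Seat47.ThickTop

variable {S : Scheme.{u}}

theorem mono_of_thick {F G : AlgSp.Sp S} (i : F ⟶ G) (hi : AlgSp.IsThickMor i) : Mono i :=
  Groth.Agent.S9928.mono_of_repWith AlgSp.thick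
    (fun _ _ g hg => by haveI : IsClosedImmersion g := hg.1; infer_instance) i hi

/-- bijective, continuous and open on points -/
def HomeoLike {F G : AlgSp.Sp S} (m : F ⟶ G) : Prop :=
  Function.Bijective (AlgSp.Points.map m) ∧ IsOpenMap (AlgSp.Points.map m)

theorem homeoLike_of_thick {F G : AlgSp.Sp S} (i : F ⟶ G) (hi : AlgSp.IsThickMor i) : HomeoLike i :=
  Groth.Agent.Lib.Helper12.OpenSub.thick_points i hi

theorem homeoLike_id (F : AlgSp.Sp S) : HomeoLike (𝟙 F) := by
  have : AlgSp.Points.map (𝟙 F) = id := funext fun x => AlgSp.Points.map_id x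
  refine ⟨?_, ?_⟩
  · rw [this]; exact Function.bijective_id
  · rw [this]; exact IsOpenMap.id

noncomputable def HomeoLike.homeo {F G : AlgSp.Sp S} {m : F ⟶ G} (h : HomeoLike m) :
    AlgSp.Points F ≃ₜ AlgSp.Points G :=
  (Equiv.ofBijective _ h.1).toHomeomorphOfContinuousOpen (AlgSp.Points.continuous_map m) h.2

@[simp] theorem HomeoLike.homeo_apply {F G : AlgSp.Sp S} {m : F ⟶ G} (h : HomeoLike m) (x : AlgSp.Points F) :
    h.homeo x = AlgSp.Points.map m x := rfl

/-- transfer of a property of maps stable under composition with homeomorphisms -/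
theorem transfer (Q : ∀ {A B : Type (u + 1)} [TopologicalSpace A] [TopologicalSpace B], (A → B) → Prop)
    (hcomp : ∀ {A B C : Type (u + 1)} [TopologicalSpace A] [TopologicalSpace B] [TopologicalSpace C]
      (f : A → B) (g : B → C), Q f → Q g → Q (g ∘ f))
    (hhomeo : ∀ {A B : Type (u + 1)} [TopologicalSpace A] [TopologicalSpace B] (e : A ≃ₜ B), Q e)
    {P P' Z Z' : AlgSp.Sp S} {m : P ⟶ P'} {k : Z ⟶ Z'} {s : P ⟶ Z} {s' : P' ⟶ Z'}
    (hm : HomeoLike m) (hk : HomeoLike k) (w : m ≫ s' = s ≫ k) :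
    Q (AlgSp.Points.map s) ↔ Q (AlgSp.Points.map s') := by
  have hw : ∀ x, AlgSp.Points.map s' (hm.homeo x) = hk.homeo (AlgSp.Points.map s x) := by
    intro x
    rw [HomeoLike.homeo_apply, HomeoLike.homeo_apply, ← AlgSp.Points.map_comp, w, AlgSp.Points.map_comp]
  constructor
  · intro h
    have e : AlgSp.Points.map s' = hk.homeo ∘ AlgSp.Points.map s ∘ hm.homeo.symm := by
      funext y
      obtain ⟨x, rfl⟩ := hm.homeo.surjective y
      simp only [Function.comp_apply, Homeomorph.symm_apply_apply]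
      exact hw x
    rw [e]
    exact hcomp _ _ (hcomp _ _ (hhomeo _) h) (hhomeo _)
  · intro h
    have e : AlgSp.Points.map s = hk.homeo.symm ∘ AlgSp.Points.map s' ∘ hm.homeo := by
      funext x
      simp only [Function.comp_apply]
      rw [hw, Homeomorph.symm_apply_apply]
    rw [e]
    exact hcomp _ _ (hcomp _ _ (hhomeo _) h) (hhomeo _)

theorem transfer_surjective {P P' Z Z' : AlgSp.Sp S} {m : P ⟶ P'} {k : Z ⟶ Z'} {s : P ⟶ Z} {s' : P' ⟶ Z'}
    (hm : HomeoLike m) (hk : HomeoLike k) (w : m ≫ s' = s ≫ k) :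
    Function.Surjective (AlgSp.Points.map s) ↔ Function.Surjective (AlgSp.Points.map s') :=
  transfer (fun f => Function.Surjective f) (fun _ _ hf hg => hg.comp hf) (fun e => e.surjective) hm hk w

theorem transfer_injective {P P' Z Z' : AlgSp.Sp S} {m : P ⟶ P'} {k : Z ⟶ Z'} {s : P ⟶ Z} {s' : P' ⟶ Z'}
    (hm : HomeoLike m) (hk : HomeoLike k) (w : m ≫ s' = s ≫ k) :
    Function.Injective (AlgSp.Points.map s) ↔ Function.Injective (AlgSp.Points.map s') :=
  transfer (fun f => Function.Injective f) (fun _ _ hf hg => hg.comp hf) (fun e => e.injective) hm hk w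

theorem transfer_open {P P' Z Z' : AlgSp.Sp S} {m : P ⟶ P'} {k : Z ⟶ Z'} {s : P ⟶ Z} {s' : P' ⟶ Z'}
    (hm : HomeoLike m) (hk : HomeoLike k) (w : m ≫ s' = s ≫ k) :
    IsOpenMap (AlgSp.Points.map s) ↔ IsOpenMap (AlgSp.Points.map s') :=
  transfer (fun f => IsOpenMap f) (fun _ _ hf hg => hg.comp hf) (fun e => e.isOpenMap) hm hk w

theorem transfer_closed {P P' Z Z' : AlgSp.Sp S} {m : P ⟶ P'} {k : Z ⟶ Z'} {s : P ⟶ Z} {s' : P' ⟶ Z'}
    (hm : HomeoLike m) (hk : HomeoLike k) (w : m ≫ s' = s ≫ k) :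
    IsClosedMap (AlgSp.Points.map s) ↔ IsClosedMap (AlgSp.Points.map s') :=
  transfer (fun f => IsClosedMap f) (fun _ _ hf hg => hg.comp hf) (fun e => e.isClosedMap) hm hk w

/-- compactness of the space of points along a homeomorphism on points -/
theorem compactSpace_iff {P P' : AlgSp.Sp S} {m : P ⟶ P'} (hm : HomeoLike m) :
    CompactSpace (AlgSp.Points P) ↔ CompactSpace (AlgSp.Points P') :=
  ⟨fun _ => hm.homeo.compactSpace, fun _ => hm.homeo.symm.compactSpace⟩

section Squares

variable {X X' Y Y' : AlgSp.Sp S} (i : X ⟶ X') (j : Y ⟶ Y') (f : X ⟶ Y) (f' : X' ⟶ Y')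

/-- pasting a pullback square with a monomorphism -/
theorem isPullback_comp_mono {P Z : AlgSp.Sp S} {fst : P ⟶ X} {snd : P ⟶ Z} {g : Z ⟶ Y}
    (sq : IsPullback fst snd f g) [Mono j] : IsPullback fst snd (f ≫ j) (g ≫ j) := by
  have h2 : IsPullback g (𝟙 Z) j (g ≫ j) :=
    (Groth.Agent.Lib.Helper12.LargestOpen.isPullback_id_of_mono g j).flip
  have := sq.paste_vert h2
  rwa [Category.comp_id] at this

/-- base change of `f'` along `g' : Z ⟶ Y'` compared with the base change of `f` along `Z ×_{Y'} Y ⟶ Y`: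
the comparison maps are thickenings. -/
theorem exists_square_of_target (hi : AlgSp.IsThickMor i) (hj : AlgSp.IsThickMor j)
    (w : i ≫ f' = f ≫ j) {Z P' : AlgSp.Sp S} (g' : Z ⟶ Y') (fst' : P' ⟶ X') (snd' : P' ⟶ Z)
    (sq' : IsPullback fst' snd' f' g') :
    ∃ (Z₀ P₀ : AlgSp.Sp S) (k : Z₀ ⟶ Z) (g₀ : Z₀ ⟶ Y) (fst₀ : P₀ ⟶ X) (snd₀ : P₀ ⟶ Z₀) (m : P₀ ⟶ P'),
      IsPullback k g₀ g' j ∧ IsPullback fst₀ snd₀ f g₀ ∧ AlgSp.IsThickMor k ∧ AlgSp.IsThickMor m ∧
        m ≫ snd' = snd₀ ≫ k ∧ IsPullback m fst₀ fst' i := by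
  have sqZ := IsPullback.of_hasPullback g' j
  have sqP := IsPullback.of_hasPullback f (pullback.snd g' j)
  have hk : AlgSp.IsThickMor (pullback.fst g' j) :=
    MorphismProperty.of_isPullback (P := AlgSp.RepWith AlgSp.thick) sqZ.flip hj
  have hw : (pullback.fst f (pullback.snd g' j) ≫ i) ≫ f' =
      (pullback.snd f (pullback.snd g' j) ≫ pullback.fst g' j) ≫ g' := by
    rw [Category.assoc, w, ← Category.assoc, sqP.w, Category.assoc, Category.assoc, sqZ.w]
  have hm1 : sq'.lift _ _ hw ≫ fst' = pullback.fst f (pullback.snd g' j) ≫ i := sq'.lift_fst _ _ hw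
  have hm2 : sq'.lift _ _ hw ≫ snd' = pullback.snd f (pullback.snd g' j) ≫ pullback.fst g' j :=
    sq'.lift_snd _ _ hw
  -- outer rectangle
  have outer : IsPullback (pullback.fst f (pullback.snd g' j))
      (pullback.snd f (pullback.snd g' j) ≫ pullback.fst g' j) (f ≫ j) g' :=
    sqP.paste_vert sqZ.flip
  rw [← w] at outer
  have left : IsPullback (sq'.lift _ _ hw) (pullback.fst f (pullback.snd g' j)) fst' i := by
    refine IsPullback.of_right ?_ hm1 sq'.flip
    rw [hm2]
    exact outer.flip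
  exact ⟨_, _, _, _, _, _, sq'.lift _ _ hw, sqZ, sqP, hk,
    MorphismProperty.of_isPullback (P := AlgSp.RepWith AlgSp.thick) left.flip hi, hm2, left⟩

/-- base change of `f` along `g : Z ⟶ Y` compared with the base change of `f'` along `g ≫ j`. -/
theorem exists_square_of_source (hi : AlgSp.IsThickMor i) (hj : AlgSp.IsThickMor j)
    (w : i ≫ f' = f ≫ j) {Z P : AlgSp.Sp S} (g : Z ⟶ Y) (fst : P ⟶ X) (snd : P ⟶ Z)
    (sq : IsPullback fst snd f g) :
    ∃ (P' : AlgSp.Sp S) (fst' : P' ⟶ X') (snd' : P' ⟶ Z) (m : P ⟶ P'),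
      IsPullback fst' snd' f' (g ≫ j) ∧ AlgSp.IsThickMor m ∧ m ≫ snd' = snd ∧ IsPullback m fst fst' i := by
  haveI := mono_of_thick j hj
  have sq' := IsPullback.of_hasPullback f' (g ≫ j)
  have hw : (fst ≫ i) ≫ f' = snd ≫ g ≫ j := by
    rw [Category.assoc, w, ← Category.assoc, sq.w, Category.assoc]
  have hm1 : sq'.lift _ _ hw ≫ pullback.fst f' (g ≫ j) = fst ≫ i := sq'.lift_fst _ _ hw
  have hm2 : sq'.lift _ _ hw ≫ pullback.snd f' (g ≫ j) = snd := sq'.lift_snd _ _ hw
  have outer : IsPullback fst snd (f ≫ j) (g ≫ j) := isPullback_comp_mono j f sq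
  rw [← w] at outer
  have left : IsPullback (sq'.lift _ _ hw) fst (pullback.fst f' (g ≫ j)) i := by
    refine IsPullback.of_right ?_ hm1 sq'.flip
    rw [hm2]
    exact outer.flip
  exact ⟨_, _, _, sq'.lift _ _ hw, sq',
    MorphismProperty.of_isPullback (P := AlgSp.RepWith AlgSp.thick) left.flip hi, hm2, left⟩

end Squares

end Groth.Agent.Lib.Seat47.ThickTop
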