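import Groth.Agent.Lib.Seat47FOBC

/-!
# Seat47: tools for universal first order thickenings

* `fo_iso_comp`, `fo_spec_surj`: first order thickenings of affine schemes from surjective ring maps
  with square zero kernel.
* `isFOThickMor_yon_map`: a first order thickening of schemes over `S` is a first order thickening
  of sheaves.
* `closedImm_normalForm`: closed immersions into `Spec A`.
-/

set_option autoImplicit false
universe u
open CategoryTheory CategoryTheory.Limits AlgebraicGeometry TopologicalSpace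
open AlgSp

namespace Groth.Agent.Lib.Seat47.UFO

open Groth.Agent.Lib.Seat47.FEt Groth.Agent.Lib.Seat47.Thk Groth.Agent.Lib.Seat47.FOBC

/-- a first order thickening precomposed with an isomorphism of the source -/
theorem fo_iso_comp {Z Z' W : Scheme.{u}} (t : Z ⟶ W) (ht : MoreMor.IsFirstOrderThickening t)
    (e : Z' ≅ Z) : MoreMor.IsFirstOrderThickening (e.hom ≫ t) := by
  refine fo_baseChange (e.hom ≫ t) t e.hom (𝟙 W) ht ?_
  exact IsPullback.of_vert_isIso ⟨by simp⟩

/-- `Spec B ⟶ Spec A` for a surjective ring map `A → B` with square zero kernel is a first order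
thickening. -/
theorem fo_spec_surj {A B : Type u} [CommRing A] [CommRing B] (φ : A →+* B)
    (hφ : Function.Surjective φ) (hk : RingHom.ker φ ^ 2 = ⊥) :
    MoreMor.IsFirstOrderThickening (Spec.map (CommRingCat.ofHom φ)) := by
  let e : (A ⧸ RingHom.ker φ) ≃+* B := RingHom.quotientKerEquivOfSurjective hφ
  have hfac : CommRingCat.ofHom φ =
      CommRingCat.ofHom (Ideal.Quotient.mk (RingHom.ker φ)) ≫ (e.toCommRingCatIso).hom := by
    ext x
    rfl
  rw [hfac, Spec.map_comp]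
  exact fo_iso_comp _ (fo_spec A (RingHom.ker φ) hk) (Scheme.Spec.mapIso (e.toCommRingCatIso).op)

variable {S : Scheme.{u}}

/-- a first order thickening of schemes over `S` gives a first order thickening of sheaves -/
theorem isFOThickMor_yon_map {Z W : Over S} (t : Z ⟶ W)
    (ht : MoreMor.IsFirstOrderThickening t.left) : AlgSp.IsFOThickMor ((AlgSp.yon S).map t) := by
  refine ⟨(AlgSp.repWith_yon_map_iff AlgSp.thick t).2 ht.1, ?_⟩
  intro V Wv b fst snd hV hb hpb
  obtain ⟨b', rfl⟩ := (AlgSp.yon S).map_surjective b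
  obtain ⟨fst', rfl⟩ := (AlgSp.yon S).map_surjective fst
  have h1 : IsPullback fst' snd t b' := IsPullback.of_map (AlgSp.yon S) (by
    apply (AlgSp.yon S).map_injective
    rw [Functor.map_comp, Functor.map_comp]
    exact hpb.w) hpb
  have h2 : IsPullback fst'.left snd.left t.left b'.left := h1.map (Over.forget S)
  exact (fo_baseChange snd.left t.left fst'.left b'.left ht h2.flip).2

/-- the closed immersion `Spec (A ⧸ I') ⟶ Spec (A ⧸ I)` over `S` for `I ≤ I'` -/
noncomputable def pf {A : Type u} [CommRing A] {I I' : Ideal A} (H : I ≤ I')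
    (str : Spec (.of A) ⟶ S) : pT I' str ⟶ pT I str :=
  Over.homMk (Spec.map (CommRingCat.ofHom (Ideal.Quotient.factor H))) (by
    show Spec.map (CommRingCat.ofHom (Ideal.Quotient.factor H)) ≫
        Spec.map (CommRingCat.ofHom (Ideal.Quotient.mk I)) ≫ str =
      Spec.map (CommRingCat.ofHom (Ideal.Quotient.mk I')) ≫ str
    rw [← Category.assoc, ← Spec.map_comp, ← CommRingCat.ofHom_comp, Ideal.Quotient.factor_comp_mk])

lemma pf_pj {A : Type u} [CommRing A] {I I' : Ideal A} (H : I ≤ I') (str : Spec (.of A) ⟶ S) :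
    pf H str ≫ pj I str = pj I' str := by
  apply Over.OverMorphism.ext
  show Spec.map (CommRingCat.ofHom (Ideal.Quotient.factor H)) ≫
      Spec.map (CommRingCat.ofHom (Ideal.Quotient.mk I)) =
    Spec.map (CommRingCat.ofHom (Ideal.Quotient.mk I'))
  rw [← Spec.map_comp, ← CommRingCat.ofHom_comp, Ideal.Quotient.factor_comp_mk]

lemma pf_pf {A : Type u} [CommRing A] {I I' I'' : Ideal A} (H : I ≤ I') (H' : I' ≤ I'')
    (str : Spec (.of A) ⟶ S) : pf H' str ≫ pf H str = pf (H.trans H') str := by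
  apply Over.OverMorphism.ext
  show Spec.map (CommRingCat.ofHom (Ideal.Quotient.factor H')) ≫
      Spec.map (CommRingCat.ofHom (Ideal.Quotient.factor H)) =
    Spec.map (CommRingCat.ofHom (Ideal.Quotient.factor (H.trans H')))
  rw [← Spec.map_comp, ← CommRingCat.ofHom_comp, Ideal.Quotient.factor_comp]

lemma pf_fo {A : Type u} [CommRing A] {I I' : Ideal A} (H : I ≤ I') (H2 : I' ^ 2 ≤ I)
    (str : Spec (.of A) ⟶ S) : MoreMor.IsFirstOrderThickening (pf H str).left := by
  show MoreMor.IsFirstOrderThickening (Spec.map (CommRingCat.ofHom (Ideal.Quotient.factor H)))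
  apply fo_spec_surj _ (Ideal.Quotient.factor_surjective H)
  rw [Ideal.Quotient.factor_ker, ← Ideal.map_pow, eq_bot_iff]
  calc Ideal.map (Ideal.Quotient.mk I) (I' ^ 2) ≤ Ideal.map (Ideal.Quotient.mk I) I :=
        Ideal.map_mono H2
    _ = ⊥ := Ideal.map_quotient_self I
    _ ≤ _ := le_rfl

lemma sup_sq_le {A : Type u} [CommRing A] (J K : Ideal A) (hJ : J ^ 2 = ⊥) (hK : K ^ 2 = ⊥) :
    (J ⊔ K) ^ 2 ≤ J * K := by
  rw [pow_two] at *
  rw [Ideal.sup_mul, Ideal.mul_sup, Ideal.mul_sup, hJ, hK, bot_sup_eq, sup_bot_eq, mul_comm K J,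
    sup_idem]

/-- the second structure morphism of a universal first order thickening `(i, h')` is formally
unramified (formal unramifiedness of `h` is not needed). -/
theorem unramified_of_univFOThick {Z Z' X : AlgSp.Sp S} (hZ' : AlgSp.IsAlgSpace Z') (h : Z ⟶ X)
    (i : Z ⟶ Z') (h' : Z' ⟶ X) (HU : AlgSp.IsUnivFOThick h i h') :
    AlgSp.IsFormallyUnramifiedMor h' := by
  obtain ⟨hi, hcomp, HU⟩ := HU
  intro sq l l' hl1 hl2 hl'1 hl'2
  -- the pullback of `i` along `l`
  obtain ⟨T₁, t₁, a₁, hpb₁⟩ := hi.1.1 l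
  have hfo₁ : AlgSp.IsFOThickMor ((AlgSp.yon S).map t₁) := isFOThickMor_of_isPullback hpb₁ hi hZ'
  have haff : IsAffine sq.ptT'.left := by
    show IsAffine (Spec (.of sq.A)); infer_instance
  have hfo₁' : MoreMor.IsFirstOrderThickening t₁.left :=
    AlgSp.isFirstOrderThickening_of_isFOThickMor_yon_map haff hfo₁
  let t₁l : T₁.left ⟶ Spec (.of sq.A) := t₁.left
  haveI : IsClosedImmersion t₁l := hfo₁'.1.1
  obtain ⟨K, e, he⟩ := IsClosedImmersion.Spec_iff.1 (inferInstance : IsClosedImmersion t₁l)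
  have hK : K ^ 2 = ⊥ := by
    apply sq_zero_of_spec
    have h2 : t₁l.ker * t₁l.ker = ⊥ := hfo₁'.2
    rw [he, Scheme.Hom.ker_comp_of_isIso] at h2
    exact h2
  have hJ : sq.I ^ 2 = ⊥ := sq.sq_zero
  -- `Spec (A ⧸ K)` maps to `Z`
  have hε : e.inv ≫ T₁.hom = (pT K sq.str).hom := by
    show e.inv ≫ T₁.hom = Spec.map (CommRingCat.ofHom (Ideal.Quotient.mk K)) ≫ sq.str
    have := Over.w t₁
    have h3 : t₁l ≫ sq.str = T₁.hom := this
    rw [← h3, he, Category.assoc, Iso.inv_hom_id_assoc]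
  let ε : pT K sq.str ⟶ T₁ := Over.homMk e.inv hε
  have hεt : ε ≫ t₁ = pj K sq.str := by
    apply Over.OverMorphism.ext
    show e.inv ≫ t₁l = Spec.map (CommRingCat.ofHom (Ideal.Quotient.mk K))
    rw [he, Iso.inv_hom_id_assoc]
  let a₁' : (AlgSp.yon S).obj (pT K sq.str) ⟶ Z := (AlgSp.yon S).map ε ≫ a₁
  have ha₁' : a₁' ≫ i = (AlgSp.yon S).map (pj K sq.str) ≫ l := by
    show ((AlgSp.yon S).map ε ≫ a₁) ≫ i = _
    rw [Category.assoc, hpb₁.w, ← Category.assoc, ← Functor.map_comp, hεt]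
  -- the auxiliary thickenings
  have HJK_J : sq.I * K ≤ sq.I := Ideal.mul_le_left
  have HJK_K : sq.I * K ≤ K := Ideal.mul_le_right
  have HJ_S : sq.I ≤ sq.I ⊔ K := le_sup_left
  have HK_S : K ≤ sq.I ⊔ K := le_sup_right
  have HJK_S : sq.I * K ≤ sq.I ⊔ K := HJK_J.trans HJ_S
  have hj_eq : pj sq.I sq.str = sq.j := rfl
  -- Step 1: `l` and `l'` agree on `T'' = Spec (A ⧸ J K)`
  have step1 : (AlgSp.yon S).map (pj (sq.I * K) sq.str) ≫ l =
      (AlgSp.yon S).map (pj (sq.I * K) sq.str) ≫ l' := by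
    have hfo₀ : AlgSp.IsFOThickMor ((AlgSp.yon S).map (pf HJK_S sq.str)) :=
      isFOThickMor_yon_map _ (pf_fo HJK_S (sup_sq_le sq.I K hJ hK) sq.str)
    let a₀ : (AlgSp.yon S).obj (pT (sq.I ⊔ K) sq.str) ⟶ Z := (AlgSp.yon S).map (pf HK_S sq.str) ≫ a₁'
    let b₀ : (AlgSp.yon S).obj (pT (sq.I * K) sq.str) ⟶ X :=
      (AlgSp.yon S).map (pj (sq.I * K) sq.str) ≫ sq.bot
    have e1 : (AlgSp.yon S).map (pf HJK_S sq.str) ≫ (AlgSp.yon S).map (pj (sq.I * K) sq.str) ≫ l =
        a₀ ≫ i := by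
      show _ = ((AlgSp.yon S).map (pf HK_S sq.str) ≫ a₁') ≫ i
      rw [Category.assoc, ha₁', ← Category.assoc, ← Functor.map_comp, pf_pj, ← Category.assoc,
        ← Functor.map_comp, pf_pj]
    have e2 : (AlgSp.yon S).map (pf HJK_S sq.str) ≫ (AlgSp.yon S).map (pj (sq.I * K) sq.str) ≫ l' =
        a₀ ≫ i := by
      rw [← e1, ← Category.assoc, ← Functor.map_comp, pf_pj, ← Category.assoc,
        ← Functor.map_comp, pf_pj, ← pf_pj HJ_S, Functor.map_comp, Category.assoc, Category.assoc,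
        hj_eq, hl1, hl'1]
    have hc : (AlgSp.yon S).map (pf HJK_S sq.str) ≫ b₀ = a₀ ≫ h := by
      show (AlgSp.yon S).map (pf HJK_S sq.str) ≫ (AlgSp.yon S).map (pj (sq.I * K) sq.str) ≫ sq.bot = _
      rw [← hl2, ← Category.assoc, ← Category.assoc, Category.assoc ((AlgSp.yon S).map _), e1,
        Category.assoc, hcomp]
    obtain ⟨c, -, hcu⟩ := HU (AlgSp.IsAlgSpace.yon_obj _) (AlgSp.IsAlgSpace.yon_obj _)
      ((AlgSp.yon S).map (pf HJK_S sq.str)) a₀ b₀ hfo₀ hc
    rw [hcu _ ⟨e1, by rw [Category.assoc, hl2]⟩, hcu _ ⟨e2, by rw [Category.assoc, hl'2]⟩]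
  -- Step 2
  have hfoK : AlgSp.IsFOThickMor ((AlgSp.yon S).map (pj K sq.str)) :=
    isFOThickMor_yon_map _ (fo_spec sq.A K hK)
  have e1 : (AlgSp.yon S).map (pj K sq.str) ≫ l = a₁' ≫ i := ha₁'.symm
  have e2 : (AlgSp.yon S).map (pj K sq.str) ≫ l' = a₁' ≫ i := by
    rw [ha₁', ← pf_pj HJK_K, Functor.map_comp, Category.assoc, Category.assoc, step1]
  have hc : (AlgSp.yon S).map (pj K sq.str) ≫ sq.bot = a₁' ≫ h := by
    rw [← hl2, ← Category.assoc, e1, Category.assoc, hcomp]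
  obtain ⟨c, -, hcu⟩ := HU (AlgSp.IsAlgSpace.yon_obj _) (AlgSp.IsAlgSpace.yon_obj _)
    ((AlgSp.yon S).map (pj K sq.str)) a₁' sq.bot hfoK hc
  rw [hcu _ ⟨e1, hl2⟩, hcu _ ⟨e2, hl'2⟩]

end Groth.Agent.Lib.Seat47.UFO
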