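import Mathlib
import Groth.Agent.Lib.Helper22Amitsur

/-!
# Faithfully flat descent for finite families (seat 48)

Namespace `Groth.Agent.Lib.Seat48.BCAlg`.  Pure commutative algebra, used for the base change
theorem for quasi-coherent modules on the small etale site.

* `eq_zero_of_one_tmul_eq_zero`: for a finite family of `A`-algebras `B k` whose product is faithfully
  flat, an element `x` of an `A`-module with `1 ⊗ x = 0` in every `B k ⊗ N` is zero.
* `exists_of_compatible`: descent of elements (degree zero Amitsur exactness for a finite family).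
-/

set_option autoImplicit false

namespace Groth.Agent.Lib.Seat48.BCAlg

open TensorProduct

universe uA uB uN

variable {A : Type uA} [CommRing A] {ι : Type} [Fintype ι] [DecidableEq ι]
  {B : ι → Type uB} [∀ k, CommRing (B k)] [∀ k, Algebra A (B k)]

/-- jointly faithful: an element killed by all `1 ⊗ -` is zero. -/
theorem eq_zero_of_one_tmul_eq_zero [Module.FaithfullyFlat A (∀ k, B k)]
    {N : Type uN} [AddCommGroup N] [Module A N] (x : N)
    (h : ∀ k, (1 : B k) ⊗ₜ[A] x = 0) : x = 0 := by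
  apply Module.FaithfullyFlat.tensorProduct_mk_injective (A := A) (B := ∀ k, B k) N
  rw [map_zero]
  change (1 : ∀ k, B k) ⊗ₜ[A] x = 0
  have h1 : (1 : ∀ k, B k) = ∑ k, Pi.single k (1 : B k) := by
    rw [Finset.univ_sum_single]
    rfl
  rw [h1, TensorProduct.sum_tmul]
  apply Finset.sum_eq_zero
  intro k _
  have h2 : (Pi.single k (1 : B k) : ∀ k, B k) ⊗ₜ[A] x =
      LinearMap.rTensor N (LinearMap.single A B k) ((1 : B k) ⊗ₜ[A] x) := by
    rw [LinearMap.rTensor_tmul]
    rfl
  rw [h2, h k, map_zero]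

section Descent

variable {N : Type uN} [AddCommGroup N] [Module A N]

/-- the map `(B k ⊗ B l) ⊗ N → P ⊗ (P ⊗ N)` induced by the two inclusions into the product `P`. -/
noncomputable def psi (B : ι → Type uB) [∀ k, CommRing (B k)] [∀ k, Algebra A (B k)]
    (N : Type uN) [AddCommGroup N] [Module A N] (k l : ι) :
    (B k ⊗[A] B l) ⊗[A] N →ₗ[A] (∀ k, B k) ⊗[A] ((∀ k, B k) ⊗[A] N) :=
  (TensorProduct.assoc A (∀ k, B k) (∀ k, B k) N).toLinearMap ∘ₗ
    LinearMap.rTensor N (TensorProduct.map (LinearMap.single A B k) (LinearMap.single A B l))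

theorem psi_tmul (k l : ι) (b : B k) (b' : B l) (n : N) :
    psi B N k l ((b ⊗ₜ[A] b') ⊗ₜ[A] n) =
      (Pi.single k b : ∀ k, B k) ⊗ₜ[A] ((Pi.single l b' : ∀ k, B k) ⊗ₜ[A] n) := by
  simp [psi]

theorem one_eq_sum_single : (1 : ∀ k, B k) = ∑ k, Pi.single k (1 : B k) := by
  rw [Finset.univ_sum_single]
  rfl

theorem lTensor_mk_comp_rTensor_single (k : ι) (z : B k ⊗[A] N) :
    LinearMap.lTensor (∀ k, B k) (TensorProduct.mk A (∀ k, B k) N 1)
        (LinearMap.rTensor N (LinearMap.single A B k) z) =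
      ∑ l, psi B N k l (LinearMap.rTensor N
        (Algebra.TensorProduct.includeLeft : B k →ₐ[A] B k ⊗[A] B l).toLinearMap z) := by
  induction z using TensorProduct.induction_on with
  | zero => simp
  | tmul b n =>
    simp only [LinearMap.rTensor_tmul, LinearMap.lTensor_tmul, TensorProduct.mk_apply,
      AlgHom.toLinearMap_apply, Algebra.TensorProduct.includeLeft_apply, psi_tmul]
    rw [← TensorProduct.tmul_sum, ← TensorProduct.sum_tmul, ← one_eq_sum_single]
    rfl
  | add z₁ z₂ h₁ h₂ =>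
    simp only [map_add, h₁, h₂, Finset.sum_add_distrib]

theorem mk_comp_rTensor_single (l : ι) (z : B l ⊗[A] N) :
    TensorProduct.mk A (∀ k, B k) ((∀ k, B k) ⊗[A] N) 1
        (LinearMap.rTensor N (LinearMap.single A B l) z) =
      ∑ k, psi B N k l (LinearMap.rTensor N
        (Algebra.TensorProduct.includeRight : B l →ₐ[A] B k ⊗[A] B l).toLinearMap z) := by
  induction z using TensorProduct.induction_on with
  | zero => simp
  | tmul b n =>
    simp only [LinearMap.rTensor_tmul, TensorProduct.mk_apply,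
      AlgHom.toLinearMap_apply, Algebra.TensorProduct.includeRight_apply, psi_tmul]
    rw [← TensorProduct.sum_tmul, ← one_eq_sum_single]
    rfl
  | add z₁ z₂ h₁ h₂ =>
    simp only [map_add, h₁, h₂, Finset.sum_add_distrib]

/-- **Descent of elements for a finite faithfully flat family.** -/
theorem exists_of_compatible [Module.FaithfullyFlat A (∀ k, B k)]
    (x : ∀ k, B k ⊗[A] N)
    (h : ∀ k l, LinearMap.rTensor N
        (Algebra.TensorProduct.includeLeft : B k →ₐ[A] B k ⊗[A] B l).toLinearMap (x k) =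
      LinearMap.rTensor N
        (Algebra.TensorProduct.includeRight : B l →ₐ[A] B k ⊗[A] B l).toLinearMap (x l)) :
    ∃ y : N, ∀ k, (1 : B k) ⊗ₜ[A] y = x k := by
  set X : (∀ k, B k) ⊗[A] N := ∑ k, LinearMap.rTensor N (LinearMap.single A B k) (x k) with hX
  have hcomp : TensorProduct.mk A (∀ k, B k) ((∀ k, B k) ⊗[A] N) 1 X =
      LinearMap.lTensor (∀ k, B k) (TensorProduct.mk A (∀ k, B k) N 1) X := by
    rw [hX, map_sum, map_sum]
    simp_rw [mk_comp_rTensor_single, lTensor_mk_comp_rTensor_single]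
    rw [Finset.sum_comm]
    refine Finset.sum_congr rfl fun k _ => Finset.sum_congr rfl fun l _ => ?_
    rw [h k l]
  obtain ⟨y, hy⟩ := Groth.Agent.Lib.Helper22.amitsur_mem_range (R := A) (A := ∀ k, B k) N X hcomp
  refine ⟨y, fun k => ?_⟩
  have h1 := congrArg (LinearMap.rTensor N (LinearMap.proj (R := A) (φ := B) k)) hy
  rw [TensorProduct.mk_apply, LinearMap.rTensor_tmul] at h1
  rw [show (LinearMap.proj (R := A) (φ := B) k) (1 : ∀ k, B k) = (1 : B k) from rfl] at h1
  rw [h1, hX, map_sum]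
  rw [Finset.sum_eq_single k]
  · rw [← LinearMap.comp_apply, ← LinearMap.rTensor_comp]
    have : (LinearMap.proj (R := A) (φ := B) k) ∘ₗ (LinearMap.single A B k) = LinearMap.id := by
      ext b; simp
    rw [this, LinearMap.rTensor_id, LinearMap.id_apply]
  · intro l _ hlk
    rw [← LinearMap.comp_apply, ← LinearMap.rTensor_comp]
    have : (LinearMap.proj (R := A) (φ := B) k) ∘ₗ (LinearMap.single A B l) = 0 := by
      ext b
      simp [Pi.single_apply, hlk]
    rw [this, LinearMap.rTensor_zero, LinearMap.zero_apply]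
  · intro hk
    exact absurd (Finset.mem_univ k) hk

end Descent

section Modules

universe uC uNk uNkl

variable {N : Type uN} [AddCommGroup N] [Module A N]
  {C : ι → ι → Type uC} [∀ k l, CommRing (C k l)] [∀ k l, Algebra A (C k l)]
  (π1 : ∀ k l, B k →ₐ[A] C k l) (π2 : ∀ k l, B l →ₐ[A] C k l)
  {Nk : ι → Type uNk} [∀ k, AddCommGroup (Nk k)] [∀ k, Module A (Nk k)]
  [∀ k, Module (B k) (Nk k)] [∀ k, IsScalarTower A (B k) (Nk k)]
  {Nkl : ι → ι → Type uNkl} [∀ k l, AddCommGroup (Nkl k l)] [∀ k l, Module A (Nkl k l)]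
  [∀ k l, Module (C k l) (Nkl k l)] [∀ k l, IsScalarTower A (C k l) (Nkl k l)]
  (ρ : ∀ k, N →ₗ[A] Nk k) (σ1 : ∀ k l, Nk k →ₗ[A] Nkl k l) (σ2 : ∀ k l, Nk l →ₗ[A] Nkl k l)

/-- **Injectivity**: a section of a module with base change restricting to zero on a faithfully
flat finite family is zero. -/
theorem eq_zero_of_forall_eq_zero [Module.FaithfullyFlat A (∀ k, B k)]
    (hρ : ∀ k, IsBaseChange (B k) (ρ k)) (x : N) (hx : ∀ k, ρ k x = 0) : x = 0 := by
  apply eq_zero_of_one_tmul_eq_zero (A := A) (B := B) x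
  intro k
  apply (hρ k).equiv.injective
  rw [IsBaseChange.equiv_tmul, one_smul, hx k, map_zero]

/-- **Glueing**: compatible sections over a faithfully flat finite family of a module with base
change come from a section over the base. -/
theorem exists_of_forall_compatible [Module.FaithfullyFlat A (∀ k, B k)]
    (hσ1 : ∀ k l (b : B k) (n : Nk k), σ1 k l (b • n) = π1 k l b • σ1 k l n)
    (hσ2 : ∀ k l (b : B l) (n : Nk l), σ2 k l (b • n) = π2 k l b • σ2 k l n)
    (hσ : ∀ k l n, σ1 k l (ρ k n) = σ2 k l (ρ l n))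
    (hT : ∀ k l, Function.Bijective (Algebra.TensorProduct.productMap (π1 k l) (π2 k l)))
    (hρ : ∀ k, IsBaseChange (B k) (ρ k))
    (hσρ : ∀ k l, IsBaseChange (C k l) (σ1 k l ∘ₗ ρ k))
    (q : ∀ k, Nk k) (hq : ∀ k l, σ1 k l (q k) = σ2 k l (q l)) :
    ∃ y : N, ∀ k, ρ k y = q k := by
  -- the comparison map `(B k ⊗ B l) ⊗ N → Nkl k l`
  let e : ∀ k l, (B k ⊗[A] B l) ≃ₗ[A] C k l := fun k l =>
    LinearEquiv.ofBijective (Algebra.TensorProduct.productMap (π1 k l) (π2 k l)).toLinearMap (hT k l)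
  let θ : ∀ k l, (B k ⊗[A] B l) ⊗[A] N →ₗ[A] Nkl k l := fun k l =>
    ((hσρ k l).equiv.toLinearMap.restrictScalars A) ∘ₗ (LinearEquiv.rTensor N (e k l)).toLinearMap
  have hθinj : ∀ k l, Function.Injective (θ k l) := fun k l =>
    (hσρ k l).equiv.injective.comp (LinearEquiv.rTensor N (e k l)).injective
  have hθ : ∀ k l (c : B k ⊗[A] B l) (n : N),
      θ k l (c ⊗ₜ[A] n) =
        (Algebra.TensorProduct.productMap (π1 k l) (π2 k l) c) • σ1 k l (ρ k n) := by
    intro k l c n
    simp only [θ, e, LinearMap.comp_apply, LinearEquiv.coe_coe, LinearEquiv.rTensor_tmul,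
      LinearMap.restrictScalars_apply, LinearEquiv.ofBijective_apply, AlgHom.toLinearMap_apply]
    rw [IsBaseChange.equiv_tmul]
    rfl
  have hθ1 : ∀ k l (z : B k ⊗[A] N), θ k l (LinearMap.rTensor N
      (Algebra.TensorProduct.includeLeft : B k →ₐ[A] B k ⊗[A] B l).toLinearMap z) =
      σ1 k l ((hρ k).equiv z) := by
    intro k l z
    induction z using TensorProduct.induction_on with
    | zero => simp
    | tmul b n =>
      rw [LinearMap.rTensor_tmul, AlgHom.toLinearMap_apply, hθ, IsBaseChange.equiv_tmul, hσ1]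
      simp
    | add z₁ z₂ h₁ h₂ => simp only [map_add, h₁, h₂]
  have hθ2 : ∀ k l (z : B l ⊗[A] N), θ k l (LinearMap.rTensor N
      (Algebra.TensorProduct.includeRight : B l →ₐ[A] B k ⊗[A] B l).toLinearMap z) =
      σ2 k l ((hρ l).equiv z) := by
    intro k l z
    induction z using TensorProduct.induction_on with
    | zero => simp
    | tmul b n =>
      rw [LinearMap.rTensor_tmul, AlgHom.toLinearMap_apply, hθ, IsBaseChange.equiv_tmul, hσ2,
        hσ]
      simp
    | add z₁ z₂ h₁ h₂ => simp only [map_add, h₁, h₂]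
  obtain ⟨y, hy⟩ := exists_of_compatible (B := B) (N := N) (fun k => (hρ k).equiv.symm (q k)) (by
    intro k l
    apply hθinj k l
    rw [hθ1, hθ2, LinearEquiv.apply_symm_apply, LinearEquiv.apply_symm_apply, hq])
  refine ⟨y, fun k => ?_⟩
  have := congrArg (hρ k).equiv (hy k)
  rw [LinearEquiv.apply_symm_apply, IsBaseChange.equiv_tmul, one_smul] at this
  exact this

end Modules

end Groth.Agent.Lib.Seat48.BCAlg
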