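import Mathlib
import Groth.Agent.Lib.Seat48BCAlg

/-!
# Base change along a ring homomorphism for semilinear maps (seat 48)

Namespace `Groth.Agent.Lib.Seat48.BCAlg`.

`IsBC φ ρ` for a ring homomorphism `φ : A →+* B` of commutative rings and a `φ`-semilinear map
`ρ : M →ₛₗ[φ] N`: `N` is the base change of `M` along `φ` through `ρ` (Mathlib's `IsBaseChange` for
the algebra structure `φ.toAlgebra`, packaged without instance arguments).  Universal property,
composition, cancellation, transfer along isomorphisms.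
-/

set_option autoImplicit false

namespace Groth.Agent.Lib.Seat48.BCAlg

open TensorProduct

universe w

section IsBC

variable {A B : Type w} [CommRing A] [CommRing B] (φ : A →+* B)
  {M N : Type w} [AddCommGroup M] [Module A M] [AddCommGroup N] [Module B N]

/-- `A`-linear version of a `φ`-semilinear map, the target being an `A`-module through `φ`. -/
@[reducible] def semiToLin (ρ : M →ₛₗ[φ] N) :
    @LinearMap A A _ _ (RingHom.id A) M N _ _ _ (Module.compHom N φ) :=
  letI := Module.compHom N φ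
  { toFun := ρ, map_add' := ρ.map_add, map_smul' := fun a m => ρ.map_smulₛₗ a m }

/-- `N` is the base change of `M` along `φ` through the semilinear map `ρ`. -/
def IsBC (ρ : M →ₛₗ[φ] N) : Prop :=
  letI := φ.toAlgebra
  letI := Module.compHom N φ
  haveI : IsScalarTower A B N := IsScalarTower.of_algebraMap_smul (fun _ _ => rfl)
  IsBaseChange B (semiToLin φ ρ)

variable {φ}

theorem IsBC.existsUnique_lift {ρ : M →ₛₗ[φ] N} (h : IsBC φ ρ) {T : Type w} [AddCommGroup T]
    [Module B T] (σ : M →ₛₗ[φ] T) : ∃! τ : N →ₗ[B] T, ∀ m, τ (ρ m) = σ m := by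
  letI := φ.toAlgebra
  letI := Module.compHom N φ
  haveI : IsScalarTower A B N := IsScalarTower.of_algebraMap_smul (fun _ _ => rfl)
  letI := Module.compHom T φ
  haveI : IsScalarTower A B T := IsScalarTower.of_algebraMap_smul (fun _ _ => rfl)
  have h' : IsBaseChange B (semiToLin φ ρ) := h
  refine ⟨h'.lift (semiToLin φ σ), fun m => h'.lift_eq (semiToLin φ σ) m, ?_⟩
  intro τ hτ
  apply h'.algHom_ext'
  ext m
  simp only [LinearMap.coe_comp, Function.comp_apply, LinearMap.coe_restrictScalars]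
  rw [h'.lift_eq]
  exact hτ m

theorem IsBC.of_existsUnique_lift {ρ : M →ₛₗ[φ] N}
    (h : ∀ (T : Type w) [AddCommGroup T] [Module B T] (σ : M →ₛₗ[φ] T),
      ∃! τ : N →ₗ[B] T, ∀ m, τ (ρ m) = σ m) : IsBC φ ρ := by
  letI := φ.toAlgebra
  letI := Module.compHom N φ
  haveI : IsScalarTower A B N := IsScalarTower.of_algebraMap_smul (fun _ _ => rfl)
  change IsBaseChange B (semiToLin φ ρ)
  apply IsBaseChange.of_lift_unique
  intro Q _ _ _ _ g
  letI : AddCommGroup Q := Module.addCommMonoidToAddCommGroup B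
  let σ : M →ₛₗ[φ] Q :=
    { toFun := g, map_add' := g.map_add
      map_smul' := fun a m => by
        rw [g.map_smul]
        exact (algebraMap_smul B a (g m)).symm }
  obtain ⟨τ, hτ, huniq⟩ := h Q σ
  refine ⟨τ, ?_, ?_⟩
  · ext m
    exact hτ m
  · intro τ' hτ'
    apply huniq
    intro m
    exact LinearMap.congr_fun hτ' m

theorem IsBC.hom_ext {ρ : M →ₛₗ[φ] N} (h : IsBC φ ρ) {T : Type w} [AddCommGroup T]
    [Module B T] (τ τ' : N →ₗ[B] T) (hττ' : ∀ m, τ (ρ m) = τ' (ρ m)) : τ = τ' := by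
  let σ : M →ₛₗ[φ] T :=
    { toFun := fun m => τ (ρ m), map_add' := fun x y => by rw [map_add, map_add]
      map_smul' := fun a m => by rw [ρ.map_smulₛₗ, τ.map_smul] }
  obtain ⟨τ₀, _, huniq⟩ := h.existsUnique_lift σ
  rw [huniq τ (fun m => rfl), huniq τ' (fun m => (hττ' m).symm)]

/-- semilinear version of `hom_ext`. -/
theorem IsBC.semi_hom_ext {ρ : M →ₛₗ[φ] N} (h : IsBC φ ρ) {C' : Type w} [CommRing C']
    {ψ : B →+* C'} {T : Type w} [AddCommGroup T] [Module C' T] (τ τ' : N →ₛₗ[ψ] T)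
    (hττ' : ∀ m, τ (ρ m) = τ' (ρ m)) : τ = τ' := by
  letI := Module.compHom T ψ
  let t : N →ₗ[B] T :=
    { toFun := τ, map_add' := τ.map_add, map_smul' := fun b n => τ.map_smulₛₗ b n }
  let t' : N →ₗ[B] T :=
    { toFun := τ', map_add' := τ'.map_add, map_smul' := fun b n => τ'.map_smulₛₗ b n }
  have := h.hom_ext t t' hττ'
  ext n
  exact LinearMap.congr_fun this n

theorem IsBC.span_range {ρ : M →ₛₗ[φ] N} (h : IsBC φ ρ) :
    Submodule.span B (Set.range ρ) = ⊤ := by
  have := h.hom_ext (Submodule.mkQ (Submodule.span B (Set.range ρ))) 0 (fun m => by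
    rw [LinearMap.zero_apply, Submodule.mkQ_apply, Submodule.Quotient.mk_eq_zero]
    exact Submodule.subset_span ⟨m, rfl⟩)
  rw [← Submodule.ker_mkQ (Submodule.span B (Set.range ρ)), this, LinearMap.ker_zero]

section Comp

variable {C' : Type w} [CommRing C'] {ψ : B →+* C'} {χ : A →+* C'} [RingHomCompTriple φ ψ χ]
  {P : Type w} [AddCommGroup P] [Module C' P]

theorem IsBC.comp {ρ : M →ₛₗ[φ] N} {σ : N →ₛₗ[ψ] P} (hρ : IsBC φ ρ) (hσ : IsBC ψ σ) :
    IsBC χ (σ.comp ρ) := by
  apply IsBC.of_existsUnique_lift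
  intro T _ _ θ
  letI := Module.compHom T ψ
  have hχ : ∀ a, χ a = ψ (φ a) := fun a => (RingHomCompTriple.comp_apply (σ₁₂ := φ)).symm
  let θ₁ : M →ₛₗ[φ] T :=
    { toFun := θ, map_add' := θ.map_add
      map_smul' := fun a m => by
        rw [θ.map_smulₛₗ, hχ]
        rfl }
  obtain ⟨τ₁, hτ₁, -⟩ := hρ.existsUnique_lift θ₁
  let τ₁' : N →ₛₗ[ψ] T :=
    { toFun := τ₁, map_add' := τ₁.map_add, map_smul' := fun b n => τ₁.map_smul b n }
  obtain ⟨τ₂, hτ₂, -⟩ := hσ.existsUnique_lift τ₁'
  refine ⟨τ₂, fun m => ?_, ?_⟩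
  · change τ₂ (σ (ρ m)) = θ m
    rw [hτ₂]
    exact hτ₁ m
  · intro τ' hτ'
    apply hσ.hom_ext
    intro n
    rw [hτ₂]
    let t' : N →ₗ[B] T :=
      { toFun := fun n => τ' (σ n), map_add' := fun x y => by rw [map_add, map_add]
        map_smul' := fun b n => by
          rw [σ.map_smulₛₗ, τ'.map_smul]
          rfl }
    have : t' = τ₁ := hρ.hom_ext t' τ₁ (fun m => by
      change τ' (σ (ρ m)) = τ₁ (ρ m)
      rw [hτ₁]
      exact hτ' m)
    exact LinearMap.congr_fun this n

theorem IsBC.of_comp {ρ : M →ₛₗ[φ] N} {σ : N →ₛₗ[ψ] P} (hρ : IsBC φ ρ)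
    (hc : IsBC χ (σ.comp ρ)) : IsBC ψ σ := by
  apply IsBC.of_existsUnique_lift
  intro T _ _ θ
  obtain ⟨τ, hτ, huniq⟩ := hc.existsUnique_lift (θ.comp ρ)
  refine ⟨τ, ?_, ?_⟩
  · intro n
    have h1 : (τ : P →ₛₗ[RingHom.id C'] T).comp σ = θ := by
      apply hρ.semi_hom_ext
      intro m
      exact hτ m
    exact LinearMap.congr_fun h1 n
  · intro τ' hτ'
    apply huniq
    intro m
    exact hτ' (ρ m)

end Comp

/-- transfer along linear isomorphisms of source and target. -/
theorem IsBC.of_equiv {ρ : M →ₛₗ[φ] N} (h : IsBC φ ρ) {M' N' : Type w} [AddCommGroup M']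
    [Module A M'] [AddCommGroup N'] [Module B N'] (eM : M' ≃ₗ[A] M) (eN : N ≃ₗ[B] N')
    (ρ' : M' →ₛₗ[φ] N') (hρ' : ∀ m', ρ' m' = eN (ρ (eM m'))) : IsBC φ ρ' := by
  apply IsBC.of_existsUnique_lift
  intro T _ _ θ
  let θ₁ : M →ₛₗ[φ] T := θ.comp (eM.symm : M →ₗ[A] M')
  obtain ⟨τ, hτ, huniq⟩ := h.existsUnique_lift θ₁
  refine ⟨τ.comp eN.symm.toLinearMap, fun m' => ?_, ?_⟩
  · rw [hρ']
    simp only [LinearMap.coe_comp, LinearEquiv.coe_coe, Function.comp_apply,
      LinearEquiv.symm_apply_apply]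
    rw [hτ]
    simp [θ₁]
  · intro τ' hτ'
    have := huniq (τ'.comp eN.toLinearMap) (fun m => by
      simp only [LinearMap.coe_comp, LinearEquiv.coe_coe, Function.comp_apply, θ₁]
      have := hτ' (eM.symm m)
      rw [hρ', LinearEquiv.apply_symm_apply] at this
      exact this)
    rw [← this]
    ext n'
    simp

/-- a ring homomorphism is the base change of the source along itself. -/
theorem isBC_ringHom (φ : A →+* B) :
    IsBC φ ({ toFun := φ, map_add' := φ.map_add, map_smul' := fun a b => φ.map_mul a b } :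
      A →ₛₗ[φ] B) := by
  apply IsBC.of_existsUnique_lift
  intro T _ _ θ
  refine ⟨LinearMap.toSpanSingleton B T (θ 1), fun a => ?_, ?_⟩
  · rw [LinearMap.toSpanSingleton_apply]
    change φ a • θ 1 = θ a
    rw [← θ.map_smulₛₗ, smul_eq_mul, mul_one]
  · intro τ' hτ'
    ext
    rw [LinearMap.toSpanSingleton_apply, one_smul]
    have := hτ' 1
    simp only [LinearMap.coe_mk, AddHom.coe_mk, map_one] at this
    exact this

end IsBC

section Squares

variable {A B A' D : Type w} [CommRing A] [CommRing B] [CommRing A'] [CommRing D]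

/-- `p : B → D` as a `g`-semilinear map, `B` being an `A`-module through `f` and `D` an
`A'`-module through `q`, for a commutative square `p ∘ f = q ∘ g`. -/
@[reducible] def sqSemi (f : A →+* B) (g : A →+* A') (p : B →+* D) (q : A' →+* D)
    (h : p.comp f = q.comp g) :
    @LinearMap A A' _ _ g B D _ _ (Module.compHom B f) (Module.compHom D q) :=
  letI := Module.compHom B f
  letI := Module.compHom D q
  { toFun := p, map_add' := p.map_add
    map_smul' := fun a b => by
      change p (f a * b) = q (g a) * p b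
      rw [map_mul]
      congr 1
      exact RingHom.congr_fun h a }

/-- the commutative square `p ∘ f = q ∘ g` exhibits `D` as `A' ⊗_A B`. -/
def IsTensorSq (f : A →+* B) (g : A →+* A') (p : B →+* D) (q : A' →+* D) : Prop :=
  ∃ h : p.comp f = q.comp g,
    @IsBC A A' _ _ g B D _ (Module.compHom B f) _ (Module.compHom D q) (sqSemi f g p q h)

/-- a `p`-semilinear map as a `g`-semilinear map, for a commutative square `p ∘ f = q ∘ g`. -/
@[reducible] def pushSemi (f : A →+* B) (g : A →+* A') (p : B →+* D) (q : A' →+* D)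
    (h : p.comp f = q.comp g) {M M' : Type w} [AddCommGroup M] [Module B M] [AddCommGroup M']
    [Module D M'] (ρ : M →ₛₗ[p] M') :
    @LinearMap A A' _ _ g M M' _ _ (Module.compHom M f) (Module.compHom M' q) :=
  letI := Module.compHom M f
  letI := Module.compHom M' q
  { toFun := ρ, map_add' := ρ.map_add
    map_smul' := fun a m => by
      change ρ (f a • m) = q (g a) • ρ m
      rw [ρ.map_smulₛₗ]
      congr 1
      exact RingHom.congr_fun h a }

/-- **Base change along a tensor square**: if `D = A' ⊗_A B` and `M' = D ⊗_B M` then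
`M' = A' ⊗_A M`. -/
theorem IsBC.of_isTensorSq {f : A →+* B} {g : A →+* A'} {p : B →+* D} {q : A' →+* D}
    (hsq : IsTensorSq f g p q) {M M' : Type w} [AddCommGroup M] [Module B M] [AddCommGroup M']
    [Module D M'] (ρ : M →ₛₗ[p] M') (hρ : IsBC p ρ) :
    @IsBC A A' _ _ g M M' _ (Module.compHom M f) _ (Module.compHom M' q)
      (pushSemi f g p q hsq.1 ρ) := by
  obtain ⟨h, hbc⟩ := hsq
  letI : Algebra A B := f.toAlgebra
  letI : Algebra A A' := g.toAlgebra
  letI : Algebra B D := p.toAlgebra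
  letI : Algebra A' D := q.toAlgebra
  letI : Algebra A D := (p.comp f).toAlgebra
  haveI : IsScalarTower A B D := IsScalarTower.of_algebraMap_eq (fun _ => rfl)
  haveI : IsScalarTower A A' D := IsScalarTower.of_algebraMap_eq (fun a => RingHom.congr_fun h a)
  letI : Module A M := Module.compHom M f
  haveI : IsScalarTower A B M := IsScalarTower.of_algebraMap_smul (fun _ _ => rfl)
  letI : Module B M' := Module.compHom M' p
  haveI : IsScalarTower B D M' := IsScalarTower.of_algebraMap_smul (fun _ _ => rfl)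
  letI : Module A' M' := Module.compHom M' q
  haveI : IsScalarTower A' D M' := IsScalarTower.of_algebraMap_smul (fun _ _ => rfl)
  letI : Module A M' := Module.compHom M' g
  haveI : IsScalarTower A A' M' := IsScalarTower.of_algebraMap_smul (fun _ _ => rfl)
  haveI : Algebra.IsPushout A A' B D := ⟨hbc⟩
  have hρ' : IsBaseChange D (semiToLin p ρ) := hρ
  change IsBaseChange A' (semiToLin g (pushSemi f g p q h ρ))
  let e : A' ⊗[A] M ≃ₗ[A'] M' :=
    (Algebra.IsPushout.cancelBaseChange A A' B D M).symm ≪≫ₗ (hρ'.equiv.restrictScalars A')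
  refine IsBaseChange.of_equiv e (fun m => ?_)
  simp only [e, LinearEquiv.trans_apply, Algebra.IsPushout.cancelBaseChange_symm_tmul, map_one,
    LinearEquiv.restrictScalars_apply]
  rw [IsBaseChange.equiv_tmul, one_smul]
  rfl

end Squares

section Family

variable {ι : Type} [Fintype ι] [DecidableEq ι] {A : Type w} [CommRing A]
  {B : ι → Type w} [∀ k, CommRing (B k)]

/-- a finite family of ring homomorphisms out of `A` whose product is faithfully flat. -/
def JointlyFF (φ : ∀ k, A →+* B k) : Prop :=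
  letI : ∀ k, Algebra A (B k) := fun k => (φ k).toAlgebra
  Module.FaithfullyFlat A (∀ k, B k)

variable (φ : ∀ k, A →+* B k)
  {N : Type w} [AddCommGroup N] [Module A N]
  {Nk : ι → Type w} [∀ k, AddCommGroup (Nk k)] [∀ k, Module (B k) (Nk k)]
  (ρ : ∀ k, N →ₛₗ[φ k] Nk k)

theorem IsBC.eq_zero_of_forall (hff : JointlyFF φ) (hρ : ∀ k, IsBC (φ k) (ρ k))
    (x : N) (hx : ∀ k, ρ k x = 0) : x = 0 := by
  letI : ∀ k, Algebra A (B k) := fun k => (φ k).toAlgebra
  letI : ∀ k, Module A (Nk k) := fun k => Module.compHom (Nk k) (φ k)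
  haveI : ∀ k, IsScalarTower A (B k) (Nk k) := fun k =>
    IsScalarTower.of_algebraMap_smul (fun _ _ => rfl)
  haveI : Module.FaithfullyFlat A (∀ k, B k) := hff
  exact eq_zero_of_forall_eq_zero (fun k => semiToLin (φ k) (ρ k)) (fun k => hρ k) x hx

section Glue

variable {C : ι → ι → Type w} [∀ k l, CommRing (C k l)]
  (ψ : ∀ k l, A →+* C k l) (π1 : ∀ k l, B k →+* C k l) (π2 : ∀ k l, B l →+* C k l)
  {Nkl : ι → ι → Type w} [∀ k l, AddCommGroup (Nkl k l)] [∀ k l, Module (C k l) (Nkl k l)]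
  (τ : ∀ k l, N →ₛₗ[ψ k l] Nkl k l)
  (σ1 : ∀ k l, Nk k →ₛₗ[π1 k l] Nkl k l) (σ2 : ∀ k l, Nk l →ₛₗ[π2 k l] Nkl k l)

theorem IsBC.exists_of_compatible (hff : JointlyFF φ)
    (hψ1 : ∀ k l, ψ k l = (π1 k l).comp (φ k)) (hψ2 : ∀ k l, ψ k l = (π2 k l).comp (φ l))
    (hT : ∀ k l, IsTensorSq (φ k) (φ l) (π1 k l) (π2 k l))
    (hτ1 : ∀ k l n, τ k l n = σ1 k l (ρ k n)) (hτ2 : ∀ k l n, τ k l n = σ2 k l (ρ l n))
    (hρ : ∀ k, IsBC (φ k) (ρ k)) (hτ : ∀ k l, IsBC (ψ k l) (τ k l))
    (q : ∀ k, Nk k) (hq : ∀ k l, σ1 k l (q k) = σ2 k l (q l)) :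
    ∃ y : N, ∀ k, ρ k y = q k := by
  letI : ∀ k, Algebra A (B k) := fun k => (φ k).toAlgebra
  letI : ∀ k l, Algebra A (C k l) := fun k l => (ψ k l).toAlgebra
  letI : ∀ k, Module A (Nk k) := fun k => Module.compHom (Nk k) (φ k)
  haveI : ∀ k, IsScalarTower A (B k) (Nk k) := fun k =>
    IsScalarTower.of_algebraMap_smul (fun _ _ => rfl)
  letI : ∀ k l, Module A (Nkl k l) := fun k l => Module.compHom (Nkl k l) (ψ k l)
  haveI : ∀ k l, IsScalarTower A (C k l) (Nkl k l) := fun k l =>
    IsScalarTower.of_algebraMap_smul (fun _ _ => rfl)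
  haveI : Module.FaithfullyFlat A (∀ k, B k) := hff
  let P1 : ∀ k l, B k →ₐ[A] C k l := fun k l =>
    { π1 k l with commutes' := fun a => (RingHom.congr_fun (hψ1 k l) a).symm }
  let P2 : ∀ k l, B l →ₐ[A] C k l := fun k l =>
    { π2 k l with commutes' := fun a => (RingHom.congr_fun (hψ2 k l) a).symm }
  let S1 : ∀ k l, Nk k →ₗ[A] Nkl k l := fun k l =>
    { toFun := σ1 k l, map_add' := (σ1 k l).map_add
      map_smul' := fun a n => by
        change σ1 k l (φ k a • n) = ψ k l a • σ1 k l n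
        rw [(σ1 k l).map_smulₛₗ, hψ1]
        rfl }
  let S2 : ∀ k l, Nk l →ₗ[A] Nkl k l := fun k l =>
    { toFun := σ2 k l, map_add' := (σ2 k l).map_add
      map_smul' := fun a n => by
        change σ2 k l (φ l a • n) = ψ k l a • σ2 k l n
        rw [(σ2 k l).map_smulₛₗ, hψ2]
        rfl }
  have hTT : ∀ k l, Function.Bijective (Algebra.TensorProduct.productMap (P1 k l) (P2 k l)) := by
    intro k l
    obtain ⟨hsq, hbc⟩ := hT k l
    -- `C k l` as a `B l`-algebra through `π2`
    letI : Algebra (B l) (C k l) := (π2 k l).toAlgebra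
    haveI : IsScalarTower A (B l) (C k l) := IsScalarTower.of_algebraMap_eq (fun a =>
      RingHom.congr_fun (hψ2 k l) a)
    have hbc' : IsBaseChange (B l) (P1 k l).toLinearMap := hbc
    have key : ∀ z : B k ⊗[A] B l, Algebra.TensorProduct.productMap (P1 k l) (P2 k l) z =
        hbc'.equiv (TensorProduct.comm A (B k) (B l) z) := by
      intro z
      induction z using TensorProduct.induction_on with
      | zero => simp
      | tmul b b' =>
        rw [TensorProduct.comm_tmul, IsBaseChange.equiv_tmul,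
          Algebra.TensorProduct.productMap_apply_tmul, Algebra.smul_def, mul_comm]
        rfl
      | add z₁ z₂ h₁ h₂ => simp only [map_add, h₁, h₂]
    have : (Algebra.TensorProduct.productMap (P1 k l) (P2 k l) : B k ⊗[A] B l → C k l) =
        (hbc'.equiv ∘ (TensorProduct.comm A (B k) (B l))) := funext key
    rw [this]
    exact hbc'.equiv.bijective.comp (TensorProduct.comm A (B k) (B l)).bijective
  have hτ' : ∀ k l, IsBaseChange (C k l) (S1 k l ∘ₗ semiToLin (φ k) (ρ k)) := by
    intro k l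
    have h0 : IsBaseChange (C k l) (semiToLin (ψ k l) (τ k l)) := hτ k l
    have : S1 k l ∘ₗ semiToLin (φ k) (ρ k) = semiToLin (ψ k l) (τ k l) := by
      ext n
      exact (hτ1 k l n).symm
    rw [this]
    exact h0
  exact exists_of_forall_compatible (A := A) (B := B) P1 P2
    (fun k => semiToLin (φ k) (ρ k)) S1 S2
    (fun k l b n => (σ1 k l).map_smulₛₗ b n) (fun k l b n => (σ2 k l).map_smulₛₗ b n)
    (fun k l n => (hτ1 k l n).symm.trans (hτ2 k l n)) hTT (fun k => hρ k) hτ' q hq

end Glue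

end Family

end Groth.Agent.Lib.Seat48.BCAlg
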