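import Mathlib
import Groth.Agent.Lib.Seat48BCAlg2

/-!
# Flat base change of a sheaf condition (seat 48)

Namespace `Groth.Agent.Lib.Seat48.BCAlg`.

`isBaseChange_of_local`: the algebraic core of "base change for quasi-coherent modules is local":
if `N` is the equaliser of `∏ N_k ⇉ ∏ N_kl`, `N'` is separated for `N' → ∏ N'_k`, `A → A'` is flat and
each `N'_k` is the base change of `N_k` (and `A' ⊗ N_kl → N'_kl` is injective), then `N'` is the base
change of `N`.
-/

set_option autoImplicit false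

namespace Groth.Agent.Lib.Seat48.BCAlg

open TensorProduct

universe w

section Local

variable {A A' : Type w} [CommRing A] [CommRing A'] [Algebra A A'] [Module.Flat A A']
  {ι : Type} [Fintype ι] [DecidableEq ι]
  {N N' : Type w} [AddCommGroup N] [Module A N] [AddCommGroup N'] [Module A N'] [Module A' N']
  [IsScalarTower A A' N']
  {Nk N'k : ι → Type w} [∀ k, AddCommGroup (Nk k)] [∀ k, Module A (Nk k)]
  [∀ k, AddCommGroup (N'k k)] [∀ k, Module A (N'k k)] [∀ k, Module A' (N'k k)]
  [∀ k, IsScalarTower A A' (N'k k)]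
  {Nkl N'kl : ι → ι → Type w} [∀ k l, AddCommGroup (Nkl k l)] [∀ k l, Module A (Nkl k l)]
  [∀ k l, AddCommGroup (N'kl k l)] [∀ k l, Module A (N'kl k l)] [∀ k l, Module A' (N'kl k l)]
  [∀ k l, IsScalarTower A A' (N'kl k l)]
  (γ : N →ₗ[A] N') (ρ : ∀ k, N →ₗ[A] Nk k) (ρ' : ∀ k, N' →ₗ[A'] N'k k)
  (γk : ∀ k, Nk k →ₗ[A] N'k k)
  (σ1 : ∀ k l, Nk k →ₗ[A] Nkl k l) (σ2 : ∀ k l, Nk l →ₗ[A] Nkl k l)
  (σ'1 : ∀ k l, N'k k →ₗ[A] N'kl k l) (σ'2 : ∀ k l, N'k l →ₗ[A] N'kl k l)
  (γkl : ∀ k l, Nkl k l →ₗ[A] N'kl k l)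

theorem piRight_lTensor_pi (z : A' ⊗[A] N) (k : ι) :
    TensorProduct.piRight A A' A' Nk (LinearMap.lTensor A' (LinearMap.pi ρ) z) k =
      LinearMap.lTensor A' (ρ k) z := by
  induction z using TensorProduct.induction_on with
  | zero => simp
  | tmul a n => simp [TensorProduct.piRight_apply, TensorProduct.piRightHom_tmul]
  | add z₁ z₂ h₁ h₂ =>
    simp only [map_add, Pi.add_apply, h₁, h₂]

/-- the difference map `∏ N_k → ∏ N_kl`. -/
noncomputable def dOne : (∀ k, Nk k) →ₗ[A] (∀ kl : ι × ι, Nkl kl.1 kl.2) :=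
  LinearMap.pi (fun kl => σ1 kl.1 kl.2 ∘ₗ LinearMap.proj kl.1 - σ2 kl.1 kl.2 ∘ₗ LinearMap.proj kl.2)

theorem piRight_lTensor_dOne (Z : A' ⊗[A] (∀ k, Nk k)) (kl : ι × ι) :
    TensorProduct.piRight A A' A' (fun kl : ι × ι => Nkl kl.1 kl.2)
        (LinearMap.lTensor A' (dOne σ1 σ2) Z) kl =
      LinearMap.lTensor A' (σ1 kl.1 kl.2) (TensorProduct.piRight A A' A' Nk Z kl.1) -
        LinearMap.lTensor A' (σ2 kl.1 kl.2) (TensorProduct.piRight A A' A' Nk Z kl.2) := by
  induction Z using TensorProduct.induction_on with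
  | zero => simp
  | tmul a n =>
    simp [TensorProduct.piRight_apply, TensorProduct.piRightHom_tmul, dOne, TensorProduct.tmul_sub]
  | add z₁ z₂ h₁ h₂ =>
    simp only [map_add, Pi.add_apply, h₁, h₂]
    abel

theorem isBaseChange_of_local
    (hγρ : ∀ k n, ρ' k (γ n) = γk k (ρ k n))
    (hσ1 : ∀ k l x, σ'1 k l (γk k x) = γkl k l (σ1 k l x))
    (hσ2 : ∀ k l x, σ'2 k l (γk l x) = γkl k l (σ2 k l x))
    (hσ'1 : ∀ k l (a : A') x, σ'1 k l (a • x) = a • σ'1 k l x)
    (hσ'2 : ∀ k l (a : A') x, σ'2 k l (a • x) = a • σ'2 k l x)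
    (hσρ : ∀ k l n, σ1 k l (ρ k n) = σ2 k l (ρ l n))
    (hσρ' : ∀ k l n, σ'1 k l (ρ' k n) = σ'2 k l (ρ' l n))
    (sepE : ∀ n, (∀ k, ρ k n = 0) → n = 0)
    (glueE : ∀ q : ∀ k, Nk k, (∀ k l, σ1 k l (q k) = σ2 k l (q l)) → ∃ n, ∀ k, ρ k n = q k)
    (sepE' : ∀ n, (∀ k, ρ' k n = 0) → n = 0)
    (hk : ∀ k, IsBaseChange A' (γk k))
    (hkl : ∀ k l, Function.Injective ((γkl k l).liftBaseChange A')) :
    IsBaseChange A' γ := by
  -- the comparison map
  set β : A' ⊗[A] N →ₗ[A'] N' := γ.liftBaseChange A' with hβ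
  have hβk : ∀ k (z : A' ⊗[A] N), (hk k).equiv (LinearMap.lTensor A' (ρ k) z) = ρ' k (β z) := by
    intro k z
    induction z using TensorProduct.induction_on with
    | zero => simp
    | tmul a n =>
      rw [LinearMap.lTensor_tmul, IsBaseChange.equiv_tmul, hβ, LinearMap.liftBaseChange_tmul,
        map_smul, hγρ]
    | add z₁ z₂ h₁ h₂ => simp only [map_add, h₁, h₂]
  -- exactness of the tensored sequence
  have hinj0 : Function.Injective (LinearMap.pi ρ) := by
    intro n n' h
    rw [← sub_eq_zero]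
    apply sepE
    intro k
    have := congrFun h k
    simp only [LinearMap.pi_apply] at this
    rw [map_sub, this, sub_self]
  have hex : Function.Exact (LinearMap.pi ρ) (dOne σ1 σ2) := by
    intro q
    constructor
    · intro hq
      have hq' : ∀ k l, σ1 k l (q k) = σ2 k l (q l) := by
        intro k l
        have := congrFun hq (k, l)
        simp only [dOne, LinearMap.pi_apply, LinearMap.sub_apply, LinearMap.comp_apply,
          LinearMap.proj_apply, Pi.zero_apply] at this
        exact sub_eq_zero.mp this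
      obtain ⟨n, hn⟩ := glueE q hq'
      exact ⟨n, funext hn⟩
    · rintro ⟨n, rfl⟩
      funext kl
      simp only [dOne, LinearMap.pi_apply, LinearMap.sub_apply, LinearMap.comp_apply,
        LinearMap.proj_apply, Pi.zero_apply]
      rw [hσρ, sub_self]
  have hinj0' : Function.Injective (LinearMap.lTensor A' (LinearMap.pi ρ)) :=
    Module.Flat.lTensor_preserves_injective_linearMap _ hinj0
  have hex' : Function.Exact (LinearMap.lTensor A' (LinearMap.pi ρ))
      (LinearMap.lTensor A' (dOne σ1 σ2)) := Module.Flat.lTensor_exact A' hex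
  -- compatibility with `σ`
  have hβkl1 : ∀ k l (z : A' ⊗[A] Nk k),
      (γkl k l).liftBaseChange A' (LinearMap.lTensor A' (σ1 k l) z) =
        σ'1 k l ((hk k).equiv z) := by
    intro k l z
    induction z using TensorProduct.induction_on with
    | zero => simp
    | tmul a n =>
      rw [LinearMap.lTensor_tmul, IsBaseChange.equiv_tmul, LinearMap.liftBaseChange_tmul,
        hσ'1, hσ1]
    | add z₁ z₂ h₁ h₂ => simp only [map_add, h₁, h₂]
  have hβkl2 : ∀ k l (z : A' ⊗[A] Nk l),
      (γkl k l).liftBaseChange A' (LinearMap.lTensor A' (σ2 k l) z) =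
        σ'2 k l ((hk l).equiv z) := by
    intro k l z
    induction z using TensorProduct.induction_on with
    | zero => simp
    | tmul a n =>
      rw [LinearMap.lTensor_tmul, IsBaseChange.equiv_tmul, LinearMap.liftBaseChange_tmul,
        hσ'2, hσ2]
    | add z₁ z₂ h₁ h₂ => simp only [map_add, h₁, h₂]
  have hbij : Function.Bijective β := by
    constructor
    · rw [← LinearMap.ker_eq_bot, LinearMap.ker_eq_bot']
      intro z hz
      apply hinj0'
      rw [map_zero]
      apply (TensorProduct.piRight A A' A' Nk).injective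
      rw [map_zero]
      funext k
      rw [piRight_lTensor_pi]
      apply (hk k).equiv.injective
      rw [hβk, hz, map_zero]
      exact (map_zero _).symm
    · intro n'
      let Z : A' ⊗[A] (∀ k, Nk k) := (TensorProduct.piRight A A' A' Nk).symm
        (fun k => (hk k).equiv.symm (ρ' k n'))
      have hZ : LinearMap.lTensor A' (dOne σ1 σ2) Z = 0 := by
        apply (TensorProduct.piRight A A' A' (fun kl : ι × ι => Nkl kl.1 kl.2)).injective
        rw [map_zero]
        funext kl
        rw [piRight_lTensor_dOne, Pi.zero_apply, sub_eq_zero]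
        apply hkl kl.1 kl.2
        rw [hβkl1, hβkl2]
        simp only [Z, LinearEquiv.apply_symm_apply]
        exact hσρ' kl.1 kl.2 n'
      obtain ⟨z, hz⟩ := (hex' Z).mp hZ
      refine ⟨z, ?_⟩
      rw [← sub_eq_zero]
      apply sepE'
      intro k
      rw [map_sub, ← hβk, sub_eq_zero, ← piRight_lTensor_pi (Nk := Nk), hz]
      simp only [Z, LinearEquiv.apply_symm_apply]
  refine IsBaseChange.of_equiv (LinearEquiv.ofBijective β hbij) (fun n => ?_)
  simp [hβ]

end Local

end Groth.Agent.Lib.Seat48.BCAlg
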