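import Mathlib
import Groth.Agent.Lib.Seat48BCAlg3

/-!
# Base change is local, in terms of ring homomorphisms and semilinear maps (seat 48)

Namespace `Groth.Agent.Lib.Seat48.BCAlg`.

`IsBC.of_local`: instance-free wrapper around `isBaseChange_of_local`.
-/

set_option autoImplicit false

namespace Groth.Agent.Lib.Seat48.BCAlg

open TensorProduct

universe w

theorem liftBaseChange_injective_of_isBaseChange {R S M N : Type*} [CommRing R] [CommRing S]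
    [Algebra R S] [AddCommGroup M] [Module R M] [AddCommGroup N] [Module R N] [Module S N]
    [IsScalarTower R S N] {f : M →ₗ[R] N} (h : IsBaseChange S f) :
    Function.Injective (f.liftBaseChange S) := by
  have : f.liftBaseChange S = h.equiv.toLinearMap := by
    ext m
    simp [IsBaseChange.equiv_tmul]
  rw [this]
  exact h.equiv.injective

section Local

variable {A A' : Type w} [CommRing A] [CommRing A'] {φ : A →+* A'}
  {ι : Type} [Fintype ι] [DecidableEq ι]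
  {B B' : ι → Type w} [∀ k, CommRing (B k)] [∀ k, CommRing (B' k)]
  {Ckl C'kl : ι → ι → Type w} [∀ k l, CommRing (Ckl k l)] [∀ k l, CommRing (C'kl k l)]
  (β : ∀ k, A →+* B k) (β' : ∀ k, A' →+* B' k) (φk : ∀ k, B k →+* B' k)
  (π1 : ∀ k l, B k →+* Ckl k l) (π2 : ∀ k l, B l →+* Ckl k l)
  (π'1 : ∀ k l, B' k →+* C'kl k l) (π'2 : ∀ k l, B' l →+* C'kl k l)
  (χ : ∀ k l, A →+* Ckl k l) (χ' : ∀ k l, A' →+* C'kl k l) (φkl : ∀ k l, Ckl k l →+* C'kl k l)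
  {N N' : Type w} [AddCommGroup N] [Module A N] [AddCommGroup N'] [Module A' N']
  {Nk N'k : ι → Type w} [∀ k, AddCommGroup (Nk k)] [∀ k, Module (B k) (Nk k)]
  [∀ k, AddCommGroup (N'k k)] [∀ k, Module (B' k) (N'k k)]
  {Nkl N'kl : ι → ι → Type w} [∀ k l, AddCommGroup (Nkl k l)] [∀ k l, Module (Ckl k l) (Nkl k l)]
  [∀ k l, AddCommGroup (N'kl k l)] [∀ k l, Module (C'kl k l) (N'kl k l)]
  (γ : N →ₛₗ[φ] N') (ρ : ∀ k, N →ₛₗ[β k] Nk k) (ρ' : ∀ k, N' →ₛₗ[β' k] N'k k)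
  (γk : ∀ k, Nk k →ₛₗ[φk k] N'k k)
  (σ1 : ∀ k l, Nk k →ₛₗ[π1 k l] Nkl k l) (σ2 : ∀ k l, Nk l →ₛₗ[π2 k l] Nkl k l)
  (σ'1 : ∀ k l, N'k k →ₛₗ[π'1 k l] N'kl k l) (σ'2 : ∀ k l, N'k l →ₛₗ[π'2 k l] N'kl k l)
  (γkl : ∀ k l, Nkl k l →ₛₗ[φkl k l] N'kl k l)

/-- **Base change is local** (instance-free form): if `N = eq(∏ N_k ⇉ ∏ N_kl)`,
`N' ↪ ∏ N'_k`, `φ : A → A'` is flat, `B'_k = A' ⊗_A B_k`, `C'_kl = A' ⊗_A C_kl`, and `N'_k`, `N'_kl`
are the base changes of `N_k`, `N_kl`, then `N'` is the base change of `N`. -/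
theorem IsBC.of_local (hφ : φ.Flat)
    (hsq : ∀ k, IsTensorSq (β k) φ (φk k) (β' k))
    (hsqkl : ∀ k l, IsTensorSq (χ k l) φ (φkl k l) (χ' k l))
    (hχ1 : ∀ k l, χ k l = (π1 k l).comp (β k)) (hχ2 : ∀ k l, χ k l = (π2 k l).comp (β l))
    (hχ'1 : ∀ k l, χ' k l = (π'1 k l).comp (β' k))
    (hχ'2 : ∀ k l, χ' k l = (π'2 k l).comp (β' l))
    (hγρ : ∀ k n, ρ' k (γ n) = γk k (ρ k n))
    (hσ1 : ∀ k l x, σ'1 k l (γk k x) = γkl k l (σ1 k l x))
    (hσ2 : ∀ k l x, σ'2 k l (γk l x) = γkl k l (σ2 k l x))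
    (hσρ : ∀ k l n, σ1 k l (ρ k n) = σ2 k l (ρ l n))
    (hσρ' : ∀ k l n, σ'1 k l (ρ' k n) = σ'2 k l (ρ' l n))
    (sepE : ∀ n, (∀ k, ρ k n = 0) → n = 0)
    (glueE : ∀ q : ∀ k, Nk k, (∀ k l, σ1 k l (q k) = σ2 k l (q l)) → ∃ n, ∀ k, ρ k n = q k)
    (sepE' : ∀ n, (∀ k, ρ' k n = 0) → n = 0)
    (hk : ∀ k, IsBC (φk k) (γk k)) (hkl : ∀ k l, IsBC (φkl k l) (γkl k l)) :
    IsBC φ γ := by
  letI : Algebra A A' := φ.toAlgebra
  haveI : Module.Flat A A' := hφ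
  letI : Module A N' := Module.compHom N' φ
  haveI : IsScalarTower A A' N' := IsScalarTower.of_algebraMap_smul (fun _ _ => rfl)
  letI mNk : ∀ k, Module A (Nk k) := fun k => Module.compHom (Nk k) (β k)
  letI mN'k' : ∀ k, Module A' (N'k k) := fun k => Module.compHom (N'k k) (β' k)
  letI mN'k : ∀ k, Module A (N'k k) := fun k => Module.compHom (N'k k) φ
  haveI : ∀ k, IsScalarTower A A' (N'k k) :=
    fun k => IsScalarTower.of_algebraMap_smul (fun _ _ => rfl)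
  letI mNkl : ∀ k l, Module A (Nkl k l) := fun k l => Module.compHom (Nkl k l) (χ k l)
  letI mN'kl' : ∀ k l, Module A' (N'kl k l) := fun k l => Module.compHom (N'kl k l) (χ' k l)
  letI mN'kl : ∀ k l, Module A (N'kl k l) := fun k l => Module.compHom (N'kl k l) φ
  haveI : ∀ k l, IsScalarTower A A' (N'kl k l) :=
    fun k l => IsScalarTower.of_algebraMap_smul (fun _ _ => rfl)
  change IsBaseChange A' (semiToLin φ γ)
  let ρL : ∀ k, N →ₗ[A] Nk k := fun k => semiToLin (β k) (ρ k)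
  let ρ'L : ∀ k, N' →ₗ[A'] N'k k := fun k => semiToLin (β' k) (ρ' k)
  let γkL : ∀ k, Nk k →ₗ[A] N'k k := fun k =>
    semiToLin φ (pushSemi (β k) φ (φk k) (β' k) (hsq k).1 (γk k))
  let γklL : ∀ k l, Nkl k l →ₗ[A] N'kl k l := fun k l =>
    semiToLin φ (pushSemi (χ k l) φ (φkl k l) (χ' k l) (hsqkl k l).1 (γkl k l))
  let σ1L : ∀ k l, Nk k →ₗ[A] Nkl k l := fun k l =>
    { toFun := σ1 k l, map_add' := (σ1 k l).map_add
      map_smul' := fun a x => by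
        change σ1 k l (β k a • x) = χ k l a • σ1 k l x
        rw [(σ1 k l).map_smulₛₗ, hχ1]
        rfl }
  let σ2L : ∀ k l, Nk l →ₗ[A] Nkl k l := fun k l =>
    { toFun := σ2 k l, map_add' := (σ2 k l).map_add
      map_smul' := fun a x => by
        change σ2 k l (β l a • x) = χ k l a • σ2 k l x
        rw [(σ2 k l).map_smulₛₗ, hχ2]
        rfl }
  have hσ'1A' : ∀ k l (a : A') x, σ'1 k l (a • x) = a • σ'1 k l x := by
    intro k l a x
    change σ'1 k l (β' k a • x) = χ' k l a • σ'1 k l x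
    rw [(σ'1 k l).map_smulₛₗ, hχ'1]
    rfl
  have hσ'2A' : ∀ k l (a : A') x, σ'2 k l (a • x) = a • σ'2 k l x := by
    intro k l a x
    change σ'2 k l (β' l a • x) = χ' k l a • σ'2 k l x
    rw [(σ'2 k l).map_smulₛₗ, hχ'2]
    rfl
  let σ'1L : ∀ k l, N'k k →ₗ[A] N'kl k l := fun k l =>
    { toFun := σ'1 k l, map_add' := (σ'1 k l).map_add
      map_smul' := fun a x => hσ'1A' k l (φ a) x }
  let σ'2L : ∀ k l, N'k l →ₗ[A] N'kl k l := fun k l =>
    { toFun := σ'2 k l, map_add' := (σ'2 k l).map_add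
      map_smul' := fun a x => hσ'2A' k l (φ a) x }
  have hkL : ∀ k, IsBaseChange A' (γkL k) := fun k => IsBC.of_isTensorSq (hsq k) (γk k) (hk k)
  have hklL : ∀ k l, IsBaseChange A' (γklL k l) :=
    fun k l => IsBC.of_isTensorSq (hsqkl k l) (γkl k l) (hkl k l)
  exact isBaseChange_of_local (semiToLin φ γ) ρL ρ'L γkL σ1L σ2L σ'1L σ'2L γklL
    hγρ hσ1 hσ2 hσ'1A' hσ'2A' hσρ hσρ' sepE glueE sepE' hkL
    (fun k l => liftBaseChange_injective_of_isBaseChange (hklL k l))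

end Local

end Groth.Agent.Lib.Seat48.BCAlg
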