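import Mathlib
import Groth.Agent.Lib.Seat48BCAlg4

/-!
# Tensor squares and universe lifts (seat 48)

Namespace `Groth.Agent.Lib.Seat48.BCAlg`.

* `isTensorSq_ulift_of_isPushout`: a pushout square of commutative rings gives a tensor square
  (`IsTensorSq`) of the universe-lifted rings.
* `jointlyFF_of_flat_of_surjective`: a finite family of flat ring maps which is jointly surjective on
  spectra is jointly faithfully flat.
-/

set_option autoImplicit false
set_option linter.style.haveILetI false
set_option linter.unusedSectionVars false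

namespace Groth.Agent.Lib.Seat48.BCAlg

open TensorProduct CategoryTheory

universe w u

section ULift

variable {A B A' D : CommRingCat.{u}} (f : A ⟶ B) (g : A ⟶ A') (p : B ⟶ D) (q : A' ⟶ D)

theorem isTensorSq_ulift_of_isPushout (h : IsPushout f g p q) :
    IsTensorSq (RingHom.ulift.{w, w} f.hom) (RingHom.ulift.{w, w} g.hom)
      (RingHom.ulift.{w, w} p.hom) (RingHom.ulift.{w, w} q.hom) := by
  have hcomm : p.hom.comp f.hom = q.hom.comp g.hom := by
    have := h.w
    exact congrArg CommRingCat.Hom.hom this
  letI : Algebra A B := f.hom.toAlgebra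
  letI : Algebra A A' := g.hom.toAlgebra
  letI : Algebra B D := p.hom.toAlgebra
  letI : Algebra A' D := q.hom.toAlgebra
  letI : Algebra A D := (p.hom.comp f.hom).toAlgebra
  haveI : IsScalarTower A B D := IsScalarTower.of_algebraMap_eq (fun _ => rfl)
  haveI : IsScalarTower A A' D :=
    IsScalarTower.of_algebraMap_eq (fun a => RingHom.congr_fun hcomm a)
  have hpo : Algebra.IsPushout A A' B D := CommRingCat.isPushout_iff_isPushout.mp h.flip
  have hbc : IsBaseChange A' (IsScalarTower.toAlgHom A B D).toLinearMap := hpo.out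
  have hcomm' : (RingHom.ulift.{w, w} p.hom).comp (RingHom.ulift.{w, w} f.hom) =
      (RingHom.ulift.{w, w} q.hom).comp (RingHom.ulift.{w, w} g.hom) := by
    ext x
    exact RingHom.congr_fun hcomm x.down
  refine ⟨hcomm', ?_⟩
  apply IsBC.of_existsUnique_lift
  intro T _ _ σ
  letI : Module A' T := Module.compHom T (ULift.ringEquiv.{u, w}.symm : A' ≃+* ULift.{w} A').toRingHom
  letI : Module A T := Module.compHom T (algebraMap A A')
  haveI : IsScalarTower A A' T := IsScalarTower.of_algebraMap_smul (fun _ _ => rfl)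
  let σ' : B →ₗ[A] T :=
    { toFun := fun b => σ (ULift.up b)
      map_add' := fun x y => σ.map_add (ULift.up x) (ULift.up y)
      map_smul' := fun a b => σ.map_smulₛₗ (ULift.up a) (ULift.up b) }
  let τ₀ : D →ₗ[A'] T := hbc.lift σ'
  have hτ₀ : ∀ b : B, τ₀ (p.hom b) = σ' b := fun b => hbc.lift_eq σ' b
  let τ : ULift.{w} D →ₗ[ULift.{w} A'] T :=
    { toFun := fun d => τ₀ d.down
      map_add' := fun x y => τ₀.map_add x.down y.down
      map_smul' := fun a d => τ₀.map_smul a.down d.down }
  refine ⟨τ, fun b => hτ₀ b.down, ?_⟩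
  intro τ' hτ'
  let τ'₀ : D →ₗ[A'] T :=
    { toFun := fun d => τ' (ULift.up d)
      map_add' := fun x y => τ'.map_add (ULift.up x) (ULift.up y)
      map_smul' := fun a d => τ'.map_smul (ULift.up a) (ULift.up d) }
  have : τ'₀ = τ₀ := by
    apply hbc.algHom_ext'
    ext b
    simp only [LinearMap.coe_comp, Function.comp_apply, LinearMap.coe_restrictScalars]
    change τ'₀ (p.hom b) = τ₀ (p.hom b)
    rw [hτ₀]
    exact hτ' (ULift.up b)
  ext d
  exact LinearMap.congr_fun this d.down

end ULift

section FF

variable {ι : Type} [Fintype ι] [DecidableEq ι] {A : Type w} [CommRing A]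
  {B : ι → Type w} [∀ k, CommRing (B k)]

/-- a finite family of flat ring maps which is jointly surjective on spectra is jointly
faithfully flat. -/
theorem jointlyFF_of_flat_of_surjective (φ : ∀ k, A →+* B k) (hflat : ∀ k, (φ k).Flat)
    (hsurj : ∀ p : PrimeSpectrum A, ∃ (k : ι) (q : PrimeSpectrum (B k)),
      PrimeSpectrum.comap (φ k) q = p) : JointlyFF φ := by
  letI : ∀ k, Algebra A (B k) := fun k => (φ k).toAlgebra
  change Module.FaithfullyFlat A (∀ k, B k)
  haveI : ∀ k, Module.Flat A (B k) := fun k => hflat k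
  haveI : Module.Flat A (∀ k, B k) :=
    Module.Flat.of_linearEquiv (DFinsupp.linearEquivFunOnFintype (R := A) (M := B)).symm
  apply Module.FaithfullyFlat.of_comap_surjective
  intro p
  obtain ⟨k, q, hq⟩ := hsurj p
  refine ⟨PrimeSpectrum.comap (Pi.evalRingHom B k) q, ?_⟩
  rw [← hq]
  rfl

end FF

end Groth.Agent.Lib.Seat48.BCAlg
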