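import Mathlib
import Groth.Agent.Lib.Seat48BCAlg3

/-!
# Base change for presheaves and sheaves of modules on a site with affine objects (seat 48)

Namespace `Groth.Agent.Lib.Seat48.BCSite`.

An abstract framework: a site `(C, J)` with a presheaf of commutative rings `R₀` and a class of
"affine" objects (`AffineData`): morphisms between affines are flat on functions, fibre products of
affines over affines exist, are affine and are computed by tensor products, and every covering of
an affine is refined by a finite jointly faithfully flat family of affines.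

* `HasBCAt Q g`: the restriction map of the presheaf of modules `Q` along `g : E' ⟶ E` exhibits
  `Q(E')` as the base change of `Q(E)`.
* `app_injective_of_locallyInjective`, `app_bijective_of_locallyBijective`: a locally bijective map
  from a presheaf with base change on affines to a sheaf is bijective on affines.
-/

set_option autoImplicit false

universe w v₁ u₁

open CategoryTheory Limits Opposite

namespace Groth.Agent.Lib.Seat48.BCSite

open Groth.Agent.Lib.Seat48.BCAlg

variable {C : Type u₁} [Category.{v₁} C]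

/-- a presheaf of rings all of whose rings of sections are commutative. -/
class IsCommPresheaf (R₀ : Cᵒᵖ ⥤ RingCat.{w}) : Prop where
  comm : ∀ (E : Cᵒᵖ) (a b : R₀.obj E), a * b = b * a

/-- the commutative ring structure on sections. -/
@[reducible] def commRingSect (R₀ : Cᵒᵖ ⥤ RingCat.{w}) [IsCommPresheaf R₀] (E : Cᵒᵖ) :
    CommRing (R₀.obj E) :=
  { (inferInstance : Ring (R₀.obj E)) with mul_comm := IsCommPresheaf.comm E }

attribute [local instance] commRingSect

/-- the restriction map of `Q` along `g` is a base change. -/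
def HasBCAt {R₀ : Cᵒᵖ ⥤ RingCat.{w}} [IsCommPresheaf R₀] (Q : PresheafOfModules.{w} R₀)
    {E E' : C} (g : E' ⟶ E) : Prop :=
  IsBC (R₀.map g.op).hom (Q.restrictₛₗ g.op)

/-- affine objects of a site with a presheaf of commutative rings. -/
structure AffineData (J : GrothendieckTopology C) (R₀ : Cᵒᵖ ⥤ RingCat.{w})
    [IsCommPresheaf R₀] where
  /-- the affine objects -/
  Aff : C → Prop
  flat : ∀ {E E' : C} (g : E' ⟶ E), Aff E → Aff E' → (R₀.map g.op).hom.Flat
  exists_pullback : ∀ {V W E : C} (f : V ⟶ E) (g : W ⟶ E), Aff V → Aff W → Aff E →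
    ∃ (P : C) (p1 : P ⟶ V) (p2 : P ⟶ W), Aff P ∧ IsPullback p1 p2 f g ∧
      IsTensorSq (R₀.map f.op).hom (R₀.map g.op).hom (R₀.map p1.op).hom (R₀.map p2.op).hom
  exists_cover : ∀ {E : C}, Aff E → ∀ S ∈ J E, ∃ (n : ℕ) (V : Fin n → C) (h : ∀ k, V k ⟶ E),
    (∀ k, Aff (V k)) ∧ (∀ k, S (h k)) ∧ Sieve.ofArrows V h ∈ J E ∧
      JointlyFF (fun k => (R₀.map (h k).op).hom)

variable {J : GrothendieckTopology C} {R₀ : Cᵒᵖ ⥤ RingCat.{w}} [IsCommPresheaf R₀]

section LemmaS

variable (D : AffineData J R₀) {Q G : PresheafOfModules.{w} R₀} (η : Q ⟶ G)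

include D in
theorem app_injective_of_locallyInjective
    [Presheaf.IsLocallyInjective J ((PresheafOfModules.toPresheaf R₀).map η)]
    (hQ : ∀ {E E' : C} (g : E' ⟶ E), D.Aff E → D.Aff E' → HasBCAt Q g)
    {E : C} (hE : D.Aff E) : Function.Injective (η.app (op E)) := by
  rw [← ModuleCat.mono_iff_injective, ModuleCat.mono_iff_ker_eq_bot, LinearMap.ker_eq_bot']
  intro x hx
  have hS := Presheaf.equalizerSieve_mem J ((PresheafOfModules.toPresheaf R₀).map η)
    (X := op E) x 0 (by
      change η.app (op E) x = η.app (op E) 0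
      rw [hx, map_zero])
  obtain ⟨n, V, h, hAff, hmem, -, hff⟩ := D.exists_cover hE _ hS
  refine IsBC.eq_zero_of_forall (fun k => (R₀.map (h k).op).hom) (fun k => Q.restrictₛₗ (h k).op)
    hff (fun k => hQ (h k) hE (hAff k)) x (fun k => ?_)
  have := hmem k
  change Q.map (h k).op x = Q.map (h k).op 0 at this
  rw [map_zero] at this
  exact this

include D in
theorem app_surjective_of_locallyBijective
    [Presheaf.IsLocallyInjective J ((PresheafOfModules.toPresheaf R₀).map η)]
    [Presheaf.IsLocallySurjective J ((PresheafOfModules.toPresheaf R₀).map η)]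
    (hG : Presheaf.IsSeparated J G.presheaf)
    (hQ : ∀ {E E' : C} (g : E' ⟶ E), D.Aff E → D.Aff E' → HasBCAt Q g)
    {E : C} (hE : D.Aff E) : Function.Surjective (η.app (op E)) := by
  intro f
  have hS := Presheaf.imageSieve_mem J ((PresheafOfModules.toPresheaf R₀).map η) (U := op E) f
  obtain ⟨n, V, h, hAff, hmem, hcov, hff⟩ := D.exists_cover hE _ hS
  choose q hq using hmem
  have hq' : ∀ k, η.app (op (V k)) (q k) = G.map (h k).op f := hq
  have hpb := fun k l => D.exists_pullback (h k) (h l) (hAff k) (hAff l) hE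
  choose P p1 p2 hP hpull hT using hpb
  have hinjP : ∀ k l, Function.Injective (η.app (op (P k l))) := fun k l =>
    app_injective_of_locallyInjective D η hQ (hP k l)
  have hw : ∀ k l, p1 k l ≫ h k = p2 k l ≫ h l := fun k l => (hpull k l).w
  obtain ⟨y, hy⟩ := IsBC.exists_of_compatible
    (fun k => (R₀.map (h k).op).hom) (fun k => Q.restrictₛₗ (h k).op)
    (fun k l => (R₀.map (p1 k l ≫ h k).op).hom)
    (fun k l => (R₀.map (p1 k l).op).hom) (fun k l => (R₀.map (p2 k l).op).hom)
    (fun k l => Q.restrictₛₗ (p1 k l ≫ h k).op)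
    (fun k l => Q.restrictₛₗ (p1 k l).op) (fun k l => Q.restrictₛₗ (p2 k l).op)
    hff
    (fun k l => by
      rw [op_comp, Functor.map_comp]
      rfl)
    (fun k l => by
      rw [hw k l, op_comp, Functor.map_comp]
      rfl)
    hT
    (fun k l x => by
      change Q.map (p1 k l ≫ h k).op x = Q.map (p1 k l).op (Q.map (h k).op x)
      exact Q.map_comp_apply (h k).op (p1 k l).op x)
    (fun k l x => by
      change Q.map (p1 k l ≫ h k).op x = Q.map (p2 k l).op (Q.map (h l).op x)
      exact (Q.congr_map_apply (congrArg Quiver.Hom.op (hw k l)) x).trans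
        (Q.map_comp_apply (h l).op (p2 k l).op x))
    (fun k => hQ (h k) hE (hAff k))
    (fun k l => hQ (p1 k l ≫ h k) hE (hP k l))
    q
    (fun k l => by
      apply hinjP k l
      refine (PresheafOfModules.naturality_apply η (p1 k l).op (q k)).trans ?_
      refine Eq.trans ?_ (PresheafOfModules.naturality_apply η (p2 k l).op (q l)).symm
      rw [hq', hq']
      refine (G.map_comp_apply (h k).op (p1 k l).op f).symm.trans ?_
      refine Eq.trans ?_ (G.map_comp_apply (h l).op (p2 k l).op f)
      exact G.congr_map_apply (congrArg Quiver.Hom.op (hw k l)) f)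
  refine ⟨y, ?_⟩
  refine hG E _ hcov (η.app (op E) y) f ?_
  rintro Y u ⟨Z, v, _, ⟨k⟩, rfl⟩
  have e : ∀ x : G.obj (op E), G.presheaf.map (v ≫ h k).op x = G.map v.op (G.map (h k).op x) := by
    intro x
    rw [op_comp, Functor.map_comp]
    rfl
  rw [e, e]
  congr 1
  rw [← PresheafOfModules.naturality_apply]
  have := hy k
  change Q.map (h k).op y = q k at this
  rw [this, hq']

include D in
theorem app_bijective_of_locallyBijective
    [Presheaf.IsLocallyInjective J ((PresheafOfModules.toPresheaf R₀).map η)]
    [Presheaf.IsLocallySurjective J ((PresheafOfModules.toPresheaf R₀).map η)]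
    (hG : Presheaf.IsSeparated J G.presheaf)
    (hQ : ∀ {E E' : C} (g : E' ⟶ E), D.Aff E → D.Aff E' → HasBCAt Q g)
    {E : C} (hE : D.Aff E) : Function.Bijective (η.app (op E)) :=
  ⟨app_injective_of_locallyInjective D η hQ hE,
    app_surjective_of_locallyBijective D η hG hQ hE⟩

end LemmaS

end Groth.Agent.Lib.Seat48.BCSite
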