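import Mathlib
import Groth.Agent.Lib.Seat48BCSite

/-!
# Base change on affines is stable under colimits of sheaves of modules (seat 48)

Namespace `Groth.Agent.Lib.Seat48.BCSite`.

* `HasBCOn D Q`: the presheaf of modules `Q` has base change along all morphisms of affines.
* `hasBCOn_of_app_bijective`: transfer along a morphism which is bijective on affines.
* `hasBCAt_of_isColimit`: base change is stable under colimits of presheaves of modules.
* `hasBCOn_of_isColimit`: base change on affines is stable under colimits of sheaves of modules.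
* `hasBCOn_unit`, `hasBCOn_free`, `hasBCOn_of_presentation`.
-/

set_option autoImplicit false

universe w v₁ u₁ v₂ u₂

open CategoryTheory Limits Opposite

namespace Groth.Agent.Lib.Seat48.BCSite

open Groth.Agent.Lib.Seat48.BCAlg

attribute [local instance] commRingSect

variable {C : Type u₁} [Category.{v₁} C]
variable {J : GrothendieckTopology C} {R₀ : Cᵒᵖ ⥤ RingCat.{w}} [IsCommPresheaf R₀]

/-- base change along all morphisms between affine objects. -/
def HasBCOn (D : AffineData J R₀) (Q : PresheafOfModules.{w} R₀) : Prop :=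
  ∀ ⦃E E' : C⦄ (g : E' ⟶ E), D.Aff E → D.Aff E' → HasBCAt Q g

/-- transfer of base change along a morphism bijective at source and target. -/
theorem hasBCAt_of_app_bijective {Q G : PresheafOfModules.{w} R₀} (η : Q ⟶ G) {E E' : C}
    (g : E' ⟶ E) (hE : Function.Bijective (η.app (op E)))
    (hE' : Function.Bijective (η.app (op E'))) (hQ : HasBCAt Q g) : HasBCAt G g := by
  refine IsBC.of_equiv hQ (LinearEquiv.ofBijective (η.app (op E)).hom hE).symm
    (LinearEquiv.ofBijective (η.app (op E')).hom hE') (G.restrictₛₗ g.op) (fun m' => ?_)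
  obtain ⟨x, rfl⟩ := hE.2 m'
  have h1 : (LinearEquiv.ofBijective (η.app (op E)).hom hE).symm (η.app (op E) x) = x :=
    (LinearEquiv.ofBijective (η.app (op E)).hom hE).symm_apply_apply x
  rw [h1]
  exact (PresheafOfModules.naturality_apply η g.op x).symm

theorem hasBCOn_of_app_bijective (D : AffineData J R₀) {Q G : PresheafOfModules.{w} R₀}
    (η : Q ⟶ G) (hη : ∀ {E : C}, D.Aff E → Function.Bijective (η.app (op E)))
    (hQ : HasBCOn D Q) : HasBCOn D G :=
  fun _ _ g hE hE' => hasBCAt_of_app_bijective η g (hη hE) (hη hE') (hQ g hE hE')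

section Colimit

variable {K : Type u₂} [Category.{v₂} K] (F : K ⥤ PresheafOfModules.{w} R₀) (c : Cocone F)

/-- base change is stable under colimits of presheaves of modules. -/
theorem hasBCAt_of_isColimit
    (hc : ∀ X : Cᵒᵖ, IsColimit ((PresheafOfModules.evaluation R₀ X).mapCocone c))
    {E E' : C} (g : E' ⟶ E) (h : ∀ k, HasBCAt (F.obj k) g) : HasBCAt c.pt g := by
  apply IsBC.of_existsUnique_lift
  intro T _ _ σ
  -- the legs
  let legE : ∀ k, (F.obj k).obj (op E) →ₗ[R₀.obj (op E)] c.pt.obj (op E) :=
    fun k => ((c.ι.app k).app (op E)).hom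
  let legE' : ∀ k, (F.obj k).obj (op E') →ₗ[R₀.obj (op E')] c.pt.obj (op E') :=
    fun k => ((c.ι.app k).app (op E')).hom
  have hleg : ∀ k (m : (F.obj k).obj (op E)),
      legE' k ((F.obj k).map g.op m) = c.pt.map g.op (legE k m) :=
    fun k m => PresheafOfModules.naturality_apply (c.ι.app k) g.op m
  have hw : ∀ {k k' : K} (a : k ⟶ k') (m : (F.obj k).obj (op E)),
      legE k' ((F.map a).app (op E) m) = legE k m := by
    intro k k' a m
    exact congrArg (fun f : F.obj k ⟶ c.pt => (f.app (op E)).hom m) (c.w a)
  have hw' : ∀ {k k' : K} (a : k ⟶ k') (m : (F.obj k).obj (op E')),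
      legE' k' ((F.map a).app (op E') m) = legE' k m := by
    intro k k' a m
    exact congrArg (fun f : F.obj k ⟶ c.pt => (f.app (op E')).hom m) (c.w a)
  let σk : ∀ k, (F.obj k).obj (op E) →ₛₗ[(R₀.map g.op).hom] T := fun k => σ.comp (legE k)
  have hex := fun k => IsBC.existsUnique_lift (h k) (σk k)
  choose τ hτ huniq using hex
  -- the cocone
  let T' : ModuleCat.{w} (R₀.obj (op E')) := ModuleCat.of _ T
  let s : Cocone (F ⋙ PresheafOfModules.evaluation R₀ (op E')) :=
    { pt := T'
      ι :=
        { app := fun k => ModuleCat.ofHom (τ k)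
          naturality := by
            intro k k' a
            apply ModuleCat.hom_ext
            apply IsBC.hom_ext (h k)
            intro m
            change τ k' ((F.map a).app (op E') ((F.obj k).map g.op m)) = τ k ((F.obj k).map g.op m)
            have e1 : (F.map a).app (op E') ((F.obj k).map g.op m) =
                (F.obj k').map g.op ((F.map a).app (op E) m) :=
              PresheafOfModules.naturality_apply (F.map a) g.op m
            rw [e1]
            have e2 := hτ k' ((F.map a).app (op E) m)
            have e3 := hτ k m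
            change τ k' ((F.obj k').map g.op ((F.map a).app (op E) m)) = _ at e2
            change τ k ((F.obj k).map g.op m) = _ at e3
            rw [e2, e3]
            change σ (legE k' ((F.map a).app (op E) m)) = σ (legE k m)
            rw [hw] } }
  let t : c.pt.obj (op E') ⟶ T' := (hc (op E')).desc s
  have ht : ∀ k (m : (F.obj k).obj (op E')), t.hom (legE' k m) = τ k m := by
    intro k m
    have := (hc (op E')).fac s k
    exact congrArg (fun f => f.hom m) this
  -- `σ` as a linear map
  let σ' : c.pt.obj (op E) ⟶ (ModuleCat.restrictScalars (R₀.map g.op).hom).obj T' :=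
    ModuleCat.ofHom (Y := (ModuleCat.restrictScalars (R₀.map g.op).hom).obj T')
      { toFun := fun m => σ m, map_add' := σ.map_add, map_smul' := fun a m => σ.map_smulₛₗ a m }
  refine ⟨t.hom, ?_, ?_⟩
  · have key : c.pt.map g.op ≫ (ModuleCat.restrictScalars (R₀.map g.op).hom).map t = σ' := by
      apply (hc (op E)).hom_ext
      intro k
      apply ModuleCat.hom_ext
      ext m
      change t.hom (c.pt.map g.op (legE k m)) = σ (legE k m)
      rw [← hleg, ht]
      exact hτ k m
    intro m
    exact congrArg (fun f => f.hom m) key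
  · intro t' ht'
    have : ModuleCat.ofHom t' = t := by
      apply (hc (op E')).uniq s
      intro k
      apply ModuleCat.hom_ext
      apply huniq k
      intro m
      change t' (legE' k ((F.obj k).map g.op m)) = σ (legE k m)
      rw [hleg]
      exact ht' (legE k m)
    rw [← this]
    rfl

end Colimit

section Sheaf

variable {R : Sheaf J RingCat.{w}} [IsCommPresheaf R.obj]
  [HasSheafify J AddCommGrpCat.{w}] [J.WEqualsLocallyBijective AddCommGrpCat.{w}]
  (D : AffineData J R.obj)

include D in
omit [HasSheafify J AddCommGrpCat.{w}] [J.WEqualsLocallyBijective AddCommGrpCat.{w}] in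
theorem hasBCOn_of_iso {M N : SheafOfModules.{w} R} (e : M ≅ N) (h : HasBCOn D M.val) :
    HasBCOn D N.val := by
  refine hasBCOn_of_app_bijective D e.hom.val (fun {E} _ => ?_) h
  have : IsIso ((SheafOfModules.forget R ⋙ PresheafOfModules.evaluation R.obj (op E)).map e.hom) :=
    inferInstance
  exact ConcreteCategory.bijective_of_isIso
    ((SheafOfModules.forget R ⋙ PresheafOfModules.evaluation R.obj (op E)).map e.hom)

/-- **base change on affines is stable under colimits of sheaves of modules.** -/
theorem hasBCOn_of_isColimit {K : Type u₂} [Category.{v₂} K]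
    [HasColimitsOfShape K AddCommGrpCat.{w}]
    (F : K ⥤ SheafOfModules.{w} R) (c : Cocone F) (hc : IsColimit c)
    (h : ∀ k, HasBCOn D (F.obj k).val) : HasBCOn D c.pt.val := by
  let adj := PresheafOfModules.sheafificationAdjunction (𝟙 R.obj) (J := J) (R := R)
  let ι := SheafOfModules.forget.{w} R ⋙ PresheafOfModules.restrictScalars (𝟙 R.obj)
  let a := PresheafOfModules.sheafification.{w} (𝟙 R.obj) (J := J) (R := R)
  let Q := colimit (F ⋙ ι)
  have hQ : HasBCOn D Q := fun _ _ g hE hE' =>
    hasBCAt_of_isColimit (F ⋙ ι) (colimit.cocone _)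
      (fun X => isColimitOfPreserves (PresheafOfModules.evaluation R.obj X) (colimit.isColimit _))
      g (fun k => h k g hE hE')
  let η : Q ⟶ ι.obj (a.obj Q) := adj.unit.app Q
  have hη : (PresheafOfModules.toPresheaf R.obj).map η = CategoryTheory.toSheafify J Q.presheaf :=
    PresheafOfModules.toPresheaf_map_sheafificationAdjunction_unit_app (𝟙 R.obj) Q
  have : Presheaf.IsLocallyInjective J ((PresheafOfModules.toPresheaf R.obj).map η) := by
    rw [hη]
    exact (J.W_toSheafify Q.presheaf).isLocallyInjective
  have : Presheaf.IsLocallySurjective J ((PresheafOfModules.toPresheaf R.obj).map η) := by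
    rw [hη]
    exact (J.W_toSheafify Q.presheaf).isLocallySurjective
  have hsep : Presheaf.IsSeparated J (ι.obj (a.obj Q)).presheaf :=
    Presheaf.IsSheaf.isSeparated (a.obj Q).isSheaf
  have h1 : HasBCOn D (ι.obj (a.obj Q)) :=
    hasBCOn_of_app_bijective D η
      (fun {E} hE => app_bijective_of_locallyBijective D η hsep (fun g hE hE' => hQ g hE hE') hE)
      hQ
  let e : F ≅ (F ⋙ ι) ⋙ a := Functor.isoWhiskerLeft F (asIso adj.counit).symm
  let i : c.pt ≅ a.obj Q :=
    IsColimit.coconePointsIsoOfNatIso hc
      (isColimitOfPreserves a (colimit.isColimit (F ⋙ ι))) e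
  exact hasBCOn_of_iso D i.symm h1

include D in
omit [HasSheafify J AddCommGrpCat.{w}] [J.WEqualsLocallyBijective AddCommGrpCat.{w}] in
theorem hasBCOn_unit : HasBCOn D (SheafOfModules.unit R).val := by
  intro E E' g _ _
  exact isBC_ringHom (R.obj.map g.op).hom

theorem hasBCOn_free (I : Type w) : HasBCOn D (SheafOfModules.free (R := R) I).val :=
  hasBCOn_of_isColimit D _ _ (SheafOfModules.isColimitFreeCofan (R := R) I)
    (fun _ => hasBCOn_unit D)

theorem hasBCOn_of_isColimit_cokernelCofork {A B : SheafOfModules.{w} R} (f : A ⟶ B)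
    (c : CokernelCofork f) (hc : IsColimit c) (hA : HasBCOn D A.val) (hB : HasBCOn D B.val) :
    HasBCOn D c.pt.val := by
  refine hasBCOn_of_isColimit D (parallelPair f 0) c hc ?_
  rintro (_ | _)
  · exact hA
  · exact hB

theorem hasBCOn_of_presentation {M : SheafOfModules.{w} R} (P : M.Presentation) :
    HasBCOn D M.val := by
  have h := hasBCOn_of_isColimit_cokernelCofork D _ _ P.isColimit (hasBCOn_free D _)
    (hasBCOn_free D _)
  exact h

end Sheaf

end Groth.Agent.Lib.Seat48.BCSite
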