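import Mathlib
import Groth.Agent.Lib.Seat48BCAlg4
import Groth.Agent.Lib.Seat48BCSite2

/-!
# Base change on affines is local (seat 48)

Namespace `Groth.Agent.Lib.Seat48.BCSite`.

* `hasBCAt_of_local`: for a sheaf of modules `M` on a site with affine objects, if `M` has base
  change along all morphisms of affines `W ⟶ V` with `V ⟶ E` in a covering sieve of the affine
  object `E`, then `M` has base change along every morphism of affines `E' ⟶ E`.
-/

set_option autoImplicit false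
set_option linter.unusedSectionVars false

universe w v₁ u₁

open CategoryTheory Limits Opposite

namespace Groth.Agent.Lib.Seat48.BCSite

open Groth.Agent.Lib.Seat48.BCAlg

attribute [local instance] commRingSect

variable {C : Type u₁} [Category.{v₁} C]
variable {J : GrothendieckTopology C} {R₀ : Cᵒᵖ ⥤ RingCat.{w}} [IsCommPresheaf R₀]

omit [IsCommPresheaf R₀] in
theorem ringMap_comp {X Y Z : C} (f : Y ⟶ X) (f' : Z ⟶ Y) :
    (R₀.map (f' ≫ f).op).hom = (R₀.map f'.op).hom.comp (R₀.map f.op).hom := by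
  rw [op_comp, Functor.map_comp]
  rfl

theorem ringMap_congr {X Y Y' Z : C} {f : Y ⟶ X} {f' : Z ⟶ Y} {g : Y' ⟶ X} {g' : Z ⟶ Y'}
    (h : f' ≫ f = g' ≫ g) :
    (R₀.map f'.op).hom.comp (R₀.map f.op).hom = (R₀.map g'.op).hom.comp (R₀.map g.op).hom := by
  rw [← ringMap_comp, ← ringMap_comp, h]

omit [IsCommPresheaf R₀] in
theorem map_map_eq (M : PresheafOfModules.{w} R₀) {X Y Y' Z : C} {f : Y ⟶ X} {f' : Z ⟶ Y}
    {g : Y' ⟶ X} {g' : Z ⟶ Y'} (h : f' ≫ f = g' ≫ g) (x : M.obj (op X)) :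
    M.map f'.op (M.map f.op x) = M.map g'.op (M.map g.op x) :=
  (M.map_comp_apply f.op f'.op x).symm.trans
    ((M.congr_map_apply (congrArg Quiver.Hom.op h) x).trans (M.map_comp_apply g.op g'.op x))

omit [IsCommPresheaf R₀] in
theorem map_map_eq' (M : PresheafOfModules.{w} R₀) {X Y Z : C} {f : Y ⟶ X} {f' : Z ⟶ Y}
    {g : Z ⟶ X} (h : f' ≫ f = g) (x : M.obj (op X)) :
    M.map f'.op (M.map f.op x) = M.map g.op x :=
  (M.map_comp_apply f.op f'.op x).symm.trans (M.congr_map_apply (congrArg Quiver.Hom.op h) x)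

/-- separatedness for a covering family. -/
theorem eq_zero_of_cover (M : PresheafOfModules.{w} R₀)
    (hM : Presieve.IsSheaf J (M.presheaf ⋙ forget AddCommGrpCat.{w}))
    {ι : Type} {E : C} {V : ι → C} (h : ∀ k, V k ⟶ E) (hcov : Sieve.ofArrows V h ∈ J E)
    (n : M.obj (op E)) (hn : ∀ k, M.map (h k).op n = 0) : n = 0 := by
  refine (hM _ hcov).isSeparatedFor.ext ?_
  rintro Y u ⟨Z, v, _, ⟨k⟩, rfl⟩
  change M.map (v ≫ h k).op n = M.map (v ≫ h k).op 0
  rw [map_zero]
  have := map_map_eq' M (rfl : v ≫ h k = v ≫ h k) n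
  rw [← this]
  have h0 : M.map (h k).op n = (0 : M.obj (op (V k))) := hn k
  rw [h0]
  exact map_zero (M.map v.op).hom

/-- gluing for a covering family with chosen fibre products. -/
theorem exists_of_cover (M : PresheafOfModules.{w} R₀)
    (hM : Presieve.IsSheaf J (M.presheaf ⋙ forget AddCommGrpCat.{w}))
    {ι : Type} {E : C} {V : ι → C} (h : ∀ k, V k ⟶ E) (hcov : Sieve.ofArrows V h ∈ J E)
    {P : ι → ι → C} (p1 : ∀ k l, P k l ⟶ V k) (p2 : ∀ k l, P k l ⟶ V l)
    (hpull : ∀ k l, IsPullback (p1 k l) (p2 k l) (h k) (h l))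
    (q : ∀ k, M.obj (op (V k)))
    (hq : ∀ k l, M.map (p1 k l).op (q k) = M.map (p2 k l).op (q l)) :
    ∃ n : M.obj (op E), ∀ k, M.map (h k).op n = q k := by
  have h1 : (Presieve.ofArrows V h).IsSheafFor (M.presheaf ⋙ forget AddCommGrpCat.{w}) :=
    (Presieve.isSheafFor_iff_generate _).2 (hM _ hcov)
  rw [Presieve.isSheafFor_arrows_iff] at h1
  obtain ⟨t, ht, -⟩ := h1 q (by
    intro k l Z gk gl hkl
    change M.map gk.op (q k) = M.map gl.op (q l)
    have e1 := map_map_eq' M ((hpull k l).lift_fst gk gl hkl) (q k)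
    have e2 := map_map_eq' M ((hpull k l).lift_snd gk gl hkl) (q l)
    rw [← e1, ← e2, hq])
  exact ⟨t, ht⟩

/-- **Base change on affines is local on the base.** -/
theorem hasBCAt_of_local (D : AffineData J R₀) (M : PresheafOfModules.{w} R₀)
    (hM : Presieve.IsSheaf J (M.presheaf ⋙ forget AddCommGrpCat.{w}))
    {E E' : C} (g : E' ⟶ E) (hE : D.Aff E) (hE' : D.Aff E')
    (S : Sieve E) (hS : S ∈ J E)
    (hloc : ∀ {V W : C} (a : V ⟶ E) (b : W ⟶ V), S a → D.Aff V → D.Aff W → HasBCAt M b) :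
    HasBCAt M g := by
  obtain ⟨n, V, h, hAff, hmem, hcov, -⟩ := D.exists_cover hE S hS
  -- `V_kl`
  have hpb := fun k l => D.exists_pullback (h k) (h l) (hAff k) (hAff l) hE
  choose P p1 p2 hP hpull hT using hpb
  -- `E'_k`
  have hpb' := fun k => D.exists_pullback (h k) g (hAff k) hE' hE
  choose P' b a hP' hpull' hT' using hpb'
  -- `E'_kl`
  have hpb'' := fun k l => D.exists_pullback (p1 k l ≫ h k) g (hP k l) hE' hE
  choose P'' b2 a2 hP'' hpull'' hT'' using hpb''
  have hw : ∀ k l, p1 k l ≫ h k = p2 k l ≫ h l := fun k l => (hpull k l).w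
  have hw' : ∀ k, b k ≫ h k = a k ≫ g := fun k => (hpull' k).w
  have hw'' : ∀ k l, b2 k l ≫ p1 k l ≫ h k = a2 k l ≫ g := fun k l => (hpull'' k l).w
  let s1 : ∀ k l, P'' k l ⟶ P' k := fun k l =>
    (hpull' k).lift (b2 k l ≫ p1 k l) (a2 k l) (by rw [Category.assoc]; exact hw'' k l)
  let s2 : ∀ k l, P'' k l ⟶ P' l := fun k l =>
    (hpull' l).lift (b2 k l ≫ p2 k l) (a2 k l) (by rw [Category.assoc, ← hw k l]; exact hw'' k l)
  have hs1b : ∀ k l, s1 k l ≫ b k = b2 k l ≫ p1 k l := fun k l => (hpull' k).lift_fst _ _ _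
  have hs1a : ∀ k l, s1 k l ≫ a k = a2 k l := fun k l => (hpull' k).lift_snd _ _ _
  have hs2b : ∀ k l, s2 k l ≫ b l = b2 k l ≫ p2 k l := fun k l => (hpull' l).lift_fst _ _ _
  have hs2a : ∀ k l, s2 k l ≫ a l = a2 k l := fun k l => (hpull' l).lift_snd _ _ _
  -- the family `E'_k ⟶ E'` is covering
  have hcov' : Sieve.ofArrows P' a ∈ J E' := by
    refine J.superset_covering ?_ (J.pullback_stable g hcov)
    rintro Z u ⟨Y, v, _, ⟨k⟩, huv⟩
    refine ⟨P' k, (hpull' k).lift v u huv, a k, ⟨k⟩, ?_⟩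
    exact (hpull' k).lift_snd _ _ _
  refine IsBC.of_local (φ := (R₀.map g.op).hom)
    (fun k => (R₀.map (h k).op).hom) (fun k => (R₀.map (a k).op).hom)
    (fun k => (R₀.map (b k).op).hom)
    (fun k l => (R₀.map (p1 k l).op).hom) (fun k l => (R₀.map (p2 k l).op).hom)
    (fun k l => (R₀.map (s1 k l).op).hom) (fun k l => (R₀.map (s2 k l).op).hom)
    (fun k l => (R₀.map (p1 k l ≫ h k).op).hom) (fun k l => (R₀.map (a2 k l).op).hom)
    (fun k l => (R₀.map (b2 k l).op).hom)
    (M.restrictₛₗ g.op) (fun k => M.restrictₛₗ (h k).op) (fun k => M.restrictₛₗ (a k).op)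
    (fun k => M.restrictₛₗ (b k).op)
    (fun k l => M.restrictₛₗ (p1 k l).op) (fun k l => M.restrictₛₗ (p2 k l).op)
    (fun k l => M.restrictₛₗ (s1 k l).op) (fun k l => M.restrictₛₗ (s2 k l).op)
    (fun k l => M.restrictₛₗ (b2 k l).op)
    (D.flat g hE hE') hT' hT''
    (fun k l => ringMap_comp (h k) (p1 k l))
    (fun k l => by rw [hw k l]; exact ringMap_comp (h l) (p2 k l))
    (fun k l => by rw [← hs1a k l]; exact ringMap_comp (a k) (s1 k l))
    (fun k l => by rw [← hs2a k l]; exact ringMap_comp (a l) (s2 k l))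
    (fun k x => map_map_eq M (hw' k).symm x)
    (fun k l x => map_map_eq M (hs1b k l) x)
    (fun k l x => map_map_eq M (hs2b k l) x)
    (fun k l x => map_map_eq M (hw k l) x)
    (fun k l x => (map_map_eq' M (hs1a k l) x).trans (map_map_eq' M (hs2a k l) x).symm)
    (fun x hx => eq_zero_of_cover M hM h hcov x hx)
    (fun q hq => exists_of_cover M hM h hcov p1 p2 hpull q hq)
    (fun x hx => eq_zero_of_cover M hM a hcov' x hx)
    (fun k => hloc (h k) (b k) (hmem k) (hAff k) (hP' k))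
    (fun k l => hloc (p1 k l ≫ h k) (b2 k l) (S.downward_closed (hmem k) (p1 k l)) (hP k l)
      (hP'' k l))

end Groth.Agent.Lib.Seat48.BCSite
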