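import Mathlib
import Groth.Agent.Lib.Seat48BCSite3

/-!
# Quasi-coherent sheaves of modules have base change on affines (seat 48)

Namespace `Groth.Agent.Lib.Seat48.BCSite`.

* `AffineData.over`: affine objects of the slice site.
* `hasBCOn_of_isQuasicoherent`: **a quasi-coherent sheaf of modules on a site with affine objects
  has base change along all morphisms of affine objects.**
-/

set_option autoImplicit false
set_option linter.unusedSectionVars false

universe w v₁ u₁

open CategoryTheory Limits Opposite

namespace Groth.Agent.Lib.Seat48.BCSite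

open Groth.Agent.Lib.Seat48.BCAlg

attribute [local instance] commRingSect

variable {C : Type u₁} [Category.{v₁} C]
variable {J : GrothendieckTopology C} {R : Sheaf J RingCat.{w}} [IsCommPresheaf R.obj]

instance isCommPresheaf_over (X : C) : IsCommPresheaf (R.over X).obj :=
  ⟨fun E a b => IsCommPresheaf.comm (R₀ := R.obj) (op E.unop.left) a b⟩

/-- affine objects of the slice site. -/
def AffineData.over (D : AffineData J R.obj) (X : C) : AffineData (J.over X) (R.over X).obj where
  Aff Y := D.Aff Y.left
  flat g hE hE' := D.flat g.left hE hE'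
  exists_pullback := by
    intro V W E f g hV hW hE
    obtain ⟨P, p1, p2, hP, hpull, hT⟩ := D.exists_pullback f.left g.left hV hW hE
    have hw : p2 ≫ W.hom = p1 ≫ V.hom := by
      rw [← Over.w g, ← Over.w f, ← Category.assoc, ← Category.assoc, hpull.w]
    refine ⟨Over.mk (p1 ≫ V.hom), Over.homMk p1 rfl, Over.homMk p2 hw, hP, ?_, hT⟩
    refine IsPullback.of_map (Over.forget X) ?_ hpull
    ext
    exact hpull.w
  exists_cover := by
    intro Y hE S hS
    rw [GrothendieckTopology.mem_over_iff] at hS
    obtain ⟨n, V, h, hAff, hmem, hcov, hff⟩ := D.exists_cover hE _ hS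
    refine ⟨n, fun k => Over.mk (h k ≫ Y.hom), fun k => Over.homMk (h k) rfl, hAff,
      fun k => (Sieve.overEquiv_iff _ _).1 (hmem k), ?_, hff⟩
    rw [GrothendieckTopology.mem_over_iff, Sieve.overEquiv_ofArrows]
    exact hcov

section Main

variable [HasSheafify J AddCommGrpCat.{w}] [J.WEqualsLocallyBijective AddCommGrpCat.{w}]
  [∀ X, HasSheafify (J.over X) AddCommGrpCat.{w}]
  [∀ X, (J.over X).WEqualsLocallyBijective AddCommGrpCat.{w}]

/-- **A quasi-coherent sheaf of modules on a site with affine objects has base change along all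
morphisms of affine objects.** -/
theorem hasBCOn_of_isQuasicoherent (D : AffineData J R.obj) (M : SheafOfModules.{w} R)
    [M.IsQuasicoherent] : HasBCOn D M.val := by
  obtain ⟨⟨q⟩⟩ := ‹M.IsQuasicoherent›
  have hM : Presieve.IsSheaf J (M.val.presheaf ⋙ forget AddCommGrpCat.{w}) :=
    (isSheaf_iff_isSheaf_of_type _ _).1
      (GrothendieckTopology.HasSheafCompose.isSheaf M.val.presheaf M.isSheaf)
  intro E E' g hE hE'
  refine hasBCAt_of_local D M.val hM g hE hE' (Sieve.ofObjects q.X E) (q.coversTop E) ?_
  rintro V W a b ⟨i, ⟨c⟩⟩ hV hW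
  have h1 : HasBCOn (D.over (q.X i)) (M.over (q.X i)).val :=
    hasBCOn_of_presentation (D.over (q.X i)) (q.presentation i)
  have h2 := h1 (E := Over.mk c) (E' := Over.mk (b ≫ c)) (Over.homMk b rfl) hV hW
  exact h2

end Main

end Groth.Agent.Lib.Seat48.BCSite
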