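import Mathlib
import Groth.Prelude.Def_AlgSpSub
import Groth.Agent.Lib.Seat48EffCartier
import Groth.Agent.S10175
import Groth.Agent.S10176
import Groth.Agent.S10177

/-!
# Effective Cartier divisors on algebraic spaces: chart plumbing (seat 48)

Namespace `Groth.Agent.Lib.Seat48.EffCartierSp`.
* `IsInvImage i φ I`: the closed subscheme `V(I) ⊆ U` is the inverse image of `i : D ⟶ F` under the
  chart `φ : h_U ⟶ F` (the pullback square in the definition of `AlgSp.IsEffCartierSub`).
* `IsInvImage.comap` (compatibility with `IdealSheafData.comap`), `IsInvImage.unique`,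
  `exists_isInvImage` (for `i` representable by closed immersions).
* `effAt_of_chart`: being generated by one nonzerodivisor near a point does not depend on the etale
  chart; `isEffCartierSub_iff`; `isEffCartierIdeal_of_isEffCartierSub`.
-/

set_option autoImplicit false
universe u
open CategoryTheory CategoryTheory.Limits AlgebraicGeometry

namespace Groth.Agent.Lib.Seat48.EffCartierSp

open AlgSp

variable {S : Scheme.{u}}

/-- the closed subscheme of `I`, as a scheme over `S`. -/
noncomputable abbrev subOver {U : Over S} (I : U.left.IdealSheafData) : Over S := Over.mk (I.subschemeι ≫ U.hom)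

/-- its inclusion, as a morphism over `S`. -/
noncomputable abbrev subι {U : Over S} (I : U.left.IdealSheafData) : subOver I ⟶ U := Over.homMk I.subschemeι rfl

/-- `V(I) ⊆ U` is the inverse image of `i : D ⟶ F` under the chart `φ : h_U ⟶ F`. -/
def IsInvImage {F D : AlgSp.Sp S} (i : D ⟶ F) {U : Over S} (φ : (AlgSp.yon S).obj U ⟶ F)
    (I : U.left.IdealSheafData) : Prop :=
  ∃ fst : (AlgSp.yon S).obj (subOver I) ⟶ D, IsPullback fst ((AlgSp.yon S).map (subι I)) i φ

/-- the closed subscheme of the pulled back ideal is the pullback, over `S`. -/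
theorem exists_isPullback_comap {U U' : Over S} (ψ : U' ⟶ U) (I : U.left.IdealSheafData) :
    ∃ k : subOver (I.comap ψ.left) ⟶ subOver I, IsPullback k (subι (I.comap ψ.left)) (subι I) ψ := by
  have hk : ((I.comapIso ψ.left).hom ≫ pullback.snd ψ.left I.subschemeι) ≫ (subOver I).hom =
      (subOver (I.comap ψ.left)).hom := by
    show ((I.comapIso ψ.left).hom ≫ pullback.snd ψ.left I.subschemeι) ≫ (I.subschemeι ≫ U.hom) =
      (I.comap ψ.left).subschemeι ≫ U'.hom
    rw [Category.assoc, ← Category.assoc (pullback.snd _ _), ← pullback.condition, Category.assoc,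
      Over.w ψ, ← Category.assoc, Scheme.IdealSheafData.comapIso_hom_fst]
  refine ⟨Over.homMk _ hk, ?_⟩
  have e : Over.homMk _ hk ≫ subι I = subι (I.comap ψ.left) ≫ ψ := by
    apply Over.OverMorphism.ext
    show ((I.comapIso ψ.left).hom ≫ pullback.snd ψ.left I.subschemeι) ≫ I.subschemeι =
      (I.comap ψ.left).subschemeι ≫ ψ.left
    rw [Category.assoc, ← pullback.condition, ← Category.assoc,
      Scheme.IdealSheafData.comapIso_hom_fst]
  refine IsPullback.of_map (Over.forget S) e ?_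
  have h0 : IsPullback (I.comap ψ.left).subschemeι
      ((I.comapIso ψ.left).hom ≫ pullback.snd ψ.left I.subschemeι) ψ.left I.subschemeι := by
    refine IsPullback.of_iso_pullback ⟨?_⟩ (I.comapIso ψ.left)
      (Scheme.IdealSheafData.comapIso_hom_fst I ψ.left) rfl
    rw [Category.assoc, ← pullback.condition, ← Category.assoc,
      Scheme.IdealSheafData.comapIso_hom_fst]
  exact h0.flip


theorem IsInvImage.comap {F D : AlgSp.Sp S} {i : D ⟶ F} {U U' : Over S}
    {φ : (AlgSp.yon S).obj U ⟶ F} {I : U.left.IdealSheafData} (h : IsInvImage i φ I) (ψ : U' ⟶ U) :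
    IsInvImage i ((AlgSp.yon S).map ψ ≫ φ) (I.comap ψ.left) := by
  obtain ⟨fst, sq⟩ := h
  obtain ⟨k, hk⟩ := exists_isPullback_comap ψ I
  exact ⟨(AlgSp.yon S).map k ≫ fst, (hk.map (AlgSp.yon S)).paste_horiz sq⟩

theorem IsInvImage.unique {F D : AlgSp.Sp S} {i : D ⟶ F} {U : Over S}
    {φ : (AlgSp.yon S).obj U ⟶ F} {I I' : U.left.IdealSheafData} (h : IsInvImage i φ I)
    (h' : IsInvImage i φ I') : I = I' := by
  obtain ⟨fst, sq⟩ := h
  obtain ⟨fst', sq'⟩ := h'
  let e := sq.isoIsPullback _ _ sq'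
  have he : e.hom ≫ (AlgSp.yon S).map (subι I') = (AlgSp.yon S).map (subι I) :=
    sq.isoIsPullback_hom_snd _ _ sq'
  let e₀ : subOver I ≅ subOver I' := (AlgSp.yon S).preimageIso e
  have he₀ : e₀.hom ≫ subι I' = subι I := by
    apply (AlgSp.yon S).map_injective
    rw [Functor.map_comp, Functor.preimageIso_hom, Functor.map_preimage]
    exact he
  have h1 : e₀.hom.left ≫ I'.subschemeι = I.subschemeι := congrArg (fun m => m.left) he₀
  have : IsIso e₀.hom.left := (Over.forget S).map_isIso e₀.hom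
  rw [← Scheme.IdealSheafData.ker_subschemeι I, ← h1, Scheme.Hom.ker_comp_of_isIso,
    Scheme.IdealSheafData.ker_subschemeι]

theorem exists_isInvImage {F D : AlgSp.Sp S} {i : D ⟶ F} (hi : AlgSp.RepWith @IsClosedImmersion i)
    {U : Over S} (φ : (AlgSp.yon S).obj U ⟶ F) : ∃ I : U.left.IdealSheafData, IsInvImage i φ I := by
  obtain ⟨DU, snd, fst, sq⟩ := hi.1 φ
  have hci : IsClosedImmersion snd.left := hi.2 _ _ snd sq
  refine ⟨snd.left.ker, ?_⟩
  have hw : snd.left.toImage ≫ (subOver snd.left.ker).hom = DU.hom := by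
    show snd.left.toImage ≫ (snd.left.ker.subschemeι ≫ U.hom) = DU.hom
    rw [← Category.assoc, Scheme.Hom.toImage_imageι, Over.w snd]
  let e₀ : DU ≅ subOver snd.left.ker := Over.isoMk (asIso snd.left.toImage) hw
  have he₀ : e₀.hom ≫ subι snd.left.ker = snd := by
    apply Over.OverMorphism.ext
    show snd.left.toImage ≫ snd.left.ker.subschemeι = snd.left
    exact Scheme.Hom.toImage_imageι _
  have h1 : IsPullback ((AlgSp.yon S).map e₀.inv) ((AlgSp.yon S).map (subι snd.left.ker))
      ((AlgSp.yon S).map snd) (𝟙 _) := by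
    have he₁ : e₀.inv ≫ snd = subι snd.left.ker := by
      rw [Iso.inv_comp_eq]; exact he₀.symm
    refine IsPullback.of_horiz_isIso ⟨?_⟩
    rw [Category.comp_id, ← Functor.map_comp, he₁]
  have h2 := h1.paste_horiz sq
  rw [Category.id_comp] at h2
  exact ⟨_, h2⟩

/-- chart independence of "generated by one nonzerodivisor near a point". -/
theorem effAt_of_chart {F D : AlgSp.Sp S} {i : D ⟶ F} {V U : Over S}
    {φ₀ : (AlgSp.yon S).obj V ⟶ F} (hφ₀ : AlgSp.RepWith @Etale φ₀) {I₀ : V.left.IdealSheafData}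
    (h₀ : IsInvImage i φ₀ I₀) {φ : (AlgSp.yon S).obj U ⟶ F} (hφ : AlgSp.RepWith @Etale φ)
    {I : U.left.IdealSheafData} (hI : IsInvImage i φ I) (v : ↥V.left) (u : ↥U.left)
    (hvu : AlgSp.Points.ofPt φ₀ v = AlgSp.Points.ofPt φ u) (hv : EffCartier.EffAt I₀ v) :
    EffCartier.EffAt I u := by
  obtain ⟨W, prU, prV', sq⟩ := hφ₀.1 φ
  obtain ⟨prV, rfl⟩ := (AlgSp.yon S).map_surjective prV'
  have : Etale prU.left := hφ₀.2 _ _ prU sq
  have : Etale prV.left := hφ.2 _ _ prV sq.flip
  obtain ⟨w, hwv, hwu⟩ := Groth.Agent.S10176.exists_point_of_isPullback_yon sq v u hvu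
  have h1 := h₀.comap prV
  have h2 := hI.comap prU
  rw [sq.w] at h1
  have h3 : I₀.comap prV.left = I.comap prU.left := h1.unique h2
  subst hwv hwu
  have h4 := EffCartier.EffAt.comap prV.left I₀ w hv
  rw [h3] at h4
  exact EffCartier.EffAt.of_comap prU.left I w h4

theorem isEffCartierSub_iff {F D : AlgSp.Sp S} (i : D ⟶ F) :
    AlgSp.IsEffCartierSub i ↔ AlgSp.RepWith @IsClosedImmersion i ∧
      ∃ (V : Over S) (φ : (AlgSp.yon S).obj V ⟶ F) (I : V.left.IdealSheafData),
        AlgSp.RepWith @Etale φ ∧ AlgSp.RepWith @Surjective φ ∧ IsInvImage i φ I ∧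
          BlowUp.IsEffCartierIdeal I := by
  constructor
  · rintro ⟨h1, V, φ, I, fst, h2, h3, h4, h5⟩
    exact ⟨h1, V, φ, I, h2, h3, ⟨fst, h4⟩, h5⟩
  · rintro ⟨h1, V, φ, I, h2, h3, ⟨fst, h4⟩, h5⟩
    exact ⟨h1, V, φ, I, fst, h2, h3, h4, h5⟩

/-- for an effective Cartier divisor, the ideal of its inverse image in any etale chart is
effective Cartier. -/
theorem isEffCartierIdeal_of_isEffCartierSub {F D : AlgSp.Sp S} {i : D ⟶ F}
    (h : AlgSp.IsEffCartierSub i) {U : Over S} {φ : (AlgSp.yon S).obj U ⟶ F}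
    (hφ : AlgSp.RepWith @Etale φ) {I : U.left.IdealSheafData} (hI : IsInvImage i φ I) :
    BlowUp.IsEffCartierIdeal I := by
  obtain ⟨-, V, φ₀, I₀, hφ₀, hφ₀s, h₀, hI₀⟩ := (isEffCartierSub_iff i).1 h
  intro u
  obtain ⟨v, hv⟩ := Groth.Agent.S10177.surjective_ofPt φ₀ hφ₀s (AlgSp.Points.ofPt φ u)
  exact effAt_of_chart hφ₀ h₀ hφ hI v u hv (hI₀ v)


/-- inverse images are compatible with base change of the closed subspace. -/
theorem IsInvImage.of_isPullback {F G D P : AlgSp.Sp S} {i : D ⟶ G} {f : F ⟶ G} {fst : P ⟶ D}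
    {snd : P ⟶ F} (hP : IsPullback fst snd i f) {U : Over S} {a : (AlgSp.yon S).obj U ⟶ F}
    {I : U.left.IdealSheafData} (h : IsInvImage i (a ≫ f) I) : IsInvImage snd a I := by
  obtain ⟨fst₁, sq₁⟩ := h
  have hcomm : fst₁ ≫ i = ((AlgSp.yon S).map (subι I) ≫ a) ≫ f := by
    rw [sq₁.w, Category.assoc]
  refine ⟨hP.lift _ _ hcomm, ?_⟩
  refine IsPullback.of_right ?_ (hP.lift_snd _ _ hcomm) hP
  rw [hP.lift_fst _ _ hcomm]
  exact sq₁

/-- the chart of `D` given by the inverse image of `D` in an etale chart of `F`. -/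
theorem IsInvImage.exists_chart {F D : AlgSp.Sp S} {i : D ⟶ F} {U : Over S}
    {φ : (AlgSp.yon S).obj U ⟶ F} (hφ : AlgSp.RepWith @Etale φ) {I : U.left.IdealSheafData}
    (h : IsInvImage i φ I) (x : AlgSp.Points D) (u : ↥U.left)
    (hxu : AlgSp.Points.map i x = AlgSp.Points.ofPt φ u) :
    ∃ (fst : (AlgSp.yon S).obj (subOver I) ⟶ D) (d : ↥I.subscheme),
      IsPullback fst ((AlgSp.yon S).map (subι I)) i φ ∧ AlgSp.RepWith @Etale fst ∧
        AlgSp.Points.ofPt fst d = x ∧ I.subschemeι d = u := by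
  obtain ⟨fst, sq⟩ := h
  have hfst : AlgSp.RepWith @Etale fst := MorphismProperty.of_isPullback sq.flip hφ
  rw [AlgSp.Points.ofPt_eq_map_ofScheme] at hxu
  obtain ⟨p, hp1, hp2⟩ := Groth.Agent.S10175.exists_point_of_isPullback sq.flip
    (AlgSp.Points.ofScheme U u) x hxu.symm
  obtain ⟨d, rfl⟩ := (AlgSp.Points.schemeHomeo (subOver I)).surjective p
  refine ⟨fst, d, sq, hfst, ?_, ?_⟩
  · rw [AlgSp.Points.ofPt_eq_map_ofScheme]
    exact hp2
  · apply (AlgSp.Points.schemeHomeo U).injective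
    have := AlgSp.Points.map_yon_map_apply (subι I) d
    exact this.symm.trans hp1

end Groth.Agent.Lib.Seat48.EffCartierSp
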