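import Mathlib
import Groth.Prelude.Def_AlgSpModX
import Groth.Prelude.Def_AlgSpSub
import Groth.Agent.Lib.Seat48EffCartierSp
import Groth.Agent.Lib.Helper20EffCartier

/-!
# The ideal family of a closed subspace and its inverse images in charts (seat 48)

Namespace `Groth.Agent.Lib.Seat48.IdealEtSp`.
* `isInvImage_ker`: the kernel ideal of a representing closed immersion is the inverse image ideal.
* `idealOfRep_ideal`: the value of `AlgSp.idealOfRep` on an affine object is the ideal of global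
  sections of the inverse image ideal sheaf.
* `openObj φ hφ V₁`: an open of a chart as an object of the small etale site;
  `idealOfRep_openObj`: the value of `AlgSp.idealOfRep` there, through the ideal sheaf on the chart.
* `eq_mul_of_isCutOutBy`: if `Z`, `Y`, `D` are cut out by `I`, `J`, `I * J` then in every etale chart
  the ideal sheaf of `D` is the product of those of `Z` and `Y`.
-/

set_option autoImplicit false
universe u
open CategoryTheory CategoryTheory.Limits AlgebraicGeometry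

namespace Groth.Agent.Lib.Seat48.IdealEtSp

open AlgSp
open Groth.Agent.Lib.Seat48.EffCartierSp
open Groth.Agent.Lib.Helper20

variable {S : Scheme.{u}}

/-- the kernel ideal of a representing closed immersion is the inverse image ideal. -/
theorem isInvImage_ker {F D : AlgSp.Sp S} {i : D ⟶ F} {U DU : Over S}
    {φ : (AlgSp.yon S).obj U ⟶ F} {snd : DU ⟶ U} {fst : (AlgSp.yon S).obj DU ⟶ D}
    (sq : IsPullback fst ((AlgSp.yon S).map snd) i φ) (hci : IsClosedImmersion snd.left) :
    IsInvImage i φ snd.left.ker := by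
  have hw : snd.left.toImage ≫ (subOver snd.left.ker).hom = DU.hom := by
    show snd.left.toImage ≫ (snd.left.ker.subschemeι ≫ U.hom) = DU.hom
    rw [← Category.assoc, Scheme.Hom.toImage_imageι, Over.w snd]
  let e₀ : DU ≅ subOver snd.left.ker := Over.isoMk (asIso snd.left.toImage) hw
  have he₀ : e₀.hom ≫ subι snd.left.ker = snd := by
    apply Over.OverMorphism.ext
    show snd.left.toImage ≫ snd.left.ker.subschemeι = snd.left
    exact Scheme.Hom.toImage_imageι _
  have h1 : IsPullback ((AlgSp.yon S).map e₀.inv) ((AlgSp.yon S).map (subι snd.left.ker))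
      ((AlgSp.yon S).map snd) (𝟙 _) := by
    have he₁ : e₀.inv ≫ snd = subι snd.left.ker := by
      rw [Iso.inv_comp_eq]; exact he₀.symm
    refine IsPullback.of_horiz_isIso ⟨?_⟩
    rw [Category.comp_id, ← Functor.map_comp, he₁]
  have h2 := h1.paste_horiz sq
  rw [Category.id_comp] at h2
  exact ⟨_, h2⟩

/-- the value of `idealOfRep` on an affine object is the ideal of global sections of the inverse image
ideal sheaf. -/
theorem idealOfRep_ideal {X Z : AlgSp.Sp S} {i : Z ⟶ X} (hi : AlgSp.RepWith @IsClosedImmersion i)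
    (E : AlgSp.EtOver X) (hE : IsAffine E.obj.left.left) {I : E.obj.left.left.IdealSheafData}
    (h : IsInvImage i E.obj.hom I) :
    (AlgSp.idealOfRep hi.1).ideal E hE = I.ideal ⟨⊤, isAffineOpen_top _⟩ := by
  have sq := AlgSp.EtOver.isPullback_bcObj hi.1 E
  have hci : IsClosedImmersion (AlgSp.EtOver.bcπ hi.1 E).left := hi.2 _ _ _ sq
  have h1 := isInvImage_ker sq hci
  rw [h.unique h1, Scheme.Hom.ker_apply]
  rfl

variable {X : AlgSp.Sp S}

/-- an open of a chart, as a scheme over `S`. -/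
noncomputable abbrev openOver {V : Over S} (V₁ : V.left.Opens) : Over S := Over.mk (V₁.ι ≫ V.hom)

/-- its inclusion, over `S`. -/
noncomputable abbrev openι {V : Over S} (V₁ : V.left.Opens) : openOver V₁ ⟶ V := Over.homMk V₁.ι rfl

/-- an open of an etale chart as an object of the small etale site. -/
noncomputable def openObj {V : Over S} (φ : (AlgSp.yon S).obj V ⟶ X) (hφ : AlgSp.RepWith @Etale φ)
    (V₁ : V.left.Opens) : AlgSp.EtOver X :=
  AlgSp.EtOver.mk ((AlgSp.yon S).map (openι V₁) ≫ φ)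
    ((AlgSp.RepWith @Etale).comp_mem _ _
      ((AlgSp.repWith_yon_map_iff _ _).2 (inferInstanceAs (Etale V₁.ι))) hφ)

theorem openObj_hom {V : Over S} (φ : (AlgSp.yon S).obj V ⟶ X) (hφ : AlgSp.RepWith @Etale φ)
    (V₁ : V.left.Opens) : (openObj φ hφ V₁).obj.hom = (AlgSp.yon S).map (openι V₁) ≫ φ := rfl

/-- the value of `idealOfRep` on an affine open of a chart. -/
theorem idealOfRep_openObj {Z : AlgSp.Sp S} {i : Z ⟶ X} (hi : AlgSp.RepWith @IsClosedImmersion i)
    {V : Over S} (φ : (AlgSp.yon S).obj V ⟶ X) (hφ : AlgSp.RepWith @Etale φ)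
    (V₁ : V.left.affineOpens) {I : V.left.IdealSheafData} (h : IsInvImage i φ I) :
    (AlgSp.idealOfRep hi.1).ideal (openObj φ hφ V₁.1) V₁.2 =
      (I.ideal V₁).map (V₁.1.ι.appLE V₁.1 ⊤ V₁.1.ι_preimage_self.ge).hom := by
  have h1 : IsInvImage i (openObj φ hφ V₁.1).obj.hom (I.comap V₁.1.ι) := h.comap (openι V₁.1)
  rw [idealOfRep_ideal hi (openObj φ hφ V₁.1) V₁.2 h1]
  exact EffCartier.ideal_comap_eq_map V₁.1.ι I (isAffineOpen_top _) V₁.2 V₁.1.ι_preimage_self.ge

/-- if `Z`, `Y`, `D` are cut out by `I`, `J`, `I * J`, then in every etale chart the ideal sheaf of `D`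
is the product of those of `Z` and `Y`. -/
theorem eq_mul_of_isCutOutBy {Z Y D : AlgSp.Sp S} {iZ : Z ⟶ X} {iY : Y ⟶ X} {iD : D ⟶ X}
    {I J : AlgSp.IdealEt X} (hZ : AlgSp.IsCutOutBy I iZ) (hY : AlgSp.IsCutOutBy J iY)
    (hD : AlgSp.IsCutOutBy (I * J) iD) {V : Over S} (φ : (AlgSp.yon S).obj V ⟶ X)
    (hφ : AlgSp.RepWith @Etale φ) {IZ IY ID : V.left.IdealSheafData} (hZ' : IsInvImage iZ φ IZ)
    (hY' : IsInvImage iY φ IY) (hD' : IsInvImage iD φ ID) : ID = IZ * IY := by
  obtain ⟨hiZ, eZ⟩ := hZ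
  obtain ⟨hiY, eY⟩ := hY
  obtain ⟨hiD, eD⟩ := hD
  apply Scheme.IdealSheafData.ext
  funext V₁
  rw [Scheme.IdealSheafData.ideal_mul, Pi.mul_apply]
  have h1 := idealOfRep_openObj hiZ φ hφ V₁ hZ'
  have h2 := idealOfRep_openObj hiY φ hφ V₁ hY'
  have h3 := idealOfRep_openObj hiD φ hφ V₁ hD'
  rw [eZ] at h1
  rw [eY] at h2
  rw [eD, AlgSp.IdealEt.mul_ideal, h1, h2] at h3
  have hm := Ideal.map_mul (V₁.1.ι.appLE V₁.1 ⊤ V₁.1.ι_preimage_self.ge).hom (IZ.ideal V₁)
    (IY.ideal V₁)
  have h3' := hm.trans h3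
  have hb : Function.Bijective (V₁.1.ι.appLE V₁.1 ⊤ V₁.1.ι_preimage_self.ge).hom :=
    ConcreteCategory.bijective_of_isIso _
  have h4 := congrArg (Ideal.comap (V₁.1.ι.appLE V₁.1 ⊤ V₁.1.ι_preimage_self.ge).hom) h3'
  rw [Ideal.comap_map_of_bijective _ hb, Ideal.comap_map_of_bijective _ hb] at h4
  exact h4.symm

end Groth.Agent.Lib.Seat48.IdealEtSp
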