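import Mathlib
import Groth.Prelude.Def_CInt
import Groth.Agent.Lib.Seat48EffCartierSp
import Groth.Agent.Lib.Helper20BlowUp
import Groth.Agent.Lib.Helper12AffineDescent

/-!
# The complement of an effective Cartier divisor (seat 48)

Namespace `Groth.Agent.Lib.Seat48.EffCartierCompl`.
* schemes: `isSchematicallyDense_compl` (the complement of the support of an effective Cartier ideal is
  schematically dense, `CInt.IsSchematicallyDense`), `isAffineHom_of_range_eq` (an open immersion onto
  the inverse image of that complement is an affine morphism).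
* sheaves: `range_left_of_isPullback` (points of a representable base change),
  `support_eq_of_isInvImage`, `isPullback_of_iso_over`.
-/

set_option autoImplicit false
universe u
open CategoryTheory CategoryTheory.Limits AlgebraicGeometry

namespace Groth.Agent.Lib.Seat48.EffCartierCompl

open nonZeroDivisors
open Groth.Agent.Lib.Helper20
open Groth.Agent.Lib.Seat48.EffCartier

variable {X : Scheme.{u}}

/-- on an affine open where `I = (f)`, the support of `I` is the complement of `D(f)`. -/
theorem mem_support_iff_of_span {I : X.IdealSheafData} (U : X.affineOpens) (f : Γ(X, U.1))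
    (hI : I.ideal U = Ideal.span {f}) {x : X} (hx : x ∈ U.1) :
    x ∈ I.support ↔ x ∉ X.basicOpen f := by
  rw [Scheme.IdealSheafData.mem_support_iff_of_mem hx, hI, Scheme.zeroLocus_span,
    Scheme.zeroLocus_singleton]
  rfl

/-- the complement of an effective Cartier divisor is schematically dense. -/
theorem isSchematicallyDense_compl {I : X.IdealSheafData} (hI : BlowUp.IsEffCartierIdeal I) :
    CInt.IsSchematicallyDense (BlowUpBasic.compl I) := by
  intro V'
  rw [injective_iff_map_eq_zero]
  intro s hs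
  -- choose, around each point of `V'`, an affine open where `I` is principal
  have hloc : ∀ x : V', ∃ (V₁ : X.Opens), x.1 ∈ V₁ ∧ ∃ hle : V₁ ≤ V',
      X.presheaf.map (homOfLE hle).op s = 0 := by
    intro x
    obtain ⟨V₁, hV₁, hxV₁, hle, f, hf, hIf⟩ := EffAt.exists_le (hI x.1) V' x.2
    refine ⟨V₁, hxV₁, hle, ?_⟩
    have hb : X.basicOpen f ≤ V' ⊓ BlowUpBasic.compl I := by
      intro y hy
      have hyV₁ : y ∈ V₁ := X.basicOpen_le f hy
      refine ⟨hle hyV₁, ?_⟩
      show y ∉ I.support
      rw [mem_support_iff_of_span ⟨V₁, hV₁⟩ f hIf hyV₁]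
      exact fun h => h hy
    have h0 : X.presheaf.map (homOfLE (X.basicOpen_le f)).op (X.presheaf.map (homOfLE hle).op s)
        = 0 := by
      have e : X.presheaf.map (homOfLE (X.basicOpen_le f)).op (X.presheaf.map (homOfLE hle).op s) =
          X.presheaf.map (homOfLE hb).op
            (X.presheaf.map (homOfLE (inf_le_left : V' ⊓ BlowUpBasic.compl I ≤ V')).op s) := by
        rw [← CommRingCat.comp_apply, ← CommRingCat.comp_apply, ← Functor.map_comp,
          ← Functor.map_comp]
        rfl
      rw [e, hs, map_zero]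
    obtain ⟨n, hn⟩ := exists_pow_mul_eq_zero_of_res_basicOpen_eq_zero_of_isAffineOpen X hV₁ _ f h0
    have hfn : f ^ n ∈ Γ(X, V₁)⁰ := pow_mem hf n
    exact (mem_nonZeroDivisors_iff.1 hfn).1 _ hn
  choose V₁ hxV₁ hle hres using hloc
  refine TopCat.Sheaf.eq_of_locally_eq' X.sheaf V₁ V' (fun x => homOfLE (hle x)) ?_ s 0 ?_
  · intro y hy
    exact TopologicalSpace.Opens.mem_iSup.2 ⟨⟨y, hy⟩, hxV₁ ⟨y, hy⟩⟩
  · intro x
    rw [map_zero]
    exact hres x

/-- an open immersion whose range is the inverse image of the complement of a locally principal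
closed subscheme is an affine morphism. -/
theorem isAffineHom_of_range_eq {I : X.IdealSheafData} (hI : BlowUp.IsEffCartierIdeal I)
    {T W : Scheme.{u}} (h : T ⟶ X) (ι : W ⟶ T) [IsOpenImmersion ι]
    (hr : Set.range ι = h ⁻¹' ((I.support : Set X)ᶜ)) : IsAffineHom ι := by
  apply isAffineHom_of_forall_exists_isAffineOpen
  intro t
  obtain ⟨V₁, htV₁, f, -, hIf⟩ := hI (h t)
  obtain ⟨T₁, hT₁, htT₁, hle⟩ :=
    exists_isAffineOpen_mem_and_subset (x := t) (U := h ⁻¹ᵁ V₁.1) htV₁
  refine ⟨T₁, htT₁, hT₁, ?_⟩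
  rw [← ι.isAffineOpen_iff_of_isOpenImmersion]
  have e : ι ''ᵁ ι ⁻¹ᵁ T₁ = T.basicOpen (h.appLE V₁.1 T₁ hle f) := by
    rw [Scheme.basicOpen_appLE]
    ext y
    simp only [Scheme.Hom.coe_image, Scheme.Hom.coe_preimage, Set.image_preimage_eq_inter_range,
      TopologicalSpace.Opens.coe_inf, hr]
    constructor
    · rintro ⟨hy1, hy2⟩
      refine ⟨hy1, ?_⟩
      have : h y ∉ I.support := hy2
      rw [mem_support_iff_of_span V₁ f hIf (hle hy1), not_not] at this
      exact this
    · rintro ⟨hy1, hy2⟩
      refine ⟨hy1, ?_⟩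
      show h y ∉ I.support
      rw [mem_support_iff_of_span V₁ f hIf (hle hy1), not_not]
      exact hy2
  rw [e]
  exact hT₁.basicOpen _


open AlgSp

variable {S : Scheme.{u}}

/-- the points of the base change of `j` along a chart `φ : h_T ⟶ F`, for a representable base
change `w : W ⟶ T`. -/
theorem range_left_of_isPullback {F G : AlgSp.Sp S} {j : G ⟶ F} {T W : Over S}
    {φ : (AlgSp.yon S).obj T ⟶ F} {w : W ⟶ T} {fst : (AlgSp.yon S).obj W ⟶ G}
    (sq : IsPullback fst ((AlgSp.yon S).map w) j φ) :
    Set.range w.left = {t | AlgSp.Points.ofPt φ t ∈ Set.range (AlgSp.Points.map j)} := by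
  ext t
  constructor
  · rintro ⟨y, rfl⟩
    refine ⟨AlgSp.Points.ofPt fst y, ?_⟩
    rw [AlgSp.Points.map_ofPt, sq.w, Groth.Agent.S10176.ofPt_map_comp]
  · rintro ⟨x, hx⟩
    rw [AlgSp.Points.ofPt_eq_map_ofScheme] at hx
    obtain ⟨p, -, hp2⟩ := Groth.Agent.S10175.exists_point_of_isPullback sq x
      (AlgSp.Points.ofScheme T t) hx
    obtain ⟨y, rfl⟩ := (AlgSp.Points.schemeHomeo W).surjective p
    refine ⟨y, ?_⟩
    apply (AlgSp.Points.schemeHomeo T).injective
    exact (AlgSp.Points.map_yon_map_apply w y).symm.trans hp2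

/-- the support of the ideal of the inverse image of a closed subspace in a chart. -/
theorem support_eq_of_isInvImage {F D : AlgSp.Sp S} {i : D ⟶ F} {T : Over S}
    {φ : (AlgSp.yon S).obj T ⟶ F} {I : T.left.IdealSheafData}
    (h : EffCartierSp.IsInvImage i φ I) :
    (I.support : Set ↥T.left) = {t | AlgSp.Points.ofPt φ t ∈ Set.range (AlgSp.Points.map i)} := by
  obtain ⟨fst, sq⟩ := h
  rw [← range_left_of_isPullback sq]
  exact (Scheme.IdealSheafData.range_subschemeι I).symm

/-- replace the representing scheme of a pullback square by an isomorphic one. -/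
theorem isPullback_of_iso_over {F G : AlgSp.Sp S} {j : G ⟶ F} {T W W' : Over S}
    {φ : (AlgSp.yon S).obj T ⟶ F} {w : W ⟶ T} {fst : (AlgSp.yon S).obj W ⟶ G}
    (sq : IsPullback fst ((AlgSp.yon S).map w) j φ) (e : W' ≅ W) (w' : W' ⟶ T)
    (he : e.hom ≫ w = w') :
    IsPullback ((AlgSp.yon S).map e.hom ≫ fst) ((AlgSp.yon S).map w') j φ := by
  have h1 : IsPullback ((AlgSp.yon S).map e.hom) ((AlgSp.yon S).map w') ((AlgSp.yon S).map w)
      (𝟙 _) := by
    refine IsPullback.of_horiz_isIso ⟨?_⟩
    rw [Category.comp_id, ← Functor.map_comp, he]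
  have h2 := h1.paste_horiz sq
  rwa [Category.id_comp] at h2

end Groth.Agent.Lib.Seat48.EffCartierCompl
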