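import Mathlib
import Groth.Prelude.Def_AlgSpModX
import Groth.Prelude.Def_AlgSpSub
import Groth.Agent.Lib.Seat48EffCartierCompl
import Groth.Agent.Lib.Helper20EffCartier

/-!
# Weakly associated points and pullbacks of effective Cartier ideals (seat 48)

Namespace `Groth.Agent.Lib.Seat48.WeakAss`.
* `annElt a`: the annihilator of an element of a commutative ring, as an ideal.
* `primeAtPt_fromSpec`: on an affine scheme, the prime of functions vanishing at the point of a prime
  is that prime.
* `effAt_comap_of_weakAss`: on an affine scheme `W` mapping into an affine open where `I = (t)` with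
  `t` a nonzerodivisor, if no weakly associated point of `W` maps into the support of `I`, then the
  pullback of `I` is generated by the (nonzerodivisor) image of `t`.
* `annSect_unit`: the annihilator of a section of the structure sheaf.
-/

set_option autoImplicit false
universe u
open CategoryTheory CategoryTheory.Limits AlgebraicGeometry

namespace Groth.Agent.Lib.Seat48.WeakAss

open nonZeroDivisors
open Groth.Agent.Lib.Helper20
open Groth.Agent.Lib.Seat48.EffCartier
open Groth.Agent.Lib.Seat48.EffCartierCompl

/-- the annihilator of an element of a commutative ring. -/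
def annElt {R : Type u} [CommRing R] (a : R) : Ideal R :=
  LinearMap.ker (LinearMap.toSpanSingleton R R a)

theorem mem_annElt_iff {R : Type u} [CommRing R] (a b : R) : b ∈ annElt a ↔ b * a = 0 := by
  unfold annElt
  rw [LinearMap.mem_ker, LinearMap.toSpanSingleton_apply, smul_eq_mul]

/-- a nonzero element has a prime minimal over its annihilator. -/
theorem exists_minimalPrimes_annElt {R : Type u} [CommRing R] (a : R) (ha : a ≠ 0) :
    ∃ p : Ideal R, p ∈ (annElt a).minimalPrimes := by
  have hne : annElt a ≠ ⊤ := by
    intro h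
    have h1 : (1 : R) ∈ annElt a := h ▸ Submodule.mem_top
    rw [mem_annElt_iff, one_mul] at h1
    exact ha h1
  obtain ⟨m, hm, hle⟩ := Ideal.exists_le_maximal _ hne
  have : m.IsPrime := hm.isPrime
  obtain ⟨p, hp, -⟩ := Ideal.exists_minimalPrimes_le hle
  exact ⟨p, hp⟩

variable {W : Scheme.{u}}

/-- on an affine scheme, the prime of functions vanishing at the point of a prime is that prime. -/
theorem primeAtPt_eq_primeIdealOf [IsAffine W] (w : W) :
    AlgSp.primeAtPt W w = ((isAffineOpen_top W).primeIdealOf ⟨w, trivial⟩).asIdeal := by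
  rw [IsAffineOpen.primeIdealOf_eq_map_closedPoint]
  rfl

theorem primeAtPt_fromSpec [IsAffine W] (p : PrimeSpectrum Γ(W, ⊤)) :
    AlgSp.primeAtPt W ((isAffineOpen_top W).fromSpec p) = p.asIdeal := by
  rw [primeAtPt_eq_primeIdealOf]
  congr 1
  apply (isAffineOpen_top W).fromSpec.injective
  exact (isAffineOpen_top W).fromSpec_primeIdealOf ⟨_, trivial⟩

/-- the key step: the image of the local equation stays a nonzerodivisor when no weakly associated
point maps into the divisor. -/
theorem effAt_comap_of_weakAss [IsAffine W] {V : Scheme.{u}} (ψ : W ⟶ V) (I : V.IdealSheafData)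
    (V₁ : V.affineOpens) (hle : (⊤ : W.Opens) ≤ ψ ⁻¹ᵁ V₁.1) (t : Γ(V, V₁.1)) (hI : I.ideal V₁ = Ideal.span {t})
    (hw : ∀ (a : Γ(W, ⊤)) (u : W), AlgSp.primeAtPt W u ∈ (annElt a).minimalPrimes →
      ψ u ∉ I.support) (w : W) : EffAt (I.comap ψ) w := by
  refine ⟨⟨⊤, isAffineOpen_top W⟩, trivial, (ψ.appLE V₁.1 ⊤ hle).hom t, ?_, ?_⟩
  · rw [mem_nonZeroDivisors_iff_right]
    intro a ha
    by_contra ha0
    obtain ⟨p, hp⟩ := exists_minimalPrimes_annElt a ha0
    have hpp : p.IsPrime := hp.1.1
    have h1 := hw a ((isAffineOpen_top W).fromSpec ⟨p, hpp⟩)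
      (by rw [primeAtPt_fromSpec]; exact hp)
    have hin : ψ ((isAffineOpen_top W).fromSpec ⟨p, hpp⟩) ∈ V₁.1 := hle trivial
    rw [mem_support_iff_of_span V₁ t hI hin, not_not] at h1
    have h2 : (isAffineOpen_top W).fromSpec ⟨p, hpp⟩ ∈
        W.basicOpen ((ψ.appLE V₁.1 ⊤ hle).hom t) := by
      rw [Scheme.basicOpen_appLE]
      exact ⟨trivial, h1⟩
    rw [mem_basicOpen_iff_notMem_primeIdealOf (isAffineOpen_top W) _ trivial,
      ← primeAtPt_eq_primeIdealOf, primeAtPt_fromSpec] at h2
    apply h2
    apply hp.1.2
    rw [mem_annElt_iff, mul_comm]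
    exact ha
  · rw [EffCartier.ideal_comap_eq_map ψ I (isAffineOpen_top W) V₁.2 hle, hI, Ideal.map_span,
      Set.image_singleton]

section Space

open AlgSp

variable {S : Scheme.{u}} {X : AlgSp.Sp S}

/-- a function as a section of the structure sheaf seen as a module over itself. -/
noncomputable def unitSect (E : AlgSp.EtOver X) (a : Γ(E.obj.left.left, ⊤)) :
    AlgSp.sectModEt (AlgSp.unitModEt X) E := AlgSp.upΓ E a

/-- the annihilator of a section of the structure sheaf. -/
theorem annSect_unitSect (E : AlgSp.EtOver X) (a : Γ(E.obj.left.left, ⊤)) :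
    AlgSp.annSect (unitSect E a) = annElt a := by
  ext b
  rw [AlgSp.mem_annSect_iff, mem_annElt_iff]
  have h1 : (AlgSp.upΓ E b) • unitSect E a = AlgSp.upΓ E (b * a) := by
    rw [map_mul]
    rfl
  rw [h1]
  constructor
  · intro h
    have := congrArg ULift.down h
    exact this
  · intro h
    rw [h, map_zero]
    rfl

/-- a point of an affine chart whose prime is minimal over the annihilator of a function gives a
weakly associated point of the structure sheaf. -/
theorem mem_weakAssEt_unit (E : AlgSp.EtOver X) [IsAffine E.obj.left.left]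
    (a : Γ(E.obj.left.left, ⊤)) (u : E.obj.left.left)
    (hu : AlgSp.primeAtPt E.obj.left.left u ∈ (annElt a).minimalPrimes) :
    AlgSp.Points.ofPt E.obj.hom u ∈ AlgSp.WeakAssEt (AlgSp.unitModEt X) :=
  ⟨E, inferInstance, u, rfl, unitSect E a, by rw [annSect_unitSect]; exact hu⟩

end Space

end Groth.Agent.Lib.Seat48.WeakAss
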