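import Mathlib
import Groth.Prelude.Def_AlgSpModX
import Groth.Agent.Lib.Seat48IdealEt
import Groth.Agent.Lib.Seat48WeakAss

/-!
# Sections of modules on the small etale site over affine objects (seat 48)

Namespace `Groth.Agent.Lib.Seat48.ModSect`.
* `affObj E U₁`, `affHom E U₁`: an open of (the scheme of) an object of the small etale site, as an
  object with its inclusion morphism; `affineCover_mem`: the affine opens cover.
* `sect_ext_of_affine`: sections of a module are determined by their restrictions to affine opens.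
* `annSect_ne_top`, `exists_isWeakAssOn`: a nonzero section over an affine object has a weakly
  associated point.
-/

set_option autoImplicit false
universe u
open CategoryTheory CategoryTheory.Limits AlgebraicGeometry Opposite

namespace Groth.Agent.Lib.Seat48.ModSect

open AlgSp
open Groth.Agent.Lib.Seat48.IdealEtSp
open Groth.Agent.Lib.Seat48.WeakAss

variable {S : Scheme.{u}} {X : AlgSp.Sp S}

/-- an open of an object of the small etale site, as an object. -/
noncomputable abbrev affObj (E : AlgSp.EtOver X) (U₁ : E.obj.left.left.Opens) : AlgSp.EtOver X :=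
  openObj E.obj.hom E.property U₁

/-- its inclusion. -/
noncomputable abbrev affHom (E : AlgSp.EtOver X) (U₁ : E.obj.left.left.Opens) : affObj E U₁ ⟶ E :=
  AlgSp.EtOver.homMk (openι U₁) rfl

theorem affineCover_mem (E : AlgSp.EtOver X) :
    Sieve.ofArrows (fun U₁ : E.obj.left.left.affineOpens => affObj E U₁.1)
      (fun U₁ => affHom E U₁.1) ∈ AlgSp.etTop X E := by
  apply AlgSp.ofArrows_mem_etTop
  intro x
  obtain ⟨U₁, hU₁, hx, -⟩ := exists_isAffineOpen_mem_and_subset (x := x)
    (U := (⊤ : E.obj.left.left.Opens)) trivial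
  exact ⟨⟨U₁, hU₁⟩, ⟨x, hx⟩, rfl⟩

/-- sections of a module are determined by their restrictions to the affine opens. -/
theorem sect_ext_of_affine (M : AlgSp.ModEt X) (E : AlgSp.EtOver X) (s t : AlgSp.sectModEt M E)
    (h : ∀ U₁ : E.obj.left.left.affineOpens,
      M.val.map (affHom E U₁.1).op s = M.val.map (affHom E U₁.1).op t) : s = t := by
  have hsep := Presheaf.IsSheaf.isSeparated M.isSheaf
  refine hsep E _ (affineCover_mem E) s t ?_
  rintro Y f ⟨Z, g, _, ⟨U₁⟩, rfl⟩
  have h1 := congrArg (M.val.map g.op) (h U₁)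
  have e : ∀ x : AlgSp.sectModEt M E, M.val.presheaf.map (g ≫ affHom E U₁.1).op x =
      M.val.map g.op (M.val.map (affHom E U₁.1).op x) := by
    intro x
    rw [op_comp, Functor.map_comp]
    rfl
  rw [e, e]
  exact h1

theorem annSect_zero (M : AlgSp.ModEt X) (E : AlgSp.EtOver X) :
    AlgSp.annSect (0 : AlgSp.sectModEt M E) = ⊤ := by
  rw [eq_top_iff]
  intro a _
  rw [AlgSp.mem_annSect_iff, smul_zero]

theorem annSect_ne_top {M : AlgSp.ModEt X} {E : AlgSp.EtOver X} {s : AlgSp.sectModEt M E}
    (hs : s ≠ 0) : AlgSp.annSect s ≠ ⊤ := by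
  intro h
  have h1 : (1 : Γ(E.obj.left.left, ⊤)) ∈ AlgSp.annSect s := h ▸ Submodule.mem_top
  rw [AlgSp.mem_annSect_iff, map_one, one_smul] at h1
  exact hs h1

/-- a nonzero section over an affine object has a weakly associated point. -/
theorem exists_isWeakAssOn {M : AlgSp.ModEt X} {E : AlgSp.EtOver X} [IsAffine E.obj.left.left]
    {s : AlgSp.sectModEt M E} (hs : s ≠ 0) : ∃ u : E.obj.left.left, AlgSp.IsWeakAssOn M E u := by
  obtain ⟨m, hm, hle⟩ := Ideal.exists_le_maximal _ (annSect_ne_top hs)
  have : m.IsPrime := hm.isPrime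
  obtain ⟨p, hp, -⟩ := Ideal.exists_minimalPrimes_le hle
  have hpp : p.IsPrime := hp.1.1
  refine ⟨(isAffineOpen_top E.obj.left.left).fromSpec ⟨p, hpp⟩, s, ?_⟩
  rw [primeAtPt_fromSpec]
  exact hp

/-- if a module has no weakly associated points, its sections over affine objects vanish. -/
theorem sect_eq_zero_of_weakAssEt_eq_empty {M : AlgSp.ModEt X} (h : AlgSp.WeakAssEt M = ∅)
    (E : AlgSp.EtOver X) (s : AlgSp.sectModEt M E) : s = 0 := by
  apply sect_ext_of_affine
  intro U₁
  rw [map_zero]
  by_contra hne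
  have : IsAffine (affObj E U₁.1).obj.left.left := U₁.2
  obtain ⟨u, hu⟩ := exists_isWeakAssOn (M := M) (E := affObj E U₁.1)
    (s := (M.val.map (affHom E U₁.1).op s : AlgSp.sectModEt M (affObj E U₁.1))) hne
  have hx : AlgSp.Points.ofPt (affObj E U₁.1).obj.hom u ∈ AlgSp.WeakAssEt M :=
    ⟨affObj E U₁.1, this, u, rfl, hu⟩
  rw [h] at hx
  exact hx

end Groth.Agent.Lib.Seat48.ModSect
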