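import Mathlib
import Groth.Prelude.Def_AlgSpModX
import Groth.Prelude.Def_AlgSpOX2
import Groth.Agent.Lib.Seat48WeakAss
import Groth.Agent.S10176

/-!
# Weakly associated points and direct images along affine representable morphisms (seat 48)

Namespace `Groth.Agent.Lib.Seat48.PushWeakAss`.
* `primeAtPt_map`: the prime of `g x` is the preimage of the prime of `x` under pullback of functions.
* `primeAtPt_injective`: on an affine scheme the prime determines the point.
* `exists_point_primeAtPt`: on an affine scheme every prime is the prime of a point.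
* `isAffine_bcObj`: base change of an affine chart along an affine representable morphism is affine.
* `annSect_push`: the annihilator of a section of `f_* M` over `E` is the preimage of its annihilator
  as a section of `M` over `E ×_Y X`.
* `ofPt_bc`: compatibility of points.
-/

set_option autoImplicit false
universe u
open CategoryTheory CategoryTheory.Limits AlgebraicGeometry Opposite

namespace Groth.Agent.Lib.Seat48.PushWeakAss

open AlgSp

theorem primeAtPt_map {V U : Scheme.{u}} (g : V ⟶ U) (x : V) :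
    AlgSp.primeAtPt U (g x) = (AlgSp.primeAtPt V x).comap g.appTop.hom := by
  unfold AlgSp.primeAtPt
  rw [Ideal.comap_comap]
  have h1 : (V.presheaf.germ ⊤ x trivial).hom.comp g.appTop.hom =
      (g.stalkMap x).hom.comp (U.presheaf.germ ⊤ (g x) trivial).hom := by
    have := Scheme.Hom.germ_stalkMap g ⊤ x trivial
    have h2 := congrArg CommRingCat.Hom.hom this
    simp only [CommRingCat.hom_comp] at h2
    rw [h2]
    rfl
  rw [h1, ← Ideal.comap_comap]
  congr 1
  exact (IsLocalRing.maximalIdeal_comap (g.stalkMap x).hom).symm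

theorem primeAtPt_injective {W : Scheme.{u}} [IsAffine W] {w w' : W}
    (h : AlgSp.primeAtPt W w = AlgSp.primeAtPt W w') : w = w' := by
  rw [WeakAss.primeAtPt_eq_primeIdealOf, WeakAss.primeAtPt_eq_primeIdealOf] at h
  have h2 : (isAffineOpen_top W).primeIdealOf ⟨w, trivial⟩ =
      (isAffineOpen_top W).primeIdealOf ⟨w', trivial⟩ := PrimeSpectrum.ext h
  have h3 := congrArg (fun p => (isAffineOpen_top W).fromSpec p) h2
  simpa [IsAffineOpen.fromSpec_primeIdealOf] using h3

theorem exists_point_primeAtPt {W : Scheme.{u}} [IsAffine W] (q : Ideal Γ(W, ⊤)) [hq : q.IsPrime] :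
    ∃ w : W, AlgSp.primeAtPt W w = q :=
  ⟨(isAffineOpen_top W).fromSpec ⟨q, hq⟩, WeakAss.primeAtPt_fromSpec ⟨q, hq⟩⟩

variable {S : Scheme.{u}} {X Y : AlgSp.Sp S} {f : X ⟶ Y}

theorem isAffine_bcObj (hf : AlgSp.Representable f) (haff : AlgSp.IsAffineMor f)
    (E : AlgSp.EtOver Y) [hE : IsAffine E.obj.left.left] :
    IsAffine ((AlgSp.EtOver.bc hf).obj E).obj.left.left := by
  obtain ⟨W, i, fst, hpb, hW⟩ := haff (Z := E.obj.left) hE E.obj.hom
  have h2 := hf.isPullback E.obj.hom
  let e : (AlgSp.yon S).obj W ≅ (AlgSp.yon S).obj (hf.pullback E.obj.hom) := hpb.isoIsPullback _ _ h2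
  let e' : W ≅ hf.pullback E.obj.hom := (AlgSp.yon S).preimageIso e
  have h3 : IsIso e'.inv.left :=
    (inferInstance : IsIso ((Over.forget S).map e'.inv))
  exact @IsAffine.of_isIso _ _ e'.inv.left h3 hW

theorem annSect_push (hf : AlgSp.Representable f) (M : AlgSp.ModEt X) (E : AlgSp.EtOver Y)
    (s : AlgSp.sectModEt ((AlgSp.pushModEt hf).obj M) E) :
    AlgSp.annSect s = (AlgSp.annSect (M := M) (E := (AlgSp.EtOver.bc hf).obj E) s).comap
      (AlgSp.EtOver.bcπ hf E).left.appTop.hom := by
  ext a
  rw [Ideal.mem_comap, AlgSp.mem_annSect_iff, AlgSp.mem_annSect_iff]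
  rfl

theorem ofPt_bc (hf : AlgSp.Representable f) (E : AlgSp.EtOver Y)
    (x : ((AlgSp.EtOver.bc hf).obj E).obj.left.left) :
    AlgSp.Points.map f (AlgSp.Points.ofPt ((AlgSp.EtOver.bc hf).obj E).obj.hom x) =
      AlgSp.Points.ofPt E.obj.hom ((AlgSp.EtOver.bcπ hf E).left x) := by
  rw [AlgSp.Points.map_ofPt, ← Groth.Agent.S10176.ofPt_map_comp]
  congr 1
  exact (hf.isPullback E.obj.hom).w

end Groth.Agent.Lib.Seat48.PushWeakAss
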