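import Mathlib
import Groth.Prelude.Def_AlgSpModX
import Groth.Agent.Lib.Helper9SpEt
import Groth.Agent.Lib.Seat48ModSect
import Groth.Agent.Lib.Seat48PushWeakAss
import Groth.Agent.Lib.Seat48BCAlg5
import Groth.Agent.Lib.Seat48BCSite4

/-!
# Quasi-coherent modules on the small etale site of an algebraic space: base change (seat 48)

Namespace `Groth.Agent.Lib.Seat48.BCEt`.

* `affineData X`: the affine objects of the small etale site of `X`, as an `AffineData`.
* `isBC_of_isQuasicoherent`: **for a quasi-coherent module `M` on the small etale site of `X` and a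
  morphism `g : E' ⟶ E` of affine objects, `M(E') = O(E') ⊗_{O(E)} M(E)`.**
-/

set_option autoImplicit false
set_option linter.style.haveILetI false
set_option linter.unusedSectionVars false
set_option backward.isDefEq.respectTransparency false

universe u

open CategoryTheory CategoryTheory.Limits AlgebraicGeometry Opposite

namespace Groth.Agent.Lib.Seat48.BCEt

open AlgSp
open Groth.Agent.Lib.Seat48.BCAlg
open Groth.Agent.Lib.Seat48.BCSite
open Groth.Agent.Lib.Seat48.ModSect

attribute [local instance] Groth.Agent.Lib.Seat48.BCSite.commRingSect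

variable {S : Scheme.{u}} (X : AlgSp.Sp S)

instance isCommPresheaf_OEtRing : IsCommPresheaf (AlgSp.OEtRing X).obj :=
  ⟨fun E a b => mul_comm (G := ((AlgSp.OEt X).obj.obj E)) a b⟩

variable {X}

theorem ringMap_eq {E E' : AlgSp.EtOver X} (g : E' ⟶ E) :
    ((AlgSp.OEtRing X).obj.map g.op).hom =
      RingHom.ulift.{u + 1, u + 1} g.hom.left.left.appTop.hom := rfl

theorem flat_ringMap {E E' : AlgSp.EtOver X} (g : E' ⟶ E) (hE : IsAffine E.obj.left.left)
    (hE' : IsAffine E'.obj.left.left) : ((AlgSp.OEtRing X).obj.map g.op).hom.Flat := by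
  rw [ringMap_eq, RingHom.Flat.ulift_iff]
  have h1 : Etale g.hom.left.left := AlgSp.EtOver.etale_left g
  have h2 : AlgebraicGeometry.Flat g.hom.left.left := inferInstance
  exact (HasRingHomProperty.iff_of_isAffine (P := @AlgebraicGeometry.Flat)).1 h2

theorem exists_pullback {V W E : AlgSp.EtOver X} (f : V ⟶ E) (g : W ⟶ E)
    (hV : IsAffine V.obj.left.left) (hW : IsAffine W.obj.left.left)
    (hE : IsAffine E.obj.left.left) :
    ∃ (P : AlgSp.EtOver X) (p1 : P ⟶ V) (p2 : P ⟶ W), IsAffine P.obj.left.left ∧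
      IsPullback p1 p2 f g ∧
      IsTensorSq ((AlgSp.OEtRing X).obj.map f.op).hom ((AlgSp.OEtRing X).obj.map g.op).hom
        ((AlgSp.OEtRing X).obj.map p1.op).hom ((AlgSp.OEtRing X).obj.map p2.op).hom := by
  have hpull := AlgSp.EtOver.isPullback f g
  have hsch : IsPullback (AlgSp.EtOver.pullbackFst f g).hom.left.left
      (AlgSp.EtOver.pullbackSnd f g).hom.left.left f.hom.left.left g.hom.left.left :=
    hpull.map (AlgSp.EtOver.toScheme X)
  have hP : IsAffine (AlgSp.EtOver.pullbackObj f g).obj.left.left := IsAffine.of_isPullback hsch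
  refine ⟨_, _, _, hP, hpull, ?_⟩
  have hpo := isPushout_appTop_of_isPullback hsch
  exact isTensorSq_ulift_of_isPushout.{u + 1, u} _ _ _ _ hpo

theorem exists_cover {E : AlgSp.EtOver X} (hE : IsAffine E.obj.left.left) (T : Sieve E)
    (hT : T ∈ AlgSp.etTop X E) :
    ∃ (n : ℕ) (V : Fin n → AlgSp.EtOver X) (h : ∀ k, V k ⟶ E),
      (∀ k, IsAffine (V k).obj.left.left) ∧ (∀ k, T (h k)) ∧
        Sieve.ofArrows V h ∈ AlgSp.etTop X E ∧
        JointlyFF (fun k => ((AlgSp.OEtRing X).obj.map (h k).op).hom) := by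
  rw [Groth.Agent.Lib.Helper9.SpEt.mem_etTop_iff] at hT
  choose W g y hTg hy using hT
  have haff : ∀ x : E.obj.left.left, ∃ U₁ : (W x).obj.left.left.Opens,
      IsAffineOpen U₁ ∧ y x ∈ U₁ := by
    intro x
    obtain ⟨U₁, hU₁, hx, -⟩ := exists_isAffineOpen_mem_and_subset (x := y x)
      (U := (⊤ : (W x).obj.left.left.Opens)) trivial
    exact ⟨U₁, hU₁, hx⟩
  choose U hU hyU using haff
  let V' : E.obj.left.left → AlgSp.EtOver X := fun x => affObj (W x) (U x)
  let h' : ∀ x, V' x ⟶ E := fun x => affHom (W x) (U x) ≫ g x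
  have hV' : ∀ x, IsAffine (V' x).obj.left.left := fun x => hU x
  have hTh' : ∀ x, T (h' x) := fun x => T.downward_closed (hTg x) _
  have hopen : ∀ x, IsOpen (Set.range (h' x).hom.left.left) := by
    intro x
    have : Etale (h' x).hom.left.left := AlgSp.EtOver.etale_left (h' x)
    exact (h' x).hom.left.left.isOpenMap.isOpen_range
  have hmem : ∀ x, x ∈ Set.range (h' x).hom.left.left := by
    intro x
    refine ⟨⟨y x, hyU x⟩, ?_⟩
    exact hy x
  have hcompact : CompactSpace E.obj.left.left := inferInstance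
  obtain ⟨t, ht⟩ := isCompact_univ.elim_finite_subcover
    (fun x => Set.range (h' x).hom.left.left) hopen (fun x _ => Set.mem_iUnion.2 ⟨x, hmem x⟩)
  let e := t.equivFin
  have hcov : ∀ x, ∃ k : Fin t.card, x ∈ Set.range (h' (e.symm k).1).hom.left.left := by
    intro x
    have := ht (Set.mem_univ x)
    simp only [Set.mem_iUnion] at this
    obtain ⟨x0, hx0, hx⟩ := this
    refine ⟨e ⟨x0, hx0⟩, ?_⟩
    rw [Equiv.symm_apply_apply]
    exact hx
  refine ⟨t.card, fun k => V' (e.symm k).1, fun k => h' (e.symm k).1, fun k => hV' _,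
    fun k => hTh' _, ?_, ?_⟩
  · exact AlgSp.ofArrows_mem_etTop _ _ hcov
  · apply jointlyFF_of_flat_of_surjective
    · intro k
      exact flat_ringMap _ hE (hV' _)
    · intro p
      let up : Γ(E.obj.left.left, ⊤) →+* ULift.{u + 1} Γ(E.obj.left.left, ⊤) :=
        (ULift.ringEquiv.symm : Γ(E.obj.left.left, ⊤) ≃+* ULift.{u + 1} Γ(E.obj.left.left, ⊤)).toRingHom
      let p' : Ideal Γ(E.obj.left.left, ⊤) := p.asIdeal.comap up
      haveI : p'.IsPrime := Ideal.comap_isPrime _ _
      obtain ⟨x, hx⟩ := PushWeakAss.exists_point_primeAtPt (W := E.obj.left.left) p'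
      obtain ⟨k, v, hv⟩ := hcov x
      let down : ULift.{u + 1} Γ((V' (e.symm k).1).obj.left.left, ⊤) →+*
          Γ((V' (e.symm k).1).obj.left.left, ⊤) :=
        (ULift.ringEquiv : ULift.{u + 1} Γ((V' (e.symm k).1).obj.left.left, ⊤) ≃+* _).toRingHom
      refine ⟨k, ⟨(AlgSp.primeAtPt _ v).comap down, Ideal.comap_isPrime _ _⟩, ?_⟩
      apply PrimeSpectrum.ext
      change ((AlgSp.primeAtPt _ v).comap down).comap
        ((AlgSp.OEtRing X).obj.map (h' (e.symm k).1).op).hom = p.asIdeal
      rw [Ideal.comap_comap]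
      have e1 : down.comp ((AlgSp.OEtRing X).obj.map (h' (e.symm k).1).op).hom =
          (h' (e.symm k).1).hom.left.left.appTop.hom.comp
            (ULift.ringEquiv : ULift.{u + 1} Γ(E.obj.left.left, ⊤) ≃+* _).toRingHom := rfl
      rw [e1, ← Ideal.comap_comap, ← PushWeakAss.primeAtPt_map, hv, hx]
      change (p.asIdeal.comap up).comap _ = _
      rw [Ideal.comap_comap]
      exact Ideal.comap_id _

variable (X) in
/-- the affine objects of the small etale site of `X`. -/
def affineData : AffineData (AlgSp.etTop X) (AlgSp.OEtRing X).obj where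
  Aff E := IsAffine E.obj.left.left
  flat g hE hE' := flat_ringMap g hE hE'
  exists_pullback f g hV hW hE := exists_pullback f g hV hW hE
  exists_cover hE T hT := exists_cover hE T hT

/-- **Quasi-coherent modules on the small etale site have base change along morphisms of affine
objects**: `M(E') = O(E') ⊗_{O(E)} M(E)`. -/
theorem hasBCAt_of_isQuasicoherent (M : AlgSp.ModEt X) [M.IsQuasicoherent]
    {E E' : AlgSp.EtOver X} (g : E' ⟶ E) (hE : IsAffine E.obj.left.left)
    (hE' : IsAffine E'.obj.left.left) : HasBCAt M.val g :=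
  hasBCOn_of_isQuasicoherent (affineData X) M g hE hE'

end Groth.Agent.Lib.Seat48.BCEt
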