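import Mathlib
import Groth.Prelude.Def_FlatCA
import Groth.Agent.Lib.Seat6WeakAssBC

/-!
# Weakly associated primes and étale base change (Seat 6)

For an étale ring map `A → B`, an `A`-module `M` and a prime `u` of `B`:
`u ∈ WeakAss_B(B ⊗_A M) ↔ u ∩ A ∈ WeakAss_A(M)` (Stacks 05FP in ring form).
-/

set_option autoImplicit false

universe u v w

namespace Groth.Agent.Lib.Seat6.WeakAss

open FlatCA TensorProduct Polynomial

section StandardEtale

variable {A : Type u} [CommRing A] (M : Type w) [AddCommGroup M] [Module A M]

/-- Descent of weakly associated primes for a localization of a finite flat algebra. -/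
theorem comap_mem_weakAss_of_localization_finite_flat {C : Type v} [CommRing C] [Algebra A C]
    [Module.Finite A C] [Module.Flat A C] (S : Submonoid C) (B' : Type w) [CommRing B']
    [Algebra C B'] [Algebra A B'] [IsScalarTower A C B'] [IsLocalization S B']
    (u' : Ideal B') [hu' : u'.IsPrime] (h : u' ∈ weakAss B' (B' ⊗[A] M)) :
    u'.comap (algebraMap A B') ∈ weakAss A M := by
  have h1 := (mem_weakAss_tensor_localization_iff S B' M u').1 h
  have h2 := comap_mem_weakAss_of_finite_flat M h1
  rwa [Ideal.comap_comap, ← IsScalarTower.algebraMap_eq] at h2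

/-- Descent of weakly associated primes for standard étale algebras. -/
theorem comap_mem_weakAss_of_isStandardEtale {B' : Type w} [CommRing B'] [Algebra A B']
    [Algebra.IsStandardEtale A B'] (u' : Ideal B') [hu' : u'.IsPrime]
    (h : u' ∈ weakAss B' (B' ⊗[A] M)) : u'.comap (algebraMap A B') ∈ weakAss A M := by
  obtain ⟨P⟩ := Algebra.IsStandardEtale.nonempty_standardEtalePresentation (R := A) (S := B')
  let C := AdjoinRoot P.f
  let g' : C := AdjoinRoot.mk P.f P.g
  let e : B' ≃ₐ[A] Localization.Away g' := P.equivRing.trans P.P.equivAwayAdjoinRoot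
  have : Module.Finite A C := P.monic_f.finite_adjoinRoot
  have : Module.Free A C := P.monic_f.free_adjoinRoot
  let algCB' : Algebra C B' :=
    ((e.symm : Localization.Away g' →+* B').comp (algebraMap C (Localization.Away g'))).toAlgebra
  have : IsScalarTower A C B' := IsScalarTower.of_algebraMap_eq (fun a => by
    show algebraMap A B' a = e.symm (algebraMap C (Localization.Away g') (algebraMap A C a))
    rw [← IsScalarTower.algebraMap_apply A C (Localization.Away g'), AlgEquiv.commutes])
  let e' : Localization.Away g' ≃ₐ[C] B' :=
    { (e.symm : Localization.Away g' ≃+* B') with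
      commutes' := fun c => rfl }
  have : IsLocalization (Submonoid.powers g') B' :=
    IsLocalization.isLocalization_of_algEquiv (Submonoid.powers g') e'
  exact comap_mem_weakAss_of_localization_finite_flat M (Submonoid.powers g') B' u' h

end StandardEtale

section Etale

variable {A B : Type u} [CommRing A] [CommRing B] [Algebra A B] [Algebra.Etale A B]
  (M : Type u) [AddCommGroup M] [Module A M]

/-- Weakly associated primes and étale base change. -/
theorem mem_weakAss_baseChange_iff_of_etale (u : Ideal B) [hu : u.IsPrime] :
    u ∈ weakAss B (B ⊗[A] M) ↔ u.comap (algebraMap A B) ∈ weakAss A M := by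
  constructor
  · intro h
    obtain ⟨f, hf, hstd⟩ := Algebra.IsEtaleAt.exists_isStandardEtale (R := A) u
    let Bf := Localization.Away f
    -- the prime of `B_f` corresponding to `u`
    have hdisj : Disjoint (Submonoid.powers f : Set B) (u : Set B) := by
      rw [Set.disjoint_left]
      rintro x ⟨n, rfl⟩ hx
      exact hf (hu.mem_of_pow_mem n hx)
    let u' : Ideal Bf := u.map (algebraMap B Bf)
    have hu' : u'.IsPrime :=
      IsLocalization.isPrime_of_isPrime_disjoint (Submonoid.powers f) Bf u hu hdisj
    have hcomap : u'.comap (algebraMap B Bf) = u :=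
      IsLocalization.under_map_of_isPrime_disjoint (Submonoid.powers f) Bf hu hdisj
    have h1 : u' ∈ weakAss Bf (Bf ⊗[A] M) := by
      rw [mem_weakAss_tensor_localization_iff (Submonoid.powers f) Bf M u', hcomap]
      exact h
    have h2 := comap_mem_weakAss_of_isStandardEtale M u' h1
    rwa [IsScalarTower.algebraMap_eq A B Bf, ← Ideal.comap_comap, hcomap] at h2
  · intro hp
    refine mem_weakAss_baseChange_of_flat M u rfl ?_ hp
    intro t' ht' hle hcomap
    exact Algebra.QuasiFinite.eq_of_le_of_under_eq (R := A) t' u hle
      (by rw [Ideal.under_def, Ideal.under_def, hcomap])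

end Etale

end Groth.Agent.Lib.Seat6.WeakAss
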