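import Mathlib
import Groth.Agent.Lib.Seat6WeakAssEt
import Groth.Agent.Lib.Seat48BCEt

/-!
# Weakly associated points of quasi-coherent modules and etale maps of charts (seat 48)

Namespace `Groth.Agent.Lib.Seat48.BCEt`.

* `etale_ulift`: the universe lift of an etale ring map is etale.
* `mem_weakAss_iff_of_isBC`: for an etale ring map `φ : A → B` and `N' = B ⊗_A N`:
  `q ∈ WeakAss_B(N') ↔ φ⁻¹ q ∈ WeakAss_A(N)`.
* `isWeakAssOn_iff_of_hom`: **for a quasi-coherent module `M` on the small etale site of `X`, a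
  morphism `g : E' ⟶ E` of affine objects and a point `u'` of `E'`: `u'` is weakly associated to
  `M` on `E'` iff `g u'` is weakly associated to `M` on `E`.**
-/

set_option autoImplicit false
set_option linter.style.haveILetI false
set_option linter.unusedSectionVars false
set_option backward.isDefEq.respectTransparency false

universe w u

open CategoryTheory CategoryTheory.Limits AlgebraicGeometry Opposite

namespace Groth.Agent.Lib.Seat48.BCEt

open AlgSp FlatCA TensorProduct
open Groth.Agent.Lib.Seat48.BCAlg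
open Groth.Agent.Lib.Seat48.BCSite

section Algebra

theorem etale_ulift {R S : Type u} [CommRing R] [CommRing S] {f : R →+* S} (hf : f.Etale) :
    (RingHom.ulift.{w, w} f).Etale := by
  letI a1 : Algebra (ULift.{w} R) R := (ULift.ringEquiv : ULift.{w} R ≃+* R).toRingHom.toAlgebra
  letI a2 : Algebra R S := f.toAlgebra
  letI a3 : Algebra S (ULift.{w} S) :=
    (ULift.ringEquiv.symm : S ≃+* ULift.{w} S).toRingHom.toAlgebra
  letI a4 : Algebra (ULift.{w} R) S :=
    (f.comp (ULift.ringEquiv : ULift.{w} R ≃+* R).toRingHom).toAlgebra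
  letI a5 : Algebra (ULift.{w} R) (ULift.{w} S) := (RingHom.ulift.{w, w} f).toAlgebra
  haveI : IsScalarTower (ULift.{w} R) R S := .of_algebraMap_eq (fun _ => rfl)
  haveI : IsScalarTower (ULift.{w} R) S (ULift.{w} S) := .of_algebraMap_eq (fun _ => rfl)
  haveI e1 : Algebra.Etale (ULift.{w} R) R :=
    RingHom.Etale.of_bijective (f := (ULift.ringEquiv : ULift.{w} R ≃+* R).toRingHom)
      (ULift.ringEquiv : ULift.{w} R ≃+* R).bijective
  haveI e2 : Algebra.Etale R S := hf
  haveI e3 : Algebra.Etale S (ULift.{w} S) :=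
    RingHom.Etale.of_bijective (f := (ULift.ringEquiv.symm : S ≃+* ULift.{w} S).toRingHom)
      (ULift.ringEquiv.symm : S ≃+* ULift.{w} S).bijective
  haveI : Algebra.Etale (ULift.{w} R) S := Algebra.Etale.comp (ULift.{w} R) R S
  exact Algebra.Etale.comp (ULift.{w} R) S (ULift.{w} S)

variable {A B : Type w} [CommRing A] [CommRing B] {φ : A →+* B}
  {N N' : Type w} [AddCommGroup N] [Module A N] [AddCommGroup N'] [Module B N']

/-- weakly associated primes and etale base change, for `IsBC`. -/
theorem mem_weakAss_iff_of_isBC (hφ : φ.Etale) {ρ : N →ₛₗ[φ] N'} (h : IsBC φ ρ)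
    (q : Ideal B) [hq : q.IsPrime] : q ∈ weakAss B N' ↔ q.comap φ ∈ weakAss A N := by
  letI : Algebra A B := φ.toAlgebra
  haveI : Algebra.Etale A B := hφ
  letI : Module A N' := Module.compHom N' φ
  haveI : IsScalarTower A B N' := IsScalarTower.of_algebraMap_smul (fun _ _ => rfl)
  have h' : IsBaseChange B (semiToLin φ ρ) := h
  rw [← Groth.Agent.Lib.Seat6.WeakAss.weakAss_eq_of_linearEquiv h'.equiv]
  exact Groth.Agent.Lib.Seat6.WeakAss.mem_weakAss_baseChange_iff_of_etale N q

end Algebra

section Geom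

attribute [local instance] Groth.Agent.Lib.Seat48.BCSite.commRingSect

variable {S : Scheme.{u}} {X : AlgSp.Sp S}

theorem etale_ringMap {E E' : AlgSp.EtOver X} (g : E' ⟶ E) (hE : IsAffine E.obj.left.left)
    (hE' : IsAffine E'.obj.left.left) : ((AlgSp.OEtRing X).obj.map g.op).hom.Etale := by
  rw [ringMap_eq]
  have h1 : Etale g.hom.left.left := AlgSp.EtOver.etale_left g
  exact etale_ulift ((HasRingHomProperty.iff_of_isAffine (P := @Etale)).1 h1)

/-- the universe-lowering ring map on sections of the structure sheaf. -/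
noncomputable abbrev downΓ (E : AlgSp.EtOver X) :
    (AlgSp.OEtRing X).obj.obj (op E) →+* Γ(E.obj.left.left, ⊤) :=
  (ULift.ringEquiv : ULift.{u + 1} Γ(E.obj.left.left, ⊤) ≃+* Γ(E.obj.left.left, ⊤)).toRingHom

theorem ker_toSpanSingleton_eq {M : AlgSp.ModEt X} {E : AlgSp.EtOver X}
    (s : AlgSp.sectModEt M E) :
    LinearMap.ker (LinearMap.toSpanSingleton ((AlgSp.OEtRing X).obj.obj (op E))
      (AlgSp.sectModEt M E) s) =
      (Submodule.span ((AlgSp.OEtRing X).obj.obj (op E)) {s}).annihilator := by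
  ext a
  rw [Submodule.mem_annihilator_span_singleton, LinearMap.mem_ker,
    LinearMap.toSpanSingleton_apply]

/-- `IsWeakAssOn` in terms of weakly associated primes of the module of sections. -/
theorem isWeakAssOn_iff_mem_weakAss (M : AlgSp.ModEt X) (E : AlgSp.EtOver X)
    [IsAffine E.obj.left.left] (u : E.obj.left.left) :
    AlgSp.IsWeakAssOn M E u ↔
      (AlgSp.primeAtPt E.obj.left.left u).comap (downΓ E) ∈
        weakAss ((AlgSp.OEtRing X).obj.obj (op E)) (AlgSp.sectModEt M E) := by
  have hup : Function.Surjective (AlgSp.upΓ E) :=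
    (ULift.ringEquiv.symm : Γ(E.obj.left.left, ⊤) ≃+* ULift.{u + 1} Γ(E.obj.left.left, ⊤)).surjective
  have hcomp1 : ∀ Q : Ideal ((AlgSp.OEtRing X).obj.obj (op E)),
      (Q.comap (AlgSp.upΓ E)).comap (downΓ E) = Q := by
    intro Q
    rw [Ideal.comap_comap]
    exact Ideal.comap_id Q
  have hcomp2 : ∀ P : Ideal Γ(E.obj.left.left, ⊤),
      (P.comap (downΓ E)).comap (AlgSp.upΓ E) = P := by
    intro P
    rw [Ideal.comap_comap]
    exact Ideal.comap_id P
  constructor
  · rintro ⟨s, hs⟩
    refine ⟨s, ?_⟩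
    rw [← ker_toSpanSingleton_eq]
    unfold AlgSp.annSect at hs
    rw [Ideal.comap_minimalPrimes_eq_of_surjective hup] at hs
    obtain ⟨Q, hQ, hQP⟩ := hs
    rw [← hQP, hcomp1]
    exact hQ
  · rintro ⟨s, hs⟩
    refine ⟨s, ?_⟩
    rw [← ker_toSpanSingleton_eq] at hs
    unfold AlgSp.annSect
    rw [Ideal.comap_minimalPrimes_eq_of_surjective hup]
    exact ⟨_, hs, hcomp2 _⟩

/-- **weakly associated points of a quasi-coherent module are insensitive to etale maps of affine
charts.** -/
theorem isWeakAssOn_iff_of_hom (M : AlgSp.ModEt X) [M.IsQuasicoherent] {E E' : AlgSp.EtOver X}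
    (g : E' ⟶ E) [hE : IsAffine E.obj.left.left] [hE' : IsAffine E'.obj.left.left]
    (u' : E'.obj.left.left) :
    AlgSp.IsWeakAssOn M E' u' ↔ AlgSp.IsWeakAssOn M E (g.hom.left.left u') := by
  rw [isWeakAssOn_iff_mem_weakAss, isWeakAssOn_iff_mem_weakAss]
  haveI : ((AlgSp.primeAtPt E'.obj.left.left u').comap (downΓ E')).IsPrime :=
    Ideal.comap_isPrime _ _
  rw [mem_weakAss_iff_of_isBC (etale_ringMap g hE hE') (hasBCAt_of_isQuasicoherent M g hE hE')]
  have e1 : ((AlgSp.primeAtPt E'.obj.left.left u').comap (downΓ E')).comap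
      ((AlgSp.OEtRing X).obj.map g.op).hom =
      (AlgSp.primeAtPt E.obj.left.left (g.hom.left.left u')).comap (downΓ E) := by
    rw [Ideal.comap_comap, PushWeakAss.primeAtPt_map, Ideal.comap_comap]
    rfl
  rw [e1]

end Geom

end Groth.Agent.Lib.Seat48.BCEt
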