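import Mathlib
import Groth.Agent.S10176
import Groth.Agent.S10177
import Groth.Agent.Lib.Seat48BCEt2

/-!
# Weakly associated points of quasi-coherent modules: independence of the chart (seat 48)

Namespace `Groth.Agent.Lib.Seat48.WeakAssChart`.

* `exists_affine_chart`: every point of an algebraic space lifts to an affine etale chart.
* `exists_common_affine`: two points of charts with the same image lift to a common affine chart.
* `isWeakAssOn_iff_of_ofPt_eq`: for a quasi-coherent module, being weakly associated on an affine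
  chart only depends on the image point.
* `mem_weakAssEt_iff`: `ofPt u ∈ WeakAssEt M ↔ IsWeakAssOn M E u`.
-/

set_option autoImplicit false
set_option backward.isDefEq.respectTransparency false

universe u

open CategoryTheory CategoryTheory.Limits AlgebraicGeometry Opposite

namespace Groth.Agent.Lib.Seat48.WeakAssChart

open AlgSp
open Groth.Agent.Lib.Seat48.ModSect
open Groth.Agent.Lib.Seat48.IdealEtSp
open Groth.Agent.Lib.Seat48.BCEt

variable {S : Scheme.{u}} {X : AlgSp.Sp S}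

theorem ofPt_yon_map_comp {F : AlgSp.Sp S} {T T' : Over S} (φ : T ⟶ T')
    (g : (AlgSp.yon S).obj T' ⟶ F) (t : T.left) :
    AlgSp.Points.ofPt ((AlgSp.yon S).map φ ≫ g) t = AlgSp.Points.ofPt g (φ.left t) := by
  rw [← AlgSp.Points.map_ofPt, AlgSp.Points.ofPt_eq_map_ofScheme g]
  congr 1
  rw [← AlgSp.Points.toScheme_ofPt φ t, AlgSp.Points.ofScheme_toScheme]

/-- the image in `|X|` of a point of a morphism of the small etale site. -/
theorem ofPt_hom {E E' : AlgSp.EtOver X} (g : E' ⟶ E) (u' : E'.obj.left.left) :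
    AlgSp.Points.ofPt E.obj.hom (g.hom.left.left u') = AlgSp.Points.ofPt E'.obj.hom u' := by
  rw [← ofPt_yon_map_comp, AlgSp.EtOver.w g]

/-- every point of an algebraic space lifts to an affine etale chart. -/
theorem exists_affine_chart (hX : AlgSp.IsAlgSpace X) (x : AlgSp.Points X) :
    ∃ (E : AlgSp.EtOver X) (_ : IsAffine E.obj.left.left) (u : E.obj.left.left),
      AlgSp.Points.ofPt E.obj.hom u = x := by
  obtain ⟨U, p, hp, hps⟩ := hX.atlas
  obtain ⟨u₁, rfl⟩ := Groth.Agent.S10177.surjective_ofPt p hps x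
  obtain ⟨U₁, hU₁, hx, -⟩ := exists_isAffineOpen_mem_and_subset (x := u₁)
    (U := (⊤ : U.left.Opens)) trivial
  refine ⟨openObj p hp U₁, hU₁, ⟨u₁, hx⟩, ?_⟩
  rw [openObj_hom, ofPt_yon_map_comp]
  rfl

/-- two points of charts with the same image in `|X|` lift to a point of a common affine chart. -/
theorem exists_common_affine (E₀ E : AlgSp.EtOver X) (u₀ : E₀.obj.left.left)
    (u : E.obj.left.left)
    (h : AlgSp.Points.ofPt E₀.obj.hom u₀ = AlgSp.Points.ofPt E.obj.hom u) :
    ∃ (W : AlgSp.EtOver X) (_ : IsAffine W.obj.left.left) (a : W ⟶ E₀) (b : W ⟶ E)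
      (w : W.obj.left.left), a.hom.left.left w = u₀ ∧ b.hom.left.left w = u := by
  obtain ⟨P, snd, fst', sq⟩ := E.property.1 E₀.obj.hom
  obtain ⟨fst, rfl⟩ := (AlgSp.yon S).map_surjective fst'
  have hsnd : Etale snd.left := E.property.2 E₀.obj.hom _ snd sq
  obtain ⟨y, hy1, hy2⟩ := Groth.Agent.S10176.exists_point_of_isPullback_yon sq u u₀ h.symm
  let W' : AlgSp.EtOver X := AlgSp.EtOver.mk ((AlgSp.yon S).map snd ≫ E₀.obj.hom)
    ((AlgSp.RepWith @Etale).comp_mem _ _ ((AlgSp.repWith_yon_map_iff _ _).2 hsnd) E₀.property)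
  let a₀ : W' ⟶ E₀ := AlgSp.EtOver.homMk snd rfl
  let b₀ : W' ⟶ E := AlgSp.EtOver.homMk fst sq.w
  obtain ⟨P₁, hP₁, hyP, -⟩ := exists_isAffineOpen_mem_and_subset (x := y)
    (U := (⊤ : P.left.Opens)) trivial
  refine ⟨affObj W' P₁, hP₁, affHom W' P₁ ≫ a₀, affHom W' P₁ ≫ b₀, ⟨y, hyP⟩, ?_, ?_⟩
  · exact hy2
  · exact hy1

/-- for a quasi-coherent module, being weakly associated on an affine chart only depends on the
image point in `|X|`. -/
theorem isWeakAssOn_iff_of_ofPt_eq (M : AlgSp.ModEt X) [M.IsQuasicoherent]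
    (E₀ E : AlgSp.EtOver X) [IsAffine E₀.obj.left.left] [IsAffine E.obj.left.left]
    (u₀ : E₀.obj.left.left) (u : E.obj.left.left)
    (h : AlgSp.Points.ofPt E₀.obj.hom u₀ = AlgSp.Points.ofPt E.obj.hom u) :
    AlgSp.IsWeakAssOn M E₀ u₀ ↔ AlgSp.IsWeakAssOn M E u := by
  obtain ⟨W, hW, a, b, w, rfl, rfl⟩ := exists_common_affine E₀ E u₀ u h
  rw [← isWeakAssOn_iff_of_hom M a w, ← isWeakAssOn_iff_of_hom M b w]

/-- membership in `WeakAssEt` can be tested on any affine chart. -/
theorem mem_weakAssEt_iff (M : AlgSp.ModEt X) [M.IsQuasicoherent] (E : AlgSp.EtOver X)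
    [IsAffine E.obj.left.left] (u : E.obj.left.left) :
    AlgSp.Points.ofPt E.obj.hom u ∈ AlgSp.WeakAssEt M ↔ AlgSp.IsWeakAssOn M E u := by
  constructor
  · rintro ⟨E₀, hE₀, u₀, h, hu₀⟩
    exact (isWeakAssOn_iff_of_ofPt_eq M E₀ E u₀ u h).1 hu₀
  · intro hu
    exact ⟨E, inferInstance, u, rfl, hu⟩

end Groth.Agent.Lib.Seat48.WeakAssChart
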