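import Mathlib
import Groth.Agent.Lib.Seat48WeakAssChart

/-!
# Supports of sections of quasi-coherent modules under etale maps of charts (seat 48)

Namespace `Groth.Agent.Lib.Seat48.BCEt`.

* `IsBC.map_annihilator_eq_top`: flat base change: if `1 ⊗ m = 0` then `Ann(m) B = B`.
* `map_ne_zero_of_annSect_le`: for a quasi-coherent module `M`, a morphism `g : E' ⟶ E` of affine
  objects and a section `m` over `E` whose annihilator is contained in the prime of `g u'`, the
  restriction of `m` to `E'` is nonzero.
* `exists_minimalPrimes_annSect`: a nonzero section over an affine object has a point whose prime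
  is minimal over its annihilator.
* `sections_eval_injective`: global sections are determined by their value on an object whose
  image contains all weakly associated points.
-/

set_option autoImplicit false
set_option linter.style.haveILetI false
set_option linter.unusedSectionVars false
set_option backward.isDefEq.respectTransparency false

universe w u

open CategoryTheory CategoryTheory.Limits AlgebraicGeometry Opposite

namespace Groth.Agent.Lib.Seat48.BCEt

open AlgSp FlatCA TensorProduct
open Groth.Agent.Lib.Seat48.BCAlg
open Groth.Agent.Lib.Seat48.BCSite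

section Algebra

variable {A B : Type w} [CommRing A] [CommRing B] {φ : A →+* B}
  {N N' : Type w} [AddCommGroup N] [Module A N] [AddCommGroup N'] [Module B N']

theorem IsBC.map_annihilator_eq_top (hφ : φ.Flat) {ρ : N →ₛₗ[φ] N'} (h : IsBC φ ρ) (m : N)
    (hm : ρ m = 0) : ((Submodule.span A {m}).annihilator).map φ = ⊤ := by
  letI : Algebra A B := φ.toAlgebra
  haveI : Module.Flat A B := hφ
  letI : Module A N' := Module.compHom N' φ
  haveI : IsScalarTower A B N' := IsScalarTower.of_algebraMap_smul (fun _ _ => rfl)
  have h' : IsBaseChange B (semiToLin φ ρ) := h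
  have h0 : (1 : B) ⊗ₜ[A] m = 0 := by
    apply h'.equiv.injective
    rw [IsBaseChange.equiv_tmul, map_zero, one_smul]
    exact hm
  have h1 := Groth.Agent.Lib.Seat6.WeakAss.mem_map_ann_of_tmul_eq_zero N m (1 : B) h0
  exact (Ideal.eq_top_iff_one _).2 h1

end Algebra

section Geom

attribute [local instance] Groth.Agent.Lib.Seat48.BCSite.commRingSect

variable {S : Scheme.{u}} {X : AlgSp.Sp S}

theorem map_ne_zero_of_annSect_le (M : AlgSp.ModEt X) [M.IsQuasicoherent] {E E' : AlgSp.EtOver X}
    (g : E' ⟶ E) [hE : IsAffine E.obj.left.left] [hE' : IsAffine E'.obj.left.left]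
    (m : AlgSp.sectModEt M E) (u' : E'.obj.left.left)
    (h : AlgSp.annSect m ≤ AlgSp.primeAtPt E.obj.left.left (g.hom.left.left u')) :
    M.val.map g.op m ≠ 0 := by
  intro hm0
  have h1 := IsBC.map_annihilator_eq_top (flat_ringMap g hE hE')
    (hasBCAt_of_isQuasicoherent M g hE hE') m hm0
  let Q : Ideal ((AlgSp.OEtRing X).obj.obj (op E')) :=
    (AlgSp.primeAtPt E'.obj.left.left u').comap (downΓ E')
  have hQ : Q.IsPrime := Ideal.comap_isPrime _ _
  have h2 : ((Submodule.span ((AlgSp.OEtRing X).obj.obj (op E)) {m}).annihilator).map
      ((AlgSp.OEtRing X).obj.map g.op).hom ≤ Q := by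
    rw [Ideal.map_le_iff_le_comap]
    intro a ha
    rw [Submodule.mem_annihilator_span_singleton] at ha
    have h3 : downΓ E a ∈ AlgSp.annSect m := by
      rw [AlgSp.mem_annSect_iff]
      exact ha
    have h4 := h h3
    rw [PushWeakAss.primeAtPt_map] at h4
    exact h4
  rw [h1] at h2
  exact hQ.ne_top (top_le_iff.1 h2)

/-- a nonzero section over an affine object has a point whose prime is minimal over its
annihilator. -/
theorem exists_minimalPrimes_annSect {M : AlgSp.ModEt X} {E : AlgSp.EtOver X}
    [IsAffine E.obj.left.left] {s : AlgSp.sectModEt M E} (hs : s ≠ 0) :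
    ∃ u : E.obj.left.left, AlgSp.primeAtPt E.obj.left.left u ∈ (AlgSp.annSect s).minimalPrimes := by
  obtain ⟨m, hm, hle⟩ := Ideal.exists_le_maximal _ (ModSect.annSect_ne_top hs)
  have : m.IsPrime := hm.isPrime
  obtain ⟨p, hp, -⟩ := Ideal.exists_minimalPrimes_le hle
  have hpp : p.IsPrime := hp.1.1
  refine ⟨(isAffineOpen_top E.obj.left.left).fromSpec ⟨p, hpp⟩, ?_⟩
  rw [WeakAss.primeAtPt_fromSpec]
  exact hp

/-- global sections of a quasi-coherent module are determined by their value on an object whose
image contains all weakly associated points. -/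
theorem sections_eval_injective (M : AlgSp.ModEt X) [M.IsQuasicoherent] (E : AlgSp.EtOver X)
    (hE : AlgSp.WeakAssEt M ⊆ Set.range (AlgSp.Points.ofPt E.obj.hom)) :
    Function.Injective (fun s : M.sections => PresheafOfModules.sections.eval s (op E)) := by
  intro s t hst
  have hst' : PresheafOfModules.sections.eval s (op E) =
      PresheafOfModules.sections.eval t (op E) := hst
  have key : ∀ (V : AlgSp.EtOver X) [IsAffine V.obj.left.left],
      PresheafOfModules.sections.eval s (op V) = PresheafOfModules.sections.eval t (op V) := by
    intro V hV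
    by_contra hne
    let m : AlgSp.sectModEt M V :=
      PresheafOfModules.sections.eval s (op V) - PresheafOfModules.sections.eval t (op V)
    have hm0 : m ≠ 0 := sub_ne_zero.2 hne
    obtain ⟨v, hv⟩ := exists_minimalPrimes_annSect hm0
    have hx : AlgSp.Points.ofPt V.obj.hom v ∈ AlgSp.WeakAssEt M := ⟨V, hV, v, rfl, m, hv⟩
    obtain ⟨e, he⟩ := hE hx
    obtain ⟨W, hW, a, b, w, rfl, rfl⟩ := WeakAssChart.exists_common_affine V E v e he.symm
    have h0 : M.val.map a.op m = 0 := by
      change M.val.map a.op (PresheafOfModules.sections.eval s (op V) -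
        PresheafOfModules.sections.eval t (op V)) = 0
      rw [map_sub, sub_eq_zero]
      have e1 := PresheafOfModules.sections_property s a.op
      have e2 := PresheafOfModules.sections_property t a.op
      have e3 := PresheafOfModules.sections_property s b.op
      have e4 := PresheafOfModules.sections_property t b.op
      refine e1.trans (e3.symm.trans (Eq.trans ?_ (e4.trans e2.symm)))
      exact congrArg (M.val.map b.op) hst'
    exact map_ne_zero_of_annSect_le M a m w hv.1.2 h0
  apply Subtype.ext
  funext V
  apply ModSect.sect_ext_of_affine M V.unop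
  intro U₁
  have : IsAffine (ModSect.affObj V.unop U₁.1).obj.left.left := U₁.2
  have e1 := PresheafOfModules.sections_property s (ModSect.affHom V.unop U₁.1).op
  have e2 := PresheafOfModules.sections_property t (ModSect.affHom V.unop U₁.1).op
  exact e1.trans ((key (ModSect.affObj V.unop U₁.1)).trans e2.symm)

end Geom

end Groth.Agent.Lib.Seat48.BCEt
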