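import Mathlib
import Groth.Agent.Lib.Seat48BCAlg5

/-!
# Flat base change commutes with kernels (seat 48)

Namespace `Groth.Agent.Lib.Seat48.BCAlg`.

`IsBC.of_ker`: for a flat ring map `φ : A → B`, the kernel of a map between base changes is the
base change of the kernel.
-/

set_option autoImplicit false
set_option linter.style.haveILetI false
set_option linter.unusedSectionVars false

namespace Groth.Agent.Lib.Seat48.BCAlg

open TensorProduct

universe w

variable {A B : Type w} [CommRing A] [CommRing B] {φ : A →+* B}
  {K F N K' F' N' : Type w} [AddCommGroup K] [AddCommGroup F] [AddCommGroup N]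
  [AddCommGroup K'] [AddCommGroup F'] [AddCommGroup N']
  [Module A K] [Module A F] [Module A N] [Module B K'] [Module B F'] [Module B N']

theorem IsBC.of_ker (hφ : φ.Flat)
    (ρK : K →ₛₗ[φ] K') (ρF : F →ₛₗ[φ] F') (ρN : N →ₛₗ[φ] N')
    (κ : K →ₗ[A] F) (π : F →ₗ[A] N) (κ' : K' →ₗ[B] F') (π' : F' →ₗ[B] N')
    (hκ : ∀ k, ρF (κ k) = κ' (ρK k)) (hπ : ∀ x, ρN (π x) = π' (ρF x))
    (hinj : Function.Injective κ) (hex : Function.Exact κ π)
    (hinj' : Function.Injective κ') (hex' : Function.Exact κ' π')
    (hF : IsBC φ ρF) (hN : IsBC φ ρN) : IsBC φ ρK := by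
  letI : Algebra A B := φ.toAlgebra
  haveI : Module.Flat A B := hφ
  letI : Module A K' := Module.compHom K' φ
  haveI : IsScalarTower A B K' := IsScalarTower.of_algebraMap_smul (fun _ _ => rfl)
  letI : Module A F' := Module.compHom F' φ
  haveI : IsScalarTower A B F' := IsScalarTower.of_algebraMap_smul (fun _ _ => rfl)
  letI : Module A N' := Module.compHom N' φ
  haveI : IsScalarTower A B N' := IsScalarTower.of_algebraMap_smul (fun _ _ => rfl)
  have hF' : IsBaseChange B (semiToLin φ ρF) := hF
  have hN' : IsBaseChange B (semiToLin φ ρN) := hN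
  change IsBaseChange B (semiToLin φ ρK)
  set β : B ⊗[A] K →ₗ[B] K' := (semiToLin φ ρK).liftBaseChange B with hβ
  have h1 : ∀ z : B ⊗[A] K, κ' (β z) = hF'.equiv (LinearMap.lTensor B κ z) := by
    intro z
    induction z using TensorProduct.induction_on with
    | zero => simp
    | tmul b k =>
      rw [LinearMap.lTensor_tmul, IsBaseChange.equiv_tmul, hβ, LinearMap.liftBaseChange_tmul,
        map_smul]
      congr 1
      exact (hκ k).symm
    | add z₁ z₂ h₁ h₂ => simp only [map_add, h₁, h₂]
  have h2 : ∀ y : B ⊗[A] F, π' (hF'.equiv y) = hN'.equiv (LinearMap.lTensor B π y) := by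
    intro y
    induction y using TensorProduct.induction_on with
    | zero => simp
    | tmul b x =>
      rw [LinearMap.lTensor_tmul, IsBaseChange.equiv_tmul, IsBaseChange.equiv_tmul, map_smul]
      congr 1
      exact (hπ x).symm
    | add z₁ z₂ h₁ h₂ => simp only [map_add, h₁, h₂]
  have hinjT : Function.Injective (LinearMap.lTensor B κ) :=
    Module.Flat.lTensor_preserves_injective_linearMap κ hinj
  have hexT : Function.Exact (LinearMap.lTensor B κ) (LinearMap.lTensor B π) :=
    Module.Flat.lTensor_exact B hex
  have hbij : Function.Bijective β := by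
    constructor
    · rw [← LinearMap.ker_eq_bot, LinearMap.ker_eq_bot']
      intro z hz
      apply hinjT
      apply hF'.equiv.injective
      rw [← h1, hz, map_zero, map_zero, map_zero]
    · intro k'
      let y : B ⊗[A] F := hF'.equiv.symm (κ' k')
      have hy : LinearMap.lTensor B π y = 0 := by
        apply hN'.equiv.injective
        rw [← h2, map_zero]
        simp only [y, LinearEquiv.apply_symm_apply]
        exact hex'.apply_apply_eq_zero k'
      obtain ⟨z, hz⟩ := (hexT y).mp hy
      refine ⟨z, ?_⟩
      apply hinj'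
      rw [h1, hz]
      simp only [y, LinearEquiv.apply_symm_apply]
  refine IsBaseChange.of_equiv (LinearEquiv.ofBijective β hbij) (fun k => ?_)
  simp [hβ]

end Groth.Agent.Lib.Seat48.BCAlg
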