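import Mathlib
import Groth.Agent.Lib.Seat48BCAlg6

/-!
# Finiteness and base change (seat 48)

Namespace `Groth.Agent.Lib.Seat48.BCAlg`.

* `IsBC.span_image`: the image of a spanning set spans the base change.
* `IsBC.finite`: the base change of a finite module is finite.
* `finite_of_forall_finite_tensorProduct`, `IsBC.finite_of_forall`: finiteness of modules descends
  along a finite jointly faithfully flat family.
-/

set_option autoImplicit false
set_option linter.style.haveILetI false
set_option linter.unusedSectionVars false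

namespace Groth.Agent.Lib.Seat48.BCAlg

open TensorProduct

universe w

section Span

variable {A B : Type w} [CommRing A] [CommRing B] {φ : A →+* B}
  {M N : Type w} [AddCommGroup M] [Module A M] [AddCommGroup N] [Module B N]

theorem IsBC.span_image {ρ : M →ₛₗ[φ] N} (h : IsBC φ ρ) (S : Set M)
    (hS : Submodule.span A S = ⊤) : Submodule.span B (ρ '' S) = ⊤ := by
  set P : Submodule B N := Submodule.span B (ρ '' S) with hP
  have hle : Set.range ρ ⊆ (P : Set N) := by
    rintro _ ⟨m, rfl⟩
    have hm : m ∈ Submodule.span A S := by rw [hS]; trivial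
    induction hm using Submodule.span_induction with
    | mem x hx => exact Submodule.subset_span ⟨x, hx, rfl⟩
    | zero => rw [map_zero]; exact P.zero_mem
    | add x y _ _ hx hy => rw [map_add]; exact P.add_mem hx hy
    | smul a x _ hx => rw [ρ.map_smulₛₗ]; exact P.smul_mem _ hx
  rw [eq_top_iff, ← h.span_range]
  exact Submodule.span_le.2 hle

theorem IsBC.finite {ρ : M →ₛₗ[φ] N} (h : IsBC φ ρ) [Module.Finite A M] : Module.Finite B N := by
  classical
  obtain ⟨S, hS⟩ := (Module.finite_def (R := A) (M := M)).1 inferInstance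
  refine ⟨⟨S.image ρ, ?_⟩⟩
  rw [Finset.coe_image]
  exact h.span_image _ hS

end Span

section Descent

variable {A : Type w} [CommRing A] {ι : Type} [Fintype ι] [DecidableEq ι]
  {B : ι → Type w} [∀ k, CommRing (B k)] [∀ k, Algebra A (B k)]

/-- finiteness of modules descends along a finite jointly faithfully flat family. -/
theorem finite_of_forall_finite_tensorProduct [Module.FaithfullyFlat A (∀ k, B k)]
    {M : Type w} [AddCommGroup M] [Module A M]
    (h : ∀ k, Module.Finite (B k) (B k ⊗[A] M)) : Module.Finite A M := by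
  classical
  -- finitely many elements of `M` whose images generate all base changes
  have key : ∀ k, ∃ S : Finset M, ∀ (P : Submodule A M), (S : Set M) ⊆ P →
      ∀ z : B k ⊗[A] M, LinearMap.lTensor (B k) P.mkQ z = 0 := by
    intro k
    obtain ⟨n, s, hs⟩ := Module.Finite.exists_fin (R := B k) (M := B k ⊗[A] M)
    choose c t m hm using fun i : Fin n ↦ TensorProduct.exists_sum_tmul_eq (s i)
    refine ⟨Finset.univ.biUnion (fun i => (Finset.univ : Finset (Fin (c i))).image (m i)), ?_⟩
    intro P hP z
    have hz : z ∈ Submodule.span (B k) (Set.range s) := by rw [hs]; trivial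
    have hlin : ∀ (b : B k) (y : B k ⊗[A] M),
        LinearMap.lTensor (B k) P.mkQ (b • y) = b • LinearMap.lTensor (B k) P.mkQ y := by
      intro b y
      exact (AlgebraTensorModule.lTensor (B k) (B k) P.mkQ).map_smul b y
    induction hz using Submodule.span_induction with
    | mem x hx =>
      obtain ⟨i, rfl⟩ := hx
      rw [hm i, map_sum]
      refine Finset.sum_eq_zero (fun j _ => ?_)
      rw [LinearMap.lTensor_tmul]
      have : m i j ∈ P := hP (by
        rw [Finset.coe_biUnion]
        refine Set.mem_iUnion₂.2 ⟨i, Finset.mem_coe.2 (Finset.mem_univ i), ?_⟩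
        exact Finset.mem_coe.2 (Finset.mem_image.2 ⟨j, Finset.mem_univ j, rfl⟩))
      rw [Submodule.mkQ_apply, (Submodule.Quotient.mk_eq_zero P).2 this, TensorProduct.tmul_zero]
    | zero => exact map_zero _
    | add x y _ _ hx hy => rw [map_add, hx, hy, add_zero]
    | smul b x _ hx => rw [hlin, hx, smul_zero]
  choose S hS using key
  let P : Submodule A M := Submodule.span A ((Finset.univ.biUnion S : Finset M) : Set M)
  have hP : P = ⊤ := by
    rw [eq_top_iff]
    intro x _
    rw [← Submodule.Quotient.mk_eq_zero P]
    apply eq_zero_of_one_tmul_eq_zero (A := A) (B := B)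
    intro k
    have := hS k P (by
      intro y hy
      refine Submodule.subset_span ?_
      rw [Finset.coe_biUnion]
      exact Set.mem_iUnion₂.2 ⟨k, Finset.mem_coe.2 (Finset.mem_univ k), hy⟩) ((1 : B k) ⊗ₜ[A] x)
    rw [LinearMap.lTensor_tmul] at this
    exact this
  exact ⟨⟨_, hP⟩⟩

end Descent

section DescentBC

variable {ι : Type} [Fintype ι] [DecidableEq ι] {A : Type w} [CommRing A]
  {B : ι → Type w} [∀ k, CommRing (B k)] (φ : ∀ k, A →+* B k)
  {N : Type w} [AddCommGroup N] [Module A N]
  {Nk : ι → Type w} [∀ k, AddCommGroup (Nk k)] [∀ k, Module (B k) (Nk k)]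
  (ρ : ∀ k, N →ₛₗ[φ k] Nk k)

theorem IsBC.finite_of_forall (hff : JointlyFF φ) (hρ : ∀ k, IsBC (φ k) (ρ k))
    (hfin : ∀ k, Module.Finite (B k) (Nk k)) : Module.Finite A N := by
  letI : ∀ k, Algebra A (B k) := fun k => (φ k).toAlgebra
  letI : ∀ k, Module A (Nk k) := fun k => Module.compHom (Nk k) (φ k)
  haveI : ∀ k, IsScalarTower A (B k) (Nk k) := fun k =>
    IsScalarTower.of_algebraMap_smul (fun _ _ => rfl)
  haveI : Module.FaithfullyFlat A (∀ k, B k) := hff
  apply finite_of_forall_finite_tensorProduct (A := A) (B := B)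
  intro k
  have hk : IsBaseChange (B k) (semiToLin (φ k) (ρ k)) := hρ k
  exact Module.Finite.equiv hk.equiv.symm

end DescentBC

end Groth.Agent.Lib.Seat48.BCAlg
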