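import Mathlib
import Groth.Agent.Lib.Seat48BCSite4

/-!
# Epimorphisms of sheaves of modules with base change on affines (seat 48)

Namespace `Groth.Agent.Lib.Seat48.BCSite`.

* `AffineData.affSieve`, `AffineData.AffCover`: every object is covered by affine objects.
* `epi_of_app_surjective`: a morphism which is surjective on sections over affines is an epi.
* `app_surjective_of_epi`: an epimorphism between sheaves of modules with base change on affines is
  surjective on sections over affines.
-/

set_option autoImplicit false
set_option linter.unusedSectionVars false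

universe w v₁ u₁

open CategoryTheory Limits Opposite

namespace Groth.Agent.Lib.Seat48.BCSite

open Groth.Agent.Lib.Seat48.BCAlg

attribute [local instance] commRingSect

variable {C : Type u₁} [Category.{v₁} C]
variable {J : GrothendieckTopology C} {R : Sheaf J RingCat.{w}} [IsCommPresheaf R.obj]

/-- the sieve of morphisms factoring through an affine object. -/
def AffineData.affSieve (D : AffineData J R.obj) (X : C) : Sieve X where
  arrows Y f := ∃ (W : C) (g : Y ⟶ W) (h : W ⟶ X), D.Aff W ∧ g ≫ h = f
  downward_closed := by
    rintro Y Z f ⟨W, g, h, hW, rfl⟩ k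
    exact ⟨W, k ≫ g, h, hW, Category.assoc _ _ _⟩

/-- every object is covered by affine objects. -/
def AffineData.AffCover (D : AffineData J R.obj) : Prop := ∀ X : C, D.affSieve X ∈ J X

variable [HasSheafify J AddCommGrpCat.{w}] [J.WEqualsLocallyBijective AddCommGrpCat.{w}]

/-- a morphism of sheaves of modules which is surjective on sections over affines is an epi. -/
theorem epi_of_app_surjective (D : AffineData J R.obj) (hcov : D.AffCover)
    {F N : SheafOfModules.{w} R} (π : F ⟶ N)
    (h : ∀ ⦃W : C⦄, D.Aff W → Function.Surjective (π.val.app (op W))) : Epi π := by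
  have hls : Presheaf.IsLocallySurjective J ((PresheafOfModules.toPresheaf R.obj).map π.val) := by
    constructor
    intro X n
    refine J.superset_covering ?_ (hcov X)
    rintro Y f ⟨W, g, k, hW, rfl⟩
    obtain ⟨t, ht⟩ := h hW (N.val.map k.op n)
    refine ⟨F.val.map g.op t, ?_⟩
    change π.val.app (op Y) (F.val.map g.op t) = N.val.map (g ≫ k).op n
    rw [PresheafOfModules.naturality_apply, ht]
    exact (N.val.map_comp_apply k.op g.op n).symm
  have : Sheaf.IsLocallySurjective ((SheafOfModules.toSheaf R).map π) := hls
  have h2 : Epi ((SheafOfModules.toSheaf R).map π) := Sheaf.epi_of_isLocallySurjective _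
  exact (SheafOfModules.toSheaf R).epi_of_epi_map h2

/-- an epimorphism between sheaves of modules with base change on affines is surjective on
sections over affines. -/
theorem app_surjective_of_epi (D : AffineData J R.obj) {F N : SheafOfModules.{w} R} (π : F ⟶ N)
    [Epi π] (hF : HasBCOn D F.val) (hN : HasBCOn D N.val) ⦃W : C⦄ (hW : D.Aff W) :
    Function.Surjective (π.val.app (op W)) := by
  let adj := PresheafOfModules.sheafificationAdjunction (𝟙 R.obj) (J := J) (R := R)
  let ι := SheafOfModules.forget.{w} R ⋙ PresheafOfModules.restrictScalars (𝟙 R.obj)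
  let a := PresheafOfModules.sheafification.{w} (𝟙 R.obj) (J := J) (R := R)
  let P := cokernel (ι.map π)
  let q : ι.obj N ⟶ P := cokernel.π (ι.map π)
  let η : P ⟶ ι.obj (a.obj P) := adj.unit.app P
  have hη : η = 0 := by
    have h1 : q ≫ η = 0 := by
      obtain ⟨ψ, hψ⟩ := ι.map_surjective (q ≫ η)
      have h2 : π ≫ ψ = 0 := by
        apply ι.map_injective
        rw [ι.map_comp, hψ, ← Category.assoc, cokernel.condition, zero_comp, ι.map_zero]
      have h3 : ψ = 0 := by
        rw [← cancel_epi π, h2, comp_zero]
      rw [← hψ, h3, ι.map_zero]
    rw [← cancel_epi q, h1, comp_zero]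
  have hloc : Presheaf.IsLocallyInjective J ((PresheafOfModules.toPresheaf R.obj).map η) := by
    have : (PresheafOfModules.toPresheaf R.obj).map η = CategoryTheory.toSheafify J P.presheaf :=
      PresheafOfModules.toPresheaf_map_sheafificationAdjunction_unit_app (𝟙 R.obj) P
    rw [this]
    exact (J.W_toSheafify P.presheaf).isLocallyInjective
  -- `P` has base change on affines
  have hP : HasBCOn D P := fun E E' g hE hE' =>
    hasBCAt_of_isColimit (parallelPair (ι.map π) 0) (colimit.cocone _)
      (fun X => isColimitOfPreserves (PresheafOfModules.evaluation R.obj X) (colimit.isColimit _))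
      g (by
        rintro (_ | _)
        · exact hF g hE hE'
        · exact hN g hE hE')
  have hinj := app_injective_of_locallyInjective D η (fun g hE hE' => hP g hE hE') hW
  have hzero : ∀ x : P.obj (op W), x = 0 := by
    intro x
    apply hinj
    rw [hη]
    rfl
  -- exactness of sections
  let S : ShortComplex (PresheafOfModules.{w} R.obj) :=
    ShortComplex.mk (ι.map π) q (cokernel.condition _)
  have hS : S.Exact := S.exact_of_g_is_cokernel (cokernelIsCokernel _)
  have hSV : (S.map (PresheafOfModules.evaluation R.obj (op W))).Exact :=
    hS.map_of_epi_of_preservesCokernel _ inferInstance inferInstance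
  rw [ShortComplex.moduleCat_exact_iff] at hSV
  intro n
  obtain ⟨t, ht⟩ := hSV n (hzero _)
  exact ⟨t, ht⟩

end Groth.Agent.Lib.Seat48.BCSite
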