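import Mathlib
import Groth.Agent.Lib.Seat48BCAlg6
import Groth.Agent.Lib.Seat48BCSite5

/-!
# Kernels and generation by sections, for sheaves of modules with base change on affines (seat 48)

Namespace `Groth.Agent.Lib.Seat48.BCSite`.

* `hasBCOn_of_isLimit_kernelFork`: kernels of maps between sheaves of modules with base change on
  affines have base change on affines.
* `epi_freeHom_of_span`: sections which span the sections over every affine generate.
-/

set_option autoImplicit false
set_option linter.unusedSectionVars false
set_option linter.style.haveILetI false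

universe w v₁ u₁

open CategoryTheory Limits Opposite

namespace Groth.Agent.Lib.Seat48.BCSite

open Groth.Agent.Lib.Seat48.BCAlg

attribute [local instance] commRingSect

variable {C : Type u₁} [Category.{v₁} C]
variable {J : GrothendieckTopology C} {R : Sheaf J RingCat.{w}} [IsCommPresheaf R.obj]

section Kernel

/-- sections of a kernel. -/
theorem app_injective_and_exact_of_isLimit {F N : SheafOfModules.{w} R} (π : F ⟶ N)
    (c : KernelFork π) (hc : IsLimit c) (W : Cᵒᵖ) :
    Function.Injective (c.ι.val.app W) ∧ Function.Exact (c.ι.val.app W) (π.val.app W) := by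
  let G := SheafOfModules.evaluation.{w} R W
  haveI : G.PreservesZeroMorphisms := by
    dsimp only [G, SheafOfModules.evaluation]
    infer_instance
  have hl : IsLimit (c.map G) := KernelFork.mapIsLimit c hc G
  have hmono : Mono (G.map c.ι) := mono_of_isLimit_fork hl
  constructor
  · exact (ModuleCat.mono_iff_injective _).1 hmono
  · let S : ShortComplex (ModuleCat.{w} (R.obj.obj W)) :=
      ShortComplex.mk (G.map c.ι) (G.map π) (c.map_condition G)
    have hS : S.Exact := S.exact_of_f_is_kernel hl
    have h1 := hS.moduleCat_range_eq_ker
    intro x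
    constructor
    · intro hx
      have : x ∈ LinearMap.ker S.g.hom := hx
      rw [← h1] at this
      exact this
    · rintro ⟨y, rfl⟩
      have : S.f.hom y ∈ LinearMap.range S.f.hom := ⟨y, rfl⟩
      rw [h1] at this
      exact this

variable (D : AffineData J R.obj)

include D in
/-- kernels of maps between sheaves of modules with base change on affines have base change on
affines. -/
theorem hasBCOn_of_isLimit_kernelFork {F N : SheafOfModules.{w} R} (π : F ⟶ N)
    (c : KernelFork π) (hc : IsLimit c) (hF : HasBCOn D F.val) (hN : HasBCOn D N.val) :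
    HasBCOn D c.pt.val := by
  intro E E' g hE hE'
  obtain ⟨hinj, hex⟩ := app_injective_and_exact_of_isLimit π c hc (op E)
  obtain ⟨hinj', hex'⟩ := app_injective_and_exact_of_isLimit π c hc (op E')
  exact IsBC.of_ker (D.flat g hE hE') (c.pt.val.restrictₛₗ g.op) (F.val.restrictₛₗ g.op)
    (N.val.restrictₛₗ g.op) (c.ι.val.app (op E)).hom (π.val.app (op E)).hom
    (c.ι.val.app (op E')).hom (π.val.app (op E')).hom
    (fun k => (PresheafOfModules.naturality_apply c.ι.val g.op k).symm)
    (fun x => (PresheafOfModules.naturality_apply π.val g.op x).symm)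
    hinj hex hinj' hex' (hF g hE hE') (hN g hE hE')

end Kernel

section Generation

variable [HasSheafify J AddCommGrpCat.{w}] [J.WEqualsLocallyBijective AddCommGrpCat.{w}]

/-- the value of a section in terms of the corresponding morphism from a free module. -/
theorem sections_val_eq (N : SheafOfModules.{w} R) {I : Type w} (s : I → N.sections) (i : I)
    (X : Cᵒᵖ) :
    (s i).val X = (N.freeHomEquiv.symm s).val.app X
      ((SheafOfModules.ιFree (R := R) i).val.app X (1 : R.obj.obj X)) := by
  have h1 := SheafOfModules.unitHomEquiv_symm_freeHomEquiv_apply (N.freeHomEquiv.symm s) i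
  rw [Equiv.apply_symm_apply] at h1
  have h2 : s i = N.unitHomEquiv (SheafOfModules.ιFree i ≫ N.freeHomEquiv.symm s) := by
    rw [← h1, Equiv.apply_symm_apply]
  rw [h2, SheafOfModules.unitHomEquiv_apply_coe]
  rfl

/-- sections which span the sections over every affine object generate. -/
theorem epi_freeHomEquiv_symm_of_span (D : AffineData J R.obj) (hcov : D.AffCover)
    (N : SheafOfModules.{w} R) {I : Type w} (s : I → N.sections)
    (hs : ∀ ⦃W : C⦄, D.Aff W →
      Submodule.span (R.obj.obj (op W))
        (Set.range (fun i => PresheafOfModules.sections.eval (s i) (op W))) = ⊤) :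
    Epi (N.freeHomEquiv.symm s) := by
  refine epi_of_app_surjective D hcov _ (fun W hW => ?_)
  rw [← LinearMap.range_eq_top (f := ((N.freeHomEquiv.symm s).val.app (op W)).hom), eq_top_iff,
    ← hs hW, Submodule.span_le]
  rintro _ ⟨i, rfl⟩
  exact ⟨_, (sections_val_eq N s i (op W)).symm⟩

end Generation

end Groth.Agent.Lib.Seat48.BCSite
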