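import Mathlib
import Groth.Agent.Lib.Seat48BCAlg7
import Groth.Agent.Lib.Seat48BCSite6

/-!
# Presentations of sheaves of modules with base change on affines (seat 48)

Namespace `Groth.Agent.Lib.Seat48.BCSite`.

On a site with affine objects having an affine terminal object `T`, a sheaf of modules `N` with base
change on affines is generated by any spanning family of `N(T)`, and admits a presentation.

* `sectionOfTerminal`, `generatingSectionsOfSpan`
* `finite_free_app`: sections of a finite free module form a finite module.
* `nonempty_presentation_of_hasBCOn`, `exists_isFinite_presentation`,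
  `exists_isFiniteType_generatingSections`.
-/

set_option autoImplicit false
set_option linter.unusedSectionVars false
set_option linter.style.haveILetI false

universe w v₁ u₁ v₂ u₂

open CategoryTheory Limits Opposite

namespace Groth.Agent.Lib.Seat48.BCSite

open Groth.Agent.Lib.Seat48.BCAlg

attribute [local instance] commRingSect

/-- the legs of a colimit cocone of modules are jointly surjective. -/
theorem eq_top_of_isColimit {A : Type w} [Ring A] {K : Type u₂} [Category.{v₂} K]
    {F : K ⥤ ModuleCat.{w} A} (c : Cocone F) (hc : IsColimit c) (P : Submodule A c.pt)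
    (hP : ∀ (k : K) (x : F.obj k), (c.ι.app k).hom x ∈ P) : P = ⊤ := by
  have h : (ModuleCat.ofHom P.mkQ : c.pt ⟶ ModuleCat.of A (c.pt ⧸ P)) = 0 := by
    apply hc.hom_ext
    intro k
    rw [comp_zero]
    apply ModuleCat.hom_ext
    ext x
    change P.mkQ ((c.ι.app k).hom x) = 0
    rw [Submodule.mkQ_apply, Submodule.Quotient.mk_eq_zero]
    exact hP k x
  have h2 : P.mkQ = 0 := by
    have := congrArg ModuleCat.Hom.hom h
    exact this
  rw [← Submodule.ker_mkQ P, h2, LinearMap.ker_zero]

variable {C : Type u₁} [Category.{v₁} C]
variable {J : GrothendieckTopology C} {R : Sheaf J RingCat.{w}} [IsCommPresheaf R.obj]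

section Terminal

variable {T : C} (hT : IsTerminal T)

/-- the global section attached to an element over the terminal object. -/
noncomputable def sectionOfTerminal (N : SheafOfModules.{w} R) (p : N.val.obj (op T)) :
    N.sections :=
  PresheafOfModules.sectionsMk (fun X => N.val.map (hT.from X.unop).op p) (by
    intro X Y f
    rw [← PresheafOfModules.map_comp_apply]
    have : (hT.from X.unop).op ≫ f = (hT.from Y.unop).op :=
      Quiver.Hom.unop_inj (hT.hom_ext _ _)
    rw [this])

theorem sectionOfTerminal_val (N : SheafOfModules.{w} R) (p : N.val.obj (op T)) (X : Cᵒᵖ) :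
    (sectionOfTerminal hT N p).val X = N.val.map (hT.from X.unop).op p := rfl

end Terminal

section Free

variable [HasSheafify J AddCommGrpCat.{w}] [J.WEqualsLocallyBijective AddCommGrpCat.{w}]

/-- sections of a finite free sheaf of modules form a finite module. -/
theorem finite_free_app (I : Type w) [Finite I] (X : Cᵒᵖ) :
    Module.Finite (R.obj.obj X) ((SheafOfModules.free (R := R) I).val.obj X) := by
  classical
  let G := SheafOfModules.evaluation.{w} R X
  haveI : G.Additive := by
    dsimp only [G, SheafOfModules.evaluation]
    infer_instance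
  have hc : IsColimit (G.mapCocone (SheafOfModules.freeCofan (R := R) I)) :=
    isColimitOfPreserves G (SheafOfModules.isColimitFreeCofan (R := R) I)
  haveI := Fintype.ofFinite I
  refine ⟨⟨Finset.univ.image (fun i : I =>
    ((SheafOfModules.ιFree (R := R) i).val.app X).hom (1 : R.obj.obj X)), ?_⟩⟩
  have key : ∀ (i : I) (r : R.obj.obj X),
      ((SheafOfModules.ιFree (R := R) i).val.app X).hom r ∈
        Submodule.span (R.obj.obj X) ((Finset.univ.image (fun i : I =>
          ((SheafOfModules.ιFree (R := R) i).val.app X).hom (1 : R.obj.obj X)) :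
            Finset ((SheafOfModules.free (R := R) I).val.obj X)) : Set _) := by
    intro i r
    have h2 : ((SheafOfModules.ιFree (R := R) i).val.app X).hom r =
        r • ((SheafOfModules.ιFree (R := R) i).val.app X).hom (1 : R.obj.obj X) := by
      rw [← map_smul]
      congr 1
      exact (mul_one r).symm
    rw [h2]
    refine Submodule.smul_mem _ _ (Submodule.subset_span ?_)
    rw [Finset.coe_image]
    exact ⟨i, Finset.mem_coe.2 (Finset.mem_univ i), rfl⟩
  refine eq_top_of_isColimit _ hc _ ?_
  rintro ⟨i⟩ r
  exact key i r

end Free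

section Generators

variable [HasSheafify J AddCommGrpCat.{w}] [J.WEqualsLocallyBijective AddCommGrpCat.{w}]
variable (D : AffineData J R.obj) (hcov : D.AffCover) {T : C} (hT : IsTerminal T) (hTA : D.Aff T)

/-- a spanning family of `N(T)` generates `N`. -/
noncomputable def generatingSectionsOfSpan (N : SheafOfModules.{w} R) (hN : HasBCOn D N.val) {I : Type w}
    (g : I → N.val.obj (op T))
    (hg : Submodule.span (R.obj.obj (op T)) (Set.range g) = ⊤) : N.GeneratingSections where
  I := I
  s i := sectionOfTerminal hT N (g i)
  epi := epi_freeHomEquiv_symm_of_span D hcov N _ (fun W hW => by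
    have := (hN (hT.from W) hTA hW).span_image (Set.range g) hg
    rw [← Set.range_comp] at this
    exact this)

include D hcov hT hTA in
/-- a sheaf of modules with base change on affines has a presentation. -/
theorem nonempty_presentation_of_hasBCOn (N : SheafOfModules.{w} R) (hN : HasBCOn D N.val) :
    Nonempty N.Presentation := by
  let G : N.GeneratingSections :=
    generatingSectionsOfSpan D hcov hT hTA N hN (fun p : N.val.obj (op T) => p) (by
      rw [eq_top_iff]
      intro x _
      exact Submodule.subset_span ⟨x, rfl⟩)
  have hK : HasBCOn D (kernel G.π).val :=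
    hasBCOn_of_isLimit_kernelFork D G.π (KernelFork.ofι (kernel.ι G.π) (kernel.condition G.π))
      (kernelIsKernel G.π) (hasBCOn_free D _) hN
  exact ⟨⟨G, generatingSectionsOfSpan D hcov hT hTA (kernel G.π) hK
    (fun p : (kernel G.π).val.obj (op T) => p) (by
      rw [eq_top_iff]
      intro x _
      exact Submodule.subset_span ⟨x, rfl⟩)⟩⟩

include D hcov hT hTA in
/-- finitely many generating sections from finiteness of `N(T)`. -/
theorem exists_isFiniteType_generatingSections (N : SheafOfModules.{w} R) (hN : HasBCOn D N.val)
    (hfin : Module.Finite (R.obj.obj (op T)) (N.val.obj (op T))) :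
    ∃ G : N.GeneratingSections, G.IsFiniteType := by
  obtain ⟨n, s, hs⟩ := Module.Finite.exists_fin (R := R.obj.obj (op T)) (M := N.val.obj (op T))
  have hspan : Submodule.span (R.obj.obj (op T))
      (Set.range (fun i : ULift.{w} (Fin n) => s i.down)) = ⊤ := by
    rw [eq_top_iff, ← hs]
    refine Submodule.span_mono ?_
    rintro _ ⟨i, rfl⟩
    exact ⟨ULift.up i, rfl⟩
  exact ⟨generatingSectionsOfSpan D hcov hT hTA N hN (fun i : ULift.{w} (Fin n) => s i.down) hspan,
    ⟨(inferInstance : Finite (ULift.{w} (Fin n)))⟩⟩

include D hcov hT hTA in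
/-- a finite presentation from finite presentation of `N(T)`. -/
theorem exists_isFinite_presentation (N : SheafOfModules.{w} R) (hN : HasBCOn D N.val)
    (hfp : Module.FinitePresentation (R.obj.obj (op T)) (N.val.obj (op T))) :
    ∃ P : N.Presentation, P.IsFinite := by
  haveI : Module.Finite (R.obj.obj (op T)) (N.val.obj (op T)) := inferInstance
  obtain ⟨n, s, hs⟩ := Module.Finite.exists_fin (R := R.obj.obj (op T)) (M := N.val.obj (op T))
  let G : N.GeneratingSections :=
    generatingSectionsOfSpan D hcov hT hTA N hN (fun i : ULift.{w} (Fin n) => s i.down) (by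
      rw [eq_top_iff, ← hs]
      refine Submodule.span_mono ?_
      rintro _ ⟨i, rfl⟩
      exact ⟨ULift.up i, rfl⟩)
  haveI hGI : Finite G.I := inferInstanceAs (Finite (ULift.{w} (Fin n)))
  let c : KernelFork G.π := KernelFork.ofι (kernel.ι G.π) (kernel.condition G.π)
  have hc : IsLimit c := kernelIsKernel G.π
  have hK : HasBCOn D (kernel G.π).val :=
    hasBCOn_of_isLimit_kernelFork D G.π c hc (hasBCOn_free D _) hN
  obtain ⟨hinj, hex⟩ := app_injective_and_exact_of_isLimit G.π c hc (op T)
  have hsurj : Function.Surjective (G.π.val.app (op T)) :=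
    app_surjective_of_epi D G.π (hasBCOn_free D _) hN hTA
  haveI : Module.Finite (R.obj.obj (op T)) ((SheafOfModules.free (R := R) G.I).val.obj (op T)) :=
    finite_free_app G.I (op T)
  have hker : (LinearMap.ker (G.π.val.app (op T)).hom).FG :=
    Module.FinitePresentation.fg_ker (G.π.val.app (op T)).hom hsurj
  have hrange : LinearMap.range (c.ι.val.app (op T)).hom = LinearMap.ker (G.π.val.app (op T)).hom := by
    ext x
    exact ((hex x).symm : _)
  have hKfin : Module.Finite (R.obj.obj (op T)) ((kernel G.π).val.obj (op T)) := by
    have e : (kernel G.π).val.obj (op T) ≃ₗ[R.obj.obj (op T)]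
        LinearMap.range (c.ι.val.app (op T)).hom :=
      LinearEquiv.ofInjective (c.ι.val.app (op T)).hom hinj
    haveI : Module.Finite (R.obj.obj (op T)) (LinearMap.range (c.ι.val.app (op T)).hom) := by
      rw [hrange]
      exact Module.Finite.iff_fg.2 hker
    exact Module.Finite.equiv e.symm
  obtain ⟨m, r, hr⟩ := Module.Finite.exists_fin (R := R.obj.obj (op T))
    (M := (kernel G.π).val.obj (op T))
  let Rel : (kernel G.π).GeneratingSections :=
    generatingSectionsOfSpan D hcov hT hTA (kernel G.π) hK
      (fun i : ULift.{w} (Fin m) => r i.down) (by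
        rw [eq_top_iff, ← hr]
        refine Submodule.span_mono ?_
        rintro _ ⟨i, rfl⟩
        exact ⟨ULift.up i, rfl⟩)
  exact ⟨⟨G, Rel⟩, ⟨⟨hGI⟩, ⟨inferInstanceAs (Finite (ULift.{w} (Fin m)))⟩⟩⟩

end Generators

end Groth.Agent.Lib.Seat48.BCSite
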