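import Mathlib
import Groth.Agent.Lib.Seat48BCSite7

/-!
# Quasi-coherence and finiteness from base change on affines (seat 48)

Namespace `Groth.Agent.Lib.Seat48.BCSite`.

On a site with affine objects such that every object is covered by affines:

* `isQuasicoherent_of_hasBCOn`: a sheaf of modules with base change on affines is quasi-coherent;
* `isFiniteType_of_sections`, `isFinitePresentation_of_sections`: finiteness from finiteness of
  sections over (enough) affines;
* `finite_sections_of_isFiniteType`: sections over affines of a sheaf of modules of finite type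
  with base change on affines form finite modules.
-/

set_option autoImplicit false
set_option linter.unusedSectionVars false
set_option linter.style.haveILetI false

universe w v₁ u₁

open CategoryTheory Limits Opposite

namespace Groth.Agent.Lib.Seat48.BCSite

open Groth.Agent.Lib.Seat48.BCAlg

attribute [local instance] commRingSect

variable {C : Type u₁} [Category.{v₁} C]
variable {J : GrothendieckTopology C} {R : Sheaf J RingCat.{w}} [IsCommPresheaf R.obj]

/-- affine objects cover in the slice sites. -/
theorem AffineData.affCover_over (D : AffineData J R.obj) (hcov : D.AffCover) (X : C) :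
    (D.over X).AffCover := by
  intro Y
  rw [GrothendieckTopology.mem_over_iff]
  refine J.superset_covering ?_ (hcov Y.left)
  rintro Z f ⟨W, g, h, hW, rfl⟩
  rw [Sieve.overEquiv_iff]
  refine ⟨Over.mk (h ≫ Y.hom), Over.homMk g (by simp), Over.homMk h rfl, hW, ?_⟩
  ext
  rfl

variable [HasSheafify J AddCommGrpCat.{w}] [J.WEqualsLocallyBijective AddCommGrpCat.{w}]
  [∀ X, HasSheafify (J.over X) AddCommGrpCat.{w}]
  [∀ X, (J.over X).WEqualsLocallyBijective AddCommGrpCat.{w}]

/-- base change on affines passes to slices. -/
theorem hasBCOn_over (D : AffineData J R.obj) (M : SheafOfModules.{w} R) (h : HasBCOn D M.val)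
    (X : C) : HasBCOn (D.over X) (M.over X).val := by
  intro E E' g hE hE'
  exact h g.left hE hE'

variable (D : AffineData J R.obj) (hcov : D.AffCover)

include hcov in
/-- **a sheaf of modules with base change on affines is quasi-coherent.** -/
theorem isQuasicoherent_of_hasBCOn (M : SheafOfModules.{w} R) (h : HasBCOn D M.val) :
    M.IsQuasicoherent := by
  have hp : ∀ i : {W : C // D.Aff W}, Nonempty (M.over i.1).Presentation := fun i =>
    nonempty_presentation_of_hasBCOn (D.over i.1) (D.affCover_over hcov i.1)
      (T := Over.mk (𝟙 i.1)) Over.mkIdTerminal i.2 (M.over i.1) (hasBCOn_over D M h i.1)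
  let q : SheafOfModules.QuasicoherentData.{u₁} M :=
    { I := {W : C // D.Aff W}
      X := fun i => i.1
      coversTop := by
        intro E
        refine J.superset_covering ?_ (hcov E)
        rintro Y f ⟨W, g, k, hW, rfl⟩
        exact ⟨⟨W, hW⟩, ⟨g⟩⟩
      presentation := fun i => (hp i).some }
  exact q.isQuasicoherent

include hcov in
/-- finite type from finiteness of sections over enough affines. -/
theorem isFiniteType_of_sections (M : SheafOfModules.{w} R) (h : HasBCOn D M.val)
    (hfin : ∀ E : C, Sieve.ofObjects
      (fun i : {W : C // D.Aff W ∧ Module.Finite (R.obj.obj (op W)) (M.val.obj (op W))} => i.1) E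
        ∈ J E) :
    M.IsFiniteType := by
  have hp : ∀ i : {W : C // D.Aff W ∧ Module.Finite (R.obj.obj (op W)) (M.val.obj (op W))},
      ∃ G : (M.over i.1).GeneratingSections, G.IsFiniteType := fun i =>
    exists_isFiniteType_generatingSections (D.over i.1) (D.affCover_over hcov i.1)
      (T := Over.mk (𝟙 i.1)) Over.mkIdTerminal i.2.1 (M.over i.1) (hasBCOn_over D M h i.1) i.2.2
  let q : SheafOfModules.LocalGeneratorsData.{u₁} M :=
    { I := {W : C // D.Aff W ∧ Module.Finite (R.obj.obj (op W)) (M.val.obj (op W))}
      X := fun i => i.1
      coversTop := hfin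
      generators := fun i => (hp i).choose }
  exact ⟨q, ⟨fun i => (hp i).choose_spec⟩⟩

include hcov in
/-- finite presentation from finite presentation of sections over enough affines. -/
theorem isFinitePresentation_of_sections (M : SheafOfModules.{w} R) (h : HasBCOn D M.val)
    (hfin : ∀ E : C, Sieve.ofObjects
      (fun i : {W : C // D.Aff W ∧
        Module.FinitePresentation (R.obj.obj (op W)) (M.val.obj (op W))} => i.1) E ∈ J E) :
    M.IsFinitePresentation := by
  have hp : ∀ i : {W : C // D.Aff W ∧
      Module.FinitePresentation (R.obj.obj (op W)) (M.val.obj (op W))},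
      ∃ P : (M.over i.1).Presentation, P.IsFinite := fun i =>
    exists_isFinite_presentation (D.over i.1) (D.affCover_over hcov i.1)
      (T := Over.mk (𝟙 i.1)) Over.mkIdTerminal i.2.1 (M.over i.1) (hasBCOn_over D M h i.1) i.2.2
  let q : SheafOfModules.QuasicoherentData.{u₁} M :=
    { I := {W : C // D.Aff W ∧
        Module.FinitePresentation (R.obj.obj (op W)) (M.val.obj (op W))}
      X := fun i => i.1
      coversTop := hfin
      presentation := fun i => (hp i).choose }
  exact ⟨q, ⟨fun i => (hp i).choose_spec⟩⟩

include hcov in
/-- variant: all affines. -/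
theorem isFinitePresentation_of_forall_sections (M : SheafOfModules.{w} R) (h : HasBCOn D M.val)
    (hfin : ∀ W : C, D.Aff W →
      Module.FinitePresentation (R.obj.obj (op W)) (M.val.obj (op W))) :
    M.IsFinitePresentation := by
  refine isFinitePresentation_of_sections D hcov M h (fun E => ?_)
  refine J.superset_covering ?_ (hcov E)
  rintro Y f ⟨W, g, k, hW, rfl⟩
  exact ⟨⟨W, hW, hfin W hW⟩, ⟨g⟩⟩

include hcov in
/-- variant: all affines. -/
theorem isFiniteType_of_forall_sections (M : SheafOfModules.{w} R) (h : HasBCOn D M.val)
    (hfin : ∀ W : C, D.Aff W → Module.Finite (R.obj.obj (op W)) (M.val.obj (op W))) :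
    M.IsFiniteType := by
  refine isFiniteType_of_sections D hcov M h (fun E => ?_)
  refine J.superset_covering ?_ (hcov E)
  rintro Y f ⟨W, g, k, hW, rfl⟩
  exact ⟨⟨W, hW, hfin W hW⟩, ⟨g⟩⟩

/-- **sections over affines of a sheaf of modules of finite type with base change on affines form
finite modules.** -/
theorem finite_sections_of_isFiniteType (M : SheafOfModules.{w} R) [M.IsFiniteType]
    (h : HasBCOn D M.val) {W : C} (hW : D.Aff W) :
    Module.Finite (R.obj.obj (op W)) (M.val.obj (op W)) := by
  obtain ⟨σ, hσ⟩ := SheafOfModules.IsFiniteType.exists_localGeneratorsData M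
  obtain ⟨n, V, a, hAff, hmem, -, hff⟩ := D.exists_cover hW _ (σ.coversTop W)
  refine IsBC.finite_of_forall (fun k => (R.obj.map (a k).op).hom)
    (fun k => M.val.restrictₛₗ (a k).op) hff (fun k => h (a k) hW (hAff k)) (fun k => ?_)
  obtain ⟨i, ⟨b⟩⟩ := hmem k
  -- `V k` is an affine object over `σ.X i`
  let G := σ.generators i
  haveI : G.IsFiniteType := hσ.isFiniteType i
  have hsurj : Function.Surjective (G.π.val.app (op (Over.mk b))) :=
    app_surjective_of_epi (D.over (σ.X i)) G.π (hasBCOn_free (D.over (σ.X i)) _)
      (hasBCOn_over D M h (σ.X i)) (W := Over.mk b) (hAff k)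
  haveI : Module.Finite ((R.over (σ.X i)).obj.obj (op (Over.mk b)))
      ((SheafOfModules.free (R := R.over (σ.X i)) G.I).val.obj (op (Over.mk b))) :=
    finite_free_app G.I (op (Over.mk b))
  exact Module.Finite.of_surjective (G.π.val.app (op (Over.mk b))).hom hsurj

end Groth.Agent.Lib.Seat48.BCSite
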