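import Mathlib
import Groth.Agent.S10175
import Groth.Agent.Lib.Seat6WeakAss
import Groth.Agent.Lib.Seat48WeakAssChart

/-!
# Weakly associated points of direct images: the reverse inclusion (seat 48)

Namespace `Groth.Agent.Lib.Seat48.PushWeakAss`.

* `exists_point_bc`: points of the base change of a chart.
* `isWeakAssOn_iff_mem_weakAssΓ`: `IsWeakAssOn` in terms of weakly associated primes of the module
  of sections over the ring of functions (no universe lift).
* `isWeakAssOn_push_of_comap_mem`: a criterion for being weakly associated to `f_* M`.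
* `image_weakAssEt_subset_push`: `f(WeakAss M) ⊆ WeakAss(f_* M)` whenever the comap of weakly
  associated primes along `Γ(E) → Γ(E ×_Y X)` is weakly associated.
-/

set_option autoImplicit false
set_option linter.style.haveILetI false
set_option linter.unusedSectionVars false
set_option backward.isDefEq.respectTransparency false

universe u

open CategoryTheory CategoryTheory.Limits AlgebraicGeometry Opposite

namespace Groth.Agent.Lib.Seat48.PushWeakAss

open AlgSp FlatCA

variable {S : Scheme.{u}} {X Y : AlgSp.Sp S} {f : X ⟶ Y}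

/-- points of the base change of a chart of `Y` over a point of `X`. -/
theorem exists_point_bc (hf : AlgSp.Representable f) (E : AlgSp.EtOver Y) (e : E.obj.left.left)
    (x : AlgSp.Points X) (h : AlgSp.Points.map f x = AlgSp.Points.ofPt E.obj.hom e) :
    ∃ x' : ((AlgSp.EtOver.bc hf).obj E).obj.left.left, (AlgSp.EtOver.bcπ hf E).left x' = e ∧
      AlgSp.Points.ofPt ((AlgSp.EtOver.bc hf).obj E).obj.hom x' = x := by
  rw [AlgSp.Points.ofPt_eq_map_ofScheme] at h
  obtain ⟨p, hp1, hp2⟩ := Groth.Agent.S10175.exists_point_of_isPullback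
    (AlgSp.EtOver.isPullback_bcObj hf E) x _ h
  obtain ⟨x', rfl⟩ := (AlgSp.Points.schemeHomeo _).surjective p
  refine ⟨x', ?_, ?_⟩
  · apply (AlgSp.Points.schemeHomeo E.obj.left).injective
    rw [← AlgSp.Points.map_yon_map_apply]
    exact hp2
  · rw [AlgSp.Points.ofPt_eq_map_ofScheme]
    exact hp1

/-- a criterion for being weakly associated to a direct image. -/
theorem isWeakAssOn_push_of_transfer (hf : AlgSp.Representable f) (M : AlgSp.ModEt X)
    (E : AlgSp.EtOver Y) [IsAffine E.obj.left.left]
    [IsAffine ((AlgSp.EtOver.bc hf).obj E).obj.left.left]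
    (x' : ((AlgSp.EtOver.bc hf).obj E).obj.left.left)
    (H : ∀ (s : AlgSp.sectModEt M ((AlgSp.EtOver.bc hf).obj E)),
      ∀ q ∈ (AlgSp.annSect s).minimalPrimes,
        ∃ t : AlgSp.sectModEt M ((AlgSp.EtOver.bc hf).obj E),
          q.comap (AlgSp.EtOver.bcπ hf E).left.appTop.hom ∈
            ((AlgSp.annSect t).comap (AlgSp.EtOver.bcπ hf E).left.appTop.hom).minimalPrimes)
    (hx' : AlgSp.IsWeakAssOn M ((AlgSp.EtOver.bc hf).obj E) x') :
    AlgSp.IsWeakAssOn ((AlgSp.pushModEt hf).obj M) E ((AlgSp.EtOver.bcπ hf E).left x') := by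
  obtain ⟨s, hs⟩ := hx'
  obtain ⟨t, ht⟩ := H s _ hs
  refine ⟨t, ?_⟩
  rw [annSect_push hf M E t, primeAtPt_map]
  exact ht

section Algebra

variable {R B : Type u} [CommRing R] [CommRing B] (ψ : R →+* B)
  {N : Type*} [AddCommGroup N] [Module B N]

/-- transfer of minimal primes over annihilators along a finite ring map. -/
theorem exists_comap_mem_minimalPrimes_of_finite (hψ : ψ.Finite) (s : N) (q : Ideal B)
    (hq : q ∈ ((Submodule.span B {s}).annihilator).minimalPrimes) :
    ∃ t : N, q.comap ψ ∈ (((Submodule.span B {t}).annihilator).comap ψ).minimalPrimes := by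
  letI : Algebra R B := ψ.toAlgebra
  letI : Module R N := Module.compHom N ψ
  haveI : IsScalarTower R B N := IsScalarTower.of_algebraMap_smul (fun _ _ => rfl)
  haveI : Module.Finite R B := hψ
  have h1 : q ∈ weakAss B N := ⟨s, hq⟩
  obtain ⟨t, ht⟩ := Groth.Agent.Lib.Seat6.WeakAss.comap_mem_weakAss_of_finite (R := R) h1
  refine ⟨t, ?_⟩
  have e : (Submodule.span R {t}).annihilator =
      ((Submodule.span B {t}).annihilator).comap ψ := by
    ext a
    rw [Ideal.mem_comap, Submodule.mem_annihilator_span_singleton,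
      Submodule.mem_annihilator_span_singleton]
    rfl
  rw [← e]
  exact ht

end Algebra

/-- sections of a module as a module over the ring of functions (no universe lift). -/
@[reducible] noncomputable def modΓ (M : AlgSp.ModEt X) (E : AlgSp.EtOver X) :
    Module Γ(E.obj.left.left, ⊤) (AlgSp.sectModEt M E) :=
  Module.compHom _ (AlgSp.upΓ E)

/-- the annihilator of a section as the annihilator of a cyclic module over the ring of functions. -/
theorem annSect_eq_annihilator {M : AlgSp.ModEt X} {E : AlgSp.EtOver X}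
    (s : AlgSp.sectModEt M E) :
    letI := modΓ M E
    AlgSp.annSect s = (Submodule.span Γ(E.obj.left.left, ⊤) {s}).annihilator := by
  letI := modΓ M E
  ext a
  rw [AlgSp.mem_annSect_iff, Submodule.mem_annihilator_span_singleton]
  rfl

/-- `f(WeakAss M) ⊆ WeakAss(f_* M)` for a finite morphism. -/
theorem isWeakAssOn_push_of_finite (hf : AlgSp.Representable f) (M : AlgSp.ModEt X)
    (E : AlgSp.EtOver Y) [IsAffine E.obj.left.left]
    [IsAffine ((AlgSp.EtOver.bc hf).obj E).obj.left.left]
    (hfin : (AlgSp.EtOver.bcπ hf E).left.appTop.hom.Finite)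
    (x' : ((AlgSp.EtOver.bc hf).obj E).obj.left.left)
    (hx' : AlgSp.IsWeakAssOn M ((AlgSp.EtOver.bc hf).obj E) x') :
    AlgSp.IsWeakAssOn ((AlgSp.pushModEt hf).obj M) E ((AlgSp.EtOver.bcπ hf E).left x') := by
  refine isWeakAssOn_push_of_transfer hf M E x' ?_ hx'
  intro s q hq
  letI : Module Γ((AlgSp.EtOver.bcObj hf E).obj.left.left, ⊤)
      (AlgSp.sectModEt M ((AlgSp.EtOver.bc hf).obj E)) := modΓ M ((AlgSp.EtOver.bc hf).obj E)
  have e1 := annSect_eq_annihilator (M := M) (E := (AlgSp.EtOver.bc hf).obj E) s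
  rw [e1] at hq
  obtain ⟨t, ht⟩ := exists_comap_mem_minimalPrimes_of_finite
    (AlgSp.EtOver.bcπ hf E).left.appTop.hom hfin s q hq
  refine ⟨t, ?_⟩
  have e2 := annSect_eq_annihilator (M := M) (E := (AlgSp.EtOver.bc hf).obj E) t
  rw [e2]
  exact ht

theorem isAffineMor_of_isFiniteMor (hfin : AlgSp.IsFiniteMor f) : AlgSp.IsAffineMor f := by
  intro Z hZ g
  obtain ⟨W, i, fst, h1, h2, -⟩ := hfin hZ g
  exact ⟨W, i, fst, h1, h2⟩

/-- for a finite morphism the projection of the base change of an affine chart is finite. -/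
theorem isFinite_bcπ (hf : AlgSp.Representable f) (hfin : AlgSp.IsFiniteMor f)
    (E : AlgSp.EtOver Y) [hE : IsAffine E.obj.left.left] :
    IsFinite (AlgSp.EtOver.bcπ hf E).left := by
  obtain ⟨W, i, fst, hpb, hW, hi⟩ := hfin (Z := E.obj.left) hE E.obj.hom
  have h2 := hf.isPullback E.obj.hom
  let e : (AlgSp.yon S).obj W ≅ (AlgSp.yon S).obj (hf.pullback E.obj.hom) :=
    hpb.isoIsPullback _ _ h2
  let e' : W ≅ hf.pullback E.obj.hom := (AlgSp.yon S).preimageIso e
  have h3 : e'.hom ≫ AlgSp.EtOver.bcπ hf E = i := by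
    apply (AlgSp.yon S).map_injective
    rw [Functor.map_comp, Functor.preimageIso_hom, Functor.map_preimage]
    exact hpb.isoIsPullback_hom_snd _ _ h2
  have h4 : AlgSp.EtOver.bcπ hf E = e'.inv ≫ i := by
    rw [← h3, Iso.inv_hom_id_assoc]
  rw [h4, Over.comp_left]
  have h5 : IsIso e'.inv.left := (inferInstance : IsIso ((Over.forget S).map e'.inv))
  infer_instance

end Groth.Agent.Lib.Seat48.PushWeakAss
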