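import Mathlib
import Groth.Agent.Lib.Seat48FibreNoeth
import Groth.Agent.Lib.Seat48PushWeakAss2

/-!
# Weakly associated points of direct images along affine morphisms, Noetherian case (seat 48)

Namespace `Groth.Agent.Lib.Seat48.PushWeakAss`.

* `exists_comap_mem_minimalPrimes_of_isNoetherianRing`: over a Noetherian ring a prime minimal over
  the annihilator of an element is the annihilator of an element, so its contraction along any
  ring map is (minimal over) the contracted annihilator.
* `isWeakAssOn_push_of_isNoetherianRing`.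
-/

set_option autoImplicit false
set_option linter.style.haveILetI false
set_option linter.unusedSectionVars false
set_option backward.isDefEq.respectTransparency false

universe u

open CategoryTheory CategoryTheory.Limits AlgebraicGeometry Opposite

namespace Groth.Agent.Lib.Seat48.PushWeakAss

open AlgSp FlatCA

section Algebra

variable {R B : Type u} [CommRing R] [CommRing B] (ψ : R →+* B)
  {N : Type*} [AddCommGroup N] [Module B N]

theorem exists_comap_mem_minimalPrimes_of_isNoetherianRing [IsNoetherianRing B] (s : N)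
    (q : Ideal B) (hq : q ∈ ((Submodule.span B {s}).annihilator).minimalPrimes) :
    ∃ t : N, q.comap ψ ∈ (((Submodule.span B {t}).annihilator).comap ψ).minimalPrimes := by
  haveI : Module.Finite B ↥(Submodule.span B {s}) :=
    Module.Finite.span_of_finite B (Set.finite_singleton s)
  have h1 : q ∈ associatedPrimes B ↥(Submodule.span B {s}) :=
    Module.associatedPrimes.minimalPrimes_annihilator_subset_associatedPrimes B _ hq
  rw [AssociatedPrimes.mem_iff, isAssociatedPrime_iff] at h1
  obtain ⟨hqp, ⟨x, hx⟩, hqx⟩ := h1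
  refine ⟨x, ?_⟩
  have e : (Submodule.span B {x}).annihilator = q := by
    rw [hqx]
    ext a
    rw [Submodule.mem_annihilator_span_singleton, Submodule.mem_colon_singleton, Submodule.mem_bot]
    constructor
    · intro h
      exact Subtype.ext h
    · intro h
      exact congrArg Subtype.val h
  rw [e]
  haveI : (q.comap ψ).IsPrime := Ideal.comap_isPrime _ _
  rw [Ideal.minimalPrimes_eq_subsingleton_self]
  exact Set.mem_singleton _

end Algebra

variable {S : Scheme.{u}} {X Y : AlgSp.Sp S} {f : X ⟶ Y}

/-- `f(WeakAss M) ⊆ WeakAss(f_* M)` chartwise, when the chart of `X` is Noetherian. -/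
theorem isWeakAssOn_push_of_isNoetherianRing (hf : AlgSp.Representable f) (M : AlgSp.ModEt X)
    (E : AlgSp.EtOver Y) [IsAffine E.obj.left.left]
    [IsAffine ((AlgSp.EtOver.bc hf).obj E).obj.left.left]
    [hN : IsNoetherianRing Γ(((AlgSp.EtOver.bc hf).obj E).obj.left.left, ⊤)]
    (x' : ((AlgSp.EtOver.bc hf).obj E).obj.left.left)
    (hx' : AlgSp.IsWeakAssOn M ((AlgSp.EtOver.bc hf).obj E) x') :
    AlgSp.IsWeakAssOn ((AlgSp.pushModEt hf).obj M) E ((AlgSp.EtOver.bcπ hf E).left x') := by
  refine isWeakAssOn_push_of_transfer hf M E x' ?_ hx'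
  intro s q hq
  letI : Module Γ((AlgSp.EtOver.bcObj hf E).obj.left.left, ⊤)
      (AlgSp.sectModEt M ((AlgSp.EtOver.bc hf).obj E)) := modΓ M ((AlgSp.EtOver.bc hf).obj E)
  haveI : IsNoetherianRing Γ((AlgSp.EtOver.bcObj hf E).obj.left.left, ⊤) := hN
  have e1 := annSect_eq_annihilator (M := M) (E := (AlgSp.EtOver.bc hf).obj E) s
  rw [e1] at hq
  obtain ⟨t, ht⟩ := exists_comap_mem_minimalPrimes_of_isNoetherianRing
    (AlgSp.EtOver.bcπ hf E).left.appTop.hom s q hq
  refine ⟨t, ?_⟩
  have e2 := annSect_eq_annihilator (M := M) (E := (AlgSp.EtOver.bc hf).obj E) t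
  rw [e2]
  exact ht

/-- the ring of functions of an affine chart of a locally Noetherian sheaf is Noetherian. -/
theorem isNoetherianRing_of_isLocNoethSp (hX : AlgSp.IsLocNoethSp X) (E : AlgSp.EtOver X)
    [hE : IsAffine E.obj.left.left] : IsNoetherianRing Γ(E.obj.left.left, ⊤) := by
  have h1 : IsLocallyNoetherian E.obj.left.left :=
    Groth.Agent.Lib.Seat48.FibreNoeth.isLocallyNoetherian_of_etale_chart hX E.obj.hom E.property
  exact h1.component_noetherian ⟨⊤, isAffineOpen_top _⟩

end Groth.Agent.Lib.Seat48.PushWeakAss
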