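import Mathlib
import Groth.Agent.Lib.Seat48BCEt3
import Groth.Agent.Lib.Seat48PushWeakAss3
import Groth.Agent.Lib.Seat48BCSite8

/-!
# Quasi-coherence and finiteness on the small etale site through sections on affines (seat 48)

Namespace `Groth.Agent.Lib.Seat48.BCEt`.

* `affCover`: affine objects cover.
* `hasBCOn_of_isQuasicoherent`, `isQuasicoherent_of_hasBCOn`: a module on the small etale site is
  quasi-coherent iff it has base change along morphisms of affine objects.
* `finite_sections`: sections over affines of a quasi-coherent module of finite type are finite.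
* `isFiniteType_of_finite_sections`, `isFinitePresentation_of_finite_sections` (locally Noetherian).
-/

set_option autoImplicit false
set_option linter.style.haveILetI false
set_option linter.unusedSectionVars false

universe u

open CategoryTheory CategoryTheory.Limits AlgebraicGeometry Opposite

namespace Groth.Agent.Lib.Seat48.BCEt

open AlgSp
open Groth.Agent.Lib.Seat48.BCAlg
open Groth.Agent.Lib.Seat48.BCSite
open Groth.Agent.Lib.Seat48.ModSect

attribute [local instance] Groth.Agent.Lib.Seat48.BCSite.commRingSect

variable {S : Scheme.{u}} {X : AlgSp.Sp S}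

variable (X) in
theorem affCover : (affineData X).AffCover := by
  intro E
  refine (AlgSp.etTop X).superset_covering ?_ (affineCover_mem E)
  rintro Y f ⟨Z, g, _, ⟨U₁⟩, rfl⟩
  exact ⟨affObj E U₁.1, g, affHom E U₁.1, U₁.2, rfl⟩

theorem hasBCOn_of_isQuasicoherent (M : AlgSp.ModEt X) [M.IsQuasicoherent] :
    HasBCOn (affineData X) M.val :=
  BCSite.hasBCOn_of_isQuasicoherent (affineData X) M

theorem isQuasicoherent_of_hasBCOn (M : AlgSp.ModEt X) (h : HasBCOn (affineData X) M.val) :
    M.IsQuasicoherent :=
  BCSite.isQuasicoherent_of_hasBCOn (affineData X) (affCover X) M h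

theorem isNoetherianRing_sect (hX : AlgSp.IsLocNoethSp X) (E : AlgSp.EtOver X)
    (hE : IsAffine E.obj.left.left) : IsNoetherianRing ((AlgSp.OEtRing X).obj.obj (op E)) := by
  haveI := PushWeakAss.isNoetherianRing_of_isLocNoethSp hX E
  exact isNoetherianRing_of_ringEquiv Γ(E.obj.left.left, ⊤)
    (ULift.ringEquiv : ULift.{u + 1} Γ(E.obj.left.left, ⊤) ≃+* Γ(E.obj.left.left, ⊤)).symm

/-- sections over affines of a quasi-coherent module of finite type form a finite module. -/
theorem finite_sections (M : AlgSp.ModEt X) [M.IsFiniteType] (h : HasBCOn (affineData X) M.val)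
    (E : AlgSp.EtOver X) (hE : IsAffine E.obj.left.left) :
    Module.Finite ((AlgSp.OEtRing X).obj.obj (op E)) (M.val.obj (op E)) :=
  BCSite.finite_sections_of_isFiniteType (affineData X) M h hE

theorem isFiniteType_of_finite_sections (M : AlgSp.ModEt X) (h : HasBCOn (affineData X) M.val)
    (hfin : ∀ E : AlgSp.EtOver X, IsAffine E.obj.left.left →
      Module.Finite ((AlgSp.OEtRing X).obj.obj (op E)) (M.val.obj (op E))) :
    M.IsFiniteType :=
  BCSite.isFiniteType_of_forall_sections (affineData X) (affCover X) M h hfin

theorem isFinitePresentation_of_finitePresentation_sections (M : AlgSp.ModEt X)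
    (h : HasBCOn (affineData X) M.val)
    (hfin : ∀ E : AlgSp.EtOver X, IsAffine E.obj.left.left →
      Module.FinitePresentation ((AlgSp.OEtRing X).obj.obj (op E)) (M.val.obj (op E))) :
    M.IsFinitePresentation :=
  BCSite.isFinitePresentation_of_forall_sections (affineData X) (affCover X) M h hfin

/-- on a locally Noetherian space, finiteness of sections over affines gives finite presentation. -/
theorem isFinitePresentation_of_finite_sections (hX : AlgSp.IsLocNoethSp X) (M : AlgSp.ModEt X)
    (h : HasBCOn (affineData X) M.val)
    (hfin : ∀ E : AlgSp.EtOver X, IsAffine E.obj.left.left →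
      Module.Finite ((AlgSp.OEtRing X).obj.obj (op E)) (M.val.obj (op E))) :
    M.IsFinitePresentation := by
  refine isFinitePresentation_of_finitePresentation_sections M h (fun E hE => ?_)
  haveI := isNoetherianRing_sect hX E hE
  haveI := hfin E hE
  exact Module.finitePresentation_of_finite _ _

end Groth.Agent.Lib.Seat48.BCEt
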