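import Mathlib

/-!
# Subsheaves of modules defined by a local condition (seat 48)

Namespace `Groth.Agent.Lib.Seat48.SubSheaf`.

Given a sheaf of modules `F` and a family `N` of submodules of its modules of sections, stable under
restriction (`PresheafOfModules.Submodule`) and local, `subSheaf F N hloc` is the corresponding sheaf
of modules, with its monomorphism `subSheafι` to `F`.
-/

set_option autoImplicit false

universe v₁ u₁

open CategoryTheory Limits Opposite

namespace Groth.Agent.Lib.Seat48.SubSheaf

variable {C : Type u₁} [Category.{v₁} C] {J : GrothendieckTopology C}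
  {R : Sheaf J RingCat.{max v₁ u₁}}

/-- the condition defining the family is local. -/
def IsLocal (F : SheafOfModules.{max v₁ u₁} R) (N : F.val.Submodule) : Prop :=
  ∀ (W : C) (s : F.val.obj (op W)) (S : Sieve W), S ∈ J W →
    (∀ ⦃V : C⦄ (f : V ⟶ W), S f → F.val.map f.op s ∈ N.obj (op V)) → s ∈ N.obj (op W)

/-- a section of the presheaf of modules of a family of submodules, as an element of the
submodule. -/
def toSub {F : SheafOfModules.{max v₁ u₁} R} (N : F.val.Submodule) (V : Cᵒᵖ)
    (y : (N.toPresheafOfModules.presheaf ⋙ forget AddCommGrpCat.{max v₁ u₁}).obj V) : N.obj V := y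

/-- an element of the submodule as a section. -/
def ofSub {F : SheafOfModules.{max v₁ u₁} R} (N : F.val.Submodule) (V : Cᵒᵖ)
    (y : N.obj V) : (N.toPresheafOfModules.presheaf ⋙ forget AddCommGrpCat.{max v₁ u₁}).obj V := y

theorem toSub_map {F : SheafOfModules.{max v₁ u₁} R} (N : F.val.Submodule) {V Z : Cᵒᵖ} (g : V ⟶ Z)
    (y : (N.toPresheafOfModules.presheaf ⋙ forget AddCommGrpCat.{max v₁ u₁}).obj V) :
    ((toSub N Z ((N.toPresheafOfModules.presheaf ⋙ forget AddCommGrpCat.{max v₁ u₁}).map g y) :
      N.obj Z) : F.val.obj Z) = F.val.map g ((toSub N V y : N.obj V) : F.val.obj V) := rfl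

theorem isSheaf_toPresheafOfModules (F : SheafOfModules.{max v₁ u₁} R) (N : F.val.Submodule)
    (hloc : IsLocal F N) : Presheaf.IsSheaf J N.toPresheafOfModules.presheaf := by
  rw [Presheaf.isSheaf_iff_isSheaf_forget J _ (forget AddCommGrpCat.{max v₁ u₁}),
    isSheaf_iff_isSheaf_of_type]
  have hF : Presieve.IsSheaf J (F.val.presheaf ⋙ forget AddCommGrpCat.{max v₁ u₁}) :=
    (isSheaf_iff_isSheaf_of_type _ _).1
      ((Presheaf.isSheaf_iff_isSheaf_forget J _ (forget AddCommGrpCat.{max v₁ u₁})).1 F.isSheaf)
  intro W S hS x hx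
  let x' : Presieve.FamilyOfElements (F.val.presheaf ⋙ forget AddCommGrpCat.{max v₁ u₁})
      S.arrows := fun V f hf => ((toSub N (op V) (x f hf) : N.obj (op V)) : F.val.obj (op V))
  have hx' : x'.Compatible := by
    intro V₁ V₂ Z g₁ g₂ f₁ f₂ h₁ h₂ e
    have := hx g₁ g₂ h₁ h₂ e
    have h2 := congrArg (fun y => ((toSub N (op Z) y : N.obj (op Z)) : F.val.obj (op Z))) this
    simp only [toSub_map] at h2
    exact h2
  obtain ⟨t, ht, huniq⟩ := hF S hS x' hx'
  have htN : (t : F.val.obj (op W)) ∈ N.obj (op W) := by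
    refine hloc W t S hS (fun V f hf => ?_)
    have h1 : F.val.map f.op t = x' f hf := ht f hf
    rw [h1]
    exact (toSub N (op V) (x f hf) : N.obj (op V)).2
  refine ⟨ofSub N (op W) ⟨t, htN⟩, ?_, ?_⟩
  · intro V f hf
    have h1 : F.val.map f.op t = x' f hf := ht f hf
    have h2 : toSub N (op V) ((N.toPresheafOfModules.presheaf ⋙
        forget AddCommGrpCat.{max v₁ u₁}).map f.op (ofSub N (op W) ⟨t, htN⟩)) =
        toSub N (op V) (x f hf) := by
      apply Subtype.ext
      rw [toSub_map]
      exact h1
    exact h2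
  · intro y hy
    have h3 : toSub N (op W) y = ⟨t, htN⟩ := by
      apply Subtype.ext
      apply huniq
      intro V f hf
      have := hy f hf
      have h2 := congrArg (fun z => ((toSub N (op V) z : N.obj (op V)) : F.val.obj (op V))) this
      simp only [toSub_map] at h2
      exact h2
    exact h3

/-- the sheaf of modules attached to a local family of submodules. -/
noncomputable def subSheaf (F : SheafOfModules.{max v₁ u₁} R) (N : F.val.Submodule)
    (hloc : IsLocal F N) : SheafOfModules.{max v₁ u₁} R :=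
  ⟨N.toPresheafOfModules, isSheaf_toPresheafOfModules F N hloc⟩

/-- its inclusion. -/
noncomputable def subSheafι (F : SheafOfModules.{max v₁ u₁} R) (N : F.val.Submodule)
    (hloc : IsLocal F N) : subSheaf F N hloc ⟶ F :=
  ⟨N.ι⟩

instance (F : SheafOfModules.{max v₁ u₁} R) (N : F.val.Submodule) (hloc : IsLocal F N) :
    Mono (subSheafι F N hloc) := by
  have : Mono ((SheafOfModules.forget R).map (subSheafι F N hloc)) :=
    inferInstanceAs (Mono N.ι)
  exact (SheafOfModules.forget R).mono_of_mono_map this

theorem subSheafι_app_apply (F : SheafOfModules.{max v₁ u₁} R) (N : F.val.Submodule)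
    (hloc : IsLocal F N) (W : Cᵒᵖ) (y : N.obj W) :
    ((subSheafι F N hloc).val.app W).hom y = (y : F.val.obj W) := rfl

theorem range_subSheafι_app (F : SheafOfModules.{max v₁ u₁} R) (N : F.val.Submodule)
    (hloc : IsLocal F N) (W : Cᵒᵖ) :
    Set.range ((subSheafι F N hloc).val.app W).hom = (N.obj W : Set (F.val.obj W)) := by
  ext s
  constructor
  · rintro ⟨y, rfl⟩
    exact (y : N.obj W).2
  · intro hs
    exact ⟨(⟨s, hs⟩ : N.obj W), rfl⟩

end Groth.Agent.Lib.Seat48.SubSheaf
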