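import Mathlib
import Groth.Agent.Lib.Seat48SubSheaf
import Groth.Agent.Lib.Seat48BCEt4

/-!
# The submodule of sections annihilated by an ideal sheaf (seat 48)

Namespace `Groth.Agent.Lib.Seat48.AnnSub`.

For an ideal sheaf `I` on the small etale site of `X` and a module `F`:
* `annSub I F`: the family of sections annihilated by `I`; `isLocal_annSub`;
* `annSheaf I F`, `annSheafι I F`: the corresponding submodule of `F`;
* `mem_annSub_iff_of_affine`: over an affine object `E`, the sections annihilated by `I(E)`
  (`I` quasi-coherent);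
* `hasBCOn_annSheaf`, `isQuasicoherent_annSheaf`: for `I` quasi-coherent of finite type and `F`
  quasi-coherent the submodule is quasi-coherent.
-/

set_option autoImplicit false
set_option linter.style.haveILetI false
set_option linter.unusedSectionVars false
set_option backward.isDefEq.respectTransparency false

universe u

open CategoryTheory CategoryTheory.Limits AlgebraicGeometry Opposite

namespace Groth.Agent.Lib.Seat48.AnnSub

open AlgSp
open Groth.Agent.Lib.Seat48.BCAlg
open Groth.Agent.Lib.Seat48.BCSite
open Groth.Agent.Lib.Seat48.BCEt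
open Groth.Agent.Lib.Seat48.SubSheaf
open Groth.Agent.Lib.Seat48.ModSect

attribute [local instance] Groth.Agent.Lib.Seat48.BCSite.commRingSect

variable {S : Scheme.{u}} {X : AlgSp.Sp S}

theorem ringMap_upΓ {E E' : AlgSp.EtOver X} (g : E' ⟶ E) (a : Γ(E.obj.left.left, ⊤)) :
    ((AlgSp.OEtRing X).obj.map g.op).hom (AlgSp.upΓ E a) =
      AlgSp.upΓ E' (g.hom.left.left.appTop.hom a) := rfl

/-- restriction maps the annihilator of a section into the annihilator of its restriction. -/
theorem map_annSect_le {F : AlgSp.ModEt X} {E E' : AlgSp.EtOver X} (g : E' ⟶ E)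
    (s : AlgSp.sectModEt F E) :
    (AlgSp.annSect s).map g.hom.left.left.appTop.hom ≤
      AlgSp.annSect (F.val.map g.op s : AlgSp.sectModEt F E') := by
  rw [Ideal.map_le_iff_le_comap]
  intro a ha
  rw [Ideal.mem_comap, AlgSp.mem_annSect_iff, ← ringMap_upΓ]
  rw [AlgSp.mem_annSect_iff] at ha
  have := PresheafOfModules.map_smul F.val g.op (AlgSp.upΓ E a) s
  rw [ha, map_zero] at this
  exact this.symm

/-- the family of sections annihilated by the ideal sheaf. -/
noncomputable def annSub (I : AlgSp.IdealEt X) (F : AlgSp.ModEt X) : F.val.Submodule where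
  obj W :=
    { carrier := {s | ∀ (V : AlgSp.EtOver X) (hV : IsAffine V.obj.left.left) (g : V ⟶ W.unop),
        I.ideal V hV ≤ AlgSp.annSect (F.val.map g.op s : AlgSp.sectModEt F V)}
      add_mem' := by
        intro s t hs ht V hV g a ha
        rw [AlgSp.mem_annSect_iff, map_add, smul_add]
        have h1 := hs V hV g ha
        have h2 := ht V hV g ha
        rw [AlgSp.mem_annSect_iff] at h1 h2
        rw [h1, h2, add_zero]
      zero_mem' := by
        intro V hV g a _
        rw [AlgSp.mem_annSect_iff, map_zero, smul_zero]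
      smul_mem' := by
        intro r s hs V hV g a ha
        have h1 := hs V hV g ha
        rw [AlgSp.mem_annSect_iff] at h1 ⊢
        rw [PresheafOfModules.map_smul, ← mul_smul, mul_comm, mul_smul, h1, smul_zero] }
  map := by
    intro W W' f s hs V hV g
    have h1 := hs V hV (g ≫ f.unop)
    have e : (F.val.map (g ≫ f.unop).op s : AlgSp.sectModEt F V) =
        F.val.map g.op (F.val.map f s) := by
      rw [op_comp, PresheafOfModules.map_comp_apply]
      rfl
    rw [e] at h1
    exact h1

theorem mem_annSub_iff (I : AlgSp.IdealEt X) (F : AlgSp.ModEt X) (W : AlgSp.EtOver X)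
    (s : F.val.obj (op W)) :
    s ∈ (annSub I F).obj (op W) ↔
      ∀ (V : AlgSp.EtOver X) (hV : IsAffine V.obj.left.left) (g : V ⟶ W),
        I.ideal V hV ≤ AlgSp.annSect (F.val.map g.op s : AlgSp.sectModEt F V) := Iff.rfl

theorem isLocal_annSub (I : AlgSp.IdealEt X) (F : AlgSp.ModEt X) : IsLocal F (annSub I F) := by
  intro W s T hT h
  rw [mem_annSub_iff]
  intro V hV g a ha
  rw [AlgSp.mem_annSect_iff]
  have hsep := Presheaf.IsSheaf.isSeparated F.isSheaf
  refine hsep V _ ((AlgSp.etTop X).pullback_stable g hT) _ _ ?_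
  intro V' k hk
  -- sections over `V'` are determined on affine opens
  apply sect_ext_of_affine F V'
  intro U₁
  have hU₁ : IsAffine (affObj V' U₁.1).obj.left.left := U₁.2
  have h1 := h (k ≫ g) hk
  rw [mem_annSub_iff] at h1
  have h2 := h1 (affObj V' U₁.1) hU₁ (affHom V' U₁.1)
  have ha' : (affHom V' U₁.1 ≫ k).hom.left.left.appTop.hom a ∈ I.ideal (affObj V' U₁.1) hU₁ :=
    I.map_le (affHom V' U₁.1 ≫ k) hV hU₁ (Ideal.mem_map_of_mem _ ha)
  have h3 := h2 ha'
  rw [AlgSp.mem_annSect_iff] at h3
  have e1 : F.val.map (affHom V' U₁.1).op (F.val.presheaf.map k.op (AlgSp.upΓ V a • F.val.map g.op s)) =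
      AlgSp.upΓ (affObj V' U₁.1) ((affHom V' U₁.1 ≫ k).hom.left.left.appTop.hom a) •
        F.val.map (affHom V' U₁.1).op (F.val.map (k ≫ g).op s) := by
    have e2 : F.val.presheaf.map k.op (AlgSp.upΓ V a • F.val.map g.op s) =
        F.val.map k.op (AlgSp.upΓ V a • F.val.map g.op s) := rfl
    have e4 : F.val.map k.op (F.val.map g.op s) = F.val.map (k ≫ g).op s := by
      rw [op_comp, PresheafOfModules.map_comp_apply]
    rw [e2, PresheafOfModules.map_smul, PresheafOfModules.map_smul, ← ringMap_upΓ, e4]
    congr 1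
  rw [e1, h3]
  have e3 : F.val.presheaf.map k.op (0 : F.val.obj (op V)) = 0 := map_zero _
  rw [e3, map_zero]

/-- the submodule of sections annihilated by `I`. -/
noncomputable def annSheaf (I : AlgSp.IdealEt X) (F : AlgSp.ModEt X) : AlgSp.ModEt X :=
  subSheaf F (annSub I F) (isLocal_annSub I F)

/-- its inclusion. -/
noncomputable def annSheafι (I : AlgSp.IdealEt X) (F : AlgSp.ModEt X) : annSheaf I F ⟶ F :=
  subSheafι F (annSub I F) (isLocal_annSub I F)

instance (I : AlgSp.IdealEt X) (F : AlgSp.ModEt X) : Mono (annSheafι I F) := by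
  unfold annSheafι
  infer_instance

/-- over an affine object, the sections annihilated by `I` are those annihilated by the ideal of
the object (`I` quasi-coherent). -/
theorem mem_annSub_iff_of_affine {I : AlgSp.IdealEt X} (hI : I.IsQCoh) (F : AlgSp.ModEt X)
    (E : AlgSp.EtOver X) (hE : IsAffine E.obj.left.left) (s : F.val.obj (op E)) :
    s ∈ (annSub I F).obj (op E) ↔ I.ideal E hE ≤ AlgSp.annSect (s : AlgSp.sectModEt F E) := by
  rw [mem_annSub_iff]
  constructor
  · intro h
    have h1 := h E hE (𝟙 E)
    have e : (F.val.map (𝟙 E).op s : AlgSp.sectModEt F E) = s := by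
      rw [op_id, PresheafOfModules.map_id]
      rfl
    rw [e] at h1
    exact h1
  · intro h V hV g
    refine (hI g hE hV).trans ((Ideal.map_mono h).trans (map_annSect_le g s))

end Groth.Agent.Lib.Seat48.AnnSub
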