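import Mathlib
import Groth.Agent.Lib.Seat48BCAlg6

/-!
# Flat base change of the elements annihilated by finitely many scalars (seat 48)

Namespace `Groth.Agent.Lib.Seat48.BCAlg`.

* `piSemi`, `IsBC.piSemi`: base change commutes with finite powers;
* `IsBC.of_ann`: for a flat ring map `φ : A → B`, the submodule of the base change annihilated by
  the images of finitely many scalars is the base change of the submodule annihilated by them.
-/

set_option autoImplicit false
set_option linter.style.haveILetI false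
set_option linter.unusedSectionVars false

namespace Groth.Agent.Lib.Seat48.BCAlg

open TensorProduct

universe w

variable {A B : Type w} [CommRing A] [CommRing B] {φ : A →+* B}
  {K F K' F' : Type w} [AddCommGroup K] [AddCommGroup F]
  [AddCommGroup K'] [AddCommGroup F']
  [Module A K] [Module A F] [Module B K'] [Module B F']

/-- the componentwise map on powers. -/
def piSemi (ρ : F →ₛₗ[φ] F') (ι : Type) : (ι → F) →ₛₗ[φ] (ι → F') where
  toFun f i := ρ (f i)
  map_add' f g := by
    ext i
    exact ρ.map_add _ _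
  map_smul' a f := by
    ext i
    exact ρ.map_smulₛₗ _ _

theorem piSemi_apply (ρ : F →ₛₗ[φ] F') (ι : Type) (f : ι → F) (i : ι) :
    piSemi ρ ι f i = ρ (f i) := rfl

theorem IsBC.piSemi {ρ : F →ₛₗ[φ] F'} (h : IsBC φ ρ) (ι : Type) [Finite ι] :
    IsBC φ (piSemi ρ ι) := by
  letI := φ.toAlgebra
  letI := Module.compHom F' φ
  haveI : IsScalarTower A B F' := IsScalarTower.of_algebraMap_smul (fun _ _ => rfl)
  have h' : IsBaseChange B (semiToLin φ ρ) := h
  have h2 := IsBaseChange.finitePow ι h'
  exact h2

/-- flat base change of the elements annihilated by finitely many scalars. -/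
theorem IsBC.of_ann (hφ : φ.Flat) {n : ℕ} (a : Fin n → A)
    (ρK : K →ₛₗ[φ] K') (ρF : F →ₛₗ[φ] F')
    (κ : K →ₗ[A] F) (κ' : K' →ₗ[B] F')
    (hκ : ∀ k, ρF (κ k) = κ' (ρK k))
    (hinj : Function.Injective κ) (hrange : ∀ x, x ∈ Set.range κ ↔ ∀ i, a i • x = 0)
    (hinj' : Function.Injective κ') (hrange' : ∀ x, x ∈ Set.range κ' ↔ ∀ i, φ (a i) • x = 0)
    (hF : IsBC φ ρF) : IsBC φ ρK := by
  let π : F →ₗ[A] (Fin n → F) := LinearMap.pi fun i => a i • (LinearMap.id : F →ₗ[A] F)
  let π' : F' →ₗ[B] (Fin n → F') := LinearMap.pi fun i => φ (a i) • (LinearMap.id : F' →ₗ[B] F')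
  refine IsBC.of_ker hφ ρK ρF (BCAlg.piSemi ρF (Fin n)) κ π κ' π' hκ ?_ hinj ?_ hinj' ?_ hF
    (hF.piSemi (Fin n))
  · intro x
    ext i
    change ρF (a i • x) = φ (a i) • ρF x
    exact ρF.map_smulₛₗ _ _
  · intro x
    rw [hrange x]
    constructor
    · intro hx i
      exact congrFun hx i
    · intro hx
      ext i
      exact hx i
  · intro x
    rw [hrange' x]
    constructor
    · intro hx i
      exact congrFun hx i
    · intro hx
      ext i
      exact hx i

end Groth.Agent.Lib.Seat48.BCAlg
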