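import Mathlib
import Groth.Agent.Lib.Seat48AnnSub
import Groth.Agent.Lib.Seat48BCAlg9

/-!
# The submodule annihilated by a finite type quasi-coherent ideal is quasi-coherent (seat 48)

Namespace `Groth.Agent.Lib.Seat48.AnnSub`.

* `mem_annSub_iff_of_span`: over an affine object where `I` is generated by finitely many
  functions, the sections annihilated by `I` are those annihilated by the generators;
* `hasBCOn_annSheaf`, `isQuasicoherent_annSheaf`: for `I` quasi-coherent of finite type and `F`
  quasi-coherent the submodule of sections annihilated by `I` is quasi-coherent;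
* `range_annSheafι_app`: its sections over an affine object.
-/

set_option autoImplicit false
set_option linter.style.haveILetI false
set_option linter.unusedSectionVars false
set_option backward.isDefEq.respectTransparency false

universe u

open CategoryTheory CategoryTheory.Limits AlgebraicGeometry Opposite

namespace Groth.Agent.Lib.Seat48.AnnSub

open AlgSp
open Groth.Agent.Lib.Seat48.BCAlg
open Groth.Agent.Lib.Seat48.BCSite
open Groth.Agent.Lib.Seat48.BCEt
open Groth.Agent.Lib.Seat48.SubSheaf
open Groth.Agent.Lib.Seat48.ModSect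

attribute [local instance] Groth.Agent.Lib.Seat48.BCSite.commRingSect

variable {S : Scheme.{u}} {X : AlgSp.Sp S}

theorem mem_annSub_iff_of_span {I : AlgSp.IdealEt X} (hI : I.IsQCoh) (F : AlgSp.ModEt X)
    (E : AlgSp.EtOver X) (hE : IsAffine E.obj.left.left) {n : ℕ}
    (a : Fin n → Γ(E.obj.left.left, ⊤)) (ha : Ideal.span (Set.range a) = I.ideal E hE)
    (s : F.val.obj (op E)) :
    s ∈ (annSub I F).obj (op E) ↔
      ∀ i, AlgSp.upΓ E (a i) • (s : AlgSp.sectModEt F E) = 0 := by
  rw [mem_annSub_iff_of_affine hI F E hE s, ← ha, Ideal.span_le]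
  constructor
  · intro h i
    exact (AlgSp.mem_annSect_iff _ _).1 (h ⟨i, rfl⟩)
  · rintro h _ ⟨i, rfl⟩
    exact (AlgSp.mem_annSect_iff _ _).2 (h i)

theorem span_range_map {I : AlgSp.IdealEt X} (hI : I.IsQCoh) {E E' : AlgSp.EtOver X} (g : E' ⟶ E)
    (hE : IsAffine E.obj.left.left) (hE' : IsAffine E'.obj.left.left) {n : ℕ}
    (a : Fin n → Γ(E.obj.left.left, ⊤)) (ha : Ideal.span (Set.range a) = I.ideal E hE) :
    Ideal.span (Set.range fun i => g.hom.left.left.appTop.hom (a i)) = I.ideal E' hE' := by
  have h1 : I.ideal E' hE' = (I.ideal E hE).map g.hom.left.left.appTop.hom :=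
    le_antisymm (hI g hE hE') (I.map_le g hE hE')
  rw [h1, ← ha, Ideal.map_span, ← Set.range_comp]
  rfl

theorem mem_range_annSheafι_iff (I : AlgSp.IdealEt X) (F : AlgSp.ModEt X) (W : AlgSp.EtOver X)
    (x : F.val.obj (op W)) :
    x ∈ Set.range ((annSheafι I F).val.app (op W)).hom ↔ x ∈ (annSub I F).obj (op W) := by
  constructor
  · rintro ⟨y, rfl⟩
    exact (y : (annSub I F).obj (op W)).2
  · intro hx
    exact ⟨(⟨x, hx⟩ : (annSub I F).obj (op W)), rfl⟩

theorem annSheafι_app_injective (I : AlgSp.IdealEt X) (F : AlgSp.ModEt X) (W : AlgSp.EtOver X) :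
    Function.Injective ((annSheafι I F).val.app (op W)).hom := by
  intro x y hxy
  exact Subtype.ext (a1 := (x : (annSub I F).obj (op W))) (a2 := (y : (annSub I F).obj (op W))) hxy

/-- the submodule of sections annihilated by a quasi-coherent ideal of finite type has base change
along morphisms of affine objects. -/
theorem hasBCOn_annSheaf {I : AlgSp.IdealEt X} (hI : I.IsQCoh)
    (hft : ∀ (E : AlgSp.EtOver X) (hE : IsAffine E.obj.left.left), (I.ideal E hE).FG)
    (F : AlgSp.ModEt X) [F.IsQuasicoherent] : HasBCOn (affineData X) (annSheaf I F).val := by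
  intro E E' g hE hE'
  obtain ⟨n, a, ha⟩ := Submodule.fg_iff_exists_fin_generating_family.1 (hft E hE)
  have ha' := span_range_map hI g hE hE' a ha
  have hF := hasBCOn_of_isQuasicoherent F g hE hE'
  refine IsBC.of_ann ((affineData X).flat g hE hE') (fun i => AlgSp.upΓ E (a i))
    ((annSheaf I F).val.restrictₛₗ g.op) (F.val.restrictₛₗ g.op)
    ((annSheafι I F).val.app (op E)).hom ((annSheafι I F).val.app (op E')).hom
    (fun k => (PresheafOfModules.naturality_apply (annSheafι I F).val g.op k).symm)
    (annSheafι_app_injective I F E) ?_ (annSheafι_app_injective I F E') ?_ hF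
  · intro x
    rw [mem_range_annSheafι_iff]
    exact mem_annSub_iff_of_span hI F E hE a ha x
  · intro x
    rw [mem_range_annSheafι_iff]
    exact mem_annSub_iff_of_span hI F E' hE' _ ha' x

theorem isQuasicoherent_annSheaf {I : AlgSp.IdealEt X} (hI : I.IsQCoh)
    (hft : ∀ (E : AlgSp.EtOver X) (hE : IsAffine E.obj.left.left), (I.ideal E hE).FG)
    (F : AlgSp.ModEt X) [F.IsQuasicoherent] : (annSheaf I F).IsQuasicoherent :=
  isQuasicoherent_of_hasBCOn _ (hasBCOn_annSheaf hI hft F)

/-- the sections of the submodule over an affine object. -/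
theorem range_annSheafι_app {I : AlgSp.IdealEt X} (hI : I.IsQCoh) (F : AlgSp.ModEt X)
    (E : AlgSp.EtOver X) (hE : IsAffine E.obj.left.left) :
    Set.range ((annSheafι I F).val.app (op E)).hom =
      {s : AlgSp.sectModEt F E | ∀ a ∈ I.ideal E hE, (AlgSp.upΓ E a) • s = 0} := by
  ext s
  rw [mem_range_annSheafι_iff, mem_annSub_iff_of_affine hI F E hE s]
  rfl

end Groth.Agent.Lib.Seat48.AnnSub
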