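import Mathlib
import Groth.Agent.Lib.Seat48BCAlg6

/-!
# Base change of extensions (seat 48)

Namespace `Groth.Agent.Lib.Seat48.BCAlg`.

`IsBC.of_shortExact`: in a map from a short exact sequence `0 → K → F → N → 0` of `A`-modules to a
left exact sequence `0 → K' → F' → N'` of `B`-modules, if the outer maps are base changes, then so
is the middle one (no flatness needed).
-/

set_option autoImplicit false
set_option linter.style.haveILetI false
set_option linter.unusedSectionVars false

namespace Groth.Agent.Lib.Seat48.BCAlg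

open TensorProduct

universe w

variable {A B : Type w} [CommRing A] [CommRing B] {φ : A →+* B}
  {K F N K' F' N' : Type w} [AddCommGroup K] [AddCommGroup F] [AddCommGroup N]
  [AddCommGroup K'] [AddCommGroup F'] [AddCommGroup N']
  [Module A K] [Module A F] [Module A N] [Module B K'] [Module B F'] [Module B N']

theorem IsBC.of_shortExact
    (ρK : K →ₛₗ[φ] K') (ρF : F →ₛₗ[φ] F') (ρN : N →ₛₗ[φ] N')
    (κ : K →ₗ[A] F) (π : F →ₗ[A] N) (κ' : K' →ₗ[B] F') (π' : F' →ₗ[B] N')
    (hκ : ∀ k, ρF (κ k) = κ' (ρK k)) (hπ : ∀ x, ρN (π x) = π' (ρF x))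
    (hex : Function.Exact κ π) (hsurj : Function.Surjective π)
    (hinj' : Function.Injective κ') (hex' : Function.Exact κ' π')
    (hK : IsBC φ ρK) (hN : IsBC φ ρN) : IsBC φ ρF := by
  letI : Algebra A B := φ.toAlgebra
  letI : Module A K' := Module.compHom K' φ
  haveI : IsScalarTower A B K' := IsScalarTower.of_algebraMap_smul (fun _ _ => rfl)
  letI : Module A F' := Module.compHom F' φ
  haveI : IsScalarTower A B F' := IsScalarTower.of_algebraMap_smul (fun _ _ => rfl)
  letI : Module A N' := Module.compHom N' φ
  haveI : IsScalarTower A B N' := IsScalarTower.of_algebraMap_smul (fun _ _ => rfl)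
  have hK' : IsBaseChange B (semiToLin φ ρK) := hK
  have hN' : IsBaseChange B (semiToLin φ ρN) := hN
  change IsBaseChange B (semiToLin φ ρF)
  set β : B ⊗[A] F →ₗ[B] F' := (semiToLin φ ρF).liftBaseChange B with hβ
  have h1 : ∀ z : B ⊗[A] K, β (LinearMap.lTensor B κ z) = κ' (hK'.equiv z) := by
    intro z
    induction z using TensorProduct.induction_on with
    | zero => simp
    | tmul b k =>
      rw [LinearMap.lTensor_tmul, IsBaseChange.equiv_tmul, hβ, LinearMap.liftBaseChange_tmul,
        map_smul]
      congr 1
      exact hκ k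
    | add z₁ z₂ h₁ h₂ => simp only [map_add, h₁, h₂]
  have h2 : ∀ y : B ⊗[A] F, π' (β y) = hN'.equiv (LinearMap.lTensor B π y) := by
    intro y
    induction y using TensorProduct.induction_on with
    | zero => simp
    | tmul b x =>
      rw [LinearMap.lTensor_tmul, IsBaseChange.equiv_tmul, hβ, LinearMap.liftBaseChange_tmul,
        map_smul]
      congr 1
      exact (hπ x).symm
    | add z₁ z₂ h₁ h₂ => simp only [map_add, h₁, h₂]
  have hexT : Function.Exact (LinearMap.lTensor B κ) (LinearMap.lTensor B π) :=
    lTensor_exact B hex hsurj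
  have hsurjT : Function.Surjective (LinearMap.lTensor B π) :=
    LinearMap.lTensor_surjective B hsurj
  have hbij : Function.Bijective β := by
    constructor
    · rw [← LinearMap.ker_eq_bot, LinearMap.ker_eq_bot']
      intro z hz
      have h3 : LinearMap.lTensor B π z = 0 := by
        apply hN'.equiv.injective
        rw [← h2, hz, map_zero, map_zero]
      obtain ⟨w, rfl⟩ := (hexT z).1 h3
      have h4 : hK'.equiv w = 0 := by
        apply hinj'
        rw [← h1, hz, map_zero]
      have h5 : w = 0 := by
        apply hK'.equiv.injective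
        rw [h4, map_zero]
      rw [h5, map_zero]
    · intro y
      obtain ⟨z, hz⟩ := hsurjT (hN'.equiv.symm (π' y))
      have h3 : π' (y - β z) = 0 := by
        rw [map_sub, h2, hz, LinearEquiv.apply_symm_apply, sub_self]
      obtain ⟨k', hk'⟩ := (hex' (y - β z)).1 h3
      refine ⟨z + LinearMap.lTensor B κ (hK'.equiv.symm k'), ?_⟩
      rw [map_add, h1, LinearEquiv.apply_symm_apply, hk']
      abel
  refine IsBaseChange.of_equiv (LinearEquiv.ofBijective β hbij) (fun k => ?_)
  simp [hβ]

section Family

variable {ι : Type} [Fintype ι] [DecidableEq ι] {A₀ : Type w} [CommRing A₀]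
  {Bk : ι → Type w} [∀ k, CommRing (Bk k)]

/-- an ideal whose extensions along a jointly faithfully flat family are all the unit ideal is the
unit ideal. -/
theorem eq_top_of_forall_map_eq_top (ψ : ∀ k, A₀ →+* Bk k) (hff : JointlyFF ψ) (I : Ideal A₀)
    (h : ∀ k, Ideal.map (ψ k) I = ⊤) : I = ⊤ := by
  letI : ∀ k, Algebra A₀ (Bk k) := fun k => (ψ k).toAlgebra
  haveI : Module.FaithfullyFlat A₀ (∀ k, Bk k) := hff
  have h1 : Ideal.map (algebraMap A₀ (∀ k, Bk k)) I = ⊤ := by
    rw [Ideal.eq_top_iff_one]
    have h2 : (1 : ∀ k, Bk k) = ∑ k, Pi.single k (1 : Bk k) := by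
      ext k
      simp [Finset.sum_apply, Pi.single_apply]
    rw [h2]
    refine Ideal.sum_mem _ (fun k _ => ?_)
    have h3 : (1 : Bk k) ∈ Ideal.map (ψ k) I := by
      rw [h k]
      trivial
    -- every element of `I B_k` gives an element of `I ∏ B_k` on the `k`-th factor
    have h4 : ∀ y ∈ Ideal.map (ψ k) I, Pi.single k y ∈ Ideal.map (algebraMap A₀ (∀ k, Bk k)) I := by
      intro y hy
      refine Submodule.span_induction ?_ ?_ ?_ ?_ hy
      · rintro _ ⟨a, ha, rfl⟩
        have h5 : Pi.single k (ψ k a) = Pi.single k (1 : Bk k) * algebraMap A₀ (∀ k, Bk k) a := by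
          ext l
          by_cases hl : l = k
          · subst hl
            simp
            rfl
          · simp [Pi.single_apply, hl]
        rw [h5]
        exact Ideal.mul_mem_left _ _ (Ideal.mem_map_of_mem _ ha)
      · rw [Pi.single_zero]
        exact Ideal.zero_mem _
      · intro x y _ _ hx hy
        rw [Pi.single_add]
        exact Ideal.add_mem _ hx hy
      · intro b x _ hx
        have h6 : Pi.single k (b • x) = Pi.single k b * Pi.single k x := by
          rw [smul_eq_mul, Pi.single_mul]
        rw [h6]
        exact Ideal.mul_mem_left _ _ hx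
    exact h4 1 h3
  have h7 := Ideal.comap_map_eq_self_of_faithfullyFlat (B := ∀ k, Bk k) I
  rw [h1, Ideal.comap_top] at h7
  exact h7.symm

end Family

end Groth.Agent.Lib.Seat48.BCAlg
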