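import Mathlib
import Groth.Agent.Lib.Seat48BCAlg9

/-!
# Flat base change of the elements annihilated by a power of a finitely generated ideal (seat 48)

Namespace `Groth.Agent.Lib.Seat48.BCAlg`.

* `IsBC.of_sub`: a sub-map of a base change along a flat ring map which spans its target is a base
  change;
* `IsBC.mem_span_of_ann`: elements of the base change annihilated by the images of finitely many
  scalars are combinations of images of elements annihilated by these scalars;
* `IsBC.of_powTorsion`: flat base change of the submodule of elements annihilated by a power of a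
  finitely generated ideal.
-/

set_option autoImplicit false
set_option linter.style.haveILetI false
set_option linter.unusedSectionVars false

namespace Groth.Agent.Lib.Seat48.BCAlg

open TensorProduct

universe w

variable {A B : Type w} [CommRing A] [CommRing B] {φ : A →+* B}
  {K F K' F' : Type w} [AddCommGroup K] [AddCommGroup F]
  [AddCommGroup K'] [AddCommGroup F']
  [Module A K] [Module A F] [Module B K'] [Module B F']

theorem IsBC.of_sub (hφ : φ.Flat)
    (ρK : K →ₛₗ[φ] K') (ρF : F →ₛₗ[φ] F') (κ : K →ₗ[A] F) (κ' : K' →ₗ[B] F')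
    (hκ : ∀ k, ρF (κ k) = κ' (ρK k))
    (hinj : Function.Injective κ) (hinj' : Function.Injective κ')
    (hspan : ∀ k' : K', κ' k' ∈ Submodule.span B (Set.range (fun k => ρF (κ k))))
    (hF : IsBC φ ρF) : IsBC φ ρK := by
  letI : Algebra A B := φ.toAlgebra
  haveI : Module.Flat A B := hφ
  letI : Module A K' := Module.compHom K' φ
  haveI : IsScalarTower A B K' := IsScalarTower.of_algebraMap_smul (fun _ _ => rfl)
  letI : Module A F' := Module.compHom F' φ
  haveI : IsScalarTower A B F' := IsScalarTower.of_algebraMap_smul (fun _ _ => rfl)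
  have hF' : IsBaseChange B (semiToLin φ ρF) := hF
  change IsBaseChange B (semiToLin φ ρK)
  set β : B ⊗[A] K →ₗ[B] K' := (semiToLin φ ρK).liftBaseChange B with hβ
  have h1 : ∀ z : B ⊗[A] K, κ' (β z) = hF'.equiv (LinearMap.lTensor B κ z) := by
    intro z
    induction z using TensorProduct.induction_on with
    | zero => simp
    | tmul b k =>
      rw [LinearMap.lTensor_tmul, IsBaseChange.equiv_tmul, hβ, LinearMap.liftBaseChange_tmul,
        map_smul]
      congr 1
      exact (hκ k).symm
    | add z₁ z₂ h₁ h₂ => simp only [map_add, h₁, h₂]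
  have hinjT : Function.Injective (LinearMap.lTensor B κ) :=
    Module.Flat.lTensor_preserves_injective_linearMap κ hinj
  have hbij : Function.Bijective β := by
    constructor
    · rw [← LinearMap.ker_eq_bot, LinearMap.ker_eq_bot']
      intro z hz
      apply hinjT
      apply hF'.equiv.injective
      rw [← h1, hz, map_zero, map_zero, map_zero]
    · intro k'
      have h2 : Set.range (fun k => ρF (κ k)) = κ' '' Set.range ρK := by
        ext y
        constructor
        · rintro ⟨k, rfl⟩
          exact ⟨ρK k, ⟨k, rfl⟩, (hκ k).symm⟩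
        · rintro ⟨_, ⟨k, rfl⟩, rfl⟩
          exact ⟨k, hκ k⟩
      have h3 := hspan k'
      rw [h2, ← Submodule.map_span] at h3
      obtain ⟨y, hy, hyk⟩ := h3
      have h4 : y = k' := hinj' hyk
      rw [h4] at hy
      have h5 : Submodule.span B (Set.range ρK) ≤ LinearMap.range β := by
        rw [Submodule.span_le]
        rintro _ ⟨k, rfl⟩
        refine ⟨(1 : B) ⊗ₜ[A] k, ?_⟩
        rw [hβ, LinearMap.liftBaseChange_tmul, one_smul]
        rfl
      exact h5 hy
  refine IsBaseChange.of_equiv (LinearEquiv.ofBijective β hbij) (fun k => ?_)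
  simp [hβ]

theorem IsBC.mem_span_of_ann (hφ : φ.Flat) {ρF : F →ₛₗ[φ] F'} (hF : IsBC φ ρF) {r : ℕ}
    (c : Fin r → A) (x' : F') (hx' : ∀ j, φ (c j) • x' = 0) :
    x' ∈ Submodule.span B (ρF '' {y | ∀ j, c j • y = 0}) := by
  let K₀ : Submodule A F :=
    { carrier := {y | ∀ j, c j • y = 0}
      add_mem' := fun {x y} hx hy j => by rw [smul_add, hx j, hy j, add_zero]
      zero_mem' := fun j => smul_zero _
      smul_mem' := fun a x hx j => by rw [smul_comm, hx j, smul_zero] }
  let K₀' : Submodule B F' :=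
    { carrier := {y | ∀ j, φ (c j) • y = 0}
      add_mem' := fun {x y} hx hy j => by rw [smul_add, hx j, hy j, add_zero]
      zero_mem' := fun j => smul_zero _
      smul_mem' := fun a x hx j => by rw [smul_comm, hx j, smul_zero] }
  let ρK : K₀ →ₛₗ[φ] K₀' :=
    { toFun := fun y => ⟨ρF y.1, fun j => by
        rw [← ρF.map_smulₛₗ, y.2 j, map_zero]⟩
      map_add' := fun x y => Subtype.ext (ρF.map_add _ _)
      map_smul' := fun a x => Subtype.ext (ρF.map_smulₛₗ _ _) }
  have hK : IsBC φ ρK := IsBC.of_ann hφ c ρK ρF K₀.subtype K₀'.subtype (fun k => rfl)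
    (Submodule.injective_subtype _)
    (fun x => ⟨fun ⟨y, hy⟩ => hy ▸ y.2, fun hx => ⟨⟨x, hx⟩, rfl⟩⟩)
    (Submodule.injective_subtype _)
    (fun x => ⟨fun ⟨y, hy⟩ => hy ▸ y.2, fun hx => ⟨⟨x, hx⟩, rfl⟩⟩) hF
  have hspan := hK.span_range
  have h1 : (⟨x', hx'⟩ : K₀') ∈ Submodule.span B (Set.range ρK) := by
    rw [hspan]
    trivial
  have h2 := Submodule.mem_map_of_mem (f := K₀'.subtype) h1
  rw [Submodule.map_span] at h2
  refine Submodule.span_mono ?_ h2
  rintro _ ⟨_, ⟨y, rfl⟩, rfl⟩
  exact ⟨y.1, y.2, rfl⟩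

/-- flat base change of the elements annihilated by a power of a finitely generated ideal. -/
theorem IsBC.of_powTorsion (hφ : φ.Flat) (I : Ideal A) (hI : I.FG)
    (ρK : K →ₛₗ[φ] K') (ρF : F →ₛₗ[φ] F') (κ : K →ₗ[A] F) (κ' : K' →ₗ[B] F')
    (hκ : ∀ k, ρF (κ k) = κ' (ρK k))
    (hinj : Function.Injective κ) (hinj' : Function.Injective κ')
    (hrange : ∀ x, x ∈ Set.range κ ↔ ∃ n : ℕ, ∀ a ∈ I ^ n, a • x = 0)
    (hrange' : ∀ x, x ∈ Set.range κ' ↔ ∃ n : ℕ, ∀ b ∈ (I.map φ) ^ n, b • x = 0)
    (hF : IsBC φ ρF) : IsBC φ ρK := by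
  refine IsBC.of_sub hφ ρK ρF κ κ' hκ hinj hinj' (fun k' => ?_) hF
  obtain ⟨n, hn⟩ := (hrange' (κ' k')).1 ⟨k', rfl⟩
  obtain ⟨r, c, hc⟩ := Submodule.fg_iff_exists_fin_generating_family.1 (hI.pow (n := n))
  have h1 : ∀ j, φ (c j) • κ' k' = 0 := by
    intro j
    apply hn
    rw [← Ideal.map_pow]
    apply Ideal.mem_map_of_mem
    rw [← hc]
    exact Submodule.subset_span ⟨j, rfl⟩
  have h2 := hF.mem_span_of_ann hφ c (κ' k') h1
  refine Submodule.span_mono ?_ h2
  rintro _ ⟨y, hy, rfl⟩
  have h3 : y ∈ Set.range κ := by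
    rw [hrange]
    refine ⟨n, fun a ha => ?_⟩
    rw [← hc] at ha
    refine Submodule.span_induction ?_ ?_ ?_ ?_ ha
    · rintro _ ⟨j, rfl⟩
      exact hy j
    · exact zero_smul _ _
    · intro a b _ _ ha hb
      rw [add_smul, ha, hb, add_zero]
    · intro a b _ hb
      rw [smul_eq_mul, mul_smul, hb, smul_zero]
  obtain ⟨k, rfl⟩ := h3
  exact ⟨k, rfl⟩

end Groth.Agent.Lib.Seat48.BCAlg
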