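import Mathlib
import Groth.Agent.Lib.Seat48BCAlg4

/-!
# Base change over an external pair of rings, and its locality (seat 48)

Namespace `Groth.Agent.Lib.Seat48.BCAlg`.

* `IsBCOver f g p q ρ`: for a commutative square of rings `p ∘ f = q ∘ g` (`f : A → B`, `g : A → A'`,
  `p : B → D`, `q : A' → D`) and a `p`-semilinear map `ρ : M → M'`, the map `ρ` exhibits `M'` as
  `A' ⊗_A M`.
* `IsBCOver.of_isTensorSq`: the case of a tensor square.
* `IsBCOver.of_local`: **locality**: if `N = eq(∏ N_k ⇉ ∏ N_kl)`, `N' ↪ ∏ N'_k`, `A → A'` is flat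
  and `N'_k = A' ⊗_A N_k`, `N'_kl = A' ⊗_A N_kl`, then `N' = A' ⊗_A N`.
-/

set_option autoImplicit false
set_option linter.style.haveILetI false

namespace Groth.Agent.Lib.Seat48.BCAlg

open TensorProduct

universe w

section Over

variable {A A' B D : Type w} [CommRing A] [CommRing A'] [CommRing B] [CommRing D]

/-- `ρ` exhibits `M'` as the base change `A' ⊗_A M`, the rings `A`, `A'` acting through `f`, `q`. -/
def IsBCOver (f : A →+* B) (g : A →+* A') (p : B →+* D) (q : A' →+* D)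
    {M M' : Type w} [AddCommGroup M] [Module B M] [AddCommGroup M'] [Module D M']
    (ρ : M →ₛₗ[p] M') : Prop :=
  ∃ h : p.comp f = q.comp g,
    @IsBC A A' _ _ g M M' _ (Module.compHom M f) _ (Module.compHom M' q) (pushSemi f g p q h ρ)

theorem IsBCOver.of_isTensorSq {f : A →+* B} {g : A →+* A'} {p : B →+* D} {q : A' →+* D}
    (hsq : IsTensorSq f g p q) {M M' : Type w} [AddCommGroup M] [Module B M] [AddCommGroup M']
    [Module D M'] (ρ : M →ₛₗ[p] M') (hρ : IsBC p ρ) : IsBCOver f g p q ρ :=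
  ⟨hsq.1, IsBC.of_isTensorSq hsq ρ hρ⟩

end Over

section Local

variable {A A' : Type w} [CommRing A] [CommRing A'] {φ : A →+* A'}
  {ι : Type} [Fintype ι] [DecidableEq ι]
  {B B' : Type w} [CommRing B] [CommRing B']
  {Bk B'k : ι → Type w} [∀ k, CommRing (Bk k)] [∀ k, CommRing (B'k k)]
  {Ckl C'kl : ι → ι → Type w} [∀ k l, CommRing (Ckl k l)] [∀ k l, CommRing (C'kl k l)]
  (f : A →+* B) (q : A' →+* B') (ψ : B →+* B')
  (fk : ∀ k, A →+* Bk k) (qk : ∀ k, A' →+* B'k k) (ψk : ∀ k, Bk k →+* B'k k)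
  (fkl : ∀ k l, A →+* Ckl k l) (qkl : ∀ k l, A' →+* C'kl k l)
  (ψkl : ∀ k l, Ckl k l →+* C'kl k l)
  (β : ∀ k, B →+* Bk k) (β' : ∀ k, B' →+* B'k k)
  (π1 : ∀ k l, Bk k →+* Ckl k l) (π2 : ∀ k l, Bk l →+* Ckl k l)
  (π'1 : ∀ k l, B'k k →+* C'kl k l) (π'2 : ∀ k l, B'k l →+* C'kl k l)
  {N N' : Type w} [AddCommGroup N] [Module B N] [AddCommGroup N'] [Module B' N']
  {Nk N'k : ι → Type w} [∀ k, AddCommGroup (Nk k)] [∀ k, Module (Bk k) (Nk k)]
  [∀ k, AddCommGroup (N'k k)] [∀ k, Module (B'k k) (N'k k)]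
  {Nkl N'kl : ι → ι → Type w} [∀ k l, AddCommGroup (Nkl k l)] [∀ k l, Module (Ckl k l) (Nkl k l)]
  [∀ k l, AddCommGroup (N'kl k l)] [∀ k l, Module (C'kl k l) (N'kl k l)]
  (γ : N →ₛₗ[ψ] N') (ρ : ∀ k, N →ₛₗ[β k] Nk k) (ρ' : ∀ k, N' →ₛₗ[β' k] N'k k)
  (γk : ∀ k, Nk k →ₛₗ[ψk k] N'k k)
  (σ1 : ∀ k l, Nk k →ₛₗ[π1 k l] Nkl k l) (σ2 : ∀ k l, Nk l →ₛₗ[π2 k l] Nkl k l)
  (σ'1 : ∀ k l, N'k k →ₛₗ[π'1 k l] N'kl k l) (σ'2 : ∀ k l, N'k l →ₛₗ[π'2 k l] N'kl k l)
  (γkl : ∀ k l, Nkl k l →ₛₗ[ψkl k l] N'kl k l)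

/-- **Base change over an external flat ring map is local.** -/
theorem IsBCOver.of_local (hφ : φ.Flat)
    (hcomm : ψ.comp f = q.comp φ)
    (hfk : ∀ k, fk k = (β k).comp f) (hqk : ∀ k, qk k = (β' k).comp q)
    (hf1 : ∀ k l, fkl k l = (π1 k l).comp (fk k)) (hf2 : ∀ k l, fkl k l = (π2 k l).comp (fk l))
    (hq1 : ∀ k l, qkl k l = (π'1 k l).comp (qk k))
    (hq2 : ∀ k l, qkl k l = (π'2 k l).comp (qk l))
    (hγρ : ∀ k n, ρ' k (γ n) = γk k (ρ k n))
    (hσ1 : ∀ k l x, σ'1 k l (γk k x) = γkl k l (σ1 k l x))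
    (hσ2 : ∀ k l x, σ'2 k l (γk l x) = γkl k l (σ2 k l x))
    (hσρ : ∀ k l n, σ1 k l (ρ k n) = σ2 k l (ρ l n))
    (hσρ' : ∀ k l n, σ'1 k l (ρ' k n) = σ'2 k l (ρ' l n))
    (sepE : ∀ n, (∀ k, ρ k n = 0) → n = 0)
    (glueE : ∀ q : ∀ k, Nk k, (∀ k l, σ1 k l (q k) = σ2 k l (q l)) → ∃ n, ∀ k, ρ k n = q k)
    (sepE' : ∀ n, (∀ k, ρ' k n = 0) → n = 0)
    (hk : ∀ k, IsBCOver (fk k) φ (ψk k) (qk k) (γk k))
    (hkl : ∀ k l, IsBCOver (fkl k l) φ (ψkl k l) (qkl k l) (γkl k l)) :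
    IsBCOver f φ ψ q γ := by
  refine ⟨hcomm, ?_⟩
  letI : Algebra A A' := φ.toAlgebra
  haveI : Module.Flat A A' := hφ
  letI mN : Module A N := Module.compHom N f
  letI mN'' : Module A' N' := Module.compHom N' q
  letI mN' : Module A N' := Module.compHom N' φ
  haveI : IsScalarTower A A' N' := IsScalarTower.of_algebraMap_smul (fun _ _ => rfl)
  letI mNk : ∀ k, Module A (Nk k) := fun k => Module.compHom (Nk k) (fk k)
  letI mN'k' : ∀ k, Module A' (N'k k) := fun k => Module.compHom (N'k k) (qk k)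
  letI mN'k : ∀ k, Module A (N'k k) := fun k => Module.compHom (N'k k) φ
  haveI : ∀ k, IsScalarTower A A' (N'k k) :=
    fun k => IsScalarTower.of_algebraMap_smul (fun _ _ => rfl)
  letI mNkl : ∀ k l, Module A (Nkl k l) := fun k l => Module.compHom (Nkl k l) (fkl k l)
  letI mN'kl' : ∀ k l, Module A' (N'kl k l) := fun k l => Module.compHom (N'kl k l) (qkl k l)
  letI mN'kl : ∀ k l, Module A (N'kl k l) := fun k l => Module.compHom (N'kl k l) φ
  haveI : ∀ k l, IsScalarTower A A' (N'kl k l) :=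
    fun k l => IsScalarTower.of_algebraMap_smul (fun _ _ => rfl)
  change IsBaseChange A' (semiToLin φ (pushSemi f φ ψ q hcomm γ))
  let ρL : ∀ k, N →ₗ[A] Nk k := fun k =>
    { toFun := ρ k, map_add' := (ρ k).map_add
      map_smul' := fun a x => by
        change ρ k (f a • x) = fk k a • ρ k x
        rw [(ρ k).map_smulₛₗ, hfk]
        rfl }
  let ρ'L : ∀ k, N' →ₗ[A'] N'k k := fun k =>
    { toFun := ρ' k, map_add' := (ρ' k).map_add
      map_smul' := fun a x => by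
        change ρ' k (q a • x) = qk k a • ρ' k x
        rw [(ρ' k).map_smulₛₗ, hqk]
        rfl }
  let γkL : ∀ k, Nk k →ₗ[A] N'k k := fun k =>
    semiToLin φ (pushSemi (fk k) φ (ψk k) (qk k) (hk k).1 (γk k))
  let γklL : ∀ k l, Nkl k l →ₗ[A] N'kl k l := fun k l =>
    semiToLin φ (pushSemi (fkl k l) φ (ψkl k l) (qkl k l) (hkl k l).1 (γkl k l))
  let σ1L : ∀ k l, Nk k →ₗ[A] Nkl k l := fun k l =>
    { toFun := σ1 k l, map_add' := (σ1 k l).map_add
      map_smul' := fun a x => by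
        change σ1 k l (fk k a • x) = fkl k l a • σ1 k l x
        rw [(σ1 k l).map_smulₛₗ, hf1]
        rfl }
  let σ2L : ∀ k l, Nk l →ₗ[A] Nkl k l := fun k l =>
    { toFun := σ2 k l, map_add' := (σ2 k l).map_add
      map_smul' := fun a x => by
        change σ2 k l (fk l a • x) = fkl k l a • σ2 k l x
        rw [(σ2 k l).map_smulₛₗ, hf2]
        rfl }
  have hσ'1A' : ∀ k l (a : A') x, σ'1 k l (a • x) = a • σ'1 k l x := by
    intro k l a x
    change σ'1 k l (qk k a • x) = qkl k l a • σ'1 k l x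
    rw [(σ'1 k l).map_smulₛₗ, hq1]
    rfl
  have hσ'2A' : ∀ k l (a : A') x, σ'2 k l (a • x) = a • σ'2 k l x := by
    intro k l a x
    change σ'2 k l (qk l a • x) = qkl k l a • σ'2 k l x
    rw [(σ'2 k l).map_smulₛₗ, hq2]
    rfl
  let σ'1L : ∀ k l, N'k k →ₗ[A] N'kl k l := fun k l =>
    { toFun := σ'1 k l, map_add' := (σ'1 k l).map_add
      map_smul' := fun a x => hσ'1A' k l (φ a) x }
  let σ'2L : ∀ k l, N'k l →ₗ[A] N'kl k l := fun k l =>
    { toFun := σ'2 k l, map_add' := (σ'2 k l).map_add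
      map_smul' := fun a x => hσ'2A' k l (φ a) x }
  have hkL : ∀ k, IsBaseChange A' (γkL k) := fun k => (hk k).2
  have hklL : ∀ k l, IsBaseChange A' (γklL k l) := fun k l => (hkl k l).2
  exact isBaseChange_of_local (semiToLin φ (pushSemi f φ ψ q hcomm γ)) ρL ρ'L γkL σ1L σ2L σ'1L
    σ'2L γklL hγρ hσ1 hσ2 hσ'1A' hσ'2A' hσρ hσρ' sepE glueE sepE' hkL
    (fun k l => liftBaseChange_injective_of_isBaseChange (hklL k l))

end Local

end Groth.Agent.Lib.Seat48.BCAlg
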