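import Mathlib
import Groth.Agent.Lib.Seat48BCAlg7

/-!
# Finite presentation and base change (seat 48)

Namespace `Groth.Agent.Lib.Seat48.BCAlg`.

* `IsBC.finitePresentation`: the base change of a finitely presented module is finitely presented.
* `finitePresentation_of_forall_tensorProduct`, `IsBC.finitePresentation_of_forall`: finite
  presentation of modules descends along a finite jointly faithfully flat family of flat algebras.
* `finitePresentation_of_restrictScalars`: a module over a finite algebra which is finitely presented
  over the base is finitely presented over the algebra.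
-/

set_option autoImplicit false
set_option linter.style.haveILetI false
set_option linter.unusedSectionVars false

namespace Groth.Agent.Lib.Seat48.BCAlg

open TensorProduct

universe w

section BC

variable {A B : Type w} [CommRing A] [CommRing B] {φ : A →+* B}
  {M N : Type w} [AddCommGroup M] [Module A M] [AddCommGroup N] [Module B N]

theorem IsBC.finitePresentation {ρ : M →ₛₗ[φ] N} (h : IsBC φ ρ) [Module.FinitePresentation A M] :
    Module.FinitePresentation B N := by
  letI := φ.toAlgebra
  letI := Module.compHom N φ
  haveI : IsScalarTower A B N := IsScalarTower.of_algebraMap_smul (fun _ _ => rfl)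
  have h' : IsBaseChange B (semiToLin φ ρ) := h
  exact FinitePresentation.of_isBaseChange (semiToLin φ ρ) h'

end BC

section Descent

variable {A : Type w} [CommRing A] {ι : Type} [Fintype ι] [DecidableEq ι]
  {B : ι → Type w} [∀ k, CommRing (B k)] [∀ k, Algebra A (B k)]

/-- finite presentation of modules descends along a finite jointly faithfully flat family. -/
theorem finitePresentation_of_forall_tensorProduct [Module.FaithfullyFlat A (∀ k, B k)]
    [∀ k, Module.Flat A (B k)] {M : Type w} [AddCommGroup M] [Module A M]
    (h : ∀ k, Module.FinitePresentation (B k) (B k ⊗[A] M)) : Module.FinitePresentation A M := by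
  haveI : Module.Finite A M :=
    finite_of_forall_finite_tensorProduct (A := A) (B := B) (fun k => inferInstance)
  obtain ⟨n, f, hf⟩ := Module.Finite.exists_fin' A M
  refine Module.finitePresentation_of_surjective f hf ?_
  rw [← Module.Finite.iff_fg]
  apply finite_of_forall_finite_tensorProduct (A := A) (B := B)
  intro k
  -- `B k ⊗ ker f` is the kernel of `B k ⊗ f`
  have hex : Function.Exact ((LinearMap.ker f).subtype.baseChange (B k)) (f.baseChange (B k)) :=
    lTensor_exact (B k) f.exact_subtype_ker_map hf
  have hinj : Function.Injective ((LinearMap.ker f).subtype.baseChange (B k)) :=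
    Module.Flat.lTensor_preserves_injective_linearMap _ (Submodule.injective_subtype _)
  have hsurj : Function.Surjective (f.baseChange (B k)) := LinearMap.lTensor_surjective (B k) hf
  have hker : (LinearMap.ker (f.baseChange (B k))).FG :=
    Module.FinitePresentation.fg_ker (f.baseChange (B k)) hsurj
  rw [LinearMap.exact_iff] at hex
  rw [hex] at hker
  haveI : Module.Finite (B k) (LinearMap.range ((LinearMap.ker f).subtype.baseChange (B k))) :=
    Module.Finite.iff_fg.2 hker
  exact Module.Finite.equiv
    (LinearEquiv.ofInjective ((LinearMap.ker f).subtype.baseChange (B k)) hinj).symm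

end Descent

section DescentBC

variable {ι : Type} [Fintype ι] [DecidableEq ι] {A : Type w} [CommRing A]
  {B : ι → Type w} [∀ k, CommRing (B k)] (φ : ∀ k, A →+* B k)
  {N : Type w} [AddCommGroup N] [Module A N]
  {Nk : ι → Type w} [∀ k, AddCommGroup (Nk k)] [∀ k, Module (B k) (Nk k)]
  (ρ : ∀ k, N →ₛₗ[φ k] Nk k)

theorem IsBC.finitePresentation_of_forall (hff : JointlyFF φ) (hflat : ∀ k, (φ k).Flat)
    (hρ : ∀ k, IsBC (φ k) (ρ k))
    (hfin : ∀ k, Module.FinitePresentation (B k) (Nk k)) : Module.FinitePresentation A N := by
  letI : ∀ k, Algebra A (B k) := fun k => (φ k).toAlgebra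
  letI : ∀ k, Module A (Nk k) := fun k => Module.compHom (Nk k) (φ k)
  haveI : ∀ k, IsScalarTower A (B k) (Nk k) := fun k =>
    IsScalarTower.of_algebraMap_smul (fun _ _ => rfl)
  haveI : Module.FaithfullyFlat A (∀ k, B k) := hff
  haveI : ∀ k, Module.Flat A (B k) := fun k => hflat k
  apply finitePresentation_of_forall_tensorProduct (A := A) (B := B)
  intro k
  have hk : IsBaseChange (B k) (semiToLin (φ k) (ρ k)) := hρ k
  exact Module.FinitePresentation.of_equiv hk.equiv.symm

end DescentBC

section Restrict

variable {A B : Type w} [CommRing A] [CommRing B] [Algebra A B]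
  {N : Type w} [AddCommGroup N] [Module A N] [Module B N] [IsScalarTower A B N]

/-- a module over a finite algebra which is finitely presented over the base ring is finitely
presented over the algebra. -/
theorem finitePresentation_of_restrictScalars [Module.Finite A B]
    [Module.FinitePresentation A N] : Module.FinitePresentation B N := by
  haveI : Module.Finite A N := inferInstance
  haveI : Module.Finite B N := Module.Finite.of_restrictScalars_finite A B N
  obtain ⟨n, f, hf⟩ := Module.Finite.exists_fin' B N
  refine Module.finitePresentation_of_surjective f hf ?_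
  -- the kernel is finitely generated over `A`
  haveI : Module.Finite A (Fin n → B) := Module.Finite.pi
  have h1 : (LinearMap.ker (f.restrictScalars A)).FG :=
    Module.FinitePresentation.fg_ker (f.restrictScalars A) hf
  obtain ⟨s, hs⟩ := h1
  refine ⟨s, ?_⟩
  apply le_antisymm
  · rw [Submodule.span_le]
    intro x hx
    have : x ∈ LinearMap.ker (f.restrictScalars A) := hs ▸ Submodule.subset_span hx
    exact this
  · intro x hx
    have hx' : x ∈ LinearMap.ker (f.restrictScalars A) := hx
    rw [← hs] at hx'
    exact Submodule.span_le_restrictScalars A B _ hx'

end Restrict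

end Groth.Agent.Lib.Seat48.BCAlg
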