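import Mathlib
import Groth.Agent.Lib.Seat48BCAlg12
import Groth.Agent.Lib.Seat48BCSite3

/-!
# Base change over an external pair of rings on a site, and its locality (seat 48)

Namespace `Groth.Agent.Lib.Seat48.BCSite`.

* `HasBCOverAt M φ α α' b`: for `b : T' ⟶ T`, ring maps `α : A → R(T)`, `α' : A' → R(T')` and
  `φ : A → A'`, the restriction `M(T) → M(T')` exhibits `M(T')` as `A' ⊗_A M(T)`.
* `BCProp M φ α α' b w`: for `w : W ⟶ T`, base change over `A → A'` holds along every pullback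
  `W' ⟶ W` of `b` along `w`.
* `bcProp_of_cover`: **`BCProp` is local**: if a finite family `V k ⟶ W` covers and `BCProp` holds for
  the `V k` and their pairwise fibre products over `W`, then it holds for `W` (`φ` flat, `M` a sheaf).
-/

set_option autoImplicit false
set_option linter.unusedSectionVars false

universe w v₁ u₁

open CategoryTheory Limits Opposite

namespace Groth.Agent.Lib.Seat48.BCSite

open Groth.Agent.Lib.Seat48.BCAlg

attribute [local instance] commRingSect

variable {C : Type u₁} [Category.{v₁} C]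
variable {J : GrothendieckTopology C} {R₀ : Cᵒᵖ ⥤ RingCat.{w}} [IsCommPresheaf R₀]
variable {A A' : Type w} [CommRing A] [CommRing A']

/-- base change over an external pair of rings along `b`. -/
def HasBCOverAt (M : PresheafOfModules.{w} R₀) (φ : A →+* A') {T T' : C}
    (α : A →+* R₀.obj (op T)) (α' : A' →+* R₀.obj (op T')) (b : T' ⟶ T) : Prop :=
  IsBCOver α φ (R₀.map b.op).hom α' (M.restrictₛₗ b.op)

/-- base change over `A → A'` holds along every pullback of `b` along `w`. -/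
def BCProp (M : PresheafOfModules.{w} R₀) (φ : A →+* A') {T T' : C}
    (α : A →+* R₀.obj (op T)) (α' : A' →+* R₀.obj (op T')) (b : T' ⟶ T) {W : C} (w : W ⟶ T) :
    Prop :=
  ∀ ⦃W' : C⦄ (b' : W' ⟶ W) (a : W' ⟶ T'), IsPullback b' a w b →
    HasBCOverAt M φ ((R₀.map w.op).hom.comp α) ((R₀.map a.op).hom.comp α') b'

/-- **Base change over an external flat ring map is local on the source.** -/
theorem bcProp_of_cover [HasPullbacks C] (M : PresheafOfModules.{w} R₀)
    (hM : Presieve.IsSheaf J (M.presheaf ⋙ forget AddCommGrpCat.{w}))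
    {φ : A →+* A'} (hφ : φ.Flat) {T T' : C}
    {α : A →+* R₀.obj (op T)} {α' : A' →+* R₀.obj (op T')} {b : T' ⟶ T}
    (hcomm : (R₀.map b.op).hom.comp α = α'.comp φ)
    {W : C} (w : W ⟶ T) {ι : Type} [Fintype ι] [DecidableEq ι] (V : ι → C) (h : ∀ k, V k ⟶ W)
    (hcov : Sieve.ofArrows V h ∈ J W)
    (hk : ∀ k, BCProp M φ α α' b (h k ≫ w))
    (hkl : ∀ k l, BCProp M φ α α' b (pullback.fst (h k) (h l) ≫ h k ≫ w)) :
    BCProp M φ α α' b w := by
  intro W' b' a hpb
  -- `V_kl`
  let P : ι → ι → C := fun k l => pullback (h k) (h l)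
  let p1 : ∀ k l, P k l ⟶ V k := fun k l => pullback.fst (h k) (h l)
  let p2 : ∀ k l, P k l ⟶ V l := fun k l => pullback.snd (h k) (h l)
  have hpull : ∀ k l, IsPullback (p1 k l) (p2 k l) (h k) (h l) :=
    fun k l => IsPullback.of_hasPullback (h k) (h l)
  -- `W'_k`
  let P' : ι → C := fun k => pullback (h k) b'
  let bk : ∀ k, P' k ⟶ V k := fun k => pullback.fst (h k) b'
  let ak : ∀ k, P' k ⟶ W' := fun k => pullback.snd (h k) b'
  have hpull' : ∀ k, IsPullback (bk k) (ak k) (h k) b' :=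
    fun k => IsPullback.of_hasPullback (h k) b'
  have hpaste : ∀ k, IsPullback (bk k) (ak k ≫ a) (h k ≫ w) b :=
    fun k => ((hpull' k).flip.paste_horiz hpb.flip).flip
  -- `W'_kl`
  let P'' : ι → ι → C := fun k l => pullback (p1 k l ≫ h k) b'
  let b2 : ∀ k l, P'' k l ⟶ P k l := fun k l => pullback.fst (p1 k l ≫ h k) b'
  let a2 : ∀ k l, P'' k l ⟶ W' := fun k l => pullback.snd (p1 k l ≫ h k) b'
  have hpull'' : ∀ k l, IsPullback (b2 k l) (a2 k l) (p1 k l ≫ h k) b' :=
    fun k l => IsPullback.of_hasPullback (p1 k l ≫ h k) b'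
  have hpaste'' : ∀ k l, IsPullback (b2 k l) (a2 k l ≫ a) (p1 k l ≫ h k ≫ w) b := by
    intro k l
    have := ((hpull'' k l).flip.paste_horiz hpb.flip).flip
    rwa [Category.assoc] at this
  have hw : ∀ k l, p1 k l ≫ h k = p2 k l ≫ h l := fun k l => (hpull k l).w
  have hw' : ∀ k, bk k ≫ h k = ak k ≫ b' := fun k => (hpull' k).w
  have hw'' : ∀ k l, b2 k l ≫ p1 k l ≫ h k = a2 k l ≫ b' := fun k l => (hpull'' k l).w
  let s1 : ∀ k l, P'' k l ⟶ P' k := fun k l =>
    (hpull' k).lift (b2 k l ≫ p1 k l) (a2 k l) (by rw [Category.assoc]; exact hw'' k l)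
  let s2 : ∀ k l, P'' k l ⟶ P' l := fun k l =>
    (hpull' l).lift (b2 k l ≫ p2 k l) (a2 k l) (by rw [Category.assoc, ← hw k l]; exact hw'' k l)
  have hs1b : ∀ k l, s1 k l ≫ bk k = b2 k l ≫ p1 k l := fun k l => (hpull' k).lift_fst _ _ _
  have hs1a : ∀ k l, s1 k l ≫ ak k = a2 k l := fun k l => (hpull' k).lift_snd _ _ _
  have hs2b : ∀ k l, s2 k l ≫ bk l = b2 k l ≫ p2 k l := fun k l => (hpull' l).lift_fst _ _ _
  have hs2a : ∀ k l, s2 k l ≫ ak l = a2 k l := fun k l => (hpull' l).lift_snd _ _ _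
  -- the family `W'_k ⟶ W'` is covering
  have hcov' : Sieve.ofArrows P' ak ∈ J W' := by
    refine J.superset_covering ?_ (J.pullback_stable b' hcov)
    rintro Z u ⟨Y, v, _, ⟨k⟩, huv⟩
    refine ⟨P' k, (hpull' k).lift v u huv, ak k, ⟨k⟩, ?_⟩
    exact (hpull' k).lift_snd _ _ _
  have hcomm' : (R₀.map b'.op).hom.comp ((R₀.map w.op).hom.comp α) =
      ((R₀.map a.op).hom.comp α').comp φ := by
    rw [← RingHom.comp_assoc, ← ringMap_comp, hpb.w, ringMap_comp, RingHom.comp_assoc, hcomm,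
      RingHom.comp_assoc]
  refine IsBCOver.of_local (φ := φ)
    ((R₀.map w.op).hom.comp α) ((R₀.map a.op).hom.comp α') (R₀.map b'.op).hom
    (fun k => (R₀.map (h k ≫ w).op).hom.comp α) (fun k => (R₀.map (ak k ≫ a).op).hom.comp α')
    (fun k => (R₀.map (bk k).op).hom)
    (fun k l => (R₀.map (p1 k l ≫ h k ≫ w).op).hom.comp α)
    (fun k l => (R₀.map (a2 k l ≫ a).op).hom.comp α')
    (fun k l => (R₀.map (b2 k l).op).hom)
    (fun k => (R₀.map (h k).op).hom) (fun k => (R₀.map (ak k).op).hom)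
    (fun k l => (R₀.map (p1 k l).op).hom) (fun k l => (R₀.map (p2 k l).op).hom)
    (fun k l => (R₀.map (s1 k l).op).hom) (fun k l => (R₀.map (s2 k l).op).hom)
    (M.restrictₛₗ b'.op) (fun k => M.restrictₛₗ (h k).op) (fun k => M.restrictₛₗ (ak k).op)
    (fun k => M.restrictₛₗ (bk k).op)
    (fun k l => M.restrictₛₗ (p1 k l).op) (fun k l => M.restrictₛₗ (p2 k l).op)
    (fun k l => M.restrictₛₗ (s1 k l).op) (fun k l => M.restrictₛₗ (s2 k l).op)
    (fun k l => M.restrictₛₗ (b2 k l).op)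
    hφ hcomm'
    (fun k => by rw [ringMap_comp, RingHom.comp_assoc])
    (fun k => by rw [ringMap_comp, RingHom.comp_assoc])
    (fun k l => by rw [ringMap_comp, RingHom.comp_assoc])
    (fun k l => by
      rw [← RingHom.comp_assoc, ← ringMap_comp, ← Category.assoc (p2 k l), ← hw k l,
        Category.assoc])
    (fun k l => by
      rw [← RingHom.comp_assoc, ← ringMap_comp, ← Category.assoc, hs1a k l])
    (fun k l => by
      rw [← RingHom.comp_assoc, ← ringMap_comp, ← Category.assoc, hs2a k l])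
    (fun k x => map_map_eq M (hw' k).symm x)
    (fun k l x => map_map_eq M (hs1b k l) x)
    (fun k l x => map_map_eq M (hs2b k l) x)
    (fun k l x => map_map_eq M (hw k l) x)
    (fun k l x => (map_map_eq' M (hs1a k l) x).trans (map_map_eq' M (hs2a k l) x).symm)
    (fun x hx => eq_zero_of_cover M hM h hcov x hx)
    (fun q hq => exists_of_cover M hM h hcov p1 p2 hpull q hq)
    (fun x hx => eq_zero_of_cover M hM ak hcov' x hx)
    (fun k => hk k (bk k) (ak k ≫ a) (hpaste k))
    (fun k l => hkl k l (b2 k l) (a2 k l ≫ a) (hpaste'' k l))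

/-- `BCProp` for the identity gives base change along `b`. -/
theorem hasBCOverAt_of_bcProp_id (M : PresheafOfModules.{w} R₀) {φ : A →+* A'} {T T' : C}
    {α : A →+* R₀.obj (op T)} {α' : A' →+* R₀.obj (op T')} {b : T' ⟶ T}
    (h : BCProp M φ α α' b (𝟙 T)) : HasBCOverAt M φ α α' b := by
  have h1 := h b (𝟙 T') (IsPullback.of_vert_isIso ⟨by simp⟩)
  have e1 : (R₀.map (𝟙 T).op).hom.comp α = α := by
    rw [op_id, R₀.map_id]
    rfl
  have e2 : (R₀.map (𝟙 T').op).hom.comp α' = α' := by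
    rw [op_id, R₀.map_id]
    rfl
  rw [e1, e2] at h1
  exact h1

end Groth.Agent.Lib.Seat48.BCSite
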