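import Mathlib
import Groth.Agent.Lib.Seat48BCAlg10
import Groth.Agent.Lib.Seat48BCSite8

/-!
# Extensions of sheaves of modules with base change on affines (seat 48)

Namespace `Groth.Agent.Lib.Seat48.BCSite`.

For a left exact sequence `0 → M₁ → M₂ → M₃` of presheaves of modules and a section `s` of `M₃` over
`E`, the modules `pairSub π s f` of pairs `(t, a)` of a section `t` of `M₂` and a function `a` over
`W` (`f : W ⟶ E`) with `π t = a • s`; these are the sections of the pullback of the extension along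
`s : O ⟶ M₃`, and locally split when `s` lifts locally.

* `isBC_pairRes_of_lift`: where `s` lifts, the pairs have base change (`M₁` having base change);
* `isBC_pairRes`: hence everywhere on affines over `E`, by locality of base change;
* `app_surjective_of_ext`: hence `M₂(E) → M₃(E)` is surjective for `E` affine (vanishing of the
  first cohomology of `M₁` on affines, in disguise);
* `hasBCOn_of_ext`: extensions of sheaves of modules with base change on affines have base change
  on affines.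
-/

set_option autoImplicit false
set_option linter.unusedSectionVars false
set_option linter.style.haveILetI false

universe w v₁ u₁

open CategoryTheory Limits Opposite

namespace Groth.Agent.Lib.Seat48.BCSite

open Groth.Agent.Lib.Seat48.BCAlg

attribute [local instance] commRingSect

variable {C : Type u₁} [Category.{v₁} C]
variable {J : GrothendieckTopology C} {R₀ : Cᵒᵖ ⥤ RingCat.{w}} [IsCommPresheaf R₀]

section Pair

variable {M₁ M₂ M₃ : PresheafOfModules.{w} R₀} (ι : M₁ ⟶ M₂) (π : M₂ ⟶ M₃) {E : C}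
  (s : M₃.obj (op E))

/-- pairs `(t, a)` of a section of `M₂` and a function with `π t = a • s`. -/
noncomputable def pairSub {W : C} (f : W ⟶ E) :
    Submodule (R₀.obj (op W)) (M₂.obj (op W) × R₀.obj (op W)) where
  carrier := {x | π.app (op W) x.1 = x.2 • M₃.restrictₛₗ f.op s}
  add_mem' := by
    intro x y hx hy
    have hx' : π.app (op W) x.1 = x.2 • M₃.restrictₛₗ f.op s := hx
    have hy' : π.app (op W) y.1 = y.2 • M₃.restrictₛₗ f.op s := hy
    change π.app (op W) (x.1 + y.1) = (x.2 + y.2) • M₃.restrictₛₗ f.op s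
    rw [map_add, add_smul, hx', hy']
  zero_mem' := by
    change π.app (op W) 0 = (0 : R₀.obj (op W)) • M₃.restrictₛₗ f.op s
    rw [map_zero, zero_smul]
  smul_mem' := by
    intro r x hx
    have hx' : π.app (op W) x.1 = x.2 • M₃.restrictₛₗ f.op s := hx
    change π.app (op W) (r • x.1) = (r * x.2) • M₃.restrictₛₗ f.op s
    rw [map_smul, mul_smul, hx']

theorem mem_pairSub_iff {W : C} (f : W ⟶ E) (x : M₂.obj (op W) × R₀.obj (op W)) :
    x ∈ pairSub π s f ↔ π.app (op W) x.1 = x.2 • M₃.restrictₛₗ f.op s := Iff.rfl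

/-- restriction of pairs. -/
noncomputable def pairRes {W W' : C} (b : W' ⟶ W) (f : W ⟶ E) (f' : W' ⟶ E) (h : b ≫ f = f') :
    pairSub π s f →ₛₗ[(R₀.map b.op).hom] pairSub π s f' where
  toFun x := ⟨(M₂.restrictₛₗ b.op x.1.1, (R₀.map b.op).hom x.1.2), by
    rw [mem_pairSub_iff]
    have hx := (mem_pairSub_iff π s f x.1).1 x.2
    change π.app (op W') (M₂.map b.op x.1.1) = _
    rw [PresheafOfModules.naturality_apply, hx, PresheafOfModules.map_smul]
    congr 1
    exact map_map_eq' M₃ h s⟩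
  map_add' x y := by
    apply Subtype.ext
    apply Prod.ext
    · exact (M₂.restrictₛₗ b.op).map_add _ _
    · exact (R₀.map b.op).hom.map_add _ _
  map_smul' r x := by
    apply Subtype.ext
    apply Prod.ext
    · exact (M₂.restrictₛₗ b.op).map_smulₛₗ _ _
    · exact (R₀.map b.op).hom.map_mul _ _

theorem pairRes_fst {W W' : C} (b : W' ⟶ W) (f : W ⟶ E) (f' : W' ⟶ E) (h : b ≫ f = f')
    (x : pairSub π s f) : (pairRes π s b f f' h x).1.1 = M₂.map b.op x.1.1 := rfl

theorem pairRes_snd {W W' : C} (b : W' ⟶ W) (f : W ⟶ E) (f' : W' ⟶ E) (h : b ≫ f = f')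
    (x : pairSub π s f) : (pairRes π s b f f' h x).1.2 = (R₀.map b.op).hom x.1.2 := rfl

theorem pairRes_pairRes_eq {W X Y Z : C} {b : X ⟶ W} {b' : Z ⟶ X} {c : Y ⟶ W} {c' : Z ⟶ Y}
    (hbc : b' ≫ b = c' ≫ c) (fW : W ⟶ E) (fX : X ⟶ E) (fY : Y ⟶ E) (fZ : Z ⟶ E)
    (h1 : b ≫ fW = fX) (h2 : b' ≫ fX = fZ) (h3 : c ≫ fW = fY) (h4 : c' ≫ fY = fZ)
    (x : pairSub π s fW) :
    pairRes π s b' fX fZ h2 (pairRes π s b fW fX h1 x) =
      pairRes π s c' fY fZ h4 (pairRes π s c fW fY h3 x) := by
  apply Subtype.ext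
  apply Prod.ext
  · exact map_map_eq M₂ hbc x.1.1
  · exact RingHom.congr_fun (ringMap_congr (R₀ := R₀) hbc) x.1.2

/-- the inclusion of the sections of `M₁`. -/
noncomputable def pairκ (hex : ∀ W : C, Function.Exact (ι.app (op W)) (π.app (op W))) {W : C} (f : W ⟶ E) :
    M₁.obj (op W) →ₗ[R₀.obj (op W)] pairSub π s f where
  toFun y := ⟨(ι.app (op W) y, 0), by
    rw [mem_pairSub_iff]
    change π.app (op W) (ι.app (op W) y) = (0 : R₀.obj (op W)) • _
    rw [zero_smul]
    exact (hex W).apply_apply_eq_zero y⟩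
  map_add' x y := by
    apply Subtype.ext
    apply Prod.ext
    · exact map_add _ _ _
    · exact (add_zero _).symm
  map_smul' r x := by
    apply Subtype.ext
    apply Prod.ext
    · exact map_smul _ _ _
    · exact (mul_zero _).symm

/-- the second projection. -/
noncomputable def pairSnd {W : C} (f : W ⟶ E) : pairSub π s f →ₗ[R₀.obj (op W)] R₀.obj (op W) :=
  (LinearMap.snd _ _ _).comp (pairSub π s f).subtype

theorem pairSnd_apply {W : C} (f : W ⟶ E) (x : pairSub π s f) : pairSnd π s f x = x.1.2 := rfl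

theorem pairκ_injective (hex : ∀ W : C, Function.Exact (ι.app (op W)) (π.app (op W)))
    (hinj : ∀ W : C, Function.Injective (ι.app (op W))) {W : C} (f : W ⟶ E) :
    Function.Injective (pairκ ι π s hex f) := by
  intro x y hxy
  apply hinj W
  exact congrArg (fun z : pairSub π s f => z.1.1) hxy

theorem exact_pairκ_pairSnd (hex : ∀ W : C, Function.Exact (ι.app (op W)) (π.app (op W)))
    {W : C} (f : W ⟶ E) : Function.Exact (pairκ ι π s hex f) (pairSnd π s f) := by
  intro x
  constructor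
  · intro hx
    have hx2 : x.1.2 = 0 := hx
    have h1 := (mem_pairSub_iff π s f x.1).1 x.2
    rw [hx2, zero_smul] at h1
    obtain ⟨y, hy⟩ := (hex W _).1 h1
    refine ⟨y, ?_⟩
    apply Subtype.ext
    apply Prod.ext
    · exact hy
    · exact hx2.symm
  · rintro ⟨y, rfl⟩
    rfl

theorem pairSnd_surjective_of_lift {W : C} (f : W ⟶ E) (t : M₂.obj (op W))
    (ht : π.app (op W) t = M₃.restrictₛₗ f.op s) : Function.Surjective (pairSnd π s f) := by
  intro a
  refine ⟨⟨(a • t, a), ?_⟩, rfl⟩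
  rw [mem_pairSub_iff]
  change π.app (op W) (a • t) = a • _
  rw [map_smul, ht]

/-- where `s` lifts, the pairs have base change. -/
theorem isBC_pairRes_of_lift (D : AffineData J R₀)
    (hex : ∀ W : C, Function.Exact (ι.app (op W)) (π.app (op W)))
    (hinj : ∀ W : C, Function.Injective (ι.app (op W))) (h₁ : HasBCOn D M₁)
    {W W' : C} (b : W' ⟶ W) (f : W ⟶ E) (f' : W' ⟶ E) (h : b ≫ f = f')
    (hW : D.Aff W) (hW' : D.Aff W') (t : M₂.obj (op W))
    (ht : π.app (op W) t = M₃.restrictₛₗ f.op s) :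
    IsBC (R₀.map b.op).hom (pairRes π s b f f' h) := by
  refine IsBC.of_shortExact (M₁.restrictₛₗ b.op) (pairRes π s b f f' h)
    ({ toFun := (R₀.map b.op).hom, map_add' := (R₀.map b.op).hom.map_add,
       map_smul' := fun a b' => (R₀.map b.op).hom.map_mul a b' } :
      R₀.obj (op W) →ₛₗ[(R₀.map b.op).hom] R₀.obj (op W'))
    (pairκ ι π s hex f) (pairSnd π s f) (pairκ ι π s hex f') (pairSnd π s f')
    ?_ ?_ (exact_pairκ_pairSnd ι π s hex f) (pairSnd_surjective_of_lift π s f t ht)
    (pairκ_injective ι π s hex hinj f') (exact_pairκ_pairSnd ι π s hex f')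
    (h₁ b hW hW') (isBC_ringHom _)
  · intro y
    apply Subtype.ext
    apply Prod.ext
    · exact (PresheafOfModules.naturality_apply ι b.op y).symm
    · exact map_zero _
  · intro x
    rfl

end Pair

section Sheaf

variable {R : Sheaf J RingCat.{w}} [IsCommPresheaf R.obj]
  {M₁ M₂ M₃ : SheafOfModules.{w} R} (ι : M₁ ⟶ M₂) (π : M₂ ⟶ M₃) {E : C}
  (s : M₃.val.obj (op E))

theorem isSheaf_type (M : SheafOfModules.{w} R) :
    Presieve.IsSheaf J (M.val.presheaf ⋙ forget AddCommGrpCat.{w}) :=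
  (isSheaf_iff_isSheaf_of_type _ _).1
    (GrothendieckTopology.HasSheafCompose.isSheaf M.val.presheaf M.isSheaf)

/-- pairs are determined by their restrictions to a covering family. -/
theorem pairSub_eq_zero_of_cover {ι' : Type} {W : C} (f : W ⟶ E) {V : ι' → C} (h : ∀ k, V k ⟶ W)
    (hcov : Sieve.ofArrows V h ∈ J W) (fk : ∀ k, V k ⟶ E) (hk : ∀ k, h k ≫ f = fk k)
    (n : pairSub π.val s f) (hn : ∀ k, pairRes π.val s (h k) f (fk k) (hk k) n = 0) : n = 0 := by
  apply Subtype.ext
  apply Prod.ext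
  · exact eq_zero_of_cover M₂.val (isSheaf_type M₂) h hcov n.1.1
      (fun k => congrArg (fun z : pairSub π.val s (fk k) => z.1.1) (hn k))
  · exact eq_zero_of_cover (SheafOfModules.unit R).val (isSheaf_type (SheafOfModules.unit R)) h hcov
      n.1.2 (fun k => congrArg (fun z : pairSub π.val s (fk k) => z.1.2) (hn k))

/-- pairs glue along a covering family with chosen fibre products. -/
theorem pairSub_exists_of_cover {ι' : Type} {W : C} (f : W ⟶ E) {V : ι' → C} (h : ∀ k, V k ⟶ W)
    (hcov : Sieve.ofArrows V h ∈ J W) (fk : ∀ k, V k ⟶ E) (hk : ∀ k, h k ≫ f = fk k)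
    {P : ι' → ι' → C} (p1 : ∀ k l, P k l ⟶ V k) (p2 : ∀ k l, P k l ⟶ V l)
    (hpull : ∀ k l, IsPullback (p1 k l) (p2 k l) (h k) (h l))
    (fkl : ∀ k l, P k l ⟶ E) (h1 : ∀ k l, p1 k l ≫ fk k = fkl k l)
    (h2 : ∀ k l, p2 k l ≫ fk l = fkl k l)
    (q : ∀ k, pairSub π.val s (fk k))
    (hq : ∀ k l, pairRes π.val s (p1 k l) (fk k) (fkl k l) (h1 k l) (q k) =
      pairRes π.val s (p2 k l) (fk l) (fkl k l) (h2 k l) (q l)) :
    ∃ n : pairSub π.val s f, ∀ k, pairRes π.val s (h k) f (fk k) (hk k) n = q k := by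
  obtain ⟨t, ht⟩ := exists_of_cover M₂.val (isSheaf_type M₂) h hcov p1 p2 hpull
    (fun k => (q k).1.1)
    (fun k l => congrArg (fun z : pairSub π.val s (fkl k l) => z.1.1) (hq k l))
  obtain ⟨a, ha⟩ := exists_of_cover (SheafOfModules.unit R).val
    (isSheaf_type (SheafOfModules.unit R)) h hcov p1 p2 hpull
    (fun k => (q k).1.2)
    (fun k l => congrArg (fun z : pairSub π.val s (fkl k l) => z.1.2) (hq k l))
  have hmem : ((t, a) : M₂.val.obj (op W) × R.obj.obj (op W)) ∈ pairSub π.val s f := by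
    rw [mem_pairSub_iff]
    rw [← sub_eq_zero]
    refine eq_zero_of_cover M₃.val (isSheaf_type M₃) h hcov _ (fun k => ?_)
    rw [map_sub, sub_eq_zero, ← PresheafOfModules.naturality_apply, ht k,
      PresheafOfModules.map_smul]
    have h3 := (mem_pairSub_iff π.val s (fk k) (q k).1).1 (q k).2
    rw [h3]
    congr 1
    · exact (ha k).symm
    · exact (map_map_eq' M₃.val (hk k) s).symm
  refine ⟨⟨(t, a), hmem⟩, fun k => ?_⟩
  apply Subtype.ext
  apply Prod.ext
  · exact ht k
  · exact ha k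

/-- the pairs have base change along every morphism of affines `E' ⟶ E`, if `s` lifts locally. -/
theorem isBC_pairRes (D : AffineData J R.obj)
    (hex : ∀ W : C, Function.Exact (ι.val.app (op W)) (π.val.app (op W)))
    (hinj : ∀ W : C, Function.Injective (ι.val.app (op W))) (h₁ : HasBCOn D M₁.val)
    (hE : D.Aff E) (S : Sieve E) (hS : S ∈ J E)
    (hlift : ∀ ⦃V : C⦄ (a : V ⟶ E), S a →
      ∃ t : M₂.val.obj (op V), π.val.app (op V) t = M₃.val.restrictₛₗ a.op s)
    {E' : C} (g : E' ⟶ E) (hE' : D.Aff E') :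
    IsBC (R.obj.map g.op).hom (pairRes π.val s g (𝟙 E) g (Category.comp_id g)) := by
  obtain ⟨n, V, h, hAff, hmem, hcov, -⟩ := D.exists_cover hE S hS
  -- `V_kl`
  have hpb := fun k l => D.exists_pullback (h k) (h l) (hAff k) (hAff l) hE
  choose P p1 p2 hP hpull hT using hpb
  -- `E'_k`
  have hpb' := fun k => D.exists_pullback (h k) g (hAff k) hE' hE
  choose P' b a hP' hpull' hT' using hpb'
  -- `E'_kl`
  have hpb'' := fun k l => D.exists_pullback (p1 k l ≫ h k) g (hP k l) hE' hE
  choose P'' b2 a2 hP'' hpull'' hT'' using hpb''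
  have hw : ∀ k l, p1 k l ≫ h k = p2 k l ≫ h l := fun k l => (hpull k l).w
  have hw' : ∀ k, b k ≫ h k = a k ≫ g := fun k => (hpull' k).w
  have hw'' : ∀ k l, b2 k l ≫ p1 k l ≫ h k = a2 k l ≫ g := fun k l => (hpull'' k l).w
  let s1 : ∀ k l, P'' k l ⟶ P' k := fun k l =>
    (hpull' k).lift (b2 k l ≫ p1 k l) (a2 k l) (by rw [Category.assoc]; exact hw'' k l)
  let s2 : ∀ k l, P'' k l ⟶ P' l := fun k l =>
    (hpull' l).lift (b2 k l ≫ p2 k l) (a2 k l) (by rw [Category.assoc, ← hw k l]; exact hw'' k l)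
  have hs1b : ∀ k l, s1 k l ≫ b k = b2 k l ≫ p1 k l := fun k l => (hpull' k).lift_fst _ _ _
  have hs1a : ∀ k l, s1 k l ≫ a k = a2 k l := fun k l => (hpull' k).lift_snd _ _ _
  have hs2b : ∀ k l, s2 k l ≫ b l = b2 k l ≫ p2 k l := fun k l => (hpull' l).lift_fst _ _ _
  have hs2a : ∀ k l, s2 k l ≫ a l = a2 k l := fun k l => (hpull' l).lift_snd _ _ _
  -- the family `E'_k ⟶ E'` is covering
  have hcov' : Sieve.ofArrows P' a ∈ J E' := by
    refine J.superset_covering ?_ (J.pullback_stable g hcov)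
    rintro Z u ⟨Y, v, _, ⟨k⟩, huv⟩
    refine ⟨P' k, (hpull' k).lift v u huv, a k, ⟨k⟩, ?_⟩
    exact (hpull' k).lift_snd _ _ _
  have e1 : ∀ k, h k ≫ 𝟙 E = h k := fun k => Category.comp_id _
  have e2 : ∀ k l, s1 k l ≫ a k ≫ g = a2 k l ≫ g := fun k l => by
    rw [← Category.assoc, hs1a]
  have e3 : ∀ k l, s2 k l ≫ a l ≫ g = a2 k l ≫ g := fun k l => by
    rw [← Category.assoc, hs2a]
  have e4 : ∀ k l, p2 k l ≫ h l = p1 k l ≫ h k := fun k l => (hw k l).symm
  refine IsBC.of_local (φ := (R.obj.map g.op).hom)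
    (fun k => (R.obj.map (h k).op).hom) (fun k => (R.obj.map (a k).op).hom)
    (fun k => (R.obj.map (b k).op).hom)
    (fun k l => (R.obj.map (p1 k l).op).hom) (fun k l => (R.obj.map (p2 k l).op).hom)
    (fun k l => (R.obj.map (s1 k l).op).hom) (fun k l => (R.obj.map (s2 k l).op).hom)
    (fun k l => (R.obj.map (p1 k l ≫ h k).op).hom) (fun k l => (R.obj.map (a2 k l).op).hom)
    (fun k l => (R.obj.map (b2 k l).op).hom)
    (pairRes π.val s g (𝟙 E) g (Category.comp_id g))
    (fun k => pairRes π.val s (h k) (𝟙 E) (h k) (e1 k))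
    (fun k => pairRes π.val s (a k) g (a k ≫ g) rfl)
    (fun k => pairRes π.val s (b k) (h k) (a k ≫ g) (hw' k))
    (fun k l => pairRes π.val s (p1 k l) (h k) (p1 k l ≫ h k) rfl)
    (fun k l => pairRes π.val s (p2 k l) (h l) (p1 k l ≫ h k) (e4 k l))
    (fun k l => pairRes π.val s (s1 k l) (a k ≫ g) (a2 k l ≫ g) (e2 k l))
    (fun k l => pairRes π.val s (s2 k l) (a l ≫ g) (a2 k l ≫ g) (e3 k l))
    (fun k l => pairRes π.val s (b2 k l) (p1 k l ≫ h k) (a2 k l ≫ g) (hw'' k l))
    (D.flat g hE hE') hT' hT''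
    (fun k l => ringMap_comp (h k) (p1 k l))
    (fun k l => by rw [hw k l]; exact ringMap_comp (h l) (p2 k l))
    (fun k l => by rw [← hs1a k l]; exact ringMap_comp (a k) (s1 k l))
    (fun k l => by rw [← hs2a k l]; exact ringMap_comp (a l) (s2 k l))
    (fun k x => pairRes_pairRes_eq π.val s (hw' k).symm _ _ _ _ _ _ _ _ x)
    (fun k l x => pairRes_pairRes_eq π.val s (hs1b k l) _ _ _ _ _ _ _ _ x)
    (fun k l x => pairRes_pairRes_eq π.val s (hs2b k l) _ _ _ _ _ _ _ _ x)
    (fun k l x => pairRes_pairRes_eq π.val s (hw k l) _ _ _ _ _ _ _ _ x)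
    (fun k l x => pairRes_pairRes_eq π.val s ((hs1a k l).trans (hs2a k l).symm) _ _ _ _ _ _ _ _ x)
    (fun x hx => pairSub_eq_zero_of_cover π s (𝟙 E) h hcov h e1 x hx)
    (fun q hq => pairSub_exists_of_cover π s (𝟙 E) h hcov h e1 p1 p2 hpull
      (fun k l => p1 k l ≫ h k) (fun k l => rfl) e4 q hq)
    (fun x hx => pairSub_eq_zero_of_cover π s g a hcov' (fun k => a k ≫ g) (fun k => rfl) x hx)
    (fun k => by
      obtain ⟨t, ht⟩ := hlift (h k) (hmem k)
      exact isBC_pairRes_of_lift ι.val π.val s D hex hinj h₁ (b k) (h k) (a k ≫ g) (hw' k)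
        (hAff k) (hP' k) t ht)
    (fun k l => by
      obtain ⟨t, ht⟩ := hlift (p1 k l ≫ h k) (S.downward_closed (hmem k) (p1 k l))
      exact isBC_pairRes_of_lift ι.val π.val s D hex hinj h₁ (b2 k l) (p1 k l ≫ h k) (a2 k l ≫ g)
        (hw'' k l) (hP k l) (hP'' k l) t ht)

/-- `M₂(E) → M₃(E)` is surjective for `E` affine, if `M₁` has base change on affines and `π` is
locally surjective. -/
theorem app_surjective_of_ext (D : AffineData J R.obj)
    (hex : ∀ W : C, Function.Exact (ι.val.app (op W)) (π.val.app (op W)))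
    (hinj : ∀ W : C, Function.Injective (ι.val.app (op W))) (h₁ : HasBCOn D M₁.val)
    (hloc : ∀ (E : C) (s : M₃.val.obj (op E)), ∃ S : Sieve E, S ∈ J E ∧
      ∀ ⦃V : C⦄ (a : V ⟶ E), S a →
        ∃ t : M₂.val.obj (op V), π.val.app (op V) t = M₃.val.restrictₛₗ a.op s)
    {E : C} (hE : D.Aff E) : Function.Surjective (π.val.app (op E)) := by
  intro s
  obtain ⟨S, hS, hlift⟩ := hloc E s
  obtain ⟨n, V, h, hAff, hmem, hcov, hff⟩ := D.exists_cover hE S hS
  let 𝔞 : Ideal (R.obj.obj (op E)) := LinearMap.range (pairSnd π.val s (𝟙 E))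
  have h𝔞 : 𝔞 = ⊤ := by
    refine eq_top_of_forall_map_eq_top (fun k => (R.obj.map (h k).op).hom) hff 𝔞 (fun m => ?_)
    rw [Ideal.eq_top_iff_one]
    have hbc := isBC_pairRes ι π s D hex hinj h₁ hE S hS hlift (h m) (hAff m)
    have hspan := hbc.span_range
    obtain ⟨t, ht⟩ := hlift (h m) (hmem m)
    let x : pairSub π.val s (h m) := ⟨(t, 1), by
      rw [mem_pairSub_iff]
      change _ = (1 : R.obj.obj (op (V m))) • _
      rw [one_smul]
      exact ht⟩
    have hx : x ∈ Submodule.span (R.obj.obj (op (V m)))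
        (Set.range (pairRes π.val s (h m) (𝟙 E) (h m) (Category.comp_id (h m)))) := by
      rw [hspan]
      trivial
    have h2 : pairSnd π.val s (h m) x ∈ Submodule.map (pairSnd π.val s (h m))
        (Submodule.span (R.obj.obj (op (V m)))
          (Set.range (pairRes π.val s (h m) (𝟙 E) (h m) (Category.comp_id (h m))))) :=
      Submodule.mem_map_of_mem hx
    rw [Submodule.map_span] at h2
    have h3 : Submodule.span (R.obj.obj (op (V m))) (pairSnd π.val s (h m) ''
        Set.range (pairRes π.val s (h m) (𝟙 E) (h m) (Category.comp_id (h m)))) ≤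
        Ideal.map (R.obj.map (h m).op).hom 𝔞 := by
      rw [Submodule.span_le]
      rintro _ ⟨_, ⟨y, rfl⟩, rfl⟩
      exact Ideal.mem_map_of_mem _ ⟨y, rfl⟩
    exact h3 h2
  have h1 : (1 : R.obj.obj (op E)) ∈ 𝔞 := by
    rw [h𝔞]
    trivial
  obtain ⟨x, hx⟩ := h1
  refine ⟨x.1.1, ?_⟩
  have h2 := (mem_pairSub_iff π.val s (𝟙 E) x.1).1 x.2
  have hx2 : x.1.2 = 1 := hx
  rw [hx2, one_smul] at h2
  rw [h2]
  change M₃.val.map (𝟙 E).op s = s
  rw [op_id, PresheafOfModules.map_id]
  rfl

/-- **Extensions of sheaves of modules with base change on affines have base change on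
affines.** -/
theorem hasBCOn_of_ext (D : AffineData J R.obj)
    (hex : ∀ W : C, Function.Exact (ι.val.app (op W)) (π.val.app (op W)))
    (hinj : ∀ W : C, Function.Injective (ι.val.app (op W)))
    (hloc : ∀ (E : C) (s : M₃.val.obj (op E)), ∃ S : Sieve E, S ∈ J E ∧
      ∀ ⦃V : C⦄ (a : V ⟶ E), S a →
        ∃ t : M₂.val.obj (op V), π.val.app (op V) t = M₃.val.restrictₛₗ a.op s)
    (h₁ : HasBCOn D M₁.val) (h₃ : HasBCOn D M₃.val) : HasBCOn D M₂.val := by
  intro E E' g hE hE'
  exact IsBC.of_shortExact (M₁.val.restrictₛₗ g.op) (M₂.val.restrictₛₗ g.op)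
    (M₃.val.restrictₛₗ g.op)
    (ι.val.app (op E)).hom (π.val.app (op E)).hom (ι.val.app (op E')).hom (π.val.app (op E')).hom
    (fun k => (PresheafOfModules.naturality_apply ι.val g.op k).symm)
    (fun x => (PresheafOfModules.naturality_apply π.val g.op x).symm)
    (hex E) (app_surjective_of_ext ι π D hex hinj h₁ hloc hE) (hinj E') (hex E')
    (h₁ g hE hE') (h₃ g hE hE')

end Sheaf

section Epi

variable {R : Sheaf J RingCat.{w}} [IsCommPresheaf R.obj]
  [HasSheafify J AddCommGrpCat.{w}] [J.WEqualsLocallyBijective AddCommGrpCat.{w}]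

/-- sections of the target of an epimorphism of sheaves of modules lift locally. -/
theorem exists_sieve_lift_of_epi {F N : SheafOfModules.{w} R} (π : F ⟶ N) [Epi π] (E : C)
    (s : N.val.obj (op E)) :
    ∃ S : Sieve E, S ∈ J E ∧ ∀ ⦃V : C⦄ (a : V ⟶ E), S a →
      ∃ t : F.val.obj (op V), π.val.app (op V) t = N.val.restrictₛₗ a.op s := by
  let adj := PresheafOfModules.sheafificationAdjunction (𝟙 R.obj) (J := J) (R := R)
  let ι := SheafOfModules.forget.{w} R ⋙ PresheafOfModules.restrictScalars (𝟙 R.obj)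
  let a := PresheafOfModules.sheafification.{w} (𝟙 R.obj) (J := J) (R := R)
  let P := cokernel (ι.map π)
  let q : ι.obj N ⟶ P := cokernel.π (ι.map π)
  let η : P ⟶ ι.obj (a.obj P) := adj.unit.app P
  have hη : η = 0 := by
    have h1 : q ≫ η = 0 := by
      obtain ⟨ψ, hψ⟩ := ι.map_surjective (q ≫ η)
      have h2 : π ≫ ψ = 0 := by
        apply ι.map_injective
        rw [ι.map_comp, hψ, ← Category.assoc, cokernel.condition, zero_comp, ι.map_zero]
      have h3 : ψ = 0 := by
        rw [← cancel_epi π, h2, comp_zero]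
      rw [← hψ, h3, ι.map_zero]
    rw [← cancel_epi q, h1, comp_zero]
  have hloc : Presheaf.IsLocallyInjective J ((PresheafOfModules.toPresheaf R.obj).map η) := by
    have : (PresheafOfModules.toPresheaf R.obj).map η = CategoryTheory.toSheafify J P.presheaf :=
      PresheafOfModules.toPresheaf_map_sheafificationAdjunction_unit_app (𝟙 R.obj) P
    rw [this]
    exact (J.W_toSheafify P.presheaf).isLocallyInjective
  have hS := Presheaf.equalizerSieve_mem J ((PresheafOfModules.toPresheaf R.obj).map η)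
    (X := op E) (q.app (op E) s) 0 (by
      change η.app (op E) (q.app (op E) s) = η.app (op E) 0
      rw [hη]
      rfl)
  refine ⟨_, hS, ?_⟩
  intro V b hb
  have h1 : P.map b.op (q.app (op E) s) = P.map b.op 0 := hb
  rw [map_zero] at h1
  have h2 : q.app (op V) ((ι.obj N).map b.op s) = 0 :=
    (PresheafOfModules.naturality_apply q b.op s).trans h1
  -- exactness of sections
  let T : ShortComplex (PresheafOfModules.{w} R.obj) :=
    ShortComplex.mk (ι.map π) q (cokernel.condition _)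
  have hT : T.Exact := T.exact_of_g_is_cokernel (cokernelIsCokernel _)
  have hTV : (T.map (PresheafOfModules.evaluation R.obj (op V))).Exact :=
    hT.map_of_epi_of_preservesCokernel _ inferInstance inferInstance
  rw [ShortComplex.moduleCat_exact_iff] at hTV
  obtain ⟨t, ht⟩ := hTV ((ι.obj N).map b.op s) h2
  exact ⟨t, ht⟩

/-- **Extensions of sheaves of modules with base change on affines have base change on affines**
(short exact sequence form). -/
theorem hasBCOn_of_shortExact (D : AffineData J R.obj) (T : ShortComplex (SheafOfModules.{w} R))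
    (hT : T.ShortExact) (h₁ : HasBCOn D T.X₁.val) (h₃ : HasBCOn D T.X₃.val) :
    HasBCOn D T.X₂.val := by
  haveI := hT.epi_g
  have h := fun W : C => app_injective_and_exact_of_isLimit T.g (KernelFork.ofι T.f T.zero)
    hT.fIsKernel (op W)
  exact hasBCOn_of_ext T.f T.g D (fun W => (h W).2) (fun W => (h W).1)
    (exists_sieve_lift_of_epi T.g) h₁ h₃

end Epi

end Groth.Agent.Lib.Seat48.BCSite
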