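import Mathlib
import Groth.Agent.Lib.Seat48ExtBC

/-!
# Kernels, cokernels, colimits and extensions of sheaves of modules with base change on affines

Namespace `Groth.Agent.Lib.Seat48.BCSite`.  Convenience forms of the stability results (seat 48).
-/

set_option autoImplicit false
set_option linter.unusedSectionVars false

universe w v₁ u₁ v₂ u₂

open CategoryTheory Limits Opposite

namespace Groth.Agent.Lib.Seat48.BCSite

open Groth.Agent.Lib.Seat48.BCAlg

attribute [local instance] commRingSect

variable {C : Type u₁} [Category.{v₁} C]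
variable {J : GrothendieckTopology C} {R : Sheaf J RingCat.{w}} [IsCommPresheaf R.obj]
  [HasSheafify J AddCommGrpCat.{w}] [J.WEqualsLocallyBijective AddCommGrpCat.{w}]

variable (D : AffineData J R.obj)

include D

theorem hasBCOn_kernel {F G : SheafOfModules.{w} R} (φ : F ⟶ G) (hF : HasBCOn D F.val)
    (hG : HasBCOn D G.val) : HasBCOn D (kernel φ).val :=
  hasBCOn_of_isLimit_kernelFork D φ (KernelFork.ofι (kernel.ι φ) (kernel.condition φ))
    (kernelIsKernel φ) hF hG

theorem hasBCOn_cokernel {F G : SheafOfModules.{w} R} (φ : F ⟶ G) (hF : HasBCOn D F.val)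
    (hG : HasBCOn D G.val) : HasBCOn D (cokernel φ).val :=
  hasBCOn_of_isColimit_cokernelCofork D φ (CokernelCofork.ofπ (cokernel.π φ) (cokernel.condition φ))
    (cokernelIsCokernel φ) hF hG

theorem hasBCOn_colimit {K : Type u₂} [Category.{v₂} K]
    [HasColimitsOfShape K AddCommGrpCat.{w}] (F : K ⥤ SheafOfModules.{w} R)
    [HasColimit F] (h : ∀ k, HasBCOn D (F.obj k).val) : HasBCOn D (colimit F).val :=
  hasBCOn_of_isColimit D F (colimit.cocone F) (colimit.isColimit F) h

theorem hasBCOn_X₃_of_shortExact (T : ShortComplex (SheafOfModules.{w} R)) (hT : T.ShortExact)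
    (h₁ : HasBCOn D T.X₁.val) (h₂ : HasBCOn D T.X₂.val) : HasBCOn D T.X₃.val :=
  hasBCOn_of_isColimit_cokernelCofork D T.f (CokernelCofork.ofπ T.g T.zero) hT.gIsCokernel h₁ h₂

theorem hasBCOn_X₁_of_shortExact (T : ShortComplex (SheafOfModules.{w} R)) (hT : T.ShortExact)
    (h₂ : HasBCOn D T.X₂.val) (h₃ : HasBCOn D T.X₃.val) : HasBCOn D T.X₁.val :=
  hasBCOn_of_isLimit_kernelFork D T.g (KernelFork.ofι T.f T.zero) hT.fIsKernel h₂ h₃

end Groth.Agent.Lib.Seat48.BCSite
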