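import Mathlib
import Groth.Agent.Lib.Seat48ExtBC2

/-!
# Sections over affines of free modules and of filtered colimits (seat 48)

Namespace `Groth.Agent.Lib.Seat48.BCSite`.

* `span_ιFree_eq_top`: the sections of a finite free sheaf of modules are spanned by the generators.
* `exists_rep_of_isColimit`: a section over an affine object of a filtered colimit of sheaves of
  modules with base change on affines comes from a section of one of the terms.
* `mono_of_app_injective`: a morphism of sheaves of modules which is injective on sections over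
  affine objects is a monomorphism.
-/

set_option autoImplicit false
set_option linter.unusedSectionVars false
set_option linter.style.haveILetI false

universe w v₁ u₁ v₂ u₂

open CategoryTheory Limits Opposite

namespace Groth.Agent.Lib.Seat48.BCSite

open Groth.Agent.Lib.Seat48.BCAlg

attribute [local instance] commRingSect

variable {C : Type u₁} [Category.{v₁} C]
variable {J : GrothendieckTopology C} {R : Sheaf J RingCat.{w}} [IsCommPresheaf R.obj]
  [HasSheafify J AddCommGrpCat.{w}] [J.WEqualsLocallyBijective AddCommGrpCat.{w}]

/-- sections of a finite free sheaf of modules are spanned by the generators. -/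
theorem span_ιFree_eq_top (I : Type w) [Finite I] (X : Cᵒᵖ) :
    Submodule.span (R.obj.obj X) (Set.range (fun i : I =>
      ((SheafOfModules.ιFree (R := R) i).val.app X).hom (1 : R.obj.obj X))) = ⊤ := by
  classical
  let G := SheafOfModules.evaluation.{w} R X
  haveI : G.Additive := by
    dsimp only [G, SheafOfModules.evaluation]
    infer_instance
  have hc : IsColimit (G.mapCocone (SheafOfModules.freeCofan (R := R) I)) :=
    isColimitOfPreserves G (SheafOfModules.isColimitFreeCofan (R := R) I)
  have key : ∀ (i : I) (r : R.obj.obj X),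
      ((SheafOfModules.ιFree (R := R) i).val.app X).hom r ∈
        Submodule.span (R.obj.obj X) (Set.range (fun i : I =>
          ((SheafOfModules.ιFree (R := R) i).val.app X).hom (1 : R.obj.obj X))) := by
    intro i r
    have h2 : ((SheafOfModules.ιFree (R := R) i).val.app X).hom r =
        r • ((SheafOfModules.ιFree (R := R) i).val.app X).hom (1 : R.obj.obj X) := by
      rw [← map_smul]
      congr 1
      exact (mul_one r).symm
    rw [h2]
    exact Submodule.smul_mem _ _ (Submodule.subset_span ⟨i, rfl⟩)
  refine eq_top_of_isColimit _ hc _ ?_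
  rintro ⟨i⟩ r
  exact key i r

variable (D : AffineData J R.obj)

include D in
/-- **a section over an affine object of a filtered colimit of sheaves of modules with base change on
affines comes from one of the terms.** -/
theorem exists_rep_of_isColimit {K : Type w} [SmallCategory K] [IsFiltered K]
    (F : K ⥤ SheafOfModules.{w} R) (c : Cocone F) (hc : IsColimit c)
    (h : ∀ k, HasBCOn D (F.obj k).val) {W : C} (hW : D.Aff W) (y : c.pt.val.obj (op W)) :
    ∃ (k : K) (x : (F.obj k).val.obj (op W)), (c.ι.app k).val.app (op W) x = y := by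
  let adj := PresheafOfModules.sheafificationAdjunction (𝟙 R.obj) (J := J) (R := R)
  let ι := SheafOfModules.forget.{w} R ⋙ PresheafOfModules.restrictScalars (𝟙 R.obj)
  let a := PresheafOfModules.sheafification.{w} (𝟙 R.obj) (J := J) (R := R)
  let Q := colimit (F ⋙ ι)
  have hQ : HasBCOn D Q := fun _ _ g hE hE' =>
    hasBCAt_of_isColimit (F ⋙ ι) (colimit.cocone _)
      (fun X => isColimitOfPreserves (PresheafOfModules.evaluation R.obj X) (colimit.isColimit _))
      g (fun k => h k g hE hE')
  let η : Q ⟶ ι.obj (a.obj Q) := adj.unit.app Q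
  have hη : (PresheafOfModules.toPresheaf R.obj).map η = CategoryTheory.toSheafify J Q.presheaf :=
    PresheafOfModules.toPresheaf_map_sheafificationAdjunction_unit_app (𝟙 R.obj) Q
  have : Presheaf.IsLocallyInjective J ((PresheafOfModules.toPresheaf R.obj).map η) := by
    rw [hη]
    exact (J.W_toSheafify Q.presheaf).isLocallyInjective
  have : Presheaf.IsLocallySurjective J ((PresheafOfModules.toPresheaf R.obj).map η) := by
    rw [hη]
    exact (J.W_toSheafify Q.presheaf).isLocallySurjective
  have hsep : Presheaf.IsSeparated J (ι.obj (a.obj Q)).presheaf :=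
    Presheaf.IsSheaf.isSeparated (a.obj Q).isSheaf
  have hbij := app_bijective_of_locallyBijective D η hsep (fun g hE hE' => hQ g hE hE') hW
  let e : F ≅ (F ⋙ ι) ⋙ a := Functor.isoWhiskerLeft F (asIso adj.counit).symm
  let i : c.pt ≅ a.obj Q :=
    IsColimit.coconePointsIsoOfNatIso hc
      (isColimitOfPreserves a (colimit.isColimit (F ⋙ ι))) e
  -- compatibility of the legs
  have hleg : ∀ k, ι.map (c.ι.app k) ≫ ι.map i.hom = colimit.ι (F ⋙ ι) k ≫ η := by
    intro k
    have h1 : c.ι.app k ≫ i.hom = e.hom.app k ≫ a.map (colimit.ι (F ⋙ ι) k) :=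
      IsColimit.comp_coconePointsIsoOfNatIso_hom hc _ e k
    have h2 : colimit.ι (F ⋙ ι) k ≫ η = adj.unit.app (ι.obj (F.obj k)) ≫
        ι.map (a.map (colimit.ι (F ⋙ ι) k)) := (adj.unit.naturality (colimit.ι (F ⋙ ι) k))
    have h3 : adj.unit.app (ι.obj (F.obj k)) ≫ ι.map (adj.counit.app (F.obj k)) = 𝟙 _ :=
      adj.right_triangle_components (F.obj k)
    have h4 : ι.map (e.hom.app k) = adj.unit.app (ι.obj (F.obj k)) := by
      have h5 : e.hom.app k ≫ adj.counit.app (F.obj k) = 𝟙 _ := by
        simp [e]
      have h6 : ι.map (e.hom.app k) ≫ ι.map (adj.counit.app (F.obj k)) = 𝟙 _ := by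
        rw [← ι.map_comp, h5, ι.map_id]
      haveI : IsIso (ι.map (adj.counit.app (F.obj k))) := inferInstance
      rw [← cancel_mono (ι.map (adj.counit.app (F.obj k))), h6]
      exact h3.symm
    rw [← ι.map_comp, h1, ι.map_comp, h4, h2]
  -- the section as an element of the presheaf colimit
  obtain ⟨q, hq⟩ := hbij.2 ((i.hom.val.app (op W)).hom y)
  -- elements of a filtered colimit of modules
  have hcW : IsColimit ((PresheafOfModules.evaluation R.obj (op W)).mapCocone
      (colimit.cocone (F ⋙ ι))) :=
    isColimitOfPreserves (PresheafOfModules.evaluation R.obj (op W)) (colimit.isColimit _)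
  obtain ⟨k, x, hx⟩ := Concrete.isColimit_exists_rep _ hcW q
  refine ⟨k, x, ?_⟩
  have h7 := congrArg (fun f : ι.obj (F.obj k) ⟶ ι.obj (a.obj Q) => (f.app (op W)).hom x) (hleg k)
  have hinj : Function.Injective (i.hom.val.app (op W)).hom := by
    have : IsIso ((SheafOfModules.forget R ⋙ PresheafOfModules.evaluation R.obj (op W)).map
        i.hom) := inferInstance
    exact (ConcreteCategory.bijective_of_isIso
      ((SheafOfModules.forget R ⋙ PresheafOfModules.evaluation R.obj (op W)).map i.hom)).1
  apply hinj
  rw [← hq, ← hx]
  exact h7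

include D in
/-- a morphism of sheaves of modules which is injective on sections over affine objects is a
monomorphism. -/
theorem mono_of_app_injective (hcov : D.AffCover) {F N : SheafOfModules.{w} R} (φ : F ⟶ N)
    (h : ∀ ⦃W : C⦄, D.Aff W → Function.Injective (φ.val.app (op W))) : Mono φ := by
  constructor
  intro T g₁ g₂ hg
  apply SheafOfModules.hom_ext
  apply PresheafOfModules.hom_ext
  intro X
  apply ModuleCat.hom_ext
  ext x
  have hsep := Presheaf.IsSheaf.isSeparated F.isSheaf
  refine hsep X.unop _ (hcov X.unop) _ _ ?_
  rintro Y f ⟨W, g, k, hW, rfl⟩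
  have e : ∀ z : F.val.obj X, F.val.presheaf.map (g ≫ k).op z =
      F.val.map g.op (F.val.map k.op z) := by
    intro z
    rw [op_comp, Functor.map_comp]
    rfl
  rw [e, e]
  congr 1
  apply h hW
  rw [← PresheafOfModules.naturality_apply, ← PresheafOfModules.naturality_apply]
  have h1 := congrArg (fun ψ : T ⟶ N => (ψ.val.app (op W)).hom (T.val.map k.op x)) hg
  exact h1

end Groth.Agent.Lib.Seat48.BCSite
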