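import Mathlib
import Groth.Agent.Lib.Seat48BCAlg8
import Groth.Agent.Lib.Seat48BCSite8

/-!
# Finite presentation of sections over affines (seat 48)

Namespace `Groth.Agent.Lib.Seat48.BCSite`.

* `finitePresentation_free_app`: sections of a finite free sheaf of modules are finitely presented.
* `finitePresentation_sections_of_presentation`, `finitePresentation_sections_of_isFinitePresentation`:
  sections over affines of a sheaf of modules of finite presentation with base change on affines
  form finitely presented modules.
-/

set_option autoImplicit false
set_option linter.unusedSectionVars false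
set_option linter.style.haveILetI false

universe w v₁ u₁

open CategoryTheory Limits Opposite

namespace Groth.Agent.Lib.Seat48.BCSite

open Groth.Agent.Lib.Seat48.BCAlg

attribute [local instance] commRingSect

variable {C : Type u₁} [Category.{v₁} C]
variable {J : GrothendieckTopology C} {R : Sheaf J RingCat.{w}} [IsCommPresheaf R.obj]

variable [HasSheafify J AddCommGrpCat.{w}] [J.WEqualsLocallyBijective AddCommGrpCat.{w}]

/-- sections of a finite free sheaf of modules form a finitely presented module. -/
theorem finitePresentation_free_app (I : Type w) [Finite I] (X : Cᵒᵖ) :
    Module.FinitePresentation (R.obj.obj X) ((SheafOfModules.free (R := R) I).val.obj X) := by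
  let G := SheafOfModules.evaluation.{w} R X
  haveI : G.Additive := by
    dsimp only [G, SheafOfModules.evaluation]
    infer_instance
  let e : G.obj (∐ fun _ : I => SheafOfModules.unit R) ≅
      ∐ fun _ : I => G.obj (SheafOfModules.unit R) := PreservesCoproduct.iso G _
  haveI h1 : Projective (G.obj (SheafOfModules.unit R)) := by
    have : Module.Projective (R.obj.obj X) (R.obj.obj X) := inferInstance
    exact (IsProjective.iff_projective _).1 this
  haveI h2 : Projective (G.obj (∐ fun _ : I => SheafOfModules.unit R)) :=
    Projective.of_iso e.symm inferInstance
  haveI h3 : Module.Projective (R.obj.obj X) ((SheafOfModules.free (R := R) I).val.obj X) :=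
    (IsProjective.iff_projective _).2 h2
  haveI := finite_free_app (R := R) I X
  exact Module.finitePresentation_of_projective _ _

variable (D : AffineData J R.obj)

/-- sections over an affine object of a sheaf of modules with a finite global presentation and with
base change on affines form a finitely presented module. -/
theorem finitePresentation_sections_of_presentation (M : SheafOfModules.{w} R)
    (P : M.Presentation) [P.IsFinite] (hM : HasBCOn D M.val) {W : C} (hW : D.Aff W) :
    Module.FinitePresentation (R.obj.obj (op W)) (M.val.obj (op W)) := by
  have hπ : Function.Surjective (P.generators.π.val.app (op W)) :=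
    app_surjective_of_epi D P.generators.π (hasBCOn_free D _) hM hW
  let c : KernelFork P.generators.π :=
    KernelFork.ofι (kernel.ι P.generators.π) (kernel.condition P.generators.π)
  have hc : IsLimit c := kernelIsKernel P.generators.π
  have hK : HasBCOn D (kernel P.generators.π).val :=
    hasBCOn_of_isLimit_kernelFork D P.generators.π c hc (hasBCOn_free D _) hM
  obtain ⟨-, hex⟩ := app_injective_and_exact_of_isLimit P.generators.π c hc (op W)
  have hρ : Function.Surjective (P.relations.π.val.app (op W)) :=
    app_surjective_of_epi D P.relations.π (hasBCOn_free D _) hK hW
  haveI := finitePresentation_free_app (R := R) P.generators.I (op W)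
  haveI := finite_free_app (R := R) P.relations.I (op W)
  refine Module.finitePresentation_of_surjective (P.generators.π.val.app (op W)).hom hπ ?_
  have hker : LinearMap.ker (P.generators.π.val.app (op W)).hom =
      LinearMap.range ((c.ι.val.app (op W)).hom ∘ₗ (P.relations.π.val.app (op W)).hom) := by
    rw [LinearMap.range_comp_of_range_eq_top _ (LinearMap.range_eq_top.2 hρ)]
    ext x
    exact hex x
  rw [hker, LinearMap.range_eq_map]
  exact Module.Finite.fg_top.map _

variable [∀ X, HasSheafify (J.over X) AddCommGrpCat.{w}]
  [∀ X, (J.over X).WEqualsLocallyBijective AddCommGrpCat.{w}]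

/-- **sections over affines of a sheaf of modules of finite presentation with base change on
affines form finitely presented modules.** -/
theorem finitePresentation_sections_of_isFinitePresentation (M : SheafOfModules.{w} R)
    [M.IsFinitePresentation] (h : HasBCOn D M.val) {W : C} (hW : D.Aff W) :
    Module.FinitePresentation (R.obj.obj (op W)) (M.val.obj (op W)) := by
  obtain ⟨σ, hσ⟩ := SheafOfModules.IsFinitePresentation.exists_quasicoherentData M
  obtain ⟨n, V, a, hAff, hmem, -, hff⟩ := D.exists_cover hW _ (σ.coversTop W)
  refine IsBC.finitePresentation_of_forall (fun k => (R.obj.map (a k).op).hom)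
    (fun k => M.val.restrictₛₗ (a k).op) hff (fun k => D.flat (a k) hW (hAff k))
    (fun k => h (a k) hW (hAff k)) (fun k => ?_)
  obtain ⟨i, ⟨b⟩⟩ := hmem k
  haveI := hσ.isFinite_presentation i
  exact finitePresentation_sections_of_presentation (D.over (σ.X i)) (M.over (σ.X i))
    (σ.presentation i) (hasBCOn_over D M h (σ.X i)) (W := Over.mk b) (hAff k)

end Groth.Agent.Lib.Seat48.BCSite
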