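import Mathlib
import Groth.Agent.Lib.Seat48ExtBC2

/-!
# Quasi-coherent modules for topologies with only trivial coverings (seat 48)

Namespace `Groth.Agent.Lib.Seat48.Chaotic`.

`IsTrivialTop J`: the only covering sieves of `J` are the maximal ones (the chaotic topology `⊥`
and its slices).  For such a topology and a sheaf of commutative rings `R`:

* `app_bijective_of_trivial`: locally bijective maps of presheaves of modules are bijective;
* `hasBCAt_of_isColimit`: base change of sections along a morphism is stable under colimits of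
  sheaves of modules; `hasBCAt_of_presentation`;
* `hasBCAt_of_isQuasicoherent`: quasi-coherent modules have base change along every morphism;
* `app_surjective_of_epi`: epimorphisms are surjective on sections.
-/

set_option autoImplicit false
set_option linter.unusedSectionVars false
set_option linter.style.haveILetI false

universe w v₁ u₁ v₂ u₂

open CategoryTheory Limits Opposite

namespace Groth.Agent.Lib.Seat48.Chaotic

open Groth.Agent.Lib.Seat48.BCAlg
open Groth.Agent.Lib.Seat48.BCSite

attribute [local instance] commRingSect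

section Algebra

open TensorProduct

variable {A B : Type w} [CommRing A] [CommRing B] {φ : A →+* B}
  {K F N K' F' N' : Type w} [AddCommGroup K] [AddCommGroup F] [AddCommGroup N]
  [AddCommGroup K'] [AddCommGroup F'] [AddCommGroup N']
  [Module A K] [Module A F] [Module A N] [Module B K'] [Module B F'] [Module B N']

/-- right exactness of base change: the kernel of the base change of a surjection is spanned by
the image of the kernel. -/
theorem span_range_of_exact
    (ρK : K →ₛₗ[φ] K') (ρF : F →ₛₗ[φ] F') (ρN : N →ₛₗ[φ] N')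
    (κ : K →ₗ[A] F) (π : F →ₗ[A] N) (κ' : K' →ₗ[B] F') (π' : F' →ₗ[B] N')
    (hκ : ∀ k, ρF (κ k) = κ' (ρK k)) (hπ : ∀ x, ρN (π x) = π' (ρF x))
    (hex : Function.Exact κ π) (hsurj : Function.Surjective π)
    (hinj' : Function.Injective κ') (hex' : Function.Exact κ' π')
    (hF : IsBC φ ρF) (hN : IsBC φ ρN) : Submodule.span B (Set.range ρK) = ⊤ := by
  letI : Algebra A B := φ.toAlgebra
  letI : Module A K' := Module.compHom K' φ
  haveI : IsScalarTower A B K' := IsScalarTower.of_algebraMap_smul (fun _ _ => rfl)
  letI : Module A F' := Module.compHom F' φ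
  haveI : IsScalarTower A B F' := IsScalarTower.of_algebraMap_smul (fun _ _ => rfl)
  letI : Module A N' := Module.compHom N' φ
  haveI : IsScalarTower A B N' := IsScalarTower.of_algebraMap_smul (fun _ _ => rfl)
  have hF' : IsBaseChange B (semiToLin φ ρF) := hF
  have hN' : IsBaseChange B (semiToLin φ ρN) := hN
  have h2 : ∀ y : B ⊗[A] F, π' (hF'.equiv y) = hN'.equiv (LinearMap.lTensor B π y) := by
    intro y
    induction y using TensorProduct.induction_on with
    | zero => simp
    | tmul b x =>
      rw [LinearMap.lTensor_tmul, IsBaseChange.equiv_tmul, IsBaseChange.equiv_tmul, map_smul]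
      congr 1
      exact (hπ x).symm
    | add z₁ z₂ h₁ h₂ => simp only [map_add, h₁, h₂]
  have hexT : Function.Exact (LinearMap.lTensor B κ) (LinearMap.lTensor B π) :=
    lTensor_exact B hex hsurj
  set P : Submodule B K' := Submodule.span B (Set.range ρK) with hP
  have h1 : ∀ z : B ⊗[A] K, ∃ p ∈ P, hF'.equiv (LinearMap.lTensor B κ z) = κ' p := by
    intro z
    induction z using TensorProduct.induction_on with
    | zero => exact ⟨0, P.zero_mem, by simp⟩
    | tmul b k =>
      refine ⟨b • ρK k, P.smul_mem b (Submodule.subset_span ⟨k, rfl⟩), ?_⟩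
      rw [LinearMap.lTensor_tmul, IsBaseChange.equiv_tmul, map_smul]
      congr 1
      exact hκ k
    | add z₁ z₂ h₁ h₂ =>
      obtain ⟨p₁, hp₁, e₁⟩ := h₁
      obtain ⟨p₂, hp₂, e₂⟩ := h₂
      exact ⟨p₁ + p₂, P.add_mem hp₁ hp₂, by simp only [map_add, e₁, e₂]⟩
  rw [eq_top_iff]
  intro x' _
  obtain ⟨y, hy⟩ := hF'.equiv.surjective (κ' x')
  have h3 : LinearMap.lTensor B π y = 0 := by
    apply hN'.equiv.injective
    rw [← h2, hy, map_zero]
    exact (hex' (κ' x')).2 ⟨x', rfl⟩
  obtain ⟨z, rfl⟩ := (hexT y).1 h3
  obtain ⟨p, hp, e⟩ := h1 z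
  have : x' = p := hinj' (hy.symm.trans e)
  rw [this]
  exact hp

end Algebra

variable {C : Type u₁} [Category.{v₁} C]

/-- the only covering sieves are the maximal ones. -/
def IsTrivialTop (J : GrothendieckTopology C) : Prop :=
  ∀ (X : C) (S : Sieve X), S ∈ J X → S = ⊤

theorem isTrivialTop_bot : IsTrivialTop (⊥ : GrothendieckTopology C) :=
  fun _ _ hS => GrothendieckTopology.bot_covering.1 hS

theorem IsTrivialTop.over {J : GrothendieckTopology C} (hJ : IsTrivialTop J) (X : C) :
    IsTrivialTop (J.over X) := by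
  intro Y S hS
  rw [GrothendieckTopology.mem_over_iff] at hS
  have h := hJ _ _ hS
  apply (Sieve.overEquiv Y).injective
  rw [h, map_top]

variable {J : GrothendieckTopology C}

section Presheaf

variable {R₀ : Cᵒᵖ ⥤ RingCat.{w}} {Q G : PresheafOfModules.{w} R₀} (η : Q ⟶ G)

theorem app_bijective_of_trivial (hJ : IsTrivialTop J)
    [Presheaf.IsLocallyInjective J ((PresheafOfModules.toPresheaf R₀).map η)]
    [Presheaf.IsLocallySurjective J ((PresheafOfModules.toPresheaf R₀).map η)]
    (E : C) : Function.Bijective (η.app (op E)) := by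
  constructor
  · intro x y hxy
    have hS := Presheaf.equalizerSieve_mem J ((PresheafOfModules.toPresheaf R₀).map η)
      (X := op E) x y hxy
    have h1 := hJ _ _ hS
    have h2 : (⊤ : Sieve E) (𝟙 E) := trivial
    rw [← h1] at h2
    have h3 : Q.map (𝟙 E).op x = Q.map (𝟙 E).op y := h2
    have h4 : ∀ z : Q.obj (op E), Q.map (𝟙 E).op z = z := fun z =>
      ConcreteCategory.congr_hom (Q.presheaf.map_id (op E)) z
    rw [h4, h4] at h3
    exact h3
  · intro f
    have hS := Presheaf.imageSieve_mem J ((PresheafOfModules.toPresheaf R₀).map η) (U := op E) f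
    have h1 := hJ _ _ hS
    have h2 : (⊤ : Sieve E) (𝟙 E) := trivial
    rw [← h1] at h2
    obtain ⟨t, ht⟩ := h2
    refine ⟨t, ?_⟩
    have h3 : η.app (op E) t = G.map (𝟙 E).op f := ht
    have h4 : G.map (𝟙 E).op f = f :=
      ConcreteCategory.congr_hom (G.presheaf.map_id (op E)) f
    rw [h4] at h3
    exact h3

end Presheaf

variable {R : Sheaf J RingCat.{w}} [IsCommPresheaf R.obj]
  [HasSheafify J AddCommGrpCat.{w}] [J.WEqualsLocallyBijective AddCommGrpCat.{w}]

/-- base change along a morphism is stable under colimits of sheaves of modules. -/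
theorem hasBCAt_of_isColimit (hJ : IsTrivialTop J) {K : Type u₂} [Category.{v₂} K]
    [HasColimitsOfShape K AddCommGrpCat.{w}]
    (F : K ⥤ SheafOfModules.{w} R) (c : Cocone F) (hc : IsColimit c) {E E' : C} (g : E' ⟶ E)
    (h : ∀ k, HasBCAt (F.obj k).val g) : HasBCAt c.pt.val g := by
  let adj := PresheafOfModules.sheafificationAdjunction (𝟙 R.obj) (J := J) (R := R)
  let ι := SheafOfModules.forget.{w} R ⋙ PresheafOfModules.restrictScalars (𝟙 R.obj)
  let a := PresheafOfModules.sheafification.{w} (𝟙 R.obj) (J := J) (R := R)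
  let Q := colimit (F ⋙ ι)
  have hQ : HasBCAt Q g :=
    BCSite.hasBCAt_of_isColimit (F ⋙ ι) (colimit.cocone _)
      (fun X => isColimitOfPreserves (PresheafOfModules.evaluation R.obj X) (colimit.isColimit _))
      g h
  let η : Q ⟶ ι.obj (a.obj Q) := adj.unit.app Q
  have hη : (PresheafOfModules.toPresheaf R.obj).map η = CategoryTheory.toSheafify J Q.presheaf :=
    PresheafOfModules.toPresheaf_map_sheafificationAdjunction_unit_app (𝟙 R.obj) Q
  have : Presheaf.IsLocallyInjective J ((PresheafOfModules.toPresheaf R.obj).map η) := by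
    rw [hη]
    exact (J.W_toSheafify Q.presheaf).isLocallyInjective
  have : Presheaf.IsLocallySurjective J ((PresheafOfModules.toPresheaf R.obj).map η) := by
    rw [hη]
    exact (J.W_toSheafify Q.presheaf).isLocallySurjective
  have h1 : HasBCAt (ι.obj (a.obj Q)) g :=
    hasBCAt_of_app_bijective η g (app_bijective_of_trivial η hJ E)
      (app_bijective_of_trivial η hJ E') hQ
  let e : F ≅ (F ⋙ ι) ⋙ a := Functor.isoWhiskerLeft F (asIso adj.counit).symm
  let i : c.pt ≅ a.obj Q :=
    IsColimit.coconePointsIsoOfNatIso hc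
      (isColimitOfPreserves a (colimit.isColimit (F ⋙ ι))) e
  have hbij : ∀ W : C, Function.Bijective (i.symm.hom.val.app (op W)) := by
    intro W
    have : IsIso ((SheafOfModules.forget R ⋙
        PresheafOfModules.evaluation R.obj (op W)).map i.symm.hom) := inferInstance
    exact ConcreteCategory.bijective_of_isIso
      ((SheafOfModules.forget R ⋙ PresheafOfModules.evaluation R.obj (op W)).map i.symm.hom)
  exact hasBCAt_of_app_bijective i.symm.hom.val g (hbij E) (hbij E') h1

omit [HasSheafify J AddCommGrpCat.{w}] [J.WEqualsLocallyBijective AddCommGrpCat.{w}] in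
theorem hasBCAt_unit {E E' : C} (g : E' ⟶ E) : HasBCAt (SheafOfModules.unit R).val g :=
  isBC_ringHom (R.obj.map g.op).hom

theorem hasBCAt_free (hJ : IsTrivialTop J) (I : Type w) {E E' : C} (g : E' ⟶ E) :
    HasBCAt (SheafOfModules.free (R := R) I).val g :=
  hasBCAt_of_isColimit hJ _ _ (SheafOfModules.isColimitFreeCofan (R := R) I) g
    (fun _ => hasBCAt_unit g)

theorem hasBCAt_of_isColimit_cokernelCofork (hJ : IsTrivialTop J) {A B : SheafOfModules.{w} R}
    (f : A ⟶ B) (c : CokernelCofork f) (hc : IsColimit c) {E E' : C} (g : E' ⟶ E)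
    (hA : HasBCAt A.val g) (hB : HasBCAt B.val g) : HasBCAt c.pt.val g := by
  refine hasBCAt_of_isColimit hJ (parallelPair f 0) c hc g ?_
  rintro (_ | _)
  · exact hA
  · exact hB

theorem hasBCAt_of_presentation (hJ : IsTrivialTop J) {M : SheafOfModules.{w} R}
    (P : M.Presentation) {E E' : C} (g : E' ⟶ E) : HasBCAt M.val g := by
  have h := hasBCAt_of_isColimit_cokernelCofork hJ _ _ P.isColimit g (hasBCAt_free hJ _ g)
    (hasBCAt_free hJ _ g)
  exact h

/-- epimorphisms are surjective on sections. -/
theorem app_surjective_of_epi (hJ : IsTrivialTop J) {F N : SheafOfModules.{w} R} (π : F ⟶ N)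
    [Epi π] (W : C) : Function.Surjective (π.val.app (op W)) := by
  intro s
  obtain ⟨S, hS, hlift⟩ := exists_sieve_lift_of_epi π W s
  have h1 := hJ _ _ hS
  have h2 : (⊤ : Sieve W) (𝟙 W) := trivial
  rw [← h1] at h2
  obtain ⟨t, ht⟩ := hlift (𝟙 W) h2
  refine ⟨t, ht.trans ?_⟩
  exact ConcreteCategory.congr_hom (N.val.presheaf.map_id (op W)) s

omit [IsCommPresheaf R.obj] in
/-- a morphism which is surjective on sections is an epimorphism. -/
theorem epi_of_app_surjective {F N : SheafOfModules.{w} R} (π : F ⟶ N)
    (h : ∀ W : C, Function.Surjective (π.val.app (op W))) : Epi π := by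
  have hls : Presheaf.IsLocallySurjective J ((PresheafOfModules.toPresheaf R.obj).map π.val) := by
    constructor
    intro X n
    refine J.superset_covering ?_ (J.top_mem X)
    intro Y f _
    obtain ⟨t, ht⟩ := h X n
    refine ⟨F.val.map f.op t, ?_⟩
    change π.val.app (op Y) (F.val.map f.op t) = N.val.map f.op n
    rw [PresheafOfModules.naturality_apply, ht]
  have : Sheaf.IsLocallySurjective ((SheafOfModules.toSheaf R).map π) := hls
  have h2 : Epi ((SheafOfModules.toSheaf R).map π) := Sheaf.epi_of_isLocallySurjective _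
  exact (SheafOfModules.toSheaf R).epi_of_epi_map h2

/-- kernels have base change along flat restriction maps. -/
theorem hasBCAt_of_isLimit_kernelFork {F N : SheafOfModules.{w} R} (π : F ⟶ N)
    (c : KernelFork π) (hc : IsLimit c) {E E' : C} (g : E' ⟶ E)
    (hflat : (R.obj.map g.op).hom.Flat)
    (hF : HasBCAt F.val g) (hN : HasBCAt N.val g) : HasBCAt c.pt.val g := by
  obtain ⟨hinj, hex⟩ := app_injective_and_exact_of_isLimit π c hc (op E)
  obtain ⟨hinj', hex'⟩ := app_injective_and_exact_of_isLimit π c hc (op E')
  exact IsBC.of_ker hflat (c.pt.val.restrictₛₗ g.op) (F.val.restrictₛₗ g.op)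
    (N.val.restrictₛₗ g.op) (c.ι.val.app (op E)).hom (π.val.app (op E)).hom
    (c.ι.val.app (op E')).hom (π.val.app (op E')).hom
    (fun k => (PresheafOfModules.naturality_apply c.ι.val g.op k).symm)
    (fun x => (PresheafOfModules.naturality_apply π.val g.op x).symm)
    hinj hex hinj' hex' hF hN

/-- the middle term of a short exact sequence has base change if the outer terms do. -/
theorem hasBCAt_X₂_of_shortExact (hJ : IsTrivialTop J) (T : ShortComplex (SheafOfModules.{w} R))
    (hT : T.ShortExact) {E E' : C} (g : E' ⟶ E)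
    (h₁ : HasBCAt T.X₁.val g) (h₃ : HasBCAt T.X₃.val g) : HasBCAt T.X₂.val g := by
  haveI := hT.epi_g
  obtain ⟨hinj, hex⟩ := app_injective_and_exact_of_isLimit T.g (KernelFork.ofι T.f T.zero)
    hT.fIsKernel (op E)
  obtain ⟨hinj', hex'⟩ := app_injective_and_exact_of_isLimit T.g (KernelFork.ofι T.f T.zero)
    hT.fIsKernel (op E')
  exact IsBC.of_shortExact (T.X₁.val.restrictₛₗ g.op) (T.X₂.val.restrictₛₗ g.op)
    (T.X₃.val.restrictₛₗ g.op) (T.f.val.app (op E)).hom (T.g.val.app (op E)).hom
    (T.f.val.app (op E')).hom (T.g.val.app (op E')).hom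
    (fun k => (PresheafOfModules.naturality_apply T.f.val g.op k).symm)
    (fun x => (PresheafOfModules.naturality_apply T.g.val g.op x).symm)
    hex (app_surjective_of_epi hJ T.g E) hinj' hex' h₁ h₃

section QCoh

variable [∀ X, HasSheafify (J.over X) AddCommGrpCat.{w}]
  [∀ X, (J.over X).WEqualsLocallyBijective AddCommGrpCat.{w}]

/-- **quasi-coherent modules have base change along every morphism.** -/
theorem hasBCAt_of_isQuasicoherent (hJ : IsTrivialTop J) (M : SheafOfModules.{w} R)
    [M.IsQuasicoherent] {E E' : C} (g : E' ⟶ E) : HasBCAt M.val g := by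
  obtain ⟨⟨q⟩⟩ := ‹M.IsQuasicoherent›
  have h1 := hJ _ _ (q.coversTop E)
  have h2 : (⊤ : Sieve E) (𝟙 E) := trivial
  rw [← h1] at h2
  obtain ⟨i, ⟨c⟩⟩ := h2
  have h3 := hasBCAt_of_presentation (hJ.over (q.X i)) (q.presentation i)
    (E := Over.mk c) (E' := Over.mk (g ≫ c)) (Over.homMk g rfl)
  exact h3

end QCoh

section Generators

variable {T : C} (hT : IsTerminal T)

/-- sections which span the sections over every object generate. -/
theorem epi_freeHomEquiv_symm_of_span (N : SheafOfModules.{w} R) {I : Type w}
    (s : I → N.sections)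
    (hs : ∀ W : C, Submodule.span (R.obj.obj (op W))
        (Set.range (fun i => PresheafOfModules.sections.eval (s i) (op W))) = ⊤) :
    Epi (N.freeHomEquiv.symm s) := by
  refine epi_of_app_surjective _ (fun W => ?_)
  rw [← LinearMap.range_eq_top (f := ((N.freeHomEquiv.symm s).val.app (op W)).hom), eq_top_iff,
    ← hs W, Submodule.span_le]
  rintro _ ⟨i, rfl⟩
  exact ⟨_, (sections_val_eq N s i (op W)).symm⟩

/-- a family of sections over the terminal object whose restrictions span generates. -/
noncomputable def generatingSectionsOfSpan (N : SheafOfModules.{w} R) {I : Type w}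
    (g : I → N.val.obj (op T))
    (hg : ∀ W : C, Submodule.span (R.obj.obj (op W))
      (Set.range (fun i => N.val.map (hT.from W).op (g i))) = ⊤) : N.GeneratingSections where
  I := I
  s i := sectionOfTerminal hT N (g i)
  epi := epi_freeHomEquiv_symm_of_span N _ hg

include hT in
/-- a sheaf of modules with base change from the terminal object has a presentation. -/
theorem nonempty_presentation (hJ : IsTrivialTop J) (N : SheafOfModules.{w} R)
    (hN : ∀ W : C, HasBCAt N.val (hT.from W)) : Nonempty N.Presentation := by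
  let G : N.GeneratingSections :=
    generatingSectionsOfSpan hT N (fun p : N.val.obj (op T) => p) (fun W => by
      have := (hN W).span_image Set.univ (by
        rw [eq_top_iff]
        intro x _
        exact Submodule.subset_span (Set.mem_univ x))
      rw [Set.image_univ] at this
      exact this)
  let c : KernelFork G.π := KernelFork.ofι (kernel.ι G.π) (kernel.condition G.π)
  have hc : IsLimit c := kernelIsKernel G.π
  refine ⟨⟨G, generatingSectionsOfSpan hT (kernel G.π)
    (fun p : (kernel G.π).val.obj (op T) => p) (fun W => ?_)⟩⟩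
  obtain ⟨hinj, hex⟩ := app_injective_and_exact_of_isLimit G.π c hc (op T)
  obtain ⟨hinj', hex'⟩ := app_injective_and_exact_of_isLimit G.π c hc (op W)
  exact span_range_of_exact ((kernel G.π).val.restrictₛₗ (hT.from W).op)
    ((SheafOfModules.free (R := R) G.I).val.restrictₛₗ (hT.from W).op)
    (N.val.restrictₛₗ (hT.from W).op) (c.ι.val.app (op T)).hom (G.π.val.app (op T)).hom
    (c.ι.val.app (op W)).hom (G.π.val.app (op W)).hom
    (fun k => (PresheafOfModules.naturality_apply c.ι.val (hT.from W).op k).symm)
    (fun x => (PresheafOfModules.naturality_apply G.π.val (hT.from W).op x).symm)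
    hex (app_surjective_of_epi hJ G.π T) hinj' hex' (hasBCAt_free hJ _ _) (hN W)

end Generators

section QCoh'

variable [∀ X, HasSheafify (J.over X) AddCommGrpCat.{w}]
  [∀ X, (J.over X).WEqualsLocallyBijective AddCommGrpCat.{w}]

/-- **a sheaf of modules with base change along every morphism is quasi-coherent.** -/
theorem isQuasicoherent_of_forall_hasBCAt (hJ : IsTrivialTop J) (M : SheafOfModules.{w} R)
    (h : ∀ ⦃E E' : C⦄ (g : E' ⟶ E), HasBCAt M.val g) : M.IsQuasicoherent := by
  have hp : ∀ i : C, Nonempty (M.over i).Presentation := fun i =>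
    nonempty_presentation (T := Over.mk (𝟙 i)) Over.mkIdTerminal (hJ.over i) (M.over i)
      (fun W => h (Over.mkIdTerminal.from W).left)
  let q : SheafOfModules.QuasicoherentData.{u₁} M :=
    { I := C
      X := fun i => i
      coversTop := by
        intro E
        refine J.superset_covering ?_ (J.top_mem E)
        intro Y f _
        exact ⟨Y, ⟨𝟙 Y⟩⟩
      presentation := fun i => (hp i).some }
  exact q.isQuasicoherent

theorem isQuasicoherent_iff_forall_hasBCAt (hJ : IsTrivialTop J) (M : SheafOfModules.{w} R) :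
    M.IsQuasicoherent ↔ ∀ ⦃E E' : C⦄ (g : E' ⟶ E), HasBCAt M.val g :=
  ⟨fun _ _ _ g => hasBCAt_of_isQuasicoherent hJ M g, isQuasicoherent_of_forall_hasBCAt hJ M⟩

end QCoh'

end Groth.Agent.Lib.Seat48.Chaotic
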