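import Mathlib
import Groth.Agent.Lib.Seat48Chaotic

/-!
# Base change maps as adjoints of restriction maps (seat 48)

Namespace `Groth.Agent.Lib.Seat48.Chaotic`.

* `isIso_homEquiv_symm_iff_isBC`: for a ring map `f : A → B`, an `A`-module `M`, a `B`-module `N`
  and an `A`-linear map `ρ : M → N`, the adjoint `B ⊗_A M → N` of `ρ` (Mathlib's
  `ModuleCat.extendRestrictScalarsAdj`) is an isomorphism iff `ρ` exhibits `N` as the base change
  of `M` (`BCAlg.IsBC`).
-/

set_option autoImplicit false
set_option linter.unusedSectionVars false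
set_option linter.style.haveILetI false

universe u

open CategoryTheory Limits Opposite

namespace Groth.Agent.Lib.Seat48.Chaotic

open Groth.Agent.Lib.Seat48.BCAlg

variable {A B : Type u} [CommRing A] [CommRing B] (f : A →+* B)
  (M : ModuleCat.{u} A) (N : ModuleCat.{u} B)

/-- a morphism to a restriction of scalars as a semilinear map. -/
noncomputable def semiOfHom {T : ModuleCat.{u} B} (ρ : M ⟶ (ModuleCat.restrictScalars f).obj T) : M →ₛₗ[f] T where
  toFun m := ρ m
  map_add' := map_add ρ.hom
  map_smul' a m := (ρ.hom.map_smul a m)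

/-- a semilinear map as a morphism to a restriction of scalars. -/
noncomputable def homOfSemi {T : ModuleCat.{u} B} (σ : M →ₛₗ[f] T) : M ⟶ (ModuleCat.restrictScalars f).obj T :=
  ModuleCat.ofHom (Y := (ModuleCat.restrictScalars f).obj T)
    { toFun := fun m => σ m
      map_add' := σ.map_add
      map_smul' := fun a m => σ.map_smulₛₗ a m }

theorem isIso_homEquiv_symm_iff_isBC (ρ : M ⟶ (ModuleCat.restrictScalars f).obj N) :
    IsIso (((ModuleCat.extendRestrictScalarsAdj f).homEquiv M N).symm ρ) ↔
      IsBC f (semiOfHom f M ρ) := by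
  let adj := ModuleCat.extendRestrictScalarsAdj.{u} f
  set τ := (adj.homEquiv M N).symm ρ with hτ
  have key : ∀ (T : ModuleCat.{u} B) (τ' : N ⟶ T),
      adj.homEquiv M T (τ ≫ τ') = ρ ≫ (ModuleCat.restrictScalars f).map τ' := by
    intro T τ'
    rw [adj.homEquiv_naturality_right, hτ, Equiv.apply_symm_apply]
  constructor
  · intro h
    apply IsBC.of_existsUnique_lift
    intro T _ _ σ
    have hb := (isIso_iff_coyoneda_map_bijective τ).1 h (ModuleCat.of B T)
    obtain ⟨τ', hτ'⟩ := hb.2 ((adj.homEquiv M (ModuleCat.of B T)).symm (homOfSemi f M σ))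
    have hτ'' : τ ≫ τ' = (adj.homEquiv M (ModuleCat.of B T)).symm (homOfSemi f M σ) := hτ'
    have h1 : ρ ≫ (ModuleCat.restrictScalars f).map τ' = homOfSemi f M σ := by
      rw [← key, hτ'', Equiv.apply_symm_apply]
    refine ⟨τ'.hom, fun m => ?_, ?_⟩
    · exact ConcreteCategory.congr_hom h1 m
    · intro τ₂ hτ₂
      have h2 : ρ ≫ (ModuleCat.restrictScalars f).map (ModuleCat.ofHom τ₂) =
          homOfSemi f M σ := by
        ext m
        exact hτ₂ m
      have h3 : τ ≫ ModuleCat.ofHom τ₂ = τ ≫ τ' := by
        apply (adj.homEquiv M (ModuleCat.of B T)).injective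
        rw [key, key, h1, h2]
      have h4 := hb.1 h3
      rw [← h4]
      rfl
  · intro h
    rw [isIso_iff_coyoneda_map_bijective]
    intro T
    constructor
    · intro τ₁ τ₂ h12
      have h12' : τ ≫ τ₁ = τ ≫ τ₂ := h12
      have h1 : ρ ≫ (ModuleCat.restrictScalars f).map τ₁ =
          ρ ≫ (ModuleCat.restrictScalars f).map τ₂ := by
        rw [← key, ← key, h12']
      have h2 := h.hom_ext τ₁.hom τ₂.hom (fun m => ConcreteCategory.congr_hom h1 m)
      exact ModuleCat.hom_ext h2
    · intro χ
      obtain ⟨τ', hτ', -⟩ := h.existsUnique_lift (semiOfHom f M (adj.homEquiv M T χ))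
      refine ⟨ModuleCat.ofHom τ', ?_⟩
      change τ ≫ ModuleCat.ofHom τ' = χ
      apply (adj.homEquiv M T).injective
      rw [key]
      ext m
      exact hτ' m

end Groth.Agent.Lib.Seat48.Chaotic
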