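import Mathlib
import Groth.Prelude.Def_AlgSpOX3
import Groth.Prelude.Def_AlgSpOX2
import Groth.Agent.Lib.Helper9SpPoint
import Groth.Agent.Lib.Seat3EtaleClosedLift
import Groth.Agent.Lib.Seat45Charts

/-!
# Base change of the small étale site along a closed immersion is cover dense (helper48)

Point-free relative lifting `exists_lift_rel_pt`, `isCoverDense`, the graph of a morphism
`bc U ⟶ bc U'`, and naturality of transformations `i_* F ⟶ i_* G` with respect to all morphisms
between base changes.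
-/

set_option autoImplicit false
set_option linter.style.haveILetI false
set_option backward.isDefEq.respectTransparency false
open CategoryTheory CategoryTheory.Limits AlgebraicGeometry Opposite
universe w u

namespace Groth.Agent.Lib.Seat48.ClosedDense

open AlgSp

variable {S : Scheme.{u}} {Z X : Sp S} {i : Z ⟶ X} (hi : RepWith @IsClosedImmersion i)

/-- point-free relative lifting of étale schemes along the closed immersion. -/
theorem exists_lift_rel_pt (E : EtOver X) (EQ : EtOver Z) (r₁ : EQ ⟶ (EtOver.bc hi.1).obj E)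
    (q : EQ.obj.left.left) :
    ∃ (E' : EtOver X) (tE : E' ⟶ E) (s₁ : (EtOver.bc hi.1).obj E' ⟶ EQ),
      s₁ ≫ r₁ = (EtOver.bc hi.1).map tE ∧ q ∈ Set.range s₁.hom.left.left := by
  let f : (hi.1.pullback E.obj.hom).left ⟶ E.obj.left.left := (hi.1.snd E.obj.hom).left
  haveI hf : IsClosedImmersion f :=
    hi.2 E.obj.hom (hi.1.fst E.obj.hom) (hi.1.snd E.obj.hom) (hi.1.isPullback E.obj.hom)
  let g : EQ.obj.left.left ⟶ (hi.1.pullback E.obj.hom).left := r₁.hom.left.left
  haveI hg : Etale g := EtOver.etale_left r₁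
  obtain ⟨V, pV, hpV, h, hhg, hho, hu⟩ :=
    Groth.Agent.Lib.Seat3.EtaleClosedLift.exists_local_lift f g q
  let jj : Over.mk (pV ≫ E.obj.left.hom) ⟶ E.obj.left := Over.homMk pV rfl
  haveI : Etale jj.left := hpV
  let E' : EtOver X := EtOver.mk ((yon S).map jj ≫ E.obj.hom)
    (Groth.Agent.Lib.Seat45.Charts.repWith_etale_comp jj E.obj.hom E.property)
  let tE : E' ⟶ E := EtOver.homMk jj rfl
  have hpb : IsPullback (hi.1.snd E'.obj.hom).left (EtOver.bcMap hi.1 tE).hom.left.left pV f :=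
    (EtOver.isPullback_bcMap_left hi.1 tE).flip
  let k : (hi.1.pullback E'.obj.hom).left ⟶ pullback pV f := hpb.isoPullback.hom
  have hk2 : k ≫ pullback.snd pV f = (EtOver.bcMap hi.1 tE).hom.left.left :=
    hpb.isoPullback_hom_snd
  have hkhg : (k ≫ h) ≫ g = (EtOver.bcMap hi.1 tE).hom.left.left := by
    rw [Category.assoc, hhg, hk2]
  have hsS : (k ≫ h) ≫ EQ.obj.left.hom = (hi.1.pullback E'.obj.hom).hom := by
    have h1 : g ≫ (hi.1.pullback E.obj.hom).hom = EQ.obj.left.hom := Over.w r₁.hom.left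
    have h2 : (EtOver.bcMap hi.1 tE).hom.left.left ≫ (hi.1.pullback E.obj.hom).hom =
        (hi.1.pullback E'.obj.hom).hom := Over.w (EtOver.bcMap hi.1 tE).hom.left
    rw [← h1, ← Category.assoc, hkhg, h2]
  let sO : ((EtOver.bc hi.1).obj E').obj.left ⟶ EQ.obj.left := Over.homMk (k ≫ h) hsS
  have hsOr : sO ≫ r₁.hom.left = (EtOver.bcMap hi.1 tE).hom.left := by
    apply Over.OverMorphism.ext
    exact hkhg
  have hsZ : (yon S).map sO ≫ EQ.obj.hom = ((EtOver.bc hi.1).obj E').obj.hom := by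
    rw [← EtOver.w r₁, ← Category.assoc, ← Functor.map_comp, hsOr]
    exact EtOver.w (EtOver.bcMap hi.1 tE)
  let s₁ : (EtOver.bc hi.1).obj E' ⟶ EQ := EtOver.homMk sO hsZ
  refine ⟨E', tE, s₁, ?_, ?_⟩
  · apply EtOver.hom_ext
    exact hsOr
  · obtain ⟨y, hy⟩ := hu
    refine ⟨hpb.isoPullback.inv y, ?_⟩
    change (k ≫ h) (hpb.isoPullback.inv y) = q
    rw [← hy]
    change (hpb.isoPullback.inv ≫ hpb.isoPullback.hom ≫ h) y = h y
    rw [Iso.inv_hom_id_assoc]

/-- base change along a closed immersion into an algebraic space is cover dense. -/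
theorem isCoverDense (hX : IsAlgSpace X) : (EtOver.bc hi.1).IsCoverDense (etTop Z) := by
  constructor
  intro V
  rw [Groth.Agent.Lib.Helper9.SpEt.mem_etTop_iff]
  intro x
  obtain ⟨U₀, a₀, ha, hs⟩ := hX.atlas
  let E₀ : EtOver X := EtOver.mk a₀ ha
  let B₀ : EtOver Z := (EtOver.bc hi.1).obj E₀
  have hsB : RepWith @Surjective B₀.obj.hom :=
    MorphismProperty.of_isPullback (hi.1.isPullback E₀.obj.hom).flip hs
  have hsurj : Surjective (B₀.property.1.snd V.obj.hom).left :=
    hsB.2 V.obj.hom _ _ (B₀.property.1.isPullback V.obj.hom)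
  obtain ⟨q, hq⟩ := hsurj.surj x
  obtain ⟨E', tE, s₁, hs₁, w, hw⟩ := exists_lift_rel_pt hi E₀ (EtOver.prodObj V B₀)
    (EtOver.prodSnd V B₀) q
  refine ⟨(EtOver.bc hi.1).obj E', s₁ ≫ EtOver.prodFst V B₀, w,
    Presieve.in_coverByImage (EtOver.bc hi.1) _, ?_⟩
  change (EtOver.prodFst V B₀).hom.left.left (s₁.hom.left.left w) = x
  rw [hw]
  exact hq

/-- the graph of a morphism between base changes. -/
theorem exists_graph {U U' : EtOver X} (f : (EtOver.bc hi.1).obj U ⟶ (EtOver.bc hi.1).obj U') :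
    ∃ γ : (EtOver.bc hi.1).obj U ⟶ (EtOver.bc hi.1).obj (EtOver.prodObj U U'),
      γ ≫ (EtOver.bc hi.1).map (EtOver.prodFst U U') = 𝟙 _ ∧
      γ ≫ (EtOver.bc hi.1).map (EtOver.prodSnd U U') = f := by
  let t₁ : hi.1.pullback U.obj.hom ⟶ U.obj.left := hi.1.snd U.obj.hom
  let t₂ : hi.1.pullback U.obj.hom ⟶ U'.obj.left := f.hom.left ≫ hi.1.snd U'.obj.hom
  have hfw : (yon S).map f.hom.left ≫ hi.1.fst U'.obj.hom = hi.1.fst U.obj.hom := EtOver.w f
  have hcond : (yon S).map t₂ ≫ U'.obj.hom = (yon S).map t₁ ≫ U.obj.hom := by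
    change (yon S).map (f.hom.left ≫ hi.1.snd U'.obj.hom) ≫ U'.obj.hom = _
    rw [Functor.map_comp, Category.assoc, ← hi.1.w, ← Category.assoc, hfw, hi.1.w]
  let b : hi.1.pullback U.obj.hom ⟶ (EtOver.prodObj U U').obj.left :=
    U'.property.1.lift' t₂ t₁ hcond
  have hb1 : b ≫ U'.property.1.fst' U.obj.hom = t₂ :=
    Functor.relativelyRepresentable.lift'_fst _ _ _ _
  have hb2 : b ≫ U'.property.1.snd U.obj.hom = t₁ :=
    Functor.relativelyRepresentable.lift'_snd _ _ _ _
  have hcond2 : hi.1.fst U.obj.hom ≫ i = (yon S).map b ≫ (EtOver.prodObj U U').obj.hom := by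
    change _ = (yon S).map b ≫ (yon S).map (U'.property.1.snd U.obj.hom) ≫ U.obj.hom
    rw [← Category.assoc, ← Functor.map_comp, hb2]
    exact hi.1.w _
  let g₀ : hi.1.pullback U.obj.hom ⟶ hi.1.pullback (EtOver.prodObj U U').obj.hom :=
    hi.1.lift (hi.1.fst U.obj.hom) b hcond2
  have hg1 : (yon S).map g₀ ≫ hi.1.fst (EtOver.prodObj U U').obj.hom = hi.1.fst U.obj.hom :=
    hi.1.lift_fst _ _ _
  have hg2 : g₀ ≫ hi.1.snd (EtOver.prodObj U U').obj.hom = b := hi.1.lift_snd _ _ _
  let γ : (EtOver.bc hi.1).obj U ⟶ (EtOver.bc hi.1).obj (EtOver.prodObj U U') :=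
    EtOver.homMk g₀ hg1
  refine ⟨γ, ?_, ?_⟩
  · apply EtOver.hom_ext
    change g₀ ≫ (EtOver.bcMap hi.1 (EtOver.prodFst U U')).hom.left = 𝟙 _
    apply hi.1.hom_ext
    · rw [Functor.map_comp, Category.assoc, EtOver.map_bcMap_fst, hg1, CategoryTheory.Functor.map_id,
        Category.id_comp]
    · rw [Category.assoc, EtOver.bcMap_snd, ← Category.assoc, hg2, Category.id_comp]
      exact hb2
  · apply EtOver.hom_ext
    change g₀ ≫ (EtOver.bcMap hi.1 (EtOver.prodSnd U U')).hom.left = f.hom.left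
    apply hi.1.hom_ext
    · rw [Functor.map_comp, Category.assoc, EtOver.map_bcMap_fst, hg1, hfw]
    · rw [Category.assoc, EtOver.bcMap_snd, ← Category.assoc, hg2]
      exact hb1

/-- every morphism between base changes is, locally on the source, a base change. -/
theorem exists_cover_naturality {U U' : EtOver X}
    (f : (EtOver.bc hi.1).obj U ⟶ (EtOver.bc hi.1).obj U')
    (q : ((EtOver.bc hi.1).obj U).obj.left.left) :
    ∃ (U'' : EtOver X) (t₁ : U'' ⟶ U) (t₂ : U'' ⟶ U'),
      (EtOver.bc hi.1).map t₁ ≫ f = (EtOver.bc hi.1).map t₂ ∧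
      q ∈ Set.range ((EtOver.bc hi.1).map t₁).hom.left.left := by
  obtain ⟨γ, hγ1, hγ2⟩ := exists_graph hi f
  obtain ⟨E', tE, s₁, hs₁, hq⟩ := exists_lift_rel_pt hi (EtOver.prodObj U U')
    ((EtOver.bc hi.1).obj U) γ q
  have e1 : s₁ = (EtOver.bc hi.1).map (tE ≫ EtOver.prodFst U U') := by
    rw [Functor.map_comp, ← hs₁, Category.assoc, hγ1, Category.comp_id]
  refine ⟨E', tE ≫ EtOver.prodFst U U', tE ≫ EtOver.prodSnd U U', ?_, ?_⟩
  · rw [← e1, Functor.map_comp, ← hs₁, Category.assoc, hγ2]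
  · rw [← e1]
    exact hq

section Types

variable {ℱ : (EtOver Z)ᵒᵖ ⥤ Type w} {ℱ' : Sheaf (etTop Z) (Type w)}
  (α : (EtOver.bc hi.1).op ⋙ ℱ ⟶ (EtOver.bc hi.1).op ⋙ ℱ'.obj)

theorem naturality_bc {U U' : EtOver X} (t : U ⟶ U')
    (x : ℱ.obj (op ((EtOver.bc hi.1).obj U'))) :
    ℱ'.obj.map ((EtOver.bc hi.1).map t).op (α.app (op U') x) =
      α.app (op U) (ℱ.map ((EtOver.bc hi.1).map t).op x) :=
  ConcreteCategory.congr_hom (α.naturality t.op).symm x

/-- a transformation between the restrictions to base changes is natural for all morphisms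
between base changes. -/
theorem naturality_apply {U U' : EtOver X}
    (f : (EtOver.bc hi.1).obj U ⟶ (EtOver.bc hi.1).obj U')
    (x : ℱ.obj (op ((EtOver.bc hi.1).obj U'))) :
    ℱ'.obj.map f.op (α.app (op U') x) = α.app (op U) (ℱ.map f.op x) := by
  let T : Sieve ((EtOver.bc hi.1).obj U) :=
    { arrows := fun Y g => ∃ (U'' : EtOver X) (t₁ : U'' ⟶ U) (t₂ : U'' ⟶ U')
        (g' : Y ⟶ (EtOver.bc hi.1).obj U''),
        (EtOver.bc hi.1).map t₁ ≫ f = (EtOver.bc hi.1).map t₂ ∧ g = g' ≫ (EtOver.bc hi.1).map t₁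
      downward_closed := by
        rintro Y Y' g ⟨U'', t₁, t₂, g', h1, rfl⟩ k
        exact ⟨U'', t₁, t₂, k ≫ g', h1, (Category.assoc _ _ _).symm⟩ }
  have hT : T ∈ etTop Z ((EtOver.bc hi.1).obj U) := by
    rw [Groth.Agent.Lib.Helper9.SpEt.mem_etTop_iff]
    intro q
    obtain ⟨U'', t₁, t₂, h1, y, hy⟩ := exists_cover_naturality hi f q
    exact ⟨(EtOver.bc hi.1).obj U'', (EtOver.bc hi.1).map t₁, y,
      ⟨U'', t₁, t₂, 𝟙 _, h1, (Category.id_comp _).symm⟩, hy⟩
  apply ((isSheaf_iff_isSheaf_of_type _ _).1 ℱ'.property T hT).isSeparatedFor.ext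
  rintro Y g ⟨U'', t₁, t₂, g', h1, rfl⟩
  have h1' : f.op ≫ ((EtOver.bc hi.1).map t₁).op = ((EtOver.bc hi.1).map t₂).op := by
    rw [← op_comp, h1]
  have key : ℱ'.obj.map ((EtOver.bc hi.1).map t₁).op (ℱ'.obj.map f.op (α.app (op U') x)) =
      ℱ'.obj.map ((EtOver.bc hi.1).map t₁).op (α.app (op U) (ℱ.map f.op x)) := by
    rw [← Functor.map_comp_apply, h1', naturality_bc hi α, naturality_bc hi α,
      ← Functor.map_comp_apply, h1']
  rw [op_comp, Functor.map_comp_apply, Functor.map_comp_apply, key]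

open Functor.IsCoverDense.Types in
theorem pushforwardFamily_apply {V : EtOver Z} (x : ℱ.obj (op V)) {U : EtOver X}
    (f : (EtOver.bc hi.1).obj U ⟶ V) :
    pushforwardFamily α x f (Presieve.in_coverByImage _ f) = α.app (op U) (ℱ.map f.op x) := by
  simp only [pushforwardFamily_def, Functor.op_obj]
  generalize Nonempty.some (Presieve.in_coverByImage (EtOver.bc hi.1) f) = l
  obtain ⟨W, iYW, iWX, rfl⟩ := l
  rw [naturality_apply hi α iYW, ← Functor.map_comp_apply, ← op_comp]

variable [(EtOver.bc hi.1).IsCoverDense (etTop Z)]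

open Functor.IsCoverDense.Types in
theorem pushforwardFamily_compatible {V : EtOver Z} (x : ℱ.obj (op V)) :
    (pushforwardFamily α x).Compatible := by
  suffices ∀ {Z' : EtOver Z} {W₁ W₂ : EtOver X} (iWX₁ : (EtOver.bc hi.1).obj W₁ ⟶ V)
      (iWX₂ : (EtOver.bc hi.1).obj W₂ ⟶ V) (iZW₁ : Z' ⟶ (EtOver.bc hi.1).obj W₁)
      (iZW₂ : Z' ⟶ (EtOver.bc hi.1).obj W₂), iZW₁ ≫ iWX₁ = iZW₂ ≫ iWX₂ →
      ℱ'.obj.map iZW₁.op (α.app _ (ℱ.map iWX₁.op x)) =
        ℱ'.obj.map iZW₂.op (α.app _ (ℱ.map iWX₂.op x)) by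
    rintro Y₁ Y₂ Z' iZY₁ iZY₂ f₁ f₂ h₁ h₂ e
    simp only [pushforwardFamily, ← Functor.map_comp_apply, ← op_comp]
    generalize Nonempty.some h₁ = l₁
    generalize Nonempty.some h₂ = l₂
    obtain ⟨W₁, iYW₁, iWX₁, rfl⟩ := l₁
    obtain ⟨W₂, iYW₂, iWX₂, rfl⟩ := l₂
    exact this _ _ _ _ (by simpa only [Category.assoc] using e)
  intro Z' W₁ W₂ iWX₁ iWX₂ iZW₁ iZW₂ e
  refine Functor.IsCoverDense.ext (EtOver.bc hi.1) ℱ' _ fun V' iVZ => ?_
  rw [← Functor.map_comp_apply, ← Functor.map_comp_apply, ← op_comp, ← op_comp,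
    naturality_apply hi α (iVZ ≫ iZW₁), naturality_apply hi α (iVZ ≫ iZW₂),
    ← Functor.map_comp_apply, ← Functor.map_comp_apply, ← op_comp, ← op_comp,
    Category.assoc, Category.assoc, e]

open Functor.IsCoverDense.Types in
/-- the map `ℱ(V) ⟶ ℱ'(V)` obtained by gluing. -/
noncomputable def appHom (V : EtOver Z) : ℱ.obj (op V) ⟶ ℱ'.obj.obj (op V) := ↾fun x =>
  ((isSheaf_iff_isSheaf_of_type _ _).1 ℱ'.property _
    ((EtOver.bc hi.1).is_cover_of_isCoverDense _ V)).amalgamate (pushforwardFamily α x)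
      (pushforwardFamily_compatible hi α x)

open Functor.IsCoverDense.Types in
theorem appHom_restrict {V : EtOver Z} {U : EtOver X} (f : (EtOver.bc hi.1).obj U ⟶ V)
    (x : ℱ.obj (op V)) :
    ℱ'.obj.map f.op (appHom hi α V x) = α.app (op U) (ℱ.map f.op x) :=
  (((isSheaf_iff_isSheaf_of_type _ _).1 ℱ'.property _
    ((EtOver.bc hi.1).is_cover_of_isCoverDense _ V)).valid_glue
      (pushforwardFamily_compatible hi α x) f
          (Presieve.in_coverByImage (EtOver.bc hi.1) f)).trans (pushforwardFamily_apply hi α x f)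

/-- a transformation between the restrictions to base changes extends to the whole site. -/
noncomputable def presheafHom : ℱ ⟶ ℱ'.obj where
  app V := appHom hi α (unop V)
  naturality V V' f := by
    ext x
    apply Functor.IsCoverDense.ext (EtOver.bc hi.1) ℱ'
    intro Y' f'
    change ℱ'.obj.map f'.op (appHom hi α (unop V') (ℱ.map f x)) =
      ℱ'.obj.map f'.op (ℱ'.obj.map f (appHom hi α (unop V) x))
    have e : f ≫ f'.op = (f' ≫ f.unop).op := rfl
    have hL : ℱ'.obj.map f'.op (appHom hi α (unop V') (ℱ.map f x)) =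
        α.app (op Y') (ℱ.map (f' ≫ f.unop).op x) := by
      rw [appHom_restrict, ← Functor.map_comp_apply, e]
    have hR : ℱ'.obj.map f'.op (ℱ'.obj.map f (appHom hi α (unop V) x)) =
        α.app (op Y') (ℱ.map (f' ≫ f.unop).op x) := by
      rw [← Functor.map_comp_apply, e, appHom_restrict]
    exact hL.trans hR.symm

theorem presheafHom_app_bc (U : EtOver X) (x : ℱ.obj (op ((EtOver.bc hi.1).obj U))) :
    (presheafHom hi α).app (op ((EtOver.bc hi.1).obj U)) x = α.app (op U) x := by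
  have h := appHom_restrict hi α (𝟙 ((EtOver.bc hi.1).obj U)) x
  rw [op_id, Functor.map_id_apply, Functor.map_id_apply] at h
  exact h

end Types

section FullFaithful

variable (hX : IsAlgSpace X)

include hX in
theorem pushEt_type_faithful : (pushEt hi.1 (Type (u + 1))).Faithful := by
  haveI := isCoverDense hi hX
  constructor
  intro F G φ ψ h
  apply ObjectProperty.hom_ext
  ext V x
  apply Functor.IsCoverDense.ext (EtOver.bc hi.1) G
  intro U f
  have h1 := ConcreteCategory.congr_hom (φ.hom.naturality f.op) x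
  have h2 := ConcreteCategory.congr_hom (ψ.hom.naturality f.op) x
  have h3 : φ.hom.app (op ((EtOver.bc hi.1).obj U)) = ψ.hom.app (op ((EtOver.bc hi.1).obj U)) :=
    congrArg (fun k => k.hom.app (op U)) h
  change G.obj.map f.op (φ.hom.app V x) = G.obj.map f.op (ψ.hom.app V x)
  change φ.hom.app _ (F.obj.map f.op x) = G.obj.map f.op (φ.hom.app V x) at h1
  change ψ.hom.app _ (F.obj.map f.op x) = G.obj.map f.op (ψ.hom.app V x) at h2
  rw [← h1, ← h2, h3]

include hX in
theorem pushEt_type_full : (pushEt hi.1 (Type (u + 1))).Full := by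
  haveI := isCoverDense hi hX
  constructor
  intro F G α
  refine ⟨ObjectProperty.homMk (presheafHom hi (ℱ := F.obj) (ℱ' := G) α.hom), ?_⟩
  apply ObjectProperty.hom_ext
  ext U x
  exact presheafHom_app_bc hi (ℱ := F.obj) (ℱ' := G) α.hom (unop U) x

include hX in
theorem pushEt_ab_faithful : (pushEt hi.1 AddCommGrpCat.{u + 1}).Faithful := by
  haveI := isCoverDense hi hX
  constructor
  intro F G φ ψ h
  apply ObjectProperty.hom_ext
  ext V x
  let G' : Sheaf (etTop Z) (Type (u + 1)) :=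
    (sheafCompose (etTop Z) (forget AddCommGrpCat.{u + 1})).obj G
  apply Functor.IsCoverDense.ext (EtOver.bc hi.1) G'
  intro U f
  have h1 := ConcreteCategory.congr_hom (φ.hom.naturality f.op) x
  have h2 := ConcreteCategory.congr_hom (ψ.hom.naturality f.op) x
  have h3 : φ.hom.app (op ((EtOver.bc hi.1).obj U)) = ψ.hom.app (op ((EtOver.bc hi.1).obj U)) :=
    congrArg (fun k => k.hom.app (op U)) h
  change G.obj.map f.op (φ.hom.app V x) = G.obj.map f.op (ψ.hom.app V x)
  change φ.hom.app _ (F.obj.map f.op x) = G.obj.map f.op (φ.hom.app V x) at h1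
  change ψ.hom.app _ (F.obj.map f.op x) = G.obj.map f.op (ψ.hom.app V x) at h2
  rw [← h1, ← h2, h3]

include hX in
theorem pushEt_ab_full : (pushEt hi.1 AddCommGrpCat.{u + 1}).Full := by
  haveI := isCoverDense hi hX
  constructor
  intro F G α
  let F' : (EtOver Z)ᵒᵖ ⥤ Type (u + 1) := F.obj ⋙ forget AddCommGrpCat.{u + 1}
  let G' : Sheaf (etTop Z) (Type (u + 1)) :=
    (sheafCompose (etTop Z) (forget AddCommGrpCat.{u + 1})).obj G
  let α' : (EtOver.bc hi.1).op ⋙ F' ⟶ (EtOver.bc hi.1).op ⋙ G'.obj :=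
    { app := fun U => (forget AddCommGrpCat.{u + 1}).map (α.hom.app U)
      naturality := fun U U' t => by
        ext x
        exact ConcreteCategory.congr_hom (α.hom.naturality t) x }
  let β' : F' ⟶ G'.obj := presheafHom hi (ℱ := F') (ℱ' := G') α'
  let bfun : ∀ V : (EtOver Z)ᵒᵖ, F.obj.obj V → G.obj.obj V := fun V x => β'.app V x
  have hres : ∀ (V : EtOver Z) (U : EtOver X) (f : (EtOver.bc hi.1).obj U ⟶ V)
      (x : F.obj.obj (op V)),
      G.obj.map f.op (bfun (op V) x) = α.hom.app (op U) (F.obj.map f.op x) := fun V U f x =>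
    appHom_restrict hi (ℱ := F') (ℱ' := G') α' f x
  have hadd : ∀ (V : EtOver Z) (x y : F.obj.obj (op V)),
      bfun (op V) (x + y) = bfun (op V) x + bfun (op V) y := by
    intro V x y
    apply Functor.IsCoverDense.ext (EtOver.bc hi.1) G'
    intro U f
    change G.obj.map f.op (bfun (op V) (x + y)) =
      G.obj.map f.op (bfun (op V) x + bfun (op V) y)
    rw [hres, map_add, map_add, map_add, hres, hres]
  let β : F.obj ⟶ G.obj :=
    { app := fun V => AddCommGrpCat.ofHom
        (AddMonoidHom.mk' (bfun V) (fun x y => hadd (unop V) x y))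
      naturality := fun V V' t => by
        ext x
        exact ConcreteCategory.congr_hom (β'.naturality t) x }
  refine ⟨ObjectProperty.homMk β, ?_⟩
  apply ObjectProperty.hom_ext
  ext U x
  exact presheafHom_app_bc hi (ℱ := F') (ℱ' := G') α' (unop U) x

end FullFaithful

end Groth.Agent.Lib.Seat48.ClosedDense
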