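import Mathlib
import Groth.Prelude.Def_AlgSpOX3
import Groth.Prelude.Def_AlgSpOX2
import Groth.Agent.Lib.Seat48ClosedDense
import Groth.Agent.Lib.Seat48ModSect

/-!
# Direct image of modules along a closed immersion of algebraic spaces is fully faithful (helper48)
-/

set_option autoImplicit false
set_option linter.style.haveILetI false
set_option backward.isDefEq.respectTransparency false
open CategoryTheory CategoryTheory.Limits AlgebraicGeometry Opposite
universe u

namespace Groth.Agent.Lib.Seat48.ClosedMod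

open AlgSp
open Groth.Agent.Lib.Seat48.ClosedDense
open Groth.Agent.Lib.Seat48.ModSect

variable {S : Scheme.{u}} {Z X : Sp S} {i : Z ⟶ X} (hi : RepWith @IsClosedImmersion i)

/-- on an affine chart, functions on the closed subscheme lift. -/
theorem bcRingHom_surjective (U : EtOver X) [IsAffine U.obj.left.left] :
    Function.Surjective ((bcRingHom hi.1).hom.app (op U)).hom := by
  let f : (hi.1.pullback U.obj.hom).left ⟶ U.obj.left.left := (hi.1.snd U.obj.hom).left
  haveI hf : IsClosedImmersion f :=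
    hi.2 U.obj.hom (hi.1.fst U.obj.hom) (hi.1.snd U.obj.hom) (hi.1.isPullback U.obj.hom)
  have h1 : Function.Surjective f.appTop.hom := by
    have := f.app_surjective ⊤ (isAffineOpen_top _)
    simpa [Scheme.Hom.appTop] using this
  intro s
  obtain ⟨a, ha⟩ := h1 s.down
  exact ⟨ULift.up a, congrArg ULift.up ha⟩

/-- the sieve of maps factoring through the base change of an affine chart. -/
noncomputable def affSieve (V : EtOver Z) : Sieve V where
  arrows Y g := ∃ (U : EtOver X) (_ : IsAffine U.obj.left.left)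
    (g' : Y ⟶ (EtOver.bc hi.1).obj U) (f : (EtOver.bc hi.1).obj U ⟶ V), g = g' ≫ f
  downward_closed := by
    rintro Y Y' g ⟨U, hU, g', f, rfl⟩ k
    exact ⟨U, hU, k ≫ g', f, (Category.assoc _ _ _).symm⟩

theorem affSieve_mem (hX : IsAlgSpace X) (V : EtOver Z) : affSieve hi V ∈ etTop Z V := by
  rw [Groth.Agent.Lib.Helper9.SpEt.mem_etTop_iff]
  intro v
  have hcd := isCoverDense hi hX
  obtain ⟨W, g, y, ⟨⟨U, l, f, hfac⟩⟩, hy⟩ :=
    (Groth.Agent.Lib.Helper9.SpEt.mem_etTop_iff Z _).1 (hcd.is_cover V) v
  obtain ⟨U₁, hU₁, hu, -⟩ := exists_isAffineOpen_mem_and_subset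
    (x := (EtOver.bcπ hi.1 U).left (l.hom.left.left y)) (U := (⊤ : U.obj.left.left.Opens)) trivial
  have hpb := EtOver.isPullback_bcMap_left hi.1 (affHom U U₁)
  obtain ⟨q', hq'1, -⟩ := Scheme.exists_preimage_of_isPullback hpb (l.hom.left.left y)
    (⟨_, hu⟩ : U₁.toScheme) rfl
  haveI : IsAffine (affObj U U₁).obj.left.left := hU₁
  refine ⟨(EtOver.bc hi.1).obj (affObj U U₁), (EtOver.bc hi.1).map (affHom U U₁) ≫ f, q',
    ⟨affObj U U₁, inferInstance, 𝟙 _, _, (Category.id_comp _).symm⟩, ?_⟩
  change f.hom.left.left ((EtOver.bcMap hi.1 (affHom U U₁)).hom.left.left q') = v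
  rw [hq'1, ← hy, ← hfac]
  rfl

section Full

variable {F G : ModEt Z}

/-- the underlying function of a map of direct images. -/
noncomputable def appFun (α : (pushModEt hi.1).obj F ⟶ (pushModEt hi.1).obj G) (U : EtOver X) :
    sectModEt F ((EtOver.bc hi.1).obj U) → sectModEt G ((EtOver.bc hi.1).obj U) :=
  fun y => (α.val.app (op U)).hom y

theorem appFun_smul_of_affine (α : (pushModEt hi.1).obj F ⟶ (pushModEt hi.1).obj G)
    (U : EtOver X) [IsAffine U.obj.left.left]
    (s : (OEtRing Z).obj.obj (op ((EtOver.bc hi.1).obj U)))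
    (y : sectModEt F ((EtOver.bc hi.1).obj U)) :
    appFun hi α U (s • y) = s • appFun hi α U y := by
  obtain ⟨a, rfl⟩ := bcRingHom_surjective hi U s
  exact (α.val.app (op U)).hom.map_smul a y

variable (hX : IsAlgSpace X)

include hX in
theorem exists_ab (α : (pushModEt hi.1).obj F ⟶ (pushModEt hi.1).obj G) :
    ∃ β : (toAbEt Z).obj F ⟶ (toAbEt Z).obj G, ∀ (U : EtOver X)
      (y : sectModEt F ((EtOver.bc hi.1).obj U)),
      β.hom.app (op ((EtOver.bc hi.1).obj U)) y = appFun hi α U y := by
  haveI := pushEt_ab_full hi hX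
  let α_ab : (pushEt hi.1 AddCommGrpCat.{u + 1}).obj ((toAbEt Z).obj F) ⟶
      (pushEt hi.1 AddCommGrpCat.{u + 1}).obj ((toAbEt Z).obj G) := (toAbEt X).map α
  obtain ⟨β, hβ⟩ := (pushEt hi.1 AddCommGrpCat.{u + 1}).map_surjective α_ab
  refine ⟨β, fun U y => ?_⟩
  have h := congrArg (fun k => k.hom.app (op U)) hβ
  exact ConcreteCategory.congr_hom h y

include hX in
theorem pushModEt_full : (pushModEt hi.1).Full := by
  constructor
  intro F G α
  obtain ⟨β, hβ⟩ := exists_ab hi hX α
  let bfun : ∀ V : (EtOver Z)ᵒᵖ, F.val.obj V → G.val.obj V := fun V x => β.hom.app V x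
  have hres : ∀ (V : EtOver Z) (U : EtOver X) (f : (EtOver.bc hi.1).obj U ⟶ V)
      (x : sectModEt F V),
      G.val.map f.op (bfun (op V) x) = appFun hi α U (F.val.map f.op x) := by
    intro V U f x
    rw [← hβ]
    exact (ConcreteCategory.congr_hom (β.hom.naturality f.op) x).symm
  have hlin : ∀ (V : (EtOver Z)ᵒᵖ) (r : (OEtRing Z).obj.obj V) (x : F.val.obj V),
      bfun V (r • x) = r • bfun V x := by
    intro V r x
    have hsep := Presheaf.IsSheaf.isSeparated G.isSheaf
    refine hsep (unop V) _ (affSieve_mem hi hX (unop V)) _ _ ?_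
    rintro Y g ⟨U, hU, g', f, rfl⟩
    have key : G.val.map f.op (bfun V (r • x)) = G.val.map f.op (r • bfun V x) := by
      rw [hres, PresheafOfModules.map_smul, PresheafOfModules.map_smul,
        appFun_smul_of_affine, hres]
    have e : ∀ t : G.val.obj V, G.val.presheaf.map (g' ≫ f).op t =
        G.val.map g'.op (G.val.map f.op t) := by
      intro t
      rw [op_comp, Functor.map_comp]
      rfl
    exact (e _).trans ((congrArg (G.val.map g'.op) key).trans (e _).symm)
  let βm : F ⟶ G := ⟨PresheafOfModules.homMk β.hom hlin⟩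
  refine ⟨βm, ?_⟩
  apply SheafOfModules.hom_ext
  apply PresheafOfModules.hom_ext
  intro U
  ext y
  exact hβ (unop U) y

include hX in
theorem pushModEt_faithful : (pushModEt hi.1).Faithful := by
  haveI := pushEt_ab_faithful hi hX
  constructor
  intro F G φ ψ h
  apply (toAbEt Z).map_injective
  apply (pushEt hi.1 AddCommGrpCat.{u + 1}).map_injective
  exact congrArg (fun k => (toAbEt X).map k) h

include hX in
/-- the counit `i^* i_* G ⟶ G` is an isomorphism. -/
theorem isIso_counit_app [(SheafOfModules.pushforward.{u + 1} (bcRingHom hi.1)).IsRightAdjoint]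
    (G : ModEt Z) : IsIso ((pullPushAdjModEt hi.1).counit.app G) := by
  haveI := pushModEt_full hi hX
  haveI := pushModEt_faithful hi hX
  infer_instance

end Full

end Groth.Agent.Lib.Seat48.ClosedMod
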