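import Mathlib
import Groth.Prelude.Def_AlgSpOX3
import Groth.Prelude.Def_AlgSpOX2
import Groth.Agent.Lib.Helper9SpPoint
import Groth.Agent.Lib.Seat3EtaleClosedLift
import Groth.Agent.Lib.Seat45Charts

/-!
# Stalks of `i_*` for a closed immersion of algebraic spaces (helper48)

`Phi hi z : EtNbhd (z.map i) ⥤ EtNbhd z` (base change of étale neighbourhoods), the relative
lifting lemma `exists_lift_rel`, and initiality of `Phi` for geometric points.
-/

set_option autoImplicit false
set_option linter.style.haveILetI false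
set_option backward.isDefEq.respectTransparency false
open CategoryTheory CategoryTheory.Limits AlgebraicGeometry Opposite
universe u

namespace Groth.Agent.Lib.Seat48.ClosedStalk

open AlgSp

variable {S : Scheme.{u}} {Z X : Sp S} {i : Z ⟶ X} (hi : RepWith @IsClosedImmersion i)
  (z : FieldPt Z)

/-- the canonical lift of `z` to the base change of a neighbourhood of its image. -/
noncomputable def liftPt (N : EtNbhd (z.map i)) :
    (FieldPt.liftsTo z).obj ((EtOver.bc hi.1).obj N.1) :=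
  ⟨hi.1.lift z.toHom N.2.1 ((N.2.2.trans (FieldPt.toHom_map i z)).symm), hi.1.lift_fst _ _ _⟩

theorem liftPt_snd (N : EtNbhd (z.map i)) :
    (liftPt hi z N).1 ≫ hi.1.snd N.1.obj.hom = N.2.1 :=
  hi.1.lift_snd _ _ _

theorem liftPt_map {N N' : EtNbhd (z.map i)} (t : N ⟶ N') :
    (FieldPt.liftsTo z).map ((EtOver.bc hi.1).map t.1) (liftPt hi z N) = liftPt hi z N' := by
  apply Subtype.ext
  change (liftPt hi z N).1 ≫ (EtOver.bcMap hi.1 t.1).hom.left = (liftPt hi z N').1
  apply hi.1.hom_ext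
  · rw [Functor.map_comp, Category.assoc, EtOver.map_bcMap_fst]
    exact ((liftPt hi z N).2).trans ((liftPt hi z N').2).symm
  · rw [Category.assoc, EtOver.bcMap_snd, ← Category.assoc, liftPt_snd, liftPt_snd]
    exact congrArg Subtype.val t.2

/-- base change of étale neighbourhoods along the closed immersion. -/
noncomputable def Phi : EtNbhd (z.map i) ⥤ EtNbhd z where
  obj N := ⟨(EtOver.bc hi.1).obj N.1, liftPt hi z N⟩
  map {N N'} t := ⟨(EtOver.bc hi.1).map t.1, liftPt_map hi z t⟩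
  map_id N := by
    apply Subtype.ext
    exact (EtOver.bc hi.1).map_id N.1
  map_comp t t' := by
    apply Subtype.ext
    exact (EtOver.bc hi.1).map_comp t.1 t'.1

theorem Phi_obj (N : EtNbhd (z.map i)) :
    (Phi hi z).obj N = ⟨(EtOver.bc hi.1).obj N.1, liftPt hi z N⟩ := rfl

/-- relative lifting of étale neighbourhoods along the closed immersion. -/
theorem exists_lift_rel (N : EtNbhd (z.map i)) (Q : EtNbhd z) (r : Q ⟶ (Phi hi z).obj N) :
    ∃ (N' : EtNbhd (z.map i)) (t : N' ⟶ N) (s : (Phi hi z).obj N' ⟶ Q),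
      s ≫ r = (Phi hi z).map t := by
  obtain ⟨E, lE⟩ := N
  obtain ⟨EQ, lQ⟩ := Q
  obtain ⟨r₁, hr₁⟩ := r
  change EQ ⟶ (EtOver.bc hi.1).obj E at r₁
  change (FieldPt.liftsTo z).map r₁ lQ = liftPt hi z ⟨E, lE⟩ at hr₁
  -- the schemes
  let f : (hi.1.pullback E.obj.hom).left ⟶ E.obj.left.left := (hi.1.snd E.obj.hom).left
  haveI hf : IsClosedImmersion f :=
    hi.2 E.obj.hom (hi.1.fst E.obj.hom) (hi.1.snd E.obj.hom) (hi.1.isPullback E.obj.hom)
  let g : EQ.obj.left.left ⟶ (hi.1.pullback E.obj.hom).left := r₁.hom.left.left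
  haveI hg : Etale g := EtOver.etale_left r₁
  obtain ⟨V, pV, hpV, h, hhg, hho, hu⟩ :=
    Groth.Agent.Lib.Seat3.EtaleClosedLift.exists_local_lift f g
      (lQ.1.left (default : Spec (CommRingCat.of z.K)))
  -- the point of the pullback
  have hrange : Set.range lQ.1.left ⊆ Set.range h := by
    rintro _ ⟨a, rfl⟩
    have ha : a = (default : Spec (CommRingCat.of z.K)) :=
      Subsingleton.elim (α := ↥(Spec (CommRingCat.of z.K))) a default
    rw [ha]
    exact hu
  let y₀ : Spec (CommRingCat.of z.K) ⟶ pullback pV f := IsOpenImmersion.lift h lQ.1.left hrange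
  have hy₀ : y₀ ≫ h = lQ.1.left := IsOpenImmersion.lift_fac h lQ.1.left hrange
  -- compatibilities of the points
  have hr₁' : lQ.1 ≫ r₁.hom.left = (liftPt hi z ⟨E, lE⟩).1 := congrArg Subtype.val hr₁
  have hr₁l : lQ.1.left ≫ g = (liftPt hi z ⟨E, lE⟩).1.left := congrArg (fun k => k.left) hr₁'
  have hlf : (liftPt hi z ⟨E, lE⟩).1.left ≫ f = lE.1.left :=
    congrArg (fun k => k.left) (liftPt_snd hi z ⟨E, lE⟩)
  have hyV : (y₀ ≫ pullback.fst pV f) ≫ pV = lE.1.left := by
    rw [Category.assoc, pullback.condition, ← hhg, ← Category.assoc, ← Category.assoc, hy₀,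
      hr₁l, hlf]
  -- the new neighbourhood
  let jj : Over.mk (pV ≫ E.obj.left.hom) ⟶ E.obj.left := Over.homMk pV rfl
  haveI : Etale jj.left := hpV
  have hstr : (y₀ ≫ pullback.fst pV f) ≫ pV ≫ E.obj.left.hom = z.str := by
    rw [← Category.assoc, hyV]
    exact Over.w lE.1
  let yV : z.pt ⟶ Over.mk (pV ≫ E.obj.left.hom) := Over.homMk (y₀ ≫ pullback.fst pV f) hstr
  have hyVjj : yV ≫ jj = lE.1 := by
    apply Over.OverMorphism.ext
    exact hyV
  let E' : EtOver X := EtOver.mk ((yon S).map jj ≫ E.obj.hom)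
    (Groth.Agent.Lib.Seat45.Charts.repWith_etale_comp jj E.obj.hom E.property)
  let tE : E' ⟶ E := EtOver.homMk jj rfl
  have hlE' : (yon S).map yV ≫ E'.obj.hom = (z.map i).toHom := by
    change (yon S).map yV ≫ (yon S).map jj ≫ E.obj.hom = _
    rw [← Category.assoc, ← Functor.map_comp, hyVjj]
    exact lE.2
  let N' : EtNbhd (z.map i) := ⟨E', ⟨yV, hlE'⟩⟩
  let t : N' ⟶ (⟨E, lE⟩ : EtNbhd (z.map i)) := ⟨tE, Subtype.ext hyVjj⟩
  -- the morphism back to `Q`
  have hsq : (hi.1.snd E'.obj.hom).left ≫ pV = (EtOver.bcMap hi.1 tE).hom.left.left ≫ f :=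
    (congrArg (fun k => k.left) (EtOver.bcMap_snd hi.1 tE)).symm
  let k : (hi.1.pullback E'.obj.hom).left ⟶ pullback pV f :=
    pullback.lift (hi.1.snd E'.obj.hom).left (EtOver.bcMap hi.1 tE).hom.left.left hsq
  have hk1 : k ≫ pullback.fst pV f = (hi.1.snd E'.obj.hom).left := pullback.lift_fst _ _ _
  have hk2 : k ≫ pullback.snd pV f = (EtOver.bcMap hi.1 tE).hom.left.left := pullback.lift_snd _ _ _
  have hkhg : (k ≫ h) ≫ g = (EtOver.bcMap hi.1 tE).hom.left.left := by
    rw [Category.assoc, hhg, hk2]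
  have hsS : (k ≫ h) ≫ EQ.obj.left.hom = (hi.1.pullback E'.obj.hom).hom := by
    have h1 : g ≫ (hi.1.pullback E.obj.hom).hom = EQ.obj.left.hom := Over.w r₁.hom.left
    have h2 : (EtOver.bcMap hi.1 tE).hom.left.left ≫ (hi.1.pullback E.obj.hom).hom =
        (hi.1.pullback E'.obj.hom).hom := Over.w (EtOver.bcMap hi.1 tE).hom.left
    rw [← h1, ← Category.assoc, hkhg, h2]
  let sO : ((EtOver.bc hi.1).obj E').obj.left ⟶ EQ.obj.left := Over.homMk (k ≫ h) hsS
  have hsOr : sO ≫ r₁.hom.left = (EtOver.bcMap hi.1 tE).hom.left := by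
    apply Over.OverMorphism.ext
    exact hkhg
  have hsZ : (yon S).map sO ≫ EQ.obj.hom = ((EtOver.bc hi.1).obj E').obj.hom := by
    rw [← EtOver.w r₁, ← Category.assoc, ← Functor.map_comp, hsOr]
    exact EtOver.w (EtOver.bcMap hi.1 tE)
  let s₁ : (EtOver.bc hi.1).obj E' ⟶ EQ := EtOver.homMk sO hsZ
  have hs₁r : s₁ ≫ r₁ = (EtOver.bc hi.1).map tE := by
    apply EtOver.hom_ext
    exact hsOr
  have hpt : (FieldPt.liftsTo z).map s₁ (liftPt hi z N') = lQ := by
    apply Subtype.ext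
    change (liftPt hi z N').1 ≫ sO = lQ.1
    apply Over.OverMorphism.ext
    change (liftPt hi z N').1.left ≫ k ≫ h = lQ.1.left
    rw [← hy₀, ← Category.assoc]
    congr 1
    apply pullback.hom_ext
    · rw [Category.assoc, hk1]
      exact congrArg (fun k => k.left) (liftPt_snd hi z N')
    · rw [Category.assoc, hk2]
      have e1 : (liftPt hi z N').1 ≫ (EtOver.bcMap hi.1 tE).hom.left = (liftPt hi z ⟨E, lE⟩).1 :=
        congrArg Subtype.val (liftPt_map hi z t)
      have e2 : (liftPt hi z N').1.left ≫ (EtOver.bcMap hi.1 tE).hom.left.left =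
          (liftPt hi z ⟨E, lE⟩).1.left := congrArg (fun k => k.left) e1
      rw [e2, ← hhg, ← Category.assoc, hy₀, hr₁l]
  refine ⟨N', t, ⟨s₁, hpt⟩, ?_⟩
  apply Subtype.ext
  exact hs₁r

/-- for a geometric point, base change of neighbourhoods is initial. -/
theorem phi_initial (hX : IsAlgSpace X) (hz : z.IsGeometric) : (Phi hi z).Initial := by
  haveI : IsAlgClosed z.K := hz
  haveI : IsSepClosed z.K := inferInstance
  haveI : IsSepClosed (z.map i).K := (inferInstance : IsSepClosed z.K)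
  obtain ⟨U₀, a₀, ha, hs⟩ := hX.atlas
  obtain ⟨x₀, hx₀⟩ := Groth.Agent.Lib.Helper9.SpPoint.exists_lift_atlas (z.map i) a₀ ha hs
  let N₀ : EtNbhd (z.map i) := ⟨EtOver.mk a₀ ha, ⟨x₀, hx₀⟩⟩
  refine Functor.initial_of_exists_of_isCofiltered _ (fun d => ?_) (fun {d c} s s' => ?_)
  · obtain ⟨N', t, s₀, -⟩ := exists_lift_rel hi z N₀ (IsCofiltered.min ((Phi hi z).obj N₀) d)
      (IsCofiltered.minToLeft _ _)
    exact ⟨N', ⟨s₀ ≫ IsCofiltered.minToRight _ _⟩⟩
  · obtain ⟨N', t, s₀, hs₀⟩ := exists_lift_rel hi z c (IsCofiltered.eq s s')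
      (IsCofiltered.eqHom s s')
    refine ⟨N', t, ?_⟩
    rw [← hs₀, Category.assoc, Category.assoc, IsCofiltered.eq_condition]

/-- the stalk of `i_* F` at the image of a geometric point `z` is the stalk of `F` at `z`. -/
theorem exists_stalk_push_equiv (hX : IsAlgSpace X) (hz : z.IsGeometric)
    (F : EtSh Z (Type (u + 1))) :
    ∃ φ : stalkEt (z.map i) ((pushEt hi.1 (Type (u + 1))).obj F) ≃ stalkEt z F,
      ∀ (N : EtNbhd (z.map i)) (s : F.obj.obj (op ((EtOver.bc hi.1).obj N.1))),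
        φ (stalkEtι (z.map i) ((pushEt hi.1 (Type (u + 1))).obj F) N s) =
          stalkEtι z F ((Phi hi z).obj N) s := by
  haveI : (Phi hi z).Initial := phi_initial hi z hX hz
  haveI : (Phi hi z).op.Final := inferInstance
  haveI : IsIso (colimit.pre (stalkEtDiagram z F) (Phi hi z).op) := inferInstance
  refine ⟨(asIso (colimit.pre (stalkEtDiagram z F) (Phi hi z).op)).toEquiv, ?_⟩
  intro N s
  exact ConcreteCategory.congr_hom (colimit.ι_pre (stalkEtDiagram z F) (Phi hi z).op (op N)) s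

end Groth.Agent.Lib.Seat48.ClosedStalk
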