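import Mathlib
import Groth.Agent.Lib.Seat48BCEt4

/-!
# Coherent modules on the small etale site of a locally Noetherian algebraic space (seat 48)

Namespace `Groth.Agent.Lib.Seat48.CohEt`.

* `app_injective_of_mono`: a monomorphism of sheaves of modules is injective on sections.
* `isFinitePresentation_of_mono`, `isFinitePresentation_of_epi`: quasi-coherent sub- and quotient
  modules of coherent modules are coherent.
-/

set_option autoImplicit false
set_option linter.style.haveILetI false
set_option linter.unusedSectionVars false

universe u

open CategoryTheory CategoryTheory.Limits AlgebraicGeometry Opposite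

namespace Groth.Agent.Lib.Seat48.CohEt

open AlgSp
open Groth.Agent.Lib.Seat48.BCAlg
open Groth.Agent.Lib.Seat48.BCSite
open Groth.Agent.Lib.Seat48.BCEt

attribute [local instance] Groth.Agent.Lib.Seat48.BCSite.commRingSect

section General

universe w v₁ u₁

variable {C : Type u₁} [Category.{v₁} C] {J : GrothendieckTopology C} {R : Sheaf J RingCat.{w}}

/-- a monomorphism of sheaves of modules is injective on sections. -/
theorem app_injective_of_mono {M N : SheafOfModules.{w} R} (ι : N ⟶ M) [Mono ι] (E : Cᵒᵖ) :
    Function.Injective (ι.val.app E) := by
  have : Mono ((SheafOfModules.evaluation.{w} R E).map ι) := inferInstance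
  exact (ModuleCat.mono_iff_injective _).1 this

end General

variable {S : Scheme.{u}} {X : AlgSp.Sp S}

/-- a sub-module with base change on affines of a module with finite sections over a locally
Noetherian space is of finite presentation. -/
theorem isFinitePresentation_of_mono (hX : AlgSp.IsLocNoethSp X) {M N : AlgSp.ModEt X}
    (ι : N ⟶ M) [Mono ι] (hN : HasBCOn (affineData X) N.val)
    (hM : ∀ E : AlgSp.EtOver X, IsAffine E.obj.left.left →
      Module.Finite ((AlgSp.OEtRing X).obj.obj (op E)) (M.val.obj (op E))) :
    N.IsFinitePresentation := by
  refine isFinitePresentation_of_finite_sections hX N hN (fun E hE => ?_)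
  haveI := isNoetherianRing_sect hX E hE
  haveI := hM E hE
  exact Module.Finite.of_injective (ι.val.app (op E)).hom (app_injective_of_mono ι (op E))

/-- a quotient with base change on affines of a module with base change on affines and finite
sections over a locally Noetherian space is of finite presentation. -/
theorem isFinitePresentation_of_epi (hX : AlgSp.IsLocNoethSp X) {M Q : AlgSp.ModEt X}
    (π : M ⟶ Q) [Epi π] (hQ : HasBCOn (affineData X) Q.val) (hMbc : HasBCOn (affineData X) M.val)
    (hM : ∀ E : AlgSp.EtOver X, IsAffine E.obj.left.left →
      Module.Finite ((AlgSp.OEtRing X).obj.obj (op E)) (M.val.obj (op E))) :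
    Q.IsFinitePresentation := by
  refine isFinitePresentation_of_finite_sections hX Q hQ (fun E hE => ?_)
  haveI := hM E hE
  exact Module.Finite.of_surjective (π.val.app (op E)).hom
    (app_surjective_of_epi (affineData X) π hMbc hQ hE)

end Groth.Agent.Lib.Seat48.CohEt
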