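import Mathlib
import Groth.Agent.Lib.Seat48CohEt
import Groth.Agent.Lib.Seat48WeakAssChart

/-!
# Ascending chains of quasi-coherent submodules of a coherent module (seat 48)

Namespace `Groth.Agent.Lib.Seat48.CohEt`.

* `app_surjective_of_hom`: surjectivity on sections over an affine object passes to affine objects
  over it, for a map to a sheaf of modules with base change on affines.
* `sieveOf`, `epi_of_app_surjective_on`: a map which is surjective on sections over enough objects is
  an epimorphism.
* `exists_finite_affine_cover`: a quasi-compact algebraic space has a finite jointly surjective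
  family of affine etale charts.
-/

set_option autoImplicit false
set_option linter.style.haveILetI false
set_option linter.unusedSectionVars false
set_option backward.isDefEq.respectTransparency false

universe u

open CategoryTheory CategoryTheory.Limits AlgebraicGeometry Opposite

namespace Groth.Agent.Lib.Seat48.CohEt

open AlgSp
open Groth.Agent.Lib.Seat48.BCAlg
open Groth.Agent.Lib.Seat48.BCSite
open Groth.Agent.Lib.Seat48.BCEt
open Groth.Agent.Lib.Seat48.IdealEtSp
open Groth.Agent.Lib.Seat48.WeakAssChart

attribute [local instance] Groth.Agent.Lib.Seat48.BCSite.commRingSect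

section General

universe w v₁ u₁

variable {C : Type u₁} [Category.{v₁} C] {J : GrothendieckTopology C} {R : Sheaf J RingCat.{w}}
  [IsCommPresheaf R.obj]

/-- surjectivity on sections over an affine object passes to affine objects over it. -/
theorem app_surjective_of_hom (D : AffineData J R.obj) {F N : SheafOfModules.{w} R} (π : F ⟶ N)
    (hN : HasBCOn D N.val) {E V : C} (b : V ⟶ E) (hE : D.Aff E) (hV : D.Aff V)
    (h : Function.Surjective (π.val.app (op E))) : Function.Surjective (π.val.app (op V)) := by
  have hspan := (hN b hE hV).span_range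
  rw [← LinearMap.range_eq_top (f := (π.val.app (op V)).hom), eq_top_iff, ← hspan,
    Submodule.span_le]
  rintro _ ⟨y, rfl⟩
  obtain ⟨x, rfl⟩ := h y
  exact ⟨F.val.map b.op x, PresheafOfModules.naturality_apply π.val b.op x⟩

/-- the sieve of morphisms factoring through an object satisfying `P`. -/
def sieveOf (P : C → Prop) (X : C) : Sieve X where
  arrows Y f := ∃ (W : C) (g : Y ⟶ W) (h : W ⟶ X), P W ∧ g ≫ h = f
  downward_closed := by
    rintro Y Z f ⟨W, g, h, hW, rfl⟩ k
    exact ⟨W, k ≫ g, h, hW, Category.assoc _ _ _⟩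

variable [HasSheafify J AddCommGrpCat.{w}] [J.WEqualsLocallyBijective AddCommGrpCat.{w}]

/-- a morphism of sheaves of modules which is surjective on sections over enough objects is an
epimorphism. -/
theorem epi_of_app_surjective_on (P : C → Prop) (hcov : ∀ X : C, sieveOf P X ∈ J X)
    {F N : SheafOfModules.{w} R} (π : F ⟶ N)
    (h : ∀ ⦃W : C⦄, P W → Function.Surjective (π.val.app (op W))) : Epi π := by
  have hls : Presheaf.IsLocallySurjective J ((PresheafOfModules.toPresheaf R.obj).map π.val) := by
    constructor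
    intro X n
    refine J.superset_covering ?_ (hcov X)
    rintro Y f ⟨W, g, k, hW, rfl⟩
    obtain ⟨t, ht⟩ := h hW (N.val.map k.op n)
    refine ⟨F.val.map g.op t, ?_⟩
    change π.val.app (op Y) (F.val.map g.op t) = N.val.map (g ≫ k).op n
    rw [PresheafOfModules.naturality_apply, ht]
    exact (N.val.map_comp_apply k.op g.op n).symm
  have : Sheaf.IsLocallySurjective ((SheafOfModules.toSheaf R).map π) := hls
  have h2 : Epi ((SheafOfModules.toSheaf R).map π) := Sheaf.epi_of_isLocallySurjective _
  exact (SheafOfModules.toSheaf R).epi_of_epi_map h2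

end General

variable {S : Scheme.{u}} {X : AlgSp.Sp S}

/-- a quasi-compact algebraic space has a finite jointly surjective family of affine etale charts. -/
theorem exists_finite_affine_cover (hqc : AlgSp.IsQuasiCompactSp X) :
    ∃ (r : ℕ) (E : Fin r → AlgSp.EtOver X), (∀ i, IsAffine (E i).obj.left.left) ∧
      ∀ x : AlgSp.Points X, ∃ (i : Fin r) (e : (E i).obj.left.left),
        AlgSp.Points.ofPt (E i).obj.hom e = x := by
  obtain ⟨U, p, hp, hps, hc⟩ := hqc
  have haff : ∀ u : U.left, ∃ U₁ : U.left.Opens, IsAffineOpen U₁ ∧ u ∈ U₁ := by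
    intro u
    obtain ⟨U₁, hU₁, hx, -⟩ := exists_isAffineOpen_mem_and_subset (x := u)
      (U := (⊤ : U.left.Opens)) trivial
    exact ⟨U₁, hU₁, hx⟩
  choose V hV huV using haff
  haveI : CompactSpace U.left := hc
  obtain ⟨t, ht⟩ := isCompact_univ.elim_finite_subcover
    (fun u => ((V u : U.left.Opens) : Set U.left)) (fun u => (V u).2)
    (fun u _ => Set.mem_iUnion.2 ⟨u, huV u⟩)
  let e := t.equivFin
  refine ⟨t.card, fun k => openObj p hp (V (e.symm k).1), fun k => hV _, ?_⟩
  intro x
  obtain ⟨u₁, rfl⟩ := Groth.Agent.S10177.surjective_ofPt p hps x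
  have := ht (Set.mem_univ u₁)
  simp only [Set.mem_iUnion] at this
  obtain ⟨u0, hu0, hu⟩ := this
  have hk : (e.symm (e ⟨u0, hu0⟩)).1 = u0 := by rw [Equiv.symm_apply_apply]
  have hu' : u₁ ∈ V (e.symm (e ⟨u0, hu0⟩)).1 := by rw [hk]; exact hu
  refine ⟨e ⟨u0, hu0⟩, ⟨u₁, hu'⟩, ?_⟩
  dsimp only
  rw [openObj_hom, ofPt_yon_map_comp]
  rfl

/-- the affine objects over one of finitely many jointly surjective objects cover. -/
theorem sieveOf_mem_of_jointly_surjective {r : ℕ} (E : Fin r → AlgSp.EtOver X)
    (hE : ∀ x : AlgSp.Points X, ∃ (i : Fin r) (e : (E i).obj.left.left),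
      AlgSp.Points.ofPt (E i).obj.hom e = x) (W : AlgSp.EtOver X) :
    sieveOf (fun V : AlgSp.EtOver X => IsAffine V.obj.left.left ∧ ∃ i, Nonempty (V ⟶ E i)) W ∈
      AlgSp.etTop X W := by
  rw [Groth.Agent.Lib.Helper9.SpEt.mem_etTop_iff]
  intro w
  obtain ⟨i, e, he⟩ := hE (AlgSp.Points.ofPt W.obj.hom w)
  obtain ⟨V, hV, a, b, v, hav, -⟩ := exists_common_affine W (E i) w e he.symm
  exact ⟨V, a, v, ⟨V, 𝟙 V, a, ⟨hV, i, ⟨b⟩⟩, Category.id_comp a⟩, hav⟩

end Groth.Agent.Lib.Seat48.CohEt
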