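import Mathlib
import Groth.Agent.Lib.Seat48CohEt2

/-!
# Ascending chains of quasi-coherent submodules of a coherent module, II (seat 48)

Namespace `Groth.Agent.Lib.Seat48.CohEt`.

* `exists_stable`: on a quasi-compact locally Noetherian algebraic space every increasing sequence
  of quasi-coherent submodules of a module of finite presentation is eventually constant.
-/

set_option autoImplicit false
set_option linter.style.haveILetI false
set_option linter.unusedSectionVars false

universe u

open CategoryTheory CategoryTheory.Limits AlgebraicGeometry Opposite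

namespace Groth.Agent.Lib.Seat48.CohEt

open AlgSp
open Groth.Agent.Lib.Seat48.BCAlg
open Groth.Agent.Lib.Seat48.BCSite
open Groth.Agent.Lib.Seat48.BCEt

attribute [local instance] Groth.Agent.Lib.Seat48.BCSite.commRingSect

variable {S : Scheme.{u}} {X : AlgSp.Sp S}

theorem exists_stable (hqc : AlgSp.IsQuasiCompactSp X) (hN : AlgSp.IsLocNoethSp X)
    (M : AlgSp.ModEt X) [M.IsFinitePresentation] (N : ℕ →o Subobject M)
    (hq : ∀ n, (Subobject.underlying.obj (N n)).IsQuasicoherent) :
    ∃ n, ∀ m, n ≤ m → N m = N n := by
  classical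
  have hM := hasBCOn_of_isQuasicoherent M
  obtain ⟨r, E, hEaff, hEsurj⟩ := exists_finite_affine_cover hqc
  have hcomp : ∀ (n m : ℕ) (hnm : N n ≤ N m) (W : AlgSp.EtOver X)
      (x : (Subobject.underlying.obj (N n)).val.obj (op W)),
      ((N m).arrow.val.app (op W)).hom ((((N n).ofLE (N m) hnm).val.app (op W)).hom x) =
        ((N n).arrow.val.app (op W)).hom x := by
    intro n m hnm W x
    have := Subobject.ofLE_arrow hnm
    exact congrArg (fun φ : Subobject.underlying.obj (N n) ⟶ M => (φ.val.app (op W)).hom x) this
  -- for each `i`, the chain of images stabilises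
  have hstab : ∀ i : Fin r, ∃ n, ∀ m, n ≤ m →
      LinearMap.range ((N n).arrow.val.app (op (E i))).hom =
        LinearMap.range ((N m).arrow.val.app (op (E i))).hom := by
    intro i
    haveI := isNoetherianRing_sect hN (E i) (hEaff i)
    haveI := finite_sections M hM (E i) (hEaff i)
    haveI : IsNoetherian ((AlgSp.OEtRing X).obj.obj (op (E i))) (M.val.obj (op (E i))) :=
      isNoetherian_of_isNoetherianRing_of_finite _ _
    let f : ℕ →o Submodule ((AlgSp.OEtRing X).obj.obj (op (E i))) (M.val.obj (op (E i))) :=
      ⟨fun n => LinearMap.range ((N n).arrow.val.app (op (E i))).hom, by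
        intro n m hnm
        rintro _ ⟨x, rfl⟩
        exact ⟨_, hcomp n m (N.monotone hnm) (E i) x⟩⟩
    exact monotone_stabilizes_iff_noetherian.2 inferInstance f
  choose n₀ hn₀ using hstab
  let n := Finset.univ.sup n₀
  refine ⟨n, fun m hnm => ?_⟩
  have hle : N n ≤ N m := N.monotone hnm
  let j := (N n).ofLE (N m) hle
  have hj : j ≫ (N m).arrow = (N n).arrow := Subobject.ofLE_arrow hle
  have hsurjE : ∀ i, Function.Surjective (j.val.app (op (E i))) := by
    intro i y
    have h1 : LinearMap.range ((N n).arrow.val.app (op (E i))).hom =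
        LinearMap.range ((N m).arrow.val.app (op (E i))).hom := by
      rw [← hn₀ i n (Finset.le_sup (Finset.mem_univ i)),
        ← hn₀ i m ((Finset.le_sup (Finset.mem_univ i)).trans hnm)]
    have h2 : ((N m).arrow.val.app (op (E i))).hom y ∈
        LinearMap.range ((N n).arrow.val.app (op (E i))).hom := by
      rw [h1]
      exact ⟨y, rfl⟩
    obtain ⟨x, hx⟩ := h2
    refine ⟨x, ?_⟩
    apply app_injective_of_mono (N m).arrow (op (E i))
    exact (hcomp n m hle (E i) x).trans hx
  haveI : Epi j := by
    refine epi_of_app_surjective_on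
      (P := fun V : AlgSp.EtOver X => IsAffine V.obj.left.left ∧ ∃ i, Nonempty (V ⟶ E i))
      (sieveOf_mem_of_jointly_surjective E hEsurj) j ?_
    rintro V ⟨hV, i, ⟨b⟩⟩
    haveI := hq m
    exact app_surjective_of_hom (affineData X) j (hasBCOn_of_isQuasicoherent _) b (hEaff i) hV
      (hsurjE i)
  haveI : IsIso j := isIso_of_mono_of_epi j
  exact le_antisymm (Subobject.le_of_comm (inv j) (by rw [IsIso.inv_comp_eq]; exact hj.symm)) hle

end Groth.Agent.Lib.Seat48.CohEt
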