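import Mathlib
import Groth.Agent.Lib.Seat48CohEt2
import Groth.Agent.Lib.Seat48BCEt2
import Groth.Agent.S10176

/-!
# Finiteness of weakly associated points of coherent modules (seat 48)

Namespace `Groth.Agent.Lib.Seat48.CohEt`.

* `weakAss_subset_associatedPrimes`, `finite_weakAss`: over a Noetherian ring weakly associated
  primes are associated, and a finite module has finitely many of them.
* `finite_isWeakAssOn`: a quasi-coherent module of finite type on a locally Noetherian algebraic
  space has finitely many weakly associated points on each affine chart.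
* `finite_weakAssEt_inter`: finitely many weakly associated points in a quasi-compact open.
-/

set_option autoImplicit false
set_option linter.style.haveILetI false
set_option linter.unusedSectionVars false
set_option backward.isDefEq.respectTransparency false

universe u

open CategoryTheory CategoryTheory.Limits AlgebraicGeometry Opposite

namespace Groth.Agent.Lib.Seat48.CohEt

open AlgSp FlatCA
open Groth.Agent.Lib.Seat48.BCAlg
open Groth.Agent.Lib.Seat48.BCSite
open Groth.Agent.Lib.Seat48.BCEt
open Groth.Agent.Lib.Seat48.WeakAssChart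

attribute [local instance] Groth.Agent.Lib.Seat48.BCSite.commRingSect

section Algebra

universe v w

variable {R : Type v} [CommRing R] {M : Type w} [AddCommGroup M] [Module R M]

theorem weakAss_subset_associatedPrimes [IsNoetherianRing R] :
    weakAss R M ⊆ associatedPrimes R M := by
  rintro p ⟨m, hp⟩
  have h1 : p ∈ associatedPrimes R (Submodule.span R {m}) :=
    Module.associatedPrimes.minimalPrimes_annihilator_subset_associatedPrimes R
      (Submodule.span R {m}) hp
  exact associatedPrimes.subset_of_injective (f := (Submodule.span R {m}).subtype)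
    (Submodule.injective_subtype _) h1

theorem finite_weakAss [IsNoetherianRing R] [Module.Finite R M] : (weakAss R M).Finite :=
  (associatedPrimes.finite R M).subset weakAss_subset_associatedPrimes

end Algebra

variable {S : Scheme.{u}} {X : AlgSp.Sp S}

theorem finite_isWeakAssOn (hX : AlgSp.IsLocNoethSp X) (M : AlgSp.ModEt X) [M.IsQuasicoherent]
    [M.IsFiniteType] (E : AlgSp.EtOver X) [hE : IsAffine E.obj.left.left] :
    {u : E.obj.left.left | AlgSp.IsWeakAssOn M E u}.Finite := by
  haveI := isNoetherianRing_sect hX E hE
  haveI : Module.Finite ((AlgSp.OEtRing X).obj.obj (op E)) (AlgSp.sectModEt M E) :=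
    finite_sections M (hasBCOn_of_isQuasicoherent M) E hE
  have hfin : (weakAss ((AlgSp.OEtRing X).obj.obj (op E)) (AlgSp.sectModEt M E)).Finite :=
    finite_weakAss
  refine Set.Finite.of_injOn (f := fun u : E.obj.left.left =>
    (AlgSp.primeAtPt E.obj.left.left u).comap (downΓ E)) ?_ ?_ hfin
  · intro u hu
    exact (isWeakAssOn_iff_mem_weakAss M E u).1 hu
  · intro u _ u' _ h
    apply PushWeakAss.primeAtPt_injective
    have hsurj : Function.Surjective (downΓ E) :=
      (ULift.ringEquiv : ULift.{u + 1} Γ(E.obj.left.left, ⊤) ≃+* Γ(E.obj.left.left, ⊤)).surjective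
    exact Ideal.comap_injective_of_surjective _ hsurj h

theorem finite_weakAssEt_inter (hXs : AlgSp.IsAlgSpace X) (hX : AlgSp.IsLocNoethSp X)
    (M : AlgSp.ModEt X) [M.IsQuasicoherent] [M.IsFiniteType] (W : Set (AlgSp.Points X))
    (hWc : IsCompact W) : (AlgSp.WeakAssEt M ∩ W).Finite := by
  choose E hE e he using exists_affine_chart hXs
  obtain ⟨t, ht⟩ := hWc.elim_finite_subcover
    (fun x : AlgSp.Points X => Set.range (AlgSp.Points.ofPt (E x).obj.hom))
    (fun x => (Groth.Agent.S10176.isOpenMap_ofPt (E x).obj.hom (E x).property).isOpen_range)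
    (fun x _ => Set.mem_iUnion.2 ⟨x, ⟨e x, he x⟩⟩)
  have hsub : AlgSp.WeakAssEt M ∩ W ⊆
      ⋃ x ∈ t, AlgSp.Points.ofPt (E x).obj.hom '' {u | AlgSp.IsWeakAssOn M (E x) u} := by
    rintro y ⟨hy, hyW⟩
    have := ht hyW
    simp only [Set.mem_iUnion] at this
    obtain ⟨x, hxt, u, rfl⟩ := this
    haveI := hE x
    refine Set.mem_iUnion₂.2 ⟨x, hxt, u, ?_, rfl⟩
    exact (mem_weakAssEt_iff M (E x) u).1 hy
  refine Set.Finite.subset ?_ hsub
  refine Set.Finite.biUnion t.finite_toSet (fun x _ => ?_)
  haveI := hE x
  exact (finite_isWeakAssOn hX M (E x)).image _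

end Groth.Agent.Lib.Seat48.CohEt
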