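import Mathlib
import Groth.Agent.Lib.Seat48BCEt4
import Groth.Agent.Lib.Seat48PushWeakAss2

/-!
# Direct images along affine morphisms and base change on affines (seat 48)

Namespace `Groth.Agent.Lib.Seat48.PushBC`.

* `isTensorSq_bc`: for an affine representable `f : X ⟶ Y` and a morphism `E' ⟶ E` of affine objects
  of the small etale site of `Y`, `O(E' ×_Y X) = O(E') ⊗_{O(E)} O(E ×_Y X)`.
* `hasBCOn_push`: the direct image of a module with base change on affines has base change on
  affines; `isQuasicoherent_push`: direct images along affine morphisms preserve quasi-coherence.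
* `finite_sections_push`: finiteness of sections of the direct image along a finite morphism.
-/

set_option autoImplicit false
set_option linter.style.haveILetI false
set_option linter.unusedSectionVars false
set_option backward.isDefEq.respectTransparency false

universe u

open CategoryTheory CategoryTheory.Limits AlgebraicGeometry Opposite

namespace Groth.Agent.Lib.Seat48.PushBC

open AlgSp
open Groth.Agent.Lib.Seat48.BCAlg
open Groth.Agent.Lib.Seat48.BCSite
open Groth.Agent.Lib.Seat48.BCEt
open Groth.Agent.Lib.Seat48.PushWeakAss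

attribute [local instance] Groth.Agent.Lib.Seat48.BCSite.commRingSect

variable {S : Scheme.{u}} {X Y : AlgSp.Sp S} {f : X ⟶ Y}

theorem isTensorSq_bc (hf : AlgSp.Representable f) {E E' : AlgSp.EtOver Y} (g : E' ⟶ E)
    (hE : IsAffine E.obj.left.left) (hE' : IsAffine E'.obj.left.left)
    (hW : IsAffine ((AlgSp.EtOver.bc hf).obj E).obj.left.left)
    (hW' : IsAffine ((AlgSp.EtOver.bc hf).obj E').obj.left.left) :
    IsTensorSq (A := (AlgSp.OEtRing Y).obj.obj (op E))
      (B := (AlgSp.OEtRing X).obj.obj (op ((AlgSp.EtOver.bc hf).obj E)))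
      (A' := (AlgSp.OEtRing Y).obj.obj (op E'))
      (D := (AlgSp.OEtRing X).obj.obj (op ((AlgSp.EtOver.bc hf).obj E')))
      ((AlgSp.bcRingHom hf).hom.app (op E)).hom ((AlgSp.OEtRing Y).obj.map g.op).hom
      ((AlgSp.OEtRing X).obj.map ((AlgSp.EtOver.bc hf).map g).op).hom
      ((AlgSp.bcRingHom hf).hom.app (op E')).hom := by
  have hsch := AlgSp.EtOver.isPullback_bcMap_left hf g
  haveI : IsAffine (AlgSp.EtOver.bcObj hf E).obj.left.left := hW
  haveI : IsAffine E'.obj.left.left := hE'
  haveI : IsAffine E.obj.left.left := hE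
  have hpo := isPushout_appTop_of_isPullback hsch
  exact isTensorSq_ulift_of_isPushout.{u + 1, u} _ _ _ _ hpo

/-- the direct image along an affine morphism of a module with base change on affines has base
change on affines. -/
theorem hasBCOn_push (hf : AlgSp.Representable f) (haff : AlgSp.IsAffineMor f) (M : AlgSp.ModEt X)
    (hM : HasBCOn (affineData X) M.val) :
    HasBCOn (affineData Y) ((AlgSp.pushModEt hf).obj M).val := by
  intro E E' g hE hE'
  have hE1 : IsAffine E.obj.left.left := hE
  have hE1' : IsAffine E'.obj.left.left := hE'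
  have hW : IsAffine ((AlgSp.EtOver.bc hf).obj E).obj.left.left := isAffine_bcObj hf haff E
  have hW' : IsAffine ((AlgSp.EtOver.bc hf).obj E').obj.left.left := isAffine_bcObj hf haff E'
  have hsq := isTensorSq_bc hf g hE1 hE1' hW hW'
  have h1 : HasBCAt M.val ((AlgSp.EtOver.bc hf).map g) := hM ((AlgSp.EtOver.bc hf).map g) hW hW'
  have h2 := IsBC.of_isTensorSq hsq (M.val.restrictₛₗ ((AlgSp.EtOver.bc hf).map g).op) h1
  letI iM : Module ((AlgSp.OEtRing Y).obj.obj (op E))
      (M.val.obj (op ((AlgSp.EtOver.bc hf).obj E))) :=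
    Module.compHom _ ((AlgSp.bcRingHom hf).hom.app (op E)).hom
  letI iM' : Module ((AlgSp.OEtRing Y).obj.obj (op E'))
      (M.val.obj (op ((AlgSp.EtOver.bc hf).obj E'))) :=
    Module.compHom _ ((AlgSp.bcRingHom hf).hom.app (op E')).hom
  let eM : (((AlgSp.pushModEt hf).obj M).val.obj (op E)) ≃ₗ[(AlgSp.OEtRing Y).obj.obj (op E)]
      (M.val.obj (op ((AlgSp.EtOver.bc hf).obj E))) :=
    { toFun := fun x => x, invFun := fun x => x, map_add' := fun _ _ => rfl,
      map_smul' := fun _ _ => rfl, left_inv := fun _ => rfl, right_inv := fun _ => rfl }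
  let eN : (M.val.obj (op ((AlgSp.EtOver.bc hf).obj E'))) ≃ₗ[(AlgSp.OEtRing Y).obj.obj (op E')]
      (((AlgSp.pushModEt hf).obj M).val.obj (op E')) :=
    { toFun := fun x => x, invFun := fun x => x, map_add' := fun _ _ => rfl,
      map_smul' := fun _ _ => rfl, left_inv := fun _ => rfl, right_inv := fun _ => rfl }
  exact IsBC.of_equiv h2 eM eN (((AlgSp.pushModEt hf).obj M).val.restrictₛₗ g.op) (fun m => rfl)

/-- direct images along affine morphisms preserve quasi-coherence. -/
theorem isQuasicoherent_push (hf : AlgSp.Representable f) (haff : AlgSp.IsAffineMor f)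
    (M : AlgSp.ModEt X) [M.IsQuasicoherent] : ((AlgSp.pushModEt hf).obj M).IsQuasicoherent :=
  isQuasicoherent_of_hasBCOn _ (hasBCOn_push hf haff M (hasBCOn_of_isQuasicoherent M))

section Finite

universe w

theorem finite_ulift {R S : Type u} [CommRing R] [CommRing S] {φ : R →+* S} (hφ : φ.Finite) :
    (RingHom.ulift.{w, w} φ).Finite := by
  have h1 : ((ULift.ringEquiv : ULift.{w} R ≃+* R).toRingHom).Finite :=
    RingHom.Finite.of_surjective _ (ULift.ringEquiv : ULift.{w} R ≃+* R).surjective
  have h2 : ((ULift.ringEquiv.symm : S ≃+* ULift.{w} S).toRingHom).Finite :=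
    RingHom.Finite.of_surjective _ (ULift.ringEquiv.symm : S ≃+* ULift.{w} S).surjective
  have h3 : RingHom.ulift.{w, w} φ =
      ((ULift.ringEquiv.symm : S ≃+* ULift.{w} S).toRingHom).comp
        (φ.comp (ULift.ringEquiv : ULift.{w} R ≃+* R).toRingHom) := rfl
  rw [h3]
  exact h2.comp (hφ.comp h1)

end Finite

/-- the comparison map of rings of a finite morphism over an affine object is finite. -/
theorem finite_bcRingHom (hf : AlgSp.Representable f) (hfin : AlgSp.IsFiniteMor f)
    (E : AlgSp.EtOver Y) (hE : IsAffine E.obj.left.left) :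
    RingHom.Finite (A := (AlgSp.OEtRing Y).obj.obj (op E))
      (B := (AlgSp.OEtRing X).obj.obj (op ((AlgSp.EtOver.bc hf).obj E)))
      ((AlgSp.bcRingHom hf).hom.app (op E)).hom := by
  haveI := hE
  haveI : IsAffine ((AlgSp.EtOver.bc hf).obj E).obj.left.left :=
    isAffine_bcObj hf (isAffineMor_of_isFiniteMor hfin) E
  haveI hfinπ : IsFinite (AlgSp.EtOver.bcπ hf E).left := isFinite_bcπ hf hfin E
  exact finite_ulift.{u, u + 1} (AlgSp.EtOver.bcπ hf E).left.finite_appTop

/-- sections of the direct image along a finite morphism of a module with finite sections on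
affines are finite. -/
theorem finite_sections_push (hf : AlgSp.Representable f) (hfin : AlgSp.IsFiniteMor f)
    (M : AlgSp.ModEt X)
    (hM : ∀ W : AlgSp.EtOver X, IsAffine W.obj.left.left →
      Module.Finite ((AlgSp.OEtRing X).obj.obj (op W)) (M.val.obj (op W)))
    (E : AlgSp.EtOver Y) (hE : IsAffine E.obj.left.left) :
    Module.Finite ((AlgSp.OEtRing Y).obj.obj (op E))
      (((AlgSp.pushModEt hf).obj M).val.obj (op E)) := by
  haveI := hE
  have hW : IsAffine ((AlgSp.EtOver.bc hf).obj E).obj.left.left :=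
    isAffine_bcObj hf (isAffineMor_of_isFiniteMor hfin) E
  have h1 := hM _ hW
  have h2 := finite_bcRingHom hf hfin E hE
  letI : Algebra ((AlgSp.OEtRing Y).obj.obj (op E))
      ((AlgSp.OEtRing X).obj.obj (op ((AlgSp.EtOver.bc hf).obj E))) :=
    ((AlgSp.bcRingHom hf).hom.app (op E)).hom.toAlgebra
  letI iM : Module ((AlgSp.OEtRing Y).obj.obj (op E))
      (M.val.obj (op ((AlgSp.EtOver.bc hf).obj E))) :=
    Module.compHom _ ((AlgSp.bcRingHom hf).hom.app (op E)).hom
  haveI : IsScalarTower ((AlgSp.OEtRing Y).obj.obj (op E))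
      ((AlgSp.OEtRing X).obj.obj (op ((AlgSp.EtOver.bc hf).obj E)))
      (M.val.obj (op ((AlgSp.EtOver.bc hf).obj E))) :=
    IsScalarTower.of_algebraMap_smul (fun _ _ => rfl)
  haveI : Module.Finite ((AlgSp.OEtRing Y).obj.obj (op E))
      ((AlgSp.OEtRing X).obj.obj (op ((AlgSp.EtOver.bc hf).obj E))) := h2
  haveI : Module.Finite ((AlgSp.OEtRing Y).obj.obj (op E))
      (M.val.obj (op ((AlgSp.EtOver.bc hf).obj E))) :=
    Module.Finite.trans ((AlgSp.OEtRing X).obj.obj (op ((AlgSp.EtOver.bc hf).obj E))) _
  let eM : (M.val.obj (op ((AlgSp.EtOver.bc hf).obj E))) ≃ₗ[(AlgSp.OEtRing Y).obj.obj (op E)]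
      (((AlgSp.pushModEt hf).obj M).val.obj (op E)) :=
    { toFun := fun x => x, invFun := fun x => x, map_add' := fun _ _ => rfl,
      map_smul' := fun _ _ => rfl, left_inv := fun _ => rfl, right_inv := fun _ => rfl }
  exact Module.Finite.equiv eM

/-- conversely, finiteness of the sections of the direct image over `E` gives finiteness of the
sections over `E ×_Y X`. -/
theorem finite_sections_of_push (hf : AlgSp.Representable f) (M : AlgSp.ModEt X)
    (E : AlgSp.EtOver Y)
    (h : Module.Finite ((AlgSp.OEtRing Y).obj.obj (op E))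
      (((AlgSp.pushModEt hf).obj M).val.obj (op E))) :
    Module.Finite ((AlgSp.OEtRing X).obj.obj (op ((AlgSp.EtOver.bc hf).obj E)))
      (M.val.obj (op ((AlgSp.EtOver.bc hf).obj E))) := by
  classical
  obtain ⟨T, hT⟩ := (Module.finite_def (R := (AlgSp.OEtRing Y).obj.obj (op E))
    (M := ((AlgSp.pushModEt hf).obj M).val.obj (op E))).1 h
  let T' : Finset (M.val.obj (op ((AlgSp.EtOver.bc hf).obj E))) := T
  refine ⟨⟨T', ?_⟩⟩
  have key : ∀ y : ((AlgSp.pushModEt hf).obj M).val.obj (op E),
      y ∈ Submodule.span ((AlgSp.OEtRing Y).obj.obj (op E)) (T : Set _) →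
      (show M.val.obj (op ((AlgSp.EtOver.bc hf).obj E)) from y) ∈
        Submodule.span ((AlgSp.OEtRing X).obj.obj (op ((AlgSp.EtOver.bc hf).obj E)))
          (T' : Set _) := by
    intro y hy
    induction hy using Submodule.span_induction with
    | mem y hy => exact Submodule.subset_span hy
    | zero => exact Submodule.zero_mem _
    | add y z _ _ hy hz => exact Submodule.add_mem _ hy hz
    | smul a y _ hy =>
      exact Submodule.smul_mem _ (((AlgSp.bcRingHom hf).hom.app (op E)).hom a) hy
  rw [eq_top_iff]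
  intro x _
  exact key x (by rw [hT]; trivial)

end Groth.Agent.Lib.Seat48.PushBC
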