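import Mathlib
import Groth.Agent.Lib.Seat48PushBC
import Groth.Agent.Lib.Seat48BCSite10

/-!
# Direct images along quasi-compact quasi-separated morphisms: the affine step (seat 48)

Namespace `Groth.Agent.Lib.Seat48.PushQcqs`.

* `BCP hf M g w`: for `g : E' ⟶ E` in the small etale site of `Y` and `w : W ⟶ E ×_Y X` in the small
  etale site of `X`, sections of `M` over every pullback `W' = W ×_E E'` are the base change along
  `O(E) → O(E')` of sections over `W`.
* `bcp_of_isAffine`: this holds for affine `W` when `E`, `E'` are affine and `M` has base change on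
  affines.
-/

set_option autoImplicit false
set_option linter.style.haveILetI false
set_option linter.unusedSectionVars false
set_option backward.isDefEq.respectTransparency false

universe u

open CategoryTheory CategoryTheory.Limits AlgebraicGeometry Opposite

namespace Groth.Agent.Lib.Seat48.PushQcqs

open AlgSp
open Groth.Agent.Lib.Seat48.BCAlg
open Groth.Agent.Lib.Seat48.BCSite
open Groth.Agent.Lib.Seat48.BCEt

attribute [local instance] Groth.Agent.Lib.Seat48.BCSite.commRingSect

variable {S : Scheme.{u}} {X Y : AlgSp.Sp S} {f : X ⟶ Y}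

/-- base change over `O(E) → O(E')` for the pullbacks of an object over `E ×_Y X`. -/
def BCP (hf : AlgSp.Representable f) (M : AlgSp.ModEt X) {E E' : AlgSp.EtOver Y} (g : E' ⟶ E)
    {W : AlgSp.EtOver X} (w : W ⟶ (AlgSp.EtOver.bc hf).obj E) : Prop :=
  BCProp (R₀ := (AlgSp.OEtRing X).obj) (A := (AlgSp.OEtRing Y).obj.obj (op E))
    (A' := (AlgSp.OEtRing Y).obj.obj (op E')) (T := (AlgSp.EtOver.bc hf).obj E)
    (T' := (AlgSp.EtOver.bc hf).obj E') M.val ((AlgSp.OEtRing Y).obj.map g.op).hom
    ((AlgSp.bcRingHom hf).hom.app (op E)).hom ((AlgSp.bcRingHom hf).hom.app (op E')).hom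
    ((AlgSp.EtOver.bc hf).map g) w

theorem bcp_of_isAffine (hf : AlgSp.Representable f) (M : AlgSp.ModEt X)
    (hM : HasBCOn (affineData X) M.val) {E E' : AlgSp.EtOver Y} (g : E' ⟶ E)
    (hE : IsAffine E.obj.left.left) (hE' : IsAffine E'.obj.left.left)
    {V : AlgSp.EtOver X} (hV : IsAffine V.obj.left.left) (w : V ⟶ (AlgSp.EtOver.bc hf).obj E) :
    BCP hf M g w := by
  intro V' b' a hpb
  have h1 : IsPullback b'.hom.left.left a.hom.left.left w.hom.left.left
      ((AlgSp.EtOver.bc hf).map g).hom.left.left := hpb.map (AlgSp.EtOver.toScheme X)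
  have h2 := AlgSp.EtOver.isPullback_bcMap_left hf g
  have h3 : IsPullback b'.hom.left.left (a.hom.left.left ≫ (AlgSp.EtOver.bcπ hf E').left)
      (w.hom.left.left ≫ (AlgSp.EtOver.bcπ hf E).left) g.hom.left.left :=
    (h1.flip.paste_horiz h2.flip).flip
  haveI : IsAffine E'.obj.left.left := hE'
  haveI : IsAffine E.obj.left.left := hE
  haveI : IsAffine V.obj.left.left := hV
  have hV' : IsAffine V'.obj.left.left := IsAffine.of_isPullback h3
  have hpo := isPushout_appTop_of_isPullback h3
  have hsq := isTensorSq_ulift_of_isPushout.{u + 1, u} _ _ _ _ hpo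
  exact IsBCOver.of_isTensorSq hsq _ (hM b' hV hV')

end Groth.Agent.Lib.Seat48.PushQcqs
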