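import Mathlib
import Groth.Agent.Lib.Seat48PushQcqs
import Groth.Agent.Lib.Seat48ExtBC

/-!
# Direct images along quasi-compact quasi-separated morphisms: the two-stage descent (seat 48)

Namespace `Groth.Agent.Lib.Seat48.PushQcqs`.

* `exists_finite_affine_cover`: a quasi-compact object of the small etale site has a finite covering
  by affine opens.
* `bcp_of_mono_affine` (stage 1): base change over `O(E) → O(E')` for quasi-compact objects over
  `E ×_Y X` admitting a monomorphism to an affine object.
* `bcp_id` (stage 2): base change over `O(E) → O(E')` for `E ×_Y X` quasi-compact quasi-separated.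
* `hasBCOn_push_qcqs`: **the direct image `f_* M` has base change on affines** when `M` has and the
  base changes of `f` to affine objects are quasi-compact quasi-separated schemes.
-/

set_option autoImplicit false
set_option linter.style.haveILetI false
set_option linter.unusedSectionVars false
set_option backward.isDefEq.respectTransparency false

universe u

open CategoryTheory CategoryTheory.Limits AlgebraicGeometry Opposite

namespace Groth.Agent.Lib.Seat48.PushQcqs

open AlgSp
open Groth.Agent.Lib.Seat48.BCAlg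
open Groth.Agent.Lib.Seat48.BCSite
open Groth.Agent.Lib.Seat48.BCEt
open Groth.Agent.Lib.Seat48.ModSect

attribute [local instance] Groth.Agent.Lib.Seat48.BCSite.commRingSect

variable {S : Scheme.{u}} {X Y : AlgSp.Sp S} {f : X ⟶ Y}

theorem isPullback_comp_mono {C : Type*} [Category C] {P X₁ X₂ W Z : C} {fst : P ⟶ X₁}
    {snd : P ⟶ X₂} {f₁ : X₁ ⟶ W} {f₂ : X₂ ⟶ W} (h : IsPullback fst snd f₁ f₂) (i : W ⟶ Z)
    [Mono i] : IsPullback fst snd (f₁ ≫ i) (f₂ ≫ i) :=
  IsPullback.of_isLimit (PullbackCone.isLimitOfCompMono f₁ f₂ i _ h.isLimit)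

/-- a quasi-compact object of the small etale site has a finite covering by affine opens. -/
theorem exists_finite_affine_cover (W : AlgSp.EtOver X) [CompactSpace W.obj.left.left] :
    ∃ (n : ℕ) (U : Fin n → W.obj.left.left.affineOpens),
      Sieve.ofArrows (fun k => affObj W (U k).1) (fun k => affHom W (U k).1) ∈
        AlgSp.etTop X W := by
  obtain ⟨t, ht⟩ := isCompact_univ.elim_finite_subcover
    (fun U₁ : W.obj.left.left.affineOpens => (U₁.1 : Set W.obj.left.left))
    (fun U₁ => U₁.1.isOpen) (fun x _ => by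
      obtain ⟨U₁, hU₁, hx, -⟩ := exists_isAffineOpen_mem_and_subset (x := x)
        (U := (⊤ : W.obj.left.left.Opens)) trivial
      exact Set.mem_iUnion.2 ⟨⟨U₁, hU₁⟩, hx⟩)
  let e := t.equivFin
  refine ⟨t.card, fun k => (e.symm k).1, ?_⟩
  apply AlgSp.ofArrows_mem_etTop
  intro x
  have := ht (Set.mem_univ x)
  simp only [Set.mem_iUnion] at this
  obtain ⟨U₁, hU₁, hx⟩ := this
  have h2 : (e.symm (e ⟨U₁, hU₁⟩)).1 = U₁ :=
    congrArg Subtype.val (e.symm_apply_apply ⟨U₁, hU₁⟩)
  refine ⟨e ⟨U₁, hU₁⟩, ⟨x, ?_⟩, rfl⟩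
  exact (congrArg (fun Z : W.obj.left.left.affineOpens => x ∈ (Z.1 : Set W.obj.left.left))
    h2).mpr hx

theorem bcRingHom_comm (hf : AlgSp.Representable f) {E E' : AlgSp.EtOver Y} (g : E' ⟶ E) :
    (RingHom.comp (α := (AlgSp.OEtRing Y).obj.obj (op E))
      (β := (AlgSp.OEtRing X).obj.obj (op ((AlgSp.EtOver.bc hf).obj E)))
      (γ := (AlgSp.OEtRing X).obj.obj (op ((AlgSp.EtOver.bc hf).obj E')))
      ((AlgSp.OEtRing X).obj.map ((AlgSp.EtOver.bc hf).map g).op).hom
      ((AlgSp.bcRingHom hf).hom.app (op E)).hom) =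
    RingHom.comp (α := (AlgSp.OEtRing Y).obj.obj (op E))
      (β := (AlgSp.OEtRing Y).obj.obj (op E'))
      (γ := (AlgSp.OEtRing X).obj.obj (op ((AlgSp.EtOver.bc hf).obj E')))
      ((AlgSp.bcRingHom hf).hom.app (op E')).hom ((AlgSp.OEtRing Y).obj.map g.op).hom :=
  (congrArg RingCat.Hom.hom ((AlgSp.bcRingHom hf).hom.naturality g.op)).symm

/-- **Stage 1**: base change for a quasi-compact object admitting a monomorphism to an affine
object. -/
theorem bcp_of_mono_affine (hf : AlgSp.Representable f) (M : AlgSp.ModEt X)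
    (hM : HasBCOn (affineData X) M.val) {E E' : AlgSp.EtOver Y} (g : E' ⟶ E)
    (hE : IsAffine E.obj.left.left) (hE' : IsAffine E'.obj.left.left)
    {W : AlgSp.EtOver X} (w : W ⟶ (AlgSp.EtOver.bc hf).obj E) [CompactSpace W.obj.left.left]
    {V₀ : AlgSp.EtOver X} (hV₀ : IsAffine V₀.obj.left.left) (j : W ⟶ V₀)
    [Mono j.hom.left.left] : BCP hf M g w := by
  obtain ⟨n, U, hcov⟩ := exists_finite_affine_cover W
  refine bcProp_of_cover M.val (Groth.Agent.Lib.Seat48.BCSite.isSheaf_type M)
    (flat_ringMap g hE hE') (bcRingHom_comm hf g) w (fun k => affObj W (U k).1)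
    (fun k => affHom W (U k).1) hcov ?_ ?_
  · intro k
    exact bcp_of_isAffine hf M hM g hE hE' (V := affObj W (U k).1)
      (show IsAffine (affObj W (U k).1).obj.left.left from (U k).2) _
  · intro k l
    refine bcp_of_isAffine hf M hM g hE hE' ?_ _
    have h1 : IsPullback (pullback.fst (affHom W (U k).1) (affHom W (U l).1)).hom.left.left
        (pullback.snd (affHom W (U k).1) (affHom W (U l).1)).hom.left.left
        (affHom W (U k).1).hom.left.left (affHom W (U l).1).hom.left.left :=
      (IsPullback.of_hasPullback (affHom W (U k).1) (affHom W (U l).1)).map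
        (AlgSp.EtOver.toScheme X)
    have h2 := isPullback_comp_mono h1 j.hom.left.left
    haveI : IsAffine V₀.obj.left.left := hV₀
    haveI : IsAffine (affObj W (U k).1).obj.left.left := (U k).2
    haveI : IsAffine (affObj W (U l).1).obj.left.left := (U l).2
    exact IsAffine.of_isPullback h2

/-- **Stage 2**: base change for `E ×_Y X` itself when it is quasi-compact and quasi-separated. -/
theorem bcp_id (hf : AlgSp.Representable f) (M : AlgSp.ModEt X)
    (hM : HasBCOn (affineData X) M.val) {E E' : AlgSp.EtOver Y} (g : E' ⟶ E)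
    (hE : IsAffine E.obj.left.left) (hE' : IsAffine E'.obj.left.left)
    [CompactSpace (AlgSp.EtOver.bcObj hf E).obj.left.left]
    [QuasiSeparatedSpace (AlgSp.EtOver.bcObj hf E).obj.left.left] :
    BCP hf M g (𝟙 ((AlgSp.EtOver.bc hf).obj E)) := by
  obtain ⟨n, U, hcov⟩ := exists_finite_affine_cover (AlgSp.EtOver.bcObj hf E)
  refine bcProp_of_cover M.val (Groth.Agent.Lib.Seat48.BCSite.isSheaf_type M)
    (flat_ringMap g hE hE') (bcRingHom_comm hf g) (𝟙 ((AlgSp.EtOver.bc hf).obj E))
    (fun k => affObj (AlgSp.EtOver.bcObj hf E) (U k).1)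
    (fun k => affHom (AlgSp.EtOver.bcObj hf E) (U k).1) hcov ?_ ?_
  · intro k
    exact bcp_of_isAffine hf M hM g hE hE' (V := affObj (AlgSp.EtOver.bcObj hf E) (U k).1)
      (show IsAffine (affObj (AlgSp.EtOver.bcObj hf E) (U k).1).obj.left.left from (U k).2) _
  · intro k l
    have h1 : IsPullback
        (pullback.fst (affHom (AlgSp.EtOver.bcObj hf E) (U k).1)
          (affHom (AlgSp.EtOver.bcObj hf E) (U l).1)).hom.left.left
        (pullback.snd (affHom (AlgSp.EtOver.bcObj hf E) (U k).1)
          (affHom (AlgSp.EtOver.bcObj hf E) (U l).1)).hom.left.left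
        (affHom (AlgSp.EtOver.bcObj hf E) (U k).1).hom.left.left
        (affHom (AlgSp.EtOver.bcObj hf E) (U l).1).hom.left.left :=
      (IsPullback.of_hasPullback (affHom (AlgSp.EtOver.bcObj hf E) (U k).1)
        (affHom (AlgSp.EtOver.bcObj hf E) (U l).1)).map (AlgSp.EtOver.toScheme X)
    haveI hak : IsAffine (affObj (AlgSp.EtOver.bcObj hf E) (U k).1).obj.left.left := (U k).2
    haveI hal : IsAffine (affObj (AlgSp.EtOver.bcObj hf E) (U l).1).obj.left.left := (U l).2
    haveI : Mono (affHom (AlgSp.EtOver.bcObj hf E) (U l).1).hom.left.left :=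
      inferInstanceAs (Mono (U l).1.ι)
    haveI hmono : Mono (pullback.fst (affHom (AlgSp.EtOver.bcObj hf E) (U k).1)
        (affHom (AlgSp.EtOver.bcObj hf E) (U l).1)).hom.left.left := h1.mono_fst_of_mono
    haveI : QuasiCompact (affHom (AlgSp.EtOver.bcObj hf E) (U l).1).hom.left.left :=
      quasiCompact_of_compactSpace _
    haveI : QuasiCompact (pullback.fst (affHom (AlgSp.EtOver.bcObj hf E) (U k).1)
        (affHom (AlgSp.EtOver.bcObj hf E) (U l).1)).hom.left.left :=
      MorphismProperty.of_isPullback (P := @QuasiCompact) h1.flip inferInstance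
    haveI : CompactSpace (pullback (affHom (AlgSp.EtOver.bcObj hf E) (U k).1)
        (affHom (AlgSp.EtOver.bcObj hf E) (U l).1)).obj.left.left :=
      QuasiCompact.compactSpace_of_compactSpace
        (pullback.fst (affHom (AlgSp.EtOver.bcObj hf E) (U k).1)
          (affHom (AlgSp.EtOver.bcObj hf E) (U l).1)).hom.left.left
    exact bcp_of_mono_affine hf M hM g hE hE' _ hak
      (pullback.fst (affHom (AlgSp.EtOver.bcObj hf E) (U k).1)
        (affHom (AlgSp.EtOver.bcObj hf E) (U l).1))

/-- the direct image of a module with base change on affines along a representable morphism whose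
base changes to affine objects are quasi-compact and quasi-separated schemes has base change on
affines. -/
theorem hasBCOn_push_qcqs (hf : AlgSp.Representable f)
    (hqc : ∀ E : AlgSp.EtOver Y, IsAffine E.obj.left.left →
      CompactSpace (AlgSp.EtOver.bcObj hf E).obj.left.left)
    (hqs : ∀ E : AlgSp.EtOver Y, IsAffine E.obj.left.left →
      QuasiSeparatedSpace (AlgSp.EtOver.bcObj hf E).obj.left.left)
    (M : AlgSp.ModEt X) (hM : HasBCOn (affineData X) M.val) :
    HasBCOn (affineData Y) ((AlgSp.pushModEt hf).obj M).val := by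
  intro E E' g hE hE'
  have hE1 : IsAffine E.obj.left.left := hE
  have hE1' : IsAffine E'.obj.left.left := hE'
  haveI := hqc E hE1
  haveI := hqs E hE1
  have h1 := hasBCOverAt_of_bcProp_id M.val (bcp_id hf M hM g hE1 hE1')
  have h2 := h1.2
  letI iM : Module ((AlgSp.OEtRing Y).obj.obj (op E))
      (M.val.obj (op ((AlgSp.EtOver.bc hf).obj E))) :=
    Module.compHom _ ((AlgSp.bcRingHom hf).hom.app (op E)).hom
  letI iM' : Module ((AlgSp.OEtRing Y).obj.obj (op E'))
      (M.val.obj (op ((AlgSp.EtOver.bc hf).obj E'))) :=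
    Module.compHom _ ((AlgSp.bcRingHom hf).hom.app (op E')).hom
  let eM : (((AlgSp.pushModEt hf).obj M).val.obj (op E)) ≃ₗ[(AlgSp.OEtRing Y).obj.obj (op E)]
      (M.val.obj (op ((AlgSp.EtOver.bc hf).obj E))) :=
    { toFun := fun x => x, invFun := fun x => x, map_add' := fun _ _ => rfl,
      map_smul' := fun _ _ => rfl, left_inv := fun _ => rfl, right_inv := fun _ => rfl }
  let eN : (M.val.obj (op ((AlgSp.EtOver.bc hf).obj E'))) ≃ₗ[(AlgSp.OEtRing Y).obj.obj (op E')]
      (((AlgSp.pushModEt hf).obj M).val.obj (op E')) :=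
    { toFun := fun x => x, invFun := fun x => x, map_add' := fun _ _ => rfl,
      map_smul' := fun _ _ => rfl, left_inv := fun _ => rfl, right_inv := fun _ => rfl }
  exact IsBC.of_equiv h2 eM eN (((AlgSp.pushModEt hf).obj M).val.restrictₛₗ g.op) (fun m => rfl)

end Groth.Agent.Lib.Seat48.PushQcqs
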