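import Mathlib
import Groth.Prelude.Def_AlgSpD
import Groth.Agent.Lib.Seat48PushQcqs2
import Groth.Agent.Lib.Seat48BCSite8
import Groth.Agent.Lib.Helper9SpEtProd

/-!
# Direct image from a slice of the small etale site preserves base change on affines (seat 48)

Namespace `Groth.Agent.Lib.Seat48.PushOn`.

For an affine object `E` of the small etale site of a quasi-separated algebraic space `X` over a
quasi-separated base and a module `Q` on the slice site over `E` with base change on affines, the
direct image `j_* Q` (`AlgSp.pushOnModEt E`, `(j_* Q)(W) = Q(E × W ⟶ E)`) has base change on affines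
(`hasBCOn_pushOn`).  The proof is the two-stage descent of `Seat48PushQcqs2` on the slice site.
-/

set_option autoImplicit false
set_option linter.style.haveILetI false
set_option linter.unusedSectionVars false
set_option backward.isDefEq.respectTransparency false

universe u

open CategoryTheory CategoryTheory.Limits AlgebraicGeometry Opposite

namespace Groth.Agent.Lib.Seat48.PushOn

open AlgSp
open Groth.Agent.Lib.Seat48.BCAlg
open Groth.Agent.Lib.Seat48.BCSite
open Groth.Agent.Lib.Seat48.BCEt
open Groth.Agent.Lib.Seat48.ModSect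
open Groth.Agent.Lib.Seat48.PushQcqs

attribute [local instance] Groth.Agent.Lib.Seat48.BCSite.commRingSect

/-- `E × W' = (E × W) ×_W W'`. -/
theorem isPullback_prod_map {C : Type*} [Category C] [HasBinaryProducts C] (E : C) {W W' : C}
    (g : W' ⟶ W) :
    IsPullback (prod.map (𝟙 E) g) (prod.snd : E ⨯ W' ⟶ W') (prod.snd : E ⨯ W ⟶ W) g := by
  refine IsPullback.of_isLimit (c := PullbackCone.mk _ _ (by simp))
    (PullbackCone.IsLimit.mk _ ?_ ?_ ?_ ?_)
  · intro s
    exact prod.lift (s.fst ≫ prod.fst) s.snd
  · intro s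
    apply Limits.prod.hom_ext
    · simp
    · simp [s.condition]
  · intro s
    simp
  · intro s m h1 h2
    have h1' : m ≫ prod.map (𝟙 E) g = s.fst := h1
    have h2' : m ≫ (prod.snd : E ⨯ W' ⟶ W') = s.snd := h2
    refine Limits.prod.hom_ext (X := E) (Y := W') (f := m) ?_ ?_
    · have := congrArg (fun t => t ≫ (prod.fst : E ⨯ W ⟶ E)) h1'
      simpa using this
    · simpa using h2'

variable {S : Scheme.{u}} {X : AlgSp.Sp S}

/-- base change over `O(W) → O(W')` for the pullbacks of a slice object over `E × W`. -/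
def BCPs (E : AlgSp.EtOver X) (Q : AlgSp.ModEtOn E) {W W' : AlgSp.EtOver X} (g : W' ⟶ W)
    {Y : Over E} (w : Y ⟶ (Over.star E).obj W) : Prop :=
  BCProp (R₀ := (AlgSp.OEtOn E).obj) (A := (AlgSp.OEtRing X).obj.obj (op W))
    (A' := (AlgSp.OEtRing X).obj.obj (op W')) (T := (Over.star E).obj W)
    (T' := (Over.star E).obj W') Q.val ((AlgSp.OEtRing X).obj.map g.op).hom
    ((AlgSp.OEtRing X).obj.map (prod.snd : E ⨯ W ⟶ W).op).hom
    ((AlgSp.OEtRing X).obj.map (prod.snd : E ⨯ W' ⟶ W').op).hom
    ((Over.star E).map g) w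

theorem bcps_of_isAffine (E : AlgSp.EtOver X) (Q : AlgSp.ModEtOn E)
    (hQ : HasBCOn ((affineData X).over E) Q.val) {W W' : AlgSp.EtOver X} (g : W' ⟶ W)
    (hW : IsAffine W.obj.left.left) (hW' : IsAffine W'.obj.left.left)
    {Y : Over E} (hY : IsAffine Y.left.obj.left.left) (w : Y ⟶ (Over.star E).obj W) :
    BCPs E Q g w := by
  intro Y' b' a hpb
  have h0 : IsPullback b'.left a.left w.left (prod.map (𝟙 E) g) := hpb.map (Over.forget E)
  have h1 : IsPullback b'.left.hom.left.left a.left.hom.left.left w.left.hom.left.left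
      (prod.map (𝟙 E) g).hom.left.left := h0.map (AlgSp.EtOver.toScheme X)
  have h2 : IsPullback (prod.map (𝟙 E) g).hom.left.left
      (prod.snd : E ⨯ W' ⟶ W').hom.left.left (prod.snd : E ⨯ W ⟶ W).hom.left.left
      g.hom.left.left := (isPullback_prod_map E g).map (AlgSp.EtOver.toScheme X)
  have h3 : IsPullback b'.left.hom.left.left
      (a.left.hom.left.left ≫ (prod.snd : E ⨯ W' ⟶ W').hom.left.left)
      (w.left.hom.left.left ≫ (prod.snd : E ⨯ W ⟶ W).hom.left.left) g.hom.left.left :=
    (h1.flip.paste_horiz h2.flip).flip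
  haveI : IsAffine W'.obj.left.left := hW'
  haveI : IsAffine W.obj.left.left := hW
  haveI : IsAffine Y.left.obj.left.left := hY
  have hY' : IsAffine Y'.left.obj.left.left := IsAffine.of_isPullback h3
  have hpo := isPushout_appTop_of_isPullback h3
  have hsq := isTensorSq_ulift_of_isPushout.{u + 1, u} _ _ _ _ hpo
  exact IsBCOver.of_isTensorSq hsq _ (hQ b' hY hY')

/-- a slice object with quasi-compact scheme has a finite covering by affine opens. -/
theorem exists_finite_affine_cover_over (E : AlgSp.EtOver X) (Y : Over E)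
    [CompactSpace Y.left.obj.left.left] :
    ∃ (n : ℕ) (U : Fin n → Y.left.obj.left.left.affineOpens),
      Sieve.ofArrows (fun k => Over.mk (affHom Y.left (U k).1 ≫ Y.hom))
        (fun k => (Over.homMk (affHom Y.left (U k).1) rfl :
          Over.mk (affHom Y.left (U k).1 ≫ Y.hom) ⟶ Y)) ∈ (AlgSp.etTop X).over E Y := by
  obtain ⟨n, U, hcov⟩ := exists_finite_affine_cover Y.left
  refine ⟨n, U, ?_⟩
  rw [GrothendieckTopology.mem_over_iff, Sieve.overEquiv_ofArrows]
  exact hcov

theorem pushOn_comm (E : AlgSp.EtOver X) {W W' : AlgSp.EtOver X} (g : W' ⟶ W) :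
    (RingHom.comp (α := (AlgSp.OEtRing X).obj.obj (op W))
      (β := (AlgSp.OEtOn E).obj.obj (op ((Over.star E).obj W)))
      (γ := (AlgSp.OEtOn E).obj.obj (op ((Over.star E).obj W')))
      ((AlgSp.OEtOn E).obj.map ((Over.star E).map g).op).hom
      ((AlgSp.OEtRing X).obj.map (prod.snd : E ⨯ W ⟶ W).op).hom) =
    RingHom.comp (α := (AlgSp.OEtRing X).obj.obj (op W))
      (β := (AlgSp.OEtRing X).obj.obj (op W'))
      (γ := (AlgSp.OEtOn E).obj.obj (op ((Over.star E).obj W')))
      ((AlgSp.OEtRing X).obj.map (prod.snd : E ⨯ W' ⟶ W').op).hom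
      ((AlgSp.OEtRing X).obj.map g.op).hom := by
  change ((AlgSp.OEtRing X).obj.map (prod.map (𝟙 E) g).op).hom.comp
      ((AlgSp.OEtRing X).obj.map (prod.snd : E ⨯ W ⟶ W).op).hom =
    ((AlgSp.OEtRing X).obj.map (prod.snd : E ⨯ W' ⟶ W').op).hom.comp
      ((AlgSp.OEtRing X).obj.map g.op).hom
  rw [← ringMap_comp, ← ringMap_comp, prod.map_snd]

theorem isSheaf_type_over (E : AlgSp.EtOver X) (Q : AlgSp.ModEtOn E) :
    Presieve.IsSheaf ((AlgSp.etTop X).over E)
      (Q.val.presheaf ⋙ forget AddCommGrpCat.{u + 1}) :=
  Groth.Agent.Lib.Seat48.BCSite.isSheaf_type Q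

/-- **Stage 1** on the slice: quasi-compact slice objects admitting a monomorphism to an affine
object. -/
theorem bcps_of_mono_affine (E : AlgSp.EtOver X) (Q : AlgSp.ModEtOn E)
    (hQ : HasBCOn ((affineData X).over E) Q.val) {W W' : AlgSp.EtOver X} (g : W' ⟶ W)
    (hW : IsAffine W.obj.left.left) (hW' : IsAffine W'.obj.left.left)
    {Y : Over E} (w : Y ⟶ (Over.star E).obj W) [CompactSpace Y.left.obj.left.left]
    {V₀ : AlgSp.EtOver X} (hV₀ : IsAffine V₀.obj.left.left) (j : Y.left ⟶ V₀)
    [Mono j.hom.left.left] : BCPs E Q g w := by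
  obtain ⟨n, U, hcov⟩ := exists_finite_affine_cover_over E Y
  refine bcProp_of_cover Q.val (isSheaf_type_over E Q) (flat_ringMap g hW hW')
    (pushOn_comm E g) w (fun k => Over.mk (affHom Y.left (U k).1 ≫ Y.hom))
    (fun k => (Over.homMk (affHom Y.left (U k).1) rfl :
      Over.mk (affHom Y.left (U k).1 ≫ Y.hom) ⟶ Y)) hcov ?_ ?_
  · intro k
    exact bcps_of_isAffine E Q hQ g hW hW' (Y := Over.mk (affHom Y.left (U k).1 ≫ Y.hom))
      (show IsAffine (affObj Y.left (U k).1).obj.left.left from (U k).2) _
  · intro k l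
    refine bcps_of_isAffine E Q hQ g hW hW' ?_ _
    have h0 := (IsPullback.of_hasPullback
      (Over.homMk (affHom Y.left (U k).1) rfl : Over.mk (affHom Y.left (U k).1 ≫ Y.hom) ⟶ Y)
      (Over.homMk (affHom Y.left (U l).1) rfl :
        Over.mk (affHom Y.left (U l).1 ≫ Y.hom) ⟶ Y)).map (Over.forget E)
    have h1 : IsPullback
        (pullback.fst
          (Over.homMk (affHom Y.left (U k).1) rfl : Over.mk (affHom Y.left (U k).1 ≫ Y.hom) ⟶ Y)
          (Over.homMk (affHom Y.left (U l).1) rfl :
            Over.mk (affHom Y.left (U l).1 ≫ Y.hom) ⟶ Y)).left.hom.left.left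
        (pullback.snd
          (Over.homMk (affHom Y.left (U k).1) rfl : Over.mk (affHom Y.left (U k).1 ≫ Y.hom) ⟶ Y)
          (Over.homMk (affHom Y.left (U l).1) rfl :
            Over.mk (affHom Y.left (U l).1 ≫ Y.hom) ⟶ Y)).left.hom.left.left
        (affHom Y.left (U k).1).hom.left.left (affHom Y.left (U l).1).hom.left.left :=
      h0.map (AlgSp.EtOver.toScheme X)
    have h2 := isPullback_comp_mono h1 j.hom.left.left
    haveI : IsAffine V₀.obj.left.left := hV₀
    haveI : IsAffine (Over.mk (affHom Y.left (U k).1 ≫ Y.hom)).left.obj.left.left := (U k).2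
    haveI : IsAffine (Over.mk (affHom Y.left (U l).1 ≫ Y.hom)).left.obj.left.left := (U l).2
    exact IsAffine.of_isPullback h2

/-- **Stage 2** on the slice: `E × W` quasi-compact and quasi-separated. -/
theorem bcps_id (E : AlgSp.EtOver X) (Q : AlgSp.ModEtOn E)
    (hQ : HasBCOn ((affineData X).over E) Q.val) {W W' : AlgSp.EtOver X} (g : W' ⟶ W)
    (hW : IsAffine W.obj.left.left) (hW' : IsAffine W'.obj.left.left)
    [CompactSpace ((Over.star E).obj W).left.obj.left.left]
    [QuasiSeparatedSpace ((Over.star E).obj W).left.obj.left.left] :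
    BCPs E Q g (𝟙 ((Over.star E).obj W)) := by
  obtain ⟨n, U, hcov⟩ := exists_finite_affine_cover_over E ((Over.star E).obj W)
  refine bcProp_of_cover Q.val (isSheaf_type_over E Q) (flat_ringMap g hW hW')
    (pushOn_comm E g) (𝟙 ((Over.star E).obj W))
    (fun k => Over.mk (affHom ((Over.star E).obj W).left (U k).1 ≫ ((Over.star E).obj W).hom))
    (fun k => (Over.homMk (affHom ((Over.star E).obj W).left (U k).1) rfl :
      Over.mk (affHom ((Over.star E).obj W).left (U k).1 ≫ ((Over.star E).obj W).hom) ⟶
        (Over.star E).obj W)) hcov ?_ ?_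
  · intro k
    exact bcps_of_isAffine E Q hQ g hW hW'
      (Y := Over.mk (affHom ((Over.star E).obj W).left (U k).1 ≫ ((Over.star E).obj W).hom))
      (show IsAffine (affObj ((Over.star E).obj W).left (U k).1).obj.left.left from (U k).2) _
  · intro k l
    have h0 := (IsPullback.of_hasPullback
      (Over.homMk (affHom ((Over.star E).obj W).left (U k).1) rfl :
        Over.mk (affHom ((Over.star E).obj W).left (U k).1 ≫ ((Over.star E).obj W).hom) ⟶
          (Over.star E).obj W)
      (Over.homMk (affHom ((Over.star E).obj W).left (U l).1) rfl :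
        Over.mk (affHom ((Over.star E).obj W).left (U l).1 ≫ ((Over.star E).obj W).hom) ⟶
          (Over.star E).obj W)).map (Over.forget E)
    have h1 : IsPullback
        (pullback.fst
          (Over.homMk (affHom ((Over.star E).obj W).left (U k).1) rfl :
            Over.mk (affHom ((Over.star E).obj W).left (U k).1 ≫ ((Over.star E).obj W).hom) ⟶
              (Over.star E).obj W)
          (Over.homMk (affHom ((Over.star E).obj W).left (U l).1) rfl :
            Over.mk (affHom ((Over.star E).obj W).left (U l).1 ≫ ((Over.star E).obj W).hom) ⟶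
              (Over.star E).obj W)).left.hom.left.left
        (pullback.snd
          (Over.homMk (affHom ((Over.star E).obj W).left (U k).1) rfl :
            Over.mk (affHom ((Over.star E).obj W).left (U k).1 ≫ ((Over.star E).obj W).hom) ⟶
              (Over.star E).obj W)
          (Over.homMk (affHom ((Over.star E).obj W).left (U l).1) rfl :
            Over.mk (affHom ((Over.star E).obj W).left (U l).1 ≫ ((Over.star E).obj W).hom) ⟶
              (Over.star E).obj W)).left.hom.left.left
        (affHom ((Over.star E).obj W).left (U k).1).hom.left.left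
        (affHom ((Over.star E).obj W).left (U l).1).hom.left.left :=
      h0.map (AlgSp.EtOver.toScheme X)
    haveI hak : IsAffine
        (Over.mk (affHom ((Over.star E).obj W).left (U k).1 ≫
          ((Over.star E).obj W).hom)).left.obj.left.left := (U k).2
    haveI hal : IsAffine
        (Over.mk (affHom ((Over.star E).obj W).left (U l).1 ≫
          ((Over.star E).obj W).hom)).left.obj.left.left := (U l).2
    haveI hal' : IsAffine (affObj ((Over.star E).obj W).left (U l).1).obj.left.left := (U l).2
    haveI hak' : IsAffine (affObj ((Over.star E).obj W).left (U k).1).obj.left.left := (U k).2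
    haveI : Mono (affHom ((Over.star E).obj W).left (U l).1).hom.left.left :=
      inferInstanceAs (Mono (U l).1.ι)
    haveI hmono := h1.mono_fst_of_mono
    haveI : QuasiCompact (affHom ((Over.star E).obj W).left (U l).1).hom.left.left :=
      quasiCompact_of_compactSpace _
    haveI hqc := MorphismProperty.of_isPullback (P := @QuasiCompact) h1.flip inferInstance
    haveI hcs := QuasiCompact.compactSpace_of_compactSpace
      (pullback.fst
        (Over.homMk (affHom ((Over.star E).obj W).left (U k).1) rfl :
          Over.mk (affHom ((Over.star E).obj W).left (U k).1 ≫ ((Over.star E).obj W).hom) ⟶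
            (Over.star E).obj W)
        (Over.homMk (affHom ((Over.star E).obj W).left (U l).1) rfl :
          Over.mk (affHom ((Over.star E).obj W).left (U l).1 ≫ ((Over.star E).obj W).hom) ⟶
            (Over.star E).obj W)).left.hom.left.left
    exact bcps_of_mono_affine E Q hQ g hW hW' _ hak
      (pullback.fst
        (Over.homMk (affHom ((Over.star E).obj W).left (U k).1) rfl :
          Over.mk (affHom ((Over.star E).obj W).left (U k).1 ≫ ((Over.star E).obj W).hom) ⟶
            (Over.star E).obj W)
        (Over.homMk (affHom ((Over.star E).obj W).left (U l).1) rfl :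
          Over.mk (affHom ((Over.star E).obj W).left (U l).1 ≫ ((Over.star E).obj W).hom) ⟶
            (Over.star E).obj W)).left

/-- the product of two affine objects of the small etale site of a quasi-separated space is
quasi-compact and quasi-separated. -/
theorem fpProp_prod [QuasiSeparatedSpace S] (hqs : AlgSp.IsQuasiSeparatedSp X)
    (E W : AlgSp.EtOver X) (hE : IsAffine E.obj.left.left) (hW : IsAffine W.obj.left.left) :
    Groth.Agent.Lib.Helper9.SpEt.fpProp X (E ⨯ W) := by
  haveI := hE
  haveI := hW
  have h1 : Groth.Agent.Lib.Helper9.SpEt.fpProp X (AlgSp.EtOver.prodObj E W) :=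
    Groth.Agent.Lib.Helper9.SpEt.fpProp_prodObj X hqs E W ⟨inferInstance, inferInstance⟩
      ⟨inferInstance, inferInstance⟩
  let e : AlgSp.EtOver.prodObj E W ≅ E ⨯ W :=
    (AlgSp.EtOver.prodIsLimit E W).conePointUniqueUpToIso (limit.isLimit (pair E W))
  exact (Groth.Agent.Lib.Helper9.SpEt.fpProp X).prop_of_iso e h1

/-- **the direct image from the slice over an affine object preserves base change on affines**
(quasi-separated space over a quasi-separated base). -/
theorem hasBCOn_pushOn [QuasiSeparatedSpace S] (hqs : AlgSp.IsQuasiSeparatedSp X)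
    (E : AlgSp.EtOver X) (hE : IsAffine E.obj.left.left) (Q : AlgSp.ModEtOn E)
    (hQ : HasBCOn ((affineData X).over E) Q.val) :
    HasBCOn (affineData X) ((AlgSp.pushOnModEt E).obj Q).val := by
  intro W W' g hW hW'
  have hW1 : IsAffine W.obj.left.left := hW
  have hW1' : IsAffine W'.obj.left.left := hW'
  have hfp := fpProp_prod hqs E W hE hW1
  haveI : CompactSpace ((Over.star E).obj W).left.obj.left.left := hfp.1
  haveI : QuasiSeparatedSpace ((Over.star E).obj W).left.obj.left.left := hfp.2
  have h1 := hasBCOverAt_of_bcProp_id Q.val (bcps_id E Q hQ g hW1 hW1')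
  have h2 := h1.2
  letI iM : Module ((AlgSp.OEtRing X).obj.obj (op W))
      (Q.val.obj (op ((Over.star E).obj W))) :=
    Module.compHom _ ((AlgSp.OEtRing X).obj.map (prod.snd : E ⨯ W ⟶ W).op).hom
  letI iM' : Module ((AlgSp.OEtRing X).obj.obj (op W'))
      (Q.val.obj (op ((Over.star E).obj W'))) :=
    Module.compHom _ ((AlgSp.OEtRing X).obj.map (prod.snd : E ⨯ W' ⟶ W').op).hom
  let eM : (((AlgSp.pushOnModEt E).obj Q).val.obj (op W)) ≃ₗ[(AlgSp.OEtRing X).obj.obj (op W)]
      (Q.val.obj (op ((Over.star E).obj W))) :=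
    { toFun := fun x => x, invFun := fun x => x, map_add' := fun _ _ => rfl,
      map_smul' := fun _ _ => rfl, left_inv := fun _ => rfl, right_inv := fun _ => rfl }
  let eN : (Q.val.obj (op ((Over.star E).obj W'))) ≃ₗ[(AlgSp.OEtRing X).obj.obj (op W')]
      (((AlgSp.pushOnModEt E).obj Q).val.obj (op W')) :=
    { toFun := fun x => x, invFun := fun x => x, map_add' := fun _ _ => rfl,
      map_smul' := fun _ _ => rfl, left_inv := fun _ => rfl, right_inv := fun _ => rfl }
  exact IsBC.of_equiv h2 eM eN (((AlgSp.pushOnModEt E).obj Q).val.restrictₛₗ g.op) (fun m => rfl)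

end Groth.Agent.Lib.Seat48.PushOn
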