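import Mathlib
import Groth.Agent.Lib.Seat48PushOn
import Groth.Agent.Lib.Seat48ExtBC2
import Groth.Agent.Lib.Seat48BCEt4
import Groth.Agent.Lib.Seat48BCSite11

set_option autoImplicit false
set_option linter.style.haveILetI false
set_option linter.unusedSectionVars false
set_option backward.isDefEq.respectTransparency false

universe u

open CategoryTheory CategoryTheory.Limits AlgebraicGeometry Opposite

namespace Groth.Agent.Lib.Seat48.CohSub

open AlgSp
open Groth.Agent.Lib.Seat48.BCAlg
open Groth.Agent.Lib.Seat48.BCSite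
open Groth.Agent.Lib.Seat48.BCEt
open Groth.Agent.Lib.Seat48.ModSect
open Groth.Agent.Lib.Seat48.PushOn

attribute [local instance] Groth.Agent.Lib.Seat48.BCSite.commRingSect

variable {S : Scheme.{u}} {X : AlgSp.Sp S} (E : AlgSp.EtOver X) (M : AlgSp.ModEt X)
  {I : Type (u + 1)} (n : I → M.val.obj (op E))

/-- the global sections of `M|_E` given by a family of sections of `M` over `E`. -/
noncomputable def secs : I → ((AlgSp.resModEt E).obj M).sections :=
  fun i => sectionOfTerminal (T := Over.mk (𝟙 E)) Over.mkIdTerminal ((AlgSp.resModEt E).obj M) (n i)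

/-- the map from the free module on `I` to `M|_E` given by the family. -/
noncomputable def nu : SheafOfModules.free (R := AlgSp.OEtOn E) I ⟶ (AlgSp.resModEt E).obj M :=
  ((AlgSp.resModEt E).obj M).freeHomEquiv.symm (secs E M n)

/-- the quotient of `M|_E` by the submodule generated by the family. -/
noncomputable def Qn : AlgSp.ModEtOn E := cokernel (nu E M n)

/-- the projection. -/
noncomputable def pin : (AlgSp.resModEt E).obj M ⟶ Qn E M n := cokernel.π (nu E M n)

/-- the adjoint map `M ⟶ j_*(M|_E / ⟨n⟩)`. -/
noncomputable def theta : M ⟶ (AlgSp.pushOnModEt E).obj (Qn E M n) :=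
  (AlgSp.resPushAdjEt E).homEquiv M (Qn E M n) (pin E M n)

/-- the submodule of `M` of sections lying, over `E`, in the submodule generated by the family. -/
noncomputable def G : AlgSp.ModEt X := kernel (theta E M n)

/-- its inclusion. -/
noncomputable def Gι : G E M n ⟶ M := kernel.ι (theta E M n)

instance : Mono (Gι E M n) := by unfold Gι; infer_instance

theorem hasBCOn_Qn (hM : HasBCOn (affineData X) M.val) :
    HasBCOn ((affineData X).over E) (Qn E M n).val :=
  hasBCOn_cokernel ((affineData X).over E) (nu E M n) (hasBCOn_free _ I)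
    (hasBCOn_over (affineData X) M hM E)

theorem hasBCOn_G [QuasiSeparatedSpace S] (hqs : AlgSp.IsQuasiSeparatedSp X)
    (hE : IsAffine E.obj.left.left) (hM : HasBCOn (affineData X) M.val) :
    HasBCOn (affineData X) (G E M n).val :=
  hasBCOn_kernel (affineData X) (theta E M n) hM
    (hasBCOn_pushOn hqs E hE (Qn E M n) (hasBCOn_Qn E M n hM))

theorem theta_app (W : AlgSp.EtOver X) (s : M.val.obj (op W)) :
    (theta E M n).val.app (op W) s =
      (pin E M n).val.app (op ((Over.star E).obj W))
        (M.val.map (prod.snd : E ⨯ W ⟶ W).op s) := by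
  unfold theta
  rw [Adjunction.homEquiv_unit]
  change ((pin E M n).val.app (op ((Over.star E).obj W)))
    (((AlgSp.resPushAdjEt E).unit.app M).val.app (op W) s) = _
  congr 1

/-- the value of the global section attached to `n i` on a slice object. -/
theorem secs_val (i : I) (Y : Over E) :
    (secs E M n i).val (op Y) = M.val.map Y.hom.op (n i) := by
  have h : (Over.mkIdTerminal (X := E)).from Y = Over.homMk Y.hom (by simp) :=
    Over.mkIdTerminal.hom_ext _ _
  change ((AlgSp.resModEt E).obj M).val.map ((Over.mkIdTerminal (X := E)).from Y).op (n i) = _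
  rw [h]
  rfl

theorem nu_app_ιFree (i : I) (Y : Over E) :
    (nu E M n).val.app (op Y)
      ((SheafOfModules.ιFree (R := AlgSp.OEtOn E) i).val.app (op Y)
        (1 : (AlgSp.OEtOn E).obj.obj (op Y))) = M.val.map Y.hom.op (n i) := by
  have h := sections_val_eq ((AlgSp.resModEt E).obj M) (secs E M n) i (op Y)
  rw [secs_val] at h
  exact h.symm

/-- the projection kills the restrictions of the sections of the family. -/
theorem pin_app_eq_zero (i : I) (Y : Over E) :
    (pin E M n).val.app (op Y) (M.val.map Y.hom.op (n i)) = 0 := by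
  have h0 : nu E M n ≫ pin E M n = 0 := cokernel.condition _
  have h1 := congrArg (fun f : SheafOfModules.free (R := AlgSp.OEtOn E) I ⟶ Qn E M n =>
    f.val.app (op Y) ((SheafOfModules.ιFree (R := AlgSp.OEtOn E) i).val.app (op Y)
      (1 : (AlgSp.OEtOn E).obj.obj (op Y)))) h0
  rw [← nu_app_ιFree E M n i Y]
  exact h1

/-- sections of `M` over `E` killed by the projection lie in the span of the family. -/
theorem mem_span_of_pin_eq_zero [Finite I] (hE : IsAffine E.obj.left.left)
    (hM : HasBCOn (affineData X) M.val) (x : M.val.obj (op E))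
    (hx : (pin E M n).val.app (op (Over.mk (𝟙 E))) x = 0) :
    x ∈ Submodule.span ((AlgSp.OEtRing X).obj.obj (op E)) (Set.range n) := by
  have hT₀ : ((affineData X).over E).Aff (Over.mk (𝟙 E)) := hE
  obtain ⟨-, hex⟩ := app_injective_and_exact_of_isLimit (pin E M n)
    (KernelFork.ofι (kernel.ι (pin E M n)) (kernel.condition (pin E M n)))
    (kernelIsKernel (pin E M n)) (op (Over.mk (𝟙 E)))
  obtain ⟨k, hk⟩ := (hex x).1 hx
  have hK : HasBCOn ((affineData X).over E) (kernel (pin E M n)).val :=
    hasBCOn_kernel _ (pin E M n) (hasBCOn_over (affineData X) M hM E) (hasBCOn_Qn E M n hM)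
  have hsurj := app_surjective_of_epi ((affineData X).over E) (Abelian.factorThruImage (nu E M n))
    (hasBCOn_free _ I) hK hT₀
  obtain ⟨z, hz⟩ := hsurj k
  have hfac : Abelian.factorThruImage (nu E M n) ≫ kernel.ι (pin E M n) = nu E M n :=
    Abelian.image.fac (nu E M n)
  have hxz : (nu E M n).val.app (op (Over.mk (𝟙 E))) z = x := by
    have h := congrArg (fun f : SheafOfModules.free (R := AlgSp.OEtOn E) I ⟶
      (AlgSp.resModEt E).obj M => (f.val.app (op (Over.mk (𝟙 E)))).hom z) hfac
    rw [← hk, ← hz]
    exact h.symm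
  have hz' := span_ιFree_eq_top (R := AlgSp.OEtOn E) I (op (Over.mk (𝟙 E)))
  have hzmem : z ∈ Submodule.span ((AlgSp.OEtOn E).obj.obj (op (Over.mk (𝟙 E))))
      (Set.range (fun i : I => ((SheafOfModules.ιFree (R := AlgSp.OEtOn E) i).val.app
        (op (Over.mk (𝟙 E)))).hom (1 : (AlgSp.OEtOn E).obj.obj (op (Over.mk (𝟙 E)))))) := by
    rw [hz']
    trivial
  rw [← hxz]
  have h2 := Submodule.mem_map_of_mem (f := ((nu E M n).val.app (op (Over.mk (𝟙 E)))).hom) hzmem
  rw [Submodule.map_span, ← Set.range_comp] at h2
  refine Submodule.span_mono ?_ h2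
  rintro _ ⟨i, rfl⟩
  refine ⟨i, ?_⟩
  have h3 := nu_app_ιFree E M n i (Over.mk (𝟙 E))
  have h4 : M.val.map (Over.mk (𝟙 E)).hom.op (n i) = n i := by
    change M.val.map (𝟙 E).op (n i) = n i
    simp
  rw [h4] at h3
  exact h3.symm

theorem star_hom {C : Type*} [Category C] [HasBinaryProducts C] (E W : C) :
    ((Over.star E).obj W).hom = (prod.fst : E ⨯ W ⟶ E) := by
  change (prodComonad E).δ.app W ≫ prod.fst = prod.fst
  exact prod.lift_fst _ _

/-- the diagonal of `E`, as a morphism of the slice over `E`. -/
noncomputable def diagOver : Over.mk (𝟙 E) ⟶ (Over.star E).obj E :=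
  Over.homMk (prod.lift (𝟙 E) (𝟙 E)) (by
    rw [star_hom]
    exact prod.lift_fst _ _)

theorem pin_eq_zero_of_theta_eq_zero (s : M.val.obj (op E))
    (hs : (theta E M n).val.app (op E) s = 0) :
    (pin E M n).val.app (op (Over.mk (𝟙 E))) s = 0 := by
  rw [theta_app] at hs
  have h1 := PresheafOfModules.naturality_apply (pin E M n).val (diagOver E).op
    (M.val.map (prod.snd : E ⨯ E ⟶ E).op s)
  rw [hs, map_zero] at h1
  have h2 : ((AlgSp.resModEt E).obj M).val.map (diagOver E).op
      (M.val.map (prod.snd : E ⨯ E ⟶ E).op s) = s := by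
    change M.val.map (prod.lift (𝟙 E) (𝟙 E)).op (M.val.map (prod.snd : E ⨯ E ⟶ E).op s) = s
    rw [map_map_eq' M.val (prod.lift_snd (𝟙 E) (𝟙 E)) s]
    simp
  rw [h2] at h1
  exact h1

/-- **sections over `E` of the submodule lie in the span of the family.** -/
theorem mem_span_of_theta_eq_zero [Finite I] (hE : IsAffine E.obj.left.left)
    (hM : HasBCOn (affineData X) M.val) (s : M.val.obj (op E))
    (hs : (theta E M n).val.app (op E) s = 0) :
    s ∈ Submodule.span ((AlgSp.OEtRing X).obj.obj (op E)) (Set.range n) :=
  mem_span_of_pin_eq_zero E M n hE hM s (pin_eq_zero_of_theta_eq_zero E M n s hs)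

/-- criterion for a section of `M` to lie in the submodule: over a covering of `E × W` in the slice
its pullback is in the span of the restrictions of the family. -/
theorem theta_eq_zero_of_cover (W : AlgSp.EtOver X) (s : M.val.obj (op W)) {K : Type}
    {V : K → Over E} (h : ∀ k, V k ⟶ (Over.star E).obj W)
    (hcov : Sieve.ofArrows V h ∈ (AlgSp.etTop X).over E ((Over.star E).obj W))
    (hs : ∀ k, M.val.map (h k).left.op (M.val.map (prod.snd : E ⨯ W ⟶ W).op s) ∈
      Submodule.span ((AlgSp.OEtRing X).obj.obj (op (V k).left))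
        (Set.range (fun i => M.val.map (V k).hom.op (n i)))) :
    (theta E M n).val.app (op W) s = 0 := by
  rw [theta_app]
  refine eq_zero_of_cover (Qn E M n).val (isSheaf_type_over E (Qn E M n)) h hcov _ (fun k => ?_)
  have h1 := PresheafOfModules.naturality_apply (pin E M n).val (h k).op
    (M.val.map (prod.snd : E ⨯ W ⟶ W).op s)
  rw [← h1]
  have hle : Submodule.span ((AlgSp.OEtRing X).obj.obj (op (V k).left))
      (Set.range (fun i => M.val.map (V k).hom.op (n i))) ≤
      LinearMap.ker ((pin E M n).val.app (op (V k))).hom := by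
    rw [Submodule.span_le]
    rintro _ ⟨i, rfl⟩
    exact pin_app_eq_zero E M n i (V k)
  exact hle (hs k)

/-- **every section over an affine object lies in the submodule attached to some finite family.** -/
theorem exists_finset_theta_eq_zero [QuasiSeparatedSpace S] (hqs : AlgSp.IsQuasiSeparatedSp X)
    (hE : IsAffine E.obj.left.left) (hM : HasBCOn (affineData X) M.val) (W : AlgSp.EtOver X)
    (hW : IsAffine W.obj.left.left) (s : M.val.obj (op W)) :
    ∃ t : Finset (M.val.obj (op E)),
      (theta E M (fun i : t => i.1)).val.app (op W) s = 0 := by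
  classical
  have hfp := fpProp_prod hqs E W hE hW
  haveI : CompactSpace ((Over.star E).obj W).left.obj.left.left := hfp.1
  obtain ⟨m, U, hcov⟩ := exists_finite_affine_cover_over E ((Over.star E).obj W)
  -- the sections over the members of the covering
  have hspan : ∀ k : Fin m, ∃ c : M.val.obj (op E) →₀
      (AlgSp.OEtRing X).obj.obj (op (affObj ((Over.star E).obj W).left (U k).1)),
      (c.sum fun y a => a • M.val.map
        (affHom ((Over.star E).obj W).left (U k).1 ≫ ((Over.star E).obj W).hom).op y) =
        M.val.map (affHom ((Over.star E).obj W).left (U k).1).op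
          (M.val.map (prod.snd : E ⨯ W ⟶ W).op s) := by
    intro k
    have hbc : HasBCAt M.val
        (affHom ((Over.star E).obj W).left (U k).1 ≫ ((Over.star E).obj W).hom) :=
      hM _ hE (U k).2
    have h1 := hbc.span_range
    have h2 : M.val.map (affHom ((Over.star E).obj W).left (U k).1).op
        (M.val.map (prod.snd : E ⨯ W ⟶ W).op s) ∈
        Submodule.span ((AlgSp.OEtRing X).obj.obj
          (op (affObj ((Over.star E).obj W).left (U k).1)))
          (Set.range (M.val.restrictₛₗ
            (affHom ((Over.star E).obj W).left (U k).1 ≫ ((Over.star E).obj W).hom).op)) := by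
      rw [h1]
      trivial
    exact Finsupp.mem_span_range_iff_exists_finsupp.1 h2
  choose c hc using hspan
  let t : Finset (M.val.obj (op E)) := Finset.univ.biUnion (fun k => (c k).support)
  refine ⟨t, ?_⟩
  refine theta_eq_zero_of_cover E M (fun i : t => i.1) W s
    (fun k => (Over.homMk (affHom ((Over.star E).obj W).left (U k).1) rfl :
      Over.mk (affHom ((Over.star E).obj W).left (U k).1 ≫ ((Over.star E).obj W).hom) ⟶
        (Over.star E).obj W)) hcov (fun k => ?_)
  change M.val.map (affHom ((Over.star E).obj W).left (U k).1).op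
    (M.val.map (prod.snd : E ⨯ W ⟶ W).op s) ∈ _
  rw [← hc k]
  refine Submodule.sum_mem _ (fun y hy => ?_)
  refine Submodule.smul_mem _ _ (Submodule.subset_span ?_)
  have hyt : y ∈ t := Finset.mem_biUnion.2 ⟨k, Finset.mem_univ k, hy⟩
  exact ⟨⟨y, hyt⟩, rfl⟩

end Groth.Agent.Lib.Seat48.CohSub
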