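import Mathlib
import Groth.Agent.Lib.Seat48CohSub
import Groth.Agent.Lib.Seat48CohEt2
import Groth.Agent.Lib.Seat48BCAlg8
import Groth.Agent.Lib.Seat48BCSite8

set_option autoImplicit false
set_option linter.style.haveILetI false
set_option linter.unusedSectionVars false
set_option backward.isDefEq.respectTransparency false

universe u

open CategoryTheory CategoryTheory.Limits AlgebraicGeometry Opposite

namespace Groth.Agent.Lib.Seat48.CohSub

open AlgSp
open Groth.Agent.Lib.Seat48.BCAlg
open Groth.Agent.Lib.Seat48.BCSite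
open Groth.Agent.Lib.Seat48.BCEt
open Groth.Agent.Lib.Seat48.ModSect
open Groth.Agent.Lib.Seat48.PushOn
open Groth.Agent.Lib.Seat48.CohEt

attribute [local instance] Groth.Agent.Lib.Seat48.BCSite.commRingSect

variable {S : Scheme.{u}} {X : AlgSp.Sp S}

/-- a quasi-compact algebraic space has an affine etale surjective chart. -/
theorem exists_affine_chart (hqc : AlgSp.IsQuasiCompactSp X) :
    ∃ E : AlgSp.EtOver X, IsAffine E.obj.left.left ∧
      ∀ x : AlgSp.Points X, ∃ e : E.obj.left.left, AlgSp.Points.ofPt E.obj.hom e = x := by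
  obtain ⟨U, p, hp, hps, hc⟩ := hqc
  have haff : ∀ u : U.left, ∃ U₁ : U.left.Opens, IsAffineOpen U₁ ∧ u ∈ U₁ := by
    intro u
    obtain ⟨U₁, hU₁, hx, -⟩ := exists_isAffineOpen_mem_and_subset (x := u)
      (U := (⊤ : U.left.Opens)) trivial
    exact ⟨U₁, hU₁, hx⟩
  choose V hV huV using haff
  haveI : CompactSpace U.left := hc
  obtain ⟨t, ht⟩ := isCompact_univ.elim_finite_subcover
    (fun u => ((V u : U.left.Opens) : Set U.left)) (fun u => (V u).2)
    (fun u _ => Set.mem_iUnion.2 ⟨u, huV u⟩)
  let F : {u // u ∈ t} → Scheme.{u} := fun k => (V k.1).toScheme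
  haveI : ∀ k, IsAffine (F k) := fun k => hV k.1
  let g₀ : (∐ F) ⟶ U.left := Sigma.desc (fun k => (V k.1).ι)
  let Vo : Over S := Over.mk (g₀ ≫ U.hom)
  let gV : Vo ⟶ U := Over.homMk g₀ rfl
  have hge : Etale g₀ := IsZariskiLocalAtSource.sigmaDesc (P := @Etale) (fun k => inferInstance)
  let E : AlgSp.EtOver X := AlgSp.EtOver.mk ((AlgSp.yon S).map gV ≫ p)
    ((AlgSp.repWith_isMultiplicative (S := S) @Etale).comp_mem _ _
      ((AlgSp.repWith_yon_map_iff @Etale gV).2 hge) hp)
  refine ⟨E, ?_, ?_⟩
  · change IsAffine (∐ F)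
    infer_instance
  · intro x
    obtain ⟨u₁, rfl⟩ := Groth.Agent.S10177.surjective_ofPt p hps x
    have := ht (Set.mem_univ u₁)
    simp only [Set.mem_iUnion] at this
    obtain ⟨u0, hu0, hu⟩ := this
    refine ⟨(Sigma.ι F ⟨u0, hu0⟩) ⟨u₁, hu⟩, ?_⟩
    change AlgSp.Points.ofPt ((AlgSp.yon S).map gV ≫ p) _ = _
    rw [Groth.Agent.Lib.Seat48.WeakAssChart.ofPt_yon_map_comp]
    congr 1
    change g₀ ((Sigma.ι F ⟨u0, hu0⟩) ⟨u₁, hu⟩) = u₁
    rw [← Scheme.Hom.comp_apply, Sigma.ι_desc]
    rfl

variable (E : AlgSp.EtOver X) (M : AlgSp.ModEt X)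
  {I : Type (u + 1)} (n : I → M.val.obj (op E))
  {I' : Type (u + 1)} (n' : I' → M.val.obj (op E))

/-- the projection attached to a larger family kills the smaller family. -/
theorem nu_comp_pin_eq_zero (σ : I → I') (hσ : ∀ i, n i = n' (σ i)) :
    nu E M n ≫ pin E M n' = 0 := by
  apply (Qn E M n').freeHomEquiv.injective
  funext i
  rw [SheafOfModules.freeHomEquiv_comp_apply]
  have h1 : ((AlgSp.resModEt E).obj M).freeHomEquiv (nu E M n) = secs E M n :=
    Equiv.apply_symm_apply _ _
  rw [h1, SheafOfModules.freeHomEquiv_apply]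
  apply PresheafOfModules.sections_ext
  intro Y
  change (pin E M n').val.app Y ((secs E M n i).val Y) = _
  obtain ⟨Y⟩ := Y
  rw [secs_val, hσ i, pin_app_eq_zero]
  rfl

/-- the induced map on quotients. -/
noncomputable def qmap (σ : I → I') (hσ : ∀ i, n i = n' (σ i)) : Qn E M n ⟶ Qn E M n' :=
  cokernel.desc (nu E M n) (pin E M n') (nu_comp_pin_eq_zero E M n n' σ hσ)

theorem pin_qmap (σ : I → I') (hσ : ∀ i, n i = n' (σ i)) :
    pin E M n ≫ qmap E M n n' σ hσ = pin E M n' :=
  cokernel.π_desc _ _ _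

theorem theta_comp (σ : I → I') (hσ : ∀ i, n i = n' (σ i)) :
    theta E M n ≫ (AlgSp.pushOnModEt E).map (qmap E M n n' σ hσ) = theta E M n' := by
  unfold theta
  rw [← Adjunction.homEquiv_naturality_right, pin_qmap]

theorem Gι_comp_theta (σ : I → I') (hσ : ∀ i, n i = n' (σ i)) :
    Gι E M n ≫ theta E M n' = 0 := by
  rw [← theta_comp E M n n' σ hσ, ← Category.assoc]
  have : Gι E M n ≫ theta E M n = 0 := kernel.condition _
  rw [this, zero_comp]

/-- the inclusion of the submodule attached to a smaller family. -/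
noncomputable def Gmap (σ : I → I') (hσ : ∀ i, n i = n' (σ i)) : G E M n ⟶ G E M n' :=
  kernel.lift (theta E M n') (Gι E M n) (Gι_comp_theta E M n n' σ hσ)

theorem Gmap_ι (σ : I → I') (hσ : ∀ i, n i = n' (σ i)) :
    Gmap E M n n' σ hσ ≫ Gι E M n' = Gι E M n :=
  kernel.lift_ι _ _ _

/-- sections of `G` are the sections killed by `theta`. -/
theorem Gι_app_injective (W : AlgSp.EtOver X) :
    Function.Injective ((Gι E M n).val.app (op W)) :=
  app_injective_of_mono (Gι E M n) (op W)

theorem theta_Gι_app (W : AlgSp.EtOver X) (x : (G E M n).val.obj (op W)) :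
    (theta E M n).val.app (op W) ((Gι E M n).val.app (op W) x) = 0 := by
  have h : Gι E M n ≫ theta E M n = 0 := kernel.condition _
  exact congrArg (fun f : G E M n ⟶ (AlgSp.pushOnModEt E).obj (Qn E M n) =>
    f.val.app (op W) x) h

theorem exists_of_theta_eq_zero (W : AlgSp.EtOver X) (s : M.val.obj (op W))
    (hs : (theta E M n).val.app (op W) s = 0) :
    ∃ x : (G E M n).val.obj (op W), (Gι E M n).val.app (op W) x = s := by
  obtain ⟨-, hex⟩ := app_injective_and_exact_of_isLimit (theta E M n)
    (KernelFork.ofι (kernel.ι (theta E M n)) (kernel.condition (theta E M n)))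
    (kernelIsKernel (theta E M n)) (op W)
  exact (hex s).1 hs

/-- the sections over `E` of the submodule attached to a finite family form a finite module. -/
theorem finite_G_sections [Finite I] (hN : AlgSp.IsLocNoethSp X) (hE : IsAffine E.obj.left.left)
    (hM : HasBCOn (affineData X) M.val) :
    Module.Finite ((AlgSp.OEtRing X).obj.obj (op E)) ((G E M n).val.obj (op E)) := by
  haveI := isNoetherianRing_sect hN E hE
  let P := Submodule.span ((AlgSp.OEtRing X).obj.obj (op E)) (Set.range n)
  haveI : Module.Finite ((AlgSp.OEtRing X).obj.obj (op E)) P :=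
    Module.Finite.span_of_finite _ (Set.finite_range n)
  let φ : (G E M n).val.obj (op E) →ₗ[(AlgSp.OEtRing X).obj.obj (op E)] P :=
    LinearMap.codRestrict P ((Gι E M n).val.app (op E)).hom (fun x =>
      mem_span_of_theta_eq_zero E M n hE hM _ (theta_Gι_app E M n E x))
  refine Module.Finite.of_injective φ ?_
  intro x y hxy
  apply Gι_app_injective E M n E
  exact congrArg Subtype.val hxy

/-- **the submodule attached to a finite family of sections over an affine Noetherian surjective
chart is of finite presentation.** -/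
theorem isFinitePresentation_G [Finite I] [QuasiSeparatedSpace S]
    (hqs : AlgSp.IsQuasiSeparatedSp X) (hN : AlgSp.IsLocNoethSp X)
    (hE : IsAffine E.obj.left.left)
    (hsurj : ∀ x : AlgSp.Points X, ∃ e : E.obj.left.left, AlgSp.Points.ofPt E.obj.hom e = x)
    (hM : HasBCOn (affineData X) M.val) : (G E M n).IsFinitePresentation := by
  have hBC := hasBCOn_G E M n hqs hE hM
  refine isFinitePresentation_of_sections (affineData X) (affCover X) (G E M n) hBC (fun Y => ?_)
  refine (AlgSp.etTop X).superset_covering ?_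
    (sieveOf_mem_of_jointly_surjective (fun _ : Fin 1 => E)
      (fun x => by obtain ⟨e, he⟩ := hsurj x; exact ⟨0, e, he⟩) Y)
  rintro Z f ⟨W, g, h, ⟨hW, -, ⟨b⟩⟩, rfl⟩
  haveI := finite_G_sections E M n hN hE hM
  haveI := isNoetherianRing_sect hN E hE
  haveI : Module.FinitePresentation ((AlgSp.OEtRing X).obj.obj (op E))
      ((G E M n).val.obj (op E)) := Module.finitePresentation_of_finite _ _
  have hfp : Module.FinitePresentation ((AlgSp.OEtRing X).obj.obj (op W))
      ((G E M n).val.obj (op W)) := (hBC b hE hW).finitePresentation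
  exact ⟨⟨W, hW, hfp⟩, ⟨g⟩⟩

end Groth.Agent.Lib.Seat48.CohSub
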