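import Mathlib
import Groth.Agent.Lib.Seat48CohSub2

set_option autoImplicit false
set_option linter.style.haveILetI false
set_option linter.unusedSectionVars false
set_option backward.isDefEq.respectTransparency false

universe u

open CategoryTheory CategoryTheory.Limits AlgebraicGeometry Opposite

namespace Groth.Agent.Lib.Seat48.CohSub

open AlgSp
open Groth.Agent.Lib.Seat48.BCAlg
open Groth.Agent.Lib.Seat48.BCSite
open Groth.Agent.Lib.Seat48.BCEt
open Groth.Agent.Lib.Seat48.ModSect
open Groth.Agent.Lib.Seat48.PushOn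
open Groth.Agent.Lib.Seat48.CohEt

attribute [local instance] Groth.Agent.Lib.Seat48.BCSite.commRingSect

variable {S : Scheme.{u}} {X : AlgSp.Sp S}

/-- a morphism of modules vanishing on sections over affine objects is zero. -/
theorem hom_eq_zero_of_affine {N P : AlgSp.ModEt X} (φ : N ⟶ P)
    (h : ∀ W : AlgSp.EtOver X, IsAffine W.obj.left.left → ∀ x : N.val.obj (op W),
      φ.val.app (op W) x = 0) : φ = 0 := by
  apply SheafOfModules.hom_ext
  apply PresheafOfModules.hom_ext
  intro W
  apply ModuleCat.hom_ext
  ext x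
  obtain ⟨W⟩ := W
  change φ.val.app (op W) x = 0
  apply sect_ext_of_affine P W
  intro U₁
  have h1 := PresheafOfModules.naturality_apply φ.val (affHom W U₁.1).op x
  rw [← h1, h (affObj W U₁.1) U₁.2, map_zero]

variable (E : AlgSp.EtOver X) (M : AlgSp.ModEt X)

/-- **a map from a module with base change on affines and finite sections over `E` factors through
the submodule attached to some finite family.** -/
theorem exists_finset_comp_theta_eq_zero [QuasiSeparatedSpace S]
    (hqs : AlgSp.IsQuasiSeparatedSp X) (hE : IsAffine E.obj.left.left)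
    {N : AlgSp.ModEt X} (hNbc : HasBCOn (affineData X) N.val)
    (hNfin : Module.Finite ((AlgSp.OEtRing X).obj.obj (op E)) (N.val.obj (op E)))
    (ι : N ⟶ M) :
    ∃ t : Finset (M.val.obj (op E)), ι ≫ theta E M (fun i : t => i.1) = 0 := by
  classical
  obtain ⟨S0, hS0⟩ := hNfin.fg_top
  let t : Finset (M.val.obj (op E)) := S0.image (fun g => ι.val.app (op E) g)
  refine ⟨t, ?_⟩
  apply hom_eq_zero_of_affine
  intro W hW x
  change (theta E M (fun i : t => i.1)).val.app (op W) (ι.val.app (op W) x) = 0
  have hfp := fpProp_prod hqs E W hE hW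
  haveI : CompactSpace ((Over.star E).obj W).left.obj.left.left := hfp.1
  obtain ⟨m, U, hcov⟩ := exists_finite_affine_cover_over E ((Over.star E).obj W)
  refine theta_eq_zero_of_cover E M (fun i : t => i.1) W _
    (fun k => (Over.homMk (affHom ((Over.star E).obj W).left (U k).1) rfl :
      Over.mk (affHom ((Over.star E).obj W).left (U k).1 ≫ ((Over.star E).obj W).hom) ⟶
        (Over.star E).obj W)) hcov (fun k => ?_)
  change M.val.map (affHom ((Over.star E).obj W).left (U k).1).op
    (M.val.map (prod.snd : E ⨯ W ⟶ W).op (ι.val.app (op W) x)) ∈ _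
  -- the submodule
  let b := affHom ((Over.star E).obj W).left (U k).1 ≫ ((Over.star E).obj W).hom
  let P := Submodule.span ((AlgSp.OEtRing X).obj.obj
      (op (affObj ((Over.star E).obj W).left (U k).1)))
    (Set.range (fun i : t => M.val.map b.op i.1))
  have hbc : HasBCAt N.val b := hNbc _ hE (U k).2
  have h1 := hbc.span_range
  let ρ := N.val.restrictₛₗ b.op
  let ιV := (ι.val.app (op (affObj ((Over.star E).obj W).left (U k).1))).hom
  have hP' : (Submodule.span ((AlgSp.OEtRing X).obj.obj (op E)) (S0 : Set (N.val.obj (op E)))) ≤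
      (P.comap ιV).comap ρ := by
    rw [Submodule.span_le]
    intro g hg
    change ιV (ρ g) ∈ P
    have h2 : ιV (ρ g) = M.val.map b.op (ι.val.app (op E) g) :=
      PresheafOfModules.naturality_apply ι.val b.op g
    rw [h2]
    refine Submodule.subset_span ⟨⟨ι.val.app (op E) g, ?_⟩, rfl⟩
    exact Finset.mem_image.2 ⟨g, hg, rfl⟩
  rw [hS0] at hP'
  have hall : ∀ z, ιV z ∈ P := by
    have h3 : Submodule.span ((AlgSp.OEtRing X).obj.obj
        (op (affObj ((Over.star E).obj W).left (U k).1))) (Set.range ρ) ≤ P.comap ιV := by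
      rw [Submodule.span_le]
      rintro _ ⟨y, rfl⟩
      exact hP' (Submodule.mem_top (x := y))
    intro z
    have hz : z ∈ Submodule.span ((AlgSp.OEtRing X).obj.obj
        (op (affObj ((Over.star E).obj W).left (U k).1))) (Set.range ρ) := by
      rw [h1]
      trivial
    exact h3 hz
  have h4 := hall (N.val.map (affHom ((Over.star E).obj W).left (U k).1).op
    (N.val.map (prod.snd : E ⨯ W ⟶ W).op x))
  have h5 : ιV (N.val.map (affHom ((Over.star E).obj W).left (U k).1).op
      (N.val.map (prod.snd : E ⨯ W ⟶ W).op x)) =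
      M.val.map (affHom ((Over.star E).obj W).left (U k).1).op
        (M.val.map (prod.snd : E ⨯ W ⟶ W).op (ι.val.app (op W) x)) := by
    have e1 := PresheafOfModules.naturality_apply ι.val
      (affHom ((Over.star E).obj W).left (U k).1).op (N.val.map (prod.snd : E ⨯ W ⟶ W).op x)
    have e2 := PresheafOfModules.naturality_apply ι.val (prod.snd : E ⨯ W ⟶ W).op x
    rw [← e2]
    exact e1
  rw [h5] at h4
  exact h4

section Colimit

/-- the family of sections given by a finite set. -/
abbrev nt (t : Finset (M.val.obj (op E))) : t → M.val.obj (op E) := fun i => i.1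

variable (X) in
/-- the property of finite presentation on subobjects. -/
abbrev fpSub (M : AlgSp.ModEt X) : ObjectProperty (MonoOver M) :=
  fun N => SheafOfModules.IsFinitePresentation N.obj.left

instance (A B : (fpSub X M).FullSubcategory) : Subsingleton (A ⟶ B) :=
  ⟨fun _ _ => ObjectProperty.hom_ext _ (Subsingleton.elim _ _)⟩

variable [QuasiSeparatedSpace S] (hqs : AlgSp.IsQuasiSeparatedSp X) (hN : AlgSp.IsLocNoethSp X)
  (hE : IsAffine E.obj.left.left)
  (hsurj : ∀ x : AlgSp.Points X, ∃ e : E.obj.left.left, AlgSp.Points.ofPt E.obj.hom e = x)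
  (hM : HasBCOn (affineData X) M.val)

/-- the functor from finite sets of sections over the chart to coherent submodules. -/
noncomputable def Phi : Finset (M.val.obj (op E)) ⥤ (fpSub X M).FullSubcategory where
  obj t := ⟨MonoOver.mk (Gι E M (nt E M t)),
    isFinitePresentation_G E M (nt E M t) hqs hN hE hsurj hM⟩
  map {t t'} f := ObjectProperty.homMk (MonoOver.homMk
    (Gmap E M (nt E M t) (nt E M t') (fun i => ⟨i.1, leOfHom f i.2⟩) (fun _ => rfl))
    (Gmap_ι E M (nt E M t) (nt E M t') _ _))
  map_id _ := Subsingleton.elim _ _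
  map_comp _ _ := Subsingleton.elim _ _

theorem phi_final : (Phi E M hqs hN hE hsurj hM).Final := by
  classical
  haveI : IsFiltered (Finset (M.val.obj (op E))) := inferInstance
  refine Functor.final_of_exists_of_isFiltered _ (fun d => ?_)
    (fun {d c} s s' => ⟨c, 𝟙 c, by rw [Subsingleton.elim s s']⟩)
  obtain ⟨⟨dO, dmono⟩, dfp⟩ := d
  change SheafOfModules.IsFinitePresentation dO.left at dfp
  haveI := dfp
  have hNbc : HasBCOn (affineData X) dO.left.val := hasBCOn_of_isQuasicoherent _
  have hfin := finite_sections dO.left hNbc E hE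
  obtain ⟨t, ht⟩ := exists_finset_comp_theta_eq_zero E M hqs hE hNbc hfin dO.hom
  exact ⟨t, ⟨ObjectProperty.homMk (MonoOver.homMk
    (kernel.lift (theta E M (nt E M t)) dO.hom ht) (kernel.lift_ι _ _ _))⟩⟩

/-- **`M` is the colimit of the submodules attached to the finite sets of sections over the
chart.** -/
theorem isColimit_whisker_phi :
    Nonempty (IsColimit (((Over.forgetCocone M).whisker
      ((fpSub X M).ι ⋙ MonoOver.forget M)).whisker (Phi E M hqs hN hE hsurj hM))) := by
  classical
  haveI : IsFiltered (Finset (M.val.obj (op E))) := inferInstance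
  let F : Finset (M.val.obj (op E)) ⥤ AlgSp.ModEt X :=
    Phi E M hqs hN hE hsurj hM ⋙ (((fpSub X M).ι ⋙ MonoOver.forget M) ⋙ Over.forget M)
  let c' : Cocone F := ((Over.forgetCocone M).whisker
      ((fpSub X M).ι ⋙ MonoOver.forget M)).whisker (Phi E M hqs hN hE hsurj hM)
  have hleg : ∀ t, c'.ι.app t = Gι E M (nt E M t) := fun t => rfl
  have hobj : ∀ t, F.obj t = G E M (nt E M t) := fun t => rfl
  let δ : colimit F ⟶ M := colimit.desc F c'
  have hδ : ∀ t, colimit.ι F t ≫ δ = Gι E M (nt E M t) := fun t => colimit.ι_desc c' t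
  haveI : Epi δ := by
    refine epi_of_app_surjective (affineData X) (affCover X) δ (fun W hW s => ?_)
    obtain ⟨t, ht⟩ := exists_finset_theta_eq_zero E M hqs hE hM W hW s
    obtain ⟨x, hx⟩ := exists_of_theta_eq_zero E M (nt E M t) W s ht
    refine ⟨(colimit.ι F t).val.app (op W) x, ?_⟩
    rw [← hx]
    exact congrArg (fun f : G E M (nt E M t) ⟶ M => f.val.app (op W) x) (hδ t)
  haveI : Mono δ := by
    refine mono_of_app_injective (affineData X) (affCover X) δ (fun W hW y1 y2 h => ?_)
    have h0 : (δ.val.app (op W)).hom (y1 - y2) = 0 := by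
      rw [map_sub, sub_eq_zero]
      exact h
    obtain ⟨k, x, hx⟩ := exists_rep_of_isColimit (affineData X) F (colimit.cocone F)
      (colimit.isColimit F) (fun k => hasBCOn_G E M (nt E M k) hqs hE hM) hW (y1 - y2)
    have h1 : (Gι E M (nt E M k)).val.app (op W) x = (δ.val.app (op W)).hom (y1 - y2) := by
      rw [← hx]
      exact (congrArg (fun f : G E M (nt E M k) ⟶ M => f.val.app (op W) x) (hδ k)).symm
    rw [h0] at h1
    have hx0 : x = 0 := by
      apply Gι_app_injective E M (nt E M k) W
      rw [h1]
      exact (map_zero _).symm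
    rw [hx0] at hx
    have h2 : y1 - y2 = 0 := by
      rw [← hx]
      exact map_zero _
    exact sub_eq_zero.1 h2
  haveI : IsIso δ := isIso_of_mono_of_epi δ
  haveI : IsIso ((colimit.isColimit F).desc c') := ‹IsIso δ›
  exact ⟨IsColimit.ofPointIso (colimit.isColimit F)⟩

include E hqs hN hE hsurj hM in
/-- **the coherent submodules of a quasi-coherent module on a Noetherian algebraic space form a
filtered category, and the module is their colimit.** -/
theorem isFiltered_and_isColimit :
    IsFiltered (fpSub X M).FullSubcategory ∧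
      Nonempty (IsColimit ((Over.forgetCocone M).whisker
        ((fpSub X M).ι ⋙ MonoOver.forget M))) := by
  classical
  haveI : IsFiltered (Finset (M.val.obj (op E))) := inferInstance
  haveI := phi_final E M hqs hN hE hsurj hM
  obtain ⟨h⟩ := isColimit_whisker_phi E M hqs hN hE hsurj hM
  exact ⟨IsFiltered.of_final (Phi E M hqs hN hE hsurj hM),
    ⟨(Functor.Final.isColimitWhiskerEquiv (Phi E M hqs hN hE hsurj hM) _) h⟩⟩

end Colimit

end Groth.Agent.Lib.Seat48.CohSub
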