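import Mathlib.Algebra.Homology.ShortComplex.PreservesHomology
import Mathlib.Algebra.Homology.ShortComplex.HomologicalComplex
import Mathlib.Algebra.Homology.HomologicalComplexLimits
import Mathlib.Algebra.Homology.HomologicalComplexAbelian
import Mathlib.CategoryTheory.Abelian.GrothendieckAxioms.Basic
import Mathlib.CategoryTheory.Abelian.FunctorCategory
import Mathlib.CategoryTheory.Limits.Preserves.FunctorCategory

/-!
# Homology of a coproduct of complexes when coproducts are exact (seat 5)

Let `C` be an abelian category in which coproducts indexed by `ι` exist and are exact (AB4 for `ι`).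
For a family `F : ι → HomologicalComplex C c`, the homology `(∐ F).homology i` is isomorphic to the
colimit of a functor `Discrete ι ⥤ C` whose value at `j` is isomorphic to `(F j).homology i`.
-/

set_option autoImplicit false

universe w v u

open CategoryTheory CategoryTheory.Limits

namespace Groth.Agent.Lib.Seat5.HomologyCoprod

variable {C : Type u} [Category.{v} C] [Abelian C] {ι : Type w}
  [HasColimitsOfShape (Discrete ι) C]
  {α : Type*} {c : ComplexShape α} (F : ι → HomologicalComplex C c)

/-- The cofan `(F j).X n ⟶ (∐ F).X n` is a colimit. -/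
noncomputable def isColimitCofanX (n : α) :
    IsColimit (Cofan.mk ((∐ F).X n) (fun j => (Sigma.ι F j).f n)) := by
  have hc := isColimitOfPreserves (HomologicalComplex.eval C c n) (coproductIsCoproduct F)
  refine Cofan.IsColimit.mk _ (fun s => hc.desc
    { pt := s.pt
      ι := Discrete.natTrans (fun t => s.inj t.as) }) (fun s j => ?_) (fun s m hm => ?_)
  · exact hc.fac _ ⟨j⟩
  · refine hc.hom_ext (fun ⟨t⟩ => ?_)
    rw [hc.fac]
    exact hm t

/-- `(∐ F).X n` is the coproduct of the `(F j).X n`. -/
noncomputable def eX (n : α) : colimit (Discrete.functor fun j => (F j).X n) ≅ (∐ F).X n :=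
  IsColimit.coconePointUniqueUpToIso (colimit.isColimit _) (isColimitCofanX F n)

@[reassoc (attr := simp)]
lemma ι_eX_hom (n : α) (j : ι) :
    colimit.ι (Discrete.functor fun j => (F j).X n) ⟨j⟩ ≫ (eX F n).hom = (Sigma.ι F j).f n :=
  IsColimit.comp_coconePointUniqueUpToIso_hom (colimit.isColimit _) (isColimitCofanX F n) ⟨j⟩

/-- the differentials as a natural transformation of discrete functors -/
noncomputable abbrev dNat (n m : α) :
    (Discrete.functor fun j => (F j).X n) ⟶ (Discrete.functor fun j => (F j).X m) :=
  Discrete.natTrans (fun j => (F j.as).d n m)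

lemma eX_hom_d (n m : α) :
    (eX F n).hom ≫ (∐ F).d n m = colimMap (dNat F n m) ≫ (eX F m).hom := by
  apply colimit.hom_ext
  rintro ⟨j⟩
  rw [ι_eX_hom_assoc, ι_colimMap_assoc, ι_eX_hom]
  exact (Sigma.ι F j).comm _ _

/-- The short complex of functors `Discrete ι ⥤ C` given by `j ↦ (F j).sc i`. -/
noncomputable abbrev T (i : α) : ShortComplex (Discrete ι ⥤ C) where
  X₁ := Discrete.functor (fun j => (F j).X (c.prev i))
  X₂ := Discrete.functor (fun j => (F j).X i)
  X₃ := Discrete.functor (fun j => (F j).X (c.next i))
  f := dNat F (c.prev i) i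
  g := dNat F i (c.next i)
  zero := by
    ext ⟨j⟩
    simp

variable [HasExactColimitsOfShape (Discrete ι) C]

/-- `colim` applied to `T F i` is the short complex `(∐ F).sc i`. -/
noncomputable def mapColimIso (i : α) : (T F i).map colim ≅ (∐ F).sc i :=
  ShortComplex.isoMk (eX F (c.prev i)) (eX F i) (eX F (c.next i))
    (eX_hom_d F (c.prev i) i) (eX_hom_d F i (c.next i))

/-- the homology of the coproduct is a colimit of a functor with values the homologies -/
noncomputable def homologyIsoColimit (i : α) :
    (∐ F).homology i ≅ colimit (T F i).homology :=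
  (ShortComplex.homologyMapIso (mapColimIso F i)).symm ≪≫ (T F i).mapHomologyIso colim

/-- The values of `(T F i).homology`. -/
noncomputable def homologyObjIso (i : α) (j : ι) :
    (T F i).homology.obj ⟨j⟩ ≅ (F j).homology i :=
  ((T F i).mapHomologyIso ((evaluation (Discrete ι) C).obj ⟨j⟩)).symm ≪≫
    ShortComplex.homologyMapIso (ShortComplex.isoMk (Iso.refl _) (Iso.refl _) (Iso.refl _)
      ((Category.id_comp _).trans (Category.comp_id _).symm)
      ((Category.id_comp _).trans (Category.comp_id _).symm))

end Groth.Agent.Lib.Seat5.HomologyCoprod
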