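import Mathlib
import Groth.Prelude.Def_AlgSpD
import Groth.Agent.Lib.Helper21DCoprod
import Groth.Agent.Lib.Seat5HomologyCoprod
import Groth.Agent.Lib.Seat48BCEt4
import Groth.Agent.Lib.Seat48ExtBC2

/-!
# Coproducts in `D_QCoh(O_X)` (seat 48)

Namespace `Groth.Agent.Lib.Seat48.DCoprod`.

* `isQuasicoherent_colimit`: colimits of quasi-coherent modules on the small etale site are
  quasi-coherent;
* `isQCohDMod_sigma`: a coproduct in `D(O_X)` of objects with quasi-coherent cohomology sheaves has
  quasi-coherent cohomology sheaves.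
-/

set_option autoImplicit false
set_option linter.style.haveILetI false
set_option backward.isDefEq.respectTransparency false

universe u

open CategoryTheory CategoryTheory.Limits AlgebraicGeometry Opposite

attribute [local instance] HasDerivedCategory.standard

namespace Groth.Agent.Lib.Seat48.DCoprod

open Groth.Agent.Lib.Seat48.BCEt

section AB

universe w v₁ u₁ v₂ u₂

theorem hasExactColimitsOfShape_presheafOfModules {C : Type u₁} [Category.{v₁} C]
    (R₀ : Cᵒᵖ ⥤ RingCat.{w}) (K : Type u₂) [Category.{v₂} K]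
    [HasColimitsOfShape K AddCommGrpCat.{w}] [HasExactColimitsOfShape K AddCommGrpCat.{w}] :
    HasExactColimitsOfShape K (PresheafOfModules.{w} R₀) := by
  have : ReflectsFiniteLimits (PresheafOfModules.toPresheaf.{w} R₀) :=
    ⟨fun J _ _ => reflectsLimitsOfShape_of_reflectsIsomorphisms⟩
  exact HasExactColimitsOfShape.domain_of_functor K (PresheafOfModules.toPresheaf.{w} R₀)

/-- exactness of colimits of a given shape passes from abelian groups to sheaves of modules. -/
theorem hasExactColimitsOfShape_sheafOfModules {C : Type u₁} [Category.{v₁} C]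
    {J : GrothendieckTopology C} (R : Sheaf J RingCat.{w})
    [HasSheafify J AddCommGrpCat.{w}] [J.WEqualsLocallyBijective AddCommGrpCat.{w}]
    (K : Type u₂) [Category.{v₂} K]
    [HasColimitsOfShape K AddCommGrpCat.{w}] [HasExactColimitsOfShape K AddCommGrpCat.{w}] :
    HasExactColimitsOfShape K (SheafOfModules.{w} R) := by
  have := hasExactColimitsOfShape_presheafOfModules R.obj K
  exact (PresheafOfModules.sheafificationAdjunction (𝟙 R.obj) (J := J)
    (R := R)).hasExactColimitsOfShape K

end AB

variable {S : Scheme.{u}} (X : AlgSp.Sp S)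

theorem isQuasicoherent_colimit {K : Type (u + 1)} [SmallCategory K] (F : K ⥤ AlgSp.ModEt X)
    (h : ∀ j, (F.obj j).IsQuasicoherent) : (colimit F).IsQuasicoherent := by
  apply isQuasicoherent_of_hasBCOn
  apply Groth.Agent.Lib.Seat48.BCSite.hasBCOn_colimit
  intro k
  haveI := h k
  exact hasBCOn_of_isQuasicoherent _

theorem isQCohDMod_sigma {ι : Type (u + 1)} (E : ι → AlgSp.DModEt X) [HasCoproduct E]
    (hE : ∀ i, DCoh.IsQCohDMod (AlgSp.OEtRing X) (E i)) :
    DCoh.IsQCohDMod (AlgSp.OEtRing X) (∐ E) := by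
  classical
  have hK : ∀ i, ∃ K : CochainComplex (AlgSp.ModEt X) ℤ,
      Nonempty (DerivedCategory.Q.obj K ≅ E i) :=
    fun i => ⟨_, ⟨DerivedCategory.Q.objObjPreimageIso (E i)⟩⟩
  choose K eK using hK
  have eK' : ∀ i, DerivedCategory.Q.obj (K i) ≅ E i := fun i => (eK i).some
  haveI : HasColimitsOfShape (Discrete ι) (AlgSp.ModEt X) := inferInstance
  haveI : HasExactColimitsOfShape (Discrete ι) (AlgSp.ModEt X) :=
    hasExactColimitsOfShape_sheafOfModules (AlgSp.OEtRing X) (Discrete ι)
  have hP : IsColimit (Cofan.mk (DerivedCategory.Q.obj (∐ K))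
      (fun j => DerivedCategory.Q.map (Sigma.ι K j))) :=
    Groth.Agent.Lib.Helper21.DCoprod.isColimitQMapCofan (fun j => Sigma.ι K j)
      (coproductIsCoproduct K)
  have hP' : IsColimit (Cofan.mk (DerivedCategory.Q.obj (∐ K))
      (fun j => (eK' j).inv ≫ DerivedCategory.Q.map (Sigma.ι K j))) := by
    refine Cofan.IsColimit.mk _
      (fun s => Cofan.IsColimit.desc hP (fun j => (eK' j).hom ≫ s.inj j)) ?_ ?_
    · intro s j
      dsimp
      rw [Category.assoc]
      erw [Cofan.IsColimit.fac hP]
      simp
    · intro s m hm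
      apply Cofan.IsColimit.hom_ext hP
      intro j
      erw [Cofan.IsColimit.fac hP]
      have := hm j
      dsimp at this
      rw [Category.assoc] at this
      rw [← this]
      simp
  let e : ∐ E ≅ DerivedCategory.Q.obj (∐ K) :=
    IsColimit.coconePointUniqueUpToIso (coproductIsCoproduct E) hP'
  intro n
  let A := AlgSp.ModEt X
  have e1 : DCoh.HDMod (AlgSp.OEtRing X) (∐ E) n ≅ (∐ K).homology n :=
    (DerivedCategory.homologyFunctor A n).mapIso e ≪≫
      (DerivedCategory.homologyFunctorFactors A n).app (∐ K)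
  have e2 := Groth.Agent.Lib.Seat5.HomologyCoprod.homologyIsoColimit K n
  have hq : (colimit (Groth.Agent.Lib.Seat5.HomologyCoprod.T K n).homology).IsQuasicoherent := by
    apply isQuasicoherent_colimit
    rintro ⟨j⟩
    have e3 := Groth.Agent.Lib.Seat5.HomologyCoprod.homologyObjIso K n j
    have e4 : (K j).homology n ≅ DCoh.HDMod (AlgSp.OEtRing X) (E j) n :=
      ((DerivedCategory.homologyFunctorFactors A n).app (K j)).symm ≪≫
        (DerivedCategory.homologyFunctor A n).mapIso (eK' j)
    exact (SheafOfModules.isQuasicoherent (AlgSp.OEtRing X)).prop_of_iso (e3 ≪≫ e4).symm (hE j n)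
  exact (SheafOfModules.isQuasicoherent (AlgSp.OEtRing X)).prop_of_iso (e1 ≪≫ e2).symm hq

end Groth.Agent.Lib.Seat48.DCoprod
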