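import Groth.Agent.Lib.Helper16FP
import Groth.Agent.S2004
import Groth.Agent.S2005
import Mathlib.RingTheory.RingHom.Flat
import Mathlib.RingTheory.RingHom.FinitePresentation
import Mathlib.RingTheory.RingHom.Etale
import Mathlib.RingTheory.Kaehler.TensorProduct
import Mathlib.RingTheory.Unramified.Basic
import Mathlib.RingTheory.Localization.Algebra
import Mathlib.RingTheory.Flat.Equalizer
import Mathlib.LinearAlgebra.TensorProduct.Tower

/-!
# Glueing pairs and algebras (helper48)

Base change of a glueing pair `(R → R', f)` along a glueable `R`-algebra `A`, and detection of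
flat / finitely presented / etale algebra maps.
-/

set_option autoImplicit false
universe u

namespace Groth.Agent.Lib.Seat48.GlueAlg

open TensorProduct

attribute [local instance] Algebra.TensorProduct.rightAlgebra

section BaseChangePair

variable {R R' : Type u} [CommRing R] [CommRing R'] [Algebra R R'] {f : R}
variable {A : Type u} [CommRing A] [Algebra R A]

/-- the retraction `R' → R/fⁿ` given by the inverse of `R/fⁿ ≅ R'/fⁿ`. -/
noncomputable def quotRetract (hq : EtGlue.QuotPowBijective R R' f) {n : ℕ} (hn : 0 < n) :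
    R' →ₐ[R] R ⧸ Ideal.span {f ^ n} :=
  { ((RingEquiv.ofBijective _ (hq n hn)).symm.toRingHom.comp
      (Ideal.Quotient.mk (Ideal.map (algebraMap R R') (Ideal.span {f ^ n})))) with
    commutes' := fun r => by
      show (RingEquiv.ofBijective _ (hq n hn)).symm (Ideal.Quotient.mk _ (algebraMap R R' r)) = _
      rw [RingEquiv.symm_apply_eq]
      rfl }

theorem quotPow_baseChange (hq : EtGlue.QuotPowBijective R R' f) :
    EtGlue.QuotPowBijective A (R' ⊗[R] A) (algebraMap R A f) := by
  intro n hn
  constructor
  · rw [injective_iff_map_eq_zero]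
    intro x hx
    obtain ⟨a, rfl⟩ := Ideal.Quotient.mk_surjective x
    rw [Ideal.quotientMap_mk, Ideal.Quotient.eq_zero_iff_mem, Ideal.map_span, Set.image_singleton,
      Ideal.mem_span_singleton'] at hx
    obtain ⟨c, hc⟩ := hx
    -- the algebra map `R/fⁿ → A/fⁿ`
    have hle : Ideal.span {f ^ n} ≤ Ideal.comap (algebraMap R A) (Ideal.span {algebraMap R A f ^ n}) := by
      rw [Ideal.span_le, Set.singleton_subset_iff]
      show algebraMap R A (f ^ n) ∈ Ideal.span {algebraMap R A f ^ n}
      rw [map_pow]
      exact Ideal.mem_span_singleton_self _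
    let q : (R ⧸ Ideal.span {f ^ n}) →ₐ[R] (A ⧸ Ideal.span {algebraMap R A f ^ n}) :=
      { Ideal.quotientMap _ (algebraMap R A) hle with
        commutes' := fun r => rfl }
    let Θ : R' ⊗[R] A →ₐ[R] (A ⧸ Ideal.span {algebraMap R A f ^ n}) :=
      Algebra.TensorProduct.lift (q.comp (quotRetract hq hn))
        (Ideal.Quotient.mkₐ R (Ideal.span {algebraMap R A f ^ n})) (fun _ _ => Commute.all _ _)
    have h1 : Θ (algebraMap A (R' ⊗[R] A) a) = Ideal.Quotient.mk _ a := by
      show Θ ((1 : R') ⊗ₜ[R] a) = _
      simp [Θ]
    have h2 : Θ (c * algebraMap A (R' ⊗[R] A) (algebraMap R A f ^ n)) = 0 := by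
      rw [map_mul]
      have : Θ (algebraMap A (R' ⊗[R] A) (algebraMap R A f ^ n)) = 0 := by
        show Θ ((1 : R') ⊗ₜ[R] (algebraMap R A f ^ n)) = _
        simp only [Θ, Algebra.TensorProduct.lift_tmul, map_one, one_mul]
        exact Ideal.Quotient.eq_zero_iff_mem.mpr (Ideal.mem_span_singleton_self _)
      rw [this, mul_zero]
    rw [hc, h1] at h2
    exact h2
  · intro x
    obtain ⟨c, rfl⟩ := Ideal.Quotient.mk_surjective x
    induction c using TensorProduct.induction_on with
    | zero => exact ⟨0, by simp⟩
    | add c₁ c₂ h₁ h₂ =>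
      obtain ⟨y₁, hy₁⟩ := h₁
      obtain ⟨y₂, hy₂⟩ := h₂
      exact ⟨y₁ + y₂, by rw [map_add, hy₁, hy₂, map_add]⟩
    | tmul r' a =>
      obtain ⟨r, s', hrs⟩ := Groth.Agent.Lib.Helper16.quotPow_surj hq hn r'
      refine ⟨Ideal.Quotient.mk _ (r • a), ?_⟩
      rw [Ideal.quotientMap_mk, Ideal.Quotient.eq, Ideal.map_span, Set.image_singleton,
        Ideal.mem_span_singleton']
      refine ⟨-(s' ⊗ₜ[R] a), ?_⟩
      show -(s' ⊗ₜ[R] a) * ((1 : R') ⊗ₜ[R] (algebraMap R A f ^ n)) = (1 : R') ⊗ₜ[R] (r • a) - r' ⊗ₜ[R] a
      have e1 : (algebraMap R R' r) ⊗ₜ[R] a = (1 : R') ⊗ₜ[R] (r • a) := by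
        rw [Algebra.algebraMap_eq_smul_one, TensorProduct.smul_tmul]
      have e2 : ((algebraMap R R') f ^ n * s') ⊗ₜ[R] a = s' ⊗ₜ[R] (a * algebraMap R A f ^ n) := by
        rw [← map_pow, ← Algebra.smul_def, TensorProduct.smul_tmul, Algebra.smul_def, mul_comm,
          map_pow]
      rw [hrs, TensorProduct.add_tmul, neg_mul, Algebra.TensorProduct.tmul_mul_tmul, mul_one, e1, e2]
      abel

/-- **Base change of a glueing pair** along a glueable algebra: if `(R → R', f)` is a glueing pair
and the `R`-algebra `A` is glueable as an `R`-module, then `(A → R' ⊗ A, f)` is a glueing pair. -/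
theorem isGlueingPair_baseChange (h : EtGlue.IsGlueingPair R R' f)
    (hA : EtGlue.IsGlueable R R' f A) :
    EtGlue.IsGlueingPair A (R' ⊗[R] A) (algebraMap R A f) := by
  rw [Groth.Agent.S2004.result A (R' ⊗[R] A) (algebraMap R A f) (quotPow_baseChange h.1)]
  obtain ⟨h1, h2⟩ := (Groth.Agent.S2005.result R R' f h.1 A).1.mp hA
  have hsm : ∀ (n : ℕ) (x : R' ⊗[R] A),
      algebraMap A (R' ⊗[R] A) (algebraMap R A f) ^ n * x = f ^ n • x := by
    intro n x
    rw [← map_pow, ← map_pow, Algebra.smul_def]
    congr 1
    show (1 : R') ⊗ₜ[R] (algebraMap R A (f ^ n)) = algebraMap R R' (f ^ n) ⊗ₜ[R] (1 : A)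
    rw [Algebra.algebraMap_eq_smul_one, Algebra.algebraMap_eq_smul_one (A := R'),
      TensorProduct.smul_tmul]
  constructor
  · intro x ⟨n, hn⟩ hx
    refine h1 x ⟨n, ?_⟩ hx
    rw [Algebra.smul_def, map_pow]
    exact hn
  · intro x' ⟨n, hn⟩
    obtain ⟨m, ⟨k, hk⟩, hm⟩ := h2 x' ⟨n, by rw [← hsm]; exact hn⟩
    refine ⟨m, ⟨k, ?_⟩, hm⟩
    rw [← map_pow, ← Algebra.smul_def]
    exact hk

end BaseChangePair

section Flat

variable {R R' : Type u} [CommRing R] [CommRing R'] [Algebra R R'] {f : R}
variable {A B : Type u} [CommRing A] [Algebra R A] [CommRing B] [Algebra R B] [Algebra A B]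
  [IsScalarTower R A B]

theorem flat_of_loc_of_tensor (h : EtGlue.IsGlueingPair R R' f) (hA : EtGlue.IsGlueable R R' f A)
    (h1 : (Localization.awayMap (algebraMap A B) (algebraMap R A f)).Flat)
    (h2 : (Algebra.TensorProduct.map (AlgHom.id R R') (IsScalarTower.toAlgHom R A B)).toRingHom.Flat) :
    Module.Flat A B := by
  have hpair := isGlueingPair_baseChange h hA
  -- the tensor side
  let _ : Algebra (R' ⊗[R] A) (R' ⊗[R] B) :=
    (Algebra.TensorProduct.map (AlgHom.id R R') (IsScalarTower.toAlgHom R A B)).toRingHom.toAlgebra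
  let _ : Algebra A (R' ⊗[R] B) := ((algebraMap B (R' ⊗[R] B)).comp (algebraMap A B)).toAlgebra
  have : IsScalarTower A B (R' ⊗[R] B) := IsScalarTower.of_algebraMap_eq' rfl
  have : IsScalarTower A (R' ⊗[R] A) (R' ⊗[R] B) := IsScalarTower.of_algebraMap_eq' (by
    ext a
    simp [RingHom.algebraMap_toAlgebra])
  have : IsScalarTower R (R' ⊗[R] A) (R' ⊗[R] B) := IsScalarTower.of_algebraMap_eq' (by
    ext r
    simp [RingHom.algebraMap_toAlgebra])
  have : IsScalarTower R' (R' ⊗[R] A) (R' ⊗[R] B) := IsScalarTower.of_algebraMap_eq' (by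
    ext r
    simp [RingHom.algebraMap_toAlgebra])
  have hpo : Algebra.IsPushout A B (R' ⊗[R] A) (R' ⊗[R] B) :=
    (Algebra.IsPushout.comp_iff R A R' (R' ⊗[R] A) (T := B) (T' := R' ⊗[R] B)).mp inferInstance
  have hpo' : Algebra.IsPushout A (R' ⊗[R] A) B (R' ⊗[R] B) := hpo.symm
  have hfl : Module.Flat (R' ⊗[R] A) (R' ⊗[R] B) := h2
  have : Module.Flat (R' ⊗[R] A) ((R' ⊗[R] A) ⊗[A] B) :=
    Module.Flat.of_linearEquiv hpo'.out.equiv
  -- the localization side
  set a : A := algebraMap R A f with ha
  let _ : Algebra (Localization.Away a) (Localization.Away (algebraMap A B a)) :=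
    (Localization.awayMap (algebraMap A B) a).toAlgebra
  have : IsScalarTower A (Localization.Away a) (Localization.Away (algebraMap A B a)) :=
    IsScalarTower.of_algebraMap_eq'
      (IsLocalization.map_comp (Submonoid.powers a).le_comap_map).symm
  have : IsLocalization (Algebra.algebraMapSubmonoid B (Submonoid.powers a))
      (Localization.Away (algebraMap A B a)) := by
    rw [Algebra.algebraMapSubmonoid, Submonoid.map_powers]
    exact Localization.isLocalization
  have hfl2 : Module.Flat (Localization.Away a) (Localization.Away (algebraMap A B a)) := h1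
  have hfl3 : Module.Flat A (Localization.Away (algebraMap A B a)) :=
    Module.Flat.trans A (Localization.Away a) _
  have : IsLocalizedModule (Submonoid.powers a)
      (IsScalarTower.toAlgHom A B (Localization.Away (algebraMap A B a))).toLinearMap :=
    isLocalizedModule_iff_isLocalization.mpr inferInstance
  have hfl4 : Module.Flat A (LocalizedModule (Submonoid.powers a) B) :=
    Module.Flat.of_linearEquiv (IsLocalizedModule.iso (Submonoid.powers a)
      (IsScalarTower.toAlgHom A B (Localization.Away (algebraMap A B a))).toLinearMap)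
  exact Groth.Agent.Lib.Helper16.flat_of_glueingPair' hpair hfl4

end Flat

section FinitePresentation

theorem lTensor_restrictScalars_injective {R A : Type*} [CommRing R] [CommRing A] [Algebra R A]
    {K F B : Type*} [AddCommGroup K] [Module A K] [Module R K] [IsScalarTower R A K]
    [AddCommGroup F] [Module A F] [Module R F] [IsScalarTower R A F]
    [AddCommGroup B] [Module A B] [Module.Flat A B]
    (π : F →ₗ[A] B) (hπ : Function.Surjective π) (ι : K →ₗ[A] F) (hι : Function.Injective ι)
    (H : Function.Exact ι π) (N : Type*) [AddCommGroup N] [Module R N] :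
    Function.Injective ((ι.restrictScalars R).lTensor N) := by
  rw [LinearMap.lTensor_inj_iff_rTensor_inj]
  have h1 : Function.Injective (ι.rTensor (A ⊗[R] N)) := by
    rw [← LinearMap.lTensor_inj_iff_rTensor_inj]
    exact LinearMap.lTensor_injective_of_exact_of_flat π hπ ι hι H _
  have hcomm : ∀ x, (ι.restrictScalars R).rTensor N
      (TensorProduct.AlgebraTensorModule.cancelBaseChange R A A K N x) =
      TensorProduct.AlgebraTensorModule.cancelBaseChange R A A F N (ι.rTensor (A ⊗[R] N) x) := by
    intro x
    induction x using TensorProduct.induction_on with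
    | zero => simp
    | add x y hx hy => simp only [map_add, hx, hy]
    | tmul k y =>
      induction y using TensorProduct.induction_on with
      | zero => simp
      | add x y hx hy => simp only [tmul_add, map_add, hx, hy]
      | tmul a n => simp
  intro x y hxy
  obtain ⟨x, rfl⟩ := (TensorProduct.AlgebraTensorModule.cancelBaseChange R A A K N).surjective x
  obtain ⟨y, rfl⟩ := (TensorProduct.AlgebraTensorModule.cancelBaseChange R A A K N).surjective y
  rw [hcomm, hcomm] at hxy
  rw [h1 ((TensorProduct.AlgebraTensorModule.cancelBaseChange R A A F N).injective hxy)]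

variable {R R' : Type u} [CommRing R] [CommRing R'] [Algebra R R'] {f : R}

theorem ker_fg_of_loc_of_tensor (hq : EtGlue.QuotPowBijective R R' f)
    {P B : Type u} [CommRing P] [CommRing B] [Algebra R P] [Algebra R B] (π : P →ₐ[R] B)
    (hπ : Function.Surjective π)
    (s₁ : Finset P) (hs₁ : ∀ x ∈ s₁, π x = 0)
    (h1 : ∀ x, π x = 0 → ∃ k : ℕ, f ^ k • x ∈ Ideal.span (s₁ : Set P))
    (hinj : Function.Injective (((RingHom.ker π.toRingHom).restrictScalars R).subtype.lTensor R'))
    (hfg : (RingHom.ker (Algebra.TensorProduct.map (AlgHom.id R R') π).toRingHom).FG) :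
    (RingHom.ker π.toRingHom).FG := by
  classical
  set J : Ideal P := RingHom.ker π.toRingHom with hJ
  set JR : Submodule R P := J.restrictScalars R with hJR
  have hJker : JR = LinearMap.ker π.toLinearMap := by
    ext x; rfl
  have hex : Function.Exact (JR.subtype.lTensor R') (π.toLinearMap.lTensor R') := by
    rw [hJker]
    exact lTensor_exact R' (LinearMap.exact_subtype_ker_map π.toLinearMap) hπ
  obtain ⟨T, hT⟩ := hfg
  -- each generator comes from `R' ⊗ J`
  have hTmem : ∀ t ∈ T, ∃ y : R' ⊗[R] JR, JR.subtype.lTensor R' y = t := by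
    intro t ht
    have : t ∈ RingHom.ker (Algebra.TensorProduct.map (AlgHom.id R R') π).toRingHom := by
      rw [← hT]; exact Ideal.subset_span ht
    have h0 : π.toLinearMap.lTensor R' t = 0 := by
      have e : ∀ w : R' ⊗[R] P, π.toLinearMap.lTensor R' w =
          Algebra.TensorProduct.map (AlgHom.id R R') π w := by
        intro w
        induction w using TensorProduct.induction_on with
        | zero => simp
        | add x y hx hy => simp only [map_add, hx, hy]
        | tmul a b => simp
      rw [e]; exact this
    exact (hex t).mp h0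
  choose! y hy using hTmem
  obtain ⟨N₀, hN₀fin, hN₀⟩ := TensorProduct.exists_finite_submodule_right_of_setFinite
    ((T.image y : Finset (R' ⊗[R] JR)) : Set (R' ⊗[R] JR)) (Finset.finite_toSet _)
  obtain ⟨s₂, hs₂⟩ := Module.Finite.iff_fg.mp hN₀fin
  set s : Finset P := s₁ ∪ s₂.image (fun j : JR => (j : P)) with hs
  set I : Ideal P := Ideal.span (s : Set P) with hI
  have hIJ : I ≤ J := by
    rw [hI, Ideal.span_le]
    intro x hx
    rw [hs, Finset.coe_union, Set.mem_union] at hx
    rcases hx with hx | hx
    · exact hs₁ x hx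
    · simp only [Finset.coe_image, Set.mem_image] at hx
      obtain ⟨j, -, rfl⟩ := hx
      exact j.2
  have hIJ' : I.restrictScalars R ≤ JR := hIJ
  have hN₀I : N₀.map JR.subtype ≤ I.restrictScalars R := by
    rw [← hs₂, Submodule.map_span, Submodule.span_le]
    rintro _ ⟨j, hj, rfl⟩
    refine Ideal.subset_span ?_
    rw [hs, Finset.coe_union]
    right
    simp only [Finset.coe_image, Set.mem_image]
    exact ⟨j, hj, rfl⟩
  -- the range of `R' ⊗ I → R' ⊗ P` is an ideal containing `T`
  have hrange : ∀ w ∈ Ideal.span (T : Set (R' ⊗[R] P)),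
      w ∈ LinearMap.range ((I.restrictScalars R).subtype.lTensor R') := by
    intro w hw
    induction hw using Submodule.span_induction with
    | mem t ht =>
      obtain ⟨z, hz⟩ := hN₀ (show y t ∈ _ from by simp; exact ⟨t, ht, rfl⟩)
      let g : N₀ →ₗ[R] I.restrictScalars R :=
        LinearMap.codRestrict (I.restrictScalars R) (JR.subtype ∘ₗ N₀.subtype)
          (fun x => hN₀I ⟨x, x.2, rfl⟩)
      refine ⟨g.lTensor R' z, ?_⟩
      rw [← hy t ht, ← hz, ← LinearMap.comp_apply, ← LinearMap.comp_apply, ← LinearMap.lTensor_comp,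
        ← LinearMap.lTensor_comp]
      rfl
    | zero => exact zero_mem _
    | add x y _ _ hx hy => exact add_mem hx hy
    | smul c x _ hx =>
      have := Groth.Agent.Lib.Helper16.mul_mem_range_lTensor (R := R) (R' := R') (A := P) (B := P) I c x hx
      have e : IsScalarTower.toAlgHom R P P = AlgHom.id R P := by ext; rfl
      rw [e, Algebra.TensorProduct.map_id] at this
      exact this
  have hsurj : Function.Surjective (Submodule.inclusion hIJ') := by
    refine Groth.Agent.Lib.Helper16.surjective_of_loc_of_tensor hq _ ?_ ?_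
    · intro b
      obtain ⟨k, hk⟩ := h1 b.1 b.2
      have hk' : f ^ k • b.1 ∈ I :=
        Ideal.span_mono (by rw [hs, Finset.coe_union]; exact Set.subset_union_left) hk
      exact ⟨k, ⟨f ^ k • b.1, hk'⟩, rfl⟩
    · intro z
      have hz : JR.subtype.lTensor R' z ∈ Ideal.span (T : Set (R' ⊗[R] P)) := by
        rw [hT]
        have e : ∀ w : R' ⊗[R] P, π.toLinearMap.lTensor R' w =
            Algebra.TensorProduct.map (AlgHom.id R R') π w := by
          intro w
          induction w using TensorProduct.induction_on with
          | zero => simp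
          | add x y hx hy => simp only [map_add, hx, hy]
          | tmul a b => simp
        show Algebra.TensorProduct.map (AlgHom.id R R') π _ = 0
        rw [← e]
        exact hex.apply_apply_eq_zero z
      obtain ⟨z', hz'⟩ := hrange _ hz
      refine ⟨z', hinj ?_⟩
      rw [← hz', ← LinearMap.comp_apply, ← LinearMap.lTensor_comp]
      rfl
  have hJI : J ≤ I := by
    intro x hx
    obtain ⟨⟨x', hx'⟩, h⟩ := hsurj ⟨x, hx⟩
    have : x' = x := congrArg Subtype.val h
    rw [← this]; exact hx'
  rw [le_antisymm hJI hIJ]
  exact ⟨s, rfl⟩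

theorem exists_finset_of_loc {A P B : Type u} [CommRing A] [CommRing P] [CommRing B] [Algebra A P]
    [Algebra A B] [Algebra.FinitePresentation A P] (π : P →ₐ[A] B) (hπ : Function.Surjective π)
    (a : A) (h : (Localization.awayMap (algebraMap A B) a).FinitePresentation) :
    ∃ s : Finset P, (∀ x ∈ s, π x = 0) ∧
      ∀ x, π x = 0 → ∃ k : ℕ, (algebraMap A P a) ^ k * x ∈ Ideal.span (s : Set P) := by
  classical
  set aP : P := algebraMap A P a with haP
  set g : A →+* B := π.toRingHom.comp (algebraMap A P) with hg
  have hgB : g = algebraMap A B := π.comp_algebraMap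
  have h' : (Localization.awayMap g a).FinitePresentation := by
    rw [hgB]; exact h
  -- algebra structures over `A_a`
  let _ : Algebra (Localization.Away a) (Localization.Away aP) :=
    (Localization.awayMap (algebraMap A P) a).toAlgebra
  let _ : Algebra (Localization.Away a) (Localization.Away (π.toRingHom aP)) :=
    (Localization.awayMap g a).toAlgebra
  have hP : Algebra.FinitePresentation (Localization.Away a) (Localization.Away aP) := by
    have h0 : (algebraMap A P).FinitePresentation :=
      RingHom.finitePresentation_algebraMap.mpr inferInstance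
    exact RingHom.finitePresentation_localizationPreserves.away (algebraMap A P) a
      (Localization.Away a) (Localization.Away aP) h0
  have hB : Algebra.FinitePresentation (Localization.Away a) (Localization.Away (π.toRingHom aP)) := h'
  let πf : Localization.Away aP →ₐ[Localization.Away a] Localization.Away (π.toRingHom aP) :=
    { Localization.awayMap π.toRingHom aP with
      commutes' := fun r => by
        show Localization.awayMap π.toRingHom aP (Localization.awayMap (algebraMap A P) a r) =
          Localization.awayMap g a r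
        simp only [Localization.awayMap, IsLocalization.Away.map]
        rw [IsLocalization.map_map]
        rfl }
  have hsurj : Function.Surjective πf :=
    IsLocalization.Away.mapₐ_surjective_of_surjective (R := A) (f := π) aP hπ
  have hfg : (RingHom.ker (Localization.awayMap π.toRingHom aP)).FG :=
    Algebra.FinitePresentation.ker_fG_of_surjective πf hsurj
  have hfg' : ((RingHom.ker π.toRingHom).map (algebraMap P (Localization.Away aP))).FG := by
    rw [← IsLocalization.ker_map (Localization.Away (π.toRingHom aP)) π.toRingHom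
      (Submonoid.map_powers π.toRingHom aP)]
    exact hfg
  have : Module.Finite (Localization.Away aP)
      ((RingHom.ker π.toRingHom).map (algebraMap P (Localization.Away aP))) :=
    Module.Finite.of_fg hfg'
  obtain ⟨s, hs⟩ := Groth.Agent.Lib.Helper16.exists_finset_pow_smul_mem_span aP
    (Aₚ := Localization.Away aP)
    (Algebra.idealMap (RingHom.ker π.toRingHom) (S := Localization.Away aP))
  refine ⟨s.image (fun j : RingHom.ker π.toRingHom => (j : P)), ?_, ?_⟩
  · intro x hx
    simp only [Finset.mem_image] at hx
    obtain ⟨j, -, rfl⟩ := hx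
    exact j.2
  · intro x hx
    obtain ⟨k, hk⟩ := hs ⟨x, hx⟩
    refine ⟨k, ?_⟩
    have := Submodule.mem_map_of_mem (f := (RingHom.ker π.toRingHom).subtype) hk
    rw [Submodule.map_span] at this
    have e : ((RingHom.ker π.toRingHom).subtype '' (s : Set (RingHom.ker π.toRingHom))) =
        ((s.image (fun j : RingHom.ker π.toRingHom => (j : P)) : Finset P) : Set P) := by
      ext y
      simp only [Set.mem_image, Finset.mem_coe, Finset.coe_image, Submodule.subtype_apply]
    rw [e] at this
    exact this


theorem tensorMap_toLinearMap {R R' P B : Type u} [CommRing R] [CommRing R'] [CommRing P] [CommRing B]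
    [Algebra R R'] [Algebra R P] [Algebra R B] (π : P →ₐ[R] B) (w : R' ⊗[R] P) :
    π.toLinearMap.lTensor R' w = Algebra.TensorProduct.map (AlgHom.id R R') π w := by
  induction w using TensorProduct.induction_on with
  | zero => simp
  | add x y hx hy => simp only [map_add, hx, hy]
  | tmul a b => simp

theorem ker_tensorMap_fg {R R' A P B : Type u} [CommRing R] [CommRing R'] [CommRing A] [CommRing P]
    [CommRing B] [Algebra R R'] [Algebra R A] [Algebra R P] [Algebra R B] [Algebra A P] [Algebra A B]
    [IsScalarTower R A P] [IsScalarTower R A B] [Algebra.FinitePresentation A P]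
    (π : P →ₐ[A] B) (hπ : Function.Surjective π)
    (h2 : (Algebra.TensorProduct.map (AlgHom.id R R')
      (IsScalarTower.toAlgHom R A B)).toRingHom.FinitePresentation) :
    (RingHom.ker (Algebra.TensorProduct.map (AlgHom.id R R') (π.restrictScalars R)).toRingHom).FG := by
  let ψP := Algebra.TensorProduct.map (AlgHom.id R R') (IsScalarTower.toAlgHom R A P)
  let ψB := Algebra.TensorProduct.map (AlgHom.id R R') (IsScalarTower.toAlgHom R A B)
  let π' := Algebra.TensorProduct.map (AlgHom.id R R') (π.restrictScalars R)
  let _ : Algebra (R' ⊗[R] A) (R' ⊗[R] P) := ψP.toRingHom.toAlgebra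
  let _ : Algebra (R' ⊗[R] A) (R' ⊗[R] B) := ψB.toRingHom.toAlgebra
  have hP : Algebra.FinitePresentation (R' ⊗[R] A) (R' ⊗[R] P) := by
    have h0 : (IsScalarTower.toAlgHom R A P).toRingHom.FinitePresentation :=
      RingHom.finitePresentation_algebraMap.mpr inferInstance
    exact Groth.Agent.Lib.Helper16.tensorMap_of_isStableUnderBaseChange
      RingHom.finitePresentation_isStableUnderBaseChange R' (IsScalarTower.toAlgHom R A P) h0
  have hB : Algebra.FinitePresentation (R' ⊗[R] A) (R' ⊗[R] B) := h2
  have hcomp : π'.comp ψP = ψB := by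
    apply Algebra.TensorProduct.ext'
    intro a b
    simp [π', ψP, ψB]
  let π'' : R' ⊗[R] P →ₐ[R' ⊗[R] A] R' ⊗[R] B :=
    { π'.toRingHom with
      commutes' := fun c => by
        show π' (ψP c) = ψB c
        rw [← hcomp]; rfl }
  have hsurj : Function.Surjective π'' := by
    intro x
    obtain ⟨y, hy⟩ := LinearMap.lTensor_surjective R' (g := (π.restrictScalars R).toLinearMap) hπ x
    exact ⟨y, by rw [← hy, tensorMap_toLinearMap]; rfl⟩
  exact Algebra.FinitePresentation.ker_fG_of_surjective π'' hsurj


theorem finitePresentation_of_loc_of_tensor (h : EtGlue.IsGlueingPair R R' f)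
    {A B : Type u} [CommRing A] [Algebra R A] [CommRing B] [Algebra R B] [Algebra A B]
    [IsScalarTower R A B] [Module.Flat A B]
    (h1 : (Localization.awayMap (algebraMap A B) (algebraMap R A f)).FinitePresentation)
    (h2 : (Algebra.TensorProduct.map (AlgHom.id R R')
      (IsScalarTower.toAlgHom R A B)).toRingHom.FinitePresentation) :
    Algebra.FinitePresentation A B := by
  have hft0 : (IsScalarTower.toAlgHom R A B).toRingHom.FiniteType :=
    Groth.Agent.Lib.Helper16.ringHom_finiteType_of_loc_of_tensor h.1 (IsScalarTower.toAlgHom R A B)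
      (RingHom.FiniteType.of_finitePresentation h1) (RingHom.FiniteType.of_finitePresentation h2)
  have hft : Algebra.FiniteType A B := RingHom.finiteType_algebraMap.mp hft0
  obtain ⟨n, π, hπ⟩ := Algebra.FiniteType.iff_quotient_mvPolynomial''.mp hft
  obtain ⟨s₁, hs₁, hs₁'⟩ := exists_finset_of_loc π hπ (algebraMap R A f) h1
  have hfg := ker_tensorMap_fg (R := R) (R' := R') π hπ h2
  have hinj : Function.Injective
      (((RingHom.ker (π.restrictScalars R).toRingHom).restrictScalars R).subtype.lTensor R') :=
    lTensor_restrictScalars_injective (R := R) (A := A) π.toLinearMap hπ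
      ((RingHom.ker π.toRingHom).restrictScalars A).subtype (Submodule.subtype_injective _)
      (by
        intro x
        constructor
        · intro hx; exact ⟨⟨x, hx⟩, rfl⟩
        · rintro ⟨y, rfl⟩; exact y.2) R'
  have hker := ker_fg_of_loc_of_tensor h.1 (π.restrictScalars R) hπ s₁ hs₁ (fun x hx => by
    obtain ⟨k, hk⟩ := hs₁' x hx
    refine ⟨k, ?_⟩
    rw [Algebra.smul_def, map_pow, IsScalarTower.algebraMap_apply R A (MvPolynomial (Fin n) A)]
    exact hk) hinj hfg
  exact Algebra.FinitePresentation.of_surjective hπ hker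

end FinitePresentation

section Unramified

open scoped KaehlerDifferential

variable {R R' : Type u} [CommRing R] [CommRing R'] [Algebra R R'] {f : R}

theorem formallyUnramified_of_loc_of_tensor (hq : EtGlue.QuotPowBijective R R' f)
    {A B : Type u} [CommRing A] [Algebra R A] [CommRing B] [Algebra R B] [Algebra A B]
    [IsScalarTower R A B]
    (h1 : (Localization.awayMap (algebraMap A B) (algebraMap R A f)).FormallyUnramified)
    (h2 : (Algebra.TensorProduct.map (AlgHom.id R R')
      (IsScalarTower.toAlgHom R A B)).toRingHom.FormallyUnramified) :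
    Algebra.FormallyUnramified A B := by
  refine ⟨?_⟩
  -- the localization side: every element is `f`-power torsion
  have htors : ∀ m : Ω[B⁄A], ∃ n : ℕ, f ^ n • m = 0 := by
    set a : A := algebraMap R A f with ha
    let _ : Algebra (Localization.Away a) (Localization.Away (algebraMap A B a)) :=
      (Localization.awayMap (algebraMap A B) a).toAlgebra
    have : IsScalarTower A (Localization.Away a) (Localization.Away (algebraMap A B a)) :=
      IsScalarTower.of_algebraMap_eq'
        (IsLocalization.map_comp (Submonoid.powers a).le_comap_map).symm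
    have : IsLocalization (Algebra.algebraMapSubmonoid B (Submonoid.powers a))
        (Localization.Away (algebraMap A B a)) := by
      rw [Algebra.algebraMapSubmonoid, Submonoid.map_powers]
      exact Localization.isLocalization
    have hunr : Algebra.FormallyUnramified (Localization.Away a)
        (Localization.Away (algebraMap A B a)) := h1
    have hsub : Subsingleton Ω[Localization.Away (algebraMap A B a)⁄Localization.Away a] :=
      hunr.subsingleton_kaehlerDifferential
    intro m
    have h0 : ((KaehlerDifferential.map A (Localization.Away a) B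
        (Localization.Away (algebraMap A B a))).restrictScalars A) m = 0 := Subsingleton.elim _ _
    obtain ⟨⟨_, n, rfl⟩, hc⟩ := (IsLocalizedModule.eq_zero_iff (Submonoid.powers a) _).mp h0
    refine ⟨n, ?_⟩
    rw [← algebraMap_smul A (f ^ n) m, map_pow]
    exact hc
  -- the tensor side
  have hsub2 : Subsingleton (R' ⊗[R] Ω[B⁄A]) := by
    let _ : Algebra (R' ⊗[R] A) (R' ⊗[R] B) :=
      (Algebra.TensorProduct.map (AlgHom.id R R') (IsScalarTower.toAlgHom R A B)).toRingHom.toAlgebra
    let _ : Algebra A (R' ⊗[R] B) := ((algebraMap B (R' ⊗[R] B)).comp (algebraMap A B)).toAlgebra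
    have : IsScalarTower A B (R' ⊗[R] B) := IsScalarTower.of_algebraMap_eq' rfl
    have : IsScalarTower A (R' ⊗[R] A) (R' ⊗[R] B) := IsScalarTower.of_algebraMap_eq' (by
      ext a
      simp [RingHom.algebraMap_toAlgebra])
    have : IsScalarTower R (R' ⊗[R] A) (R' ⊗[R] B) := IsScalarTower.of_algebraMap_eq' (by
      ext r
      simp [RingHom.algebraMap_toAlgebra])
    have : IsScalarTower R' (R' ⊗[R] A) (R' ⊗[R] B) := IsScalarTower.of_algebraMap_eq' (by
      ext r
      simp [RingHom.algebraMap_toAlgebra])
    have hpo : Algebra.IsPushout A B (R' ⊗[R] A) (R' ⊗[R] B) :=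
      (Algebra.IsPushout.comp_iff R A R' (R' ⊗[R] A) (T := B) (T' := R' ⊗[R] B)).mp inferInstance
    have hpo' : Algebra.IsPushout A (R' ⊗[R] A) B (R' ⊗[R] B) := hpo.symm
    have hunr : Algebra.FormallyUnramified (R' ⊗[R] A) (R' ⊗[R] B) := h2
    have hs1 : Subsingleton Ω[R' ⊗[R] B⁄R' ⊗[R] A] := hunr.subsingleton_kaehlerDifferential
    have hs2 : Subsingleton ((R' ⊗[R] B) ⊗[B] Ω[B⁄A]) :=
      (KaehlerDifferential.tensorKaehlerEquiv A (R' ⊗[R] A) B (R' ⊗[R] B)).toEquiv.subsingleton
    exact (Algebra.IsPushout.cancelBaseChange R R' B (R' ⊗[R] B) Ω[B⁄A]).symm.toEquiv.subsingleton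
  exact Groth.Agent.Lib.Helper16.subsingleton_of_torsion_of_tensor hq htors

end Unramified

end Groth.Agent.Lib.Seat48.GlueAlg
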