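import Mathlib
import Groth.Prelude.Def_AlgSpModX
import Groth.Prelude.Def_AlgSpSub
import Groth.Agent.Lib.Seat48IdealEt
import Groth.Agent.S9927
import Groth.Agent.S9928

/-!
# Factorisation through closed subspaces and the ideal families (seat 48)

Namespace `Groth.Agent.Lib.Seat48.IdealEtFac`.
* `exists_factor_of_epi`: in sheaves, a morphism which factors through a monomorphism after an
  epimorphism factors through it.
* `idealOfRep_le_of_factor`: if `h` factors through `i` then the kernel family of `i` is contained in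
  that of `h`.
* `le_of_idealOfRep_le`: comparison of the inverse image ideal sheaves in a chart.
* `ideal_eq_bot_of_comap`: an ideal sheaf whose pullbacks along a jointly surjective family of flat
  morphisms vanish is zero.
-/

set_option autoImplicit false
universe u
open CategoryTheory CategoryTheory.Limits AlgebraicGeometry

namespace Groth.Agent.Lib.Seat48.IdealEtFac

open AlgSp
open Groth.Agent.Lib.Seat48.EffCartierSp
open Groth.Agent.Lib.Seat48.IdealEtSp
open Groth.Agent.Lib.Helper20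

variable {S : Scheme.{u}}

/-- a morphism which factors through a monomorphism after an epimorphism factors through it. -/
theorem exists_factor_of_epi {X Y Z P : AlgSp.Sp S} (i : Z ⟶ X) [Mono i] (f : Y ⟶ X) (e : P ⟶ Y)
    [Epi e] (d : P ⟶ Z) (hd : d ≫ i = e ≫ f) : ∃ k : Y ⟶ Z, k ≫ i = f := by
  have : Mono (pullback.fst f i) := inferInstance
  have hfac : pullback.lift e d hd.symm ≫ pullback.fst f i = e := pullback.lift_fst _ _ _
  have : Epi (pullback.fst f i) := epi_of_epi_fac hfac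
  have : IsIso (pullback.fst f i) := isIso_of_mono_of_epi _
  refine ⟨inv (pullback.fst f i) ≫ pullback.snd f i, ?_⟩
  rw [Category.assoc, ← pullback.condition, IsIso.inv_hom_id_assoc]

/-- if `h` factors through `i` then the kernel family of `i` is contained in that of `h`. -/
theorem idealOfRep_le_of_factor {X Y Z : AlgSp.Sp S} {i : Z ⟶ X} {h : Y ⟶ X}
    (hi : AlgSp.Representable i) (hh : AlgSp.Representable h) (k : Y ⟶ Z) (hk : k ≫ i = h) :
    AlgSp.idealOfRep hi ≤ AlgSp.idealOfRep hh := by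
  intro E hE a ha
  rw [AlgSp.mem_idealOfRep_iff] at ha ⊢
  have sq := AlgSp.EtOver.isPullback_bcObj hi E
  have sq' := AlgSp.EtOver.isPullback_bcObj hh E
  have hcomm : ((AlgSp.EtOver.bcObj hh E).obj.hom ≫ k) ≫ i =
      (AlgSp.yon S).map (AlgSp.EtOver.bcπ hh E) ≫ E.obj.hom := by
    rw [Category.assoc, hk, sq'.w]
  obtain ⟨m, hm⟩ := (AlgSp.yon S).map_surjective (sq.lift _ _ hcomm)
  have hm2 : m ≫ AlgSp.EtOver.bcπ hi E = AlgSp.EtOver.bcπ hh E := by
    apply (AlgSp.yon S).map_injective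
    rw [Functor.map_comp, hm]
    exact sq.lift_snd _ _ hcomm
  have h3 : (AlgSp.EtOver.bcπ hh E).left = m.left ≫ (AlgSp.EtOver.bcπ hi E).left := by
    rw [← hm2]; rfl
  rw [h3, Scheme.Hom.comp_appTop, CommRingCat.hom_comp, RingHom.comp_apply, ha, map_zero]

/-- comparison of the inverse image ideal sheaves in a chart. -/
theorem le_of_idealOfRep_le {X Z Z' : AlgSp.Sp S} {i : Z ⟶ X} {i' : Z' ⟶ X}
    (hi : AlgSp.RepWith @IsClosedImmersion i) (hi' : AlgSp.RepWith @IsClosedImmersion i')
    (hle : AlgSp.idealOfRep hi.1 ≤ AlgSp.idealOfRep hi'.1) {V : Over S}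
    (φ : (AlgSp.yon S).obj V ⟶ X) (hφ : AlgSp.RepWith @Etale φ) {IZ IZ' : V.left.IdealSheafData}
    (hZ : IsInvImage i φ IZ) (hZ' : IsInvImage i' φ IZ') : IZ ≤ IZ' := by
  intro V₁
  have h1 := idealOfRep_openObj hi φ hφ V₁ hZ
  have h2 := idealOfRep_openObj hi' φ hφ V₁ hZ'
  have h3 := hle (openObj φ hφ V₁.1) V₁.2
  rw [h1, h2] at h3
  have hb : Function.Bijective (V₁.1.ι.appLE V₁.1 ⊤ V₁.1.ι_preimage_self.ge).hom :=
    ConcreteCategory.bijective_of_isIso _
  have h4 := Ideal.comap_mono (f := (V₁.1.ι.appLE V₁.1 ⊤ V₁.1.ι_preimage_self.ge).hom) h3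
  rw [Ideal.comap_map_of_bijective _ hb, Ideal.comap_map_of_bijective _ hb] at h4
  exact h4

/-- an ideal sheaf whose pullbacks along a jointly surjective family of flat morphisms vanish is
zero. -/
theorem ideal_eq_bot_of_comap {T : Scheme.{u}} (J : T.IdealSheafData)
    (h : ∀ t : T, ∃ (T' : Scheme.{u}) (p : T' ⟶ T) (_ : Flat p) (t' : T'), p t' = t ∧
      J.comap p = ⊥) : J = ⊥ := by
  apply Scheme.IdealSheafData.ext
  funext T₁
  rw [Scheme.IdealSheafData.ideal_bot, Pi.bot_apply, eq_bot_iff]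
  intro f hf
  rw [Ideal.mem_bot]
  refine TopCat.Presheaf.section_ext T.sheaf T₁.1 f 0 fun t ht => ?_
  obtain ⟨T', p, hp, t', rfl, hJ⟩ := h t
  obtain ⟨W, hW, ht'W, hle⟩ :=
    exists_isAffineOpen_mem_and_subset (x := t') (U := p ⁻¹ᵁ T₁.1) ht
  have h1 : (J.comap p).ideal ⟨W, hW⟩ = (J.ideal T₁).map (p.appLE T₁.1 W hle).hom :=
    EffCartier.ideal_comap_eq_map p J hW T₁.2 hle
  rw [hJ, Scheme.IdealSheafData.ideal_bot, Pi.bot_apply] at h1
  have h2 : (p.appLE T₁.1 W hle).hom f = 0 := by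
    have : (p.appLE T₁.1 W hle).hom f ∈ (J.ideal T₁).map (p.appLE T₁.1 W hle).hom :=
      Ideal.mem_map_of_mem _ hf
    rw [← h1] at this
    exact this
  have hinj : Function.Injective (p.stalkMap t').hom := by
    algebraize [(p.stalkMap t').hom]
    have : Module.FaithfullyFlat (T.presheaf.stalk (p t')) (T'.presheaf.stalk t') :=
      @Module.FaithfullyFlat.of_flat_of_isLocalHom _ _ _ _ _ _ _
        (Flat.stalkMap p t') (p.toLRSHom.prop t')
    exact ‹RingHom.FaithfullyFlat _›.injective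
  apply hinj
  change p.stalkMap t' (T.presheaf.germ _ (p t') ht f) = p.stalkMap t' (T.presheaf.germ _ (p t') ht 0)
  rw [map_zero, map_zero]
  have h3 := Scheme.Hom.germ_stalkMap_apply p T₁.1 t' ht f
  rw [h3]
  have h4 : T'.presheaf.germ (p ⁻¹ᵁ T₁.1) t' ht ((p.app T₁.1).hom f) =
      T'.presheaf.germ W t' ht'W ((p.appLE T₁.1 W hle).hom f) := by
    rw [Scheme.Hom.appLE, CommRingCat.hom_comp, RingHom.comp_apply]
    exact (TopCat.Presheaf.germ_res_apply T'.presheaf (homOfLE hle) t' ht'W _).symm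
  rw [h4, h2, map_zero]

end Groth.Agent.Lib.Seat48.IdealEtFac
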