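import Mathlib

/-!
# Closed subschemes with finitely generated ideals (seat 48)

Namespace `Groth.Agent.Lib.Seat48.IdealFG`.
* `locallyOfFinitePresentation_subschemeι`: the closed subscheme of an ideal sheaf whose ideals on
  affine opens are finitely generated is locally of finite presentation over the ambient scheme.
* `ker_appTop_fg_of_locallyOfFinitePresentation`: conversely, for a closed immersion into an affine
  scheme which is locally of finite presentation, the kernel on global sections is finitely generated.
-/

set_option autoImplicit false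
universe u
open CategoryTheory CategoryTheory.Limits AlgebraicGeometry

namespace Groth.Agent.Lib.Seat48.IdealFG

theorem locallyOfFinitePresentation_subschemeι {X : Scheme.{u}} (I : X.IdealSheafData)
    (h : ∀ U : X.affineOpens, (I.ideal U).FG) : LocallyOfFinitePresentation I.subschemeι := by
  apply IsZariskiLocalAtTarget.of_iSup_eq_top (P := @LocallyOfFinitePresentation)
    (fun U : X.affineOpens => U.1) (iSup_affineOpens_eq_top X)
  intro U
  have hUaff : IsAffine (U.1 : Scheme.{u}) := U.2
  have hsrc : IsAffine ((I.subschemeι ⁻¹ᵁ U.1 : I.subscheme.Opens) : Scheme.{u}) :=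
    U.2.preimage I.subschemeι
  rw [HasRingHomProperty.iff_of_isAffine (P := @LocallyOfFinitePresentation),
    morphismRestrict_appTop]
  change (RingHom.comp (I.subscheme.presheaf.map
    (eqToHom (image_morphismRestrict_preimage I.subschemeι U.1 ⊤)).op).hom
    (I.subschemeι.app (U.1.ι ''ᵁ ⊤)).hom).FinitePresentation
  have hU' : IsAffineOpen (U.1.ι ''ᵁ ⊤) := by
    rw [Scheme.Opens.ι_image_top]; exact U.2
  refine RingHom.FinitePresentation.comp ?_ ?_
  · apply RingHom.FinitePresentation.of_bijective
    exact ConcreteCategory.bijective_of_isIso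
      (I.subscheme.presheaf.map (eqToHom (image_morphismRestrict_preimage I.subschemeι U.1 ⊤)).op)
  · refine RingHom.FinitePresentation.of_surjective _
      (I.subschemeι_app_surjective ⟨U.1.ι ''ᵁ ⊤, hU'⟩) ?_
    rw [I.ker_subschemeι_app ⟨U.1.ι ''ᵁ ⊤, hU'⟩]
    exact h _

theorem ker_appTop_fg_of_locallyOfFinitePresentation {W E : Scheme.{u}} (f : W ⟶ E) [IsAffine E]
    [IsClosedImmersion f] [LocallyOfFinitePresentation f] : (RingHom.ker f.appTop.hom).FG := by
  obtain ⟨hW, hsurj⟩ := IsClosedImmersion.isAffine_surjective_of_isAffine f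
  have hfp : f.appTop.hom.FinitePresentation :=
    (HasRingHomProperty.iff_of_isAffine (P := @LocallyOfFinitePresentation)).1 inferInstance
  algebraize [f.appTop.hom]
  have h1 := Algebra.FinitePresentation.ker_fG_of_surjective (R := Γ(E, ⊤))
    (Algebra.ofId Γ(E, ⊤) Γ(W, ⊤)) hsurj
  exact h1

end Groth.Agent.Lib.Seat48.IdealFG
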