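import Mathlib
import Groth.Agent.Lib.Helper9SpPoint6
import Groth.Agent.Lib.Seat48CohEt2
import Groth.Agent.Lib.Seat48BCSite11

/-!
# Stalks of coherent modules on the small etale site of an algebraic space (seat 48)

Namespace `Groth.Agent.Lib.Seat48.StalkEt`.
-/

set_option autoImplicit false
set_option linter.style.haveILetI false
set_option linter.unusedSectionVars false
set_option backward.isDefEq.respectTransparency false

universe u

open CategoryTheory CategoryTheory.Limits AlgebraicGeometry Opposite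

namespace Groth.Agent.Lib.Seat48.StalkEt

open AlgSp
open Groth.Agent.Lib.Seat48.BCAlg
open Groth.Agent.Lib.Seat48.BCSite
open Groth.Agent.Lib.Seat48.BCEt
open Groth.Agent.Lib.Seat48.ModSect
open Groth.Agent.Lib.Seat48.CohEt
open Groth.Agent.Lib.Seat48.IdealEtSp
open Groth.Agent.Lib.Seat48.WeakAssChart
open Groth.Agent.Lib.Helper9.SpPoint

attribute [local instance] Groth.Agent.Lib.Seat48.BCSite.commRingSect

variable {S : Scheme.{u}} (X : AlgSp.Space S)

/-- the germ of a section of a module at a lift of a point. -/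
noncomputable def germ (M : AlgSp.ModEt X.obj) (p : AlgSp.FieldPt X.obj) {U : AlgSp.EtOver X.obj}
    (l : (AlgSp.FieldPt.liftsTo p).obj U) (σ : M.val.obj (op U)) :
    ↥(AlgSp.stalkEt p ((AlgSp.toAbEt X.obj).obj M)) :=
  (AlgSp.stalkEtι p ((AlgSp.toAbEt X.obj).obj M) ⟨U, l⟩).hom σ

theorem germ_eq_zero_iff' (M : AlgSp.ModEt X.obj) (p : AlgSp.FieldPt X.obj) (hp : p.IsGeometric)
    {U : AlgSp.EtOver X.obj} (l : (AlgSp.FieldPt.liftsTo p).obj U) (σ : M.val.obj (op U)) :
    germ X M p l σ = 0 ↔ ∃ (V : AlgSp.EtOver X.obj) (φ : V ⟶ U)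
      (y : (AlgSp.FieldPt.liftsTo p).obj V), (AlgSp.FieldPt.liftsTo p).map φ y = l ∧
        M.val.map φ.op σ = 0 :=
  germ_eq_zero_iff X ((AlgSp.toAbEt X.obj).obj M) p hp U l σ

/-- a geometric point lifts to an affine open of any etale neighbourhood. -/
theorem exists_affine_nbhd (p : AlgSp.FieldPt X.obj) (hp : p.IsGeometric)
    {U : AlgSp.EtOver X.obj} (l : (AlgSp.FieldPt.liftsTo p).obj U)
    (O : U.obj.left.left.Opens)
    (hO : l.1.left (default : Spec (CommRingCat.of p.K)) ∈ O) :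
    ∃ (U₁ : U.obj.left.left.Opens) (_ : IsAffineOpen U₁) (_ : U₁ ≤ O)
      (y : (AlgSp.FieldPt.liftsTo p).obj (affObj U U₁)),
      (AlgSp.FieldPt.liftsTo p).map (affHom U U₁) y = l := by
  obtain ⟨U₁, hU₁, hx, hle⟩ := exists_isAffineOpen_mem_and_subset
    (x := l.1.left (default : Spec (CommRingCat.of p.K))) (U := O) hO
  obtain ⟨y, hy, -⟩ := exists_lift_hom p hp (affHom U U₁) l
    ⟨l.1.left (default : Spec (CommRingCat.of p.K)), hx⟩ rfl
  exact ⟨U₁, hU₁, hle, y, hy⟩

/-- a module without sections over an affine object has no sections over affine objects over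
it. -/
theorem eq_zero_of_hom (M : AlgSp.ModEt X.obj) (hM : HasBCOn (affineData X.obj) M.val)
    {V W : AlgSp.EtOver X.obj} (b : W ⟶ V) (hV : IsAffine V.obj.left.left)
    (hW : IsAffine W.obj.left.left) (hV0 : ∀ σ : M.val.obj (op V), σ = 0)
    (τ : M.val.obj (op W)) : τ = 0 := by
  have h1 := (hM b hV hW).span_range
  have h2 : τ ∈ Submodule.span ((AlgSp.OEtRing X.obj).obj.obj (op W))
      (Set.range (M.val.restrictₛₗ b.op)) := by
    rw [h1]
    trivial
  have h3 : Submodule.span ((AlgSp.OEtRing X.obj).obj.obj (op W))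
      (Set.range (M.val.restrictₛₗ b.op)) ≤ ⊥ := by
    rw [Submodule.span_le]
    rintro _ ⟨x, rfl⟩
    rw [hV0 x]
    exact map_zero _
  exact (Submodule.mem_bot _).1 (h3 h2)

/-- **a module with base change on affines and finite sections over affines all of whose germs at a
geometric point vanish has no sections over a small affine etale neighbourhood.** -/
theorem exists_affine_nbhd_sections_eq_zero (M : AlgSp.ModEt X.obj)
    (hM : HasBCOn (affineData X.obj) M.val)
    (hfin : ∀ E : AlgSp.EtOver X.obj, IsAffine E.obj.left.left →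
      Module.Finite ((AlgSp.OEtRing X.obj).obj.obj (op E)) (M.val.obj (op E)))
    (p : AlgSp.FieldPt X.obj) (hp : p.IsGeometric)
    (hz : ∀ (U : AlgSp.EtOver X.obj) (l : (AlgSp.FieldPt.liftsTo p).obj U) (σ : M.val.obj (op U)),
      germ X M p l σ = 0)
    {U : AlgSp.EtOver X.obj} (l : (AlgSp.FieldPt.liftsTo p).obj U) :
    ∃ (V : AlgSp.EtOver X.obj) (φ : V ⟶ U) (y : (AlgSp.FieldPt.liftsTo p).obj V),
      (AlgSp.FieldPt.liftsTo p).map φ y = l ∧ IsAffine V.obj.left.left ∧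
        ∀ σ : M.val.obj (op V), σ = 0 := by
  classical
  obtain ⟨U₀, hU₀, -, y₀, hy₀⟩ := exists_affine_nbhd X p hp l ⊤ trivial
  haveI := hfin (affObj U U₀) hU₀
  obtain ⟨gens, hgens⟩ := (Module.Finite.fg_top :
    (⊤ : Submodule ((AlgSp.OEtRing X.obj).obj.obj (op (affObj U U₀)))
      (M.val.obj (op (affObj U U₀)))).FG)
  let F := (AlgSp.toAbEt X.obj).obj M
  have hmem : ∀ s ∈ gens, y₀.1.left (default : Spec (CommRingCat.of p.K)) ∈
      vanishSet X F (affObj U U₀) s := fun s _ =>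
    (germ_eq_zero_iff_mem X F (affObj U U₀) s p hp y₀).1 (hz _ y₀ s)
  let O : (affObj U U₀).obj.left.left.Opens :=
    ⟨⋂ s ∈ gens, vanishSet X F (affObj U U₀) s,
      isOpen_biInter_finset (fun s _ => isOpen_vanishSet X F (affObj U U₀) s)⟩
  have hO : y₀.1.left (default : Spec (CommRingCat.of p.K)) ∈ O :=
    Set.mem_iInter₂.2 hmem
  obtain ⟨U₁, hU₁, hle, y₁, hy₁⟩ := exists_affine_nbhd X p hp y₀ O hO
  refine ⟨affObj (affObj U U₀) U₁, affHom (affObj U U₀) U₁ ≫ affHom U U₀, y₁, ?_, hU₁, ?_⟩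
  · rw [Functor.map_comp_apply, hy₁, hy₀]
  · -- the restrictions of the generators vanish
    have hgen0 : ∀ s ∈ gens, M.val.map (affHom (affObj U U₀) U₁).op s = 0 := by
      intro s hs
      refine (map_eq_zero_iff X F (affObj U U₀) s _ (affHom (affObj U U₀) U₁)).2 ?_
      rintro _ ⟨v, rfl⟩
      have hv : (affHom (affObj U U₀) U₁).hom.left.left v ∈ O := hle v.2
      exact Set.mem_iInter₂.1 hv s hs
    have hall : ∀ x : M.val.obj (op (affObj U U₀)),
        M.val.map (affHom (affObj U U₀) U₁).op x = 0 := by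
      have hle' : Submodule.span ((AlgSp.OEtRing X.obj).obj.obj (op (affObj U U₀)))
          (gens : Set (M.val.obj (op (affObj U U₀)))) ≤
          LinearMap.ker (M.val.restrictₛₗ (affHom (affObj U U₀) U₁).op) := by
        rw [Submodule.span_le]
        intro s hs
        exact hgen0 s hs
      rw [hgens] at hle'
      intro x
      exact hle' (Submodule.mem_top (x := x))
    -- base change
    intro σ
    have h1 := (hM (affHom (affObj U U₀) U₁) hU₀ hU₁).span_range
    have h2 : σ ∈ Submodule.span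
        ((AlgSp.OEtRing X.obj).obj.obj (op (affObj (affObj U U₀) U₁)))
        (Set.range (M.val.restrictₛₗ (affHom (affObj U U₀) U₁).op)) := by
      rw [h1]
      trivial
    have h3 : Submodule.span ((AlgSp.OEtRing X.obj).obj.obj (op (affObj (affObj U U₀) U₁)))
        (Set.range (M.val.restrictₛₗ (affHom (affObj U U₀) U₁).op)) ≤ ⊥ := by
      rw [Submodule.span_le]
      rintro _ ⟨x, rfl⟩
      exact hall x
    exact (Submodule.mem_bot _).1 (h3 h2)

/-- **a module with base change on affines without sections over an affine object `V` has no sections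
over the objects whose image in `|X|` lies in the image of `V`.** -/
theorem sections_eq_zero_of_range_subset (M : AlgSp.ModEt X.obj)
    (hM : HasBCOn (affineData X.obj) M.val) {V : AlgSp.EtOver X.obj}
    (hV : IsAffine V.obj.left.left) (hV0 : ∀ σ : M.val.obj (op V), σ = 0)
    (E : AlgSp.EtOver X.obj)
    (hE : Set.range (AlgSp.Points.ofPt E.obj.hom) ⊆ Set.range (AlgSp.Points.ofPt V.obj.hom))
    (σ : M.val.obj (op E)) : σ = 0 := by
  have hcov : sieveOf (fun W : AlgSp.EtOver X.obj =>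
      IsAffine W.obj.left.left ∧ Nonempty (W ⟶ V)) E ∈ AlgSp.etTop X.obj E := by
    rw [Groth.Agent.Lib.Helper9.SpEt.mem_etTop_iff]
    intro w
    obtain ⟨v, hv⟩ := hE ⟨w, rfl⟩
    obtain ⟨W, hW, a, b, w', haw, -⟩ := exists_common_affine E V w v hv.symm
    exact ⟨W, a, w', ⟨W, 𝟙 W, a, ⟨hW, ⟨b⟩⟩, Category.id_comp a⟩, haw⟩
  have hsep := Presheaf.IsSheaf.isSeparated M.isSheaf
  refine hsep E _ hcov σ 0 ?_
  rintro Y f ⟨W, g, k, ⟨hW, ⟨b⟩⟩, rfl⟩
  have e : ∀ x : M.val.obj (op E), M.val.presheaf.map (g ≫ k).op x =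
      M.val.map g.op (M.val.map k.op x) := by
    intro x
    rw [op_comp, Functor.map_comp]
    rfl
  rw [e, e, eq_zero_of_hom X M hM b hV hW hV0 (M.val.map k.op σ),
    eq_zero_of_hom X M hM b hV hW hV0 (M.val.map k.op 0)]

/-- the map on stalks sends germs to germs. -/
theorem stalk_map_germ {G F : AlgSp.ModEt X.obj} (φ : G ⟶ F) (p : AlgSp.FieldPt X.obj)
    {U : AlgSp.EtOver X.obj} (l : (AlgSp.FieldPt.liftsTo p).obj U) (σ : G.val.obj (op U)) :
    ((AlgSp.stalkEtFunctor AddCommGrpCat.{u + 1} p).map ((AlgSp.toAbEt X.obj).map φ)).hom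
      (germ X G p l σ) = germ X F p l (φ.val.app (op U) σ) := by
  have h : AlgSp.stalkEtι p ((AlgSp.toAbEt X.obj).obj G) ⟨U, l⟩ ≫
      (AlgSp.stalkEtFunctor AddCommGrpCat.{u + 1} p).map ((AlgSp.toAbEt X.obj).map φ) =
      ((AlgSp.toAbEt X.obj).map φ).hom.app (op U) ≫
        AlgSp.stalkEtι p ((AlgSp.toAbEt X.obj).obj F) ⟨U, l⟩ := by
    simp [AlgSp.stalkEtFunctor, AlgSp.stalkEtPshFunctor]
    rfl
  exact congrArg (fun f : ((AlgSp.toAbEt X.obj).obj G).obj.obj (op U) ⟶
    AlgSp.stalkEt p ((AlgSp.toAbEt X.obj).obj F) => f.hom σ) h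

/-- germs are compatible with restriction. -/
theorem germ_map (M : AlgSp.ModEt X.obj) (p : AlgSp.FieldPt X.obj)
    {U V : AlgSp.EtOver X.obj} (φ : V ⟶ U) (y : (AlgSp.FieldPt.liftsTo p).obj V)
    (σ : M.val.obj (op U)) :
    germ X M p y (M.val.map φ.op σ) = germ X M p ((AlgSp.FieldPt.liftsTo p).map φ y) σ := by
  have h := colimit.w (AlgSp.stalkEtDiagram p ((AlgSp.toAbEt X.obj).obj M))
    (CategoryOfElements.homMk (⟨V, y⟩ : AlgSp.EtNbhd p)
      ⟨U, (AlgSp.FieldPt.liftsTo p).map φ y⟩ φ rfl).op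
  exact congrArg (fun f : ((AlgSp.toAbEt X.obj).obj M).obj.obj (op U) ⟶
    AlgSp.stalkEt p ((AlgSp.toAbEt X.obj).obj M) => f.hom σ) h

/-- if the map on stalks is injective, the germs of the kernel vanish. -/
theorem germ_kernel_eq_zero {G F : AlgSp.ModEt X.obj} (φ : G ⟶ F) (p : AlgSp.FieldPt X.obj)
    (hp : p.IsGeometric)
    (hinj : Function.Injective
      ((AlgSp.stalkEtFunctor AddCommGrpCat.{u + 1} p).map ((AlgSp.toAbEt X.obj).map φ)).hom)
    {U : AlgSp.EtOver X.obj} (l : (AlgSp.FieldPt.liftsTo p).obj U)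
    (k : (kernel φ).val.obj (op U)) : germ X (kernel φ) p l k = 0 := by
  rw [germ_eq_zero_iff' X _ p hp]
  have h0 : (kernel.ι φ ≫ φ) = 0 := kernel.condition φ
  have h1 : φ.val.app (op U) ((kernel.ι φ).val.app (op U) k) = 0 :=
    congrArg (fun f : kernel φ ⟶ F => f.val.app (op U) k) h0
  have h2 : germ X G p l ((kernel.ι φ).val.app (op U) k) = 0 := by
    apply hinj
    rw [stalk_map_germ, h1]
    have e1 : germ X F p l 0 = 0 :=
      map_zero (AlgSp.stalkEtι p ((AlgSp.toAbEt X.obj).obj F) ⟨U, l⟩).hom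
    rw [e1]
    exact (map_zero
      ((AlgSp.stalkEtFunctor AddCommGrpCat.{u + 1} p).map ((AlgSp.toAbEt X.obj).map φ)).hom).symm
  obtain ⟨V, ψ, y, hy, hV⟩ := (germ_eq_zero_iff' X G p hp l _).1 h2
  refine ⟨V, ψ, y, hy, ?_⟩
  apply app_injective_of_mono (kernel.ι φ) (op V)
  have h3 := PresheafOfModules.naturality_apply (kernel.ι φ).val ψ.op k
  rw [map_zero]
  exact h3.trans hV

theorem germ_eq_zero_of_isZero (M : AlgSp.ModEt X.obj) (p : AlgSp.FieldPt X.obj)
    (hz : IsZero (AlgSp.stalkEt p ((AlgSp.toAbEt X.obj).obj M)))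
    {U : AlgSp.EtOver X.obj} (l : (AlgSp.FieldPt.liftsTo p).obj U) (σ : M.val.obj (op U)) :
    germ X M p l σ = 0 := by
  haveI : Subsingleton ↥(AlgSp.stalkEt p ((AlgSp.toAbEt X.obj).obj M)) :=
    AddCommGrpCat.subsingleton_of_isZero hz
  exact Subsingleton.elim _ _

theorem isZero_stalk_of_germ (M : AlgSp.ModEt X.obj) (p : AlgSp.FieldPt X.obj)
    (hp : p.IsGeometric)
    (hz : ∀ (U : AlgSp.EtOver X.obj) (l : (AlgSp.FieldPt.liftsTo p).obj U) (σ : M.val.obj (op U)),
      germ X M p l σ = 0) :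
    IsZero (AlgSp.stalkEt p ((AlgSp.toAbEt X.obj).obj M)) := by
  haveI : Subsingleton ↥(AlgSp.stalkEt p ((AlgSp.toAbEt X.obj).obj M)) := by
    refine ⟨fun a b => ?_⟩
    obtain ⟨U, l, σ, rfl⟩ := germ_surjective X ((AlgSp.toAbEt X.obj).obj M) p hp a
    obtain ⟨U', l', σ', rfl⟩ := germ_surjective X ((AlgSp.toAbEt X.obj).obj M) p hp b
    exact (hz U l σ).trans (hz U' l' σ').symm
  exact AddCommGrpCat.isZero_of_subsingleton _

/-- if the map on stalks is surjective, the germs of the cokernel vanish. -/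
theorem germ_cokernel_eq_zero {G F : AlgSp.ModEt X.obj} (φ : G ⟶ F)
    (hG : HasBCOn (affineData X.obj) G.val) (hF : HasBCOn (affineData X.obj) F.val)
    (p : AlgSp.FieldPt X.obj) (hp : p.IsGeometric)
    (hsurj : Function.Surjective
      ((AlgSp.stalkEtFunctor AddCommGrpCat.{u + 1} p).map ((AlgSp.toAbEt X.obj).map φ)).hom)
    {U : AlgSp.EtOver X.obj} (l : (AlgSp.FieldPt.liftsTo p).obj U)
    (c : (cokernel φ).val.obj (op U)) : germ X (cokernel φ) p l c = 0 := by
  obtain ⟨U₁, hU₁, -, y, hy⟩ := exists_affine_nbhd X p hp l ⊤ trivial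
  have hC : HasBCOn (affineData X.obj) (cokernel φ).val := hasBCOn_cokernel _ φ hG hF
  have hπ := app_surjective_of_epi (affineData X.obj) (cokernel.π φ) hF hC
    (show (affineData X.obj).Aff (affObj U U₁) from hU₁)
  obtain ⟨f, hf⟩ := hπ ((cokernel φ).val.map (affHom U U₁).op c)
  obtain ⟨z, hz⟩ := hsurj (germ X F p y f)
  obtain ⟨U', l', g₀, rfl⟩ := germ_surjective X ((AlgSp.toAbEt X.obj).obj G) p hp z
  change ((AlgSp.stalkEtFunctor AddCommGrpCat.{u + 1} p).map ((AlgSp.toAbEt X.obj).map φ)).hom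
    (germ X G p l' g₀) = _ at hz
  rw [stalk_map_germ] at hz
  -- a common refinement
  obtain ⟨⟨Y', y'⟩, ⟨a₁, ha₁⟩, ⟨a₂, ha₂⟩, -⟩ := IsCofilteredOrEmpty.cone_objs
    (C := (AlgSp.FieldPt.liftsTo p).Elements)
    (⟨affObj U U₁, y⟩ : AlgSp.EtNbhd p) (⟨U', l'⟩ : AlgSp.EtNbhd p)
  change (AlgSp.FieldPt.liftsTo p).map a₁ y' = y at ha₁
  change (AlgSp.FieldPt.liftsTo p).map a₂ y' = l' at ha₂
  obtain ⟨f₁, hf₁⟩ : ∃ f₁ : F.val.obj (op Y'), f₁ = F.val.map a₁.op f := ⟨_, rfl⟩
  have hd : germ X F p y' (f₁ - φ.val.app (op Y') (G.val.map a₂.op g₀)) = 0 := by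
    have e0 : germ X F p y' (f₁ - φ.val.app (op Y') (G.val.map a₂.op g₀)) =
        germ X F p y' f₁ - germ X F p y' (φ.val.app (op Y') (G.val.map a₂.op g₀)) :=
      map_sub (AlgSp.stalkEtι p ((AlgSp.toAbEt X.obj).obj F) ⟨Y', y'⟩).hom _ _
    have e1 : φ.val.app (op Y') (G.val.map a₂.op g₀) = F.val.map a₂.op (φ.val.app (op U') g₀) :=
      PresheafOfModules.naturality_apply φ.val a₂.op g₀
    rw [e0, e1, hf₁, germ_map, germ_map, ha₁, ha₂, hz, sub_self]
  obtain ⟨Y'', ψ, y'', hy'', h0⟩ := (germ_eq_zero_iff' X F p hp y' _).1 hd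
  rw [germ_eq_zero_iff' X _ p hp]
  refine ⟨Y'', ψ ≫ a₁ ≫ affHom U U₁, y'', ?_, ?_⟩
  · rw [Functor.map_comp_apply, Functor.map_comp_apply, hy'', ha₁, hy]
  · have h1 : (cokernel φ).val.map (ψ ≫ a₁ ≫ affHom U U₁).op c =
        (cokernel φ).val.map ψ.op ((cokernel φ).val.map a₁.op
          ((cokernel φ).val.map (affHom U U₁).op c)) := by
      rw [map_map_eq' (cokernel φ).val (rfl : a₁ ≫ affHom U U₁ = a₁ ≫ affHom U U₁) c,
        map_map_eq' (cokernel φ).val (rfl : ψ ≫ a₁ ≫ affHom U U₁ = ψ ≫ a₁ ≫ affHom U U₁) c]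
    rw [h1, ← hf]
    have n1 := PresheafOfModules.naturality_apply (cokernel.π φ).val a₁.op f
    have n2 := PresheafOfModules.naturality_apply (cokernel.π φ).val ψ.op (F.val.map a₁.op f)
    rw [← n1, ← n2]
    have h2 : F.val.map ψ.op (F.val.map a₁.op f) =
        F.val.map ψ.op (φ.val.app (op Y') (G.val.map a₂.op g₀)) := by
      have := h0
      rw [map_sub, sub_eq_zero, hf₁] at this
      exact this
    rw [h2]
    have n3 := PresheafOfModules.naturality_apply φ.val ψ.op (G.val.map a₂.op g₀)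
    rw [← n3]
    have h3 : φ ≫ cokernel.π φ = 0 := cokernel.condition φ
    exact congrArg (fun k : G ⟶ cokernel φ => k.val.app (op Y'')
      (G.val.map ψ.op (G.val.map a₂.op g₀))) h3

end Groth.Agent.Lib.Seat48.StalkEt
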