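import Mathlib
import Groth.Agent.Lib.Seat48SubSheaf
import Groth.Agent.Lib.Seat48AnnSub
import Groth.Agent.Lib.Seat48BCEt4
import Groth.Agent.Lib.Seat48WeakAssChart
import Groth.Agent.Lib.Seat48EffCartierCompl

/-!
# The submodule of sections supported on the complement of an open subspace (seat 48)

Namespace `Groth.Agent.Lib.Seat48.SuppSub`.

For an open subspace `j : U ⟶ X` and a module `F` on the small etale site of `X`:
* `InU j V`: all points of the object `V` map into the image of `U`;
* `suppSub j F`: the family of sections vanishing on all objects lying in `U`; `isLocal_suppSub`;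
* `suppSheaf j F`, `suppSheafι j F`: the corresponding submodule of `F`;
* `mem_suppSub_iff_of_affine`: over an affine object `W`, for `F` quasi-coherent, these are the
  sections whose support lies in the inverse image of the complement of `U`.
-/

set_option autoImplicit false
set_option linter.style.haveILetI false
set_option linter.unusedSectionVars false
set_option backward.isDefEq.respectTransparency false

universe u

open CategoryTheory CategoryTheory.Limits AlgebraicGeometry Opposite

namespace Groth.Agent.Lib.Seat48.SuppSub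

open AlgSp
open Groth.Agent.Lib.Seat48.BCAlg
open Groth.Agent.Lib.Seat48.BCSite
open Groth.Agent.Lib.Seat48.BCEt
open Groth.Agent.Lib.Seat48.SubSheaf
open Groth.Agent.Lib.Seat48.ModSect
open Groth.Agent.Lib.Seat48.AnnSub
open Groth.Agent.Lib.Seat48.WeakAssChart

attribute [local instance] Groth.Agent.Lib.Seat48.BCSite.commRingSect

variable {S : Scheme.{u}} {X U : AlgSp.Sp S} (j : U ⟶ X)

/-- all points of the object map into the image of `U`. -/
def InU (V : AlgSp.EtOver X) : Prop :=
  ∀ z : V.obj.left.left, AlgSp.Points.ofPt V.obj.hom z ∈ Set.range (AlgSp.Points.map j)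

theorem InU.of_hom {V V' : AlgSp.EtOver X} (g : V' ⟶ V) (h : InU j V) : InU j V' := by
  intro z
  rw [← ofPt_hom g z]
  exact h _

/-- the family of sections vanishing on all objects lying in `U`. -/
noncomputable def suppSub (F : AlgSp.ModEt X) : F.val.Submodule where
  obj W :=
    { carrier := {s | ∀ (V : AlgSp.EtOver X) (g : V ⟶ W.unop), InU j V → F.val.map g.op s = 0}
      add_mem' := by
        intro s t hs ht V g hV
        rw [map_add, hs V g hV, ht V g hV, add_zero]
      zero_mem' := by
        intro V g _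
        rw [map_zero]
      smul_mem' := by
        intro r s hs V g hV
        rw [PresheafOfModules.map_smul, hs V g hV, smul_zero] }
  map := by
    intro W W' f s hs V g hV
    have h1 := hs V (g ≫ f.unop) hV
    have e : F.val.map (g ≫ f.unop).op s = F.val.map g.op (F.val.map f s) := by
      rw [op_comp, PresheafOfModules.map_comp_apply]
      rfl
    rw [e] at h1
    exact h1

theorem mem_suppSub_iff (F : AlgSp.ModEt X) (W : AlgSp.EtOver X) (s : F.val.obj (op W)) :
    s ∈ (suppSub j F).obj (op W) ↔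
      ∀ (V : AlgSp.EtOver X) (g : V ⟶ W), InU j V → F.val.map g.op s = 0 := Iff.rfl

theorem isLocal_suppSub (F : AlgSp.ModEt X) : IsLocal F (suppSub j F) := by
  intro W s T hT h
  rw [mem_suppSub_iff]
  intro V g hV
  have hsep := Presheaf.IsSheaf.isSeparated F.isSheaf
  refine hsep V _ ((AlgSp.etTop X).pullback_stable g hT) _ _ ?_
  intro V' k hk
  have h1 := h (k ≫ g) hk
  rw [mem_suppSub_iff] at h1
  have h2 := h1 V' (𝟙 V') (InU.of_hom j k hV)
  have e1 : F.val.presheaf.map k.op (F.val.map g.op s) = F.val.map (k ≫ g).op s := by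
    have e2 : F.val.presheaf.map k.op (F.val.map g.op s) = F.val.map k.op (F.val.map g.op s) := rfl
    rw [e2, op_comp, PresheafOfModules.map_comp_apply]
  have e3 : F.val.map (𝟙 V').op (F.val.map (k ≫ g).op s) = F.val.map (k ≫ g).op s := by
    rw [op_id, PresheafOfModules.map_id]
    rfl
  rw [e1, ← e3, h2]
  exact (map_zero (F.val.presheaf.map k.op).hom).symm

/-- the submodule of sections supported on the complement of `U`. -/
noncomputable def suppSheaf (F : AlgSp.ModEt X) : AlgSp.ModEt X :=
  subSheaf F (suppSub j F) (isLocal_suppSub j F)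

/-- its inclusion. -/
noncomputable def suppSheafι (F : AlgSp.ModEt X) : suppSheaf j F ⟶ F :=
  subSheafι F (suppSub j F) (isLocal_suppSub j F)

instance (F : AlgSp.ModEt X) : Mono (suppSheafι j F) := by
  unfold suppSheafι
  infer_instance

theorem mem_range_suppSheafι_iff (F : AlgSp.ModEt X) (W : AlgSp.EtOver X)
    (x : F.val.obj (op W)) :
    x ∈ Set.range ((suppSheafι j F).val.app (op W)).hom ↔ x ∈ (suppSub j F).obj (op W) := by
  constructor
  · rintro ⟨y, rfl⟩
    exact (y : (suppSub j F).obj (op W)).2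
  · intro hx
    exact ⟨(⟨x, hx⟩ : (suppSub j F).obj (op W)), rfl⟩

theorem suppSheafι_app_injective (F : AlgSp.ModEt X) (W : AlgSp.EtOver X) :
    Function.Injective ((suppSheafι j F).val.app (op W)).hom := by
  intro x y hxy
  exact Subtype.ext (a1 := (x : (suppSub j F).obj (op W)))
    (a2 := (y : (suppSub j F).obj (op W))) hxy

theorem mem_zeroLocus_iff_le_primeAtPt {W : Scheme.{u}} (I : Ideal Γ(W, ⊤)) (w : W) :
    w ∈ W.zeroLocus (U := ⊤) (I : Set Γ(W, ⊤)) ↔ I ≤ AlgSp.primeAtPt W w := by
  rw [Scheme.mem_zeroLocus_iff]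
  constructor
  · intro h a ha
    have h1 := h a ha
    rw [Scheme.mem_basicOpen_top] at h1
    exact (IsLocalRing.mem_maximalIdeal _).2 h1
  · intro h a ha
    rw [Scheme.mem_basicOpen_top]
    exact (IsLocalRing.mem_maximalIdeal _).1 (h ha)

variable {j}

theorem range_bcπ (hj : AlgSp.RepWith @IsOpenImmersion j) (W : AlgSp.EtOver X) :
    Set.range (AlgSp.EtOver.bcπ hj.1 W).left =
      {w | AlgSp.Points.ofPt W.obj.hom w ∈ Set.range (AlgSp.Points.map j)} :=
  Groth.Agent.Lib.Seat48.EffCartierCompl.range_left_of_isPullback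
    (AlgSp.EtOver.isPullback_bcObj hj.1 W)

theorem isOpen_setOf_inU (hj : AlgSp.RepWith @IsOpenImmersion j) (W : AlgSp.EtOver X) :
    IsOpen {w | AlgSp.Points.ofPt W.obj.hom w ∈ Set.range (AlgSp.Points.map j)} := by
  rw [← range_bcπ hj W]
  have : IsOpenImmersion (AlgSp.EtOver.bcπ hj.1 W).left :=
    hj.2 _ _ _ (AlgSp.EtOver.isPullback_bcObj hj.1 W)
  exact (AlgSp.EtOver.bcπ hj.1 W).left.isOpenEmbedding.isOpen_range

variable (j)

theorem inU_affObj (W : AlgSp.EtOver X) (Z : W.obj.left.left.Opens)
    (hZ : ∀ w ∈ Z, AlgSp.Points.ofPt W.obj.hom w ∈ Set.range (AlgSp.Points.map j)) :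
    InU j (affObj W Z) := by
  intro z
  rw [← ofPt_hom (affHom W Z) z]
  exact hZ _ z.2

variable {j}

/-- sections vanishing on `U` have support in the complement of `U`. -/
theorem zeroLocus_annSect_subset (hj : AlgSp.RepWith @IsOpenImmersion j) (F : AlgSp.ModEt X)
    [F.IsQuasicoherent] (W : AlgSp.EtOver X) [hW : IsAffine W.obj.left.left]
    (s : F.val.obj (op W)) (hs : s ∈ (suppSub j F).obj (op W)) :
    W.obj.left.left.zeroLocus (U := ⊤)
        ((AlgSp.annSect (s : AlgSp.sectModEt F W) : Ideal Γ(W.obj.left.left, ⊤)) :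
          Set Γ(W.obj.left.left, ⊤)) ⊆
      {w | AlgSp.Points.ofPt W.obj.hom w ∈ (Set.range (AlgSp.Points.map j))ᶜ} := by
  intro w hw
  rw [mem_zeroLocus_iff_le_primeAtPt] at hw
  by_contra hcon
  have hw' : AlgSp.Points.ofPt W.obj.hom w ∈ Set.range (AlgSp.Points.map j) := by
    by_contra h
    exact hcon h
  obtain ⟨Z, hZ, hwZ, hZsub⟩ := exists_isAffineOpen_mem_and_subset (x := w)
    (U := (⟨_, isOpen_setOf_inU hj W⟩ : W.obj.left.left.Opens)) hw'
  haveI : IsAffine (affObj W Z).obj.left.left := hZ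
  have h0 := hs (affObj W Z) (affHom W Z) (inU_affObj j W Z (fun w hw => hZsub hw))
  exact map_ne_zero_of_annSect_le F (affHom W Z) s ⟨w, hwZ⟩ hw h0

variable (j)

/-- sections with support in the complement of `U` vanish on `U`. -/
theorem mem_suppSub_of_zeroLocus_subset (F : AlgSp.ModEt X) (W : AlgSp.EtOver X)
    [IsAffine W.obj.left.left] (s : F.val.obj (op W))
    (h : W.obj.left.left.zeroLocus (U := ⊤)
        ((AlgSp.annSect (s : AlgSp.sectModEt F W) : Ideal Γ(W.obj.left.left, ⊤)) :
          Set Γ(W.obj.left.left, ⊤)) ⊆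
      {w | AlgSp.Points.ofPt W.obj.hom w ∈ (Set.range (AlgSp.Points.map j))ᶜ}) :
    s ∈ (suppSub j F).obj (op W) := by
  rw [mem_suppSub_iff]
  intro V g hV
  apply sect_ext_of_affine F V
  intro Z
  rw [map_zero]
  haveI hZ : IsAffine (affObj V Z.1).obj.left.left := Z.2
  have htop : (AlgSp.annSect (s : AlgSp.sectModEt F W)).map
      (affHom V Z.1 ≫ g).hom.left.left.appTop.hom = ⊤ := by
    by_contra hne
    obtain ⟨m, hm, hle⟩ := Ideal.exists_le_maximal _ hne
    haveI := hm.isPrime
    obtain ⟨z, hz⟩ := Groth.Agent.Lib.Seat48.PushWeakAss.exists_point_primeAtPt m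
    have h1 : AlgSp.annSect (s : AlgSp.sectModEt F W) ≤
        AlgSp.primeAtPt W.obj.left.left ((affHom V Z.1 ≫ g).hom.left.left z) := by
      rw [Groth.Agent.Lib.Seat48.PushWeakAss.primeAtPt_map, hz]
      exact Ideal.le_comap_of_map_le hle
    have h2 := h ((mem_zeroLocus_iff_le_primeAtPt _ _).2 h1)
    apply h2
    rw [ofPt_hom (affHom V Z.1 ≫ g) z]
    exact (InU.of_hom j (affHom V Z.1) hV) z
  have h3 := map_annSect_le (affHom V Z.1 ≫ g) s
  rw [htop] at h3
  have h4 : (1 : Γ((affObj V Z.1).obj.left.left, ⊤)) ∈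
      AlgSp.annSect (F.val.map (affHom V Z.1 ≫ g).op s : AlgSp.sectModEt F (affObj V Z.1)) :=
    h3 Submodule.mem_top
  rw [AlgSp.mem_annSect_iff, map_one, one_smul] at h4
  rw [← h4, op_comp, PresheafOfModules.map_comp_apply]

variable {j}

theorem mem_suppSub_iff_of_affine (hj : AlgSp.RepWith @IsOpenImmersion j) (F : AlgSp.ModEt X)
    [F.IsQuasicoherent] (W : AlgSp.EtOver X) [hW : IsAffine W.obj.left.left]
    (s : F.val.obj (op W)) :
    s ∈ (suppSub j F).obj (op W) ↔
      W.obj.left.left.zeroLocus (U := ⊤)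
        ((AlgSp.annSect (s : AlgSp.sectModEt F W) : Ideal Γ(W.obj.left.left, ⊤)) :
          Set Γ(W.obj.left.left, ⊤)) ⊆
      {w | AlgSp.Points.ofPt W.obj.hom w ∈ (Set.range (AlgSp.Points.map j))ᶜ} :=
  ⟨zeroLocus_annSect_subset hj F W s, mem_suppSub_of_zeroLocus_subset j F W s⟩

end Groth.Agent.Lib.Seat48.SuppSub
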