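import Mathlib
import Groth.Agent.Lib.Seat48SuppSub
import Groth.Agent.Lib.Seat48BCAlg11
import Groth.Agent.Lib.Seat44LimChart2
import Groth.Agent.Lib.Helper15QcRep

/-!
# Sections supported on the complement of a quasi-compact open subspace (seat 48)

Namespace `Groth.Agent.Lib.Seat48.SuppSub`.

* `exists_fg_ideal_zeroLocus`: for a quasi-compact open subspace `j : U ⟶ X`, over an affine object
  the inverse image of the complement of `U` is the zero locus of a finitely generated ideal;
* `zeroLocus_annSect_subset_iff_pow`: for a finitely generated ideal `I`, the support of a section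
  lies in the zero locus of `I` iff a power of `I` annihilates the section;
* `hasBCOn_suppSheaf`, `isQuasicoherent_suppSheaf`.
-/

set_option autoImplicit false
set_option linter.style.haveILetI false
set_option linter.unusedSectionVars false
set_option backward.isDefEq.respectTransparency false

universe u

open CategoryTheory CategoryTheory.Limits AlgebraicGeometry Opposite

namespace Groth.Agent.Lib.Seat48.SuppSub

open AlgSp
open Groth.Agent.Lib.Seat48.BCAlg
open Groth.Agent.Lib.Seat48.BCSite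
open Groth.Agent.Lib.Seat48.BCEt
open Groth.Agent.Lib.Seat48.SubSheaf
open Groth.Agent.Lib.Seat48.ModSect
open Groth.Agent.Lib.Seat48.AnnSub
open Groth.Agent.Lib.Seat48.WeakAssChart

attribute [local instance] Groth.Agent.Lib.Seat48.BCSite.commRingSect

variable {S : Scheme.{u}} {X U : AlgSp.Sp S} {j : U ⟶ X}

/-- over an affine object the inverse image of the complement of a quasi-compact open subspace is the
zero locus of a finitely generated ideal. -/
theorem exists_fg_ideal_zeroLocus (hj : AlgSp.RepWith @IsOpenImmersion j)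
    (hqc : AlgSp.IsQuasiCompactMor j) (W : AlgSp.EtOver X) (hW : IsAffine W.obj.left.left) :
    ∃ I : Ideal Γ(W.obj.left.left, ⊤), I.FG ∧
      W.obj.left.left.zeroLocus (U := ⊤) (I : Set Γ(W.obj.left.left, ⊤)) =
        {w | AlgSp.Points.ofPt W.obj.hom w ∈ (Set.range (AlgSp.Points.map j))ᶜ} := by
  have hopen := isOpen_setOf_inU hj W
  have hcomp : IsCompact {w | AlgSp.Points.ofPt W.obj.hom w ∈ Set.range (AlgSp.Points.map j)} := by
    rw [← range_bcπ hj W]
    haveI : CompactSpace (AlgSp.EtOver.bcObj hj.1 W).obj.left.left :=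
      Groth.Agent.Lib.Seat44.LimChart2.compactSpace_of_isQuasiCompactSp_yon
        (hqc (AlgSp.IsAlgSpace.yon_obj W.obj.left)
          (Groth.Agent.Lib.Helper15QcRep.isQuasiCompactSp_yon W.obj.left hW) W.obj.hom _ _
          (AlgSp.EtOver.isPullback_bcObj hj.1 W))
    exact isCompact_range (AlgSp.EtOver.bcπ hj.1 W).left.continuous
  set Vs : Set W.obj.left.left :=
    {w | AlgSp.Points.ofPt W.obj.hom w ∈ Set.range (AlgSp.Points.map j)} with hVs
  have h1 : IsCompact (W.obj.left.left.isoSpec.hom '' Vs) ∧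
      IsOpen (W.obj.left.left.isoSpec.hom '' Vs) :=
    ⟨hcomp.image W.obj.left.left.isoSpec.hom.continuous,
      W.obj.left.left.isoSpec.hom.isOpenEmbedding.isOpenMap _ hopen⟩
  obtain ⟨I, hI, hIV⟩ := PrimeSpectrum.isCompact_isOpen_iff_ideal.1 h1
  refine ⟨I, hI, ?_⟩
  have hbij : Function.Bijective W.obj.left.left.isoSpec.hom :=
    ConcreteCategory.bijective_of_isIso (C := TopCat) W.obj.left.left.isoSpec.hom.base
  have h2 : W.obj.left.left.isoSpec.hom '' (W.obj.left.left.zeroLocus (U := ⊤)
      (I : Set Γ(W.obj.left.left, ⊤))) = W.obj.left.left.isoSpec.hom '' Vsᶜ := by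
    rw [Scheme.isoSpec_image_zeroLocus, Set.image_compl_eq hbij, ← hIV, compl_compl]
  have h3 := hbij.1.image_injective h2
  rw [h3]
  rfl

/-- for a finitely generated ideal, the support of a section lies in its zero locus iff a power of
the ideal annihilates the section. -/
theorem zeroLocus_annSect_subset_iff_pow (F : AlgSp.ModEt X) (W : AlgSp.EtOver X)
    [hW : IsAffine W.obj.left.left] (I : Ideal Γ(W.obj.left.left, ⊤)) (hI : I.FG)
    (s : AlgSp.sectModEt F W) :
    W.obj.left.left.zeroLocus (U := ⊤)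
        ((AlgSp.annSect s : Ideal Γ(W.obj.left.left, ⊤)) : Set Γ(W.obj.left.left, ⊤)) ⊆
      W.obj.left.left.zeroLocus (U := ⊤) (I : Set Γ(W.obj.left.left, ⊤)) ↔
    ∃ n : ℕ, ∀ a ∈ I ^ n, (AlgSp.upΓ W a) • s = 0 := by
  constructor
  · intro h
    have h1 : I ≤ (AlgSp.annSect s).radical := by
      rw [Ideal.radical_eq_sInf]
      refine le_sInf ?_
      rintro p ⟨hp1, hp2⟩
      haveI := hp2
      obtain ⟨w, hw⟩ := Groth.Agent.Lib.Seat48.PushWeakAss.exists_point_primeAtPt p
      have h2 := h ((mem_zeroLocus_iff_le_primeAtPt _ w).2 (hw ▸ hp1))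
      rw [mem_zeroLocus_iff_le_primeAtPt, hw] at h2
      exact h2
    obtain ⟨n, hn⟩ := Ideal.exists_pow_le_of_le_radical_of_fg h1 hI
    exact ⟨n, fun a ha => (AlgSp.mem_annSect_iff s a).1 (hn ha)⟩
  · rintro ⟨n, hn⟩ w hw
    rw [mem_zeroLocus_iff_le_primeAtPt] at hw ⊢
    have h1 : I ^ n ≤ AlgSp.primeAtPt W.obj.left.left w :=
      fun a ha => hw ((AlgSp.mem_annSect_iff s a).2 (hn a ha))
    exact Ideal.IsPrime.le_of_pow_le h1

theorem forall_mem_map_up_pow_iff {F : AlgSp.ModEt X} (W : AlgSp.EtOver X)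
    (I : Ideal Γ(W.obj.left.left, ⊤)) (n : ℕ) (x : AlgSp.sectModEt F W) :
    (∀ b ∈ (I.map (AlgSp.upΓ W)) ^ n, b • x = 0) ↔ ∀ a ∈ I ^ n, (AlgSp.upΓ W a) • x = 0 := by
  constructor
  · intro h a ha
    apply h
    rw [← Ideal.map_pow]
    exact Ideal.mem_map_of_mem _ ha
  · intro h b hb
    rw [← Ideal.map_pow] at hb
    have hsurj : Function.Surjective (AlgSp.upΓ W) := ULift.ringEquiv.symm.surjective
    obtain ⟨a, ha, rfl⟩ := (Ideal.mem_map_iff_of_surjective _ hsurj).1 hb
    exact h a ha

/-- the zero locus of the extension of an ideal is the inverse image of its zero locus. -/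
theorem mem_zeroLocus_map_iff {E E' : AlgSp.EtOver X} (g : E' ⟶ E)
    (I : Ideal Γ(E.obj.left.left, ⊤)) (w' : E'.obj.left.left) :
    w' ∈ E'.obj.left.left.zeroLocus (U := ⊤)
        ((I.map g.hom.left.left.appTop.hom : Ideal Γ(E'.obj.left.left, ⊤)) :
          Set Γ(E'.obj.left.left, ⊤)) ↔
      g.hom.left.left w' ∈ E.obj.left.left.zeroLocus (U := ⊤) (I : Set Γ(E.obj.left.left, ⊤)) := by
  rw [mem_zeroLocus_iff_le_primeAtPt, mem_zeroLocus_iff_le_primeAtPt,
    Groth.Agent.Lib.Seat48.PushWeakAss.primeAtPt_map, Ideal.map_le_iff_le_comap]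

/-- membership in the submodule of sections supported on the complement of `U`, over an affine
object, in terms of an ideal cutting out the complement. -/
theorem mem_range_suppSheafι_iff_pow (hj : AlgSp.RepWith @IsOpenImmersion j) (F : AlgSp.ModEt X)
    [F.IsQuasicoherent] (W : AlgSp.EtOver X) (hW : IsAffine W.obj.left.left)
    (I : Ideal Γ(W.obj.left.left, ⊤)) (hI : I.FG)
    (hIz : W.obj.left.left.zeroLocus (U := ⊤) (I : Set Γ(W.obj.left.left, ⊤)) =
      {w | AlgSp.Points.ofPt W.obj.hom w ∈ (Set.range (AlgSp.Points.map j))ᶜ})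
    (x : F.val.obj (op W)) :
    x ∈ Set.range ((suppSheafι j F).val.app (op W)).hom ↔
      ∃ n : ℕ, ∀ a ∈ I ^ n, (AlgSp.upΓ W a) • (x : AlgSp.sectModEt F W) = 0 := by
  rw [mem_range_suppSheafι_iff, mem_suppSub_iff_of_affine hj F W x, ← hIz]
  exact zeroLocus_annSect_subset_iff_pow F W I hI x

/-- the submodule of sections supported on the complement of a quasi-compact open subspace has base
change along morphisms of affine objects. -/
theorem hasBCOn_suppSheaf (hj : AlgSp.RepWith @IsOpenImmersion j)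
    (hqc : AlgSp.IsQuasiCompactMor j) (F : AlgSp.ModEt X) [F.IsQuasicoherent] :
    HasBCOn (affineData X) (suppSheaf j F).val := by
  intro E E' g hE hE'
  obtain ⟨I, hI, hIz⟩ := exists_fg_ideal_zeroLocus hj hqc E hE
  have hIz' : E'.obj.left.left.zeroLocus (U := ⊤)
      ((I.map g.hom.left.left.appTop.hom : Ideal Γ(E'.obj.left.left, ⊤)) :
        Set Γ(E'.obj.left.left, ⊤)) =
      {w | AlgSp.Points.ofPt E'.obj.hom w ∈ (Set.range (AlgSp.Points.map j))ᶜ} := by
    ext w'
    rw [mem_zeroLocus_map_iff, hIz]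
    change AlgSp.Points.ofPt E.obj.hom (g.hom.left.left w') ∈
      (Set.range (AlgSp.Points.map j))ᶜ ↔ _
    rw [ofPt_hom g w']
    rfl
  have hF := hasBCOn_of_isQuasicoherent F g hE hE'
  have hmap : (I.map (AlgSp.upΓ E)).map ((AlgSp.OEtRing X).obj.map g.op).hom =
      (I.map g.hom.left.left.appTop.hom).map (AlgSp.upΓ E') := by
    rw [Ideal.map_map, Ideal.map_map]
    rfl
  refine IsBC.of_powTorsion ((affineData X).flat g hE hE') (I.map (AlgSp.upΓ E))
    (hI.map _)
    ((suppSheaf j F).val.restrictₛₗ g.op) (F.val.restrictₛₗ g.op)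
    ((suppSheafι j F).val.app (op E)).hom ((suppSheafι j F).val.app (op E')).hom
    (fun k => (PresheafOfModules.naturality_apply (suppSheafι j F).val g.op k).symm)
    (suppSheafι_app_injective j F E) (suppSheafι_app_injective j F E') ?_ ?_ hF
  · intro x
    rw [mem_range_suppSheafι_iff_pow hj F E hE I hI hIz x]
    exact exists_congr (fun n => (forall_mem_map_up_pow_iff E I n x).symm)
  · intro x
    rw [mem_range_suppSheafι_iff_pow hj F E' hE' _ (hI.map _) hIz' x, hmap]
    exact exists_congr (fun n => (forall_mem_map_up_pow_iff E' _ n x).symm)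

theorem isQuasicoherent_suppSheaf (hj : AlgSp.RepWith @IsOpenImmersion j)
    (hqc : AlgSp.IsQuasiCompactMor j) (F : AlgSp.ModEt X) [F.IsQuasicoherent] :
    (suppSheaf j F).IsQuasicoherent :=
  isQuasicoherent_of_hasBCOn _ (hasBCOn_suppSheaf hj hqc F)

end Groth.Agent.Lib.Seat48.SuppSub
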