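import Mathlib
import Groth.Agent.Lib.Seat48StalkEt
import Groth.Agent.Lib.Seat48SuppSub2
import Groth.Agent.Lib.Seat48BCEt3
import Groth.Agent.Lib.Seat48CohSub2

/-!
# Powers of an ideal annihilating a coherent module and its support (seat 48)

Namespace `Groth.Agent.Lib.Seat48.IdealSupp`.
-/

set_option autoImplicit false
set_option linter.style.haveILetI false
set_option linter.unusedSectionVars false
set_option backward.isDefEq.respectTransparency false

universe u

open CategoryTheory CategoryTheory.Limits AlgebraicGeometry Opposite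

namespace Groth.Agent.Lib.Seat48.IdealSupp

open AlgSp
open Groth.Agent.Lib.Seat48.BCAlg
open Groth.Agent.Lib.Seat48.BCSite
open Groth.Agent.Lib.Seat48.BCEt
open Groth.Agent.Lib.Seat48.ModSect
open Groth.Agent.Lib.Seat48.CohEt
open Groth.Agent.Lib.Seat48.SuppSub
open Groth.Agent.Lib.Seat48.AnnSub
open Groth.Agent.Lib.Seat48.StalkEt
open Groth.Agent.Lib.Seat48.WeakAssChart
open Groth.Agent.Lib.Helper9.SpPoint

attribute [local instance] Groth.Agent.Lib.Seat48.BCSite.commRingSect

variable {S : Scheme.{u}}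

section Sp

variable {X : AlgSp.Sp S}

/-- the points of an affine object lying in the closed subspace cut out by an ideal sheaf are the
points of the zero locus of the ideal. -/
theorem mem_range_map_iff_mem_zeroLocus {Z : AlgSp.Sp S} {i : Z ⟶ X} (I : AlgSp.IdealEt X)
    (hZ : AlgSp.IsCutOutBy I i) (E : AlgSp.EtOver X) (hE : IsAffine E.obj.left.left)
    (w : E.obj.left.left) :
    AlgSp.Points.ofPt E.obj.hom w ∈ Set.range (AlgSp.Points.map i) ↔
      w ∈ E.obj.left.left.zeroLocus (U := ⊤) (I.ideal E hE : Set Γ(E.obj.left.left, ⊤)) := by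
  obtain ⟨hi, rfl⟩ := hZ
  have hr := Groth.Agent.Lib.Seat48.EffCartierCompl.range_left_of_isPullback
    (AlgSp.EtOver.isPullback_bcObj hi.1 E)
  have hmem : AlgSp.Points.ofPt E.obj.hom w ∈ Set.range (AlgSp.Points.map i) ↔
      w ∈ Set.range (AlgSp.EtOver.bcπ hi.1 E).left := by
    rw [hr]
    rfl
  rw [hmem]
  haveI : IsClosedImmersion (AlgSp.EtOver.bcπ hi.1 E).left :=
    hi.2 _ _ _ (AlgSp.EtOver.isPullback_bcObj hi.1 E)
  have h1 : Set.range (AlgSp.EtOver.bcπ hi.1 E).left =
      ((AlgSp.EtOver.bcπ hi.1 E).left.ker.support : Set E.obj.left.left) := by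
    rw [Scheme.Hom.support_ker,
      (AlgSp.EtOver.bcπ hi.1 E).left.isClosedEmbedding.isClosed_range.closure_eq]
  rw [h1]
  have h2 := Scheme.IdealSheafData.mem_support_iff_of_mem
    (I := (AlgSp.EtOver.bcπ hi.1 E).left.ker) (x := w)
    (U := ⟨⊤, isAffineOpen_top E.obj.left.left⟩) trivial
  rw [Scheme.Hom.ker_apply] at h2
  exact h2

/-- a section over an affine object vanishes on the affine opens missing its support. -/
theorem map_eq_zero_of_disjoint_zeroLocus (F : AlgSp.ModEt X) (W : AlgSp.EtOver X)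
    [IsAffine W.obj.left.left] (s : F.val.obj (op W)) (Z : W.obj.left.left.Opens)
    (hZ : IsAffineOpen Z)
    (hdisj : ∀ z ∈ Z, z ∉ W.obj.left.left.zeroLocus (U := ⊤)
      ((AlgSp.annSect (s : AlgSp.sectModEt F W) : Ideal Γ(W.obj.left.left, ⊤)) :
        Set Γ(W.obj.left.left, ⊤))) :
    F.val.map (affHom W Z).op s = 0 := by
  haveI : IsAffine (affObj W Z).obj.left.left := hZ
  have htop : (AlgSp.annSect (s : AlgSp.sectModEt F W)).map
      (affHom W Z).hom.left.left.appTop.hom = ⊤ := by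
    by_contra hne
    obtain ⟨m, hm, hle⟩ := Ideal.exists_le_maximal _ hne
    haveI := hm.isPrime
    obtain ⟨z, hz⟩ := Groth.Agent.Lib.Seat48.PushWeakAss.exists_point_primeAtPt m
    have h1 : AlgSp.annSect (s : AlgSp.sectModEt F W) ≤
        AlgSp.primeAtPt W.obj.left.left ((affHom W Z).hom.left.left z) := by
      rw [Groth.Agent.Lib.Seat48.PushWeakAss.primeAtPt_map, hz]
      exact Ideal.le_comap_of_map_le hle
    exact hdisj _ z.2 ((mem_zeroLocus_iff_le_primeAtPt _ _).2 h1)
  have h3 := map_annSect_le (affHom W Z) s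
  rw [htop] at h3
  have h4 : (1 : Γ((affObj W Z).obj.left.left, ⊤)) ∈
      AlgSp.annSect (F.val.map (affHom W Z).op s : AlgSp.sectModEt F (affObj W Z)) :=
    h3 Submodule.mem_top
  rw [AlgSp.mem_annSect_iff, map_one, one_smul] at h4
  exact h4

end Sp

variable (X : AlgSp.Space S)

/-- a section of a quasi-coherent module whose germ at a geometric point vanishes does not have the
point in its support. -/
theorem not_mem_zeroLocus_annSect_of_germ_eq_zero (F : AlgSp.ModEt X.obj) [F.IsQuasicoherent]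
    (V : AlgSp.EtOver X.obj) [IsAffine V.obj.left.left] (s : F.val.obj (op V))
    (p : AlgSp.FieldPt X.obj) (hp : p.IsGeometric) (l : (AlgSp.FieldPt.liftsTo p).obj V)
    (hg : germ X F p l s = 0) :
    l.1.left (default : Spec (CommRingCat.of p.K)) ∉ V.obj.left.left.zeroLocus (U := ⊤)
      ((AlgSp.annSect (s : AlgSp.sectModEt F V) : Ideal Γ(V.obj.left.left, ⊤)) :
        Set Γ(V.obj.left.left, ⊤)) := by
  intro hv
  obtain ⟨V', φ, y', hy', h0⟩ := (germ_eq_zero_iff' X F p hp l s).1 hg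
  obtain ⟨V₁', hV₁', -, y'', hy''⟩ := exists_affine_nbhd X p hp y' ⊤ trivial
  haveI : IsAffine (affObj V' V₁').obj.left.left := hV₁'
  have hpt : (affHom V' V₁' ≫ φ).hom.left.left
      (y''.1.left (default : Spec (CommRingCat.of p.K))) =
      l.1.left (default : Spec (CommRingCat.of p.K)) := by
    have h5 : (AlgSp.FieldPt.liftsTo p).map (affHom V' V₁' ≫ φ) y'' = l := by
      rw [Functor.map_comp_apply, hy'', hy']
    exact congrArg (fun t : (AlgSp.FieldPt.liftsTo p).obj V =>
      t.1.left (default : Spec (CommRingCat.of p.K))) h5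
  have hne := map_ne_zero_of_annSect_le F (affHom V' V₁' ≫ φ) s
    (y''.1.left (default : Spec (CommRingCat.of p.K))) (by
      rw [hpt]
      exact (mem_zeroLocus_iff_le_primeAtPt _ _).1 hv)
  apply hne
  rw [← map_map_eq' F.val (rfl : affHom V' V₁' ≫ φ = affHom V' V₁' ≫ φ) s, h0, map_zero]

/-- if a power of the ideal annihilates the module, the stalks outside the closed subspace
vanish. -/
theorem isZero_stalk_of_pow_le (M : AlgSp.ModEt X.obj) (I : AlgSp.IdealEt X.obj)
    {Z : AlgSp.Sp S} (i : Z ⟶ X.obj) (hZ : AlgSp.IsCutOutBy I i) (n : ℕ)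
    (hn : ∀ (E : AlgSp.EtOver X.obj) (hE : IsAffine E.obj.left.left) (s : AlgSp.sectModEt M E),
      (I ^ n).ideal E hE ≤ AlgSp.annSect s)
    (x : AlgSp.FieldPt X.obj) (hx : x.IsGeometric)
    (hxZ : AlgSp.Points.mk x ∉ Set.range (AlgSp.Points.map i)) :
    IsZero (AlgSp.stalkEt x ((AlgSp.toAbEt X.obj).obj M)) := by
  apply isZero_stalk_of_germ X M x hx
  intro W l σ
  rw [germ_eq_zero_iff' X M x hx]
  obtain ⟨W₁, hW₁, -, y, hy⟩ := exists_affine_nbhd X x hx l ⊤ trivial
  haveI : IsAffine (affObj W W₁).obj.left.left := hW₁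
  have hw : y.1.left (default : Spec (CommRingCat.of x.K)) ∉
      (affObj W W₁).obj.left.left.zeroLocus (U := ⊤)
        (I.ideal (affObj W W₁) hW₁ : Set Γ((affObj W W₁).obj.left.left, ⊤)) := by
    rw [← mem_range_map_iff_mem_zeroLocus I hZ, ofPt_lift x (affObj W W₁) y default]
    exact hxZ
  let O : (affObj W W₁).obj.left.left.Opens :=
    ⟨((affObj W W₁).obj.left.left.zeroLocus (U := ⊤)
        (I.ideal (affObj W W₁) hW₁ : Set Γ((affObj W W₁).obj.left.left, ⊤)))ᶜ,
      (Scheme.zeroLocus_isClosed _ _).isOpen_compl⟩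
  obtain ⟨Z₁, hZ₁, hle, y', hy'⟩ := exists_affine_nbhd X x hx y O hw
  refine ⟨affObj (affObj W W₁) Z₁, affHom (affObj W W₁) Z₁ ≫ affHom W W₁, y', ?_, ?_⟩
  · rw [Functor.map_comp_apply, hy', hy]
  · rw [← map_map_eq' M.val (rfl : affHom (affObj W W₁) Z₁ ≫ affHom W W₁ = _) σ]
    apply map_eq_zero_of_disjoint_zeroLocus M (affObj W W₁) _ Z₁ hZ₁
    intro z hz hzz
    apply hle hz
    rw [mem_zeroLocus_iff_le_primeAtPt] at hzz ⊢
    have h1 := (hn (affObj W W₁) hW₁ (M.val.map (affHom W W₁).op σ)).trans hzz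
    exact Ideal.IsPrime.le_of_pow_le h1

/-- if the stalks of a coherent module on a Noetherian space vanish outside the closed subspace cut
out by a quasi-coherent ideal, a power of the ideal annihilates the module. -/
theorem exists_pow_le_of_isZero_stalk (hqc : AlgSp.IsQuasiCompactSp X.obj)
    (hN : AlgSp.IsLocNoethSp X.obj) (M : AlgSp.ModEt X.obj) [M.IsFinitePresentation]
    (I : AlgSp.IdealEt X.obj) (hI : I.IsQCoh) {Z : AlgSp.Sp S} (i : Z ⟶ X.obj)
    (hZ : AlgSp.IsCutOutBy I i)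
    (hst : ∀ x : AlgSp.FieldPt X.obj, x.IsGeometric →
      AlgSp.Points.mk x ∉ Set.range (AlgSp.Points.map i) →
        IsZero (AlgSp.stalkEt x ((AlgSp.toAbEt X.obj).obj M))) :
    ∃ n : ℕ, ∀ (E : AlgSp.EtOver X.obj) (hE : IsAffine E.obj.left.left)
      (s : AlgSp.sectModEt M E), (I ^ n).ideal E hE ≤ AlgSp.annSect s := by
  classical
  haveI : M.IsQuasicoherent := inferInstance
  have hM := hasBCOn_of_isQuasicoherent M
  obtain ⟨E₀, hE₀, hsurj⟩ := Groth.Agent.Lib.Seat48.CohSub.exists_affine_chart hqc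
  haveI : IsAffine E₀.obj.left.left := hE₀
  haveI : IsNoetherianRing Γ(E₀.obj.left.left, ⊤) :=
    Groth.Agent.Lib.Seat48.PushWeakAss.isNoetherianRing_of_isLocNoethSp hN E₀
  have hfg : (I.ideal E₀ hE₀).FG := IsNoetherian.noetherian _
  have hsec : ∀ s : M.val.obj (op E₀), ∃ n : ℕ, ∀ a ∈ (I.ideal E₀ hE₀) ^ n,
      (AlgSp.upΓ E₀ a) • (s : AlgSp.sectModEt M E₀) = 0 := by
    intro s
    rw [← zeroLocus_annSect_subset_iff_pow M E₀ (I.ideal E₀ hE₀) hfg s]
    intro w hw
    by_contra hnot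
    obtain ⟨p, hp, l', hl'⟩ := exists_geometric_lift E₀ w
    have hmk : AlgSp.Points.mk p ∉ Set.range (AlgSp.Points.map i) := by
      rw [← ofPt_lift p E₀ l' default, hl', mem_range_map_iff_mem_zeroLocus I hZ E₀ hE₀ w]
      exact hnot
    have hg := germ_eq_zero_of_isZero X M p (hst p hp hmk) l' s
    have h1 := not_mem_zeroLocus_annSect_of_germ_eq_zero X M E₀ s p hp l' hg
    rw [hl'] at h1
    exact h1 hw
  choose nn hnn using hsec
  haveI := finite_sections M hM E₀ hE₀
  obtain ⟨gens, hgens⟩ := (Module.Finite.fg_top :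
    (⊤ : Submodule ((AlgSp.OEtRing X.obj).obj.obj (op E₀)) (M.val.obj (op E₀))).FG)
  refine ⟨gens.sup nn, ?_⟩
  have hE₀kill : ∀ a ∈ (I.ideal E₀ hE₀) ^ (gens.sup nn), ∀ s : M.val.obj (op E₀),
      (AlgSp.upΓ E₀ a) • s = 0 := by
    intro a ha s
    have hle : Submodule.span ((AlgSp.OEtRing X.obj).obj.obj (op E₀))
        (gens : Set (M.val.obj (op E₀))) ≤
        LinearMap.ker (LinearMap.lsmul ((AlgSp.OEtRing X.obj).obj.obj (op E₀))
          (M.val.obj (op E₀)) (AlgSp.upΓ E₀ a)) := by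
      rw [Submodule.span_le]
      intro g hg
      exact hnn g a (Ideal.pow_le_pow_right (Finset.le_sup hg) ha)
    rw [hgens] at hle
    exact hle (Submodule.mem_top (x := s))
  have hWkill : ∀ (W : AlgSp.EtOver X.obj) (hW : IsAffine W.obj.left.left) (b : W ⟶ E₀),
      ∀ a' ∈ (I.ideal W hW) ^ (gens.sup nn), ∀ t : M.val.obj (op W),
        (AlgSp.upΓ W a') • t = 0 := by
    intro W hW b a' ha' t
    let 𝔞 : Ideal Γ(W.obj.left.left, ⊤) :=
      (Module.annihilator ((AlgSp.OEtRing X.obj).obj.obj (op W)) (M.val.obj (op W))).comap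
        (AlgSp.upΓ W)
    have h1 : ((I.ideal E₀ hE₀) ^ (gens.sup nn)).map b.hom.left.left.appTop.hom ≤ 𝔞 := by
      rw [Ideal.map_le_iff_le_comap]
      intro c hc
      change AlgSp.upΓ W (b.hom.left.left.appTop.hom c) ∈ Module.annihilator _ _
      rw [Module.mem_annihilator]
      intro t
      have hspan := (hM b hE₀ hW).span_range
      have hle : Submodule.span ((AlgSp.OEtRing X.obj).obj.obj (op W))
          (Set.range (M.val.restrictₛₗ b.op)) ≤
          LinearMap.ker (LinearMap.lsmul ((AlgSp.OEtRing X.obj).obj.obj (op W))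
            (M.val.obj (op W)) (AlgSp.upΓ W (b.hom.left.left.appTop.hom c))) := by
        rw [Submodule.span_le]
        rintro _ ⟨m, rfl⟩
        change (AlgSp.upΓ W (b.hom.left.left.appTop.hom c)) • M.val.map b.op m = 0
        have h2 := PresheafOfModules.map_smul M.val b.op (AlgSp.upΓ E₀ c) m
        rw [hE₀kill c hc m, map_zero] at h2
        rw [← ringMap_upΓ]
        exact h2.symm
      rw [hspan] at hle
      exact hle (Submodule.mem_top (x := t))
    have h2 : (I.ideal W hW) ^ (gens.sup nn) ≤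
        ((I.ideal E₀ hE₀) ^ (gens.sup nn)).map b.hom.left.left.appTop.hom := by
      rw [Ideal.map_pow]
      exact Ideal.pow_right_mono (hI b hE₀ hW) _
    have h3 : a' ∈ 𝔞 := h1 (h2 ha')
    exact Module.mem_annihilator.1 h3 t
  intro E hE s a ha
  rw [AlgSp.mem_annSect_iff]
  have hcov := sieveOf_mem_of_jointly_surjective (fun _ : Fin 1 => E₀)
    (fun x => by obtain ⟨e, he⟩ := hsurj x; exact ⟨0, e, he⟩) E
  have hsep := Presheaf.IsSheaf.isSeparated M.isSheaf
  refine hsep E _ hcov _ 0 ?_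
  rintro Y f ⟨W, g, k, ⟨hW, -, ⟨b⟩⟩, rfl⟩
  have e : ∀ x : M.val.obj (op E), M.val.presheaf.map (g ≫ k).op x =
      M.val.map g.op (M.val.map k.op x) := by
    intro x
    rw [op_comp, Functor.map_comp]
    rfl
  rw [e, e, map_zero, map_zero]
  have h5 := PresheafOfModules.map_smul M.val k.op (AlgSp.upΓ E a) s
  rw [h5, ringMap_upΓ]
  have h6 : k.hom.left.left.appTop.hom a ∈ (I.ideal W hW) ^ (gens.sup nn) :=
    (I ^ (gens.sup nn)).map_le k hE hW (Ideal.mem_map_of_mem _ ha)
  rw [hWkill W hW b _ h6, map_zero]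

end Groth.Agent.Lib.Seat48.IdealSupp
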